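import Mathlib
import Groth.Agent.Lib.Lead.BCU1

/-!
# Base change to a polynomial ring: coefficient maps, and the Rees submodule as the image of the base change along the Rees algebra (helper4)
-/

set_option backward.isDefEq.respectTransparency.types false
set_option synthInstance.maxHeartbeats 400000
set_option autoImplicit false
set_option linter.unusedSectionVars false
set_option linter.style.haveILetI false
set_option linter.unusedSimpArgs false
universe u v w
open Polynomial
open Groth.Agent.Lead.BCU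

namespace Groth.Agent.Lib.Helper4.ReesAlg1

section Basic
variable {A A' A'' : Type u} [CommRing A] [CommRing A'] [CommRing A''] (φ : A →+* A') (ψ : A' →+* A'')
  {M N P : Type u} [AddCommGroup M] [Module A M] [AddCommGroup N] [Module A' N]
  [AddCommGroup P] [Module A'' P]

variable {φ ψ}

theorem isBC_map_add {l : M → N} (h : IsBC φ l) (m m' : M) : l (m + m') = l m + l m' := by
  obtain ⟨l', hl', -⟩ := h
  rw [← hl', ← hl', ← hl', map_add]

theorem isBC_map_zero {l : M → N} (h : IsBC φ l) : l 0 = 0 := by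
  obtain ⟨l', hl', -⟩ := h
  rw [← hl', map_zero]

theorem isBC_map_smul {l : M → N} (h : IsBC φ l) (a : A) (m : M) : l (a • m) = φ a • l m := by
  letI := φ.toAlgebra
  letI : Module A N := Module.compHom N φ
  obtain ⟨l', hl', -⟩ := h
  rw [← hl', ← hl']
  exact l'.map_smul a m

/-- the additive map underlying a base change -/
def isBC_addHom {l : M → N} (h : IsBC φ l) : M →+ N where
  toFun := l
  map_zero' := isBC_map_zero h
  map_add' := isBC_map_add h

theorem isBC_induction {l : M → N} (h : IsBC φ l) (motive : N → Prop) (zero : motive 0)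
    (tmul : ∀ m : M, motive (l m)) (smul : ∀ (s : A') (n), motive n → motive (s • n))
    (add : ∀ n₁ n₂, motive n₁ → motive n₂ → motive (n₁ + n₂)) (x : N) : motive x := by
  letI := φ.toAlgebra
  letI : Module A N := Module.compHom N φ
  haveI : IsScalarTower A A' N := ⟨fun a a' n => by
    change (φ a * a') • n = φ a • a' • n
    exact mul_smul _ _ _⟩
  obtain ⟨l', hl', hb⟩ := h
  exact hb.inductionOn x motive zero (fun m => by rw [hl']; exact tmul m) smul add

theorem isBC_comp {l : M → N} {k : N → P} (h1 : IsBC φ l) (h2 : IsBC ψ k) :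
    IsBC (ψ.comp φ) (k ∘ l) := by
  letI : Algebra A A' := φ.toAlgebra
  letI : Algebra A' A'' := ψ.toAlgebra
  letI : Algebra A A'' := (ψ.comp φ).toAlgebra
  haveI : IsScalarTower A A' A'' := IsScalarTower.of_algebraMap_eq' rfl
  letI : Module A N := Module.compHom N φ
  haveI : IsScalarTower A A' N := ⟨fun a a' n => by
    change (φ a * a') • n = φ a • a' • n
    exact mul_smul _ _ _⟩
  letI : Module A' P := Module.compHom P ψ
  haveI : IsScalarTower A' A'' P := ⟨fun a a' n => by
    change (ψ a * a') • n = ψ a • a' • n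
    exact mul_smul _ _ _⟩
  letI : Module A P := Module.compHom P (ψ.comp φ)
  haveI : IsScalarTower A A'' P := ⟨fun a a' n => by
    change ((ψ.comp φ) a * a') • n = (ψ.comp φ) a • a' • n
    exact mul_smul _ _ _⟩
  haveI : IsScalarTower A A' P := ⟨fun a a' n => by
    change ψ (φ a * a') • n = (ψ.comp φ) a • ψ a' • n
    rw [map_mul, mul_smul]
    rfl⟩
  obtain ⟨l', hl', hb1⟩ := h1
  obtain ⟨k', hk', hb2⟩ := h2
  refine ⟨(k'.restrictScalars A).comp l', fun m => ?_, hb1.comp hb2⟩
  change k' (l' m) = k (l m)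
  rw [hl', hk']

end Basic

section Poly
variable {R Rt : Type u} [CommRing R] [CommRing Rt] (ρ : R →+* Rt) (t : Rt)
variable {M T : Type u} [AddCommGroup M] [Module R M] [AddCommGroup T] [Module Rt T]
  (u : M → T) (hu : IsBC ρ u)

/-- polynomial expansions in `t` with coefficients in the image of `u` -/
noncomputable def Psi : (ℕ →₀ M) →+ T :=
  Finsupp.liftAddHom (fun k => (DistribSMul.toAddMonoidHom T (t ^ k)).comp (isBC_addHom hu))

theorem Psi_single (k : ℕ) (m : M) : Psi ρ t u hu (Finsupp.single k m) = t ^ k • u m := by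
  unfold Psi
  rw [Finsupp.liftAddHom_apply_single]
  rfl

theorem smul_Psi_mem (hgen : Subring.closure (Set.range ρ ∪ {t}) = ⊤) (s : Rt) :
    ∀ w ∈ (Psi ρ t u hu).range, s • w ∈ (Psi ρ t u hu).range := by
  let S : Subring Rt :=
    { carrier := {s | ∀ w ∈ (Psi ρ t u hu).range, s • w ∈ (Psi ρ t u hu).range}
      mul_mem' := fun {a b} ha hb w hw => by rw [mul_smul]; exact ha _ (hb w hw)
      one_mem' := fun w hw => by rw [one_smul]; exact hw
      add_mem' := fun {a b} ha hb w hw => by
        rw [add_smul]; exact (Psi ρ t u hu).range.add_mem (ha w hw) (hb w hw)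
      zero_mem' := fun w hw => by rw [zero_smul]; exact (Psi ρ t u hu).range.zero_mem
      neg_mem' := fun {a} ha w hw => by
        rw [neg_smul]; exact (Psi ρ t u hu).range.neg_mem (ha w hw) }
  have key : ∀ (s : Rt), (∀ k m, s • (t ^ k • u m) ∈ (Psi ρ t u hu).range) → s ∈ S := by
    intro s hs w hw
    obtain ⟨f, rfl⟩ := hw
    induction f using Finsupp.induction_linear with
    | zero => rw [map_zero, smul_zero]; exact (Psi ρ t u hu).range.zero_mem
    | add f g hf hg => rw [map_add, smul_add]; exact (Psi ρ t u hu).range.add_mem hf hg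
    | single k m => rw [Psi_single]; exact hs k m
  have hS : Subring.closure (Set.range ρ ∪ {t}) ≤ S := by
    rw [Subring.closure_le]
    rintro s (⟨r, rfl⟩ | rfl)
    · apply key
      intro k m
      refine ⟨Finsupp.single k (r • m), ?_⟩
      rw [Psi_single, isBC_map_smul hu, smul_comm]
    · apply key
      intro k m
      refine ⟨Finsupp.single (k + 1) m, ?_⟩
      rw [Psi_single, pow_succ', mul_smul]
  have : s ∈ S := hS (by rw [hgen]; trivial)
  exact this

theorem Psi_surjective (hgen : Subring.closure (Set.range ρ ∪ {t}) = ⊤) :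
    Function.Surjective (Psi ρ t u hu) := by
  intro w
  have : w ∈ (Psi ρ t u hu).range := by
    refine isBC_induction hu (fun w => w ∈ (Psi ρ t u hu).range) ?_ ?_ ?_ ?_ w
    · exact (Psi ρ t u hu).range.zero_mem
    · intro m
      exact ⟨Finsupp.single 0 m, by rw [Psi_single, pow_zero, one_smul]⟩
    · intro s n hn
      exact smul_Psi_mem ρ t u hu hgen s n hn
    · intro a b ha hb
      exact (Psi ρ t u hu).range.add_mem ha hb
  exact this

variable (ε : Rt →+* R[X])

/-- the coefficient map of a base change to a polynomial ring -/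
structure IsCoeff (Φ : T →+ PolynomialModule R M) : Prop where
  unit : ∀ m, Φ (u m) = PolynomialModule.single R 0 m
  smul : ∀ (s : Rt) w, Φ (s • w) = ε s • Φ w

include hu in
theorem exists_Phi (hε1 : ∀ r, ε (ρ r) = C r) :
    ∃ Φ : T →+ PolynomialModule R M, IsCoeff u ε Φ := by
  letI : Algebra R Rt := ρ.toAlgebra
  letI : Module R T := Module.compHom T ρ
  haveI : IsScalarTower R Rt T := ⟨fun a a' n => by
    change (ρ a * a') • n = ρ a • a' • n
    exact mul_smul _ _ _⟩
  letI : Module Rt (PolynomialModule R M) := Module.compHom _ ε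
  haveI : IsScalarTower R Rt (PolynomialModule R M) := ⟨fun r s q => by
    change ε (ρ r * s) • q = r • (ε s • q)
    rw [map_mul, hε1, mul_smul, Polynomial.C_eq_algebraMap, IsScalarTower.algebraMap_smul]⟩
  obtain ⟨l', hl', hb⟩ := hu
  refine ⟨(hb.lift (PolynomialModule.lsingle R 0)).toAddMonoidHom, ⟨fun m => ?_, fun s w => ?_⟩⟩
  · rw [← hl']
    exact hb.lift_eq _ m
  · exact (hb.lift (PolynomialModule.lsingle R 0)).map_smul s w

variable {ε} {Φ : T →+ PolynomialModule R M} (hΦ : IsCoeff u ε Φ)
include hΦ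

theorem Phi_Psi (hε2 : ε t = X) (f : ℕ →₀ M) :
    Φ (Psi ρ t u hu f) = PolynomialModule.ofCoeff R f := by
  induction f using Finsupp.induction_linear with
  | zero => simp
  | add f g hf hg => rw [map_add, map_add, hf, hg, PolynomialModule.ofCoeff_add]
  | single k m =>
    rw [Psi_single, hΦ.smul, hΦ.unit, map_pow, hε2, Polynomial.X_pow_eq_monomial,
      PolynomialModule.monomial_smul_single, add_zero, one_smul]
    rfl

theorem Psi_coeff_Phi (hgen : Subring.closure (Set.range ρ ∪ {t}) = ⊤) (hε2 : ε t = X) (w : T) :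
    Psi ρ t u hu (Φ w).coeff = w := by
  obtain ⟨f, rfl⟩ := Psi_surjective ρ t u hu hgen w
  rw [Phi_Psi ρ t u hu hΦ hε2]

include hu in
theorem Phi_injective (hgen : Subring.closure (Set.range ρ ∪ {t}) = ⊤) (hε2 : ε t = X) :
    Function.Injective Φ := by
  intro w w' h
  rw [← Psi_coeff_Phi ρ t u hu hΦ hgen hε2 w, ← Psi_coeff_Phi ρ t u hu hΦ hgen hε2 w', h]

end Poly

section Rees
variable {A R RB Rt : Type u} [CommRing A] [CommRing R] [CommRing RB] [CommRing Rt] (I : Ideal A)
variable (α : A →+* R) (ρB : R →+* RB) (η : RB →+* Rt) (βB : reesAlgebra I →+* RB)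
  (βt : A[X] →+* Rt)
variable {M G T : Type u} [AddCommGroup M] [Module R M] [AddCommGroup G] [Module RB G]
  [AddCommGroup T] [Module Rt T]

/-- `I^k M` as a submodule over the bigger ring -/
def IM (M : Type u) [AddCommGroup M] [Module R M] (k : ℕ) : Submodule R M :=
  Submodule.span R {x | ∃ a ∈ I ^ k, ∃ m : M, x = α a • m}

theorem IM_zero : IM I α M 0 = ⊤ := by
  rw [eq_top_iff]
  intro m _
  exact Submodule.subset_span ⟨1, by simp, m, by simp⟩

theorem smul_mem_IM {i j : ℕ} {a : A} (ha : a ∈ I ^ i) {x : M} (hx : x ∈ IM I α M j) :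
    α a • x ∈ IM I α M (i + j) := by
  unfold IM at hx
  induction hx using Submodule.span_induction with
  | mem x hx =>
    obtain ⟨a', ha', m, rfl⟩ := hx
    refine Submodule.subset_span ⟨a * a', ?_, m, ?_⟩
    · rw [pow_add]; exact Ideal.mul_mem_mul ha ha'
    · rw [map_mul, mul_smul]
  | zero => rw [smul_zero]; exact Submodule.zero_mem _
  | add x y _ _ hx hy => rw [smul_add]; exact Submodule.add_mem _ hx hy
  | smul r x _ hx => rw [smul_comm]; exact Submodule.smul_mem _ r hx

variable (hc1 : ∀ a, ρB (α a) = βB (algebraMap A (reesAlgebra I) a))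
  (hc2 : ∀ b : reesAlgebra I, η (βB b) = βt b.1)
include hc1 hc2

theorem βt_C (a : A) : βt (C a) = η (ρB (α a)) := by
  rw [hc1, hc2]
  rfl

theorem hgen_of (gent : Subring.closure (Set.range (η.comp ρB) ∪ Set.range βt) = ⊤) :
    Subring.closure (Set.range (η.comp ρB) ∪ {βt X}) = ⊤ := by
  rw [eq_top_iff, ← gent, Subring.closure_le]
  rintro s (⟨r, rfl⟩ | ⟨f, rfl⟩)
  · exact Subring.subset_closure (Or.inl ⟨r, rfl⟩)
  · induction f using Polynomial.induction_on with
    | C a =>
      rw [βt_C I α ρB η βB βt hc1 hc2]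
      exact Subring.subset_closure (Or.inl ⟨α a, rfl⟩)
    | add p q hp hq => rw [map_add]; exact Subring.add_mem _ hp hq
    | monomial n a h =>
      rw [pow_succ, ← mul_assoc, map_mul]
      exact Subring.mul_mem _ h (Subring.subset_closure (Or.inr rfl))

variable (ε : Rt →+* R[X]) (hε1 : ∀ r, ε (η (ρB r)) = C r) (hε2 : ∀ f, ε (βt f) = f.map α)
variable (v : M → G) (hv : IsBC ρB v) (u' : G → T) (hu' : IsBC η u')
variable {Φ : T →+ PolynomialModule R M} (hΦ : IsCoeff (u' ∘ v) ε Φ)
include hε1 hε2 hv hu' hΦ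

theorem coeff_mem_of_range (genB : Subring.closure (Set.range ρB ∪ Set.range βB) = ⊤) (g : G) (n : ℕ) :
    (Φ (u' g)).coeff n ∈ IM I α M n := by
  classical
  -- the Rees subgroup
  let Rs : AddSubgroup T :=
    { carrier := {w | ∀ n, (Φ w).coeff n ∈ IM I α M n}
      add_mem' := fun {a b} ha hb n => by
        rw [map_add, PolynomialModule.coeff_add, Finsupp.add_apply]
        exact Submodule.add_mem _ (ha n) (hb n)
      zero_mem' := fun n => by
        rw [map_zero, PolynomialModule.coeff_zero, Finsupp.zero_apply]; exact Submodule.zero_mem _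
      neg_mem' := fun {a} ha n => by
        rw [map_neg]
        change (-(Φ a).coeff) n ∈ _
        rw [Finsupp.neg_apply]
        exact Submodule.neg_mem _ (ha n) }
  -- stability under the ring RB
  let S : Subring RB :=
    { carrier := {s | ∀ w ∈ Rs, η s • w ∈ Rs}
      mul_mem' := fun {a b} ha hb w hw => by rw [map_mul, mul_smul]; exact ha _ (hb w hw)
      one_mem' := fun w hw => by rw [map_one, one_smul]; exact hw
      add_mem' := fun {a b} ha hb w hw => by
        rw [map_add, add_smul]; exact Rs.add_mem (ha w hw) (hb w hw)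
      zero_mem' := fun w hw => by rw [map_zero, zero_smul]; exact Rs.zero_mem
      neg_mem' := fun {a} ha w hw => by
        rw [map_neg, neg_smul]; exact Rs.neg_mem (ha w hw) }
  have hS : Subring.closure (Set.range ρB ∪ Set.range βB) ≤ S := by
    rw [Subring.closure_le]
    rintro s (⟨r, rfl⟩ | ⟨b, rfl⟩)
    · intro w hw n
      rw [hΦ.smul, hε1, ← Polynomial.monomial_zero_left, PolynomialModule.monomial_smul_apply]
      simp only [zero_le, if_true, Nat.sub_zero]
      exact Submodule.smul_mem _ r (hw n)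
    · intro w hw n
      rw [hΦ.smul, hc2, hε2, PolynomialModule.smul_apply]
      refine Submodule.sum_mem _ fun x hx => ?_
      have hx' : x.1 + x.2 = n := Finset.HasAntidiagonal.mem_antidiagonal.1 hx
      rw [Polynomial.coeff_map, ← hx']
      exact smul_mem_IM I α ((mem_reesAlgebra_iff I b.1).1 b.2 x.1) (hw x.2)
  have hall : ∀ (s : RB), ∀ w ∈ Rs, η s • w ∈ Rs := fun s => hS (by rw [genB]; trivial)
  have : u' g ∈ Rs := by
    refine isBC_induction hv (fun x => u' x ∈ Rs) ?_ ?_ ?_ ?_ g
    · rw [isBC_map_zero hu']; exact Rs.zero_mem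
    · intro m n
      have := hΦ.unit m
      change Φ (u' (v m)) = _ at this
      rw [this, PolynomialModule.coeff_single, Finsupp.single_apply]
      split_ifs with h
      · subst h; rw [IM_zero]; trivial
      · exact Submodule.zero_mem _
    · intro s x hx
      rw [isBC_map_smul hu']
      exact hall s _ hx
    · intro a b ha hb
      rw [isBC_map_add hu']
      exact Rs.add_mem ha hb
  exact this n

omit hε1 hε2 hΦ in
theorem pow_smul_mem_range (k : ℕ) (m : M) (hm : m ∈ IM I α M k) :
    (βt X) ^ k • u' (v m) ∈ Set.range u' := by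
  unfold IM at hm
  induction hm using Submodule.span_induction with
  | mem x hx =>
    obtain ⟨a, ha, m', rfl⟩ := hx
    refine ⟨βB ⟨monomial k a, reesAlgebra.monomial_mem.2 ha⟩ • v m', ?_⟩
    rw [isBC_map_smul hu', hc2, isBC_map_smul hv, isBC_map_smul hu']
    change βt (monomial k a) • u' (v m') = _
    rw [← Polynomial.C_mul_X_pow_eq_monomial, map_mul, map_pow, βt_C I α ρB η βB βt hc1 hc2,
      mul_comm, mul_smul]
  | zero =>
    refine ⟨0, ?_⟩
    rw [isBC_map_zero hu', isBC_map_zero hv, isBC_map_zero hu', smul_zero]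
  | add x y _ _ hx hy =>
    obtain ⟨g1, h1⟩ := hx
    obtain ⟨g2, h2⟩ := hy
    refine ⟨g1 + g2, ?_⟩
    rw [isBC_map_add hu', h1, h2, isBC_map_add hv, isBC_map_add hu', smul_add]
  | smul r x _ hx =>
    obtain ⟨g1, h1⟩ := hx
    refine ⟨ρB r • g1, ?_⟩
    rw [isBC_map_smul hu', h1, isBC_map_smul hv, isBC_map_smul hu', smul_comm]

theorem mem_range_of_coeff (gent : Subring.closure (Set.range (η.comp ρB) ∪ Set.range βt) = ⊤)
    (w : T) (hw : ∀ n, (Φ w).coeff n ∈ IM I α M n) : w ∈ Set.range u' := by
  have hu := isBC_comp hv hu'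
  have hgen := hgen_of I α ρB η βB βt hc1 hc2 gent
  have hεX : ε (βt X) = X := by rw [hε2, Polynomial.map_X]
  have h1 := Psi_coeff_Phi (η.comp ρB) (βt X) (u' ∘ v) hu hΦ hgen hεX w
  rw [← h1]
  set f := (Φ w).coeff with hf
  have h2 : Psi (η.comp ρB) (βt X) (u' ∘ v) hu f =
      f.sum (fun k m => Psi (η.comp ρB) (βt X) (u' ∘ v) hu (Finsupp.single k m)) := by
    conv_lhs => rw [← Finsupp.sum_single f]
    exact map_finsuppSum _ _ _
  rw [h2]
  have hR : ∀ x ∈ Set.range u', x ∈ (isBC_addHom hu').range := fun x hx => hx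
  change f.sum _ ∈ (isBC_addHom hu').range
  refine AddSubgroup.sum_mem _ fun k _ => ?_
  change Psi (η.comp ρB) (βt X) (u' ∘ v) hu (Finsupp.single k (f k)) ∈ _
  rw [Psi_single]
  exact hR _ (pow_smul_mem_range I α ρB η βB βt hc1 hc2 v hv u' hu' k (f k) (hw k))

end Rees

end Groth.Agent.Lib.Helper4.ReesAlg1
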