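import Mathlib
import Groth.Agent.Lib.Lead.BCU4
import Groth.Agent.Lib.Helper4.ReesAlg1
import Groth.Agent.Lib.Helper1.QcCech
import Groth.Agent.Lib.Helper1.Dv5
import Groth.Agent.Lib.Helper1.SchNoeth
import Groth.Prelude.Def_CohB1

/-!
# Modules killed by an ideal sheaf are direct images from the closed subscheme; coherent modules are killed by a power of the ideal of their support (helper4)
-/

set_option backward.isDefEq.respectTransparency.types false
set_option synthInstance.maxHeartbeats 400000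
set_option autoImplicit false
set_option linter.unusedSectionVars false
set_option linter.style.haveILetI false
set_option linter.unusedSimpArgs false
universe u v w
open CategoryTheory
open CategoryTheory.Limits
open AlgebraicGeometry
open TopologicalSpace
open Opposite
open TensorProduct
open Groth.Agent.Lead.BCU
open Groth.Agent.Lib.Helper4.ReesAlg1

namespace Groth.Agent.Lib.Helper4.ClTr2

section Alg
variable {R R' : Type u} [CommRing R] [CommRing R'] (φ : R →+* R') (hφ : Function.Surjective φ)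
  {M N : Type u} [AddCommGroup M] [Module R M] [AddCommGroup N] [Module R' N]

include hφ in
theorem bijective_of_isBC (l : M → N) (hl : IsBC φ l)
    (hk : ∀ r, φ r = 0 → ∀ m : M, r • m = 0) : Function.Bijective l := by
  have hk2 : ∀ r₁ r₂, φ r₁ = φ r₂ → ∀ m : M, r₁ • m = r₂ • m := by
    intro r₁ r₂ h m
    have := hk (r₁ - r₂) (by rw [map_sub, h, sub_self]) m
    rwa [sub_smul, sub_eq_zero] at this
  constructor
  · -- injectivity
    letI := φ.toAlgebra
    letI : Module R N := Module.compHom N φ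
    haveI : IsScalarTower R R' N := ⟨fun a a' n => by
      change (φ a * a') • n = φ a • a' • n
      exact mul_smul _ _ _⟩
    obtain ⟨l', hl', hb⟩ := hl
    let g₂ : R' →ₗ[R] M →ₗ[R] M := LinearMap.mk₂ R (fun r' m => Function.surjInv hφ r' • m)
      (fun r₁ r₂ m => by
        rw [← add_smul]
        exact hk2 _ _ (by rw [map_add, Function.surjInv_eq hφ, Function.surjInv_eq hφ, Function.surjInv_eq hφ]) m)
      (fun c r m => by
        rw [← mul_smul]
        refine hk2 _ _ ?_ m
        rw [map_mul, Function.surjInv_eq hφ, Function.surjInv_eq hφ]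
        rfl)
      (fun r m₁ m₂ => smul_add _ _ _)
      (fun c r m => smul_comm _ _ _)
    let g : R' ⊗[R] M →ₗ[R] M := TensorProduct.lift g₂
    have hg : ∀ m : M, g ((1 : R') ⊗ₜ[R] m) = m := by
      intro m
      change Function.surjInv hφ (1 : R') • m = m
      have := hk2 (Function.surjInv hφ (1 : R')) 1 (by rw [Function.surjInv_eq hφ, map_one]) m
      rw [this, one_smul]
    intro m₁ m₂ h
    have h1 : l' m₁ = l' m₂ := by rw [hl', hl', h]
    have h2 : (1 : R') ⊗ₜ[R] m₁ = (1 : R') ⊗ₜ[R] m₂ := by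
      apply hb.equiv.injective
      rw [IsBaseChange.equiv_tmul, IsBaseChange.equiv_tmul, one_smul, one_smul, h1]
    rw [← hg m₁, ← hg m₂, h2]
  · -- surjectivity
    intro n
    refine isBC_induction hl (fun n => ∃ m, l m = n) ⟨0, isBC_map_zero hl⟩ (fun m => ⟨m, rfl⟩) ?_ ?_ n
    · rintro s _ ⟨m, rfl⟩
      obtain ⟨r, rfl⟩ := hφ s
      exact ⟨r • m, isBC_map_smul hl r m⟩
    · rintro _ _ ⟨m₁, rfl⟩ ⟨m₂, rfl⟩
      exact ⟨m₁ + m₂, isBC_map_add hl m₁ m₂⟩

end Alg


section Geom
variable {X : Scheme.{u}} (J : X.IdealSheafData) (F : X.Modules) [F.IsQuasicoherent]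

theorem unit_app_eq_unitRes (V : X.Opens) (m : Γ(F, V)) :
    unitRes J.subschemeι F (le_refl (J.subschemeι ⁻¹ᵁ V)) m =
      ((Scheme.Modules.pullbackPushforwardAdjunction J.subschemeι).unit.app F).app V m := by
  unfold unitRes
  exact Groth.Agent.Helper1.QcCech.res_self _ _ _

theorem unit_app_bijective {V : X.Opens} (hV : IsAffineOpen V)
    (hk : ∀ a ∈ J.ideal ⟨V, hV⟩, ∀ m : Γ(F, V), a • m = 0) :
    Function.Bijective (((Scheme.Modules.pullbackPushforwardAdjunction J.subschemeι).unit.app F).app V) := by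
  have hV' : IsAffineOpen (J.subschemeι ⁻¹ᵁ V) := hV.preimage J.subschemeι
  have h1 := isBC_unitRes J.subschemeι F hV hV' (le_refl _)
  have e : (J.subschemeι.appLE V (J.subschemeι ⁻¹ᵁ V) (le_refl _)) = J.subschemeι.app V :=
    (Scheme.Hom.app_eq_appLE _).symm
  have hs : Function.Surjective (J.subschemeι.appLE V (J.subschemeι ⁻¹ᵁ V) (le_refl _)).hom := by
    rw [e]; exact J.subschemeι_app_surjective ⟨V, hV⟩
  have h2 := bijective_of_isBC _ hs _ h1 (fun r hr m => hk r (by
    have : r ∈ RingHom.ker (J.subschemeι.app V).hom := by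
      rw [RingHom.mem_ker, ← e]; exact hr
    rwa [J.ker_subschemeι_app ⟨V, hV⟩] at this) m)
  have h3 : (unitRes J.subschemeι F (le_refl (J.subschemeι ⁻¹ᵁ V))) =
      fun m => ((Scheme.Modules.pullbackPushforwardAdjunction J.subschemeι).unit.app F).app V m :=
    funext (unit_app_eq_unitRes J F V)
  rw [h3] at h2
  exact h2

/-- a quasi-coherent module killed (locally on a basis) by an ideal sheaf is the direct image of its
pullback to the closed subscheme -/
theorem isIso_unit
    (hk : ∀ (U : X.Opens) (x : X), x ∈ U → ∃ (V : X.Opens) (hV : IsAffineOpen V), V ≤ U ∧ x ∈ V ∧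
      ∀ a ∈ J.ideal ⟨V, hV⟩, ∀ m : Γ(F, V), a • m = 0) :
    IsIso ((Scheme.Modules.pullbackPushforwardAdjunction J.subschemeι).unit.app F) := by
  apply isIso_of_bijective_nhds
  intro U x hx
  obtain ⟨V, hV, hVU, hxV, hkV⟩ := hk U x hx
  exact ⟨V, hVU, hxV, unit_app_bijective J F hV hkV⟩

end Geom


section Kill
variable {X : Scheme.{u}} (F : X.Modules)

theorem eq_zero_of_disjoint_support (W : X.Opens) (hW : ∀ x ∈ W, x ∉ CohB1.support F) (t : Γ(F, W)) :
    t = 0 := by
  apply TopCat.Presheaf.section_ext ⟨F.presheaf, F.isSheaf⟩ W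
  intro x hx
  have : Subsingleton (F.presheaf.stalk x) := not_not.1 (hW x hx)
  exact Subsingleton.elim _ _

open Groth.Agent.Helper1 in
/-- killing passes to basic opens -/
theorem kill_basicOpen [F.IsQuasicoherent] (J : X.IdealSheafData) {U : X.Opens} (hU : IsAffineOpen U)
    (hk : ∀ a ∈ J.ideal ⟨U, hU⟩, ∀ m : Γ(F, U), a • m = 0) (g : Γ(X, U)) :
    ∀ a ∈ J.ideal (X.affineBasicOpen (U := ⟨U, hU⟩) g),
      ∀ m : Γ(F, (X.affineBasicOpen (U := ⟨U, hU⟩) g).1), a • m = 0 := by
  intro a ha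
  rw [← J.map_ideal_basicOpen ⟨U, hU⟩ g] at ha
  have hle : Ideal.map (X.presheaf.map (homOfLE (X.basicOpen_le g)).op).hom (J.ideal ⟨U, hU⟩) ≤
      Module.annihilator Γ(X, X.basicOpen g) Γ(F, X.basicOpen g) := by
    rw [Ideal.map_le_iff_le_comap]
    intro b hb
    rw [Ideal.mem_comap, Module.mem_annihilator]
    intro m
    obtain ⟨n, t, ht⟩ := QcCech.extend_aux F hU g (X.basicOpen g) rfl m
    have hu : IsUnit (QcCech.resR (X.basicOpen_le g) g) := RingedSpace.isUnit_res_basicOpen _ g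
    obtain ⟨u, hu'⟩ := hu.pow n
    have hm : m = (↑u⁻¹ : Γ(X, X.basicOpen g)) • QcCech.res F (X.basicOpen_le g) t := by
      rw [ht, ← hu', ← mul_smul, Units.inv_mul, one_smul]
    change QcCech.resR (X.basicOpen_le g) b • m = 0
    rw [hm, smul_comm, ← QcCech.res_smul, hk b hb t, map_zero, smul_zero]
  exact fun m => Module.mem_annihilator.1 (hle ha) m

open Groth.Agent.Helper1 in
/-- a coherent module on a noetherian scheme is killed, on a basis of affine opens, by a power of the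
ideal of its support -/
theorem exists_pow_kill [IsLocallyNoetherian X] [CompactSpace X] (hF : Coh.IsCoh F)
    (hZ : IsClosed (CohB1.support F)) :
    ∃ c : ℕ, ∀ (U : X.Opens) (x : X), x ∈ U → ∃ (V : X.Opens) (hV : IsAffineOpen V), V ≤ U ∧ x ∈ V ∧
      ∀ a ∈ ((Scheme.IdealSheafData.vanishingIdeal ⟨CohB1.support F, hZ⟩) ^ (c + 1)).ideal ⟨V, hV⟩,
        ∀ m : Γ(F, V), a • m = 0 := by
  haveI : F.IsQuasicoherent := hF.1
  set I := Scheme.IdealSheafData.vanishingIdeal ⟨CohB1.support F, hZ⟩ with hI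
  obtain ⟨ι, hfin, W, hW⟩ := SchNoeth.exists_finite_affine_cover X
  obtain ⟨n, ⟨e⟩⟩ := Finite.exists_equiv_fin ι
  have hsupp : (I.support : Set X) = CohB1.support F :=
    Scheme.IdealSheafData.coe_support_vanishingIdeal ⟨CohB1.support F, hZ⟩
  have hvan : ∀ (V : X.Opens) (hV : IsAffineOpen V) (a : Γ(X, V)), a ∈ I.ideal ⟨V, hV⟩ →
      ∀ t : Γ(F, X.basicOpen a), (𝟙 F : F ⟶ F).app _ t = 0 := by
    intro V hV a ha t
    have hle := Dv.basicOpen_le_compl_support I hV a ha ⟨(CohB1.support F)ᶜ, hZ.isOpen_compl⟩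
      (by rw [hsupp]; rfl)
    have : t = 0 := eq_zero_of_disjoint_support F _ (fun x hx => hle hx) t
    rw [this, map_zero]
  obtain ⟨c, hc⟩ := Dv.exists_pow_kill_hom hF (𝟙 F) I hvan (fun k => (W (e.symm k)).1)
    (fun k => (W (e.symm k)).2)
  refine ⟨c, fun U x hx => ?_⟩
  have hxtop : x ∈ (⨆ i, (W i).1 : X.Opens) := by rw [hW]; trivial
  obtain ⟨j, hj⟩ := Opens.mem_iSup.1 hxtop
  obtain ⟨g, hgU, hxg⟩ := (W j).2.exists_basicOpen_le ⟨x, hx⟩ hj
  have hkW : ∀ a ∈ (I ^ (c + 1)).ideal ⟨(W j).1, (W j).2⟩, ∀ m : Γ(F, (W j).1), a • m = 0 := by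
    intro a ha m
    have hj' : W (e.symm (e j)) = W j := by rw [Equiv.symm_apply_apply]
    have h1 := hc (e j)
    rw [Scheme.IdealSheafData.ideal_pow] at ha
    have key : ∀ (W' : X.affineOpens) (hW' : W' = W j),
        (I.ideal ⟨W'.1, W'.2⟩) ^ c • (⊤ : Submodule Γ(X, W'.1) Γ(F, W'.1)) ≤
          LinearMap.ker (CohACC.appL (𝟙 F) W'.1) →
        ∀ a ∈ (I.ideal ⟨(W j).1, (W j).2⟩) ^ (c + 1), ∀ m : Γ(F, (W j).1), a • m = 0 := by
      intro W' hW' h a ha m
      subst hW'
      have h2 : a • m ∈ (I.ideal ⟨(W j).1, (W j).2⟩) ^ c •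
          (⊤ : Submodule Γ(X, (W j).1) Γ(F, (W j).1)) :=
        Submodule.smul_mem_smul (Ideal.pow_le_pow_right (Nat.le_succ c) ha) Submodule.mem_top
      exact h h2
    exact key (W (e.symm (e j))) hj' h1 a ha m
  refine ⟨X.basicOpen g, (X.affineBasicOpen (U := W j) g).2, hgU, hxg, ?_⟩
  exact kill_basicOpen F (I ^ (c + 1)) (W j).2 hkW g

end Kill

end Groth.Agent.Lib.Helper4.ClTr2
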