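import Mathlib
import Groth.Prelude.Def_ega3
import Groth.Agent.Lib.Helper9.KosLim.Zero
import Groth.Agent.Lib.Helper9.KosLim.LES

/-!
# Koszul direct limits: functoriality of koszulMap, vanishing on torsion modules (helper4)
-/

set_option backward.isDefEq.respectTransparency.types false
set_option synthInstance.maxHeartbeats 400000
set_option autoImplicit false
set_option linter.unusedSectionVars false
set_option linter.style.haveILetI false
set_option linter.unusedSimpArgs false
universe u v w
open CategoryTheory CategoryTheory.Limits CochainComplex CohIII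

namespace Groth.Agent.Lib.Helper4.KLC1
open Groth.Agent.Helper8.KoszulLib Groth.Agent.Helper9.KosLim

variable {A : Type u} [CommRing A]

theorem koszulMap_id (M : ModuleCat.{u} A) (l : List A) : koszulMap (𝟙 M) l = 𝟙 _ := by
  induction l with
  | nil => exact CategoryTheory.Functor.map_id _ _
  | cons f l ih =>
    show mappingCone.map _ _ (koszulMap (𝟙 M) l) (koszulMap (𝟙 M) l) _ = 𝟙 _
    rw [map_congr _ _ _ ih ih]
    exact mappingCone.map_id _

theorem koszulMap_comp {M N P : ModuleCat.{u} A} (g : M ⟶ N) (h : N ⟶ P) (l : List A) :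
    koszulMap (g ≫ h) l = koszulMap g l ≫ koszulMap h l := by
  induction l with
  | nil => exact CategoryTheory.Functor.map_comp _ _ _
  | cons f l ih =>
    show mappingCone.map _ _ (koszulMap (g ≫ h) l) (koszulMap (g ≫ h) l) _ =
      mappingCone.map _ _ (koszulMap g l) (koszulMap g l) _ ≫
        mappingCone.map _ _ (koszulMap h l) (koszulMap h l) _
    rw [← mappingCone.map_comp]
    exact map_congr _ _ _ ih ih

theorem koszulMap_add {M N : ModuleCat.{u} A} (g h : M ⟶ N) (l : List A) :
    koszulMap (g + h) l = koszulMap g l + koszulMap h l := by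
  induction l with
  | nil => exact Functor.map_add _
  | cons f l ih =>
    apply HomologicalComplex.hom_ext
    intro n
    apply ModuleCat.hom_ext
    apply LinearMap.ext
    intro z
    show ((mappingCone.map (f • 𝟙 (koszulCx M l)) (f • 𝟙 (koszulCx N l)) (koszulMap (g + h) l)
      (koszulMap (g + h) l) _).f n).hom z =
      ((mappingCone.map (f • 𝟙 (koszulCx M l)) (f • 𝟙 (koszulCx N l)) (koszulMap g l)
      (koszulMap g l) _).f n).hom z +
      ((mappingCone.map (f • 𝟙 (koszulCx M l)) (f • 𝟙 (koszulCx N l)) (koszulMap h l)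
      (koszulMap h l) _).f n).hom z
    apply ext_elem (f • 𝟙 (koszulCx N l)) n
    · rw [map_add, fstE_map, fstE_map, fstE_map, ih]
      rfl
    · rw [map_add, sndE_map, sndE_map, sndE_map, ih]
      rfl

theorem koszulMap_zero (M N : ModuleCat.{u} A) (l : List A) :
    koszulMap (0 : M ⟶ N) l = 0 := by
  have h := koszulMap_add (0 : M ⟶ N) 0 l
  rw [add_zero] at h
  exact left_eq_add.mp h

theorem koszulMap_sum {M N : ModuleCat.{u} A} {ι : Type*} (s : Finset ι) (g : ι → (M ⟶ N))
    (l : List A) : koszulMap (∑ i ∈ s, g i) l = ∑ i ∈ s, koszulMap (g i) l := by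
  classical
  induction s using Finset.induction_on with
  | empty => simp [koszulMap_zero]
  | insert a s ha ih => rw [Finset.sum_insert ha, Finset.sum_insert ha, koszulMap_add, ih]


/-- every element is killed by a power of each member of the list -/
def IsTors (fs : List A) (T : ModuleCat.{u} A) : Prop :=
  ∀ t : T, ∀ f ∈ fs, ∃ n : ℕ, f ^ n • t = 0

theorem single_pow_smul (T : ModuleCat.{u} A) (f : A) (hT : ∀ t : T, ∃ n : ℕ, f ^ n • t = 0)
    (q : ℤ) (w : ((HomologicalComplex.single (ModuleCat.{u} A) (ComplexShape.up ℤ) 0).obj T).X q) :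
    ∃ k : ℕ, f ^ k • w = 0 := by
  by_cases hq : q = 0
  · subst hq
    let e := (HomologicalComplex.singleObjXSelf (ComplexShape.up ℤ) (0 : ℤ) T)
    obtain ⟨k, hk⟩ := hT (e.hom.hom w)
    refine ⟨k, ?_⟩
    have hinj : Function.Injective e.hom.hom :=
      (ModuleCat.mono_iff_injective e.hom).mp inferInstance
    apply hinj
    rw [map_smul, hk, map_zero]
  · have hz : IsZero (((HomologicalComplex.single (ModuleCat.{u} A) (ComplexShape.up ℤ) 0).obj T).X q) :=
      HomologicalComplex.isZero_single_obj_X _ _ _ _ hq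
    haveI := ModuleCat.subsingleton_of_isZero hz
    exact ⟨0, Subsingleton.elim _ _⟩

theorem cone_pow_smul {K L : CochainComplex (ModuleCat.{u} A) ℤ} (φ : K ⟶ L) (f : A) (q : ℤ)
    (w : (mappingCone φ).X q) (k1 k2 : ℕ) (h1 : f ^ k1 • fstE φ q w = 0)
    (h2 : f ^ k2 • sndE φ q w = 0) : f ^ (k1 + k2) • w = 0 := by
  apply ext_elem φ q
  · rw [map_smul, map_zero, pow_add, mul_comm, mul_smul, h1, smul_zero]
  · rw [map_smul, map_zero, pow_add, mul_smul, h2, smul_zero]

theorem exists_pow_smul_eq_zero (T : ModuleCat.{u} A) (f : A) (hT : ∀ t : T, ∃ n : ℕ, f ^ n • t = 0) :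
    ∀ (l : List A) (q : ℤ) (w : (koszulCx T l).X q), ∃ k : ℕ, f ^ k • w = 0 := by
  intro l
  induction l with
  | nil =>
    intro q w
    exact single_pow_smul T f hT q w
  | cons g l ih =>
    intro q w
    obtain ⟨k1, hk1⟩ := ih (q + 1) (fstE (g • 𝟙 (koszulCx T l)) q w)
    obtain ⟨k2, hk2⟩ := ih q (sndE (g • 𝟙 (koszulCx T l)) q w)
    exact ⟨k1 + k2, cone_pow_smul (g • 𝟙 (koszulCx T l)) f q w k1 k2 hk1 hk2⟩

theorem exists_trans_eq_zero (T : ModuleCat.{u} A) : ∀ (fs : List A), IsTors fs T →
    ∀ (q : ℤ), 0 < q + fs.length → ∀ (n : ℕ) (z : (koszulCx T (fs.map (· ^ n))).X q),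
    ∃ m : ℕ, n ≤ m ∧ ∀ (m' : ℕ) (h : n ≤ m'), m ≤ m' →
      ((koszulTrans T n m' h fs).f q).hom z = 0 := by
  intro fs
  induction fs with
  | nil =>
    intro _ q hq n z
    have hq0 : q ≠ 0 := by simp at hq; omega
    have hz : IsZero ((koszulCx T ([].map (· ^ n))).X q) :=
      HomologicalComplex.isZero_single_obj_X _ _ _ _ hq0
    haveI := ModuleCat.subsingleton_of_isZero hz
    refine ⟨n, le_rfl, fun m' h _ => ?_⟩
    rw [Subsingleton.elim z 0, map_zero]
  | cons f fs ih =>
    intro hT q hq n z
    have hT' : IsTors fs T := fun t g hg => hT t g (List.mem_cons_of_mem _ hg)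
    have hTf : ∀ t : T, ∃ k : ℕ, f ^ k • t = 0 := fun t => hT t f List.mem_cons_self
    change (mappingCone (f ^ n • 𝟙 (koszulCx T (fs.map (· ^ n))))).X q at z
    have hq' : 0 < q + 1 + fs.length := by
      rw [List.length_cons] at hq; push_cast at hq; omega
    obtain ⟨ma, hma, hma'⟩ := ih hT' (q + 1) hq' n (fstE _ q z)
    obtain ⟨k, hk⟩ := exists_pow_smul_eq_zero T f hTf (fs.map (· ^ n)) q (sndE _ q z)
    refine ⟨max ma (n + k), le_max_of_le_left hma, fun m' h hm' => ?_⟩
    show ((mappingCone.map (f ^ n • 𝟙 (koszulCx T (fs.map (· ^ n))))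
      (f ^ m' • 𝟙 (koszulCx T (fs.map (· ^ m')))) (koszulTrans T n m' h fs)
      (f ^ (m' - n) • koszulTrans T n m' h fs) _).f q).hom z = 0
    apply ext_elem (f ^ m' • 𝟙 (koszulCx T (fs.map (· ^ m')))) q
    · rw [fstE_map, map_zero]
      exact hma' m' h (le_trans (le_max_left _ _) hm')
    · rw [sndE_map, map_zero]
      have hk' : n + k ≤ m' := le_trans (le_max_right _ _) hm'
      have e : m' - n = (m' - n - k) + k := by omega
      show f ^ (m' - n) • ((koszulTrans T n m' h fs).f q).hom (sndE _ q z) = 0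
      rw [← map_smul, e, pow_add, mul_smul, hk, smul_zero, map_zero]

/-- the Koszul direct limit of a torsion module vanishes above the bottom degree -/
theorem subsingleton_TL_of_isTors (fs : List A) (T : ModuleCat.{u} A) (hT : IsTors fs T)
    (q : ℤ) (hq : 0 < q + fs.length) : Subsingleton (TL fs T q) := by
  apply dl_subsingleton_of_forall
  intro n x
  obtain ⟨c, rfl⟩ : ∃ c, ((koszulCx T (fs.map (· ^ n))).homologyπ q).hom c = x :=
    (ModuleCat.epi_iff_surjective _).mp inferInstance x
  obtain ⟨m, hm, hm'⟩ := exists_trans_eq_zero T fs hT q hq n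
    (((koszulCx T (fs.map (· ^ n))).iCycles q).hom c)
  refine ⟨m, hm, ?_⟩
  have h1 := HomologicalComplex.homologyπ_naturality (koszulTrans T n m hm fs) q
  have h2 := HomologicalComplex.cyclesMap_i (koszulTrans T n m hm fs) q
  have h3 : (HomologicalComplex.cyclesMap (koszulTrans T n m hm fs) q).hom c = 0 := by
    have hinj : Function.Injective ((koszulCx T (fs.map (· ^ m))).iCycles q).hom :=
      (ModuleCat.mono_iff_injective _).mp inferInstance
    apply hinj
    rw [map_zero]
    have := congrArg (fun g => g.hom c) h2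
    simp only [ModuleCat.hom_comp, LinearMap.comp_apply] at this
    rw [this]
    exact hm' m hm le_rfl
  have := congrArg (fun g => g.hom c) h1
  simp only [ModuleCat.hom_comp, LinearMap.comp_apply] at this
  show (HomologicalComplex.homologyMap (koszulTrans T n m hm fs) q).hom _ = 0
  rw [this, h3, map_zero]

end Groth.Agent.Lib.Helper4.KLC1
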