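import Mathlib
import Groth.Prelude.Def_ega3
import Groth.Agent.Lib.Helper9.KosLim.Zero
import Groth.Agent.Lib.Helper9.KosLim.LES
import Groth.Agent.Lib.Helper4.KLC1

/-!
# Koszul direct limits vanish on finite products of modules on which a member of the sequence acts bijectively (helper4)
-/

set_option backward.isDefEq.respectTransparency.types false
set_option synthInstance.maxHeartbeats 400000
set_option autoImplicit false
set_option linter.unusedSectionVars false
set_option linter.style.haveILetI false
set_option linter.unusedSimpArgs false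
universe u v w
open CategoryTheory CategoryTheory.Limits CochainComplex CohIII

namespace Groth.Agent.Lib.Helper4.KLC2
open Groth.Agent.Helper8.KoszulLib Groth.Agent.Helper9.KosLim Groth.Agent.Lib.Helper4.KLC1

variable {A : Type u} [CommRing A]

section Prod
variable {ι : Type} [Fintype ι] [DecidableEq ι] (P : ι → ModuleCat.{u} A)

/-- the product module -/
abbrev PP : ModuleCat.{u} A := ModuleCat.of A (∀ i, P i)

/-- the `i`-th idempotent -/
noncomputable def idem (i : ι) : PP P ⟶ PP P :=
  ModuleCat.ofHom ((LinearMap.single A (fun i => P i) i).comp (LinearMap.proj i))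

theorem sum_idem : ∑ i, idem P i = 𝟙 (PP P) := by
  apply ModuleCat.hom_ext
  apply LinearMap.ext
  intro x
  funext j
  simp only [idem, ModuleCat.hom_sum, ModuleCat.hom_ofHom, LinearMap.coe_sum, Finset.sum_apply,
    LinearMap.comp_apply, LinearMap.proj_apply, LinearMap.single_apply, ModuleCat.hom_id,
    LinearMap.id_coe, id_eq]
  rw [Finset.sum_eq_single j]
  · simp
  · intro b _ hb
    simp [Pi.single_apply, hb.symm]
  · intro hj
    exact absurd (Finset.mem_univ j) hj

variable (fs : List A) (g : ι → A) (hg : ∀ i, g i ∈ fs)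
  (hbij : ∀ i n, Function.Bijective (fun x : P i => g i ^ n • x))

/-- inverse of `g i ^ n` on the `i`-th factor, extended by zero -/
noncomputable def vmap (i : ι) (n : ℕ) : PP P ⟶ PP P :=
  ModuleCat.ofHom ((LinearMap.single A (fun i => P i) i).comp
    (((LinearEquiv.ofBijective (LinearMap.lsmul A (P i) (g i ^ n)) (hbij i n)).symm.toLinearMap).comp
      (LinearMap.proj i)))

theorem idem_eq (i : ι) (n : ℕ) :
    idem P i = (idem P i ≫ (g i ^ n • 𝟙 (PP P))) ≫ vmap P g hbij i n := by
  apply ModuleCat.hom_ext
  apply LinearMap.ext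
  intro x
  funext j
  simp only [idem, vmap, ModuleCat.hom_comp, ModuleCat.hom_ofHom, LinearMap.comp_apply,
    LinearMap.proj_apply, LinearMap.single_apply]
  congr 1
  rw [smul_id_hom]
  simp only [Pi.smul_apply, Pi.single_eq_same]
  exact ((LinearEquiv.ofBijective (LinearMap.lsmul A (P i) (g i ^ n)) (hbij i n)).symm_apply_apply
    (x i)).symm

include hg hbij in
theorem subsingleton_Hq_prod (q : ℤ) (n : ℕ) : Subsingleton (Hq fs (PP P) q n) := by
  refine ⟨fun x y => ?_⟩
  suffices h : ∀ x : Hq fs (PP P) q n, x = 0 by rw [h x, h y]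
  intro x
  have h1 : x = ∑ i, (HomologicalComplex.homologyMap (koszulMap (idem P i) (fs.map (· ^ n))) q).hom x := by
    have h2 : (HomologicalComplex.homologyMap (koszulMap (∑ i, idem P i) (fs.map (· ^ n))) q).hom x = x := by
      rw [sum_idem, koszulMap_id, HomologicalComplex.homologyMap_id]
      rfl
    rw [koszulMap_sum] at h2
    have h3 : HomologicalComplex.homologyMap (∑ i, koszulMap (idem P i) (fs.map (· ^ n))) q =
        ∑ i, HomologicalComplex.homologyMap (koszulMap (idem P i) (fs.map (· ^ n))) q :=
      (HomologicalComplex.homologyFunctor (ModuleCat.{u} A) (ComplexShape.up ℤ) q).map_sum _ _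
    rw [h3, ModuleCat.hom_sum, LinearMap.sum_apply] at h2
    exact h2.symm
  rw [h1]
  refine Finset.sum_eq_zero (fun i _ => ?_)
  have ha : g i ^ n ∈ Ideal.span {x | x ∈ fs.map (· ^ n)} :=
    Ideal.subset_span (List.mem_map.mpr ⟨g i, hg i, rfl⟩)
  have h4 := smul_homology_eq_zero (PP P) (fs.map (· ^ n)) (g i ^ n) ha q
    ((HomologicalComplex.homologyMap (koszulMap (idem P i) (fs.map (· ^ n))) q).hom x)
  have h5 : koszulMap (idem P i) (fs.map (· ^ n)) =
      (koszulMap (idem P i) (fs.map (· ^ n)) ≫ (g i ^ n • 𝟙 _)) ≫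
        koszulMap (vmap P g hbij i n) (fs.map (· ^ n)) := by
    conv_lhs => rw [idem_eq P g hbij i n]
    rw [koszulMap_comp, koszulMap_comp, koszulMap_smul_id]
  rw [h5, HomologicalComplex.homologyMap_comp, HomologicalComplex.homologyMap_comp,
    homologyMap_smul_id]
  simp only [ModuleCat.hom_comp, LinearMap.comp_apply]
  rw [smul_id_hom, h4, map_zero]

include hg hbij in
theorem subsingleton_TL_prod (q : ℤ) : Subsingleton (TL fs (PP P) q) := by
  apply dl_subsingleton_of_forall
  intro n x
  haveI := subsingleton_Hq_prod P fs g hg hbij q n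
  haveI := subsingleton_Hq_prod P fs g hg hbij q (n + 1)
  exact ⟨n + 1, Nat.le_succ n, Subsingleton.elim _ _⟩

end Prod
end Groth.Agent.Lib.Helper4.KLC2
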