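import Mathlib
import Groth.Prelude.Def_ega3
import Groth.Agent.Lib.Helper9.KosLim.Zero
import Groth.Agent.Lib.Helper9.KosLim.LES
import Groth.Agent.Lib.Helper4.KLC1
import Groth.Agent.Lib.Helper4.KLC2

/-!
# Koszul direct limits: kernel and cokernel of a map to a 'sheafy' module (diagram chase) (helper4)
-/

set_option backward.isDefEq.respectTransparency.types false
set_option synthInstance.maxHeartbeats 400000
set_option autoImplicit false
set_option linter.unusedSectionVars false
set_option linter.style.haveILetI false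
set_option linter.unusedSimpArgs false
universe u v w
open CategoryTheory CategoryTheory.Limits CochainComplex CohIII

namespace Groth.Agent.Lib.Helper4.KLC3
open Groth.Agent.Helper8.KoszulLib Groth.Agent.Helper9.KosLim Groth.Agent.Lib.Helper4.KLC1
open Groth.Agent.Lib.Helper4.KLC2

variable {A : Type u} [CommRing A]

section basic
variable (fs : List A) (q : ℤ) (hq : q + fs.length = 0)

include hq in
/-- a torsion-free module has vanishing bottom Koszul limit -/
theorem subsingleton_TL_bot_of_torsionFree (N : ModuleCat.{u} A)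
    (hN : ∀ x : N, (∀ f ∈ fs, ∃ n : ℕ, f ^ n • x = 0) → x = 0) : Subsingleton (TL fs N q) := by
  refine ⟨fun z w => ?_⟩
  apply evLim_injective fs N q hq
  have h : ∀ z : TL fs N q, evLim fs N q hq z = 0 := fun z =>
    hN _ ((mem_range_evLim fs N q hq _).mp ⟨z, rfl⟩)
  rw [h z, h w]

include hq in
/-- for a torsion module the bottom Koszul limit is the module -/
theorem evLim_bijective_of_isTors (C : ModuleCat.{u} A) (hC : IsTors fs C) :
    Function.Bijective (evLim fs C q hq) := by
  refine ⟨evLim_injective fs C q hq, fun c => ?_⟩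
  exact (mem_range_evLim fs C q hq c).mpr (fun f hf => hC c f hf)

end basic

section chase

variable (fs : List A) {M N : ModuleCat.{u} A} (ρ : M ⟶ N)
  {ι : Type} [Fintype ι] [DecidableEq ι] (P : ι → ModuleCat.{u} A) (π : ∀ i, N ⟶ P i) (g : ι → A)
  (hg : ∀ i, g i ∈ fs)
  (hbij : ∀ i n, Function.Bijective (fun x : P i => g i ^ n • x))
  (hinj : ∀ x : N, (∀ i, (π i).hom x = 0) → x = 0)
  (hsat : ∀ p : (∀ i, P i), (∀ f ∈ fs, ∃ (n : ℕ) (y : N), ∀ i, (π i).hom y = f ^ n • p i) →
    ∃ y : N, ∀ i, (π i).hom y = p i)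
  (hker : ∀ m : M, ρ.hom m = 0 → ∀ f ∈ fs, ∃ n : ℕ, f ^ n • m = 0)
  (hcok : ∀ x : N, ∀ f ∈ fs, ∃ (n : ℕ) (m : M), ρ.hom m = f ^ n • x)

include hg hbij hinj in
theorem torsionFree_N (x : N) (hx : ∀ f ∈ fs, ∃ n : ℕ, f ^ n • x = 0) : x = 0 := by
  apply hinj
  intro i
  obtain ⟨n, hn⟩ := hx (g i) (hg i)
  apply (hbij i n).1
  show g i ^ n • (π i).hom x = g i ^ n • 0
  rw [← map_smul, hn, map_zero, smul_zero]

/-- the product map -/
noncomputable def prodMap : N ⟶ PP P := ModuleCat.ofHom (LinearMap.pi fun i => (π i).hom)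

theorem prodMap_apply (x : N) (i : ι) : (prodMap P π).hom x i = (π i).hom x := rfl

include hinj in
theorem prodMap_injective : Function.Injective (prodMap P π).hom := by
  rw [injective_iff_map_eq_zero]
  intro x hx
  exact hinj x (fun i => congrFun hx i)

include hg hbij hinj hsat in
/-- `H^1`-limit of `N` vanishes -/
theorem subsingleton_TL_one_N (q0 : ℤ) (hq0 : q0 + fs.length = 0) :
    Subsingleton (TL fs N (q0 + 1)) := by
  let Pm := prodMap P π
  have hS := ModuleCat.shortComplex_shortExact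
    (ModuleCat.shortComplexOfCompEqZero Pm.hom (LinearMap.range Pm.hom).mkQ
      (by ext x; simp))
    (LinearMap.exact_map_mkQ_range Pm.hom) (prodMap_injective P π hinj)
    (Submodule.mkQ_surjective _)
  set S := ModuleCat.shortComplexOfCompEqZero Pm.hom (LinearMap.range Pm.hom).mkQ
      (by ext x; simp) with hSdef
  -- the quotient is torsion free
  have hQ : Subsingleton (TL fs S.X₃ q0) := by
    apply subsingleton_TL_bot_of_torsionFree fs q0 hq0
    intro x hx
    obtain ⟨p, rfl⟩ := Submodule.mkQ_surjective _ x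
    have h1 : ∀ f ∈ fs, ∃ (n : ℕ) (y : N), ∀ i, (π i).hom y = f ^ n • p i := by
      intro f hf
      obtain ⟨n, hn⟩ := hx f hf
      have h2 : f ^ n • p ∈ LinearMap.range Pm.hom := by
        rw [← Submodule.Quotient.mk_eq_zero, Submodule.Quotient.mk_smul]
        exact hn
      obtain ⟨y, hy⟩ := h2
      exact ⟨n, y, fun i => congrFun hy i⟩
    obtain ⟨y, hy⟩ := hsat p h1
    rw [Submodule.mkQ_apply, Submodule.Quotient.mk_eq_zero]
    exact ⟨y, funext hy⟩
  have hP : Subsingleton (TL fs S.X₂ (q0 + 1)) := subsingleton_TL_prod P fs g hg hbij (q0 + 1)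
  refine ⟨fun z w => ?_⟩
  suffices h : ∀ z : TL fs S.X₁ (q0 + 1), z = 0 by rw [h z, h w]
  intro z
  have hex := exact_δTL_mapTL hS fs q0 (q0 + 1) rfl
  have hz : mapTL S.f fs (q0 + 1) z = 0 := Subsingleton.elim _ _
  obtain ⟨w, rfl⟩ := (hex z).mp hz
  rw [Subsingleton.elim w 0, map_zero]

include hg hbij hinj hker in
/-- the kernel of `ρ` is the bottom Koszul limit of `M` -/
theorem nonempty_ker_equiv (q0 : ℤ) (hq0 : q0 + fs.length = 0) :
    Nonempty (LinearMap.ker ρ.hom ≃ₗ[A] TL fs M q0) := by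
  have h : LinearMap.range (evLim fs M q0 hq0) = LinearMap.ker ρ.hom := by
    ext m
    rw [mem_range_evLim, LinearMap.mem_ker]
    constructor
    · intro hm
      apply torsionFree_N fs P π g hg hbij hinj
      intro f hf
      obtain ⟨n, hn⟩ := hm f hf
      exact ⟨n, by rw [← map_smul, hn, map_zero]⟩
    · exact hker m
  exact ⟨(LinearEquiv.ofEq _ _ h).symm ≪≫ₗ
    (LinearEquiv.ofInjective (evLim fs M q0 hq0) (evLim_injective fs M q0 hq0)).symm⟩

include hg hbij hinj hsat hker hcok in
/-- the cokernel of `ρ` is the next Koszul limit of `M` -/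
theorem nonempty_coker_equiv (q0 : ℤ) (hq0 : q0 + fs.length = 0) :
    Nonempty ((N ⧸ LinearMap.range ρ.hom) ≃ₗ[A] TL fs M (q0 + 1)) := by
  -- the two short exact sequences
  have hS1 := ModuleCat.shortComplex_shortExact
    (ModuleCat.shortComplexOfCompEqZero (LinearMap.ker ρ.hom).subtype ρ.hom.rangeRestrict
      (LinearMap.ext fun x => Subtype.ext (LinearMap.mem_ker.mp x.2)))
    (by
      intro m
      constructor
      · intro hm
        exact ⟨⟨m, congrArg Subtype.val hm⟩, rfl⟩
      · rintro ⟨k, rfl⟩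
        exact Subtype.ext (LinearMap.mem_ker.mp k.2))
    (Submodule.injective_subtype _) (LinearMap.surjective_rangeRestrict _)
  set S1 := ModuleCat.shortComplexOfCompEqZero (LinearMap.ker ρ.hom).subtype ρ.hom.rangeRestrict
      (LinearMap.ext fun x => Subtype.ext (LinearMap.mem_ker.mp x.2)) with hS1def
  have hS2 := ModuleCat.shortComplex_shortExact
    (ModuleCat.shortComplexOfCompEqZero (LinearMap.range ρ.hom).subtype (LinearMap.range ρ.hom).mkQ
      (by ext x; simp))
    (LinearMap.exact_subtype_mkQ _) (Submodule.injective_subtype _) (Submodule.mkQ_surjective _)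
  set S2 := ModuleCat.shortComplexOfCompEqZero (LinearMap.range ρ.hom).subtype
      (LinearMap.range ρ.hom).mkQ (by ext x; simp) with hS2def
  -- torsion facts
  have hK : IsTors fs S1.X₁ := fun k f hf => by
    obtain ⟨n, hn⟩ := hker k.1 k.2 f hf
    exact ⟨n, Subtype.ext hn⟩
  have hC : IsTors fs S2.X₃ := fun c f hf => by
    obtain ⟨x, rfl⟩ := Submodule.mkQ_surjective _ c
    obtain ⟨n, m, hm⟩ := hcok x f hf
    refine ⟨n, ?_⟩
    show f ^ n • (LinearMap.range ρ.hom).mkQ x = 0
    rw [← map_smul, Submodule.mkQ_apply, Submodule.Quotient.mk_eq_zero]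
    exact ⟨m, hm⟩
  have hlen1 : 0 < q0 + 1 + fs.length := by omega
  have hlen2 : 0 < q0 + 1 + 1 + fs.length := by omega
  have hK1 : Subsingleton (TL fs S1.X₁ (q0 + 1)) := subsingleton_TL_of_isTors fs _ hK _ hlen1
  have hK2 : Subsingleton (TL fs S1.X₁ (q0 + 1 + 1)) := subsingleton_TL_of_isTors fs _ hK _ hlen2
  have hN0 : Subsingleton (TL fs S2.X₂ q0) :=
    subsingleton_TL_bot_of_torsionFree fs q0 hq0 N (torsionFree_N fs P π g hg hbij hinj)
  have hN1 : Subsingleton (TL fs S2.X₂ (q0 + 1)) :=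
    subsingleton_TL_one_N fs P π g hg hbij hinj hsat q0 hq0
  -- first bijection: `TL M → TL I` in degree `q0 + 1`
  have hb1 : Function.Bijective (mapTL S1.g fs (q0 + 1)) := by
    constructor
    · rw [injective_iff_map_eq_zero]
      intro z hz
      obtain ⟨w, rfl⟩ := (exact_mapTL hS1 fs (q0 + 1) z).mp hz
      rw [Subsingleton.elim w 0, map_zero]
    · intro y
      have h0 : δTL hS1 fs (q0 + 1) (q0 + 1 + 1) rfl y = 0 := Subsingleton.elim _ _
      exact (exact_mapTL_δTL hS1 fs (q0 + 1) (q0 + 1 + 1) rfl y).mp h0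
  -- second bijection: the connecting map `TL C → TL I`
  have hb2 : Function.Bijective (δTL hS2 fs q0 (q0 + 1) rfl) := by
    constructor
    · rw [injective_iff_map_eq_zero]
      intro c hc
      obtain ⟨w, rfl⟩ := (exact_mapTL_δTL hS2 fs q0 (q0 + 1) rfl c).mp hc
      rw [Subsingleton.elim w 0, map_zero]
    · intro y
      have h0 : mapTL S2.f fs (q0 + 1) y = 0 := Subsingleton.elim _ _
      exact (exact_δTL_mapTL hS2 fs q0 (q0 + 1) rfl y).mp h0
  have hb3 := evLim_bijective_of_isTors fs q0 hq0 S2.X₃ hC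
  exact ⟨(LinearEquiv.ofBijective (evLim fs S2.X₃ q0 hq0) hb3).symm ≪≫ₗ
    LinearEquiv.ofBijective (δTL hS2 fs q0 (q0 + 1) rfl) hb2 ≪≫ₗ
    (LinearEquiv.ofBijective (mapTL S1.g fs (q0 + 1)) hb1).symm⟩

end chase
end Groth.Agent.Lib.Helper4.KLC3
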