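import Mathlib
import Groth.Prelude.Def_ega3
import Groth.Agent.Lib.Helper4.KLC3

/-!
# Koszul direct limits: dimension shifting along a complex with acyclic torsion-free terms and torsion cohomology (helper4)
-/

set_option backward.isDefEq.respectTransparency.types false
set_option synthInstance.maxHeartbeats 400000
set_option autoImplicit false
set_option linter.unusedSectionVars false
set_option linter.style.haveILetI false
set_option linter.unusedSimpArgs false
universe u v w
open CategoryTheory CategoryTheory.Limits CochainComplex CohIII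

namespace Groth.Agent.Lib.Helper4.KLC5
open Groth.Agent.Helper8.KoszulLib Groth.Agent.Helper9.KosLim Groth.Agent.Lib.Helper4.KLC1
open Groth.Agent.Lib.Helper4.KLC2 Groth.Agent.Lib.Helper4.KLC3

variable {A : Type u} [CommRing A] (fs : List A)

section ses
variable {S : ShortComplex (ModuleCat.{u} A)} (hS : S.ShortExact)

theorem δTL_bijective (q q' : ℤ) (hq : q + 1 = q') (h1 : Subsingleton (TL fs S.X₂ q))
    (h2 : Subsingleton (TL fs S.X₂ q')) : Function.Bijective (δTL hS fs q q' hq) := by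
  constructor
  · rw [injective_iff_map_eq_zero]
    intro x hx
    obtain ⟨y, rfl⟩ := (exact_mapTL_δTL hS fs q q' hq x).mp hx
    rw [Subsingleton.elim y 0, map_zero]
  · intro z
    have h0 : mapTL S.f fs q' z = 0 := Subsingleton.elim _ _
    exact (exact_δTL_mapTL hS fs q q' hq z).mp h0

include hS in
theorem mapTL_f_bijective (q0 q : ℤ) (hq : q0 + 1 = q) (h1 : Subsingleton (TL fs S.X₃ q0))
    (h2 : Subsingleton (TL fs S.X₃ q)) : Function.Bijective (mapTL S.f fs q) := by
  constructor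
  · rw [injective_iff_map_eq_zero]
    intro x hx
    obtain ⟨w, rfl⟩ := (exact_δTL_mapTL hS fs q0 q hq x).mp hx
    rw [Subsingleton.elim w 0, map_zero]
  · intro z
    have h0 : mapTL S.g fs q z = 0 := Subsingleton.elim _ _
    exact (exact_mapTL hS fs q z).mp h0

include hS in
theorem mapTL_g_bijective (q q' : ℤ) (hq : q + 1 = q') (h1 : Subsingleton (TL fs S.X₁ q))
    (h2 : Subsingleton (TL fs S.X₁ q')) : Function.Bijective (mapTL S.g fs q) := by
  constructor
  · rw [injective_iff_map_eq_zero]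
    intro x hx
    obtain ⟨w, rfl⟩ := (exact_mapTL hS fs q x).mp hx
    rw [Subsingleton.elim w 0, map_zero]
  · intro z
    have h0 : δTL hS fs q q' hq z = 0 := Subsingleton.elim _ _
    exact (exact_mapTL_δTL hS fs q q' hq z).mp h0

end ses

/-- transport along an equality of degrees -/
noncomputable def TLcast (M : ModuleCat.{u} A) {q q' : ℤ} (h : q = q') : TL fs M q ≃ₗ[A] TL fs M q' := by
  subst h
  exact LinearEquiv.refl _ _

section torsionMap
variable {M N : ModuleCat.{u} A} (ρ : M ⟶ N)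
  (hker : ∀ m : M, ρ.hom m = 0 → ∀ f ∈ fs, ∃ n : ℕ, f ^ n • m = 0)
  (hcok : ∀ x : N, ∀ f ∈ fs, ∃ (n : ℕ) (m : M), ρ.hom m = f ^ n • x)

include hker hcok in
/-- a map with torsion kernel and cokernel induces isomorphisms on Koszul limits in degrees `≥ 2` -/
theorem nonempty_TL_equiv_of_torsion (q : ℤ) (hq : 2 ≤ q + fs.length) :
    Nonempty (TL fs M q ≃ₗ[A] TL fs N q) := by
  have hS1 := ModuleCat.shortComplex_shortExact
    (ModuleCat.shortComplexOfCompEqZero (LinearMap.ker ρ.hom).subtype ρ.hom.rangeRestrict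
      (LinearMap.ext fun x => Subtype.ext (LinearMap.mem_ker.mp x.2)))
    (by
      intro m
      constructor
      · intro hm
        exact ⟨⟨m, congrArg Subtype.val hm⟩, rfl⟩
      · rintro ⟨k, rfl⟩
        exact Subtype.ext (LinearMap.mem_ker.mp k.2))
    (Submodule.injective_subtype _) (LinearMap.surjective_rangeRestrict _)
  set S1 := ModuleCat.shortComplexOfCompEqZero (LinearMap.ker ρ.hom).subtype ρ.hom.rangeRestrict
      (LinearMap.ext fun x => Subtype.ext (LinearMap.mem_ker.mp x.2)) with hS1def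
  have hS2 := ModuleCat.shortComplex_shortExact
    (ModuleCat.shortComplexOfCompEqZero (LinearMap.range ρ.hom).subtype (LinearMap.range ρ.hom).mkQ
      (by ext x; simp))
    (LinearMap.exact_subtype_mkQ _) (Submodule.injective_subtype _) (Submodule.mkQ_surjective _)
  set S2 := ModuleCat.shortComplexOfCompEqZero (LinearMap.range ρ.hom).subtype
      (LinearMap.range ρ.hom).mkQ (by ext x; simp) with hS2def
  have hK : IsTors fs S1.X₁ := fun k f hf => by
    obtain ⟨n, hn⟩ := hker k.1 k.2 f hf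
    exact ⟨n, Subtype.ext hn⟩
  have hC : IsTors fs S2.X₃ := fun c f hf => by
    obtain ⟨x, rfl⟩ := Submodule.mkQ_surjective _ c
    obtain ⟨n, m, hm⟩ := hcok x f hf
    refine ⟨n, ?_⟩
    show f ^ n • (LinearMap.range ρ.hom).mkQ x = 0
    rw [← map_smul, Submodule.mkQ_apply, Submodule.Quotient.mk_eq_zero]
    exact ⟨m, hm⟩
  have hK1 : Subsingleton (TL fs S1.X₁ q) := subsingleton_TL_of_isTors fs _ hK _ (by omega)
  have hK2 : Subsingleton (TL fs S1.X₁ (q + 1)) := subsingleton_TL_of_isTors fs _ hK _ (by omega)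
  have hC1 : Subsingleton (TL fs S2.X₃ (q - 1)) := subsingleton_TL_of_isTors fs _ hC _ (by omega)
  have hC2 : Subsingleton (TL fs S2.X₃ q) := subsingleton_TL_of_isTors fs _ hC _ (by omega)
  have hb1 := mapTL_g_bijective fs hS1 q (q + 1) rfl hK1 hK2
  have hb2 := mapTL_f_bijective fs hS2 (q - 1) q (by ring) hC1 hC2
  exact ⟨LinearEquiv.ofBijective (mapTL S1.g fs q) hb1 ≪≫ₗ
    LinearEquiv.ofBijective (mapTL S2.f fs q) hb2⟩

end torsionMap


section cx
variable (C : ℕ → ModuleCat.{u} A) (d : ∀ n, C n ⟶ C (n + 1))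
  (hd : ∀ n (x : C n), (d (n + 1)).hom ((d n).hom x) = 0)
  (hC : ∀ n q, Subsingleton (TL fs (C n) q))
  (htf : ∀ n (x : C n), (∀ f ∈ fs, ∃ k : ℕ, f ^ k • x = 0) → x = 0)
  (htor : ∀ n (x : C (n + 1)), (d (n + 1)).hom x = 0 →
    ∀ f ∈ fs, ∃ (k : ℕ) (y : C n), (d n).hom y = f ^ k • x)

/-- cocycles -/
abbrev Zm (n : ℕ) : ModuleCat.{u} A := ModuleCat.of A (LinearMap.ker (d n).hom)

/-- coboundaries (in degree `n + 1`) -/
abbrev Bm (n : ℕ) : ModuleCat.{u} A := ModuleCat.of A (LinearMap.range (d n).hom)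

include hd in
theorem B_le_Z (n : ℕ) : LinearMap.range (d n).hom ≤ LinearMap.ker (d (n + 1)).hom := by
  rintro _ ⟨y, rfl⟩
  exact LinearMap.mem_ker.mpr (hd n y)

/-- coboundaries as a submodule of the cocycles -/
abbrev Bsub (n : ℕ) : Submodule A (LinearMap.ker (d (n + 1)).hom) :=
  Submodule.comap (LinearMap.ker (d (n + 1)).hom).subtype (LinearMap.range (d n).hom)

/-- cohomology in degree `n + 1` -/
abbrev Hm (n : ℕ) : ModuleCat.{u} A :=
  ModuleCat.of A (↥(LinearMap.ker (d (n + 1)).hom) ⧸ Bsub C d n)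

/-- the first short complex `Z^n → C^n → B^{n+1}` -/
noncomputable abbrev S1 (n : ℕ) : ShortComplex (ModuleCat.{u} A) :=
  ModuleCat.shortComplexOfCompEqZero (LinearMap.ker (d n).hom).subtype (d n).hom.rangeRestrict
    (LinearMap.ext fun x => Subtype.ext (LinearMap.mem_ker.mp x.2))

theorem hS1 (n : ℕ) : (S1 C d n).ShortExact :=
  ModuleCat.shortComplex_shortExact _
    (by
      intro m
      constructor
      · intro hm
        exact ⟨⟨m, congrArg Subtype.val hm⟩, rfl⟩
      · rintro ⟨k, rfl⟩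
        exact Subtype.ext (LinearMap.mem_ker.mp k.2))
    (Submodule.injective_subtype _) (LinearMap.surjective_rangeRestrict _)

/-- the second short complex `B^{n+1} → Z^{n+1} → H^{n+1}` -/
noncomputable abbrev S2 (n : ℕ) : ShortComplex (ModuleCat.{u} A) :=
  ModuleCat.shortComplexOfCompEqZero (Submodule.inclusion (B_le_Z C d hd n)) (Bsub C d n).mkQ
    (LinearMap.ext fun x => by
      show (Bsub C d n).mkQ (Submodule.inclusion (B_le_Z C d hd n) x) = 0
      rw [Submodule.mkQ_apply, Submodule.Quotient.mk_eq_zero]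
      exact x.2)

theorem hS2 (n : ℕ) : (S2 C d hd n).ShortExact :=
  ModuleCat.shortComplex_shortExact _
    (by
      intro z
      constructor
      · intro hz
        have hz' : z ∈ Bsub C d n := by
          rw [← Submodule.Quotient.mk_eq_zero]
          exact hz
        exact ⟨⟨z.1, hz'⟩, Subtype.ext rfl⟩
      · rintro ⟨b, rfl⟩
        show (Bsub C d n).mkQ (Submodule.inclusion (B_le_Z C d hd n) b) = 0
        rw [Submodule.mkQ_apply, Submodule.Quotient.mk_eq_zero]
        exact b.2)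
    (Submodule.inclusion_injective (B_le_Z C d hd n)) (Submodule.mkQ_surjective _)

include hC in
theorem δ1_bijective (n : ℕ) (q q' : ℤ) (hq : q + 1 = q') :
    Function.Bijective (δTL (hS1 C d n) fs q q' hq) :=
  δTL_bijective fs (hS1 C d n) q q' hq (hC n q) (hC n q')

include htf in
theorem subsingleton_Z_bot (n : ℕ) (q0 : ℤ) (hq0 : q0 + fs.length = 0) :
    Subsingleton (TL fs (Zm C d n) q0) := by
  apply subsingleton_TL_bot_of_torsionFree fs q0 hq0
  intro x hx
  apply Subtype.ext
  apply htf n x.1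
  intro f hf
  obtain ⟨k, hk⟩ := hx f hf
  exact ⟨k, congrArg Subtype.val hk⟩

include htf in
theorem subsingleton_B_bot (n : ℕ) (q0 : ℤ) (hq0 : q0 + fs.length = 0) :
    Subsingleton (TL fs (Bm C d n) q0) := by
  apply subsingleton_TL_bot_of_torsionFree fs q0 hq0
  intro x hx
  apply Subtype.ext
  apply htf (n + 1) x.1
  intro f hf
  obtain ⟨k, hk⟩ := hx f hf
  exact ⟨k, congrArg Subtype.val hk⟩

include htor in
theorem isTors_Hm (n : ℕ) : IsTors fs (Hm C d n) := by
  intro c f hf
  obtain ⟨z, rfl⟩ := Submodule.mkQ_surjective _ c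
  obtain ⟨k, y, hy⟩ := htor n z.1 (LinearMap.mem_ker.mp z.2) f hf
  refine ⟨k, ?_⟩
  show f ^ k • (Bsub C d n).mkQ z = 0
  rw [← map_smul, Submodule.mkQ_apply, Submodule.Quotient.mk_eq_zero]
  exact ⟨y, hy⟩

include hC htf in
theorem subsingleton_Z_one (n : ℕ) (q0 : ℤ) (hq0 : q0 + fs.length = 0) :
    Subsingleton (TL fs (Zm C d n) (q0 + 1)) := by
  have hb := δ1_bijective fs C d hC n q0 (q0 + 1) rfl
  have := subsingleton_B_bot fs C d htf n q0 hq0
  exact (LinearEquiv.ofBijective _ hb).symm.toEquiv.subsingleton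

include hC htf in
theorem δ2_bot_bijective (n : ℕ) (q0 : ℤ) (hq0 : q0 + fs.length = 0) :
    Function.Bijective (δTL (hS2 C d hd n) fs q0 (q0 + 1) rfl) :=
  δTL_bijective fs (hS2 C d hd n) q0 (q0 + 1) rfl (subsingleton_Z_bot fs C d htf (n + 1) q0 hq0)
    (subsingleton_Z_one fs C d hC htf (n + 1) q0 hq0)

include htor in
theorem incl_bijective (n : ℕ) (q : ℤ) (hq : 2 ≤ q + fs.length) :
    Function.Bijective (mapTL (S2 C d hd n).f fs q) :=
  mapTL_f_bijective fs (hS2 C d hd n) (q - 1) q (by ring)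
    (subsingleton_TL_of_isTors fs _ (isTors_Hm fs C d htor n) _ (by omega))
    (subsingleton_TL_of_isTors fs _ (isTors_Hm fs C d htor n) _ (by omega))

include hd hC htor in
/-- dimension shifting on cocycles -/
theorem nonempty_shift : ∀ (n : ℕ) (q : ℤ), 2 ≤ q + fs.length →
    Nonempty (TL fs (Zm C d n) q ≃ₗ[A] TL fs (Zm C d 0) (q + n)) := by
  intro n
  induction n with
  | zero =>
    intro q _
    exact ⟨TLcast fs _ (by simp)⟩
  | succ n ih =>
    intro q hq
    obtain ⟨e⟩ := ih (q + 1) (by omega)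
    have h1 := incl_bijective fs C d hd htor n q hq
    have h2 := δ1_bijective fs C d hC n q (q + 1) rfl
    exact ⟨(LinearEquiv.ofBijective _ h1).symm ≪≫ₗ LinearEquiv.ofBijective _ h2 ≪≫ₗ e ≪≫ₗ
      TLcast fs _ (by push_cast; ring)⟩

include hd hC htf htor in
/-- the cohomology of the complex in degree `n + 1` is a Koszul limit of the zero-cocycles -/
theorem nonempty_Hm_equiv (n : ℕ) (q0 : ℤ) (hq0 : q0 + fs.length = 0) :
    Nonempty (Hm C d n ≃ₗ[A] TL fs (Zm C d 0) (q0 + 2 + n)) := by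
  have hb3 := evLim_bijective_of_isTors fs q0 hq0 (Hm C d n) (isTors_Hm fs C d htor n)
  have hb2 := δ2_bot_bijective fs C d hd hC htf n q0 hq0
  have hb1 := δ1_bijective fs C d hC n (q0 + 1) (q0 + 1 + 1) rfl
  obtain ⟨e⟩ := nonempty_shift fs C d hd hC htor n (q0 + 1 + 1) (by omega)
  exact ⟨(LinearEquiv.ofBijective _ hb3).symm ≪≫ₗ LinearEquiv.ofBijective _ hb2 ≪≫ₗ
    LinearEquiv.ofBijective _ hb1 ≪≫ₗ e ≪≫ₗ TLcast fs _ (by ring)⟩

end cx

end Groth.Agent.Lib.Helper4.KLC5
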