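import Mathlib
import Groth.Prelude.Def_ega3
import Groth.Agent.Lib.Helper4.KLC3
import Groth.Agent.Lib.Helper4.KLC5
import Groth.Agent.Lib.Helper4.KLC2u

/-!
# Koszul direct limits: the chases over a smaller ring acting through a ring homomorphism (helper4)
-/

set_option backward.isDefEq.respectTransparency.types false
set_option synthInstance.maxHeartbeats 400000
set_option autoImplicit false
set_option linter.unusedSectionVars false
set_option linter.style.haveILetI false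
set_option linter.unusedSimpArgs false
universe u v w
open CategoryTheory CategoryTheory.Limits CochainComplex CohIII

namespace Groth.Agent.Lib.Helper4.KLC10
open Groth.Agent.Helper8.KoszulLib Groth.Agent.Helper9.KosLim Groth.Agent.Lib.Helper4.KLC1
open Groth.Agent.Lib.Helper4.KLC2 Groth.Agent.Lib.Helper4.KLC3 Groth.Agent.Lib.Helper4

variable {R A : Type u} [CommRing R] [CommRing A] (ψ : R →+* A) (fs : List R)

theorem rs_smul (Q : ModuleCat.{u} A) (r : R) (x : Q) :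
    r • (show (ModuleCat.restrictScalars ψ).obj Q from x) = ψ r • x := rfl

theorem rs_pow_smul (Q : ModuleCat.{u} A) (r : R) (n : ℕ) (x : Q) :
    r ^ n • (show (ModuleCat.restrictScalars ψ).obj Q from x) = ψ r ^ n • x := by
  rw [rs_smul, map_pow]

section rs3
variable {MR : ModuleCat.{u} R} {M N : ModuleCat.{u} A}
  (τ : MR ⟶ (ModuleCat.restrictScalars ψ).obj M) (hτ : Function.Bijective τ.hom) (ρ : M ⟶ N)
  {ι : Type} [Fintype ι] [DecidableEq ι] (P : ι → ModuleCat.{u} A) (π : ∀ i, N ⟶ P i) (g : ι → R)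
  (hg : ∀ i, g i ∈ fs)
  (hbij : ∀ i n, Function.Bijective (fun x : P i => ψ (g i) ^ n • x))
  (hinj : ∀ x : N, (∀ i, (π i).hom x = 0) → x = 0)
  (hsat : ∀ p : (∀ i, P i), (∀ f ∈ fs, ∃ (n : ℕ) (y : N), ∀ i, (π i).hom y = ψ f ^ n • p i) →
    ∃ y : N, ∀ i, (π i).hom y = p i)
  (hker : ∀ m : M, ρ.hom m = 0 → ∀ f ∈ fs, ∃ n : ℕ, ψ f ^ n • m = 0)
  (hcok : ∀ x : N, ∀ f ∈ fs, ∃ (n : ℕ) (m : M), ρ.hom m = ψ f ^ n • x)

/-- the composite over the small ring -/
noncomputable abbrev ρR : MR ⟶ (ModuleCat.restrictScalars ψ).obj N :=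
  τ ≫ (ModuleCat.restrictScalars ψ).map ρ

theorem ρR_apply (m : MR) : (ρR ψ τ ρ).hom m = ρ.hom (τ.hom m) := rfl

include hτ hg hbij hinj hker in
theorem nonempty_ker_equiv_rs (q0 : ℤ) (hq0 : q0 + fs.length = 0) :
    Nonempty (LinearMap.ker (ρR ψ τ ρ).hom ≃ₗ[R] TL fs MR q0) := by
  refine KLC3.nonempty_ker_equiv fs (ρR ψ τ ρ)
    (fun i => (ModuleCat.restrictScalars ψ).obj (P i))
    (fun i => (ModuleCat.restrictScalars ψ).map (π i)) g hg ?_ hinj ?_ q0 hq0
  · intro i n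
    have h1 : (fun x : (ModuleCat.restrictScalars ψ).obj (P i) => g i ^ n • x) =
        (fun x : P i => ψ (g i) ^ n • x) := funext fun x => rs_pow_smul ψ (P i) (g i) n x
    rw [h1]
    exact hbij i n
  · intro m hm f hf
    obtain ⟨n, hn⟩ := hker (τ.hom m) hm f hf
    refine ⟨n, hτ.1 ?_⟩
    rw [map_smul, map_zero]
    exact (rs_pow_smul ψ M f n (τ.hom m)).trans hn

include hτ hg hbij hinj hsat hker hcok in
theorem nonempty_coker_equiv_rs (q0 : ℤ) (hq0 : q0 + fs.length = 0) :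
    Nonempty (((ModuleCat.restrictScalars ψ).obj N ⧸ LinearMap.range (ρR ψ τ ρ).hom) ≃ₗ[R]
      TL fs MR (q0 + 1)) := by
  refine KLC3.nonempty_coker_equiv fs (ρR ψ τ ρ)
    (fun i => (ModuleCat.restrictScalars ψ).obj (P i))
    (fun i => (ModuleCat.restrictScalars ψ).map (π i)) g hg ?_ hinj ?_ ?_ ?_ q0 hq0
  · intro i n
    have h1 : (fun x : (ModuleCat.restrictScalars ψ).obj (P i) => g i ^ n • x) =
        (fun x : P i => ψ (g i) ^ n • x) := funext fun x => rs_pow_smul ψ (P i) (g i) n x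
    rw [h1]
    exact hbij i n
  · intro p hp
    apply hsat p
    intro f hf
    obtain ⟨n, y, hy⟩ := hp f hf
    exact ⟨n, y, fun i => (hy i).trans (rs_pow_smul ψ (P i) f n (p i))⟩
  · intro m hm f hf
    obtain ⟨n, hn⟩ := hker (τ.hom m) hm f hf
    refine ⟨n, hτ.1 ?_⟩
    rw [map_smul, map_zero]
    exact (rs_pow_smul ψ M f n (τ.hom m)).trans hn
  · intro x f hf
    obtain ⟨n, m, hm⟩ := hcok x f hf
    obtain ⟨m', rfl⟩ := hτ.2 m
    exact ⟨n, m', hm.trans (rs_pow_smul ψ N f n x).symm⟩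

end rs3


section rs5
variable (C : ℕ → ModuleCat.{u} A) (d : ∀ n, C n ⟶ C (n + 1))
  (hd : ∀ n (x : C n), (d (n + 1)).hom ((d n).hom x) = 0)
  (hC : ∀ n q, Subsingleton (TL fs ((ModuleCat.restrictScalars ψ).obj (C n)) q))
  (htf : ∀ n (x : C n), (∀ f ∈ fs, ∃ k : ℕ, ψ f ^ k • x = 0) → x = 0)
  (htor : ∀ n (x : C (n + 1)), (d (n + 1)).hom x = 0 →
    ∀ f ∈ fs, ∃ (k : ℕ) (y : C n), (d n).hom y = ψ f ^ k • x)
  {MR : ModuleCat.{u} R} {M : ModuleCat.{u} A}
  (τ : MR ⟶ (ModuleCat.restrictScalars ψ).obj M) (hτ : Function.Bijective τ.hom)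
  (ρ' : M ⟶ KLC5.Zm C d 0)
  (hker' : ∀ m : M, ρ'.hom m = 0 → ∀ f ∈ fs, ∃ n : ℕ, ψ f ^ n • m = 0)
  (hcok' : ∀ z : KLC5.Zm C d 0, ∀ f ∈ fs, ∃ (n : ℕ) (m : M), ρ'.hom m = ψ f ^ n • z)

/-- the restricted complex -/
noncomputable abbrev CR (n : ℕ) : ModuleCat.{u} R := (ModuleCat.restrictScalars ψ).obj (C n)

/-- the restricted differential -/
noncomputable abbrev dR (n : ℕ) : CR ψ C n ⟶ CR ψ C (n + 1) := (ModuleCat.restrictScalars ψ).map (d n)

/-- the restricted augmentation into zero-cocycles -/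
noncomputable def ρ'R : MR ⟶ KLC5.Zm (CR ψ C) (dR ψ C d) 0 :=
  ModuleCat.ofHom
    { toFun := fun m => ⟨(ρ'.hom (τ.hom m)).1, (ρ'.hom (τ.hom m)).2⟩
      map_add' := fun a b => by
        apply Subtype.ext
        show (ρ'.hom (τ.hom (a + b))).1 = (ρ'.hom (τ.hom a)).1 + (ρ'.hom (τ.hom b)).1
        have h1 : τ.hom (a + b) = τ.hom a + τ.hom b := map_add τ.hom a b
        have h2 : ρ'.hom (show M from τ.hom a + τ.hom b) =
            ρ'.hom (show M from τ.hom a) + ρ'.hom (show M from τ.hom b) := map_add ρ'.hom _ _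
        rw [h1]
        exact congrArg Subtype.val h2
      map_smul' := fun r a => by
        apply Subtype.ext
        show (ρ'.hom (τ.hom (r • a))).1 = ψ r • (ρ'.hom (τ.hom a)).1
        have h1 : τ.hom (r • a) = r • τ.hom a := map_smul τ.hom r a
        have h2 : ρ'.hom (ψ r • (show M from τ.hom a)) = ψ r • ρ'.hom (show M from τ.hom a) :=
          map_smul ρ'.hom (ψ r) _
        rw [h1]
        exact congrArg Subtype.val h2 }

theorem ρ'R_apply (m : MR) : ((ρ'R ψ C d τ ρ').hom m).1 = (ρ'.hom (τ.hom m)).1 := rfl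

include hd hC htf htor hτ hker' hcok' in
theorem nonempty_Hm_equiv_rs (n : ℕ) (q0 : ℤ) (hq0 : q0 + fs.length = 0) :
    Nonempty (KLC5.Hm (CR ψ C) (dR ψ C d) n ≃ₗ[R] TL fs MR (q0 + 2 + n)) := by
  obtain ⟨E2⟩ := KLC5.nonempty_Hm_equiv fs (CR ψ C) (dR ψ C d) hd hC
    (by
      intro k x hx
      apply htf k x
      intro f hf
      obtain ⟨j, hj⟩ := hx f hf
      exact ⟨j, (rs_pow_smul ψ (C k) f j x).symm.trans hj⟩)
    (by
      intro k x hx f hf
      obtain ⟨j, y, hy⟩ := htor k x hx f hf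
      exact ⟨j, y, hy.trans (rs_pow_smul ψ (C (k + 1)) f j x).symm⟩)
    n q0 hq0
  obtain ⟨E3⟩ := KLC5.nonempty_TL_equiv_of_torsion fs (ρ'R ψ C d τ ρ')
    (by
      intro m hm f hf
      have hm' : ρ'.hom (τ.hom m) = 0 := Subtype.ext (congrArg Subtype.val hm)
      obtain ⟨j, hj⟩ := hker' (τ.hom m) hm' f hf
      refine ⟨j, hτ.1 ?_⟩
      rw [map_smul, map_zero]
      exact (rs_pow_smul ψ M f j (τ.hom m)).trans hj)
    (by
      intro z f hf
      obtain ⟨j, m, hm⟩ := hcok' ⟨z.1, z.2⟩ f hf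
      obtain ⟨m', rfl⟩ := hτ.2 m
      refine ⟨j, m', Subtype.ext ?_⟩
      have := congrArg Subtype.val hm
      exact this.trans (rs_pow_smul ψ (C 0) f j z.1).symm)
    (q0 + 2 + n) (by omega)
  exact ⟨E2 ≪≫ₗ E3.symm⟩

end rs5

end Groth.Agent.Lib.Helper4.KLC10
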