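import Mathlib
import Groth.Prelude.Def_ega3
import Groth.Prelude.Def_Coh
import Groth.Agent.Lib.Helper1.QcsLoc
import Groth.Agent.Lib.Helper4.KLC3

/-!
# Sections over a union of basic opens: kernel/cokernel of restriction vs Koszul limits (helper4)
-/

set_option backward.isDefEq.respectTransparency.types false
set_option synthInstance.maxHeartbeats 400000
set_option autoImplicit false
set_option linter.unusedSectionVars false
set_option linter.style.haveILetI false
set_option linter.unusedSimpArgs false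
universe u v w
open CategoryTheory CategoryTheory.Limits AlgebraicGeometry TopologicalSpace Opposite

namespace Groth.Agent.Lib.Helper4.KLC4
open Groth.Agent.Helper1.QcCech Groth.Agent.Helper1.QcsLoc

variable {X : Scheme.{u}} (F : X.Modules)

lemma resR_self {O : X.Opens} (h : O ≤ O) (r : Γ(X, O)) : resR h r = r := by
  have : (homOfLE h).op = 𝟙 _ := Subsingleton.elim _ _
  change (X.presheaf.map (homOfLE h).op).hom r = r
  rw [this, CategoryTheory.Functor.map_id]
  rfl

/-- the `Γ(X, ⊤)`-module structure on sections over an open -/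
@[reducible] noncomputable def modO (O : X.Opens) : Module Γ(X, ⊤) Γ(F, O) :=
  Module.compHom _ (resR (le_top : O ≤ ⊤))

/-- sections over `O` as a module over global functions -/
noncomputable def secMod (O : X.Opens) : ModuleCat.{u} Γ(X, ⊤) :=
  @ModuleCat.of Γ(X, ⊤) _ Γ(F, O) _ (modO F O)

/-- restriction as a linear map -/
noncomputable def resLin {O O' : X.Opens} (h : O' ≤ O) :
    @LinearMap Γ(X, ⊤) Γ(X, ⊤) _ _ (RingHom.id _) Γ(F, O) Γ(F, O') _ _ (modO F O) (modO F O') :=
  letI := modO F O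
  letI := modO F O'
  { toFun := fun s => res F h s
    map_add' := fun s t => map_add (res F h) s t
    map_smul' := fun a s => by
      show res F h (resR (le_top : O ≤ ⊤) a • s) = resR (le_top : O' ≤ ⊤) a • res F h s
      rw [res_smul, resR_resR] }

/-- restriction as a morphism of modules -/
noncomputable def resMod {O O' : X.Opens} (h : O' ≤ O) : secMod F O ⟶ secMod F O' :=
  @ModuleCat.ofHom _ _ Γ(F, O) Γ(F, O') _ (modO F O) _ (modO F O') (resLin F h)

theorem resMod_apply {O O' : X.Opens} (h : O' ≤ O) (s : Γ(F, O)) :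
    (resMod F h).hom s = res F h s := rfl

theorem secMod_smul (O : X.Opens) (a : Γ(X, ⊤)) (s : Γ(F, O)) :
    (letI := modO F O; a • s) = resR (le_top : O ≤ ⊤) a • s := rfl

/-- global sections as a module (prelude structure) -/
noncomputable abbrev topMod : ModuleCat.{u} Γ(X, ⊤) := ModuleCat.of Γ(X, ⊤) (F.val.obj (op ⊤))

/-- restriction from global sections as a linear map -/
noncomputable def rhoLin (O : X.Opens) :
    @LinearMap Γ(X, ⊤) Γ(X, ⊤) _ _ (RingHom.id _) (F.val.obj (op ⊤)) Γ(F, O) _ _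
      (CohIII.secTopModule X F) (modO F O) :=
  letI := modO F O
  { toFun := fun s => res F (le_top : O ≤ ⊤) s
    map_add' := fun s t => map_add (res F _) s t
    map_smul' := fun a s => by
      show res F (le_top : O ≤ ⊤) ((a : Γ(X, ⊤)) • (s : Γ(F, ⊤))) =
        resR (le_top : O ≤ ⊤) a • res F (le_top : O ≤ ⊤) s
      exact res_smul F _ a s }

noncomputable def rho (O : X.Opens) : topMod F ⟶ secMod F O :=
  @ModuleCat.ofHom _ _ (F.val.obj (op ⊤)) Γ(F, O) _ (CohIII.secTopModule X F) _ (modO F O) (rhoLin F O)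

theorem rho_apply (O : X.Opens) (s : F.val.obj (op ⊤)) :
    (rho F O).hom s = res F (le_top : O ≤ ⊤) s := rfl


section verify
variable (fs : List Γ(X, ⊤))

/-- the union of the basic opens -/
noncomputable abbrev UU : X.Opens := ⨆ i : Fin fs.length, X.basicOpen (fs.get i)

theorem basicOpen_le_UU (f : Γ(X, ⊤)) (hf : f ∈ fs) : X.basicOpen f ≤ UU fs := by
  obtain ⟨i, rfl⟩ := List.mem_iff_get.mp hf
  exact le_iSup (fun i : Fin fs.length => X.basicOpen (fs.get i)) i

theorem isUnit_resR_pow (f : Γ(X, ⊤)) {O : X.Opens} (h : O ≤ X.basicOpen f) (n : ℕ) :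
    IsUnit (resR (h.trans le_top : O ≤ ⊤) (f ^ n)) := by
  have hu : IsUnit (resR (le_top : X.basicOpen f ≤ ⊤) f) := X.toRingedSpace.isUnit_res_basicOpen f
  have h2 : resR (h.trans le_top : O ≤ ⊤) (f ^ n) = (resR h (resR (le_top : X.basicOpen f ≤ ⊤) f)) ^ n := by
    rw [resR_resR, map_pow]
  rw [h2]
  exact (hu.map _).pow n

theorem hbij (f : Γ(X, ⊤)) (n : ℕ) :
    Function.Bijective (fun x : secMod F (X.basicOpen f) => f ^ n • x) := by
  have hu := isUnit_resR_pow f (le_refl (X.basicOpen f)) n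
  obtain ⟨u, hu⟩ := hu
  have key : ∀ x : Γ(F, X.basicOpen f),
      ((f ^ n • (show secMod F (X.basicOpen f) from x) : secMod F (X.basicOpen f)) : Γ(F, X.basicOpen f))
        = (u : Γ(X, X.basicOpen f)) • x := by
    intro x
    rw [hu]
    rfl
  rw [Function.bijective_iff_has_inverse]
  refine ⟨fun x => (show secMod F (X.basicOpen f) from
    ((u⁻¹ : Units _) : Γ(X, X.basicOpen f)) • (show Γ(F, X.basicOpen f) from x)), ?_, ?_⟩
  · intro x
    show ((u⁻¹ : Units _) : Γ(X, X.basicOpen f)) • (show Γ(F, X.basicOpen f) from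
      (f ^ n • x : secMod F (X.basicOpen f))) = (show Γ(F, X.basicOpen f) from x)
    erw [key]
    rw [smul_smul, Units.inv_mul, one_smul]
  · intro x
    show (show Γ(F, X.basicOpen f) from (f ^ n • (show secMod F (X.basicOpen f) from
      ((u⁻¹ : Units _) : Γ(X, X.basicOpen f)) • (show Γ(F, X.basicOpen f) from x)))) = (show Γ(F, X.basicOpen f) from x)
    erw [key]
    rw [smul_smul, Units.mul_inv, one_smul]

theorem hinj (x : Γ(F, UU fs))
    (hx : ∀ i : Fin fs.length, res F (le_iSup (fun i : Fin fs.length => X.basicOpen (fs.get i)) i) x = 0) :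
    x = 0 := by
  apply TopCat.Sheaf.eq_of_locally_eq' (⟨F.presheaf, F.isSheaf⟩ : TopCat.Sheaf Ab X)
    (fun i : Fin fs.length => X.basicOpen (fs.get i)) (UU fs)
    (fun i => homOfLE (le_iSup (fun i : Fin fs.length => X.basicOpen (fs.get i)) i)) le_rfl
  intro i
  have := hx i
  change res F _ x = res F _ 0
  rw [this, map_zero]

theorem hsat (p : ∀ i : Fin fs.length, secMod F (X.basicOpen (fs.get i)))
    (hp : ∀ f ∈ fs, ∃ (n : ℕ) (y : secMod F (UU fs)), ∀ i : Fin fs.length,
      (resMod F (le_iSup (fun i : Fin fs.length => X.basicOpen (fs.get i)) i)).hom y = f ^ n • p i) :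
    ∃ y : secMod F (UU fs), ∀ i : Fin fs.length,
      (resMod F (le_iSup (fun i : Fin fs.length => X.basicOpen (fs.get i)) i)).hom y = p i := by
  let p' : ∀ i : Fin fs.length, Γ(F, X.basicOpen (fs.get i)) := p
  have hcomp : ∀ i j : Fin fs.length,
      res F (inf_le_left : X.basicOpen (fs.get i) ⊓ X.basicOpen (fs.get j) ≤ _) (p' i) =
      res F (inf_le_right : X.basicOpen (fs.get i) ⊓ X.basicOpen (fs.get j) ≤ _) (p' j) := by
    intro i j
    obtain ⟨n, y, hy⟩ := hp (fs.get i) (List.get_mem fs i)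
    let y' : Γ(F, UU fs) := y
    have h1 : res F (le_iSup (fun i : Fin fs.length => X.basicOpen (fs.get i)) i) y' =
        resR (le_top : X.basicOpen (fs.get i) ≤ ⊤) (fs.get i ^ n) • p' i := hy i
    have h2 : res F (le_iSup (fun i : Fin fs.length => X.basicOpen (fs.get i)) j) y' =
        resR (le_top : X.basicOpen (fs.get j) ≤ ⊤) (fs.get i ^ n) • p' j := hy j
    have h3 := congrArg (res F (inf_le_left : X.basicOpen (fs.get i) ⊓ X.basicOpen (fs.get j) ≤ _)) h1
    have h4 := congrArg (res F (inf_le_right : X.basicOpen (fs.get i) ⊓ X.basicOpen (fs.get j) ≤ _)) h2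
    rw [res_res, res_smul, resR_resR] at h3 h4
    have hu := isUnit_resR_pow (fs.get i)
      (inf_le_left : X.basicOpen (fs.get i) ⊓ X.basicOpen (fs.get j) ≤ X.basicOpen (fs.get i)) n
    exact hu.smul_left_cancel.mp (h3.symm.trans h4)
  obtain ⟨c, hc, -⟩ := TopCat.Sheaf.existsUnique_gluing' (⟨F.presheaf, F.isSheaf⟩ : TopCat.Sheaf Ab X)
    (fun i : Fin fs.length => X.basicOpen (fs.get i)) (UU fs)
    (fun i => homOfLE (le_iSup (fun i : Fin fs.length => X.basicOpen (fs.get i)) i)) le_rfl p' hcomp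
  exact ⟨c, hc⟩

theorem isCompact_UU [CompactSpace X] : IsCompact ((UU fs : X.Opens) : Set X) := by
  rw [Opens.coe_iSup]
  exact isCompact_iUnion (fun i => AlgebraicGeometry.isCompact_basicOpen X (U := ⊤) isCompact_univ (fs.get i))

theorem hker [CompactSpace X] [F.IsQuasicoherent] (m : topMod F) (hm : (rho F (UU fs)).hom m = 0)
    (f : Γ(X, ⊤)) (hf : f ∈ fs) : ∃ n : ℕ, f ^ n • m = 0 := by
  have hk := kill_of_isCompact F f ⊤ isCompact_univ
  have h1 : (⊤ ⊓ X.basicOpen f : X.Opens) ≤ UU fs := inf_le_right.trans (basicOpen_le_UU fs f hf)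
  obtain ⟨n, hn⟩ := hk le_rfl (show Γ(F, ⊤) from m) (by
    have := congrArg (res F h1) (show res F (le_top : UU fs ≤ ⊤) (show Γ(F, ⊤) from m) = 0 from hm)
    rw [res_res, map_zero] at this
    exact this)
  refine ⟨n, ?_⟩
  rw [rsmul, resR_self] at hn
  exact hn

theorem hcok [CompactSpace X] [X.IsSeparated] [F.IsQuasicoherent] (x : secMod F (UU fs))
    (f : Γ(X, ⊤)) (hf : f ∈ fs) :
    ∃ (n : ℕ) (m : topMod F), (rho F (UU fs)).hom m = f ^ n • x := by
  let x' : Γ(F, UU fs) := x
  have he := ext_of_isCompact F f ⊤ (by rw [Opens.coe_top]; exact isQuasiSeparated_univ) ⊤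
    (by rw [Opens.coe_top]; exact isCompact_univ) le_rfl
  have h1 : (⊤ ⊓ X.basicOpen f : X.Opens) ≤ UU fs := inf_le_right.trans (basicOpen_le_UU fs f hf)
  obtain ⟨n, t, ht⟩ := he le_rfl (res F h1 x')
  have hk := kill_of_isCompact F f (UU fs) (isCompact_UU fs)
  obtain ⟨k, hk'⟩ := hk le_top (res F le_top t - rsmul F le_top (f ^ n) x') (by
    rw [map_sub, sub_eq_zero, res_res, res_rsmul]
    have := congrArg (res F (le_inf le_top inf_le_right :
      UU fs ⊓ X.basicOpen f ≤ ⊤ ⊓ X.basicOpen f)) ht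
    rw [res_res, res_rsmul, res_res] at this
    exact this)
  rw [rsmul_sub, sub_eq_zero] at hk'
  refine ⟨k + n, (show topMod F from (f ^ k • t : Γ(F, ⊤))), ?_⟩
  show res F (le_top : UU fs ≤ ⊤) (f ^ k • t : Γ(F, ⊤)) = resR (le_top : UU fs ≤ ⊤) (f ^ (k + n)) • x'
  rw [res_smul]
  have e := rsmul_pow_add F (le_top : UU fs ≤ ⊤) f k n x'
  rw [rsmul, rsmul] at hk'
  rw [rsmul, rsmul] at e
  rw [e, ← hk']

open Groth.Agent.Helper9.KosLim Groth.Agent.Lib.Helper4.KLC3 in
theorem main_lin [CompactSpace X] [X.IsSeparated] [F.IsQuasicoherent] (q0 : ℤ)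
    (hq0 : q0 + fs.length = 0) :
    Nonempty (LinearMap.ker (rho F (UU fs)).hom ≃ₗ[Γ(X, ⊤)] TL fs (topMod F) q0) ∧
    Nonempty ((secMod F (UU fs) ⧸ LinearMap.range (rho F (UU fs)).hom) ≃ₗ[Γ(X, ⊤)]
      TL fs (topMod F) (q0 + 1)) := by
  have hg : ∀ i : Fin fs.length, fs.get i ∈ fs := fun i => List.get_mem fs i
  constructor
  · exact nonempty_ker_equiv fs (rho F (UU fs))
      (fun i : Fin fs.length => secMod F (X.basicOpen (fs.get i)))
      (fun i => resMod F (le_iSup (fun i : Fin fs.length => X.basicOpen (fs.get i)) i))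
      (fun i => fs.get i) hg (fun i n => hbij F (fs.get i) n) (hinj F fs) (hker F fs) q0 hq0
  · exact nonempty_coker_equiv fs (rho F (UU fs))
      (fun i : Fin fs.length => secMod F (X.basicOpen (fs.get i)))
      (fun i => resMod F (le_iSup (fun i : Fin fs.length => X.basicOpen (fs.get i)) i))
      (fun i => fs.get i) hg (fun i n => hbij F (fs.get i) n) (hinj F fs) (hsat F fs) (hker F fs)
      (hcok F fs) q0 hq0

open Groth.Agent.Helper9.KosLim in
theorem final (X : Scheme.{u}) [CompactSpace X] [X.IsSeparated] (fs : List Γ(X, ⊤)) (F : X.Modules)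
    [Coh.IsQCoh F] :
    Nonempty (((Coh.toAb F).obj.map (homOfLE (le_top : (⨆ i : Fin fs.length, X.basicOpen (fs.get i)) ≤ ⊤)).op).hom.ker ≃+ CohIII.koszulHLim fs (ModuleCat.of Γ(X, ⊤) (F.val.obj (op ⊤))) 0) ∧
    Nonempty (↑((Coh.toAb F).obj.obj (op (⨆ i : Fin fs.length, X.basicOpen (fs.get i)))) ⧸
        ((Coh.toAb F).obj.map (homOfLE (le_top : (⨆ i : Fin fs.length, X.basicOpen (fs.get i)) ≤ ⊤)).op).hom.range ≃+ CohIII.koszulHLim fs (ModuleCat.of Γ(X, ⊤) (F.val.obj (op ⊤))) 1) := by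
  obtain ⟨⟨e1⟩, ⟨e2⟩⟩ := main_lin F fs (((0 : ℕ) : ℤ) - fs.length) (by omega)
  have hq : ((0 : ℕ) : ℤ) - fs.length + 1 = ((1 : ℕ) : ℤ) - fs.length := by push_cast; ring
  rw [hq] at e2
  constructor
  · let e1' : LinearMap.ker (rho F (UU fs)).hom ≃+ TL fs (topMod F) (((0 : ℕ) : ℤ) - fs.length) :=
      e1.toAddEquiv
    exact ⟨e1'⟩
  · have hr : (LinearMap.range (rho F (UU fs)).hom).toAddSubgroup =
        ((Coh.toAb F).obj.map (homOfLE (le_top : (⨆ i : Fin fs.length, X.basicOpen (fs.get i)) ≤ ⊤)).op).hom.range := by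
      ext x
      rfl
    let e2' : (secMod F (UU fs) ⧸ LinearMap.range (rho F (UU fs)).hom) ≃+
        TL fs (topMod F) (((1 : ℕ) : ℤ) - fs.length) := e2.toAddEquiv
    exact ⟨(QuotientAddGroup.quotientAddEquivOfEq hr.symm).trans e2'⟩

end verify
end Groth.Agent.Lib.Helper4.KLC4
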