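import Mathlib
import Groth.Prelude.Def_CohB1
import Groth.Agent.Lib.Helper1.QcsLoc

/-!
# Cech cocycles of quasi-coherent modules for basic-open families on quasi-compact quasi-separated opens: power-of-g contracting homotopy (helper4)
-/

set_option backward.isDefEq.respectTransparency.types false
set_option synthInstance.maxHeartbeats 400000
set_option autoImplicit false
set_option linter.unusedSectionVars false
set_option linter.style.haveILetI false
set_option linter.unusedSimpArgs false
universe u v w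
open CategoryTheory CategoryTheory.Limits AlgebraicGeometry TopologicalSpace Opposite

namespace Groth.Agent.Lib.Helper4.KLC6
open Groth.Agent.Helper1 Groth.Agent.Helper1.QcCech Groth.Agent.Helper1.QcsLoc

variable {X : Scheme.{u}} (M : X.Modules) {U₀ : X.Opens} {ι : Type u} (g : ι → Γ(X, U₀))

attribute [local instance] modW

lemma W_cons_eq_inf {n : ℕ} (k : ι) (a : Fin (n + 1) → ι) :
    TCx.W (V g) (Fin.cons k a : Fin (n + 2) → ι) = TCx.W (V g) a ⊓ X.basicOpen (g k) := by
  apply le_antisymm
  · apply le_inf (W_cons_le g k a)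
    have := TCx.W_le (V g) (Fin.cons k a : Fin (n + 2) → ι) 0
    rwa [Fin.cons_zero] at this
  · apply TCx.le_W
    intro j
    refine Fin.cases ?_ (fun j' => ?_) j
    · rw [Fin.cons_zero]; exact inf_le_right
    · rw [Fin.cons_succ]; exact inf_le_left.trans (TCx.W_le (V g) a j')

section steps
variable [M.IsQuasicoherent] [Finite ι]
  (hc : ∀ (n : ℕ) (a : Fin (n + 1) → ι), IsCompact ((TCx.W (V g) a : X.Opens) : Set X))
  (hqs : IsQuasiSeparated (U₀ : Set X))

include hc hqs in
/-- extension of the `k`-th slice of a cochain after multiplication by a power of `g k` -/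
lemma step1' (k : ι) (n : ℕ) (x : Coch M g (n + 1)) :
    ∃ (N : ℕ) (y : Coch M g n), ∀ a, res M (W_cons_le g k a) (y a) = (g k) ^ N • x (Fin.cons k a) := by
  classical
  have : Fintype (Fin (n + 1) → ι) := Fintype.ofFinite _
  have h1 : ∀ a : Fin (n + 1) → ι, ∃ (m : ℕ) (t : Γ(M, TCx.W (V g) a)),
      res M (W_cons_le g k a) t = (g k) ^ m • x (Fin.cons k a) := by
    intro a
    have he := ext_of_isCompact M (g k) U₀ hqs (TCx.W (V g) a) (hc n a) (W_le_base g a)
    have h := W_cons_eq_inf g k a
    obtain ⟨m, t, ht⟩ := he (W_le_base g a) (res M h.symm.le (x (Fin.cons k a)))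
    refine ⟨m, t, ?_⟩
    have := congrArg (res M h.le) ht
    rw [res_res, res_rsmul, res_res, res_self] at this
    rw [smul_def]
    exact this
  choose m t ht using h1
  refine ⟨∑ a, m a, fun a => (g k) ^ ((∑ a, m a) - m a) • t a, fun a => ?_⟩
  have hle : m a ≤ ∑ a, m a := Finset.single_le_sum (f := m) (fun _ _ => Nat.zero_le _) (Finset.mem_univ a)
  rw [← resL_apply, map_smul, resL_apply, ht, ← mul_smul, ← pow_add, Nat.sub_add_cancel hle]

include hc hqs in
lemma step3' (k : ι) (n : ℕ) (x : Coch M g (n + 1)) (hx : D M g (n + 1) x = 0) :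
    ∃ (N : ℕ) (y : Coch M g n), D M g n y = (g k) ^ N • x := by
  classical
  have : Fintype (Fin (n + 2) → ι) := Fintype.ofFinite _
  obtain ⟨N, y, hy⟩ := step1' M g hc hqs k n x
  have h2 := step2 M g k n x hx N y hy
  have h3 : ∀ a' : Fin (n + 2) → ι, ∃ m : ℕ, (g k) ^ m • (D M g n y a' - (g k) ^ N • x a') = 0 := by
    intro a'
    have hk := kill_of_isCompact M (g k) (TCx.W (V g) a') (hc (n + 1) a')
    have h := W_cons_eq_inf g k a'
    obtain ⟨m, hm⟩ := hk (W_le_base g a') (D M g n y a' - (g k) ^ N • x a') (by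
      have := congrArg (res M h.symm.le) (h2 a')
      rw [res_res, map_zero] at this
      exact this)
    exact ⟨m, hm⟩
  choose m hm using h3
  refine ⟨(∑ a, m a) + N, (g k) ^ (∑ a, m a) • y, ?_⟩
  funext a'
  rw [map_smul]
  have hle : m a' ≤ ∑ a, m a :=
    Finset.single_le_sum (f := m) (fun _ _ => Nat.zero_le _) (Finset.mem_univ a')
  have h4 : (g k) ^ (∑ a, m a) • (D M g n y a' - (g k) ^ N • x a') = 0 := by
    rw [← Nat.sub_add_cancel hle, pow_add, mul_smul, hm, smul_zero]
  rw [smul_sub, sub_eq_zero] at h4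
  rw [Pi.smul_apply, Pi.smul_apply, h4, ← mul_smul, ← pow_add]

include hc hqs in
/-- exactness of the Čech complex on families, given a partition of unity -/
theorem exact_fam' (hg : Ideal.span (Set.range g) = ⊤) (n : ℕ) (x : Coch M g (n + 1))
    (hx : D M g (n + 1) x = 0) : ∃ y : Coch M g n, D M g n y = x := by
  classical
  have : Fintype ι := Fintype.ofFinite _
  choose N y hy using fun k => step3' M g hc hqs k n x hx
  set S := ∑ k, N k with hS
  have hspan : Ideal.span (Set.range fun k => (g k) ^ S) = ⊤ := by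
    have := Ideal.span_pow_eq_top _ hg S
    rwa [← Set.range_comp] at this
  have h1 : (1 : Γ(X, U₀)) ∈ Ideal.span (Set.range fun k => (g k) ^ S) := by
    rw [hspan]; trivial
  obtain ⟨c, hc'⟩ := Ideal.mem_span_range_iff_exists_fun.1 h1
  refine ⟨∑ k, (c k * (g k) ^ (S - N k)) • y k, ?_⟩
  rw [map_sum]
  have h2 : ∀ k, D M g n ((c k * (g k) ^ (S - N k)) • y k) = (c k * (g k) ^ S) • x := by
    intro k
    have hle : N k ≤ S :=
      Finset.single_le_sum (f := N) (fun _ _ => Nat.zero_le _) (Finset.mem_univ k)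
    rw [map_smul, hy, ← mul_smul, mul_assoc, ← pow_add, Nat.sub_add_cancel hle]
  simp only [h2]
  rw [← Finset.sum_smul, hc', one_smul]

include hc hqs in
theorem isZero_cechH' (hg : Ideal.span (Set.range g) = ⊤) (p : ℕ) :
    IsZero (CohTop.cechH M.presheaf (V g) (p + 1)) := by
  apply TCx.isZero_cechH_succ
  intro x hx
  let xf : Coch M g (p + 1) := fun a => (TCx.proj (V g) M.presheaf (p + 1) a).hom x
  have hxf : D M g (p + 1) xf = 0 := by
    funext a
    rw [D_apply]
    have := TCx.d_apply (V g) M.presheaf (p + 1) a x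
    rw [hx, map_zero] at this
    exact this.symm
  obtain ⟨yf, hyf⟩ := exact_fam' M g hc hqs hg p xf hxf
  obtain ⟨y, hy⟩ := TCx.exists_cochain (V g) M.presheaf p yf
  refine ⟨y, ?_⟩
  apply TCx.ext
  intro a
  rw [TCx.d_apply]
  have := congrFun hyf a
  rw [D_apply] at this
  simp only [hy]
  exact this

end steps

include g in
/-- the intersections are quasi-compact as soon as the basic opens are -/
lemma isCompact_W (h0 : ∀ i, IsCompact ((X.basicOpen (g i) : X.Opens) : Set X)) :
    ∀ (n : ℕ) (a : Fin (n + 1) → ι), IsCompact ((TCx.W (V g) a : X.Opens) : Set X) := by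
  intro n
  induction n with
  | zero =>
    intro a
    rw [W_zero_eq]
    exact h0 _
  | succ n ih =>
    intro a
    have h := W_cons_eq g (a 0) (Fin.tail a)
    rw [Fin.cons_self_tail] at h
    rw [h]
    exact AlgebraicGeometry.isCompact_basicOpen X (ih (Fin.tail a)) _


theorem cech_vanish_of_partition (X : Scheme.{u}) [X.IsSeparated] (n : ℕ)
    (f : Fin n → Γ(X, ⊤)) (hqc : ∀ i, IsCompact (X.basicOpen (f i) : Set X))
    (g : Fin n → Γ(X, ⨆ i, X.basicOpen (f i)))
    (hg : (Finset.univ.sum fun i => g i *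
      (X.presheaf.map (homOfLE (le_top : (⨆ i, X.basicOpen (f i)) ≤ ⊤)).op).hom (f i)) = 1)
    (G : X.Modules) [Coh.IsQCoh G] (p : ℕ) (hp : 0 < p) :
    Limits.IsZero (CohB1.cechH (fun i : ULift.{u} (Fin n) => X.basicOpen (f i.down)) G p) := by
  classical
  obtain ⟨p, rfl⟩ := Nat.exists_eq_succ_of_ne_zero hp.ne'
  let U₀ : X.Opens := ⨆ i, X.basicOpen (f i)
  let g' : ULift.{u} (Fin n) → Γ(X, U₀) := fun i => resR (le_top : U₀ ≤ ⊤) (f i.down)
  have hV : (fun i : ULift.{u} (Fin n) => X.basicOpen (f i.down)) = V g' := by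
    funext i
    show X.basicOpen (f i.down) = X.basicOpen (resR (le_top : U₀ ≤ ⊤) (f i.down))
    rw [resR]
    erw [Scheme.basicOpen_res]
    exact (inf_eq_right.mpr (le_iSup (fun i => X.basicOpen (f i)) i.down)).symm
  have hg' : Ideal.span (Set.range g') = ⊤ := by
    rw [Ideal.eq_top_iff_one, ← hg]
    refine Ideal.sum_mem _ (fun i _ => ?_)
    exact Ideal.mul_mem_left _ _ (Ideal.subset_span ⟨ULift.up i, rfl⟩)
  have h0 : ∀ i, IsCompact ((X.basicOpen (g' i) : X.Opens) : Set X) := by
    intro i
    have := congrFun hV i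
    show IsCompact ((V g' i : X.Opens) : Set X)
    rw [← this]
    exact hqc i.down
  have hqs : IsQuasiSeparated ((U₀ : X.Opens) : Set X) :=
    isQuasiSeparated_univ.of_subset (Set.subset_univ _)
  have h := isZero_cechH' G g' (isCompact_W g' h0) hqs hg' p
  unfold CohB1.cechH CohB1.cechHTop
  rw [hV]
  exact h

end Groth.Agent.Lib.Helper4.KLC6
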