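import Mathlib

/-!
# Homology of a cochain complex of abelian groups via an explicit model (kernel mod image) (helper4)
-/

set_option backward.isDefEq.respectTransparency.types false
set_option synthInstance.maxHeartbeats 400000
set_option autoImplicit false
set_option linter.unusedSectionVars false
set_option linter.style.haveILetI false
set_option linter.unusedSimpArgs false
universe u v w
open CategoryTheory CategoryTheory.Limits

namespace Groth.Agent.Lib.Helper4.KLC7

theorem nonempty_homology_addEquiv {A : Type u} [CommRing A]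
    (K : CochainComplex AddCommGrpCat.{u} ℕ) (n : ℕ)
    {C0 C1 C2 : Type u} [AddCommGroup C0] [AddCommGroup C1] [AddCommGroup C2]
    [Module A C0] [Module A C1] [Module A C2]
    (d0 : C0 →ₗ[A] C1) (d1 : C1 →ₗ[A] C2)
    (φ0 : K.X n ≃+ C0) (φ1 : K.X (n + 1) ≃+ C1) (φ2 : K.X (n + 2) ≃+ C2)
    (h0 : ∀ x, φ1 ((K.d n (n + 1)).hom x) = d0 (φ0 x))
    (h1 : ∀ x, φ2 ((K.d (n + 1) (n + 2)).hom x) = d1 (φ1 x)) :
    Nonempty (K.homology (n + 1) ≃+
      (↥(LinearMap.ker d1) ⧸ Submodule.comap (LinearMap.ker d1).subtype (LinearMap.range d0))) := by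
  let S := K.sc' n (n + 1) (n + 2)
  let iso1 : K.homology (n + 1) ≅ S.homology :=
    ShortComplex.homologyMapIso (K.isoSc' n (n + 1) (n + 2) (by simp) (by simp))
  let iso2 := iso1 ≪≫ S.abHomologyIso
  let E1 : K.homology (n + 1) ≃+ (AddMonoidHom.ker S.g.hom ⧸ AddMonoidHom.range S.abToCycles) :=
    iso2.addCommGroupIsoToAddEquiv
  have hk : ∀ x : K.X (n + 1), S.g.hom x = 0 ↔ d1 (φ1 x) = 0 := by
    intro x
    show (K.d (n + 1) (n + 2)).hom x = 0 ↔ _
    rw [← h1]
    constructor
    · intro h; rw [h, map_zero]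
    · intro h; exact φ2.injective (h.trans (map_zero φ2).symm)
  let e : AddMonoidHom.ker S.g.hom ≃+ ↥(LinearMap.ker d1) :=
    { toFun := fun x => ⟨φ1 x.1, LinearMap.mem_ker.mpr ((hk x.1).mp x.2)⟩
      invFun := fun z => ⟨φ1.symm z.1, (hk _).mpr (by
        rw [AddEquiv.apply_symm_apply]; exact LinearMap.mem_ker.mp z.2)⟩
      left_inv := fun x => Subtype.ext (φ1.symm_apply_apply x.1)
      right_inv := fun z => Subtype.ext (φ1.apply_symm_apply z.1)
      map_add' := fun x y => Subtype.ext (map_add φ1 x.1 y.1) }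
  have he : (AddMonoidHom.range S.abToCycles).map (e : AddMonoidHom.ker S.g.hom →+ ↥(LinearMap.ker d1)) =
      (Submodule.comap (LinearMap.ker d1).subtype (LinearMap.range d0)).toAddSubgroup := by
    ext z
    constructor
    · rintro ⟨_, ⟨y, rfl⟩, rfl⟩
      show (e (S.abToCycles y)).1 ∈ LinearMap.range d0
      exact ⟨φ0 y, (h0 y).symm⟩
    · intro hz
      obtain ⟨y, hy⟩ : z.1 ∈ LinearMap.range d0 := hz
      refine ⟨S.abToCycles (φ0.symm y), ⟨_, rfl⟩, ?_⟩
      apply Subtype.ext
      show φ1 ((K.d n (n + 1)).hom (φ0.symm y)) = z.1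
      rw [h0, AddEquiv.apply_symm_apply, hy]
  exact ⟨E1.trans (QuotientAddGroup.congr _ _ e he)⟩

end Groth.Agent.Lib.Helper4.KLC7
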