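import Mathlib
import Groth.Prelude.Def_ega3
import Groth.Prelude.Def_Coh
import Groth.Prelude.Def_CohB1
import Groth.Agent.Lib.Helper1.QcsLoc
import Groth.Agent.Lib.Helper4.KLC4
import Groth.Agent.Lib.Helper4.KLC5
import Groth.Agent.Lib.Helper4.KLC2u
import Groth.Agent.Lib.Helper4.KLC6
import Groth.Agent.Lib.Helper4.KLC7

/-!
# Cech cohomology of a basic-open family on a quasi-compact separated scheme as Koszul direct limits (helper4)
-/

set_option backward.isDefEq.respectTransparency.types false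
set_option synthInstance.maxHeartbeats 400000
set_option autoImplicit false
set_option linter.unusedSectionVars false
set_option linter.style.haveILetI false
set_option linter.unusedSimpArgs false
universe u v w
open CategoryTheory CategoryTheory.Limits AlgebraicGeometry TopologicalSpace Opposite CohIII

namespace Groth.Agent.Lib.Helper4.KLC8
open Groth.Agent.Helper1 Groth.Agent.Helper1.QcCech Groth.Agent.Helper1.QcsLoc
open Groth.Agent.Helper9.KosLim
open Groth.Agent.Lib.Helper4 Groth.Agent.Lib.Helper4.KLC1 Groth.Agent.Lib.Helper4.KLC3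

variable {X : Scheme.{u}} (F : X.Modules) (fs : List Γ(X, ⊤))

/-- the index type -/
abbrev II : Type u := ULift.{u} (Fin fs.length)

/-- the family of functions -/
def gg : II fs → Γ(X, ⊤) := fun i => fs.get i.down

theorem gg_mem (i : II fs) : gg fs i ∈ fs := List.get_mem fs i.down

attribute [local instance] modW

/-- the `a`-th factor as a module over global functions -/
noncomputable def Pm (n : ℕ) (a : Fin (n + 1) → II fs) : ModuleCat.{u} Γ(X, ⊤) :=
  @ModuleCat.of Γ(X, ⊤) _ Γ(F, TCx.W (V (gg fs)) a) _ (modW F (gg fs) a)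

/-- the module of Čech cochains -/
noncomputable abbrev Cn (n : ℕ) : ModuleCat.{u} Γ(X, ⊤) := KLC2u.PP (Pm F fs n)

/-- the Čech differential -/
noncomputable def dn (n : ℕ) : Cn F fs n ⟶ Cn F fs (n + 1) :=
  show ModuleCat.of Γ(X, ⊤) (Coch F (gg fs) n) ⟶ ModuleCat.of Γ(X, ⊤) (Coch F (gg fs) (n + 1)) from
    ModuleCat.ofHom (D F (gg fs) n)

theorem dn_apply (n : ℕ) (x : Coch F (gg fs) n) : (dn F fs n).hom x = D F (gg fs) n x := rfl


/-- cochains of Mathlib's Čech complex as families -/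
noncomputable def phiFun (n : ℕ) (y : (TCx.K (V (gg fs)) F.presheaf).X n) : Coch F (gg fs) n :=
  fun a => (TCx.proj (V (gg fs)) F.presheaf n a).hom y

theorem phi_d (n : ℕ) (y : (TCx.K (V (gg fs)) F.presheaf).X n) :
    phiFun F fs (n + 1) (((TCx.K (V (gg fs)) F.presheaf).d n (n + 1)).hom y) =
      D F (gg fs) n (phiFun F fs n y) := by
  funext a
  rw [D_apply]
  exact TCx.d_apply (V (gg fs)) F.presheaf n a y

/-- the identification of cochains with families, as an additive equivalence -/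
noncomputable def phiEquiv (n : ℕ) : (TCx.K (V (gg fs)) F.presheaf).X n ≃+ Coch F (gg fs) n :=
  AddEquiv.ofBijective
    (AddMonoidHom.mk' (phiFun F fs n) (by
      intro x y
      funext a
      exact map_add (TCx.proj (V (gg fs)) F.presheaf n a).hom x y))
    ⟨fun x y h => TCx.ext (V (gg fs)) F.presheaf n x y (fun a => congrFun h a),
     fun z => by
      obtain ⟨y, hy⟩ := TCx.exists_cochain (V (gg fs)) F.presheaf n z
      exact ⟨y, funext hy⟩⟩

theorem phiEquiv_apply (n : ℕ) (y : (TCx.K (V (gg fs)) F.presheaf).X n) :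
    phiEquiv F fs n y = phiFun F fs n y := rfl

theorem D_D (n : ℕ) (x : Coch F (gg fs) n) : D F (gg fs) (n + 1) (D F (gg fs) n x) = 0 := by
  obtain ⟨y, rfl⟩ := (phiEquiv F fs n).surjective x
  rw [phiEquiv_apply, ← phi_d, ← phi_d]
  have h : ((TCx.K (V (gg fs)) F.presheaf).d (n + 1) (n + 2)).hom
      (((TCx.K (V (gg fs)) F.presheaf).d n (n + 1)).hom y) = 0 := by
    rw [← ConcreteCategory.comp_apply, HomologicalComplex.d_comp_d]
    rfl
  rw [h]
  funext a
  exact map_zero (TCx.proj (V (gg fs)) F.presheaf (n + 2) a).hom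

theorem hd (n : ℕ) (x : Cn F fs n) : (dn F fs (n + 1)).hom ((dn F fs n).hom x) = 0 :=
  D_D F fs n x

/-- bijectivity of multiplication by a power of the first function of the tuple -/
theorem hbijP (n : ℕ) (a : Fin (n + 1) → II fs) (k : ℕ) :
    Function.Bijective (fun x : Pm F fs n a => gg fs (a 0) ^ k • x) := by
  have hle : TCx.W (V (gg fs)) a ≤ X.basicOpen (gg fs (a 0)) := TCx.W_le (V (gg fs)) a 0
  obtain ⟨u, hu⟩ := KLC4.isUnit_resR_pow (gg fs (a 0)) hle k
  have key : ∀ x : Γ(F, TCx.W (V (gg fs)) a),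
      ((gg fs (a 0) ^ k • (show Pm F fs n a from x) : Pm F fs n a) : Γ(F, TCx.W (V (gg fs)) a))
        = (u : Γ(X, TCx.W (V (gg fs)) a)) • x := by
    intro x
    rw [hu]
    rfl
  rw [Function.bijective_iff_has_inverse]
  refine ⟨fun x => (show Pm F fs n a from
    ((u⁻¹ : Units _) : Γ(X, TCx.W (V (gg fs)) a)) • (show Γ(F, TCx.W (V (gg fs)) a) from x)), ?_, ?_⟩
  · intro x
    show ((u⁻¹ : Units _) : Γ(X, TCx.W (V (gg fs)) a)) • (show Γ(F, TCx.W (V (gg fs)) a) from
      (gg fs (a 0) ^ k • x : Pm F fs n a)) = (show Γ(F, TCx.W (V (gg fs)) a) from x)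
    erw [key]
    rw [smul_smul, Units.inv_mul, one_smul]
  · intro x
    show (show Γ(F, TCx.W (V (gg fs)) a) from (gg fs (a 0) ^ k • (show Pm F fs n a from
      ((u⁻¹ : Units _) : Γ(X, TCx.W (V (gg fs)) a)) • (show Γ(F, TCx.W (V (gg fs)) a) from x)))) =
      (show Γ(F, TCx.W (V (gg fs)) a) from x)
    erw [key]
    rw [smul_smul, Units.mul_inv, one_smul]

theorem hC (n : ℕ) (q : ℤ) : Subsingleton (TL fs (Cn F fs n) q) :=
  KLC2u.subsingleton_TL_prod (Pm F fs n) fs (fun a => gg fs (a 0)) (fun a => gg_mem fs (a 0))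
    (hbijP F fs n) q

theorem htf (n : ℕ) (x : Cn F fs n) (hx : ∀ f ∈ fs, ∃ k : ℕ, f ^ k • x = 0) : x = 0 :=
  KLC2u.torsionFree_PP (Pm F fs n) (fun a => gg fs (a 0)) (hbijP F fs n) x
    (fun a => hx _ (gg_mem fs (a 0)))


section qc
variable [CompactSpace X] [X.IsSeparated] [F.IsQuasicoherent]

theorem hcW : ∀ (n : ℕ) (a : Fin (n + 1) → II fs),
    IsCompact ((TCx.W (V (gg fs)) a : X.Opens) : Set X) :=
  KLC6.isCompact_W (gg fs) (fun i => AlgebraicGeometry.isCompact_basicOpen X (U := ⊤) isCompact_univ _)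

omit [CompactSpace X] in
theorem hqsTop : IsQuasiSeparated (((⊤ : X.Opens) : X.Opens) : Set X) := by
  rw [Opens.coe_top]; exact isQuasiSeparated_univ

theorem htor (n : ℕ) (x : Cn F fs (n + 1)) (hx : (dn F fs (n + 1)).hom x = 0) (f : Γ(X, ⊤))
    (hf : f ∈ fs) : ∃ (k : ℕ) (y : Cn F fs n), (dn F fs n).hom y = f ^ k • x := by
  obtain ⟨i, rfl⟩ := List.mem_iff_get.mp hf
  obtain ⟨N, y, hy⟩ := KLC6.step3' F (gg fs) (hcW fs) hqsTop (ULift.up i) n x hx
  exact ⟨N, y, hy⟩

end qc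


/-- restriction of a global section to the members of the family -/
noncomputable def rho0 : KLC4.topMod F ⟶ Cn F fs 0 :=
  show KLC4.topMod F ⟶ ModuleCat.of Γ(X, ⊤) (Coch F (gg fs) 0) from
    ModuleCat.ofHom (LinearMap.pi fun a => KLC4.rhoLin F (TCx.W (V (gg fs)) a))

theorem rho0_apply (m : KLC4.topMod F) (a : Fin 1 → II fs) :
    (show Coch F (gg fs) 0 from (rho0 F fs).hom m) a = res F (le_top : TCx.W (V (gg fs)) a ≤ ⊤) m := rfl

theorem D0_const (z : Coch F (gg fs) 0) (m : Γ(F, ⊤))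
    (hz : ∀ a, z a = res F (le_top : TCx.W (V (gg fs)) a ≤ ⊤) m) : D F (gg fs) 0 z = 0 := by
  funext b
  rw [D_apply, Fin.sum_univ_two, hz, hz, res_res, res_res]
  show (-1 : ℤ) ^ ((0 : Fin 2) : ℕ) • _ + (-1 : ℤ) ^ ((1 : Fin 2) : ℕ) • _ = 0
  rw [Fin.val_zero, Fin.val_one, pow_zero, pow_one, one_smul, neg_smul, one_smul]
  exact add_neg_cancel _

theorem rho0_d (m : KLC4.topMod F) : (dn F fs 0).hom ((rho0 F fs).hom m) = 0 :=
  D0_const F fs _ m (fun a => rho0_apply F fs m a)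

/-- restriction to the members of the family, landing in the zero-cocycles -/
noncomputable def rho' : KLC4.topMod F ⟶ KLC5.Zm (Cn F fs) (dn F fs) 0 :=
  ModuleCat.ofHom (LinearMap.codRestrict (LinearMap.ker (dn F fs 0).hom) (rho0 F fs).hom
    (fun m => LinearMap.mem_ker.mpr (rho0_d F fs m)))

theorem rho'_apply (m : KLC4.topMod F) : ((rho' F fs).hom m).1 = (rho0 F fs).hom m := rfl


section qc2
variable [CompactSpace X] [X.IsSeparated] [F.IsQuasicoherent]

omit [X.IsSeparated] in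
theorem hker' (m : KLC4.topMod F) (hm : (rho' F fs).hom m = 0) (f : Γ(X, ⊤)) (hf : f ∈ fs) :
    ∃ n : ℕ, f ^ n • m = 0 := by
  obtain ⟨i, rfl⟩ := List.mem_iff_get.mp hf
  let a0 : Fin 1 → II fs := fun _ => ULift.up i
  have h0 : res F (le_top : TCx.W (V (gg fs)) a0 ≤ ⊤) (show Γ(F, ⊤) from m) = 0 := by
    have := congrArg Subtype.val hm
    exact congrFun this a0
  have hk := kill_of_isCompact F (fs.get i) ⊤ isCompact_univ
  have h1 : (⊤ ⊓ X.basicOpen (fs.get i) : X.Opens) ≤ TCx.W (V (gg fs)) a0 := by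
    rw [W_zero_eq]
    exact inf_le_right
  obtain ⟨n, hn⟩ := hk le_rfl (show Γ(F, ⊤) from m) (by
    have := congrArg (res F h1) h0
    rw [res_res, map_zero] at this
    exact this)
  refine ⟨n, ?_⟩
  rw [rsmul, KLC4.resR_self] at hn
  exact hn

theorem hcok' (z : KLC5.Zm (Cn F fs) (dn F fs) 0) (f : Γ(X, ⊤)) (hf : f ∈ fs) :
    ∃ (n : ℕ) (m : KLC4.topMod F), (rho' F fs).hom m = f ^ n • z := by
  classical
  obtain ⟨j, rfl⟩ := List.mem_iff_get.mp hf
  let z0 : Coch F (gg fs) 0 := z.1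
  have hz0 : D F (gg fs) 0 z0 = 0 := LinearMap.mem_ker.mp z.2
  let k : II fs := ULift.up j
  let a0 : Fin 1 → II fs := fun _ => k
  have he := ext_of_isCompact F (fs.get j) ⊤ hqsTop ⊤ (by rw [Opens.coe_top]; exact isCompact_univ)
    le_rfl
  have h1 : (⊤ ⊓ X.basicOpen (fs.get j) : X.Opens) ≤ TCx.W (V (gg fs)) a0 := by
    rw [W_zero_eq]
    exact inf_le_right
  obtain ⟨n, t, ht⟩ := he le_rfl (res F h1 (z0 a0))
  -- the key vanishing on each member
  have h2 : ∀ a : Fin 1 → II fs, ∃ ka : ℕ, rsmul F (W_le_base (gg fs) a) (fs.get j ^ ka)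
      (res F (le_top : TCx.W (V (gg fs)) a ≤ ⊤) t - rsmul F (W_le_base (gg fs) a) (fs.get j ^ n) (z0 a)) = 0 := by
    intro a
    let b : Fin 2 → II fs := Fin.cons k a
    have hb : TCx.W (V (gg fs)) b = TCx.W (V (gg fs)) a ⊓ X.basicOpen (fs.get j) :=
      KLC6.W_cons_eq_inf (gg fs) k a
    have hba : TCx.W (V (gg fs)) b ≤ TCx.W (V (gg fs)) a := W_cons_le (gg fs) k a
    have hba0 : TCx.W (V (gg fs)) b ≤ TCx.W (V (gg fs)) a0 := by
      rw [W_zero_eq]
      have := TCx.W_le (V (gg fs)) b 0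
      exact this
    -- cocycle condition
    have hstar : res F hba (z0 a) = res F hba0 (z0 a0) := by
      have hc := congrFun hz0 b
      rw [D_apply, Fin.sum_univ_two] at hc
      have e0 : res F (TCx.W_face_le (V (gg fs)) b 0) (z0 (fun l => b ((0 : Fin 2).succAbove l))) =
          res F hba (z0 a) := res_congr F (gg fs) z0 (cons_comp_zero k a) _ _
      have e1 : res F (TCx.W_face_le (V (gg fs)) b 1) (z0 (fun l => b ((1 : Fin 2).succAbove l))) =
          res F hba0 (z0 a0) := res_congr F (gg fs) z0 (by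
            funext l
            obtain rfl : l = 0 := Fin.fin_one_eq_zero l
            rfl) _ _
      rw [e0, e1] at hc
      have hc' : res F hba (z0 a) + (-1 : ℤ) • res F hba0 (z0 a0) = 0 := by
        simpa using hc
      rw [neg_smul, one_smul, add_neg_eq_zero] at hc'
      exact hc'
    have hclaim : res F hba (res F (le_top : TCx.W (V (gg fs)) a ≤ ⊤) t -
        rsmul F (W_le_base (gg fs) a) (fs.get j ^ n) (z0 a)) = 0 := by
      rw [map_sub, sub_eq_zero, res_res, res_rsmul, hstar]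
      have h3 := congrArg (res F (hb.le.trans (inf_le_inf_right _ le_top) :
        TCx.W (V (gg fs)) b ≤ ⊤ ⊓ X.basicOpen (fs.get j))) ht
      rw [res_res, res_rsmul, res_res] at h3
      exact h3
    have hk := kill_of_isCompact F (fs.get j) (TCx.W (V (gg fs)) a) (hcW fs 0 a)
    exact hk (W_le_base (gg fs) a) _ (by
      have := congrArg (res F hb.symm.le) hclaim
      rw [res_res, map_zero] at this
      exact this)
  choose ka hka using h2
  let K := ∑ a, ka a
  refine ⟨K + n, (show KLC4.topMod F from (fs.get j ^ K • t : Γ(F, ⊤))), ?_⟩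
  apply Subtype.ext
  show (rho0 F fs).hom _ = (fs.get j ^ (K + n) • z0 : Coch F (gg fs) 0)
  funext a
  have hle : ka a ≤ K := Finset.single_le_sum (f := ka) (fun _ _ => Nat.zero_le _) (Finset.mem_univ a)
  have h4 : rsmul F (W_le_base (gg fs) a) (fs.get j ^ K)
      (res F (le_top : TCx.W (V (gg fs)) a ≤ ⊤) t - rsmul F (W_le_base (gg fs) a) (fs.get j ^ n) (z0 a)) = 0 := by
    rw [← Nat.sub_add_cancel hle, rsmul_pow_add, hka, rsmul_zero]
  rw [rsmul_sub, sub_eq_zero] at h4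
  show res F (le_top : TCx.W (V (gg fs)) a ≤ ⊤) (fs.get j ^ K • t : Γ(F, ⊤)) =
    rsmul F (W_le_base (gg fs) a) (fs.get j ^ (K + n)) (z0 a)
  rw [rsmul_pow_add, ← h4, res_smul]
  rfl

end qc2


theorem cech_koszul (X : Scheme.{u}) [CompactSpace X] [X.IsSeparated]
    (fs : List Γ(X, ⊤)) (F : X.Modules) [Coh.IsQCoh F] (p : ℕ) (hp : 1 ≤ p) :
    Nonempty (↑(CohB1.cechH (fun i : ULift.{u} (Fin fs.length) => X.basicOpen (fs.get i.down)) F p) ≃+ CohIII.koszulHLim fs (ModuleCat.of Γ(X, ⊤) (F.val.obj (op ⊤))) (p + 1)) := by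
  obtain ⟨n, rfl⟩ : ∃ n, p = n + 1 := ⟨p - 1, by omega⟩
  obtain ⟨E1⟩ := KLC7.nonempty_homology_addEquiv (A := Γ(X, ⊤)) (TCx.K (V (gg fs)) F.presheaf) n
    (dn F fs n).hom (dn F fs (n + 1)).hom (phiEquiv F fs n) (phiEquiv F fs (n + 1))
    (phiEquiv F fs (n + 2)) (fun x => phi_d F fs n x) (fun x => phi_d F fs (n + 1) x)
  have hq0 : (-(fs.length : ℤ)) + fs.length = 0 := by ring
  obtain ⟨E2⟩ := KLC5.nonempty_Hm_equiv fs (Cn F fs) (dn F fs) (hd F fs) (hC F fs) (htf F fs)
    (htor F fs) n (-(fs.length : ℤ)) hq0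
  obtain ⟨E3⟩ := KLC5.nonempty_TL_equiv_of_torsion fs (rho' F fs) (hker' F fs) (hcok' F fs)
    (-(fs.length : ℤ) + 2 + n) (by omega)
  have hq : -(fs.length : ℤ) + 2 + n = ((n + 1 + 1 : ℕ) : ℤ) - fs.length := by push_cast; ring
  let E4 := KLC5.TLcast fs (KLC4.topMod F) hq
  exact ⟨E1.trans (E2.toAddEquiv.trans (E3.symm.toAddEquiv.trans E4.toAddEquiv))⟩

end Groth.Agent.Lib.Helper4.KLC8
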