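import Mathlib
import Groth.Prelude.Def_LocCohZ
import Groth.Agent.Lib.Helper1.QcAcyc

/-!
# Cohomology with supports: connecting map when the cohomology of the ambient open vanishes (helper4)
-/

set_option backward.isDefEq.respectTransparency.types false
set_option synthInstance.maxHeartbeats 400000
set_option autoImplicit false
set_option linter.unusedSectionVars false
set_option linter.style.haveILetI false
set_option linter.unusedSimpArgs false
universe u v w
open CategoryTheory CategoryTheory.Limits AlgebraicGeometry TopologicalSpace Opposite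

namespace Groth.Agent.Lib.Helper4.LCZ1

section top
variable {X : TopCat.{u}} (F : CohTop.Ab X) {W V : Opens X} (h : W ≤ V)

/-- surjectivity of the connecting map when the cohomology of the larger open vanishes -/
theorem delta_surjective (i : ℕ) (hV : Subsingleton (CohTop.HU F (i + 1) V)) :
    Function.Surjective (LocCohZ.delta F i h) := by
  intro x
  have h0 : (Abelian.Ext.mk₀ (LocCohZ.zqSeq h).g).comp x (zero_add (i + 1)) = 0 :=
    Subsingleton.elim (α := CohTop.HU F (i + 1) V) _ _
  obtain ⟨x₁, hx₁⟩ := Abelian.Ext.contravariant_sequence_exact₃ (LocCohZ.zqSeq_shortExact h) F x h0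
    (show 1 + i = i + 1 by omega)
  exact ⟨x₁, hx₁⟩

/-- injectivity of the connecting map when the cohomology of the larger open vanishes -/
theorem delta_injective (i : ℕ) (hV : Subsingleton (CohTop.HU F i V)) :
    Function.Injective (LocCohZ.delta F i h) := by
  rw [injective_iff_map_eq_zero]
  intro x hx
  obtain ⟨x₂, hx₂⟩ := Abelian.Ext.contravariant_sequence_exact₁ (LocCohZ.zqSeq_shortExact h) F x
    (show 1 + i = i + 1 by omega) hx
  have : x₂ = 0 := Subsingleton.elim (α := CohTop.HU F i V) _ _
  rw [← hx₂, this, Abelian.Ext.comp_zero]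
  rfl

end top

theorem s6031 (Y : Scheme.{u}) [IsAffine Y] (M : Y.Modules)
    (hM : Coh.IsQCoh M) (U : Y.Opens) :
    Function.Surjective (LocCohZ.delta (X := Y.carrier) (Coh.toAb M) 0 (le_top : U ≤ ⊤)) ∧
      ∀ i : ℕ, 1 ≤ i →
        Function.Bijective (LocCohZ.delta (X := Y.carrier) (Coh.toAb M) i (le_top : U ≤ ⊤)) := by
  haveI : M.IsQuasicoherent := hM
  have hv : ∀ p : ℕ, Subsingleton (CohTop.HU (Coh.toAb M) (p + 1) (⊤ : Y.Opens)) := fun p =>
    Groth.Agent.Helper1.QcAcyc.subsingleton_HU M ⊤ (isAffineOpen_top Y) p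
  refine ⟨delta_surjective _ _ 0 (hv 0), fun i hi => ⟨?_, delta_surjective _ _ i (hv i)⟩⟩
  obtain ⟨j, rfl⟩ : ∃ j, i = j + 1 := ⟨i - 1, by omega⟩
  exact delta_injective _ _ (j + 1) (hv j)

end Groth.Agent.Lib.Helper4.LCZ1
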