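import Mathlib
import Groth.Prelude.Def_LocCohZ
import Groth.Agent.Lib.Helper4.LCZ1
import Groth.Agent.Lib.Helper3.H0Iso

/-!
# Cohomology with supports in degree one as a cokernel of restriction (helper4)
-/

set_option backward.isDefEq.respectTransparency.types false
set_option synthInstance.maxHeartbeats 400000
set_option autoImplicit false
set_option linter.unusedSectionVars false
set_option linter.style.haveILetI false
set_option linter.unusedSimpArgs false
universe u v w
open CategoryTheory CategoryTheory.Limits TopologicalSpace Opposite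

namespace Groth.Agent.Lib.Helper4.LCZ2
open Groth.Agent.Lib.Helper4 Groth.Agent.Helper3

variable {X : TopCat.{u}} (G : CohTop.Ab X) {W V : Opens X} (h : W ≤ V)

theorem ker_delta_zero :
    (LocCohZ.delta G 0 h).ker = (CohTop.res G 0 h).range := by
  ext x
  constructor
  · intro hx
    obtain ⟨x₂, hx₂⟩ := Abelian.Ext.contravariant_sequence_exact₁ (LocCohZ.zqSeq_shortExact h) G x
      (show 1 + 0 = 0 + 1 by omega) hx
    exact ⟨x₂, hx₂⟩
  · rintro ⟨y, rfl⟩
    exact (LocCohZ.zqSeq_shortExact h).extClass_comp_assoc (Y := G) (n := 0) y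
      (h := (show 1 + 0 = 0 + 1 by omega))

/-- `H^1` with supports as a cokernel when `H^1` of the ambient open vanishes -/
theorem nonempty_HZ1_equiv (hV : Subsingleton (CohTop.HU G 1 V)) :
    Nonempty (LocCohZ.HZ G 1 h ≃+
      (G.obj.obj (op W) ⧸ (G.obj.map (homOfLE h).op).hom.range)) := by
  have hs := LCZ1.delta_surjective G h 0 hV
  let E1 := QuotientAddGroup.quotientKerEquivOfSurjective (LocCohZ.delta G 0 h) hs
  let e := H0Iso.compEquiv (Opens.grothendieckTopology X) G W
  have he : ((LocCohZ.delta G 0 h).ker).map (e : CohTop.HU G 0 W →+ G.obj.obj (op W)) =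
      (G.obj.map (homOfLE h).op).hom.range := by
    rw [ker_delta_zero]
    ext z
    constructor
    · rintro ⟨_, ⟨y, rfl⟩, rfl⟩
      refine ⟨H0Iso.compEquiv (Opens.grothendieckTopology X) G V y, ?_⟩
      exact (H0Iso.compEquiv_naturality (Opens.grothendieckTopology X) G (homOfLE h) y).symm
    · rintro ⟨s, rfl⟩
      refine ⟨CohTop.res G 0 h ((H0Iso.compEquiv (Opens.grothendieckTopology X) G V).symm s),
        ⟨_, rfl⟩, ?_⟩
      have := H0Iso.compEquiv_naturality (Opens.grothendieckTopology X) G (homOfLE h)
        ((H0Iso.compEquiv (Opens.grothendieckTopology X) G V).symm s)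
      rw [AddEquiv.apply_symm_apply] at this
      exact this
  exact ⟨E1.symm.trans (QuotientAddGroup.congr _ _ e he)⟩

end Groth.Agent.Lib.Helper4.LCZ2
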