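import Mathlib
import Groth.Prelude.Def_ega3
import Groth.Prelude.Def_Coh
import Groth.Prelude.Def_CohB1
import Groth.Prelude.Def_LocCohZ
import Groth.Prelude.Def_Wider
import Groth.Agent.Lib.Helper4.KLC8
import Groth.Agent.Lib.Helper4.KLC10
import Groth.Agent.Lib.Helper4.LCZ1
import Groth.Agent.Lib.Helper4.LCZ2
import Groth.Agent.Lib.Helper1.QcAcyc
import Groth.Agent.Lib.Helper3.H0Iso
import Groth.Agent.S0464

/-!
# Koszul direct limits over a ring and cohomology with supports of the associated sheaf on the spectrum (helper4)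
-/

set_option backward.isDefEq.respectTransparency.types false
set_option synthInstance.maxHeartbeats 400000
set_option autoImplicit false
set_option linter.unusedSectionVars false
set_option linter.style.haveILetI false
set_option linter.unusedSimpArgs false
universe u v w
open CategoryTheory CategoryTheory.Limits AlgebraicGeometry TopologicalSpace Opposite CohIII

namespace Groth.Agent.Lib.Helper4.KLC11
open Groth.Agent.Helper1 Groth.Agent.Helper1.QcCech Groth.Agent.Helper1.QcsLoc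
open Groth.Agent.Helper9.KosLim
open Groth.Agent.Lib.Helper4 Groth.Agent.Lib.Helper4.KLC1 Groth.Agent.Lib.Helper4.KLC3

variable (A : Type u) [CommRing A] (M : Type u) [AddCommGroup M] [Module A M] (fs : List A)

/-- the affine scheme -/
noncomputable abbrev XX : Scheme.{u} := Spec (CommRingCat.of A)

/-- the ring map to global functions -/
noncomputable def psi : A →+* Γ(XX A, ⊤) := (Scheme.ΓSpecIso (CommRingCat.of A)).inv.hom

/-- the associated sheaf -/
noncomputable abbrev FF : (XX A).Modules := tilde (R := CommRingCat.of A) (ModuleCat.of A M)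

/-- the list of global functions -/
noncomputable abbrev fsA : List Γ(XX A, ⊤) := fs.map (psi A)

theorem basicOpen_psi (f : A) : (XX A).basicOpen (psi A f) = PrimeSpectrum.basicOpen f :=
  AlgebraicGeometry.basicOpen_eq_of_affine (R := CommRingCat.of A) f

theorem UU_eq : KLC4.UU (fsA A fs) = LocCoh.puncturedOpen A (Ideal.span {a | a ∈ fs}) := by
  apply le_antisymm
  · apply iSup_le
    intro i
    have h1 : (fsA A fs).get i = psi A (fs.get (i.cast (List.length_map _))) := by
      simp [fsA]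
    rw [h1, basicOpen_psi]
    intro x hx
    show x ∈ (PrimeSpectrum.zeroLocus (R := A) ((Ideal.span {a | a ∈ fs} : Ideal A) : Set A))ᶜ
    intro hx0
    apply hx
    exact hx0 (Ideal.subset_span (List.get_mem fs _))
  · intro x hx
    have hx' : x ∉ PrimeSpectrum.zeroLocus (R := A) ((Ideal.span {a | a ∈ fs} : Ideal A) : Set A) := hx
    rw [PrimeSpectrum.zeroLocus_span] at hx'
    have : ∃ f ∈ fs, f ∉ x.asIdeal := by
      by_contra hcon
      push Not at hcon
      exact hx' (fun f hf => hcon f hf)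
    obtain ⟨f, hf, hfx⟩ := this
    obtain ⟨i, rfl⟩ := List.mem_iff_get.mp hf
    have hi : (fsA A fs).get (i.cast (List.length_map _).symm) = psi A (fs.get i) := by
      simp [fsA]
    have hxb : x ∈ (XX A).basicOpen ((fsA A fs).get (i.cast (List.length_map _).symm)) := by
      rw [hi, basicOpen_psi]
      exact hfx
    exact (le_iSup (fun i : Fin (fsA A fs).length => (XX A).basicOpen ((fsA A fs).get i)) _) hxb


/-- the comparison map from the module to the global sections of its sheaf, as a function -/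
noncomputable def tauFun (m : M) : Γ(FF A M, ⊤) :=
  (tilde.toOpen (R := CommRingCat.of A) (ModuleCat.of A M) ⊤).hom m

theorem tauFun_smul (r : A) (m : M) : tauFun A M (r • m) = psi A r • tauFun A M m := by
  have h1 := map_smul (tilde.toOpen (R := CommRingCat.of A) (ModuleCat.of A M) ⊤).hom r m
  refine h1.trans ?_
  have h2 := Scheme.Modules.smul_Spec_def (R := CommRingCat.of A) (M := FF A M) (U := ⊤) r
    (tauFun A M m)
  refine h2.trans ?_
  show resR (le_top : (⊤ : (XX A).Opens) ≤ ⊤) (psi A r) • tauFun A M m = psi A r • tauFun A M m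
  rw [KLC4.resR_self]

/-- the comparison map from the module to the global sections of its sheaf, over `A` -/
noncomputable def tau : ModuleCat.of A M ⟶
    (ModuleCat.restrictScalars (psi A)).obj (KLC4.topMod (FF A M)) :=
  ModuleCat.ofHom (Y := (ModuleCat.restrictScalars (psi A)).obj (KLC4.topMod (FF A M)))
    { toFun := fun m => tauFun A M m
      map_add' := fun a b =>
        map_add (tilde.toOpen (R := CommRingCat.of A) (ModuleCat.of A M) ⊤).hom a b
      map_smul' := fun r m => tauFun_smul A M r m }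

theorem tau_apply (m : M) : (tau A M).hom m = tauFun A M m := rfl

theorem tau_bijective : Function.Bijective (tau A M).hom := by
  have h : IsIso (tilde.toOpen (R := CommRingCat.of A) (ModuleCat.of A M) ⊤) :=
    tilde.isIso_toOpen_top (R := CommRingCat.of A) (M := ModuleCat.of A M)
  have hb := (ConcreteCategory.isIso_iff_bijective _).mp h
  exact hb


section general
variable {X : Scheme.{u}} (F : X.Modules) {R : Type u} [CommRing R] (ψ : R →+* Γ(X, ⊤)) (fs : List R)

/-- the element of the small ring attached to a tuple -/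
noncomputable def gR {n : ℕ} (a : Fin (n + 1) → KLC8.II (fs.map ψ)) : R :=
  fs.get ((a 0).down.cast (List.length_map _))

theorem gR_mem {n : ℕ} (a : Fin (n + 1) → KLC8.II (fs.map ψ)) : gR ψ fs a ∈ fs := List.get_mem _ _

theorem psi_gR {n : ℕ} (a : Fin (n + 1) → KLC8.II (fs.map ψ)) :
    ψ (gR ψ fs a) = KLC8.gg (fs.map ψ) (a 0) := by
  simp [gR, KLC8.gg]

theorem hC_rs (n : ℕ) (q : ℤ) :
    Subsingleton (TL fs ((ModuleCat.restrictScalars ψ).obj (KLC8.Cn F (fs.map ψ) n)) q) := by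
  have h := KLC2u.subsingleton_TL_prod
    (fun a => (ModuleCat.restrictScalars ψ).obj (KLC8.Pm F (fs.map ψ) n a)) fs
    (fun a => gR ψ fs a) (fun a => gR_mem ψ fs a)
    (by
      intro a k
      have h1 : (fun x : (ModuleCat.restrictScalars ψ).obj (KLC8.Pm F (fs.map ψ) n a) =>
          gR ψ fs a ^ k • x) =
          (fun x : KLC8.Pm F (fs.map ψ) n a => KLC8.gg (fs.map ψ) (a 0) ^ k • x) := by
        funext x
        rw [← psi_gR]
        exact KLC10.rs_pow_smul ψ _ (gR ψ fs a) k x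
      rw [h1]
      exact KLC8.hbijP F (fs.map ψ) n a k) q
  exact h

attribute [local instance] modW in
/-- Koszul-limit description over a small ring of the cohomology of a complex modelled on Čech families -/
theorem koszul_of_model_rs [CompactSpace X] [X.IsSeparated] [F.IsQuasicoherent]
    {MR : ModuleCat.{u} R} (τ : MR ⟶ (ModuleCat.restrictScalars ψ).obj (KLC4.topMod F))
    (hτ : Function.Bijective τ.hom)
    (K : CochainComplex AddCommGrpCat.{u} ℕ)
    (φ : ∀ n, K.X n ≃+ Coch F (KLC8.gg (fs.map ψ)) n)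
    (hφ : ∀ n x, φ (n + 1) ((K.d n (n + 1)).hom x) = D F (KLC8.gg (fs.map ψ)) n (φ n x))
    (p : ℕ) (hp : 1 ≤ p) :
    Nonempty (↑(K.homology p) ≃+ TL fs MR (((p + 1 : ℕ) : ℤ) - fs.length)) := by
  obtain ⟨n, rfl⟩ : ∃ n, p = n + 1 := ⟨p - 1, by omega⟩
  obtain ⟨E1⟩ := KLC7.nonempty_homology_addEquiv (A := R) K n
    (KLC10.dR ψ (KLC8.Cn F (fs.map ψ)) (KLC8.dn F (fs.map ψ)) n).hom
    (KLC10.dR ψ (KLC8.Cn F (fs.map ψ)) (KLC8.dn F (fs.map ψ)) (n + 1)).hom
    (φ n) (φ (n + 1)) (φ (n + 2)) (fun x => hφ n x) (fun x => hφ (n + 1) x)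
  have hq0 : (-(fs.length : ℤ)) + fs.length = 0 := by ring
  obtain ⟨E2⟩ := KLC10.nonempty_Hm_equiv_rs ψ fs (KLC8.Cn F (fs.map ψ)) (KLC8.dn F (fs.map ψ))
    (KLC8.hd F (fs.map ψ)) (hC_rs F ψ fs)
    (fun k x hx => KLC8.htf F (fs.map ψ) k x (by
      intro f hf
      obtain ⟨f0, hf0, rfl⟩ := List.mem_map.mp hf
      exact hx f0 hf0))
    (fun k x hx f hf => KLC8.htor F (fs.map ψ) k x hx (ψ f) (List.mem_map_of_mem hf))
    τ hτ (KLC8.rho' F (fs.map ψ))
    (fun m hm f hf => KLC8.hker' F (fs.map ψ) m hm (ψ f) (List.mem_map_of_mem hf))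
    (fun z f hf => KLC8.hcok' F (fs.map ψ) z (ψ f) (List.mem_map_of_mem hf))
    n (-(fs.length : ℤ)) hq0
  have hq : -(fs.length : ℤ) + 2 + n = ((n + 1 + 1 : ℕ) : ℤ) - fs.length := by push_cast; ring
  let E4 := KLC5.TLcast fs MR hq
  exact ⟨E1.trans (E2.toAddEquiv.trans E4.toAddEquiv)⟩

/-- the element of the small ring attached to an index -/
noncomputable def gR0 (i : Fin (fs.map ψ).length) : R := fs.get (i.cast (List.length_map _))

theorem psi_gR0 (i : Fin (fs.map ψ).length) : ψ (gR0 ψ fs i) = (fs.map ψ).get i := by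
  simp [gR0]

/-- kernel and cokernel of restriction to the union of the basic opens, over a small ring -/
theorem ker_coker_rs [CompactSpace X] [X.IsSeparated] [F.IsQuasicoherent]
    {MR : ModuleCat.{u} R} (τ : MR ⟶ (ModuleCat.restrictScalars ψ).obj (KLC4.topMod F))
    (hτ : Function.Bijective τ.hom) :
    Nonempty (LinearMap.ker (KLC10.ρR ψ τ (KLC4.rho F (KLC4.UU (fs.map ψ)))).hom ≃ₗ[R]
      TL fs MR (-(fs.length : ℤ))) ∧
    Nonempty (((ModuleCat.restrictScalars ψ).obj (KLC4.secMod F (KLC4.UU (fs.map ψ))) ⧸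
      LinearMap.range (KLC10.ρR ψ τ (KLC4.rho F (KLC4.UU (fs.map ψ)))).hom) ≃ₗ[R]
      TL fs MR (-(fs.length : ℤ) + 1)) := by
  have hq0 : (-(fs.length : ℤ)) + fs.length = 0 := by ring
  have hg : ∀ i, gR0 ψ fs i ∈ fs := fun i => List.get_mem _ _
  have hbij : ∀ (i : Fin (fs.map ψ).length) (n : ℕ), Function.Bijective
      (fun x : KLC4.secMod F (X.basicOpen ((fs.map ψ).get i)) => ψ (gR0 ψ fs i) ^ n • x) := by
    intro i n
    rw [psi_gR0]
    exact KLC4.hbij F ((fs.map ψ).get i) n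
  have hsat : ∀ p : (∀ i : Fin (fs.map ψ).length, KLC4.secMod F (X.basicOpen ((fs.map ψ).get i))),
      (∀ f ∈ fs, ∃ (n : ℕ) (y : KLC4.secMod F (KLC4.UU (fs.map ψ))), ∀ i,
        (KLC4.resMod F (le_iSup (fun i : Fin (fs.map ψ).length =>
          X.basicOpen ((fs.map ψ).get i)) i)).hom y = ψ f ^ n • p i) →
      ∃ y : KLC4.secMod F (KLC4.UU (fs.map ψ)), ∀ i,
        (KLC4.resMod F (le_iSup (fun i : Fin (fs.map ψ).length =>
          X.basicOpen ((fs.map ψ).get i)) i)).hom y = p i := by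
    intro p hp
    apply KLC4.hsat F (fs.map ψ) p
    intro f hf
    obtain ⟨f0, hf0, rfl⟩ := List.mem_map.mp hf
    exact hp f0 hf0
  constructor
  · exact KLC10.nonempty_ker_equiv_rs ψ fs τ hτ (KLC4.rho F (KLC4.UU (fs.map ψ)))
      (fun i : Fin (fs.map ψ).length => KLC4.secMod F (X.basicOpen ((fs.map ψ).get i)))
      (fun i => KLC4.resMod F (le_iSup (fun i : Fin (fs.map ψ).length =>
        X.basicOpen ((fs.map ψ).get i)) i))
      (gR0 ψ fs) hg hbij (KLC4.hinj F (fs.map ψ))
      (fun m hm f hf => KLC4.hker F (fs.map ψ) m hm (ψ f) (List.mem_map_of_mem hf))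
      (-(fs.length : ℤ)) hq0
  · exact KLC10.nonempty_coker_equiv_rs ψ fs τ hτ (KLC4.rho F (KLC4.UU (fs.map ψ)))
      (fun i : Fin (fs.map ψ).length => KLC4.secMod F (X.basicOpen ((fs.map ψ).get i)))
      (fun i => KLC4.resMod F (le_iSup (fun i : Fin (fs.map ψ).length =>
        X.basicOpen ((fs.map ψ).get i)) i))
      (gR0 ψ fs) hg hbij (KLC4.hinj F (fs.map ψ)) hsat
      (fun m hm f hf => KLC4.hker F (fs.map ψ) m hm (ψ f) (List.mem_map_of_mem hf))
      (fun x f hf => KLC4.hcok F (fs.map ψ) x (ψ f) (List.mem_map_of_mem hf))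
      (-(fs.length : ℤ)) hq0

end general


section spec

/-- the union of the basic opens in terms of the tuple family -/
theorem iSup_V_eq : iSup (V (KLC8.gg (fsA A fs))) = KLC4.UU (fsA A fs) := by
  apply le_antisymm
  · exact iSup_le fun i => le_iSup (fun i : Fin (fsA A fs).length =>
      (XX A).basicOpen ((fsA A fs).get i)) i.down
  · exact iSup_le fun i => le_iSup (V (KLC8.gg (fsA A fs))) (ULift.up i)

/-- degrees at least two -/
theorem hz_ge_two (n : ℕ) :
    Nonempty (LocCohZ.HZM (XX A) (FF A M) (n + 2) (KLC4.UU (fsA A fs)) ≃+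
      TL fs (ModuleCat.of A M) (((n + 2 : ℕ) : ℤ) - fs.length)) := by
  let G := Coh.toAb (FF A M)
  have hv : ∀ p : ℕ, Subsingleton (CohTop.HU G (p + 1) (⊤ : (XX A).Opens)) := fun p =>
    Groth.Agent.Helper1.QcAcyc.subsingleton_HU (FF A M) ⊤ (isAffineOpen_top (XX A)) p
  have hb : Function.Bijective (LocCohZ.delta G (n + 1) (le_top : KLC4.UU (fsA A fs) ≤ ⊤)) :=
    ⟨LCZ1.delta_injective G _ (n + 1) (hv n), LCZ1.delta_surjective G _ (n + 1) (hv (n + 1))⟩
  let Ea := AddEquiv.ofBijective _ hb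
  have hacyc : ∀ (q : ℕ) (a : Fin (q + 1) → KLC8.II (fsA A fs)) (r : ℕ),
      Subsingleton (CohTop.HU G (r + 1) (iInf fun k => V (KLC8.gg (fsA A fs)) (a k))) := by
    intro q a r
    have h2 : IsAffineOpen (iInf fun k => V (KLC8.gg (fsA A fs)) (a k)) := by
      have := QcCech.isAffineOpen_W (KLC8.gg (fsA A fs)) (isAffineOpen_top (XX A)) a
      rwa [TCx.W_eq_iInf] at this
    exact Groth.Agent.Helper1.QcAcyc.subsingleton_HU (FF A M) _ h2 r
  obtain ⟨Eb⟩ := Groth.Agent.S0464.result (X := (XX A).toTopCat) G (V (KLC8.gg (fsA A fs))) hacyc (n + 1)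
  rw [iSup_V_eq] at Eb
  obtain ⟨Ec⟩ := koszul_of_model_rs (FF A M) (psi A) fs (tau A M) (tau_bijective A M)
    (TCx.K (V (KLC8.gg (fsA A fs))) (FF A M).presheaf)
    (KLC8.phiEquiv (FF A M) (fsA A fs)) (fun n x => KLC8.phi_d (FF A M) (fsA A fs) n x) (n + 1)
    (by omega)
  exact ⟨Ea.symm.trans (Eb.symm.trans Ec)⟩

/-- `τ` as an additive equivalence -/
noncomputable def tauEquiv : M ≃+ Γ(FF A M, ⊤) :=
  AddEquiv.ofBijective (tau A M).hom.toAddMonoidHom (tau_bijective A M)

theorem tauEquiv_apply (m : M) : tauEquiv A M m = (tau A M).hom m := rfl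

/-- degree zero -/
theorem hz_zero :
    Nonempty (LocCohZ.HZM (XX A) (FF A M) 0 (KLC4.UU (fsA A fs)) ≃+
      TL fs (ModuleCat.of A M) (((0 : ℕ) : ℤ) - fs.length)) := by
  let G := Coh.toAb (FF A M)
  let E0 := LocCohZ.sect0Equiv G (le_top : KLC4.UU (fsA A fs) ≤ ⊤)
  obtain ⟨⟨E1⟩, -⟩ := ker_coker_rs (FF A M) (psi A) fs (tau A M) (tau_bijective A M)
  let ρ := KLC10.ρR (psi A) (tau A M) (KLC4.rho (FF A M) (KLC4.UU (fsA A fs)))
  let E2 : LocCohZ.sectZ G (le_top : KLC4.UU (fsA A fs) ≤ ⊤) ≃+ LinearMap.ker ρ.hom :=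
    { toFun := fun x => ⟨(tauEquiv A M).symm x.1, by
        rw [LinearMap.mem_ker]
        show (KLC4.rho (FF A M) (KLC4.UU (fsA A fs))).hom ((tau A M).hom ((tauEquiv A M).symm x.1)) = 0
        rw [← tauEquiv_apply, AddEquiv.apply_symm_apply]
        exact x.2⟩
      invFun := fun m => ⟨tauEquiv A M m.1, LinearMap.mem_ker.mp m.2⟩
      left_inv := fun x => Subtype.ext ((tauEquiv A M).apply_symm_apply x.1)
      right_inv := fun m => Subtype.ext ((tauEquiv A M).symm_apply_apply m.1)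
      map_add' := fun x y => Subtype.ext (map_add (tauEquiv A M).symm x.1 y.1) }
  have hq : -(fs.length : ℤ) = ((0 : ℕ) : ℤ) - fs.length := by push_cast; ring
  exact ⟨E0.trans (E2.trans (E1.toAddEquiv.trans (KLC5.TLcast fs _ hq).toAddEquiv))⟩

/-- degree one -/
theorem hz_one :
    Nonempty (LocCohZ.HZM (XX A) (FF A M) 1 (KLC4.UU (fsA A fs)) ≃+
      TL fs (ModuleCat.of A M) (((1 : ℕ) : ℤ) - fs.length)) := by
  let G := Coh.toAb (FF A M)
  have hv : Subsingleton (CohTop.HU G 1 (⊤ : (XX A).Opens)) :=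
    Groth.Agent.Helper1.QcAcyc.subsingleton_HU (FF A M) ⊤ (isAffineOpen_top (XX A)) 0
  obtain ⟨E0⟩ := LCZ2.nonempty_HZ1_equiv G (le_top : KLC4.UU (fsA A fs) ≤ ⊤) hv
  obtain ⟨-, ⟨E1⟩⟩ := ker_coker_rs (FF A M) (psi A) fs (tau A M) (tau_bijective A M)
  let ρ := KLC10.ρR (psi A) (tau A M) (KLC4.rho (FF A M) (KLC4.UU (fsA A fs)))
  have hr : (LinearMap.range ρ.hom).toAddSubgroup =
      (G.obj.map (homOfLE (le_top : KLC4.UU (fsA A fs) ≤ ⊤)).op).hom.range := by
    ext x
    constructor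
    · rintro ⟨m, rfl⟩
      exact ⟨(tau A M).hom m, rfl⟩
    · rintro ⟨s, rfl⟩
      refine ⟨(tauEquiv A M).symm s, ?_⟩
      show (KLC4.rho (FF A M) (KLC4.UU (fsA A fs))).hom ((tau A M).hom ((tauEquiv A M).symm s)) = _
      rw [← tauEquiv_apply, AddEquiv.apply_symm_apply]
      rfl
  have hq : -(fs.length : ℤ) + 1 = ((1 : ℕ) : ℤ) - fs.length := by push_cast; ring
  let E2 : ((ModuleCat.restrictScalars (psi A)).obj (KLC4.secMod (FF A M) (KLC4.UU (fsA A fs))) ⧸
      LinearMap.range ρ.hom) ≃+ TL fs (ModuleCat.of A M) (-(fs.length : ℤ) + 1) := E1.toAddEquiv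
  exact ⟨E0.trans ((QuotientAddGroup.quotientAddEquivOfEq hr.symm).trans
    (E2.trans (KLC5.TLcast fs _ hq).toAddEquiv))⟩

theorem koszulLim_localCoh (i : ℕ) :
    Nonempty (CohIII.koszulHLim fs (ModuleCat.of A M) i ≃+
      LocCohZ.HZM (Spec (CommRingCat.of A)) (AlgebraicGeometry.tilde (R := CommRingCat.of A) (ModuleCat.of A M)) i
        (LocCoh.puncturedOpen A (Ideal.span {a | a ∈ fs}))) := by
  rw [← UU_eq]
  match i with
  | 0 =>
    obtain ⟨e⟩ := hz_zero A M fs
    exact ⟨e.symm⟩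
  | 1 =>
    obtain ⟨e⟩ := hz_one A M fs
    exact ⟨e.symm⟩
  | (n + 2) =>
    obtain ⟨e⟩ := hz_ge_two A M fs n
    exact ⟨e.symm⟩

end spec

end Groth.Agent.Lib.Helper4.KLC11
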