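import Mathlib
import Groth.Prelude.Def_ega3
import Groth.Prelude.Def_Coh
import Groth.Prelude.Def_CohB1
import Groth.Agent.Lib.Helper4.KLC8
import Groth.Agent.S0013

/-!
# Cohomology of a union of affine basic opens on a quasi-compact separated scheme as Koszul direct limits (helper4)
-/

set_option backward.isDefEq.respectTransparency.types false
set_option synthInstance.maxHeartbeats 400000
set_option autoImplicit false
set_option linter.unusedSectionVars false
set_option linter.style.haveILetI false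
set_option linter.unusedSimpArgs false
universe u v w
open CategoryTheory CategoryTheory.Limits AlgebraicGeometry TopologicalSpace Opposite CohIII

namespace Groth.Agent.Lib.Helper4.KLC9
open Groth.Agent.Helper1 Groth.Agent.Helper1.QcCech Groth.Agent.Helper1.QcsLoc
open Groth.Agent.Helper9.KosLim
open Groth.Agent.Lib.Helper4 Groth.Agent.Lib.Helper4.KLC1 Groth.Agent.Lib.Helper4.KLC3
open Groth.Agent.Lib.Helper4.KLC8

attribute [local instance] modW

/-- the Koszul-limit description of the cohomology of any complex modelled on the Čech families -/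
theorem koszul_of_model {X : Scheme.{u}} [CompactSpace X] [X.IsSeparated]
    (fs : List Γ(X, ⊤)) (F : X.Modules) [Coh.IsQCoh F]
    (K : CochainComplex AddCommGrpCat.{u} ℕ) (φ : ∀ n, K.X n ≃+ Coch F (gg fs) n)
    (hφ : ∀ n x, φ (n + 1) ((K.d n (n + 1)).hom x) = D F (gg fs) n (φ n x))
    (p : ℕ) (hp : 1 ≤ p) :
    Nonempty (↑(K.homology p) ≃+ CohIII.koszulHLim fs (ModuleCat.of Γ(X, ⊤) (F.val.obj (op ⊤))) (p + 1)) := by
  obtain ⟨n, rfl⟩ : ∃ n, p = n + 1 := ⟨p - 1, by omega⟩
  obtain ⟨E1⟩ := KLC7.nonempty_homology_addEquiv (A := Γ(X, ⊤)) K n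
    (dn F fs n).hom (dn F fs (n + 1)).hom (φ n) (φ (n + 1))
    (φ (n + 2)) (fun x => hφ n x) (fun x => hφ (n + 1) x)
  have hq0 : (-(fs.length : ℤ)) + fs.length = 0 := by ring
  obtain ⟨E2⟩ := KLC5.nonempty_Hm_equiv fs (Cn F fs) (dn F fs) (hd F fs) (hC F fs) (htf F fs)
    (htor F fs) n (-(fs.length : ℤ)) hq0
  obtain ⟨E3⟩ := KLC5.nonempty_TL_equiv_of_torsion fs (rho' F fs) (hker' F fs) (hcok' F fs)
    (-(fs.length : ℤ) + 2 + n) (by omega)
  have hq : -(fs.length : ℤ) + 2 + n = ((n + 1 + 1 : ℕ) : ℤ) - fs.length := by push_cast; ring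
  let E4 := KLC5.TLcast fs (KLC4.topMod F) hq
  exact ⟨E1.trans (E2.toAddEquiv.trans (E3.symm.toAddEquiv.trans E4.toAddEquiv))⟩


section s2439
variable {X : Scheme.{u}} (fs : List Γ(X, ⊤)) (F : X.Modules)

/-- the open subscheme on the union of the basic opens -/
noncomputable abbrev YY : Scheme.{u} := ↑(KLC4.UU fs)

/-- the family of opens of the open subscheme -/
noncomputable def U' (i : II fs) : (YY fs).Opens := (KLC4.UU fs).ι ⁻¹ᵁ X.basicOpen (fs.get i.down)

theorem W_le_UU {n : ℕ} (a : Fin (n + 1) → II fs) : TCx.W (V (gg fs)) a ≤ KLC4.UU fs :=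
  (TCx.W_le (V (gg fs)) a 0).trans
    (le_iSup (fun i : Fin fs.length => X.basicOpen (fs.get i)) (a 0).down)

theorem hWa {n : ℕ} (a : Fin (n + 1) → II fs) :
    (KLC4.UU fs).ι ''ᵁ (TCx.W (U' fs) a) = TCx.W (V (gg fs)) a := by
  apply le_antisymm
  · apply TCx.le_W
    intro k
    exact ((KLC4.UU fs).ι.image_mono (TCx.W_le (U' fs) a k)).trans
      ((KLC4.UU fs).ι.image_preimage_le _)
  · have h1 : (KLC4.UU fs).ι ''ᵁ ((KLC4.UU fs).ι ⁻¹ᵁ (TCx.W (V (gg fs)) a)) = TCx.W (V (gg fs)) a := by
      rw [Scheme.Hom.image_preimage_eq_opensRange_inf, Scheme.Opens.opensRange_ι,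
        inf_eq_right.mpr (W_le_UU fs a)]
    rw [← h1]
    apply (KLC4.UU fs).ι.image_mono
    apply TCx.le_W
    intro k
    exact (KLC4.UU fs).ι.preimage_mono (TCx.W_le (V (gg fs)) a k)

/-- cochains of the Čech complex on the open subscheme as families on `X` -/
noncomputable def phi'Fun (n : ℕ)
    (y : (TCx.K (U' fs) (F.restrict (KLC4.UU fs).ι).presheaf).X n) : Coch F (gg fs) n :=
  fun a => res F (hWa fs a).symm.le
    (show Γ(F, (KLC4.UU fs).ι ''ᵁ (TCx.W (U' fs) a)) from
      (TCx.proj (U' fs) (F.restrict (KLC4.UU fs).ι).presheaf n a).hom y)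

theorem phi'_d (n : ℕ) (y : (TCx.K (U' fs) (F.restrict (KLC4.UU fs).ι).presheaf).X n) :
    phi'Fun fs F (n + 1) (((TCx.K (U' fs) (F.restrict (KLC4.UU fs).ι).presheaf).d n (n + 1)).hom y) =
      D F (gg fs) n (phi'Fun fs F n y) := by
  funext a
  rw [D_apply]
  unfold phi'Fun
  have h := TCx.d_apply (U' fs) (F.restrict (KLC4.UU fs).ι).presheaf n a y
  have h' : (show Γ(F, (KLC4.UU fs).ι ''ᵁ (TCx.W (U' fs) a)) from
      (TCx.proj (U' fs) (F.restrict (KLC4.UU fs).ι).presheaf (n + 1) a).hom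
        (((TCx.K (U' fs) (F.restrict (KLC4.UU fs).ι).presheaf).d n (n + 1)).hom y)) =
      ∑ i : Fin (n + 2), (-1 : ℤ) ^ (i : ℕ) •
        res F ((KLC4.UU fs).ι.image_mono (TCx.W_face_le (U' fs) a i))
          (show Γ(F, (KLC4.UU fs).ι ''ᵁ (TCx.W (U' fs) (fun k => a (i.succAbove k)))) from
            (TCx.proj (U' fs) (F.restrict (KLC4.UU fs).ι).presheaf n
              (fun k => a (i.succAbove k))).hom y) := h
  rw [h', map_sum]
  refine Finset.sum_congr rfl fun i _ => ?_
  rw [map_zsmul, res_res, res_res]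

/-- the identification, as an additive equivalence -/
noncomputable def phi'Equiv (n : ℕ) :
    (TCx.K (U' fs) (F.restrict (KLC4.UU fs).ι).presheaf).X n ≃+ Coch F (gg fs) n :=
  AddEquiv.ofBijective
    (AddMonoidHom.mk' (phi'Fun fs F n) (by
      intro x y
      funext a
      unfold phi'Fun
      have := map_add (TCx.proj (U' fs) (F.restrict (KLC4.UU fs).ι).presheaf n a).hom x y
      erw [this]
      exact map_add (res F (hWa fs a).symm.le) _ _))
    ⟨fun x y h => by
      apply TCx.ext (U' fs) (F.restrict (KLC4.UU fs).ι).presheaf n x y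
      intro a
      have h1 := congrFun h a
      have h2 := congrArg (res F (hWa fs a).le) h1
      simp only [AddMonoidHom.mk'_apply] at h2
      unfold phi'Fun at h2
      rw [res_res, res_res, res_self, res_self] at h2
      exact h2,
     fun z => by
      obtain ⟨y, hy⟩ := TCx.exists_cochain (U' fs) (F.restrict (KLC4.UU fs).ι).presheaf n
        (fun a => (show (F.restrict (KLC4.UU fs).ι).presheaf.obj (op (TCx.W (U' fs) a)) from
          res F (hWa fs a).le (z a)))
      refine ⟨y, ?_⟩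
      funext a
      show res F (hWa fs a).symm.le _ = z a
      erw [hy a]
      rw [res_res, res_self]⟩

theorem phi'Equiv_apply (n : ℕ) (y : (TCx.K (U' fs) (F.restrict (KLC4.UU fs).ι).presheaf).X n) :
    phi'Equiv fs F n y = phi'Fun fs F n y := rfl

theorem hcov' : ⨆ i, U' fs i = ⊤ := by
  have h1 : (⨆ i : II fs, X.basicOpen (fs.get i.down)) = KLC4.UU fs := by
    apply le_antisymm
    · exact iSup_le fun i => le_iSup (fun i : Fin fs.length => X.basicOpen (fs.get i)) i.down
    · exact iSup_le fun i => le_iSup (fun i : II fs => X.basicOpen (fs.get i.down)) (ULift.up i)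
  have h2 := (KLC4.UU fs).ι.preimage_iSup (fun i : II fs => X.basicOpen (fs.get i.down))
  rw [h1, Scheme.Opens.ι_preimage_self] at h2
  exact h2.symm

theorem isAffineOpen_biInf (haff : ∀ i : Fin fs.length, IsAffineOpen (X.basicOpen (fs.get i)))
    (s : Finset (II fs)) (hs : s.Nonempty) :
    IsAffineOpen (⨅ i ∈ s, X.basicOpen (fs.get i.down)) := by
  classical
  induction hs using Finset.Nonempty.cons_induction with
  | singleton i =>
    simp only [Finset.mem_singleton, iInf_iInf_eq_left]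
    exact haff i.down
  | cons i s hi hs ih =>
    rw [Finset.cons_eq_insert, Finset.iInf_insert]
    rw [inf_comm, ← Scheme.basicOpen_res _ _ (homOfLE le_top).op]
    exact ih.basicOpen _

theorem hU' (haff : ∀ i : Fin fs.length, IsAffineOpen (X.basicOpen (fs.get i)))
    (s : Finset (II fs)) (hs : s.Nonempty) : IsAffineOpen (⨅ i ∈ s, U' fs i) := by
  have h1 : (⨅ i ∈ s, U' fs i) = (KLC4.UU fs).ι ⁻¹ᵁ (⨅ i ∈ s, X.basicOpen (fs.get i.down)) := by
    classical
    clear hs
    induction s using Finset.induction_on with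
    | empty => simp
    | insert i s hi ih =>
      rw [Finset.iInf_insert, Finset.iInf_insert, Scheme.Hom.preimage_inf, ih]
      rfl
  rw [h1]
  apply (isAffineOpen_biInf fs haff s hs).preimage_of_isOpenImmersion
  rw [Scheme.Opens.opensRange_ι]
  obtain ⟨i, hi⟩ := hs
  exact (iInf₂_le i hi).trans (le_iSup (fun i : Fin fs.length => X.basicOpen (fs.get i)) i.down)

end s2439

theorem cohomology_union_koszul (X : Scheme.{u}) [CompactSpace X] [X.IsSeparated]
    (fs : List Γ(X, ⊤)) (haff : ∀ i : Fin fs.length, IsAffineOpen (X.basicOpen (fs.get i)))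
    (F : X.Modules) [Coh.IsQCoh F] (q : ℕ) (hq : 1 ≤ q) :
    Nonempty (Coh.HHon X F (⨆ i : Fin fs.length, X.basicOpen (fs.get i)) q ≃+ CohIII.koszulHLim fs (ModuleCat.of Γ(X, ⊤) (F.val.obj (op ⊤))) (q + 1)) := by
  haveI : Coh.IsQCoh (F.restrict (KLC4.UU fs).ι) :=
    Scheme.Modules.isQuasicoherent_restrictFunctor (KLC4.UU fs).ι F
  obtain ⟨e1⟩ := Groth.Agent.S0013.result (YY fs) (U' fs) (hcov' fs) (hU' fs haff)
    (F.restrict (KLC4.UU fs).ι) q
  obtain ⟨e2⟩ := koszul_of_model fs F (TCx.K (U' fs) (F.restrict (KLC4.UU fs).ι).presheaf)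
    (phi'Equiv fs F) (fun n x => phi'_d fs F n x) q hq
  exact ⟨e1.symm.trans e2⟩


end Groth.Agent.Lib.Helper4.KLC9
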