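import Mathlib

/-!
# Naturality of the extension class under endomorphisms of a short exact sequence (helper4)
-/

set_option autoImplicit false
universe w v u
open CategoryTheory CategoryTheory.Limits
open CategoryTheory.Abelian

namespace Groth.Agent.Lib.Helper4.ExtEndo

variable {C : Type u} [Category.{v} C] [Abelian C] [HasExt.{w} C]

theorem extClass_endo {S : ShortComplex C} (hS : S.ShortExact) (φ : S ⟶ S) {Z : C} {n : ℕ}
    (x : Ext Z S.X₃ n) :
    (x.comp (Ext.mk₀ φ.τ₃) (add_zero n)).comp hS.extClass rfl =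
      (x.comp hS.extClass rfl).comp (Ext.mk₀ φ.τ₁) (add_zero (n + 1)) := by
  have hnat := ShortComplex.ShortExact.extClass_naturality hS hS φ
  exact (Ext.comp_assoc_of_second_deg_zero x (Ext.mk₀ φ.τ₃) hS.extClass rfl).trans
    ((congrArg (fun t => x.comp t rfl) hnat.symm).trans
      (Ext.comp_assoc_of_third_deg_zero x hS.extClass (Ext.mk₀ φ.τ₁) rfl).symm)

theorem comp_g_extClass {S : ShortComplex C} (hS : S.ShortExact) {Z : C} {n : ℕ}
    (y : Ext Z S.X₂ n) :
    (y.comp (Ext.mk₀ S.g) (add_zero n)).comp hS.extClass rfl = 0 :=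
  (Ext.comp_assoc_of_second_deg_zero y (Ext.mk₀ S.g) hS.extClass rfl).trans
    ((congrArg (fun t => y.comp t rfl) hS.comp_extClass).trans (Ext.comp_zero _ _ _ _ _))

end Groth.Agent.Lib.Helper4.ExtEndo
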