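import Mathlib
import Groth.Prelude.Def_Canon
import Groth.Agent.Lib.Helper1.QcExt
import Groth.Agent.Lib.Helper1.FinSigma

/-!
# Linear functoriality of cohomology of O-modules; finite coproducts (helper4)
-/

set_option backward.isDefEq.respectTransparency.types false
set_option synthInstance.maxHeartbeats 400000
set_option autoImplicit false
set_option linter.unusedSectionVars false
set_option linter.style.haveILetI false
set_option linter.unusedSimpArgs false
universe u v w
open CategoryTheory CategoryTheory.Limits AlgebraicGeometry TopologicalSpace Opposite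
open CategoryTheory.Abelian
open Groth.Agent.Helper1

namespace Groth.Agent.Lib.Helper4.HHFin1

variable (A : Type u) [CommRing A] {X : Scheme.{u}} [X.Over (Spec (CommRingCat.of A))]

theorem smul_def (M : X.Modules) (i : ℕ) (a : A) (x : Coh.HH X M i) :
    a • x = Sheaf.H.map (Coh.smulAb M (Coh.toGlobal (X ↘ Spec (CommRingCat.of A)) a)) i x := rfl

theorem HHlin_apply {F G : X.Modules} (φ : F ⟶ G) (i : ℕ) (x : Coh.HH X F i) :
    Canon.HHlin A φ i x = Sheaf.H.map ((SheafOfModules.toSheaf X.ringCatSheaf).map φ) i x := rfl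

theorem HHlin_comp {F G H : X.Modules} (φ : F ⟶ G) (ψ : G ⟶ H) (i : ℕ) (x : Coh.HH X F i) :
    Canon.HHlin A (φ ≫ ψ) i x = Canon.HHlin A ψ i (Canon.HHlin A φ i x) := by
  have e : (SheafOfModules.toSheaf X.ringCatSheaf).map (φ ≫ ψ) =
      (SheafOfModules.toSheaf X.ringCatSheaf).map φ ≫ (SheafOfModules.toSheaf X.ringCatSheaf).map ψ :=
    Functor.map_comp _ _ _
  exact (congrArg (fun f => Sheaf.H.map f i x) e).trans (Sheaf.H.map_comp_apply _ _ _)

theorem HHlin_id (F : X.Modules) (i : ℕ) (x : Coh.HH X F i) :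
    Canon.HHlin A (𝟙 F) i x = x := by
  have e : (SheafOfModules.toSheaf X.ringCatSheaf).map (𝟙 F) = 𝟙 _ := CategoryTheory.Functor.map_id _ _
  exact (congrArg (fun f => Sheaf.H.map f i x) e).trans (Sheaf.H.map_id_apply _)

theorem HHlin_add {F G : X.Modules} (φ ψ : F ⟶ G) (i : ℕ) (x : Coh.HH X F i) :
    Canon.HHlin A (φ + ψ) i x = Canon.HHlin A φ i x + Canon.HHlin A ψ i x := by
  have e : (SheafOfModules.toSheaf X.ringCatSheaf).map (φ + ψ) =
      (SheafOfModules.toSheaf X.ringCatSheaf).map φ + (SheafOfModules.toSheaf X.ringCatSheaf).map ψ :=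
    Functor.map_add _
  exact (congrArg (fun f => Sheaf.H.map f i x) e).trans (Sheaf.H.map_add_apply _ _ _)

theorem HHlin_zero {F G : X.Modules} (i : ℕ) (x : Coh.HH X F i) :
    Canon.HHlin A (0 : F ⟶ G) i x = 0 := by
  have h := HHlin_add A (0 : F ⟶ G) 0 i x
  rw [add_zero] at h
  exact left_eq_add.mp h

theorem HHlin_sum {F G : X.Modules} {ι : Type*} (s : Finset ι) (φ : ι → (F ⟶ G)) (i : ℕ)
    (x : Coh.HH X F i) :
    Canon.HHlin A (∑ j ∈ s, φ j) i x = ∑ j ∈ s, Canon.HHlin A (φ j) i x := by
  classical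
  induction s using Finset.induction_on with
  | empty => simp [HHlin_zero]
  | insert a s ha ih => rw [Finset.sum_insert ha, Finset.sum_insert ha, HHlin_add, ih]

/-- an isomorphism of modules induces a linear equivalence on cohomology -/
noncomputable def HHequiv {F G : X.Modules} (e : F ≅ G) (i : ℕ) : Coh.HH X F i ≃ₗ[A] Coh.HH X G i :=
  LinearEquiv.ofLinear (Canon.HHlin A e.hom i) (Canon.HHlin A e.inv i)
    (LinearMap.ext fun x => by
      rw [LinearMap.comp_apply, ← HHlin_comp, e.inv_hom_id, HHlin_id]; rfl)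
    (LinearMap.ext fun x => by
      rw [LinearMap.comp_apply, ← HHlin_comp, e.hom_inv_id, HHlin_id]; rfl)

theorem finite_of_iso {F G : X.Modules} (e : F ≅ G) (i : ℕ) (h : Module.Finite A (Coh.HH X F i)) :
    Module.Finite A (Coh.HH X G i) :=
  Module.Finite.equiv (HHequiv A e i)

/-- finite coproducts -/
theorem finite_sigma [IsNoetherianRing A] {k : ℕ} (B : Fin k → X.Modules) (i : ℕ)
    (h : ∀ j, Module.Finite A (Coh.HH X (B j) i)) : Module.Finite A (Coh.HH X (∐ B) i) := by
  let Φ : Coh.HH X (∐ B) i →ₗ[A] (∀ j, Coh.HH X (B j) i) :=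
    LinearMap.pi fun j => Canon.HHlin A (FinSigma.q B j) i
  have hinj : Function.Injective Φ := by
    rw [injective_iff_map_eq_zero]
    intro x hx
    have h1 : ∀ j, Canon.HHlin A (FinSigma.q B j) i x = 0 := fun j => congrFun hx j
    have h2 := HHlin_sum A Finset.univ (fun j => FinSigma.q B j ≫ Sigma.ι B j) i x
    rw [FinSigma.sum_q_ι, HHlin_id] at h2
    rw [h2]
    apply Finset.sum_eq_zero
    intro j _
    rw [HHlin_comp, h1 j, map_zero]
  have : IsNoetherian A (∀ j, Coh.HH X (B j) i) := by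
    have : ∀ j, IsNoetherian A (Coh.HH X (B j) i) := fun j =>
      @isNoetherian_of_isNoetherianRing_of_finite A _ _ _ _ _ (h j)
    infer_instance
  exact Module.Finite.of_injective Φ hinj

end Groth.Agent.Lib.Helper4.HHFin1
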