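import Mathlib
import Groth.Agent.Lib.Helper4.HHFin1
import Groth.Agent.Lib.Helper4.ExtEndo

/-!
# Linear long exact sequence of cohomology of O-modules; finiteness two-out-of-three (helper4)
-/

set_option backward.isDefEq.respectTransparency.types false
set_option synthInstance.maxHeartbeats 400000
set_option autoImplicit false
set_option linter.unusedSectionVars false
set_option linter.style.haveILetI false
set_option linter.unusedSimpArgs false
universe u v w
open CategoryTheory CategoryTheory.Limits AlgebraicGeometry TopologicalSpace Opposite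
open CategoryTheory.Abelian
open Groth.Agent.Helper1
open Groth.Agent.Lib.Helper4

namespace Groth.Agent.Lib.Helper4.HHFin2

variable (A : Type u) [CommRing A] {X : Scheme.{u}} [X.Over (Spec (CommRingCat.of A))]
variable (S : ShortComplex X.Modules)

/-- the underlying short complex of abelian sheaves -/
noncomputable abbrev Sab : ShortComplex (Sheaf (Opens.grothendieckTopology X) AddCommGrpCat.{u}) :=
  ShortComplex.mk (X₁ := Coh.toAb S.X₁) (X₂ := Coh.toAb S.X₂) (X₃ := Coh.toAb S.X₃)
    ((SheafOfModules.toSheaf X.ringCatSheaf).map S.f)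
    ((SheafOfModules.toSheaf X.ringCatSheaf).map S.g)
    (((SheafOfModules.toSheaf X.ringCatSheaf).map_comp S.f S.g).symm.trans
      ((congrArg (SheafOfModules.toSheaf X.ringCatSheaf).map S.zero).trans
        (Functor.map_zero _ _ _)))

variable {S}

theorem Sab_shortExact (hS : S.ShortExact) : (Sab S).ShortExact :=
  QcExt.Sab_shortExact hS

/-- the endomorphism of the underlying short complex of abelian sheaves given by a global function -/
noncomputable def smulSab (s : Coh.Γtop X) : Sab S ⟶ Sab S where
  τ₁ := Coh.smulAb S.X₁ s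
  τ₂ := Coh.smulAb S.X₂ s
  τ₃ := Coh.smulAb S.X₃ s
  comm₁₂ := (Canon.toSheaf_map_comp_smulAb S.f s).symm
  comm₂₃ := (Canon.toSheaf_map_comp_smulAb S.g s).symm


variable (hS : S.ShortExact)

/-- the connecting homomorphism -/
noncomputable def delta (i : ℕ) : Coh.HH X S.X₃ i →+ Coh.HH X S.X₁ (i + 1) :=
  (Sab_shortExact hS).extClass.postcomp _ rfl

theorem delta_apply (i : ℕ) (x : Coh.HH X S.X₃ i) :
    delta hS i x = x.comp (Sab_shortExact hS).extClass rfl := rfl


theorem delta_smulAb (i : ℕ) (s : Coh.Γtop X) (x : Coh.HH X S.X₃ i) :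
    delta hS i (Sheaf.H.map (Coh.smulAb S.X₃ s) i x) =
      Sheaf.H.map (Coh.smulAb S.X₁ s) (i + 1) (delta hS i x) :=
  ExtEndo.extClass_endo.{u, u, u+1} (Sab_shortExact hS) (smulSab (S := S) s) x

/-- the connecting homomorphism as a linear map -/
noncomputable def deltaLin (i : ℕ) : Coh.HH X S.X₃ i →ₗ[A] Coh.HH X S.X₁ (i + 1) where
  toFun := delta hS i
  map_add' := map_add _
  map_smul' a x := delta_smulAb hS i _ x

theorem exact_g_delta (i : ℕ) (x : Coh.HH X S.X₃ i) (hx : deltaLin A hS i x = 0) :
    ∃ y, Canon.HHlin A S.g i y = x :=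
  Ext.covariant_sequence_exact₃.{u, u, u+1} _ (Sab_shortExact hS) x rfl hx

include hS in
theorem exact_f_g (i : ℕ) (x : Coh.HH X S.X₂ i) (hx : Canon.HHlin A S.g i x = 0) :
    ∃ y, Canon.HHlin A S.f i y = x :=
  Ext.covariant_sequence_exact₂.{u, u, u+1} _ (Sab_shortExact hS) x hx

theorem delta_g (i : ℕ) (y : Coh.HH X S.X₂ i) : deltaLin A hS i (Canon.HHlin A S.g i y) = 0 :=
  ExtEndo.comp_g_extClass.{u, u, u+1} (Sab_shortExact hS) y

omit hS in
theorem g_f (i : ℕ) (y : Coh.HH X S.X₁ i) : Canon.HHlin A S.g i (Canon.HHlin A S.f i y) = 0 := by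
  rw [← HHFin1.HHlin_comp, S.zero, HHFin1.HHlin_zero]

include hS in
/-- finiteness of the cohomology of the quotient -/
theorem finite_X₃ [IsNoetherianRing A] (i : ℕ) (h2 : Module.Finite A (Coh.HH X S.X₂ i))
    (h1 : Module.Finite A (Coh.HH X S.X₁ (i + 1))) : Module.Finite A (Coh.HH X S.X₃ i) := by
  have hker : LinearMap.ker (deltaLin A hS i) = LinearMap.range (Canon.HHlin A S.g i) := by
    ext x
    constructor
    · intro hx
      exact exact_g_delta A hS i x hx
    · rintro ⟨y, rfl⟩
      exact delta_g A hS i y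
  have hN : IsNoetherian A (Coh.HH X S.X₁ (i + 1)) := isNoetherian_of_isNoetherianRing_of_finite A _
  have hr : Module.Finite A (LinearMap.range (deltaLin A hS i)) :=
    Module.IsNoetherian.finite A _
  have hq : Module.Finite A (Coh.HH X S.X₃ i ⧸ LinearMap.ker (deltaLin A hS i)) :=
    @Module.Finite.equiv A _ _ _ _ _ _ _ hr (LinearMap.quotKerEquivRange (deltaLin A hS i)).symm
  have hk : Module.Finite A (LinearMap.ker (deltaLin A hS i)) := by
    rw [hker]
    infer_instance
  exact Module.Finite.of_submodule_quotient (LinearMap.ker (deltaLin A hS i))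

include hS in
/-- finiteness of the cohomology of the middle term -/
theorem finite_X₂ [IsNoetherianRing A] (i : ℕ) (h1 : Module.Finite A (Coh.HH X S.X₁ i))
    (h3 : Module.Finite A (Coh.HH X S.X₃ i)) : Module.Finite A (Coh.HH X S.X₂ i) := by
  have hker : LinearMap.ker (Canon.HHlin A S.g i) = LinearMap.range (Canon.HHlin A S.f i) := by
    ext x
    constructor
    · intro hx
      exact exact_f_g A hS i x hx
    · rintro ⟨y, rfl⟩
      exact g_f A i y
  have hN : IsNoetherian A (Coh.HH X S.X₃ i) := isNoetherian_of_isNoetherianRing_of_finite A _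
  have hq : Module.Finite A (Coh.HH X S.X₂ i ⧸ LinearMap.ker (Canon.HHlin A S.g i)) :=
    Module.Finite.equiv (LinearMap.quotKerEquivRange (Canon.HHlin A S.g i)).symm
  have hk : Module.Finite A (LinearMap.ker (Canon.HHlin A S.g i)) := by
    rw [hker]
    infer_instance
  exact Module.Finite.of_submodule_quotient (LinearMap.ker (Canon.HHlin A S.g i))

end Groth.Agent.Lib.Helper4.HHFin2
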