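import Mathlib

/-!
# Projective space cohomology: raw cochain combinatorics (cone identity, sign cocycle) (helper4)
-/

set_option backward.isDefEq.respectTransparency.types false
set_option synthInstance.maxHeartbeats 400000
set_option autoImplicit false
set_option linter.unusedSectionVars false
set_option linter.style.haveILetI false
set_option linter.unusedSimpArgs false
universe u v w

namespace Groth.Agent.Lib.Helper4.PnA


section cone
variable {ι : Type*} {A : Type*} [AddCommGroup A]

/-- coboundary on raw cochains -/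
def dd (p : ℕ) (c : (Fin (p+1) → ι) → A) : (Fin (p+2) → ι) → A :=
  fun a => ∑ i : Fin (p+2), (-1 : ℤ)^(i:ℕ) • c (fun k => a (i.succAbove k))

/-- cone operator -/
def hh (v : ι) (p : ℕ) (c : (Fin (p+2) → ι) → A) : (Fin (p+1) → ι) → A :=
  fun a => c (Fin.cons v a)

theorem cons_succAbove_succ (v : ι) {p : ℕ} (a : Fin (p+2) → ι) (i : Fin (p+2)) :
    (fun k => (Fin.cons v a : Fin (p+3) → ι) (i.succ.succAbove k)) =
      Fin.cons v (fun k => a (i.succAbove k)) := by
  funext k
  refine Fin.cases ?_ (fun k' => ?_) k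
  · simp
  · simp

theorem cone (v : ι) (p : ℕ) (c : (Fin (p+2) → ι) → A) (a : Fin (p+2) → ι) :
    dd p (hh v p c) a + hh v (p+1) (dd (p+1) c) a = c a := by
  unfold dd hh
  beta_reduce
  rw [Fin.sum_univ_succ (n := p + 2)]
  have h0 : (fun k => (Fin.cons v a : Fin (p+3) → ι) ((0 : Fin (p+3)).succAbove k)) = a := by
    funext k
    simp
  rw [h0]
  simp only [cons_succAbove_succ, Fin.val_zero, pow_zero, one_smul, Fin.val_succ, pow_succ]
  rw [add_comm (c a), ← add_assoc, ← Finset.sum_add_distrib]
  simp

theorem cone0 (v : ι) (c : (Fin 1 → ι) → A) (a : Fin 1 → ι) :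
    hh v 0 (dd 0 c) a = c a - c (fun _ => v) := by
  unfold dd hh
  beta_reduce
  rw [Fin.sum_univ_two]
  have h0 : (fun k => (Fin.cons v a : Fin 2 → ι) ((0 : Fin 2).succAbove k)) = a := by
    funext k
    simp
  have h1 : (fun k => (Fin.cons v a : Fin 2 → ι) ((1 : Fin 2).succAbove k)) = fun _ => v := by
    funext k
    fin_cases k
    simp
  rw [h0, h1]
  simp [sub_eq_add_neg]

end cone



section sign
variable {ι : Type*} {n : ℕ} (eqv : ι ≃ Fin (n + 1))

/-- the sign of a tuple, as a determinant -/
noncomputable def sg (a : Fin (n + 1) → ι) : ℤ :=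
  Matrix.det (Matrix.of fun (i j : Fin (n + 1)) => if eqv (a i) = j then (1 : ℤ) else 0)

theorem sg_id : sg eqv (fun i => eqv.symm i) = 1 := by
  unfold sg
  have : (Matrix.of fun (i j : Fin (n + 1)) => if eqv (eqv.symm i) = j then (1 : ℤ) else 0) = 1 := by
    ext i j
    simp [Matrix.one_apply]
  rw [this, Matrix.det_one]

theorem sg_eq_zero (a : Fin (n + 1) → ι) (h : ¬ Function.Surjective a) : sg eqv a = 0 := by
  unfold sg
  rw [Function.Surjective] at h
  push Not at h
  obtain ⟨j, hj⟩ := h
  apply Matrix.det_eq_zero_of_column_eq_zero (eqv j)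
  intro i
  simp only [Matrix.of_apply]
  rw [if_neg]
  intro h
  exact hj i (eqv.injective h)

theorem sg_cocycle (b : Fin (n + 2) → ι) :
    ∑ i : Fin (n + 2), (-1 : ℤ) ^ (i : ℕ) * sg eqv (fun k => b (i.succAbove k)) = 0 := by
  let M : Matrix (Fin (n + 2)) (Fin (n + 2)) ℤ := Matrix.of fun i j =>
    Fin.cases (1 : ℤ) (fun j' => if eqv (b i) = j' then 1 else 0) j
  have h1 : M.det = ∑ i : Fin (n + 2), (-1 : ℤ) ^ (i : ℕ) * sg eqv (fun k => b (i.succAbove k)) := by
    rw [Matrix.det_succ_column_zero]
    refine Finset.sum_congr rfl fun i _ => ?_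
    have : M i 0 = 1 := rfl
    rw [this, mul_one]
    congr 1
  rw [← h1]
  rw [← Matrix.exists_mulVec_eq_zero_iff]
  refine ⟨Fin.cases 1 (fun _ => -1), ?_, ?_⟩
  · intro h
    have := congrFun h 0
    simp at this
  · funext i
    simp only [Matrix.mulVec, dotProduct, Pi.zero_apply]
    rw [Fin.sum_univ_succ]
    simp only [M, Matrix.of_apply, Fin.cases_zero, Fin.cases_succ, mul_one, mul_neg]
    rw [Finset.sum_neg_distrib, Finset.sum_ite_eq]
    simp

end sign



section swap
variable {ι : Type*} {n : ℕ} (eqv : ι ≃ Fin (n + 1)) {A : Type*} [AddCommGroup A]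

include eqv in
theorem inj_of_surj (a : Fin (n + 1) → ι) (h : Function.Surjective a) : Function.Injective a := by
  have h1 : Function.Surjective (eqv ∘ a) := eqv.surjective.comp h
  have h2 : Function.Injective (eqv ∘ a) := Finite.injective_iff_surjective.mpr h1
  exact fun x y hxy => h2 (by simp [hxy])

include eqv in
theorem surj_of_inj (a : Fin (n + 1) → ι) (h : Function.Injective a) : Function.Surjective a := by
  have h1 : Function.Injective (eqv ∘ a) := eqv.injective.comp h
  have h2 : Function.Surjective (eqv ∘ a) := Finite.injective_iff_surjective.mp h1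
  intro y
  obtain ⟨x, hx⟩ := h2 (eqv y)
  exact ⟨x, eqv.injective hx⟩

/-- the tuple with pattern `x y x` -/
def bb (a : Fin (n + 1) → ι) (i : Fin n) : Fin (n + 2) → ι :=
  Fin.insertNth (α := fun _ => ι) i.succ.succ (a i.castSucc) a

theorem bb_face_p (a : Fin (n + 1) → ι) (i : Fin n) :
    (fun k => bb a i (i.succ.succ.succAbove k)) = a := by
  funext k
  simp [bb]

theorem bb_face_i (a : Fin (n + 1) → ι) (i : Fin n) :
    (fun k => bb a i (i.castSucc.castSucc.succAbove k)) = a ∘ Equiv.swap i.castSucc i.succ := by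
  funext k
  simp only [Function.comp_apply]
  by_cases h1 : k = i.castSucc
  · subst h1
    rw [Equiv.swap_apply_left]
    have : i.castSucc.castSucc.succAbove i.castSucc = i.succ.succ.succAbove i.succ := by
      ext
      simp [Fin.succAbove, Fin.lt_def]
    rw [this, bb, Fin.insertNth_apply_succAbove]
  · by_cases h2 : k = i.succ
    · subst h2
      rw [Equiv.swap_apply_right]
      have : i.castSucc.castSucc.succAbove i.succ = i.succ.succ := by
        ext
        simp [Fin.succAbove, Fin.lt_def]
      rw [this, bb, Fin.insertNth_apply_same]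
    · rw [Equiv.swap_apply_of_ne_of_ne h1 h2]
      have : i.castSucc.castSucc.succAbove k = i.succ.succ.succAbove k := by
        have h1' : (k : ℕ) ≠ i := fun h => h1 (Fin.ext (by simpa using h))
        have h2' : (k : ℕ) ≠ i + 1 := fun h => h2 (Fin.ext (by simpa using h))
        ext
        simp only [Fin.succAbove, Fin.lt_def, Fin.val_castSucc, Fin.val_succ]
        split_ifs <;> simp <;> omega
      rw [this, bb, Fin.insertNth_apply_succAbove]

theorem bb_eq (a : Fin (n + 1) → ι) (ha : Function.Injective a) (i : Fin n) (q q' : Fin (n + 2))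
    (h : bb a i q = bb a i q') (hne : q ≠ q') :
    (q = i.castSucc.castSucc ∧ q' = i.succ.succ) ∨ (q = i.succ.succ ∧ q' = i.castSucc.castSucc) := by
  have hp : i.succ.succ.succAbove i.castSucc = i.castSucc.castSucc := by
    ext
    simp [Fin.succAbove, Fin.lt_def]
  by_cases hq : q = i.succ.succ
  · by_cases hq' : q' = i.succ.succ
    · exact absurd (hq.trans hq'.symm) hne
    · obtain ⟨z, rfl⟩ := Fin.exists_succAbove_eq hq'
      subst hq
      right
      refine ⟨rfl, ?_⟩
      simp only [bb, Fin.insertNth_apply_same, Fin.insertNth_apply_succAbove] at h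
      rw [← ha h, hp]
  · obtain ⟨z, rfl⟩ := Fin.exists_succAbove_eq hq
    by_cases hq' : q' = i.succ.succ
    · subst hq'
      left
      refine ⟨?_, rfl⟩
      simp only [bb, Fin.insertNth_apply_same, Fin.insertNth_apply_succAbove] at h
      rw [ha h, hp]
    · obtain ⟨z', rfl⟩ := Fin.exists_succAbove_eq hq'
      simp only [bb, Fin.insertNth_apply_succAbove] at h
      exact absurd (congrArg _ (ha h)) hne

include eqv in
theorem swap_lemma (e : (Fin (n + 1) → ι) → A)
    (hs : ∀ a, ¬ Function.Surjective a → e a = 0)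
    (hc : ∀ b : Fin (n + 2) → ι,
      ∑ l : Fin (n + 2), (-1 : ℤ) ^ (l : ℕ) • e (fun k => b (l.succAbove k)) = 0)
    (a : Fin (n + 1) → ι) (i : Fin n) :
    e (a ∘ Equiv.swap i.castSucc i.succ) = - e a := by
  by_cases ha : Function.Surjective a
  · have hai := inj_of_surj eqv a ha
    have h := hc (bb a i)
    have hne : i.castSucc.castSucc ≠ i.succ.succ := by
      intro h
      have := congrArg Fin.val h
      simp at this
      omega
    rw [Finset.sum_eq_add (i.castSucc.castSucc) (i.succ.succ) hne] at h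
    · rw [bb_face_i, bb_face_p] at h
      have e1 : ((i.succ.succ : Fin (n + 2)) : ℕ) = ((i.castSucc.castSucc : Fin (n + 2)) : ℕ) + 2 := by
        simp
      rw [e1, pow_add] at h
      simp only [even_two, Even.neg_pow, one_pow, mul_one] at h
      rw [← smul_add] at h
      have h' : e (a ∘ Equiv.swap i.castSucc i.succ) + e a = 0 := by
        have hu : IsUnit ((-1 : ℤ) ^ ((i.castSucc.castSucc : Fin (n + 2)) : ℕ)) :=
          IsUnit.pow _ (by simp)
        obtain ⟨u, hu⟩ := hu
        have := congrArg (fun x => ((u⁻¹ : ℤˣ) : ℤ) • x) h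
        simp only [smul_zero] at this
        rw [← hu, smul_smul] at this
        simpa using this
      exact eq_neg_of_add_eq_zero_left h'
    · intro l _ hl
      rw [hs, smul_zero]
      intro hsurj
      obtain ⟨k, hk⟩ := hsurj (bb a i l)
      have := bb_eq a hai i _ _ hk (Fin.succAbove_ne l k)
      rcases this with ⟨_, h2⟩ | ⟨_, h2⟩
      · exact hl.2 h2
      · exact hl.1 h2
    · intro h; exact absurd (Finset.mem_univ _) h
    · intro h; exact absurd (Finset.mem_univ _) h
  · rw [hs a ha, hs, neg_zero]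
    intro h
    apply ha
    intro y
    obtain ⟨x, hx⟩ := h y
    exact ⟨_, hx⟩

end swap



section uniq
variable {ι : Type*} {n : ℕ} (eqv : ι ≃ Fin (n + 1)) {A : Type*} [AddCommGroup A]


include eqv in
theorem eq_zero_of_id (e : (Fin (n + 1) → ι) → A)
    (hs : ∀ a, ¬ Function.Surjective a → e a = 0)
    (hc : ∀ b : Fin (n + 2) → ι,
      ∑ l : Fin (n + 2), (-1 : ℤ) ^ (l : ℕ) • e (fun k => b (l.succAbove k)) = 0)
    (h0 : e (fun i => eqv.symm i) = 0) (a : Fin (n + 1) → ι) : e a = 0 := by
  have key : ∀ σ : Equiv.Perm (Fin (n + 1)), ∀ b : Fin (n + 1) → ι, e b = 0 → e (b ∘ σ) = 0 := by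
    intro σ
    have hσ : σ ∈ Submonoid.closure
        (Set.range fun i : Fin n => Equiv.swap i.castSucc i.succ) := by
      rw [Equiv.Perm.mclosure_swap_castSucc_succ]
      trivial
    induction hσ using Submonoid.closure_induction with
    | mem x hx =>
      obtain ⟨i, rfl⟩ := hx
      intro b hb
      rw [swap_lemma eqv e hs hc b i, hb, neg_zero]
    | one => intro b hb; exact hb
    | mul x y _ _ hx hy =>
      intro b hb
      have : b ∘ ⇑(x * y) = (b ∘ x) ∘ y := rfl
      rw [this]
      exact hy _ (hx _ hb)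
  by_cases ha : Function.Surjective a
  · have hsur : Function.Surjective (eqv ∘ a) := eqv.surjective.comp ha
    have hbij : Function.Bijective (eqv ∘ a) :=
      ⟨Finite.injective_iff_surjective.mpr hsur, hsur⟩
    let σ : Equiv.Perm (Fin (n + 1)) := Equiv.ofBijective _ hbij
    have h1 : a = (fun i => eqv.symm i) ∘ σ := by
      funext k
      simp [σ]
    rw [h1]
    exact key σ _ h0
  · exact hs a ha

end uniq


section alt
variable {ι : Type*} {n : ℕ} (eqv : ι ≃ Fin (n + 1)) {A : Type*} [AddCommGroup A]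

theorem alt_eq (c : (Fin (n + 1) → ι) → A)
    (hs : ∀ a, ¬ Function.Surjective a → c a = 0)
    (hc : ∀ b : Fin (n + 2) → ι,
      ∑ l : Fin (n + 2), (-1 : ℤ) ^ (l : ℕ) • c (fun k => b (l.succAbove k)) = 0)
    (a : Fin (n + 1) → ι) : c a = sg eqv a • c (fun i => eqv.symm i) := by
  have h := eq_zero_of_id eqv (fun a => c a - sg eqv a • c (fun i => eqv.symm i))
    (by
      intro a ha
      rw [hs a ha, sg_eq_zero eqv a ha, zero_smul, sub_zero])
    (by
      intro b
      simp only [smul_sub, Finset.sum_sub_distrib, hc b, zero_sub, neg_eq_zero]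
      simp only [smul_smul, ← Finset.sum_smul]
      rw [sg_cocycle, zero_smul])
    (by
      rw [sg_id, one_smul, sub_self]) a
  exact sub_eq_zero.mp h

theorem sg_smul_cocycle (g : A) (b : Fin (n + 2) → ι) :
    ∑ l : Fin (n + 2), (-1 : ℤ) ^ (l : ℕ) • (sg eqv (fun k => b (l.succAbove k)) • g) = 0 := by
  simp only [smul_smul, ← Finset.sum_smul]
  rw [sg_cocycle, zero_smul]

end alt

end Groth.Agent.Lib.Helper4.PnA
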