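import Mathlib
import Groth.Prelude.Def_Coh
import Groth.Prelude.Def_CohB1
import Groth.Prelude.Def_Twist2
import Groth.Agent.Lib.Helper1.TwistTriv
import Groth.Agent.Lib.Helper1.ProjNormal
import Groth.Agent.Lib.Helper1.ProjSpaceTwist

/-!
# Projective space cohomology: sections of O(d) as monomial fractions (helper4)
-/

set_option backward.isDefEq.respectTransparency.types false
set_option synthInstance.maxHeartbeats 400000
set_option autoImplicit false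
set_option linter.unusedSectionVars false
set_option linter.style.haveILetI false
set_option linter.unusedSimpArgs false
universe u v w
open CategoryTheory CategoryTheory.Limits AlgebraicGeometry TopologicalSpace Opposite MvPolynomial
open Groth.Agent.Helper1

namespace Groth.Agent.Lib.Helper4.PnS1

variable {n : ℕ} {R : Type u} [CommRing R]

/-- the grading -/
noncomputable abbrev Gr (n : ℕ) (R : Type u) [CommRing R] := CohB1.polyGrading n R
/-- the underlying space -/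
noncomputable abbrev PT (n : ℕ) (R : Type u) [CommRing R] := ProjectiveSpectrum.top (Gr n R)

/-- the monomial `x^w` -/
noncomputable abbrev xm (w : Fin (n + 1) →₀ ℕ) : MvPolynomial (Fin (n + 1)) R := monomial w 1

theorem xm_add (w w' : Fin (n + 1) →₀ ℕ) : (xm (w + w') : MvPolynomial (Fin (n + 1)) R) = xm w * xm w' := by
  simp [xm, monomial_mul]

theorem xm_mem (w : Fin (n + 1) →₀ ℕ) : (xm w : MvPolynomial (Fin (n + 1)) R) ∈ Gr n R (Finsupp.degree w) :=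
  (mem_homogeneousSubmodule _ _).mpr (isHomogeneous_monomial 1 rfl)

/-- `x^w` vanishes nowhere on `V` -/
def NV (V : Opens (PT n R)) (w : Fin (n + 1) →₀ ℕ) : Prop :=
  ∀ x : V, (xm w : MvPolynomial (Fin (n + 1)) R) ∉ x.1.asHomogeneousIdeal

theorem NV.add {V : Opens (PT n R)} {w w' : Fin (n + 1) →₀ ℕ} (h : NV V w) (h' : NV V w') :
    NV V (w + w') := by
  intro x hx
  rw [xm_add] at hx
  exact (x.1.isPrime.mem_or_mem hx).elim (h x) (h' x)

theorem NV.mono {V V' : Opens (PT n R)} {w : Fin (n + 1) →₀ ℕ} (h : NV V w) (hV : V' ≤ V) : NV V' w :=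
  fun x => h ⟨x.1, hV x.2⟩

/-- the section `s` is given everywhere on `V` by the fraction `m / x^w` -/
def IsRep (d : ℤ) {V : Opens (PT n R)} (s : Twist.sectN (𝒜 := Gr n R) d (op V))
    (w : Fin (n + 1) →₀ ℕ) (m : MvPolynomial (Fin (n + 1)) R) : Prop :=
  ∃ hw : NV V w, ∀ x : V, ((s.1 x).1 : Twist.Loc (Gr n R) x.1) = Localization.mk m ⟨xm w, hw x⟩

/-- the section `m / x^w` -/
noncomputable def fs (d : ℤ) (V : Opens (PT n R)) (w : Fin (n + 1) →₀ ℕ) (hw : NV V w)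
    (m : MvPolynomial (Fin (n + 1)) R) {D : ℕ} (hm : m ∈ Gr n R D) (hD : (D : ℤ) = Finsupp.degree w + d) :
    Twist.sectN (𝒜 := Gr n R) d (op V) :=
  TwistTriv.fracSec (Gr n R) hm (xm_mem w) hD V hw

theorem isRep_fs (d : ℤ) (V : Opens (PT n R)) (w : Fin (n + 1) →₀ ℕ) (hw : NV V w)
    (m : MvPolynomial (Fin (n + 1)) R) {D : ℕ} (hm : m ∈ Gr n R D) (hD : (D : ℤ) = Finsupp.degree w + d) :
    IsRep d (fs d V w hw m hm hD) w m := ⟨hw, fun _ => rfl⟩

theorem IsRep.ext {d : ℤ} {V : Opens (PT n R)} {s s' : Twist.sectN (𝒜 := Gr n R) d (op V)}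
    {w : Fin (n + 1) →₀ ℕ} {m : MvPolynomial (Fin (n + 1)) R} (h : IsRep d s w m) (h' : IsRep d s' w m) :
    s = s' := by
  obtain ⟨hw, h⟩ := h
  obtain ⟨_, h'⟩ := h'
  apply Subtype.ext
  funext x
  apply Subtype.ext
  rw [h x, h' x]

theorem IsRep.res {d : ℤ} {V V' : Opens (PT n R)} {s : Twist.sectN (𝒜 := Gr n R) d (op V)}
    {w : Fin (n + 1) →₀ ℕ} {m : MvPolynomial (Fin (n + 1)) R} (h : IsRep d s w m) (hV : V' ≤ V) :
    IsRep d (Twist.resN d (homOfLE hV).op s) w m := by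
  obtain ⟨hw, h⟩ := h
  exact ⟨hw.mono hV, fun x => h ⟨x.1, hV x.2⟩⟩

theorem IsRep.shift {d : ℤ} {V : Opens (PT n R)} {s : Twist.sectN (𝒜 := Gr n R) d (op V)}
    {w : Fin (n + 1) →₀ ℕ} {m : MvPolynomial (Fin (n + 1)) R} (h : IsRep d s w m)
    {w' : Fin (n + 1) →₀ ℕ} (hw' : NV V w') : IsRep d s (w + w') (m * xm w') := by
  obtain ⟨hw, h⟩ := h
  refine ⟨hw.add hw', fun x => ?_⟩
  rw [h x, Localization.mk_eq_mk_iff, Localization.r_iff_exists]
  refine ⟨1, ?_⟩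
  simp only [OneMemClass.coe_one, one_mul]
  rw [xm_add]
  ring

theorem IsRep.add {d : ℤ} {V : Opens (PT n R)} {s s' : Twist.sectN (𝒜 := Gr n R) d (op V)}
    {w w' : Fin (n + 1) →₀ ℕ} {m m' : MvPolynomial (Fin (n + 1)) R} (h : IsRep d s w m)
    (h' : IsRep d s' w' m') : IsRep d (s + s') (w + w') (m * xm w' + m' * xm w) := by
  obtain ⟨hw, h⟩ := h
  obtain ⟨hw', h'⟩ := h'
  refine ⟨hw.add hw', fun x => ?_⟩
  have e1 : (((s + s').1 x).1 : Twist.Loc (Gr n R) x.1) = (s.1 x).1 + (s'.1 x).1 := rfl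
  rw [e1, h x, h' x, Localization.add_mk, Localization.mk_eq_mk_iff, Localization.r_iff_exists]
  refine ⟨1, ?_⟩
  simp only [OneMemClass.coe_one, one_mul, Submonoid.coe_mul]
  rw [xm_add]
  ring

theorem IsRep.zero {d : ℤ} {V : Opens (PT n R)} {w : Fin (n + 1) →₀ ℕ} (hw : NV V w) :
    IsRep d (0 : Twist.sectN (𝒜 := Gr n R) d (op V)) w 0 := by
  refine ⟨hw, fun x => ?_⟩
  rw [Localization.mk_zero]
  rfl


theorem xm_pow (w : Fin (n + 1) →₀ ℕ) (k : ℕ) :
    (xm w : MvPolynomial (Fin (n + 1)) R) ^ k = xm (k • w) := by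
  simp [xm, monomial_pow]

/-- the basic open of a monomial -/
noncomputable def BO (w₀ : Fin (n + 1) →₀ ℕ) : Opens (PT n R) :=
  ProjectiveSpectrum.basicOpen (Gr n R) (xm w₀)

theorem NV_BO {w₀ w : Fin (n + 1) →₀ ℕ} {k : ℕ} (h : w ≤ k • w₀) : NV (BO (R := R) w₀) w := by
  intro x hx
  have hx2 : (xm w₀ : MvPolynomial (Fin (n + 1)) R) ∉ x.1.asHomogeneousIdeal :=
    (ProjectiveSpectrum.mem_basicOpen (Gr n R) _ x.1).mp x.2
  apply hx2
  apply x.1.isPrime.mem_of_pow_mem k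
  rw [xm_pow, ← add_tsub_cancel_of_le h, xm_add]
  exact Ideal.mul_mem_right _ _ hx

theorem IsRep.eq_zero {d : ℤ} {w₀ : Fin (n + 1) →₀ ℕ} (hw₀ : 0 < Finsupp.degree w₀)
    {w : Fin (n + 1) →₀ ℕ} {m : MvPolynomial (Fin (n + 1)) R} {D : ℕ} (hm : m ∈ Gr n R D)
    (h : IsRep d (0 : Twist.sectN (𝒜 := Gr n R) d (op (BO w₀))) w m) : m = 0 := by
  obtain ⟨hw, h⟩ := h
  obtain ⟨N, hN⟩ := ProjSpaceLib.exists_pow_mul_eq_zero (Gr n R) hw₀ (xm_mem w₀) hm (by
    intro x hx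
    have hxV : x ∈ BO (R := R) w₀ := (ProjectiveSpectrum.mem_basicOpen (Gr n R) _ x).mpr hx
    have h1 := h ⟨x, hxV⟩
    have h0 : (((0 : Twist.sectN (𝒜 := Gr n R) d (op (BO w₀))).1 ⟨x, hxV⟩).1 : Twist.Loc (Gr n R) x) = 0 := rfl
    rw [h0, ← Localization.mk_zero (1 : x.asHomogeneousIdeal.toIdeal.primeCompl), Localization.mk_eq_mk_iff,
      Localization.r_iff_exists] at h1
    obtain ⟨u, hu⟩ := h1
    refine ⟨u.1, u.2, ?_⟩
    simp only [OneMemClass.coe_one, one_mul, mul_zero] at hu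
    exact hu.symm)
  rw [xm_pow, mul_comm] at hN
  apply ProjGlobal.Poly.mul_monomial_cancel (s := N • w₀)
  rw [zero_mul]
  exact hN

theorem exists_rep (d : ℤ) {w₀ : Fin (n + 1) →₀ ℕ} (hw₀ : 0 < Finsupp.degree w₀)
    (s : Twist.sectN (𝒜 := Gr n R) d (op (BO w₀))) :
    ∃ (k D : ℕ) (m : MvPolynomial (Fin (n + 1)) R), m ∈ Gr n R D ∧
      (D : ℤ) = Finsupp.degree (k • w₀) + d ∧ IsRep d s (k • w₀) m := by
  obtain ⟨k, i, m, hi, hm⟩ := ProjNormal.twist_sect_eq (Gr n R) d hw₀ (xm_mem w₀) s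
  refine ⟨k, i, m.1, m.2, ?_, NV_BO (k := k) le_rfl, fun x => ?_⟩
  · rw [hi]
    simp
  · rw [hm x]
    congr 1
    apply Subtype.ext
    exact xm_pow w₀ k

end Groth.Agent.Lib.Helper4.PnS1
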