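import Mathlib

/-!
# Projective space cohomology: Laurent coefficients of monomial fractions (helper4)
-/

set_option backward.isDefEq.respectTransparency.types false
set_option synthInstance.maxHeartbeats 400000
set_option autoImplicit false
set_option linter.unusedSectionVars false
set_option linter.style.haveILetI false
set_option linter.unusedSimpArgs false
universe u v w
open MvPolynomial

namespace Groth.Agent.Lib.Helper4.PnS2

variable {n : ℕ} {R : Type u} [CommRing R]

/-- the monomial `x^w` -/
noncomputable abbrev xm (w : Fin (n + 1) →₀ ℕ) : MvPolynomial (Fin (n + 1)) R := monomial w 1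

/-- nonnegative part as an exponent vector -/
noncomputable def tn (e : Fin (n + 1) → ℤ) : Fin (n + 1) →₀ ℕ :=
  Finsupp.equivFunOnFinite.symm fun i => (e i).toNat

@[simp] theorem tn_apply (e : Fin (n + 1) → ℤ) (i : Fin (n + 1)) : tn e i = (e i).toNat := rfl

/-- an exponent vector as an integer vector -/
def wz (w : Fin (n + 1) →₀ ℕ) : Fin (n + 1) → ℤ := fun i => (w i : ℤ)

theorem tn_wz (w : Fin (n + 1) →₀ ℕ) : tn (wz w) = w := by
  ext i
  simp [wz]

/-- Laurent coefficients of the fraction `m / x^w` -/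
noncomputable def co (w : Fin (n + 1) →₀ ℕ) (m : MvPolynomial (Fin (n + 1)) R) :
    (Fin (n + 1) → ℤ) → R :=
  fun e => if ∀ i, 0 ≤ e i + w i then coeff (tn (e + wz w)) m else 0

theorem co_add (w : Fin (n + 1) →₀ ℕ) (m m' : MvPolynomial (Fin (n + 1)) R) :
    co w (m + m') = co w m + co w m' := by
  funext e
  simp only [co, Pi.add_apply]
  split_ifs <;> simp

theorem co_zero (w : Fin (n + 1) →₀ ℕ) : co w (0 : MvPolynomial (Fin (n + 1)) R) = 0 := by
  funext e
  simp [co]

theorem co_shift (w w' : Fin (n + 1) →₀ ℕ) (m : MvPolynomial (Fin (n + 1)) R) :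
    co (w + w') (m * xm w') = co w m := by
  funext e
  simp only [co]
  by_cases h1 : ∀ i, 0 ≤ e i + w i
  · have h2 : ∀ i, 0 ≤ e i + ((w + w') i : ℕ) := by
      intro i
      have := h1 i
      simp only [Finsupp.coe_add, Pi.add_apply, Nat.cast_add]
      omega
    rw [if_pos h1, if_pos h2, coeff_mul_monomial', if_pos, mul_one]
    · congr 1
      ext i
      have := h1 i
      simp only [Finsupp.coe_tsub, Pi.sub_apply, tn_apply, Pi.add_apply, wz, Finsupp.coe_add, Nat.cast_add]
      omega
    · intro i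
      have := h1 i
      simp only [tn_apply, Pi.add_apply, wz, Finsupp.coe_add, Nat.cast_add]
      omega
  · rw [if_neg h1]
    split_ifs with h2
    · rw [coeff_mul_monomial', if_neg]
      intro hle
      apply h1
      intro i
      have := hle i
      have := h2 i
      simp only [tn_apply, Pi.add_apply, wz, Finsupp.coe_add, Nat.cast_add] at *
      omega
    · rfl

theorem coeff_eq_co (w u : Fin (n + 1) →₀ ℕ) (m : MvPolynomial (Fin (n + 1)) R) :
    coeff u m = co w m (wz u - wz w) := by
  have h : ∀ i, 0 ≤ (wz u - wz w) i + w i := by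
    intro i
    simp [wz]
  rw [co, if_pos h]
  congr 1
  ext i
  simp [wz]

theorem eq_zero_of_co (w : Fin (n + 1) →₀ ℕ) (m : MvPolynomial (Fin (n + 1)) R) (h : co w m = 0) :
    m = 0 := by
  ext u
  rw [coeff_eq_co w u m, h]
  rfl

theorem co_smul (w : Fin (n + 1) →₀ ℕ) (r : R) (m : MvPolynomial (Fin (n + 1)) R) :
    co w (C r * m) = r • co w m := by
  funext e
  simp only [co, Pi.smul_apply, smul_eq_mul]
  split_ifs
  · rw [coeff_C_mul]
  · simp

theorem co_support_finite (w : Fin (n + 1) →₀ ℕ) (m : MvPolynomial (Fin (n + 1)) R) :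
    (Function.support (co w m)).Finite := by
  apply Set.Finite.subset ((m.support : Set (Fin (n + 1) →₀ ℕ)).toFinite.image (fun u => wz u - wz w))
  intro e he
  rw [Function.mem_support] at he
  simp only [co] at he
  split_ifs at he with h
  · refine ⟨tn (e + wz w), ?_, ?_⟩
    · exact Finset.mem_coe.mpr (mem_support_iff.mpr he)
    · funext i
      have := h i
      simp only [Pi.sub_apply, wz, tn_apply, Pi.add_apply]
      omega
  · exact absurd rfl he

theorem co_ne_zero (w : Fin (n + 1) →₀ ℕ) (m : MvPolynomial (Fin (n + 1)) R) (e : Fin (n + 1) → ℤ)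
    (h : co w m e ≠ 0) : (∀ i, 0 ≤ e i + w i) ∧ coeff (tn (e + wz w)) m ≠ 0 := by
  simp only [co] at h
  split_ifs at h with h1
  · exact ⟨h1, h⟩
  · exact absurd rfl h

theorem co_degree (w : Fin (n + 1) →₀ ℕ) (m : MvPolynomial (Fin (n + 1)) R) {D : ℕ}
    (hm : m.IsHomogeneous D) (e : Fin (n + 1) → ℤ) (h : co w m e ≠ 0) :
    ∑ i, e i = (D : ℤ) - Finsupp.degree w := by
  obtain ⟨h1, h2⟩ := co_ne_zero w m e h
  have h3 : Finsupp.degree (tn (e + wz w)) = D := by
    by_contra hne
    exact h2 (hm.coeff_eq_zero hne)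
  rw [← h3, Finsupp.degree_eq_sum, Finsupp.degree_eq_sum]
  push_cast
  rw [eq_sub_iff_add_eq, ← Finset.sum_add_distrib]
  refine Finset.sum_congr rfl fun i _ => ?_
  have := h1 i
  simp only [tn_apply, Pi.add_apply, wz]
  omega

end Groth.Agent.Lib.Helper4.PnS2
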