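import Mathlib
import Groth.Agent.Lib.Helper4.PnS1
import Groth.Agent.Lib.Helper4.PnS2

/-!
# Projective space cohomology: Laurent coefficients of sections over the torus (helper4)
-/

set_option backward.isDefEq.respectTransparency.types false
set_option synthInstance.maxHeartbeats 400000
set_option autoImplicit false
set_option linter.unusedSectionVars false
set_option linter.style.haveILetI false
set_option linter.unusedSimpArgs false
universe u v w
open CategoryTheory CategoryTheory.Limits AlgebraicGeometry TopologicalSpace Opposite MvPolynomial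
open Groth.Agent.Helper1
open Groth.Agent.Lib.Helper4.PnS1
open Groth.Agent.Lib.Helper4.PnS2 hiding xm

namespace Groth.Agent.Lib.Helper4.PnS3

variable {n : ℕ} {R : Type u} [CommRing R]

/-- the all-ones exponent vector -/
noncomputable def one1 : Fin (n + 1) →₀ ℕ := Finsupp.equivFunOnFinite.symm fun _ => 1

@[simp] theorem one1_apply (i : Fin (n + 1)) : one1 (n := n) i = 1 := rfl

theorem one1_degree : Finsupp.degree (one1 (n := n)) = n + 1 := by
  rw [Finsupp.degree_eq_sum]
  simp

theorem le_smul_one1 (w : Fin (n + 1) →₀ ℕ) : w ≤ Finsupp.degree w • one1 := by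
  intro i
  simp only [Finsupp.coe_smul, Pi.smul_apply, one1_apply, smul_eq_mul, mul_one]
  rw [Finsupp.degree_eq_sum]
  exact Finset.single_le_sum (f := fun i => w i) (fun _ _ => Nat.zero_le _) (Finset.mem_univ i)

/-- the open torus -/
noncomputable abbrev TT : Opens (PT n R) := BO one1

theorem NV_TT (w : Fin (n + 1) →₀ ℕ) : NV (TT (R := R)) w := NV_BO (le_smul_one1 w)

theorem one1_pos : 0 < Finsupp.degree (one1 (n := n)) := by
  rw [one1_degree]; omega

/-- the numerator is homogeneous of the right degree -/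
def Hg (d : ℤ) (w : Fin (n + 1) →₀ ℕ) (m : MvPolynomial (Fin (n + 1)) R) : Prop :=
  ∃ D : ℕ, m ∈ Gr n R D ∧ (D : ℤ) = Finsupp.degree w + d

theorem isRep_neg {d : ℤ} {V : Opens (PT n R)} {s : Twist.sectN (𝒜 := Gr n R) d (op V)}
    {w : Fin (n + 1) →₀ ℕ} {m : MvPolynomial (Fin (n + 1)) R} (h : IsRep d s w m) :
    IsRep d (-s) w (-m) := by
  obtain ⟨hw, h⟩ := h
  refine ⟨hw, fun x => ?_⟩
  have e1 : (((-s).1 x).1 : Twist.Loc (Gr n R) x.1) = - (s.1 x).1 := rfl
  rw [e1, h x, Localization.neg_mk]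

theorem rep_unique {d : ℤ} {s : Twist.sectN (𝒜 := Gr n R) d (op (TT (R := R)))}
    {w w' : Fin (n + 1) →₀ ℕ} {m m' : MvPolynomial (Fin (n + 1)) R}
    (h : IsRep d s w m) (hm : Hg d w m) (h' : IsRep d s w' m') (hm' : Hg d w' m') :
    m * xm w' = m' * xm w := by
  have h1 : IsRep d (s + -s) (w + w') (m * xm w' + -m' * xm w) := h.add (isRep_neg h')
  have h1' : IsRep d (0 : Twist.sectN (𝒜 := Gr n R) d (op (TT (R := R)))) (w + w') (m * xm w' + -m' * xm w) := by
    have e : s + -s = 0 := add_neg_cancel s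
    rw [e] at h1
    exact h1
  obtain ⟨D, hD, hDd⟩ := hm
  obtain ⟨D', hD', hDd'⟩ := hm'
  have e : D' + Finsupp.degree w = D + Finsupp.degree w' := by
    have : ((D' + Finsupp.degree w : ℕ) : ℤ) = ((D + Finsupp.degree w' : ℕ) : ℤ) := by
      push_cast; rw [hDd, hDd']; ring
    exact_mod_cast this
  have hmem : m * xm w' + -m' * xm w ∈ Gr n R (D + Finsupp.degree w') := by
    apply Submodule.add_mem
    · exact SetLike.mul_mem_graded hD (xm_mem w')
    · rw [← e]
      exact SetLike.mul_mem_graded (Submodule.neg_mem _ hD') (xm_mem w)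
  have h2 : m * xm w' + -m' * xm w = 0 := IsRep.eq_zero (d := d) (w₀ := one1) one1_pos hmem h1'
  rw [neg_mul, ← sub_eq_add_neg, sub_eq_zero] at h2
  exact h2


theorem exists_rep_T (d : ℤ) (s : Twist.sectN (𝒜 := Gr n R) d (op (TT (R := R)))) :
    ∃ w m, IsRep d s w m ∧ Hg d w m := by
  obtain ⟨k, D, m, hm, hD, h⟩ := exists_rep d one1_pos s
  exact ⟨_, m, h, D, hm, hD⟩

theorem exists_PhiT (d : ℤ) (s : Twist.sectN (𝒜 := Gr n R) d (op (TT (R := R)))) :
    ∃ f : (Fin (n + 1) → ℤ) → R, ∀ w m, IsRep d s w m → Hg d w m → f = co w m := by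
  obtain ⟨w0, m0, h0, hm0⟩ := exists_rep_T d s
  refine ⟨co w0 m0, fun w m h hm => ?_⟩
  have h1 := rep_unique h0 hm0 h hm
  rw [← co_shift _ w, h1, add_comm w0 w, co_shift]

/-- the Laurent coefficients of a section over the torus -/
noncomputable def PhiT (d : ℤ) (s : Twist.sectN (𝒜 := Gr n R) d (op (TT (R := R)))) :
    (Fin (n + 1) → ℤ) → R := (exists_PhiT d s).choose

theorem PhiT_eq {d : ℤ} {s : Twist.sectN (𝒜 := Gr n R) d (op (TT (R := R)))}
    {w : Fin (n + 1) →₀ ℕ} {m : MvPolynomial (Fin (n + 1)) R}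
    (h : IsRep d s w m) (hm : Hg d w m) : PhiT d s = co w m :=
  (exists_PhiT d s).choose_spec w m h hm

theorem Hg.shift {d : ℤ} {w w' : Fin (n + 1) →₀ ℕ} {m : MvPolynomial (Fin (n + 1)) R}
    (h : Hg d w m) : Hg d (w + w') (m * xm w') := by
  obtain ⟨D, hD, hDd⟩ := h
  refine ⟨D + Finsupp.degree w', SetLike.mul_mem_graded hD (xm_mem w'), ?_⟩
  rw [map_add]
  push_cast
  rw [hDd]; ring

theorem Hg.add {d : ℤ} {w : Fin (n + 1) →₀ ℕ} {m m' : MvPolynomial (Fin (n + 1)) R}
    (h : Hg d w m) (h' : Hg d w m') : Hg d w (m + m') := by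
  obtain ⟨D, hD, hDd⟩ := h
  obtain ⟨D', hD', hDd'⟩ := h'
  have : D' = D := by
    have : (D' : ℤ) = D := by rw [hDd, hDd']
    exact_mod_cast this
  subst this
  exact ⟨D', Submodule.add_mem _ hD hD', hDd⟩

theorem PhiT_add (d : ℤ) (s s' : Twist.sectN (𝒜 := Gr n R) d (op (TT (R := R)))) :
    PhiT d (s + s') = PhiT d s + PhiT d s' := by
  have key : ∀ w m w' m', IsRep d s w m → Hg d w m → IsRep d s' w' m' → Hg d w' m' →
      PhiT d (s + s') = PhiT d s + PhiT d s' := by
    intro w m w' m' h hm h' hm'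
    have hh : Hg d (w + w') (m * xm w' + m' * xm w) := by
      apply Hg.add hm.shift
      have := hm'.shift (w' := w)
      rwa [add_comm w' w] at this
    have e1 : PhiT d (s + s') = co (w + w') (m * xm w' + m' * xm w) := PhiT_eq (h.add h') hh
    have e2 : PhiT d s = co w m := PhiT_eq h hm
    have e3 : PhiT d s' = co w' m' := PhiT_eq h' hm'
    have e4 : co (w + w') (m * xm w' + m' * xm w) = co w m + co w' m' := by
      rw [co_add, co_shift]
      congr 1
      rw [add_comm w w', co_shift]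
    exact e1.trans (e4.trans (congrArg₂ (· + ·) e2.symm e3.symm))
  exact (exists_rep_T d s).elim fun w hw => hw.elim fun m hm =>
    (exists_rep_T d s').elim fun w' hw' => hw'.elim fun m' hm' =>
      key w m w' m' hm.1 hm.2 hm'.1 hm'.2

theorem PhiT_zero (d : ℤ) : PhiT d (0 : Twist.sectN (𝒜 := Gr n R) d (op (TT (R := R)))) = 0 := by
  have e1 : PhiT d (0 : Twist.sectN (𝒜 := Gr n R) d (op (TT (R := R)))) = co (d.natAbs • one1) 0 :=
    PhiT_eq (IsRep.zero (NV_TT _)) ⟨((d.natAbs • one1 : Fin (n + 1) →₀ ℕ).degree + d).toNat, Submodule.zero_mem _, by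
      rw [Int.toNat_of_nonneg]
      rw [map_nsmul, one1_degree]
      simp only [smul_eq_mul]
      push_cast
      have h1 : (0:ℤ) ≤ |d| * n := by positivity
      have h2 : -d ≤ |d| := neg_le_abs d
      nlinarith⟩
  exact e1.trans (co_zero _)

theorem PhiT_injective (d : ℤ) (s : Twist.sectN (𝒜 := Gr n R) d (op (TT (R := R))))
    (hs : PhiT d s = 0) : s = 0 := by
  have key : ∀ w m, IsRep d s w m → Hg d w m → s = 0 := by
    intro w m h hm
    have e1 : co w m = 0 := (PhiT_eq h hm).symm.trans hs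
    have hm0 := eq_zero_of_co w m e1
    subst hm0
    exact h.ext (IsRep.zero (NV_TT w))
  exact (exists_rep_T d s).elim fun w hw => hw.elim fun m hm => key w m hm.1 hm.2

theorem PhiT_finite (d : ℤ) (s : Twist.sectN (𝒜 := Gr n R) d (op (TT (R := R)))) :
    (Function.support (PhiT d s)).Finite := by
  have ⟨w, m, h, hm⟩ := exists_rep_T d s
  rw [PhiT_eq h hm]
  exact co_support_finite w m

theorem PhiT_degree (d : ℤ) (s : Twist.sectN (𝒜 := Gr n R) d (op (TT (R := R))))
    (e : Fin (n + 1) → ℤ) (he : PhiT d s e ≠ 0) : ∑ i, e i = d := by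
  obtain ⟨w, m, h, D, hD, hDd⟩ := exists_rep_T d s
  rw [PhiT_eq h ⟨D, hD, hDd⟩] at he
  rw [co_degree w m ((mem_homogeneousSubmodule _ _).mp hD) e he, hDd]
  ring

end Groth.Agent.Lib.Helper4.PnS3
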