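import Mathlib
import Groth.Agent.Lib.Helper4.PnS3

/-!
# Projective space cohomology: Laurent description of sections over monomial basic opens (helper4)
-/

set_option backward.isDefEq.respectTransparency.types false
set_option synthInstance.maxHeartbeats 400000
set_option autoImplicit false
set_option linter.unusedSectionVars false
set_option linter.style.haveILetI false
set_option linter.unusedSimpArgs false
universe u v w
open CategoryTheory CategoryTheory.Limits AlgebraicGeometry TopologicalSpace Opposite MvPolynomial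
open Groth.Agent.Helper1
open Groth.Agent.Lib.Helper4.PnS1
open Groth.Agent.Lib.Helper4.PnS2 hiding xm
open Groth.Agent.Lib.Helper4.PnS3

namespace Groth.Agent.Lib.Helper4.PnS4

variable {n : ℕ} {R : Type u} [CommRing R]

/-- Laurent coefficients of a section over an open containing the torus -/
noncomputable def lam (d : ℤ) (V : Opens (PT n R)) (hV : TT ≤ V)
    (s : Twist.sectN (𝒜 := Gr n R) d (op V)) : (Fin (n + 1) → ℤ) → R :=
  PhiT d (Twist.resN d (homOfLE hV).op s)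

theorem resN_add (d : ℤ) {V V' : Opens (PT n R)} (h : V' ≤ V)
    (s s' : Twist.sectN (𝒜 := Gr n R) d (op V)) :
    Twist.resN d (homOfLE h).op (s + s') =
      Twist.resN d (homOfLE h).op s + Twist.resN d (homOfLE h).op s' :=
  Subtype.ext (funext fun _ => rfl)

theorem resN_zero (d : ℤ) {V V' : Opens (PT n R)} (h : V' ≤ V) :
    Twist.resN d (homOfLE h).op (0 : Twist.sectN (𝒜 := Gr n R) d (op V)) = 0 :=
  Subtype.ext (funext fun _ => rfl)

theorem lam_add (d : ℤ) (V : Opens (PT n R)) (hV : TT ≤ V)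
    (s s' : Twist.sectN (𝒜 := Gr n R) d (op V)) :
    lam d V hV (s + s') = lam d V hV s + lam d V hV s' :=
  (congrArg (PhiT d) (resN_add d hV s s')).trans (PhiT_add d _ _)

theorem lam_zero (d : ℤ) (V : Opens (PT n R)) (hV : TT ≤ V) :
    lam d V hV (0 : Twist.sectN (𝒜 := Gr n R) d (op V)) = 0 :=
  (congrArg (PhiT d) (resN_zero d hV)).trans (PhiT_zero d)

theorem lam_res (d : ℤ) (V V' : Opens (PT n R)) (hV' : TT ≤ V') (h : V' ≤ V)
    (s : Twist.sectN (𝒜 := Gr n R) d (op V)) :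
    lam d V' hV' (Twist.resN d (homOfLE h).op s) = lam d V (hV'.trans h) s := rfl

theorem lam_eq_of_rep {d : ℤ} {V : Opens (PT n R)} (hV : TT ≤ V)
    {s : Twist.sectN (𝒜 := Gr n R) d (op V)} {w : Fin (n + 1) →₀ ℕ}
    {m : MvPolynomial (Fin (n + 1)) R} (h : IsRep d s w m) (hm : Hg d w m) :
    lam d V hV s = co w m :=
  PhiT_eq (h.res hV) hm

theorem lam_finite (d : ℤ) (V : Opens (PT n R)) (hV : TT ≤ V)
    (s : Twist.sectN (𝒜 := Gr n R) d (op V)) : (Function.support (lam d V hV s)).Finite :=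
  PhiT_finite d _

theorem lam_degree (d : ℤ) (V : Opens (PT n R)) (hV : TT ≤ V)
    (s : Twist.sectN (𝒜 := Gr n R) d (op V)) (e : Fin (n + 1) → ℤ) (he : lam d V hV s e ≠ 0) :
    ∑ i, e i = d :=
  PhiT_degree d _ e he

theorem TT_le_BO (w₁ : Fin (n + 1) →₀ ℕ) : TT (R := R) ≤ BO w₁ := by
  intro x hx
  exact (ProjectiveSpectrum.mem_basicOpen (Gr n R) _ x).mpr (NV_TT w₁ ⟨x, hx⟩)

theorem exists_rep_BO (d : ℤ) {w₁ : Fin (n + 1) →₀ ℕ} (hw₁ : 0 < Finsupp.degree w₁)
    (s : Twist.sectN (𝒜 := Gr n R) d (op (BO w₁))) :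
    ∃ (k : ℕ) (m : MvPolynomial (Fin (n + 1)) R), IsRep d s (k • w₁) m ∧ Hg d (k • w₁) m := by
  obtain ⟨k, D, m, hm, hD, h⟩ := exists_rep d hw₁ s
  exact ⟨k, m, h, D, hm, hD⟩

theorem lam_injective (d : ℤ) {w₁ : Fin (n + 1) →₀ ℕ} (hw₁ : 0 < Finsupp.degree w₁)
    (s : Twist.sectN (𝒜 := Gr n R) d (op (BO w₁))) (hs : lam d (BO w₁) (TT_le_BO w₁) s = 0) :
    s = 0 := by
  have key : ∀ (k : ℕ) (m : MvPolynomial (Fin (n + 1)) R), IsRep d s (k • w₁) m → Hg d (k • w₁) m → s = 0 := by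
    intro k m h hm
    have e1 : co (k • w₁) m = 0 := (lam_eq_of_rep (TT_le_BO w₁) h hm).symm.trans hs
    have hm0 := eq_zero_of_co _ m e1
    subst hm0
    exact h.ext (IsRep.zero (NV_BO (k := k) le_rfl))
  exact (exists_rep_BO d hw₁ s).elim fun k hk => hk.elim fun m hm => key k m hm.1 hm.2

theorem lam_neg (d : ℤ) {w₁ : Fin (n + 1) →₀ ℕ} (hw₁ : 0 < Finsupp.degree w₁)
    (s : Twist.sectN (𝒜 := Gr n R) d (op (BO w₁))) (e : Fin (n + 1) → ℤ)
    (he : lam d (BO w₁) (TT_le_BO w₁) s e ≠ 0) (i : Fin (n + 1)) (hi : e i < 0) : 0 < w₁ i := by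
  obtain ⟨k, m, h, hm⟩ := exists_rep_BO d hw₁ s
  rw [lam_eq_of_rep (TT_le_BO w₁) h hm] at he
  have h1 := (co_ne_zero _ m e he).1 i
  simp only [Finsupp.coe_smul, Pi.smul_apply, smul_eq_mul, Nat.cast_mul] at h1
  by_contra hc
  have : w₁ i = 0 := by omega
  rw [this] at h1
  simp at h1
  omega


theorem tn_degree (v : Fin (n + 1) → ℤ) (hv : ∀ i, 0 ≤ v i) :
    ((Finsupp.degree (tn v) : ℕ) : ℤ) = ∑ i, v i := by
  rw [Finsupp.degree_eq_sum]
  push_cast
  refine Finset.sum_congr rfl fun i _ => ?_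
  simp only [tn_apply]
  exact Int.toNat_of_nonneg (hv i)

theorem wz_sum (w : Fin (n + 1) →₀ ℕ) : ∑ i, wz w i = (Finsupp.degree w : ℕ) := by
  rw [Finsupp.degree_eq_sum]
  push_cast
  rfl

theorem tn_inj (v v' : Fin (n + 1) → ℤ) (hv : ∀ i, 0 ≤ v i) (hv' : ∀ i, 0 ≤ v' i)
    (h : tn v = tn v') : v = v' := by
  funext i
  have := DFunLike.congr_fun h i
  simp only [tn_apply] at this
  have h1 := hv i
  have h2 := hv' i
  omega

/-- a polynomial with prescribed Laurent coefficients -/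
theorem exists_poly (d : ℤ) (w : Fin (n + 1) →₀ ℕ)
    (c : (Fin (n + 1) → ℤ) → R) (hfin : (Function.support c).Finite)
    (hdeg : ∀ e, c e ≠ 0 → ∑ i, e i = d)
    (hcond : ∀ e, c e ≠ 0 → ∀ i, 0 ≤ e i + (w i : ℤ))
    (hD : 0 ≤ ((Finsupp.degree w : ℕ) : ℤ) + d) :
    ∃ m : MvPolynomial (Fin (n + 1)) R, m ∈ Gr n R (((Finsupp.degree w : ℕ) : ℤ) + d).toNat ∧
      co w m = c := by
  classical
  let F := hfin.toFinset
  have hF : ∀ e, e ∈ F ↔ c e ≠ 0 := fun e => by simp [F]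
  refine ⟨∑ e ∈ F, monomial (tn (e + wz w)) (c e), ?_, ?_⟩
  · apply Submodule.sum_mem
    intro e he
    rw [mem_homogeneousSubmodule]
    apply isHomogeneous_monomial
    have hc := (hF e).mp he
    have h1 := tn_degree (e + wz w) (fun i => hcond e hc i)
    have h2 : ∑ i, (e + wz w) i = ((Finsupp.degree w : ℕ) : ℤ) + d := by
      simp only [Pi.add_apply, Finset.sum_add_distrib, hdeg e hc, wz_sum]
      ring
    rw [h2] at h1
    rw [← h1, Int.toNat_natCast]
  · funext e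
    by_cases hc : ∀ i, 0 ≤ e i + (w i : ℤ)
    · rw [co, if_pos hc, coeff_sum]
      simp only [coeff_monomial]
      have : ∀ e' ∈ F, (if tn (e' + wz w) = tn (e + wz w) then c e' else 0) =
          if e' = e then c e' else 0 := by
        intro e' he'
        have hc' := hcond e' ((hF e').mp he')
        by_cases hee : e' = e
        · subst hee
          simp
        · rw [if_neg hee, if_neg]
          intro h
          apply hee
          have := tn_inj _ _ hc' hc h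
          funext i
          have := congrFun this i
          simpa using this
      rw [Finset.sum_congr rfl this, Finset.sum_ite_eq' F e]
      split_ifs with h
      · rfl
      · by_contra hne
        exact h ((hF e).mpr (Ne.symm hne))
    · rw [co, if_neg hc]
      by_contra hne
      exact hc (hcond e (Ne.symm hne))

theorem exists_co (d : ℤ) {w₁ : Fin (n + 1) →₀ ℕ} (hw₁ : 0 < Finsupp.degree w₁)
    (c : (Fin (n + 1) → ℤ) → R) (hfin : (Function.support c).Finite)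
    (hdeg : ∀ e, c e ≠ 0 → ∑ i, e i = d)
    (hneg : ∀ e, c e ≠ 0 → ∀ i, e i < 0 → 0 < w₁ i) :
    ∃ (k : ℕ) (m : MvPolynomial (Fin (n + 1)) R) (D : ℕ) (hm : m ∈ Gr n R D)
      (hD : (D : ℤ) = Finsupp.degree (k • w₁) + d), co (k • w₁) m = c := by
  classical
  let F := hfin.toFinset
  have hF : ∀ e, e ∈ F ↔ c e ≠ 0 := fun e => by simp [F]
  let k : ℕ := d.natAbs + ∑ e ∈ F, ∑ i, (e i).natAbs
  have hcond : ∀ e, c e ≠ 0 → ∀ i, 0 ≤ e i + ((k • w₁) i : ℤ) := by
    intro e he i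
    by_cases hi : 0 ≤ e i
    · positivity
    · push Not at hi
      have h1 := hneg e he i hi
      have h2 : (e i).natAbs ≤ k := by
        have h3 : (e i).natAbs ≤ ∑ i, (e i).natAbs :=
          Finset.single_le_sum (f := fun i => (e i).natAbs) (fun _ _ => Nat.zero_le _) (Finset.mem_univ i)
        have h4 : ∑ i, (e i).natAbs ≤ ∑ e ∈ F, ∑ i, (e i).natAbs :=
          Finset.single_le_sum (f := fun e : Fin (n + 1) → ℤ => ∑ i, (e i).natAbs)
            (fun _ _ => Nat.zero_le _) ((hF e).mpr he)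
        omega
      simp only [Finsupp.coe_smul, Pi.smul_apply, smul_eq_mul, Nat.cast_mul]
      have h5 : (k : ℤ) ≤ k * w₁ i := by
        have : (1 : ℤ) ≤ w₁ i := by exact_mod_cast h1
        nlinarith
      omega
  have hD : 0 ≤ ((Finsupp.degree (k • w₁) : ℕ) : ℤ) + d := by
    rw [map_nsmul]
    simp only [smul_eq_mul, Nat.cast_mul]
    have h1 : (d.natAbs : ℤ) ≤ k := by
      have : d.natAbs ≤ k := Nat.le_add_right _ _
      exact_mod_cast this
    have h2 : (1 : ℤ) ≤ Finsupp.degree w₁ := by exact_mod_cast hw₁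
    have h3 : -d ≤ d.natAbs := by omega
    nlinarith
  obtain ⟨m, hm, hco⟩ := exists_poly d (k • w₁) c hfin hdeg hcond hD
  exact ⟨k, m, _, hm, by rw [Int.toNat_of_nonneg hD], hco⟩


theorem lam_surjective (d : ℤ) {w₁ : Fin (n + 1) →₀ ℕ} (hw₁ : 0 < Finsupp.degree w₁)
    (c : (Fin (n + 1) → ℤ) → R) (hfin : (Function.support c).Finite)
    (hdeg : ∀ e, c e ≠ 0 → ∑ i, e i = d)
    (hneg : ∀ e, c e ≠ 0 → ∀ i, e i < 0 → 0 < w₁ i) :
    ∃ s : Twist.sectN (𝒜 := Gr n R) d (op (BO w₁)), lam d (BO w₁) (TT_le_BO w₁) s = c := by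
  obtain ⟨k, m, D, hm, hD, hco⟩ := exists_co d hw₁ c hfin hdeg hneg
  refine ⟨fs d (BO w₁) (k • w₁) (NV_BO (k := k) le_rfl) m hm hD, ?_⟩
  rw [lam_eq_of_rep (TT_le_BO w₁) (isRep_fs d (BO w₁) (k • w₁) (NV_BO (k := k) le_rfl) m hm hD) ⟨D, hm, hD⟩]
  exact hco

end Groth.Agent.Lib.Helper4.PnS4
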