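import Mathlib
import Groth.Agent.Lib.Helper4.PnS4
import Groth.Agent.Lib.Helper4.PnA
import Groth.Agent.Lib.Helper1.TCx

/-!
# Projective space cohomology: the standard cover and its intersections (helper4)
-/

set_option backward.isDefEq.respectTransparency.types false
set_option synthInstance.maxHeartbeats 400000
set_option autoImplicit false
set_option linter.unusedSectionVars false
set_option linter.style.haveILetI false
set_option linter.unusedSimpArgs false
universe u v w
open CategoryTheory CategoryTheory.Limits AlgebraicGeometry TopologicalSpace Opposite MvPolynomial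
open Groth.Agent.Helper1
open Groth.Agent.Lib.Helper4.PnS1
open Groth.Agent.Lib.Helper4.PnS2 hiding xm
open Groth.Agent.Lib.Helper4.PnS3
open Groth.Agent.Lib.Helper4.PnS4

namespace Groth.Agent.Lib.Helper4.PnC1

variable {n : ℕ} {R : Type u} [CommRing R]

section transfer

theorem lamV_injective (d : ℤ) {w₁ : Fin (n + 1) →₀ ℕ} (hw₁ : 0 < Finsupp.degree w₁)
    (V : Opens (PT n R)) (hVeq : V = BO w₁) (hV : TT ≤ V)
    (s : Twist.sectN (𝒜 := Gr n R) d (op V)) (hs : lam d V hV s = 0) : s = 0 := by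
  subst hVeq
  exact lam_injective d hw₁ s hs

theorem lamV_neg (d : ℤ) {w₁ : Fin (n + 1) →₀ ℕ} (hw₁ : 0 < Finsupp.degree w₁)
    (V : Opens (PT n R)) (hVeq : V = BO w₁) (hV : TT ≤ V)
    (s : Twist.sectN (𝒜 := Gr n R) d (op V)) (e : Fin (n + 1) → ℤ)
    (he : lam d V hV s e ≠ 0) (i : Fin (n + 1)) (hi : e i < 0) : 0 < w₁ i := by
  subst hVeq
  exact lam_neg d hw₁ s e he i hi

theorem lamV_surjective (d : ℤ) {w₁ : Fin (n + 1) →₀ ℕ} (hw₁ : 0 < Finsupp.degree w₁)
    (V : Opens (PT n R)) (hVeq : V = BO w₁) (hV : TT ≤ V)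
    (c : (Fin (n + 1) → ℤ) → R) (hfin : (Function.support c).Finite)
    (hdeg : ∀ e, c e ≠ 0 → ∑ i, e i = d)
    (hneg : ∀ e, c e ≠ 0 → ∀ i, e i < 0 → 0 < w₁ i) :
    ∃ s : Twist.sectN (𝒜 := Gr n R) d (op V), lam d V hV s = c := by
  subst hVeq
  exact lam_surjective d hw₁ c hfin hdeg hneg

end transfer

section cover

/-- the index type of the standard cover -/
abbrev II (n : ℕ) : Type u := ULift.{u} (Fin (n + 1))

/-- the standard cover of projective space -/
noncomputable def UU (n : ℕ) (R : Type u) [CommRing R] : II.{u} n → Opens (PT n R) :=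
  fun i => BO (Finsupp.single i.down 1)

/-- the exponent vector of a tuple of indices -/
noncomputable def wa {p : ℕ} (a : Fin (p + 1) → II.{u} n) : Fin (n + 1) →₀ ℕ :=
  ∑ k, Finsupp.single (a k).down 1

theorem wa_degree {p : ℕ} (a : Fin (p + 1) → II.{u} n) : Finsupp.degree (wa a) = p + 1 := by
  simp [wa, map_sum, Finsupp.degree_single]

theorem wa_pos {p : ℕ} (a : Fin (p + 1) → II.{u} n) : 0 < Finsupp.degree (wa a) := by
  rw [wa_degree]; omega

theorem wa_apply_pos {p : ℕ} (a : Fin (p + 1) → II.{u} n) (i : Fin (n + 1)) :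
    0 < wa a i ↔ ∃ k, (a k).down = i := by
  classical
  simp only [wa, Finsupp.coe_finset_sum, Finset.sum_apply, Finsupp.single_apply]
  rw [Finset.sum_pos_iff]
  constructor
  · rintro ⟨k, _, hk⟩
    split_ifs at hk with h
    · exact ⟨k, h⟩
    · exact absurd hk (lt_irrefl 0)
  · rintro ⟨k, hk⟩
    exact ⟨k, Finset.mem_univ _, by rw [if_pos hk]; exact Nat.one_pos⟩

theorem xm_wa {p : ℕ} (a : Fin (p + 1) → II.{u} n) :
    (xm (wa a) : MvPolynomial (Fin (n + 1)) R) = ∏ k, xm (Finsupp.single (a k).down 1) := by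
  simp only [xm, wa]
  exact monomial_sum_one _ _

theorem mem_BO (w : Fin (n + 1) →₀ ℕ) (x : PT n R) :
    x ∈ BO (R := R) w ↔ (xm w : MvPolynomial (Fin (n + 1)) R) ∉ x.asHomogeneousIdeal := Iff.rfl

theorem W_eq_BO {p : ℕ} (a : Fin (p + 1) → II.{u} n) :
    TCx.W (UU n R) a = BO (wa a) := by
  apply le_antisymm
  · intro x hx
    rw [mem_BO, xm_wa]
    intro hmem
    have := x.isPrime
    rw [← HomogeneousIdeal.mem_iff, Ideal.IsPrime.prod_mem_iff] at hmem
    obtain ⟨k, _, hk⟩ := hmem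
    have h1 : x ∈ UU n R (a k) := TCx.W_le (UU n R) a k hx
    exact ((mem_BO _ x).mp h1) hk
  · apply TCx.le_W
    intro k x hx
    rw [mem_BO, xm_wa] at hx
    rw [UU, mem_BO]
    intro hmem
    apply hx
    rw [← Finset.mul_prod_erase Finset.univ _ (Finset.mem_univ k)]
    exact Ideal.mul_mem_right _ _ hmem

theorem TT_le_W {p : ℕ} (a : Fin (p + 1) → II.{u} n) : TT (R := R) ≤ TCx.W (UU n R) a := by
  rw [W_eq_BO]
  exact TT_le_BO _

end cover

end Groth.Agent.Lib.Helper4.PnC1
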