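import Mathlib
import Groth.Agent.Lib.Helper4.PnC1

/-!
# Projective space cohomology: Laurent model of Cech cochains (helper4)
-/

set_option backward.isDefEq.respectTransparency.types false
set_option synthInstance.maxHeartbeats 400000
set_option autoImplicit false
set_option linter.unusedSectionVars false
set_option linter.style.haveILetI false
set_option linter.unusedSimpArgs false
universe u v w
open CategoryTheory CategoryTheory.Limits AlgebraicGeometry TopologicalSpace Opposite MvPolynomial
open Groth.Agent.Helper1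
open Groth.Agent.Lib.Helper4.PnS1
open Groth.Agent.Lib.Helper4.PnS2 hiding xm
open Groth.Agent.Lib.Helper4.PnS3
open Groth.Agent.Lib.Helper4.PnS4
open Groth.Agent.Lib.Helper4.PnC1
open Groth.Agent.Lib.Helper4

namespace Groth.Agent.Lib.Helper4.PnC2

variable {n : ℕ} {R : Type u} [CommRing R]

/-- the presheaf of abelian groups underlying `O(d)` -/
noncomputable abbrev PP (n : ℕ) (R : Type u) [CommRing R] (d : ℤ) :
    (Opens (PT n R))ᵒᵖ ⥤ AddCommGrpCat.{u} := Twist.twistPre (Gr n R) d

example (d : ℤ) : (Twist.twistProjSpace n R d).presheaf = PP n R d := rfl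

/-- `lam` as an additive map -/
noncomputable def lamHom (d : ℤ) (V : Opens (PT n R)) (hV : TT ≤ V) :
    Twist.sectN (𝒜 := Gr n R) d (op V) →+ ((Fin (n + 1) → ℤ) → R) where
  toFun := lam d V hV
  map_zero' := lam_zero d V hV
  map_add' := lam_add d V hV

/-- the Čech complex of the standard cover -/
noncomputable abbrev KK (n : ℕ) (R : Type u) [CommRing R] (d : ℤ) : CochainComplex AddCommGrpCat.{u} ℕ :=
  TCx.K (UU n R) (PP n R d)

/-- the Laurent model of a cochain, componentwise, as an additive map -/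
noncomputable def cmHom (d : ℤ) (p : ℕ) (a : Fin (p + 1) → II.{u} n) :
    (KK n R d).X p →+ ((Fin (n + 1) → ℤ) → R) :=
  AddMonoidHom.comp (lamHom d (TCx.W (UU n R) a) (TT_le_W a))
    (show (KK n R d).X p →+ Twist.sectN (𝒜 := Gr n R) d (op (TCx.W (UU n R) a)) from
      (TCx.proj (UU n R) (PP n R d) p a).hom)

/-- the Laurent model of a cochain -/
noncomputable def cm (d : ℤ) (p : ℕ) (x : (KK n R d).X p) :
    (Fin (p + 1) → II.{u} n) → (Fin (n + 1) → ℤ) → R :=
  fun a => cmHom d p a x

theorem cm_add (d : ℤ) (p : ℕ) (x y : (KK n R d).X p) : cm d p (x + y) = cm d p x + cm d p y := by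
  funext a
  exact map_add (cmHom d p a) x y

theorem cm_zero (d : ℤ) (p : ℕ) : cm d p (0 : (KK n R d).X p) = 0 := by
  funext a
  exact map_zero (cmHom d p a)

theorem cmHom_apply (d : ℤ) (p : ℕ) (a : Fin (p + 1) → II.{u} n) (x : (KK n R d).X p) :
    cmHom d p a x = lam d (TCx.W (UU n R) a) (TT_le_W a)
      (show Twist.sectN (𝒜 := Gr n R) d (op (TCx.W (UU n R) a)) from
        (TCx.proj (UU n R) (PP n R d) p a).hom x) := rfl

theorem cm_d (d : ℤ) (p : ℕ) (x : (KK n R d).X p) :
    cm d (p + 1) (((KK n R d).d p (p + 1)).hom x) = PnA.dd p (cm d p x) := by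
  funext a
  have h1 := TCx.d_apply (UU n R) (PP n R d) p a x
  have h2 : cm d (p + 1) (((KK n R d).d p (p + 1)).hom x) a =
      lamHom d (TCx.W (UU n R) a) (TT_le_W a)
        (show Twist.sectN (𝒜 := Gr n R) d (op (TCx.W (UU n R) a)) from
          (TCx.proj (UU n R) (PP n R d) (p + 1) a).hom (((KK n R d).d p (p + 1)).hom x)) := rfl
  rw [h2]
  have h3 : (show Twist.sectN (𝒜 := Gr n R) d (op (TCx.W (UU n R) a)) from
          (TCx.proj (UU n R) (PP n R d) (p + 1) a).hom (((KK n R d).d p (p + 1)).hom x)) =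
      ∑ i : Fin (p + 2), (-1 : ℤ) ^ (i : ℕ) •
        (Twist.resN d (homOfLE (TCx.W_face_le (UU n R) a i)).op
          (show Twist.sectN (𝒜 := Gr n R) d (op (TCx.W (UU n R) (fun k => a (i.succAbove k)))) from
            (TCx.proj (UU n R) (PP n R d) p (fun k => a (i.succAbove k))).hom x)) := h1
  refine (congrArg (lamHom d (TCx.W (UU n R) a) (TT_le_W a)) h3).trans ?_
  refine (map_sum (lamHom d (TCx.W (UU n R) a) (TT_le_W a)) _ _).trans ?_
  refine Finset.sum_congr rfl fun i _ => ?_
  exact map_zsmul (lamHom d (TCx.W (UU n R) a) (TT_le_W a)) _ _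

end Groth.Agent.Lib.Helper4.PnC2
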