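import Mathlib
import Groth.Agent.Lib.Helper4.PnC2

/-!
# Projective space cohomology: properties of the Laurent model of Cech cochains (helper4)
-/

set_option backward.isDefEq.respectTransparency.types false
set_option synthInstance.maxHeartbeats 400000
set_option autoImplicit false
set_option linter.unusedSectionVars false
set_option linter.style.haveILetI false
set_option linter.unusedSimpArgs false
universe u v w
open CategoryTheory CategoryTheory.Limits AlgebraicGeometry TopologicalSpace Opposite MvPolynomial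
open Groth.Agent.Helper1
open Groth.Agent.Lib.Helper4.PnS1
open Groth.Agent.Lib.Helper4.PnS2 hiding xm
open Groth.Agent.Lib.Helper4.PnS3
open Groth.Agent.Lib.Helper4.PnS4
open Groth.Agent.Lib.Helper4.PnC1
open Groth.Agent.Lib.Helper4.PnC2
open Groth.Agent.Lib.Helper4

namespace Groth.Agent.Lib.Helper4.PnC3

variable {n : ℕ} {R : Type u} [CommRing R]

theorem lamHom_injective (d : ℤ) {p : ℕ} (a : Fin (p + 1) → II.{u} n) :
    Function.Injective (lamHom (R := R) d (TCx.W (UU n R) a) (TT_le_W a)) := by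
  rw [injective_iff_map_eq_zero]
  intro s hs
  exact lamV_injective d (wa_pos a) _ (W_eq_BO a) (TT_le_W a) s hs

theorem cm_inj (d : ℤ) (p : ℕ) (x y : (KK n R d).X p) (h : cm d p x = cm d p y) : x = y := by
  apply TCx.ext (UU n R) (PP n R d) p x y
  intro a
  exact lamHom_injective d a (congrFun h a)

theorem cm_finite (d : ℤ) (p : ℕ) (x : (KK n R d).X p) (a : Fin (p + 1) → II.{u} n) :
    (Function.support (cm d p x a)).Finite :=
  lam_finite d _ _ _

theorem cm_degree (d : ℤ) (p : ℕ) (x : (KK n R d).X p) (a : Fin (p + 1) → II.{u} n)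
    (e : Fin (n + 1) → ℤ) (he : cm d p x a e ≠ 0) : ∑ i, e i = d :=
  lam_degree d _ _ _ e he

theorem cm_neg (d : ℤ) (p : ℕ) (x : (KK n R d).X p) (a : Fin (p + 1) → II.{u} n)
    (e : Fin (n + 1) → ℤ) (he : cm d p x a e ≠ 0) (i : Fin (n + 1)) (hi : e i < 0) :
    ∃ k, (a k).down = i := by
  rw [← wa_apply_pos]
  exact lamV_neg d (wa_pos a) _ (W_eq_BO a) (TT_le_W a) _ e he i hi

theorem exists_cm (d : ℤ) (p : ℕ) (c : (Fin (p + 1) → II.{u} n) → (Fin (n + 1) → ℤ) → R)
    (hfin : ∀ a, (Function.support (c a)).Finite)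
    (hdeg : ∀ a e, c a e ≠ 0 → ∑ i, e i = d)
    (hneg : ∀ a e, c a e ≠ 0 → ∀ i, e i < 0 → ∃ k, (a k).down = i) :
    ∃ x : (KK n R d).X p, cm d p x = c := by
  have h : ∀ a, ∃ s : Twist.sectN (𝒜 := Gr n R) d (op (TCx.W (UU n R) a)),
      lam d (TCx.W (UU n R) a) (TT_le_W a) s = c a := by
    intro a
    apply lamV_surjective d (wa_pos a) _ (W_eq_BO a) (TT_le_W a) (c a) (hfin a) (hdeg a)
    intro e he i hi
    rw [wa_apply_pos]
    exact hneg a e he i hi
  choose s hs using h
  obtain ⟨x, hx⟩ := TCx.exists_cochain (UU n R) (PP n R d) p s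
  refine ⟨x, ?_⟩
  funext a
  rw [← hs a, ← hx a]
  rfl

end Groth.Agent.Lib.Helper4.PnC3
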