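import Mathlib
import Groth.Agent.Lib.Helper4.PnA
import Groth.Agent.Lib.Helper4.PnC1

/-!
# Projective space cohomology: the monomial homotopy on model cochains (helper4)
-/

set_option backward.isDefEq.respectTransparency.types false
set_option synthInstance.maxHeartbeats 400000
set_option autoImplicit false
set_option linter.unusedSectionVars false
set_option linter.style.haveILetI false
set_option linter.unusedSimpArgs false
universe u v w
open Groth.Agent.Lib.Helper4
open Groth.Agent.Lib.Helper4.PnC1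

namespace Groth.Agent.Lib.Helper4.PnC4

variable {n : ℕ} {R : Type u} [CommRing R]

/-- all exponents negative -/
def full (e : Fin (n + 1) → ℤ) : Prop := ∀ i, e i < 0

/-- an index with nonnegative exponent -/
noncomputable def vv (e : Fin (n + 1) → ℤ) : II.{u} n :=
  open Classical in if h : ∃ i, 0 ≤ e i then ⟨h.choose⟩ else ⟨0⟩

theorem vv_spec (e : Fin (n + 1) → ℤ) (h : ¬ full e) : 0 ≤ e (vv.{u} e).down := by
  have h' : ∃ i, 0 ≤ e i := by
    simp only [full] at h
    push Not at h
    exact h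
  simp only [vv, dif_pos h']
  exact h'.choose_spec

/-- admissible model cochains -/
def Adm (d : ℤ) (p : ℕ) (c : (Fin (p + 1) → II.{u} n) → (Fin (n + 1) → ℤ) → R) : Prop :=
  (∀ a, (Function.support (c a)).Finite) ∧ (∀ a e, c a e ≠ 0 → ∑ i, e i = d) ∧
    (∀ a e, c a e ≠ 0 → ∀ i, e i < 0 → ∃ k, (a k).down = i)

/-- the homotopy operator on model cochains -/
noncomputable def Hm (p : ℕ) (c : (Fin (p + 2) → II.{u} n) → (Fin (n + 1) → ℤ) → R) :
    (Fin (p + 1) → II.{u} n) → (Fin (n + 1) → ℤ) → R :=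
  open Classical in fun a e => if full e then 0 else c (Fin.cons (vv e) a) e

theorem adm_Hm (d : ℤ) (p : ℕ) (c : (Fin (p + 2) → II.{u} n) → (Fin (n + 1) → ℤ) → R)
    (hc : Adm d (p + 1) c) : Adm d p (Hm p c) := by
  classical
  obtain ⟨h1, h2, h3⟩ := hc
  refine ⟨fun a => ?_, fun a e he => ?_, fun a e he i hi => ?_⟩
  · apply Set.Finite.subset (Set.finite_iUnion fun v : II.{u} n => h1 (Fin.cons v a))
    intro e he
    rw [Function.mem_support] at he
    simp only [Hm] at he
    split_ifs at he with hf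
    · exact absurd rfl he
    · exact Set.mem_iUnion.mpr ⟨vv e, he⟩
  · simp only [Hm] at he
    split_ifs at he with hf
    · exact absurd rfl he
    · exact h2 _ e he
  · simp only [Hm] at he
    split_ifs at he with hf
    · exact absurd rfl he
    · obtain ⟨k, hk⟩ := h3 _ e he i hi
      revert hk
      refine Fin.cases ?_ (fun k' => ?_) k
      · intro hk
        simp only [Fin.cons_zero] at hk
        have := vv_spec.{u} e hf
        rw [hk] at this
        omega
      · intro hk
        simp only [Fin.cons_succ] at hk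
        exact ⟨k', hk⟩

theorem dd_apply (p : ℕ) (c : (Fin (p + 1) → II.{u} n) → (Fin (n + 1) → ℤ) → R)
    (a : Fin (p + 2) → II.{u} n) (e : Fin (n + 1) → ℤ) :
    PnA.dd p c a e = PnA.dd p (fun b => c b e) a := by
  simp only [PnA.dd, Finset.sum_apply, Pi.smul_apply]

theorem Hm_identity (p : ℕ) (c : (Fin (p + 2) → II.{u} n) → (Fin (n + 1) → ℤ) → R)
    (a : Fin (p + 2) → II.{u} n) (e : Fin (n + 1) → ℤ) (he : ¬ full e) :
    PnA.dd p (Hm p c) a e + Hm (p + 1) (PnA.dd (p + 1) c) a e = c a e := by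
  classical
  rw [dd_apply]
  have h1 : (fun b => Hm p c b e) = PnA.hh (vv e) p (fun b => c b e) := by
    funext b
    simp only [Hm, if_neg he, PnA.hh]
  have h2 : Hm (p + 1) (PnA.dd (p + 1) c) a e =
      PnA.hh (vv e) (p + 1) (PnA.dd (p + 1) (fun b => c b e)) a := by
    simp only [Hm, if_neg he, PnA.hh]
    rw [dd_apply]
  rw [h1, h2]
  exact PnA.cone (vv e) p (fun b => c b e) a

theorem Hm_full (p : ℕ) (c : (Fin (p + 2) → II.{u} n) → (Fin (n + 1) → ℤ) → R)
    (a : Fin (p + 1) → II.{u} n) (e : Fin (n + 1) → ℤ) (he : full e) : Hm p c a e = 0 := by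
  classical
  simp only [Hm, if_pos he]

theorem Hm_zero (p : ℕ) : Hm p (0 : (Fin (p + 2) → II.{u} n) → (Fin (n + 1) → ℤ) → R) = 0 := by
  classical
  funext a e
  simp only [Hm, Pi.zero_apply, ite_self]

theorem dd_full (p : ℕ) (c : (Fin (p + 2) → II.{u} n) → (Fin (n + 1) → ℤ) → R)
    (a : Fin (p + 2) → II.{u} n) (e : Fin (n + 1) → ℤ) (he : full e) :
    PnA.dd p (Hm p c) a e = 0 := by
  rw [dd_apply]
  simp only [PnA.dd, Hm_full _ _ _ _ he, smul_zero, Finset.sum_const_zero]

end Groth.Agent.Lib.Helper4.PnC4
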