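import Mathlib
import Groth.Agent.Lib.Helper4.PnC3
import Groth.Agent.Lib.Helper4.PnC4

/-!
# Projective space cohomology: exactness of the Cech complex away from full monomials (helper4)
-/

set_option backward.isDefEq.respectTransparency.types false
set_option synthInstance.maxHeartbeats 400000
set_option autoImplicit false
set_option linter.unusedSectionVars false
set_option linter.style.haveILetI false
set_option linter.unusedSimpArgs false
universe u v w
open CategoryTheory CategoryTheory.Limits AlgebraicGeometry TopologicalSpace Opposite MvPolynomial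
open Groth.Agent.Helper1
open Groth.Agent.Lib.Helper4.PnS1
open Groth.Agent.Lib.Helper4.PnC1
open Groth.Agent.Lib.Helper4.PnC2
open Groth.Agent.Lib.Helper4.PnC3
open Groth.Agent.Lib.Helper4.PnC4
open Groth.Agent.Lib.Helper4

namespace Groth.Agent.Lib.Helper4.PnC5

variable {n : ℕ} {R : Type u} [CommRing R]

theorem adm_cm (d : ℤ) (p : ℕ) (x : (KK n R d).X p) : Adm d p (cm d p x) :=
  ⟨cm_finite d p x, cm_degree d p x, cm_neg d p x⟩

/-- full monomials do not occur on tuples which are too short -/
theorem cm_full_eq_zero (d : ℤ) (p : ℕ) (hp : p + 1 ≤ n) (x : (KK n R d).X p)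
    (a : Fin (p + 1) → II.{u} n) (e : Fin (n + 1) → ℤ) (he : full e) : cm d p x a e = 0 := by
  by_contra hne
  have h1 : ∀ i, ∃ k, (a k).down = i := fun i => cm_neg d p x a e hne i (he i)
  have h2 : Function.Surjective (fun k => (a k).down) := h1
  have h3 := Fintype.card_le_of_surjective _ h2
  simp only [Fintype.card_fin] at h3
  omega

/-- full monomials do not occur in high twists -/
theorem cm_full_eq_zero' (d : ℤ) (hd : -((n : ℤ) + 1) < d) (p : ℕ) (x : (KK n R d).X p)
    (a : Fin (p + 1) → II.{u} n) (e : Fin (n + 1) → ℤ) (he : full e) : cm d p x a e = 0 := by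
  by_contra hne
  have h1 := cm_degree d p x a e hne
  have h2 : ∑ i, e i ≤ ∑ i : Fin (n + 1), (-1 : ℤ) :=
    Finset.sum_le_sum fun i _ => by have := he i; omega
  simp at h2
  omega

/-- exactness of the Čech complex at cocycles without full monomials -/
theorem exact_of_no_full (d : ℤ) (p : ℕ) (x : (KK n R d).X (p + 1))
    (hx : ((KK n R d).d (p + 1) (p + 2)).hom x = 0)
    (hfull : ∀ a e, full e → cm d (p + 1) x a e = 0) :
    ∃ y : (KK n R d).X p, ((KK n R d).d p (p + 1)).hom y = x := by
  obtain ⟨y, hy⟩ := exists_cm d p (Hm p (cm d (p + 1) x))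
    (adm_Hm d p _ (adm_cm d (p + 1) x)).1 (adm_Hm d p _ (adm_cm d (p + 1) x)).2.1
    (adm_Hm d p _ (adm_cm d (p + 1) x)).2.2
  refine ⟨y, ?_⟩
  apply cm_inj
  rw [cm_d, hy]
  have hdx : PnA.dd (p + 1) (cm d (p + 1) x) = 0 := by
    rw [← cm_d, hx, cm_zero]
  funext a e
  by_cases he : full e
  · rw [dd_full _ _ _ _ he, hfull a e he]
  · have h := Hm_identity p (cm d (p + 1) x) a e he
    rw [hdx, Hm_zero] at h
    simpa using h

/-- degree zero: no cocycles in negative twists -/
theorem cocycle_zero (d : ℤ) (hd : d < 0) (hn : 1 ≤ n) (x : (KK n R d).X 0)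
    (hx : ((KK n R d).d 0 1).hom x = 0) : x = 0 := by
  apply cm_inj
  rw [cm_zero]
  have hdx : PnA.dd 0 (cm d 0 x) = 0 := by
    rw [← cm_d, hx, cm_zero]
  funext a e
  by_contra hne
  have hne' : cm d 0 x a e ≠ 0 := hne
  -- all components are equal
  have heq : ∀ b : Fin 1 → II.{u} n, cm d 0 x b e = cm d 0 x a e := by
    intro b
    have h := PnA.cone0 (b 0) (fun b' => cm d 0 x b' e) a
    have h2 : PnA.dd 0 (fun b' => cm d 0 x b' e) = 0 := by
      funext a'
      rw [← dd_apply, hdx]
      rfl
    rw [h2] at h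
    have h3 : (fun _ : Fin 1 => b 0) = b := by
      funext k
      fin_cases k
      rfl
    rw [h3] at h
    simp only [PnA.hh, Pi.zero_apply] at h
    exact (sub_eq_zero.mp h.symm).symm
  -- hence no negative exponents
  have hpos : ∀ i, 0 ≤ e i := by
    intro i
    by_contra hi
    push Not at hi
    -- pick an index different from i
    obtain ⟨j, hj⟩ : ∃ j : Fin (n + 1), j ≠ i := by
      by_cases h0 : i = 0
      · exact ⟨⟨1, by omega⟩, by rw [h0]; intro h; simp [Fin.ext_iff] at h⟩
      · exact ⟨0, fun h => h0 h.symm⟩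
    have hb : cm d 0 x (fun _ => ⟨j⟩) e ≠ 0 := by rw [heq]; exact hne'
    obtain ⟨k, hk⟩ := cm_neg d 0 x _ e hb i hi
    exact hj hk
  have hdeg := cm_degree d 0 x a e hne'
  have : 0 ≤ ∑ i, e i := Finset.sum_nonneg fun i _ => hpos i
  omega

end Groth.Agent.Lib.Helper4.PnC5
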