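import Mathlib
import Groth.Agent.Lib.Helper4.PnC5
import Groth.Agent.Lib.Helper1.ProjSpaceTwist
import Groth.Agent.S0013
import Groth.Agent.S0022
import Groth.Agent.S3546

/-!
# Projective space cohomology: vanishing of H^q(P^n, O(d)) (helper4)
-/

set_option backward.isDefEq.respectTransparency.types false
set_option synthInstance.maxHeartbeats 400000
set_option autoImplicit false
set_option linter.unusedSectionVars false
set_option linter.style.haveILetI false
set_option linter.unusedSimpArgs false
universe u v w
open CategoryTheory CategoryTheory.Limits AlgebraicGeometry TopologicalSpace Opposite MvPolynomial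
open Groth.Agent.Helper1
open Groth.Agent.Lib.Helper4.PnS1
open Groth.Agent.Lib.Helper4.PnC1
open Groth.Agent.Lib.Helper4.PnC2
open Groth.Agent.Lib.Helper4.PnC3
open Groth.Agent.Lib.Helper4.PnC4
open Groth.Agent.Lib.Helper4.PnC5
open Groth.Agent.Lib.Helper4

namespace Groth.Agent.Lib.Helper4.PnC6

variable (n : ℕ) (R : Type u) [CommRing R]

/-- the standard cover, on the scheme -/
noncomputable def US : II.{u} n → (CohB1.ProjSpace n R).Opens := UU n R

theorem iSup_US : ⨆ i, US n R i = ⊤ := by
  rw [eq_top_iff]
  intro x _
  obtain ⟨i, hi⟩ := ProjSpaceLib.exists_X_notMem n R x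
  rw [Opens.mem_iSup]
  exact ⟨⟨i⟩, hi⟩

theorem xm_single (i : Fin (n + 1)) :
    (xm (Finsupp.single i 1) : MvPolynomial (Fin (n + 1)) R) = X i := rfl

theorem iInf_US (s : Finset (II.{u} n)) (hs : s.Nonempty) :
    (⨅ i ∈ s, US n R i) = Proj.basicOpen (Gr n R) (∏ i ∈ s, (X i.down : MvPolynomial (Fin (n + 1)) R)) := by
  classical
  induction hs using Finset.Nonempty.cons_induction with
  | singleton a =>
    simp only [Finset.mem_singleton, iInf_iInf_eq_left, Finset.prod_singleton]
    rfl
  | cons a s ha hs ih =>
    rw [Finset.cons_eq_insert, Finset.iInf_insert, ih, Finset.prod_insert ha, Proj.basicOpen_mul]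
    rfl

theorem isAffineOpen_iInf_US (s : Finset (II.{u} n)) (hs : s.Nonempty) :
    IsAffineOpen (⨅ i ∈ s, US n R i) := by
  rw [iInf_US n R s hs]
  have hmem : (∏ i ∈ s, (X i.down : MvPolynomial (Fin (n + 1)) R)) ∈ Gr n R s.card := by
    rw [mem_homogeneousSubmodule]
    have := IsHomogeneous.prod s (fun i => (X i.down : MvPolynomial (Fin (n + 1)) R)) (fun _ => 1)
      (fun i _ => isHomogeneous_X R i.down)
    simpa using this
  exact Proj.isAffineOpen_basicOpen (Gr n R) _ hmem (Finset.card_pos.mpr hs)

instance (d : ℤ) : Coh.IsQCoh (Twist.twistProjSpace n R d) :=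
  Groth.Agent.S3546.result (CohB1.polyGrading n R) d

/-- Čech cohomology of the standard cover computes cohomology -/
theorem nonempty_cech_equiv (d : ℤ) (p : ℕ) :
    Nonempty (↑(CohB1.cechH (US n R) (Twist.twistProjSpace n R d) p) ≃+
      Coh.HH (CohB1.ProjSpace n R) (Twist.twistProjSpace n R d) p) :=
  Groth.Agent.S0013.result (CohB1.ProjSpace n R) (US n R) (iSup_US n R) (isAffineOpen_iInf_US n R)
    (Twist.twistProjSpace n R d) p

theorem cechH_eq (d : ℤ) (p : ℕ) :
    CohB1.cechH (US n R) (Twist.twistProjSpace n R d) p = (KK n R d).homology p := rfl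


theorem isZero_homology_zero (K : CochainComplex AddCommGrpCat.{u} ℕ)
    (h : ∀ x : K.X 0, (K.d 0 1).hom x = 0 → x = 0) : IsZero (K.homology 0) := by
  rw [← HomologicalComplex.exactAt_iff_isZero_homology,
    K.exactAt_iff' 0 0 1 (by simp) (by simp), ShortComplex.ab_exact_iff]
  intro x hx
  exact ⟨0, by rw [h x hx]; exact map_zero _⟩

theorem s0844 (d : ℤ) (q : ℕ)
    (h₀ : ¬ (q = 0 ∧ 0 ≤ d)) (hn : ¬ (q = n ∧ d ≤ -((n : ℤ) + 1))) :
    Subsingleton (Coh.HH (CohB1.ProjSpace n R) (Twist.twistProjSpace n R d) q) := by
  by_cases hq : n < q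
  · exact Groth.Agent.S0022.result n R (Twist.twistProjSpace n R d) q hq
  · push Not at hq
    obtain ⟨e⟩ := nonempty_cech_equiv n R d q
    have hz : IsZero ((KK n R d).homology q) := by
      rcases q with _ | q'
      · have hd : d < 0 := by
          by_contra hd
          exact h₀ ⟨rfl, by omega⟩
        have hn1 : 1 ≤ n := by
          by_contra h1
          have : n = 0 := by omega
          subst this
          apply hn
          refine ⟨rfl, ?_⟩
          simp only [CharP.cast_eq_zero, zero_add]
          omega
        exact isZero_homology_zero _ (fun x hx => cocycle_zero d hd hn1 x hx)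
      · apply TCx.isZero_cechH_succ (UU n R) (PP n R d) q'
        intro x hx
        apply exact_of_no_full d q' x hx
        by_cases hlt : q' + 1 < n
        · exact fun a e he => cm_full_eq_zero d (q' + 1) (by omega) x a e he
        · have hqn : q' + 1 = n := by omega
          have hd : -((n : ℤ) + 1) < d := by
            by_contra hd
            exact hn ⟨hqn, by omega⟩
          exact fun a e he => cm_full_eq_zero' d hd (q' + 1) x a e he
    have : Subsingleton ((KK n R d).homology q) := AddCommGrpCat.subsingleton_of_isZero hz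
    have : Subsingleton (CohB1.cechH (US n R) (Twist.twistProjSpace n R d) q) := this
    exact e.symm.toEquiv.subsingleton

end Groth.Agent.Lib.Helper4.PnC6
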