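import Mathlib
import Groth.Agent.Lib.Helper4.PnC6
import Groth.Agent.S2352
import Groth.Agent.Lib.Helper1.ProjSpaceLib

/-!
# Projective space cohomology: the structure sheaf (helper4)
-/

set_option backward.isDefEq.respectTransparency.types false
set_option synthInstance.maxHeartbeats 400000
set_option autoImplicit false
set_option linter.unusedSectionVars false
set_option linter.style.haveILetI false
set_option linter.unusedSimpArgs false
universe u v w
open CategoryTheory CategoryTheory.Limits AlgebraicGeometry TopologicalSpace Opposite MvPolynomial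
open Groth.Agent.Helper1
open Groth.Agent.Lib.Helper4

namespace Groth.Agent.Lib.Helper4.PnC7

variable (n : ℕ) (R : Type u) [CommRing R]

theorem hgen : (HomogeneousIdeal.irrelevant (CohB1.polyGrading n R)).toIdeal =
    Ideal.span ((CohB1.polyGrading n R 1 : Submodule R (MvPolynomial (Fin (n + 1)) R)) : Set (MvPolynomial (Fin (n + 1)) R)) := by
  apply le_antisymm
  · refine (ProjSpaceLib.irrelevant_le n R).trans ?_
    apply Ideal.span_mono
    rintro _ ⟨i, rfl⟩
    exact ProjSpaceLib.X_mem n R i
  · rw [Ideal.span_le]
    intro f hf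
    exact HomogeneousIdeal.mem_irrelevant_of_mem _ Nat.one_pos hf

/-- `O ≅ O(0)` on projective space -/
theorem nonempty_iso_twist_zero :
    Nonempty (Twist.twistProjSpace n R 0 ≅ Coh.structureModule (CohB1.ProjSpace n R)) :=
  (Groth.Agent.S2352.result (CohB1.polyGrading n R) (hgen n R)).2.2 0

theorem s0023 (q : ℕ) (hq : 0 < q) :
    Subsingleton (Coh.HH (CohB1.ProjSpace n R) (Coh.structureModule (CohB1.ProjSpace n R)) q) := by
  obtain ⟨e⟩ := nonempty_iso_twist_zero n R
  have h := PnC6.s0844 n R 0 q (by omega) (by
    rintro ⟨h1, h2⟩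
    have : (0 : ℤ) ≤ n := by positivity
    omega)
  let e' := (Sheaf.functorH (Opens.grothendieckTopology (CohB1.ProjSpace n R)) q).mapIso
    ((SheafOfModules.toSheaf (CohB1.ProjSpace n R).ringCatSheaf).mapIso e)
  exact @Equiv.subsingleton _ _ e'.symm.addCommGroupIsoToAddEquiv.toEquiv h

end Groth.Agent.Lib.Helper4.PnC7
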