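import Mathlib
import Groth.Prelude.Def_CechEdge
import Groth.Agent.Lib.Helper3.CechEdgeD
import Groth.Agent.Lib.Helper3.TopCech
import Groth.Agent.Lib.Helper3.HTerm

/-!
# Naturality of the Cech-to-derived edge maps (site level) (helper4)
-/

set_option backward.isDefEq.respectTransparency.types false
set_option synthInstance.maxHeartbeats 400000
set_option autoImplicit false
set_option linter.unusedSectionVars false
set_option linter.style.haveILetI false
set_option linter.unusedSimpArgs false
universe u v w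
open CategoryTheory CategoryTheory.Limits TopologicalSpace Opposite
open Groth.Agent.Helper3

namespace Groth.Agent.Lib.Helper4.PnE1

section N3
variable {C : Type u} [SmallCategory C] (J : GrothendieckTopology C)

/-- naturality of the identification of global cohomology with cohomology of a terminal object -/
theorem HEquiv_natural {T : C} (hT : IsTerminal T) {F G : Sheaf J AddCommGrpCat.{u}} (ψ : F ⟶ G)
    (n : ℕ) (x : Sheaf.H F n) :
    HTerm.HEquiv J hT G n (Sheaf.H.map ψ n x) = CechEdge.HUmap ψ n T (HTerm.HEquiv J hT F n x) := by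
  have h := ConcreteCategory.congr_hom
    (((Abelian.extFunctor n).map (HTerm.sheafIso J hT).op.hom).naturality ψ) x
  exact h

end N3


section N2
variable {C : Type u} [SmallCategory C] [HasPullbacks C] (J : GrothendieckTopology C)

theorem HUmap_comp {F G H : Sheaf J AddCommGrpCat.{u}} (f : F ⟶ G) (g : G ⟶ H) (p : ℕ) (U : C)
    (x : CohSite.HU F p U) :
    CechEdge.HUmap (f ≫ g) p U x = CechEdge.HUmap g p U (CechEdge.HUmap f p U x) := by
  have h : (Sheaf.cohomologyPresheafFunctor J p).map (f ≫ g) =
      (Sheaf.cohomologyPresheafFunctor J p).map f ≫ (Sheaf.cohomologyPresheafFunctor J p).map g :=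
    Functor.map_comp _ _ _
  have h2 := congrArg (fun t => (t.app (op U)).hom x) h
  exact h2

variable {U : C} {ι : Type u} (Y : ι → Over U)

theorem edgeSh_natural
    (e : ∀ (P : Cᵒᵖ ⥤ AddCommGrpCat.{u}) (p : ℕ), CohCx.cechH P Y p →+ CohSite.HU (CechEdge.shf J P) p U)
    (he : CechEdge.IsEdge J Y e) {F G : Sheaf J AddCommGrpCat.{u}} (ψ : F ⟶ G) (p : ℕ)
    (x : CohCx.cechH F.obj Y p) :
    CechEdge.edgeSh e G p (CechEdge.cechHMap Y ψ.hom p x) =
      CechEdge.HUmap ψ p U (CechEdge.edgeSh e F p x) := by
  have h1 := he.natural F.obj G.obj ψ.hom p x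
  have h2 : CechEdge.shfMap J ψ.hom ≫ (sheafificationAdjunction J AddCommGrpCat.{u}).counit.app G =
      (sheafificationAdjunction J AddCommGrpCat.{u}).counit.app F ≫ ψ :=
    (sheafificationAdjunction J AddCommGrpCat.{u}).counit.naturality ψ
  change CechEdge.HUmap _ p U (e G.obj p _) = CechEdge.HUmap ψ p U (CechEdge.HUmap _ p U (e F.obj p x))
  rw [h1, ← HUmap_comp, ← HUmap_comp, h2]

theorem edgeSh_bijective
    (e : ∀ (P : Cᵒᵖ ⥤ AddCommGrpCat.{u}) (p : ℕ), CohCx.cechH P Y p →+ CohSite.HU (CechEdge.shf J P) p U)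
    (he : CechEdge.IsEdge J Y e) (F : Sheaf J AddCommGrpCat.{u}) (hF : CechEdgeD.Acy Y J F) (p : ℕ) :
    Function.Bijective (CechEdge.edgeSh e F p) := by
  have h1 := CechEdgeD.edge_bijective_of_acy Y J e he p F hF
  have h2 := CechEdgeA.HUmap_bijective_of_isIso U J
    ((sheafificationAdjunction J AddCommGrpCat.{u}).counit.app F) p
  exact h2.comp h1

end N2

end Groth.Agent.Lib.Helper4.PnE1
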