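import Mathlib
import Groth.Prelude.Def_CechEdge
import Groth.Agent.Lib.Helper3.TopCech

/-!
# Naturality of the opens-vs-over Cech comparison (helper4)
-/

set_option backward.isDefEq.respectTransparency.types false
set_option synthInstance.maxHeartbeats 400000
set_option autoImplicit false
set_option linter.unusedSectionVars false
set_option linter.style.haveILetI false
set_option linter.unusedSimpArgs false
universe u v w
open CategoryTheory CategoryTheory.Limits TopologicalSpace Opposite
open Groth.Agent.Helper3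

namespace Groth.Agent.Lib.Helper4.PnE2

variable {X : TopCat.{u}} {ι : Type u} (U : ι → Opens X)
  {P Q : (Opens X)ᵒᵖ ⥤ AddCommGrpCat.{u}} (φ : P ⟶ Q)

/-- the map of Čech cosimplicial groups (opens version) -/
noncomputable abbrev mapA : TopCech.A U P ⟶ TopCech.A U Q :=
  (FormalCoproduct.cosimplicialObjectFunctor (FormalCoproduct.mk _ U).cech).map φ

/-- the map of Čech cosimplicial groups (over version) -/
noncomputable abbrev mapB : TopCech.B U P ⟶ TopCech.B U Q :=
  (FormalCoproduct.cosimplicialObjectFunctor (FormalCoproduct.mk _ (TopCech.Y U)).cech).map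
    (Functor.whiskerLeft (Over.forget (iSup U)).op φ)

theorem cosimp_natural :
    mapA U φ ≫ (TopCech.cosimpIso U Q).hom = (TopCech.cosimpIso U P).hom ≫ mapB U φ := by
  apply NatTrans.ext
  funext n
  have hA : (mapA U φ).app n = Limits.Pi.map (fun a : ToType n → ι =>
      φ.app (op (∏ᶜ fun k => U (a k)))) := rfl
  have hB : (mapB U φ).app n = Limits.Pi.map (fun a : ToType n → ι =>
      φ.app (op (∏ᶜ fun k => TopCech.Y U (a k)).left)) := rfl
  have hQ : (TopCech.cosimpIso U Q).hom.app n = (TopCech.termIso U Q n).hom := rfl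
  have hP : (TopCech.cosimpIso U P).hom.app n = (TopCech.termIso U P n).hom := rfl
  change (mapA U φ).app n ≫ (TopCech.cosimpIso U Q).hom.app n =
    (TopCech.cosimpIso U P).hom.app n ≫ (mapB U φ).app n
  rw [hA, hB, hQ, hP]
  apply Pi.hom_ext
  intro a
  have h1Q : (TopCech.termIso U Q n).hom ≫ Pi.π _ a =
      Pi.π (fun (c : ToType n → ι) => Q.obj (op (∏ᶜ fun k => U (c k)))) a ≫
        (Q.mapIso (eqToIso (congrArg op (TopCech.prod_left_eq U a).symm))).hom :=
    Pi.mapIso_hom_π _ a
  have h1P : (TopCech.termIso U P n).hom ≫ Pi.π _ a =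
      Pi.π (fun (c : ToType n → ι) => P.obj (op (∏ᶜ fun k => U (c k)))) a ≫
        (P.mapIso (eqToIso (congrArg op (TopCech.prod_left_eq U a).symm))).hom :=
    Pi.mapIso_hom_π _ a
  have h2A : Limits.Pi.map (fun a : ToType n → ι => φ.app (op (∏ᶜ fun k => U (a k)))) ≫ Pi.π _ a =
      Pi.π _ a ≫ φ.app (op (∏ᶜ fun k => U (a k))) := Pi.map_π _ a
  have h2B : Limits.Pi.map (fun a : ToType n → ι =>
      φ.app (op (∏ᶜ fun k => TopCech.Y U (a k)).left)) ≫ Pi.π _ a =
      Pi.π _ a ≫ φ.app (op (∏ᶜ fun k => TopCech.Y U (a k)).left) := Pi.map_π _ a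
  refine (Category.assoc _ _ _).trans ((congrArg (_ ≫ ·) h1Q).trans ?_)
  refine ((Category.assoc _ _ _).symm.trans (congrArg (· ≫ _) h2A)).trans ?_
  refine Eq.symm ((Category.assoc _ _ _).trans ((congrArg (_ ≫ ·) h2B).trans ?_))
  refine ((Category.assoc _ _ _).symm.trans (congrArg (· ≫ _) h1P)).trans ?_
  refine (Category.assoc _ _ _).trans (Eq.trans ?_ (Category.assoc _ _ _).symm)
  refine congrArg (_ ≫ ·) ?_
  dsimp only [Functor.mapIso_hom]
  exact φ.naturality _


theorem cechHIso_natural_hom (p : ℕ) :
    HomologicalComplex.homologyMap ((cechComplexFunctor U).map φ) p ≫ (TopCech.cechHIso U Q p).hom =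
      (TopCech.cechHIso U P p).hom ≫
        HomologicalComplex.homologyMap ((CechEdge.cxFunctor (TopCech.Y U)).map φ) p := by
  have h1 : (cechComplexFunctor U).map φ =
      (AlgebraicTopology.alternatingCofaceMapComplex AddCommGrpCat.{u}).map (mapA U φ) := rfl
  have h2 : (CechEdge.cxFunctor (TopCech.Y U)).map φ =
      (AlgebraicTopology.alternatingCofaceMapComplex AddCommGrpCat.{u}).map (mapB U φ) := rfl
  have h3 : (TopCech.cechHIso U Q p).hom = (HomologicalComplex.homologyFunctor _ _ p).map
      ((AlgebraicTopology.alternatingCofaceMapComplex AddCommGrpCat.{u}).map (TopCech.cosimpIso U Q).hom) := rfl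
  have h4 : (TopCech.cechHIso U P p).hom = (HomologicalComplex.homologyFunctor _ _ p).map
      ((AlgebraicTopology.alternatingCofaceMapComplex AddCommGrpCat.{u}).map (TopCech.cosimpIso U P).hom) := rfl
  have hc : (AlgebraicTopology.alternatingCofaceMapComplex AddCommGrpCat.{u}).map (mapA U φ) ≫
      (AlgebraicTopology.alternatingCofaceMapComplex AddCommGrpCat.{u}).map (TopCech.cosimpIso U Q).hom =
      (AlgebraicTopology.alternatingCofaceMapComplex AddCommGrpCat.{u}).map (TopCech.cosimpIso U P).hom ≫
      (AlgebraicTopology.alternatingCofaceMapComplex AddCommGrpCat.{u}).map (mapB U φ) :=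
    ((AlgebraicTopology.alternatingCofaceMapComplex AddCommGrpCat.{u}).map_comp _ _).symm.trans
      ((congrArg (AlgebraicTopology.alternatingCofaceMapComplex AddCommGrpCat.{u}).map (cosimp_natural U φ)).trans
        ((AlgebraicTopology.alternatingCofaceMapComplex AddCommGrpCat.{u}).map_comp _ _))
  have hh := congrArg (fun t => HomologicalComplex.homologyMap t p) hc
  simp only [HomologicalComplex.homologyMap_comp] at hh
  rw [h1, h2, h3, h4]
  exact hh

theorem cechHIso_natural (p : ℕ) (x : CohTop.cechH P U p) :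
    (TopCech.cechHIso U Q p).hom.hom
        ((HomologicalComplex.homologyMap ((cechComplexFunctor U).map φ) p).hom x) =
      CechEdge.cechHMap (TopCech.Y U) φ p ((TopCech.cechHIso U P p).hom.hom x) :=
  ConcreteCategory.congr_hom (cechHIso_natural_hom U φ p) x

end Groth.Agent.Lib.Helper4.PnE2
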