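import Mathlib
import Groth.Prelude.Def_CechEdge
import Groth.Agent.Lib.Helper4.PnE1
import Groth.Agent.Lib.Helper4.PnE2

/-!
# Natural Leray comparison for open covers of a space (helper4)
-/

set_option backward.isDefEq.respectTransparency.types false
set_option synthInstance.maxHeartbeats 400000
set_option autoImplicit false
set_option linter.unusedSectionVars false
set_option linter.style.haveILetI false
set_option linter.unusedSimpArgs false
universe u v w
open CategoryTheory CategoryTheory.Limits TopologicalSpace Opposite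
open Groth.Agent.Helper3
open Groth.Agent.Lib.Helper4

namespace Groth.Agent.Lib.Helper4.PnE3

variable {X : TopCat.{u}} {ι : Type u} (U : ι → Opens X)

theorem hY : Sieve.ofArrows (fun i => (TopCech.Y U i).left) (fun i => (TopCech.Y U i).hom) ∈
    Opens.grothendieckTopology X (iSup U) := by
  intro x hx
  obtain ⟨i, hi⟩ := Opens.mem_iSup.1 hx
  exact ⟨U i, homOfLE (le_iSup U i), ⟨_, 𝟙 _, _, ⟨i⟩, Category.id_comp _⟩, hi⟩

/-- the edge family for the cover -/
noncomputable abbrev ee := CechEdgeA.edge (TopCech.Y U) (Opens.grothendieckTopology X) (hY U)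

theorem he : CechEdge.IsEdge (Opens.grothendieckTopology X) (TopCech.Y U) (ee U) :=
  CechEdgeA.isEdge_edge (TopCech.Y U) (Opens.grothendieckTopology X) (hY U)

variable (hT : IsTerminal (iSup U))

/-- the natural comparison from Čech cohomology to sheaf cohomology -/
noncomputable def EE (F : Sheaf (Opens.grothendieckTopology X) AddCommGrpCat.{u}) (p : ℕ) :
    CohTop.cechH F.obj U p →+ Sheaf.H F p :=
  (HTerm.HEquiv (Opens.grothendieckTopology X) hT F p).symm.toAddMonoidHom.comp
    ((CechEdge.edgeSh (ee U) F p).comp (TopCech.cechHIso U F.obj p).hom.hom)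

theorem EE_natural {F G : Sheaf (Opens.grothendieckTopology X) AddCommGrpCat.{u}} (ψ : F ⟶ G) (p : ℕ)
    (x : CohTop.cechH F.obj U p) :
    EE U hT G p ((HomologicalComplex.homologyMap ((cechComplexFunctor U).map ψ.hom) p).hom x) =
      Sheaf.H.map ψ p (EE U hT F p x) := by
  have h1 := PnE2.cechHIso_natural U ψ.hom p x
  have h2 := PnE1.edgeSh_natural (Opens.grothendieckTopology X) (TopCech.Y U) (ee U) (he U) ψ p
    ((TopCech.cechHIso U F.obj p).hom.hom x)
  have h3 := PnE1.HEquiv_natural (Opens.grothendieckTopology X) hT ψ p (EE U hT F p x)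
  apply (HTerm.HEquiv (Opens.grothendieckTopology X) hT G p).injective
  rw [h3]
  change (HTerm.HEquiv _ hT G p) ((HTerm.HEquiv _ hT G p).symm _) =
    CechEdge.HUmap ψ p (iSup U) ((HTerm.HEquiv _ hT F p) ((HTerm.HEquiv _ hT F p).symm _))
  rw [AddEquiv.apply_symm_apply, AddEquiv.apply_symm_apply]
  change CechEdge.edgeSh (ee U) G p ((TopCech.cechHIso U G.obj p).hom.hom _) = _
  rw [h1, h2]
  rfl

theorem EE_bijective (F : Sheaf (Opens.grothendieckTopology X) AddCommGrpCat.{u})
    (h : ∀ (p : ℕ) (a : Fin (p + 1) → ι) (q : ℕ),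
      Subsingleton (CohTop.HU F (q + 1) (iInf fun k => U (a k)))) (p : ℕ) :
    Function.Bijective (EE U hT F p) := by
  have hA : CechEdgeD.Acy (TopCech.Y U) (Opens.grothendieckTopology X) F := by
    intro p a q
    have h1 := TopCech.prod_left_eq U a
    have h2 := TopCech.prod_eq_iInf U a
    change Subsingleton (CohSite.HU F (q + 1) (∏ᶜ fun k => TopCech.Y U (a k)).left)
    rw [h1, h2]
    exact h p a q
  have hb := PnE1.edgeSh_bijective (Opens.grothendieckTopology X) (TopCech.Y U) (ee U) (he U) F hA p
  have hc : Function.Bijective (TopCech.cechHIso U F.obj p).hom.hom :=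
    ConcreteCategory.bijective_of_isIso (TopCech.cechHIso U F.obj p).hom
  exact (HTerm.HEquiv (Opens.grothendieckTopology X) hT F p).symm.bijective.comp (hb.comp hc)

end Groth.Agent.Lib.Helper4.PnE3
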