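import Mathlib
import Groth.Agent.Lib.Helper4.PnC3
import Groth.Agent.Lib.Helper1.ProjSpaceH0

/-!
# Projective space cohomology: the action of the base ring on Cech cochains (helper4)
-/

set_option backward.isDefEq.respectTransparency.types false
set_option synthInstance.maxHeartbeats 400000
set_option autoImplicit false
set_option linter.unusedSectionVars false
set_option linter.style.haveILetI false
set_option linter.unusedSimpArgs false
universe u v w
open CategoryTheory CategoryTheory.Limits AlgebraicGeometry TopologicalSpace Opposite MvPolynomial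
open Groth.Agent.Helper1
open Groth.Agent.Lib.Helper4.PnS1
open Groth.Agent.Lib.Helper4.PnS2 hiding xm
open Groth.Agent.Lib.Helper4.PnS3
open Groth.Agent.Lib.Helper4.PnS4
open Groth.Agent.Lib.Helper4.PnC1
open Groth.Agent.Lib.Helper4.PnC2
open Groth.Agent.Lib.Helper4.PnC3
open Groth.Agent.Lib.Helper4

namespace Groth.Agent.Lib.Helper4.PnL1

variable (n : ℕ) (R : Type u) [CommRing R] (d : ℤ)

/-- multiplication by `r ∈ R` on `O(d)`, as a morphism of presheaves of abelian groups -/
noncomputable def phiR (r : R) : PP n R d ⟶ PP n R d :=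
  (Coh.smulAb (Twist.twistProjSpace n R d) (Coh.toGlobal (CohB1.ProjSpace.toSpec n R) r)).hom

variable {n R d}

theorem phiR_val (r : R) (V : Opens (PT n R)) (s : Twist.sectN (𝒜 := Gr n R) d (op V)) (x : V) :
    ((((show Twist.sectN (𝒜 := Gr n R) d (op V) from ((phiR n R d r).app (op V)).hom s)).1 x).1 :
      Twist.Loc (Gr n R) x.1) =
    Localization.mk (C r : MvPolynomial (Fin (n + 1)) R) 1 * ((s.1 x).1 : Twist.Loc (Gr n R) x.1) := by
  have h1 := TwistTriv.smul_sec_val (Gr n R) V
    (show Twist.O (𝒜 := Gr n R) (op V) from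
      Coh.resTop (CohB1.ProjSpace n R) (op V) (Coh.toGlobal (CohB1.ProjSpace.toSpec n R) r)) s x
  refine Eq.trans ?_ (h1.trans ?_)
  · rfl
  · congr 1
    exact ProjSpaceLib.toGlobal_val n R r x.1


theorem lam_phiR (r : R) (V : Opens (PT n R)) (hV : TT ≤ V) (s : Twist.sectN (𝒜 := Gr n R) d (op V)) :
    lam d V hV (show Twist.sectN (𝒜 := Gr n R) d (op V) from ((phiR n R d r).app (op V)).hom s) =
      r • lam d V hV s := by
  have key : ∀ w m, IsRep d (Twist.resN d (homOfLE hV).op s) w m → Hg d w m →
      lam d V hV (show Twist.sectN (𝒜 := Gr n R) d (op V) from ((phiR n R d r).app (op V)).hom s) =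
      r • lam d V hV s := by
    intro w m h hm
    obtain ⟨hw, h⟩ := h
    have h2 : IsRep d (Twist.resN d (homOfLE hV).op
        (show Twist.sectN (𝒜 := Gr n R) d (op V) from ((phiR n R d r).app (op V)).hom s)) w (C r * m) := by
      refine ⟨hw, fun x => ?_⟩
      have e1 := phiR_val r V s ⟨x.1, hV x.2⟩
      have e2 := h x
      refine Eq.trans ?_ ((e1.trans (congrArg _ e2)).trans ?_)
      · rfl
      · rw [Localization.mk_mul]
        congr 1
        exact one_mul _
    have hm2 : Hg d w (C r * m) := by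
      obtain ⟨D, hD, hDd⟩ := hm
      refine ⟨D, ?_, hDd⟩
      rw [← MvPolynomial.smul_eq_C_mul]
      exact Submodule.smul_mem _ r hD
    have e3 : lam d V hV (show Twist.sectN (𝒜 := Gr n R) d (op V) from
        ((phiR n R d r).app (op V)).hom s) = co w (C r * m) := PhiT_eq h2 hm2
    have e4 : lam d V hV s = co w m := PhiT_eq ⟨hw, h⟩ hm
    rw [e3, e4, co_smul]
  exact (exists_rep_T d (Twist.resN d (homOfLE hV).op s)).elim fun w hw => hw.elim fun m hm =>
    key w m hm.1 hm.2

/-- multiplication by `r` on the Čech complex -/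
noncomputable def psiR (n : ℕ) (R : Type u) [CommRing R] (d : ℤ) (r : R) : KK n R d ⟶ KK n R d :=
  (cechComplexFunctor (UU n R)).map (phiR n R d r)

theorem psiR_proj (r : R) (p : ℕ) (a : Fin (p + 1) → II.{u} n) :
    (psiR n R d r).f p ≫ TCx.proj (UU n R) (PP n R d) p a =
      TCx.proj (UU n R) (PP n R d) p a ≫ (phiR n R d r).app (op (TCx.W (UU n R) a)) := by
  have h : (psiR n R d r).f p = Limits.Pi.map (fun a : Fin (p + 1) → II.{u} n =>
      (phiR n R d r).app (op (TCx.W (UU n R) a))) := rfl
  rw [h]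
  exact Pi.map_π _ a

theorem cm_psiR (r : R) (p : ℕ) (x : (KK n R d).X p) :
    cm d p (((psiR n R d r).f p).hom x) = r • cm d p x := by
  funext a
  have h1 := ConcreteCategory.congr_hom (psiR_proj (d := d) r p a) x
  have h2 : cm d p (((psiR n R d r).f p).hom x) a =
      lam d (TCx.W (UU n R) a) (TT_le_W a)
        (show Twist.sectN (𝒜 := Gr n R) d (op (TCx.W (UU n R) a)) from
          (TCx.proj (UU n R) (PP n R d) p a).hom (((psiR n R d r).f p).hom x)) := rfl
  rw [h2]
  have h3 : (show Twist.sectN (𝒜 := Gr n R) d (op (TCx.W (UU n R) a)) from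
      (TCx.proj (UU n R) (PP n R d) p a).hom (((psiR n R d r).f p).hom x)) =
      (show Twist.sectN (𝒜 := Gr n R) d (op (TCx.W (UU n R) a)) from
        ((phiR n R d r).app (op (TCx.W (UU n R) a))).hom
          (show Twist.sectN (𝒜 := Gr n R) d (op (TCx.W (UU n R) a)) from
            (TCx.proj (UU n R) (PP n R d) p a).hom x)) := h1
  rw [h3, lam_phiR]
  rfl

end Groth.Agent.Lib.Helper4.PnL1
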