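import Mathlib
import Groth.Agent.Lib.Helper4.PnE3
import Groth.Agent.Lib.Helper4.PnC6
import Groth.Agent.Lib.Helper4.PnL1

/-!
# Natural Leray comparison for the standard cover of projective space (helper4)
-/

set_option backward.isDefEq.respectTransparency.types false
set_option synthInstance.maxHeartbeats 400000
set_option autoImplicit false
set_option linter.unusedSectionVars false
set_option linter.style.haveILetI false
set_option linter.unusedSimpArgs false
universe u v w
open CategoryTheory CategoryTheory.Limits AlgebraicGeometry TopologicalSpace Opposite MvPolynomial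
open Groth.Agent.Helper1
open Groth.Agent.Lib.Helper4.PnS1
open Groth.Agent.Lib.Helper4.PnC1
open Groth.Agent.Lib.Helper4.PnC2
open Groth.Agent.Lib.Helper4.PnC6
open Groth.Agent.Lib.Helper4.PnL1
open Groth.Agent.Lib.Helper4

namespace Groth.Agent.Lib.Helper4.PnE4

variable (n : ℕ) (R : Type u) [CommRing R] (d : ℤ)

noncomputable def hTn : IsTerminal (iSup (UU n R)) := by
  have h : iSup (UU n R) = ⊤ := iSup_US n R
  rw [h]
  exact isTerminalTop

/-- the natural Leray comparison for the standard cover of projective space -/
noncomputable def En (p : ℕ) :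
    (KK n R d).homology p →+ Coh.HH (CohB1.ProjSpace n R) (Twist.twistProjSpace n R d) p :=
  PnE3.EE (UU n R) (hTn n R) (Coh.toAb (Twist.twistProjSpace n R d)) p

theorem En_bijective (p : ℕ) : Function.Bijective (En n R d p) := by
  apply PnE3.EE_bijective
  intro q a r
  have h1 : (iInf fun k => US n R (a k)) = ⨅ i ∈ (Finset.univ.image a : Finset (II.{u} n)), US n R i := by
    apply le_antisymm
    · refine le_iInf fun i => le_iInf fun hi => ?_
      obtain ⟨k, -, rfl⟩ := Finset.mem_image.1 hi
      exact iInf_le _ k
    · refine le_iInf fun k => ?_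
      exact (iInf_le _ (a k)).trans (iInf_le _ (Finset.mem_image_of_mem a (Finset.mem_univ k)))
  have h2 : IsAffineOpen (X := CohB1.ProjSpace n R) (iInf fun k => US n R (a k)) := by
    rw [h1]
    exact isAffineOpen_iInf_US n R _ ⟨a 0, Finset.mem_image_of_mem a (Finset.mem_univ 0)⟩
  exact Groth.Agent.Helper1.QcAcyc.subsingleton_HU (Twist.twistProjSpace n R d) _ h2 r

theorem En_smul (p : ℕ) (r : R) (x : (KK n R d).homology p) :
    En n R d p ((HomologicalComplex.homologyMap (psiR n R d r) p).hom x) = r • En n R d p x :=
  PnE3.EE_natural (UU n R) (hTn n R)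
    (Coh.smulAb (Twist.twistProjSpace n R d) (Coh.toGlobal (CohB1.ProjSpace.toSpec n R) r)) p x

end Groth.Agent.Lib.Helper4.PnE4
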