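import Mathlib

/-!
# Concrete cycles and homology classes of cochain complexes of abelian groups (helper4)
-/

set_option backward.isDefEq.respectTransparency.types false
set_option synthInstance.maxHeartbeats 400000
set_option autoImplicit false
set_option linter.unusedSectionVars false
set_option linter.style.haveILetI false
set_option linter.unusedSimpArgs false
universe u v w
open CategoryTheory CategoryTheory.Limits

namespace Groth.Agent.Lib.Helper4.PnH

variable (K L : CochainComplex AddCommGrpCat.{u} ℕ) (q : ℕ)

theorem iCycles_injective (i : ℕ) : Function.Injective (K.iCycles i).hom :=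
  (AddCommGrpCat.mono_iff_injective _).1 inferInstance

theorem homologyπ_surjective (i : ℕ) : Function.Surjective (K.homologyπ i).hom :=
  (AddCommGrpCat.epi_iff_surjective _).1 inferInstance

theorem iCycles_d (i : ℕ) (z : K.cycles i) : (K.d i (i + 1)).hom ((K.iCycles i).hom z) = 0 := by
  have h := ConcreteCategory.congr_hom (K.iCycles_d i (i + 1)) z
  exact h

theorem exists_cycle (i : ℕ) (x : K.X i) (hx : (K.d i (i + 1)).hom x = 0) :
    ∃ z : K.cycles i, (K.iCycles i).hom z = x := by
  have hex : (ShortComplex.mk (K.iCycles i) (K.d i (i + 1)) (K.iCycles_d i (i + 1))).Exact :=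
    ShortComplex.exact_of_f_is_kernel _ (K.cyclesIsKernel i (i + 1) (by simp))
  rw [ShortComplex.ab_exact_iff] at hex
  exact hex x hx

theorem homologyπ_eq_zero_iff (z : K.cycles (q + 1)) :
    (K.homologyπ (q + 1)).hom z = 0 ↔
      ∃ y : K.X q, (K.d q (q + 1)).hom y = (K.iCycles (q + 1)).hom z := by
  have hex : (ShortComplex.mk (K.toCycles q (q + 1)) (K.homologyπ (q + 1))
      (K.toCycles_comp_homologyπ q (q + 1))).Exact :=
    ShortComplex.exact_of_g_is_cokernel _ (K.homologyIsCokernel q (q + 1) (by simp))
  rw [ShortComplex.ab_exact_iff] at hex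
  constructor
  · intro h
    obtain ⟨y, hy⟩ := hex z h
    refine ⟨y, ?_⟩
    have h3 := ConcreteCategory.congr_hom (K.toCycles_i q (q + 1)) y
    rw [← h3]
    change (K.iCycles (q + 1)).hom ((K.toCycles q (q + 1)).hom y) = _
    have hy' : (K.toCycles q (q + 1)).hom y = z := hy
    rw [hy']
  · rintro ⟨y, hy⟩
    have h1 : (K.toCycles q (q + 1)).hom y = z := by
      apply iCycles_injective
      rw [← hy]
      exact ConcreteCategory.congr_hom (K.toCycles_i q (q + 1)) y
    rw [← h1]
    exact ConcreteCategory.congr_hom (K.toCycles_comp_homologyπ q (q + 1)) y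

variable {K L}

theorem iCycles_cyclesMap (φ : K ⟶ L) (i : ℕ) (z : K.cycles i) :
    (L.iCycles i).hom ((HomologicalComplex.cyclesMap φ i).hom z) = (φ.f i).hom ((K.iCycles i).hom z) :=
  ConcreteCategory.congr_hom (HomologicalComplex.cyclesMap_i φ i) z

theorem homologyMap_π (φ : K ⟶ L) (i : ℕ) (z : K.cycles i) :
    (HomologicalComplex.homologyMap φ i).hom ((K.homologyπ i).hom z) =
      (L.homologyπ i).hom ((HomologicalComplex.cyclesMap φ i).hom z) :=
  ConcreteCategory.congr_hom (HomologicalComplex.homologyπ_naturality φ i) z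

end Groth.Agent.Lib.Helper4.PnH
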