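import Mathlib
import Groth.Agent.Lib.Helper4.PnC5

/-!
# Projective space cohomology: the top-degree invariant of Cech cocycles (helper4)
-/

set_option backward.isDefEq.respectTransparency.types false
set_option synthInstance.maxHeartbeats 400000
set_option autoImplicit false
set_option linter.unusedSectionVars false
set_option linter.style.haveILetI false
set_option linter.unusedSimpArgs false
universe u v w
open CategoryTheory CategoryTheory.Limits AlgebraicGeometry TopologicalSpace Opposite MvPolynomial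
open Groth.Agent.Helper1
open Groth.Agent.Lib.Helper4.PnS1
open Groth.Agent.Lib.Helper4.PnC1
open Groth.Agent.Lib.Helper4.PnC2
open Groth.Agent.Lib.Helper4.PnC3
open Groth.Agent.Lib.Helper4.PnC4
open Groth.Agent.Lib.Helper4.PnC5
open Groth.Agent.Lib.Helper4

namespace Groth.Agent.Lib.Helper4.PnT1

variable {R : Type u} [CommRing R] (p : ℕ) (d : ℤ)

/-- the indexing equivalence -/
def eqv : II.{u} (p + 1) ≃ Fin (p + 1 + 1) := Equiv.ulift

/-- the identity tuple -/
def a₀ : Fin (p + 1 + 1) → II.{u} (p + 1) := fun i => (eqv p).symm i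

/-- the module of Laurent tails: finitely supported, of degree `d`, on full monomials -/
def Gf (n : ℕ) (R : Type u) [CommRing R] (d : ℤ) : Submodule R ((Fin (n + 1) → ℤ) → R) where
  carrier := {g | (Function.support g).Finite ∧ ∀ e, g e ≠ 0 → (∑ i, e i = d ∧ full e)}
  zero_mem' := ⟨by simp, fun e he => absurd rfl he⟩
  add_mem' := by
    rintro g g' ⟨h1, h2⟩ ⟨h1', h2'⟩
    refine ⟨(h1.union h1').subset (Function.support_add g g'), fun e he => ?_⟩
    by_cases hg : g e = 0
    · apply h2'
      intro hg'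
      apply he
      simp [hg, hg']
    · exact h2 e hg
  smul_mem' := by
    rintro r g ⟨h1, h2⟩
    refine ⟨h1.subset (Function.support_const_smul_subset r g), fun e he => ?_⟩
    apply h2
    intro hg
    apply he
    simp [hg]

variable {p d}

theorem surj_of_cm_full (x : (KK (p + 1) R d).X (p + 1)) (a : Fin (p + 1 + 1) → II.{u} (p + 1))
    (e : Fin (p + 1 + 1) → ℤ) (he : full e) (hne : cm d (p + 1) x a e ≠ 0) :
    Function.Surjective a := by
  intro y
  obtain ⟨k, hk⟩ := cm_neg d (p + 1) x a e hne y.down (he y.down)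
  exact ⟨k, ULift.ext _ _ hk⟩

/-- on full monomials, a cocycle is alternating -/
theorem cm_alt (x : (KK (p + 1) R d).X (p + 1))
    (hx : ((KK (p + 1) R d).d (p + 1) (p + 2)).hom x = 0)
    (a : Fin (p + 1 + 1) → II.{u} (p + 1)) (e : Fin (p + 1 + 1) → ℤ) (he : full e) :
    cm d (p + 1) x a e = PnA.sg (eqv p) a • cm d (p + 1) x (a₀ p) e := by
  have hdx : PnA.dd (p + 1) (cm d (p + 1) x) = 0 := by
    rw [← cm_d, hx, cm_zero]
  refine PnA.alt_eq (eqv p) (fun a => cm d (p + 1) x a e) ?_ ?_ a
  · intro a ha
    by_contra hne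
    exact ha (surj_of_cm_full x a e he hne)
  · intro b
    have h := congrFun (congrFun hdx b) e
    rw [dd_apply] at h
    exact h

/-- the top-degree invariant of a cochain -/
noncomputable def Psi0 (x : (KK (p + 1) R d).X (p + 1)) : (Fin (p + 1 + 1) → ℤ) → R :=
  open Classical in fun e => if full e then cm d (p + 1) x (a₀ p) e else 0

theorem Psi0_add (x y : (KK (p + 1) R d).X (p + 1)) : Psi0 (x + y) = Psi0 x + Psi0 y := by
  classical
  funext e
  simp only [Psi0, cm_add, Pi.add_apply]
  split_ifs <;> simp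

theorem Psi0_mem (x : (KK (p + 1) R d).X (p + 1)) : Psi0 x ∈ Gf (p + 1) R d := by
  classical
  refine ⟨(cm_finite d (p + 1) x (a₀ p)).subset ?_, fun e he => ?_⟩
  · intro e he
    rw [Function.mem_support] at he ⊢
    simp only [Psi0] at he
    split_ifs at he with hf
    · exact he
    · exact absurd rfl he
  · simp only [Psi0] at he
    split_ifs at he with hf
    · exact ⟨cm_degree d (p + 1) x (a₀ p) e he, hf⟩
    · exact absurd rfl he

theorem Psi0_d (y : (KK (p + 1) R d).X p) : Psi0 (((KK (p + 1) R d).d p (p + 1)).hom y) = 0 := by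
  classical
  funext e
  simp only [Psi0, Pi.zero_apply]
  split_ifs with hf
  · rw [cm_d, dd_apply]
    simp only [PnA.dd]
    apply Finset.sum_eq_zero
    intro i _
    rw [cm_full_eq_zero d p le_rfl y _ e hf, smul_zero]
  · rfl

theorem exact_of_Psi0 (x : (KK (p + 1) R d).X (p + 1))
    (hx : ((KK (p + 1) R d).d (p + 1) (p + 2)).hom x = 0) (h0 : Psi0 x = 0) :
    ∃ y : (KK (p + 1) R d).X p, ((KK (p + 1) R d).d p (p + 1)).hom y = x := by
  classical
  apply exact_of_no_full d p x hx
  intro a e he
  rw [cm_alt x hx a e he]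
  have := congrFun h0 e
  simp only [Psi0, if_pos he, Pi.zero_apply] at this
  rw [this, smul_zero]

theorem exists_of_Gf (g : (Fin (p + 1 + 1) → ℤ) → R) (hg : g ∈ Gf (p + 1) R d) :
    ∃ x : (KK (p + 1) R d).X (p + 1), ((KK (p + 1) R d).d (p + 1) (p + 2)).hom x = 0 ∧ Psi0 x = g := by
  classical
  obtain ⟨h1, h2⟩ := hg
  obtain ⟨x, hx⟩ := exists_cm (R := R) d (p + 1) (fun a e => PnA.sg (eqv p) a • g e)
    (fun a => h1.subset (by
      intro e he
      rw [Function.mem_support] at he ⊢
      intro hg
      apply he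
      rw [hg, smul_zero]))
    (fun a e he => (h2 e (by intro hg; apply he; rw [hg, smul_zero])).1)
    (fun a e he i hi => by
      have hs : Function.Surjective a := by
        by_contra hns
        apply he
        rw [PnA.sg_eq_zero (eqv p) a hns, zero_smul]
      obtain ⟨k, hk⟩ := hs ⟨i⟩
      exact ⟨k, by rw [hk]⟩)
  refine ⟨x, ?_, ?_⟩
  · apply cm_inj
    rw [cm_d, hx, cm_zero]
    funext b e
    rw [dd_apply]
    exact PnA.sg_smul_cocycle (eqv p) (g e) b
  · funext e
    simp only [Psi0, hx]
    split_ifs with hf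
    · have : PnA.sg (eqv p) (a₀ p) = 1 := PnA.sg_id (eqv p)
      rw [this, one_smul]
    · by_contra hne
      exact hf (h2 e (Ne.symm hne)).2

end Groth.Agent.Lib.Helper4.PnT1
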