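import Mathlib
import Groth.Agent.Lib.Helper4.PnT1
import Groth.Agent.Lib.Helper4.PnL1
import Groth.Agent.Lib.Helper4.PnH

/-!
# Projective space cohomology: top Cech cohomology as Laurent tails (helper4)
-/

set_option backward.isDefEq.respectTransparency.types false
set_option synthInstance.maxHeartbeats 400000
set_option autoImplicit false
set_option linter.unusedSectionVars false
set_option linter.style.haveILetI false
set_option linter.unusedSimpArgs false
universe u v w
open CategoryTheory CategoryTheory.Limits AlgebraicGeometry TopologicalSpace Opposite MvPolynomial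
open Groth.Agent.Helper1
open Groth.Agent.Lib.Helper4.PnS1
open Groth.Agent.Lib.Helper4.PnC1
open Groth.Agent.Lib.Helper4.PnC2
open Groth.Agent.Lib.Helper4.PnC3
open Groth.Agent.Lib.Helper4.PnC4
open Groth.Agent.Lib.Helper4.PnC5
open Groth.Agent.Lib.Helper4.PnT1
open Groth.Agent.Lib.Helper4.PnL1
open Groth.Agent.Lib.Helper4

namespace Groth.Agent.Lib.Helper4.PnT2

variable {R : Type u} [CommRing R] (p : ℕ) (d : ℤ)

theorem Psi0_zero : Psi0 (0 : (KK (p + 1) R d).X (p + 1)) = 0 := by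
  classical
  funext e
  simp only [Psi0, cm_zero, Pi.zero_apply, ite_self]

/-- `Psi0` as an additive map -/
noncomputable def Psi0Hom : (KK (p + 1) R d).X (p + 1) →+ ((Fin (p + 1 + 1) → ℤ) → R) where
  toFun := Psi0
  map_zero' := Psi0_zero p d
  map_add' := Psi0_add

variable {p d}

theorem Psi0_wd (z z' : (KK (p + 1) R d).cycles (p + 1))
    (h : ((KK (p + 1) R d).homologyπ (p + 1)).hom z = ((KK (p + 1) R d).homologyπ (p + 1)).hom z') :
    Psi0 (((KK (p + 1) R d).iCycles (p + 1)).hom z) = Psi0 (((KK (p + 1) R d).iCycles (p + 1)).hom z') := by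
  have h1 : ((KK (p + 1) R d).homologyπ (p + 1)).hom (z - z') = 0 := by
    rw [map_sub, h, sub_self]
  obtain ⟨y, hy⟩ := (PnH.homologyπ_eq_zero_iff (KK (p + 1) R d) p (z - z')).mp h1
  have h2 : Psi0Hom p d (((KK (p + 1) R d).iCycles (p + 1)).hom (z - z')) = 0 := by
    rw [← hy]
    exact Psi0_d y
  rw [map_sub, map_sub, sub_eq_zero] at h2
  exact h2

/-- the top-degree invariant of a cohomology class -/
noncomputable def PsiH (h : (KK (p + 1) R d).homology (p + 1)) : Gf (p + 1) R d :=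
  ⟨Psi0 (((KK (p + 1) R d).iCycles (p + 1)).hom
    (PnH.homologyπ_surjective (KK (p + 1) R d) (p + 1) h).choose), Psi0_mem _⟩

theorem PsiH_π (z : (KK (p + 1) R d).cycles (p + 1)) :
    (PsiH (((KK (p + 1) R d).homologyπ (p + 1)).hom z)).1 =
      Psi0 (((KK (p + 1) R d).iCycles (p + 1)).hom z) :=
  Psi0_wd _ _ (PnH.homologyπ_surjective (KK (p + 1) R d) (p + 1) _).choose_spec

theorem PsiH_add (h h' : (KK (p + 1) R d).homology (p + 1)) : PsiH (h + h') = PsiH h + PsiH h' := by
  obtain ⟨z, rfl⟩ := PnH.homologyπ_surjective (KK (p + 1) R d) (p + 1) h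
  obtain ⟨z', rfl⟩ := PnH.homologyπ_surjective (KK (p + 1) R d) (p + 1) h'
  apply Subtype.ext
  rw [← map_add, Submodule.coe_add, PsiH_π, PsiH_π, PsiH_π, map_add]
  exact Psi0_add _ _

theorem PsiH_injective (h : (KK (p + 1) R d).homology (p + 1)) (h0 : PsiH h = 0) : h = 0 := by
  obtain ⟨z, rfl⟩ := PnH.homologyπ_surjective (KK (p + 1) R d) (p + 1) h
  have h1 : Psi0 (((KK (p + 1) R d).iCycles (p + 1)).hom z) = 0 := by
    rw [← PsiH_π, h0]
    rfl
  rw [PnH.homologyπ_eq_zero_iff]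
  exact exact_of_Psi0 _ (PnH.iCycles_d _ _ z) h1

theorem PsiH_surjective (g : Gf (p + 1) R d) : ∃ h, PsiH h = g := by
  obtain ⟨x, hx, hg⟩ := exists_of_Gf g.1 g.2
  obtain ⟨z, hz⟩ := PnH.exists_cycle (KK (p + 1) R d) (p + 1) x hx
  refine ⟨((KK (p + 1) R d).homologyπ (p + 1)).hom z, ?_⟩
  apply Subtype.ext
  rw [PsiH_π, hz, hg]

/-- top Čech cohomology of `O(d)` is the module of Laurent tails -/
noncomputable def PsiEquiv : (KK (p + 1) R d).homology (p + 1) ≃+ Gf (p + 1) R d :=
  AddEquiv.ofBijective (AddMonoidHom.mk' PsiH PsiH_add)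
    ⟨(injective_iff_map_eq_zero _).mpr PsiH_injective, PsiH_surjective⟩

theorem PsiEquiv_apply (h : (KK (p + 1) R d).homology (p + 1)) : PsiEquiv h = PsiH h := rfl

theorem Psi0_psiR (r : R) (x : (KK (p + 1) R d).X (p + 1)) :
    Psi0 (((psiR (p + 1) R d r).f (p + 1)).hom x) = r • Psi0 x := by
  classical
  funext e
  simp only [Psi0, cm_psiR, Pi.smul_apply, smul_eq_mul]
  split_ifs <;> simp

theorem PsiEquiv_smul (r : R) (h : (KK (p + 1) R d).homology (p + 1)) :
    PsiEquiv ((HomologicalComplex.homologyMap (psiR (p + 1) R d r) (p + 1)).hom h) = r • PsiEquiv h := by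
  obtain ⟨z, rfl⟩ := PnH.homologyπ_surjective (KK (p + 1) R d) (p + 1) h
  apply Subtype.ext
  rw [PsiEquiv_apply, PsiEquiv_apply, PnH.homologyMap_π, Submodule.coe_smul, PsiH_π, PsiH_π,
    PnH.iCycles_cyclesMap, Psi0_psiR]

end Groth.Agent.Lib.Helper4.PnT2
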