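import Mathlib
import Groth.Agent.Lib.Helper4.PnT1

/-!
# Projective space cohomology: Laurent tails and homogeneous polynomials (helper4)
-/

set_option backward.isDefEq.respectTransparency.types false
set_option synthInstance.maxHeartbeats 400000
set_option autoImplicit false
set_option linter.unusedSectionVars false
set_option linter.style.haveILetI false
set_option linter.unusedSimpArgs false
universe u v w
open MvPolynomial
open Groth.Agent.Lib.Helper4.PnS2 hiding xm
open Groth.Agent.Lib.Helper4.PnS4
open Groth.Agent.Lib.Helper4.PnC4
open Groth.Agent.Lib.Helper4.PnT1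
open Groth.Agent.Lib.Helper4

namespace Groth.Agent.Lib.Helper4.PnT3

variable (n : ℕ) (R : Type u) [CommRing R] (k : ℕ)

/-- reflection `e ↦ -e - 1` -/
def refl (e : Fin (n + 1) → ℤ) : Fin (n + 1) → ℤ := fun i => -e i - 1

variable {n}

theorem refl_nonneg (e : Fin (n + 1) → ℤ) (he : full e) (i : Fin (n + 1)) : 0 ≤ refl n e i := by
  have := he i
  simp only [refl]
  omega

theorem refl_refl (e : Fin (n + 1) → ℤ) : refl n (refl n e) = e := by
  funext i
  simp only [refl]
  omega

theorem full_refl_wz (u : Fin (n + 1) →₀ ℕ) : full (refl n (wz u)) := by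
  intro i
  simp only [refl, wz]
  omega

variable (n) {R}

/-- Laurent tail of a homogeneous polynomial -/
noncomputable def tail (q : MvPolynomial (Fin (n + 1)) R) : (Fin (n + 1) → ℤ) → R :=
  open Classical in fun e => if full e then coeff (tn (refl n e)) q else 0

variable {n}

theorem tail_mem (q : MvPolynomial (Fin (n + 1)) R) (hq : q.IsHomogeneous k) :
    tail n q ∈ Gf n R (-((n : ℤ) + 1 + k)) := by
  classical
  refine ⟨?_, fun e he => ?_⟩
  · apply Set.Finite.subset ((q.support : Set (Fin (n + 1) →₀ ℕ)).toFinite.image
      (fun u => refl n (wz u)))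
    intro e he
    rw [Function.mem_support] at he
    simp only [tail] at he
    split_ifs at he with hf
    · refine ⟨tn (refl n e), Finset.mem_coe.mpr (mem_support_iff.mpr he), ?_⟩
      have : wz (tn (refl n e)) = refl n e := by
        funext i
        have := refl_nonneg e hf i
        simp only [wz, tn_apply]
        omega
      simp only
      rw [this, refl_refl]
    · exact absurd rfl he
  · simp only [tail] at he
    split_ifs at he with hf
    · refine ⟨?_, hf⟩
      have h1 : Finsupp.degree (tn (refl n e)) = k := by
        by_contra hne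
        exact he (hq.coeff_eq_zero hne)
      have h2 := tn_degree (refl n e) (refl_nonneg e hf)
      rw [h1] at h2
      simp only [refl, Finset.sum_sub_distrib, Finset.sum_neg_distrib, Finset.sum_const,
        Finset.card_univ, Fintype.card_fin, nsmul_eq_mul, mul_one] at h2
      push_cast at h2
      omega
    · exact absurd rfl he

theorem tail_add (q q' : MvPolynomial (Fin (n + 1)) R) : tail n (q + q') = tail n q + tail n q' := by
  classical
  funext e
  simp only [tail, coeff_add, Pi.add_apply]
  split_ifs <;> simp

theorem tail_smul (r : R) (q : MvPolynomial (Fin (n + 1)) R) : tail n (r • q) = r • tail n q := by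
  classical
  funext e
  simp only [tail, coeff_smul, Pi.smul_apply]
  split_ifs <;> simp

theorem tail_injective (q : MvPolynomial (Fin (n + 1)) R) (h : tail n q = 0) : q = 0 := by
  classical
  ext u
  have := congrFun h (refl n (wz u))
  simp only [tail, if_pos (full_refl_wz u), refl_refl, tn_wz, Pi.zero_apply] at this
  rw [this]
  rfl

theorem tail_surjective (g : (Fin (n + 1) → ℤ) → R) (hg : g ∈ Gf n R (-((n : ℤ) + 1 + k))) :
    ∃ q : MvPolynomial (Fin (n + 1)) R, q.IsHomogeneous k ∧ tail n q = g := by
  classical
  obtain ⟨hfin, hg2⟩ := hg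
  let F := hfin.toFinset
  have hF : ∀ e, e ∈ F ↔ g e ≠ 0 := fun e => by simp [F]
  refine ⟨∑ e ∈ F, monomial (tn (refl n e)) (g e), ?_, ?_⟩
  · apply IsHomogeneous.sum
    intro e he
    apply isHomogeneous_monomial
    obtain ⟨h1, h2⟩ := hg2 e ((hF e).mp he)
    have h3 := tn_degree (refl n e) (refl_nonneg e h2)
    simp only [refl, Finset.sum_sub_distrib, Finset.sum_neg_distrib, Finset.sum_const,
      Finset.card_univ, Fintype.card_fin, nsmul_eq_mul, mul_one] at h3
    push_cast at h3
    have : ((Finsupp.degree (tn (refl n e)) : ℕ) : ℤ) = k := by omega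
    exact_mod_cast this
  · funext e
    simp only [tail]
    split_ifs with hf
    · rw [coeff_sum]
      simp only [coeff_monomial]
      have : ∀ e' ∈ F, (if tn (refl n e') = tn (refl n e) then g e' else 0) =
          if e' = e then g e' else 0 := by
        intro e' he'
        have hf' := (hg2 e' ((hF e').mp he')).2
        by_cases hee : e' = e
        · subst hee; simp
        · rw [if_neg hee, if_neg]
          intro h
          apply hee
          have h1 := tn_inj _ _ (refl_nonneg e' hf') (refl_nonneg e hf) h
          have h2 := congrArg (refl n) h1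
          rwa [refl_refl, refl_refl] at h2
      rw [Finset.sum_congr rfl this, Finset.sum_ite_eq' F e]
      split_ifs with h
      · rfl
      · by_contra hne
        exact h ((hF e).mpr (Ne.symm hne))
    · by_contra hne
      exact hf (hg2 e (Ne.symm hne)).2

/-- Laurent tails of degree `-(n+1+k)` are the homogeneous polynomials of degree `k` -/
noncomputable def tailEquiv (n : ℕ) (R : Type u) [CommRing R] (k : ℕ) :
    ↥(MvPolynomial.homogeneousSubmodule (Fin (n + 1)) R k) ≃ₗ[R] Gf n R (-((n : ℤ) + 1 + k)) :=
  LinearEquiv.ofBijective
    { toFun := fun q => ⟨tail n q.1, tail_mem k q.1 ((mem_homogeneousSubmodule _ _).mp q.2)⟩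
      map_add' := fun q q' => Subtype.ext (tail_add q.1 q'.1)
      map_smul' := fun r q => Subtype.ext (tail_smul r q.1) }
    ⟨by
      intro q q' h
      have h1 : tail n q.1 = tail n q'.1 := congrArg Subtype.val h
      apply Subtype.ext
      rw [← sub_eq_zero]
      apply tail_injective
      have h2 := tail_add (q.1 - q'.1) q'.1
      rw [sub_add_cancel] at h2
      rw [h2] at h1
      exact add_eq_right.mp h1, by
      intro g
      obtain ⟨q, hq, hg⟩ := tail_surjective k g.1 g.2
      exact ⟨⟨q, (mem_homogeneousSubmodule _ _).mpr hq⟩, Subtype.ext hg⟩⟩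

end Groth.Agent.Lib.Helper4.PnT3
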