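import Mathlib
import Groth.Agent.Lib.Helper4.PnE4
import Groth.Agent.Lib.Helper4.PnT2
import Groth.Agent.Lib.Helper4.PnT3

/-!
# Top cohomology of O(d) on P^n, n >= 1, as Laurent tails (helper4)
-/

set_option backward.isDefEq.respectTransparency.types false
set_option synthInstance.maxHeartbeats 400000
set_option autoImplicit false
set_option linter.unusedSectionVars false
set_option linter.style.haveILetI false
set_option linter.unusedSimpArgs false
universe u v w
open CategoryTheory CategoryTheory.Limits AlgebraicGeometry TopologicalSpace Opposite MvPolynomial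
open Groth.Agent.Helper1
open Groth.Agent.Lib.Helper4.PnS1
open Groth.Agent.Lib.Helper4.PnC1
open Groth.Agent.Lib.Helper4.PnC2
open Groth.Agent.Lib.Helper4.PnC6
open Groth.Agent.Lib.Helper4.PnL1
open Groth.Agent.Lib.Helper4.PnT1
open Groth.Agent.Lib.Helper4

namespace Groth.Agent.Lib.Helper4.PnE5

variable (p : ℕ) (R : Type u) [CommRing R] (d : ℤ)

/-- top cohomology of `O(d)` on `P^{p+1}` as Laurent tails, linearly -/
noncomputable def topEquiv :
    Coh.HH (CohB1.ProjSpace (p + 1) R) (Twist.twistProjSpace (p + 1) R d) (p + 1) ≃ₗ[R] Gf (p + 1) R d :=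
  let E := AddEquiv.ofBijective (PnE4.En (p + 1) R d (p + 1)) (PnE4.En_bijective (p + 1) R d (p + 1))
  AddEquiv.toLinearEquiv (E.symm.trans (PnT2.PsiEquiv (p := p) (R := R) (d := d))) (by
    intro r y
    obtain ⟨x, rfl⟩ := E.surjective y
    have h1 : r • E x = E ((HomologicalComplex.homologyMap (psiR (p + 1) R d r) (p + 1)).hom x) :=
      (PnE4.En_smul (p + 1) R d (p + 1) r x).symm
    rw [h1]
    change PnT2.PsiEquiv (E.symm (E _)) = r • PnT2.PsiEquiv (E.symm (E x))
    rw [AddEquiv.symm_apply_apply, AddEquiv.symm_apply_apply]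
    exact PnT2.PsiEquiv_smul r x)

theorem s0845_succ (k : ℕ) :
    Nonempty (Coh.HH (CohB1.ProjSpace (p + 1) R)
      (Twist.twistProjSpace (p + 1) R (-(((p + 1 : ℕ) : ℤ) + 1 + k))) (p + 1) ≃ₗ[R]
      ↥(MvPolynomial.homogeneousSubmodule (Fin (p + 1 + 1)) R k)) :=
  ⟨(topEquiv p R _).trans (PnT3.tailEquiv (p + 1) R k).symm⟩

end Groth.Agent.Lib.Helper4.PnE5
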