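import Mathlib
import Groth.Agent.Lib.Helper4.PnE4
import Groth.Agent.Lib.Helper4.PnT3
import Groth.Agent.Lib.Helper1.HH0

/-!
# H^0 of negative twists on P^0 (helper4)
-/

set_option backward.isDefEq.respectTransparency.types false
set_option synthInstance.maxHeartbeats 400000
set_option autoImplicit false
set_option linter.unusedSectionVars false
set_option linter.style.haveILetI false
set_option linter.unusedSimpArgs false
universe u v w
open CategoryTheory CategoryTheory.Limits AlgebraicGeometry TopologicalSpace Opposite MvPolynomial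
open Groth.Agent.Helper1
open Groth.Agent.Lib.Helper4.PnS1
open Groth.Agent.Lib.Helper4.PnS3
open Groth.Agent.Lib.Helper4.PnS4
open Groth.Agent.Lib.Helper4.PnC1
open Groth.Agent.Lib.Helper4.PnC2
open Groth.Agent.Lib.Helper4.PnC4
open Groth.Agent.Lib.Helper4.PnC6
open Groth.Agent.Lib.Helper4.PnL1
open Groth.Agent.Lib.Helper4.PnT1
open Groth.Agent.Lib.Helper4

namespace Groth.Agent.Lib.Helper4.PnE6

variable (R : Type u) [CommRing R] (d : ℤ)

theorem top_eq_BO : (⊤ : Opens (PT 0 R)) = BO (Finsupp.single 0 1) := by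
  have h : ⨆ i, US 0 R i = ⊤ := iSup_US 0 R
  apply le_antisymm
  · intro x _
    have hx : x ∈ ⨆ i, US 0 R i := by rw [h]; trivial
    obtain ⟨i, hi⟩ := Opens.mem_iSup.1 hx
    have h0 : i.down = 0 := Subsingleton.elim _ _
    have hi' : x ∈ BO (R := R) (Finsupp.single i.down 1) := hi
    rw [h0] at hi'
    exact hi'
  · exact le_top

theorem TT_le_top : TT (n := 0) (R := R) ≤ ⊤ := le_top

theorem sum_fin_one (e : Fin 1 → ℤ) : ∑ i, e i = e 0 := by simp

/-- global sections of `O(d)` on `P^0`, `d < 0`, as Laurent tails -/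
theorem lam_mem_Gf (hd : d < 0) (s : Twist.sectN (𝒜 := Gr 0 R) d (op ⊤)) :
    lam d ⊤ (TT_le_top R) s ∈ Gf 0 R d := by
  refine ⟨lam_finite d ⊤ _ s, fun e he => ?_⟩
  have h1 := lam_degree d ⊤ _ s e he
  refine ⟨h1, ?_⟩
  intro i
  have : i = 0 := Subsingleton.elim _ _
  subst this
  rw [sum_fin_one] at h1
  omega



/-- the map `H^0(P^0, O(d)) → (Laurent functions)` -/
noncomputable def Phi0 : Coh.HH (CohB1.ProjSpace 0 R) (Twist.twistProjSpace 0 R d) 0 →+ ((Fin 1 → ℤ) → R) :=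
  AddMonoidHom.comp (lamHom d ⊤ (TT_le_top R))
    (show Coh.HH (CohB1.ProjSpace 0 R) (Twist.twistProjSpace 0 R d) 0 →+
        Twist.sectN (𝒜 := Gr 0 R) d (op ⊤) from
      (HH0.equiv (CohB1.ProjSpace 0 R) (Twist.twistProjSpace 0 R d)).toAddMonoidHom)

theorem Phi0_apply (x : Coh.HH (CohB1.ProjSpace 0 R) (Twist.twistProjSpace 0 R d) 0) :
    Phi0 R d x = lam d ⊤ (TT_le_top R)
      (show Twist.sectN (𝒜 := Gr 0 R) d (op ⊤) from
        HH0.equiv (CohB1.ProjSpace 0 R) (Twist.twistProjSpace 0 R d) x) := rfl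

theorem hw0 : 0 < Finsupp.degree (Finsupp.single (0 : Fin 1) 1) := by
  rw [Finsupp.degree_single]; exact Nat.one_pos

theorem Phi0_injective : Function.Injective (Phi0 R d) := by
  rw [injective_iff_map_eq_zero]
  intro x hx
  rw [Phi0_apply] at hx
  have h1 := lamV_injective d hw0 ⊤ (top_eq_BO R) (TT_le_top R) _ hx
  have h2 : HH0.equiv (CohB1.ProjSpace 0 R) (Twist.twistProjSpace 0 R d) x = 0 := h1
  exact (HH0.equiv (CohB1.ProjSpace 0 R) (Twist.twistProjSpace 0 R d)).injective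
    (h2.trans (map_zero (HH0.equiv (CohB1.ProjSpace 0 R) (Twist.twistProjSpace 0 R d))).symm)

theorem Phi0_mem (hd : d < 0) (x : Coh.HH (CohB1.ProjSpace 0 R) (Twist.twistProjSpace 0 R d) 0) :
    Phi0 R d x ∈ Gf 0 R d := lam_mem_Gf R d hd _

theorem Phi0_surjective (g : (Fin 1 → ℤ) → R) (hg : g ∈ Gf 0 R d) : ∃ x, Phi0 R d x = g := by
  obtain ⟨s, hs⟩ := lamV_surjective d hw0 ⊤ (top_eq_BO R) (TT_le_top R) g hg.1
    (fun e he => (hg.2 e he).1) (fun e he i hi => by
      have : i = 0 := Subsingleton.elim _ _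
      subst this
      rw [Finsupp.single_eq_same]
      exact Nat.one_pos)
  refine ⟨(HH0.equiv (CohB1.ProjSpace 0 R) (Twist.twistProjSpace 0 R d)).symm s, ?_⟩
  rw [Phi0_apply]
  refine Eq.trans (congrArg (lam d ⊤ (TT_le_top R)) ?_) hs
  exact (HH0.equiv (CohB1.ProjSpace 0 R) (Twist.twistProjSpace 0 R d)).apply_symm_apply s

theorem Phi0_smul (r : R) (x : Coh.HH (CohB1.ProjSpace 0 R) (Twist.twistProjSpace 0 R d) 0) :
    Phi0 R d (r • x) = r • Phi0 R d x := by
  have h := Sheaf.H.equiv₀_naturality (Limits.isTerminalTop (α := Opens (CohB1.ProjSpace 0 R)))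
    (Coh.smulAb (Twist.twistProjSpace 0 R d) (Coh.toGlobal (CohB1.ProjSpace.toSpec 0 R) r)) x
  have e1 : Phi0 R d (r • x) = lam d ⊤ (TT_le_top R)
      (show Twist.sectN (𝒜 := Gr 0 R) d (op ⊤) from
        HH0.equiv (CohB1.ProjSpace 0 R) (Twist.twistProjSpace 0 R d)
          (Sheaf.H.map (Coh.smulAb (Twist.twistProjSpace 0 R d)
            (Coh.toGlobal (CohB1.ProjSpace.toSpec 0 R) r)) 0 x)) := rfl
  have e2 : (show Twist.sectN (𝒜 := Gr 0 R) d (op ⊤) from
        HH0.equiv (CohB1.ProjSpace 0 R) (Twist.twistProjSpace 0 R d)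
          (Sheaf.H.map (Coh.smulAb (Twist.twistProjSpace 0 R d)
            (Coh.toGlobal (CohB1.ProjSpace.toSpec 0 R) r)) 0 x)) =
      (show Twist.sectN (𝒜 := Gr 0 R) d (op ⊤) from ((phiR 0 R d r).app (op ⊤)).hom
        (show Twist.sectN (𝒜 := Gr 0 R) d (op ⊤) from
          HH0.equiv (CohB1.ProjSpace 0 R) (Twist.twistProjSpace 0 R d) x)) := h.symm
  exact e1.trans ((congrArg (lam d ⊤ (TT_le_top R)) e2).trans (lam_phiR r ⊤ (TT_le_top R) _))


/-- `H^0(P^0, O(d)) ≃ₗ Gf` for `d < 0` -/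
noncomputable def zeroEquiv (hd : d < 0) :
    Coh.HH (CohB1.ProjSpace 0 R) (Twist.twistProjSpace 0 R d) 0 ≃ₗ[R] Gf 0 R d :=
  LinearEquiv.ofBijective
    { toFun := fun x => ⟨Phi0 R d x, Phi0_mem R d hd x⟩
      map_add' := fun x y => Subtype.ext (map_add (Phi0 R d) x y)
      map_smul' := fun r x => Subtype.ext (Phi0_smul R d r x) }
    ⟨fun x y h => Phi0_injective R d (congrArg Subtype.val h),
     fun g => (Phi0_surjective R d g.1 g.2).elim fun x hx => ⟨x, Subtype.ext hx⟩⟩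

theorem s0845_zero (k : ℕ) :
    Nonempty (Coh.HH (CohB1.ProjSpace 0 R)
      (Twist.twistProjSpace 0 R (-(((0 : ℕ) : ℤ) + 1 + k))) 0 ≃ₗ[R]
      ↥(MvPolynomial.homogeneousSubmodule (Fin (0 + 1)) R k)) :=
  ⟨(zeroEquiv R _ (by push_cast; omega)).trans (PnT3.tailEquiv 0 R k).symm⟩

end Groth.Agent.Lib.Helper4.PnE6
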