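import Mathlib
import Groth.Agent.Lib.Helper4.HHFin2
import Groth.Agent.Lib.Helper4.PnC7
import Groth.Agent.Lib.Helper1.VT23
import Groth.Agent.Lib.Helper1.CohAbel
import Groth.Agent.Lib.Helper1.InvFt
import Groth.Agent.Lib.Helper1.ProjNoeth
import Groth.Agent.Lib.Helper1.TwistTens
import Groth.Agent.S4402
import Groth.Agent.S0022
import Groth.Agent.S0843
import Groth.Agent.S0844
import Groth.Agent.S0845

/-!
# Serre finiteness of coherent cohomology on projective space (helper4)
-/

set_option backward.isDefEq.respectTransparency.types false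
set_option synthInstance.maxHeartbeats 400000
set_option autoImplicit false
set_option linter.unusedSectionVars false
set_option linter.style.haveILetI false
set_option linter.unusedSimpArgs false
universe u v w
open CategoryTheory CategoryTheory.Limits AlgebraicGeometry TopologicalSpace Opposite MvPolynomial
open Groth.Agent.Helper1
open Groth.Agent.Lib.Helper4

namespace Groth.Agent.Lib.Helper4.SerreFin

variable (n : ℕ) (R : Type u) [CommRing R]

/-- the variables, as a finite set -/
noncomputable def sX : Finset (MvPolynomial (Fin (n + 1)) R) :=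
  open Classical in Finset.univ.image (fun i => X i)

theorem finite_hom (m : ℕ) :
    Module.Finite R ↥(MvPolynomial.homogeneousSubmodule (Fin (n + 1)) R m) := by
  classical
  rw [homogeneousSubmodule_eq_finsupp_supported]
  have hset : {e : Fin (n + 1) →₀ ℕ | e.degree = m} =
      ↑((Finset.univ : Finset (Fin (n + 1))).finsuppAntidiag m) := by
    ext e
    simp [Finsupp.degree_eq_sum]
  haveI : Finite ↥{e : Fin (n + 1) →₀ ℕ | e.degree = m} := by
    rw [hset]
    exact Finset.finite_toSet _ |>.to_subtype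
  exact Module.Finite.equiv (AddMonoidAlgebra.supportedEquivFinsupp (R := R) (S := R)
    {e : Fin (n + 1) →₀ ℕ | e.degree = m}).symm

theorem sX_mem : ∀ f ∈ sX n R, f ∈ CohB1.polyGrading n R 1 := by
  classical
  intro f hf
  obtain ⟨i, -, rfl⟩ := Finset.mem_image.1 hf
  exact ProjSpaceLib.X_mem n R i

theorem irrelevant_eq : (HomogeneousIdeal.irrelevant (CohB1.polyGrading n R)).toIdeal =
    Ideal.span (sX n R : Set (MvPolynomial (Fin (n + 1)) R)) := by
  apply le_antisymm
  · refine (ProjSpaceLib.irrelevant_le n R).trans ?_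
    apply Ideal.span_mono
    rintro _ ⟨i, rfl⟩
    classical
    exact Finset.mem_coe.2 (Finset.mem_image.2 ⟨i, Finset.mem_univ _, rfl⟩)
  · rw [Ideal.span_le]
    intro f hf
    exact HomogeneousIdeal.mem_irrelevant_of_mem _ Nat.one_pos (sX_mem n R f hf)

theorem hcov1 (x : ProjectiveSpectrum (CohB1.polyGrading n R)) :
    ∃ f ∈ CohB1.polyGrading n R 1, f ∉ x.asHomogeneousIdeal := by
  obtain ⟨g, hg1, hgx⟩ := PF12.hcov_of (CohB1.polyGrading n R) (sX n R) (sX_mem n R) (irrelevant_eq n R) x
  exact ⟨g, hg1, hgx⟩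

theorem isCoh_twist (d : ℤ) : Coh.IsCoh (Twist.twistProjSpace n R d) :=
  InvQc.isCoh_of_isInvertible _ ((TwistTens.twist_package (CohB1.polyGrading n R) (hcov1 n R)).1 d)

/-- the cohomology of `O(d)` is finite -/
theorem finite_twist (d : ℤ) (i : ℕ) :
    Module.Finite R (Coh.HH (CohB1.ProjSpace n R) (Twist.twistProjSpace n R d) i) := by
  by_cases h₀ : i = 0 ∧ 0 ≤ d
  · obtain ⟨rfl, hd⟩ := h₀
    obtain ⟨m, rfl⟩ := Int.eq_ofNat_of_zero_le hd
    obtain ⟨e⟩ := Groth.Agent.S0843.result R n m
    have : Module.Finite R ↥(MvPolynomial.homogeneousSubmodule (Fin (n + 1)) R m) :=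
      finite_hom n R m
    exact Module.Finite.equiv e.symm
  · by_cases hn : i = n ∧ d ≤ -((n : ℤ) + 1)
    · obtain ⟨rfl, hd⟩ := hn
      obtain ⟨m, hm⟩ : ∃ m : ℕ, d = -((i : ℤ) + 1 + m) := ⟨(-d - (i + 1)).toNat, by omega⟩
      subst hm
      obtain ⟨e⟩ := Groth.Agent.S0845.result R i m
      have : Module.Finite R ↥(MvPolynomial.homogeneousSubmodule (Fin (i + 1)) R m) :=
        finite_hom i R m
      exact Module.Finite.equiv e.symm
    · haveI := Groth.Agent.S0844.result R n d i h₀ hn
      infer_instance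


instance instLN [IsNoetherianRing R] : IsLocallyNoetherian (CohB1.ProjSpace n R) := by
  have h := ProjNoeth.isNoetherian_proj (CohB1.polyGrading n R)
  exact h.toIsLocallyNoetherian

/-- the short exact sequence of an epimorphism -/
theorem kerSeq_shortExact {X : Scheme.{u}} {E M : X.Modules} (p : E ⟶ M) [Epi p] :
    (ShortComplex.mk (kernel.ι p) p (kernel.condition p)).ShortExact := by
  have hS' : (ShortComplex.mk (kernel.ι p) p (kernel.condition p)).Exact :=
    ShortComplex.exact_of_f_is_kernel _ (kernelIsKernel p)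
  have : Mono (ShortComplex.mk (kernel.ι p) p (kernel.condition p)).f :=
    inferInstanceAs (Mono (kernel.ι p))
  have : Epi (ShortComplex.mk (kernel.ι p) p (kernel.condition p)).g := inferInstanceAs (Epi p)
  exact { exact := hS' }

theorem s0038_aux [IsNoetherianRing R] (j : ℕ) : ∀ (i : ℕ), n + 1 ≤ i + j →
    ∀ (M : (CohB1.ProjSpace n R).Modules), Coh.IsCoh M →
      Module.Finite R (Coh.HH (CohB1.ProjSpace n R) M i) := by
  induction j with
  | zero =>
    intro i hi M hM
    haveI : Coh.IsQCoh M := hM.1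
    haveI := Groth.Agent.S0022.result n R M i (by omega)
    infer_instance
  | succ j ih =>
    intro i hi M hM
    obtain ⟨n₀, h⟩ := Groth.Agent.S4402.result (CohB1.polyGrading n R) (sX n R) (sX_mem n R)
      (irrelevant_eq n R) M hM.1 hM.2
    obtain ⟨k, p, hp⟩ := h n₀ le_rfl
    have hB : ∀ _ : Fin k, Coh.IsCoh (Twist.twistProjSpace n R (-(n₀ : ℤ))) := fun _ => isCoh_twist n R _
    haveI : ∀ i : Fin k, ((fun _ : Fin k => Twist.twistProjSpace n R (-(n₀ : ℤ))) i).IsQuasicoherent :=
      fun i => (hB i).1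
    have hE : Coh.IsCoh (∐ fun _ : Fin k => Twist.twistProjSpace n R (-(n₀ : ℤ))) :=
      ⟨FinSigma.isQuasicoherent_sigma _, VT.isFT_sigma _ (fun i => (hB i).2)⟩
    have hK : Coh.IsCoh (kernel p) := FtLocal.isCoh_kernel hE hM p
    have hSE := kerSeq_shortExact p
    have h1 := ih (i + 1) (by omega) (kernel p) hK
    have h2 : Module.Finite R (Coh.HH (CohB1.ProjSpace n R)
        (∐ fun _ : Fin k => Twist.twistProjSpace n R (-(n₀ : ℤ))) i) :=
      HHFin1.finite_sigma R _ i (fun _ => finite_twist n R _ i)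
    exact HHFin2.finite_X₃ (X := CohB1.ProjSpace n R) R hSE i h2 h1

theorem s0038 [IsNoetherianRing R] (M : (CohB1.ProjSpace n R).Modules) (hM : Coh.IsCoh M) (i : ℕ) :
    Module.Finite R (Coh.HH (CohB1.ProjSpace n R) M i) :=
  s0038_aux n R (n + 1) i (by omega) M hM

end Groth.Agent.Lib.Helper4.SerreFin
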