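import Mathlib
import Groth.Agent.S0462
import Groth.Agent.Lib.Helper5.Misc.ExtAdjAcyc
import Groth.Agent.Lib.Helper1.RpushZero
import Groth.Agent.Lib.Helper1.PushQc
import Groth.Agent.Lib.Helper4.HHFin1

/-!
# A-linear Leray edge isomorphism for affine morphisms (linear bridge) (helper4)
-/

set_option backward.isDefEq.respectTransparency.types false
set_option synthInstance.maxHeartbeats 400000
set_option autoImplicit false
set_option linter.unusedSectionVars false
set_option linter.style.haveILetI false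
set_option linter.unusedSimpArgs false
universe u v w
open CategoryTheory CategoryTheory.Limits AlgebraicGeometry
open TopologicalSpace Opposite
open CategoryTheory.Abelian
open Groth.Agent.Lib.Helper5

namespace Groth.Agent.Lib.Helper4.LinBridge1

section Top
variable {X Y : TopCat.{u}} (f : X ⟶ Y)

/-- the pullback of the constant sheaf `ℤ` is the constant sheaf `ℤ` -/
noncomputable def zIso : (CohTop.pull f).obj (Groth.Agent.S0462.ZZ Y) ≅ Groth.Agent.S0462.ZZ X :=
  (Groth.Agent.S0462.constIso f).app (AddCommGrpCat.of (ULift ℤ))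

instance : PreservesFiniteColimits (CohTop.pull f) := by
  have := (Groth.Agent.S0462.adj f).leftAdjoint_preservesColimits
  infer_instance

/-- the Leray edge map `H^p(Y, f_* F) → H^p(X, F)` -/
noncomputable def lerayMap (F : CohTop.Ab X) (p : ℕ) :
    CohTop.H ((CohTop.push f).obj F) p →+ CohTop.H F p :=
  ((Ext.mk₀ (zIso f).inv).precomp F (zero_add p)).comp
    (ExtAdjAcyc.Φ.{u, u} (Groth.Agent.S0462.adj f) (Groth.Agent.S0462.ZZ Y) F p)

theorem lerayMap_apply (F : CohTop.Ab X) (p : ℕ) (e : CohTop.H ((CohTop.push f).obj F) p) :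
    lerayMap f F p e = (Ext.mk₀ (zIso f).inv).comp
      (ExtAdjAcyc.Φ.{u, u} (Groth.Agent.S0462.adj f) (Groth.Agent.S0462.ZZ Y) F p e) (zero_add p) := rfl

theorem lerayMap_natural {F G : CohTop.Ab X} (φ : F ⟶ G) (p : ℕ)
    (e : CohTop.H ((CohTop.push f).obj F) p) :
    lerayMap f G p (Sheaf.H.map ((CohTop.push f).map φ) p e) =
      Sheaf.H.map φ p (lerayMap f F p e) := by
  rw [lerayMap_apply, lerayMap_apply, Sheaf.H.map_apply, Sheaf.H.map_apply,
    ExtAdjAcyc.Φ_comp_mk₀, Ext.comp_assoc_of_third_deg_zero]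

attribute [local instance] HasDerivedCategory.standard in
theorem lerayMap_bijective (F : CohTop.Ab X)
    (h : ∀ q : ℕ, IsZero ((CohTop.Rpush f (q + 1)).obj F)) (p : ℕ) :
    Function.Bijective (lerayMap f F p) := by
  have hΦ : Function.Bijective
      (ExtAdjAcyc.Φ.{u, u} (Groth.Agent.S0462.adj f) (Groth.Agent.S0462.ZZ Y) F p) := by
    apply ExtAdjAcyc.Φ_bijective
    intro k hk
    obtain ⟨m, rfl⟩ : ∃ m, k = m + 1 := ⟨k - 1, by omega⟩
    exact h m
  have hpre : Function.Bijective
      (fun e : Ext ((CohTop.pull f).obj (Groth.Agent.S0462.ZZ Y)) F p =>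
        (Ext.mk₀ (zIso f).inv).comp e (zero_add p)) := by
    refine Function.bijective_iff_has_inverse.2
      ⟨fun e => (Ext.mk₀ (zIso f).hom).comp e (zero_add p), ?_, ?_⟩
    · intro e
      dsimp only
      rw [← Ext.comp_assoc_of_second_deg_zero, Ext.mk₀_comp_mk₀, Iso.hom_inv_id, Ext.mk₀_id_comp]
    · intro e
      dsimp only
      rw [← Ext.comp_assoc_of_second_deg_zero, Ext.mk₀_comp_mk₀, Iso.inv_hom_id, Ext.mk₀_id_comp]
  exact hpre.comp hΦ

end Top

section Sch
variable {X S : Scheme.{u}} (f : X ⟶ S) (M : X.Modules)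

/-- multiplication by a global function on a pushforward -/
theorem smulAb_push (r : Coh.Γtop S) :
    Coh.smulAb ((Coh.push f).obj M) r =
      (Coh.pushAb f).map (Coh.smulAb M ((f.appTop).hom r)) := by
  ext U m
  have h2 : Coh.resTop X (op (f ⁻¹ᵁ U.unop)) ((f.appTop).hom r) =
      (f.app U.unop).hom (Coh.resTop S U r) := by
    have := f.naturality (homOfLE (le_top : U.unop ≤ ⊤)).op
    exact (congrArg (fun g => g.hom r) this).symm
  refine (?_ : @HSMul.hSMul (X.ringCatSheaf.obj.obj (op (f ⁻¹ᵁ U.unop)))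
      (M.val.obj (op (f ⁻¹ᵁ U.unop))) (M.val.obj (op (f ⁻¹ᵁ U.unop))) _
        ((f.app U.unop).hom (Coh.resTop S U r)) m =
      @HSMul.hSMul (X.ringCatSheaf.obj.obj (op (f ⁻¹ᵁ U.unop)))
      (M.val.obj (op (f ⁻¹ᵁ U.unop))) (M.val.obj (op (f ⁻¹ᵁ U.unop))) _
        (Coh.resTop X (op (f ⁻¹ᵁ U.unop)) ((f.appTop).hom r)) m)
  rw [h2]

variable (A : Type u) [CommRing A] [S.Over (Spec (CommRingCat.of A))] [X.Over (Spec (CommRingCat.of A))]

theorem toGlobal_comp (hf : f ≫ (S ↘ Spec (CommRingCat.of A)) = X ↘ Spec (CommRingCat.of A)) (a : A) :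
    Coh.toGlobal (X ↘ Spec (CommRingCat.of A)) a =
      (f.appTop).hom (Coh.toGlobal (S ↘ Spec (CommRingCat.of A)) a) := by
  rw [← hf]
  unfold Coh.toGlobal
  simp only [Scheme.Hom.comp_appTop, CommRingCat.hom_comp, RingHom.coe_comp, Function.comp_apply]
  rfl

/-- the Leray edge map for modules, as an additive map -/
noncomputable def lerayAdd (p : ℕ) : Coh.HH S ((Coh.push f).obj M) p →+ Coh.HH X M p :=
  lerayMap f.base (Coh.toAb M) p

theorem lerayAdd_natural {M N : X.Modules} (φ : Coh.toAb M ⟶ Coh.toAb N) (p : ℕ)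
    (e : Coh.HH S ((Coh.push f).obj M) p) :
    lerayAdd f N p (Sheaf.H.map ((Coh.pushAb f).map φ) p e) = Sheaf.H.map φ p (lerayAdd f M p e) :=
  lerayMap_natural f.base φ p e

/-- the `A`-linear Leray edge map `H^p(S, f_* M) → H^p(X, M)` -/
noncomputable def lerayLin (hf : f ≫ (S ↘ Spec (CommRingCat.of A)) = X ↘ Spec (CommRingCat.of A))
    (p : ℕ) : Coh.HH S ((Coh.push f).obj M) p →ₗ[A] Coh.HH X M p where
  toFun := lerayAdd f M p
  map_add' := map_add _
  map_smul' a e := by
    change lerayAdd f M p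
        (Sheaf.H.map (Coh.smulAb ((Coh.push f).obj M) (Coh.toGlobal (S ↘ Spec (CommRingCat.of A)) a)) p e) =
      Sheaf.H.map (Coh.smulAb M (Coh.toGlobal (X ↘ Spec (CommRingCat.of A)) a)) p
        (lerayAdd f M p e)
    rw [smulAb_push, toGlobal_comp f A hf a]
    exact lerayAdd_natural f _ p e

/-- **linear bridge**: for an affine morphism over `Spec A` and a quasi-coherent module, cohomology
agrees `A`-linearly with that of the direct image -/
noncomputable def lerayEquiv [IsAffineHom f] [Coh.IsQCoh M]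
    (hf : f ≫ (S ↘ Spec (CommRingCat.of A)) = X ↘ Spec (CommRingCat.of A)) (p : ℕ) :
    Coh.HH S ((Coh.push f).obj M) p ≃ₗ[A] Coh.HH X M p :=
  LinearEquiv.ofBijective (lerayLin f M A hf p)
    (lerayMap_bijective f.base (Coh.toAb M)
      (fun q => Groth.Agent.Helper1.RpushZero.rpushAb_isZero f M q) p)

end Sch

end Groth.Agent.Lib.Helper4.LinBridge1
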