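import Mathlib
import Groth.Agent.Lib.Helper4.LinBridge1
import Groth.Agent.Lib.Helper4.SerreFin
import Groth.Agent.Lib.Helper1.FinPush

/-!
# Finiteness of coherent cohomology on closed subschemes of projective space (helper4)
-/

set_option backward.isDefEq.respectTransparency.types false
set_option synthInstance.maxHeartbeats 400000
set_option autoImplicit false
set_option linter.unusedSectionVars false
set_option linter.style.haveILetI false
set_option linter.unusedSimpArgs false
universe u v w
open CategoryTheory CategoryTheory.Limits AlgebraicGeometry TopologicalSpace Opposite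
open Groth.Agent.Helper1
open Groth.Agent.Lib.Helper4

namespace Groth.Agent.Lib.Helper4.ProjFin1

/-- **finiteness of coherent cohomology on a closed subscheme of projective space** -/
theorem finite_HH_of_closedImmersion (n : ℕ) (R : Type u) [CommRing R] [IsNoetherianRing R]
    {X : Scheme.{u}} [X.Over (Spec (CommRingCat.of R))] (i : X ⟶ CohB1.ProjSpace n R)
    [IsClosedImmersion i] (hi : i ≫ CohB1.ProjSpace.toSpec n R = X ↘ Spec (CommRingCat.of R))
    (F : X.Modules) (hF : Coh.IsCoh F) (p : ℕ) : Module.Finite R (Coh.HH X F p) := by
  haveI : Coh.IsQCoh F := hF.1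
  have hc : Coh.IsCoh ((Scheme.Modules.pushforward i).obj F) := FinPush.isCoh_pushforward i F hF
  haveI := SerreFin.s0038 n R _ hc p
  exact Module.Finite.equiv (LinBridge1.lerayEquiv i F R hi p)

end Groth.Agent.Lib.Helper4.ProjFin1
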