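import Mathlib
import Groth.Prelude.Def_CohB1
import Groth.Agent.Lib.Helper1.HProjLoc

/-!
# Lifting the preimage of an affine open to projective space over its coordinate ring (helper4)
-/

set_option backward.isDefEq.respectTransparency.types false
set_option synthInstance.maxHeartbeats 400000
set_option autoImplicit false
set_option linter.unusedSectionVars false
set_option linter.style.haveILetI false
set_option linter.unusedSimpArgs false
universe u v w
open CategoryTheory CategoryTheory.Limits AlgebraicGeometry TopologicalSpace Opposite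

namespace Groth.Agent.Lib.Helper4.ProjLift1
open Groth.Agent.Helper1

/-- every morphism to an affine scheme factors through the canonical map to `Spec Γ` -/
theorem eq_toSpecΓ_comp {T : Scheme.{u}} {R : CommRingCat.{u}} (g : T ⟶ Spec R) :
    g = T.toSpecΓ ≫ Spec.map ((Scheme.ΓSpecIso R).inv ≫ g.appTop) := by
  rw [Spec.map_comp, ← Scheme.toSpecΓ_naturality_assoc, toSpecΓ_SpecMap_ΓSpecIso_inv, Category.comp_id]

variable {A : Type u} [CommRing A] {Z : Scheme.{u}} (fZ : Z ⟶ Spec (CommRingCat.of A))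
  (V : Z.Opens)

/-- the structure map `A → Γ(Z, V)` -/
noncomputable def rhoC : CommRingCat.of A ⟶ Γ(Z, V) :=
  (Scheme.ΓSpecIso (CommRingCat.of A)).inv ≫ fZ.appTop ≫ Z.presheaf.map (homOfLE le_top).op

theorem fromSpec_comp (hV : IsAffineOpen V) : hV.fromSpec ≫ fZ = Spec.map (rhoC fZ V) := by
  conv_lhs => rw [eq_toSpecΓ_comp fZ]
  rw [hV.fromSpec_toSpecΓ_assoc, ← Spec.map_comp]
  rfl

section Lift
variable (n : ℕ) {Z' : Scheme.{u}} (π : Z' ⟶ Z) (j : Z' ⟶ CohB1.ProjSpace n A)
  (hj : j ≫ CohB1.ProjSpace.toSpec n A = π ≫ fZ) (hV : IsAffineOpen V)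

/-- the structure ring map, as a plain ring hom -/
noncomputable abbrev rho : A →+* Γ(Z, V) := (rhoC fZ V).hom

/-- the base-change map of projective spaces -/
noncomputable abbrev gB : CohB1.ProjSpace n Γ(Z, V) ⟶ CohB1.ProjSpace n A :=
  Proj.map (HProjLoc.polyMap n (rho fZ V)) (HProjLoc.hirr_polyMap n (rho fZ V))

/-- the structure map of the preimage to `Spec Γ(Z, V)` -/
noncomputable abbrev piW : (π ⁻¹ᵁ V : Scheme.{u}) ⟶ Spec Γ(Z, V) := (π ∣_ V) ≫ hV.isoSpec.hom

theorem piW_fromSpec : piW V π hV ≫ hV.fromSpec = (π ⁻¹ᵁ V).ι ≫ π := by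
  rw [Category.assoc, hV.isoSpec_hom_fromSpec, morphismRestrict_ι]

include hj in
theorem lift_cond : ((π ⁻¹ᵁ V).ι ≫ j) ≫ CohB1.ProjSpace.toSpec n A =
    piW V π hV ≫ Spec.map (CommRingCat.ofHom (rho fZ V)) := by
  have h : Spec.map (CommRingCat.ofHom (rho fZ V)) = hV.fromSpec ≫ fZ := (fromSpec_comp fZ V hV).symm
  rw [h, ← Category.assoc (piW V π hV), piW_fromSpec, Category.assoc, Category.assoc, hj]

/-- the lift of the preimage of an affine open to projective space over its coordinate ring -/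
noncomputable def tB : (π ⁻¹ᵁ V : Scheme.{u}) ⟶ CohB1.ProjSpace n Γ(Z, V) :=
  (HProjLoc.isPullback_projSpace n (rho fZ V)).lift ((π ⁻¹ᵁ V).ι ≫ j) (piW V π hV)
    (lift_cond fZ V n π j hj hV)

theorem tB_gB : tB fZ V n π j hj hV ≫ gB fZ V n = (π ⁻¹ᵁ V).ι ≫ j :=
  (HProjLoc.isPullback_projSpace n (rho fZ V)).lift_fst _ _ _

theorem tB_toSpec : tB fZ V n π j hj hV ≫ CohB1.ProjSpace.toSpec n Γ(Z, V) = piW V π hV :=
  (HProjLoc.isPullback_projSpace n (rho fZ V)).lift_snd _ _ _

theorem isClosedImmersion_tB [IsProper π] [IsImmersion j] :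
    IsClosedImmersion (tB fZ V n π j hj hV) := by
  haveI h1 : IsImmersion (tB fZ V n π j hj hV ≫ gB fZ V n) := by
    rw [tB_gB]; infer_instance
  haveI h2 : IsImmersion (tB fZ V n π j hj hV) := IsImmersion.of_comp _ (gB fZ V n)
  haveI h3 : IsProper (π ∣_ V) := IsZariskiLocalAtTarget.restrict ‹IsProper π› V
  haveI h4 : IsProper (tB fZ V n π j hj hV ≫ CohB1.ProjSpace.toSpec n Γ(Z, V)) := by
    rw [tB_toSpec]; infer_instance
  haveI h5 : IsSeparated (CohB1.ProjSpace.toSpec n Γ(Z, V)) := VA5.isSeparated_toSpec n _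
  haveI h6 : IsProper (tB fZ V n π j hj hV) := IsProper.of_comp _ (CohB1.ProjSpace.toSpec n Γ(Z, V))
  exact IsClosedImmersion.of_isPreimmersion _ (tB fZ V n π j hj hV).isClosedMap.isClosed_range

end Lift

end Groth.Agent.Lib.Helper4.ProjLift1
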