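import Mathlib
import Groth.Prelude.Def_CohB1
import Groth.Agent.Lib.Helper4.ProjLift1
import Groth.Agent.Lib.Helper4.ProjFin1
import Groth.Agent.Lib.Helper1.HH0
import Groth.Agent.Lib.Helper1.CohRestr
import Groth.Agent.Lib.Helper1.PushQc

/-!
# Coherence of direct images in the Chow situation (proper morphism from a scheme immersed in projective space) (helper4)
-/

set_option backward.isDefEq.respectTransparency.types false
set_option synthInstance.maxHeartbeats 400000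
set_option autoImplicit false
set_option linter.unusedSectionVars false
set_option linter.style.haveILetI false
set_option linter.unusedSimpArgs false
universe u v w
open CategoryTheory CategoryTheory.Limits AlgebraicGeometry TopologicalSpace Opposite

namespace Groth.Agent.Lib.Helper4.ChowCoh1
open Groth.Agent.Helper1 Groth.Agent.Helper1.QcCech
open Groth.Agent.Lib.Helper4

variable {Z Z' : Scheme.{u}} (π : Z' ⟶ Z) (V : Z.Opens) (hV : IsAffineOpen V)

/-- the structure map of the preimage of an affine open -/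
theorem piW_eq : ProjLift1.piW V π hV = (π ⁻¹ᵁ V).toSpecΓ ≫ Spec.map (π.app V) := by
  rw [ProjLift1.piW, hV.isoSpec_hom, Scheme.Opens.toSpecΓ_naturality]

theorem piW_appTop : (Scheme.ΓSpecIso Γ(Z, V)).inv ≫ (ProjLift1.piW V π hV).appTop =
    π.app V ≫ (π ⁻¹ᵁ V).topIso.inv := by
  rw [piW_eq, Scheme.Hom.comp_appTop, ← Category.assoc, ← Scheme.ΓSpecIso_inv_naturality,
    Category.assoc, Scheme.Opens.toSpecΓ_appTop, Iso.inv_hom_id_assoc]

theorem toGlobal_piW (b : Γ(Z, V)) :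
    Coh.toGlobal (ProjLift1.piW V π hV) b = ((π ⁻¹ᵁ V).topIso.inv).hom ((π.app V).hom b) := by
  have h := congrArg (fun φ => φ.hom b) (piW_appTop π V hV)
  exact h

section Fin
variable {A : Type u} [CommRing A] (fZ : Z ⟶ Spec (CommRingCat.of A))
  (n : ℕ) (j : Z' ⟶ CohB1.ProjSpace n A)
  (hj : j ≫ CohB1.ProjSpace.toSpec n A = π ≫ fZ)

/-- semilinear transfer of finiteness along a surjective additive map -/
theorem finite_of_semilinear {R₁ R₂ N₁ N₂ : Type*} [CommRing R₁] [CommRing R₂] [AddCommGroup N₁]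
    [AddCommGroup N₂] [Module R₁ N₁] [Module R₂ N₂] (φ : R₁ →+* R₂) (Φ : N₁ →+ N₂)
    (hΦ : Function.Surjective Φ) (hsm : ∀ (r : R₁) (x : N₁), Φ (r • x) = φ r • Φ x)
    [h : Module.Finite R₁ N₁] : Module.Finite R₂ N₂ := by
  letI : Module R₁ N₂ := Module.compHom N₂ φ
  let L : N₁ →ₗ[R₁] N₂ := { toFun := Φ, map_add' := map_add Φ, map_smul' := hsm }
  have h1 : Module.Finite R₁ N₂ := Module.Finite.of_surjective L hΦ
  obtain ⟨s, hs⟩ := h1.fg_top
  refine ⟨⟨s, ?_⟩⟩
  rw [eq_top_iff]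
  intro x _
  have hx : x ∈ Submodule.span R₁ (s : Set N₂) := by rw [hs]; trivial
  refine Submodule.span_induction (p := fun y _ => y ∈ Submodule.span R₂ (s : Set N₂))
    (fun y hy => Submodule.subset_span hy) (Submodule.zero_mem _)
    (fun y z _ _ hy hz => Submodule.add_mem _ hy hz) (fun r y _ hy => ?_) hx
  exact Submodule.smul_mem _ (φ r) hy

include fZ hj hV in
/-- **finiteness of the sections of a direct image over an affine open** in the Chow situation -/
theorem finite_sections_push [IsProper π] [IsImmersion j] [IsNoetherianRing Γ(Z, V)]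
    (M : Z'.Modules) (hM : Coh.IsCoh M) :
    Module.Finite Γ(Z, V) Γ((Scheme.Modules.pushforward π).obj M, V) := by
  letI : (π ⁻¹ᵁ V : Scheme.{u}).Over (Spec (CommRingCat.of Γ(Z, V))) := ⟨ProjLift1.piW V π hV⟩
  haveI := ProjLift1.isClosedImmersion_tB fZ V n π j hj hV
  haveI hfin : Module.Finite Γ(Z, V) (Coh.HH (π ⁻¹ᵁ V : Scheme.{u}) (M.restrict (π ⁻¹ᵁ V).ι) 0) :=
    ProjFin1.finite_HH_of_closedImmersion n Γ(Z, V) (ProjLift1.tB fZ V n π j hj hV)
      (ProjLift1.tB_toSpec fZ V n π j hj hV) _ (FinPush.isCoh_restrict _ M hM) 0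
  have hW : π ⁻¹ᵁ V ≤ (π ⁻¹ᵁ V).ι ''ᵁ ⊤ := (Scheme.Opens.ι_image_top _).ge
  have hW' : (π ⁻¹ᵁ V).ι ''ᵁ ⊤ ≤ π ⁻¹ᵁ V := (Scheme.Opens.ι_image_top _).le
  let e0 := HH0.equiv (π ⁻¹ᵁ V : Scheme.{u}) (M.restrict (π ⁻¹ᵁ V).ι)
  let Φ : Coh.HH (π ⁻¹ᵁ V : Scheme.{u}) (M.restrict (π ⁻¹ᵁ V).ι) 0 →+
      Γ((Scheme.Modules.pushforward π).obj M, V) :=
    (res M hW).comp e0.toAddMonoidHom
  have hΦ : Function.Surjective Φ := by
    intro y
    obtain ⟨x, hx⟩ := e0.surjective (res M hW' (show Γ(M, π ⁻¹ᵁ V) from y))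
    refine ⟨x, ?_⟩
    change res M hW (e0 x) = y
    rw [hx, res_res, res_self]
  refine finite_of_semilinear (RingHom.id Γ(Z, V)) Φ hΦ ?_
  intro b x
  change res M hW (e0 (b • x)) = (show Γ((Scheme.Modules.pushforward π).obj M, V) from b • Φ x)
  have h1 : Coh.toGlobal ((π ⁻¹ᵁ V : Scheme.{u}) ↘ Spec (CommRingCat.of Γ(Z, V))) b =
      ((π ⁻¹ᵁ V).topIso.inv).hom ((π.app V).hom b) := toGlobal_piW π V hV b
  rw [HH0.equiv_smul_over, h1]
  change res M hW ((((π ⁻¹ᵁ V).ι.appIso ⊤).inv.hom (((π ⁻¹ᵁ V).topIso.inv).hom ((π.app V).hom b))) •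
    (show Γ(M, (π ⁻¹ᵁ V).ι ''ᵁ ⊤) from e0 x)) = _
  rw [res_smul]
  congr 1
  rw [Scheme.Opens.ι_appIso]
  change resR hW (((π ⁻¹ᵁ V).topIso.inv).hom ((π.app V).hom b)) = (π.app V).hom b
  change (Z'.presheaf.map (homOfLE hW).op).hom ((Z'.presheaf.map _).hom ((π.app V).hom b)) = _
  rw [← ConcreteCategory.comp_apply, ← Functor.map_comp]
  have hid : ∀ (f : op (π ⁻¹ᵁ V) ⟶ op (π ⁻¹ᵁ V)), Z'.presheaf.map f = 𝟙 _ := fun f => by
    rw [Subsingleton.elim f (𝟙 _), CategoryTheory.Functor.map_id]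
  rw [hid]
  rfl

end Fin

section Coh
variable {A : Type u} [CommRing A] (fZ : Z ⟶ Spec (CommRingCat.of A))
  (n : ℕ) (j : Z' ⟶ CohB1.ProjSpace n A)
  (hj : j ≫ CohB1.ProjSpace.toSpec n A = π ≫ fZ)

include fZ hj in
/-- **coherence of direct images** in the Chow situation -/
theorem isCoh_push [IsLocallyNoetherian Z] [IsProper π] [IsImmersion j]
    (M : Z'.Modules) (hM : Coh.IsCoh M) :
    Coh.IsCoh ((Scheme.Modules.pushforward π).obj M) := by
  haveI : M.IsQuasicoherent := hM.1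
  haveI hq : ((Scheme.Modules.pushforward π).obj M).IsQuasicoherent :=
    PushQc.isQuasicoherent_pushforward π M
  refine ⟨hq, FinPush.isFiniteType_of_finite_sections _ fun O hO => ?_⟩
  haveI : IsNoetherianRing Γ(Z, O) := IsLocallyNoetherian.component_noetherian ⟨O, hO⟩
  exact finite_sections_push π O hO fZ n j hj M hM

end Coh

end Groth.Agent.Lib.Helper4.ChowCoh1
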