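import Mathlib
import Groth.Prelude.Def_CohB1
import Groth.Agent.S0025
import Groth.Agent.Lib.Helper1.HProjLoc

/-!
# Chow lemma over an affine Noetherian base with target the projective space over the ring (helper4)
-/

set_option backward.isDefEq.respectTransparency.types false
set_option synthInstance.maxHeartbeats 400000
set_option autoImplicit false
set_option linter.unusedSectionVars false
set_option linter.style.haveILetI false
set_option linter.unusedSimpArgs false
universe u v w
open CategoryTheory CategoryTheory.Limits AlgebraicGeometry TopologicalSpace Opposite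

namespace Groth.Agent.Lib.Helper4.ChowPn1
open Groth.Agent.Helper1

variable (n : ℕ) (A : Type u) [CommRing A]

/-- the unique ring map from the lifted integers -/
noncomputable def rhoZ : ULift.{u} ℤ →+* A := (Int.castRingHom A).comp ULift.ringEquiv.toRingHom

theorem isPullback_over : IsPullback
    (Proj.map (HProjLoc.polyMap n (rhoZ A)) (HProjLoc.hirr_polyMap n (rhoZ A)))
    (CohB1.ProjSpace.toSpec n A) (CohB1.ProjSpace.toSpec n (ULift.{u} ℤ))
    (specULiftZIsTerminal.from (Spec (CommRingCat.of A))) := by
  have h := HProjLoc.isPullback_projSpace n (rhoZ A)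
  have hρ : Spec.map (CommRingCat.ofHom (rhoZ A)) = specULiftZIsTerminal.from (Spec (CommRingCat.of A)) :=
    specULiftZIsTerminal.hom_ext _ _
  rwa [hρ] at h

/-- projective space over `Spec A` in the two forms -/
noncomputable def thetaIso : CohB1.ProjSpace n A ≅ CohB1.ProjSpaceOver n (Spec (CommRingCat.of A)) :=
  (isPullback_over n A).isoPullback

theorem thetaIso_hom_toBase :
    (thetaIso n A).hom ≫ CohB1.ProjSpaceOver.toBase n (Spec (CommRingCat.of A)) =
      CohB1.ProjSpace.toSpec n A :=
  (isPullback_over n A).isoPullback_hom_snd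

theorem thetaIso_inv_toSpec :
    (thetaIso n A).inv ≫ CohB1.ProjSpace.toSpec n A =
      CohB1.ProjSpaceOver.toBase n (Spec (CommRingCat.of A)) := by
  rw [Iso.inv_comp_eq, thetaIso_hom_toBase]

variable {A}

/-- **Chow's lemma over an affine Noetherian base, with target the frozen projective space over the ring** -/
theorem exists_chow [IsNoetherianRing A] {Z : Scheme.{u}} (fZ : Z ⟶ Spec (CommRingCat.of A))
    [IsProper fZ] :
    ∃ (n : ℕ) (Z' : Scheme.{u}) (π : Z' ⟶ Z) (j : Z' ⟶ CohB1.ProjSpace n A),
      IsClosedImmersion j ∧ j ≫ CohB1.ProjSpace.toSpec n A = π ≫ fZ ∧ IsProper π ∧ Surjective π ∧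
      ∃ U : Z.Opens, Dense (U : Set Z) ∧ IsIso (π ∣_ U) := by
  obtain ⟨n, Z', π, j, hj, hjf, hπ, hπs, U, hU, hUi⟩ := Groth.Agent.S0025.result fZ
  refine ⟨n, Z', π, j ≫ (thetaIso n A).inv, ?_, ?_, hπ, hπs, U, hU, hUi⟩
  · have hcomp : (j ≫ (thetaIso n A).inv) ≫ CohB1.ProjSpace.toSpec n A = π ≫ fZ := by
      rw [Category.assoc, thetaIso_inv_toSpec, hjf]
    haveI : IsImmersion (j ≫ (thetaIso n A).inv) := inferInstance
    haveI : IsProper ((j ≫ (thetaIso n A).inv) ≫ CohB1.ProjSpace.toSpec n A) := by
      rw [hcomp]; infer_instance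
    haveI : IsSeparated (CohB1.ProjSpace.toSpec n A) := VA5.isSeparated_toSpec n _
    haveI : IsProper (j ≫ (thetaIso n A).inv) := IsProper.of_comp _ (CohB1.ProjSpace.toSpec n A)
    exact IsClosedImmersion.of_isPreimmersion _ (j ≫ (thetaIso n A).inv).isClosedMap.isClosed_range
  · rw [Category.assoc, thetaIso_inv_toSpec, hjf]

end Groth.Agent.Lib.Helper4.ChowPn1
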