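import Mathlib
import Groth.Prelude.Def_CohB1
import Groth.Agent.Lib.Helper1.QcsLoc
import Groth.Agent.Lib.Helper1.QcAcyc
import Groth.Agent.S0464

/-!
# Localization of Cech exactness and of cohomology vanishing along basic opens (helper4)
-/

set_option backward.isDefEq.respectTransparency.types false
set_option synthInstance.maxHeartbeats 400000
set_option autoImplicit false
set_option linter.unusedSectionVars false
set_option linter.style.haveILetI false
set_option linter.unusedSimpArgs false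
universe u v w
open CategoryTheory CategoryTheory.Limits AlgebraicGeometry TopologicalSpace Opposite

namespace Groth.Agent.Lib.Helper4.LocCech1
open Groth.Agent.Helper1 Groth.Agent.Helper1.QcCech Groth.Agent.Helper1.QcsLoc

variable {X : Scheme.{u}} (M : X.Modules) {ι : Type u} (U : ι → X.Opens)

/-- cochains as families of sections, for an arbitrary family of opens -/
abbrev Co (n : ℕ) : Type u := ∀ a : Fin (n + 1) → ι, Γ(M, TCx.W U a)

/-- the Čech differential on families -/
noncomputable def Dd (n : ℕ) (y : Co M U n) : Co M U (n + 1) :=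
  fun a => ∑ i : Fin (n + 2), (-1 : ℤ) ^ (i : ℕ) •
    res M (TCx.W_face_le U a i) (y (fun k => a (i.succAbove k)))

lemma Dd_apply (n : ℕ) (y : Co M U n) (a : Fin (n + 2) → ι) :
    Dd M U n y a = ∑ i : Fin (n + 2), (-1 : ℤ) ^ (i : ℕ) •
      res M (TCx.W_face_le U a i) (y (fun k => a (i.succAbove k))) := rfl

/-- components of an honest cochain -/
noncomputable def comps (n : ℕ) (x : (TCx.K U M.presheaf).X n) : Co M U n :=
  fun a => (TCx.proj U M.presheaf n a).hom x

lemma comps_d (n : ℕ) (x : (TCx.K U M.presheaf).X n) :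
    comps M U (n + 1) (((TCx.K U M.presheaf).d n (n + 1)).hom x) = Dd M U n (comps M U n x) := by
  funext a
  exact TCx.d_apply U M.presheaf n a x

lemma comps_injective (n : ℕ) : Function.Injective (comps M U n) := by
  intro x y h
  exact TCx.ext U M.presheaf n x y (fun a => congrFun h a)

lemma comps_surjective (n : ℕ) : Function.Surjective (comps M U n) := by
  intro y
  obtain ⟨x, hx⟩ := TCx.exists_cochain U M.presheaf n y
  exact ⟨x, funext hx⟩

/-- exactness in family form -/
def ExactAt (p : ℕ) : Prop :=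
  ∀ x : Co M U (p + 1), Dd M U (p + 1) x = 0 → ∃ y : Co M U p, Dd M U p y = x

theorem isZero_cechH_iff' (p : ℕ) :
    IsZero (CohTop.cechH M.presheaf U (p + 1)) ↔
      ∀ x : (TCx.K U M.presheaf).X (p + 1), ((TCx.K U M.presheaf).d (p + 1) (p + 2)).hom x = 0 →
        ∃ y : (TCx.K U M.presheaf).X p, ((TCx.K U M.presheaf).d p (p + 1)).hom y = x := by
  change IsZero ((TCx.K U M.presheaf).homology (p + 1)) ↔ _
  rw [← HomologicalComplex.exactAt_iff_isZero_homology,
    (TCx.K U M.presheaf).exactAt_iff' p (p + 1) (p + 2) (by simp) (by simp), ShortComplex.ab_exact_iff]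
  exact Iff.rfl

theorem isZero_cechH_iff (p : ℕ) :
    IsZero (CohTop.cechH M.presheaf U (p + 1)) ↔ ExactAt M U p := by
  rw [isZero_cechH_iff']
  constructor
  · intro h x hx
    obtain ⟨x', rfl⟩ := comps_surjective M U (p + 1) x
    have hx' : ((TCx.K U M.presheaf).d (p + 1) (p + 2)).hom x' = 0 := by
      apply comps_injective M U (p + 2)
      rw [comps_d, hx]
      funext a
      exact (map_zero _).symm
    obtain ⟨y', hy'⟩ := h x' hx'
    refine ⟨comps M U p y', ?_⟩
    rw [← comps_d]
    exact congrArg _ hy'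
  · intro h x hx
    have hx' : Dd M U (p + 1) (comps M U (p + 1) x) = 0 := by
      rw [← comps_d, hx]
      funext a
      exact map_zero _
    obtain ⟨y, hy⟩ := h _ hx'
    obtain ⟨y', rfl⟩ := comps_surjective M U p y
    refine ⟨y', ?_⟩
    apply comps_injective M U (p + 1)
    rw [comps_d]
    exact hy


section Loc
variable {W₀ : X.Opens} (f : Γ(X, W₀))

/-- the localized family -/
abbrev Uf : ι → X.Opens := fun i => U i ⊓ X.basicOpen f

lemma Wf_le_W {n : ℕ} (a : Fin (n + 1) → ι) : TCx.W (Uf U f) a ≤ TCx.W U a :=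
  TCx.le_W U a _ (fun k => (TCx.W_le (Uf U f) a k).trans inf_le_left)

lemma Wf_le_bO {n : ℕ} (a : Fin (n + 1) → ι) : TCx.W (Uf U f) a ≤ X.basicOpen f :=
  (TCx.W_le (Uf U f) a 0).trans inf_le_right

lemma Wf_eq {n : ℕ} (a : Fin (n + 1) → ι) : TCx.W (Uf U f) a = TCx.W U a ⊓ X.basicOpen f :=
  le_antisymm (le_inf (Wf_le_W U f a) (Wf_le_bO U f a))
    (TCx.le_W _ _ _ fun k => inf_le_inf_right _ (TCx.W_le U a k))

/-- restriction of cochains to the localized family -/
noncomputable def rho (n : ℕ) (y : Co M U n) : Co M (Uf U f) n :=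
  fun a => res M (Wf_le_W U f a) (y a)

lemma Dd_rho (n : ℕ) (y : Co M U n) :
    Dd M (Uf U f) n (rho M U f n y) = rho M U f (n + 1) (Dd M U n y) := by
  funext a
  simp only [Dd_apply, rho, map_sum, map_zsmul, res_res]

variable (hle : ∀ i, U i ≤ W₀)
include hle

lemma W_le_base {n : ℕ} (a : Fin (n + 1) → ι) : TCx.W U a ≤ W₀ :=
  (TCx.W_le U a 0).trans (hle _)

lemma Wf_le_base {n : ℕ} (a : Fin (n + 1) → ι) : TCx.W (Uf U f) a ≤ W₀ :=
  (Wf_le_W U f a).trans (W_le_base U hle a)

/-- scalar multiplication of cochains by functions on the base open -/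
noncomputable def sm (n : ℕ) (r : Γ(X, W₀)) (y : Co M U n) : Co M U n :=
  fun a => rsmul M (W_le_base U hle a) r (y a)

lemma Dd_sm (n : ℕ) (r : Γ(X, W₀)) (y : Co M U n) :
    Dd M U n (sm M U hle n r y) = sm M U hle (n + 1) r (Dd M U n y) := by
  funext a
  simp only [Dd_apply, sm, res_rsmul]
  unfold rsmul
  rw [Finset.smul_sum]
  refine Finset.sum_congr rfl fun i _ => ?_
  rw [smul_comm]

lemma sm_zero (n : ℕ) (r : Γ(X, W₀)) : sm M U hle n r (0 : Co M U n) = 0 := by
  funext a
  exact rsmul_zero M _ r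

lemma sm_mul (n : ℕ) (r s : Γ(X, W₀)) (y : Co M U n) :
    sm M U hle n (r * s) y = sm M U hle n r (sm M U hle n s y) := by
  funext a
  exact rsmul_mul M _ r s (y a)

lemma sm_one (n : ℕ) (y : Co M U n) : sm M U hle n 1 y = y := by
  funext a
  exact rsmul_one M _ (y a)

omit hle in
lemma sm_resR {W₁ : X.Opens} (h : W₁ ≤ W₀) (hle₁ : ∀ i, U i ≤ W₁) (n : ℕ) (r : Γ(X, W₀)) (y : Co M U n) :
    sm M U hle₁ n (resR h r) y = sm M U (fun i => (hle₁ i).trans h) n r y := by
  funext a
  change resR _ (resR h r) • y a = resR _ r • y a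
  rw [resR_resR]

lemma rho_sm (n : ℕ) (r : Γ(X, W₀)) (y : Co M U n) :
    rho M U f n (sm M U hle n r y) =
      sm M (Uf U f) (fun i => inf_le_left.trans (hle i)) n r (rho M U f n y) := by
  funext a
  exact res_rsmul M _ _ r (y a)

end Loc


section Main
variable [M.IsQuasicoherent] [Finite ι] {W₀ : X.Opens} (f : Γ(X, W₀)) (hle : ∀ i, U i ≤ W₀)
  (haff : ∀ (n : ℕ) (a : Fin (n + 1) → ι), IsAffineOpen (TCx.W U a))
include hle haff

/-- cochains on the localized family extend after multiplication by a power of `f` -/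
lemma ext1 (n : ℕ) (x : Co M (Uf U f) n) :
    ∃ (N : ℕ) (y : Co M U n), ∀ a, rho M U f n y a = rsmul M (Wf_le_base U f hle a) (f ^ N) (x a) := by
  classical
  have : Fintype (Fin (n + 1) → ι) := Fintype.ofFinite _
  have h1 : ∀ a : Fin (n + 1) → ι, ∃ (m : ℕ) (t : Γ(M, TCx.W U a)),
      res M (Wf_le_W U f a) t = rsmul M (Wf_le_base U f hle a) (f ^ m) (x a) := by
    intro a
    have he := ext_affine M f (haff n a)
    have h := Wf_eq U f a
    obtain ⟨m, t, ht⟩ := he (W_le_base U hle a) (res M h.symm.le (x a))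
    refine ⟨m, t, ?_⟩
    have := congrArg (res M h.le) ht
    rw [res_res, res_rsmul, res_res, res_self] at this
    exact this
  choose m t ht using h1
  refine ⟨∑ a, m a, fun a => rsmul M (W_le_base U hle a) (f ^ ((∑ a, m a) - m a)) (t a), fun a => ?_⟩
  have hle' : m a ≤ ∑ a, m a := Finset.single_le_sum (f := m) (fun _ _ => Nat.zero_le _) (Finset.mem_univ a)
  rw [rho, res_rsmul, ht, ← rsmul_mul, ← pow_add, Nat.sub_add_cancel hle']

/-- cochains vanishing on the localized family are killed by a power of `f` -/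
lemma kill1 (n : ℕ) (y : Co M U n) (hy : rho M U f n y = 0) :
    ∃ K : ℕ, sm M U hle n (f ^ K) y = 0 := by
  classical
  have : Fintype (Fin (n + 1) → ι) := Fintype.ofFinite _
  have h1 : ∀ a : Fin (n + 1) → ι, ∃ m : ℕ, rsmul M (W_le_base U hle a) (f ^ m) (y a) = 0 := by
    intro a
    have hk := kill_affine M f (haff n a)
    have h := Wf_eq U f a
    apply hk (W_le_base U hle a) (y a)
    have := congrArg (res M h.symm.le) (congrFun hy a)
    rw [rho, res_res, Pi.zero_apply, map_zero] at this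
    exact this
  choose m hm using h1
  refine ⟨∑ a, m a, ?_⟩
  funext a
  have hle' : m a ≤ ∑ a, m a := Finset.single_le_sum (f := m) (fun _ _ => Nat.zero_le _) (Finset.mem_univ a)
  change rsmul M (W_le_base U hle a) (f ^ (∑ a, m a)) (y a) = 0
  rw [← Nat.sub_add_cancel hle', rsmul_pow_add, hm, rsmul_zero]

/-- **localization of Čech exactness**: exactness for a finite family with affine intersections
passes to the family cut down by a basic open -/
theorem exactAt_loc (p : ℕ) (hex : ExactAt M U p) : ExactAt M (Uf U f) p := by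
  intro x hx
  have hle' : ∀ i, Uf U f i ≤ W₀ := fun i => inf_le_left.trans (hle i)
  have hle'' : ∀ i, Uf U f i ≤ X.basicOpen f := fun i => inf_le_right
  obtain ⟨N, y, hy⟩ := ext1 M U f hle haff (p + 1) x
  have hy' : rho M U f (p + 1) y = sm M (Uf U f) hle' (p + 1) (f ^ N) x := funext hy
  have h1 : rho M U f (p + 2) (Dd M U (p + 1) y) = 0 := by
    rw [← Dd_rho, hy', Dd_sm, hx, sm_zero]
  obtain ⟨K, hK⟩ := kill1 M U f hle haff (p + 2) _ h1
  have h2 : Dd M U (p + 1) (sm M U hle (p + 1) (f ^ K) y) = 0 := by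
    rw [Dd_sm, hK]
  obtain ⟨z, hz⟩ := hex _ h2
  have h3 : Dd M (Uf U f) p (rho M U f p z) = sm M (Uf U f) hle' (p + 1) (f ^ (K + N)) x := by
    rw [Dd_rho, hz, rho_sm, hy', ← sm_mul, ← pow_add]
  have hunit : IsUnit (resR (X.basicOpen_le f) f) :=
    RingedSpace.isUnit_res_basicOpen X.toRingedSpace f
  obtain ⟨u, hu'⟩ := hunit.exists_left_inv
  refine ⟨sm M (Uf U f) hle'' p (u ^ (K + N)) (rho M U f p z), ?_⟩
  rw [Dd_sm, h3, ← sm_resR M (Uf U f) (X.basicOpen_le f) hle'', ← sm_mul, map_pow, ← mul_pow, hu',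
    one_pow, sm_one]

end Main

section HU
variable [M.IsQuasicoherent] [Finite ι] {W₀ : X.Opens} (f : Γ(X, W₀)) (hle : ∀ i, U i ≤ W₀)
  (haff : ∀ (n : ℕ) (a : Fin (n + 1) → ι), IsAffineOpen (TCx.W U a))
include hle haff

omit [M.IsQuasicoherent] [Finite ι] in
lemma isAffineOpen_Wf (n : ℕ) (a : Fin (n + 1) → ι) : IsAffineOpen (TCx.W (Uf U f) a) := by
  rw [Wf_eq, inf_basicOpen_eq f (W_le_base U hle a)]
  exact (haff n a).basicOpen _

omit hle [Finite ι] in
lemma cech_equiv_HU (p : ℕ) :
    Nonempty (CohTop.cechH M.presheaf U p ≃+ CohTop.HU (Coh.toAb M) p (iSup U)) := by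
  have hacyc : ∀ (q : ℕ) (a : Fin (q + 1) → ι) (r : ℕ),
      Subsingleton (CohTop.HU (Coh.toAb M) (r + 1) (iInf fun k => U (a k))) := by
    intro q a r
    have h2 : IsAffineOpen (iInf fun k => U (a k)) := by
      rw [← TCx.W_eq_iInf]
      exact haff q a
    exact Groth.Agent.Helper1.QcAcyc.subsingleton_HU M _ h2 r
  exact Groth.Agent.S0464.result (X := X.toTopCat) (Coh.toAb M) U hacyc p

omit hle haff [M.IsQuasicoherent] [Finite ι] in
lemma iSup_Uf : iSup (Uf U f) = iSup U ⊓ X.basicOpen f := by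
  exact (iSup_inf_eq U (X.basicOpen f)).symm

/-- **localization of vanishing**: if `H^{q+1}` of a quasi-coherent module vanishes on a finite
union of opens with affine finite intersections, it vanishes on its part inside a basic open -/
theorem subsingleton_HU_loc (q : ℕ)
    (h : Subsingleton (CohTop.HU (Coh.toAb M) (q + 1) (iSup U))) :
    Subsingleton (CohTop.HU (Coh.toAb M) (q + 1) (iSup U ⊓ X.basicOpen f)) := by
  obtain ⟨e⟩ := cech_equiv_HU M U haff (q + 1)
  obtain ⟨e'⟩ := cech_equiv_HU M (Uf U f) (isAffineOpen_Wf U f hle haff) (q + 1)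
  have h1 : IsZero (CohTop.cechH M.presheaf U (q + 1)) := by
    haveI : Subsingleton (CohTop.cechH M.presheaf U (q + 1)) := e.toEquiv.subsingleton
    exact AddCommGrpCat.isZero_of_subsingleton _
  have h2 : IsZero (CohTop.cechH M.presheaf (Uf U f) (q + 1)) := by
    rw [isZero_cechH_iff] at h1 ⊢
    exact exactAt_loc M U f hle haff q h1
  haveI : Subsingleton (CohTop.cechH M.presheaf (Uf U f) (q + 1)) :=
    AddCommGrpCat.subsingleton_of_isZero h2
  rw [← iSup_Uf]
  exact e'.symm.toEquiv.subsingleton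

end HU

end Groth.Agent.Lib.Helper4.LocCech1
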