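import Mathlib
import Groth.Prelude.Def_CohB1
import Groth.Agent.Lib.Helper4.LocCech1
import Groth.Agent.Lib.Helper1.RpushZero

/-!
# Vanishing of higher direct images from vanishing over an affine cover of the base (helper4)
-/

set_option backward.isDefEq.respectTransparency.types false
set_option synthInstance.maxHeartbeats 400000
set_option autoImplicit false
set_option linter.unusedSectionVars false
set_option linter.style.haveILetI false
set_option linter.unusedSimpArgs false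
universe u v w
open CategoryTheory CategoryTheory.Limits AlgebraicGeometry TopologicalSpace Opposite

namespace Groth.Agent.Lib.Helper4.RelVan1
open Groth.Agent.Helper1 Groth.Agent.Helper1.QcCech Groth.Agent.Helper1.QcsLoc
open Groth.Agent.Lib.Helper4

variable {Y Z : Scheme.{u}} (π : Y ⟶ Z) (G : Y.Modules)

lemma W_inf {ι : Type u} (Ua : ι → Y.Opens) (O : Y.Opens) {n : ℕ} (a : Fin (n + 1) → ι) :
    TCx.W (fun i => Ua i ⊓ O) a = TCx.W Ua a ⊓ O := by
  apply le_antisymm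
  · refine le_inf (TCx.le_W Ua a _ fun k => ?_) ?_
    · exact (TCx.W_le (fun i => Ua i ⊓ O) a k).trans inf_le_left
    · exact (TCx.W_le (fun i => Ua i ⊓ O) a 0).trans inf_le_right
  · exact TCx.le_W _ _ _ fun k => inf_le_inf_right _ (TCx.W_le Ua a k)

/-- **relative vanishing from vanishing over an affine cover of the base** -/
theorem isZero_Rpush [G.IsQuasicoherent] {ι : Type u} [Finite ι] (Ua : ι → Y.Opens)
    (hUa : ⨆ i, Ua i = ⊤)
    (haff : ∀ (n : ℕ) (a : Fin (n + 1) → ι), IsAffineOpen (TCx.W Ua a))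
    (hπ : ∀ O : Y.Opens, IsAffineOpen O → ∀ V : Z.Opens, IsAffineOpen V → IsAffineOpen (O ⊓ π ⁻¹ᵁ V))
    (𝒱 : Set Z.Opens) (h𝒱aff : ∀ V ∈ 𝒱, IsAffineOpen V) (h𝒱cov : ∀ z : Z, ∃ V ∈ 𝒱, z ∈ V)
    (q : ℕ) (hvan : ∀ V ∈ 𝒱, Subsingleton (CohTop.HU (Coh.toAb G) (q + 1) (π ⁻¹ᵁ V))) :
    IsZero ((CohTop.Rpush π.base (q + 1)).obj (Coh.toAb G)) := by
  let B : Set (Opens Z) := {V' | ∃ V ∈ 𝒱, ∃ b : Γ(Z, V), V' = Z.basicOpen b}
  have hB : Opens.IsBasis B := by
    rw [Opens.isBasis_iff_nbhd]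
    intro O z hz
    obtain ⟨V, hV, hzV⟩ := h𝒱cov z
    obtain ⟨b, hb1, hb2⟩ := (h𝒱aff V hV).exists_basicOpen_le (V := O) ⟨z, hz⟩ hzV
    exact ⟨Z.basicOpen b, ⟨V, hV, b, rfl⟩, hb2, hb1⟩
  refine RpushZero.isZero_of_basis π.base (Coh.toAb G) (q + 1) B hB ?_
  rintro _ ⟨V, hV, b, rfl⟩
  let f : Γ(Y, π ⁻¹ᵁ V) := (π.app V).hom b
  have hpre : π ⁻¹ᵁ (Z.basicOpen b) = Y.basicOpen f := Scheme.preimage_basicOpen π b
  let U : ι → Y.Opens := fun i => Ua i ⊓ π ⁻¹ᵁ V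
  have hU : iSup U = π ⁻¹ᵁ V := by
    change (⨆ i, Ua i ⊓ π ⁻¹ᵁ V) = _
    rw [← iSup_inf_eq, hUa, top_inf_eq]
  have haffU : ∀ (n : ℕ) (a : Fin (n + 1) → ι), IsAffineOpen (TCx.W U a) := by
    intro n a
    rw [W_inf]
    exact hπ _ (haff n a) V (h𝒱aff V hV)
  have h1 := LocCech1.subsingleton_HU_loc G U f (fun i => inf_le_right) haffU q (by
    rw [hU]; exact hvan V hV)
  rw [hU, inf_eq_right.2 (Y.basicOpen_le f), ← hpre] at h1
  exact h1

end Groth.Agent.Lib.Helper4.RelVan1
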