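import Mathlib
import Groth.Prelude.Def_CohB1
import Groth.Agent.Lib.Helper4.RelVan1
import Groth.Agent.Lib.Helper4.PnC6

/-!
# Affine covers of schemes affine over projective space and affineness over a separated target (helper4)
-/

set_option backward.isDefEq.respectTransparency.types false
set_option synthInstance.maxHeartbeats 400000
set_option autoImplicit false
set_option linter.unusedSectionVars false
set_option linter.style.haveILetI false
set_option linter.unusedSimpArgs false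
universe u v w
open CategoryTheory CategoryTheory.Limits AlgebraicGeometry TopologicalSpace Opposite

namespace Groth.Agent.Lib.Helper4.ChowCov1
open Groth.Agent.Helper1
open Groth.Agent.Lib.Helper4

/-- for a morphism to a scheme separated over an affine base, the part of an affine open lying over
an affine open of the target is affine -/
theorem isAffineOpen_inf_preimage {R : CommRingCat.{u}} {Z Z' : Scheme.{u}} (fZ : Z ⟶ Spec R)
    [IsSeparated fZ] (π : Z' ⟶ Z) (O : Z'.Opens) (hO : IsAffineOpen O) (V : Z.Opens)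
    (hV : IsAffineOpen V) : IsAffineOpen (O ⊓ π ⁻¹ᵁ V) := by
  haveI : IsAffine (O : Scheme.{u}) := hO
  haveI h1 : IsAffineHom ((O.ι ≫ π) ≫ fZ) := inferInstance
  haveI h2 : IsAffineHom (O.ι ≫ π) := IsAffineHom.of_comp (O.ι ≫ π) fZ
  have h3 : IsAffineOpen ((O.ι ≫ π) ⁻¹ᵁ V) := hV.preimage (O.ι ≫ π)
  have h4 := h3.image_of_isOpenImmersion O.ι
  have h5 : O.ι ''ᵁ ((O.ι ≫ π) ⁻¹ᵁ V) = O ⊓ π ⁻¹ᵁ V := by
    ext x
    constructor
    · rintro ⟨y, hy, rfl⟩
      exact ⟨y.2, hy⟩
    · rintro ⟨hx1, hx2⟩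
      exact ⟨⟨x, hx1⟩, hx2, rfl⟩
  rwa [h5] at h4

section Cover
variable (n : ℕ) (R : Type u) [CommRing R] {Z' : Scheme.{u}} (j : Z' ⟶ CohB1.ProjSpace n R)
  [IsAffineHom j]

/-- the standard affine cover pulled back along an affine morphism to projective space -/
noncomputable def Ua : PnC1.II.{u} n → Z'.Opens := fun i => j ⁻¹ᵁ (PnC6.US n R i)

theorem iSup_Ua : ⨆ i, Ua n R j i = ⊤ := by
  rw [eq_top_iff]
  intro x _
  have h : j x ∈ (⨆ i, PnC6.US n R i : (CohB1.ProjSpace n R).Opens) := by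
    rw [PnC6.iSup_US]; trivial
  rw [Opens.mem_iSup] at h ⊢
  obtain ⟨i, hi⟩ := h
  exact ⟨i, hi⟩

theorem isAffineOpen_W_Ua (p : ℕ) (a : Fin (p + 1) → PnC1.II.{u} n) :
    IsAffineOpen (TCx.W (Ua n R j) a) := by
  classical
  have h1 : (iInf fun k => PnC6.US n R (a k)) =
      ⨅ i ∈ (Finset.univ.image a : Finset (PnC1.II.{u} n)), PnC6.US n R i := by
    apply le_antisymm
    · refine le_iInf fun i => le_iInf fun hi => ?_
      obtain ⟨k, -, rfl⟩ := Finset.mem_image.1 hi
      exact iInf_le _ k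
    · refine le_iInf fun k => ?_
      exact (iInf_le _ (a k)).trans (iInf_le _ (Finset.mem_image_of_mem a (Finset.mem_univ k)))
  have h2 : IsAffineOpen (X := CohB1.ProjSpace n R) (iInf fun k => PnC6.US n R (a k)) := by
    rw [h1]
    exact PnC6.isAffineOpen_iInf_US n R _ ⟨a 0, Finset.mem_image_of_mem a (Finset.mem_univ 0)⟩
  have h3 : TCx.W (Ua n R j) a = j ⁻¹ᵁ (iInf fun k => PnC6.US n R (a k)) := by
    rw [TCx.W_eq_iInf]
    ext x
    change (x ∈ ((⨅ k, Ua n R j (a k) : Z'.Opens) : Set Z')) ↔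
      (j x ∈ ((⨅ k, PnC6.US n R (a k) : (CohB1.ProjSpace n R).Opens) : Set (CohB1.ProjSpace n R)))
    rw [Opens.coe_iInf, Opens.coe_iInf]
    simp only [Set.mem_iInter]
    rfl
  rw [h3]
  exact h2.preimage j

end Cover

end Groth.Agent.Lib.Helper4.ChowCov1
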