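import Mathlib
import Groth.Agent.S0012
import Groth.Agent.S0022
import Groth.Agent.Lib.Helper1.PushQc
import Groth.Agent.Lib.Helper1.FinPush

/-!
# Closed subschemes of projective space: cohomology via pushforward (helper4)
-/

set_option backward.isDefEq.respectTransparency.types false
set_option synthInstance.maxHeartbeats 400000
set_option autoImplicit false
set_option linter.unusedSectionVars false
set_option linter.style.haveILetI false
set_option linter.unusedSimpArgs false
universe u v w
open CategoryTheory CategoryTheory.Limits AlgebraicGeometry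
open TopologicalSpace Opposite

namespace Groth.Agent.Lib.Helper4.ClBridge1

/-- closed subschemes of `P^n_R`: cohomology of quasi-coherent modules vanishes above `n`. -/
theorem subsingleton_HH_of_closed (n : ℕ) (R : Type u) [CommRing R] {X : Scheme.{u}}
    (i : X ⟶ CohB1.ProjSpace n R) [IsClosedImmersion i] (F : X.Modules) [Coh.IsQCoh F]
    (q : ℕ) (hq : n < q) : Subsingleton (Coh.HH X F q) := by
  obtain ⟨e⟩ := Groth.Agent.S0012.result i F q
  haveI : Coh.IsQCoh ((Coh.push i).obj F) :=
    Groth.Agent.Helper1.PushQc.isQuasicoherent_pushforward (f := i) (F := F)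
  haveI := Groth.Agent.S0022.result n R ((Coh.push i).obj F) q hq
  exact e.toEquiv.subsingleton

theorem s14741 (R : Type u) [CommRing R]
    (m : ℕ) (hm : 1 ≤ m) (X : Scheme.{u}) (ι : X ⟶ CohB1.ProjSpace (m - 1) R) [IsClosedImmersion ι]
    (F : X.Modules) (hF : CohB1.IsFP F) (q : ℕ) (hq : m < q) :
    Subsingleton (Coh.HH X F q) := by
  haveI : SheafOfModules.IsFinitePresentation (R := X.ringCatSheaf) F := hF
  haveI : Coh.IsQCoh F := inferInstance
  exact subsingleton_HH_of_closed (m - 1) R ι F q (by omega)

end Groth.Agent.Lib.Helper4.ClBridge1
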