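import Mathlib
import Groth.Prelude.Def_KoszTw
import Groth.Agent.Lib.Helper1.TensGenL
import Groth.Agent.Lib.Helper1.RT14
import Groth.Agent.Lib.Helper1.SubExt8
import Groth.Agent.Lib.Helper5.Perf.LocLift

/-!
# Tensoring with a locally free rank one module is exact (helper4)
-/

set_option backward.isDefEq.respectTransparency.types false
set_option synthInstance.maxHeartbeats 400000
set_option autoImplicit false
set_option linter.unusedSectionVars false
set_option linter.style.haveILetI false
set_option linter.unusedSimpArgs false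
universe u v w
open CategoryTheory CategoryTheory.Limits AlgebraicGeometry TopologicalSpace Opposite
open Groth.Agent.Helper1 Groth.Agent.Helper1.QcCech Groth.Agent.Helper1.TmulLib
open Groth.Agent.Helper1.LGen Groth.Agent.Helper1.TensGen

namespace Groth.Agent.Lib.Helper4.TwExact

variable {X : Scheme.{u}} (L : X.Modules)

/-- `L` has local free generators -/
def LocGen : Prop := ∀ x : X, ∃ (W : X.Opens) (a : Γ(L, W)), x ∈ W ∧ IsGen L W a

theorem locGen_of_isInvertible (hL : PicF.IsInvertible L) : LocGen L :=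
  fun x => exists_isGen hL x

/-- the twisting functor `- ⊗ L` -/
noncomputable abbrev TL : X.Modules ⥤ X.Modules := DCoh.tensorRightMod L

theorem TL_map_tm {M M' : X.Modules} (φ : M ⟶ M') (W : X.Opens) (m : Γ(M, W)) (σ : Γ(L, W)) :
    ((TL L).map φ).app W (tm M L W m σ) = tm M' L W (φ.app W m) σ := by
  have h1 : (TL L).map φ = KoszTw.tensorMap φ (𝟙 L) := KoszTw.tensorRightMod_map φ L
  have h2 := KoszTw.tensorMap_tmul φ (𝟙 L) W m σ
  rw [h1]
  exact h2

variable {L}

/-- a generator on a neighbourhood inside a given open -/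
theorem exists_gen_le (hL : LocGen L) (U : X.Opens) (x : X) (hx : x ∈ U) :
    ∃ (W : X.Opens) (hW : W ≤ U) (a : Γ(L, W)), x ∈ W ∧ IsGen L W a := by
  obtain ⟨W, a, hxW, ha⟩ := hL x
  exact ⟨W ⊓ U, inf_le_right, res L inf_le_left a, ⟨hxW, hx⟩, ha.res inf_le_left⟩

theorem mono_map (hL : LocGen L) {M M' : X.Modules} (φ : M ⟶ M') [Mono φ] : Mono ((TL L).map φ) := by
  apply SubSh.mono_of_app_injective
  intro O
  rw [injective_iff_map_eq_zero]
  intro s hs
  apply TwistSec.eq_of_locally
  intro x hx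
  obtain ⟨W, hW, a, hxW, ha⟩ := exists_gen_le hL O x hx
  refine ⟨W, hW, hxW, ?_⟩
  obtain ⟨m, hm⟩ := (bijective_tm_of_isGen M ha).2 (res ((TL L).obj M) hW s)
  have hm' : tm M L W m a = res ((TL L).obj M) hW s := hm
  have h1 : ((TL L).map φ).app W (res ((TL L).obj M) hW s) = 0 := by
    rw [QcExt.app_res, hs, map_zero]
  rw [← hm', TL_map_tm] at h1
  have h2 : φ.app W m = 0 := by
    apply (bijective_tm_of_isGen M' ha).1
    change tm M' L W (φ.app W m) a = tm M' L W 0 a
    exact h1.trans (tm_zero_left M' L W a).symm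
  have h3 : m = 0 := by
    apply FtLocal.app_injective_of_mono φ W
    rw [h2, map_zero]
  have h4 : res ((TL L).obj M) hW s = 0 := by
    rw [← hm', h3]
    exact tm_zero_left M L W a
  exact h4.trans (map_zero (res ((TL L).obj M) hW)).symm


theorem epi_map (hL : LocGen L) {M M' : X.Modules} (φ : M ⟶ M') [Epi φ] : Epi ((TL L).map φ) := by
  apply SerreCrit.epi_of_locally_surjective
  intro U t x hx
  obtain ⟨W, hW, a, hxW, ha⟩ := exists_gen_le hL U x hx
  obtain ⟨m', hm'⟩ := (bijective_tm_of_isGen M' ha).2 (res ((TL L).obj M') hW t)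
  have hm'' : tm M' L W m' a = res ((TL L).obj M') hW t := hm'
  obtain ⟨V, hVW, m, hxV, hm⟩ := Groth.Agent.Lib.Helper5.LocLift.exists_local_lift φ W m' x hxW
  have hm2 : φ.app V m = res M' hVW m' := hm
  refine ⟨V, hVW.trans hW, hxV, tm M L V m (res L hVW a), ?_⟩
  rw [TL_map_tm, hm2, ← res_tm, hm'']
  exact res_res _ _ _ _

theorem exact_map (hL : LocGen L) {S : ShortComplex X.Modules} (hS : S.ShortExact) :
    (S.map (TL L)).Exact := by
  apply RT14.exact_of_locally
  intro U s hs x hx
  obtain ⟨W, hW, a, hxW, ha⟩ := exists_gen_le hL U x hx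
  refine ⟨W, hW, hxW, ?_⟩
  obtain ⟨e, he⟩ := (bijective_tm_of_isGen S.X₂ ha).2 (res ((TL L).obj S.X₂) hW s)
  have he' : tm S.X₂ L W e a = res ((TL L).obj S.X₂) hW s := he
  have h1 : ((TL L).map S.g).app W (res ((TL L).obj S.X₂) hW s) = 0 := by
    have hs' : ((TL L).map S.g).app U s = 0 := hs
    rw [QcExt.app_res, hs', map_zero]
  rw [← he', TL_map_tm] at h1
  have h2 : S.g.app W e = 0 := by
    apply (bijective_tm_of_isGen S.X₃ ha).1
    change tm S.X₃ L W (S.g.app W e) a = tm S.X₃ L W 0 a
    exact h1.trans (tm_zero_left S.X₃ L W a).symm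
  obtain ⟨k, hk⟩ := QcExt.app_exact hS W e h2
  refine ⟨tm S.X₁ L W k a, ?_⟩
  change ((TL L).map S.f).app W (tm S.X₁ L W k a) = _
  rw [TL_map_tm, hk]
  exact he'

theorem shortExact_map (hL : LocGen L) {S : ShortComplex X.Modules} (hS : S.ShortExact) :
    (S.map (TL L)).ShortExact := by
  have := hS.mono_f
  have := hS.epi_g
  have h1 : Mono (S.map (TL L)).f := mono_map hL S.f
  have h2 : Epi (S.map (TL L)).g := epi_map hL S.g
  exact { exact := exact_map hL hS }

end Groth.Agent.Lib.Helper4.TwExact
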