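import Mathlib
import Groth.Agent.Lib.Helper4.SerreFin
import Groth.Agent.Lib.Helper4.TwExact
import Groth.Agent.Lib.Lead.TilT5

/-!
# Serre vanishing on projective space over a Noetherian ring (helper4)
-/

set_option backward.isDefEq.respectTransparency.types false
set_option synthInstance.maxHeartbeats 400000
set_option autoImplicit false
set_option linter.unusedSectionVars false
set_option linter.style.haveILetI false
set_option linter.unusedSimpArgs false
universe u v w
open CategoryTheory CategoryTheory.Limits AlgebraicGeometry TopologicalSpace Opposite MvPolynomial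
open Groth.Agent.Helper1
open Groth.Agent.Lib.Helper4

namespace Groth.Agent.Lib.Helper4.SerreVan

section General
variable (A : Type u) [CommRing A] {X : Scheme.{u}} [X.Over (Spec (CommRingCat.of A))]
include A

theorem subsingleton_of_iso {F G : X.Modules} (e : F ≅ G) (i : ℕ)
    (h : Subsingleton (Coh.HH X F i)) : Subsingleton (Coh.HH X G i) :=
  (HHFin1.HHequiv A e i).symm.toEquiv.subsingleton

/-- vanishing of cohomology of an additive functor applied to a finite coproduct -/
theorem subsingleton_sigma (T : X.Modules ⥤ X.Modules) [T.Additive] {k : ℕ} (B : Fin k → X.Modules)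
    (i : ℕ) (h : ∀ j, Subsingleton (Coh.HH X (T.obj (B j)) i)) :
    Subsingleton (Coh.HH X (T.obj (∐ B)) i) := by
  refine subsingleton_of_forall_eq 0 fun x => ?_
  have h1 : ∀ j, Canon.HHlin A (T.map (FinSigma.q B j)) i x = 0 := fun j =>
    Subsingleton.elim (h := h j) _ _
  have e1 : T.map (𝟙 (∐ B)) = ∑ j, T.map (FinSigma.q B j) ≫ T.map (Sigma.ι B j) := by
    rw [← FinSigma.sum_q_ι, Functor.map_sum]
    refine Finset.sum_congr rfl fun j _ => ?_
    rw [Functor.map_comp]
  have h2 := HHFin1.HHlin_sum A Finset.univ (fun j => T.map (FinSigma.q B j) ≫ T.map (Sigma.ι B j)) i x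
  rw [← e1, CategoryTheory.Functor.map_id, HHFin1.HHlin_id] at h2
  rw [h2]
  apply Finset.sum_eq_zero
  intro j _
  rw [HHFin1.HHlin_comp, h1 j, map_zero]

/-- vanishing of the cohomology of the quotient in a short exact sequence -/
theorem subsingleton_X₃ {S : ShortComplex X.Modules} (hS : S.ShortExact) (i : ℕ)
    (h2 : Subsingleton (Coh.HH X S.X₂ i)) (h1 : Subsingleton (Coh.HH X S.X₁ (i + 1))) :
    Subsingleton (Coh.HH X S.X₃ i) := by
  refine subsingleton_of_forall_eq 0 fun x => ?_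
  obtain ⟨y, hy⟩ := HHFin2.exact_g_delta A hS i x (Subsingleton.elim (h := h1) _ _)
  rw [← hy, Subsingleton.elim (h := h2) y 0, map_zero]

end General


section Pn
variable (n : ℕ) (R : Type u) [CommRing R]

theorem locGen_twist (m : ℤ) : TwExact.LocGen (Twist.twistProjSpace n R m) :=
  TwExact.locGen_of_isInvertible _
    ((TwistTens.twist_package (CohB1.polyGrading n R) (SerreFin.hcov1 n R)).1 m)

/-- the twisting functor `F ↦ F(m)` -/
noncomputable abbrev Tw (m : ℤ) : (CohB1.ProjSpace n R).Modules ⥤ (CohB1.ProjSpace n R).Modules :=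
  DCoh.tensorRightMod (Twist.twistProjSpace n R m)

theorem Tw_obj (m : ℤ) (F : (CohB1.ProjSpace n R).Modules) :
    (Tw n R m).obj F = Twist.twistBy (CohB1.polyGrading n R) F m := rfl

theorem isCoh_Tw (m : ℤ) (F : (CohB1.ProjSpace n R).Modules) (hF : Coh.IsCoh F) :
    Coh.IsCoh ((Tw n R m).obj F) := by
  haveI : F.IsQuasicoherent := hF.1
  haveI : (Twist.twistProjSpace n R m).IsQuasicoherent := (SerreFin.isCoh_twist n R m).1
  exact ⟨Groth.Agent.Lead.TilT.isQuasicoherent_tensorMod F (Twist.twistProjSpace n R m),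
    Groth.Agent.Lead.TilT.isFT_tensorMod F (Twist.twistProjSpace n R m) hF.2
      (SerreFin.isCoh_twist n R m).2⟩

/-- vanishing for twists of `O(-N)` -/
theorem subsingleton_Tw_twist (N : ℕ) (m : ℤ) (hm : (N : ℤ) ≤ m) (i : ℕ) (hi : 0 < i) :
    Subsingleton (Coh.HH (CohB1.ProjSpace n R)
      ((Tw n R m).obj (Twist.twistProjSpace n R (-(N : ℤ)))) i) := by
  obtain ⟨e⟩ := (TwistTens.twist_package (CohB1.polyGrading n R) (SerreFin.hcov1 n R)).2.1 (-(N : ℤ)) m
  have h := Groth.Agent.S0844.result R n (-(N : ℤ) + m) i (fun h => by omega) (fun h => by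
    have : (0 : ℤ) ≤ n := by positivity
    omega)
  exact subsingleton_of_iso R (X := CohB1.ProjSpace n R) e.symm i h

theorem serre_aux [IsNoetherianRing R] (j : ℕ) : ∀ (i : ℕ), 0 < i → n + 1 ≤ i + j →
    ∀ (F : (CohB1.ProjSpace n R).Modules), Coh.IsCoh F →
      ∃ m₀ : ℤ, ∀ m : ℤ, m₀ ≤ m → Subsingleton (Coh.HH (CohB1.ProjSpace n R) ((Tw n R m).obj F) i) := by
  induction j with
  | zero =>
    intro i hi hij F hF
    refine ⟨0, fun m _ => ?_⟩
    haveI : Coh.IsQCoh ((Tw n R m).obj F) := (isCoh_Tw n R m F hF).1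
    exact Groth.Agent.S0022.result n R _ i (by omega)
  | succ j ih =>
    intro i hi hij F hF
    obtain ⟨n₀, h⟩ := Groth.Agent.S4402.result (CohB1.polyGrading n R) (SerreFin.sX n R)
      (SerreFin.sX_mem n R) (SerreFin.irrelevant_eq n R) F hF.1 hF.2
    obtain ⟨k, p, hp⟩ := h n₀ le_rfl
    have hB : ∀ _ : Fin k, Coh.IsCoh (Twist.twistProjSpace n R (-(n₀ : ℤ))) :=
      fun _ => SerreFin.isCoh_twist n R _
    haveI : ∀ i : Fin k, ((fun _ : Fin k => Twist.twistProjSpace n R (-(n₀ : ℤ))) i).IsQuasicoherent :=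
      fun i => (hB i).1
    have hE : Coh.IsCoh (∐ fun _ : Fin k => Twist.twistProjSpace n R (-(n₀ : ℤ))) :=
      ⟨FinSigma.isQuasicoherent_sigma _, VT.isFT_sigma _ (fun i => (hB i).2)⟩
    have hK : Coh.IsCoh (kernel p) := FtLocal.isCoh_kernel hE hF p
    have hSE := SerreFin.kerSeq_shortExact p
    obtain ⟨m₁, hm₁⟩ := ih (i + 1) (Nat.succ_pos i) (by omega) (kernel p) hK
    refine ⟨max (n₀ : ℤ) m₁, fun m hm => ?_⟩
    have hSE' := TwExact.shortExact_map (locGen_twist n R m) hSE
    have h2 : Subsingleton (Coh.HH (CohB1.ProjSpace n R)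
        ((Tw n R m).obj (∐ fun _ : Fin k => Twist.twistProjSpace n R (-(n₀ : ℤ)))) i) :=
      subsingleton_sigma R (X := CohB1.ProjSpace n R) (Tw n R m) _ i
        (fun _ => subsingleton_Tw_twist n R n₀ m (le_trans (le_max_left _ _) hm) i hi)
    have h1 := hm₁ m (le_trans (le_max_right _ _) hm)
    exact subsingleton_X₃ R (X := CohB1.ProjSpace n R) hSE' i h2 h1

/-- Serre vanishing on projective space over a Noetherian ring -/
theorem serre_vanishing [IsNoetherianRing R] (F : (CohB1.ProjSpace n R).Modules) (hF : Coh.IsCoh F) :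
    ∃ m₀ : ℤ, ∀ m : ℤ, m₀ ≤ m → ∀ i : ℕ, 0 < i →
      Subsingleton (Coh.HH (CohB1.ProjSpace n R) (Twist.twistBy (CohB1.polyGrading n R) F m) i) := by
  have h : ∀ i : ℕ, ∃ m₀ : ℤ, ∀ m : ℤ, m₀ ≤ m → 0 < i →
      Subsingleton (Coh.HH (CohB1.ProjSpace n R) ((Tw n R m).obj F) i) := by
    intro i
    by_cases hi : 0 < i
    · obtain ⟨m₀, hm₀⟩ := serre_aux n R (n + 1) i hi (by omega) F hF
      exact ⟨m₀, fun m hm _ => hm₀ m hm⟩
    · exact ⟨0, fun m _ hi' => absurd hi' hi⟩
  choose m₀ hm₀ using h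
  refine ⟨(Finset.range (n + 1)).sup' ⟨0, Finset.mem_range.2 (Nat.succ_pos n)⟩ m₀, fun m hm i hi => ?_⟩
  by_cases hin : i ≤ n
  · exact hm₀ i m (le_trans (Finset.le_sup' m₀ (Finset.mem_range.2 (Nat.lt_succ_of_le hin))) hm) hi
  · exact @Groth.Agent.S0022.result n R _ (Twist.twistBy (CohB1.polyGrading n R) F m)
      (isCoh_Tw n R m F hF).1 i (by omega)

end Pn

end Groth.Agent.Lib.Helper4.SerreVan
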