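import Mathlib
import Groth.Agent.Lib.Helper4.ClBridge1
import Groth.Agent.Lib.Helper4.SerreVan
import Groth.Agent.Lib.Helper1.VT13
import Groth.Agent.Lib.Helper1.PullGen
import Groth.Agent.Lib.Helper1.PullGen2
import Groth.Agent.Lib.Helper1.TildeTens
import Groth.Agent.Lib.Helper1.InvQc

/-!
# Projection formula for invertible modules; Serre vanishing on closed subschemes of projective space (helper4)
-/

set_option backward.isDefEq.respectTransparency.types false
set_option synthInstance.maxHeartbeats 400000
set_option autoImplicit false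
set_option linter.unusedSectionVars false
set_option linter.style.haveILetI false
set_option linter.unusedSimpArgs false
universe u v w
open CategoryTheory CategoryTheory.Limits AlgebraicGeometry
open TopologicalSpace Opposite
open Groth.Agent.Helper1 Groth.Agent.Helper1.TensLib Groth.Agent.Helper1.TmulLib
open Groth.Agent.Helper1.LGen Groth.Agent.Helper1.QcCech
open Groth.Agent.Lib.Helper4

namespace Groth.Agent.Lib.Helper4.ClBridge2

variable {X Y : Scheme.{u}}

/-- flip a pairing -/
def Pairing.flip {M N L : X.Modules} (p : Pairing M N L) : Pairing N M L where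
  β U n m := p.β U m n
  add_left U m₁ m₂ n := p.add_right U n m₁ m₂
  smul_left U a m n := p.smul_right U a n m
  add_right U m n₁ n₂ := p.add_left U n₁ n₂ m
  smul_right U a m n := p.smul_left U a n m
  nat f m n := p.nat f n m

section PF
variable (q : X ⟶ Y) (F : X.Modules) (L : Y.Modules)

/-- the unit `L ⟶ q_* q^* L` -/
noncomputable def uL : L ⟶ (Scheme.Modules.pushforward q).obj ((Scheme.Modules.pullback q).obj L) :=
  (Scheme.Modules.pullbackPushforwardAdjunction q).unit.app L

/-- the projection-formula pairing `L × q_*F → q_*(F ⊗ q^*L)` -/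
noncomputable def projPairing : Pairing L ((Scheme.Modules.pushforward q).obj F)
    ((Scheme.Modules.pushforward q).obj (CohB1.tensorMod F ((Scheme.Modules.pullback q).obj L))) :=
  Pairing.flip (VT.pushPairing q (𝟙 ((Scheme.Modules.pushforward q).obj F)) (uL q L))

theorem nonempty_projFormula' (hL : PicF.IsInvertible L) :
    Nonempty (CohB1.tensorMod L ((Scheme.Modules.pushforward q).obj F) ≅
      (Scheme.Modules.pushforward q).obj (CohB1.tensorMod F ((Scheme.Modules.pullback q).obj L))) := by
  refine Pairing.nonempty_tensorMod_iso (projPairing q F L)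
    (fun V => ∃ a : Γ(L, V), IsGen L V a) ?_ ?_ ?_
  · intro x
    obtain ⟨W, a, hx, ha⟩ := exists_isGen hL x
    exact ⟨W, ⟨a, ha⟩, hx⟩
  · rintro V V' ⟨a, ha⟩ h
    exact ⟨res L h a, ha.res h⟩
  · rintro V ⟨a, ha⟩
    refine ⟨a, TensGen.IsGen.bijective_self ha, ?_⟩
    have hg : IsGen ((Scheme.Modules.pullback q).obj L) (q ⁻¹ᵁ V) (PullSec.σ q L V a) :=
      PullGen.isGen_σ q ha
    exact TensGen.bijective_tm_of_isGen F hg

/-- **projection formula** for an invertible module -/
theorem nonempty_projFormula (hL : PicF.IsInvertible L) :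
    Nonempty (CohB1.tensorMod ((Scheme.Modules.pushforward q).obj F) L ≅
      (Scheme.Modules.pushforward q).obj (CohB1.tensorMod F ((Scheme.Modules.pullback q).obj L))) := by
  obtain ⟨e⟩ := nonempty_projFormula' q F L hL
  exact ⟨TildeTens.tensorModComm _ _ ≪≫ e⟩

end PF

/-- transfer of vanishing along an isomorphism of modules (no base ring needed) -/
theorem subsingleton_HH_of_iso {F G : X.Modules} (e : F ≅ G) (i : ℕ)
    (h : Subsingleton (Coh.HH X F i)) : Subsingleton (Coh.HH X G i) := by
  let T := SheafOfModules.toSheaf X.ringCatSheaf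
  refine subsingleton_of_forall_eq 0 fun x => ?_
  have h1 : Sheaf.H.map (T.map e.hom) i (Sheaf.H.map (T.map e.inv) i x) = x := by
    have e1 : T.map e.inv ≫ T.map e.hom = 𝟙 _ :=
      (Functor.map_comp _ _ _).symm.trans ((congrArg (fun f => T.map f) e.inv_hom_id).trans
        (CategoryTheory.Functor.map_id _ _))
    exact (Sheaf.H.map_comp_apply _ _ _).symm.trans
      ((congrArg (fun f => Sheaf.H.map f i x) e1).trans (Sheaf.H.map_id_apply _))
  have h2 : Sheaf.H.map (T.map e.inv) i x = (0 : Coh.HH X F i) := Subsingleton.elim _ _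
  rw [← h1, h2, map_zero]

section Closed
variable (n : ℕ) (R : Type u) [CommRing R] (i : X ⟶ CohB1.ProjSpace n R) [IsClosedImmersion i]

theorem isInvertible_twist (d : ℤ) : PicF.IsInvertible (Twist.twistProjSpace n R d) :=
  (TwistTens.twist_package (CohB1.polyGrading n R) (SerreFin.hcov1 n R)).1 d

/-- `F(d) = F ⊗ i^*O(d)` on a scheme over projective space -/
noncomputable abbrev twOn (F : X.Modules) (d : ℤ) : X.Modules :=
  CohB1.tensorMod F ((Scheme.Modules.pullback i).obj (Twist.twistProjSpace n R d))

theorem isQCoh_twOn (F : X.Modules) [Coh.IsQCoh F] (d : ℤ) : Coh.IsQCoh (twOn n R i F d) := by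
  haveI : ((Scheme.Modules.pullback i).obj (Twist.twistProjSpace n R d)).IsQuasicoherent :=
    InvQc.isQuasicoherent_of_isInvertible _ (PullGen.isInvertible_pullback i (isInvertible_twist n R d))
  exact Groth.Agent.Lead.TilT.isQuasicoherent_tensorMod F _

/-- the bridge: `H^j(X, F(d))` vanishes iff `H^j(P, (i_*F)(d))` does -/
theorem subsingleton_twOn_iff (F : X.Modules) [Coh.IsQCoh F] (d : ℤ) (j : ℕ) :
    Subsingleton (Coh.HH X (twOn n R i F d) j) ↔
      Subsingleton (Coh.HH (CohB1.ProjSpace n R)
        (CohB1.tensorMod ((Scheme.Modules.pushforward i).obj F) (Twist.twistProjSpace n R d)) j) := by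
  haveI := isQCoh_twOn n R i F d
  obtain ⟨e⟩ := Groth.Agent.S0012.result i (twOn n R i F d) j
  obtain ⟨φ⟩ := nonempty_projFormula i F (Twist.twistProjSpace n R d) (isInvertible_twist n R d)
  constructor
  · intro h
    haveI := h
    have h1 : Subsingleton (Coh.HH (CohB1.ProjSpace n R) ((Coh.push i).obj (twOn n R i F d)) j) :=
      e.symm.toEquiv.subsingleton
    exact subsingleton_HH_of_iso φ.symm j h1
  · intro h
    have h1 : Subsingleton (Coh.HH (CohB1.ProjSpace n R) ((Coh.push i).obj (twOn n R i F d)) j) :=
      subsingleton_HH_of_iso φ j h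
    exact e.toEquiv.subsingleton

/-- Serre vanishing on a closed subscheme of projective space over a Noetherian ring -/
theorem serre_vanishing_closed [IsNoetherianRing R] (F : X.Modules) (hF : Coh.IsCoh F) :
    ∃ N : ℤ, ∀ d : ℤ, N ≤ d → ∀ j : ℕ, 0 < j → Subsingleton (Coh.HH X (twOn n R i F d) j) := by
  haveI : Coh.IsQCoh F := hF.1
  have hc : Coh.IsCoh ((Scheme.Modules.pushforward i).obj F) := FinPush.isCoh_pushforward i F hF
  obtain ⟨N, hN⟩ := SerreVan.serre_vanishing n R _ hc
  refine ⟨N, fun d hd j hj => ?_⟩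
  rw [subsingleton_twOn_iff]
  exact hN d hd j hj

end Closed

end Groth.Agent.Lib.Helper4.ClBridge2
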