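import Mathlib
import Groth.Prelude.Def_CohB1
import Groth.Agent.S0463
import Groth.Agent.Lib.Helper1.CohUtil

/-!
# Cohomology over an open versus cohomology of the restricted module (helper4)
-/

set_option backward.isDefEq.respectTransparency.types false
set_option synthInstance.maxHeartbeats 400000
set_option autoImplicit false
set_option linter.unusedSectionVars false
set_option linter.style.haveILetI false
set_option linter.unusedSimpArgs false
universe u v w
open CategoryTheory CategoryTheory.Limits AlgebraicGeometry TopologicalSpace Opposite

namespace Groth.Agent.Lib.Helper4.HUon1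

variable {X : Scheme.{u}} (M : X.Modules) (O : X.Opens)

noncomputable def restrIso : CohTop.restr (Coh.toAb M) O ≅ Coh.toAb (M.restrict O.ι) := Iso.refl _

theorem nonempty_HU_equiv_HHon (n : ℕ) :
    Nonempty (CohTop.HU (Coh.toAb M) n O ≃+ Coh.HHon X M O n) := by
  obtain ⟨e⟩ := Groth.Agent.S0463.result (X := X.toTopCat) (Coh.toAb M) O n
  exact ⟨e⟩

end Groth.Agent.Lib.Helper4.HUon1
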