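import Mathlib
import Groth.Prelude.Def_CohB1
import Groth.Prelude.Def_Twist2
import Groth.Agent.Lib.Helper1.HProjLoc
import Groth.Agent.Lib.Helper1.TwBC

/-!
# Twisting sheaves on projective space commute with base change of coefficients (helper4)
-/

set_option backward.isDefEq.respectTransparency.types false
set_option synthInstance.maxHeartbeats 400000
set_option autoImplicit false
set_option linter.unusedSectionVars false
set_option linter.style.haveILetI false
set_option linter.unusedSimpArgs false
universe u v w
open CategoryTheory CategoryTheory.Limits AlgebraicGeometry TopologicalSpace Opposite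

namespace Groth.Agent.Lib.Helper4.TwistBC1
open Groth.Agent.Helper1

attribute [local instance] MvPolynomial.algebraMvPolynomial in
/-- the twisting sheaves on projective space commute with base change of the coefficient ring -/
theorem twist_bc (n : ℕ) {R R' : Type u} [CommRing R] [CommRing R'] (ρ : R →+* R') (d : ℤ) :
    Nonempty ((Scheme.Modules.pullback (Proj.map (HProjLoc.polyMap n ρ) (HProjLoc.hirr_polyMap n ρ))).obj
      (Twist.twistProjSpace n R d) ≅ Twist.twistProjSpace n R' d) := by
  letI : Algebra R R' := ρ.toAlgebra
  exact TwBC.twist_baseChange (R' := R) (R := R') (CohB1.polyGrading n R) (CohB1.polyGrading n R')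
    (HProjLoc.polyMap n ρ) (fun b => rfl) (HProjLoc.hirr_polyMap n ρ) d

end Groth.Agent.Lib.Helper4.TwistBC1
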