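import Mathlib
import Groth.Prelude.Def_CohB1
import Groth.Agent.Lib.Helper4.HUon1
import Groth.Agent.Lib.Helper4.ProjLift1
import Groth.Agent.Lib.Helper4.TwistBC1
import Groth.Agent.Lib.Helper4.ClBridge2
import Groth.Agent.Lib.Helper1.TwistAmpleOpen
import Groth.Agent.Lib.Helper1.Dv21

/-!
# Vanishing of higher cohomology of O(d) over preimages of affine opens of the base (helper4)
-/

set_option backward.isDefEq.respectTransparency.types false
set_option synthInstance.maxHeartbeats 400000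
set_option autoImplicit false
set_option linter.unusedSectionVars false
set_option linter.style.haveILetI false
set_option linter.unusedSimpArgs false
universe u v w
open CategoryTheory CategoryTheory.Limits AlgebraicGeometry TopologicalSpace Opposite

namespace Groth.Agent.Lib.Helper4.ChowVan1
open Groth.Agent.Helper1
open Groth.Agent.Lib.Helper4

variable {A : Type u} [CommRing A] {Z : Scheme.{u}} (fZ : Z ⟶ Spec (CommRingCat.of A))
  (V : Z.Opens) (n : ℕ) {Z' : Scheme.{u}} (π : Z' ⟶ Z) (j : Z' ⟶ CohB1.ProjSpace n A)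
  (hj : j ≫ CohB1.ProjSpace.toSpec n A = π ≫ fZ) (hV : IsAffineOpen V)

/-- the twisting sheaf on `Z'` -/
noncomputable abbrev Ld (d : ℤ) : Z'.Modules :=
  (Scheme.Modules.pullback j).obj (Twist.twistProjSpace n A d)

/-- the restriction of `j^*O(d)` to the preimage of an affine open is pulled back from `O(d)` on
projective space over the coordinate ring -/
theorem nonempty_restrict_iso (d : ℤ) :
    Nonempty ((Ld n j d).restrict (π ⁻¹ᵁ V).ι ≅
      (Scheme.Modules.pullback (ProjLift1.tB fZ V n π j hj hV)).obj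
        (Twist.twistProjSpace n Γ(Z, V) d)) := by
  obtain ⟨e⟩ := TwistBC1.twist_bc n (ProjLift1.rho fZ V) d
  exact ⟨(Scheme.Modules.restrictFunctorIsoPullback (π ⁻¹ᵁ V).ι).app _ ≪≫
    (Scheme.Modules.pullbackComp _ _).app _ ≪≫
    (Scheme.Modules.pullbackCongr (ProjLift1.tB_gB fZ V n π j hj hV).symm).app _ ≪≫
    ((Scheme.Modules.pullbackComp _ _).app _).symm ≪≫
    (Scheme.Modules.pullback (ProjLift1.tB fZ V n π j hj hV)).mapIso e⟩

include fZ hj hV in
/-- **vanishing over an affine open of the base**: for `π : Z' → Z` proper, `j : Z' → P^n_A` an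
immersion over `A` and `V ⊆ Z` affine with Noetherian coordinate ring, the higher cohomology of
`j^*O(d)` over `π⁻¹ V` vanishes for `d ≫ 0` -/
theorem exists_vanishing [IsProper π] [IsImmersion j] [IsNoetherianRing Γ(Z, V)] :
    ∃ N : ℤ, ∀ d : ℤ, N ≤ d → ∀ q : ℕ,
      Subsingleton (CohTop.HU (Coh.toAb (Ld n j d)) (q + 1) (π ⁻¹ᵁ V)) := by
  haveI := ProjLift1.isClosedImmersion_tB fZ V n π j hj hV
  obtain ⟨N, hN⟩ := ClBridge2.serre_vanishing_closed n Γ(Z, V) (ProjLift1.tB fZ V n π j hj hV)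
    (Coh.structureModule _) (Dv.isCoh_structureModule _)
  refine ⟨N, fun d hd q => ?_⟩
  have h1 := hN d hd (q + 1) (Nat.succ_pos q)
  obtain ⟨e0⟩ := TwistAmpleOpen.nonempty_tensorMod_unit_iso
    ((Scheme.Modules.pullback (ProjLift1.tB fZ V n π j hj hV)).obj (Twist.twistProjSpace n Γ(Z, V) d))
  obtain ⟨e1⟩ := nonempty_restrict_iso fZ V n π j hj hV d
  have h2 : Subsingleton (Coh.HHon Z' (Ld n j d) (π ⁻¹ᵁ V) (q + 1)) :=
    ClBridge2.subsingleton_HH_of_iso (e0 ≪≫ e1.symm) _ h1
  obtain ⟨e2⟩ := HUon1.nonempty_HU_equiv_HHon (Ld n j d) (π ⁻¹ᵁ V) (q + 1)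
  exact e2.toEquiv.subsingleton

end Groth.Agent.Lib.Helper4.ChowVan1
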