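import Mathlib
import Groth.Prelude.Def_CohB1
import Groth.Agent.Lib.Helper4.ChowVan1
import Groth.Agent.Lib.Helper4.ChowCov1

/-!
# Relative Serre vanishing in the Chow situation (helper4)
-/

set_option backward.isDefEq.respectTransparency.types false
set_option synthInstance.maxHeartbeats 400000
set_option autoImplicit false
set_option linter.unusedSectionVars false
set_option linter.style.haveILetI false
set_option linter.unusedSimpArgs false
universe u v w
open CategoryTheory CategoryTheory.Limits AlgebraicGeometry TopologicalSpace Opposite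

namespace Groth.Agent.Lib.Helper4.ChowVan2
open Groth.Agent.Helper1
open Groth.Agent.Lib.Helper4

variable {A : Type u} [CommRing A] {Z : Scheme.{u}} (fZ : Z ⟶ Spec (CommRingCat.of A))
  (n : ℕ) {Z' : Scheme.{u}} (π : Z' ⟶ Z) (j : Z' ⟶ CohB1.ProjSpace n A)
  (hj : j ≫ CohB1.ProjSpace.toSpec n A = π ≫ fZ)

include fZ hj in
/-- **relative Serre vanishing in the Chow situation**: `R^q π_* (j^* O(d)) = 0` for `q > 0`, `d ≫ 0` -/
theorem exists_isZero_Rpush [IsSeparated fZ] [CompactSpace Z] [IsLocallyNoetherian Z]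
    [IsProper π] [IsClosedImmersion j] :
    ∃ N : ℤ, ∀ d : ℤ, N ≤ d → ∀ q : ℕ,
      IsZero ((CohTop.Rpush π.base (q + 1)).obj (Coh.toAb (ChowVan1.Ld n j d))) := by
  classical
  -- a finite affine cover of `Z`
  have hcov : (Set.univ : Set Z) ⊆ ⋃ V : Z.affineOpens, ((V : Z.Opens) : Set Z) := by
    intro z _
    have h := (iSup_affineOpens_eq_top Z).ge (Set.mem_univ z)
    rw [Opens.mem_iSup] at h
    obtain ⟨V, hV⟩ := h
    exact Set.mem_iUnion.2 ⟨V, hV⟩
  obtain ⟨t, ht⟩ := isCompact_univ.elim_finite_subcover (fun V : Z.affineOpens => ((V : Z.Opens) : Set Z))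
    (fun V => V.1.2) hcov
  -- bounds
  have hex : ∀ V : Z.affineOpens, ∃ N : ℤ, ∀ d : ℤ, N ≤ d → ∀ q : ℕ,
      Subsingleton (CohTop.HU (Coh.toAb (ChowVan1.Ld n j d)) (q + 1) (π ⁻¹ᵁ V.1)) := by
    intro V
    haveI : IsNoetherianRing Γ(Z, V.1) := IsLocallyNoetherian.component_noetherian V
    exact ChowVan1.exists_vanishing fZ V.1 n π j hj V.2
  choose NV hNV using hex
  obtain ⟨N, hN⟩ := (t.image NV).exists_le
  refine ⟨N, fun d hd q => ?_⟩
  haveI : (ChowVan1.Ld n j d).IsQuasicoherent :=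
    InvQc.isQuasicoherent_of_isInvertible _
      (PullGen.isInvertible_pullback j (ClBridge2.isInvertible_twist n A d))
  refine RelVan1.isZero_Rpush π (ChowVan1.Ld n j d) (ChowCov1.Ua n A j) (ChowCov1.iSup_Ua n A j)
    (ChowCov1.isAffineOpen_W_Ua n A j)
    (fun O hO V hV => ChowCov1.isAffineOpen_inf_preimage fZ π O hO V hV)
    {V | ∃ V' ∈ t, V = V'.1} ?_ ?_ q ?_
  · rintro _ ⟨V', _, rfl⟩
    exact V'.2
  · intro z
    have := ht (Set.mem_univ z)
    simp only [Set.mem_iUnion] at this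
    obtain ⟨V', hV't, hz⟩ := this
    exact ⟨V'.1, ⟨V', hV't, rfl⟩, hz⟩
  · rintro _ ⟨V', hV't, rfl⟩
    exact hNV V' d ((hN _ (Finset.mem_image_of_mem NV hV't)).trans hd) q

end Groth.Agent.Lib.Helper4.ChowVan2
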