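import Mathlib
import Groth.Agent.Lib.Helper4.HHFin2

/-!
# Finiteness of cohomology: the sub in a short exact sequence, retracts, zero modules (helper4)
-/

set_option backward.isDefEq.respectTransparency.types false
set_option synthInstance.maxHeartbeats 400000
set_option autoImplicit false
set_option linter.unusedSectionVars false
set_option linter.style.haveILetI false
set_option linter.unusedSimpArgs false
universe u v w
open CategoryTheory CategoryTheory.Limits AlgebraicGeometry TopologicalSpace Opposite
open CategoryTheory.Abelian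
open Groth.Agent.Helper1
open Groth.Agent.Lib.Helper4

namespace Groth.Agent.Lib.Helper4.HHFin3

variable (A : Type u) [CommRing A] {X : Scheme.{u}} [X.Over (Spec (CommRingCat.of A))]

section SES
variable {S : ShortComplex X.Modules} (hS : S.ShortExact)

theorem exact_delta_f (k : ℕ) (x : Coh.HH X S.X₁ (k + 1)) (hx : Canon.HHlin A S.f (k + 1) x = 0) :
    ∃ y, HHFin2.deltaLin A hS k y = x :=
  Ext.covariant_sequence_exact₁.{u, u, u+1} _ (HHFin2.Sab_shortExact hS) x hx rfl

theorem f_delta (k : ℕ) (y : Coh.HH X S.X₃ k) :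
    Canon.HHlin A S.f (k + 1) (HHFin2.deltaLin A hS k y) = 0 := by
  change (y.comp (HHFin2.Sab_shortExact hS).extClass rfl).comp (Ext.mk₀ (HHFin2.Sab S).f) (add_zero _) = 0
  rw [Ext.comp_assoc_of_third_deg_zero, ShortComplex.ShortExact.extClass_comp, Ext.comp_zero]

include hS in
theorem HHlin_f_zero_injective : Function.Injective (Canon.HHlin A S.f 0) := by
  haveI : Mono (HHFin2.Sab S).f := (HHFin2.Sab_shortExact hS).mono_f
  exact Ext.postcomp_mk₀_injective_of_mono.{u, u, u+1} _ (HHFin2.Sab S).f

include hS in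
theorem finite_X₁_zero [IsNoetherianRing A] (h2 : Module.Finite A (Coh.HH X S.X₂ 0)) :
    Module.Finite A (Coh.HH X S.X₁ 0) := by
  have hN : IsNoetherian A (Coh.HH X S.X₂ 0) := isNoetherian_of_isNoetherianRing_of_finite A _
  exact Module.Finite.of_injective (Canon.HHlin A S.f 0) (HHlin_f_zero_injective A hS)

include hS in
theorem finite_X₁_succ [IsNoetherianRing A] (k : ℕ) (h2 : Module.Finite A (Coh.HH X S.X₂ (k + 1)))
    (h3 : Module.Finite A (Coh.HH X S.X₃ k)) :
    Module.Finite A (Coh.HH X S.X₁ (k + 1)) := by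
  have hN : IsNoetherian A (Coh.HH X S.X₂ (k + 1)) := isNoetherian_of_isNoetherianRing_of_finite A _
  have hker : LinearMap.ker (Canon.HHlin A S.f (k + 1)) = LinearMap.range (HHFin2.deltaLin A hS k) := by
    ext x
    constructor
    · intro hx
      exact exact_delta_f A hS k x hx
    · rintro ⟨y, rfl⟩
      exact f_delta A hS k y
  have hNr : IsNoetherian A (LinearMap.range (Canon.HHlin A S.f (k + 1))) :=
    @isNoetherian_submodule' A _ _ _ _ hN (LinearMap.range (Canon.HHlin A S.f (k + 1)))
  have hr : Module.Finite A (LinearMap.range (Canon.HHlin A S.f (k + 1))) :=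
    @Module.IsNoetherian.finite A _ _ _ _ hNr
  have hq : Module.Finite A (Coh.HH X S.X₁ (k + 1) ⧸ LinearMap.ker (Canon.HHlin A S.f (k + 1))) :=
    @Module.Finite.equiv A _ _ _ _ _ _ _ hr (LinearMap.quotKerEquivRange (Canon.HHlin A S.f (k + 1))).symm
  have hk : Module.Finite A (LinearMap.ker (Canon.HHlin A S.f (k + 1))) := by
    rw [hker]
    infer_instance
  exact Module.Finite.of_submodule_quotient (LinearMap.ker (Canon.HHlin A S.f (k + 1)))

include hS in
/-- finiteness of the cohomology of the sub -/
theorem finite_X₁ [IsNoetherianRing A] (i : ℕ) (h2 : Module.Finite A (Coh.HH X S.X₂ i))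
    (h3 : ∀ k, k + 1 = i → Module.Finite A (Coh.HH X S.X₃ k)) :
    Module.Finite A (Coh.HH X S.X₁ i) := by
  cases i with
  | zero => exact finite_X₁_zero A hS h2
  | succ k => exact finite_X₁_succ A hS k h2 (h3 k rfl)

end SES

/-- cohomology of a retract is finite -/
theorem finite_of_retract {M N : X.Modules} (i : N ⟶ M) (r : M ⟶ N) (h : i ≫ r = 𝟙 N) (k : ℕ)
    (hM : Module.Finite A (Coh.HH X M k)) : Module.Finite A (Coh.HH X N k) := by
  refine Module.Finite.of_surjective (Canon.HHlin A r k) fun x => ⟨Canon.HHlin A i k x, ?_⟩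
  rw [← HHFin1.HHlin_comp, h, HHFin1.HHlin_id]

/-- cohomology of a zero module is finite -/
theorem finite_of_isZero {M : X.Modules} (hM : IsZero M) (k : ℕ) :
    Module.Finite A (Coh.HH X M k) := by
  haveI : Subsingleton (Coh.HH X M k) := by
    refine subsingleton_of_forall_eq 0 fun x => ?_
    have h1 := HHFin1.HHlin_id A M k x
    have h2 : (𝟙 M) = 0 := hM.eq_of_src _ _
    rw [h2, HHFin1.HHlin_zero] at h1
    exact h1.symm
  infer_instance

end Groth.Agent.Lib.Helper4.HHFin3
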