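import Mathlib
import Groth.Prelude.Def_CohB1
import Groth.Agent.Lib.Helper1.LGen
import Groth.Agent.Lib.Helper1.TensGen

/-!
# Direct images of invertible modules have nonzero stalks over the isomorphism locus (helper4)
-/

set_option backward.isDefEq.respectTransparency.types false
set_option synthInstance.maxHeartbeats 400000
set_option autoImplicit false
set_option linter.unusedSectionVars false
set_option linter.style.haveILetI false
set_option linter.unusedSimpArgs false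
universe u v w
open CategoryTheory CategoryTheory.Limits AlgebraicGeometry TopologicalSpace Opposite

namespace Groth.Agent.Lib.Helper4.IsoLocus1
open Groth.Agent.Helper1 Groth.Agent.Helper1.QcCech Groth.Agent.Helper1.LGen

variable {Z Z' : Scheme.{u}} (π : Z' ⟶ Z) (U : Z.Opens)

theorem restrict_val (z0 : (π ⁻¹ᵁ U : Scheme.{u})) : ((π ∣_ U) z0).1 = π z0.1 := by
  have h := congrArg (fun f => f z0) (morphismRestrict_ι π U)
  exact h

variable [IsIso (π ∣_ U)]

theorem inv_restrict_val (u : (U : Scheme.{u})) : π ((inv (π ∣_ U)) u).1 = u.1 := by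
  rw [← restrict_val]
  have : (π ∣_ U) ((inv (π ∣_ U)) u) = u := by
    change (inv (π ∣_ U) ≫ (π ∣_ U)) u = u
    rw [IsIso.inv_hom_id]; rfl
  rw [this]

theorem inv_restrict_apply (z0 : (π ⁻¹ᵁ U : Scheme.{u})) : (inv (π ∣_ U)) ((π ∣_ U) z0) = z0 := by
  change ((π ∣_ U) ≫ inv (π ∣_ U)) z0 = z0
  rw [IsIso.hom_inv_id]; rfl

/-- opens inside the locus where `π` is an isomorphism are preimages of opens of the target -/
theorem exists_preimage_eq (O : Z'.Opens) (hO : O ≤ π ⁻¹ᵁ U) : ∃ V' : Z.Opens, π ⁻¹ᵁ V' = O := by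
  refine ⟨U.ι ''ᵁ ((inv (π ∣_ U)) ⁻¹ᵁ ((π ⁻¹ᵁ U).ι ⁻¹ᵁ O)), ?_⟩
  ext z
  constructor
  · rintro ⟨u, hu, huz⟩
    have hu' : ((inv (π ∣_ U)) u).1 ∈ O := hu
    have hzU : z ∈ π ⁻¹ᵁ U := by
      change π z ∈ U
      rw [← huz]; exact u.2
    have h1 : (π ∣_ U) ⟨z, hzU⟩ = u := by
      apply Subtype.ext
      rw [restrict_val]
      exact huz.symm
    rw [← h1, inv_restrict_apply] at hu'
    exact hu'
  · intro hz
    have hzU : z ∈ π ⁻¹ᵁ U := hO hz
    refine ⟨(π ∣_ U) ⟨z, hzU⟩, ?_, ?_⟩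
    · change ((inv (π ∣_ U)) ((π ∣_ U) ⟨z, hzU⟩)).1 ∈ O
      rw [inv_restrict_apply]
      exact hz
    · exact restrict_val π U ⟨z, hzU⟩

/-- the direct image of an invertible module has nonzero stalks over the locus where the morphism
is an isomorphism -/
theorem nontrivial_stalk_push (L : Z'.Modules) (hL : PicF.IsInvertible L) (η : Z) (hη : η ∈ U) :
    Nontrivial (((Scheme.Modules.pushforward π).obj L).presheaf.stalk η) := by
  let η0 : (π ⁻¹ᵁ U : Scheme.{u}) := (inv (π ∣_ U)) ⟨η, hη⟩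
  have hπη : π η0.1 = η := inv_restrict_val π U ⟨η, hη⟩
  obtain ⟨O, e, hO, he⟩ := exists_isGen hL η0.1
  have he₁ : IsGen L (O ⊓ π ⁻¹ᵁ U) (res L inf_le_left e) := he.res inf_le_left
  obtain ⟨V', hV'⟩ := exists_preimage_eq π U (O ⊓ π ⁻¹ᵁ U) inf_le_right
  by_contra hnt
  rw [not_nontrivial_iff_subsingleton] at hnt
  have hη0 : η0.1 ∈ O ⊓ π ⁻¹ᵁ U := ⟨hO, η0.2⟩
  have hηV' : η ∈ V' := by
    have : η0.1 ∈ π ⁻¹ᵁ V' := by rw [hV']; exact hη0
    rw [← hπη]; exact this
  let s : Γ((Scheme.Modules.pushforward π).obj L, V') := res L hV'.le (res L inf_le_left e)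
  have h1 : ((Scheme.Modules.pushforward π).obj L).presheaf.germ V' η hηV' s =
      ((Scheme.Modules.pushforward π).obj L).presheaf.germ V' η hηV' 0 := Subsingleton.elim _ _
  obtain ⟨W, hW, iU, iV, h2⟩ := TopCat.Presheaf.germ_eq
    ((Scheme.Modules.pushforward π).obj L).presheaf η hηV' hηV' s 0 h1
  rw [map_zero] at h2
  have hWV : W ≤ V' := leOfHom iU
  have hle : π ⁻¹ᵁ W ≤ O ⊓ π ⁻¹ᵁ U := (π.preimage_mono hWV).trans hV'.le
  have h3 : res L hle (res L inf_le_left e) = 0 := by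
    have : iU = homOfLE hWV := Subsingleton.elim _ _
    rw [this] at h2
    have h4 : res L (π.preimage_mono hWV) (res L hV'.le (res L inf_le_left e)) = 0 := h2
    rw [res_res] at h4
    exact h4
  have hb := he₁ (π ⁻¹ᵁ W) hle
  have h5 : (1 : Γ(Z', π ⁻¹ᵁ W)) = 0 := by
    apply hb.1
    change (1 : Γ(Z', π ⁻¹ᵁ W)) • res L hle (res L inf_le_left e) = (0 : Γ(Z', π ⁻¹ᵁ W)) • res L hle (res L inf_le_left e)
    rw [one_smul, zero_smul, h3]
  have hη0W : η0.1 ∈ π ⁻¹ᵁ W := by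
    change π η0.1 ∈ W
    rw [hπη]; exact hW
  have h6 := congrArg (Z'.presheaf.germ (π ⁻¹ᵁ W) η0.1 hη0W).hom h5
  rw [map_one, map_zero] at h6
  exact one_ne_zero h6

end Groth.Agent.Lib.Helper4.IsoLocus1
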