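import Mathlib
import Groth.Prelude.Def_CohB1
import Groth.Prelude.Def_ClSub2
import Groth.Agent.Lib.Helper1.Dv20

/-!
# Direct images from the closed subscheme of an ideal sheaf are killed by the ideal sheaf (helper4)
-/

set_option backward.isDefEq.respectTransparency.types false
set_option synthInstance.maxHeartbeats 400000
set_option autoImplicit false
set_option linter.unusedSectionVars false
set_option linter.style.haveILetI false
set_option linter.unusedSimpArgs false
universe u v w
open CategoryTheory CategoryTheory.Limits AlgebraicGeometry TopologicalSpace Opposite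

namespace Groth.Agent.Lib.Helper4.SubPush1
open Groth.Agent.Helper1

variable {X : Scheme.{u}} (I : X.IdealSheafData) (N : I.subscheme.Modules)

theorem push_smul' {Y : Scheme.{u}} (f : Y ⟶ X) (N : Y.Modules) (U : X.Opens) (a : Γ(X, U))
    (m : Γ((Scheme.Modules.pushforward f).obj N, U)) :
    a • m = (show Γ((Scheme.Modules.pushforward f).obj N, U) from
      ((f.app U).hom a • (show Γ(N, f ⁻¹ᵁ U) from m))) := rfl

/-- a direct image from the closed subscheme of an ideal sheaf is killed by the ideal sheaf -/
theorem killedByIdeal_push : ClSub.KilledByIdeal I ((Scheme.Modules.pushforward I.subschemeι).obj N) := by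
  intro U a ha m
  have h0 : (I.subschemeι.app U.1).hom a = 0 := by
    have : a ∈ RingHom.ker (I.subschemeι.app U.1).hom := by
      rw [I.ker_subschemeι_app U]; exact ha
    exact this
  change (show Γ((Scheme.Modules.pushforward I.subschemeι).obj N, U.1) from
      ((I.subschemeι.app U.1).hom a • (show Γ(N, I.subschemeι ⁻¹ᵁ U.1) from m))) = 0
  rw [h0, zero_smul]
  rfl

end Groth.Agent.Lib.Helper4.SubPush1
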