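import Mathlib
import Groth.Prelude.Def_CohB1
import Groth.Agent.Lib.Helper4.ChowPn1
import Groth.Agent.Lib.Helper4.ChowVan2
import Groth.Agent.Lib.Helper4.ChowCoh1
import Groth.Agent.Lib.Helper4.SubPush1
import Groth.Agent.Lib.Helper4.IsoLocus1
import Groth.Agent.Lib.Helper4.HHFin3
import Groth.Agent.Lib.Helper1.InvFt

/-!
# The generating module for the devissage proof of finiteness of proper coherent cohomology (helper4)
-/

set_option backward.isDefEq.respectTransparency.types false
set_option synthInstance.maxHeartbeats 400000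
set_option autoImplicit false
set_option linter.unusedSectionVars false
set_option linter.style.haveILetI false
set_option linter.unusedSimpArgs false
universe u v w
open CategoryTheory CategoryTheory.Limits AlgebraicGeometry TopologicalSpace Opposite

namespace Groth.Agent.Lib.Helper4.T2Gen1
open Groth.Agent.Helper1
open Groth.Agent.Lib.Helper4

variable (A : Type u) [CommRing A] [IsNoetherianRing A] (X : Scheme.{u})
  [X.Over (Spec (CommRingCat.of A))] [IsProper (X ↘ Spec (CommRingCat.of A))]

/-- the generic point of an irreducible closed subset lies in every dense open of the reduced subscheme -/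
theorem mem_of_dense {Zs : Scheme.{u}} (i : Zs ⟶ X) [IsClosedImmersion i] (Z : Set X)
    (hr : Set.range i = Z) (η : Zs) (hη : closure {i η} = Z) (U : Zs.Opens) (hU : Dense (U : Set Zs)) :
    η ∈ U := by
  have hcl : closure ({η} : Set Zs) = Set.univ := by
    rw [i.isClosedEmbedding.isInducing.closure_eq_preimage_closure_image, Set.image_singleton, hη, ← hr]
    exact Set.preimage_range i
  obtain ⟨u, hu, -⟩ := hU.exists_mem_open isOpen_univ ⟨η, trivial⟩
  have hu' : u ∈ closure ({η} : Set Zs) := by rw [hcl]; trivial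
  rw [mem_closure_iff] at hu'
  obtain ⟨x, hxU, hxη⟩ := hu' U U.isOpen hu
  rw [Set.mem_singleton_iff] at hxη
  rw [← hxη]
  exact hxU

/-- **the generating module for the devissage**: for an irreducible closed `Z ⊆ X` with generic point
`y` there is a coherent module with finite cohomology, supported on `Z`, killed by the ideal of `Z`,
with nonzero stalk at `y` -/
theorem exists_generator (Z : Set X) (hZ : IsClosed Z) (y : X) (hy : closure {y} = Z) :
    ∃ G : X.Modules, Coh.IsCoh G ∧ (∀ p : ℕ, Module.Finite A (Coh.HH X G p)) ∧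
      CohB1.support G ⊆ Z ∧
      ClSub.KilledByIdeal (Scheme.IdealSheafData.vanishingIdeal ⟨Z, hZ⟩) G ∧ y ∈ CohB1.support G := by
  let I := Scheme.IdealSheafData.vanishingIdeal ⟨Z, hZ⟩
  let i : I.subscheme ⟶ X := I.subschemeι
  have hr : Set.range i = Z := by
    rw [I.range_subschemeι]
    exact Scheme.IdealSheafData.coe_support_vanishingIdeal ⟨Z, hZ⟩
  let fZ : I.subscheme ⟶ Spec (CommRingCat.of A) := i ≫ (X ↘ Spec (CommRingCat.of A))
  haveI : IsProper fZ := inferInstance
  haveI : IsLocallyNoetherian I.subscheme := LocallyOfFiniteType.isLocallyNoetherian fZ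
  haveI : CompactSpace I.subscheme := QuasiCompact.compactSpace_of_compactSpace fZ
  obtain ⟨n, Z', π, j, hjcl, hj, hπ, hπs, U, hUd, hUi⟩ := ChowPn1.exists_chow fZ
  obtain ⟨N, hN⟩ := ChowVan2.exists_isZero_Rpush fZ n π j hj
  let L : Z'.Modules := ChowVan1.Ld n j N
  have hL : PicF.IsInvertible L := PullGen.isInvertible_pullback j (ClBridge2.isInvertible_twist n A N)
  have hLc : Coh.IsCoh L := InvQc.isCoh_of_isInvertible L hL
  let G' : I.subscheme.Modules := (Scheme.Modules.pushforward π).obj L
  have hG' : Coh.IsCoh G' := ChowCoh1.isCoh_push π fZ n j hj L hLc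
  refine ⟨(Scheme.Modules.pushforward i).obj G', FinPush.isCoh_pushforward i G' hG', ?_,
    ?_, SubPush1.killedByIdeal_push I G', ?_⟩
  · intro p
    letI : I.subscheme.Over (Spec (CommRingCat.of A)) := ⟨fZ⟩
    letI : Z'.Over (Spec (CommRingCat.of A)) := ⟨π ≫ fZ⟩
    haveI : Coh.IsQCoh G' := hG'.1
    haveI : Coh.IsQCoh L := hLc.1
    have e1 : Coh.HH X ((Coh.push i).obj G') p ≃ₗ[A] Coh.HH I.subscheme G' p :=
      LinBridge1.lerayEquiv i G' A rfl p
    have e2 : Coh.HH I.subscheme ((Coh.push π).obj L) p ≃ₗ[A] Coh.HH Z' L p :=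
      LinearEquiv.ofBijective (LinBridge1.lerayLin π L A rfl p)
        (LinBridge1.lerayMap_bijective π.base (Coh.toAb L) (fun q => hN N le_rfl q) p)
    haveI h3 : Module.Finite A (Coh.HH Z' L p) :=
      ProjFin1.finite_HH_of_closedImmersion n A j hj L hLc p
    haveI h2 : Module.Finite A (Coh.HH I.subscheme G' p) := Module.Finite.equiv e2.symm
    exact Module.Finite.equiv e1.symm
  · exact (Dv.support_pushforward_subset i G').trans hr.le
  · have hyr : y ∈ Set.range i := by
      rw [hr, ← hy]; exact subset_closure rfl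
    obtain ⟨η, rfl⟩ := hyr
    have hηU : η ∈ U := mem_of_dense X i Z hr η hy U hUd
    exact Dv.mem_support_pushforward i G' η (IsoLocus1.nontrivial_stalk_push π U L hL η hηU)

end Groth.Agent.Lib.Helper4.T2Gen1
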