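import Mathlib
import Groth.Prelude.Def_CohB1
import Groth.Agent.Lib.Helper4.T2Gen1
import Groth.Agent.S4458

/-!
# Finiteness of coherent cohomology for proper schemes over a Noetherian ring (helper4)
-/

set_option backward.isDefEq.respectTransparency.types false
set_option synthInstance.maxHeartbeats 400000
set_option autoImplicit false
set_option linter.unusedSectionVars false
set_option linter.style.haveILetI false
set_option linter.unusedSimpArgs false
universe u v w
open CategoryTheory CategoryTheory.Limits AlgebraicGeometry TopologicalSpace Opposite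

namespace Groth.Agent.Lib.Helper4.T2Main1
open Groth.Agent.Helper1
open Groth.Agent.Lib.Helper4

variable (A : Type u) [CommRing A] [IsNoetherianRing A] (X : Scheme.{u})
  [X.Over (Spec (CommRingCat.of A))] [IsProper (X ↘ Spec (CommRingCat.of A))]

/-- the class of modules with finite cohomology -/
def KF : ObjectProperty X.Modules := fun F => ∀ p : ℕ, Module.Finite A (Coh.HH X F p)

instance : (KF A X).IsClosedUnderIsomorphisms where
  of_iso e h p := HHFin1.finite_of_iso A e p (h p)

/-- **finiteness of coherent cohomology for proper schemes over a Noetherian ring** -/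
theorem t2 (M : X.Modules) (hM : Coh.IsCoh M) (n : ℕ) : Module.Finite A (Coh.HH X M n) := by
  haveI : IsLocallyNoetherian X := LocallyOfFiniteType.isLocallyNoetherian (X ↘ Spec (CommRingCat.of A))
  haveI : CompactSpace X := QuasiCompact.compactSpace_of_compactSpace (X ↘ Spec (CommRingCat.of A))
  haveI : IsNoetherian X := {}
  have h := Groth.Agent.S4458.result X (KF A X)
    (fun M hM p => HHFin3.finite_of_isZero A hM p)
    (fun S hS _ _ _ => ⟨fun h1 h2 p => HHFin2.finite_X₃ A hS p (h2 p) (h1 (p + 1)),
      fun h1 h3 p => HHFin2.finite_X₂ A hS p (h1 p) (h3 p),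
      fun h2 h3 p => HHFin3.finite_X₁ A hS p (h2 p) (fun k _ => h3 k)⟩)
    (fun M N i r hir _ _ hK p => HHFin3.finite_of_retract A i r hir p (hK p))
    Set.univ isClosed_univ
    (fun Z hZ _ _ y hy => by
      obtain ⟨G, h1, h2, h3, h4, h5⟩ := T2Gen1.exists_generator A X Z hZ y hy
      exact ⟨G, h1, h2, h3, h4, h5⟩)
    M hM (Set.subset_univ _)
  exact h n

end Groth.Agent.Lib.Helper4.T2Main1
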