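import Mathlib

namespace Groth.Agent.Helper4.GM

open AlgebraicGeometry CategoryTheory PrimeSpectrum

universe u

theorem hasGoingDown_of_isOpenMap_comap {R S : Type*} [CommRing R] [CommRing S] [Algebra R S]
    (h : IsOpenMap (PrimeSpectrum.comap (algebraMap R S))) : Algebra.HasGoingDown R S := by
  refine ⟨fun {p} _ Q _ hlt => ?_⟩
  let f := algebraMap R S
  let M : Submonoid S := p.primeCompl.map f ⊔ Q.primeCompl
  have hdisj : Disjoint ((p.map f : Ideal S) : Set S) (M : Set S) := by
    rw [Set.disjoint_left]
    rintro x hx hxM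
    obtain ⟨y, hy, t, ht, rfl⟩ := Submonoid.mem_sup.mp hxM
    obtain ⟨a, ha, rfl⟩ := hy
    have hopen : IsOpen ((PrimeSpectrum.comap f) '' (PrimeSpectrum.basicOpen t : Set _)) :=
      h _ (PrimeSpectrum.basicOpen t).isOpen
    have hmem : (PrimeSpectrum.comap f) ⟨Q, inferInstance⟩ ∈
        (PrimeSpectrum.comap f) '' (PrimeSpectrum.basicOpen t : Set _) :=
      ⟨⟨Q, inferInstance⟩, ht, rfl⟩
    have hspec : (⟨p, inferInstance⟩ : PrimeSpectrum R) ⤳
        (PrimeSpectrum.comap f) ⟨Q, inferInstance⟩ :=
      (PrimeSpectrum.le_iff_specializes _ _).mp hlt.le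
    obtain ⟨P', hP't, hP'⟩ := hopen.stableUnderGeneralization hspec hmem
    have h1 : f a * t ∈ P'.asIdeal := by
      have : p.map f ≤ P'.asIdeal := by
        rw [Ideal.map_le_iff_le_comap]
        have := congrArg PrimeSpectrum.asIdeal hP'
        simp only [PrimeSpectrum.comap_asIdeal] at this
        rw [this]
      exact this hx
    rcases P'.2.mem_or_mem h1 with h2 | h2
    · have : a ∈ p := by
        have h3 := congrArg PrimeSpectrum.asIdeal hP'
        simp only [PrimeSpectrum.comap_asIdeal] at h3
        rw [← h3]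
        exact h2
      exact ha this
    · exact hP't h2
  obtain ⟨P, hP, hle, hPM⟩ := Ideal.exists_le_prime_disjoint _ _ hdisj
  refine ⟨P, ?_, hP, ⟨?_⟩⟩
  · intro x hx
    by_contra hxQ
    exact Set.disjoint_left.mp hPM hx (Submonoid.mem_sup_right (show x ∈ Q.primeCompl from hxQ))
  · apply le_antisymm
    · exact Ideal.map_le_iff_le_comap.mp hle
    · intro a ha
      by_contra hap
      exact Set.disjoint_left.mp hPM ha
        (Submonoid.mem_sup_left ⟨a, hap, rfl⟩)

/-- S10837 -/
theorem generalizingMap_of_isOpenMap {X Y : Scheme.{u}} (f : X ⟶ Y) (hf : IsOpenMap f.base) :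
    GeneralizingMap f.base := by
  have h1 := HasRingHomProperty.of_isZariskiLocalAtSource_of_isZariskiLocalAtTarget.{u}
    (topologically GeneralizingMap)
  have h2 := HasRingHomProperty.of_isZariskiLocalAtSource_of_isZariskiLocalAtTarget.{u}
    (topologically IsOpenMap)
  change topologically GeneralizingMap f
  rw [HasRingHomProperty.iff_appLE (P := topologically GeneralizingMap)]
  intro U V e
  have hf' : topologically IsOpenMap f := hf
  rw [HasRingHomProperty.iff_appLE (P := topologically IsOpenMap)] at hf'
  have := hf' U V e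
  algebraize [(f.appLE U V e).hom]
  apply Algebra.HasGoingDown.iff_generalizingMap_primeSpectrumComap.mp
  exact hasGoingDown_of_isOpenMap_comap this

end Groth.Agent.Helper4.GM
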