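import Mathlib
import Groth.Agent.Lib.Helper4.GenMap1

namespace Groth.Agent.Helper4.GM

open AlgebraicGeometry CategoryTheory TopologicalSpace

universe u

theorem exists_ltSeries_lift {P Q : Type*} [Preorder P] [Preorder Q] (g : Q → P)
    (hs : Function.Surjective g)
    (hg : ∀ x p', g x < p' → ∃ x', x < x' ∧ g x' = p') (l : LTSeries P) :
    ∃ L : LTSeries Q, L.length = l.length ∧ g L.last = l.last := by
  induction l using RelSeries.inductionOn' with
  | singleton p =>
    obtain ⟨x, hx⟩ := hs p
    exact ⟨RelSeries.singleton _ x, rfl, by simpa using hx⟩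
  | snoc l p' h ih =>
    obtain ⟨L, hlen, hlast⟩ := ih
    obtain ⟨x', hx', hgx'⟩ := hg L.last p' (by rw [hlast]; exact h)
    refine ⟨L.snoc x' hx', ?_, ?_⟩
    · simp [hlen]
    · simp [hgx']

theorem krullDim_le_of_lift {P Q : Type*} [Preorder P] [Preorder Q] (g : Q → P)
    (hs : Function.Surjective g)
    (hg : ∀ x p', g x < p' → ∃ x', x < x' ∧ g x' = p') :
    Order.krullDim P ≤ Order.krullDim Q := by
  refine iSup_le fun l => ?_
  obtain ⟨L, hlen, -⟩ := exists_ltSeries_lift g hs hg l
  rw [← hlen]
  exact Order.LTSeries.length_le_krullDim L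

attribute [local instance] specializationOrder in
theorem topologicalKrullDim_eq_krullDim_specialization (A : Type*) [TopologicalSpace A]
    [QuasiSober A] [T0Space A] :
    topologicalKrullDim A = Order.krullDim A :=
  Order.krullDim_eq_of_orderIso irreducibleSetEquivPoints

attribute [local instance] specializationOrder in
theorem topologicalKrullDim_le_of_generalizing {A B : Type*} [TopologicalSpace A]
    [TopologicalSpace B] [QuasiSober A] [T0Space A] [QuasiSober B] [T0Space B]
    (g : A → B) (hc : Continuous g) (hs : Function.Surjective g) (hg : GeneralizingMap g) :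
    topologicalKrullDim B ≤ topologicalKrullDim A := by
  rw [topologicalKrullDim_eq_krullDim_specialization, topologicalKrullDim_eq_krullDim_specialization]
  apply krullDim_le_of_lift g hs
  intro x p' hlt
  have h1 : p' ⤳ g x := hlt.le
  obtain ⟨x', hx', rfl⟩ := hg h1
  refine ⟨x', lt_of_le_not_ge hx' fun hle => ?_, rfl⟩
  have : g x ⤳ g x' := Specializes.map hle hc
  exact hlt.not_ge this

/-- S10838 -/
theorem topologicalKrullDim_range_le {X Y : Scheme.{u}} (f : X ⟶ Y) (hf : IsOpenMap f.base) :
    topologicalKrullDim ↥(Set.range f.base) ≤ topologicalKrullDim ↥X := by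
  have hopen : IsOpen (Set.range f.base) := hf.isOpen_range
  have : QuasiSober ↥(Set.range f.base) := hopen.isOpenEmbedding_subtypeVal.quasiSober
  apply topologicalKrullDim_le_of_generalizing (Set.rangeFactorization f.base)
  · exact f.continuous.subtype_mk _
  · exact Set.rangeFactorization_surjective
  · intro x t ht
    have h1 : (t : Y) ⤳ f.base x := Specializes.map ht continuous_subtype_val
    obtain ⟨x', hx', hfx'⟩ := generalizingMap_of_isOpenMap f hf h1
    exact ⟨x', hx', Subtype.ext hfx'⟩

end Groth.Agent.Helper4.GM
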