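import Mathlib
import Groth.Agent.Lib.Helper4.GenMap2

/-!
# Dimension along surjective specializing maps (helper4)
-/

set_option backward.isDefEq.respectTransparency.types false
set_option synthInstance.maxHeartbeats 400000
set_option autoImplicit false
set_option linter.unusedSectionVars false
set_option linter.style.haveILetI false
set_option linter.unusedSimpArgs false
universe u v

namespace Groth.Agent.Lib.Helper4.GenMap3
open AlgebraicGeometry CategoryTheory TopologicalSpace
open Groth.Agent.Helper4.GM

theorem exists_ltSeries_lift' {P Q : Type*} [Preorder P] [Preorder Q] (g : Q → P)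
    (hs : Function.Surjective g)
    (hg : ∀ x p', p' < g x → ∃ x', x' < x ∧ g x' = p') (l : LTSeries P) :
    ∃ L : LTSeries Q, L.length = l.length ∧ g L.head = l.head := by
  induction l using RelSeries.inductionOn with
  | singleton p =>
    obtain ⟨x, hx⟩ := hs p
    exact ⟨RelSeries.singleton _ x, rfl, by simpa using hx⟩
  | cons l p' h ih =>
    obtain ⟨L, hlen, hhead⟩ := ih
    obtain ⟨x', hx', hgx'⟩ := hg L.head p' (by rw [hhead]; exact h)
    refine ⟨L.cons x' hx', ?_, ?_⟩
    · simp [hlen]
    · simp [hgx']

theorem krullDim_le_of_lift' {P Q : Type*} [Preorder P] [Preorder Q] (g : Q → P)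
    (hs : Function.Surjective g)
    (hg : ∀ x p', p' < g x → ∃ x', x' < x ∧ g x' = p') :
    Order.krullDim P ≤ Order.krullDim Q := by
  refine iSup_le fun l => ?_
  obtain ⟨L, hlen, -⟩ := exists_ltSeries_lift' g hs hg l
  rw [← hlen]
  exact Order.LTSeries.length_le_krullDim L

attribute [local instance] specializationOrder in
theorem topologicalKrullDim_le_of_specializing {A B : Type*} [TopologicalSpace A]
    [TopologicalSpace B] [QuasiSober A] [T0Space A] [QuasiSober B] [T0Space B]
    (g : A → B) (hc : Continuous g) (hs : Function.Surjective g) (hg : SpecializingMap g) :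
    topologicalKrullDim B ≤ topologicalKrullDim A := by
  rw [topologicalKrullDim_eq_krullDim_specialization, topologicalKrullDim_eq_krullDim_specialization]
  apply krullDim_le_of_lift' g hs
  intro x p' hlt
  have h1 : g x ⤳ p' := hlt.le
  obtain ⟨x', hx', rfl⟩ := hg h1
  refine ⟨x', lt_of_le_not_ge hx' fun hle => ?_, rfl⟩
  have : g x' ⤳ g x := Specializes.map hle hc
  exact hlt.not_ge this

theorem S4716_main {X Y : Scheme.{u}} (f : X ⟶ Y)
    (hs : Function.Surjective f.base) (h : IsOpenMap f.base ∨ IsClosedMap f.base) :
    topologicalKrullDim Y ≤ topologicalKrullDim X := by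
  rcases h with h | h
  · exact topologicalKrullDim_le_of_generalizing f.base f.continuous hs
      (generalizingMap_of_isOpenMap f h)
  · exact topologicalKrullDim_le_of_specializing f.base f.continuous hs h.specializingMap
end Groth.Agent.Lib.Helper4.GenMap3
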