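import Mathlib
import Groth.Agent.Lib.Helper4.GenMap3

/-!
# Dimension and integral / quasi-finite morphisms (helper4)
-/

set_option backward.isDefEq.respectTransparency.types false
set_option synthInstance.maxHeartbeats 400000
set_option autoImplicit false
set_option linter.unusedSectionVars false
set_option linter.style.haveILetI false
set_option linter.unusedSimpArgs false
universe u v

namespace Groth.Agent.Lib.Helper4.IntegralDim
open AlgebraicGeometry CategoryTheory TopologicalSpace
open Groth.Agent.Helper4.GM Groth.Agent.Lib.Helper4.GenMap3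

/-- Incomparability for integral morphisms. -/
lemma eq_of_specializes_of_integral {X Y : Scheme.{u}} (f : X ⟶ Y) [IsIntegralHom f]
    {x x' : X} (h : x ⤳ x') (hf : f.base x = f.base x') : x = x' := by
  obtain ⟨_, ⟨V, hV : IsAffineOpen V, rfl⟩, hyV, -⟩ :=
    Y.isBasis_affineOpens.exists_subset_of_mem_open (Set.mem_univ (f.base x')) isOpen_univ
  have hU : IsAffineOpen (f ⁻¹ᵁ V) := hV.preimage f
  have hx' : x' ∈ f ⁻¹ᵁ V := hyV
  have hx : x ∈ f ⁻¹ᵁ V := h.mem_open (f ⁻¹ᵁ V).2 hx'
  have hint : (f.appLE V (f ⁻¹ᵁ V) le_rfl).hom.IsIntegral := by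
    rw [Scheme.Hom.appLE_eq_app]  -- hopefully
    exact f.isIntegral_app V hV
  set q := hU.primeIdealOf ⟨x, hx⟩ with hq
  set q' := hU.primeIdealOf ⟨x', hx'⟩ with hq'
  have hle : q ≤ q' := by
    rw [PrimeSpectrum.le_iff_specializes]
    have h1 : (⟨x, hx⟩ : (f ⁻¹ᵁ V)) ⤳ ⟨x', hx'⟩ := Topology.IsInducing.subtypeVal.specializes_iff.mp h
    exact h1.map hU.isoSpec.hom.continuous
  have hc : q.comap (f.appLE V (f ⁻¹ᵁ V) le_rfl).hom = q'.comap (f.appLE V (f ⁻¹ᵁ V) le_rfl).hom := by
    rw [hq, hq', IsAffineOpen.comap_primeIdealOf_appLE V hV (f ⁻¹ᵁ V) hU le_rfl hx,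
      IsAffineOpen.comap_primeIdealOf_appLE V hV (f ⁻¹ᵁ V) hU le_rfl hx']
    congr 1
    exact Subtype.ext hf
  have hqq : q = q' := by
    by_contra hne
    have hlt : q.asIdeal < q'.asIdeal := lt_of_le_of_ne hle (fun e => hne (PrimeSpectrum.ext e))
    algebraize [(f.appLE V (f ⁻¹ᵁ V) le_rfl).hom]
    have := Ideal.IsIntegral.comap_lt_comap (R := Γ(Y, V)) hlt
    have hc' := congrArg PrimeSpectrum.asIdeal hc
    exact this.ne hc'
  have e1 := hU.fromSpec_primeIdealOf ⟨x, hx⟩
  have e2 := hU.fromSpec_primeIdealOf ⟨x', hx'⟩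
  rw [← hq] at e1
  rw [← hq', ← hqq] at e2
  exact e1.symm.trans e2

attribute [local instance] specializationOrder in
/-- a continuous map between sober spaces with no strict specializations in the fibres does not
raise dimension -/
theorem topologicalKrullDim_le_of_incomparable {A B : Type*} [TopologicalSpace A]
    [TopologicalSpace B] [QuasiSober A] [T0Space A] [QuasiSober B] [T0Space B]
    (g : A → B) (hc : Continuous g) (hg : ∀ a a' : A, a ⤳ a' → g a = g a' → a = a') :
    topologicalKrullDim A ≤ topologicalKrullDim B := by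
  rw [topologicalKrullDim_eq_krullDim_specialization, topologicalKrullDim_eq_krullDim_specialization]
  apply Order.krullDim_le_of_strictMono g
  intro a b hab
  have h1 : b ⤳ a := hab.le
  have h2 : g b ⤳ g a := h1.map hc
  refine lt_of_le_of_ne h2 fun e => ?_
  have := hg b a h1 e.symm
  exact hab.ne this.symm

theorem S9683_main {X Y : Scheme.{u}} (f : X ⟶ Y) [IsIntegralHom f] :
    topologicalKrullDim ↥X ≤ topologicalKrullDim ↥Y ∧
      (Surjective f → topologicalKrullDim ↥X = topologicalKrullDim ↥Y) := by
  have h1 : topologicalKrullDim ↥X ≤ topologicalKrullDim ↥Y :=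
    topologicalKrullDim_le_of_incomparable f.base f.continuous
      (fun a a' h e => eq_of_specializes_of_integral f h e)
  refine ⟨h1, fun hs => le_antisymm h1 ?_⟩
  exact topologicalKrullDim_le_of_specializing f.base f.continuous hs.surj f.isClosedMap.specializingMap

theorem S4717_main {X Y : Scheme.{u}} (f : X ⟶ Y) [IsFinite f] :
    topologicalKrullDim X = topologicalKrullDim (Set.range f.base) ∧
      (Function.Surjective f.base → topologicalKrullDim X = topologicalKrullDim Y) := by
  have hcl : IsClosed (Set.range f.base) := f.isClosedMap.isClosed_range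
  have : QuasiSober (Set.range f.base) := hcl.isClosedEmbedding_subtypeVal.quasiSober
  refine ⟨le_antisymm ?_ ?_, fun hs => (S9683_main f).2 ⟨hs⟩⟩
  · apply topologicalKrullDim_le_of_incomparable (Set.rangeFactorization f.base)
      (f.continuous.subtype_mk _)
    intro a a' h e
    exact eq_of_specializes_of_integral f h (congrArg Subtype.val e)
  · apply topologicalKrullDim_le_of_specializing (Set.rangeFactorization f.base)
      (f.continuous.subtype_mk _) Set.rangeFactorization_surjective
    intro a b hab
    have h1 : f.base a ⤳ (b : Y) := hab.map continuous_subtype_val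
    obtain ⟨a', ha', hfa'⟩ := f.isClosedMap.specializingMap h1
    exact ⟨a', ha', Subtype.ext hfa'⟩

theorem S4715_main {X Y : Scheme.{u}} (f : X ⟶ Y) [LocallyQuasiFinite f] :
    topologicalKrullDim X ≤ topologicalKrullDim (closure (Set.range f.base)) ∧
      topologicalKrullDim (closure (Set.range f.base)) ≤ topologicalKrullDim Y := by
  have : QuasiSober (closure (Set.range f.base)) :=
    isClosed_closure.isClosedEmbedding_subtypeVal.quasiSober
  refine ⟨?_, topologicalKrullDim_subspace_le _ _⟩
  apply topologicalKrullDim_le_of_incomparable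
    (fun x => (⟨f.base x, subset_closure ⟨x, rfl⟩⟩ : closure (Set.range f.base)))
    (f.continuous.subtype_mk _)
  intro a a' h e
  have e' : f.base a = f.base a' := congrArg Subtype.val e
  have hd := f.isDiscrete_preimage_singleton (f.base a')
  have ha : a ∈ f.base ⁻¹' {f.base a'} := e'
  have ha' : a' ∈ f.base ⁻¹' {f.base a'} := rfl
  obtain ⟨u, hu, hus⟩ := isDiscrete_iff_forall_mem_exists_isOpen.mp hd a' ha'
  have h1 : a' ∈ u := (hus.symm ▸ Set.mem_singleton a' : a' ∈ u ∩ _).1
  have h2 : a ∈ u := h.mem_open hu h1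
  have h3 : a ∈ u ∩ f.base ⁻¹' {f.base a'} := ⟨h2, ha⟩
  rw [hus] at h3
  exact h3
end Groth.Agent.Lib.Helper4.IntegralDim
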