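import Mathlib
import Groth.Prelude.Def_Fitting

set_option linter.unusedSectionVars false
set_option linter.style.haveILetI false

namespace Groth.Agent.Helper4.Fitting

open Matrix

universe u v

/-- generators of the `k`-th Fitting ideal attached to the tuple `x` -/
def genSet (R : Type u) [CommRing R] {M : Type v} [AddCommGroup M] [Module R M]
    {n : ℕ} (x : Fin n → M) (k : ℕ) : Set R :=
  {d | ∃ a : Matrix (Fin n) (Fin n) R,
    (∀ i : Fin n, (i : ℕ) < n - k → ∑ j, a i j • x j = 0) ∧ d = a.det}

/-- the `k`-th Fitting ideal computed from the tuple `x` -/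
def F (R : Type u) [CommRing R] {M : Type v} [AddCommGroup M] [Module R M]
    {n : ℕ} (x : Fin n → M) (k : ℕ) : Ideal R := Ideal.span (genSet R x k)

variable {R : Type u} [CommRing R] {M : Type v} [AddCommGroup M] [Module R M]

theorem det_mem_F {n : ℕ} (x : Fin n → M) (k : ℕ) (a : Matrix (Fin n) (Fin n) R)
    (ha : ∀ i : Fin n, (i : ℕ) < n - k → ∑ j, a i j • x j = 0) : a.det ∈ F R x k :=
  Ideal.subset_span ⟨a, ha, rfl⟩

theorem F_le_iff {n : ℕ} (x : Fin n → M) (k : ℕ) (J : Ideal R) :
    F R x k ≤ J ↔ ∀ a : Matrix (Fin n) (Fin n) R,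
      (∀ i : Fin n, (i : ℕ) < n - k → ∑ j, a i j • x j = 0) → a.det ∈ J := by
  constructor
  · intro h a ha
    exact h (det_mem_F x k a ha)
  · intro h
    apply Ideal.span_le.2
    rintro _ ⟨a, ha, rfl⟩
    exact h a ha

theorem F_perm_le {n : ℕ} (x : Fin n → M) (k : ℕ) (e : Equiv.Perm (Fin n)) :
    F R (x ∘ e) k ≤ F R x k := by
  rw [F_le_iff]
  intro a ha
  have h1 : (a.submatrix id e.symm).det ∈ F R x k := by
    apply det_mem_F
    intro i hi
    have := ha i hi
    rw [← this]
    simp only [Matrix.submatrix_apply, id_eq, Function.comp_apply]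
    rw [← Equiv.sum_comp e]
    simp
  rw [Matrix.det_permute'] at h1
  rcases Int.units_eq_one_or (Equiv.Perm.sign e.symm) with h | h
  · rw [h] at h1
    simpa using h1
  · rw [h] at h1
    have h2 : -a.det ∈ F R x k := by simpa using h1
    simpa using (F R x k).neg_mem h2

theorem F_reindex {n n' : ℕ} (x : Fin n → M) (k : ℕ) (e : Fin n' ≃ Fin n) :
    F R (x ∘ e) k = F R x k := by
  have h : n' = n := by simpa using Fintype.card_congr e
  subst h
  apply le_antisymm (F_perm_le x k e)
  have := F_perm_le (R := R) (x ∘ e) k e.symm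
  have h2 : (x ∘ e) ∘ e.symm = x := by
    ext i; simp
  rwa [h2] at this

/-- the matrix `[[1, -c], [0, a]]` -/
def consMat {n : ℕ} (c : Fin n → R) (a : Matrix (Fin n) (Fin n) R) :
    Matrix (Fin (n + 1)) (Fin (n + 1)) R :=
  Matrix.of fun r j => Fin.cases (Fin.cases 1 (fun j' => - c j') j)
    (fun i => Fin.cases 0 (fun j' => a i j') j) r

theorem det_consMat {n : ℕ} (c : Fin n → R) (a : Matrix (Fin n) (Fin n) R) :
    (consMat c a).det = a.det := by
  rw [Matrix.det_succ_column_zero, Fin.sum_univ_succ]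
  have h0 : (consMat c a).submatrix (Fin.succAbove 0) Fin.succ = a := by
    ext i j
    simp [consMat]
  have h1 : ∀ i : Fin n, (consMat c a) i.succ 0 = 0 := by
    intro i
    simp [consMat]
  have h2 : (consMat c a) 0 0 = 1 := by simp [consMat]
  rw [h0, h2]
  simp [h1]

/-- the matrix `[[1, c], [0, 1]]` -/
def shearMat {n : ℕ} (c : Fin n → R) : Matrix (Fin (n + 1)) (Fin (n + 1)) R :=
  Matrix.of fun r j => Fin.cases (Fin.cases 1 (fun j' => c j') j)
    (fun i => Fin.cases 0 (fun j' => if i = j' then 1 else 0) j) r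

theorem det_shearMat {n : ℕ} (c : Fin n → R) : (shearMat c).det = 1 := by
  rw [Matrix.det_succ_column_zero, Fin.sum_univ_succ]
  have h0 : (shearMat c).submatrix (Fin.succAbove 0) Fin.succ = 1 := by
    ext i j
    simp [shearMat, Matrix.one_apply]
  have h1 : ∀ i : Fin n, (shearMat c) i.succ 0 = 0 := by
    intro i
    simp [shearMat]
  have h2 : (shearMat c) 0 0 = 1 := by simp [shearMat]
  rw [h0, h2]
  simp [h1]

theorem mul_shearMat_zero {n : ℕ} (c : Fin n → R) (N : Matrix (Fin (n + 1)) (Fin (n + 1)) R)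
    (r : Fin (n + 1)) : (N * shearMat c) r 0 = N r 0 := by
  rw [Matrix.mul_apply, Fin.sum_univ_succ]
  simp [shearMat]

theorem mul_shearMat_succ {n : ℕ} (c : Fin n → R) (N : Matrix (Fin (n + 1)) (Fin (n + 1)) R)
    (r : Fin (n + 1)) (j : Fin n) : (N * shearMat c) r j.succ = N r 0 * c j + N r j.succ := by
  rw [Matrix.mul_apply, Fin.sum_univ_succ]
  simp [shearMat]

theorem F_cons {n : ℕ} (x : Fin n → M) (hx : Submodule.span R (Set.range x) = ⊤) (y₀ : M)
    (k : ℕ) : F R (Fin.cons y₀ x : Fin (n + 1) → M) k = F R x k := by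
  have hy : y₀ ∈ Submodule.span R (Set.range x) := by rw [hx]; trivial
  obtain ⟨c, hc⟩ := (Submodule.mem_span_range_iff_exists_fun R).1 hy
  apply le_antisymm
  · rw [F_le_iff]
    intro N hN
    have hdet : N.det = (N * shearMat c).det := by
      rw [Matrix.det_mul, det_shearMat, mul_one]
    rw [hdet, Matrix.det_succ_column_zero]
    apply Ideal.sum_mem
    intro i _
    apply Ideal.mul_mem_left
    apply det_mem_F
    intro l hl
    simp only [Matrix.submatrix_apply, mul_shearMat_succ]
    have hr : ((i.succAbove l : Fin (n + 1)) : ℕ) < n + 1 - k := by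
      have : ((i.succAbove l : Fin (n + 1)) : ℕ) ≤ (l : ℕ) + 1 := by
        unfold Fin.succAbove
        split_ifs <;> simp
      omega
    have := hN (i.succAbove l) hr
    rw [Fin.sum_univ_succ] at this
    simp only [Fin.cons_zero, Fin.cons_succ] at this
    rw [← this, ← hc]
    simp only [add_smul, Finset.sum_add_distrib, Finset.smul_sum, mul_smul]
  · rw [F_le_iff]
    intro a ha
    rw [← det_consMat c a]
    apply det_mem_F
    intro r hr
    rw [Fin.sum_univ_succ]
    revert hr
    refine Fin.cases ?_ (fun i => ?_) r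
    · intro _
      simp only [consMat, Matrix.of_apply, Fin.cases_zero, Fin.cons_zero, Fin.cases_succ,
        Fin.cons_succ, one_smul, neg_smul, Finset.sum_neg_distrib, hc, add_neg_cancel]
    · intro hr
      have hi : (i : ℕ) < n - k := by
        simp only [Fin.val_succ] at hr
        omega
      simp only [consMat, Matrix.of_apply, Fin.cases_zero, Fin.cons_zero, Fin.cases_succ,
        Fin.cons_succ, zero_smul, zero_add]
      exact ha i hi

theorem span_range_append_right {n m : ℕ} (x : Fin n → M) (y : Fin m → M)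
    (hy : Submodule.span R (Set.range y) = ⊤) :
    Submodule.span R (Set.range (Fin.append x y)) = ⊤ := by
  rw [eq_top_iff, ← hy]
  apply Submodule.span_mono
  rintro _ ⟨i, rfl⟩
  exact ⟨Fin.natAdd n i, by simp⟩

theorem F_append_left {m : ℕ} (y : Fin m → M) (hy : Submodule.span R (Set.range y) = ⊤) (k : ℕ) :
    ∀ (n : ℕ) (x : Fin n → M), F R (Fin.append x y) k = F R y k := by
  intro n
  induction n with
  | zero =>
    intro x
    have hx : x = Fin.elim0 := Subsingleton.elim _ _
    rw [hx, Fin.elim0_append]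
    exact F_reindex y k (finCongr (Nat.zero_add m))
  | succ n ih =>
    intro x
    have hx : x = Fin.cons (x 0) (Fin.tail x) := (Fin.cons_self_tail x).symm
    rw [hx, Fin.append_cons]
    have h1 := F_reindex (R := R) (Fin.cons (x 0) (Fin.append (Fin.tail x) y)) k
      (finCongr (Nat.add_right_comm n 1 m))
    have h2 : (Fin.cons (x 0) (Fin.append (Fin.tail x) y) : Fin (n + m + 1) → M) ∘
        Fin.cast (Nat.add_right_comm n 1 m) =
        (Fin.cons (x 0) (Fin.append (Fin.tail x) y) : Fin (n + m + 1) → M) ∘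
        ⇑(finCongr (Nat.add_right_comm n 1 m)) := rfl
    rw [h2, h1, F_cons _ (span_range_append_right _ _ hy), ih]

theorem append_comp_finAddFlip {n m : ℕ} (x : Fin n → M) (y : Fin m → M) :
    Fin.append y x ∘ ⇑(finAddFlip : Fin (n + m) ≃ Fin (m + n)) = Fin.append x y := by
  funext i
  refine Fin.addCases (fun l => ?_) (fun r => ?_) i
  · simp [finAddFlip_apply_castAdd]
  · simp [finAddFlip_apply_natAdd]

/-- independence of the generating tuple -/
theorem F_eq_of_span_eq_top {n m : ℕ} (x : Fin n → M) (y : Fin m → M)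
    (hx : Submodule.span R (Set.range x) = ⊤) (hy : Submodule.span R (Set.range y) = ⊤) (k : ℕ) :
    F R x k = F R y k := by
  rw [← F_append_left x hx k m y, ← F_append_left y hy k n x, ← append_comp_finAddFlip x y,
    F_reindex]

theorem ideal_eq_F {n : ℕ} (x : Fin n → M) (hx : Submodule.span R (Set.range x) = ⊤) (k : ℕ) :
    Fitt.ideal R M k = F R x k := by
  apply le_antisymm
  · apply Ideal.span_le.2
    rintro d ⟨n', x', a, hx', ha, rfl⟩
    rw [F_eq_of_span_eq_top x x' hx hx' k]
    exact det_mem_F x' k a ha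
  · apply Ideal.span_le.2
    rintro d ⟨a, ha, rfl⟩
    exact Ideal.subset_span ⟨n, x, a, hx, ha, rfl⟩

end Groth.Agent.Helper4.Fitting
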