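import Mathlib
import Groth.Agent.Lib.Helper4.Fitting1

set_option linter.unusedSectionVars false
set_option linter.style.haveILetI false

namespace Groth.Agent.Helper4.Fitting

open Matrix

universe u v

/-- the set of `p × p` minors of relation matrices for the tuple `x` -/
def minorSet (R : Type u) [CommRing R] {M : Type v} [AddCommGroup M] [Module R M]
    {n : ℕ} (x : Fin n → M) (p : ℕ) : Set R :=
  {d | ∃ (z : Fin p → (Fin n → R)) (e : Fin p → Fin n),
      (∀ j, ∑ i, z j i • x i = 0) ∧ d = (Matrix.of fun a b => z b (e a)).det}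

variable {R : Type u} [CommRing R] {M : Type v} [AddCommGroup M] [Module R M]

/-- Laplace expansion along the free rows -/
theorem det_mem_span_minorSet {n : ℕ} (x : Fin n → M) (p : ℕ) :
    ∀ (N : ℕ) (A : Matrix (Fin N) (Fin N) R) (c : Fin N → Fin n), p ≤ N →
      (∀ i : Fin N, (i : ℕ) < p → ∃ z : Fin n → R, ∑ l, z l • x l = 0 ∧ ∀ j, A i j = z (c j)) →
      A.det ∈ Ideal.span (minorSet R x p) := by
  intro N
  induction N with
  | zero =>
    intro A c hp hA
    have hp0 : p = 0 := by omega
    subst hp0
    apply Ideal.subset_span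
    refine ⟨fun i => i.elim0, fun i => i.elim0, fun j => j.elim0, ?_⟩
    simp
  | succ N ih =>
    intro A c hp hA
    rcases Nat.lt_or_ge N p with h | h
    · have hpN : p = N + 1 := by omega
      subst hpN
      choose z hz1 hz2 using fun i : Fin (N + 1) => hA i i.2
      apply Ideal.subset_span
      refine ⟨z, c, hz1, ?_⟩
      rw [← Matrix.det_transpose]
      congr 1
      ext a b
      simp [hz2]
    · rw [Matrix.det_succ_row A (Fin.last N)]
      apply Ideal.sum_mem
      intro j _
      apply Ideal.mul_mem_left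
      apply ih _ (c ∘ j.succAbove) h
      intro i hi
      have hi' : (((Fin.last N).succAbove i : Fin (N + 1)) : ℕ) < p := by
        rw [Fin.succAbove_last]; simpa using hi
      obtain ⟨z, hz1, hz2⟩ := hA ((Fin.last N).succAbove i) hi'
      refine ⟨z, hz1, fun j' => ?_⟩
      simp only [Matrix.submatrix_apply, Function.comp_apply]
      exact hz2 _

theorem F_le_span_minorSet {n : ℕ} (x : Fin n → M) (k : ℕ) :
    F R x k ≤ Ideal.span (minorSet R x (n - k)) := by
  rw [F_le_iff]
  intro a ha
  apply det_mem_span_minorSet x (n - k) n a id (Nat.sub_le n k)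
  intro i hi
  exact ⟨a i, ha i hi, fun j => rfl⟩

/-- extension of an injection `Fin p → Fin n` to an equivalence `Fin p ⊕ Fin q ≃ Fin n` -/
theorem exists_equiv_extend {p q n : ℕ} (hpq : p + q = n) (e : Fin p → Fin n)
    (he : Function.Injective e) :
    ∃ σ : Fin p ⊕ Fin q ≃ Fin n, ∀ a, σ (Sum.inl a) = e a := by
  classical
  let S : Set (Fin n) := Set.range e
  let e₁ : Fin p ≃ S := Equiv.ofInjective e he
  have hcard : Fintype.card (↥(Sᶜ) : Type) = q := by
    have h1 : Fintype.card S = p := by
      rw [← Fintype.card_congr e₁]; simp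
    have h2 := Fintype.card_congr (Equiv.Set.sumCompl S)
    rw [Fintype.card_sum, h1, Fintype.card_fin] at h2
    omega
  let e₂ : Fin q ≃ (↥(Sᶜ) : Type) := (Fintype.equivFinOfCardEq hcard).symm
  refine ⟨(Equiv.sumCongr e₁ e₂).trans (Equiv.Set.sumCompl S), fun a => ?_⟩
  simp only [Equiv.trans_apply, Equiv.sumCongr_apply, Sum.map_inl, Equiv.Set.sumCompl_apply_inl]
  rfl

theorem minor_mem_of_forall_det_mem {n p q : ℕ} (hpq : p + q = n) (x : Fin n → M) (J : Ideal R)
    (hJ : ∀ a : Matrix (Fin n) (Fin n) R,
      (∀ i : Fin n, (i : ℕ) < p → ∑ j, a i j • x j = 0) → a.det ∈ J)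
    (z : Fin p → (Fin n → R)) (e : Fin p → Fin n) (hz : ∀ j, ∑ i, z j i • x i = 0) :
    (Matrix.of fun a b => z b (e a)).det ∈ J := by
  classical
  by_cases he : Function.Injective e
  · obtain ⟨σ, hσ⟩ := exists_equiv_extend hpq e he
    let ρ : Fin p ⊕ Fin q ≃ Fin n := finSumFinEquiv.trans (finCongr hpq)
    let a : Matrix (Fin n) (Fin n) R := Matrix.of fun i j =>
      Sum.elim (fun b => z b j) (fun l => if j = σ (Sum.inr l) then 1 else 0) (ρ.symm i)
    have ha : a.det ∈ J := by
      apply hJ
      intro i hi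
      have hρ : ρ.symm i = Sum.inl ⟨i, hi⟩ := by
        rw [Equiv.symm_apply_eq]
        apply Fin.ext
        simp [ρ]
      simp only [a, Matrix.of_apply, hρ, Sum.elim_inl]
      exact hz _
    have hblock : a.submatrix ρ σ =
        Matrix.fromBlocks (Matrix.of fun b a' => z b (e a')) (Matrix.of fun b l' => z b (σ (Sum.inr l')))
          0 1 := by
      ext s t
      rcases s with b | l <;> rcases t with a' | l'
      · simp [a, hσ]
      · simp [a]
      · simp [a, ← hσ]
      · simp [a, Matrix.one_apply, eq_comm]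
    have hdet1 : (a.submatrix ρ σ).det = (Matrix.of fun a' b => z b (e a')).det := by
      rw [hblock, Matrix.det_fromBlocks_zero₂₁, Matrix.det_one, mul_one, ← Matrix.det_transpose]
      rfl
    have hdet2 : (a.submatrix ρ σ).det = Equiv.Perm.sign (ρ.symm.trans σ) * a.det := by
      have : a.submatrix ρ σ = (a.submatrix id (ρ.symm.trans σ)).submatrix ρ ρ := by
        ext s t
        simp
      rw [this, Matrix.det_submatrix_equiv_self, Matrix.det_permute']
    rw [← hdet1, hdet2]
    exact Ideal.mul_mem_left _ _ ha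
  · have : (Matrix.of fun a b => z b (e a)).det = 0 := by
      rw [Function.Injective] at he
      push Not at he
      obtain ⟨a₁, a₂, h12, hne⟩ := he
      apply Matrix.det_zero_of_row_eq hne
      ext b
      simp [h12]
    rw [this]
    exact Ideal.zero_mem _

theorem span_minorSet_le_F {n : ℕ} (x : Fin n → M) (k : ℕ) :
    Ideal.span (minorSet R x (n - k)) ≤ F R x k := by
  apply Ideal.span_le.2
  rintro d ⟨z, e, hz, rfl⟩
  have hpq : (n - k) + (n - (n - k)) = n := by omega
  exact minor_mem_of_forall_det_mem hpq x (F R x k) (fun a ha => det_mem_F x k a ha) z e hz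

theorem F_eq_span_minorSet {n : ℕ} (x : Fin n → M) (k : ℕ) :
    F R x k = Ideal.span (minorSet R x (n - k)) :=
  le_antisymm (F_le_span_minorSet x k) (span_minorSet_le_F x k)

end Groth.Agent.Helper4.Fitting
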