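import Mathlib
import Groth.Agent.Lib.Helper4.Fitting2

set_option linter.unusedSectionVars false
set_option linter.style.haveILetI false

namespace Groth.Agent.Helper4.Fitting

open Matrix

universe u v

variable {R : Type u} [CommRing R] {M : Type v} [AddCommGroup M] [Module R M]

/-- the minor with rows `z b` and columns `e a` -/
def minorDet {n p : ℕ} (z : Fin p → (Fin n → R)) (e : Fin p → Fin n) : R :=
  (Matrix.of fun a b => z b (e a)).det

theorem minorDet_eq {n p : ℕ} (z : Fin p → (Fin n → R)) (e : Fin p → Fin n) :
    minorDet z e = (Matrix.of fun b a => z b (e a)).det := by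
  unfold minorDet
  rw [← Matrix.det_transpose]
  rfl

theorem minorDet_update {n p : ℕ} (z : Fin p → (Fin n → R)) (e : Fin p → Fin n) (t : Fin p)
    (v : Fin n → R) :
    minorDet (Function.update z t v) e =
      (Matrix.updateRow (Matrix.of fun b a => z b (e a)) t (v ∘ e)).det := by
  rw [minorDet_eq]
  congr 1
  ext b a
  by_cases h : b = t
  · subst h; simp
  · simp [h]

theorem minorDet_update_add {n p : ℕ} (z : Fin p → (Fin n → R)) (e : Fin p → Fin n) (t : Fin p)
    (v v' : Fin n → R) :
    minorDet (Function.update z t (v + v')) e =
      minorDet (Function.update z t v) e + minorDet (Function.update z t v') e := by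
  rw [minorDet_update, minorDet_update, minorDet_update, ← Matrix.det_updateRow_add]
  rfl

theorem minorDet_update_smul {n p : ℕ} (z : Fin p → (Fin n → R)) (e : Fin p → Fin n) (t : Fin p)
    (s : R) (v : Fin n → R) :
    minorDet (Function.update z t (s • v)) e = s * minorDet (Function.update z t v) e := by
  rw [minorDet_update, minorDet_update, ← Matrix.det_updateRow_smul]
  rfl

theorem minorDet_update_zero {n p : ℕ} (z : Fin p → (Fin n → R)) (e : Fin p → Fin n) (t : Fin p) :
    minorDet (Function.update z t 0) e = 0 := by
  have := minorDet_update_smul z e t 0 0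
  simpa using this

/-- multilinearity: minors of rows in `span W` lie in the ideal of minors of rows in `W`. -/
theorem minorDet_mem_span {n p : ℕ} (W : Set (Fin n → R)) (J : Ideal R) (e : Fin p → Fin n)
    (hJ : ∀ w : Fin p → (Fin n → R), (∀ b, w b ∈ W) → minorDet w e ∈ J)
    (z : Fin p → (Fin n → R)) (hz : ∀ b, z b ∈ Submodule.span R W) : minorDet z e ∈ J := by
  classical
  have key : ∀ S : Finset (Fin p), ∀ z : Fin p → (Fin n → R),
      (∀ b ∈ S, z b ∈ Submodule.span R W) → (∀ b, b ∉ S → z b ∈ W) → minorDet z e ∈ J := by
    intro S
    induction S using Finset.induction_on with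
    | empty =>
      intro z _ h2
      exact hJ z (fun b => h2 b (Finset.notMem_empty b))
    | insert t S ht ih =>
      intro z h1 h2
      have hzt : z t ∈ Submodule.span R W := h1 t (Finset.mem_insert_self t S)
      have main : ∀ v ∈ Submodule.span R W, minorDet (Function.update z t v) e ∈ J := by
        intro v hv
        refine Submodule.span_induction ?_ ?_ ?_ ?_ hv
        · intro w hw
          apply ih
          · intro b hb
            have hbt : b ≠ t := fun h => ht (h ▸ hb)
            rw [Function.update_of_ne hbt]
            exact h1 b (Finset.mem_insert_of_mem hb)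
          · intro b hb
            by_cases hbt : b = t
            · subst hbt
              rw [Function.update_self]; exact hw
            · rw [Function.update_of_ne hbt]
              apply h2
              simp [hbt, hb]
        · rw [minorDet_update_zero]; exact J.zero_mem
        · intro v v' _ _ h h'
          rw [minorDet_update_add]; exact J.add_mem h h'
        · intro s v _ h
          rw [minorDet_update_smul]; exact J.mul_mem_left _ h
      have := main (z t) hzt
      rwa [Function.update_eq_self] at this
  exact key Finset.univ z (fun b _ => hz b) (fun b hb => absurd (Finset.mem_univ b) hb)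

theorem minorSet_eq {n : ℕ} (x : Fin n → M) (p : ℕ) :
    minorSet R x p = {d | ∃ (z : Fin p → (Fin n → R)) (e : Fin p → Fin n),
      (∀ j, ∑ i, z j i • x i = 0) ∧ d = minorDet z e} := rfl

/-- the relation module of a tuple -/
def relModule (R : Type u) [CommRing R] {M : Type v} [AddCommGroup M] [Module R M] {n : ℕ}
    (x : Fin n → M) : Submodule R (Fin n → R) :=
  LinearMap.ker (Fintype.linearCombination R x)

theorem mem_relModule {n : ℕ} (x : Fin n → M) (z : Fin n → R) :
    z ∈ relModule R x ↔ ∑ i, z i • x i = 0 := by
  rw [relModule, LinearMap.mem_ker, Fintype.linearCombination_apply]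

/-- If `W` spans the relation module then the Fitting ideal is generated by minors with rows in `W` -/
theorem F_eq_span_of_span_eq {n : ℕ} (x : Fin n → M) (k : ℕ) (W : Set (Fin n → R))
    (hW : Submodule.span R W = relModule R x) :
    F R x k = Ideal.span {d | ∃ (w : Fin (n - k) → (Fin n → R)) (e : Fin (n - k) → Fin n),
      (∀ b, w b ∈ W) ∧ d = minorDet w e} := by
  rw [F_eq_span_minorSet]
  apply le_antisymm
  · apply Ideal.span_le.2
    rintro d ⟨z, e, hz, rfl⟩
    apply minorDet_mem_span W _ e
    · intro w hw
      exact Ideal.subset_span ⟨w, e, hw, rfl⟩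
    · intro b
      rw [hW, mem_relModule]
      exact hz b
  · apply Ideal.span_mono
    rintro d ⟨w, e, hw, rfl⟩
    refine ⟨w, e, fun j => ?_, rfl⟩
    rw [← mem_relModule, ← hW]
    exact Submodule.subset_span (hw j)

end Groth.Agent.Helper4.Fitting
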