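import Mathlib
import Groth.Agent.Lib.Helper4.Fitting3

set_option linter.unusedSectionVars false
set_option linter.style.haveILetI false

namespace Groth.Agent.Helper4.Fitting

open Matrix

universe u v

variable {R : Type u} [CommRing R] {M : Type v} [AddCommGroup M] [Module R M]

theorem ideal_eq_top_of_span {n : ℕ} (x : Fin n → M) (hx : Submodule.span R (Set.range x) = ⊤)
    (k : ℕ) (hk : n ≤ k) : Fitt.ideal R M k = ⊤ := by
  rw [ideal_eq_F x hx k, Ideal.eq_top_iff_one]
  have := det_mem_F (R := R) x k (1 : Matrix (Fin n) (Fin n) R) (by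
    intro i hi
    omega)
  simpa using this

theorem surjective_linearCombination {n : ℕ} (x : Fin n → M)
    (hx : Submodule.span R (Set.range x) = ⊤) :
    Function.Surjective (Fintype.linearCombination R x) := by
  rw [← LinearMap.range_eq_top, Fintype.range_linearCombination, hx]

theorem ideal_fg_of_finitePresentation [Module.FinitePresentation R M] (k : ℕ) :
    (Fitt.ideal R M k).FG := by
  classical
  obtain ⟨n, x, hx⟩ := Module.Finite.exists_fin (R := R) (M := M)
  have hfg : (relModule R x).FG :=
    Module.FinitePresentation.fg_ker (Fintype.linearCombination R x)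
      (surjective_linearCombination x hx)
  obtain ⟨W, hW⟩ := hfg
  rw [ideal_eq_F x hx k, F_eq_span_of_span_eq x k (W : Set (Fin n → R)) hW]
  apply Submodule.fg_span
  have hfin : {f : Fin (n - k) → (Fin n → R) | ∀ i, f i ∈ (W : Set (Fin n → R))}.Finite :=
    Set.Finite.pi' (fun _ => W.finite_toSet)
  refine Set.Finite.subset ((hfin.prod (Set.finite_univ (α := Fin (n - k) → Fin n))).image
    (fun we => minorDet we.1 we.2)) ?_
  rintro d ⟨w, e, hw, rfl⟩
  exact ⟨(w, e), ⟨fun b => hw b, Set.mem_univ _⟩, rfl⟩

theorem ideal_mono_of_surjective {M' : Type v} [AddCommGroup M'] [Module R M'] (f : M →ₗ[R] M')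
    (hf : Function.Surjective f) (k : ℕ) : Fitt.ideal R M k ≤ Fitt.ideal R M' k := by
  apply Ideal.span_le.2
  rintro d ⟨n, x, a, hx, ha, rfl⟩
  apply Ideal.subset_span
  refine ⟨n, f ∘ x, a, ?_, ?_, rfl⟩
  · rw [Set.range_comp, ← Submodule.map_span, hx, Submodule.map_top, LinearMap.range_eq_top.2 hf]
  · intro i hi
    have := congrArg f (ha i hi)
    simpa using this

end Groth.Agent.Helper4.Fitting
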