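import Mathlib
import Groth.Agent.Lib.Helper4.Fitting4

set_option linter.unusedSectionVars false
set_option linter.style.haveILetI false

namespace Groth.Agent.Helper4.Fitting

open Matrix

universe u v

variable {R : Type u} [CommRing R] {M : Type v} [AddCommGroup M] [Module R M]

/-- Cramer: a square relation matrix has determinant killing the tuple -/
theorem det_smul_eq_zero {n : ℕ} (x : Fin n → M) (a : Matrix (Fin n) (Fin n) R)
    (ha : ∀ i, ∑ j, a i j • x j = 0) (l : Fin n) : a.det • x l = 0 := by
  classical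
  have h1 : a.det • x l = ∑ j, (a.adjugate * a) l j • x j := by
    rw [Matrix.adjugate_mul]
    simp [Matrix.smul_apply, Matrix.one_apply]
  rw [h1]
  simp only [Matrix.mul_apply, Finset.sum_smul, mul_smul]
  rw [Finset.sum_comm]
  apply Finset.sum_eq_zero
  intro i _
  rw [← Finset.smul_sum, ha i, smul_zero]

theorem smul_eq_zero_of_forall {n : ℕ} (x : Fin n → M) (hx : Submodule.span R (Set.range x) = ⊤)
    (r : R) (h : ∀ l, r • x l = 0) (m : M) : r • m = 0 := by
  have hm : m ∈ Submodule.span R (Set.range x) := by rw [hx]; trivial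
  refine Submodule.span_induction ?_ ?_ ?_ ?_ hm
  · rintro _ ⟨l, rfl⟩; exact h l
  · exact smul_zero r
  · intro a b _ _ ha hb
    rw [smul_add, ha, hb, add_zero]
  · intro s a _ ha
    rw [smul_comm, ha, smul_zero]

theorem ideal_zero_le_annihilator [Module.Finite R M] :
    Fitt.ideal R M 0 ≤ Module.annihilator R M := by
  obtain ⟨n, x, hx⟩ := Module.Finite.exists_fin (R := R) (M := M)
  rw [ideal_eq_F x hx 0, F_le_iff]
  intro a ha
  rw [Module.mem_annihilator]
  apply smul_eq_zero_of_forall x hx
  apply det_smul_eq_zero x a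
  intro i
  exact ha i (by have := i.2; omega)

theorem pow_mem_ideal_zero_of_mem_annihilator {n : ℕ} (x : Fin n → M)
    (hx : Submodule.span R (Set.range x) = ⊤) (r : R) (hr : r ∈ Module.annihilator R M) :
    r ^ n ∈ Fitt.ideal R M 0 := by
  classical
  rw [ideal_eq_F x hx 0]
  have := det_mem_F (R := R) x 0 (r • (1 : Matrix (Fin n) (Fin n) R)) (by
    intro i _
    rw [Finset.sum_eq_single i]
    · simp only [Matrix.smul_apply, Matrix.one_apply_eq, smul_eq_mul, mul_one]
      exact (Module.mem_annihilator.1 hr) _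
    · intro j _ hji
      simp [Matrix.one_apply_ne' hji]
    · intro h; exact absurd (Finset.mem_univ i) h)
  simpa using this

theorem zeroLocus_ideal_zero [Module.Finite R M] :
    PrimeSpectrum.zeroLocus (Fitt.ideal R M 0 : Set R) = Module.support R M := by
  rw [Module.support_eq_zeroLocus]
  apply le_antisymm
  · intro p hp
    rw [PrimeSpectrum.mem_zeroLocus] at hp ⊢
    obtain ⟨n, x, hx⟩ := Module.Finite.exists_fin (R := R) (M := M)
    intro r hr
    have h1 := hp (pow_mem_ideal_zero_of_mem_annihilator x hx r hr)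
    exact p.2.mem_of_pow_mem n h1
  · exact PrimeSpectrum.zeroLocus_anti_mono ideal_zero_le_annihilator

theorem ideal_zero_quotient (I : Ideal R) : Fitt.ideal R (R ⧸ I) 0 = I := by
  have hx : Submodule.span R (Set.range (fun _ : Fin 1 => (1 : R ⧸ I))) = ⊤ := by
    rw [eq_top_iff]
    intro y _
    obtain ⟨r, rfl⟩ := Ideal.Quotient.mk_surjective y
    have : (Ideal.Quotient.mk I r) = r • (1 : R ⧸ I) := by
      rw [Algebra.smul_def, mul_one]; rfl
    rw [this]
    exact Submodule.smul_mem _ _ (Submodule.subset_span ⟨0, rfl⟩)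
  rw [ideal_eq_F _ hx 0]
  apply le_antisymm
  · rw [F_le_iff]
    intro a ha
    have h0 := ha 0 (by simp)
    rw [Matrix.det_fin_one]
    simp only [Finset.univ_unique, Fin.default_eq_zero, Finset.sum_singleton] at h0
    rw [← Ideal.Quotient.eq_zero_iff_mem]
    have : (Ideal.Quotient.mk I (a 0 0)) = a 0 0 • (1 : R ⧸ I) := by
      rw [Algebra.smul_def, mul_one]; rfl
    rw [this]; exact h0
  · intro r hr
    have := det_mem_F (R := R) (fun _ : Fin 1 => (1 : R ⧸ I)) 0 (Matrix.of fun _ _ => r) (by
      intro i _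
      simp only [Finset.univ_unique, Fin.default_eq_zero, Finset.sum_singleton, Matrix.of_apply]
      rw [Algebra.smul_def, mul_one]
      exact Ideal.Quotient.eq_zero_iff_mem.2 hr)
    simpa [Matrix.det_fin_one] using this

end Groth.Agent.Helper4.Fitting
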