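import Mathlib
import Groth.Agent.Lib.Helper4.Fitting5

set_option linter.unusedSectionVars false
set_option linter.style.haveILetI false

namespace Groth.Agent.Helper4.Fitting

open Matrix TensorProduct

universe u v

variable {R : Type u} [CommRing R] {M : Type v} [AddCommGroup M] [Module R M]
variable (R' : Type u) [CommRing R'] [Algebra R R']

theorem span_one_tmul_eq_top {n : ℕ} (x : Fin n → M) (hx : Submodule.span R (Set.range x) = ⊤) :
    Submodule.span R' (Set.range (fun i => (1 : R') ⊗ₜ[R] x i)) = ⊤ := by
  have h1 := Submodule.baseChange_span (R := R) (A := R') (M := M) (Set.range x)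
  rw [hx, Submodule.baseChange_top] at h1
  rw [h1]
  congr 1
  ext y
  constructor
  · rintro ⟨i, rfl⟩; exact ⟨x i, ⟨i, rfl⟩, rfl⟩
  · rintro ⟨_, ⟨i, rfl⟩, rfl⟩; exact ⟨i, rfl⟩

/-- relations of the base-changed tuple are spanned by the images of the relations -/
theorem relModule_baseChange {n : ℕ} (x : Fin n → M) (hx : Submodule.span R (Set.range x) = ⊤) :
    Submodule.span R' ((fun z : Fin n → R => fun i => algebraMap R R' (z i)) '' (relModule R x)) =
      relModule R' (fun i => (1 : R') ⊗ₜ[R] x i) := by
  classical
  apply le_antisymm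
  · apply Submodule.span_le.2
    rintro _ ⟨z, hz, rfl⟩
    rw [SetLike.mem_coe, mem_relModule] at hz
    rw [SetLike.mem_coe, mem_relModule]
    have : ∀ i, algebraMap R R' (z i) • ((1 : R') ⊗ₜ[R] x i) = (1 : R') ⊗ₜ[R] (z i • x i) := by
      intro i
      rw [TensorProduct.smul_tmul', smul_eq_mul, mul_one, TensorProduct.tmul_smul,
        TensorProduct.smul_tmul', Algebra.smul_def, mul_one]
    simp only [this]
    rw [← TensorProduct.tmul_sum, hz, TensorProduct.tmul_zero]
  · intro z' hz'
    rw [mem_relModule] at hz'
    set g : (Fin n → R) →ₗ[R] M := Fintype.linearCombination R x with hg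
    have hgs : Function.Surjective g := surjective_linearCombination x hx
    set K := LinearMap.ker g
    have hex := lTensor_exact R' (LinearMap.exact_subtype_ker_map g) hgs
    let ψ := TensorProduct.piScalarRight R R' R' (Fin n)
    have h0 : (g.lTensor R') (ψ.symm z') = 0 := by
      have hz'' : z' = ∑ i, Pi.single i (z' i) := by
        ext j
        simp [Finset.sum_apply, Pi.single_apply]
      rw [hz'', map_sum, map_sum]
      simp only [ψ, TensorProduct.piScalarRight_symm_single, LinearMap.lTensor_tmul]
      rw [← hz']
      apply Finset.sum_congr rfl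
      intro i _
      have : g (Pi.single i 1) = x i := by
        rw [hg, Fintype.linearCombination_apply_single, one_smul]
      rw [this, TensorProduct.smul_tmul', smul_eq_mul, mul_one]
    obtain ⟨t, ht⟩ := (hex _).1 h0
    have key : ∀ t : R' ⊗[R] K, ψ ((K.subtype.lTensor R') t) ∈
        Submodule.span R' ((fun z : Fin n → R => fun i => algebraMap R R' (z i)) '' (relModule R x)) := by
      intro t
      induction t using TensorProduct.induction_on with
      | zero => simp
      | tmul r' k =>
        rw [LinearMap.lTensor_tmul]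
        have : ψ (r' ⊗ₜ[R] (K.subtype k)) = r' • (fun i => algebraMap R R' ((k : Fin n → R) i)) := by
          ext i
          simp only [ψ, TensorProduct.piScalarRight_apply, TensorProduct.piScalarRightHom_tmul,
            Submodule.subtype_apply, Pi.smul_apply, smul_eq_mul]
          rw [Algebra.smul_def, mul_comm]
        rw [this]
        apply Submodule.smul_mem
        apply Submodule.subset_span
        exact ⟨k, k.2, rfl⟩
      | add t₁ t₂ h₁ h₂ =>
        rw [map_add, map_add]
        exact Submodule.add_mem _ h₁ h₂
    have := key t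
    rwa [ht, LinearEquiv.apply_symm_apply] at this

theorem minorDet_map {n p : ℕ} (w : Fin p → (Fin n → R)) (e : Fin p → Fin n) :
    minorDet (fun b => fun i => algebraMap R R' (w b i)) e = algebraMap R R' (minorDet w e) := by
  unfold minorDet
  rw [RingHom.map_det]
  rfl

theorem ideal_baseChange [Module.Finite R M] (k : ℕ) :
    Fitt.ideal R' (R' ⊗[R] M) k = (Fitt.ideal R M k).map (algebraMap R R') := by
  obtain ⟨n, x, hx⟩ := Module.Finite.exists_fin (R := R) (M := M)
  rw [ideal_eq_F (R := R') _ (span_one_tmul_eq_top R' x hx) k,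
    F_eq_span_of_span_eq _ k _ (relModule_baseChange R' x hx), ideal_eq_F x hx k,
    F_eq_span_minorSet, Ideal.map_span]
  congr 1
  ext d
  constructor
  · rintro ⟨w, e, hw, rfl⟩
    choose z hz1 hz2 using hw
    have : w = fun b => fun i => algebraMap R R' (z b i) := by
      funext b
      exact (hz2 b).symm
    rw [this, minorDet_map]
    exact ⟨minorDet z e, ⟨z, e, fun j => (mem_relModule x (z j)).1 (hz1 j), rfl⟩, rfl⟩
  · rintro ⟨_, ⟨z, e, hz, rfl⟩, rfl⟩
    refine ⟨fun b => fun i => algebraMap R R' (z b i), e, fun b => ?_, ?_⟩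
    · exact ⟨z b, (mem_relModule x (z b)).2 (hz b), rfl⟩
    · rw [minorDet_map]; rfl

end Groth.Agent.Helper4.Fitting
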