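import Mathlib
import Groth.Agent.Lib.Helper4.Fitting6

set_option linter.unusedSectionVars false
set_option linter.style.haveILetI false

namespace Groth.Agent.Helper4.Fitting

open Matrix TensorProduct

universe u v

variable {R : Type u} [CommRing R] {M : Type v} [AddCommGroup M] [Module R M]

theorem minorDet_update_col {n p : ℕ} (z : Fin p → (Fin n → R)) (e : Fin p → Fin n) (a : Fin p)
    (i : Fin n) :
    minorDet z (Function.update e a i) =
      ∑ b, (Matrix.of fun a' b => z b (e a') : Matrix (Fin p) (Fin p) R)ᵀ.adjugate a b * z b i := by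
  classical
  have h1 : minorDet z (Function.update e a i) =
      ((Matrix.of fun a' b => z b (e a') : Matrix (Fin p) (Fin p) R).updateRow a
        (fun b => z b i)).det := by
    unfold minorDet
    congr 1
    ext a' b
    by_cases h : a' = a
    · subst h; simp
    · simp [h]
  rw [h1, ← Matrix.cramer_transpose_apply, Matrix.cramer_eq_adjugate_mulVec]
  rfl

/-- Cramer's rule for relations: the minors give relations -/
theorem cramer_relation {n p : ℕ} (x : Fin n → M) (z : Fin p → (Fin n → R))
    (hz : ∀ b, ∑ i, z b i • x i = 0) (e : Fin p → Fin n) (a : Fin p) :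
    ∑ i, minorDet z (Function.update e a i) • x i = 0 := by
  simp only [minorDet_update_col, Finset.sum_smul, mul_smul]
  rw [Finset.sum_comm]
  apply Finset.sum_eq_zero
  intro b _
  rw [← Finset.smul_sum, hz b, smul_zero]

theorem minorDet_eq_zero_of_not_injective {n p : ℕ} (z : Fin p → (Fin n → R)) (e : Fin p → Fin n)
    (he : ¬ Function.Injective e) : minorDet z e = 0 := by
  rw [Function.Injective] at he
  push Not at he
  obtain ⟨a₁, a₂, h12, hne⟩ := he
  apply Matrix.det_zero_of_row_eq hne
  ext b
  simp [h12]

/-- the minor kills the module modulo the span of the complementary generators -/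
theorem minorDet_smul_mem {n p : ℕ} (x : Fin n → M) (z : Fin p → (Fin n → R))
    (hz : ∀ b, ∑ i, z b i • x i = 0) (e : Fin p → Fin n) (i₀ : Fin n) :
    minorDet z e • x i₀ ∈ Submodule.span R (x '' (Set.range e)ᶜ) := by
  classical
  by_cases hi₀ : i₀ ∈ Set.range e
  · obtain ⟨a, rfl⟩ := hi₀
    by_cases he : Function.Injective e
    · have h := cramer_relation x z hz e a
      rw [← Finset.add_sum_erase _ _ (Finset.mem_univ (e a)), Function.update_eq_self] at h
      rw [eq_neg_of_add_eq_zero_left h]
      apply Submodule.neg_mem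
      apply Submodule.sum_mem
      intro i hi
      by_cases hir : i ∈ Set.range e
      · obtain ⟨a', rfl⟩ := hir
        have hne : a' ≠ a := by
          intro h'
          rw [h'] at hi
          simp at hi
        have : minorDet z (Function.update e a (e a')) = 0 := by
          apply minorDet_eq_zero_of_not_injective
          intro hinj
          have : Function.update e a (e a') a = Function.update e a (e a') a' := by
            rw [Function.update_self, Function.update_of_ne hne]
          exact hne (hinj this).symm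
        rw [this, zero_smul]
        exact Submodule.zero_mem _
      · apply Submodule.smul_mem
        apply Submodule.subset_span
        exact ⟨i, hir, rfl⟩
    · rw [minorDet_eq_zero_of_not_injective z e he, zero_smul]
      exact Submodule.zero_mem _
  · apply Submodule.smul_mem
    apply Submodule.subset_span
    exact ⟨i₀, hi₀, rfl⟩

theorem minorDet_smul_mem' {n p : ℕ} (x : Fin n → M) (hx : Submodule.span R (Set.range x) = ⊤)
    (z : Fin p → (Fin n → R))
    (hz : ∀ b, ∑ i, z b i • x i = 0) (e : Fin p → Fin n) (m : M) :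
    minorDet z e • m ∈ Submodule.span R (x '' (Set.range e)ᶜ) := by
  have hm : m ∈ Submodule.span R (Set.range x) := by rw [hx]; trivial
  refine Submodule.span_induction ?_ ?_ ?_ ?_ hm
  · rintro _ ⟨i, rfl⟩
    exact minorDet_smul_mem x z hz e i
  · rw [smul_zero]; exact Submodule.zero_mem _
  · intro a b _ _ ha hb
    rw [smul_add]; exact Submodule.add_mem _ ha hb
  · intro s a _ ha
    rw [smul_comm]; exact Submodule.smul_mem _ _ ha

/-- a set of at most `k` elements is the range of a `Fin k`-tuple together with zero -/
theorem exists_tuple_of_ncard_le {k : ℕ} (T : Set M) (hT : T.Finite) (hk : T.ncard ≤ k) :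
    ∃ y : Fin k → M, T ⊆ Set.range y ∧ Set.range y ⊆ T ∪ {0} := by
  classical
  obtain ⟨f, hf⟩ : ∃ f : Fin T.ncard → M, Set.range f = T := by
    haveI : Finite T := hT
    have e : T ≃ Fin T.ncard := Finite.equivFinOfCardEq (Nat.card_coe_set_eq T)
    refine ⟨fun i => (e.symm i : M), ?_⟩
    ext m
    constructor
    · rintro ⟨i, rfl⟩; exact (e.symm i).2
    · intro hm; exact ⟨e ⟨m, hm⟩, by simp⟩
  refine ⟨fun l => if h : (l : ℕ) < T.ncard then f ⟨l, h⟩ else 0, ?_, ?_⟩
  · intro m hm
    rw [← hf] at hm
    obtain ⟨i, rfl⟩ := hm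
    exact ⟨⟨i, lt_of_lt_of_le i.2 hk⟩, by simp⟩
  · rintro _ ⟨l, rfl⟩
    by_cases h : (l : ℕ) < T.ncard
    · simp only [h, dite_true]
      left
      have : f ⟨l, h⟩ ∈ Set.range f := ⟨_, rfl⟩
      rw [hf] at this
      exact this
    · simp only [h, dite_false]
      right; rfl

/-- (A): if `Fit_k(M) ⊄ p` there are `f ∉ p` and `k` elements spanning `f • M` -/
theorem exists_smul_mem_span_of_not_le {n : ℕ} (x : Fin n → M)
    (hx : Submodule.span R (Set.range x) = ⊤) (k : ℕ) (p : Ideal R)
    (hp : ¬ Fitt.ideal R M k ≤ p) :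
    ∃ f : R, f ∉ p ∧ f ∈ Fitt.ideal R M k ∧ ∃ y : Fin k → M, ∀ m : M,
      f • m ∈ Submodule.span R (Set.range y) := by
  classical
  rw [ideal_eq_F x hx k, F_eq_span_minorSet, Ideal.span_le] at hp
  rw [Set.not_subset] at hp
  obtain ⟨d, ⟨z, e, hz, rfl⟩, hd⟩ := hp
  have hdm : minorDet z e ∈ Fitt.ideal R M k := by
    rw [ideal_eq_F x hx k, F_eq_span_minorSet]
    exact Ideal.subset_span ⟨z, e, hz, rfl⟩
  refine ⟨minorDet z e, hd, hdm, ?_⟩
  have he : Function.Injective e := by
    by_contra h
    apply hd
    change minorDet z e ∈ p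
    rw [minorDet_eq_zero_of_not_injective z e h]
    exact p.zero_mem
  -- the complement of the range of `e` has at most `k` elements
  set T : Set M := x '' (Set.range e)ᶜ with hT
  have hTfin : T.Finite := Set.toFinite _
  have hcard : T.ncard ≤ k := by
    calc T.ncard ≤ ((Set.range e)ᶜ).ncard := Set.ncard_image_le (Set.toFinite _)
      _ = n - (n - k) := by
        rw [Set.ncard_compl, Set.ncard_range_of_injective he]
        simp
      _ ≤ k := by omega
  obtain ⟨y, hy1, hy2⟩ := exists_tuple_of_ncard_le T hTfin hcard
  refine ⟨y, fun m => ?_⟩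
  exact Submodule.span_mono hy1 (minorDet_smul_mem' x hx z hz e m)

end Groth.Agent.Helper4.Fitting
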