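import Mathlib
import Groth.Agent.Lib.Helper4.Fitting7

set_option linter.unusedSectionVars false
set_option linter.style.haveILetI false

namespace Groth.Agent.Helper4.Fitting

open Matrix TensorProduct

universe u v

variable {R : Type u} [CommRing R] {M : Type v} [AddCommGroup M] [Module R M]

theorem ideal_congr {M' : Type v} [AddCommGroup M'] [Module R M'] (e : M ≃ₗ[R] M') (k : ℕ) :
    Fitt.ideal R M k = Fitt.ideal R M' k :=
  le_antisymm (ideal_mono_of_surjective e.toLinearMap e.surjective k)
    (ideal_mono_of_surjective e.symm.toLinearMap e.symm.surjective k)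

theorem ideal_localizedModule (S : Submonoid R) [Module.Finite R M] (k : ℕ) :
    Fitt.ideal (Localization S) (LocalizedModule S M) k =
      (Fitt.ideal R M k).map (algebraMap R (Localization S)) := by
  rw [ideal_congr (LocalizedModule.equivTensorProduct S M) k, ideal_baseChange]

/-- (B) -/
theorem span_mk_eq_top (S : Submonoid R) (f : R) (hf : f ∈ S) {k : ℕ} (y : Fin k → M)
    (hy : ∀ m : M, f • m ∈ Submodule.span R (Set.range y)) :
    Submodule.span (Localization S) (Set.range fun l => LocalizedModule.mk (y l) (1 : S)) = ⊤ := by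
  rw [eq_top_iff]
  intro w _
  induction w using LocalizedModule.induction_on with
  | h m s =>
    have h1 : LocalizedModule.mk m s =
        (Localization.mk 1 (s * ⟨f, hf⟩)) • LocalizedModule.mk (f • m) (1 : S) := by
      rw [LocalizedModule.mk_smul_mk, one_smul, mul_one]
      have : f • m = (⟨f, hf⟩ : S) • m := rfl
      rw [this, LocalizedModule.mk_cancel_common_right]
    rw [h1]
    apply Submodule.smul_mem
    have h2 : Submodule.map (LocalizedModule.mkLinearMap S M) (Submodule.span R (Set.range y)) ≤
        (Submodule.span (Localization S)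
          (Set.range fun l => LocalizedModule.mk (y l) (1 : S))).restrictScalars R := by
      rw [Submodule.map_span, Submodule.span_le]
      rintro _ ⟨_, ⟨l, rfl⟩, rfl⟩
      exact Submodule.subset_span ⟨l, rfl⟩
    exact h2 ⟨f • m, hy m, rfl⟩

/-- (C) -/
theorem exists_mem_of_span_localizedModule (S : Submonoid R) [Module.Finite R M] {k : ℕ}
    (g : Fin k → LocalizedModule S M)
    (hg : Submodule.span (Localization S) (Set.range g) = ⊤) :
    ∃ s ∈ S, s ∈ Fitt.ideal R M k := by
  have h1 : Fitt.ideal (Localization S) (LocalizedModule S M) k = ⊤ :=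
    ideal_eq_top_of_span g hg k le_rfl
  rw [ideal_localizedModule] at h1
  by_contra hcon
  push Not at hcon
  have := (IsLocalization.map_algebraMap_ne_top_iff_disjoint S (Localization S)
    (Fitt.ideal R M k)).2 (by
      rw [Set.disjoint_left]
      intro s hs hs'
      exact hcon s hs hs')
  exact this h1

/-- for a linearly independent generating tuple of size `n > k`, `Fit_k = ⊥` -/
theorem ideal_eq_bot_of_linearIndependent {n : ℕ} (x : Fin n → M)
    (hx : Submodule.span R (Set.range x) = ⊤) (hli : LinearIndependent R x) (k : ℕ) (hk : k < n) :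
    Fitt.ideal R M k = ⊥ := by
  rw [ideal_eq_F x hx k, eq_bot_iff, F_le_iff]
  intro a ha
  have h0 : (0 : ℕ) < n - k := by omega
  have hn : 0 < n := by omega
  have hrow : ∀ j, a ⟨0, hn⟩ j = 0 := by
    have := ha ⟨0, hn⟩ h0
    exact (Fintype.linearIndependent_iff.1 hli) _ this
  rw [Ideal.mem_bot]
  exact Matrix.det_eq_zero_of_row_eq_zero ⟨0, hn⟩ hrow

end Groth.Agent.Helper4.Fitting
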