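import Mathlib
import Groth.Agent.Lib.Helper4.Fitting8

set_option linter.unusedSectionVars false
set_option linter.style.haveILetI false

namespace Groth.Agent.Helper4.Fitting

open Matrix TensorProduct

universe u v

variable {R : Type u} [CommRing R] {M : Type v} [AddCommGroup M] [Module R M]

theorem not_le_iff_exists_span_localizedModule [Module.Finite R M] (k : ℕ) (S : Submonoid R)
    (p : Ideal R) [p.IsPrime] (hS : ∀ s ∈ S, s ∉ p) :
    (∃ g : Fin k → LocalizedModule S M, Submodule.span (Localization S) (Set.range g) = ⊤) →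
      ¬ Fitt.ideal R M k ≤ p := by
  rintro ⟨g, hg⟩ hle
  obtain ⟨s, hs, hs'⟩ := exists_mem_of_span_localizedModule S g hg
  exact hS s hs (hle hs')

theorem not_le_iff_atPrime [Module.Finite R M] (k : ℕ) (p : Ideal R) [p.IsPrime] :
    ¬ Fitt.ideal R M k ≤ p ↔
      ∃ g : Fin k → LocalizedModule p.primeCompl M,
        Submodule.span (Localization.AtPrime p) (Set.range g) = ⊤ := by
  constructor
  · intro h
    obtain ⟨n, x, hx⟩ := Module.Finite.exists_fin (R := R) (M := M)
    obtain ⟨f, hf, -, y, hy⟩ := exists_smul_mem_span_of_not_le x hx k p h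
    exact ⟨_, span_mk_eq_top p.primeCompl f hf y hy⟩
  · exact not_le_iff_exists_span_localizedModule k p.primeCompl p (fun s hs => hs)

theorem not_le_iff_away [Module.Finite R M] (k : ℕ) (p : Ideal R) [p.IsPrime] :
    ¬ Fitt.ideal R M k ≤ p ↔ ∃ f : R, f ∉ p ∧
      ∃ g : Fin k → LocalizedModule (Submonoid.powers f) M,
        Submodule.span (Localization.Away f) (Set.range g) = ⊤ := by
  constructor
  · intro h
    obtain ⟨n, x, hx⟩ := Module.Finite.exists_fin (R := R) (M := M)
    obtain ⟨f, hf, -, y, hy⟩ := exists_smul_mem_span_of_not_le x hx k p h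
    exact ⟨f, hf, _, span_mk_eq_top (Submonoid.powers f) f (Submonoid.mem_powers f) y hy⟩
  · rintro ⟨f, hf, hg⟩
    apply not_le_iff_exists_span_localizedModule k (Submonoid.powers f) p _ hg
    rintro _ ⟨N, rfl⟩ hmem
    exact hf (Ideal.IsPrime.mem_of_pow_mem inferInstance N hmem)

/-- Fitting ideals over a field -/
theorem ideal_eq_top_iff_of_field (K : Type u) [Field K] (V : Type v) [AddCommGroup V] [Module K V]
    [Module.Finite K V] (k : ℕ) : Fitt.ideal K V k = ⊤ ↔ Module.finrank K V ≤ k := by
  let b := Module.finBasis K V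
  constructor
  · intro h
    by_contra hlt
    push Not at hlt
    have := ideal_eq_bot_of_linearIndependent (R := K) b b.span_eq b.linearIndependent k hlt
    rw [this] at h
    exact bot_ne_top h
  · intro h
    exact ideal_eq_top_of_span b b.span_eq k h

theorem map_residueField_eq_top_iff (I : Ideal R) (p : Ideal R) [p.IsPrime] :
    I.map (algebraMap R p.ResidueField) = ⊤ ↔ ¬ I ≤ p := by
  constructor
  · intro h hle
    have : I.map (algebraMap R p.ResidueField) ≤ ⊥ := by
      rw [Ideal.map_le_iff_le_comap]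
      intro r hr
      rw [Ideal.mem_comap, Ideal.mem_bot, Ideal.algebraMap_residueField_eq_zero]
      exact hle hr
    rw [h] at this
    exact bot_ne_top (le_bot_iff.1 this).symm
  · intro h
    rw [SetLike.not_le_iff_exists] at h
    obtain ⟨r, hr, hrp⟩ := h
    have hne : algebraMap R p.ResidueField r ≠ 0 := by
      rw [Ne, Ideal.algebraMap_residueField_eq_zero]
      exact hrp
    exact Ideal.eq_top_of_isUnit_mem _ (Ideal.mem_map_of_mem _ hr) (isUnit_iff_ne_zero.2 hne)

theorem not_le_iff_finrank [Module.Finite R M] (k : ℕ) (p : Ideal R) [p.IsPrime] :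
    ¬ Fitt.ideal R M k ≤ p ↔
      Module.finrank p.ResidueField (p.ResidueField ⊗[R] M) ≤ k := by
  rw [← map_residueField_eq_top_iff, ← ideal_baseChange, ideal_eq_top_iff_of_field]

end Groth.Agent.Helper4.Fitting
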