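import Mathlib
import Groth.Agent.Lib.Helper4.Fitting9

set_option linter.unusedSectionVars false
set_option linter.style.haveILetI false

namespace Groth.Agent.Helper4.Fitting

open Matrix TensorProduct

universe u v

variable {R : Type u} [CommRing R] {M : Type v} [AddCommGroup M] [Module R M]

theorem nontrivial_away_of_notMem (p : Ideal R) [p.IsPrime] (f : R) (hf : f ∉ p) :
    Nontrivial (Localization.Away f) := by
  rw [← not_subsingleton_iff_nontrivial,
    IsLocalization.subsingleton_iff (M := Submonoid.powers f)]
  rintro ⟨N, hN⟩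
  apply hf
  apply Ideal.IsPrime.mem_of_pow_mem inferInstance N
  have hN' : f ^ N = 0 := hN
  rw [hN']
  exact p.zero_mem

/-- an ideal not contained in any prime is `⊤` -/
theorem eq_top_of_forall_prime_not_le (I : Ideal R) (h : ∀ p : Ideal R, p.IsPrime → ¬ I ≤ p) :
    I = ⊤ := by
  by_contra hne
  obtain ⟨m, hm, hle⟩ := Ideal.exists_le_maximal I hne
  exact h m hm.isPrime hle

/-- coordinates of relations lie in `Fit_{n-1}` -/
theorem coord_mem_ideal_of_relation {n : ℕ} (x : Fin n → M)
    (hx : Submodule.span R (Set.range x) = ⊤) (k : ℕ) (hk : n - k = 1) (c : Fin n → R)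
    (hc : ∑ i, c i • x i = 0) (j : Fin n) : c j ∈ Fitt.ideal R M k := by
  rw [ideal_eq_F x hx k, F_eq_span_minorSet]
  generalize n - k = p at hk
  subst hk
  apply Ideal.subset_span
  refine ⟨fun _ => c, fun _ => j, fun _ => hc, ?_⟩
  rw [Matrix.det_fin_one]
  rfl

theorem free_of_ideal_conditions [Module.Finite R M] (r : ℕ)
    (h1 : ∀ k, k < r → Fitt.ideal R M k = ⊥) (h2 : ∀ k, r ≤ k → Fitt.ideal R M k = ⊤)
    (p : Ideal R) [p.IsPrime] : ∃ f : R, f ∉ p ∧
      Module.Free (Localization.Away f) (LocalizedModule (Submonoid.powers f) M) ∧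
        Module.finrank (Localization.Away f) (LocalizedModule (Submonoid.powers f) M) = r := by
  have hnle : ¬ Fitt.ideal R M r ≤ p := by
    rw [h2 r le_rfl]
    intro h
    exact (Ideal.IsPrime.ne_top inferInstance) (top_le_iff.1 h)
  obtain ⟨n, x, hx⟩ := Module.Finite.exists_fin (R := R) (M := M)
  obtain ⟨f, hf, -, y, hy⟩ := exists_smul_mem_span_of_not_le x hx r p hnle
  refine ⟨f, hf, ?_⟩
  haveI : Nontrivial (Localization.Away f) := nontrivial_away_of_notMem p f hf
  set g : Fin r → LocalizedModule (Submonoid.powers f) M :=
    fun l => LocalizedModule.mk (y l) (1 : Submonoid.powers f) with hg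
  have hspan : Submodule.span (Localization.Away f) (Set.range g) = ⊤ :=
    span_mk_eq_top (Submonoid.powers f) f (Submonoid.mem_powers f) y hy
  have hli : LinearIndependent (Localization.Away f) g := by
    rw [Fintype.linearIndependent_iff]
    intro c hc j
    have hr : 0 < r := Fin.pos j
    have hmem := coord_mem_ideal_of_relation (R := Localization.Away f) g hspan (r - 1)
      (by omega) c hc j
    have hbot : Fitt.ideal (Localization.Away f) (LocalizedModule (Submonoid.powers f) M) (r - 1)
        = ⊥ := by
      have := ideal_localizedModule (M := M) (Submonoid.powers f) (r - 1)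
      rw [this, h1 (r - 1) (by omega), Ideal.map_bot]
    rw [hbot, Ideal.mem_bot] at hmem
    exact hmem
  let b : Module.Basis (Fin r) (Localization.Away f) (LocalizedModule (Submonoid.powers f) M) :=
    Module.Basis.mk hli (by rw [hspan])
  refine ⟨Module.Free.of_basis b, ?_⟩
  rw [Module.finrank_eq_card_basis b, Fintype.card_fin]

theorem ideal_conditions_of_free [Module.Finite R M] (r : ℕ)
    (h : ∀ (p : Ideal R) [p.IsPrime], ∃ f : R, f ∉ p ∧
      Module.Free (Localization.Away f) (LocalizedModule (Submonoid.powers f) M) ∧
        Module.finrank (Localization.Away f) (LocalizedModule (Submonoid.powers f) M) = r) :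
    (∀ k, k < r → Fitt.ideal R M k = ⊥) ∧ (∀ k, r ≤ k → Fitt.ideal R M k = ⊤) := by
  have key : ∀ (p : Ideal R) [p.IsPrime], ∃ f : R, f ∉ p ∧
      (∀ k, k < r → (Fitt.ideal R M k).map (algebraMap R (Localization.Away f)) = ⊥) ∧
      (∀ k, r ≤ k → (Fitt.ideal R M k).map (algebraMap R (Localization.Away f)) = ⊤) := by
    intro p _
    obtain ⟨f, hf, hfree, hrank⟩ := h p
    refine ⟨f, hf, ?_⟩
    haveI : Nontrivial (Localization.Away f) := nontrivial_away_of_notMem p f hf
    let b := Module.finBasis (Localization.Away f) (LocalizedModule (Submonoid.powers f) M)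
    constructor
    · intro k hk
      rw [← ideal_localizedModule]
      exact ideal_eq_bot_of_linearIndependent b b.span_eq b.linearIndependent k (by rw [hrank]; exact hk)
    · intro k hk
      rw [← ideal_localizedModule]
      exact ideal_eq_top_of_span b b.span_eq k (by rw [hrank]; exact hk)
  constructor
  · intro k hk
    rw [eq_bot_iff]
    intro d hd
    rw [Ideal.mem_bot]
    -- the annihilator of `d` is not contained in any prime
    have hann : (Ideal.span {d}).annihilator = ⊤ := by
      apply eq_top_of_forall_prime_not_le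
      intro p hp hle
      obtain ⟨f, hf, hbot, -⟩ := key p
      have h0 : algebraMap R (Localization.Away f) d = 0 := by
        have := Ideal.mem_map_of_mem (algebraMap R (Localization.Away f)) hd
        rw [hbot k hk, Ideal.mem_bot] at this
        exact this
      rw [IsLocalization.map_eq_zero_iff (Submonoid.powers f)] at h0
      obtain ⟨⟨_, N, rfl⟩, hN⟩ := h0
      have : f ^ N ∈ (Ideal.span {d}).annihilator := by
        rw [Submodule.mem_annihilator_span_singleton]
        exact hN
      exact hf (Ideal.IsPrime.mem_of_pow_mem hp N (hle this))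
    have : (1 : R) ∈ (Ideal.span {d}).annihilator := by rw [hann]; trivial
    rw [Submodule.mem_annihilator_span_singleton] at this
    simpa using this
  · intro k hk
    apply eq_top_of_forall_prime_not_le
    intro p hp hle
    obtain ⟨f, hf, -, htop⟩ := key p
    have := htop k hk
    by_contra _
    have hdis := (IsLocalization.map_algebraMap_ne_top_iff_disjoint (Submonoid.powers f)
      (Localization.Away f) (Fitt.ideal R M k)).2 (by
        rw [Set.disjoint_left]
        rintro _ ⟨N, rfl⟩ hmem
        exact hf (Ideal.IsPrime.mem_of_pow_mem hp N (hle hmem)))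
    exact hdis this

end Groth.Agent.Helper4.Fitting
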