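import Mathlib
import Groth.Agent.Lib.Helper4.Fitting10

set_option linter.unusedSectionVars false
set_option linter.style.haveILetI false

namespace Groth.Agent.Helper4.Fitting

open Matrix TensorProduct

universe u v

variable {R : Type u} [CommRing R] {M : Type v} [AddCommGroup M] [Module R M]

theorem exists_unit_minor [IsLocalRing R] {n : ℕ} (x : Fin n → M) (p : ℕ) (f : R) (hf0 : f ≠ 0)
    (hf : Ideal.span (minorSet R x p) = Ideal.span {f}) :
    ∃ (z : Fin p → (Fin n → R)) (e : Fin p → Fin n) (u : R), (∀ j, ∑ i, z j i • x i = 0) ∧
      IsUnit u ∧ minorDet z e = u * f := by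
  by_contra hcon
  push Not at hcon
  have hle : Ideal.span (minorSet R x p) ≤ IsLocalRing.maximalIdeal R * Ideal.span {f} := by
    apply Ideal.span_le.2
    rintro d ⟨z, e, hz, rfl⟩
    have hd : minorDet z e ∈ Ideal.span {f} := by
      rw [← hf]; exact Ideal.subset_span ⟨z, e, hz, rfl⟩
    obtain ⟨c, hc⟩ := Ideal.mem_span_singleton'.1 hd
    have hcu : ¬ IsUnit c := fun hu => hcon z e c hz hu hc.symm
    change minorDet z e ∈ IsLocalRing.maximalIdeal R * Ideal.span {f}
    rw [← hc]
    exact Ideal.mul_mem_mul ((IsLocalRing.mem_maximalIdeal c).2 hcu) (Ideal.mem_span_singleton_self f)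
  rw [hf] at hle
  have hfm : f ∈ IsLocalRing.maximalIdeal R * Ideal.span {f} := hle (Ideal.mem_span_singleton_self f)
  rw [Ideal.mem_mul_span_singleton] at hfm
  obtain ⟨m, hm, hmf⟩ := hfm
  have hunit : IsUnit (1 - m) := by
    have := (IsLocalRing.mem_maximalIdeal m).1 hm
    exact (IsLocalRing.isUnit_or_isUnit_of_add_one (a := m) (b := 1 - m) (by ring)).resolve_left this
  have : (1 - m) * f = 0 := by rw [sub_mul, one_mul, hmf, sub_self]
  exact hf0 ((hunit.mul_right_eq_zero).1 this)

theorem quotient_span_of_ideal_eq_span_singleton [IsLocalRing R] [Module.Finite R M] (k : ℕ) (f : R)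
    (hf : Fitt.ideal R M k = Ideal.span {f}) :
    ∃ g : Fin k → M ⧸ LinearMap.ker (f • (LinearMap.id : M →ₗ[R] M)),
      Submodule.span R (Set.range g) = ⊤ := by
  classical
  set K := LinearMap.ker (f • (LinearMap.id : M →ₗ[R] M)) with hK
  by_cases hf0 : f = 0
  · refine ⟨fun _ => 0, ?_⟩
    have hsub : Subsingleton (M ⧸ K) := by
      rw [Submodule.Quotient.subsingleton_iff]
      rw [hK, hf0, zero_smul, LinearMap.ker_zero]
    rw [eq_top_iff]
    intro q _
    rw [Subsingleton.elim q 0]
    exact Submodule.zero_mem _
  · obtain ⟨n, x, hx⟩ := Module.Finite.exists_fin (R := R) (M := M)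
    have hF : Ideal.span (minorSet R x (n - k)) = Ideal.span {f} := by
      rw [← F_eq_span_minorSet, ← ideal_eq_F x hx k, hf]
    obtain ⟨z, e, u, hz, hu, hd⟩ := exists_unit_minor x (n - k) f hf0 hF
    have he : Function.Injective e := by
      by_contra h
      rw [minorDet_eq_zero_of_not_injective z e h] at hd
      exact hf0 ((hu.mul_right_eq_zero).1 hd.symm)
    -- the images of the complementary generators span the quotient
    set xb : Fin n → M ⧸ K := fun i => Submodule.Quotient.mk (x i) with hxb
    have hmk0 : ∀ m : M, f • m = 0 → (Submodule.Quotient.mk m : M ⧸ K) = 0 := by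
      intro m hm
      rw [Submodule.Quotient.mk_eq_zero, hK, LinearMap.mem_ker]
      simpa using hm
    have hxbspan : Submodule.span R (Set.range xb) = ⊤ := by
      have : Set.range xb = (Submodule.mkQ K) '' (Set.range x) := by
        ext q; constructor
        · rintro ⟨i, rfl⟩; exact ⟨x i, ⟨i, rfl⟩, rfl⟩
        · rintro ⟨_, ⟨i, rfl⟩, rfl⟩; exact ⟨i, rfl⟩
      rw [this, ← Submodule.map_span, hx, Submodule.map_top, Submodule.range_mkQ]
    set T : Set (M ⧸ K) := xb '' (Set.range e)ᶜ with hT
    have hmem : ∀ i, xb i ∈ Submodule.span R T := by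
      intro i
      by_cases hi : i ∈ Set.range e
      · obtain ⟨a, rfl⟩ := hi
        -- all coefficients of the Cramer relation are multiples of `f`
        have hcoef : ∀ i, ∃ γ : R, minorDet z (Function.update e a i) = f * γ := by
          intro i
          have : minorDet z (Function.update e a i) ∈ Ideal.span {f} := by
            rw [← hF]; exact Ideal.subset_span ⟨z, Function.update e a i, hz, rfl⟩
          obtain ⟨c, hc⟩ := Ideal.mem_span_singleton'.1 this
          exact ⟨c, by rw [← hc, mul_comm]⟩
        choose γ₀ hγ₀ using hcoef
        -- adjust the coefficients on the range of `e`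
        let γ : Fin n → R := fun i => if i = e a then u else if i ∈ Set.range e then 0 else γ₀ i
        have hγ : ∀ i, minorDet z (Function.update e a i) = f * γ i := by
          intro i
          by_cases h1 : i = e a
          · subst h1
            simp only [γ, if_true]
            rw [Function.update_eq_self, hd, mul_comm]
          · by_cases h2 : i ∈ Set.range e
            · obtain ⟨a', rfl⟩ := h2
              have hne : a' ≠ a := fun h => h1 (by rw [h])
              simp only [γ, h1, if_false, Set.mem_range_self, if_true, mul_zero]
              apply minorDet_eq_zero_of_not_injective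
              intro hinj
              have : Function.update e a (e a') a = Function.update e a (e a') a' := by
                rw [Function.update_self, Function.update_of_ne hne]
              exact hne (hinj this).symm
            · simp only [γ, h1, h2, if_false]
              exact hγ₀ i
        have hrel := cramer_relation x z hz e a
        simp only [hγ, mul_smul] at hrel
        rw [← Finset.smul_sum] at hrel
        have hq : (Submodule.mkQ K) (∑ i, γ i • x i) = 0 := hmk0 _ hrel
        rw [map_sum] at hq
        simp only [map_smul, Submodule.mkQ_apply] at hq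
        rw [← Finset.add_sum_erase _ _ (Finset.mem_univ (e a))] at hq
        have hγa : γ (e a) = u := by simp [γ]
        rw [hγa] at hq
        obtain ⟨uinv, huinv⟩ : ∃ uinv : R, uinv * u = 1 := ⟨((hu.unit⁻¹ : Rˣ) : R), by
          rw [mul_comm]; exact hu.mul_val_inv⟩
        have hsolve : xb (e a) = -(uinv • ∑ i ∈ Finset.univ.erase (e a),
            γ i • (Submodule.Quotient.mk (x i) : M ⧸ K)) := by
          have h3 := eq_neg_of_add_eq_zero_left hq
          have h4 : uinv • (u • (Submodule.Quotient.mk (x (e a)) : M ⧸ K)) = xb (e a) := by
            rw [smul_smul, huinv, one_smul]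
          rw [← h4, h3, smul_neg]
        rw [hsolve]
        apply Submodule.neg_mem
        apply Submodule.smul_mem
        apply Submodule.sum_mem
        intro i hi
        by_cases hir : i ∈ Set.range e
        · have hne : i ≠ e a := Finset.ne_of_mem_erase hi
          have : γ i = 0 := by simp only [γ, if_neg hne, if_pos hir]
          rw [this, zero_smul]; exact Submodule.zero_mem _
        · apply Submodule.smul_mem
          apply Submodule.subset_span
          exact ⟨i, hir, rfl⟩
      · exact Submodule.subset_span ⟨i, hi, rfl⟩
    have hTspan : Submodule.span R T = ⊤ := by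
      rw [eq_top_iff, ← hxbspan, Submodule.span_le]
      rintro _ ⟨i, rfl⟩
      exact hmem i
    have hcard : T.ncard ≤ k := by
      calc T.ncard ≤ ((Set.range e)ᶜ).ncard := Set.ncard_image_le (Set.toFinite _)
        _ = n - (n - k) := by
          rw [Set.ncard_compl, Set.ncard_range_of_injective he]
          simp
        _ ≤ k := by omega
    obtain ⟨y, hy1, -⟩ := exists_tuple_of_ncard_le T (Set.toFinite _) hcard
    refine ⟨y, ?_⟩
    rw [eq_top_iff, ← hTspan]
    exact Submodule.span_mono hy1

end Groth.Agent.Helper4.Fitting
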