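import Mathlib
import Groth.Agent.Lib.Helper4.Fitting11
import Groth.Prelude.Def_FlatCA
import Groth.Prelude.Def_BlowUp2

set_option linter.unusedSectionVars false
set_option linter.style.haveILetI false

namespace Groth.Agent.Helper4.Fitting

open Matrix TensorProduct

universe u v

theorem mem_powTorsion_of_smul_eq_zero {S : Type u} [CommRing S] (x : S) {N : Type u}
    [AddCommGroup N] [Module S N] (n : N) (h : x • n = 0) : n ∈ FlatCA.powTorsion S x N := by
  unfold FlatCA.powTorsion
  apply Submodule.mem_iSup_of_mem 1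
  rw [Submodule.mem_torsionBy_iff, pow_one]
  exact h

/-- General lemma: if `Fit_k(N) = (α)` then the quotient by the `α`-power torsion has `Fit_k = ⊤`. -/
theorem ideal_quotient_powTorsion_eq_top {R : Type u} [CommRing R] {N : Type u} [AddCommGroup N]
    [Module R N] [Module.Finite R N] (k : ℕ) (α : R) (hf : Fitt.ideal R N k = Ideal.span {α}) :
    Fitt.ideal R (N ⧸ FlatCA.powTorsion R α N) k = ⊤ := by
  apply eq_top_of_forall_prime_not_le
  intro p hp
  rw [not_le_iff_atPrime]
  set T := FlatCA.powTorsion R α N with hT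
  set A := Localization.AtPrime p
  set α' : A := algebraMap R A α with hα'
  have hfit : Fitt.ideal A (LocalizedModule p.primeCompl N) k = Ideal.span {α'} := by
    rw [ideal_localizedModule, hf, Ideal.map_span, Set.image_singleton]
  obtain ⟨g₀, hg₀⟩ := quotient_span_of_ideal_eq_span_singleton (R := A)
    (M := LocalizedModule p.primeCompl N) k α' hfit
  set φ : LocalizedModule p.primeCompl N →ₗ[A] LocalizedModule p.primeCompl (N ⧸ T) :=
    LocalizedModule.map p.primeCompl (Submodule.mkQ T) with hφ
  have hφs : Function.Surjective φ :=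
    LocalizedModule.map_surjective p.primeCompl _ (Submodule.mkQ_surjective T)
  have hker : LinearMap.ker (α' • (LinearMap.id : LocalizedModule p.primeCompl N →ₗ[A] _)) ≤
      LinearMap.ker φ := by
    intro w hw
    rw [LinearMap.mem_ker] at hw ⊢
    induction w using LocalizedModule.induction_on with
    | h n s =>
      have h1 : α' • LocalizedModule.mk n s = LocalizedModule.mk (α • n) s := by
        rw [hα', algebraMap_smul, LocalizedModule.smul'_mk]
      simp only [LinearMap.smul_apply, LinearMap.id_coe, id_eq] at hw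
      rw [h1, ← LocalizedModule.zero_mk s, LocalizedModule.mk_eq] at hw
      obtain ⟨t, ht⟩ := hw
      rw [smul_zero, smul_zero] at ht
      -- t • s • α • n = 0
      have hmem : (t * s : R) • n ∈ T := by
        apply mem_powTorsion_of_smul_eq_zero
        rw [← ht]
        simp only [Submonoid.smul_def, smul_smul]
        congr 1
        ring
      rw [hφ, LocalizedModule.map_mk]
      have h2 : LocalizedModule.mk ((Submodule.mkQ T) n) s =
          LocalizedModule.mk ((t * s) • (Submodule.mkQ T) n) ((t * s) * s) := by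
        rw [LocalizedModule.mk_cancel_common_left]
      rw [h2]
      have h3 : (t * s) • (Submodule.mkQ T) n = 0 := by
        have : ((t * s : p.primeCompl) : R) • (Submodule.mkQ T) n = 0 := by
          rw [← map_smul, Submodule.mkQ_apply, Submodule.Quotient.mk_eq_zero]
          exact hmem
        exact this
      rw [h3, LocalizedModule.zero_mk]
  let φbar := (LinearMap.ker (α' • (LinearMap.id : LocalizedModule p.primeCompl N →ₗ[A] _))).liftQ
    φ hker
  have hφbars : Function.Surjective φbar := by
    intro y
    obtain ⟨w, rfl⟩ := hφs y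
    exact ⟨Submodule.Quotient.mk w, rfl⟩
  refine ⟨fun l => φbar (g₀ l), ?_⟩
  have : Set.range (fun l => φbar (g₀ l)) = φbar '' Set.range g₀ := by
    ext y; constructor
    · rintro ⟨l, rfl⟩; exact ⟨g₀ l, ⟨l, rfl⟩, rfl⟩
    · rintro ⟨_, ⟨l, rfl⟩, rfl⟩; exact ⟨l, rfl⟩
  rw [this, ← Submodule.map_span, hg₀, Submodule.map_top, LinearMap.range_eq_top.2 hφbars]

/-- in the affine blow-up algebra the ideal `I` becomes principal generated by `a` -/
theorem map_affineAlgebra_eq_span {R : Type u} [CommRing R] (I : Ideal R) (a : R) (ha : a ∈ I)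
    (R₁ : Type u) [CommRing R₁] [Algebra R R₁] (e : R₁ ≃ₐ[R] ↥(BlowUp.affineAlgebra R I a)) :
    I.map (algebraMap R R₁) = Ideal.span {algebraMap R R₁ a} := by
  apply le_antisymm
  · rw [Ideal.map_le_iff_le_comap]
    intro x hx
    rw [Ideal.mem_comap, Ideal.mem_span_singleton']
    let q : ↥(BlowUp.affineAlgebra R I a) :=
      ⟨IsLocalization.mk' (Localization.Away a) x ⟨a, Submonoid.mem_powers a⟩,
        Algebra.subset_adjoin ⟨x, hx, rfl⟩⟩
    refine ⟨e.symm q, ?_⟩
    apply e.injective
    rw [map_mul, AlgEquiv.apply_symm_apply, AlgEquiv.commutes, AlgEquiv.commutes]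
    apply Subtype.ext
    change IsLocalization.mk' (Localization.Away a) x ⟨a, Submonoid.mem_powers a⟩ *
      algebraMap R (Localization.Away a) a = algebraMap R (Localization.Away a) x
    exact IsLocalization.mk'_spec (Localization.Away a) x ⟨a, Submonoid.mem_powers a⟩
  · rw [Ideal.span_le, Set.singleton_subset_iff]
    exact Ideal.mem_map_of_mem _ ha

theorem ideal_strictTransform_eq_top {R : Type u} [CommRing R] (M : Type u) [AddCommGroup M]
    [Module R M] [Module.Finite R M] (k : ℕ) (a : R) (ha : a ∈ Fitt.ideal R M k)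
    (R₁ : Type u) [CommRing R₁] [Algebra R R₁]
    (e : R₁ ≃ₐ[R] ↥(BlowUp.affineAlgebra R (Fitt.ideal R M k) a)) :
    Fitt.ideal R₁ ((R₁ ⊗[R] M) ⧸ FlatCA.powTorsion R₁ (algebraMap R R₁ a) (R₁ ⊗[R] M)) k = ⊤ := by
  apply ideal_quotient_powTorsion_eq_top
  rw [ideal_baseChange, map_affineAlgebra_eq_span _ a ha R₁ e]

end Groth.Agent.Helper4.Fitting
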