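import Mathlib
import Groth.Agent.Lib.Helper4.Fitting12

set_option linter.unusedSectionVars false
set_option linter.style.haveILetI false

namespace Groth.Agent.Helper4.Fitting

open Matrix TensorProduct

universe u v

section Mono

variable {R : Type u} [CommRing R] {M : Type v} [AddCommGroup M] [Module R M]

theorem ideal_mono_succ (k : ℕ) : Fitt.ideal R M k ≤ Fitt.ideal R M (k + 1) := by
  apply Ideal.span_mono
  rintro d ⟨n, x, a, hx, ha, rfl⟩
  exact ⟨n, x, a, hx, fun i hi => ha i (by omega), rfl⟩

theorem ideal_mono {k k' : ℕ} (h : k ≤ k') : Fitt.ideal R M k ≤ Fitt.ideal R M k' := by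
  induction h with
  | refl => exact le_rfl
  | step _ ih => exact ih.trans (ideal_mono_succ _)

end Mono

section PowTorsion

variable {S : Type u} [CommRing S] (x : S) {N : Type u} [AddCommGroup N] [Module S N]

theorem mem_powTorsion_iff (n : N) : n ∈ FlatCA.powTorsion S x N ↔ ∃ m : ℕ, x ^ m • n = 0 := by
  unfold FlatCA.powTorsion
  rw [Submodule.mem_iSup_of_directed]
  · simp only [Submodule.mem_torsionBy_iff]
  · intro i j
    refine ⟨i + j, ?_, ?_⟩
    · intro n hn
      rw [Submodule.mem_torsionBy_iff] at hn ⊢
      rw [pow_add, mul_comm, mul_smul, hn, smul_zero]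
    · intro n hn
      rw [Submodule.mem_torsionBy_iff] at hn ⊢
      rw [pow_add, mul_smul, hn, smul_zero]

/-- localizing at `x` kills the `x`-power torsion -/
theorem map_mkQ_powTorsion_bijective :
    Function.Bijective (LocalizedModule.map (Submonoid.powers x)
      (Submodule.mkQ (FlatCA.powTorsion S x N))) := by
  constructor
  · rw [injective_iff_map_eq_zero]
    intro w hw
    induction w using LocalizedModule.induction_on with
    | h n s =>
      rw [LocalizedModule.map_mk, ← LocalizedModule.zero_mk s, LocalizedModule.mk_eq] at hw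
      obtain ⟨t, ht⟩ := hw
      rw [smul_zero, smul_zero] at ht
      have h1 : ((t * s : Submonoid.powers x) : S) • n ∈ FlatCA.powTorsion S x N := by
        rw [← Submodule.Quotient.mk_eq_zero, Submodule.Quotient.mk_smul]
        rw [← ht]
        simp only [Submonoid.smul_def, smul_smul, Submodule.mkQ_apply, Submonoid.coe_mul]
      rw [mem_powTorsion_iff] at h1
      obtain ⟨m, hm⟩ := h1
      rw [← LocalizedModule.zero_mk s, LocalizedModule.mk_eq]
      refine ⟨⟨x ^ m, m, rfl⟩ * (t * s), ?_⟩
      rw [smul_zero, smul_zero]
      have : (⟨x ^ m, m, rfl⟩ * (t * s) : Submonoid.powers x) • s • n =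
          s • (x ^ m • ((t * s : Submonoid.powers x) : S) • n) := by
        simp only [Submonoid.smul_def, smul_smul, Submonoid.coe_mul]
        congr 1
        ring
      rw [this, hm, smul_zero]
  · exact LocalizedModule.map_surjective _ _ (Submodule.mkQ_surjective _)

end PowTorsion

section Blowup

variable {R : Type u} [CommRing R]

/-- `a` is a nonzerodivisor in the affine blow-up algebra -/
theorem affineAlgebra_regular (I : Ideal R) (a : R)
    (R₁ : Type u) [CommRing R₁] [Algebra R R₁] (e : R₁ ≃ₐ[R] ↥(BlowUp.affineAlgebra R I a))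
    (m : ℕ) (y : R₁) (h : algebraMap R R₁ a ^ m * y = 0) : y = 0 := by
  apply e.injective
  rw [map_zero]
  have h1 := congrArg e h
  rw [map_mul, map_pow, AlgEquiv.commutes, map_zero] at h1
  apply Subtype.ext
  have h2 := congrArg Subtype.val h1
  simp only [Subalgebra.coe_mul, Subalgebra.coe_pow, Subalgebra.coe_algebraMap,
    ZeroMemClass.coe_zero] at h2
  have hu : IsUnit (algebraMap R (Localization.Away a) a ^ m) :=
    (IsLocalization.Away.algebraMap_isUnit a).pow m
  exact (hu.mul_right_eq_zero).1 h2

end Blowup

end Groth.Agent.Helper4.Fitting
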