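import Mathlib
import Groth.Agent.Lib.Helper4.Fitting13

set_option linter.unusedSectionVars false
set_option linter.style.haveILetI false

namespace Groth.Agent.Helper4.Fitting

open Matrix TensorProduct

universe u v

variable {R : Type u} [CommRing R]

/-- if `M_𝔭` is free of rank `k` for all primes not containing `a`, then the lower Fitting ideals
are `a`-power torsion -/
theorem exists_pow_mul_eq_zero_of_free (M : Type u) [AddCommGroup M] [Module R M]
    [Module.Finite R M] (k : ℕ) (a : R)
    (hfree : ∀ (p : Ideal R) [p.IsPrime], a ∉ p →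
      Module.Free (Localization.AtPrime p) (LocalizedModule p.primeCompl M) ∧
        Module.finrank (Localization.AtPrime p) (LocalizedModule p.primeCompl M) = k)
    (j : ℕ) (hj : j < k) (d : R) (hd : d ∈ Fitt.ideal R M j) : ∃ m : ℕ, a ^ m * d = 0 := by
  have hrad : a ∈ ((Ideal.span {d}).annihilator).radical := by
    rw [Ideal.radical_eq_sInf, Ideal.mem_sInf]
    rintro p ⟨hle, hp⟩
    by_contra hap
    obtain ⟨hfr, hrk⟩ := hfree p hap
    let b := Module.finBasis (Localization.AtPrime p) (LocalizedModule p.primeCompl M)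
    have hbot : Fitt.ideal (Localization.AtPrime p) (LocalizedModule p.primeCompl M) j = ⊥ :=
      ideal_eq_bot_of_linearIndependent b b.span_eq b.linearIndependent j (by rw [hrk]; exact hj)
    rw [ideal_localizedModule] at hbot
    have h0 : algebraMap R (Localization.AtPrime p) d = 0 := by
      have := Ideal.mem_map_of_mem (algebraMap R (Localization.AtPrime p)) hd
      rw [hbot, Ideal.mem_bot] at this
      exact this
    rw [IsLocalization.map_eq_zero_iff p.primeCompl] at h0
    obtain ⟨t, ht⟩ := h0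
    have : (t : R) ∈ (Ideal.span {d}).annihilator := by
      rw [Submodule.mem_annihilator_span_singleton]
      exact ht
    exact t.2 (hle this)
  obtain ⟨m, hm⟩ := hrad
  rw [Submodule.mem_annihilator_span_singleton] at hm
  exact ⟨m, hm⟩

theorem strictTransform_locallyFree (M : Type u) [AddCommGroup M]
    [Module R M] [Module.Finite R M] (k : ℕ) (I : Ideal R)
    (hfree : ∀ (p : Ideal R) [p.IsPrime], ¬ I ≤ p →
      Module.Free (Localization.AtPrime p) (LocalizedModule p.primeCompl M) ∧
        Module.finrank (Localization.AtPrime p) (LocalizedModule p.primeCompl M) = k)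
    (a : R) (ha : a ∈ I) (R₁ : Type u) [CommRing R₁] [Algebra R R₁]
    (e : R₁ ≃ₐ[R] ↥(BlowUp.affineAlgebra R I a))
    (htop : Fitt.ideal R₁ ((R₁ ⊗[R] M) ⧸ FlatCA.powTorsion R₁ (algebraMap R R₁ a) (R₁ ⊗[R] M)) k = ⊤) :
    ∀ (p' : Ideal R₁) [p'.IsPrime], ∃ g : R₁, g ∉ p' ∧
      Module.Free (Localization.Away g) (LocalizedModule (Submonoid.powers g) ((R₁ ⊗[R] M) ⧸ FlatCA.powTorsion R₁ (algebraMap R R₁ a) (R₁ ⊗[R] M))) ∧
      Module.finrank (Localization.Away g) (LocalizedModule (Submonoid.powers g) ((R₁ ⊗[R] M) ⧸ FlatCA.powTorsion R₁ (algebraMap R R₁ a) (R₁ ⊗[R] M))) = k := by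
  set α := algebraMap R R₁ a with hα
  have hfree' : ∀ (p : Ideal R) [p.IsPrime], a ∉ p →
      Module.Free (Localization.AtPrime p) (LocalizedModule p.primeCompl M) ∧
        Module.finrank (Localization.AtPrime p) (LocalizedModule p.primeCompl M) = k := by
    intro p _ hap
    exact hfree p (fun hle => hap (hle ha))
  have h2 : ∀ j, k ≤ j → Fitt.ideal R₁ ((R₁ ⊗[R] M) ⧸ FlatCA.powTorsion R₁ α (R₁ ⊗[R] M)) j = ⊤ := by
    intro j hj
    rw [eq_top_iff, ← htop]
    exact ideal_mono hj
  have hN : ∀ j, j < k → Fitt.ideal R₁ (R₁ ⊗[R] M) j = ⊥ := by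
    intro j hj
    rw [ideal_baseChange, eq_bot_iff, Ideal.map_le_iff_le_comap]
    intro d hd
    rw [Ideal.mem_comap, Ideal.mem_bot]
    obtain ⟨m, hm⟩ := exists_pow_mul_eq_zero_of_free M k a hfree' j hj d hd
    apply affineAlgebra_regular I a R₁ e m
    rw [← map_pow, ← map_mul, hm, map_zero]
  have h1 : ∀ j, j < k → Fitt.ideal R₁ ((R₁ ⊗[R] M) ⧸ FlatCA.powTorsion R₁ α (R₁ ⊗[R] M)) j = ⊥ := by
    intro j hj
    rw [eq_bot_iff]
    intro d' hd'
    rw [Ideal.mem_bot]
    let E := LinearEquiv.ofBijective _ (map_mkQ_powTorsion_bijective α (N := R₁ ⊗[R] M))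
    have hloc : Fitt.ideal (Localization (Submonoid.powers α))
        (LocalizedModule (Submonoid.powers α)
          ((R₁ ⊗[R] M) ⧸ FlatCA.powTorsion R₁ α (R₁ ⊗[R] M))) j = ⊥ := by
      rw [← ideal_congr E j, ideal_localizedModule, hN j hj, Ideal.map_bot]
    rw [ideal_localizedModule] at hloc
    have h0 : algebraMap R₁ (Localization (Submonoid.powers α)) d' = 0 := by
      have := Ideal.mem_map_of_mem (algebraMap R₁ (Localization (Submonoid.powers α))) hd'
      rw [hloc, Ideal.mem_bot] at this
      exact this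
    rw [IsLocalization.map_eq_zero_iff (Submonoid.powers α)] at h0
    obtain ⟨⟨_, m, rfl⟩, hm⟩ := h0
    exact affineAlgebra_regular I a R₁ e m d' hm
  intro p' _
  exact free_of_ideal_conditions k h1 h2 p'

end Groth.Agent.Helper4.Fitting
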