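import Mathlib
import Groth.Agent.Lib.Helper4.Fitting14

set_option linter.unusedSectionVars false
set_option linter.style.haveILetI false

namespace Groth.Agent.Helper4.Fitting

open Matrix TensorProduct

universe u v

variable {R : Type u} [CommRing R]

/-- freeness of a localization from Fitting data -/
theorem free_localizedModule {M : Type v} [AddCommGroup M] [Module R M] [Module.Finite R M]
    (S : Submonoid R) [Nontrivial (Localization S)] (r : ℕ)
    (f : R) (hf : f ∈ S) (y : Fin r → M) (hy : ∀ m : M, f • m ∈ Submodule.span R (Set.range y))
    (hbot : ∀ j, j < r → (Fitt.ideal R M j).map (algebraMap R (Localization S)) = ⊥) :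
    Module.Free (Localization S) (LocalizedModule S M) ∧
      Module.finrank (Localization S) (LocalizedModule S M) = r := by
  set g : Fin r → LocalizedModule S M :=
    fun l => LocalizedModule.mk (y l) (1 : S) with hg
  have hspan : Submodule.span (Localization S) (Set.range g) = ⊤ :=
    span_mk_eq_top S f hf y hy
  have hli : LinearIndependent (Localization S) g := by
    rw [Fintype.linearIndependent_iff]
    intro c hc j
    have hr : 0 < r := Fin.pos j
    have hmem := coord_mem_ideal_of_relation (R := Localization S) g hspan (r - 1)
      (by omega) c hc j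
    rw [ideal_localizedModule, hbot (r - 1) (by omega), Ideal.mem_bot] at hmem
    exact hmem
  let b : Module.Basis (Fin r) (Localization S) (LocalizedModule S M) :=
    Module.Basis.mk hli (by rw [hspan])
  refine ⟨Module.Free.of_basis b, ?_⟩
  rw [Module.finrank_eq_card_basis b, Fintype.card_fin]

/-- local freeness at a prime from local freeness on a basic open neighbourhood -/
theorem free_atPrime_of_free_away {M : Type v} [AddCommGroup M] [Module R M] [Module.Finite R M]
    (r : ℕ) (p : Ideal R) [p.IsPrime] (g : R) (hg : g ∉ p)
    (hfree : Module.Free (Localization.Away g) (LocalizedModule (Submonoid.powers g) M))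
    (hrank : Module.finrank (Localization.Away g) (LocalizedModule (Submonoid.powers g) M) = r) :
    Module.Free (Localization.AtPrime p) (LocalizedModule p.primeCompl M) ∧
      Module.finrank (Localization.AtPrime p) (LocalizedModule p.primeCompl M) = r := by
  haveI : Nontrivial (Localization.Away g) := nontrivial_away_of_notMem p g hg
  let b := Module.finBasis (Localization.Away g) (LocalizedModule (Submonoid.powers g) M)
  -- `Fit_r(M) ⊄ p`
  have hnle : ¬ Fitt.ideal R M r ≤ p := by
    intro hle
    obtain ⟨s, ⟨N, rfl⟩, hs⟩ := exists_mem_of_span_localizedModule (M := M) (Submonoid.powers g)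
      (fun l : Fin r => b (Fin.cast hrank.symm l)) (by
        rw [eq_top_iff, ← b.span_eq]
        apply Submodule.span_mono
        rintro _ ⟨l, rfl⟩
        exact ⟨Fin.cast hrank l, by simp⟩)
    exact hg (Ideal.IsPrime.mem_of_pow_mem inferInstance N (hle hs))
  obtain ⟨n, x, hx⟩ := Module.Finite.exists_fin (R := R) (M := M)
  obtain ⟨f, hf, -, y, hy⟩ := exists_smul_mem_span_of_not_le x hx r p hnle
  apply free_localizedModule p.primeCompl r f hf y hy
  intro j hj
  have hbotg : (Fitt.ideal R M j).map (algebraMap R (Localization.Away g)) = ⊥ := by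
    rw [← ideal_localizedModule]
    exact ideal_eq_bot_of_linearIndependent b b.span_eq b.linearIndependent j (by rw [hrank]; exact hj)
  rw [eq_bot_iff, Ideal.map_le_iff_le_comap]
  intro d hd
  rw [Ideal.mem_comap, Ideal.mem_bot]
  have h0 : algebraMap R (Localization.Away g) d = 0 := by
    have := Ideal.mem_map_of_mem (algebraMap R (Localization.Away g)) hd
    rw [hbotg, Ideal.mem_bot] at this
    exact this
  rw [IsLocalization.map_eq_zero_iff (Submonoid.powers g)] at h0
  obtain ⟨⟨_, N, rfl⟩, hN⟩ := h0
  rw [IsLocalization.map_eq_zero_iff p.primeCompl]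
  exact ⟨⟨g ^ N, fun hmem => hg (Ideal.IsPrime.mem_of_pow_mem inferInstance N hmem)⟩, hN⟩

end Groth.Agent.Helper4.Fitting
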