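import Mathlib
universe u
open CategoryTheory AlgebraicGeometry

namespace Groth.Agent.Helper4.IdealComap

open Scheme.IdealSheafData in
/-- pullback of an ideal sheaf between affine schemes (copied from lead's S14090) -/
theorem comap_ofIdealTop {X Y : Scheme.{u}} [IsAffine X] [IsAffine Y] (g : Y ⟶ X)
    (J : Ideal Γ(X, ⊤)) :
    (Scheme.IdealSheafData.ofIdealTop J).comap g =
      Scheme.IdealSheafData.ofIdealTop (J.map g.appTop.hom) := by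
  apply le_antisymm
  · rw [← le_map_iff_comap_le]
    apply le_of_isAffine
    rw [ideal_map_of_isAffineHom]
    simp only [ofIdealTop_ideal]
    rw [← Ideal.map_le_iff_le_comap]
    have h1 : ∀ (Z : Scheme.{u}) (h : (⊤ : Z.Opens) ≤ ⊤), Z.presheaf.map (homOfLE h).op = 𝟙 _ := by
      intro Z h
      exact Z.presheaf.map_id _
    have h1Y : Y.presheaf.map (homOfLE (le_top : g ⁻¹ᵁ ⊤ ≤ ⊤)).op = 𝟙 _ := Y.presheaf.map_id _
    rw [h1 X]
    erw [h1Y]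
    simp only [CommRingCat.hom_id, Ideal.map_id]
    show Ideal.map g.appTop.hom J ≤ Ideal.map (RingHom.id _) (Ideal.map g.appTop.hom J)
    rw [Ideal.map_id]
  · apply le_of_isAffine
    have h2 := le_map_comap (ofIdealTop J) g ⟨⊤, isAffineOpen_top X⟩
    rw [ideal_map_of_isAffineHom, ← Ideal.map_le_iff_le_comap] at h2
    simp only [ofIdealTop_ideal] at h2 ⊢
    have h1 : ∀ (Z : Scheme.{u}) (h : (⊤ : Z.Opens) ≤ ⊤), Z.presheaf.map (homOfLE h).op = 𝟙 _ := by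
      intro Z h
      exact Z.presheaf.map_id _
    rw [h1 X] at h2
    rw [h1 Y]
    simp only [CommRingCat.hom_id, Ideal.map_id] at h2 ⊢
    exact h2

open Scheme.IdealSheafData in
/-- an ideal sheaf on an affine scheme is `ofIdealTop` of its global ideal -/
theorem eq_ofIdealTop {X : Scheme.{u}} [IsAffine X] (I : X.IdealSheafData) :
    I = ofIdealTop (I.ideal ⟨⊤, isAffineOpen_top X⟩) := by
  apply Scheme.IdealSheafData.ext_of_isAffine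
  simp only [ofIdealTop_ideal]
  have h1 : X.presheaf.map (homOfLE (le_refl (⊤ : X.Opens))).op = 𝟙 _ := X.presheaf.map_id _
  rw [h1, CommRingCat.hom_id, Ideal.map_id]


open Scheme.IdealSheafData in
theorem ideal_comap_aux {X Y : Scheme.{u}} (f : X ⟶ Y) (𝓘 : Y.IdealSheafData) (U : X.Opens)
    (hU : IsAffineOpen U) (V : Y.Opens) (hV : IsAffineOpen V) (e : U ≤ f ⁻¹ᵁ V)
    (hU' : IsAffineOpen (U.ι ''ᵁ ⊤)) (hV' : IsAffineOpen (V.ι ''ᵁ ⊤))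
    (e' : U.ι ''ᵁ ⊤ ≤ f ⁻¹ᵁ (V.ι ''ᵁ ⊤)) :
    (𝓘.comap f).ideal ⟨U.ι ''ᵁ ⊤, hU'⟩ =
      (𝓘.ideal ⟨V.ι ''ᵁ ⊤, hV'⟩).map (f.appLE (V.ι ''ᵁ ⊤) (U.ι ''ᵁ ⊤) e').hom := by
  have : IsAffine (U : Scheme.{u}) := hU
  have : IsAffine (V : Scheme.{u}) := hV
  let g := f.resLE V U e
  have h1 : (𝓘.comap f).comap U.ι = (𝓘.comap V.ι).comap g := by
    rw [← comap_comp, ← comap_comp, Scheme.Hom.resLE_comp_ι]
  have h2 := ideal_comap_of_isOpenImmersion (𝓘.comap f) U.ι ⟨⊤, isAffineOpen_top _⟩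
  have h3 := ideal_comap_of_isOpenImmersion 𝓘 V.ι ⟨⊤, isAffineOpen_top _⟩
  simp only [Scheme.Opens.ι_appIso, Iso.refl_inv] at h2 h3
  have h4 := eq_ofIdealTop (𝓘.comap V.ι)
  have h5 : ((𝓘.comap f).comap U.ι).ideal ⟨⊤, isAffineOpen_top _⟩ =
      ((𝓘.comap V.ι).ideal ⟨⊤, isAffineOpen_top _⟩).map g.appTop.hom := by
    rw [h1]
    conv_lhs => rw [h4]
    rw [comap_ofIdealTop]
    simp only [ofIdealTop_ideal]
    have h0 : (U : Scheme.{u}).presheaf.map (homOfLE (le_refl (⊤ : (U : Scheme.{u}).Opens))).op = 𝟙 _ :=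
      (U : Scheme.{u}).presheaf.map_id _
    rw [h0, CommRingCat.hom_id, Ideal.map_id]
  rw [h2, h3] at h5
  have h6 : (𝓘.comap f).ideal ⟨U.ι ''ᵁ ⊤, hU'⟩ =
      Ideal.map g.appTop.hom (𝓘.ideal ⟨V.ι ''ᵁ ⊤, hV'⟩) := h5
  refine h6.trans ?_
  congr 2
  change (g.app ⊤) = _
  rw [Scheme.Hom.app_eq_appLE, Scheme.Hom.resLE_appLE]
  rfl


/-- **Pullback of an ideal sheaf on affine opens**: if `U ⊆ f⁻¹ V` are affine opens then
`(f⁻¹𝓘)(U) = 𝓘(V) · Γ(U)`. -/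
theorem ideal_comap_eq_map {X Y : Scheme.{u}} (f : X ⟶ Y) (𝓘 : Y.IdealSheafData)
    (U : X.affineOpens) (V : Y.affineOpens) (e : U.1 ≤ f ⁻¹ᵁ V.1) :
    (𝓘.comap f).ideal U = (𝓘.ideal V).map (f.appLE V.1 U.1 e).hom := by
  have key : ∀ (U' : X.Opens) (hU' : IsAffineOpen U') (V' : Y.Opens) (hV' : IsAffineOpen V')
      (e' : U' ≤ f ⁻¹ᵁ V'), U' = U.1 → V' = V.1 →
      (𝓘.comap f).ideal ⟨U', hU'⟩ = (𝓘.ideal ⟨V', hV'⟩).map (f.appLE V' U' e').hom →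
      (𝓘.comap f).ideal U = (𝓘.ideal V).map (f.appLE V.1 U.1 e).hom := by
    intro U' hU' V' hV' e' hUU hVV h
    obtain ⟨U1, hU1⟩ := U
    obtain ⟨V1, hV1⟩ := V
    subst hUU
    subst hVV
    exact h
  have hU' : IsAffineOpen (U.1.ι ''ᵁ ⊤) := by
    rw [U.1.ι_image_top]; exact U.2
  have hV' : IsAffineOpen (V.1.ι ''ᵁ ⊤) := by
    rw [V.1.ι_image_top]; exact V.2
  have e' : U.1.ι ''ᵁ ⊤ ≤ f ⁻¹ᵁ (V.1.ι ''ᵁ ⊤) := by
    rw [U.1.ι_image_top, V.1.ι_image_top]; exact e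
  exact key _ hU' _ hV' e' U.1.ι_image_top V.1.ι_image_top
    (ideal_comap_aux f 𝓘 U.1 U.2 V.1 V.2 e hU' hV' e')

end Groth.Agent.Helper4.IdealComap
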