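import Mathlib
import Groth.Prelude.Def_BlowUp2
import Groth.Agent.Lib.Helper4.IdealComap

/-!
# Helper4: basic toolkit for `BlowUp.IsEffCartierIdeal` / `BlowUp.IsBlowUp`
-/
universe u
open CategoryTheory AlgebraicGeometry TopologicalSpace

namespace Groth.Agent.Helper4.EffCartier

theorem nzd_of_flat {R S : Type u} [CommRing R] [CommRing S] (φ : R →+* S) (hφ : φ.Flat) (r : R)
    (hr : r ∈ nonZeroDivisors R) : φ r ∈ nonZeroDivisors S := by
  algebraize [φ]
  have hreg : IsSMulRegular S r := Module.Flat.isSMulRegular_of_nonZeroDivisors hr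
  rw [mem_nonZeroDivisors_iff_right]
  intro b hb
  apply hreg
  simp only [smul_zero]
  rw [Algebra.smul_def, mul_comm]
  exact hb

/-- the affine opens of `X` mapping into an affine open of `Y` cover `X` -/
theorem iSup_affine_le_preimage {X Y : Scheme.{u}} (f : X ⟶ Y) :
    ⨆ p : {p : X.affineOpens × Y.affineOpens // p.1.1 ≤ f ⁻¹ᵁ p.2.1}, (p.1.1.1 : X.Opens) = ⊤ := by
  rw [eq_top_iff]
  intro x _
  obtain ⟨V, hV, hxV, -⟩ := Opens.isBasis_iff_nbhd.mp (Y.isBasis_affineOpens)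
    (show f x ∈ (⊤ : Y.Opens) from trivial)
  have hxfV : x ∈ f ⁻¹ᵁ V := hxV
  obtain ⟨U, hU, hxU, hUV⟩ := Opens.isBasis_iff_nbhd.mp (X.isBasis_affineOpens) hxfV
  exact Opens.mem_iSup.mpr ⟨⟨(⟨U, hU⟩, ⟨V, hV⟩), hUV⟩, hxU⟩

theorem comap_mul {X Y : Scheme.{u}} (f : X ⟶ Y) (𝓘 𝓙 : Y.IdealSheafData) :
    (𝓘 * 𝓙).comap f = 𝓘.comap f * 𝓙.comap f := by
  refine Scheme.IdealSheafData.ext_of_iSup_eq_top
    (ι := {p : X.affineOpens × Y.affineOpens // p.1.1 ≤ f ⁻¹ᵁ p.2.1})
    (fun p => p.1.1) (iSup_affine_le_preimage f) ?_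
  rintro ⟨⟨U, V⟩, e⟩
  simp only [Scheme.IdealSheafData.ideal_mul, Pi.mul_apply]
  rw [IdealComap.ideal_comap_eq_map f _ U V e, IdealComap.ideal_comap_eq_map f _ U V e,
    IdealComap.ideal_comap_eq_map f _ U V e, Scheme.IdealSheafData.ideal_mul, Pi.mul_apply,
    Ideal.map_mul]

theorem comap_sup {X Y : Scheme.{u}} (f : X ⟶ Y) (𝓘 𝓙 : Y.IdealSheafData) :
    (𝓘 ⊔ 𝓙).comap f = 𝓘.comap f ⊔ 𝓙.comap f := by
  refine Scheme.IdealSheafData.ext_of_iSup_eq_top
    (ι := {p : X.affineOpens × Y.affineOpens // p.1.1 ≤ f ⁻¹ᵁ p.2.1})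
    (fun p => p.1.1) (iSup_affine_le_preimage f) ?_
  rintro ⟨⟨U, V⟩, e⟩
  simp only [Scheme.IdealSheafData.ideal_sup, Pi.sup_apply]
  rw [IdealComap.ideal_comap_eq_map f _ U V e, IdealComap.ideal_comap_eq_map f _ U V e,
    IdealComap.ideal_comap_eq_map f _ U V e, Scheme.IdealSheafData.ideal_sup, Pi.sup_apply,
    Ideal.map_sup]

/-- `⊤` is an effective Cartier ideal (the empty divisor). -/
theorem top {X : Scheme.{u}} : BlowUp.IsEffCartierIdeal (⊤ : X.IdealSheafData) := by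
  intro x
  obtain ⟨U, hU, hxU, -⟩ := Opens.isBasis_iff_nbhd.mp (X.isBasis_affineOpens)
    (show x ∈ (⊤ : X.Opens) from trivial)
  refine ⟨⟨U, hU⟩, hxU, 1, one_mem _, ?_⟩
  rw [Ideal.span_singleton_one]
  rfl

/-- shrinking: an effective Cartier ideal is principal, generated by a nonzerodivisor, on
arbitrarily small affine neighbourhoods. -/
theorem shrink {X : Scheme.{u}} {𝓘 : X.IdealSheafData} (h : BlowUp.IsEffCartierIdeal 𝓘) (x : X)
    (N : X.Opens) (hx : x ∈ N) :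
    ∃ U : X.affineOpens, x ∈ U.1 ∧ U.1 ≤ N ∧
      ∃ f : Γ(X, U.1), f ∈ nonZeroDivisors Γ(X, U.1) ∧ 𝓘.ideal U = Ideal.span {f} := by
  obtain ⟨U, hxU, f, hf, hI⟩ := h x
  obtain ⟨r, hrN, hxr⟩ := U.2.exists_basicOpen_le ⟨x, hx⟩ hxU
  have hloc := U.2.isLocalization_basicOpen r
  refine ⟨X.affineBasicOpen r, hxr, hrN, algebraMap Γ(X, U.1) Γ(X, X.basicOpen r) f, ?_, ?_⟩
  · have hflat : Module.Flat Γ(X, U.1) Γ(X, X.basicOpen r) :=
      IsLocalization.flat _ (Submonoid.powers r)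
    exact nzd_of_flat (algebraMap Γ(X, U.1) Γ(X, X.basicOpen r)) hflat f hf
  · rw [← 𝓘.map_ideal_basicOpen U r, hI, Ideal.map_span, Set.image_singleton]
    rfl


/-- on an affine open where `𝓘 = (f)`, the complement of the support is `D(f)` -/
theorem mem_basicOpen_iff_not_mem_support {X : Scheme.{u}} {𝓘 : X.IdealSheafData} (U : X.affineOpens)
    (f : Γ(X, U.1)) (hI : 𝓘.ideal U = Ideal.span {f}) (x : X) (hx : x ∈ U.1) :
    x ∈ X.basicOpen f ↔ x ∉ 𝓘.support := by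
  rw [Scheme.IdealSheafData.mem_support_iff_of_mem hx, hI, Scheme.zeroLocus_span,
    Scheme.zeroLocus_singleton]
  simp

/-- Strong scheme-theoretic density of the complement of an effective Cartier divisor:
restriction of sections from any open `V` to an open `W ⊆ V` containing `V ∖ supp 𝓘` is injective. -/
theorem res_injective {X : Scheme.{u}} {𝓘 : X.IdealSheafData} (h : BlowUp.IsEffCartierIdeal 𝓘)
    (V W : X.Opens) (hWV : W ≤ V) (hW : ∀ x ∈ V, x ∉ 𝓘.support → x ∈ W) :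
    Function.Injective (X.presheaf.map (homOfLE hWV).op).hom := by
  rw [injective_iff_map_eq_zero]
  intro s hs
  refine X.IsSheaf.section_ext fun x hx ↦ ?_
  obtain ⟨U, hxU, hUV, f, hf, hI⟩ := shrink h x V hx
  refine ⟨U.1, hUV, hxU, ?_⟩
  rw [map_zero]
  have hloc := U.2.isLocalization_basicOpen f
  have hinj : Function.Injective (algebraMap Γ(X, U.1) Γ(X, X.basicOpen f)) :=
    IsLocalization.injective (M := Submonoid.powers f) _
      (Submonoid.powers_le.mpr hf)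
  apply hinj
  rw [map_zero]
  have hDW : X.basicOpen f ≤ W := by
    intro y hy
    have hyU : y ∈ U.1 := X.basicOpen_le f hy
    exact hW y (hUV hyU) ((mem_basicOpen_iff_not_mem_support U f hI y hyU).mp hy)
  have e1 : algebraMap Γ(X, U.1) Γ(X, X.basicOpen f) ((X.presheaf.map (homOfLE hUV).op).hom s) =
      (X.presheaf.map (homOfLE hDW).op).hom ((X.presheaf.map (homOfLE hWV).op).hom s) := by
    change (X.presheaf.map (homOfLE (X.basicOpen_le f)).op).hom
      ((X.presheaf.map (homOfLE hUV).op).hom s) = _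
    rw [← CommRingCat.comp_apply, ← CommRingCat.comp_apply, ← Functor.map_comp, ← Functor.map_comp]
    rfl
  rw [e1, hs, map_zero]


/-- an open subscheme `W` containing the complement of an effective Cartier divisor is
scheme-theoretically dense -/
theorem dominant_of_compl_le {X : Scheme.{u}} {𝓘 : X.IdealSheafData} (h : BlowUp.IsEffCartierIdeal 𝓘)
    (W : X.Opens) (hW : ∀ x, x ∉ 𝓘.support → x ∈ W) :
    IsSchemeTheoreticallyDominant W.ι := by
  rw [isSchemeTheoreticallyDominant_iff, eq_bot_iff]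
  intro U
  refine (Scheme.Hom.ideal_ker_le _ U).trans ?_
  rw [Scheme.IdealSheafData.ideal_bot, Pi.bot_apply, le_bot_iff,
    ← RingHom.injective_iff_ker_eq_bot, Scheme.Opens.ι_app]
  apply res_injective h
  intro x hxU hx
  have hxW : x ∈ W := hW x hx
  exact ⟨⟨x, hxW⟩, hxU, rfl⟩

theorem isAffineHom_compl {X : Scheme.{u}} {𝓘 : X.IdealSheafData} (h : BlowUp.IsEffCartierIdeal 𝓘) :
    IsAffineHom (Scheme.Opens.ι (X := X) 𝓘.support.compl) := by
  let W : X.Opens := 𝓘.support.compl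
  show IsAffineHom W.ι
  apply isAffineHom_of_forall_exists_isAffineOpen
  intro x
  obtain ⟨U, hxU, f, hf, hI⟩ := h x
  refine ⟨U.1, hxU, U.2, ?_⟩
  rw [← W.ι.isAffineOpen_iff_of_isOpenImmersion, Scheme.Hom.image_preimage_eq_opensRange_inf,
    Scheme.Opens.opensRange_ι]
  have : W ⊓ U.1 = X.basicOpen f := by
    ext y
    constructor
    · rintro ⟨hyW, hyU⟩
      exact (mem_basicOpen_iff_not_mem_support U f hI y hyU).mpr hyW
    · intro hy
      have hyU : y ∈ U.1 := X.basicOpen_le f hy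
      exact ⟨(mem_basicOpen_iff_not_mem_support U f hI y hyU).mp hy, hyU⟩
  rw [this]
  exact U.2.basicOpen f


theorem nzd_of_mem_span {R : Type*} [CommRing R] (s a : R) (hs : s ∈ nonZeroDivisors R)
    (h : s ∈ Ideal.span {a}) : a ∈ nonZeroDivisors R := by
  obtain ⟨c, hc⟩ := Ideal.mem_span_singleton'.mp h
  rw [← hc] at hs
  exact (mul_mem_nonZeroDivisors.mp hs).2

/-- the ideal sheaf is effective Cartier near the point `y` (with arbitrarily small witnesses) -/
def IsEffCartierAt {X : Scheme.{u}} (𝓔 : X.IdealSheafData) (y : X) : Prop :=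
  ∀ N : X.Opens, y ∈ N → ∃ O : X.affineOpens, y ∈ O.1 ∧ O.1 ≤ N ∧
    ∃ c : Γ(X, O.1), c ∈ nonZeroDivisors Γ(X, O.1) ∧ 𝓔.ideal O = Ideal.span {c}

theorem isEffCartierAt_of_isEffCartierIdeal {X : Scheme.{u}} {𝓔 : X.IdealSheafData}
    (h : BlowUp.IsEffCartierIdeal 𝓔) (y : X) : IsEffCartierAt 𝓔 y :=
  fun N hy => shrink h y N hy

/-- if the restriction of `𝓔` to the open subscheme `W` is effective Cartier, then `𝓔` is
effective Cartier at the points of `W`. -/
theorem isEffCartierAt_of_comap_ι {X : Scheme.{u}} {𝓔 : X.IdealSheafData} (W : X.Opens)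
    (h : BlowUp.IsEffCartierIdeal (𝓔.comap W.ι)) (y : X) (hy : y ∈ W) : IsEffCartierAt 𝓔 y := by
  intro N hyN
  obtain ⟨O, hyO, hON, c, hc, hI⟩ := shrink h (⟨y, hy⟩ : W) (W.ι ⁻¹ᵁ N) hyN
  refine ⟨⟨W.ι ''ᵁ O.1, O.2.image_of_isOpenImmersion W.ι⟩, ⟨⟨y, hy⟩, hyO, rfl⟩, ?_, c, hc, ?_⟩
  · rintro _ ⟨z, hz, rfl⟩
    exact hON hz
  · rw [Scheme.IdealSheafData.ideal_comap_of_isOpenImmersion] at hI
    simp only [Scheme.Opens.ι_appIso, Iso.refl_inv] at hI
    exact hI

/-- **Criterion**: a locally principal ideal sheaf which is effective Cartier at the points of a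
"strongly scheme-theoretically dense" open `D` is effective Cartier. -/
theorem of_dense_of_locPrincipal {X : Scheme.{u}} (𝓔 : X.IdealSheafData) (D : X.Opens)
    (hdense : ∀ (V W : X.Opens) (hWV : W ≤ V), (∀ x ∈ V, x ∈ D → x ∈ W) →
      Function.Injective (X.presheaf.map (homOfLE hWV).op).hom)
    (hD : ∀ y ∈ D, IsEffCartierAt 𝓔 y)
    (hloc : ∀ x : X, ∃ U : X.affineOpens, x ∈ U.1 ∧ ∃ a : Γ(X, U.1), 𝓔.ideal U = Ideal.span {a}) :
    BlowUp.IsEffCartierIdeal 𝓔 := by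
  intro x
  obtain ⟨U, hxU, a, ha⟩ := hloc x
  refine ⟨U, hxU, a, ?_, ha⟩
  rw [mem_nonZeroDivisors_iff_right]
  intro s hs
  have hle : U.1 ⊓ D ≤ U.1 := inf_le_left
  apply hdense U.1 (U.1 ⊓ D) hle (fun x hxU hxD => ⟨hxU, hxD⟩)
  rw [map_zero]
  refine X.IsSheaf.section_ext fun y hy ↦ ?_
  obtain ⟨O, hyO, hOP, c, hc, hIc⟩ := hD y hy.2 (U.1 ⊓ D) hy
  refine ⟨O.1, hOP, hyO, ?_⟩
  rw [map_zero, ← CommRingCat.comp_apply, ← Functor.map_comp]
  have hOU : O.1 ≤ U.1 := hOP.trans hle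
  have hmap := 𝓔.map_ideal (U := O) (V := U) hOU
  rw [ha, Ideal.map_span, Set.image_singleton, hIc] at hmap
  have hnzd : (X.presheaf.map (homOfLE hOU).op).hom a ∈ nonZeroDivisors Γ(X, O.1) :=
    nzd_of_mem_span c _ hc (hmap ▸ Ideal.subset_span rfl)
  apply (mem_nonZeroDivisors_iff_right.mp hnzd)
  change (X.presheaf.map (homOfLE hOU).op).hom s * (X.presheaf.map (homOfLE hOU).op).hom a = 0
  rw [← map_mul, hs, map_zero]


/-- a nonzerodivisor on an affine open restricts to a nonzerodivisor on every smaller open -/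
theorem nzd_res {X : Scheme.{u}} (U : X.affineOpens) (f : Γ(X, U.1))
    (hf : f ∈ nonZeroDivisors Γ(X, U.1)) (V : X.Opens) (hVU : V ≤ U.1) :
    (X.presheaf.map (homOfLE hVU).op).hom f ∈ nonZeroDivisors Γ(X, V) := by
  rw [mem_nonZeroDivisors_iff_right]
  intro s hs
  refine X.IsSheaf.section_ext fun y hy ↦ ?_
  obtain ⟨r, hrV, hyr⟩ := U.2.exists_basicOpen_le ⟨y, hy⟩ (hVU hy)
  refine ⟨X.basicOpen r, hrV, hyr, ?_⟩
  rw [map_zero]
  have hloc := U.2.isLocalization_basicOpen r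
  have hflat : Module.Flat Γ(X, U.1) Γ(X, X.basicOpen r) :=
    IsLocalization.flat _ (Submonoid.powers r)
  have hnzd : algebraMap Γ(X, U.1) Γ(X, X.basicOpen r) f ∈ nonZeroDivisors _ :=
    nzd_of_flat (algebraMap Γ(X, U.1) Γ(X, X.basicOpen r)) hflat f hf
  apply mem_nonZeroDivisors_iff_right.mp hnzd
  have e1 : algebraMap Γ(X, U.1) Γ(X, X.basicOpen r) f =
      (X.presheaf.map (homOfLE hrV).op).hom ((X.presheaf.map (homOfLE hVU).op).hom f) := by
    change (X.presheaf.map (homOfLE (X.basicOpen_le r)).op).hom f = _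
    rw [← CommRingCat.comp_apply, ← Functor.map_comp]
    rfl
  rw [e1]
  change (X.presheaf.map (homOfLE hrV).op).hom s * _ = 0
  rw [← map_mul, hs, map_zero]

/-- restriction of a principal nonzerodivisor presentation to a smaller affine open -/
theorem restrict {X : Scheme.{u}} (𝓘 : X.IdealSheafData) (U : X.affineOpens) (f : Γ(X, U.1))
    (hf : f ∈ nonZeroDivisors Γ(X, U.1)) (hI : 𝓘.ideal U = Ideal.span {f})
    (V : X.affineOpens) (hVU : V.1 ≤ U.1) :
    (X.presheaf.map (homOfLE hVU).op).hom f ∈ nonZeroDivisors Γ(X, V.1) ∧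
      𝓘.ideal V = Ideal.span {(X.presheaf.map (homOfLE hVU).op).hom f} := by
  refine ⟨nzd_res U f hf V.1 hVU, ?_⟩
  rw [← 𝓘.map_ideal (U := V) (V := U) hVU, hI, Ideal.map_span, Set.image_singleton]
  rfl

/-- the product of two effective Cartier ideals is effective Cartier -/
theorem mul {X : Scheme.{u}} {𝓘 𝓙 : X.IdealSheafData} (hI : BlowUp.IsEffCartierIdeal 𝓘)
    (hJ : BlowUp.IsEffCartierIdeal 𝓙) : BlowUp.IsEffCartierIdeal (𝓘 * 𝓙) := by
  intro x
  obtain ⟨U, hxU, f, hf, hIf⟩ := hI x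
  obtain ⟨V, hxV, hVU, g, hg, hJg⟩ := shrink hJ x U.1 hxU
  obtain ⟨hf', hIf'⟩ := restrict 𝓘 U f hf hIf V hVU
  refine ⟨V, hxV, (X.presheaf.map (homOfLE hVU).op).hom f * g, Submonoid.mul_mem _ hf' hg, ?_⟩
  rw [Scheme.IdealSheafData.ideal_mul, Pi.mul_apply, hIf', hJg,
    Ideal.span_singleton_mul_span_singleton]

/-- germ of a nonzerodivisor on an affine open is a nonzerodivisor -/
theorem germ_nzd {X : Scheme.{u}} (O : X.Opens) (hO : IsAffineOpen O) (a : Γ(X, O))
    (ha : a ∈ nonZeroDivisors Γ(X, O)) (x : X) (hx : x ∈ O) :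
    (X.presheaf.germ O x hx).hom a ∈ nonZeroDivisors (X.presheaf.stalk x) := by
  let _ := TopCat.Presheaf.algebra_section_stalk X.presheaf (⟨x, hx⟩ : O)
  have hloc := hO.isLocalization_stalk ⟨x, hx⟩
  have hflat : Module.Flat Γ(X, O) (X.presheaf.stalk x) :=
    IsLocalization.flat _ (hO.primeIdealOf ⟨x, hx⟩).asIdeal.primeCompl
  have := nzd_of_flat (algebraMap Γ(X, O) (X.presheaf.stalk x)) hflat a ha
  exact this

/-- a section on an affine open all of whose germs are nonzerodivisors is a nonzerodivisor -/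
theorem nzd_of_germs {X : Scheme.{u}} (V : X.Opens) (t : Γ(X, V))
    (ht : ∀ x : V, (X.presheaf.germ V x.1 x.2).hom t ∈ nonZeroDivisors (X.presheaf.stalk x.1)) :
    t ∈ nonZeroDivisors Γ(X, V) := by
  rw [mem_nonZeroDivisors_iff_right]
  intro z hz
  refine TopCat.Presheaf.section_ext X.sheaf V _ _ (fun x hx => ?_)
  show (X.presheaf.germ V x hx).hom z = (X.presheaf.germ V x hx).hom 0
  rw [map_zero]
  apply mem_nonZeroDivisors_iff_right.mp (ht ⟨x, hx⟩)
  change (X.presheaf.germ V x hx).hom z * (X.presheaf.germ V x hx).hom t = 0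
  rw [← map_mul, hz, map_zero]

end Groth.Agent.Helper4.EffCartier
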