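import Mathlib

/-!
# Zero-dimensional schemes of finite type over a field (helper4)
-/

set_option backward.isDefEq.respectTransparency.types false
set_option synthInstance.maxHeartbeats 400000
set_option autoImplicit false
set_option linter.unusedSectionVars false
set_option linter.style.haveILetI false
set_option linter.unusedSimpArgs false
universe u v

namespace Groth.Agent.Lib.Helper4.ZeroDim
open AlgebraicGeometry CategoryTheory TopologicalSpace

lemma finite_of_dim_le_zero {k : Type u} [Field k] {X : Scheme.{u}} (f : X ⟶ Spec (CommRingCat.of k))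
    [LocallyOfFiniteType f] [QuasiCompact f] (hdim : topologicalKrullDim X ≤ 0) :
    IsAffine X ∧ IsFinite f ∧ IsArtinianScheme X := by
  have : IsLocallyNoetherian X := LocallyOfFiniteType.isLocallyNoetherian f
  have : IsLocallyArtinian X := .of_topologicalKrullDim_le_zero hdim
  have : CompactSpace X := QuasiCompact.compactSpace_of_compactSpace f
  have : Finite X := finite_of_compact_of_discrete
  have : LocallyQuasiFinite f :=
    (locallyQuasiFinite_iff_isDiscrete_preimage_singleton (f := f)).mpr fun x =>
      isDiscrete_iff_discreteTopology.mpr inferInstance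
  exact ⟨inferInstance, .of_locallyQuasiFinite f, ⟨⟩⟩

theorem S1529_main (k : Type u) [Field k] (X : Scheme.{u}) [X.Over (Spec (CommRingCat.of k))]
    [LocallyOfFiniteType (X ↘ (Spec (CommRingCat.of k)))] [QuasiCompact (X ↘ (Spec (CommRingCat.of k)))]
    (hdim : topologicalKrullDim X ≤ 0) :
    IsAffine X ∧ IsFinite (X ↘ (Spec (CommRingCat.of k))) :=
  ⟨(finite_of_dim_le_zero (X ↘ (Spec (CommRingCat.of k))) hdim).1,
    (finite_of_dim_le_zero (X ↘ (Spec (CommRingCat.of k))) hdim).2.1⟩

/-- On a discrete scheme, global sections are the product of the stalks. -/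
lemma bijective_germ_of_discrete (X : Scheme.{u}) [DiscreteTopology X] :
    Function.Bijective (fun s : Γ(X, ⊤) => fun x : X => X.presheaf.germ ⊤ x trivial s) := by
  constructor
  · intro s t h
    apply TopCat.Presheaf.section_ext X.sheaf ⊤ s t
    intro x hx
    exact congrFun h x
  · intro t
    let U : X → X.Opens := fun x => ⟨{x}, isOpen_discrete _⟩
    have hxU : ∀ x, x ∈ U x := fun x => rfl
    have h1 : ∀ x, ∃ s : Γ(X, U x), X.presheaf.germ (U x) x (hxU x) s = t x := by
      intro x
      obtain ⟨V, hxV, s, hs⟩ := X.presheaf.exists_germ_eq (t x)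
      have hle : U x ≤ V := fun y hy => by
        have : y = x := hy
        rw [this]; exact hxV
      refine ⟨X.presheaf.map (homOfLE hle).op s, ?_⟩
      rw [TopCat.Presheaf.germ_res_apply]
      exact hs
    choose sf hsf using h1
    have hcompat : TopCat.Presheaf.IsCompatible X.sheaf.1 U sf := by
      intro x y
      by_cases hxy : x = y
      · subst hxy
        rfl
      · have he : U x ⊓ U y = ⊥ := by
          ext z
          simp only [Opens.coe_inf, Opens.coe_bot, Set.mem_inter_iff, Set.mem_empty_iff_false,
            iff_false, not_and]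
          intro h1 h2
          have e1 : z = x := h1
          have e2 : z = y := h2
          exact hxy (e1.symm.trans e2)
        have : Subsingleton Γ(X, U x ⊓ U y) := by
          rw [he]; infer_instance
        exact Subsingleton.elim (α := Γ(X, U x ⊓ U y)) _ _
    obtain ⟨s, hs, -⟩ := X.sheaf.existsUnique_gluing' U ⊤ (fun x => homOfLE le_top)
      (fun x _ => Opens.mem_iSup.mpr ⟨x, hxU x⟩) sf hcompat
    refine ⟨s, funext fun x => ?_⟩
    have := hs x
    rw [← hsf x, ← this]
    exact (TopCat.Presheaf.germ_res_apply X.presheaf (homOfLE le_top) x (hxU x) s).symm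

theorem S10832_main (k : Type u) [Field k] {X : Scheme.{u}} [Nonempty X]
    (f : X ⟶ Spec (CommRingCat.of k)) [LocallyOfFiniteType f] [QuasiCompact f] :
    [topologicalKrullDim ↥X = 0,
      IsAffine X ∧ f.appTop.hom.Finite ∧
        Function.Bijective (fun s : Γ(X, ⊤) => fun x : X => X.presheaf.germ ⊤ x trivial s),
      DiscreteTopology ↥X,
      Finite ↥X].TFAE := by
  tfae_have 1 → 2 := by
    intro h
    obtain ⟨h1, h2, h3⟩ := finite_of_dim_le_zero f h.le
    exact ⟨h1, f.finite_appTop, bijective_germ_of_discrete X⟩
  tfae_have 2 → 4 := by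
    rintro ⟨h1, h2, -⟩
    have hF : IsField Γ(Spec (CommRingCat.of k), ⊤) :=
      MulEquiv.isField (Field.toIsField k)
        (Scheme.ΓSpecIso (CommRingCat.of k)).commRingCatIsoToRingEquiv.toMulEquiv
    letI := hF.toField
    algebraize [f.appTop.hom]
    have : IsArtinianRing Γ(X, ⊤) := IsArtinianRing.of_finite Γ(Spec (CommRingCat.of k), ⊤) _
    have : Finite (Spec Γ(X, ⊤)) := inferInstanceAs (Finite (PrimeSpectrum Γ(X, ⊤)))
    exact Finite.of_equiv _ X.isoSpec.hom.homeomorph.symm.toEquiv
  tfae_have 4 → 3 := by
    intro h
    have : JacobsonSpace X := LocallyOfFiniteType.jacobsonSpace f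
    infer_instance
  tfae_have 3 → 1 := by
    intro h
    apply le_antisymm (topologicalKrullDim_zero_of_discreteTopology X)
    have : Nonempty (TopologicalSpace.IrreducibleCloseds X) :=
      ⟨⟨closure {Classical.arbitrary X}, isIrreducible_singleton.closure, isClosed_closure⟩⟩
    exact Order.krullDim_nonneg
  tfae_finish

end Groth.Agent.Lib.Helper4.ZeroDim
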