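import Mathlib

/-!
# Locally closed points of locally Noetherian schemes: dimension of closure, existence of closed points (helper4)
-/

set_option backward.isDefEq.respectTransparency.types false
set_option synthInstance.maxHeartbeats 400000
set_option autoImplicit false
set_option linter.unusedSectionVars false
set_option linter.style.haveILetI false
set_option linter.unusedSimpArgs false
universe u v w

namespace Groth.Agent.Lib.Helper4.LocClosedPt1

/-- In a Noetherian domain, a prime of height `≤ 1` has no nonzero prime strictly below it. -/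
theorem eq_of_height_le_one {D : Type u} [CommRing D] [IsDomain D] [IsNoetherianRing D]
    {q q' : Ideal D} [q.IsPrime] [q'.IsPrime] (hq : q.height ≤ 1) (hq' : q' ≠ ⊥) (hle : q' ≤ q) :
    q' = q := by
  by_contra hne
  have hlt : q' < q := lt_of_le_of_ne hle hne
  have h1 : q'.height < q.height := Ideal.height_strict_mono_of_isPrime_of_isPrime hlt
  have h2 : q'.height = 0 := by
    have : q'.height < 1 := lt_of_lt_of_le h1 hq
    exact Order.lt_one_iff.mp this
  rw [Ideal.height_eq_zero_iff, IsDomain.minimalPrimes_eq_singleton_bot] at h2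
  exact hq' h2

/-- A Noetherian domain in which some nonzero `f` lies in every nonzero prime has dimension
`≤ 1`. -/
theorem no_chain_dom {D : Type u} [CommRing D] [IsDomain D] [IsNoetherianRing D] (f : D)
    (hf : f ≠ 0) (h : ∀ Q : Ideal D, Q.IsPrime → Q ≠ ⊥ → f ∈ Q) (Q1 Q2 : Ideal D) [Q1.IsPrime]
    [Q2.IsPrime] (h1 : ⊥ < Q1) (h2 : Q1 < Q2) : False := by
  classical
  have hfin := Ideal.finite_minimalPrimes_of_isNoetherianRing D (Ideal.span {f})
  have hcover : (Q2 : Set D) ⊆ ⋃ q ∈ (hfin.toFinset : Set (Ideal D)), (q : Set D) := by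
    intro x hx
    by_cases hx0 : x = 0
    · -- need some member of Σ: use the element `f`-minimal prime below `Q2`
      subst hx0
      have hQ2 : Q2 ≠ ⊥ := fun h' => by
        rw [h'] at h2; exact not_lt_bot h2
      obtain ⟨q, hq, -⟩ := Ideal.exists_minimalPrimes_le
        (I := Ideal.span {f}) (J := Q2) ((Ideal.span_singleton_le_iff_mem _).mpr (h Q2 inferInstance hQ2))
      simp only [Set.mem_iUnion]
      exact ⟨q, by simpa using hq, zero_mem _⟩
    · obtain ⟨qx, hqx, hqxle⟩ := Ideal.exists_minimalPrimes_le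
        (I := Ideal.span {x}) (J := Q2) ((Ideal.span_singleton_le_iff_mem _).mpr hx)
      haveI : qx.IsPrime := hqx.1.1
      have hxq : x ∈ qx := hqx.1.2 (Ideal.mem_span_singleton_self x)
      have hqx0 : qx ≠ ⊥ := fun h' => hx0 (by rw [h'] at hxq; exact hxq)
      have hht : qx.height ≤ 1 :=
        Ideal.height_le_one_of_isPrincipal_of_mem_minimalPrimes _ _ hqx
      have hfq : f ∈ qx := h qx inferInstance hqx0
      obtain ⟨q', hq', hq'le⟩ := Ideal.exists_minimalPrimes_le
        (I := Ideal.span {f}) (J := qx) ((Ideal.span_singleton_le_iff_mem _).mpr hfq)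
      haveI : q'.IsPrime := hq'.1.1
      have hq'0 : q' ≠ ⊥ := fun h' => hf (by
        have := hq'.1.2 (Ideal.mem_span_singleton_self f)
        rw [h'] at this; exact this)
      have := eq_of_height_le_one hht hq'0 hq'le
      subst this
      simp only [Set.mem_iUnion]
      exact ⟨q', by simpa using hq', hxq⟩
  rw [Ideal.subset_union_prime ⊥ ⊥ (fun i hi _ _ => by
    have : i ∈ (Ideal.span {f}).minimalPrimes := by simpa using hi
    exact this.1.1)] at hcover
  obtain ⟨q, hq, hQ2q⟩ := hcover
  have hq : q ∈ (Ideal.span {f}).minimalPrimes := by simpa using hq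
  haveI : q.IsPrime := hq.1.1
  have hht : q.height ≤ 1 := Ideal.height_le_one_of_isPrincipal_of_mem_minimalPrimes _ _ hq
  have hQ10 : Q1 ≠ ⊥ := ne_of_gt h1
  have := eq_of_height_le_one hht hQ10 (h2.le.trans hQ2q)
  subst this
  exact absurd (le_antisymm h2.le hQ2q) (ne_of_lt h2)


/-- In a Noetherian ring, if `f ∉ p` lies in every prime strictly above `p`, there is no chain
`p < P1 < P2`. -/
theorem no_chain {A : Type u} [CommRing A] [IsNoetherianRing A] (p P1 P2 : PrimeSpectrum A)
    (f : A) (hf : f ∉ p.asIdeal) (h : ∀ P : PrimeSpectrum A, p < P → f ∈ P.asIdeal)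
    (h1 : p < P1) (h2 : P1 < P2) : False := by
  let π := Ideal.Quotient.mk p.asIdeal
  have hπ : Function.Surjective π := Ideal.Quotient.mk_surjective
  have hker : RingHom.ker π = p.asIdeal := Ideal.mk_ker
  have hcm : ∀ P : PrimeSpectrum A, p ≤ P → (P.asIdeal.map π).comap π = P.asIdeal := by
    intro P hP
    rw [Ideal.comap_map_of_surjective π hπ, ← RingHom.ker_eq_comap_bot, hker]
    exact sup_eq_left.mpr hP
  have hprime : ∀ P : PrimeSpectrum A, p ≤ P → (P.asIdeal.map π).IsPrime := by
    intro P hP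
    exact Ideal.map_isPrime_of_surjective hπ (by rw [hker]; exact hP)
  haveI := hprime P1 h1.le
  haveI := hprime P2 (h1.le.trans h2.le)
  have hbot : (⊥ : Ideal (A ⧸ p.asIdeal)).comap π = p.asIdeal := by
    rw [← RingHom.ker_eq_comap_bot, hker]
  refine no_chain_dom (D := A ⧸ p.asIdeal) (π f) ?_ ?_ (P1.asIdeal.map π) (P2.asIdeal.map π) ?_ ?_
  · intro h0
    exact hf (Ideal.Quotient.eq_zero_iff_mem.mp h0)
  · intro Q hQ hQ0
    have hle : p ≤ ⟨Q.comap π, inferInstance⟩ := by
      change p.asIdeal ≤ Q.comap π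
      exact le_trans (le_of_eq hbot.symm) (Ideal.comap_mono bot_le)
    have hne : p ≠ ⟨Q.comap π, inferInstance⟩ := by
      intro he
      apply hQ0
      have : p.asIdeal = Q.comap π := congrArg PrimeSpectrum.asIdeal he
      rw [← Ideal.map_comap_of_surjective π hπ Q, ← this]
      exact Ideal.map_quotient_self p.asIdeal
    exact h _ (lt_of_le_of_ne hle hne)
  · refine bot_lt_iff_ne_bot.mpr fun h0 => ?_
    have := hcm P1 h1.le
    rw [h0, hbot] at this
    exact (ne_of_lt h1) (PrimeSpectrum.ext this)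
  · refine lt_of_le_of_ne (Ideal.map_mono h2.le) fun he => ?_
    have e1 := hcm P1 h1.le
    have e2 := hcm P2 (h1.le.trans h2.le)
    rw [he, e2] at e1
    exact (ne_of_lt h2) (PrimeSpectrum.ext e1.symm)


open AlgebraicGeometry TopologicalSpace

/-- If `{x}` is locally closed in a locally Noetherian scheme, there is no chain of
specialisations `x ⤳ y ⤳ z` of pairwise distinct points. -/
theorem no_spec_chain (X : Scheme.{u}) [IsLocallyNoetherian X] (x y z : X)
    (hx : IsLocallyClosed ({x} : Set X)) (hxy : x ⤳ y) (hyz : y ⤳ z) (h1 : x ≠ y) (h2 : y ≠ z) :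
    False := by
  obtain ⟨W, hW, hzW, -⟩ := exists_isAffineOpen_mem_and_subset (x := z) (U := ⊤) trivial
  have hyW : y ∈ W := hyz.mem_open W.isOpen hzW
  have hxW : x ∈ W := hxy.mem_open W.isOpen hyW
  haveI : IsNoetherianRing Γ(X, W) := IsLocallyNoetherian.component_noetherian ⟨W, hW⟩
  set px := hW.primeIdealOf ⟨x, hxW⟩ with hpx
  set py := hW.primeIdealOf ⟨y, hyW⟩ with hpy
  set pz := hW.primeIdealOf ⟨z, hzW⟩ with hpz
  have ex : hW.fromSpec px = x := hW.fromSpec_primeIdealOf ⟨x, hxW⟩
  have ey : hW.fromSpec py = y := hW.fromSpec_primeIdealOf ⟨y, hyW⟩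
  have ez : hW.fromSpec pz = z := hW.fromSpec_primeIdealOf ⟨z, hzW⟩
  have hemb : Topology.IsOpenEmbedding hW.fromSpec := hW.fromSpec.isOpenEmbedding
  have hxy' : px < py := by
    refine lt_of_le_of_ne ((PrimeSpectrum.le_iff_specializes _ _).mpr ?_) ?_
    · refine (hemb.isInducing.specializes_iff (x := (px : ↥(Spec Γ(X, W)))) (y := py)).mp ?_
      rw [ex, ey]; exact hxy
    · intro h; apply h1; rw [← ex, ← ey, h]
  have hyz' : py < pz := by
    refine lt_of_le_of_ne ((PrimeSpectrum.le_iff_specializes _ _).mpr ?_) ?_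
    · refine (hemb.isInducing.specializes_iff (x := (py : ↥(Spec Γ(X, W)))) (y := pz)).mp ?_
      rw [ey, ez]; exact hyz
    · intro h; apply h2; rw [← ey, ← ez, h]
  -- an open neighbourhood `U` of `x` with `closure {x} ∩ U = {x}`
  obtain ⟨U, Z, hU, hZ, hUZ⟩ := hx
  have hxU : x ∈ U := by
    have : x ∈ U ∩ Z := by rw [← hUZ]; rfl
    exact this.1
  have hxZ : x ∈ Z := by
    have : x ∈ U ∩ Z := by rw [← hUZ]; rfl
    exact this.2
  have hclU : ∀ w, x ⤳ w → w ∈ U → w = x := by
    intro w hw hwU
    have : w ∈ U ∩ Z := ⟨hwU, hw.mem_closed hZ hxZ⟩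
    rw [← hUZ] at this
    exact this
  -- pull back to `Spec`
  have hU' : IsOpen (hW.fromSpec ⁻¹' U) := hU.preimage hemb.continuous
  have hpxU : px ∈ hW.fromSpec ⁻¹' U := by
    change hW.fromSpec px ∈ U
    rw [ex]; exact hxU
  obtain ⟨_, ⟨f, rfl⟩, hpf, hfU⟩ :=
    PrimeSpectrum.isTopologicalBasis_basic_opens.exists_subset_of_mem_open hpxU hU'
  refine no_chain px py pz f hpf ?_ hxy' hyz'
  intro P hP
  by_contra hfP
  have hPU : hW.fromSpec P ∈ U := hfU hfP
  have hsp : x ⤳ hW.fromSpec P := by
    rw [← ex]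
    exact ((PrimeSpectrum.le_iff_specializes _ _).mp hP.le).map hemb.continuous
  have := hclU _ hsp hPU
  rw [← ex] at this
  exact (ne_of_lt hP) (hemb.injective this).symm


/-- S4712 -/
theorem dim_closure_le_one (X : Scheme.{u}) [IsLocallyNoetherian X] (x : X)
    (hx : IsLocallyClosed ({x} : Set X)) :
    topologicalKrullDim (closure ({x} : Set X)) ≤ 1 ∧
      ∀ y ∈ closure ({x} : Set X), y ≠ x → IsClosed ({y} : Set X) := by
  have hb : ∀ y ∈ closure ({x} : Set X), y ≠ x → IsClosed ({y} : Set X) := by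
    intro y hy hyx
    refine isClosed_of_closure_subset fun z hz => ?_
    by_contra hzy
    exact no_spec_chain X x y z hx (specializes_iff_mem_closure.mpr hy)
      (specializes_iff_mem_closure.mpr hz) (Ne.symm hyx) (fun h => hzy h.symm)
  refine ⟨?_, hb⟩
  haveI : QuasiSober ↥(closure ({x} : Set X)) :=
    (isClosed_closure.isClosedEmbedding_subtypeVal).quasiSober
  unfold topologicalKrullDim
  rw [Order.krullDim_le_one_iff]
  intro Z
  have hgen := Z.isIrreducible'.isGenericPoint_genericPoint Z.isClosed'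
  set ζ := Z.isIrreducible'.genericPoint with hζ
  by_cases hζx : ζ.1 = x
  · right
    have huniv : ∀ t, t ∈ Z.carrier := by
      intro t
      rw [← hgen.def, ← specializes_iff_mem_closure, subtype_specializes_iff, hζx,
        specializes_iff_mem_closure]
      exact t.2
    intro Z' _ t _
    exact huniv t
  · left
    have hcl : IsClosed ({ζ} : Set ↥(closure ({x} : Set X))) := by
      have := (hb ζ.1 ζ.2 hζx).preimage
        (continuous_subtype_val (p := fun t => t ∈ closure ({x} : Set X)))
      convert this using 1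
      ext t
      simp [Subtype.ext_iff]
    have hZ : Z.carrier = {ζ} := by
      rw [← hgen.def, hcl.closure_eq]
    intro Z' hZ' t ht
    change t ∈ Z.carrier at ht
    rw [hZ, Set.mem_singleton_iff] at ht
    obtain ⟨t', ht'⟩ := Z'.isIrreducible'.nonempty
    have : t' ∈ Z.carrier := hZ' ht'
    rw [hZ, Set.mem_singleton_iff] at this
    rw [ht, ← this]
    exact ht'

/-- S4713 -/
theorem exists_closedPoint (X : Scheme.{u}) [IsLocallyNoetherian X]
    (Z : Set X) (hZ : IsClosed Z) (hne : Z.Nonempty) : ∃ x ∈ Z, IsClosed ({x} : Set X) := by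
  obtain ⟨z, hz⟩ := hne
  obtain ⟨W, hW, hzW, -⟩ := exists_isAffineOpen_mem_and_subset (x := z) (U := ⊤) trivial
  set pz := hW.primeIdealOf ⟨z, hzW⟩ with hpz
  have ez : hW.fromSpec pz = z := hW.fromSpec_primeIdealOf ⟨z, hzW⟩
  have hemb : Topology.IsOpenEmbedding hW.fromSpec := hW.fromSpec.isOpenEmbedding
  obtain ⟨M, hM, hle⟩ := Ideal.exists_le_maximal pz.asIdeal pz.2.ne_top
  let pM : PrimeSpectrum Γ(X, W) := ⟨M, hM.isPrime⟩
  set y := hW.fromSpec pM with hy
  have hzy : z ⤳ y := by
    rw [← ez]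
    exact ((PrimeSpectrum.le_iff_specializes pz pM).mp hle).map hemb.continuous
  have hyZ : y ∈ Z := hzy.mem_closed hZ hz
  have hlc : IsLocallyClosed ({y} : Set X) := by
    refine ⟨W, closure {y}, W.isOpen, isClosed_closure, ?_⟩
    ext w
    constructor
    · intro hw
      rw [Set.mem_singleton_iff] at hw
      subst hw
      refine ⟨?_, subset_closure rfl⟩
      rw [← hW.range_fromSpec]
      exact ⟨pM, rfl⟩
    · rintro ⟨hwW, hwy⟩
      rw [← hW.range_fromSpec] at hwW
      obtain ⟨q, rfl⟩ := hwW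
      have h1 : y ⤳ hW.fromSpec q := specializes_iff_mem_closure.mpr hwy
      have h2 : pM ≤ q := by
        rw [PrimeSpectrum.le_iff_specializes]
        exact (hemb.isInducing.specializes_iff (x := (pM : ↥(Spec Γ(X, W)))) (y := q)).mp h1
      have h3 : M = q.asIdeal := hM.eq_of_le q.2.ne_top h2
      have h4 : q = pM := PrimeSpectrum.ext h3.symm
      rw [h4]; rfl
  by_cases hcase : ∃ y' ∈ closure ({y} : Set X), y' ≠ y
  · obtain ⟨y', hy', hne'⟩ := hcase
    exact ⟨y', closure_minimal (Set.singleton_subset_iff.mpr hyZ) hZ hy',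
      (dim_closure_le_one X y hlc).2 y' hy' hne'⟩
  · push Not at hcase
    exact ⟨y, hyZ, isClosed_of_closure_subset fun w hw => hcase w hw⟩

end Groth.Agent.Lib.Helper4.LocClosedPt1
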