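import Mathlib
import Groth.Agent.Lib.Helper4.LocClosedPt1

/-!
# Topology of irreducible algebraic curves; dominant iff finite fibres (helper4)
-/

set_option backward.isDefEq.respectTransparency.types false
set_option synthInstance.maxHeartbeats 400000
set_option autoImplicit false
set_option linter.unusedSectionVars false
set_option linter.style.haveILetI false
set_option linter.unusedSimpArgs false
universe u v w
open CategoryTheory CategoryTheory.Limits AlgebraicGeometry TopologicalSpace IsLocalRing

namespace Groth.Agent.Lib.Helper4.CurveTop1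

/-- In the specialization order of a T0 space, a proper specialization is a strict inequality. -/
theorem lt_of_specializes_of_ne {X : Scheme.{u}} {x y : X}
    (h : x ⤳ y) (hne : x ≠ y) : y < x := by
  refine lt_of_le_not_ge h ?_
  intro h'
  have h'' : y ⤳ x := h'
  exact hne (h.antisymm h'').eq

/-- On an irreducible locally Noetherian scheme whose closed points have one-dimensional local
rings, the generic point is the only non-closed point. -/
theorem eq_genericPoint_of_not_isClosed (X : Scheme.{u}) [IsLocallyNoetherian X]
    [IrreducibleSpace X]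
    (hcurve : ∀ x : X, IsClosed ({x} : Set X) → ringKrullDim (X.presheaf.stalk x) = 1)
    (x : X) (hx : ¬ IsClosed ({x} : Set X)) : x = genericPoint X := by
  by_contra hne
  obtain ⟨y, hy, hycl⟩ := Groth.Agent.Lib.Helper4.LocClosedPt1.exists_closedPoint X
    (closure {x}) isClosed_closure ⟨x, subset_closure rfl⟩
  have hxy : x ⤳ y := specializes_iff_mem_closure.mpr hy
  have hxy' : x ≠ y := by
    rintro rfl; exact hx hycl
  have h1 : y < x := lt_of_specializes_of_ne hxy hxy'
  have h2 : x < genericPoint X :=
    lt_of_specializes_of_ne (genericPoint_specializes x) (fun e => hne e.symm)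
  have h3 : Order.coheight x + 1 ≤ Order.coheight y := Order.coheight_add_one_le h1
  have h4 : Order.coheight (genericPoint X) + 1 ≤ Order.coheight x := Order.coheight_add_one_le h2
  have h5 := hcurve y hycl
  rw [ringKrullDim_stalk_eq_coheight] at h5
  have h6 : Order.coheight y = 1 := by exact_mod_cast h5
  have h4' : (1 : ℕ∞) ≤ Order.coheight x := le_trans le_add_self h4
  have h7 : (1 : ℕ∞) + 1 ≤ Order.coheight y := (add_le_add h4' le_rfl).trans h3
  rw [h6] at h7
  exact absurd h7 (by decide)

/-- The generic point of such a scheme is not closed. -/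
theorem not_isClosed_genericPoint (X : Scheme.{u}) [IrreducibleSpace X]
    (hcurve : ∀ x : X, IsClosed ({x} : Set X) → ringKrullDim (X.presheaf.stalk x) = 1) :
    ¬ IsClosed ({genericPoint X} : Set X) := by
  intro h
  have h5 := hcurve _ h
  rw [ringKrullDim_stalk_eq_coheight] at h5
  have h6 : Order.coheight (genericPoint X) = 1 := by exact_mod_cast h5
  have h7 : Order.coheight (genericPoint X) = 0 := by
    rw [Order.coheight_eq_zero]
    intro b _
    exact genericPoint_specializes b
  rw [h7] at h6
  exact absurd h6 (by decide)

/-- Proper closed subsets of a Noetherian sober space all of whose points are closed are finite. -/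
theorem finite_of_forall_isClosed_singleton {X : Type*} [TopologicalSpace X] [NoetherianSpace X]
    [QuasiSober X] (F : Set X) (hF : IsClosed F) (h : ∀ x ∈ F, IsClosed ({x} : Set X)) :
    F.Finite := by
  obtain ⟨S, hSf, hSc, hSi, rfl⟩ := NoetherianSpace.exists_finite_set_isClosed_irreducible hF
  refine Set.Finite.sUnion hSf ?_
  intro t ht
  obtain ⟨z, hz⟩ := QuasiSober.sober (hSi t ht) (hSc t ht)
  have hzt : z ∈ t := hz.mem
  have hzc : IsClosed ({z} : Set X) := h z ⟨t, ht, hzt⟩
  have : t = {z} := by
    rw [← hz.def, hzc.closure_eq]
  rw [this]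
  exact Set.finite_singleton z

theorem S4443_main (X : Scheme.{u}) [IsLocallyNoetherian X] [CompactSpace X] [IrreducibleSpace X]
    (hcurve : ∀ x : X, IsClosed ({x} : Set X) → ringKrullDim (X.presheaf.stalk x) = 1) :
    (∀ x : X, ¬ IsClosed ({x} : Set X) → x = genericPoint X) ∧
      ∀ F : Set X, IsClosed F →
        (F ≠ Set.univ ↔ (F.Finite ∧ ∀ x ∈ F, IsClosed ({x} : Set X))) := by
  refine ⟨eq_genericPoint_of_not_isClosed X hcurve, ?_⟩
  intro F hF
  haveI : IsNoetherian X := {}
  constructor
  · intro hne
    have hη : genericPoint X ∉ F := by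
      intro h
      apply hne
      rw [Set.eq_univ_iff_forall]
      intro x
      exact hF.closure_subset_iff.mpr (Set.singleton_subset_iff.mpr h)
        (specializes_iff_mem_closure.mp (genericPoint_specializes x))
    have hcl : ∀ x ∈ F, IsClosed ({x} : Set X) := by
      intro x hxF
      by_contra hx
      exact hη (eq_genericPoint_of_not_isClosed X hcurve x hx ▸ hxF)
    exact ⟨finite_of_forall_isClosed_singleton F hF hcl, hcl⟩
  · rintro ⟨-, hcl⟩ rfl
    exact not_isClosed_genericPoint X hcurve (hcl _ trivial)



theorem map_genericPoint_of_isDominant {X Y : Scheme.{u}} [IrreducibleSpace X]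
    [IrreducibleSpace Y] (f : X ⟶ Y) [IsDominant f] : f (genericPoint X) = genericPoint Y := by
  have h : IsGenericPoint (f (genericPoint X)) (Set.univ : Set Y) := by
    show closure {f (genericPoint X)} = Set.univ
    rw [Set.eq_univ_iff_forall]
    intro y
    have h1 : y ∈ closure (Set.range f) := f.denseRange y
    have h2 : Set.range f ⊆ closure {f (genericPoint X)} := by
      rintro _ ⟨x, rfl⟩
      exact specializes_iff_mem_closure.mp ((genericPoint_specializes x).map f.continuous)
    exact closure_minimal h2 isClosed_closure h1
  exact h.eq (genericPoint_spec Y)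

theorem isDominant_of_map_genericPoint {X Y : Scheme.{u}} [IrreducibleSpace X]
    [IrreducibleSpace Y] (f : X ⟶ Y) (h : f (genericPoint X) = genericPoint Y) :
    IsDominant f := by
  constructor
  intro y
  have h1 : genericPoint Y ⤳ y := genericPoint_specializes y
  have h2 : ({genericPoint Y} : Set Y) ⊆ Set.range f :=
    Set.singleton_subset_iff.mpr ⟨genericPoint X, h⟩
  exact closure_mono h2 (specializes_iff_mem_closure.mp h1)

theorem S2346_main (k : Type u) [Field k] (X Y : Scheme.{u}) [X.Over (Spec (CommRingCat.of k))]
    [Y.Over (Spec (CommRingCat.of k))]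
    [LocallyOfFiniteType (X ↘ (Spec (CommRingCat.of k)))]
    [QuasiCompact (X ↘ (Spec (CommRingCat.of k)))]
    [LocallyOfFiniteType (Y ↘ (Spec (CommRingCat.of k)))]
    [IrreducibleSpace X] [IrreducibleSpace Y]
    (hX : (∀ x : X, IsClosed ({x} : Set X) → ringKrullDim (X.presheaf.stalk x) = 1))
    (hY : (∀ x : Y, IsClosed ({x} : Set Y) → ringKrullDim (Y.presheaf.stalk x) = 1))
    (f : X ⟶ Y) (hf : f ≫ (Y ↘ (Spec (CommRingCat.of k))) = X ↘ (Spec (CommRingCat.of k))) :
    IsDominant f ↔ ∀ y : Y, (f.base ⁻¹' {y}).Finite := by
  haveI : IsLocallyNoetherian X :=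
    LocallyOfFiniteType.isLocallyNoetherian (X ↘ (Spec (CommRingCat.of k)))
  haveI : IsLocallyNoetherian Y :=
    LocallyOfFiniteType.isLocallyNoetherian (Y ↘ (Spec (CommRingCat.of k)))
  haveI : CompactSpace X :=
    QuasiCompact.compactSpace_of_compactSpace (X ↘ (Spec (CommRingCat.of k)))
  haveI : JacobsonSpace X :=
    LocallyOfFiniteType.jacobsonSpace (X ↘ (Spec (CommRingCat.of k)))
  haveI : JacobsonSpace Y :=
    LocallyOfFiniteType.jacobsonSpace (Y ↘ (Spec (CommRingCat.of k)))
  haveI : LocallyOfFiniteType f := by
    haveI : LocallyOfFiniteType (f ≫ (Y ↘ (Spec (CommRingCat.of k)))) := by rw [hf]; infer_instance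
    exact locallyOfFiniteType_of_comp f (Y ↘ (Spec (CommRingCat.of k)))
  constructor
  · intro hdom y
    have hgen : f (genericPoint X) = genericPoint Y := map_genericPoint_of_isDominant f
    by_cases hy : y = genericPoint Y
    · subst hy
      refine (Set.finite_singleton (genericPoint X)).subset ?_
      intro x hx
      by_contra hne
      have hxcl : IsClosed ({x} : Set X) := by
        by_contra hnc
        exact hne (eq_genericPoint_of_not_isClosed X hX x hnc)
      have h1 : f x ∈ closedPoints Y := f.closePoints_subset_preimage_closedPoints hxcl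
      have h2 : f x = genericPoint Y := hx
      rw [h2] at h1
      exact not_isClosed_genericPoint Y hY h1
    · have hycl : IsClosed ({y} : Set Y) := by
        by_contra hnc
        exact hy (eq_genericPoint_of_not_isClosed Y hY y hnc)
      have hFcl : IsClosed (f.base ⁻¹' {y}) := hycl.preimage f.continuous
      have hne : f.base ⁻¹' {y} ≠ Set.univ := by
        intro h
        have : genericPoint X ∈ f.base ⁻¹' {y} := by rw [h]; trivial
        have h3 : f (genericPoint X) = y := this
        exact hy (h3.symm.trans hgen)
      exact (((S4443_main X hX).2 _ hFcl).mp hne).1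
  · intro hfin
    by_contra hnd
    have hy : f (genericPoint X) ≠ genericPoint Y :=
      fun h => hnd (isDominant_of_map_genericPoint f h)
    have hycl : IsClosed ({f (genericPoint X)} : Set Y) := by
      by_contra hnc
      exact hy (eq_genericPoint_of_not_isClosed Y hY _ hnc)
    have hall : ∀ x : X, f x = f (genericPoint X) := by
      intro x
      have h1 : f (genericPoint X) ⤳ f x := (genericPoint_specializes x).map f.continuous
      have h2 := specializes_iff_mem_closure.mp h1
      rw [hycl.closure_eq] at h2
      exact h2
    have hXfin : (Set.univ : Set X).Finite := by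
      refine (hfin (f (genericPoint X))).subset ?_
      intro x _
      exact hall x
    have hcp : IsClosed (closedPoints X) := by
      have : closedPoints X = ⋃ x ∈ closedPoints X, ({x} : Set X) := by
        ext z; simp
      rw [this]
      exact (hXfin.subset (Set.subset_univ _)).isClosed_biUnion (fun x hx => hx)
    have h4 : closedPoints X = Set.univ := by
      rw [← hcp.closure_eq]; exact closure_closedPoints
    have h5 : genericPoint X ∈ closedPoints X := by rw [h4]; trivial
    exact not_isClosed_genericPoint X hX h5



theorem S4443_main' (k : Type u) [Field k] (X : Scheme.{u})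
    [X.Over (Spec (CommRingCat.of k))] [LocallyOfFiniteType (X ↘ (Spec (CommRingCat.of k)))]
    [QuasiCompact (X ↘ (Spec (CommRingCat.of k)))] [IrreducibleSpace X]
    (hcurve : ∀ x : X, IsClosed ({x} : Set X) → ringKrullDim (X.presheaf.stalk x) = 1) :
    (∀ x : X, ¬ IsClosed ({x} : Set X) → x = genericPoint X) ∧
      ∀ F : Set X, IsClosed F →
        (F ≠ Set.univ ↔ (F.Finite ∧ ∀ x ∈ F, IsClosed ({x} : Set X))) := by
  haveI : IsLocallyNoetherian X :=
    LocallyOfFiniteType.isLocallyNoetherian (X ↘ (Spec (CommRingCat.of k)))
  haveI : CompactSpace X :=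
    QuasiCompact.compactSpace_of_compactSpace (X ↘ (Spec (CommRingCat.of k)))
  exact S4443_main X hcurve

end Groth.Agent.Lib.Helper4.CurveTop1
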