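import Mathlib

/-!
# Local isomorphisms, maximal points, separated local isos (helper4)
-/

set_option backward.isDefEq.respectTransparency.types false
set_option synthInstance.maxHeartbeats 400000
set_option autoImplicit false
set_option linter.unusedSectionVars false
set_option linter.style.haveILetI false
set_option linter.unusedSimpArgs false
universe u
open CategoryTheory CategoryTheory.Limits AlgebraicGeometry TopologicalSpace

namespace Groth.Agent.Lib.Helper4.LocalIso

section Top
variable {α : Type*} [TopologicalSpace α]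

theorem exists_generic_specializes [QuasiSober α] (x : α) :
    ∃ ξ : α, ξ ⤳ x ∧ closure {ξ} ∈ irreducibleComponents α := by
  let c : irreducibleComponents α := ⟨_, irreducibleComponent_mem_irreducibleComponents x⟩
  refine ⟨(genericPoints.ofComponent c).1, ?_, (genericPoints.ofComponent c).2⟩
  have := genericPoints.isGenericPoint_ofComponent c
  exact this.specializes mem_irreducibleComponent

theorem eq_of_specializes_generic [T0Space α] {ξ ξ' : α}
    (h : closure {ξ} ∈ irreducibleComponents α) (h' : ξ' ⤳ ξ) : ξ' = ξ := by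
  have h1 : closure {ξ} ≤ closure {ξ'} := specializes_iff_closure_subset.mp h'
  have h2 : closure {ξ'} ≤ closure {ξ} := h.2 (isIrreducible_singleton.closure) h1
  exact (h'.antisymm (specializes_iff_closure_subset.mpr h2)).eq

theorem generic_of_forall_specializes [QuasiSober α] {ξ : α} (h : ∀ ξ', ξ' ⤳ ξ → ξ' = ξ) :
    closure {ξ} ∈ irreducibleComponents α := by
  obtain ⟨ξ', h1, h2⟩ := exists_generic_specializes ξ
  rw [← h ξ' h1]; exact h2

end Top

theorem mem_range_diagonal {X Y : Scheme.{u}} (f : X ⟶ Y) (U : X.Opens)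
    [IsOpenImmersion (U.ι ≫ f)] (t : ↑(pullback f f))
    (h1 : pullback.fst f f t ∈ U) (h2 : pullback.snd f f t ∈ U) :
    t ∈ Set.range (pullback.diagonal f) := by
  let j := U.ι ≫ f
  let m : pullback j j ⟶ pullback f f :=
    pullback.map j j f f U.ι U.ι (𝟙 Y) (by simp [j]) (by simp [j])
  have hm : Set.range m = pullback.fst f f ⁻¹' Set.range U.ι ∩ pullback.snd f f ⁻¹' Set.range U.ι :=
    Scheme.Pullback.range_map ..
  have ht : t ∈ Set.range m := by
    rw [hm]
    refine ⟨?_, ?_⟩
    · show pullback.fst f f t ∈ Set.range U.ι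
      rw [Scheme.Opens.range_ι]; exact h1
    · show pullback.snd f f t ∈ Set.range U.ι
      rw [Scheme.Opens.range_ι]; exact h2
  obtain ⟨w, rfl⟩ := ht
  have hfs : pullback.fst j j = pullback.snd j j := by
    rw [← cancel_mono j]; exact pullback.condition
  have hmeq : m = pullback.fst j j ≫ U.ι ≫ pullback.diagonal f := by
    apply pullback.hom_ext
    · simp only [Category.assoc, pullback.diagonal_fst, Category.comp_id]
      exact pullback.lift_fst _ _ _
    · simp only [Category.assoc, pullback.diagonal_snd, Category.comp_id]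
      rw [hfs]
      exact pullback.lift_snd _ _ _
  rw [hmeq]
  exact ⟨U.ι (pullback.fst j j w), by simp⟩

theorem S7658_main {X Y : Scheme.{u}}
    (f : X ⟶ Y) [IsSeparated f]
    (hloc : ∀ x : X, ∃ U : X.Opens, x ∈ U ∧ IsOpenImmersion (U.ι ≫ f))
    (hinj : ∀ ξ ξ' : X, closure ({ξ} : Set X) ∈ irreducibleComponents (X : Type u) → closure ({ξ'} : Set X) ∈ irreducibleComponents (X : Type u) →
      f.base ξ = f.base ξ' → ξ = ξ') :
    IsOpenImmersion f := by
  choose U hxU hU using hloc
  have hsup : iSup U = ⊤ := by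
    rw [eq_top_iff]
    intro x _
    exact Opens.mem_iSup.mpr ⟨x, hxU x⟩
  have hflat : Flat f := IsZariskiLocalAtSource.of_iSup_eq_top U hsup (fun x => inferInstance)
  have hopen : UniversallyOpen f :=
    IsZariskiLocalAtSource.of_iSup_eq_top U hsup (fun x => inferInstance)
  have hgen : GeneralizingMap f := Flat.generalizingMap f
  have hgen1 : GeneralizingMap (pullback.fst f f) := Flat.generalizingMap _
  have hinjU : ∀ x a b : X, a ∈ U x → b ∈ U x → f a = f b → a = b := by
    intro x a b ha hb hab
    have := (U x).ι ≫ f |>.isOpenEmbedding.injective (a₁ := ⟨a, ha⟩) (a₂ := ⟨b, hb⟩) hab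
    exact congrArg Subtype.val this
  have hfinj : Function.Injective f := by
    intro x x' hxx'
    obtain ⟨t, ht1, ht2⟩ := Scheme.Pullback.exists_preimage_pullback (f := f) (g := f) x x' hxx'
    obtain ⟨ξ, hξx, hξ⟩ := exists_generic_specializes x
    obtain ⟨t', ht't, ht'⟩ := hgen1 (ht1 ▸ hξx : ξ ⤳ pullback.fst f f t)
    have hcond : f (pullback.fst f f t') = f (pullback.snd f f t') := by
      rw [← Scheme.Hom.comp_apply, ← Scheme.Hom.comp_apply, pullback.condition]
    set ξ' := pullback.snd f f t' with hξ'def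
    have hξ' : closure {ξ'} ∈ irreducibleComponents X := by
      apply generic_of_forall_specializes
      intro ξ'' hξ''
      have h1 : f ξ'' ⤳ f ξ := by
        rw [← ht', hcond]; exact hξ''.map f.continuous
      obtain ⟨ξ''', h2, h3⟩ := hgen h1
      have h4 : ξ''' = ξ := eq_of_specializes_generic hξ h2
      have h5 : f ξ'' = f ξ' := by rw [← h3, h4, ← ht', hcond]
      exact hinjU ξ' ξ'' ξ' (hξ''.mem_open (U ξ').isOpen (hxU ξ')) (hxU ξ') h5
    have hξξ' : ξ = ξ' := hinj ξ ξ' hξ hξ' (by rw [← ht']; exact hcond)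
    have ht'mem : t' ∈ Set.range (pullback.diagonal f) := by
      have := hU ξ
      apply mem_range_diagonal f (U ξ) t'
      · rw [ht']; exact hxU ξ
      · rw [← hξ'def, ← hξξ']; exact hxU ξ
    have hclosed : IsClosed (Set.range (pullback.diagonal f)) :=
      (pullback.diagonal f).isClosedEmbedding.isClosed_range
    obtain ⟨w, hw⟩ := ht't.mem_closed hclosed ht'mem
    rw [← ht1, ← ht2, ← hw, ← Scheme.Hom.comp_apply, ← Scheme.Hom.comp_apply]
    simp
  have hemb : Topology.IsOpenEmbedding f :=
    .of_continuous_injective_isOpenMap f.continuous hfinj f.isOpenMap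
  have hstalk : ∀ x, IsIso (f.stalkMap x) := by
    intro x
    have := hU x
    have h0 : IsIso ((U x).ι.stalkMap ⟨x, hxU x⟩) := inferInstance
    have h2 : IsIso (((U x).ι ≫ f).stalkMap ⟨x, hxU x⟩) := inferInstance
    have h1 : IsIso (f.stalkMap ((U x).ι ⟨x, hxU x⟩) ≫ (U x).ι.stalkMap ⟨x, hxU x⟩) := by
      rw [← Scheme.Hom.stalkMap_comp]; exact h2
    exact IsIso.of_isIso_comp_right (f.stalkMap ((U x).ι ⟨x, hxU x⟩)) ((U x).ι.stalkMap ⟨x, hxU x⟩)
  exact IsOpenImmersion.of_isIso_stalkMap f hemb

end Groth.Agent.Lib.Helper4.LocalIso
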