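import Mathlib
import Groth.Agent.Lib.Helper4.LocalIso

/-!
# Spreading out stalk isomorphisms / surjections to open / closed immersions (helper4)
-/

set_option backward.isDefEq.respectTransparency.types false
set_option synthInstance.maxHeartbeats 400000
set_option autoImplicit false
set_option linter.unusedSectionVars false
set_option linter.style.haveILetI false
set_option linter.unusedSimpArgs false
universe u v
open CategoryTheory CategoryTheory.Limits AlgebraicGeometry TopologicalSpace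
open Groth.Agent.Lib.Helper4.LocalIso

namespace Groth.Agent.Lib.Helper4.LocalIso2

section Alg
variable {A : Type u} {B : Type v} [CommRing A] [CommRing B] [Algebra A B]

/-- elements of the form `r / s^n` -/
def fracSub (B : Type v) [CommRing B] [Algebra A B] (s : A) : Subalgebra A B where
  carrier := {b | ∃ r : A, ∃ n : ℕ, b * algebraMap A B s ^ n = algebraMap A B r}
  mul_mem' := by
    rintro b b' ⟨r, n, h⟩ ⟨r', n', h'⟩
    exact ⟨r * r', n + n', by rw [pow_add, map_mul, ← h, ← h']; ring⟩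
  add_mem' := by
    rintro b b' ⟨r, n, h⟩ ⟨r', n', h'⟩
    exact ⟨r * s ^ n' + r' * s ^ n, n + n', by
      simp only [map_add, map_mul, map_pow, ← h, ← h']; ring⟩
  one_mem' := ⟨1, 0, by simp⟩
  zero_mem' := ⟨0, 0, by simp⟩
  algebraMap_mem' := fun r => ⟨r, 0, by simp⟩

theorem mem_fracSub {s : A} {b : B} :
    b ∈ fracSub B s ↔ ∃ r : A, ∃ n : ℕ, b * algebraMap A B s ^ n = algebraMap A B r := Iff.rfl

theorem alg2 [IsReduced A] (hfin : (minimalPrimes A).Finite) (p : Ideal A) [p.IsPrime] :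
    ∃ a ∉ p, ∀ x : A, (∃ t ∉ p, t * x = 0) → a * x = 0 := by
  classical
  have hex : ∀ P : Ideal A, ¬ P ≤ p → ∃ f ∈ P, f ∉ p := fun P hP => SetLike.not_le_iff_exists.mp hP
  choose f hfP hfp using hex
  let F : Ideal A → A := fun P => if h : ¬ P ≤ p then f P h else 1
  refine ⟨∏ P ∈ hfin.toFinset, F P, ?_, ?_⟩
  · rw [Ideal.IsPrime.prod_mem_iff]
    rintro ⟨P, -, hP⟩
    by_cases h : ¬ P ≤ p
    · simp only [F, dif_pos h] at hP; exact hfp P h hP
    · simp only [F, dif_neg h] at hP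
      exact (Ideal.IsPrime.ne_top ‹_›) ((Ideal.eq_top_iff_one _).mpr hP)
  · rintro x ⟨t, htp, htx⟩
    have hmem : (∏ P ∈ hfin.toFinset, F P) * x ∈ sInf (minimalPrimes A) := by
      rw [Ideal.mem_sInf]
      intro P hP
      by_cases h : ¬ P ≤ p
      · apply Ideal.mul_mem_right
        have : F P ∣ ∏ P ∈ hfin.toFinset, F P :=
          Finset.dvd_prod_of_mem _ (hfin.mem_toFinset.mpr hP)
        apply Ideal.mem_of_dvd _ this
        simp only [F, dif_pos h]; exact hfP P h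
      · rw [not_not] at h
        apply Ideal.mul_mem_left
        have hPprime : P.IsPrime := hP.1.1
        have : t * x ∈ P := by rw [htx]; exact P.zero_mem
        exact (hPprime.mem_or_mem this).resolve_left (fun ht => htp (h ht))
    have h0 : sInf (minimalPrimes A) = ⊥ := by
      show sInf ((⊥ : Ideal A).minimalPrimes) = ⊥
      rw [Ideal.sInf_minimalPrimes]
      exact (nilradical_eq_zero A)
    rw [h0] at hmem
    exact hmem


theorem alg1 [Algebra.FiniteType A B] (q : Ideal B) [q.IsPrime]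
    (Hsurj : ∀ b : B, ∃ r s : A, algebraMap A B s ∉ q ∧
      ∃ h ∉ q, h * (b * algebraMap A B s - algebraMap A B r) = 0) :
    ∃ (a : A) (g : B), algebraMap A B a ∉ q ∧ g ∉ q ∧
      IsUnit (algebraMap A (Localization.Away g) a) ∧
      ∀ z : Localization.Away g, ∃ r : A, ∃ n : ℕ,
        z * algebraMap A (Localization.Away g) a ^ n = algebraMap A (Localization.Away g) r := by
  classical
  obtain ⟨t, ht⟩ := (Algebra.FiniteType.out : (⊤ : Subalgebra A B).FG)
  choose r s hs h hh hzero using Hsurj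
  set S : A := ∏ x ∈ t, s x with hS
  set G0 : B := ∏ x ∈ t, h x with hG0
  set g₁ : B := algebraMap A B S * G0 with hg₁
  have hSq : algebraMap A B S ∉ q := by
    rw [hS, map_prod, Ideal.IsPrime.prod_mem_iff]
    rintro ⟨x, -, hx⟩; exact hs x hx
  have hG0q : G0 ∉ q := by
    rw [hG0, Ideal.IsPrime.prod_mem_iff]
    rintro ⟨x, -, hx⟩; exact hh x hx
  have hg₁q : g₁ ∉ q := fun hmem => (Ideal.IsPrime.mem_or_mem ‹_› hmem).elim hSq hG0q
  let B₁ := Localization.Away g₁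
  have hg₁unit : IsUnit (algebraMap B B₁ g₁) := IsLocalization.Away.algebraMap_isUnit g₁
  have h4 : algebraMap B B₁ g₁ = algebraMap A B₁ S * algebraMap B B₁ G0 := by
    rw [IsScalarTower.algebraMap_apply A B B₁, ← map_mul, ← hg₁]
  rw [h4] at hg₁unit
  have hSunit : IsUnit (algebraMap A B₁ S) := isUnit_of_mul_isUnit_left hg₁unit
  have hG0unit : IsUnit (algebraMap B B₁ G0) := isUnit_of_mul_isUnit_right hg₁unit
  have hhunit : ∀ x ∈ t, IsUnit (algebraMap B B₁ (h x)) := by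
    intro x hx
    exact isUnit_of_dvd_unit (map_dvd _ (Finset.dvd_prod_of_mem h hx)) hG0unit
  -- image of B in fracSub S
  have himg : ∀ b : B, algebraMap B B₁ b ∈ fracSub B₁ S := by
    have hle : Algebra.adjoin A (t : Set B) ≤ (fracSub B₁ S).comap (IsScalarTower.toAlgHom A B B₁) := by
      apply Algebra.adjoin_le
      intro x hx
      have hx' : x ∈ t := hx
      show algebraMap B B₁ x ∈ fracSub B₁ S
      refine ⟨r x * ∏ y ∈ t.erase x, s y, 1, ?_⟩
      have h1 : algebraMap B B₁ (h x) * (algebraMap B B₁ x * algebraMap A B₁ (s x) - algebraMap A B₁ (r x)) = 0 := by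
        have := congrArg (algebraMap B B₁) (hzero x)
        simpa [IsScalarTower.algebraMap_apply A B B₁] using this
      have h2 : algebraMap B B₁ x * algebraMap A B₁ (s x) = algebraMap A B₁ (r x) :=
        sub_eq_zero.mp ((hhunit x hx').mul_right_eq_zero.mp h1)
      have h3 : S = s x * ∏ y ∈ t.erase x, s y := by
        rw [hS, Finset.mul_prod_erase t s hx']
      rw [pow_one, h3, map_mul, map_mul, ← h2]; ring
    intro b
    have : b ∈ Algebra.adjoin A (t : Set B) := by rw [ht]; trivial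
    exact hle this
  obtain ⟨r0, N, hr0⟩ := himg G0
  have hr0unit : IsUnit (algebraMap A B₁ r0) := by
    rw [← hr0]; exact hG0unit.mul (hSunit.pow N)
  have haunit : IsUnit (algebraMap A B₁ (S * r0)) := by
    rw [map_mul]; exact hSunit.mul hr0unit
  refine ⟨S * r0, g₁, ?_, hg₁q, haunit, ?_⟩
  · intro hmem
    have hprime : (Ideal.map (algebraMap B B₁) q).IsPrime := by
      apply IsLocalization.isPrime_of_isPrime_disjoint (Submonoid.powers g₁) B₁ q ‹_›
      rw [Set.disjoint_left]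
      rintro _ ⟨n, rfl⟩ hn
      exact hg₁q (Ideal.IsPrime.mem_of_pow_mem ‹_› n hn)
    apply hprime.ne_top
    apply Ideal.eq_top_of_isUnit_mem _ _ haunit
    rw [IsScalarTower.algebraMap_apply A B B₁]
    exact Ideal.mem_map_of_mem _ hmem
  · intro z
    obtain ⟨⟨b, ⟨_, k, rfl⟩⟩, hz⟩ := IsLocalization.surj (Submonoid.powers g₁) z
    simp only at hz
    obtain ⟨rb, n, hb⟩ := himg b
    refine ⟨rb * S ^ (N * k) * r0 ^ n, k + n, ?_⟩
    simp only [map_mul, map_pow] at hz ⊢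
    rw [h4] at hz
    rw [← hb, ← hz, ← hr0]; ring

theorem alg3 [Algebra.FiniteType A B] (q : Ideal B) [q.IsPrime]
    (hkill : ∃ a₂ : A, algebraMap A B a₂ ∉ q ∧
      ∀ x : A, (∃ t : A, algebraMap A B t ∉ q ∧ t * x = 0) → a₂ * x = 0)
    (Hsurj : ∀ b : B, ∃ r s : A, algebraMap A B s ∉ q ∧
      ∃ h ∉ q, h * (b * algebraMap A B s - algebraMap A B r) = 0)
    (Hinj : ∀ r : A, (∃ h ∉ q, h * algebraMap A B r = 0) →
      ∃ t : A, algebraMap A B t ∉ q ∧ t * r = 0) :
    ∃ (a : A) (g : B), g ∉ q ∧ ∀ (B' : Type v) [CommRing B'] [Algebra B B'] [Algebra A B']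
      [IsScalarTower A B B'] [IsLocalization.Away g B'], IsLocalization.Away a B' := by
  obtain ⟨a₁, g₁, ha₁, hg₁, hunit, hfrac⟩ := alg1 q Hsurj
  obtain ⟨a₂, ha₂', hkill⟩ := hkill
  refine ⟨a₁ * a₂, g₁ * algebraMap A B a₂, ?_, ?_⟩
  · intro hmem
    exact (Ideal.IsPrime.mem_or_mem ‹_› hmem).elim hg₁ ha₂'
  intro B' _ _ _ _ _
  have hgunit : IsUnit (algebraMap B B' (g₁ * algebraMap A B a₂)) :=
    IsLocalization.Away.algebraMap_isUnit _
  rw [map_mul] at hgunit
  have hg₁unit : IsUnit (algebraMap B B' g₁) := isUnit_of_mul_isUnit_left hgunit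
  have ha₂unit : IsUnit (algebraMap A B' a₂) := by
    rw [IsScalarTower.algebraMap_apply A B B']; exact isUnit_of_mul_isUnit_right hgunit
  let φ : Localization.Away g₁ →+* B' := IsLocalization.Away.lift g₁ hg₁unit
  have hφB : ∀ b : B, φ (algebraMap B (Localization.Away g₁) b) = algebraMap B B' b :=
    fun b => IsLocalization.Away.lift_eq g₁ hg₁unit b
  have hφA : ∀ r : A, φ (algebraMap A (Localization.Away g₁) r) = algebraMap A B' r := by
    intro r
    rw [IsScalarTower.algebraMap_apply A B (Localization.Away g₁), hφB,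
      ← IsScalarTower.algebraMap_apply A B B']
  have ha₁unit : IsUnit (algebraMap A B' a₁) := by
    rw [← hφA]; exact hunit.map φ
  rw [IsLocalization.Away, isLocalization_iff]
  refine ⟨?_, ?_, ?_⟩
  · rintro ⟨_, n, rfl⟩
    rw [map_pow, map_mul]
    exact (ha₁unit.mul ha₂unit).pow n
  · intro z'
    obtain ⟨⟨b, ⟨_, k, rfl⟩⟩, hz'⟩ := IsLocalization.surj (Submonoid.powers (g₁ * algebraMap A B a₂)) z'
    simp only [map_pow, map_mul] at hz'
    -- z := b / g₁^k in B₁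
    obtain ⟨z, hz⟩ : ∃ z : Localization.Away g₁, z * algebraMap B _ g₁ ^ k = algebraMap B _ b := by
      refine ⟨IsLocalization.mk' _ b (⟨g₁ ^ k, k, rfl⟩ : Submonoid.powers g₁), ?_⟩
      rw [← map_pow]
      exact IsLocalization.mk'_spec _ b (⟨g₁ ^ k, k, rfl⟩ : Submonoid.powers g₁)
    obtain ⟨r, n, hr⟩ := hfrac z
    have hz2 : φ z * algebraMap B B' g₁ ^ k = algebraMap B B' b := by
      rw [← hφB, ← hφB, ← map_pow, ← map_mul, hz]
    have hr2 : φ z * algebraMap A B' a₁ ^ n = algebraMap A B' r := by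
      rw [← hφA, ← hφA, ← map_pow, ← map_mul, hr]
    have h1 : z' * algebraMap A B' a₂ ^ k = φ z := by
      have : (z' * algebraMap A B' a₂ ^ k) * algebraMap B B' g₁ ^ k = φ z * algebraMap B B' g₁ ^ k := by
        rw [hz2, ← hz', IsScalarTower.algebraMap_apply A B B']; ring
      exact (hg₁unit.pow k).mul_left_injective this
    refine ⟨(r * a₁ ^ k * a₂ ^ n, ⟨(a₁ * a₂) ^ (k + n), k + n, rfl⟩), ?_⟩
    simp only [map_mul, map_pow]
    rw [← hr2, ← h1]; ring
  · intro r r' hrr'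
    have h0 : algebraMap B B' (algebraMap A B (r - r')) = 0 := by
      rw [← IsScalarTower.algebraMap_apply A B B', map_sub, hrr', sub_self]
    obtain ⟨⟨_, k, rfl⟩, hk⟩ :=
      (IsLocalization.map_eq_zero_iff (Submonoid.powers (g₁ * algebraMap A B a₂)) B' _).mp h0
    simp only at hk
    have hk' : g₁ ^ k * algebraMap A B (a₂ ^ k * (r - r')) = 0 := by
      rw [map_mul, map_pow, ← hk]; ring
    obtain ⟨t, ht, htz⟩ := Hinj (a₂ ^ k * (r - r')) ⟨g₁ ^ k,
      fun hmem => hg₁ (Ideal.IsPrime.mem_of_pow_mem ‹_› k hmem), hk'⟩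
    have := hkill (a₂ ^ k * (r - r')) ⟨t, ht, htz⟩
    refine ⟨⟨(a₁ * a₂) ^ (k + 1), k + 1, rfl⟩, ?_⟩
    simp only
    rw [← sub_eq_zero, ← mul_sub]
    calc (a₁ * a₂) ^ (k + 1) * (r - r') = a₁ ^ (k + 1) * (a₂ * (a₂ ^ k * (r - r'))) := by ring
      _ = 0 := by rw [this, mul_zero]

theorem alg2_noeth [IsNoetherianRing A] (p : Ideal A) [p.IsPrime] :
    ∃ a ∉ p, ∀ x : A, (∃ t ∉ p, t * x = 0) → a * x = 0 := by
  classical
  let K : Ideal A :=
    { carrier := {x | ∃ t ∉ p, t * x = 0}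
      add_mem' := by
        rintro x y ⟨t, ht, htx⟩ ⟨t', ht', hty⟩
        refine ⟨t * t', fun h => (Ideal.IsPrime.mem_or_mem ‹_› h).elim ht ht', ?_⟩
        calc t * t' * (x + y) = t' * (t * x) + t * (t' * y) := by ring
          _ = 0 := by rw [htx, hty]; simp
      zero_mem' := ⟨1, fun h => (Ideal.IsPrime.ne_top ‹_›) ((Ideal.eq_top_iff_one _).mpr h), by simp⟩
      smul_mem' := by
        rintro c x ⟨t, ht, htx⟩
        exact ⟨t, ht, by rw [smul_eq_mul, mul_left_comm, htx, mul_zero]⟩ }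
  obtain ⟨G, hG⟩ := (isNoetherianRing_iff_ideal_fg A).mp ‹_› K
  have hex : ∀ x : A, x ∈ G → ∃ t ∉ p, t * x = 0 := by
    intro x hx
    have : x ∈ K := by rw [← hG]; exact Ideal.subset_span hx
    exact this
  let T : A → A := fun x => if h : x ∈ G then (hex x h).choose else 1
  have hT1 : ∀ x ∈ G, T x ∉ p ∧ T x * x = 0 := by
    intro x hx
    simp only [T, dif_pos hx]
    exact (hex x hx).choose_spec
  refine ⟨∏ x ∈ G, T x, ?_, ?_⟩
  · rw [Ideal.IsPrime.prod_mem_iff]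
    rintro ⟨x, hx, hxp⟩
    exact (hT1 x hx).1 hxp
  · intro y hy
    have hyK : y ∈ Ideal.span (G : Set A) := by rw [hG]; exact hy
    refine Submodule.span_induction (p := fun y _ => (∏ x ∈ G, T x) * y = 0) ?_ ?_ ?_ ?_ hyK
    · intro x hx
      obtain ⟨c, hc⟩ := Finset.dvd_prod_of_mem T hx
      rw [hc, mul_right_comm, (hT1 x hx).2, zero_mul]
    · simp
    · intro x y _ _ hx hy; rw [mul_add, hx, hy, add_zero]
    · intro c x _ hx; rw [smul_eq_mul, mul_left_comm, hx, mul_zero]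

theorem alg1' [Algebra.FiniteType A B] (q : Ideal B) [q.IsPrime]
    (Hsurj : ∀ b : B, ∃ r s : A, algebraMap A B s ∉ q ∧
      ∃ h ∉ q, h * (b * algebraMap A B s - algebraMap A B r) = 0) :
    ∃ (a : A) (g : B), algebraMap A B a ∉ q ∧ g ∉ q ∧
      ∀ (B' : Type v) [CommRing B'] [Algebra B B'] [Algebra A B']
        [IsScalarTower A B B'] [IsLocalization.Away g B'],
        IsUnit (algebraMap A B' a) ∧
        ∀ z : B', ∃ r : A, ∃ n : ℕ, z * algebraMap A B' a ^ n = algebraMap A B' r := by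
  obtain ⟨a, g, ha, hg, hunit, hfrac⟩ := alg1 q Hsurj
  refine ⟨a, g, ha, hg, ?_⟩
  intro B' _ _ _ _ _
  let e : Localization.Away g ≃ₐ[B] B' :=
    IsLocalization.algEquiv (Submonoid.powers g) (Localization.Away g) B'
  have heA : ∀ r : A, e (algebraMap A (Localization.Away g) r) = algebraMap A B' r := by
    intro r
    rw [IsScalarTower.algebraMap_apply A B (Localization.Away g), e.commutes,
      ← IsScalarTower.algebraMap_apply A B B']
  refine ⟨?_, ?_⟩
  · rw [← heA]; exact hunit.map e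
  · intro z
    obtain ⟨r, n, hr⟩ := hfrac (e.symm z)
    refine ⟨r, n, ?_⟩
    have := congrArg e hr
    rwa [map_mul, map_pow, heA, heA, e.apply_symm_apply] at this
end Alg

theorem generic_fromSpec_of_minimal {S : Scheme.{u}} {V : S.Opens} (hV : IsAffineOpen V)
    (P : Ideal Γ(S, V)) (hP : P ∈ minimalPrimes Γ(S, V)) :
    closure {hV.fromSpec ⟨P, hP.1.1⟩} ∈ irreducibleComponents S := by
  apply generic_of_forall_specializes
  intro ξ' hξ'
  have hmem : ξ' ∈ (V : Set S) :=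
    hξ'.mem_open V.isOpen (by rw [← hV.range_fromSpec]; exact ⟨_, rfl⟩)
  rw [← hV.range_fromSpec] at hmem
  obtain ⟨P', rfl⟩ := hmem
  have h1 : P' ⤳ ⟨P, hP.1.1⟩ :=
    hV.fromSpec.isOpenEmbedding.isInducing.specializes_iff.mp hξ'
  have h2 : P'.asIdeal ≤ P := (PrimeSpectrum.le_iff_specializes P' ⟨P, hP.1.1⟩).mpr h1
  have h3 : P ≤ P'.asIdeal := hP.2 ⟨P'.isPrime, bot_le⟩ h2
  congr 1
  exact PrimeSpectrum.ext (le_antisymm h2 h3)

theorem minimalPrimes_finite_of_affineOpen {S : Scheme.{u}}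
    (hS : (irreducibleComponents S).Finite) {V : S.Opens} (hV : IsAffineOpen V) :
    (minimalPrimes Γ(S, V)).Finite := by
  have hgen : (genericPoints S).Finite := genericPoints.finite hS
  have : Finite (genericPoints S) := hgen.to_subtype
  let Ψ : minimalPrimes Γ(S, V) → genericPoints S := fun P =>
    ⟨hV.fromSpec ⟨P.1, P.2.1.1⟩, generic_fromSpec_of_minimal hV P.1 P.2⟩
  have hΨ : Function.Injective Ψ := by
    intro P P' h
    have h1 : (Ψ P).1 = (Ψ P').1 := congrArg Subtype.val h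
    have h2 : (⟨P.1, P.2.1.1⟩ : PrimeSpectrum Γ(S, V)) = ⟨P'.1, P'.2.1.1⟩ :=
      hV.fromSpec.isOpenEmbedding.injective h1
    exact Subtype.ext (congrArg PrimeSpectrum.asIdeal h2)
  rw [← Set.finite_coe_iff]
  exact Finite.of_injective Ψ hΨ



section Setup
variable {X S : Scheme.{u}} (f : X ⟶ S) (x : X) {V : S.Opens} (hV : IsAffineOpen V)
  {U : X.Opens} (hU : IsAffineOpen U) (hxU : x ∈ U) (hUV : U ≤ f ⁻¹ᵁ V)

theorem stalk_compat (r : Γ(S, V)) :
    (f.stalkMap x).hom ((S.presheaf.germ V (f x) (hUV hxU)).hom r) =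
      (X.presheaf.germ U x hxU).hom ((f.appLE V U hUV).hom r) := by
  rw [Scheme.Hom.appLE, CommRingCat.hom_comp, RingHom.comp_apply]
  erw [Scheme.Hom.germ_stalkMap_apply, TopCat.Presheaf.germ_res_apply]

include hV hU in
theorem stalk_notin (s : Γ(S, V)) (hs : s ∉ (hV.primeIdealOf ⟨f x, hUV hxU⟩).asIdeal) :
    (f.appLE V U hUV).hom s ∉ (hU.primeIdealOf ⟨x, hxU⟩).asIdeal := by
  letI algX := X.presheaf.algebra_section_stalk (U := U) ⟨x, hxU⟩
  have hlocX : IsLocalization.AtPrime (X.presheaf.stalk x) (hU.primeIdealOf ⟨x, hxU⟩).asIdeal :=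
    hU.isLocalization_stalk ⟨x, hxU⟩
  letI algS := S.presheaf.algebra_section_stalk (U := V) ⟨f x, hUV hxU⟩
  have hlocS : IsLocalization.AtPrime (S.presheaf.stalk (f x))
      (hV.primeIdealOf ⟨f x, hUV hxU⟩).asIdeal := hV.isLocalization_stalk ⟨f x, hUV hxU⟩
  have h1 : IsUnit (algebraMap Γ(S, V) (S.presheaf.stalk (f x)) s) :=
    (IsLocalization.AtPrime.isUnit_to_map_iff (S.presheaf.stalk (f x)) _ s).mpr hs
  have h2 := h1.map (f.stalkMap x).hom
  have h3 : (f.stalkMap x).hom (algebraMap Γ(S, V) (S.presheaf.stalk (f x)) s) =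
      algebraMap Γ(X, U) (X.presheaf.stalk x) ((f.appLE V U hUV).hom s) :=
    stalk_compat f x hxU hUV s
  rw [h3] at h2
  exact (IsLocalization.AtPrime.isUnit_to_map_iff (X.presheaf.stalk x) _ _).mp h2

include hV hU in
theorem stalk_Hsurj (hsurj : Function.Surjective (f.stalkMap x).hom) (b : Γ(X, U)) :
    ∃ r s : Γ(S, V), (f.appLE V U hUV).hom s ∉ (hU.primeIdealOf ⟨x, hxU⟩).asIdeal ∧
      ∃ h ∉ (hU.primeIdealOf ⟨x, hxU⟩).asIdeal,
        h * (b * (f.appLE V U hUV).hom s - (f.appLE V U hUV).hom r) = 0 := by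
  letI algX := X.presheaf.algebra_section_stalk (U := U) ⟨x, hxU⟩
  have hlocX : IsLocalization.AtPrime (X.presheaf.stalk x) (hU.primeIdealOf ⟨x, hxU⟩).asIdeal :=
    hU.isLocalization_stalk ⟨x, hxU⟩
  letI algS := S.presheaf.algebra_section_stalk (U := V) ⟨f x, hUV hxU⟩
  have hlocS : IsLocalization.AtPrime (S.presheaf.stalk (f x))
      (hV.primeIdealOf ⟨f x, hUV hxU⟩).asIdeal := hV.isLocalization_stalk ⟨f x, hUV hxU⟩
  obtain ⟨σ, hσ⟩ := hsurj (algebraMap Γ(X, U) (X.presheaf.stalk x) b)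
  obtain ⟨⟨r, ⟨s, hs⟩⟩, hrs⟩ :=
    IsLocalization.surj (hV.primeIdealOf ⟨f x, hUV hxU⟩).asIdeal.primeCompl σ
  simp only at hrs
  refine ⟨r, s, stalk_notin f x hV hU hxU hUV s hs, ?_⟩
  have hc : ∀ r : Γ(S, V), (f.stalkMap x).hom (algebraMap Γ(S, V) (S.presheaf.stalk (f x)) r) =
      algebraMap Γ(X, U) (X.presheaf.stalk x) ((f.appLE V U hUV).hom r) :=
    stalk_compat f x hxU hUV
  have h1 : algebraMap Γ(X, U) (X.presheaf.stalk x)
      (b * (f.appLE V U hUV).hom s - (f.appLE V U hUV).hom r) = 0 := by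
    rw [map_sub, map_mul, ← hσ, ← hc, ← hc, ← map_mul, hrs, sub_self]
  obtain ⟨⟨h, hh⟩, hh0⟩ :=
    (IsLocalization.map_eq_zero_iff (hU.primeIdealOf ⟨x, hxU⟩).asIdeal.primeCompl
      (X.presheaf.stalk x) _).mp h1
  exact ⟨h, hh, hh0⟩

include hV hU in
theorem stalk_Hinj (hinj : Function.Injective (f.stalkMap x).hom) (r : Γ(S, V))
    (hr : ∃ h ∉ (hU.primeIdealOf ⟨x, hxU⟩).asIdeal, h * (f.appLE V U hUV).hom r = 0) :
    ∃ t : Γ(S, V), (f.appLE V U hUV).hom t ∉ (hU.primeIdealOf ⟨x, hxU⟩).asIdeal ∧ t * r = 0 := by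
  letI algX := X.presheaf.algebra_section_stalk (U := U) ⟨x, hxU⟩
  have hlocX : IsLocalization.AtPrime (X.presheaf.stalk x) (hU.primeIdealOf ⟨x, hxU⟩).asIdeal :=
    hU.isLocalization_stalk ⟨x, hxU⟩
  letI algS := S.presheaf.algebra_section_stalk (U := V) ⟨f x, hUV hxU⟩
  have hlocS : IsLocalization.AtPrime (S.presheaf.stalk (f x))
      (hV.primeIdealOf ⟨f x, hUV hxU⟩).asIdeal := hV.isLocalization_stalk ⟨f x, hUV hxU⟩
  obtain ⟨h, hh, hh0⟩ := hr
  have hc : ∀ r : Γ(S, V), (f.stalkMap x).hom (algebraMap Γ(S, V) (S.presheaf.stalk (f x)) r) =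
      algebraMap Γ(X, U) (X.presheaf.stalk x) ((f.appLE V U hUV).hom r) :=
    stalk_compat f x hxU hUV
  have h1 : algebraMap Γ(X, U) (X.presheaf.stalk x) ((f.appLE V U hUV).hom r) = 0 :=
    (IsLocalization.map_eq_zero_iff (hU.primeIdealOf ⟨x, hxU⟩).asIdeal.primeCompl
      (X.presheaf.stalk x) _).mpr ⟨⟨h, hh⟩, hh0⟩
  rw [← hc] at h1
  have h2 : algebraMap Γ(S, V) (S.presheaf.stalk (f x)) r = 0 :=
    hinj (h1.trans (map_zero _).symm)
  obtain ⟨⟨t, ht⟩, ht0⟩ :=
    (IsLocalization.map_eq_zero_iff (hV.primeIdealOf ⟨f x, hUV hxU⟩).asIdeal.primeCompl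
      (S.presheaf.stalk (f x)) _).mp h2
  exact ⟨t, stalk_notin f x hV hU hxU hUV t ht, ht0⟩

end Setup

/-- Spreading out an isomorphism of stalks, given an annihilator condition on the base rings. -/
theorem spread_iso {X S : Scheme.{u}} (f : X ⟶ S) [LocallyOfFiniteType f]
    (H : ∀ (V : S.Opens), IsAffineOpen V → ∀ (p : Ideal Γ(S, V)), p.IsPrime →
      ∃ a ∉ p, ∀ y : Γ(S, V), (∃ t ∉ p, t * y = 0) → a * y = 0)
    (x : X) (hx : IsIso (f.stalkMap x)) :
    ∃ U : X.Opens, x ∈ U ∧ IsOpenImmersion (U.ι ≫ f) := by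
  obtain ⟨V, hV, hfxV, -⟩ := Opens.isBasis_iff_nbhd.mp S.isBasis_affineOpens
    (show f x ∈ (⊤ : S.Opens) from trivial)
  obtain ⟨U, hU, hxU, hUV⟩ := Opens.isBasis_iff_nbhd.mp X.isBasis_affineOpens
    (show x ∈ f ⁻¹ᵁ V from hfxV)
  let φ := f.appLE V U hUV
  letI : Algebra Γ(S, V) Γ(X, U) := φ.hom.toAlgebra
  have hft : Algebra.FiniteType Γ(S, V) Γ(X, U) := f.finiteType_appLE hV hU hUV
  let q' := hU.primeIdealOf ⟨x, hxU⟩
  have hq' : hU.fromSpec q' = x := hU.fromSpec_primeIdealOf ⟨x, hxU⟩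
  have hbij : Function.Bijective (f.stalkMap x).hom :=
    (ConcreteCategory.isIso_iff_bijective (f.stalkMap x)).mp hx
  have hkill : ∃ a₂ : Γ(S, V), algebraMap Γ(S, V) Γ(X, U) a₂ ∉ q'.asIdeal ∧
      ∀ y : Γ(S, V), (∃ t : Γ(S, V), algebraMap Γ(S, V) Γ(X, U) t ∉ q'.asIdeal ∧ t * y = 0) →
        a₂ * y = 0 := by
    have hp : (q'.asIdeal.comap (algebraMap Γ(S, V) Γ(X, U))).IsPrime := inferInstance
    obtain ⟨a, ha, hk⟩ := H V hV _ hp
    exact ⟨a, ha, fun y ⟨t, ht, hty⟩ => hk y ⟨t, ht, hty⟩⟩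
  obtain ⟨a, g, hgq, hloc⟩ := alg3 q'.asIdeal hkill
    (stalk_Hsurj f x hV hU hxU hUV hbij.2) (stalk_Hinj f x hV hU hxU hUV hbij.1)
  let U' : X.Opens := X.basicOpen g
  have hU' : IsAffineOpen U' := hU.basicOpen g
  have hU'U : U' ≤ U := X.basicOpen_le g
  have hU'V : U' ≤ f ⁻¹ᵁ V := hU'U.trans hUV
  letI : Algebra Γ(S, V) Γ(X, U') := (f.appLE V U' hU'V).hom.toAlgebra
  have htower : IsScalarTower Γ(S, V) Γ(X, U) Γ(X, U') := IsScalarTower.of_algebraMap_eq' (by
    show (f.appLE V U' hU'V).hom =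
      (X.presheaf.map (homOfLE hU'U).op).hom.comp (f.appLE V U hUV).hom
    rw [← CommRingCat.hom_comp, Scheme.Hom.appLE_map])
  have hlocg : IsLocalization.Away g Γ(X, U') := hU.isLocalization_basicOpen g
  have hloca : IsLocalization.Away a Γ(X, U') := hloc Γ(X, U')
  have hoi : IsOpenImmersion (Spec.map (f.appLE V U' hU'V)) :=
    IsOpenImmersion.of_isLocalization (R := Γ(S, V)) (S := Γ(X, U')) a
  refine ⟨U', ?_, ?_⟩
  · show x ∈ X.basicOpen g
    rw [← hU.fromSpec_image_basicOpen, ← hq']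
    exact ⟨q', hgq, rfl⟩
  · have : U'.ι ≫ f = hU'.isoSpec.hom ≫ Spec.map (f.appLE V U' hU'V) ≫ hV.fromSpec := by
      rw [IsAffineOpen.SpecMap_appLE_fromSpec f hV hU' hU'V, ← Category.assoc,
        hU'.isoSpec_hom_fromSpec]
    rw [this]; infer_instance

theorem S7659_main {X S : Scheme.{u}} (f : X ⟶ S)
    [LocallyOfFiniteType f] [IsReduced S] (hS : (irreducibleComponents (S : Type u)).Finite)
    (x : X) (hx : IsIso (f.stalkMap x)) :
    ∃ U : X.Opens, x ∈ U ∧ IsOpenImmersion (U.ι ≫ f) :=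
  spread_iso f (fun V hV p hp => by
    haveI := hp
    exact alg2 (minimalPrimes_finite_of_affineOpen hS hV) p) x hx

theorem S2254_mpr {X Y : Scheme.{u}} (f : X ⟶ Y) [IsLocallyNoetherian Y] [LocallyOfFiniteType f]
    (x : X) (hx : IsIso (f.stalkMap x)) :
    ∃ U : X.Opens, x ∈ U ∧ IsOpenImmersion (U.ι ≫ f) :=
  spread_iso f (fun V hV p hp => by
    haveI := hp
    haveI : IsNoetherianRing Γ(Y, V) := IsLocallyNoetherian.component_noetherian ⟨V, hV⟩
    exact alg2_noeth p) x hx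

theorem isIso_stalkMap_of_localIso {X Y : Scheme.{u}} (f : X ⟶ Y) (x : X) (U : X.Opens)
    (hxU : x ∈ U) [IsOpenImmersion (U.ι ≫ f)] : IsIso (f.stalkMap x) := by
  have h0 : IsIso (U.ι.stalkMap ⟨x, hxU⟩) := inferInstance
  have h2 : IsIso ((U.ι ≫ f).stalkMap ⟨x, hxU⟩) := inferInstance
  have h1 : IsIso (f.stalkMap (U.ι ⟨x, hxU⟩) ≫ U.ι.stalkMap ⟨x, hxU⟩) := by
    rw [← Scheme.Hom.stalkMap_comp]; exact h2
  exact IsIso.of_isIso_comp_right (f.stalkMap (U.ι ⟨x, hxU⟩)) (U.ι.stalkMap ⟨x, hxU⟩)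


theorem spread_surj {X Y : Scheme.{u}} (f : X ⟶ Y) [LocallyOfFiniteType f] (x : X)
    (hs : Function.Surjective (f.stalkMap x).hom) :
    ∃ (U : X.Opens) (V : Y.Opens) (h : U ≤ f ⁻¹ᵁ V), x ∈ U ∧
      IsClosedImmersion (f.resLE V U h) := by
  obtain ⟨V, hV, hfxV, -⟩ := Opens.isBasis_iff_nbhd.mp Y.isBasis_affineOpens
    (show f x ∈ (⊤ : Y.Opens) from trivial)
  obtain ⟨U, hU, hxU, hUV⟩ := Opens.isBasis_iff_nbhd.mp X.isBasis_affineOpens
    (show x ∈ f ⁻¹ᵁ V from hfxV)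
  let φ := f.appLE V U hUV
  letI : Algebra Γ(Y, V) Γ(X, U) := φ.hom.toAlgebra
  have hft : Algebra.FiniteType Γ(Y, V) Γ(X, U) := f.finiteType_appLE hV hU hUV
  let q' := hU.primeIdealOf ⟨x, hxU⟩
  have hq' : hU.fromSpec q' = x := hU.fromSpec_primeIdealOf ⟨x, hxU⟩
  obtain ⟨a, g, haq, hgq, hB'⟩ := alg1' q'.asIdeal (stalk_Hsurj f x hV hU hxU hUV hs)
  let U' : X.Opens := X.basicOpen g
  have hU' : IsAffineOpen U' := hU.basicOpen g
  have hU'U : U' ≤ U := X.basicOpen_le g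
  have hU'V : U' ≤ f ⁻¹ᵁ V := hU'U.trans hUV
  letI : Algebra Γ(Y, V) Γ(X, U') := (f.appLE V U' hU'V).hom.toAlgebra
  have htower : IsScalarTower Γ(Y, V) Γ(X, U) Γ(X, U') := IsScalarTower.of_algebraMap_eq' (by
    show (f.appLE V U' hU'V).hom =
      (X.presheaf.map (homOfLE hU'U).op).hom.comp (f.appLE V U hUV).hom
    rw [← CommRingCat.hom_comp, Scheme.Hom.appLE_map])
  have hlocg : IsLocalization.Away g Γ(X, U') := hU.isLocalization_basicOpen g
  obtain ⟨haunit, hfrac⟩ := hB' Γ(X, U')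
  let V' : Y.Opens := Y.basicOpen a
  have hV' : IsAffineOpen V' := hV.basicOpen a
  have hV'V : V' ≤ V := Y.basicOpen_le a
  have hxU' : x ∈ U' := by
    show x ∈ X.basicOpen g
    rw [← hU.fromSpec_image_basicOpen, ← hq']
    exact ⟨q', hgq, rfl⟩
  have hU'V' : U' ≤ f ⁻¹ᵁ V' := by
    show U' ≤ f ⁻¹ᵁ Y.basicOpen a
    rw [Scheme.preimage_basicOpen]
    have h1 : X.basicOpen ((f.appLE V U' hU'V).hom a) = U' := X.basicOpen_of_isUnit haunit
    have h2 : X.basicOpen ((f.appLE V U' hU'V).hom a) = U' ⊓ X.basicOpen ((f.app V).hom a) := by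
      rw [Scheme.Hom.appLE, CommRingCat.hom_comp, RingHom.comp_apply]
      exact X.basicOpen_res _ _
    rw [h1] at h2
    rw [h2]; exact inf_le_right
  refine ⟨U', V', hU'V', hxU', ?_⟩
  haveI : IsAffine (U' : Scheme) := hU'
  haveI : IsAffine (V' : Scheme) := hV'
  apply IsClosedImmersion.of_surjective_of_isAffine
  have happ : (f.resLE V' U' hU'V').appTop =
      V'.topIso.hom ≫ f.appLE V' U' hU'V' ≫ U'.topIso.inv := Scheme.Hom.resLE_app_top ..
  rw [happ]
  have hsurj : Function.Surjective (f.appLE V' U' hU'V').hom := by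
    intro z
    obtain ⟨r, n, hr⟩ := hfrac z
    let ρ := (Y.presheaf.map (homOfLE hV'V).op).hom
    let ψ := (f.appLE V' U' hU'V').hom
    have hψρ : ∀ r : Γ(Y, V), ψ (ρ r) = algebraMap Γ(Y, V) Γ(X, U') r := by
      intro r
      show (f.appLE V' U' hU'V').hom ((Y.presheaf.map (homOfLE hV'V).op).hom r) =
        (f.appLE V U' hU'V).hom r
      rw [← RingHom.comp_apply, ← CommRingCat.hom_comp, Scheme.Hom.map_appLE]
    have ha' : IsUnit (ρ a) := RingedSpace.isUnit_res_basicOpen Y.toRingedSpace a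
    obtain ⟨u, hu⟩ := ha'
    refine ⟨ρ r * ↑(u⁻¹ ^ n), ?_⟩
    apply (haunit.pow n).mul_left_injective
    show ψ (ρ r * ↑(u⁻¹ ^ n)) * algebraMap Γ(Y, V) Γ(X, U') a ^ n =
      z * algebraMap Γ(Y, V) Γ(X, U') a ^ n
    rw [hr, ← hψρ a, ← map_pow, ← map_mul, ← hψρ r]
    congr 1
    have : (↑(u⁻¹ ^ n) : Γ(Y, V')) * ρ a ^ n = 1 := by
      rw [← hu, ← Units.val_pow_eq_pow_val, ← Units.val_mul, inv_pow, inv_mul_cancel,
        Units.val_one]
    rw [mul_assoc, this, mul_one]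
  have hiso1 : Function.Bijective V'.topIso.hom.hom := ConcreteCategory.bijective_of_isIso _
  have hiso2 : Function.Bijective U'.topIso.inv.hom := ConcreteCategory.bijective_of_isIso _
  show Function.Surjective (V'.topIso.hom ≫ f.appLE V' U' hU'V' ≫ U'.topIso.inv).hom
  rw [CommRingCat.hom_comp, CommRingCat.hom_comp]
  exact (hiso2.2.comp hsurj).comp hiso1.2

theorem S2253_mp {X Y : Scheme.{u}} (f : X ⟶ Y) (x : X)
    (h : ∃ (U : X.Opens) (V : Y.Opens) (h : U ≤ f ⁻¹ᵁ V), x ∈ U ∧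
      IsClosedImmersion (f.resLE V U h)) : Function.Surjective (f.stalkMap x) := by
  obtain ⟨U, V, hUV, hxU, hci⟩ := h
  have h1 : SurjectiveOnStalks (f.resLE V U hUV ≫ V.ι) := inferInstance
  rw [Scheme.Hom.resLE_comp_ι] at h1
  have h2 := (U.ι ≫ f).stalkMap_surjective ⟨x, hxU⟩
  rw [Scheme.Hom.stalkMap_comp] at h2
  have h3 : Function.Bijective (U.ι.stalkMap ⟨x, hxU⟩) :=
    ConcreteCategory.bijective_of_isIso _
  have h2' : Function.Surjective
      (⇑(U.ι.stalkMap ⟨x, hxU⟩).hom ∘ ⇑(f.stalkMap x).hom) := by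
    intro z; obtain ⟨w, hw⟩ := h2 z; exact ⟨w, hw⟩
  exact Function.Surjective.of_comp_left h2' h3.1


end Groth.Agent.Lib.Helper4.LocalIso2
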