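import Mathlib
import Groth.Agent.Lib.Helper4.LocalIso2

/-!
# Birational quasi-finite morphisms to normal schemes are local isomorphisms (via ZMT) (helper4)
-/

set_option backward.isDefEq.respectTransparency.types false
set_option synthInstance.maxHeartbeats 400000
set_option autoImplicit false
set_option linter.unusedSectionVars false
set_option linter.style.haveILetI false
set_option linter.unusedSimpArgs false
universe u v
open CategoryTheory CategoryTheory.Limits AlgebraicGeometry TopologicalSpace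
open Groth.Agent.Lib.Helper4.LocalIso Groth.Agent.Lib.Helper4.LocalIso2

namespace Groth.Agent.Lib.Helper4.ZMTBirational

theorem exists_of_isIntegral_of_birational {A B K L : Type*} [CommRing A] [IsDomain A]
    [IsIntegrallyClosed A] [CommRing B] [CommRing K] [Algebra A K] [IsFractionRing A K] [CommRing L]
    (φ : A →+* B) (ι : B →+* L) (hι : Function.Injective ι) (ψ : K →+* L)
    (hψ : Function.Bijective ψ)
    (hcomm : ∀ a, ψ (algebraMap A K a) = ι (φ a)) (b : B) (hb : φ.IsIntegralElem b) :
    ∃ a, φ a = b := by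
  obtain ⟨p, hp, hpb⟩ := hb
  obtain ⟨k, hk⟩ := hψ.2 (ι b)
  have hkint : IsIntegral A k := by
    refine ⟨p, hp, ?_⟩
    apply hψ.1
    rw [map_zero, Polynomial.hom_eval₂]
    have : ψ.comp (algebraMap A K) = ι.comp φ := RingHom.ext hcomm
    rw [this, hk, ← Polynomial.hom_eval₂, hpb, map_zero]
  obtain ⟨a, ha⟩ := IsIntegrallyClosed.isIntegral_iff.mp hkint
  refine ⟨a, hι ?_⟩
  rw [← hcomm, ha, hk]

theorem isOpenImmersion_SpecMap_of_integral_elems {A B : CommRingCat.{u}} (φ : A ⟶ B)
    [LocallyQuasiFinite (Spec.map φ)] [LocallyOfFiniteType (Spec.map φ)]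
    (hinj : Function.Injective φ.hom)
    (hint : ∀ b : B, φ.hom.IsIntegralElem b → ∃ a, φ.hom a = b) :
    IsOpenImmersion (Spec.map φ) := by
  set h := Spec.map φ with hh
  let α : Γ(Spec A, ⊤) →+* Γ(Spec B, ⊤) := h.appTop.hom
  have hnat : ∀ a' : Γ(Spec A, ⊤), (Scheme.ΓSpecIso B).hom.hom (α a') =
      φ.hom ((Scheme.ΓSpecIso A).hom.hom a') := by
    intro a'
    have := Scheme.ΓSpecIso_naturality φ
    exact congrArg (fun g => g.hom a') this
  have heB : Function.Bijective (Scheme.ΓSpecIso B).hom.hom :=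
    ConcreteCategory.bijective_of_isIso _
  have heA : Function.Bijective (Scheme.ΓSpecIso A).hom.hom :=
    ConcreteCategory.bijective_of_isIso _
  have hiso : IsIso h.fromNormalization := by
    have haff : IsAffine h.normalization := isAffine_of_isAffineHom h.fromNormalization
    refine (HasAffineProperty.iff_of_isAffine
      (P := MorphismProperty.isomorphisms Scheme)).mpr ⟨haff, ?_⟩
    rw [Scheme.Hom.appTop, h.fromNormalization_app (isAffineOpen_top _)]
    letI := (h.app ⊤).hom.toAlgebra
    have hs : IsIso (CommRingCat.ofHom (algebraMap Γ(Spec A, ⊤)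
        (integralClosure Γ(Spec A, ⊤) Γ(Spec B, h ⁻¹ᵁ ⊤)))) := by
      rw [ConcreteCategory.isIso_iff_bijective]
      constructor
      · intro a1 a2 h12
        have h1 : α a1 = α a2 := congrArg Subtype.val h12
        apply heA.1
        apply hinj
        rw [← hnat, ← hnat, h1]
      · rintro ⟨c, hc⟩
        obtain ⟨p, hp, hpc⟩ := hc
        let c' : Γ(Spec B, ⊤) := c
        have hpc' : Polynomial.eval₂ α c' p = 0 := hpc
        have hb : φ.hom.IsIntegralElem ((Scheme.ΓSpecIso B).hom.hom c') := by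
          refine ⟨p.map (Scheme.ΓSpecIso A).hom.hom, hp.map _, ?_⟩
          rw [Polynomial.eval₂_map]
          have : φ.hom.comp (Scheme.ΓSpecIso A).hom.hom =
              (Scheme.ΓSpecIso B).hom.hom.comp α := RingHom.ext (fun a => (hnat a).symm)
          rw [this, ← Polynomial.hom_eval₂, hpc', map_zero]
        obtain ⟨a, ha⟩ := hint _ hb
        refine ⟨(Scheme.ΓSpecIso A).inv.hom a, Subtype.ext ?_⟩
        show α ((Scheme.ΓSpecIso A).inv.hom a) = c'
        apply heB.1
        rw [hnat, ← ha]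
        congr 1
        exact congrArg (fun g => g.hom a) (Scheme.ΓSpecIso A).inv_hom_id
    exact IsIso.comp_isIso' hs inferInstance
  rw [← h.toNormalization_fromNormalization]
  infer_instance

theorem isIntegrallyClosed_sections {Y : Scheme.{u}} [IsIntegral Y]
    (hN : ∀ y : Y, IsIntegrallyClosed (Y.presheaf.stalk y)) {V : Y.Opens} (hV : IsAffineOpen V)
    [Nonempty V] : IsIntegrallyClosed Γ(Y, V) := by
  have hmem : ∀ P : PrimeSpectrum Γ(Y, V), hV.fromSpec P ∈ V := by
    intro P
    have : hV.fromSpec P ∈ Set.range hV.fromSpec := ⟨P, rfl⟩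
    rw [hV.range_fromSpec] at this
    exact this
  exact @IsIntegrallyClosed.of_isLocalization_maximal Γ(Y, V) _
    (fun P hP => Y.presheaf.stalk (hV.fromSpec ⟨P, hP.isPrime⟩))
    (fun P hP => inferInstance)
    (fun P hP => TopCat.Presheaf.algebra_section_stalk Y.presheaf
      ⟨hV.fromSpec ⟨P, hP.isPrime⟩, hmem _⟩)
    (fun P hP => hV.isLocalization_stalk' ⟨P, hP.isPrime⟩ (hmem _)) _
    (fun P hP => hN _)

theorem isFractionRing_stalk_of_eq_genericPoint {Y : Scheme.{u}} [IsIntegral Y] {V : Y.Opens}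
    (hV : IsAffineOpen V) (y : Y) (hy : y = genericPoint Y) (hyV : y ∈ V) :
    letI := Y.presheaf.algebra_section_stalk (U := V) ⟨y, hyV⟩
    IsFractionRing Γ(Y, V) (Y.presheaf.stalk y) := by
  subst hy
  haveI : Nonempty V := ⟨⟨_, hyV⟩⟩
  exact functionField_isFractionRing_of_isAffineOpen Y V hV

theorem isOpenImmersion_affine_of_birational {X Y : Scheme.{u}} [IsIntegral X] [IsIntegral Y]
    (hN : ∀ y : Y, IsIntegrallyClosed (Y.presheaf.stalk y)) (f : X ⟶ Y) [LocallyQuasiFinite f]
    [LocallyOfFiniteType f] (hgen : f (genericPoint X) = genericPoint Y)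
    (hbir : IsIso (f.stalkMap (genericPoint X)))
    {V : Y.Opens} (hV : IsAffineOpen V) {U : X.Opens} (hU : IsAffineOpen U) (hUV : U ≤ f ⁻¹ᵁ V)
    [Nonempty U] : IsOpenImmersion (U.ι ≫ f) := by
  have hξU : genericPoint X ∈ U :=
    ((genericPoint_spec X).mem_open_set_iff U.isOpen).mpr (by simpa using ‹Nonempty U›)
  have hξV : f (genericPoint X) ∈ V := hUV hξU
  haveI : Nonempty V := ⟨⟨_, hξV⟩⟩
  let φ := f.appLE V U hUV
  haveI : LocallyQuasiFinite (Spec.map φ) :=
    HasRingHomProperty.Spec_iff.mpr (LocallyQuasiFinite.quasiFinite_appLE hV hU hUV)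
  haveI : LocallyOfFiniteType (Spec.map φ) :=
    HasRingHomProperty.Spec_iff.mpr (f.finiteType_appLE hV hU hUV)
  haveI : IsIntegrallyClosed Γ(Y, V) := isIntegrallyClosed_sections hN hV
  letI algS := Y.presheaf.algebra_section_stalk (U := V) ⟨f (genericPoint X), hξV⟩
  haveI : IsFractionRing Γ(Y, V) (Y.presheaf.stalk (f (genericPoint X))) :=
    isFractionRing_stalk_of_eq_genericPoint hV _ hgen hξV
  have hbij : Function.Bijective (f.stalkMap (genericPoint X)).hom :=
    (ConcreteCategory.isIso_iff_bijective _).mp hbir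
  have hgermX : Function.Injective (X.presheaf.germ U (genericPoint X) hξU).hom :=
    germ_injective_of_isIntegral X (genericPoint X) hξU
  have hgermY : Function.Injective (Y.presheaf.germ V (f (genericPoint X)) hξV).hom :=
    germ_injective_of_isIntegral Y _ hξV
  have hcomm : ∀ a : Γ(Y, V), (f.stalkMap (genericPoint X)).hom
      (algebraMap Γ(Y, V) (Y.presheaf.stalk (f (genericPoint X))) a) =
      (X.presheaf.germ U (genericPoint X) hξU).hom (φ.hom a) :=
    fun a => stalk_compat f (genericPoint X) hξU hUV a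
  have hinj : Function.Injective φ.hom := by
    intro a1 a2 h12
    apply hgermY
    apply hbij.1
    have h1 := hcomm a1
    have h2 := hcomm a2
    rw [h12] at h1
    exact h1.trans h2.symm
  have hint : ∀ b : Γ(X, U), φ.hom.IsIntegralElem b → ∃ a, φ.hom a = b :=
    exists_of_isIntegral_of_birational φ.hom (X.presheaf.germ U (genericPoint X) hξU).hom hgermX
      (f.stalkMap (genericPoint X)).hom hbij hcomm
  have hoi : IsOpenImmersion (Spec.map φ) :=
    isOpenImmersion_SpecMap_of_integral_elems φ hinj hint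
  have : U.ι ≫ f = hU.isoSpec.hom ≫ Spec.map φ ≫ hV.fromSpec := by
    rw [IsAffineOpen.SpecMap_appLE_fromSpec f hV hU hUV, ← Category.assoc,
      hU.isoSpec_hom_fromSpec]
  rw [this]; infer_instance

theorem S4809_main {X Y : Scheme.{u}} [IsIntegral X] [IsIntegral Y]
    (hN : ∀ y : Y, IsIntegrallyClosed (Y.presheaf.stalk y)) (f : X ⟶ Y) [LocallyQuasiFinite f]
    [LocallyOfFiniteType f] (hgen : f (genericPoint X) = genericPoint Y)
    (hbir : IsIso (f.stalkMap (genericPoint X))) :
    IsLocalIso f ∧ (IsSeparated f → IsOpenImmersion f) := by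
  have hloc : ∀ x : X, ∃ U : X.Opens, x ∈ U ∧ IsOpenImmersion (U.ι ≫ f) := by
    intro x
    obtain ⟨V, hV, hfxV, -⟩ := Opens.isBasis_iff_nbhd.mp Y.isBasis_affineOpens
      (show f x ∈ (⊤ : Y.Opens) from trivial)
    obtain ⟨U, hU, hxU, hUV⟩ := Opens.isBasis_iff_nbhd.mp X.isBasis_affineOpens
      (show x ∈ f ⁻¹ᵁ V from hfxV)
    haveI : Nonempty U := ⟨⟨x, hxU⟩⟩
    exact ⟨U, hxU, isOpenImmersion_affine_of_birational hN f hgen hbir hV hU hUV⟩
  refine ⟨⟨hloc⟩, fun hsep => ?_⟩
  refine S7658_main f hloc ?_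
  intro ξ ξ' hξ hξ' _
  have huniv : ∀ ζ : X, closure ({ζ} : Set X) ∈ irreducibleComponents X → ζ = genericPoint X := by
    intro ζ hζ
    rw [irreducibleComponents_eq_singleton, Set.mem_singleton_iff] at hζ
    exact ((genericPoint_spec X).eq (show IsGenericPoint ζ Set.univ from hζ)).symm
  rw [huniv ξ hξ, huniv ξ' hξ']

theorem S2415_main {X Y : Scheme.{u}}
    [IsIntegral X] [IsIntegral Y]
    (hY : ∀ y : Y, IsDomain (Y.presheaf.stalk y) ∧ IsIntegrallyClosed (Y.presheaf.stalk y))
    (f : X ⟶ Y)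
    [IsSeparated f] [LocallyOfFiniteType f] [QuasiCompact f]
    (hgen : f.base (genericPoint X) = genericPoint Y) (hbir : IsIso (f.stalkMap (genericPoint X)))
    (hfin : ∀ y : Y, (f.base ⁻¹' {y}).Finite) :
    IsOpenImmersion f ∧ (IsProper f → IsIso f) := by
  haveI : LocallyQuasiFinite f := locallyQuasiFinite_iff_finite_preimage_singleton.mpr hfin
  have hoi : IsOpenImmersion f := (S4809_main (fun y => (hY y).2) f hgen hbir).2 inferInstance
  refine ⟨hoi, fun hp => ?_⟩
  have hcl : IsClosed (Set.range f) := f.isClosedMap.isClosed_range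
  have hop : IsOpen (Set.range f) := f.isOpenEmbedding.isOpen_range
  have huniv : Set.range f = Set.univ :=
    IsClopen.eq_univ ⟨hcl, hop⟩ (Set.range_nonempty _)
  haveI : Surjective f := ⟨Set.range_eq_univ.mp huniv⟩
  exact (isIso_iff_isOpenImmersion_and_surjective _).mpr ⟨inferInstance, inferInstance⟩

end Groth.Agent.Lib.Helper4.ZMTBirational
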