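import Mathlib
import Groth.Agent.Lib.Helper4.ZMTBirational
import Groth.Prelude.Def_Pi1

/-!
# Integral morphisms with a rational section onto a normal scheme (EGA II 6.1.15-ish) (helper4)
-/

set_option backward.isDefEq.respectTransparency.types false
set_option synthInstance.maxHeartbeats 400000
set_option autoImplicit false
set_option linter.unusedSectionVars false
set_option linter.style.haveILetI false
set_option linter.unusedSimpArgs false
universe u v w
open CategoryTheory CategoryTheory.Limits AlgebraicGeometry TopologicalSpace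
open Groth.Agent.Lib.Helper4.ZMTBirational

namespace Groth.Agent.Lib.Helper4.IntSection1

/-- Algebraic core: `A` integrally closed domain with fraction field `K`, `A → B` integral with
`B` a domain, and a ring map `σ : B → C` with `C ↪ K` such that `A → B → C → K` is the
canonical map.  Then `A → B` is bijective. -/
theorem bijective_of_integral_of_section {A B C K : Type*} [CommRing A] [IsDomain A]
    [IsIntegrallyClosed A] [CommRing B] [IsDomain B] [CommRing C] [Field K] [Algebra A K]
    [IsFractionRing A K] (φ : A →+* B) (hφ : φ.IsIntegral) (σ : B →+* C) (ι : C →+* K)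
    (hι : Function.Injective ι) (hcomm : ∀ a, ι (σ (φ a)) = algebraMap A K a) :
    Function.Bijective φ := by
  have hφinj : Function.Injective φ := by
    intro a1 a2 h
    apply IsFractionRing.injective A K
    rw [← hcomm, ← hcomm, h]
  -- kernel of `σ` is a prime lying over `⊥`
  have hσinj : Function.Injective σ := by
    rw [injective_iff_map_eq_zero]
    intro b hb
    letI := φ.toAlgebra
    haveI : Algebra.IsIntegral A B := ⟨hφ⟩
    haveI : IsDomain C := hι.isDomain ι
    have hprime : (RingHom.ker σ).IsPrime := RingHom.ker_isPrime σ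
    have hcomap : (RingHom.ker σ).comap (algebraMap A B) = ⊥ := by
      rw [eq_bot_iff]
      intro a ha
      rw [Ideal.mem_comap, RingHom.mem_ker] at ha
      rw [Ideal.mem_bot]
      apply IsFractionRing.injective A K
      rw [← hcomm, map_zero]
      show ι (σ (algebraMap A B a)) = 0
      rw [ha, map_zero]
    have := Ideal.eq_bot_of_comap_eq_bot hcomap
    have hb' : b ∈ RingHom.ker σ := hb
    rw [this] at hb'
    exact hb'
  refine ⟨hφinj, fun b => ?_⟩
  have hint : IsIntegral A (ι (σ b)) := by
    obtain ⟨p, hp, hpb⟩ := hφ b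
    refine ⟨p, hp, ?_⟩
    have : (algebraMap A K) = (ι.comp σ).comp φ := RingHom.ext (fun a => (hcomm a).symm)
    rw [this]
    have h2 := Polynomial.hom_eval₂ p φ (ι.comp σ) b
    rw [hpb, map_zero] at h2
    exact h2.symm
  obtain ⟨a, ha⟩ := IsIntegrallyClosed.isIntegral_iff.mp hint
  refine ⟨a, hσinj (hι ?_)⟩
  rw [hcomm, ha]



theorem app_bijective_of_section {X X' : Scheme.{u}} [IsIntegral X] [IsIntegral X']
    (hN : ∀ x : X, IsIntegrallyClosed (X.presheaf.stalk x))
    (g : X' ⟶ X) [IsIntegralHom g] (U : X.Opens) (hU : Dense (U : Set X))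
    (s : (U : Scheme.{u}) ⟶ X') (hs : s ≫ g = U.ι) {V : X.Opens} (hV : IsAffineOpen V)
    [Nonempty V] : Function.Bijective (g.app V).hom := by
  have hηV : genericPoint X ∈ V :=
    ((genericPoint_spec X).mem_open_set_iff V.isOpen).mpr (by simpa using ‹Nonempty V›)
  have hηU : genericPoint X ∈ U :=
    ((genericPoint_spec X).mem_open_set_iff U.isOpen).mpr
      (by simpa using hU.nonempty)
  let W : U.toScheme.Opens := s ⁻¹ᵁ (g ⁻¹ᵁ V)
  have hWV : W ≤ U.ι ⁻¹ᵁ V := by
    intro x hx
    have h1 : g (s x) ∈ V := hx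
    have h2 : (s ≫ g) x = U.ι x := by rw [hs]
    rw [Scheme.Hom.comp_apply] at h2
    show U.ι x ∈ V
    rw [← h2]; exact h1
  have hηW : (⟨genericPoint X, hηU⟩ : U.toScheme) ∈ W := by
    show g (s ⟨genericPoint X, hηU⟩) ∈ V
    have h2 : (s ≫ g) ⟨genericPoint X, hηU⟩ = U.ι ⟨genericPoint X, hηU⟩ := by rw [hs]
    rw [Scheme.Hom.comp_apply] at h2
    rw [h2]; exact hηV
  have hη' : genericPoint X ∈ U.ι ''ᵁ W := ⟨⟨genericPoint X, hηU⟩, hηW, rfl⟩
  haveI : Nonempty (g ⁻¹ᵁ V) := ⟨⟨s ⟨genericPoint X, hηU⟩, hηW⟩⟩
  haveI : IsIntegrallyClosed Γ(X, V) := isIntegrallyClosed_sections hN hV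
  haveI : IsFractionRing Γ(X, V) X.functionField :=
    functionField_isFractionRing_of_isAffineOpen X V hV
  let ι : Γ(U.toScheme, W) →+* X.functionField :=
    (X.presheaf.germ (U.ι ''ᵁ W) (genericPoint X) hη').hom
  have hι : Function.Injective ι := germ_injective_of_isIntegral X (genericPoint X) hη'
  have key : ∀ (t : U.toScheme ⟶ X) (ht : t = U.ι) (e : W ≤ t ⁻¹ᵁ V),
      t.appLE V W e = U.ι.appLE V W hWV := by
    intro t ht e; subst ht; rfl
  refine bijective_of_integral_of_section (g.app V).hom
    (IsIntegralHom.isIntegral_app g V hV) (s.app (g ⁻¹ᵁ V)).hom ι hι ?_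
  intro a
  have h0 : (s ≫ g).appLE V W le_rfl = g.app V ≫ s.app (g ⁻¹ᵁ V) := by
    rw [Scheme.Hom.comp_appLE, Scheme.Hom.appLE_eq_app]
  have h1 : (s.app (g ⁻¹ᵁ V)).hom ((g.app V).hom a) = ((s ≫ g).appLE V W le_rfl).hom a := by
    rw [h0]; rfl
  rw [h1, key (s ≫ g) hs le_rfl, Scheme.Opens.ι_appLE]
  exact X.presheaf.germ_res_apply _ _ _ a



theorem isIso_of_forall_affine {X X' : Scheme.{u}} (g : X' ⟶ X)
    (h : ∀ V : X.affineOpens, IsIso (g ∣_ V.1)) : IsIso g := by
  have h1 : MorphismProperty.isomorphisms Scheme g ↔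
      ∀ V : X.affineOpens, MorphismProperty.isomorphisms Scheme (g ∣_ V.1) :=
    IsZariskiLocalAtTarget.iff_of_iSup_eq_top
      (P := MorphismProperty.isomorphisms Scheme) (f := g)
      (fun V : X.affineOpens => V.1) (iSup_affineOpens_eq_top X)
  exact h1.mpr h

theorem S2347_main {X X' : Scheme.{u}} [IsIntegral X] [IsIntegral X']
    (hX : Pi1.IsNormalScheme X)
    (g : X' ⟶ X) [IsIntegralHom g] (U : X.Opens) (hU : Dense (U : Set X))
    (s : (U : Scheme.{u}) ⟶ X') (hs : s ≫ g = U.ι) :
    IsIso g := by
  refine isIso_of_forall_affine g fun V => ?_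
  by_cases hne : Nonempty V.1
  · have hb : Function.Bijective (g.app V.1).hom :=
      app_bijective_of_section (fun x => (hX x).2) g U hU s hs V.2
    have hi : IsIso (g.app V.1) := (ConcreteCategory.isIso_iff_bijective _).mpr hb
    exact (isIso_morphismRestrict_iff_isIso_app (f := g) V.2).mpr hi
  · haveI : IsEmpty V.1 := not_nonempty_iff.mp hne
    haveI : IsEmpty (V.1 : Scheme.{u}) := this
    exact isIso_of_isEmpty _



/-- The closed subscheme defined by an ideal sheaf with radical ideals is reduced. -/
theorem isReduced_subscheme_of_isRadical {Y : Scheme.{u}} (I : Y.IdealSheafData)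
    (h : ∀ W : Y.affineOpens, (I.ideal W).IsRadical) : IsReduced I.subscheme := by
  haveI : ∀ i, IsReduced (I.subschemeCover.openCover.X i) := by
    intro W
    let W' : Y.affineOpens := W
    show IsReduced (Spec (.of (Γ(Y, W'.1) ⧸ I.ideal W')))
    haveI : _root_.IsReduced (Γ(Y, W'.1) ⧸ I.ideal W') :=
      (Ideal.isRadical_iff_quotient_reduced _).mp (h W')
    infer_instance
  exact IsReduced.of_openCover _ I.subschemeCover.openCover

/-- The closed subscheme defined by an ideal sheaf with irreducible support is irreducible. -/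
theorem irreducibleSpace_subscheme {Y : Scheme.{u}} (I : Y.IdealSheafData)
    (h : IsIrreducible (I.support : Set Y)) : IrreducibleSpace I.subscheme := by
  have hemb : Topology.IsEmbedding I.subschemeι := I.subschemeι.isEmbedding
  rw [← I.range_subschemeι] at h
  haveI : IrreducibleSpace (Set.range I.subschemeι) := isIrreducible_iff_irreducibleSpace.mp h
  exact hemb.toHomeomorph.irreducibleSpace_iff.mpr inferInstance

/-- The kernel of a morphism from a reduced scheme is the vanishing ideal of the closure of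
its range. -/
theorem ker_eq_vanishingIdeal_of_isReduced {T Y : Scheme.{u}} [IsReduced T] (s : T ⟶ Y) :
    s.ker = Scheme.IdealSheafData.vanishingIdeal
      (.closure (s '' ((⊤ : Closeds T) : Set T))) := by
  rw [← Scheme.IdealSheafData.map_vanishingIdeal, Scheme.IdealSheafData.vanishingIdeal_top,
    Scheme.nilradical_eq_bot, Scheme.IdealSheafData.map_bot]

/-- The scheme-theoretic image of an integral scheme is integral. -/
theorem isIntegral_image {T Y : Scheme.{u}} [IsIntegral T] (s : T ⟶ Y) :
    IsIntegral s.image := by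
  have hker := ker_eq_vanishingIdeal_of_isReduced s
  haveI : IsReduced s.image := by
    apply isReduced_subscheme_of_isRadical
    intro W
    rw [hker, Scheme.IdealSheafData.vanishingIdeal_ideal]
    exact PrimeSpectrum.isRadical_vanishingIdeal _
  haveI : IrreducibleSpace s.image := by
    apply irreducibleSpace_subscheme
    rw [hker, Scheme.IdealSheafData.coe_support_vanishingIdeal]
    show IsIrreducible (closure (s '' Set.univ))
    exact ((IrreducibleSpace.isIrreducible_univ T).image s s.continuous.continuousOn).closure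
  exact isIntegral_of_irreducibleSpace_of_isReduced _

theorem S2358_main {X X' : Scheme.{u}} [IsIntegral X] (hX : Pi1.IsNormalScheme X)
    (g : X' ⟶ X) [IsIntegralHom g] (U : X.Opens) (hU : Dense (U : Set X))
    (s : (U : Scheme.{u}) ⟶ X') (hs : s ≫ g = U.ι) :
    ∃ s' : X ⟶ X', s' ≫ g = 𝟙 X ∧ U.ι ≫ s' = s := by
  haveI : Nonempty U := by
    obtain ⟨x, hx⟩ := hU.nonempty
    exact ⟨⟨x, hx⟩⟩
  haveI : Nonempty (U : Scheme.{u}) := ‹Nonempty U›
  haveI : IsIntegral (U : Scheme.{u}) := isIntegral_of_isOpenImmersion U.ι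
  haveI : IsIntegral s.image := isIntegral_image s
  let h : s.image ⟶ X := s.imageι ≫ g
  have hsec : s.toImage ≫ h = U.ι := by
    simp only [h, Scheme.Hom.toImage_imageι_assoc, hs]
  haveI : IsIso h := S2347_main hX h U hU s.toImage hsec
  refine ⟨inv h ≫ s.imageι, ?_, ?_⟩
  · rw [Category.assoc]
    exact IsIso.inv_hom_id h
  · rw [← hsec, Category.assoc, IsIso.hom_inv_id_assoc, Scheme.Hom.toImage_imageι]


end Groth.Agent.Lib.Helper4.IntSection1
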