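import Mathlib

/-!
# Dimension theory of finite type domains over a field: dim = trdeg, heights of maximal ideals, dimension formula (helper4)
-/

set_option backward.isDefEq.respectTransparency.types false
set_option synthInstance.maxHeartbeats 400000
set_option autoImplicit false
set_option linter.unusedSectionVars false
set_option linter.style.haveILetI false
set_option linter.unusedSimpArgs false
universe u v w
open CategoryTheory CategoryTheory.Limits AlgebraicGeometry TopologicalSpace IsLocalRing Opposite

namespace Groth.Agent.Lib.Helper4.DimFT1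

section Integral

variable (R S : Type*) [CommRing R] [CommRing S] [Algebra R S] [Algebra.IsIntegral R S]

theorem strictMono_comap_of_isIntegral : StrictMono (PrimeSpectrum.comap (algebraMap R S)) := by
  intro P Q hPQ
  have hle : P.asIdeal ≤ Q.asIdeal := hPQ.le
  have hne : ¬ Q.asIdeal ≤ P.asIdeal := fun h => (not_le_of_gt hPQ) h
  obtain ⟨x, hxQ, hxP⟩ := Set.not_subset.mp hne
  exact Ideal.comap_lt_comap_of_integral_mem_sdiff (R := R) hle ⟨hxQ, hxP⟩
    (Algebra.IsIntegral.isIntegral x)

theorem ringKrullDim_eq_of_isIntegral_of_injective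
    (hinj : Function.Injective (algebraMap R S)) : ringKrullDim S = ringKrullDim R := by
  apply le_antisymm
  · exact Order.krullDim_le_of_strictMono _ (strictMono_comap_of_isIntegral R S)
  · unfold ringKrullDim Order.krullDim
    apply iSup_le
    intro l
    have hker : RingHom.ker (algebraMap R S) ≤ (RelSeries.head l).asIdeal := by
      rw [(RingHom.injective_iff_ker_eq_bot _).mp hinj]; exact bot_le
    obtain ⟨Q, -, hQ, hQc⟩ :=
      Ideal.exists_ideal_over_prime_of_isIntegral (S := S)
        (RelSeries.head l).asIdeal (⊥ : Ideal S) hker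
    have hlo : Q.LiesOver (RelSeries.head l).asIdeal := ⟨hQc.symm⟩
    obtain ⟨L, hlen, -, -⟩ := Ideal.exists_ltSeries_of_hasGoingUp l Q
    rw [← hlen]
    exact le_iSup (fun p : LTSeries (PrimeSpectrum S) => (p.length : WithBot ℕ∞)) L

variable {S} in
/-- heights are preserved along integral extensions with going down -/
theorem height_eq_of_isIntegral_of_hasGoingDown [Algebra.HasGoingDown R S] (P : Ideal S)
    [P.IsPrime] : P.height = (P.under R).height := by
  have h1 := PrimeSpectrum.height_eq_orderHeight (⟨P, inferInstance⟩ : PrimeSpectrum S)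
  have h2 := PrimeSpectrum.height_eq_orderHeight
    (PrimeSpectrum.comap (algebraMap R S) (⟨P, inferInstance⟩ : PrimeSpectrum S))
  change P.height = _ at h1
  change (P.under R).height = _ at h2
  rw [h1, h2]
  apply le_antisymm
  · exact Order.height_le_height_apply_of_strictMono _ (strictMono_comap_of_isIntegral R S) _
  · rw [Order.height_le_iff']
    intro l hl
    haveI : P.LiesOver l.last.asIdeal := ⟨by rw [hl]; rfl⟩
    obtain ⟨L, hlen, hlast, -⟩ := Ideal.exists_ltSeries_of_hasGoingDown l P
    rw [← hlen]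
    exact Order.length_le_height hlast.le

end Integral

section Trdeg

variable (k : Type u) [Field k] (A : Type u) [CommRing A] [IsDomain A] [Algebra k A]

/-- the transcendence degree of the fraction field equals that of the domain -/
theorem trdeg_fractionRing_eq (K : Type u) [Field K] [Algebra A K] [IsFractionRing A K]
    [Algebra k K] [IsScalarTower k A K] :
    Algebra.trdeg k K = Algebra.trdeg k A := by
  haveI : FaithfulSMul k A := inferInstance
  haveI : FaithfulSMul A K := (faithfulSMul_iff_algebraMap_injective A K).mpr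
    (IsFractionRing.injective A K)
  haveI : Algebra.IsAlgebraic A K := IsLocalization.isAlgebraic K (nonZeroDivisors A)
  have h := trdeg_add_eq k A (A := K)
  rw [_root_.trdeg_eq_zero (R := A) (A := K), add_zero] at h
  exact h.symm

variable [Algebra.FiniteType k A]

/-- Noether normalization with all the instances -/
theorem exists_noether : ∃ (s : ℕ) (g : MvPolynomial (Fin s) k →ₐ[k] A),
    Function.Injective g ∧ g.Finite := exists_finite_inj_algHom_of_fg k A

/-- dimension equals transcendence degree -/
theorem exists_dim_eq_trdeg : ∃ n : ℕ, Algebra.trdeg k A = n ∧ ringKrullDim A = n := by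
  obtain ⟨s, g, hinj, hfin⟩ := exists_noether k A
  letI := g.toRingHom.toAlgebra
  haveI : IsScalarTower k (MvPolynomial (Fin s) k) A :=
    IsScalarTower.of_algebraMap_eq (fun x => (g.commutes x).symm)
  haveI : Module.Finite (MvPolynomial (Fin s) k) A := hfin
  haveI : Algebra.IsIntegral (MvPolynomial (Fin s) k) A := Algebra.IsIntegral.of_finite _ _
  haveI : FaithfulSMul (MvPolynomial (Fin s) k) A :=
    (faithfulSMul_iff_algebraMap_injective _ _).mpr hinj
  refine ⟨s, ?_, ?_⟩
  · have h := trdeg_add_eq k (MvPolynomial (Fin s) k) (A := A)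
    rw [_root_.trdeg_eq_zero (R := MvPolynomial (Fin s) k) (A := A), add_zero,
      MvPolynomial.trdeg_of_isDomain] at h
    rw [← h]
    simp
  · rw [ringKrullDim_eq_of_isIntegral_of_injective (MvPolynomial (Fin s) k) A hinj,
      MvPolynomial.ringKrullDim_of_isNoetherianRing, ringKrullDim_eq_zero_of_field, zero_add,
      Nat.card_fin]

end Trdeg

section MvPoly

variable (k : Type u) [Field k]

theorem mvPolynomial_height_of_isMaximal (s : ℕ) (M : Ideal (MvPolynomial (Fin s) k))
    [hM : M.IsMaximal] : M.height = s := by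
  induction s with
  | zero =>
    let e : MvPolynomial (Fin 0) k ≃+* k := (MvPolynomial.isEmptyAlgEquiv k (Fin 0)).toRingEquiv
    rw [← e.height_map M]
    have hprime : (M.map e).IsPrime := Ideal.map_isPrime_of_equiv e
    rcases Ideal.eq_bot_or_top (M.map e) with h | h
    · rw [h, Ideal.height_bot]; simp
    · exact absurd h hprime.ne_top
  | succ s ih =>
    let e : MvPolynomial (Fin (s + 1)) k ≃+* Polynomial (MvPolynomial (Fin s) k) :=
      (MvPolynomial.finSuccEquiv k s).toRingEquiv
    rw [← e.height_map M]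
    haveI hM' : (M.map e).IsMaximal := Ideal.map_isMaximal_of_equiv e
    haveI hp : ((M.map e).comap (Polynomial.C : MvPolynomial (Fin s) k →+* _)).IsMaximal :=
      Polynomial.isMaximal_comap_C_of_isJacobsonRing (M.map e)
    haveI : (M.map e).LiesOver ((M.map e).comap (Polynomial.C : MvPolynomial (Fin s) k →+* _)) :=
      ⟨rfl⟩
    rw [Polynomial.height_eq_height_add_one
      ((M.map e).comap (Polynomial.C : MvPolynomial (Fin s) k →+* _)) (M.map e), ih]
    simp

end MvPoly



section Formal

variable {R : Type*} [CommRing R]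

theorem height_add_dim_quotient_le (p : Ideal R) [hp : p.IsPrime] :
    (p.height : WithBot ℕ∞) + ringKrullDim (R ⧸ p) ≤ ringKrullDim R := by
  have h1 : PrimeSpectrum.zeroLocus (p : Set R) = Set.Ici (⟨p, hp⟩ : PrimeSpectrum R) := by
    ext q
    rfl
  rw [ringKrullDim_quotient, h1, ← Order.coheight_eq_krullDim_Ici,
    PrimeSpectrum.height_eq_orderHeight ⟨p, hp⟩, ← WithBot.coe_add]
  haveI : Nonempty (PrimeSpectrum R) := ⟨⟨p, hp⟩⟩
  unfold ringKrullDim
  rw [Order.krullDim_eq_iSup_height_add_coheight_of_nonempty, WithBot.coe_le_coe]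
  exact le_iSup (fun a : PrimeSpectrum R => Order.height a + Order.coheight a) ⟨p, hp⟩

theorem height_map_quotient_add_one_le [IsDomain R] [IsNoetherianRing R] (p₁ p : Ideal R)
    [hp₁ : p₁.IsPrime] [hp : p.IsPrime] (h : p₁ ≤ p) (hne : p₁ ≠ ⊥) :
    (p.map (Ideal.Quotient.mk p₁)).height + 1 ≤ p.height := by
  haveI hp' : (p.map (Ideal.Quotient.mk p₁)).IsPrime :=
    Ideal.map_isPrime_of_surjective Ideal.Quotient.mk_surjective (by rw [Ideal.mk_ker]; exact h)
  obtain ⟨l, hlast, hlen⟩ := Ideal.exists_ltSeries_length_eq_height (p.map (Ideal.Quotient.mk p₁))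
  let l₁ : LTSeries (PrimeSpectrum R) := l.map (PrimeSpectrum.comap (Ideal.Quotient.mk p₁))
    (RingHom.strictMono_comap_of_surjective Ideal.Quotient.mk_surjective)
  have hbot : (⟨⊥, Ideal.isPrime_bot⟩ : PrimeSpectrum R) < l₁.head := by
    rw [LTSeries.head_map]
    refine lt_of_lt_of_le (b := (⟨p₁, hp₁⟩ : PrimeSpectrum R)) ?_ ?_
    · exact lt_of_le_of_ne (show (⊥ : Ideal R) ≤ p₁ from bot_le)
        (fun h => hne (congrArg PrimeSpectrum.asIdeal h).symm)
    · intro a ha
      change Ideal.Quotient.mk p₁ a ∈ l.head.asIdeal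
      rw [Ideal.Quotient.eq_zero_iff_mem.mpr ha]
      exact zero_mem _
  let l₂ : LTSeries (PrimeSpectrum R) := l₁.cons ⟨⊥, Ideal.isPrime_bot⟩ hbot
  have hlast₂ : l₂.last = ⟨p, hp⟩ := by
    rw [RelSeries.last_cons, LTSeries.last_map, hlast]
    apply PrimeSpectrum.ext
    change (p.map (Ideal.Quotient.mk p₁)).comap (Ideal.Quotient.mk p₁) = p
    rw [Ideal.comap_map_of_surjective _ Ideal.Quotient.mk_surjective, ← RingHom.ker_eq_comap_bot,
      Ideal.mk_ker, sup_eq_left.mpr h]
  have h3 := Order.length_le_height (p := l₂) (x := ⟨p, hp⟩) hlast₂.le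
  rw [← PrimeSpectrum.height_eq_orderHeight] at h3
  rw [← hlen]
  have h4 : l₂.length = l.length + 1 := by simp [l₂, l₁]
  rw [h4] at h3
  exact_mod_cast h3

end Formal

section Core

variable (k : Type u) [Field k] (A : Type u) [CommRing A] [IsDomain A] [Algebra k A]
  [Algebra.FiniteType k A]

/-- Noether normalization packaged with instances -/
theorem exists_noether' : ∃ (s : ℕ) (_ : Algebra (MvPolynomial (Fin s) k) A),
    IsScalarTower k (MvPolynomial (Fin s) k) A ∧ Module.Finite (MvPolynomial (Fin s) k) A ∧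
    Function.Injective (algebraMap (MvPolynomial (Fin s) k) A) ∧
    ringKrullDim A = (s : WithBot ℕ∞) := by
  obtain ⟨s, g, hinj, hfin⟩ := exists_noether k A
  letI := g.toRingHom.toAlgebra
  haveI : Module.Finite (MvPolynomial (Fin s) k) A := hfin
  haveI : Algebra.IsIntegral (MvPolynomial (Fin s) k) A := Algebra.IsIntegral.of_finite _ _
  refine ⟨s, g.toRingHom.toAlgebra, IsScalarTower.of_algebraMap_eq (fun x => (g.commutes x).symm),
    hfin, hinj, ?_⟩
  rw [ringKrullDim_eq_of_isIntegral_of_injective (MvPolynomial (Fin s) k) A hinj,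
    MvPolynomial.ringKrullDim_of_isNoetherianRing, ringKrullDim_eq_zero_of_field, zero_add,
    Nat.card_fin]

include k in
/-- in a finite type domain over a field all maximal ideals have the same height -/
theorem height_eq_dim_of_isMaximal (m : Ideal A) [hm : m.IsMaximal] :
    (m.height : WithBot ℕ∞) = ringKrullDim A := by
  obtain ⟨s, alg, hst, hfin, hinj, hdim⟩ := exists_noether' k A
  letI := alg
  haveI := hfin
  haveI : Algebra.IsIntegral (MvPolynomial (Fin s) k) A := Algebra.IsIntegral.of_finite _ _
  haveI : FaithfulSMul (MvPolynomial (Fin s) k) A :=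
    (faithfulSMul_iff_algebraMap_injective _ _).mpr hinj
  haveI : (m.under (MvPolynomial (Fin s) k)).IsMaximal :=
    Ideal.isMaximal_comap_of_isIntegral_of_isMaximal m
  rw [height_eq_of_isIntegral_of_hasGoingDown (MvPolynomial (Fin s) k) m,
    mvPolynomial_height_of_isMaximal k s _, hdim]
  rfl

include k in
/-- the quotient by a height one prime has dimension one less -/
theorem dim_quotient_of_height_eq_one (q : Ideal A) [hq : q.IsPrime] (h1 : q.height = 1) :
    ringKrullDim (A ⧸ q) + 1 = ringKrullDim A := by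
  obtain ⟨s, alg, hst, hfin, hinj, hdim⟩ := exists_noether' k A
  letI := alg
  haveI := hfin
  haveI : Algebra.IsIntegral (MvPolynomial (Fin s) k) A := Algebra.IsIntegral.of_finite _ _
  haveI : FaithfulSMul (MvPolynomial (Fin s) k) A :=
    (faithfulSMul_iff_algebraMap_injective _ _).mpr hinj
  have h2 : (q.under (MvPolynomial (Fin s) k)).height = 1 := by
    rw [← height_eq_of_isIntegral_of_hasGoingDown (MvPolynomial (Fin s) k) q, h1]
  have hne : q.under (MvPolynomial (Fin s) k) ≠ ⊥ := by
    intro h0
    rw [h0, Ideal.height_bot] at h2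
    exact zero_ne_one h2
  obtain ⟨f, hf, hfp⟩ := Ideal.IsPrime.exists_mem_prime_of_ne_bot
    (inferInstance : (q.under (MvPolynomial (Fin s) k)).IsPrime) hne
  have h3 := Ideal.eq_span_singleton_of_height_eq_one h2 hf hfp
  -- the dimension of the quotient of the polynomial ring
  have h4 : ringKrullDim (MvPolynomial (Fin s) k ⧸ Ideal.span {f}) + 1 =
      ringKrullDim (MvPolynomial (Fin s) k) := by
    have hftop : Ideal.span {f} ≠ (⊤ : Ideal (MvPolynomial (Fin s) k)) := by
      rw [Ne, Ideal.span_singleton_eq_top]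
      exact hfp.not_isUnit
    obtain ⟨M, hM, hfM⟩ := Ideal.exists_le_maximal _ hftop
    haveI := hM
    refine Module.ringKrullDim_quotient_add_one_of_mem_nonZeroDivisors
      (mem_nonZeroDivisors_of_ne_zero hfp.ne_zero) (p := M) ?_
      (hfM (Ideal.subset_span (Set.mem_singleton f)))
    rw [mvPolynomial_height_of_isMaximal k s M,
      MvPolynomial.ringKrullDim_of_isNoetherianRing, ringKrullDim_eq_zero_of_field, zero_add,
      Nat.card_fin]
    rfl
  have h5 : ∀ I : Ideal (MvPolynomial (Fin s) k), I = Ideal.span {f} →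
      ringKrullDim (MvPolynomial (Fin s) k ⧸ I) + 1 = ringKrullDim (MvPolynomial (Fin s) k) := by
    rintro _ rfl
    exact h4
  have h6 := h5 _ h3
  haveI : Algebra.IsIntegral (MvPolynomial (Fin s) k ⧸ q.under (MvPolynomial (Fin s) k)) (A ⧸ q) :=
    Ideal.Quotient.algebra_isIntegral_of_liesOver q _
  rw [ringKrullDim_eq_of_isIntegral_of_injective
    (MvPolynomial (Fin s) k ⧸ q.under (MvPolynomial (Fin s) k)) (A ⧸ q)
    (FaithfulSMul.algebraMap_injective _ _), h6, hdim,
    MvPolynomial.ringKrullDim_of_isNoetherianRing, ringKrullDim_eq_zero_of_field, zero_add,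
    Nat.card_fin]

end Core



section HeightOne

theorem exists_height_one_le {R : Type*} [CommRing R] [IsDomain R] [IsNoetherianRing R]
    (p : Ideal R) [hp : p.IsPrime] (hne : p ≠ ⊥) :
    ∃ p₁ : Ideal R, p₁.IsPrime ∧ p₁ ≤ p ∧ p₁.height = 1 := by
  obtain ⟨a, hap, ha0⟩ := Submodule.exists_mem_ne_zero_of_ne_bot hne
  obtain ⟨p₁, hp₁min, hp₁p⟩ := Ideal.exists_minimalPrimes_le (I := Ideal.span {a}) (J := p)
    ((Ideal.span_singleton_le_iff_mem p).mpr hap)
  haveI := hp₁min.1.1
  refine ⟨p₁, hp₁min.1.1, hp₁p, ?_⟩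
  apply le_antisymm
  · exact Ideal.height_le_one_of_isPrincipal_of_mem_minimalPrimes (Ideal.span {a}) p₁ hp₁min
  · rw [Order.one_le_iff_ne_zero, Ne, Ideal.height_eq_zero_iff_eq_bot]
    intro h0
    have : a ∈ p₁ := hp₁min.1.2 (Ideal.subset_span (Set.mem_singleton a))
    rw [h0, Ideal.mem_bot] at this
    exact ha0 this

end HeightOne

section Core

variable (k : Type u) [Field k]

theorem dim_le_height_add_dim_quotient_aux : ∀ (n : ℕ) (A : Type u) [CommRing A] [IsDomain A]
    [Algebra k A] [Algebra.FiniteType k A], ringKrullDim A = n → ∀ (p : Ideal A) [p.IsPrime],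
    ringKrullDim A ≤ (p.height : WithBot ℕ∞) + ringKrullDim (A ⧸ p) := by
  intro n
  induction n using Nat.strong_induction_on with
  | _ n ih =>
    intro A _ _ _ _ hn p hp
    haveI : IsNoetherianRing A := Algebra.FiniteType.isNoetherianRing k A
    by_cases hp0 : p = ⊥
    · subst hp0
      rw [Ideal.height_bot, ringKrullDim_eq_of_ringEquiv (RingEquiv.quotientBot A)]
      simp
    · obtain ⟨p₁, hp₁, hp₁p, hp₁h⟩ := exists_height_one_le p hp0
      haveI := hp₁
      have hKL := dim_quotient_of_height_eq_one k A p₁ hp₁h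
      haveI : Algebra.FiniteType k (A ⧸ p₁) :=
        Algebra.FiniteType.of_surjective (Ideal.Quotient.mkₐ k p₁) (Ideal.Quotient.mkₐ_surjective k p₁)
      obtain ⟨n₁, -, hn₁⟩ := exists_dim_eq_trdeg k (A ⧸ p₁)
      have hn₁n : n₁ + 1 = n := by
        rw [hn₁, hn] at hKL
        exact_mod_cast hKL
      have hp₁ne : p₁ ≠ ⊥ := by
        intro h0
        rw [h0, Ideal.height_bot] at hp₁h
        exact zero_ne_one hp₁h
      haveI hp' : (p.map (Ideal.Quotient.mk p₁)).IsPrime :=
        Ideal.map_isPrime_of_surjective Ideal.Quotient.mk_surjective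
          (by rw [Ideal.mk_ker]; exact hp₁p)
      have hIH := ih n₁ (by omega) (A ⧸ p₁) hn₁ (p.map (Ideal.Quotient.mk p₁))
      rw [ringKrullDim_eq_of_ringEquiv (DoubleQuot.quotQuotEquivQuotOfLE hp₁p)] at hIH
      have hht := height_map_quotient_add_one_le p₁ p hp₁p hp₁ne
      rw [← hKL]
      calc ringKrullDim (A ⧸ p₁) + 1
          ≤ ((p.map (Ideal.Quotient.mk p₁)).height : WithBot ℕ∞) + ringKrullDim (A ⧸ p) + 1 := by
            gcongr
        _ = (((p.map (Ideal.Quotient.mk p₁)).height + 1 : ℕ∞) : WithBot ℕ∞) +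
              ringKrullDim (A ⧸ p) := by
            rw [WithBot.coe_add, WithBot.coe_one]; abel
        _ ≤ (p.height : WithBot ℕ∞) + ringKrullDim (A ⧸ p) := by
            gcongr
            exact WithBot.coe_le_coe.mpr hht

variable (A : Type u) [CommRing A] [IsDomain A] [Algebra k A] [Algebra.FiniteType k A]

include k in
/-- the dimension formula in a finite type domain over a field -/
theorem height_add_dim_quotient (p : Ideal A) [p.IsPrime] :
    (p.height : WithBot ℕ∞) + ringKrullDim (A ⧸ p) = ringKrullDim A := by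
  obtain ⟨n, -, hn⟩ := exists_dim_eq_trdeg k A
  exact le_antisymm (height_add_dim_quotient_le p)
    (dim_le_height_add_dim_quotient_aux k n A hn p)

end Core



section S2680

theorem S2680_main (k S : Type u) [Field k] [CommRing S] [IsDomain S] [Algebra k S]
    [Algebra.FiniteType k S] :
    ∃ n : ℕ, Algebra.trdeg k (FractionRing S) = n ∧ ringKrullDim S = n ∧
      ∀ (m : Ideal S) [m.IsMaximal], ringKrullDim (Localization.AtPrime m) = n := by
  obtain ⟨n, htr, hdim⟩ := exists_dim_eq_trdeg k S
  refine ⟨n, ?_, hdim, ?_⟩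
  · rw [trdeg_fractionRing_eq k S (FractionRing S), htr]
  · intro m hm
    rw [IsLocalization.AtPrime.ringKrullDim_eq_height m (Localization.AtPrime m),
      height_eq_dim_of_isMaximal k S m, hdim]

end S2680

end Groth.Agent.Lib.Helper4.DimFT1
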