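import Mathlib

/-!
# Finitely generated domains over a field are Japanese (N-2): finiteness of integral closure in finite extensions (helper4)
-/

set_option backward.isDefEq.respectTransparency.types false
set_option synthInstance.maxHeartbeats 400000
set_option autoImplicit false
set_option linter.unusedSectionVars false
set_option linter.style.haveILetI false
set_option linter.unusedSimpArgs false
universe u v w
open CategoryTheory CategoryTheory.Limits AlgebraicGeometry TopologicalSpace IsLocalRing

namespace Groth.Agent.Lib.Helper4.Japanese1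

/-- If `g` is separable over `F`, `g(a'^(p^m)) = 0` and `g` is (after `ι`) the `m`-fold Frobenius
twist of `h ∈ F'[X]`, then `a'` is separable over `F'`. -/
theorem isSeparable_of_frobenius_lift {F F' L' : Type*} [Field F] [Field F'] [Field L'] (p : ℕ)
    [ExpChar F' p] [ExpChar L' p]
    (ι : F →+* F') [Algebra F' L'] (a' : L') (g : Polynomial F) (hg : g.Separable) (m : ℕ)
    (hroot : Polynomial.eval₂ ((algebraMap F' L').comp ι) (a' ^ (p ^ m)) g = 0)
    (h : Polynomial F') (hh : h.map (iterateFrobenius F' p m) = g.map ι) :
    IsSeparable F' a' := by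
  have hsep : h.Separable :=
    (Polynomial.separable_map (iterateFrobenius F' p m)).mp (hh ▸ hg.map)
  have hcomp : (iterateFrobenius L' p m).comp (algebraMap F' L') =
      (algebraMap F' L').comp (iterateFrobenius F' p m) := by
    ext x
    simp [iterateFrobenius_def]
  have hpow : (Polynomial.aeval a' h) ^ (p ^ m) = 0 := by
    calc (Polynomial.aeval a' h) ^ (p ^ m)
        = iterateFrobenius L' p m (Polynomial.eval₂ (algebraMap F' L') a' h) := rfl
      _ = Polynomial.eval₂ ((iterateFrobenius L' p m).comp (algebraMap F' L'))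
            (iterateFrobenius L' p m a') h := Polynomial.hom_eval₂ _ _ _ _
      _ = Polynomial.eval₂ ((algebraMap F' L').comp (iterateFrobenius F' p m)) (a' ^ (p ^ m)) h := by
            rw [hcomp]; rfl
      _ = Polynomial.eval₂ (algebraMap F' L') (a' ^ (p ^ m))
            (h.map (iterateFrobenius F' p m)) := (Polynomial.eval₂_map _ _ _).symm
      _ = Polynomial.eval₂ (algebraMap F' L') (a' ^ (p ^ m)) (g.map ι) := by rw [hh]
      _ = Polynomial.eval₂ ((algebraMap F' L').comp ι) (a' ^ (p ^ m)) g := Polynomial.eval₂_map _ _ _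
      _ = 0 := hroot
  have h0 : Polynomial.aeval a' h = 0 := pow_eq_zero_iff (by
    have := expChar_pos F' p
    positivity) |>.mp hpow
  exact hsep.of_dvd (minpoly.dvd F' a' h0)



/-- the map `k[x] → k'[Y]`, `x_j ↦ Y_j^q`. -/
noncomputable def iotaP (σ : Type*) (k k' : Type*) [Field k] [Field k'] [Algebra k k'] (q : ℕ) :
    MvPolynomial σ k →+* MvPolynomial σ k' :=
  (MvPolynomial.expand q (R := k') (σ := σ)).toRingHom.comp (MvPolynomial.map (algebraMap k k'))

theorem iotaP_C (σ : Type*) (k k' : Type*) [Field k] [Field k'] [Algebra k k'] (q : ℕ) (c : k) :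
    iotaP σ k k' q (MvPolynomial.C c) = MvPolynomial.C (algebraMap k k' c) := by
  simp [iotaP]

theorem iotaP_X (σ : Type*) (k k' : Type*) [Field k] [Field k'] [Algebra k k'] (q : ℕ) (j : σ) :
    iotaP σ k k' q (MvPolynomial.X j) = MvPolynomial.X j ^ q := by
  simp [iotaP]

theorem iotaP_injective (σ : Type*) (k k' : Type*) [Field k] [Field k'] [Algebra k k'] (q : ℕ)
    (hq : 0 < q) : Function.Injective (iotaP σ k k' q) := by
  intro a b hab
  have h1 := MvPolynomial.expand_injective (R := k') (σ := σ) hq hab
  exact MvPolynomial.map_injective _ (algebraMap k k').injective h1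

theorem iotaP_mem_range_frobenius {σ k k' : Type*} [Field k] [Field k'] [Algebra k k'] (p : ℕ)
    [ExpChar k' p] (m : ℕ) (u : MvPolynomial σ k)
    (hu : ∀ α, ∃ r : k', r ^ (p ^ m) = algebraMap k k' (u.coeff α)) :
    ∃ U : MvPolynomial σ k', U ^ (p ^ m) = iotaP σ k k' (p ^ m) u := by
  let S : Subring (MvPolynomial σ k) :=
    (iterateFrobenius (MvPolynomial σ k') p m).range.comap (iotaP σ k k' (p ^ m))
  have hS : u ∈ S := by
    rw [← MvPolynomial.support_sum_monomial_coeff u]
    refine Subring.sum_mem _ (fun α _ => ?_)
    rw [MvPolynomial.monomial_eq]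
    refine Subring.mul_mem _ ?_ ?_
    · obtain ⟨r, hr⟩ := hu α
      refine ⟨MvPolynomial.C r, ?_⟩
      rw [iotaP_C, ← hr, iterateFrobenius_def, ← map_pow]
    · refine Subring.prod_mem _ (fun j _ => ?_)
      refine Subring.pow_mem _ ?_ _
      exact ⟨MvPolynomial.X j, by rw [iotaP_X, iterateFrobenius_def]⟩
  obtain ⟨U, hU⟩ := hS
  exact ⟨U, hU⟩




/-- a finite extension containing `n`-th roots of finitely many elements -/
theorem exists_finite_ext_with_roots (k : Type u) [Field k] (n : ℕ) (hn : 0 < n) (C : Finset k) :
    ∃ (k' : Type u) (_ : Field k') (_ : Algebra k k'), FiniteDimensional k k' ∧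
      ∀ c ∈ C, ∃ r : k', r ^ n = algebraMap k k' c := by
  classical
  let Ω := AlgebraicClosure k
  have hr : ∀ c : k, ∃ z : Ω, z ^ n = algebraMap k Ω c :=
    fun c => IsAlgClosed.exists_pow_nat_eq _ hn
  choose r hr using hr
  let S : Set Ω := (C.image r : Finset Ω)
  haveI : Finite S := Finset.finite_toSet _ |>.to_subtype
  refine ⟨IntermediateField.adjoin k S, inferInstance, inferInstance,
    IntermediateField.finiteDimensional_adjoin (fun x _ => Algebra.IsIntegral.isIntegral x), ?_⟩
  intro c hc
  have hmem : r c ∈ IntermediateField.adjoin k S :=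
    IntermediateField.subset_adjoin k S (by
      simp only [S, Finset.coe_image, Set.mem_image, Finset.mem_coe]
      exact ⟨c, hc, rfl⟩)
  refine ⟨⟨r c, hmem⟩, ?_⟩
  apply Subtype.ext
  simp only [SubmonoidClass.mk_pow, hr]
  rfl

theorem iotaP_isIntegral (σ : Type*) (k k' : Type*) [Field k] [Field k'] [Algebra k k']
    [Algebra.IsIntegral k k'] (q : ℕ) (hq : 0 < q) :
    (iotaP σ k k' q).IsIntegral := by
  intro z
  letI := (iotaP σ k k' q).toAlgebra
  change IsIntegral (MvPolynomial σ k) z
  induction z using MvPolynomial.induction_on with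
  | C a =>
    have ha : IsIntegral k a := Algebra.IsIntegral.isIntegral a
    obtain ⟨f, hf, hfa⟩ := ha
    refine ⟨f.map MvPolynomial.C, hf.map _, ?_⟩
    rw [Polynomial.eval₂_map]
    have : (algebraMap (MvPolynomial σ k) (MvPolynomial σ k')).comp MvPolynomial.C =
        (MvPolynomial.C).comp (algebraMap k k') := by
      refine RingHom.ext (fun c => ?_)
      exact iotaP_C σ k k' q c
    rw [this, ← Polynomial.hom_eval₂, hfa, map_zero]
  | add p q hp hq => exact hp.add hq
  | mul_X p j hp =>
    refine hp.mul ?_
    refine ⟨Polynomial.X ^ q - Polynomial.C (MvPolynomial.X j), ?_, ?_⟩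
    · exact Polynomial.monic_X_pow_sub_C _ hq.ne'
    · simp only [Polynomial.eval₂_sub, Polynomial.eval₂_pow, Polynomial.eval₂_X, Polynomial.eval₂_C]
      rw [sub_eq_zero]
      exact (iotaP_X σ k k' q j).symm

theorem iotaP_finite (σ : Type*) [Finite σ] (k k' : Type*) [Field k] [Field k'] [Algebra k k']
    [FiniteDimensional k k'] (q : ℕ) (hq : 0 < q) :
    (iotaP σ k k' q).Finite := by
  apply (iotaP_isIntegral σ k k' q hq).to_finite
  have h1 : ((iotaP σ k k' q).comp (MvPolynomial.C (σ := σ) (R := k))).FiniteType := by
    have : (iotaP σ k k' q).comp (MvPolynomial.C (σ := σ) (R := k)) =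
        (MvPolynomial.C (σ := σ) (R := k')).comp (algebraMap k k') := by
      refine RingHom.ext (fun c => ?_)
      exact iotaP_C σ k k' q c
    rw [this]
    refine RingHom.FiniteType.comp ?_ ?_
    · change (algebraMap k' (MvPolynomial σ k')).FiniteType
      exact RingHom.finiteType_algebraMap.mpr inferInstance
    · exact RingHom.finiteType_algebraMap.mpr inferInstance
  exact h1.of_comp_finiteType



/-- reduction lemma: the integral closure of `R` in `L` is finite as soon as `L` embeds in a finite
separable extension `L'` of the fraction field of a finite integrally closed extension `R'` of `R`. -/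
theorem finite_integralClosure_of_embedding
    {R R' : Type*} [CommRing R] [IsNoetherianRing R] [CommRing R'] [IsDomain R']
    [IsIntegrallyClosed R'] [Algebra R R'] [Module.Finite R R']
    (F' L' : Type*) [Field F'] [Field L'] [Algebra R' F'] [IsFractionRing R' F'] [Algebra F' L']
    [FiniteDimensional F' L'] [Algebra.IsSeparable F' L'] [Algebra R' L'] [IsScalarTower R' F' L']
    (L : Type*) [Field L] [Algebra R L] (j : L →+* L')
    [Algebra R L'] [IsScalarTower R R' L']
    (hj : ∀ r : R, j (algebraMap R L r) = algebraMap R L' r) :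
    Module.Finite R (integralClosure R L) := by
  haveI : IsNoetherianRing R' := IsNoetherianRing.of_finite R R'
  haveI hfin' : Module.Finite R' (integralClosure R' L') :=
    IsIntegralClosure.finite R' F' L' (integralClosure R' L')
  haveI hfin : Module.Finite R (integralClosure R' L') := Module.Finite.trans R' _
  haveI : IsNoetherian R (integralClosure R' L') := isNoetherian_of_isNoetherianRing_of_finite R _
  have hint : ∀ a : integralClosure R L, IsIntegral R' (j a.1) := by
    intro a
    have h1 : IsIntegral R (j a.1) := by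
      obtain ⟨f, hf, hfa⟩ := a.2
      refine ⟨f, hf, ?_⟩
      change Polynomial.eval₂ (algebraMap R L') (j a.1) f = 0
      have h2 : Polynomial.eval₂ (j.comp (algebraMap R L)) (j a.1) f = 0 := by
        rw [← Polynomial.hom_eval₂, hfa, map_zero]
      rw [← h2]
      congr 1
      exact RingHom.ext (fun r => (hj r).symm)
    exact h1.tower_top
  let ψ : integralClosure R L →ₗ[R] integralClosure R' L' :=
    { toFun := fun a => ⟨j a.1, hint a⟩
      map_add' := fun a b => Subtype.ext (by simp)
      map_smul' := fun r a => Subtype.ext (by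
        simp only [RingHom.id_apply]
        change j ((r • a : integralClosure R L) : L) = ((r • (⟨j a.1, hint a⟩ : integralClosure R' L') :
          integralClosure R' L') : L')
        rw [show ((r • a : integralClosure R L) : L) = algebraMap R L r * a.1 from by
          rw [← Algebra.smul_def]; rfl, map_mul, hj]
        rw [show ((r • (⟨j a.1, hint a⟩ : integralClosure R' L') : integralClosure R' L') : L') =
          r • (j a.1) from rfl, Algebra.smul_def]) }
  have hψ : Function.Injective ψ := by
    intro a b hab
    have := congrArg Subtype.val hab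
    exact Subtype.ext (j.injective this)
  exact Module.Finite.of_injective ψ hψ



theorem exists_separable_overfield {F F' L : Type u} [Field F] [Field F'] [Field L] (p : ℕ)
    [ExpChar F' p] (ι : F →+* F') [Algebra F L] [FiniteDimensional F L]
    (n : ℕ) (b : Module.Basis (Fin n) F L) (g : Fin n → Polynomial F) (mi : Fin n → ℕ)
    (hgsep : ∀ i, (g i).Separable)
    (hgi : ∀ i, Polynomial.expand F (p ^ mi i) (g i) = minpoly F (b i))
    (hroots : ∀ i j, ι ((g i).coeff j) ∈ Set.range (iterateFrobenius F' p (mi i))) :
    ∃ (L' : Type u) (_ : Field L') (_ : Algebra F' L'), FiniteDimensional F' L' ∧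
      Algebra.IsSeparable F' L' ∧
      ∃ j : L →+* L', ∀ c : F, j (algebraMap F L c) = algebraMap F' L' (ι c) := by
  let Ω := AlgebraicClosure F'
  letI algFF' : Algebra F F' := ι.toAlgebra
  haveI : IsScalarTower F F' Ω := inferInstance
  haveI : Algebra.IsAlgebraic F L := Algebra.IsAlgebraic.of_finite F L
  let j₀ : L →ₐ[F] Ω := IsAlgClosed.lift
  let a' : Fin n → Ω := fun i => j₀ (b i)
  let L' : IntermediateField F' Ω := IntermediateField.adjoin F' (Set.range a')
  haveI : ExpChar Ω p := expChar_of_injective_algebraMap (algebraMap F' Ω).injective p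
  haveI hfd : FiniteDimensional F' L' :=
    IntermediateField.finiteDimensional_adjoin (fun x _ => Algebra.IsIntegral.isIntegral x)
  have hsepel : ∀ i, IsSeparable F' (a' i) := by
    intro i
    have hlift : (g i).map ι ∈ Polynomial.lifts (iterateFrobenius F' p (mi i)) := by
      rw [Polynomial.lifts_iff_coeff_lifts]
      intro j
      rw [Polynomial.coeff_map]
      exact hroots i j
    obtain ⟨h, hh⟩ := (Polynomial.mem_lifts _).mp hlift
    refine isSeparable_of_frobenius_lift p ι (a' i) (g i) (hgsep i) (mi i) ?_ h hh
    have h1 : Polynomial.aeval (b i) (Polynomial.expand F (p ^ mi i) (g i)) = 0 := by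
      rw [hgi i]; exact minpoly.aeval F (b i)
    rw [Polynomial.expand_aeval] at h1
    have h2 := congrArg j₀ h1
    rw [map_zero, ← Polynomial.aeval_algHom_apply, map_pow] at h2
    exact h2
  haveI hsep : Algebra.IsSeparable F' L' := by
    rw [IntermediateField.isSeparable_adjoin_iff_isSeparable]
    rintro x ⟨i, rfl⟩
    exact hsepel i
  have hmem : ∀ x : L, j₀ x ∈ L' := by
    intro x
    rw [← b.sum_repr x, map_sum]
    refine sum_mem (fun i _ => ?_)
    rw [map_smul, Algebra.smul_def]
    refine mul_mem ?_ (IntermediateField.subset_adjoin F' _ ⟨i, rfl⟩)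
    exact L'.algebraMap_mem (ι (b.repr x i))
  refine ⟨L', inferInstance, inferInstance, hfd, hsep, j₀.toRingHom.codRestrict L' hmem, ?_⟩
  intro c
  apply Subtype.ext
  change j₀ (algebraMap F L c) = algebraMap F' Ω (ι c)
  rw [j₀.commutes]
  rfl




theorem finite_integralClosure_mvPolynomial (k : Type u) [Field k] (σ : Type) [Finite σ]
    (F L : Type u) [Field F] [Field L] [Algebra (MvPolynomial σ k) F]
    [IsFractionRing (MvPolynomial σ k) F]
    [Algebra F L] [FiniteDimensional F L] [Algebra (MvPolynomial σ k) L]
    [IsScalarTower (MvPolynomial σ k) F L] :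
    Module.Finite (MvPolynomial σ k) (integralClosure (MvPolynomial σ k) L) := by
  classical
  obtain ⟨p, hp⟩ := ExpChar.exists k
  haveI := hp
  have hpos : 0 < p := expChar_pos k p
  haveI : ExpChar F p :=
    expChar_of_injective_algebraMap (IsFractionRing.injective (MvPolynomial σ k) F) p
  let b : Module.Basis (Fin (Module.finrank F L)) F L := Module.finBasis F L
  have hex : ∀ i, ∃ g : Polynomial F, g.Separable ∧
      ∃ m : ℕ, Polynomial.expand F (p ^ m) g = minpoly F (b i) := fun i =>
    (minpoly.irreducible (Algebra.IsIntegral.isIntegral (b i))).hasSeparableContraction p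
  choose g hgsep mi hgi using hex
  let m := Finset.univ.sup mi
  have hmi : ∀ i, mi i ≤ m := fun i => Finset.le_sup (Finset.mem_univ i)
  have hqpos : 0 < p ^ m := pow_pos hpos m
  have hfrac : ∀ c : F, ∃ u v : MvPolynomial σ k, v ≠ 0 ∧
      c = algebraMap (MvPolynomial σ k) F u / algebraMap (MvPolynomial σ k) F v := by
    intro c
    obtain ⟨u, v, hv, h⟩ := IsFractionRing.div_surjective (MvPolynomial σ k) c
    exact ⟨u, v, nonZeroDivisors.ne_zero hv, h.symm⟩
  choose u v hv huv using hfrac
  let T : Finset F := Finset.univ.biUnion (fun i => (g i).coeffs)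
  let Ck : Finset k := T.biUnion (fun c => (u c).coeffs ∪ (v c).coeffs)
  obtain ⟨k', fk', ak', hfin, hroots⟩ := exists_finite_ext_with_roots k (p ^ m) hqpos Ck
  letI := fk'
  letI := ak'
  haveI := hfin
  haveI : ExpChar k' p := expChar_of_injective_algebraMap (algebraMap k k').injective p
  haveI : ExpChar (FractionRing (MvPolynomial σ k')) p :=
    expChar_of_injective_algebraMap (IsFractionRing.injective (MvPolynomial σ k')
      (FractionRing (MvPolynomial σ k'))) p
  have hιinj := iotaP_injective σ k k' (p ^ m) hqpos
  have hg0inj : Function.Injective ((algebraMap (MvPolynomial σ k')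
      (FractionRing (MvPolynomial σ k'))).comp (iotaP σ k k' (p ^ m))) :=
    (IsFractionRing.injective _ _).comp hιinj
  let ιF : F →+* FractionRing (MvPolynomial σ k') := IsFractionRing.lift hg0inj
  have hιF : ∀ x : MvPolynomial σ k, ιF (algebraMap (MvPolynomial σ k) F x) =
      algebraMap (MvPolynomial σ k') (FractionRing (MvPolynomial σ k')) (iotaP σ k k' (p ^ m) x) :=
    fun x => IsFractionRing.lift_algebraMap hg0inj x
  have hroot_poly : ∀ c ∈ T, ∀ w : MvPolynomial σ k, (w = u c ∨ w = v c) →
      ∃ W : MvPolynomial σ k', W ^ (p ^ m) = iotaP σ k k' (p ^ m) w := by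
    intro c hc w hw
    apply iotaP_mem_range_frobenius p m w
    intro α
    by_cases h0 : w.coeff α = 0
    · exact ⟨0, by rw [h0, map_zero, zero_pow hqpos.ne']⟩
    · apply hroots
      simp only [Ck, Finset.mem_biUnion, Finset.mem_union]
      refine ⟨c, hc, ?_⟩
      rcases hw with rfl | rfl
      · exact Or.inl (MvPolynomial.coeff_mem_coeffs α h0)
      · exact Or.inr (MvPolynomial.coeff_mem_coeffs α h0)
  have hrootF : ∀ c ∈ T, ιF c ∈ Set.range (iterateFrobenius (FractionRing (MvPolynomial σ k')) p m) := by
    intro c hc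
    obtain ⟨U, hU⟩ := hroot_poly c hc (u c) (Or.inl rfl)
    obtain ⟨V, hV⟩ := hroot_poly c hc (v c) (Or.inr rfl)
    refine ⟨algebraMap _ _ U / algebraMap _ _ V, ?_⟩
    rw [iterateFrobenius_def, div_pow, ← map_pow, ← map_pow, hU, hV, ← hιF, ← hιF, ← map_div₀,
      ← huv c]
  have hrootF' : ∀ i j, ιF ((g i).coeff j) ∈
      Set.range (iterateFrobenius (FractionRing (MvPolynomial σ k')) p (mi i)) := by
    intro i j
    by_cases h0 : (g i).coeff j = 0
    · exact ⟨0, by rw [h0, map_zero, map_zero]⟩
    · have hc : (g i).coeff j ∈ T := by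
        simp only [T, Finset.mem_biUnion, Finset.mem_univ, true_and]
        exact ⟨i, Polynomial.coeff_mem_coeffs h0⟩
      obtain ⟨r, hr⟩ := hrootF _ hc
      refine ⟨iterateFrobenius _ p (m - mi i) r, ?_⟩
      rw [← iterateFrobenius_add_apply, Nat.add_sub_cancel' (hmi i)]
      exact hr
  obtain ⟨L', fL', aL', hfdL', hsepL', j, hj⟩ :=
    exists_separable_overfield p ιF (Module.finrank F L) b g mi hgsep hgi hrootF'
  letI := fL'
  letI := aL'
  haveI := hfdL'
  haveI := hsepL'
  letI algPP' : Algebra (MvPolynomial σ k) (MvPolynomial σ k') := (iotaP σ k k' (p ^ m)).toAlgebra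
  haveI : Module.Finite (MvPolynomial σ k) (MvPolynomial σ k') := iotaP_finite σ k k' (p ^ m) hqpos
  letI algP'L' : Algebra (MvPolynomial σ k') L' :=
    ((algebraMap (FractionRing (MvPolynomial σ k')) L').comp
      (algebraMap (MvPolynomial σ k') (FractionRing (MvPolynomial σ k')))).toAlgebra
  haveI : IsScalarTower (MvPolynomial σ k') (FractionRing (MvPolynomial σ k')) L' :=
    IsScalarTower.of_algebraMap_eq (fun _ => rfl)
  letI algPL' : Algebra (MvPolynomial σ k) L' :=
    ((algebraMap (MvPolynomial σ k') L').comp (iotaP σ k k' (p ^ m))).toAlgebra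
  haveI : IsScalarTower (MvPolynomial σ k) (MvPolynomial σ k') L' :=
    IsScalarTower.of_algebraMap_eq (fun _ => rfl)
  refine finite_integralClosure_of_embedding (R := MvPolynomial σ k) (R' := MvPolynomial σ k')
    (FractionRing (MvPolynomial σ k')) L' L j ?_
  intro r
  rw [IsScalarTower.algebraMap_apply (MvPolynomial σ k) F L, hj, hιF]
  rfl



/-- finitely generated domains over a field are Japanese (N-2). -/
theorem finite_integralClosure_of_finiteType (k A K L : Type u) [Field k] [CommRing A] [IsDomain A]
    [Algebra k A] [Algebra.FiniteType k A] [Field K] [Field L] [Algebra A K] [IsFractionRing A K]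
    [Algebra K L] [FiniteDimensional K L] [Algebra A L] [IsScalarTower A K L] :
    Module.Finite A (integralClosure A L) := by
  obtain ⟨s, g, hinj, hfin⟩ := exists_finite_inj_algHom_of_fg k A
  letI algPA : Algebra (MvPolynomial (Fin s) k) A := g.toRingHom.toAlgebra
  haveI hPA : Module.Finite (MvPolynomial (Fin s) k) A := hfin
  haveI : FaithfulSMul (MvPolynomial (Fin s) k) A :=
    (faithfulSMul_iff_algebraMap_injective _ _).mpr hinj
  haveI : Algebra.IsIntegral (MvPolynomial (Fin s) k) A := Algebra.IsIntegral.of_finite _ _
  letI algPK : Algebra (MvPolynomial (Fin s) k) K :=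
    ((algebraMap A K).comp (algebraMap (MvPolynomial (Fin s) k) A)).toAlgebra
  haveI : IsScalarTower (MvPolynomial (Fin s) k) A K := IsScalarTower.of_algebraMap_eq (fun _ => rfl)
  have hinjK : Function.Injective (algebraMap (MvPolynomial (Fin s) k) K) :=
    (IsFractionRing.injective A K).comp hinj
  letI algFK : Algebra (FractionRing (MvPolynomial (Fin s) k)) K :=
    (IsFractionRing.lift hinjK).toAlgebra
  haveI : IsScalarTower (MvPolynomial (Fin s) k) (FractionRing (MvPolynomial (Fin s) k)) K :=
    IsScalarTower.of_algebraMap_eq (fun x => (IsFractionRing.lift_algebraMap hinjK x).symm)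
  haveI : Module.Finite (FractionRing (MvPolynomial (Fin s) k)) K :=
    Module.Finite.of_isLocalization (MvPolynomial (Fin s) k) A
      (nonZeroDivisors (MvPolynomial (Fin s) k))
  letI algFL : Algebra (FractionRing (MvPolynomial (Fin s) k)) L :=
    ((algebraMap K L).comp (algebraMap (FractionRing (MvPolynomial (Fin s) k)) K)).toAlgebra
  haveI : IsScalarTower (FractionRing (MvPolynomial (Fin s) k)) K L :=
    IsScalarTower.of_algebraMap_eq (fun _ => rfl)
  haveI : FiniteDimensional (FractionRing (MvPolynomial (Fin s) k)) L :=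
    Module.Finite.trans K L
  letI algPL : Algebra (MvPolynomial (Fin s) k) L :=
    ((algebraMap A L).comp (algebraMap (MvPolynomial (Fin s) k) A)).toAlgebra
  haveI : IsScalarTower (MvPolynomial (Fin s) k) A L := IsScalarTower.of_algebraMap_eq (fun _ => rfl)
  haveI : IsScalarTower (MvPolynomial (Fin s) k) (FractionRing (MvPolynomial (Fin s) k)) L := by
    refine IsScalarTower.of_algebraMap_eq (fun x => ?_)
    change algebraMap A L (algebraMap _ A x) =
      algebraMap K L (algebraMap (FractionRing (MvPolynomial (Fin s) k)) K (algebraMap _ _ x))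
    rw [← IsScalarTower.algebraMap_apply (MvPolynomial (Fin s) k)
      (FractionRing (MvPolynomial (Fin s) k)) K, IsScalarTower.algebraMap_apply A K L]
    rfl
  haveI h1 : Module.Finite (MvPolynomial (Fin s) k) (integralClosure (MvPolynomial (Fin s) k) L) :=
    finite_integralClosure_mvPolynomial k (Fin s) (FractionRing (MvPolynomial (Fin s) k)) L
  -- the integral closure of A in L is contained in that of P
  have hsub : ∀ a : integralClosure A L, IsIntegral (MvPolynomial (Fin s) k) a.1 :=
    fun a => isIntegral_trans a.1 a.2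
  let ψ : integralClosure A L →ₗ[MvPolynomial (Fin s) k] integralClosure (MvPolynomial (Fin s) k) L :=
    { toFun := fun a => ⟨a.1, hsub a⟩
      map_add' := fun a b => rfl
      map_smul' := fun r a => by
        apply Subtype.ext
        change ((r • a : integralClosure A L) : L) = r • a.1
        rw [Algebra.smul_def, Algebra.smul_def]
        rfl }
  have hψ : Function.Injective ψ := fun a b hab => Subtype.ext
    (congrArg (fun z : integralClosure (MvPolynomial (Fin s) k) L => (z : L)) hab)
  haveI : IsNoetherian (MvPolynomial (Fin s) k) (integralClosure (MvPolynomial (Fin s) k) L) :=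
    isNoetherian_of_isNoetherianRing_of_finite _ _
  haveI h2 : Module.Finite (MvPolynomial (Fin s) k) (integralClosure A L) :=
    Module.Finite.of_injective ψ hψ
  exact Module.Finite.of_restrictScalars_finite (MvPolynomial (Fin s) k) A (integralClosure A L)


end Groth.Agent.Lib.Helper4.Japanese1
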