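import Mathlib

/-!
# Krull–Akizuki: length of `M/xM` for submodules of `K^r` over a 1-dimensional Noetherian domain
-/

set_option autoImplicit false

namespace Groth.Agent.Lib.Helper4.KA

open Pointwise

section general
variable {R : Type*} [CommRing R]

/-- `N / xN`. -/
abbrev Q (x : R) (N : Type*) [AddCommGroup N] [Module R N] := N ⧸ (x • (⊤ : Submodule R N))

variable (x : R) {N P : Type*} [AddCommGroup N] [Module R N] [AddCommGroup P] [Module R P]

theorem mem_xtop (n : N) : n ∈ (x • (⊤ : Submodule R N)) ↔ ∃ b : N, x • b = n := by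
  rw [Submodule.mem_smul_pointwise_iff_exists]
  simp

/-- Induced map on `N/xN`. -/
noncomputable def Qmap (f : N →ₗ[R] P) : Q x N →ₗ[R] Q x P :=
  Submodule.mapQ _ _ f (by
    intro n hn
    rw [mem_xtop] at hn
    obtain ⟨b, rfl⟩ := hn
    rw [Submodule.mem_comap, map_smul, mem_xtop]
    exact ⟨f b, rfl⟩)

@[simp] theorem Qmap_mk (f : N →ₗ[R] P) (n : N) :
    Qmap x f (Submodule.Quotient.mk n) = Submodule.Quotient.mk (f n) := rfl

theorem Qmap_surjective (f : N →ₗ[R] P) (hf : Function.Surjective f) :
    Function.Surjective (Qmap x f) := by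
  intro q
  obtain ⟨p, rfl⟩ := Submodule.Quotient.mk_surjective _ q
  obtain ⟨n, rfl⟩ := hf p
  exact ⟨Submodule.Quotient.mk n, rfl⟩

theorem length_Q_le_of_surjective (f : N →ₗ[R] P) (hf : Function.Surjective f) :
    Module.length R (Q x P) ≤ Module.length R (Q x N) :=
  Module.length_le_of_surjective (Qmap x f) (Qmap_surjective x f hf)

theorem length_Q_congr (e : N ≃ₗ[R] P) :
    Module.length R (Q x N) = Module.length R (Q x P) :=
  le_antisymm (length_Q_le_of_surjective x e.symm.toLinearMap e.symm.surjective)
    (length_Q_le_of_surjective x e.toLinearMap e.surjective)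

/-- L1 -/
theorem length_Q_le_ker_add_range (f : N →ₗ[R] P) :
    Module.length R (Q x N) ≤
      Module.length R (Q x (LinearMap.ker f)) + Module.length R (Q x (LinearMap.range f)) := by
  set g := Qmap x f.rangeRestrict with hg
  set h := Qmap x (LinearMap.ker f).subtype with hh
  have hgs : Function.Surjective g := Qmap_surjective x _ f.surjective_rangeRestrict
  rw [Module.length_eq_add_of_exact (LinearMap.ker g).subtype g (Submodule.subtype_injective _) hgs
    (LinearMap.exact_subtype_ker_map g)]
  gcongr
  -- surjection Q x (ker f) → ker g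
  have hle : ∀ q, h q ∈ LinearMap.ker g := by
    intro q
    obtain ⟨k, rfl⟩ := Submodule.Quotient.mk_surjective _ q
    rw [LinearMap.mem_ker, hh, hg, Qmap_mk, Qmap_mk]
    have : f.rangeRestrict ((LinearMap.ker f).subtype k) = 0 := by
      ext
      simp
    rw [this]
    rfl
  refine Module.length_le_of_surjective (h.codRestrict (LinearMap.ker g) hle) ?_
  rintro ⟨q, hq⟩
  obtain ⟨n, rfl⟩ := Submodule.Quotient.mk_surjective _ q
  rw [LinearMap.mem_ker, hg, Qmap_mk, Submodule.Quotient.mk_eq_zero, mem_xtop] at hq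
  obtain ⟨⟨b, n', rfl⟩, hb⟩ := hq
  have hb' : x • f n' = f n := by
    have := congrArg Subtype.val hb
    simpa using this
  have hk : n - x • n' ∈ LinearMap.ker f := by
    rw [LinearMap.mem_ker, map_sub, map_smul, hb', sub_self]
  refine ⟨Submodule.Quotient.mk ⟨n - x • n', hk⟩, ?_⟩
  apply Subtype.ext
  rw [LinearMap.codRestrict_apply, hh, Qmap_mk]
  simp only [Submodule.subtype_apply]
  rw [Submodule.Quotient.eq, mem_xtop]
  exact ⟨-n', by simp⟩

/-- f.g. approximation -/
theorem exists_fg_le_length_Q (k : ℕ) (hk : (k : ℕ∞) ≤ Module.length R (Q x N)) :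
    ∃ N' : Submodule R N, N'.FG ∧ (k : ℕ∞) ≤ Module.length R (Q x N') := by
  have h1 : (k : WithBot ℕ∞) ≤ Order.krullDim (Submodule R (Q x N)) := by
    rw [← Module.coe_length]
    exact_mod_cast hk
  obtain ⟨p, hp⟩ := Order.le_krullDim_iff.mp h1
  have hstep : ∀ i : Fin p.length, ∃ m : N,
      (Submodule.Quotient.mk m : Q x N) ∈ p i.succ ∧
      (Submodule.Quotient.mk m : Q x N) ∉ p i.castSucc := by
    intro i
    have hlt : p i.castSucc < p i.succ := p.step i
    obtain ⟨q, hq1, hq2⟩ := SetLike.exists_of_lt hlt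
    obtain ⟨m, rfl⟩ := Submodule.Quotient.mk_surjective _ q
    exact ⟨m, hq1, hq2⟩
  choose m hm1 hm2 using hstep
  refine ⟨Submodule.span R (Set.range m), Submodule.fg_span (Set.finite_range m), ?_⟩
  set N' := Submodule.span R (Set.range m) with hN'
  set ι := Qmap x N'.subtype with hι
  let p' : LTSeries (Submodule R (Q x N')) :=
    { length := p.length
      toFun := fun i => (p i).comap ι
      step := by
        intro i
        have hlt : p i.castSucc < p i.succ := p.step i
        refine lt_of_le_not_ge (Submodule.comap_mono hlt.le) ?_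
        intro hle
        have hmem : (Submodule.Quotient.mk ⟨m i, Submodule.subset_span ⟨i, rfl⟩⟩ : Q x N') ∈
            (p i.succ).comap ι := by
          rw [Submodule.mem_comap, hι, Qmap_mk]
          exact hm1 i
        have := hle hmem
        rw [Submodule.mem_comap, hι, Qmap_mk] at this
        exact hm2 i this }
  have h2 := Order.LTSeries.length_le_krullDim p'
  rw [← Module.coe_length] at h2
  have h3 : p'.length = k := hp
  rw [h3] at h2
  exact_mod_cast h2

theorem length_Q_le_of_fg_le (c : ℕ∞)
    (h : ∀ N' : Submodule R N, N'.FG → Module.length R (Q x N') ≤ c) :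
    Module.length R (Q x N) ≤ c := by
  by_cases hc : c = ⊤
  · rw [hc]; exact le_top
  lift c to ℕ using hc
  by_contra hlt
  rw [not_le] at hlt
  have h1 : ((c + 1 : ℕ) : ℕ∞) ≤ Module.length R (Q x N) := by
    have := Order.add_one_le_of_lt hlt
    exact_mod_cast this
  obtain ⟨N', hfg, hN'⟩ := exists_fg_le_length_Q x (c + 1) h1
  have h2 := hN'.trans (h N' hfg)
  have h3 : c + 1 ≤ c := by exact_mod_cast h2
  omega

end general

section dimone
variable {R : Type*} [CommRing R] [IsDomain R] [IsNoetherianRing R] [Ring.KrullDimLE 1 R]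

theorem length_quot_ne_top (I : Ideal R) (hI : I ≠ ⊥) : Module.length R (R ⧸ I) ≠ ⊤ := by
  obtain ⟨y, hyI, hy0⟩ := Submodule.exists_mem_ne_zero_of_ne_bot hI
  have hle : Ideal.span {y} ≤ I := (Ideal.span_singleton_le_iff_mem I).2 hyI
  have h1 : Module.length R (R ⧸ I) ≤ Module.length R (R ⧸ Ideal.span {y}) :=
    Module.length_le_of_surjective (Submodule.factor hle) (Submodule.factor_surjective hle)
  have h2 : Module.length R (R ⧸ Ideal.span {y}) ≠ ⊤ :=
    Ring.ord_ne_top (mem_nonZeroDivisors_of_ne_zero hy0)
  exact ne_top_of_le_ne_top h2 h1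

theorem length_Q_ideal (x : R) (hx : x ≠ 0) (I : Ideal R) (hI : I ≠ ⊥) :
    Module.length R (Q x I) = Module.length R (R ⧸ Ideal.span {x}) := by
  have hxn : x ∈ nonZeroDivisors R := mem_nonZeroDivisors_of_ne_zero hx
  have e1 := Module.length_eq_add_of_exact (Ideal.mulQuot x I) (Ideal.quotOfMul x I)
    (Ideal.mulQuot_injective I hxn) (Ideal.quotOfMul_surjective I) (Ideal.exact_mulQuot_quotOfMul I)
  have hle : x • I ≤ I := by
    intro r hr
    rw [Submodule.mem_smul_pointwise_iff_exists] at hr
    obtain ⟨b, hb, rfl⟩ := hr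
    exact I.smul_mem x hb
  have hcomap : x • (⊤ : Submodule R I) ≤ Submodule.comap (Submodule.subtype I) (x • I) := by
    intro i hi
    rw [mem_xtop] at hi
    obtain ⟨b, rfl⟩ := hi
    rw [Submodule.mem_comap, Submodule.mem_smul_pointwise_iff_exists]
    exact ⟨b.1, b.2, rfl⟩
  set f : Q x I →ₗ[R] R ⧸ (x • I) := Submodule.mapQ _ _ (Submodule.subtype I) hcomap with hf
  set g : (R ⧸ (x • I)) →ₗ[R] R ⧸ I := Submodule.factor hle with hg
  have hfi : Function.Injective f := by
    rw [injective_iff_map_eq_zero]
    intro q hq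
    obtain ⟨i, rfl⟩ := Submodule.Quotient.mk_surjective _ q
    rw [hf, Submodule.mapQ_apply, Submodule.Quotient.mk_eq_zero,
      Submodule.mem_smul_pointwise_iff_exists] at hq
    obtain ⟨j, hj, hji⟩ := hq
    rw [Submodule.Quotient.mk_eq_zero, mem_xtop]
    exact ⟨⟨j, hj⟩, Subtype.ext hji⟩
  have hgs : Function.Surjective g := Submodule.factor_surjective hle
  have hex : Function.Exact f g := by
    intro y
    obtain ⟨r, rfl⟩ := Submodule.Quotient.mk_surjective _ y
    have hgr : g (Submodule.Quotient.mk r) = Submodule.Quotient.mk r := rfl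
    rw [hgr, Submodule.Quotient.mk_eq_zero]
    constructor
    · intro hr
      exact ⟨Submodule.Quotient.mk ⟨r, hr⟩, rfl⟩
    · rintro ⟨q, hq⟩
      obtain ⟨i, rfl⟩ := Submodule.Quotient.mk_surjective _ q
      rw [hf, Submodule.mapQ_apply, Submodule.Quotient.eq] at hq
      have h1 : (i : R) - r ∈ I := hle hq
      have h2 : r = (i : R) - ((i : R) - r) := by ring
      rw [h2]
      exact I.sub_mem i.2 h1
  have e2 := Module.length_eq_add_of_exact f g hfi hgs hex
  rw [e2, add_comm] at e1
  exact ENat.add_right_injective_of_ne_top (length_quot_ne_top I hI) e1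

variable {K : Type*} [Field K] [Algebra R K] [IsFractionRing R K]

theorem length_Q_fg_le (x : R) (hx : x ≠ 0) (M : Submodule R K) (hM : M.FG) :
    Module.length R (Q x M) ≤ Module.length R (R ⧸ Ideal.span {x}) := by
  obtain ⟨a, ha, hint⟩ := FractionalIdeal.isFractional_of_fg (S := nonZeroDivisors R) hM
  have ha0 : a ≠ 0 := nonZeroDivisors.ne_zero ha
  set μ : K →ₗ[R] K := LinearMap.lsmul R K a with hμ
  have hμi : Function.Injective μ := by
    intro k1 k2 h
    have h' : a • k1 = a • k2 := h
    rw [Algebra.smul_def, Algebra.smul_def] at h'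
    have hne : algebraMap R K a ≠ 0 := by
      rw [Ne, map_eq_zero_iff _ (IsFractionRing.injective R K)]
      exact ha0
    exact mul_left_cancel₀ hne h'
  have hinj : Function.Injective (Algebra.linearMap R K) := IsFractionRing.injective R K
  have hle : M.map μ ≤ LinearMap.range (Algebra.linearMap R K) := by
    rintro _ ⟨b, hb, rfl⟩
    obtain ⟨r, hr⟩ := hint b hb
    exact ⟨r, hr⟩
  set I : Ideal R := Submodule.comap (Algebra.linearMap R K) (M.map μ) with hIdef
  have e1 : M ≃ₗ[R] M.map μ := Submodule.equivMapOfInjective μ hμi M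
  have e2 : I ≃ₗ[R] M.map μ := Submodule.comap_equiv_self_of_inj_of_le hinj hle
  rw [length_Q_congr x (e1.trans e2.symm)]
  by_cases hI : I = ⊥
  · have : Subsingleton I := by rw [hI]; infer_instance
    have : Subsingleton (Q x I) := Quotient.instSubsingletonQuotient _
    rw [Module.length_eq_zero]
    exact bot_le
  · exact (length_Q_ideal x hx I hI).le

theorem length_Q_le (x : R) (hx : x ≠ 0) (M : Submodule R K) :
    Module.length R (Q x M) ≤ Module.length R (R ⧸ Ideal.span {x}) := by
  apply length_Q_le_of_fg_le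
  intro N' hN'
  have e : N' ≃ₗ[R] N'.map M.subtype :=
    Submodule.equivMapOfInjective M.subtype (Submodule.subtype_injective M) N'
  rw [length_Q_congr x e]
  exact length_Q_fg_le x hx _ (hN'.map _)

theorem length_Q_pi_le (x : R) (hx : x ≠ 0) : ∀ (r : ℕ) (M : Submodule R (Fin r → K)),
    Module.length R (Q x M) ≤ r * Module.length R (R ⧸ Ideal.span {x}) := by
  intro r
  induction r with
  | zero =>
    intro M
    have : Subsingleton M := inferInstance
    have : Subsingleton (Q x M) := Quotient.instSubsingletonQuotient _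
    rw [Module.length_eq_zero]
    exact bot_le
  | succ r ih =>
    intro M
    set f : M →ₗ[R] K := (LinearMap.proj (R := R) (φ := fun _ : Fin (r + 1) => K) 0) ∘ₗ M.subtype with hf
    set t : (Fin (r + 1) → K) →ₗ[R] (Fin r → K) := LinearMap.funLeft R K Fin.succ with ht
    set τ : LinearMap.ker f →ₗ[R] (Fin r → K) := t ∘ₗ M.subtype ∘ₗ (LinearMap.ker f).subtype with hτ
    have hτi : Function.Injective τ := by
      rw [injective_iff_map_eq_zero]
      rintro ⟨⟨k, hkM⟩, hk⟩ h0
      have h1 : k 0 = 0 := hk
      have h2 : ∀ i : Fin r, k i.succ = 0 := fun i => congrFun h0 i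
      apply Subtype.ext
      apply Subtype.ext
      funext i
      refine Fin.cases h1 h2 i
    have e : LinearMap.ker f ≃ₗ[R] LinearMap.range τ := LinearEquiv.ofInjective τ hτi
    have h1 := length_Q_le_ker_add_range x f
    have h1' := length_Q_congr (N := LinearMap.ker f) (P := LinearMap.range τ) x e
    rw [h1'] at h1
    have h2 := ih (LinearMap.range τ)
    have h3 := length_Q_le x hx (LinearMap.range f)
    calc Module.length R (Q x M) ≤ _ := h1
      _ ≤ r * Module.length R (R ⧸ Ideal.span {x}) + Module.length R (R ⧸ Ideal.span {x}) :=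
          add_le_add h2 h3
      _ = ((r + 1 : ℕ) : ℕ∞) * Module.length R (R ⧸ Ideal.span {x}) := by
          rw [Nat.cast_succ, add_mul, one_mul]

end dimone

/-- Main theorem (S0557 without the local hypothesis). -/
theorem main (R : Type*) [CommRing R] [IsDomain R] [IsNoetherianRing R]
    (hdim : ringKrullDim R = 1) (K : Type*) [Field K] [Algebra R K] [IsFractionRing R K]
    (r : ℕ) (M : Submodule R (Fin r → K)) (x : R) (hx : x ≠ 0) :
    Module.length R (R ⧸ Ideal.span ({x} : Set R)) ≠ ⊤ ∧
      Module.length R (M ⧸ (Ideal.span ({x} : Set R) • (⊤ : Submodule R M))) ≤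
        r * Module.length R (R ⧸ Ideal.span ({x} : Set R)) := by
  have : Ring.KrullDimLE 1 R := Ring.krullDimLE_iff.2 (by rw [hdim]; rfl)
  refine ⟨Ring.ord_ne_top (mem_nonZeroDivisors_of_ne_zero hx), ?_⟩
  rw [Submodule.ideal_span_singleton_smul]
  exact length_Q_pi_le x hx r M

theorem main_ne_top (R : Type*) [CommRing R] [IsDomain R] [IsNoetherianRing R]
    (hdim : ringKrullDim R = 1) (K : Type*) [Field K] [Algebra R K] [IsFractionRing R K]
    (r : ℕ) (M : Submodule R (Fin r → K)) (x : R) (hx : x ≠ 0) :
    Module.length R (M ⧸ (Ideal.span ({x} : Set R) • (⊤ : Submodule R M))) ≠ ⊤ := by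
  obtain ⟨h1, h2⟩ := main R hdim K r M x hx
  refine ne_top_of_le_ne_top ?_ h2
  exact WithTop.mul_ne_top (ENat.natCast_ne_top r) h1

universe u

theorem noeth (R : Type u) [CommRing R]
    [IsDomain R] [IsNoetherianRing R] (hdim : ringKrullDim R = 1) (K L : Type u) [Field K] [Field L]
    [Algebra R K] [IsFractionRing R K] [Algebra K L] [FiniteDimensional K L] [Algebra R L]
    [IsScalarTower R K L] (A : Type u) [CommRing A] [Algebra R A] [Algebra A L]
    [IsScalarTower R A L] (hA : Function.Injective (algebraMap A L)) :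
    IsNoetherianRing A := by
  have hdom : IsDomain A := hA.isDomain (algebraMap A L)
  have halgKL : Algebra.IsAlgebraic K L := Algebra.IsAlgebraic.of_finite K L
  have halgRL : Algebra.IsAlgebraic R L := (IsFractionRing.comap_isAlgebraic_iff (A := R) (K := K) (C := L)).2 halgKL
  set r := Module.finrank K L with hr
  let b := Module.finBasis K L
  let e : L ≃ₗ[R] (Fin r → K) := b.equivFun.restrictScalars R
  let ψ : A →ₗ[R] L := (IsScalarTower.toAlgHom R A L).toLinearMap
  have hψ : Function.Injective ψ := hA
  let φ : A →ₗ[R] (Fin r → K) := e.toLinearMap ∘ₗ ψ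
  have hφ : Function.Injective φ := e.injective.comp hψ
  set M := LinearMap.range φ with hM
  have eM : A ≃ₗ[R] M := LinearEquiv.ofInjective φ hφ
  rw [isNoetherianRing_iff_ideal_fg]
  intro I
  by_cases hI : I = ⊥
  · rw [hI]; exact Submodule.fg_bot
  obtain ⟨a, haI, ha0⟩ := Submodule.exists_mem_ne_zero_of_ne_bot hI
  have halg : IsAlgebraic R a := by
    have h1 : IsAlgebraic R (IsScalarTower.toAlgHom R A L a) := Algebra.IsAlgebraic.isAlgebraic _
    exact (isAlgebraic_algHom_iff (IsScalarTower.toAlgHom R A L) hA).1 h1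
  obtain ⟨x, hx0, c, hc⟩ := halg.exists_nonzero_dvd (mem_nonZeroDivisors_of_ne_zero ha0)
  set y := algebraMap R A x with hy
  have hyI : y ∈ I := by rw [hc]; exact I.mul_mem_right c haI
  set J : Ideal A := Ideal.span {y} with hJ
  have hJI : J ≤ I := (Ideal.span_singleton_le_iff_mem I).2 hyI
  have hlen : Module.length R (A ⧸ J) ≠ ⊤ := by
    have h1 := main_ne_top R hdim K r M x hx0
    rw [Submodule.ideal_span_singleton_smul] at h1
    have h2 := length_Q_congr (N := A) (P := M) x eM
    have hJx : J.restrictScalars R = x • (⊤ : Submodule R A) := by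
      ext z
      rw [Submodule.restrictScalars_mem, hJ, Ideal.mem_span_singleton', mem_xtop]
      constructor
      · rintro ⟨w, rfl⟩
        exact ⟨w, by rw [Algebra.smul_def, mul_comm]⟩
      · rintro ⟨w, rfl⟩
        exact ⟨w, by rw [Algebra.smul_def, mul_comm]⟩
    have h3 := (Submodule.Quotient.restrictScalarsEquiv R J).length_eq
    rw [← h3, hJx, h2]
    exact h1
  have hN_R : IsNoetherian R (A ⧸ J) :=
    ((isFiniteLength_iff_isNoetherian_isArtinian).1 (Module.length_ne_top_iff.1 hlen)).1
  have hN_A : IsNoetherian A (A ⧸ J) := isNoetherian_of_tower R hN_R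
  have h1 : (Submodule.map J.mkQ I).FG := IsNoetherian.noetherian _
  have h2 : (I ⊓ LinearMap.ker J.mkQ).FG := by
    rw [Submodule.ker_mkQ, inf_eq_right.2 hJI]
    exact ⟨{y}, by simp [hJ]⟩
  exact Submodule.fg_of_fg_map_of_fg_inf_ker J.mkQ h1 h2

theorem length_between_ne_top (R : Type u) [CommRing R]
    [IsDomain R] [IsNoetherianRing R] (hdim : ringKrullDim R = 1) (K L : Type u) [Field K] [Field L]
    [Algebra R K] [IsFractionRing R K] [Algebra K L] [FiniteDimensional K L] [Algebra R L]
    [IsScalarTower R K L] (A : Type u) [CommRing A] [Algebra R A] [Algebra A L]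
    [IsScalarTower R A L] (hA : Function.Injective (algebraMap A L)) (x : R) (hx0 : x ≠ 0) :
    Module.length R (A ⧸ Ideal.span {algebraMap R A x}) ≠ ⊤ := by
  set r := Module.finrank K L with hr
  let b := Module.finBasis K L
  let e : L ≃ₗ[R] (Fin r → K) := b.equivFun.restrictScalars R
  let ψ : A →ₗ[R] L := (IsScalarTower.toAlgHom R A L).toLinearMap
  have hψ : Function.Injective ψ := hA
  let φ : A →ₗ[R] (Fin r → K) := e.toLinearMap ∘ₗ ψ
  have hφ : Function.Injective φ := e.injective.comp hψ
  set M := LinearMap.range φ with hM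
  have eM : A ≃ₗ[R] M := LinearEquiv.ofInjective φ hφ
  set y := algebraMap R A x with hy
  set J : Ideal A := Ideal.span {y} with hJ
  have h1 := main_ne_top R hdim K r M x hx0
  rw [Submodule.ideal_span_singleton_smul] at h1
  have h2 := length_Q_congr (N := A) (P := M) x eM
  have hJx : J.restrictScalars R = x • (⊤ : Submodule R A) := by
    ext z
    rw [Submodule.restrictScalars_mem, hJ, Ideal.mem_span_singleton', mem_xtop]
    constructor
    · rintro ⟨w, rfl⟩
      exact ⟨w, by rw [Algebra.smul_def, mul_comm]⟩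
    · rintro ⟨w, rfl⟩
      exact ⟨w, by rw [Algebra.smul_def, mul_comm]⟩
  have h3 := (Submodule.Quotient.restrictScalarsEquiv R J).length_eq
  rw [← h3, hJx, h2]
  exact h1

theorem primesOver_main (R S K L : Type u)
    [CommRing R] [IsDomain R] [IsNoetherianRing R] [IsLocalRing R] (hdim : ringKrullDim R = 1)
    [CommRing S] [IsDomain S] [Algebra R S] [Field K] [Field L] [Algebra R K] [IsFractionRing R K]
    [Algebra S L] [IsFractionRing S L] [Algebra K L] [Algebra R L] [IsScalarTower R K L]
    [IsScalarTower R S L] [FiniteDimensional K L] :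
    (∀ n ∈ (IsLocalRing.maximalIdeal R).primesOver S, n.IsMaximal) ∧
      ((IsLocalRing.maximalIdeal R).primesOver S).Finite ∧
      ∀ n ∈ (IsLocalRing.maximalIdeal R).primesOver S, Module.Finite R (S ⧸ n) := by
  have hA : Function.Injective (algebraMap S L) := IsFractionRing.injective S L
  -- nonzero element of the maximal ideal
  have hm : IsLocalRing.maximalIdeal R ≠ ⊥ := by
    intro h
    have hf : IsField R := IsLocalRing.isField_iff_maximalIdeal_eq.2 h
    have := ringKrullDim_eq_zero_of_isField hf
    rw [hdim] at this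
    exact one_ne_zero this
  obtain ⟨x, hxm, hx0⟩ := Submodule.exists_mem_ne_zero_of_ne_bot hm
  set y := algebraMap R S x with hy
  set J : Ideal S := Ideal.span {y} with hJ
  have hlen : Module.length R (S ⧸ J) ≠ ⊤ := length_between_ne_top R hdim K L S hA x hx0
  obtain ⟨hN_R, hA_R⟩ := (isFiniteLength_iff_isNoetherian_isArtinian).1 (Module.length_ne_top_iff.1 hlen)
  -- key: for n over m, J ≤ n
  have hJn : ∀ n ∈ (IsLocalRing.maximalIdeal R).primesOver S, J ≤ n := by
    rintro n ⟨hnp, hno⟩
    rw [hJ, Ideal.span_singleton_le_iff_mem]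
    have : x ∈ n.under R := by rw [← hno.over]; exact hxm
    exact this
  have hAr : IsArtinianRing (S ⧸ J) := isArtinian_of_tower S (isArtinian_of_tower R hA_R)
  refine ⟨?_, ?_, ?_⟩
  · rintro n hn
    have hle := hJn n hn
    obtain ⟨hnp, hno⟩ := hn
    have hker : RingHom.ker (Ideal.Quotient.mk J) ≤ n := by rw [Ideal.mk_ker]; exact hle
    have hp : (n.map (Ideal.Quotient.mk J)).IsPrime :=
      Ideal.map_isPrime_of_surjective Ideal.Quotient.mk_surjective hker
    have hmx : (n.map (Ideal.Quotient.mk J)).IsMaximal := IsArtinianRing.isMaximal_of_isPrime _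
    have := Ideal.comap_isMaximal_of_surjective (Ideal.Quotient.mk J) Ideal.Quotient.mk_surjective (K := n.map (Ideal.Quotient.mk J))
    rwa [Ideal.comap_map_of_surjective _ Ideal.Quotient.mk_surjective, ← RingHom.ker_eq_comap_bot,
      sup_eq_left.2 hker] at this
  · have hfin := (IsArtinianRing.setOfPred_isPrime_finite (S ⧸ J)).image (Ideal.comap (Ideal.Quotient.mk J))
    refine hfin.subset ?_
    intro n hn
    have hle := hJn n hn
    obtain ⟨hnp, hno⟩ := hn
    have hker : RingHom.ker (Ideal.Quotient.mk J) ≤ n := by rw [Ideal.mk_ker]; exact hle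
    refine ⟨n.map (Ideal.Quotient.mk J), Ideal.map_isPrime_of_surjective Ideal.Quotient.mk_surjective hker, ?_⟩
    rw [Ideal.comap_map_of_surjective _ Ideal.Quotient.mk_surjective, ← RingHom.ker_eq_comap_bot,
      sup_eq_left.2 hker]
  · rintro n hn
    have hle := hJn n hn
    have : Module.Finite R (S ⧸ J) := inferInstance
    exact Module.Finite.of_surjective ((Submodule.factor hle).restrictScalars R) (Submodule.factor_surjective hle)

theorem primes_containing (R : Type u) [CommRing R]
    [IsDomain R] [IsNoetherianRing R] (hdim : ringKrullDim R = 1) (K L : Type u) [Field K] [Field L]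
    [Algebra R K] [IsFractionRing R K] [Algebra K L] [FiniteDimensional K L] [Algebra R L]
    [IsScalarTower R K L] (A : Type u) [CommRing A] [Algebra R A] [Algebra A L]
    [IsScalarTower R A L] (hA : Function.Injective (algebraMap A L)) (x : R) (hx0 : x ≠ 0) :
    (∀ n : Ideal A, n.IsPrime → algebraMap R A x ∈ n → n.IsMaximal) ∧
      {n : Ideal A | n.IsPrime ∧ algebraMap R A x ∈ n}.Finite ∧
      ∀ n : Ideal A, algebraMap R A x ∈ n → Module.Finite R (A ⧸ n) := by
  set y := algebraMap R A x with hy
  set J : Ideal A := Ideal.span {y} with hJ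
  have hlen : Module.length R (A ⧸ J) ≠ ⊤ := length_between_ne_top R hdim K L A hA x hx0
  obtain ⟨hN_R, hA_R⟩ := (isFiniteLength_iff_isNoetherian_isArtinian).1 (Module.length_ne_top_iff.1 hlen)
  have hJn : ∀ n : Ideal A, y ∈ n → J ≤ n := by
    intro n hn
    rw [hJ, Ideal.span_singleton_le_iff_mem]
    exact hn
  have hAr : IsArtinianRing (A ⧸ J) := isArtinian_of_tower A (isArtinian_of_tower R hA_R)
  refine ⟨?_, ?_, ?_⟩
  · intro n hnp hn
    have hle := hJn n hn
    have hker : RingHom.ker (Ideal.Quotient.mk J) ≤ n := by rw [Ideal.mk_ker]; exact hle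
    have hp : (n.map (Ideal.Quotient.mk J)).IsPrime :=
      Ideal.map_isPrime_of_surjective Ideal.Quotient.mk_surjective hker
    have hmx : (n.map (Ideal.Quotient.mk J)).IsMaximal := IsArtinianRing.isMaximal_of_isPrime _
    have := Ideal.comap_isMaximal_of_surjective (Ideal.Quotient.mk J) Ideal.Quotient.mk_surjective (K := n.map (Ideal.Quotient.mk J))
    rwa [Ideal.comap_map_of_surjective _ Ideal.Quotient.mk_surjective, ← RingHom.ker_eq_comap_bot,
      sup_eq_left.2 hker] at this
  · have hfin := (IsArtinianRing.setOfPred_isPrime_finite (A ⧸ J)).image (Ideal.comap (Ideal.Quotient.mk J))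
    refine hfin.subset ?_
    rintro n ⟨hnp, hn⟩
    have hle := hJn n hn
    have hker : RingHom.ker (Ideal.Quotient.mk J) ≤ n := by rw [Ideal.mk_ker]; exact hle
    refine ⟨n.map (Ideal.Quotient.mk J), Ideal.map_isPrime_of_surjective Ideal.Quotient.mk_surjective hker, ?_⟩
    rw [Ideal.comap_map_of_surjective _ Ideal.Quotient.mk_surjective, ← RingHom.ker_eq_comap_bot,
      sup_eq_left.2 hker]
  · intro n hn
    have hle := hJn n hn
    have : Module.Finite R (A ⧸ J) := inferInstance
    exact Module.Finite.of_surjective ((Submodule.factor hle).restrictScalars R) (Submodule.factor_surjective hle)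

theorem dedekind_main (A K L B : Type u) [CommRing A] [IsDomain A]
    [IsNoetherianRing A] (hdim : ringKrullDim A = 1) [Field K] [Algebra A K] [IsFractionRing A K]
    [Field L] [Algebra K L] [FiniteDimensional K L] [Algebra A L] [IsScalarTower A K L]
    [CommRing B] [IsDomain B] [Algebra A B] [Algebra B L] [IsScalarTower A B L] [IsIntegralClosure B A L] :
    IsDedekindDomain B ∧ Function.Surjective (PrimeSpectrum.comap (algebraMap A B)) ∧
      (∀ p : PrimeSpectrum A, (PrimeSpectrum.comap (algebraMap A B) ⁻¹' {p}).Finite) ∧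
      ∀ Q : Ideal B, Q.IsMaximal → Module.Finite (A ⧸ Q.comap (algebraMap A B)) (B ⧸ Q) := by
  have hinj : Function.Injective (algebraMap B L) := IsIntegralClosure.algebraMap_injective B A L
  have hN : IsNoetherianRing B := noeth A hdim K L B hinj
  have hint : Algebra.IsIntegral A B := IsIntegralClosure.isIntegral_algebra A L
  have hK1 : Ring.KrullDimLE 1 A := Ring.krullDimLE_iff.2 (by rw [hdim]; rfl)
  have hD1 : Ring.DimensionLEOne A := ⟨fun hp hprime => hprime.isMaximal_of_ne_bot hp⟩
  have hAL : Function.Injective (algebraMap A L) := by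
    rw [IsScalarTower.algebraMap_eq A K L]
    exact (algebraMap K L).injective.comp (IsFractionRing.injective A K)
  have hAB : Function.Injective (algebraMap A B) := by
    have h2 : algebraMap A L = (algebraMap B L).comp (algebraMap A B) := IsScalarTower.algebraMap_eq A B L
    rw [h2] at hAL
    exact Function.Injective.of_comp hAL
  have hfs : FaithfulSMul A B := (faithfulSMul_iff_algebraMap_injective A B).2 hAB
  have hfr : IsFractionRing B L := IsIntegralClosure.isFractionRing_of_finite_extension A K L B
  have hnotfield : ¬ IsField A := by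
    intro hf
    have := ringKrullDim_eq_zero_of_isField hf
    rw [hdim] at this
    exact one_ne_zero this
  have key := primes_containing A hdim K L B hinj
  refine ⟨?_, Algebra.IsIntegral.comap_surjective A B, ?_, ?_⟩
  · exact { hN, Ring.DimensionLEOne.of_isIntegral A B,
      (isIntegrallyClosed_iff L).mpr fun {x} hx =>
        ⟨IsIntegralClosure.mk' B x (isIntegral_trans (R := A) _ hx),
          IsIntegralClosure.algebraMap_mk' _ _ _⟩ with : IsDedekindDomain B }
  · intro p
    by_cases hp : p.asIdeal = ⊥
    · refine (Set.finite_singleton (⟨⊥, Ideal.isPrime_bot⟩ : PrimeSpectrum B)).subset ?_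
      intro Q hQ
      rw [Set.mem_preimage, Set.mem_singleton_iff] at hQ
      have h1 : Q.asIdeal.comap (algebraMap A B) = ⊥ := by
        rw [← hp, ← hQ]; rfl
      have h2 : Q.asIdeal = ⊥ := Ideal.eq_bot_of_comap_eq_bot h1
      rw [Set.mem_singleton_iff]
      exact PrimeSpectrum.ext h2
    · obtain ⟨x, hxp, hx0⟩ := Submodule.exists_mem_ne_zero_of_ne_bot hp
      obtain ⟨-, hfin, -⟩ := key x hx0
      have := hfin.preimage (f := PrimeSpectrum.asIdeal) (fun a _ b _ h => PrimeSpectrum.ext h)
      refine this.subset ?_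
      intro Q hQ
      rw [Set.mem_preimage, Set.mem_singleton_iff] at hQ
      refine ⟨Q.isPrime, ?_⟩
      have : x ∈ (PrimeSpectrum.comap (algebraMap A B) Q).asIdeal := by rw [hQ]; exact hxp
      exact this
  · intro Q hQ
    have hQ0 : Q ≠ ⊥ := by
      intro h
      have hBf : IsField B := by
        rw [h] at hQ
        exact Ring.isField_iff_maximal_bot.2 hQ
      exact hnotfield (isField_of_isIntegral_of_isField hAB hBf)
    obtain ⟨b, hbQ, hb0⟩ := Submodule.exists_mem_ne_zero_of_ne_bot hQ0
    have halg : IsAlgebraic A b := Algebra.IsAlgebraic.isAlgebraic b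
    obtain ⟨x, hx0, c, hc⟩ := halg.exists_nonzero_dvd (mem_nonZeroDivisors_of_ne_zero hb0)
    have hxQ : algebraMap A B x ∈ Q := by rw [hc]; exact Q.mul_mem_right c hbQ
    obtain ⟨-, -, hfinm⟩ := key x hx0
    have := hfinm Q hxQ
    exact Module.Finite.of_restrictScalars_finite A (A ⧸ Q.comap (algebraMap A B)) (B ⧸ Q)

open IsDedekindDomain in
theorem exists_nonzero_mem (R : Type u) [CommRing R]
    [IsDomain R] (K L : Type u) [Field K] [Field L]
    [Algebra R K] [IsFractionRing R K] [Algebra K L] [FiniteDimensional K L] [Algebra R L]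
    [IsScalarTower R K L] (A : Type u) [CommRing A] [Algebra R A] [Algebra A L]
    [IsScalarTower R A L] (hA : Function.Injective (algebraMap A L)) (I : Ideal A) (hI : I ≠ ⊥) :
    ∃ x : R, x ≠ 0 ∧ algebraMap R A x ∈ I := by
  have hdom : IsDomain A := hA.isDomain (algebraMap A L)
  have halgKL : Algebra.IsAlgebraic K L := Algebra.IsAlgebraic.of_finite K L
  have halgRL : Algebra.IsAlgebraic R L := (IsFractionRing.comap_isAlgebraic_iff (A := R) (K := K) (C := L)).2 halgKL
  obtain ⟨a, haI, ha0⟩ := Submodule.exists_mem_ne_zero_of_ne_bot hI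
  have halg : IsAlgebraic R a := by
    have h1 : IsAlgebraic R (IsScalarTower.toAlgHom R A L a) := Algebra.IsAlgebraic.isAlgebraic _
    exact (isAlgebraic_algHom_iff (IsScalarTower.toAlgHom R A L) hA).1 h1
  obtain ⟨x, hx0, c, hc⟩ := halg.exists_nonzero_dvd (mem_nonZeroDivisors_of_ne_zero ha0)
  exact ⟨x, hx0, by rw [hc]; exact I.mul_mem_right c haI⟩

open IsDedekindDomain in
theorem dvr_iff (K : Type u) [Field K]
    (A : Subring K) [IsFractionRing A K] (B : Subring K) [IsFractionRing B K] [IsNoetherianRing A] (hdim : ringKrullDim A = 1) :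
    A ⊔ B ≠ ⊤ ↔ ∃ O : ValuationSubring K, IsDiscreteValuationRing O ∧ A ≤ O.toSubring ∧ B ≤ O.toSubring := by
  constructor
  · intro hne
    set C : Subring K := A ⊔ B with hC
    have hAC : A ≤ C := le_sup_left
    have hBC : B ≤ C := le_sup_right
    let algAC : Algebra A C := (Subring.inclusion hAC).toAlgebra
    have tower : IsScalarTower A C K := IsScalarTower.of_algebraMap_eq (fun x => rfl)
    have hinj : Function.Injective (algebraMap C K) := Subtype.val_injective
    have hN : IsNoetherianRing C := noeth A hdim K K C hinj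
    -- fraction ring
    have hfrac : IsFractionRing C K := by
      apply IsFractionRing.of_field
      intro z
      obtain ⟨a, s, hs, rfl⟩ := IsFractionRing.div_surjective (A := A) z
      exact ⟨⟨a.1, hAC a.2⟩, ⟨s.1, hAC s.2⟩, rfl⟩
    -- not a field
    have hCnf : ¬ IsField C := by
      intro hf
      apply hne
      rw [eq_top_iff]
      intro k _
      obtain ⟨a, s, hs, rfl⟩ := IsFractionRing.div_surjective (A := C) k
      have hs0 : s ≠ 0 := nonZeroDivisors.ne_zero hs
      obtain ⟨t, ht⟩ := hf.mul_inv_cancel hs0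
      have ht' : (s : K) * (t : K) = 1 := by
        have := congrArg Subtype.val ht
        simpa using this
      have hs0' : (s : K) ≠ 0 := fun h => hs0 (Subtype.ext h)
      have : (algebraMap C K a) / (algebraMap C K s) = (a * t : C) := by
        change (a : K) / (s : K) = (a : K) * (t : K)
        rw [div_eq_iff hs0', mul_assoc, mul_comm (t : K), ht', mul_one]
      rw [this]
      exact (a * t).2
    -- dimension one
    have hdimC : ringKrullDim C = 1 := by
      apply le_antisymm
      · have : Ring.KrullDimLE 1 C := by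
          apply Ring.KrullDimLE.mk₁'
          intro n hn0 hnp
          obtain ⟨x, hx0, hxn⟩ := exists_nonzero_mem A K K C hinj n hn0
          exact (primes_containing A hdim K K C hinj x hx0).1 n hnp hxn
        exact Ring.krullDimLE_iff.1 this
      · obtain ⟨m, hm⟩ := Ideal.exists_maximal C
        have hm0 : m ≠ ⊥ := by
          intro h
          rw [h] at hm
          exact hCnf (Ring.isField_iff_maximal_bot.2 hm)
        apply Order.one_le_krullDim_iff.2
        refine ⟨⟨⊥, Ideal.isPrime_bot⟩, ⟨m, hm.isPrime⟩, ?_⟩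
        exact (PrimeSpectrum.asIdeal_lt_asIdeal _ _).1 (bot_lt_iff_ne_bot.2 hm0)
    -- integral closure
    obtain ⟨hDed, -, -, -⟩ := dedekind_main C K K (integralClosure C K) hdimC
    have hfrac' : IsFractionRing (integralClosure C K) K :=
      IsIntegralClosure.isFractionRing_of_finite_extension C K K (integralClosure C K)
    have hC'nf : ¬ IsField (integralClosure C K) := by
      intro hf
      have hinjCC' : Function.Injective (algebraMap C (integralClosure C K)) := by
        intro a b hab
        apply hinj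
        have := congrArg Subtype.val hab
        exact this
      exact hCnf (isField_of_isIntegral_of_isField hinjCC' hf)
    obtain ⟨m, hm⟩ := Ideal.exists_maximal (integralClosure C K)
    have hm0 : m ≠ ⊥ := by
      intro h
      rw [h] at hm
      exact hC'nf (Ring.isField_iff_maximal_bot.2 hm)
    let v : HeightOneSpectrum (integralClosure C K) := ⟨m, hm.isPrime, hm0⟩
    refine ⟨(v.valuation K).valuationSubring, inferInstance, ?_, ?_⟩
    · intro a ha
      have hmem : a ∈ integralClosure C K := (integralClosure C K).algebraMap_mem ⟨a, hAC ha⟩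
      exact v.valuation_le_one ⟨a, hmem⟩
    · intro b hb
      have hmem : b ∈ integralClosure C K := (integralClosure C K).algebraMap_mem ⟨b, hBC hb⟩
      exact v.valuation_le_one ⟨b, hmem⟩
  · rintro ⟨O, hO, hAO, hBO⟩ htop
    have hle : A ⊔ B ≤ O.toSubring := sup_le hAO hBO
    rw [htop] at hle
    have hall : ∀ k : K, k ∈ O := fun k => hle (Subring.mem_top k)
    apply IsDiscreteValuationRing.not_isField O
    refine ⟨⟨0, 1, zero_ne_one⟩, mul_comm, ?_⟩
    intro a ha
    refine ⟨⟨(a : K)⁻¹, hall _⟩, ?_⟩
    apply Subtype.ext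
    have ha' : (a : K) ≠ 0 := fun h => ha (Subtype.ext h)
    change (a : K) * (a : K)⁻¹ = 1
    exact mul_inv_cancel₀ ha'

end Groth.Agent.Lib.Helper4.KA
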