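import Mathlib
import Groth.Prelude.Def_Pi1
import Groth.Prelude.Def_Curv2

/-!
# Normalization of an integral scheme in a field: integrality, normality, surjectivity, generic points (helper4)
-/

set_option backward.isDefEq.respectTransparency.types false
set_option synthInstance.maxHeartbeats 400000
set_option autoImplicit false
set_option linter.unusedSectionVars false
set_option linter.style.haveILetI false
set_option linter.unusedSimpArgs false
universe u v w
open CategoryTheory CategoryTheory.Limits AlgebraicGeometry TopologicalSpace IsLocalRing

namespace Groth.Agent.Lib.Helper4.NormalizationField1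

/-- A domain integrally closed in a field containing it is integrally closed. -/
theorem isIntegrallyClosed_of_isIntegrallyClosedIn_field (B L : Type*) [CommRing B] [IsDomain B]
    [Field L] [Algebra B L] [IsIntegrallyClosedIn B L] : IsIntegrallyClosed B := by
  have hinj : Function.Injective (algebraMap B L) :=
    (isIntegrallyClosedIn_iff.mp (inferInstance : IsIntegrallyClosedIn B L)).1
  haveI : FaithfulSMul B L := (faithfulSMul_iff_algebraMap_injective B L).mpr hinj
  rw [isIntegrallyClosed_iff (FractionRing B)]
  intro x hx
  let ψ : FractionRing B →ₐ[B] L := IsFractionRing.liftAlgHom (g := Algebra.ofId B L) hinj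
  have hx' : IsIntegral B (ψ x) := hx.map ψ
  obtain ⟨y, hy⟩ := (isIntegrallyClosedIn_iff.mp (inferInstance : IsIntegrallyClosedIn B L)).2 hx'
  refine ⟨y, ?_⟩
  apply (ψ : FractionRing B →+* L).injective
  show ψ (algebraMap B (FractionRing B) y) = ψ x
  rw [ψ.commutes, hy]



/-- Sections of the relative normalization over the preimage of an affine open whose preimage in
the source has a field of sections form an integrally closed domain. -/
theorem sections_normalization_of_isField {T X : Scheme.{u}} (g : T ⟶ X) [QuasiCompact g]
    [QuasiSeparated g] {U : X.Opens} (hU : IsAffineOpen U) (hF : IsField Γ(T, g ⁻¹ᵁ U)) :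
    ∃ _ : IsDomain Γ(g.normalization, g.fromNormalization ⁻¹ᵁ U),
      IsIntegrallyClosed Γ(g.normalization, g.fromNormalization ⁻¹ᵁ U) := by
  letI alg : Algebra Γ(X, U) Γ(T, g ⁻¹ᵁ U) := (g.app U).hom.toAlgebra
  letI fld : Field Γ(T, g ⁻¹ᵁ U) := hF.toField
  let B := integralClosure Γ(X, U) Γ(T, g ⁻¹ᵁ U)
  haveI : IsDomain B := inferInstance
  haveI : IsIntegrallyClosedIn B Γ(T, g ⁻¹ᵁ U) := inferInstance
  haveI hB : IsIntegrallyClosed B :=
    isIntegrallyClosed_of_isIntegrallyClosedIn_field B Γ(T, g ⁻¹ᵁ U)
  let e : Γ(g.normalization, g.fromNormalization ⁻¹ᵁ U) ≃+* B :=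
    (g.normalizationObjIso hU).commRingCatIsoToRingEquiv
  haveI hdom : IsDomain Γ(g.normalization, g.fromNormalization ⁻¹ᵁ U) :=
    e.injective.isDomain e.toRingHom
  exact ⟨hdom, IsIntegrallyClosed.of_equiv e.symm⟩



theorem subsingleton_Spec_of_isField (L : CommRingCat.{u}) (hL : IsField L) :
    Subsingleton (Spec L) := by
  letI := hL.toField
  exact (inferInstance : Subsingleton (PrimeSpectrum L))

theorem isField_sections_Spec (L : CommRingCat.{u}) (hL : IsField L) (V : (Spec L).Opens)
    (hV : (V : Set (Spec L)).Nonempty) : IsField Γ(Spec L, V) := by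
  haveI := subsingleton_Spec_of_isField L hL
  have hVtop : V = ⊤ := by
    obtain ⟨v, hv⟩ := hV
    ext t
    simp only [Opens.coe_top, Set.mem_univ, iff_true]
    rw [Subsingleton.elim t v]; exact hv
  subst hVtop
  exact MulEquiv.isField hL (Scheme.ΓSpecIso L).commRingCatIsoToRingEquiv.toMulEquiv



theorem isIntegral_normalization_of_isField (L : CommRingCat.{u}) (hL : IsField L)
    {X : Scheme.{u}} (g : Spec L ⟶ X) [QuasiCompact g] [QuasiSeparated g] :
    IsIntegral g.normalization := by
  haveI : IsDomain L := hL.isDomain
  infer_instance

/-- The normalization of an integral scheme in a field over its generic point is normal. -/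
theorem isNormalScheme_normalization_of_isField (L : CommRingCat.{u}) (hL : IsField L)
    {X : Scheme.{u}} (g : Spec L ⟶ X) [QuasiCompact g] [QuasiSeparated g]
    (hg : ∀ t, ∀ U : X.Opens, (U : Set X).Nonempty → g t ∈ U) :
    Pi1.IsNormalScheme g.normalization := by
  haveI := isIntegral_normalization_of_isField L hL g
  haveI : IsDomain L := hL.isDomain
  intro x'
  refine ⟨inferInstance, ?_⟩
  obtain ⟨U, hU, hxU, -⟩ := Opens.isBasis_iff_nbhd.mp X.isBasis_affineOpens
    (show g.fromNormalization x' ∈ (⊤ : X.Opens) from trivial)
  have hne : ((g ⁻¹ᵁ U : (Spec L).Opens) : Set (Spec L)).Nonempty := by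
    haveI : Nonempty (Spec L) := inferInstance
    obtain ⟨t⟩ := (inferInstance : Nonempty (Spec L))
    exact ⟨t, hg t U ⟨_, hxU⟩⟩
  obtain ⟨hdom, hic⟩ := sections_normalization_of_isField g hU (isField_sections_Spec L hL _ hne)
  have hW : IsAffineOpen (g.fromNormalization ⁻¹ᵁ U) := hU.preimage g.fromNormalization
  have hx'W : x' ∈ g.fromNormalization ⁻¹ᵁ U := hxU
  letI algN := g.normalization.presheaf.algebra_section_stalk
    (U := g.fromNormalization ⁻¹ᵁ U) ⟨x', hx'W⟩
  haveI hloc : IsLocalization.AtPrime (g.normalization.presheaf.stalk x')
      (hW.primeIdealOf ⟨x', hx'W⟩).asIdeal := hW.isLocalization_stalk ⟨x', hx'W⟩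
  exact isIntegrallyClosed_of_isLocalization (g.normalization.presheaf.stalk x')
    (hW.primeIdealOf ⟨x', hx'W⟩).asIdeal.primeCompl
    (Ideal.primeCompl_le_nonZeroDivisors _)



/-- The image of the point under `toNormalization` is the generic point. -/
theorem toNormalization_eq_genericPoint (L : CommRingCat.{u}) (hL : IsField L)
    {X : Scheme.{u}} (g : Spec L ⟶ X) [QuasiCompact g] [QuasiSeparated g] (t : Spec L) :
    haveI := isIntegral_normalization_of_isField L hL g
    g.toNormalization t = genericPoint g.normalization := by
  haveI := isIntegral_normalization_of_isField L hL g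
  haveI := subsingleton_Spec_of_isField L hL
  have hd : DenseRange g.toNormalization := g.toNormalization.denseRange
  have hrange : Set.range g.toNormalization = {g.toNormalization t} := by
    ext z
    constructor
    · rintro ⟨t', rfl⟩
      rw [Subsingleton.elim t' t]; rfl
    · rintro rfl
      exact ⟨t, rfl⟩
  have hgen : IsGenericPoint (g.toNormalization t) (Set.univ : Set g.normalization) := by
    show closure {g.toNormalization t} = Set.univ
    rw [← hrange]; exact hd.closure_range
  exact ((genericPoint_spec g.normalization).eq hgen).symm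

theorem surjective_fromNormalization (L : CommRingCat.{u}) (hL : IsField L)
    {X : Scheme.{u}} [IsIntegral X] (g : Spec L ⟶ X) [QuasiCompact g] [QuasiSeparated g]
    (hg : ∀ t, g t = genericPoint X) :
    Surjective g.fromNormalization := by
  haveI : IsDomain L := hL.isDomain
  obtain ⟨t⟩ := (inferInstance : Nonempty (Spec L))
  have hcl : IsClosed (Set.range g.fromNormalization) :=
    g.fromNormalization.isClosedMap.isClosed_range
  have hmem : genericPoint X ∈ Set.range g.fromNormalization := by
    refine ⟨g.toNormalization t, ?_⟩
    rw [← Scheme.Hom.comp_apply, Scheme.Hom.toNormalization_fromNormalization, hg]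
  have : closure {genericPoint X} ⊆ Set.range g.fromNormalization :=
    hcl.closure_subset_iff.mpr (Set.singleton_subset_iff.mpr hmem)
  rw [(genericPoint_spec X).def] at this
  exact ⟨fun x => this (Set.mem_univ x)⟩

theorem fromNormalization_genericPoint (L : CommRingCat.{u}) (hL : IsField L)
    {X : Scheme.{u}} [IsIntegral X] (g : Spec L ⟶ X) [QuasiCompact g] [QuasiSeparated g]
    (hg : ∀ t, g t = genericPoint X) :
    haveI := isIntegral_normalization_of_isField L hL g
    g.fromNormalization (genericPoint g.normalization) = genericPoint X := by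
  haveI := isIntegral_normalization_of_isField L hL g
  haveI : IsDomain L := hL.isDomain
  obtain ⟨t⟩ := (inferInstance : Nonempty (Spec L))
  rw [← toNormalization_eq_genericPoint L hL g t, ← Scheme.Hom.comp_apply,
    Scheme.Hom.toNormalization_fromNormalization, hg]



theorem bijective_stalkMap_congr_hom {X Y : Scheme.{u}} (h g : X ⟶ Y) (e : h = g) (t : X)
    (hb : Function.Bijective (g.stalkMap t).hom) : Function.Bijective (h.stalkMap t).hom := by
  subst e; exact hb

theorem bijective_stalkMap_congr_pt {X Y : Scheme.{u}} (f : X ⟶ Y) (x₁ x₂ : X) (e : x₁ = x₂)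
    (hb : Function.Bijective (f.stalkMap x₁).hom) : Function.Bijective (f.stalkMap x₂).hom := by
  subst e; exact hb

theorem bijective_residueFieldMap_of_bijective_stalkMap {X Y : Scheme.{u}} (f : X ⟶ Y) (x : X)
    (hb : Function.Bijective (f.stalkMap x).hom) :
    Function.Bijective (f.residueFieldMap x).hom := by
  refine ⟨(f.residueFieldMap x).hom.injective, ?_⟩
  intro z
  obtain ⟨s, rfl⟩ := IsLocalRing.residue_surjective z
  obtain ⟨r, rfl⟩ := hb.2 s
  refine ⟨IsLocalRing.residue _ r, ?_⟩
  exact congrArg (fun φ => φ.hom r) (Scheme.residue_residueFieldMap f x)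

/-- If the stalk map of `g` at the point is bijective, so is the stalk map of the normalization
morphism at the generic point. -/
theorem bijective_stalkMap_fromNormalization (L : CommRingCat.{u}) (hL : IsField L)
    {X : Scheme.{u}} [IsIntegral X] (g : Spec L ⟶ X) [QuasiCompact g] [QuasiSeparated g]
    (t : Spec L) (hbij : Function.Bijective (g.stalkMap t).hom) :
    haveI := isIntegral_normalization_of_isField L hL g
    Function.Bijective (g.fromNormalization.stalkMap (genericPoint g.normalization)).hom := by
  haveI := isIntegral_normalization_of_isField L hL g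
  have hιt := toNormalization_eq_genericPoint L hL g t
  refine bijective_stalkMap_congr_pt g.fromNormalization _ _ hιt ?_
  have h1 : Function.Bijective ((g.toNormalization ≫ g.fromNormalization).stalkMap t).hom :=
    bijective_stalkMap_congr_hom _ g g.toNormalization_fromNormalization t hbij
  have h1' : Function.Bijective ((g.toNormalization.stalkMap t).hom ∘
      (g.fromNormalization.stalkMap (g.toNormalization t)).hom) := by
    rw [Scheme.Hom.stalkMap_comp] at h1
    exact h1
  -- the stalk at the generic point is a field
  have hF : IsField (g.normalization.presheaf.stalk (g.toNormalization t)) := by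
    apply isField_stalk_of_closure_mem_irreducibleComponents
    rw [hιt, irreducibleComponents_eq_singleton, Set.mem_singleton_iff]
    exact (genericPoint_spec g.normalization).def
  letI := hF.toField
  have hinj : Function.Injective (g.toNormalization.stalkMap t).hom :=
    (g.toNormalization.stalkMap t).hom.injective
  have hb2 : Function.Bijective (g.toNormalization.stalkMap t).hom :=
    ⟨hinj, Function.Surjective.of_comp h1'.2⟩
  exact (Function.Bijective.of_comp_iff' hb2 _).mp h1'



theorem isField_functionField (X : Scheme.{u}) [IsIntegral X] :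
    IsField (X.presheaf.stalk (genericPoint X)) :=
  (inferInstance : Field X.functionField).toIsField

theorem fromSpecStalk_genericPoint_apply (X : Scheme.{u}) [IsIntegral X]
    (t : Spec (X.presheaf.stalk (genericPoint X))) :
    X.fromSpecStalk (genericPoint X) t = genericPoint X := by
  haveI := subsingleton_Spec_of_isField _ (isField_functionField X)
  rw [Subsingleton.elim t (closedPoint _), Scheme.fromSpecStalk_closedPoint]

theorem bijective_stalkMap_fromSpecStalk_closedPoint (X : Scheme.{u}) (x : X) :
    Function.Bijective ((X.fromSpecStalk x).stalkMap (closedPoint (X.presheaf.stalk x))).hom := by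
  have h1 : Scheme.stalkClosedPointTo (X.fromSpecStalk x) =
      (X.fromSpecStalk x).stalkMap (closedPoint _) ≫ (stalkClosedPointIso _).hom := rfl
  have h2 : IsIso (Scheme.stalkClosedPointTo (X.fromSpecStalk x)) := by
    rw [Scheme.stalkClosedPointTo_fromSpecStalk]; infer_instance
  have h3 : IsIso ((X.fromSpecStalk x).stalkMap (closedPoint _)) := by
    rw [h1] at h2
    exact IsIso.of_isIso_comp_right _ (stalkClosedPointIso _).hom
  exact (ConcreteCategory.isIso_iff_bijective _).mp h3

theorem S2351_main (X : Scheme.{u}) [IsIntegral X]
    [QuasiCompact (X.fromSpecStalk (genericPoint X))]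
    [QuasiSeparated (X.fromSpecStalk (genericPoint X))] :
    ∃ (_ : IsIntegral (Curv2.normalization X)), Pi1.IsNormalScheme (Curv2.normalization X) ∧
      Surjective (Curv2.normalizationι X) ∧
      ∃ hgen : (Curv2.normalizationι X).base (genericPoint (Curv2.normalization X)) =
        genericPoint X,
        Function.Bijective ((Curv2.normalizationι X).residueFieldMap
          (genericPoint (Curv2.normalization X))).hom := by
  have hL := isField_functionField X
  have hg := fromSpecStalk_genericPoint_apply X
  have hint := isIntegral_normalization_of_isField _ hL (X.fromSpecStalk (genericPoint X))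
  refine ⟨hint, ?_, ?_, ?_, ?_⟩
  · refine isNormalScheme_normalization_of_isField _ hL _ ?_
    intro t U hU
    rw [hg]
    exact ((genericPoint_spec X).mem_open_set_iff U.isOpen).mpr (by simpa using hU)
  · exact surjective_fromNormalization _ hL _ hg
  · exact fromNormalization_genericPoint _ hL _ hg
  · apply bijective_residueFieldMap_of_bijective_stalkMap
    exact bijective_stalkMap_fromNormalization _ hL _ _
      (bijective_stalkMap_fromSpecStalk_closedPoint X (genericPoint X))


end Groth.Agent.Lib.Helper4.NormalizationField1
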