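import Mathlib
import Groth.Agent.Lib.Helper4.ZMTBirational

/-!
# Zariski's main theorem near a normal point: birational separated lft morphisms are isos near quasi-finite points over normal points (helper4)
-/

set_option backward.isDefEq.respectTransparency.types false
set_option synthInstance.maxHeartbeats 400000
set_option autoImplicit false
set_option linter.unusedSectionVars false
set_option linter.style.haveILetI false
set_option linter.unusedSimpArgs false
universe u v w
open CategoryTheory CategoryTheory.Limits AlgebraicGeometry TopologicalSpace IsLocalRing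
open Groth.Agent.Lib.Helper4.LocalIso Groth.Agent.Lib.Helper4.LocalIso2
open Groth.Agent.Lib.Helper4.ZMTBirational

namespace Groth.Agent.Lib.Helper4.ZMTNormalPt1

/-- Fraction ring structure on the stalk at a point equal to the generic point. -/
theorem isFractionRing_stalkSpecializes {Y : Scheme.{u}} [IsIntegral Y] (y₀ y : Y)
    (hy₀ : y₀ = genericPoint Y) (h : y₀ ⤳ y) :
    letI := (Y.presheaf.stalkSpecializes h).hom.toAlgebra
    IsFractionRing (Y.presheaf.stalk y) (Y.presheaf.stalk y₀) := by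
  subst hy₀
  exact (inferInstance : IsFractionRing (Y.presheaf.stalk y) Y.functionField)

theorem stalkSpecializes_injective {X : Scheme.{u}} [IsIntegral X] (x : X)
    (h : genericPoint X ⤳ x) :
    Function.Injective (X.presheaf.stalkSpecializes h).hom :=
  IsFractionRing.injective (X.presheaf.stalk x) X.functionField



/-- An integral section has germ in the range of the stalk map. -/
theorem germ_mem_range_of_isIntegral {X Y : Scheme.{u}} [IsIntegral X] [IsIntegral Y]
    (f : X ⟶ Y)
    (hgen : f (genericPoint X) = genericPoint Y) (hbir : IsIso (f.stalkMap (genericPoint X)))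
    (x : X) (hy : IsIntegrallyClosed (Y.presheaf.stalk (f x)))
    {V : Y.Opens} {U : X.Opens} (hxU : x ∈ U) (hUV : U ≤ f ⁻¹ᵁ V)
    (b : Γ(X, U)) (hb : (f.appLE V U hUV).hom.IsIntegralElem b) :
    ∃ a : Y.presheaf.stalk (f x), (f.stalkMap x).hom a = (X.presheaf.germ U x hxU).hom b := by
  have hspX : genericPoint X ⤳ x := (genericPoint_spec X).specializes trivial
  have hspY : f (genericPoint X) ⤳ f x := f.base.hom.map_specializes hspX
  letI alg := (Y.presheaf.stalkSpecializes hspY).hom.toAlgebra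
  haveI : IsFractionRing (Y.presheaf.stalk (f x)) (Y.presheaf.stalk (f (genericPoint X))) :=
    isFractionRing_stalkSpecializes _ _ hgen hspY
  have hbij : Function.Bijective (f.stalkMap (genericPoint X)).hom :=
    (ConcreteCategory.isIso_iff_bijective _).mp hbir
  refine exists_of_isIntegral_of_birational (f.stalkMap x).hom
    (X.presheaf.stalkSpecializes hspX).hom (stalkSpecializes_injective x hspX)
    (f.stalkMap (genericPoint X)).hom hbij ?_ _ ?_
  · intro a
    exact Scheme.Hom.stalkSpecializes_stalkMap_apply f _ _ hspX a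
  · obtain ⟨p, hp, hpb⟩ := hb
    refine ⟨p.map (Y.presheaf.germ V (f x) (hUV hxU)).hom, hp.map _, ?_⟩
    rw [Polynomial.eval₂_map]
    have hcomp : (f.stalkMap x).hom.comp (Y.presheaf.germ V (f x) (hUV hxU)).hom =
        (X.presheaf.germ U x hxU).hom.comp (f.appLE V U hUV).hom := by
      ext a
      exact stalk_compat f x hxU hUV a
    rw [hcomp, ← Polynomial.hom_eval₂, hpb, map_zero]



theorem stalkMap_injective_of_birational {X Y : Scheme.{u}} [IsIntegral X] [IsIntegral Y]
    (f : X ⟶ Y)
    (hgen : f (genericPoint X) = genericPoint Y) (hbir : IsIso (f.stalkMap (genericPoint X)))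
    (x : X) : Function.Injective (f.stalkMap x).hom := by
  have hspX : genericPoint X ⤳ x := (genericPoint_spec X).specializes trivial
  have hspY : f (genericPoint X) ⤳ f x := f.base.hom.map_specializes hspX
  letI alg := (Y.presheaf.stalkSpecializes hspY).hom.toAlgebra
  haveI : IsFractionRing (Y.presheaf.stalk (f x)) (Y.presheaf.stalk (f (genericPoint X))) :=
    isFractionRing_stalkSpecializes _ _ hgen hspY
  have hbij : Function.Bijective (f.stalkMap (genericPoint X)).hom :=
    (ConcreteCategory.isIso_iff_bijective _).mp hbir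
  have hinj0 : Function.Injective (Y.presheaf.stalkSpecializes hspY).hom :=
    IsFractionRing.injective (Y.presheaf.stalk (f x)) (Y.presheaf.stalk (f (genericPoint X)))
  intro a a' haa'
  apply hinj0
  apply hbij.1
  have h1 := Scheme.Hom.stalkSpecializes_stalkMap_apply f _ _ hspX a
  have h2 := Scheme.Hom.stalkSpecializes_stalkMap_apply f _ _ hspX a'
  exact h1.trans ((congrArg _ haa').trans h2.symm)

/-- Zariski's main theorem, local form: the stalk map at a quasi-finite point over a normal point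
of a birational morphism of integral schemes is an isomorphism. -/
theorem isIso_stalkMap_of_quasiFiniteAt {X Y : Scheme.{u}} [IsIntegral X] [IsIntegral Y]
    (f : X ⟶ Y) [LocallyOfFiniteType f]
    (hgen : f (genericPoint X) = genericPoint Y) (hbir : IsIso (f.stalkMap (genericPoint X)))
    (x : X) (hy : IsIntegrallyClosed (Y.presheaf.stalk (f x))) (hq : f.QuasiFiniteAt x) :
    IsIso (f.stalkMap x) := by
  obtain ⟨V, hV, hfxV, -⟩ := Opens.isBasis_iff_nbhd.mp Y.isBasis_affineOpens
    (show f x ∈ (⊤ : Y.Opens) from trivial)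
  obtain ⟨U, hU, hxU, hUV⟩ := Opens.isBasis_iff_nbhd.mp X.isBasis_affineOpens
    (show x ∈ f ⁻¹ᵁ V from hfxV)
  let φ := f.appLE V U hUV
  letI algAB : Algebra Γ(Y, V) Γ(X, U) := φ.hom.toAlgebra
  have hft : Algebra.FiniteType Γ(Y, V) Γ(X, U) := f.finiteType_appLE hV hU hUV
  let q := hU.primeIdealOf ⟨x, hxU⟩
  have hqf : Algebra.QuasiFiniteAt Γ(Y, V) q.asIdeal := hq.quasiFiniteAt hU hV hUV hxU
  obtain ⟨r, hrq, hrint, hr⟩ := Algebra.zariskisMainProperty_iff.mp
    (Algebra.ZariskisMainProperty.of_finiteType (R := Γ(Y, V)) q.asIdeal)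
  letI algX := X.presheaf.algebra_section_stalk (U := U) ⟨x, hxU⟩
  have hlocX : IsLocalization.AtPrime (X.presheaf.stalk x) q.asIdeal :=
    hU.isLocalization_stalk ⟨x, hxU⟩
  have hgermalg : ∀ b : Γ(X, U), (X.presheaf.germ U x hxU).hom b =
      algebraMap Γ(X, U) (X.presheaf.stalk x) b := fun b => rfl
  -- integral sections have germs in the range
  have hI : ∀ b : Γ(X, U), IsIntegral Γ(Y, V) b →
      ∃ a : Y.presheaf.stalk (f x), (f.stalkMap x).hom a = (X.presheaf.germ U x hxU).hom b :=
    fun b hb => germ_mem_range_of_isIntegral f hgen hbir x hy hxU hUV b hb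
  -- the germ of r is the image of a unit
  obtain ⟨ar, har⟩ := hI r hrint
  have hrunit : IsUnit ((X.presheaf.germ U x hxU).hom r) := by
    rw [hgermalg]
    exact (IsLocalization.AtPrime.isUnit_to_map_iff (X.presheaf.stalk x) q.asIdeal r).mpr hrq
  have harunit : IsUnit ar := by
    rw [← har] at hrunit
    exact (isUnit_map_iff (f.stalkMap x).hom ar).mp hrunit
  -- all sections have germs in the range
  have hall : ∀ b : Γ(X, U),
      ∃ a : Y.presheaf.stalk (f x), (f.stalkMap x).hom a = (X.presheaf.germ U x hxU).hom b := by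
    intro b
    obtain ⟨m, hm⟩ := hr b
    obtain ⟨c, hc⟩ := hI _ hm
    obtain ⟨ar', har'⟩ := harunit
    refine ⟨c * ((ar'⁻¹ : (Y.presheaf.stalk (f x))ˣ) : Y.presheaf.stalk (f x)) ^ m, ?_⟩
    rw [map_mul, hc, map_mul, map_pow, map_pow, ← har, ← har', mul_comm _ ((X.presheaf.germ U x hxU).hom b),
      mul_assoc, ← mul_pow, ← map_mul, Units.mul_inv, map_one, one_pow, mul_one]
  have hsurj : Function.Surjective (f.stalkMap x).hom := by
    intro s
    obtain ⟨⟨b, t⟩, rfl⟩ := IsLocalization.mk'_surjective q.asIdeal.primeCompl s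
    obtain ⟨ab, hab⟩ := hall b
    obtain ⟨at', hat⟩ := hall t.1
    have htunit : IsUnit ((X.presheaf.germ U x hxU).hom t.1) := by
      rw [hgermalg]
      exact (IsLocalization.AtPrime.isUnit_to_map_iff (X.presheaf.stalk x) q.asIdeal t.1).mpr t.2
    have hatunit : IsUnit at' := by
      rw [← hat] at htunit
      exact (isUnit_map_iff (f.stalkMap x).hom at').mp htunit
    obtain ⟨w, hw⟩ := hatunit
    refine ⟨ab * ((w⁻¹ : (Y.presheaf.stalk (f x))ˣ) : Y.presheaf.stalk (f x)), ?_⟩
    rw [IsLocalization.eq_mk'_iff_mul_eq, map_mul, mul_assoc, ← hgermalg, ← hat, ← hw,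
      ← map_mul, Units.inv_mul, map_one, mul_one, hab, hgermalg]
  exact (ConcreteCategory.isIso_iff_bijective _).mpr
    ⟨stalkMap_injective_of_birational f hgen hbir x, hsurj⟩



/-- If `f` is separated, `X` is irreducible and `U.ι ≫ f` is an open immersion for a nonempty
open `U`, then `f` restricts to an isomorphism over the image of `U`. -/
theorem isIso_restrict_of_isOpenImmersion_ι_comp {X Y : Scheme.{u}} [IrreducibleSpace X]
    (f : X ⟶ Y) [IsSeparated f] (U : X.Opens) (x : X) (hxU : x ∈ U)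
    [IsOpenImmersion (U.ι ≫ f)] :
    ∃ V : Y.Opens, f x ∈ V ∧ IsIso (f ∣_ V) := by
  let j := U.ι ≫ f
  let V : Y.Opens := j.opensRange
  have hfxV : f x ∈ V := ⟨⟨x, hxU⟩, rfl⟩
  refine ⟨V, hfxV, ?_⟩
  have hUle : Set.range U.ι ⊆ Set.range (f ⁻¹ᵁ V).ι := by
    rintro _ ⟨z, rfl⟩
    rw [Scheme.Opens.range_ι]
    exact ⟨z, rfl⟩
  let l : U.toScheme ⟶ (f ⁻¹ᵁ V).toScheme := IsOpenImmersion.lift (f ⁻¹ᵁ V).ι U.ι hUle
  have hl : l ≫ (f ⁻¹ᵁ V).ι = U.ι := IsOpenImmersion.lift_fac _ _ _
  let s : V.toScheme ⟶ (f ⁻¹ᵁ V).toScheme := j.isoOpensRange.inv ≫ l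
  have hs : s ≫ (f ∣_ V) = 𝟙 _ := by
    rw [← cancel_mono V.ι]
    simp only [s, Category.assoc, Category.id_comp, morphismRestrict_ι]
    rw [reassoc_of% hl]
    exact j.isoOpensRange_inv_comp
  haveI : IsClosedImmersion (s ≫ (f ∣_ V)) := by rw [hs]; infer_instance
  haveI : IsClosedImmersion s := IsClosedImmersion.of_comp s (f ∣_ V)
  haveI : IsOpenImmersion (l ≫ (f ⁻¹ᵁ V).ι) := by rw [hl]; infer_instance
  haveI : IsOpenImmersion l := IsOpenImmersion.of_comp l (f ⁻¹ᵁ V).ι
  haveI : IsOpenImmersion s := inferInstance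
  have hclopen : IsClopen (Set.range s) :=
    ⟨s.isClosedEmbedding.isClosed_range, s.isOpenEmbedding.isOpen_range⟩
  haveI : Nonempty (f ⁻¹ᵁ V) := ⟨⟨x, hfxV⟩⟩
  haveI : PreconnectedSpace (f ⁻¹ᵁ V) := by
    have : IsPreirreducible ((f ⁻¹ᵁ V : X.Opens) : Set X) :=
      (PreirreducibleSpace.isPreirreducible_univ (X := X)).open_subset (f ⁻¹ᵁ V).isOpen
        (Set.subset_univ _)
    exact Subtype.preconnectedSpace this.isPreconnected
  have hne : (Set.range s).Nonempty := ⟨s ⟨f x, hfxV⟩, ⟨_, rfl⟩⟩
  have huniv : Set.range s = Set.univ := hclopen.eq_univ hne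
  haveI : Surjective s := ⟨Set.range_eq_univ.mp huniv⟩
  haveI : IsIso s := (isIso_iff_isOpenImmersion_and_surjective s).mpr ⟨inferInstance, inferInstance⟩
  have : f ∣_ V = inv s := by
    rw [← cancel_epi s, hs, IsIso.hom_inv_id]
  rw [this]; infer_instance

theorem main {X Y : Scheme.{u}} [IsIntegral X] [IsIntegral Y] (f : X ⟶ Y) [IsSeparated f]
    [LocallyOfFiniteType f]
    (hgen : f (genericPoint X) = genericPoint Y) (hbir : IsIso (f.stalkMap (genericPoint X)))
    (x : X) (hy : IsIntegrallyClosed (Y.presheaf.stalk (f x))) (hq : f.QuasiFiniteAt x) :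
    ∃ U : Y.Opens, f x ∈ U ∧ IsIso (f ∣_ U) := by
  have hiso := isIso_stalkMap_of_quasiFiniteAt f hgen hbir x hy hq
  have hfin : (irreducibleComponents (Y : Type u)).Finite := by
    rw [irreducibleComponents_eq_singleton]; exact Set.finite_singleton _
  obtain ⟨U, hxU, hoi⟩ := S7659_main f hfin x hiso
  exact isIso_restrict_of_isOpenImmersion_ι_comp f U x hxU



theorem isOpen_singleton_transport {X Y : Scheme.{u}} (f : X ⟶ Y) {y y' : Y} (h : y' = y)
    (x : f.fiber y) (x' : f.fiber y') (hxx' : f.fiberι y' x' = f.fiberι y x)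
    (hx : IsOpen ({x} : Set (f.fiber y))) : IsOpen ({x'} : Set (f.fiber y')) := by
  subst h
  have : x' = x := (f.fiberι y').isEmbedding.injective hxx'
  rw [this]; exact hx

theorem quasiFiniteAt_fiberι {X Y : Scheme.{u}} (f : X ⟶ Y) [LocallyOfFiniteType f] (y : Y)
    (x : f.fiber y) (hx : IsOpen ({x} : Set (f.fiber y))) :
    f.QuasiFiniteAt (f.fiberι y x) := by
  rw [Scheme.Hom.quasiFiniteAt_iff_isOpen_singleton_asFiber]
  have hfx : f (f.fiberι y x) = y := by
    have := Scheme.Hom.range_fiberι f y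
    have hmem : f.fiberι y x ∈ Set.range (f.fiberι y) := ⟨x, rfl⟩
    rw [this] at hmem
    exact hmem
  exact isOpen_singleton_transport f hfx x _ (Scheme.Hom.fiberι_asFiber f _) hx

theorem S5094_main {X Y : Scheme.{u}} [IsIntegral X]
    [IsIntegral Y] (f : X ⟶ Y) [IsSeparated f] [LocallyOfFiniteType f]
    (hgen : f (genericPoint X) = genericPoint Y) (hbir : IsIso (f.stalkMap (genericPoint X)))
    (y : ↥Y) (hy : IsIntegrallyClosed ↑(Y.presheaf.stalk y))
    (x : ↥(f.fiber y)) (hx : IsOpen ({x} : Set ↥(f.fiber y))) :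
    ∃ U : Y.Opens, y ∈ U ∧ IsIso (f ∣_ U) := by
  have hfx : f (f.fiberι y x) = y := by
    have := Scheme.Hom.range_fiberι f y
    have hmem : f.fiberι y x ∈ Set.range (f.fiberι y) := ⟨x, rfl⟩
    rw [this] at hmem
    exact hmem
  have hq := quasiFiniteAt_fiberι f y x hx
  have hy' : IsIntegrallyClosed (Y.presheaf.stalk (f (f.fiberι y x))) := by rw [hfx]; exact hy
  obtain ⟨U, hU, hiso⟩ := main f hgen hbir _ hy' hq
  exact ⟨U, hfx ▸ hU, hiso⟩

theorem S1655_main {X Y : Scheme.{u}} [IsIntegral X] [IsIntegral Y]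
    (f : Y ⟶ X) [IsProper f] (W : X.Opens) (hW : (W : Set X).Nonempty) (hfW : IsIso (f ∣_ W))
    (x : X) (hx : IsIntegrallyClosed (X.presheaf.stalk x)) (y : Y) (hy : f.base y = x)
    (hq : f.QuasiFiniteAt y) :
    ∃ V : X.Opens, x ∈ V ∧ IsIso (f ∣_ V) := by
  subst hy
  -- the preimage of W contains the generic point
  obtain ⟨w, hw⟩ := hW
  have hsurjW : Function.Surjective (f ∣_ W) := (f ∣_ W).homeomorph.surjective
  obtain ⟨z, hz⟩ := hsurjW ⟨w, hw⟩
  have hne : ((f ⁻¹ᵁ W : Y.Opens) : Set Y).Nonempty := ⟨z.1, z.2⟩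
  have hηW : genericPoint Y ∈ f ⁻¹ᵁ W :=
    ((genericPoint_spec Y).mem_open_set_iff (f ⁻¹ᵁ W).isOpen).mpr (by simpa using hne)
  -- f is an open immersion on f⁻¹ W
  haveI : IsOpenImmersion ((f ⁻¹ᵁ W).ι ≫ f) := by
    rw [← morphismRestrict_ι]; infer_instance
  have hbir : IsIso (f.stalkMap (genericPoint Y)) :=
    isIso_stalkMap_of_localIso f (genericPoint Y) (f ⁻¹ᵁ W) hηW
  -- the generic point maps to the generic point
  have hgen : f (genericPoint Y) = genericPoint X := by
    have h1 : IsGenericPoint (f (genericPoint Y)) (closure (f '' Set.univ)) :=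
      (genericPoint_spec Y).image f.continuous
    have hWsub : (W : Set X) ⊆ f '' Set.univ := by
      intro w' hw'
      obtain ⟨z', hz'⟩ := hsurjW ⟨w', hw'⟩
      refine ⟨z'.1, trivial, ?_⟩
      have := congrArg Subtype.val hz'
      simpa [morphismRestrict_base] using this
    have hdense : closure (W : Set X) = Set.univ := by
      have : Dense (W : Set X) := W.isOpen.dense ⟨w, hw⟩
      exact this.closure_eq
    have h2 : closure (f '' Set.univ) = Set.univ := by
      apply Set.eq_univ_of_univ_subset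
      rw [← hdense]
      exact closure_mono hWsub
    rw [h2] at h1
    exact (genericPoint_spec X).eq h1 |>.symm
  exact main f hgen hbir y hx hq


end Groth.Agent.Lib.Helper4.ZMTNormalPt1
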