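import Mathlib
import Groth.Agent.Lib.Helper4.NormalizationField1
import Groth.Agent.Lib.Helper4.ZMTNormalPt1

/-!
# Characterizations of the normalization of an integral scheme (integral + birational + normal) (helper4)
-/

set_option backward.isDefEq.respectTransparency.types false
set_option synthInstance.maxHeartbeats 400000
set_option autoImplicit false
set_option linter.unusedSectionVars false
set_option linter.style.haveILetI false
set_option linter.unusedSimpArgs false
universe u v w
open CategoryTheory CategoryTheory.Limits AlgebraicGeometry TopologicalSpace IsLocalRing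
open Groth.Agent.Lib.Helper4.NormalizationField1
open Groth.Agent.Lib.Helper4.LocalIso Groth.Agent.Lib.Helper4.LocalIso2
open Groth.Agent.Lib.Helper4.ZMTBirational Groth.Agent.Lib.Helper4.ZMTNormalPt1

namespace Groth.Agent.Lib.Helper4.NormalizationField2

/-- For an integral morphism of integral schemes mapping the generic point to the generic point,
the fibre over the generic point consists of the generic point alone. -/
theorem fiber_genericPoint_of_isIntegralHom {N X : Scheme.{u}} [IsIntegral N] [IsIntegral X]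
    (π : N ⟶ X) [IsIntegralHom π] (hgen : π (genericPoint N) = genericPoint X) :
    π.base ⁻¹' {genericPoint X} = {genericPoint N} := by
  ext x'
  simp only [Set.mem_preimage, Set.mem_singleton_iff]
  constructor
  · intro hx'
    obtain ⟨U, hU, hxU, -⟩ := Opens.isBasis_iff_nbhd.mp X.isBasis_affineOpens
      (show genericPoint X ∈ (⊤ : X.Opens) from trivial)
    have hW : IsAffineOpen (π ⁻¹ᵁ U) := hU.preimage π
    have hx'W : x' ∈ π ⁻¹ᵁ U := by show π x' ∈ U; rw [hx']; exact hxU
    haveI : Nonempty (π ⁻¹ᵁ U : N.Opens) := ⟨⟨x', hx'W⟩⟩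
    haveI : Nonempty U := ⟨⟨_, hxU⟩⟩
    letI alg : Algebra Γ(X, U) Γ(N, π ⁻¹ᵁ U) := (π.app U).hom.toAlgebra
    haveI hint : Algebra.IsIntegral Γ(X, U) Γ(N, π ⁻¹ᵁ U) :=
      algebraMap_isIntegral_iff.mp (IsIntegralHom.isIntegral_app π U hU)
    let q := hW.primeIdealOf ⟨x', hx'W⟩
    have hcomap : q.comap (π.appLE U (π ⁻¹ᵁ U) le_rfl).hom = hU.primeIdealOf ⟨π x', hx'W⟩ :=
      IsAffineOpen.comap_primeIdealOf_appLE U hU _ hW le_rfl hx'W
    have hbotX : (hU.primeIdealOf ⟨π x', hx'W⟩).asIdeal = ⊥ := by
      have h1 : hU.primeIdealOf ⟨π x', hx'W⟩ = genericPoint (Spec Γ(X, U)) := by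
        rw [← hU.primeIdealOf_genericPoint]
        congr 1
        exact Subtype.ext hx'
      rw [h1, genericPoint_eq_bot_of_affine]; rfl
    have hq : q.asIdeal = ⊥ := by
      apply Ideal.eq_bot_of_comap_eq_bot (R := Γ(X, U))
      have := congrArg PrimeSpectrum.asIdeal hcomap
      rw [hbotX] at this
      rw [← this]
      rw [← Scheme.Hom.app_eq_appLE]
      rfl
    have h2 : q = genericPoint (Spec Γ(N, π ⁻¹ᵁ U)) := by
      rw [genericPoint_eq_bot_of_affine]
      exact PrimeSpectrum.ext hq
    rw [← hW.primeIdealOf_genericPoint] at h2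
    have h3 := congrArg hW.fromSpec h2
    rw [hW.fromSpec_primeIdealOf, hW.fromSpec_primeIdealOf] at h3
    exact h3
  · rintro rfl; exact hgen



/-- For a birational morphism of integral schemes with normal target, the maps on sections over
affine opens are injective and their integral elements lie in the range. -/
theorem appLE_injective_and_integral_mem_range {X Y : Scheme.{u}} [IsIntegral X] [IsIntegral Y]
    (hN : ∀ y : Y, IsIntegrallyClosed (Y.presheaf.stalk y)) (f : X ⟶ Y)
    (hgen : f (genericPoint X) = genericPoint Y)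
    (hbir : IsIso (f.stalkMap (genericPoint X)))
    {V : Y.Opens} (hV : IsAffineOpen V) {U : X.Opens} (hUV : U ≤ f ⁻¹ᵁ V)
    [Nonempty U] :
    Function.Injective (f.appLE V U hUV).hom ∧
      ∀ b : Γ(X, U), (f.appLE V U hUV).hom.IsIntegralElem b → ∃ a, (f.appLE V U hUV).hom a = b := by
  have hξU : genericPoint X ∈ U :=
    ((genericPoint_spec X).mem_open_set_iff U.isOpen).mpr (by simpa using ‹Nonempty U›)
  have hξV : f (genericPoint X) ∈ V := hUV hξU
  haveI : Nonempty V := ⟨⟨_, hξV⟩⟩
  let φ := f.appLE V U hUV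
  haveI : IsIntegrallyClosed Γ(Y, V) := isIntegrallyClosed_sections hN hV
  letI algS := Y.presheaf.algebra_section_stalk (U := V) ⟨f (genericPoint X), hξV⟩
  haveI : IsFractionRing Γ(Y, V) (Y.presheaf.stalk (f (genericPoint X))) :=
    isFractionRing_stalk_of_eq_genericPoint hV _ hgen hξV
  have hbij : Function.Bijective (f.stalkMap (genericPoint X)).hom :=
    (ConcreteCategory.isIso_iff_bijective _).mp hbir
  have hgermX : Function.Injective (X.presheaf.germ U (genericPoint X) hξU).hom :=
    germ_injective_of_isIntegral X (genericPoint X) hξU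
  have hgermY : Function.Injective (Y.presheaf.germ V (f (genericPoint X)) hξV).hom :=
    germ_injective_of_isIntegral Y _ hξV
  have hcomm : ∀ a : Γ(Y, V), (f.stalkMap (genericPoint X)).hom
      (algebraMap Γ(Y, V) (Y.presheaf.stalk (f (genericPoint X))) a) =
      (X.presheaf.germ U (genericPoint X) hξU).hom (φ.hom a) :=
    fun a => stalk_compat f (genericPoint X) hξU hUV a
  have hinj : Function.Injective φ.hom := by
    intro a1 a2 h12
    apply hgermY
    apply hbij.1
    have h1 := hcomm a1
    have h2 := hcomm a2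
    rw [h12] at h1
    exact h1.trans h2.symm
  exact ⟨hinj, exists_of_isIntegral_of_birational φ.hom
    (X.presheaf.germ U (genericPoint X) hξU).hom hgermX
    (f.stalkMap (genericPoint X)).hom hbij hcomm⟩

/-- An integral birational morphism from an integral scheme to a normal integral scheme is an
isomorphism. -/
theorem isIso_of_isIntegralHom_of_birational {N Y : Scheme.{u}} [IsIntegral N] [IsIntegral Y]
    (hN : ∀ y : Y, IsIntegrallyClosed (Y.presheaf.stalk y)) (h : N ⟶ Y) [IsIntegralHom h]
    (hgen : h (genericPoint N) = genericPoint Y)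
    (hbir : IsIso (h.stalkMap (genericPoint N))) : IsIso h := by
  -- bijectivity on sections over nonempty affine opens
  have key : ∀ V : Y.Opens, IsAffineOpen V → (V : Set Y).Nonempty → IsIso (h.app V) := by
    intro V hV hne
    have hηV : genericPoint Y ∈ V :=
      ((genericPoint_spec Y).mem_open_set_iff V.isOpen).mpr (by simpa using hne)
    haveI : Nonempty (h ⁻¹ᵁ V : N.Opens) := ⟨⟨genericPoint N, by show h _ ∈ V; rw [hgen]; exact hηV⟩⟩
    obtain ⟨hinj, hint⟩ := appLE_injective_and_integral_mem_range hN h hgen hbir hV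
      (le_refl (h ⁻¹ᵁ V))
    rw [← Scheme.Hom.app_eq_appLE] at hinj hint
    have hall : (h.app V).hom.IsIntegral := IsIntegralHom.isIntegral_app h V hV
    exact (ConcreteCategory.isIso_iff_bijective _).mpr
      ⟨hinj, fun b => hint b (hall b)⟩
  -- choose affine neighbourhoods
  choose V hV hyV using fun y : Y => (Opens.isBasis_iff_nbhd.mp Y.isBasis_affineOpens
    (show y ∈ (⊤ : Y.Opens) from trivial))
  have hcov : ⨆ y, (V y : Y.Opens) = ⊤ := by
    rw [eq_top_iff]
    intro y _
    exact Opens.mem_iSup.mpr ⟨y, (hyV y).1⟩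
  show MorphismProperty.isomorphisms Scheme h
  rw [IsZariskiLocalAtTarget.iff_of_iSup_eq_top (P := MorphismProperty.isomorphisms Scheme) V hcov]
  intro y
  show IsIso (h ∣_ V y)
  rw [isIso_morphismRestrict_iff_isIso_app h (hV y)]
  exact key (V y) (hV y) ⟨y, (hyV y).1⟩



theorem isNormalScheme_of_iso {Y N : Scheme.{u}} (e : Y ≅ N) (hN : Pi1.IsNormalScheme N) :
    Pi1.IsNormalScheme Y := by
  intro y
  obtain ⟨hd, hic⟩ := hN (e.hom y)
  let ε : N.presheaf.stalk (e.hom y) ≃+* Y.presheaf.stalk y :=
    (asIso (e.hom.stalkMap y)).commRingCatIsoToRingEquiv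
  exact ⟨ε.symm.injective.isDomain ε.symm.toRingHom, IsIntegrallyClosed.of_equiv ε⟩

theorem isIntegral_of_isNormalScheme_of_irreducibleSpace {Y : Scheme.{u}}
    (hY : Pi1.IsNormalScheme Y) [IrreducibleSpace Y] : IsIntegral Y := by
  haveI : ∀ y : Y, _root_.IsReduced (Y.presheaf.stalk y) := fun y => by
    haveI := (hY y).1
    infer_instance
  haveI : IsReduced Y := isReduced_of_isReduced_stalk Y
  exact isIntegral_of_irreducibleSpace_of_isReduced Y

/-- The canonical point `Spec K(X) ⟶ Y` induced by a birational morphism `f : Y ⟶ X`. -/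
theorem exists_genericPoint_lift {X Y : Scheme.{u}} [IsIntegral X] [IsIntegral Y] (f : Y ⟶ X)
    (hgen : f (genericPoint Y) = genericPoint X) (hbir : IsIso (f.stalkMap (genericPoint Y))) :
    ∃ j : Spec (X.presheaf.stalk (genericPoint X)) ⟶ Y,
      j ≫ f = X.fromSpecStalk (genericPoint X) ∧ ∀ t, j t = genericPoint Y := by
  have hsp : f (genericPoint Y) ⤳ genericPoint X := specializes_of_eq hgen
  let α : X.presheaf.stalk (genericPoint X) ⟶ Y.presheaf.stalk (genericPoint Y) :=
    X.presheaf.stalkSpecializes hsp ≫ f.stalkMap (genericPoint Y)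
  haveI : IsIso (X.presheaf.stalkSpecializes hsp) :=
    (X.presheaf.stalkCongr (Inseparable.of_eq hgen.symm)).isIso_hom
  haveI : IsIso α := IsIso.comp_isIso
  refine ⟨Spec.map (inv α) ≫ Y.fromSpecStalk (genericPoint Y), ?_, ?_⟩
  · rw [Category.assoc, ← Scheme.SpecMap_stalkMap_fromSpecStalk,
      ← Scheme.SpecMap_stalkSpecializes_fromSpecStalk hsp, ← Spec.map_comp_assoc,
      ← Spec.map_comp_assoc]
    have : X.presheaf.stalkSpecializes hsp ≫ f.stalkMap (genericPoint Y) ≫ inv α = 𝟙 _ := by
      rw [← Category.assoc]; exact IsIso.hom_inv_id α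
    rw [this, Spec.map_id, Category.id_comp]
  · intro t
    rw [Scheme.Hom.comp_apply]
    exact fromSpecStalk_genericPoint_apply Y _



/-- Facts about the normalization of an integral scheme. -/
theorem normalization_facts (X : Scheme.{u}) [IsIntegral X]
    [QuasiCompact (X.fromSpecStalk (genericPoint X))]
    [QuasiSeparated (X.fromSpecStalk (genericPoint X))] :
    ∃ (_ : IsIntegral (X.fromSpecStalk (genericPoint X)).normalization),
      Pi1.IsNormalScheme (X.fromSpecStalk (genericPoint X)).normalization ∧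
      (X.fromSpecStalk (genericPoint X)).fromNormalization
        (genericPoint (X.fromSpecStalk (genericPoint X)).normalization) = genericPoint X ∧
      Function.Bijective ((X.fromSpecStalk (genericPoint X)).fromNormalization.stalkMap
        (genericPoint (X.fromSpecStalk (genericPoint X)).normalization)).hom := by
  have hL := isField_functionField X
  have hg := fromSpecStalk_genericPoint_apply X
  have hint := isIntegral_normalization_of_isField _ hL (X.fromSpecStalk (genericPoint X))
  refine ⟨hint, ?_, ?_, ?_⟩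
  · refine isNormalScheme_normalization_of_isField _ hL _ ?_
    intro t U hU
    rw [hg]
    exact ((genericPoint_spec X).mem_open_set_iff U.isOpen).mpr (by simpa using hU)
  · exact fromNormalization_genericPoint _ hL _ hg
  · exact bijective_stalkMap_fromNormalization _ hL _ _
      (bijective_stalkMap_fromSpecStalk_closedPoint X (genericPoint X))

theorem bijective_stalkMap_of_comp {A B C : Scheme.{u}} (d : A ⟶ B) (f : B ⟶ C) (ν : A ⟶ C)
    (e : d ≫ f = ν) (a : A) (b : B) (hb : d a = b)
    (hν : Function.Bijective (ν.stalkMap a).hom)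
    (hf : Function.Bijective (f.stalkMap b).hom) :
    Function.Bijective (d.stalkMap a).hom := by
  subst e hb
  have h1 : Function.Bijective ((d.stalkMap a).hom ∘ (f.stalkMap (d a)).hom) := by
    rw [Scheme.Hom.stalkMap_comp] at hν
    exact hν
  exact (Function.Bijective.of_comp_iff (d.stalkMap a).hom hf).mp h1

/-- A normal integral scheme, integral and birational over `X`, is the normalization of `X`. -/
theorem exists_iso_normalization_of_birational (X : Scheme.{u}) [IsIntegral X]
    [QuasiCompact (X.fromSpecStalk (genericPoint X))]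
    [QuasiSeparated (X.fromSpecStalk (genericPoint X))]
    {Y : Scheme.{u}} [IsIntegral Y] (f : Y ⟶ X) [IsIntegralHom f]
    (hY : ∀ y : Y, IsIntegrallyClosed (Y.presheaf.stalk y))
    (hgen : f (genericPoint Y) = genericPoint X) (hbir : IsIso (f.stalkMap (genericPoint Y))) :
    ∃ e : Y ≅ (X.fromSpecStalk (genericPoint X)).normalization,
      e.hom ≫ (X.fromSpecStalk (genericPoint X)).fromNormalization = f := by
  obtain ⟨hint, -, hνgen, hνbij⟩ := normalization_facts X
  obtain ⟨j, hj, hjpt⟩ := exists_genericPoint_lift f hgen hbir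
  let g := X.fromSpecStalk (genericPoint X)
  let d : g.normalization ⟶ Y := g.normalizationDesc j f hj.symm
  have hdf : d ≫ f = g.fromNormalization := g.normalizationDesc_comp j f hj.symm
  have hιd : g.toNormalization ≫ d = j := g.toNormalization_normalizationDesc j f hj.symm
  have hL := isField_functionField X
  have hdgen : d (genericPoint g.normalization) = genericPoint Y := by
    rw [← toNormalization_eq_genericPoint _ hL g (closedPoint _), ← Scheme.Hom.comp_apply, hιd, hjpt]
  have hfbij : Function.Bijective (f.stalkMap (genericPoint Y)).hom :=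
    (ConcreteCategory.isIso_iff_bijective _).mp hbir
  have hdbij : Function.Bijective (d.stalkMap (genericPoint g.normalization)).hom :=
    bijective_stalkMap_of_comp d f _ hdf _ _ hdgen hνbij hfbij
  haveI : IsIso d := isIso_of_isIntegralHom_of_birational hY d hdgen
    ((ConcreteCategory.isIso_iff_bijective _).mpr hdbij)
  refine ⟨(asIso d).symm, ?_⟩
  show inv d ≫ g.fromNormalization = f
  rw [← hdf, IsIso.inv_hom_id_assoc]



/-- Properties of a scheme over `X` isomorphic to the normalization. -/
theorem props_of_iso_normalization (X : Scheme.{u}) [IsIntegral X]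
    [QuasiCompact (X.fromSpecStalk (genericPoint X))]
    [QuasiSeparated (X.fromSpecStalk (genericPoint X))]
    {Y : Scheme.{u}} (f : Y ⟶ X)
    (e : Y ≅ (X.fromSpecStalk (genericPoint X)).normalization)
    (he : e.hom ≫ (X.fromSpecStalk (genericPoint X)).fromNormalization = f) :
    Pi1.IsNormalScheme Y ∧ IsIntegralHom f ∧ ∃ _ : IsIntegral Y,
      f (genericPoint Y) = genericPoint X ∧ Function.Bijective (f.stalkMap (genericPoint Y)).hom := by
  obtain ⟨hint, hnorm, hνgen, hνbij⟩ := normalization_facts X
  subst he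
  haveI : Nonempty Y := ⟨e.inv (genericPoint _)⟩
  haveI hYint : IsIntegral Y := isIntegral_of_isOpenImmersion e.hom
  have hegen : e.hom (genericPoint Y) = genericPoint _ :=
    genericPoint_eq_of_isOpenImmersion e.hom
  refine ⟨isNormalScheme_of_iso e hnorm, inferInstance, hYint, ?_, ?_⟩
  · rw [Scheme.Hom.comp_apply, hegen, hνgen]
  · have h1 : Function.Bijective
        ((X.fromSpecStalk (genericPoint X)).fromNormalization.stalkMap
          (e.hom (genericPoint Y))).hom :=
      bijective_stalkMap_congr_pt _ _ _ hegen.symm hνbij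
    have h2 : Function.Bijective (e.hom.stalkMap (genericPoint Y)).hom :=
      (ConcreteCategory.isIso_iff_bijective _).mp inferInstance
    rw [Scheme.Hom.stalkMap_comp]
    exact h2.comp h1

theorem S5949_main (X : Scheme.{u}) [IsIntegral X]
    [QuasiCompact (X.fromSpecStalk (genericPoint X))]
    [QuasiSeparated (X.fromSpecStalk (genericPoint X))]
    {Y : Scheme.{u}} (f : Y ⟶ X) :
    (∃ e : Y ≅ Curv2.normalization X, e.hom ≫ Curv2.normalizationι X = f) ↔
      Pi1.IsNormalScheme Y ∧ IsIntegralHom f ∧
        ∃ _ : IrreducibleSpace ↥Y, f.base ⁻¹' {genericPoint X} = {genericPoint Y} ∧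
          IsIso (f.stalkMap (genericPoint Y)) := by
  constructor
  · rintro ⟨e, he⟩
    obtain ⟨hn, hi, hYint, hgen, hbij⟩ := props_of_iso_normalization X f e he
    refine ⟨hn, hi, inferInstance, ?_, (ConcreteCategory.isIso_iff_bijective _).mpr hbij⟩
    exact fiber_genericPoint_of_isIntegralHom f hgen
  · rintro ⟨hn, hi, hirr, hfib, hbir⟩
    haveI := isIntegral_of_isNormalScheme_of_irreducibleSpace hn
    have hgen : f (genericPoint Y) = genericPoint X := by
      have : genericPoint Y ∈ f.base ⁻¹' {genericPoint X} := by rw [hfib]; rfl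
      exact this
    exact exists_iso_normalization_of_birational X f (fun y => (hn y).2) hgen hbir



theorem isIso_stalkMap_congr_pt {X Y : Scheme.{u}} (f : X ⟶ Y) (x₁ x₂ : X) (e : x₁ = x₂)
    (hb : IsIso (f.stalkMap x₁)) : IsIso (f.stalkMap x₂) := by
  subst e; exact hb

/-- An integral birational morphism of integral schemes is an isomorphism over any nonempty open
of the target all of whose points are normal. -/
theorem isIso_morphismRestrict_of_isIntegralHom_of_birational {N Y : Scheme.{u}} [IsIntegral N]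
    [IsIntegral Y] (h : N ⟶ Y) [IsIntegralHom h]
    (hgen : h (genericPoint N) = genericPoint Y) (hbir : IsIso (h.stalkMap (genericPoint N)))
    (W : Y.Opens) (hW : (W : Set Y).Nonempty)
    (hN : ∀ y ∈ W, IsIntegrallyClosed (Y.presheaf.stalk y)) : IsIso (h ∣_ W) := by
  have hηW : genericPoint Y ∈ W :=
    ((genericPoint_spec Y).mem_open_set_iff W.isOpen).mpr (by simpa using hW)
  have hηW' : genericPoint N ∈ h ⁻¹ᵁ W := by show h _ ∈ W; rw [hgen]; exact hηW
  haveI : Nonempty W := ⟨⟨_, hηW⟩⟩
  haveI : Nonempty (h ⁻¹ᵁ W : N.Opens) := ⟨⟨_, hηW'⟩⟩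
  haveI : IsIntegralHom (h ∣_ W) := IsZariskiLocalAtTarget.restrict ‹_› W
  have hnorm : ∀ w : W.toScheme, IsIntegrallyClosed (W.toScheme.presheaf.stalk w) := by
    intro w
    haveI := hN w.1 w.2
    exact IsIntegrallyClosed.of_equiv (W.stalkIso w).commRingCatIsoToRingEquiv.symm
  have hg1 : (h ⁻¹ᵁ W).ι (genericPoint (h ⁻¹ᵁ W).toScheme) = genericPoint N :=
    genericPoint_eq_of_isOpenImmersion (h ⁻¹ᵁ W).ι
  have hg2 : W.ι (genericPoint W.toScheme) = genericPoint Y :=
    genericPoint_eq_of_isOpenImmersion W.ι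
  have hgen' : (h ∣_ W) (genericPoint (h ⁻¹ᵁ W).toScheme) = genericPoint W.toScheme := by
    apply W.ι.injective
    rw [← Scheme.Hom.comp_apply, morphismRestrict_ι, Scheme.Hom.comp_apply, hg1, hgen, hg2]
  have hbir' : IsIso ((h ∣_ W).stalkMap (genericPoint (h ⁻¹ᵁ W).toScheme)) := by
    have h1 : IsIso (h.stalkMap (genericPoint (h ⁻¹ᵁ W).toScheme).1) :=
      isIso_stalkMap_congr_pt h _ _ hg1.symm hbir
    exact ((MorphismProperty.isomorphisms CommRingCat).arrow_mk_iso_iff
      (morphismRestrictStalkMap h W _)).mpr h1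
  exact isIso_of_isIntegralHom_of_birational hnorm (h ∣_ W) hgen' hbir'



/-- If `f` restricts to an isomorphism over a dense open `U` of the integral scheme `X` whose
preimage is dense, then the source is irreducible. -/
theorem irreducibleSpace_of_isIso_restrict_dense {X Y : Scheme.{u}} [IsIntegral X]
    (f : Y ⟶ X) (U : X.Opens) (hU : Dense (U : Set X))
    (hU' : Dense ((f ⁻¹ᵁ U : Y.Opens) : Set Y)) (hiso : IsIso (f ∣_ U)) : IrreducibleSpace Y := by
  have hUne : (U : Set X).Nonempty := hU.nonempty
  haveI : Nonempty U := hUne.to_subtype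
  haveI : IsIntegral U.toScheme := inferInstance
  let φ : U.toScheme ⟶ Y := inv (f ∣_ U) ≫ (f ⁻¹ᵁ U).ι
  have hrange : Set.range φ = ((f ⁻¹ᵁ U : Y.Opens) : Set Y) := by
    ext y
    constructor
    · rintro ⟨u, rfl⟩
      exact ((inv (f ∣_ U)) u).2
    · intro hy
      let y' : (f ⁻¹ᵁ U).toScheme := ⟨y, hy⟩
      have h1 : (inv (f ∣_ U)) ((f ∣_ U) y') = y' := by
        rw [← Scheme.Hom.comp_apply, IsIso.hom_inv_id]; rfl
      refine ⟨(f ∣_ U) y', ?_⟩
      show (f ⁻¹ᵁ U).ι ((inv (f ∣_ U)) ((f ∣_ U) y')) = y
      rw [h1]; rfl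
  have hirr : IsIrreducible (Set.range φ) := by
    rw [← Set.image_univ]
    exact (IrreducibleSpace.isIrreducible_univ U.toScheme).image φ φ.continuous.continuousOn
  rw [hrange] at hirr
  have := hirr.closure
  rw [hU'.closure_eq] at this
  exact (irreducibleSpace_def Y).mpr this

theorem S5950_main (X : Scheme.{u}) [IsIntegral X]
    [QuasiCompact (X.fromSpecStalk (genericPoint X))]
    [QuasiSeparated (X.fromSpecStalk (genericPoint X))]
    (hV : ∃ V : X.Opens, (V : Set ↥X).Nonempty ∧
      ∀ x ∈ V, IsIntegrallyClosed (X.presheaf.stalk x))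
    {Y : Scheme.{u}} (f : Y ⟶ X) :
    (∃ e : Y ≅ Curv2.normalization X, e.hom ≫ Curv2.normalizationι X = f) ↔
      Pi1.IsNormalScheme Y ∧ IsIntegralHom f ∧
        ∃ U : X.Opens, Dense (U : Set ↥X) ∧ Dense ((f ⁻¹ᵁ U : Y.Opens) : Set ↥Y) ∧
          IsIso (f ∣_ U) := by
  constructor
  · rintro ⟨e, he⟩
    obtain ⟨hn, hi, hYint, hgen, hbij⟩ := props_of_iso_normalization X f e he
    obtain ⟨V, hVne, hVn⟩ := hV
    refine ⟨hn, hi, V, V.isOpen.dense hVne, ?_, ?_⟩
    · have hηV : genericPoint X ∈ V :=
        ((genericPoint_spec X).mem_open_set_iff V.isOpen).mpr (by simpa using hVne)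
      exact (f ⁻¹ᵁ V).isOpen.dense ⟨genericPoint Y, by show f _ ∈ V; rw [hgen]; exact hηV⟩
    · exact isIso_morphismRestrict_of_isIntegralHom_of_birational f hgen
        ((ConcreteCategory.isIso_iff_bijective _).mpr hbij) V hVne hVn
  · rintro ⟨hn, hi, U, hU, hU', hiso⟩
    haveI := irreducibleSpace_of_isIso_restrict_dense f U hU hU' hiso
    haveI := isIntegral_of_isNormalScheme_of_irreducibleSpace hn
    have hηU' : genericPoint Y ∈ f ⁻¹ᵁ U :=
      ((genericPoint_spec Y).mem_open_set_iff (f ⁻¹ᵁ U).isOpen).mpr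
        (by simpa using hU'.nonempty)
    haveI : Nonempty (f ⁻¹ᵁ U : Y.Opens) := ⟨⟨_, hηU'⟩⟩
    haveI : Nonempty U := hU.nonempty.to_subtype
    have hg1 : (f ⁻¹ᵁ U).ι (genericPoint (f ⁻¹ᵁ U).toScheme) = genericPoint Y :=
      genericPoint_eq_of_isOpenImmersion (f ⁻¹ᵁ U).ι
    have hg2 : U.ι (genericPoint U.toScheme) = genericPoint X :=
      genericPoint_eq_of_isOpenImmersion U.ι
    have hg3 : (f ∣_ U) (genericPoint (f ⁻¹ᵁ U).toScheme) = genericPoint U.toScheme :=
      genericPoint_eq_of_isOpenImmersion (f ∣_ U)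
    have hgen : f (genericPoint Y) = genericPoint X := by
      rw [← hg1, ← Scheme.Hom.comp_apply, ← morphismRestrict_ι, Scheme.Hom.comp_apply, hg3, hg2]
    have hbir : IsIso (f.stalkMap (genericPoint Y)) := by
      have h1 : IsIso ((f ∣_ U).stalkMap (genericPoint (f ⁻¹ᵁ U).toScheme)) := inferInstance
      have h2 : IsIso (f.stalkMap (genericPoint (f ⁻¹ᵁ U).toScheme).1) :=
        ((MorphismProperty.isomorphisms CommRingCat).arrow_mk_iso_iff
          (morphismRestrictStalkMap f U _)).mp h1
      exact isIso_stalkMap_congr_pt f _ _ hg1 h2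
    exact exists_iso_normalization_of_birational X f (fun y => (hn y).2) hgen hbir


end Groth.Agent.Lib.Helper4.NormalizationField2
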