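import Mathlib
import Groth.Prelude.Def_Curv2
import Groth.Agent.Lib.Helper4.KrullAkizuki
import Groth.Agent.Lib.Helper4.NormalizationField1
import Groth.Agent.Lib.Helper4.NormalizationField2

/-!
# Normalization of a one-dimensional integral locally Noetherian scheme (Krull-Akizuki) (helper4)
-/

set_option backward.isDefEq.respectTransparency.types false
set_option synthInstance.maxHeartbeats 400000
set_option autoImplicit false
set_option linter.unusedSectionVars false
set_option linter.style.haveILetI false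
set_option linter.unusedSimpArgs false
universe u v w
open CategoryTheory CategoryTheory.Limits AlgebraicGeometry TopologicalSpace IsLocalRing

namespace Groth.Agent.Lib.Helper4.NormDimOne1

/-- ring-level Krull–Akizuki package: dimension one case -/
theorem ringPackage_one (A L B : Type u) [CommRing A] [IsDomain A] [IsNoetherianRing A]
    (hdim : ringKrullDim A = 1) [Field L] [Algebra A L] [IsFractionRing A L]
    [CommRing B] [IsDomain B] [Algebra A B] [Algebra B L] [IsScalarTower A B L]
    (hinj : Function.Injective (algebraMap B L)) [IsIntegrallyClosed B] :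
    IsDedekindDomain B ∧
      (∀ p : Ideal A, p.IsPrime → {Q : Ideal B | Q.IsPrime ∧ Q.comap (algebraMap A B) = p}.Finite) ∧
      (∀ Q : Ideal B, Q.IsPrime → Q ≠ ⊥ → Q.IsMaximal ∧ Module.Finite A (B ⧸ Q)) := by
  have hN : IsNoetherianRing B :=
    Groth.Agent.Lib.Helper4.KA.noeth A hdim L L B hinj
  have key : ∀ Q : Ideal B, Q.IsPrime → Q ≠ ⊥ → ∃ x : A, x ≠ 0 ∧ algebraMap A B x ∈ Q :=
    fun Q _ hQ => Groth.Agent.Lib.Helper4.KA.exists_nonzero_mem A L L B hinj Q hQ
  have h3 : ∀ Q : Ideal B, Q.IsPrime → Q ≠ ⊥ → Q.IsMaximal ∧ Module.Finite A (B ⧸ Q) := by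
    intro Q hQ hQ0
    obtain ⟨x, hx0, hxQ⟩ := key Q hQ hQ0
    obtain ⟨h1, -, h2⟩ := Groth.Agent.Lib.Helper4.KA.primes_containing A hdim L L B hinj x hx0
    exact ⟨h1 Q hQ hxQ, h2 Q hxQ⟩
  refine ⟨?_, ?_, h3⟩
  · haveI : Ring.DimensionLEOne B := ⟨fun {p} hp hprime => (h3 p hprime hp).1⟩
    exact { }
  · intro p hp
    by_cases hp0 : p = ⊥
    · subst hp0
      refine (Set.finite_singleton (⊥ : Ideal B)).subset ?_
      rintro Q ⟨hQ, hQp⟩
      by_contra hQ0
      obtain ⟨x, hx0, hxQ⟩ := key Q hQ hQ0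
      have : x ∈ Q.comap (algebraMap A B) := hxQ
      rw [hQp, Ideal.mem_bot] at this
      exact hx0 this
    · obtain ⟨x, hxp, hx0⟩ := Submodule.exists_mem_ne_zero_of_ne_bot hp0
      obtain ⟨-, h2, -⟩ := Groth.Agent.Lib.Helper4.KA.primes_containing A hdim L L B hinj x hx0
      refine h2.subset ?_
      rintro Q ⟨hQ, hQp⟩
      refine ⟨hQ, ?_⟩
      have : x ∈ Q.comap (algebraMap A B) := by rw [hQp]; exact hxp
      exact this



theorem ringPackage_zero (A L B : Type u) [CommRing A] [IsDomain A]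
    (hA : IsField A) [Field L] [Algebra A L] [IsFractionRing A L]
    [CommRing B] [IsDomain B] [Algebra A B] [Algebra B L] [IsScalarTower A B L]
    (hinj : Function.Injective (algebraMap B L)) :
    IsDedekindDomain B ∧
      (∀ p : Ideal A, p.IsPrime → {Q : Ideal B | Q.IsPrime ∧ Q.comap (algebraMap A B) = p}.Finite) ∧
      (∀ Q : Ideal B, Q.IsPrime → Q ≠ ⊥ → Q.IsMaximal ∧ Module.Finite A (B ⧸ Q)) := by
  have hbij : Function.Bijective (algebraMap A L) :=
    hA.localization_map_bijective (Rₘ := L) (M := nonZeroDivisors A) zero_notMem_nonZeroDivisors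
  have hB : IsField B := by
    refine ⟨exists_pair_ne B, mul_comm, ?_⟩
    intro b hb
    obtain ⟨a, ha⟩ := hbij.2 (algebraMap B L b)
    have hba : algebraMap A B a = b := by
      apply hinj
      rw [← IsScalarTower.algebraMap_apply, ha]
    have ha0 : a ≠ 0 := by
      rintro rfl
      rw [map_zero] at hba
      exact hb hba.symm
    obtain ⟨a', ha'⟩ := hA.mul_inv_cancel ha0
    refine ⟨algebraMap A B a', ?_⟩
    rw [← hba, ← map_mul, ha', map_one]
  have hbot : ∀ Q : Ideal B, Q.IsPrime → Q = ⊥ := by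
    intro Q hQ
    letI := hB.toField
    exact Ideal.eq_bot_of_prime Q
  refine ⟨?_, ?_, ?_⟩
  · letI := hB.toField
    infer_instance
  · intro p hp
    refine (Set.finite_singleton (⊥ : Ideal B)).subset ?_
    rintro Q ⟨hQ, -⟩
    exact hbot Q hQ
  · intro Q hQ hQ0
    exact absurd (hbot Q hQ) hQ0

theorem ringPackage (A L B : Type u) [CommRing A] [IsDomain A] [IsNoetherianRing A]
    (hdim : ringKrullDim A ≤ 1) [Field L] [Algebra A L] [IsFractionRing A L]
    [CommRing B] [IsDomain B] [Algebra A B] [Algebra B L] [IsScalarTower A B L]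
    (hinj : Function.Injective (algebraMap B L)) [IsIntegrallyClosed B] :
    IsDedekindDomain B ∧
      (∀ p : Ideal A, p.IsPrime → {Q : Ideal B | Q.IsPrime ∧ Q.comap (algebraMap A B) = p}.Finite) ∧
      (∀ Q : Ideal B, Q.IsPrime → Q ≠ ⊥ → Q.IsMaximal ∧ Module.Finite A (B ⧸ Q)) := by
  by_cases hA : IsField A
  · exact ringPackage_zero A L B hA hinj
  · have h1 : ringKrullDim A = 1 := by
      refine le_antisymm hdim ?_
      by_contra hlt
      rw [not_le] at hlt
      have h0 : ringKrullDim A ≤ 0 := by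
        generalize ringKrullDim A = d at hlt
        induction d using WithBot.recBotCoe with
        | bot => exact bot_le
        | coe n =>
          have h2 : n < 1 := by exact_mod_cast hlt
          rw [Order.lt_one_iff] at h2
          rw [h2]; rfl
      haveI : Ring.KrullDimLE 0 A := Ring.krullDimLE_iff.2 (by simpa using h0)
      exact hA (Ring.KrullDimLE.isField_of_isDomain)
    exact ringPackage_one A L B h1 hinj



/-- every element of the stalk at a point equal to the generic point is a fraction of germs -/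
theorem stalk_eq_div_of_eq_genericPoint (X : Scheme.{u}) [IsIntegral X] (U : X.Opens)
    (hU : IsAffineOpen U) (y : X) (hy : y = genericPoint X) (hyU : y ∈ U)
    (k : X.presheaf.stalk y) :
    ∃ a s : Γ(X, U), s ≠ 0 ∧ k * (X.presheaf.germ U y hyU).hom s = (X.presheaf.germ U y hyU).hom a := by
  subst hy
  haveI : Nonempty U := ⟨⟨_, hyU⟩⟩
  haveI := functionField_isFractionRing_of_isAffineOpen X U hU
  obtain ⟨⟨a, s⟩, h⟩ := IsLocalization.surj (nonZeroDivisors Γ(X, U)) (S := X.functionField) k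
  exact ⟨a, s.1, nonZeroDivisors.ne_zero s.2, h⟩

theorem local_package {N X : Scheme.{u}} [IsIntegral N] [IsIntegral X] [IsLocallyNoetherian X]
    (ν : N ⟶ X) [IsAffineHom ν]
    (hgen : ν (genericPoint N) = genericPoint X)
    (hbij : Function.Bijective (ν.stalkMap (genericPoint N)).hom)
    (U : X.Opens) (hU : IsAffineOpen U) (hne : (U : Set X).Nonempty)
    (hdimU : ringKrullDim Γ(X, U) ≤ 1)
    (hic : ∀ _ : IsDomain Γ(N, ν ⁻¹ᵁ U), IsIntegrallyClosed Γ(N, ν ⁻¹ᵁ U)) :
    letI := (ν.app U).hom.toAlgebra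
    IsDedekindDomain Γ(N, ν ⁻¹ᵁ U) ∧
      (∀ p : Ideal Γ(X, U), p.IsPrime →
        {Q : Ideal Γ(N, ν ⁻¹ᵁ U) | Q.IsPrime ∧ Q.comap (ν.app U).hom = p}.Finite) ∧
      (∀ Q : Ideal Γ(N, ν ⁻¹ᵁ U), Q.IsPrime → Q ≠ ⊥ →
        Q.IsMaximal ∧ Module.Finite Γ(X, U) (Γ(N, ν ⁻¹ᵁ U) ⧸ Q)) := by
  have hηU : ν (genericPoint N) ∈ U := by
    rw [hgen]
    exact ((genericPoint_spec X).mem_open_set_iff U.isOpen).mpr (by simpa using hne)
  haveI : Nonempty U := ⟨⟨_, hηU⟩⟩
  haveI : Nonempty (ν ⁻¹ᵁ U : N.Opens) := ⟨⟨genericPoint N, hηU⟩⟩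
  haveI : IsDomain Γ(X, U) := inferInstance
  haveI hdomB : IsDomain Γ(N, ν ⁻¹ᵁ U) := inferInstance
  haveI := hic hdomB
  haveI : IsNoetherianRing Γ(X, U) := IsLocallyNoetherian.component_noetherian ⟨U, hU⟩
  letI algAB : Algebra Γ(X, U) Γ(N, ν ⁻¹ᵁ U) := (ν.app U).hom.toAlgebra
  letI algBL : Algebra Γ(N, ν ⁻¹ᵁ U) N.functionField :=
    (N.presheaf.germ (ν ⁻¹ᵁ U) (genericPoint N) hηU).hom.toAlgebra
  letI algAL : Algebra Γ(X, U) N.functionField :=
    ((N.presheaf.germ (ν ⁻¹ᵁ U) (genericPoint N) hηU).hom.comp (ν.app U).hom).toAlgebra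
  haveI : IsScalarTower Γ(X, U) Γ(N, ν ⁻¹ᵁ U) N.functionField :=
    IsScalarTower.of_algebraMap_eq (fun _ => rfl)
  have hinjB : Function.Injective (algebraMap Γ(N, ν ⁻¹ᵁ U) N.functionField) :=
    N.germToFunctionField_injective (ν ⁻¹ᵁ U)
  -- the square
  have hsq : ∀ a : Γ(X, U), (ν.stalkMap (genericPoint N)).hom
      ((X.presheaf.germ U (ν (genericPoint N)) hηU).hom a) = algebraMap Γ(X, U) N.functionField a := by
    intro a
    exact Scheme.Hom.germ_stalkMap_apply ν U (genericPoint N) hηU a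
  have hinjA : Function.Injective (algebraMap Γ(X, U) N.functionField) := by
    intro a b hab
    rw [← hsq, ← hsq] at hab
    have h1 := hbij.1 hab
    have hinjg : Function.Injective (X.presheaf.germ U (ν (genericPoint N)) hηU).hom :=
      germ_injective_of_isIntegral X (ν (genericPoint N)) hηU
    exact hinjg h1
  haveI : FaithfulSMul Γ(X, U) N.functionField :=
    (faithfulSMul_iff_algebraMap_injective _ _).mpr hinjA
  haveI : IsFractionRing Γ(X, U) N.functionField := by
    apply IsFractionRing.of_field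
    intro z
    obtain ⟨k, rfl⟩ := hbij.2 z
    obtain ⟨a, s, hs, hk⟩ := stalk_eq_div_of_eq_genericPoint X U hU _ hgen hηU k
    refine ⟨a, s, ?_⟩
    have hs' : algebraMap Γ(X, U) N.functionField s ≠ 0 := by
      intro h0
      exact hs (hinjA (by rw [h0, map_zero]))
    rw [eq_div_iff hs', ← hsq, ← hsq, ← map_mul, hk]
  exact ringPackage Γ(X, U) N.functionField Γ(N, ν ⁻¹ᵁ U) hdimU hinjB



theorem ringKrullDim_le_of_affine {X : Scheme.{u}} (hdim : topologicalKrullDim X ≤ 1)
    (U : X.Opens) (hU : IsAffineOpen U) : ringKrullDim Γ(X, U) ≤ 1 := by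
  rw [← PrimeSpectrum.topologicalKrullDim_eq_ringKrullDim]
  exact le_trans (hU.fromSpec.isOpenEmbedding.isInducing.topologicalKrullDim_le) hdim

theorem primeIdealOf_injective {X : Scheme.{u}} {U : X.Opens} (hU : IsAffineOpen U)
    (x y : U) (h : hU.primeIdealOf x = hU.primeIdealOf y) : x = y := by
  apply Subtype.ext
  rw [← hU.fromSpec_primeIdealOf x, ← hU.fromSpec_primeIdealOf y, h]

theorem primeIdealOf_ne_bot {X : Scheme.{u}} [IsIntegral X] {U : X.Opens} (hU : IsAffineOpen U)
    (x : U) (hx : x.1 ≠ genericPoint X) : (hU.primeIdealOf x).asIdeal ≠ ⊥ := by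
  intro h
  apply hx
  have hne : (U : Set X).Nonempty := ⟨x.1, x.2⟩
  have hη : genericPoint X ∈ U :=
    ((genericPoint_spec X).mem_open_set_iff U.isOpen).mpr (by simpa using hne)
  haveI : Nonempty U := ⟨x⟩
  have h1 := hU.primeIdealOf_genericPoint
  have h2 : hU.primeIdealOf x = hU.primeIdealOf ⟨genericPoint X, hη⟩ := by
    rw [h1, genericPoint_eq_bot_of_affine]
    exact PrimeSpectrum.ext h
  exact congrArg Subtype.val (primeIdealOf_injective hU _ _ h2)



section
variable {N X : Scheme.{u}} [IsIntegral N] [IsIntegral X] [IsLocallyNoetherian X]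
    (ν : N ⟶ X) [IsAffineHom ν]
    (hgen : ν (genericPoint N) = genericPoint X)
    (hbij : Function.Bijective (ν.stalkMap (genericPoint N)).hom)
    (hdim : topologicalKrullDim X ≤ 1)
    (hic : ∀ (U : X.Opens), IsAffineOpen U → (U : Set X).Nonempty →
      ∀ _ : IsDomain Γ(N, ν ⁻¹ᵁ U), IsIntegrallyClosed Γ(N, ν ⁻¹ᵁ U))
include hgen hbij hdim hic

theorem dedekind_preimage (U : X.Opens) (hU : IsAffineOpen U) (hne : (U : Set X).Nonempty) :
    IsDedekindDomain Γ(N, ν ⁻¹ᵁ U) :=
  (local_package ν hgen hbij U hU hne (ringKrullDim_le_of_affine hdim U hU) (hic U hU hne)).1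

theorem isLocallyNoetherian_source : IsLocallyNoetherian N := by
  let S : {U : X.affineOpens // ((U : X.Opens) : Set X).Nonempty} → N.affineOpens :=
    fun U => ⟨ν ⁻¹ᵁ (U.1 : X.Opens), U.1.2.preimage ν⟩
  apply isLocallyNoetherian_of_affine_cover (S := S)
  · rw [eq_top_iff]
    intro n _
    obtain ⟨U, hU, hnU, -⟩ := exists_isAffineOpen_mem_and_subset (U := (⊤ : X.Opens)) (x := ν n) (by simp)
    simp only [Opens.iSup_mk, Opens.carrier_eq_coe, Opens.coe_mk, Opens.mem_mk, Set.mem_iUnion,
      SetLike.mem_coe]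
    exact ⟨⟨⟨U, hU⟩, ⟨_, hnU⟩⟩, hnU⟩
  · intro U
    haveI := dedekind_preimage ν hgen hbij hdim hic U.1.1 U.1.2 U.2
    change IsNoetherianRing Γ(N, ν ⁻¹ᵁ (U.1 : X.Opens))
    infer_instance

theorem stalk_dvr (p : N) (hp : p ≠ genericPoint N) :
    IsDiscreteValuationRing (N.presheaf.stalk p) := by
  obtain ⟨U, hU, hpU, -⟩ := exists_isAffineOpen_mem_and_subset (U := (⊤ : X.Opens)) (x := ν p) (by simp)
  have hV : IsAffineOpen (ν ⁻¹ᵁ U) := hU.preimage ν
  haveI := dedekind_preimage ν hgen hbij hdim hic U hU ⟨_, hpU⟩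
  letI := N.presheaf.algebra_section_stalk (U := ν ⁻¹ᵁ U) ⟨p, hpU⟩
  haveI := hV.isLocalization_stalk ⟨p, hpU⟩
  have hne := primeIdealOf_ne_bot hV ⟨p, hpU⟩ hp
  exact IsLocalization.AtPrime.isDiscreteValuationRing_of_dedekind_domain Γ(N, ν ⁻¹ᵁ U) hne
    (N.presheaf.stalk p)

theorem dedekind_affine (W : N.Opens) (hW : IsAffineOpen W) (hne : (W : Set N).Nonempty) :
    IsDedekindDomain Γ(N, W) := by
  haveI : Nonempty W := ⟨⟨hne.choose, hne.choose_spec⟩⟩
  haveI : IsDomain Γ(N, W) := inferInstance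
  haveI := isLocallyNoetherian_source ν hgen hbij hdim hic
  haveI : IsNoetherianRing Γ(N, W) := IsLocallyNoetherian.component_noetherian ⟨W, hW⟩
  haveI : IsDedekindDomainDvr Γ(N, W) := by
    refine { is_dvr_at_nonzero_prime := ?_ }
    intro P hP0 hP
    have hmem : hW.fromSpec ⟨P, hP⟩ ∈ W := by
      have h0 : hW.fromSpec ⟨P, hP⟩ ∈ Set.range hW.fromSpec := Set.mem_range_self _
      rw [hW.range_fromSpec] at h0
      exact h0
    letI := N.presheaf.algebra_section_stalk ⟨hW.fromSpec ⟨P, hP⟩, hmem⟩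
    haveI hloc : IsLocalization.AtPrime (N.presheaf.stalk (hW.fromSpec ⟨P, hP⟩)) P :=
      hW.isLocalization_stalk' ⟨P, hP⟩ hmem
    have hpne : hW.fromSpec ⟨P, hP⟩ ≠ genericPoint N := by
      intro h
      apply hP0
      have h1 := hW.primeIdealOf_genericPoint
      have hη : genericPoint N ∈ W := h ▸ hmem
      have h2 : hW.fromSpec (hW.primeIdealOf ⟨genericPoint N, hη⟩) = hW.fromSpec ⟨P, hP⟩ := by
        rw [hW.fromSpec_primeIdealOf, h]
      have h3 := hW.fromSpec.isOpenEmbedding.injective h2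
      rw [h1, genericPoint_eq_bot_of_affine] at h3
      exact (congrArg PrimeSpectrum.asIdeal h3).symm
    haveI := stalk_dvr ν hgen hbij hdim hic _ hpne
    let e : N.presheaf.stalk (hW.fromSpec ⟨P, hP⟩) ≃+* Localization.AtPrime P :=
      (IsLocalization.algEquiv P.primeCompl _ _).toRingEquiv
    exact IsDiscreteValuationRing.RingEquivClass.isDiscreteValuationRing e
  infer_instance

end



theorem finite_of_tower {A B K K' : Type*} [CommRing A] [CommRing B] [Field K] [Field K']
    (f : A →+* B) (g : A →+* K) (h : K →+* K') (r : B →+* K') (Q : Ideal B)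
    (hcomm : ∀ a, h (g a) = r (f a))
    (hQ : ∀ b ∈ Q, r b = 0)
    (hsurj : Function.Surjective r)
    (hfin : letI := f.toAlgebra; Module.Finite A (B ⧸ Q)) :
    letI := h.toAlgebra; Module.Finite K K' := by
  letI algAB : Algebra A B := f.toAlgebra
  letI algAK : Algebra A K := g.toAlgebra
  letI algKK' : Algebra K K' := h.toAlgebra
  letI algAK' : Algebra A K' := (h.comp g).toAlgebra
  haveI : IsScalarTower A K K' := IsScalarTower.of_algebraMap_eq (fun _ => rfl)
  haveI : Module.Finite A (B ⧸ Q) := hfin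
  let φ : B ⧸ Q →+* K' := Ideal.Quotient.lift Q r hQ
  let ψ : B ⧸ Q →ₗ[A] K' :=
    { toFun := φ
      map_add' := map_add φ
      map_smul' := by
        intro a z
        obtain ⟨b, rfl⟩ := Ideal.Quotient.mk_surjective z
        change φ (Ideal.Quotient.mk Q (f a * b)) = h (g a) * φ (Ideal.Quotient.mk Q b)
        simp only [φ, Ideal.Quotient.lift_mk, map_mul, hcomm] }
  have hψ : Function.Surjective ψ := by
    intro z
    obtain ⟨b, rfl⟩ := hsurj z
    exact ⟨Ideal.Quotient.mk Q b, by simp [ψ, φ]⟩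
  haveI : Module.Finite A K' := Module.Finite.of_surjective ψ hψ
  exact Module.Finite.of_restrictScalars_finite A K K'

theorem surjective_residue_comp {B S : Type*} [CommRing B] [CommRing S] [IsLocalRing S]
    [Algebra B S] (Q : Ideal B) [Q.IsMaximal] [IsLocalization.AtPrime S Q] :
    Function.Surjective ((IsLocalRing.residue S).comp (algebraMap B S)) := by
  intro z
  obtain ⟨w, hw⟩ := (IsLocalization.AtPrime.equivQuotMaximalIdeal Q S).surjective z
  obtain ⟨b, rfl⟩ := Ideal.Quotient.mk_surjective w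
  exact ⟨b, hw⟩

theorem residue_comp_eq_zero {B S : Type*} [CommRing B] [CommRing S] [IsLocalRing S]
    [Algebra B S] (Q : Ideal B) [Q.IsPrime] [IsLocalization.AtPrime S Q] (b : B) (hb : b ∈ Q) :
    (IsLocalRing.residue S).comp (algebraMap B S) b = 0 := by
  rw [RingHom.comp_apply, IsLocalRing.residue_eq_zero_iff]
  exact (IsLocalization.AtPrime.to_map_mem_maximal_iff S Q b).mpr hb


open Groth.Agent.Lib.Helper4.NormalizationField1

section
variable {N X : Scheme.{u}} [IsIntegral N] [IsIntegral X] [IsLocallyNoetherian X]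
    (ν : N ⟶ X) [IsAffineHom ν]
    (hgen : ν (genericPoint N) = genericPoint X)
    (hbij : Function.Bijective (ν.stalkMap (genericPoint N)).hom)
    (hdim : topologicalKrullDim X ≤ 1)
    (hic : ∀ (U : X.Opens), IsAffineOpen U → (U : Set X).Nonempty →
      ∀ _ : IsDomain Γ(N, ν ⁻¹ᵁ U), IsIntegrallyClosed Γ(N, ν ⁻¹ᵁ U))
include hgen hbij hdim hic

theorem finite_fibre (x : X) : Finite {x' : N // ν.base x' = x} := by
  obtain ⟨U, hU, hxU, -⟩ := exists_isAffineOpen_mem_and_subset (U := (⊤ : X.Opens)) (x := x) (by simp)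
  have hV : IsAffineOpen (ν ⁻¹ᵁ U) := hU.preimage ν
  obtain ⟨-, hfin, -⟩ := local_package ν hgen hbij U hU ⟨x, hxU⟩
    (ringKrullDim_le_of_affine hdim U hU) (hic U hU ⟨x, hxU⟩)
  have hfin' := hfin (hU.primeIdealOf ⟨x, hxU⟩).asIdeal inferInstance
  have hmem : ∀ x' : {x' : N // ν.base x' = x}, x'.1 ∈ ν ⁻¹ᵁ U := fun x' => by
    show ν.base x'.1 ∈ U
    rw [x'.2]; exact hxU
  have hcomap : ∀ x' : {x' : N // ν.base x' = x},
      (hV.primeIdealOf ⟨x'.1, hmem x'⟩).asIdeal.comap (ν.app U).hom =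
        (hU.primeIdealOf ⟨x, hxU⟩).asIdeal := by
    intro x'
    have h1 := IsAffineOpen.comap_primeIdealOf_appLE (f := ν) U hU (ν ⁻¹ᵁ U) hV le_rfl (hmem x')
    have h2 : hU.primeIdealOf ⟨ν x'.1, hmem x'⟩ = hU.primeIdealOf ⟨x, hxU⟩ := by
      congr 1
      exact Subtype.ext x'.2
    rw [h2, ← Scheme.Hom.app_eq_appLE] at h1
    exact congrArg PrimeSpectrum.asIdeal h1
  let φ : {x' : N // ν.base x' = x} →
      {Q : Ideal Γ(N, ν ⁻¹ᵁ U) | Q.IsPrime ∧ Q.comap (ν.app U).hom =
        (hU.primeIdealOf ⟨x, hxU⟩).asIdeal} :=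
    fun x' => ⟨(hV.primeIdealOf ⟨x'.1, hmem x'⟩).asIdeal, inferInstance, hcomap x'⟩
  haveI := hfin'.to_subtype
  apply Finite.of_injective φ
  intro x₁ x₂ h12
  have h3 : (hV.primeIdealOf ⟨x₁.1, hmem x₁⟩) = (hV.primeIdealOf ⟨x₂.1, hmem x₂⟩) :=
    PrimeSpectrum.ext (congrArg Subtype.val h12)
  have h4 := primeIdealOf_injective hV _ _ h3
  have h5 : x₁.1 = x₂.1 := congrArg (fun z : (ν ⁻¹ᵁ U : N.Opens) => (z.1 : N)) h4
  exact Subtype.ext h5

theorem finite_residue (x' : N) :
    letI := (ν.residueFieldMap x').hom.toAlgebra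
    Module.Finite (X.residueField (ν.base x')) (N.residueField x') := by
  by_cases hx' : x' = genericPoint N
  · have hb : Function.Bijective (ν.stalkMap x').hom :=
      bijective_stalkMap_congr_pt ν _ _ hx'.symm hbij
    have hb2 := bijective_residueFieldMap_of_bijective_stalkMap ν x' hb
    letI := (ν.residueFieldMap x').hom.toAlgebra
    exact Module.Finite.of_surjective (Algebra.linearMap _ _) hb2.2
  · obtain ⟨U, hU, hxU, -⟩ := exists_isAffineOpen_mem_and_subset (U := (⊤ : X.Opens))
      (x := ν x') (by simp)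
    have hV : IsAffineOpen (ν ⁻¹ᵁ U) := hU.preimage ν
    obtain ⟨-, -, hmax⟩ := local_package ν hgen hbij U hU ⟨_, hxU⟩
      (ringKrullDim_le_of_affine hdim U hU) (hic U hU ⟨_, hxU⟩)
    have hne := primeIdealOf_ne_bot hV ⟨x', hxU⟩ hx'
    obtain ⟨hQmax, hQfin⟩ := hmax _ inferInstance hne
    letI := N.presheaf.algebra_section_stalk (U := ν ⁻¹ᵁ U) ⟨x', hxU⟩
    haveI := hV.isLocalization_stalk ⟨x', hxU⟩
    refine finite_of_tower (ν.app U).hom
      ((X.residue (ν x')).hom.comp (X.presheaf.germ U (ν x') hxU).hom)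
      (ν.residueFieldMap x').hom
      ((IsLocalRing.residue (N.presheaf.stalk x')).comp
        (algebraMap Γ(N, ν ⁻¹ᵁ U) (N.presheaf.stalk x')))
      (hV.primeIdealOf ⟨x', hxU⟩).asIdeal ?_ ?_ ?_ hQfin
    · intro a
      have h1 := congrArg (fun φ => φ.hom ((X.presheaf.germ U (ν x') hxU).hom a))
        (Scheme.residue_residueFieldMap ν x')
      have h2 := Scheme.Hom.germ_stalkMap_apply ν U x' hxU a
      simp only [CommRingCat.hom_comp, RingHom.comp_apply] at h1 ⊢
      rw [h1]
      exact congrArg (N.residue x').hom h2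
    · intro b hb
      exact residue_comp_eq_zero _ b hb
    · exact surjective_residue_comp (hV.primeIdealOf ⟨x', hxU⟩).asIdeal

end


open Groth.Agent.Lib.Helper4.NormalizationField1 Groth.Agent.Lib.Helper4.NormalizationField2

theorem S7684_main (X : Scheme.{u}) [IsIntegral X] [IsLocallyNoetherian X]
    [QuasiCompact (X.fromSpecStalk (genericPoint X))] [QuasiSeparated (X.fromSpecStalk (genericPoint X))]
    (hdim : topologicalKrullDim X = 1) :
    (∀ x : X, Finite {x' : ↥(Curv2.normalization X) // (Curv2.normalizationι X).base x' = x}) ∧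
      (∀ x' : ↥(Curv2.normalization X),
        letI := ((Curv2.normalizationι X).residueFieldMap x').hom.toAlgebra
        Module.Finite (X.residueField ((Curv2.normalizationι X).base x')) ((Curv2.normalization X).residueField x')) ∧
      IsLocallyNoetherian (Curv2.normalization X) ∧
      (∀ U : (Curv2.normalization X).affineOpens, ((U : (Curv2.normalization X).Opens) : Set ↥(Curv2.normalization X)).Nonempty →
        IsDedekindDomain Γ(Curv2.normalization X, (U : (Curv2.normalization X).Opens))) := by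
  obtain ⟨hint, -, hgen, hbij⟩ := normalization_facts X
  change IsIntegral (Curv2.normalization X) at hint
  change (Curv2.normalizationι X) (genericPoint (Curv2.normalization X)) = genericPoint X at hgen
  change Function.Bijective ((Curv2.normalizationι X).stalkMap
    (genericPoint (Curv2.normalization X))).hom at hbij
  haveI : IsIntegralHom (Curv2.normalizationι X) := by
    change @IsIntegralHom (X.fromSpecStalk (genericPoint X)).normalization X
      (X.fromSpecStalk (genericPoint X)).fromNormalization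
    infer_instance
  haveI : IsAffineHom (Curv2.normalizationι X) := inferInstance
  have hdim' : topologicalKrullDim X ≤ 1 := hdim.le
  have hic : ∀ (U : X.Opens), IsAffineOpen U → (U : Set X).Nonempty →
      ∀ _ : IsDomain Γ(Curv2.normalization X, (Curv2.normalizationι X) ⁻¹ᵁ U),
        IsIntegrallyClosed Γ(Curv2.normalization X, (Curv2.normalizationι X) ⁻¹ᵁ U) := by
    intro U hU hne _
    have hL := isField_functionField X
    have hg := fromSpecStalk_genericPoint_apply X
    have hηU : genericPoint X ∈ U :=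
      ((genericPoint_spec X).mem_open_set_iff U.isOpen).mpr (by simpa using hne)
    have hF : IsField Γ(Spec (X.presheaf.stalk (genericPoint X)),
        (X.fromSpecStalk (genericPoint X)) ⁻¹ᵁ U) := by
      apply isField_sections_Spec _ hL
      haveI : Nonempty (Spec (X.presheaf.stalk (genericPoint X))) :=
        ⟨IsLocalRing.closedPoint _⟩
      refine ⟨Classical.arbitrary _, ?_⟩
      show (X.fromSpecStalk (genericPoint X)) _ ∈ U
      rw [hg]; exact hηU
    obtain ⟨_, h2⟩ := sections_normalization_of_isField (X.fromSpecStalk (genericPoint X)) hU hF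
    exact h2
  refine ⟨finite_fibre _ hgen hbij hdim' hic, finite_residue _ hgen hbij hdim' hic,
    isLocallyNoetherian_source _ hgen hbij hdim' hic, ?_⟩
  intro U hne
  exact dedekind_affine _ hgen hbij hdim' hic U.1 U.2 hne


end Groth.Agent.Lib.Helper4.NormDimOne1
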