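import Mathlib
import Groth.Agent.Lib.Helper4.NormalizationField2

/-!
# Function field of the normalization of an integral scheme in a field extension (helper4)
-/

set_option backward.isDefEq.respectTransparency.types false
set_option synthInstance.maxHeartbeats 400000
set_option autoImplicit false
set_option linter.unusedSectionVars false
set_option linter.style.haveILetI false
set_option linter.unusedSimpArgs false
universe u v w
open CategoryTheory CategoryTheory.Limits AlgebraicGeometry TopologicalSpace IsLocalRing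
open Groth.Agent.Lib.Helper4.NormalizationField1 Groth.Agent.Lib.Helper4.NormalizationField2

namespace Groth.Agent.Lib.Helper4.NormalizationField3

/-- Ring-level computation of the range of the function field of a normalization. -/
theorem range_eq_integral_of_fraction {A F B E K : Type*} [CommRing A] [IsDomain A] [Field F]
    [Algebra A F] [IsFractionRing A F] [CommRing B] [Field E] [Field K]
    (α : A →+* B) (δ : B →+* E) (ρ : E →+* K) (φ : F →+* K)
    (hδ : ∀ s : E, ∃ b c, IsUnit (δ c) ∧ s * δ c = δ b)
    (hΦ : ∀ a, ρ (δ (α a)) = φ (algebraMap A F a))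
    (ha : ∀ b, ((ρ.comp δ).comp α).IsIntegralElem (ρ (δ b)))
    (hb : ∀ y, ((ρ.comp δ).comp α).IsIntegralElem y → ∃ b, ρ (δ b) = y) :
    Set.range ρ = {y : K | φ.IsIntegralElem y} := by
  letI algFK : Algebra F K := φ.toAlgebra
  letI algAK : Algebra A K := ((ρ.comp δ).comp α).toAlgebra
  haveI : IsScalarTower A F K := IsScalarTower.of_algebraMap_eq (fun a => hΦ a)
  have hint_of : ∀ y : K, IsIntegral A y → IsIntegral F y := fun y hy => hy.tower_top
  ext y
  simp only [Set.mem_range, Set.mem_ofPred_eq]
  constructor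
  · rintro ⟨s, rfl⟩
    obtain ⟨b, c, hc, hs⟩ := hδ s
    have h1 : ρ s * ρ (δ c) = ρ (δ b) := by rw [← map_mul, hs]
    have hcu : IsUnit (ρ (δ c)) := hc.map ρ
    have h2 : ρ s = ρ (δ b) * (ρ (δ c))⁻¹ := by
      rw [← h1, mul_assoc, mul_inv_cancel₀ hcu.ne_zero, mul_one]
    have hb' : IsIntegral F (ρ (δ b)) := hint_of _ (ha b)
    have hc' : IsIntegral F (ρ (δ c)) := hint_of _ (ha c)
    show IsIntegral F (ρ s)
    rw [h2]
    exact hb'.mul hc'.inv
  · intro hy
    have hy' : IsIntegral F y := hy
    obtain ⟨⟨m, hm⟩, hmy⟩ :=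
      IsIntegral.exists_multiple_integral_of_isLocalization (nonZeroDivisors A) (Rₘ := F) y hy'
    have hmy' : IsIntegral A (algebraMap A K m * y) := by
      rw [← Algebra.smul_def]; exact hmy
    obtain ⟨b, hb1⟩ := hb _ hmy'
    have hm0 : m ≠ 0 := nonZeroDivisors.ne_zero hm
    have hΦm : ρ (δ (α m)) ≠ 0 := by
      rw [hΦ]
      exact (map_ne_zero_iff φ φ.injective).mpr
        ((map_ne_zero_iff _ (IsFractionRing.injective A F)).mpr hm0)
    have hδm : δ (α m) ≠ 0 := fun h => hΦm (by rw [h, map_zero])
    refine ⟨δ b * (δ (α m))⁻¹, ?_⟩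
    rw [map_mul, map_inv₀, hb1]
    show ρ (δ (α m)) * y * (ρ (δ (α m)))⁻¹ = y
    rw [mul_comm (ρ (δ (α m))) y, mul_assoc, mul_inv_cancel₀ hΦm, mul_one]



/-- (F2) The local homomorphism of a point `Spec K ⟶ X` through the generic point, on germs. -/
theorem stalkClosedPointTo_germ_of_eq {X : Scheme.{u}} [IsIntegral X] (K : Type u) [Field K]
    (φ : X.functionField →+* K) (g' : Spec (CommRingCat.of K) ⟶ X)
    (e : g' = Spec.map (CommRingCat.ofHom φ) ≫ X.fromSpecStalk (genericPoint X))
    (U : X.Opens) (hU' : g' (closedPoint K) ∈ U) (hηU : genericPoint X ∈ U) (a : Γ(X, U)) :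
    (Scheme.stalkClosedPointTo g').hom ((X.presheaf.germ U _ hU').hom a) =
      φ ((X.presheaf.germ U (genericPoint X) hηU).hom a) := by
  subst e
  haveI : IsLocalHom (CommRingCat.ofHom φ).hom := by
    show IsLocalHom φ
    infer_instance
  have := Scheme.germ_stalkClosedPointTo_Spec_fromSpecStalk (X := X) (x := genericPoint X)
    (CommRingCat.ofHom φ) U hU'
  exact congrArg (fun ψ => ψ.hom a) this



/-- Evaluation of sections of the spectrum of a local ring at the closed point. -/
noncomputable def evClosed (R : CommRingCat.{u}) [IsLocalRing R] (V : (Spec R).Opens)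
    (hV : closedPoint R ∈ V) : Γ(Spec R, V) ⟶ R :=
  (Spec R).presheaf.germ V (closedPoint R) hV ≫ (stalkClosedPointIso R).hom

theorem stalkClosedPointTo_germ_eq_evClosed {Z : Scheme.{u}} (R : CommRingCat.{u}) [IsLocalRing R]
    (f : Spec R ⟶ Z) (W : Z.Opens) (hW : f (closedPoint R) ∈ W) (V : (Spec R).Opens)
    (e : V ≤ f ⁻¹ᵁ W) (hV : closedPoint R ∈ V) (b : Γ(Z, W)) :
    (Scheme.stalkClosedPointTo f).hom ((Z.presheaf.germ W _ hW).hom b) =
      (evClosed R V hV).hom ((f.appLE W V e).hom b) := by
  have h1 : Z.presheaf.germ W _ hW ≫ Scheme.stalkClosedPointTo f =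
      f.appLE W V e ≫ evClosed R V hV := by
    rw [Scheme.stalkClosedPointTo, Scheme.Hom.germ_stalkMap_assoc, evClosed, Scheme.Hom.appLE,
      Category.assoc, TopCat.Presheaf.germ_res_assoc]
  exact congrArg (fun ψ => ψ.hom b) h1

theorem bijective_evClosed_of_isField (R : CommRingCat.{u}) [IsLocalRing R] (hR : IsField R)
    (V : (Spec R).Opens) (hV : closedPoint R ∈ V) :
    Function.Bijective (evClosed R V hV).hom := by
  haveI := subsingleton_Spec_of_isField R hR
  have hVtop : V = ⊤ := by
    ext t
    simp only [Opens.coe_top, Set.mem_univ, iff_true]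
    rw [Subsingleton.elim t (closedPoint R)]; exact hV
  subst hVtop
  have : evClosed R ⊤ hV = (Scheme.ΓSpecIso R).hom := germ_stalkClosedPointIso_hom R
  rw [this]
  exact (ConcreteCategory.isIso_iff_bijective _).mp inferInstance



theorem toNormalization_preimage_le {T X : Scheme.{u}} (g : T ⟶ X) [QuasiCompact g]
    [QuasiSeparated g] (U : X.Opens) :
    g ⁻¹ᵁ U ≤ g.toNormalization ⁻¹ᵁ g.fromNormalization ⁻¹ᵁ U := by
  simp [← Scheme.Hom.comp_preimage]

/-- Integral sections of the source come from sections of the normalization. -/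
theorem exists_section_normalization_of_isIntegral {T X : Scheme.{u}} (g : T ⟶ X) [QuasiCompact g]
    [QuasiSeparated g] {U : X.Opens} (hU : IsAffineOpen U) (r : Γ(T, g ⁻¹ᵁ U))
    (hr : (g.app U).hom.IsIntegralElem r) :
    ∃ b : Γ(g.normalization, g.fromNormalization ⁻¹ᵁ U),
      (g.toNormalization.appLE (g.fromNormalization ⁻¹ᵁ U) (g ⁻¹ᵁ U)
        (toNormalization_preimage_le g U)).hom b = r := by
  letI alg : Algebra Γ(X, U) Γ(T, g ⁻¹ᵁ U) := (g.app U).hom.toAlgebra
  have hr' : r ∈ integralClosure Γ(X, U) Γ(T, g ⁻¹ᵁ U) := hr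
  refine ⟨(g.normalizationObjIso hU).inv.hom ⟨r, hr'⟩, ?_⟩
  have h1 := g.normalizationObjIso_hom_val hU
  have h2 := congrArg (fun ψ => ψ.hom ((g.normalizationObjIso hU).inv.hom ⟨r, hr'⟩)) h1
  simp only [CommRingCat.hom_comp, RingHom.coe_comp, Function.comp_apply] at h2
  rw [← h2]
  have h3 : (g.normalizationObjIso hU).hom.hom ((g.normalizationObjIso hU).inv.hom ⟨r, hr'⟩) =
      ⟨r, hr'⟩ := by
    have := congrArg (fun ψ => ψ.hom ⟨r, hr'⟩) (g.normalizationObjIso hU).inv_hom_id
    simp
  rw [h3]
  rfl

theorem fromNormalization_app_toNormalization_appLE {T X : Scheme.{u}} (g : T ⟶ X)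
    [QuasiCompact g] [QuasiSeparated g] {U : X.Opens} (hU : IsAffineOpen U) (a : Γ(X, U)) :
    (g.toNormalization.appLE (g.fromNormalization ⁻¹ᵁ U) (g ⁻¹ᵁ U)
      (toNormalization_preimage_le g U)).hom ((g.fromNormalization.app U).hom a) =
      (g.app U).hom a := by
  letI alg : Algebra Γ(X, U) Γ(T, g ⁻¹ᵁ U) := (g.app U).hom.toAlgebra
  have h1 := g.normalizationObjIso_hom_val hU
  have h0 := g.fromNormalization_app hU
  rw [← h1, h0]
  simp only [CommRingCat.hom_comp, RingHom.coe_comp, Function.comp_apply]
  have h3 : ∀ z, (g.normalizationObjIso hU).hom.hom ((g.normalizationObjIso hU).inv.hom z) = z := by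
    intro z
    have := congrArg (fun ψ => ψ.hom z) (g.normalizationObjIso hU).inv_hom_id
    simp
  rw [h3]
  rfl



/-- The function field of the normalization of `X` in a field `K` is the algebraic closure of the
function field of `X` in `K`. -/
theorem range_stalkClosedPointTo_toNormalization (X : Scheme.{u}) [IsIntegral X] (K : Type u)
    [Field K] (φ : X.functionField →+* K) (g : Spec (CommRingCat.of K) ⟶ X)
    (hg : g = Spec.map (CommRingCat.ofHom φ) ≫ X.fromSpecStalk (genericPoint X))
    [QuasiCompact g] [QuasiSeparated g] :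
    Set.range (Scheme.stalkClosedPointTo g.toNormalization).hom =
      {y : K | ∃ q : Polynomial X.functionField, q.Monic ∧ Polynomial.eval₂ φ y q = 0} := by
  have hL : IsField (CommRingCat.of K) := (inferInstance : Field K).toIsField
  haveI hNint := isIntegral_normalization_of_isField (CommRingCat.of K) hL g
  -- the point
  have hgpt : g (closedPoint K) = genericPoint X := by
    rw [hg, Scheme.Hom.comp_apply]
    exact fromSpecStalk_genericPoint_apply X _
  -- an affine open
  obtain ⟨U, hU, hηU, -⟩ := Opens.isBasis_iff_nbhd.mp X.isBasis_affineOpens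
    (show genericPoint X ∈ (⊤ : X.Opens) from trivial)
  haveI : Nonempty U := ⟨⟨_, hηU⟩⟩
  let ι := g.toNormalization
  let π := g.fromNormalization
  let W : g.normalization.Opens := π ⁻¹ᵁ U
  have hW : IsAffineOpen W := hU.preimage π
  let η' := ι (closedPoint K)
  have hπη' : π η' = genericPoint X := by
    show (ι ≫ π) (closedPoint K) = _
    rw [show ι ≫ π = g from g.toNormalization_fromNormalization, hgpt]
  have hη'W : η' ∈ W := by show π η' ∈ U; rw [hπη']; exact hηU
  have hη'gen : η' = genericPoint g.normalization :=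
    toNormalization_eq_genericPoint _ hL g _
  -- the stalk at η' is a field
  have hF : IsField (g.normalization.presheaf.stalk η') := by
    apply isField_stalk_of_closure_mem_irreducibleComponents
    rw [hη'gen, irreducibleComponents_eq_singleton, Set.mem_singleton_iff]
    exact (genericPoint_spec g.normalization).def
  letI fldE : Field (g.normalization.presheaf.stalk η') := hF.toField
  haveI : IsFractionRing Γ(X, U) X.functionField :=
    functionField_isFractionRing_of_isAffineOpen X U hU
  let ρ := Scheme.stalkClosedPointTo ι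
  let δ := g.normalization.presheaf.germ W η' hη'W
  let V' : (Spec (CommRingCat.of K)).Opens := g ⁻¹ᵁ U
  have hV' : closedPoint K ∈ V' := by show g _ ∈ U; rw [hgpt]; exact hηU
  have hθ := bijective_evClosed_of_isField (CommRingCat.of K) hL V' hV'
  have hρδ : ∀ b, ρ.hom (δ.hom b) = (evClosed (CommRingCat.of K) V' hV').hom
      ((ι.appLE W V' (toNormalization_preimage_le g U)).hom b) :=
    fun b => stalkClosedPointTo_germ_eq_evClosed (CommRingCat.of K) ι W hη'W V' _ hV' b
  have hΦ : ∀ a : Γ(X, U), ρ.hom (δ.hom ((π.app U).hom a)) =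
      φ (algebraMap Γ(X, U) X.functionField a) := by
    intro a
    have h1 : X.presheaf.germ U (π η') hη'W ≫ π.stalkMap η' = π.app U ≫ δ :=
      Scheme.Hom.germ_stalkMap π U η' hη'W
    have h2 : Scheme.stalkClosedPointTo (ι ≫ π) = π.stalkMap η' ≫ ρ :=
      Scheme.stalkClosedPointTo_comp ι π
    have h3 : ρ.hom (δ.hom ((π.app U).hom a)) =
        (Scheme.stalkClosedPointTo (ι ≫ π)).hom ((X.presheaf.germ U (π η') hη'W).hom a) := by
      rw [h2]
      have := congrArg (fun ψ => ρ.hom (ψ.hom a)) h1
      simp only [CommRingCat.hom_comp, RingHom.coe_comp, Function.comp_apply] at this ⊢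
      exact this.symm
    rw [h3]
    exact stalkClosedPointTo_germ_of_eq K φ (ι ≫ π)
      ((g.toNormalization_fromNormalization).trans hg) U hη'W hηU a
  have hset : {y : K | ∃ q : Polynomial X.functionField, q.Monic ∧ Polynomial.eval₂ φ y q = 0} =
      {y : K | φ.IsIntegralElem y} := rfl
  rw [hset]
  refine range_eq_integral_of_fraction (π.app U).hom δ.hom ρ.hom φ ?_ hΦ ?_ ?_
  · -- localization
    intro s
    letI algN := g.normalization.presheaf.algebra_section_stalk (U := W) ⟨η', hη'W⟩
    haveI hloc : IsLocalization.AtPrime (g.normalization.presheaf.stalk η')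
        (hW.primeIdealOf ⟨η', hη'W⟩).asIdeal := hW.isLocalization_stalk ⟨η', hη'W⟩
    obtain ⟨⟨b, c⟩, rfl⟩ := IsLocalization.mk'_surjective
      (hW.primeIdealOf ⟨η', hη'W⟩).asIdeal.primeCompl s
    refine ⟨b, c.1, IsLocalization.map_units _ c, ?_⟩
    exact IsLocalization.mk'_spec _ b c
  · -- integrality of sections
    intro b
    have hint : (π.app U).hom.IsIntegral := IsIntegralHom.isIntegral_app π U hU
    obtain ⟨p, hp, hpb⟩ := hint b
    refine ⟨p, hp, ?_⟩
    have : Polynomial.eval₂ ((ρ.hom.comp δ.hom).comp (π.app U).hom) ((ρ.hom.comp δ.hom) b) p =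
        (ρ.hom.comp δ.hom) (Polynomial.eval₂ (π.app U).hom b p) :=
      (Polynomial.hom_eval₂ p (π.app U).hom (ρ.hom.comp δ.hom) b).symm
    rw [hpb, map_zero] at this
    exact this
  · -- integral elements come from sections
    intro y hy
    obtain ⟨r, rfl⟩ := hθ.2 y
    obtain ⟨p, hp, hpy⟩ := hy
    have hcomp : (ρ.hom.comp δ.hom).comp (π.app U).hom =
        (evClosed (CommRingCat.of K) V' hV').hom.comp (g.app U).hom := by
      ext a
      show ρ.hom (δ.hom ((π.app U).hom a)) = _
      rw [hρδ, fromNormalization_app_toNormalization_appLE g hU a]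
      rfl
    rw [hcomp, ← Polynomial.hom_eval₂] at hpy
    have hr : (g.app U).hom.IsIntegralElem r :=
      ⟨p, hp, hθ.1 (by rw [hpy, map_zero])⟩
    obtain ⟨b, hb⟩ := exists_section_normalization_of_isIntegral g hU r hr
    exact ⟨b, by rw [hρδ, hb]⟩



theorem S4448_main (X : Scheme.{u}) [IsIntegral X] (K : Type u) [Field K]
    (φ : X.functionField →+* K) (g : Spec (CommRingCat.of K) ⟶ X)
    (hg : g = Spec.map (CommRingCat.ofHom φ) ≫ X.fromSpecStalk (genericPoint X))
    [QuasiCompact g] [QuasiSeparated g] :
    ∃ (_ : IsIntegral g.normalization), Pi1.IsNormalScheme g.normalization ∧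
      g.fromNormalization.base ⁻¹' {genericPoint X} = {genericPoint g.normalization} ∧
      g.toNormalization.base (IsLocalRing.closedPoint K) = genericPoint g.normalization ∧
      Function.Injective (Scheme.stalkClosedPointTo g.toNormalization).hom ∧
      Set.range (Scheme.stalkClosedPointTo g.toNormalization).hom =
        {y : K | ∃ q : Polynomial X.functionField, q.Monic ∧ Polynomial.eval₂ φ y q = 0} := by
  have hL : IsField (CommRingCat.of K) := (inferInstance : Field K).toIsField
  have hNint := isIntegral_normalization_of_isField (CommRingCat.of K) hL g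
  have hgpt : ∀ t, g t = genericPoint X := by
    intro t
    rw [hg, Scheme.Hom.comp_apply]
    exact fromSpecStalk_genericPoint_apply X _
  have hη' := toNormalization_eq_genericPoint _ hL g (closedPoint K)
  refine ⟨hNint, ?_, ?_, hη', ?_, range_stalkClosedPointTo_toNormalization X K φ g hg⟩
  · refine isNormalScheme_normalization_of_isField _ hL g ?_
    intro t U hU
    rw [hgpt]
    exact ((genericPoint_spec X).mem_open_set_iff U.isOpen).mpr (by simpa using hU)
  · exact fiber_genericPoint_of_isIntegralHom g.fromNormalization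
      (fromNormalization_genericPoint _ hL g hgpt)
  · have hF : IsField (g.normalization.presheaf.stalk (g.toNormalization (closedPoint K))) := by
      apply isField_stalk_of_closure_mem_irreducibleComponents
      rw [hη', irreducibleComponents_eq_singleton, Set.mem_singleton_iff]
      exact (genericPoint_spec g.normalization).def
    letI := hF.toField
    exact (Scheme.stalkClosedPointTo g.toNormalization).hom.injective


end Groth.Agent.Lib.Helper4.NormalizationField3
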