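import Mathlib
import Groth.Prelude.Def_Pi1
import Groth.Prelude.Def_Curv2
import Groth.Agent.Lib.Helper4.Japanese1
import Groth.Agent.Lib.Helper4.NormalizationField1
import Groth.Agent.Lib.Helper4.NormalizationField2
import Groth.Agent.Lib.Helper4.NormalizationField3
import Groth.Agent.Lib.Helper4.NormDimOne1

/-!
# Finiteness of normalization for integral schemes locally of finite type over a field; applications (helper4)
-/

set_option backward.isDefEq.respectTransparency.types false
set_option synthInstance.maxHeartbeats 400000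
set_option autoImplicit false
set_option linter.unusedSectionVars false
set_option linter.style.haveILetI false
set_option linter.unusedSimpArgs false
universe u v w
open CategoryTheory CategoryTheory.Limits AlgebraicGeometry TopologicalSpace IsLocalRing

namespace Groth.Agent.Lib.Helper4.Japanese2
open Groth.Agent.Lib.Helper4.NormalizationField1 Groth.Agent.Lib.Helper4.NormalizationField3
open Groth.Agent.Lib.Helper4.Japanese1

/-- transport of the finiteness of the integral closure along an isomorphism of the big ring -/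
theorem finite_integralClosure_transport (k A F K L : Type u) [Field k] [CommRing A] [IsDomain A]
    [Algebra k A] [Algebra.FiniteType k A] [Field F] [Algebra A F] [IsFractionRing A F] [Field K]
    (φ : F →+* K) (hφ : φ.Finite) [CommRing L] [Algebra A L] (ev : L →+* K)
    (hev : Function.Bijective ev)
    (hcomm : ∀ a : A, ev (algebraMap A L a) = φ (algebraMap A F a)) :
    Module.Finite A (integralClosure A L) := by
  letI algFK : Algebra F K := φ.toAlgebra
  haveI : FiniteDimensional F K := hφ
  letI algAK : Algebra A K := (φ.comp (algebraMap A F)).toAlgebra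
  haveI : IsScalarTower A F K := IsScalarTower.of_algebraMap_eq (fun _ => rfl)
  haveI h1 : Module.Finite A (integralClosure A K) := finite_integralClosure_of_finiteType k A F K
  let e : L ≃ₐ[A] K :=
    { RingEquiv.ofBijective ev hev with
      commutes' := fun a => hcomm a }
  let ψ : integralClosure A K →ₗ[A] integralClosure A L :=
    { toFun := fun x => ⟨e.symm x.1, x.2.map e.symm.toAlgHom⟩
      map_add' := fun x y => Subtype.ext (map_add e.symm x.1 y.1)
      map_smul' := fun r x => Subtype.ext (map_smul e.symm r x.1) }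
  have hψ : Function.Surjective ψ := by
    intro y
    refine ⟨⟨e y.1, y.2.map e.toAlgHom⟩, ?_⟩
    apply Subtype.ext
    exact e.symm_apply_apply y.1
  exact Module.Finite.of_surjective ψ hψ

theorem isFinite_fromNormalization_of_finite {T X : Scheme.{u}} (g : T ⟶ X) [QuasiCompact g]
    [QuasiSeparated g]
    (h : ∀ U : X.Opens, IsAffineOpen U → letI := (g.app U).hom.toAlgebra
      Module.Finite Γ(X, U) (integralClosure Γ(X, U) Γ(T, g ⁻¹ᵁ U))) :
    IsFinite g.fromNormalization := by
  refine ⟨fun U hU => ?_⟩
  letI := (g.app U).hom.toAlgebra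
  haveI := h U hU
  rw [g.fromNormalization_app hU]
  rw [CommRingCat.hom_comp]
  refine RingHom.Finite.comp ?_ ?_
  · exact RingHom.Finite.of_surjective _
      ((ConcreteCategory.isIso_iff_bijective (g.normalizationObjIso hU).inv).mp inferInstance).2
  · change (algebraMap Γ(X, U) (integralClosure Γ(X, U) Γ(T, g ⁻¹ᵁ U))).Finite
    exact RingHom.finite_algebraMap.mpr inferInstance

theorem finiteType_sections_over_field (k : Type u) [Field k] (X : Scheme.{u})
    (s : X ⟶ Spec (CommRingCat.of k)) [LocallyOfFiniteType s] (U : X.Opens) (hU : IsAffineOpen U) :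
    ∃ (_ : Algebra k Γ(X, U)), Algebra.FiniteType k Γ(X, U) := by
  let ρ : k →+* Γ(X, U) :=
    (s.appLE ⊤ U le_top).hom.comp (Scheme.ΓSpecIso (CommRingCat.of k)).inv.hom
  refine ⟨ρ.toAlgebra, ?_⟩
  letI := ρ.toAlgebra
  have h1 : (s.appLE ⊤ U le_top).hom.FiniteType :=
    HasRingHomProperty.appLE (P := @LocallyOfFiniteType) s inferInstance
      ⟨⊤, isAffineOpen_top _⟩ ⟨U, hU⟩ le_top
  have h2 : (Scheme.ΓSpecIso (CommRingCat.of k)).inv.hom.FiniteType :=
    RingHom.FiniteType.of_surjective _
      ((ConcreteCategory.isIso_iff_bijective (Scheme.ΓSpecIso (CommRingCat.of k)).inv).mp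
        inferInstance).2
  have h3 : ρ.FiniteType := h1.comp h2
  exact RingHom.finiteType_algebraMap.mp h3


open Groth.Agent.Lib.Helper4.NormalizationField1 Groth.Agent.Lib.Helper4.NormalizationField3
open Groth.Agent.Lib.Helper4.Japanese1

theorem isFinite_fromNormalization_of_field (k : Type u) [Field k] (X : Scheme.{u})
    (s : X ⟶ Spec (CommRingCat.of k)) [LocallyOfFiniteType s] [IsIntegral X]
    (K : Type u) [Field K] (φ : X.functionField →+* K) (hφ : φ.Finite)
    (g : Spec (CommRingCat.of K) ⟶ X)
    (hg : g = Spec.map (CommRingCat.ofHom φ) ≫ X.fromSpecStalk (genericPoint X))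
    [QuasiCompact g] [QuasiSeparated g] :
    IsFinite g.fromNormalization := by
  apply isFinite_fromNormalization_of_finite
  intro U hU
  letI algAL : Algebra Γ(X, U) Γ(Spec (CommRingCat.of K), g ⁻¹ᵁ U) := (g.app U).hom.toAlgebra
  by_cases hne : (U : Set X).Nonempty
  · have hηU : genericPoint X ∈ U :=
      ((genericPoint_spec X).mem_open_set_iff U.isOpen).mpr (by simpa using hne)
    haveI : Nonempty U := ⟨⟨_, hηU⟩⟩
    haveI : IsDomain Γ(X, U) := inferInstance
    haveI := functionField_isFractionRing_of_isAffineOpen X U hU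
    obtain ⟨algk, hft⟩ := finiteType_sections_over_field k X s U hU
    letI := algk
    haveI := hft
    have hgpt : g (closedPoint K) = genericPoint X := by
      rw [hg]
      exact fromSpecStalk_genericPoint_apply X _
    have hV : closedPoint (CommRingCat.of K) ∈ g ⁻¹ᵁ U := by
      show g (closedPoint K) ∈ U
      rw [hgpt]; exact hηU
    have hU' : g (closedPoint K) ∈ U := hV
    have hKf : IsField (CommRingCat.of K) := (inferInstance : Field K).toIsField
    refine finite_integralClosure_transport k Γ(X, U) X.functionField K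
      Γ(Spec (CommRingCat.of K), g ⁻¹ᵁ U) φ hφ
      (evClosed (CommRingCat.of K) (g ⁻¹ᵁ U) hV).hom
      (bijective_evClosed_of_isField _ hKf _ hV) ?_
    intro a
    have h1 := stalkClosedPointTo_germ_eq_evClosed (CommRingCat.of K) g U hU' (g ⁻¹ᵁ U) le_rfl hV a
    have h2 := stalkClosedPointTo_germ_of_eq K φ g hg U hU' hηU a
    rw [h1] at h2
    rw [← Scheme.Hom.app_eq_appLE] at h2
    exact h2
  · have hUbot : U = ⊥ := by
      ext x
      simp only [Opens.coe_bot, Set.mem_empty_iff_false, iff_false]
      exact fun hx => hne ⟨x, hx⟩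
    haveI : Subsingleton Γ(Spec (CommRingCat.of K), g ⁻¹ᵁ U) := by
      rw [hUbot]
      have : g ⁻¹ᵁ (⊥ : X.Opens) = ⊥ := rfl
      rw [this]
      infer_instance
    haveI : Subsingleton (integralClosure Γ(X, U) Γ(Spec (CommRingCat.of K), g ⁻¹ᵁ U)) :=
      inferInstance
    exact Module.Finite.of_finite



/-- heights do not go up when contracting along an integral ring map. -/
theorem height_le_height_comap_of_isIntegral {A B : Type*} [CommRing A] [CommRing B]
    (f : A →+* B) (hf : f.IsIntegral) (Q : Ideal B) [Q.IsPrime] :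
    Q.height ≤ (Q.comap f).height := by
  letI := f.toAlgebra
  have hsm : StrictMono (PrimeSpectrum.comap f) := by
    intro q₁ q₂ h12
    have hle : q₁.asIdeal ≤ q₂.asIdeal := h12.le
    have hne : ¬ q₂.asIdeal ≤ q₁.asIdeal := fun h => (not_le_of_gt h12) h
    obtain ⟨x, hx2, hx1⟩ := Set.not_subset.mp hne
    have := Ideal.comap_lt_comap_of_integral_mem_sdiff (R := A) hle ⟨hx2, hx1⟩ (hf x)
    exact this
  have h := Order.height_le_height_apply_of_strictMono _ hsm ⟨Q, inferInstance⟩
  rw [← PrimeSpectrum.height_eq_orderHeight, ← PrimeSpectrum.height_eq_orderHeight] at h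
  exact h

theorem height_eq_one_of_isIntegral {A B : Type*} [CommRing A] [CommRing B] [IsDomain B]
    (f : A →+* B) (hf : f.IsIntegral) (Q : Ideal B) [Q.IsPrime] (hQ : Q ≠ ⊥)
    (hP : (Q.comap f).height = 1) : Q.height = 1 := by
  apply le_antisymm
  · exact hP ▸ height_le_height_comap_of_isIntegral f hf Q
  · rw [Order.one_le_iff_ne_zero]
    intro h0
    exact hQ (Ideal.height_eq_zero_iff_eq_bot.mp h0)


open Groth.Agent.Lib.Helper4.NormalizationField1 Groth.Agent.Lib.Helper4.NormalizationField3
open Groth.Agent.Lib.Helper4.Japanese1 Groth.Agent.Lib.Helper4.NormDimOne1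

/-- dimension one at closed points passes to an integral scheme integral over the base with closed
structure map, as long as generic points correspond. -/
theorem dim_stalk_eq_one_of_isIntegralHom {N X : Scheme.{u}} [IsIntegral N] [IsIntegral X]
    (ν : N ⟶ X) [IsIntegralHom ν]
    (hgen : ν (genericPoint N) = genericPoint X)
    (hX : ∀ x : X, IsClosed ({x} : Set X) → ringKrullDim (X.presheaf.stalk x) = 1)
    (x' : N) (hx' : IsClosed ({x'} : Set N)) :
    ringKrullDim (N.presheaf.stalk x') = 1 := by
  have hcl : IsClosed ({ν x'} : Set X) := by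
    have := ν.isClosedMap _ hx'
    rwa [Set.image_singleton] at this
  have hdimx := hX _ hcl
  have hne : x' ≠ genericPoint N := by
    intro h
    rw [h, hgen] at hdimx
    have : ringKrullDim (X.presheaf.stalk (genericPoint X)) = 0 := by
      change ringKrullDim X.functionField = 0
      exact ringKrullDim_eq_zero_of_field _
    rw [this] at hdimx
    exact zero_ne_one hdimx
  obtain ⟨U, hU, hxU, -⟩ := exists_isAffineOpen_mem_and_subset (U := (⊤ : X.Opens))
    (x := ν x') (by simp)
  have hV : IsAffineOpen (ν ⁻¹ᵁ U) := hU.preimage ν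
  haveI : Nonempty (ν ⁻¹ᵁ U : N.Opens) := ⟨⟨x', hxU⟩⟩
  haveI : IsDomain Γ(N, ν ⁻¹ᵁ U) := inferInstance
  letI := N.presheaf.algebra_section_stalk (U := ν ⁻¹ᵁ U) ⟨x', hxU⟩
  haveI := hV.isLocalization_stalk ⟨x', hxU⟩
  letI := X.presheaf.algebra_section_stalk (U := U) ⟨ν x', hxU⟩
  haveI := hU.isLocalization_stalk ⟨ν x', hxU⟩
  have h1 := IsLocalization.AtPrime.ringKrullDim_eq_height
    (hV.primeIdealOf ⟨x', hxU⟩).asIdeal (N.presheaf.stalk x')
  have h2 := IsLocalization.AtPrime.ringKrullDim_eq_height
    (hU.primeIdealOf ⟨ν x', hxU⟩).asIdeal (X.presheaf.stalk (ν x'))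
  rw [h1]
  rw [h2] at hdimx
  have hcomap : (hV.primeIdealOf ⟨x', hxU⟩).asIdeal.comap (ν.app U).hom =
      (hU.primeIdealOf ⟨ν x', hxU⟩).asIdeal := by
    have h3 := IsAffineOpen.comap_primeIdealOf_appLE (f := ν) U hU (ν ⁻¹ᵁ U) hV le_rfl
      (show x' ∈ ν ⁻¹ᵁ U from hxU)
    rw [← Scheme.Hom.app_eq_appLE] at h3
    exact congrArg PrimeSpectrum.asIdeal h3
  have hQne := primeIdealOf_ne_bot hV ⟨x', hxU⟩ hne
  have hint : (ν.app U).hom.IsIntegral := IsIntegralHom.isIntegral_app ν U hU
  have hP1 : ((hV.primeIdealOf ⟨x', hxU⟩).asIdeal.comap (ν.app U).hom).height = 1 := by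
    rw [hcomap]
    exact_mod_cast hdimx
  have := height_eq_one_of_isIntegral (ν.app U).hom hint _ hQne hP1
  rw [this]
  rfl


open Groth.Agent.Lib.Helper4.NormalizationField1 Groth.Agent.Lib.Helper4.NormalizationField3
open Groth.Agent.Lib.Helper4.Japanese1 Groth.Agent.Lib.Helper4.NormDimOne1

theorem S4454_main (k : Type u) [Field k] (X : Scheme.{u})
    [X.Over (Spec (CommRingCat.of k))] [LocallyOfFiniteType (X ↘ (Spec (CommRingCat.of k)))]
    [IsIntegral X]
    (hX : ∀ x : X, IsClosed ({x} : Set X) → ringKrullDim (X.presheaf.stalk x) = 1)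
    (K : Type u) [Field K] (φ : X.functionField →+* K) (hφ : φ.Finite) (g : Spec (CommRingCat.of K) ⟶ X)
    (hg : g = Spec.map (CommRingCat.ofHom φ) ≫ X.fromSpecStalk (genericPoint X)) [QuasiCompact g] [QuasiSeparated g] :
    IsFinite g.fromNormalization ∧ Pi1.IsNormalScheme g.normalization ∧
      ∀ x' : g.normalization, IsClosed ({x'} : Set g.normalization) → ringKrullDim (g.normalization.presheaf.stalk x') = 1 := by
  have hKf : IsField (CommRingCat.of K) := (inferInstance : Field K).toIsField
  have hgpt : ∀ t, g t = genericPoint X := by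
    intro t
    rw [hg]
    exact fromSpecStalk_genericPoint_apply X _
  haveI hint := isIntegral_normalization_of_isField (CommRingCat.of K) hKf g
  refine ⟨isFinite_fromNormalization_of_field k X (X ↘ (Spec (CommRingCat.of k))) K φ hφ g hg, ?_, ?_⟩
  · refine isNormalScheme_normalization_of_isField (CommRingCat.of K) hKf g ?_
    intro t U hU
    rw [hgpt]
    exact ((genericPoint_spec X).mem_open_set_iff U.isOpen).mpr (by simpa using hU)
  · intro x' hx'
    exact dim_stalk_eq_one_of_isIntegralHom g.fromNormalization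
      (fromNormalization_genericPoint (CommRingCat.of K) hKf g hgpt) hX x' hx'



/-- common denominator for a finite birational extension -/
theorem exists_common_denominator {A B : Type*} [CommRing A] [IsDomain A] [CommRing B]
    (f : A →+* B) (hfin : f.Finite)
    (hfrac : ∀ b : B, ∃ a s : A, s ≠ 0 ∧ f s * b = f a) :
    ∃ s : A, s ≠ 0 ∧ ∀ b : B, ∃ a : A, f s * b = f a := by
  classical
  letI := f.toAlgebra
  haveI : Module.Finite A B := hfin
  obtain ⟨T, hT⟩ := (Module.finite_def.mp (inferInstance : Module.Finite A B))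
  choose a s hs hsa using hfrac
  refine ⟨∏ t ∈ T, s t, Finset.prod_ne_zero_iff.mpr (fun t _ => hs t), ?_⟩
  intro b
  have hb : b ∈ Submodule.span A (T : Set B) := by rw [hT]; trivial
  induction hb using Submodule.span_induction with
  | mem t ht =>
    refine ⟨(∏ t' ∈ T.erase t, s t') * a t, ?_⟩
    rw [← Finset.mul_prod_erase T s ht, map_mul, map_mul, ← hsa t]
    ring
  | zero => exact ⟨0, by simp⟩
  | add x y _ _ hx hy =>
    obtain ⟨ax, hax⟩ := hx
    obtain ⟨ay, hay⟩ := hy
    exact ⟨ax + ay, by rw [mul_add, hax, hay, map_add]⟩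
  | smul c x _ hx =>
    obtain ⟨ax, hax⟩ := hx
    refine ⟨c * ax, ?_⟩
    rw [Algebra.smul_def, map_mul, ← hax]
    change f (∏ t ∈ T, s t) * (f c * x) = f c * (f (∏ t ∈ T, s t) * x)
    ring

theorem away_map_bijective {A B A' B' : Type*} [CommRing A] [CommRing B] [CommRing A']
    [CommRing B'] [Algebra A A'] [Algebra B B'] (f : A →+* B) (s : A)
    [IsLocalization.Away s A'] [IsLocalization.Away (f s) B'] (hinj : Function.Injective f)
    (hsurj : ∀ b : B, ∃ a : A, f s * b = f a) :
    Function.Bijective (IsLocalization.Away.map A' B' f s) := by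
  have hmap : ∀ a : A, IsLocalization.Away.map A' B' f s (algebraMap A A' a) =
      algebraMap B B' (f a) := fun a => IsLocalization.map_eq _ a
  constructor
  · rw [injective_iff_map_eq_zero]
    intro x hx
    obtain ⟨n, a, ha⟩ := IsLocalization.Away.surj s x
    have h1 : algebraMap B B' (f a) = 0 := by
      rw [← hmap, ← ha, map_mul, hx, zero_mul]
    obtain ⟨⟨c, m, rfl⟩, hc⟩ := (IsLocalization.map_eq_zero_iff (Submonoid.powers (f s)) B' _).mp h1
    have h2 : f (s ^ m * a) = 0 := by rw [map_mul, map_pow]; exact hc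
    have h3 : s ^ m * a = 0 := hinj (by rw [h2, map_zero])
    have h4 : algebraMap A A' (s ^ m) * algebraMap A A' a = 0 := by rw [← map_mul, h3, map_zero]
    have hu : IsUnit (algebraMap A A' s) := IsLocalization.Away.algebraMap_isUnit s
    have h5 : algebraMap A A' a = 0 := by
      rw [map_pow] at h4
      exact (hu.pow m).mul_right_eq_zero.mp h4
    rw [h5] at ha
    exact (hu.pow n).mul_left_eq_zero.mp ha
  · intro z
    obtain ⟨n, b, hb⟩ := IsLocalization.Away.surj (f s) z
    obtain ⟨a, ha⟩ := hsurj b
    have hu : IsUnit (algebraMap A A' s) := IsLocalization.Away.algebraMap_isUnit s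
    obtain ⟨v, hv⟩ := hu
    refine ⟨algebraMap A A' a * ((v⁻¹ : A'ˣ) : A') ^ (n + 1), ?_⟩
    have hv' : IsLocalization.Away.map A' B' f s (v : A') = algebraMap B B' (f s) := by
      rw [hv]; exact hmap s
    have hvinv : IsLocalization.Away.map A' B' f s ((v⁻¹ : A'ˣ) : A') * algebraMap B B' (f s) = 1 := by
      rw [← hv', ← map_mul, Units.inv_mul, map_one]
    have hu' : IsUnit (algebraMap B B' (f s)) := IsLocalization.Away.algebraMap_isUnit (f s)
    apply (hu'.pow (n + 1)).mul_left_injective
    rw [map_mul, map_pow, hmap]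
    show algebraMap B B' (f a) * (IsLocalization.Away.map A' B' f s) ↑v⁻¹ ^ (n + 1) *
      algebraMap B B' (f s) ^ (n + 1) = z * algebraMap B B' (f s) ^ (n + 1)
    rw [mul_assoc, ← mul_pow, hvinv, one_pow, mul_one, ← ha, map_mul,
      pow_succ, ← mul_assoc, hb]
    ring


open Groth.Agent.Lib.Helper4.NormDimOne1

section
variable {N X : Scheme.{u}} [IsIntegral N] [IsIntegral X] (ν : N ⟶ X)
    (hgen : ν (genericPoint N) = genericPoint X)
    (hbij : Function.Bijective (ν.stalkMap (genericPoint N)).hom)
    (U : X.Opens) (hU : IsAffineOpen U) (hne : (U : Set X).Nonempty)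
include hgen hbij hU hne

theorem app_injective_of_birational : Function.Injective (ν.app U).hom := by
  have hηU : ν (genericPoint N) ∈ U := by
    rw [hgen]
    exact ((genericPoint_spec X).mem_open_set_iff U.isOpen).mpr (by simpa using hne)
  haveI : Nonempty U := ⟨⟨_, hηU⟩⟩
  intro a b hab
  have hsq : ∀ a : Γ(X, U), (ν.stalkMap (genericPoint N)).hom
      ((X.presheaf.germ U (ν (genericPoint N)) hηU).hom a) =
        (N.presheaf.germ (ν ⁻¹ᵁ U) (genericPoint N) hηU).hom ((ν.app U).hom a) :=
    fun a => Scheme.Hom.germ_stalkMap_apply ν U (genericPoint N) hηU a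
  have h1 := hbij.1 ((hsq a).trans ((congrArg _ hab).trans (hsq b).symm))
  exact germ_injective_of_isIntegral X (ν (genericPoint N)) hηU h1

theorem exists_frac_of_birational (b : Γ(N, ν ⁻¹ᵁ U)) :
    ∃ a s : Γ(X, U), s ≠ 0 ∧ (ν.app U).hom s * b = (ν.app U).hom a := by
  have hηU : ν (genericPoint N) ∈ U := by
    rw [hgen]
    exact ((genericPoint_spec X).mem_open_set_iff U.isOpen).mpr (by simpa using hne)
  haveI : Nonempty U := ⟨⟨_, hηU⟩⟩
  haveI : Nonempty (ν ⁻¹ᵁ U : N.Opens) := ⟨⟨genericPoint N, hηU⟩⟩
  obtain ⟨k, hk⟩ := hbij.2 ((N.presheaf.germ (ν ⁻¹ᵁ U) (genericPoint N) hηU).hom b)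
  obtain ⟨a, s, hs, hks⟩ := stalk_eq_div_of_eq_genericPoint X U hU _ hgen hηU k
  refine ⟨a, s, hs, ?_⟩
  have h1 := congrArg (ν.stalkMap (genericPoint N)).hom hks
  rw [map_mul, hk, Scheme.Hom.germ_stalkMap_apply ν U (genericPoint N) hηU,
    Scheme.Hom.germ_stalkMap_apply ν U (genericPoint N) hηU] at h1
  apply germ_injective_of_isIntegral N (genericPoint N) (U := ν ⁻¹ᵁ U) hηU
  rw [map_mul, mul_comm]
  exact h1

end

theorem exists_open_isIso_of_finite_birational {N X : Scheme.{u}} [IsIntegral N] [IsIntegral X]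
    (ν : N ⟶ X) [IsFinite ν]
    (hgen : ν (genericPoint N) = genericPoint X)
    (hbij : Function.Bijective (ν.stalkMap (genericPoint N)).hom) :
    ∃ V : X.Opens, (V : Set X).Nonempty ∧ IsIso (ν ∣_ V) := by
  obtain ⟨U, hU, hxU, -⟩ := exists_isAffineOpen_mem_and_subset (U := (⊤ : X.Opens))
    (x := genericPoint X) (by simp)
  have hne : (U : Set X).Nonempty := ⟨_, hxU⟩
  haveI : Nonempty U := ⟨⟨_, hxU⟩⟩
  haveI : IsDomain Γ(X, U) := inferInstance
  have hV : IsAffineOpen (ν ⁻¹ᵁ U) := hU.preimage ν
  obtain ⟨s, hs, hsurj⟩ := exists_common_denominator (ν.app U).hom (ν.finite_app U hU)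
    (exists_frac_of_birational ν hgen hbij U hU hne)
  have hinj := app_injective_of_birational ν hgen hbij U hU hne
  refine ⟨X.basicOpen s, ?_, ?_⟩
  · by_contra hempty
    have hbot : X.basicOpen s = ⊥ := by
      ext x
      simp only [Opens.coe_bot, Set.mem_empty_iff_false, iff_false]
      exact fun hx => hempty ⟨x, hx⟩
    exact hs ((AlgebraicGeometry.basicOpen_eq_bot_iff s).mp hbot)
  · rw [isIso_morphismRestrict_iff_isIso_app ν (hU.basicOpen s)]
    haveI := hU.isLocalization_basicOpen s
    haveI := hV.isLocalization_basicOpen ((ν.app U).hom s)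
    rw [hU.app_basicOpen_eq_away_map ν hV s]
    have hb := away_map_bijective (A' := Γ(X, X.basicOpen s))
      (B' := Γ(N, N.basicOpen ((ν.app U).hom s))) (ν.app U).hom s hinj hsurj
    haveI : IsIso (CommRingCat.ofHom (IsLocalization.Away.map Γ(X, X.basicOpen s)
        Γ(N, N.basicOpen ((ν.app U).hom s)) (ν.app U).hom s)) :=
      (ConcreteCategory.isIso_iff_bijective _).mpr hb
    infer_instance


open Groth.Agent.Lib.Helper4.NormalizationField1 Groth.Agent.Lib.Helper4.NormalizationField3
open Groth.Agent.Lib.Helper4.NormalizationField2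
open Groth.Agent.Lib.Helper4.Japanese1 Groth.Agent.Lib.Helper4.NormDimOne1

theorem isFinite_normalizationι (k : Type u) [Field k] (X : Scheme.{u})
    (s : X ⟶ Spec (CommRingCat.of k)) [IsIntegral X] [LocallyOfFiniteType s]
    [QuasiCompact (X.fromSpecStalk (genericPoint X))] [QuasiSeparated (X.fromSpecStalk (genericPoint X))] :
    IsFinite (Curv2.normalizationι X) := by
  have h := isFinite_fromNormalization_of_field k X s X.functionField (RingHom.id _)
    (RingHom.Finite.id _) (X.fromSpecStalk (genericPoint X)) (by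
      have : CommRingCat.ofHom (RingHom.id X.functionField) = 𝟙 _ := rfl
      rw [this, Spec.map_id]
      exact (Category.id_comp _).symm)
  exact h

theorem S1585_main (k : Type u) [Field k] (X : Scheme.{u}) [X.Over (Spec (CommRingCat.of k))] [IsIntegral X] [LocallyOfFiniteType (X ↘ (Spec (CommRingCat.of k)))]
    [QuasiCompact (X.fromSpecStalk (genericPoint X))] [QuasiSeparated (X.fromSpecStalk (genericPoint X))] :
    IsFinite (Curv2.normalizationι X) ∧ IsDominant (Curv2.normalizationι X) ∧
      (∃ V : X.Opens, (V : Set X).Nonempty ∧ IsIso (Curv2.normalizationι X ∣_ V)) ∧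
      IsIntegral (Curv2.normalization X) ∧ Pi1.IsNormalScheme (Curv2.normalization X) := by
  obtain ⟨hint, hnorm, hgen, hbij⟩ := normalization_facts X
  change IsIntegral (Curv2.normalization X) at hint
  change Pi1.IsNormalScheme (Curv2.normalization X) at hnorm
  change (Curv2.normalizationι X) (genericPoint (Curv2.normalization X)) = genericPoint X at hgen
  change Function.Bijective ((Curv2.normalizationι X).stalkMap
    (genericPoint (Curv2.normalization X))).hom at hbij
  haveI hfin := isFinite_normalizationι k X (X ↘ (Spec (CommRingCat.of k)))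
  have hsurj : Surjective (Curv2.normalizationι X) :=
    surjective_fromNormalization _ (isField_functionField X) (X.fromSpecStalk (genericPoint X))
      (fromSpecStalk_genericPoint_apply X)
  refine ⟨hfin, inferInstance, exists_open_isIso_of_finite_birational _ hgen hbij, hint, hnorm⟩


open Groth.Agent.Lib.Helper4.NormalizationField1 Groth.Agent.Lib.Helper4.NormalizationField3
open Groth.Agent.Lib.Helper4.NormalizationField2
open Groth.Agent.Lib.Helper4.Japanese1 Groth.Agent.Lib.Helper4.NormDimOne1

theorem S4455_main (k : Type u) [Field k] (X : Scheme.{u})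
    [X.Over (Spec (CommRingCat.of k))] [LocallyOfFiniteType (X ↘ (Spec (CommRingCat.of k)))]
    [QuasiCompact (X ↘ (Spec (CommRingCat.of k)))] [IsSeparated (X ↘ (Spec (CommRingCat.of k)))] [IsIntegral X]
    [QuasiCompact (X.fromSpecStalk (genericPoint X))] [QuasiSeparated (X.fromSpecStalk (genericPoint X))] :
    IsProper (X ↘ (Spec (CommRingCat.of k))) ↔ IsProper (Curv2.normalizationι X ≫ (X ↘ (Spec (CommRingCat.of k)))) := by
  haveI hfin := isFinite_normalizationι k X (X ↘ (Spec (CommRingCat.of k)))
  have hsurj : Surjective (Curv2.normalizationι X) :=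
    surjective_fromNormalization _ (isField_functionField X) (X.fromSpecStalk (genericPoint X))
      (fromSpecStalk_genericPoint_apply X)
  constructor
  · intro h
    infer_instance
  · intro h
    haveI : UniversallyClosed (X ↘ (Spec (CommRingCat.of k))) :=
      UniversallyClosed.of_comp_surjective (Curv2.normalizationι X) _
    exact { }


end Groth.Agent.Lib.Helper4.Japanese2
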