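import Mathlib
import Groth.Prelude.Def_CohB1
import Groth.Prelude.Def_CurvBase
import Groth.Prelude.Def_Pi1
import Groth.Agent.Lib.Helper4.Japanese2

/-!
# The projective line over a field and complete normal curves with a given function field (helper4)
-/

set_option backward.isDefEq.respectTransparency.types false
set_option synthInstance.maxHeartbeats 400000
set_option autoImplicit false
set_option linter.unusedSectionVars false
set_option linter.style.haveILetI false
set_option linter.unusedSimpArgs false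
universe u v w
open CategoryTheory CategoryTheory.Limits AlgebraicGeometry TopologicalSpace IsLocalRing
open HomogeneousLocalization
open scoped HomogeneousIdeal
open Groth.Agent.Lib.Helper4.NormalizationField1 Groth.Agent.Lib.Helper4.NormalizationField3
open Groth.Agent.Lib.Helper4.Japanese2

namespace Groth.Agent.Lib.Helper4.P1Curve1

variable (k : Type u) [Field k]

/-- (after helper1's `ProjSpaceLib.X_mem`) -/
theorem X_mem (i : Fin (1 + 1)) :
    (MvPolynomial.X i : MvPolynomial (Fin (1 + 1)) k) ∈ CohB1.polyGrading 1 k 1 :=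
  MvPolynomial.isHomogeneous_X k i

/-- dehomogenization with respect to the `i`-th variable -/
noncomputable def dehom (i : Fin (1 + 1)) : MvPolynomial (Fin (1 + 1)) k →+* Polynomial k :=
  MvPolynomial.eval₂Hom Polynomial.C (fun l => if l = i then 1 else Polynomial.X)

theorem dehom_C (i : Fin (1 + 1)) (c : k) : dehom k i (MvPolynomial.C c) = Polynomial.C c := by
  simp [dehom]

theorem dehom_X_self (i : Fin (1 + 1)) : dehom k i (MvPolynomial.X i) = 1 := by
  simp [dehom]

theorem dehom_X_of_ne (i j : Fin (1 + 1)) (hij : j ≠ i) :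
    dehom k i (MvPolynomial.X j) = Polynomial.X := by
  simp [dehom, hij]

theorem fin2_cases (i j : Fin (1 + 1)) (hij : j ≠ i) (l : Fin (1 + 1)) : l = i ∨ l = j := by
  fin_cases i <;> fin_cases j <;> fin_cases l <;> simp at hij ⊢

theorem degree_fin2 (i j : Fin (1 + 1)) (hij : j ≠ i) (m : Fin (1 + 1) →₀ ℕ) :
    m.degree = m i + m j := by
  rw [Finsupp.degree_eq_sum, Fin.sum_univ_two]
  fin_cases i <;> fin_cases j <;> simp at hij ⊢
  exact add_comm _ _

theorem dehom_eq_sum (i j : Fin (1 + 1)) (hij : j ≠ i) (a : MvPolynomial (Fin (1 + 1)) k) :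
    dehom k i a = ∑ m ∈ a.support, Polynomial.C (MvPolynomial.coeff m a) * Polynomial.X ^ (m j) := by
  rw [dehom, MvPolynomial.coe_eval₂Hom, MvPolynomial.eval₂_eq']
  refine Finset.sum_congr rfl fun m _ => ?_
  congr 1
  rw [Fintype.prod_eq_single j]
  · simp [hij]
  · intro l hl
    rcases fin2_cases i j hij l with h | h
    · simp [h]
    · exact absurd h hl

theorem dehom_injective_of_isHomogeneous (i j : Fin (1 + 1)) (hij : j ≠ i) (n : ℕ)
    (a : MvPolynomial (Fin (1 + 1)) k) (ha : a.IsHomogeneous n) (h0 : dehom k i a = 0) : a = 0 := by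
  ext m
  rw [MvPolynomial.coeff_zero]
  by_contra hm
  have hdeg : ∀ m', MvPolynomial.coeff m' a ≠ 0 → m' i + m' j = n := by
    intro m' hm'
    have := ha hm'
    rw [← degree_fin2 i j hij m', Finsupp.degree_eq_weight_one]
    exact this
  have h1 := congrArg (fun p => Polynomial.coeff p (m j)) h0
  simp only [Polynomial.coeff_zero] at h1
  rw [dehom_eq_sum k i j hij, Polynomial.finsetSum_coeff] at h1
  rw [Finset.sum_eq_single m] at h1
  · simp at h1
    exact hm h1
  · intro m' hm' hne
    rw [Polynomial.coeff_C_mul_X_pow]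
    rw [if_neg]
    intro hj
    apply hne
    have e1 := hdeg m' (MvPolynomial.mem_support_iff.mp hm')
    have e2 := hdeg m hm
    ext l
    rcases fin2_cases i j hij l with h | h
    · rw [h]; omega
    · rw [h]; omega
  · intro hm'
    exact absurd (MvPolynomial.mem_support_iff.mpr hm) hm'



/-- the `i`-th standard chart ring of `P^1_k` -/
abbrev Chart (i : Fin (1 + 1)) : Type u :=
  Away (CohB1.polyGrading 1 k) (MvPolynomial.X i : MvPolynomial (Fin (1 + 1)) k)

/-- extension of dehomogenization to the localization at `X i` -/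
noncomputable def dehomLoc (i : Fin (1 + 1)) :
    Localization.Away (MvPolynomial.X i : MvPolynomial (Fin (1 + 1)) k) →+* Polynomial k :=
  IsLocalization.Away.lift (MvPolynomial.X i : MvPolynomial (Fin (1 + 1)) k)
    (g := dehom k i) (by rw [dehom_X_self]; exact isUnit_one)

theorem dehomLoc_mk (i : Fin (1 + 1)) (a : MvPolynomial (Fin (1 + 1)) k)
    (s : Submonoid.powers (MvPolynomial.X i : MvPolynomial (Fin (1 + 1)) k)) :
    dehomLoc k i (Localization.mk a s) = dehom k i a := by
  have h1 : (Localization.mk a s :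
      Localization.Away (MvPolynomial.X i : MvPolynomial (Fin (1 + 1)) k)) *
      algebraMap _ _ (s : MvPolynomial (Fin (1 + 1)) k) = algebraMap _ _ a := by
    rw [Localization.mk_eq_mk', IsLocalization.mk'_spec]
  have h2 := congrArg (dehomLoc k i) h1
  obtain ⟨n, hn⟩ := s.2
  rw [map_mul, dehomLoc, IsLocalization.Away.lift_eq, IsLocalization.Away.lift_eq, ← hn, map_pow,
    dehom_X_self, one_pow, mul_one] at h2
  exact h2

/-- the chart map `Away (X i) → k[t]` -/
noncomputable def chartTo (i : Fin (1 + 1)) : Chart k i →+* Polynomial k :=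
  (dehomLoc k i).comp (algebraMap (Chart k i) (Localization.Away (MvPolynomial.X i : MvPolynomial (Fin (1 + 1)) k)))

theorem chartTo_mk (i : Fin (1 + 1)) (n : ℕ) (a : MvPolynomial (Fin (1 + 1)) k)
    (ha : a ∈ CohB1.polyGrading 1 k (n • 1)) :
    chartTo k i (Away.mk (CohB1.polyGrading 1 k) (X_mem k i) n a ha) = dehom k i a := by
  rw [chartTo, RingHom.comp_apply]
  have : algebraMap (Chart k i) (Localization.Away (MvPolynomial.X i : MvPolynomial (Fin (1 + 1)) k))
      (Away.mk (CohB1.polyGrading 1 k) (X_mem k i) n a ha) =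
      Localization.mk a (⟨MvPolynomial.X i ^ n, (Submonoid.mem_powers_iff _ _).mpr ⟨n, rfl⟩⟩ :
        Submonoid.powers (MvPolynomial.X i : MvPolynomial (Fin (1 + 1)) k)) :=
    Away.val_mk (CohB1.polyGrading 1 k) n (X_mem k i) a ha
  rw [this, dehomLoc_mk]

theorem chartTo_injective (i j : Fin (1 + 1)) (hij : j ≠ i) : Function.Injective (chartTo k i) := by
  rw [injective_iff_map_eq_zero]
  intro x hx
  obtain ⟨n, a, ha, rfl⟩ := Away.mk_surjective (CohB1.polyGrading 1 k) (X_mem k i) x
  rw [chartTo_mk] at hx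
  have ha' : a.IsHomogeneous n := by
    have := (MvPolynomial.mem_homogeneousSubmodule _ _).mp ha
    simpa using this
  have h0 := dehom_injective_of_isHomogeneous k i j hij n a ha' hx
  subst h0
  apply HomogeneousLocalization.val_injective
  rw [Away.val_mk, HomogeneousLocalization.val_zero, Localization.mk_zero]

/-- the structure map `k → Away (X i)` -/
noncomputable def chartC (i : Fin (1 + 1)) : k →+* Chart k i :=
  (fromZeroRingHom (CohB1.polyGrading 1 k) _).comp (algebraMap k (CohB1.polyGrading 1 k 0))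

theorem chartTo_chartC (i : Fin (1 + 1)) (c : k) : chartTo k i (chartC k i c) = Polynomial.C c := by
  have h : chartC k i c = Away.mk (CohB1.polyGrading 1 k) (X_mem k i) 0 (MvPolynomial.C c)
      (by
        rw [zero_smul]
        exact (MvPolynomial.mem_homogeneousSubmodule _ _).mpr (MvPolynomial.isHomogeneous_C _ c)) := by
    apply HomogeneousLocalization.val_injective
    rw [Away.val_mk]
    show Localization.mk _ _ = _
    simp only [pow_zero]
    rfl
  rw [h, chartTo_mk, dehom_C]

/-- the coordinate `X j / X i` on the `i`-th chart -/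
noncomputable def coord (i j : Fin (1 + 1)) : Chart k i :=
  Away.mk (CohB1.polyGrading 1 k) (X_mem k i) 1 (MvPolynomial.X j) (by
    rw [one_smul]; exact X_mem k j)

theorem chartTo_coord (i j : Fin (1 + 1)) (hij : j ≠ i) : chartTo k i (coord k i j) = Polynomial.X := by
  rw [coord, chartTo_mk, dehom_X_of_ne k i j hij]

/-- the inverse chart map -/
noncomputable def chartFrom (i j : Fin (1 + 1)) : Polynomial k →+* Chart k i :=
  Polynomial.eval₂RingHom (chartC k i) (coord k i j)

theorem chartTo_chartFrom (i j : Fin (1 + 1)) (hij : j ≠ i) (p : Polynomial k) :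
    chartTo k i (chartFrom k i j p) = p := by
  have : (chartTo k i).comp (chartFrom k i j) = RingHom.id _ := by
    apply Polynomial.ringHom_ext
    · intro c
      simp [chartFrom, chartTo_chartC]
    · simp [chartFrom, chartTo_coord k i j hij]
  exact congrArg (fun f => f p) this

/-- the `i`-th chart ring of `P^1_k` is a polynomial ring in one variable -/
noncomputable def chartEquiv (i j : Fin (1 + 1)) (hij : j ≠ i) : Chart k i ≃+* Polynomial k :=
  RingEquiv.ofBijective (chartTo k i)
    ⟨chartTo_injective k i j hij, fun p => ⟨chartFrom k i j p, chartTo_chartFrom k i j hij p⟩⟩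

theorem chartEquiv_chartC (i j : Fin (1 + 1)) (hij : j ≠ i) (c : k) :
    chartEquiv k i j hij (chartC k i c) = Polynomial.C c := chartTo_chartC k i c

theorem chartEquiv_coord (i j : Fin (1 + 1)) (hij : j ≠ i) :
    chartEquiv k i j hij (coord k i j) = Polynomial.X := chartTo_coord k i j hij



/-- (copied from helper1's `ProjSpaceLib.irrelevant_le`) -/
theorem irrelevant_le :
    (HomogeneousIdeal.irrelevant (CohB1.polyGrading 1 k)).toIdeal ≤
      Ideal.span (Set.range (MvPolynomial.X : Fin (1 + 1) → MvPolynomial (Fin (1 + 1)) k)) := by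
  intro x hx
  have hx0 : MvPolynomial.coeff 0 x = 0 := by
    have h := (HomogeneousIdeal.mem_irrelevant_iff _ _).mp hx
    have h2 : (GradedRing.proj (CohB1.polyGrading 1 k) 0 x) = MvPolynomial.homogeneousComponent 0 x := by
      rw [GradedRing.proj_apply]
      exact MvPolynomial.decomposition.decompose'_apply x 0
    rw [h2] at h
    have := congrArg (MvPolynomial.coeff 0) h
    simpa [MvPolynomial.coeff_homogeneousComponent] using this
  rw [x.as_sum]
  refine Ideal.sum_mem _ fun m hm => ?_
  by_cases hm0 : m = 0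
  · subst hm0
    rw [hx0]
    simp
  · obtain ⟨i, hi⟩ : ∃ i, m i ≠ 0 := by
      by_contra hcon
      push Not at hcon
      exact hm0 (Finsupp.ext hcon)
    have hle : Finsupp.single i 1 ≤ m := by
      intro j
      by_cases hj : j = i
      · subst hj
        simp
        omega
      · simp [Finsupp.single_eq_of_ne hj]
    have : MvPolynomial.monomial m (MvPolynomial.coeff m x) =
        MvPolynomial.monomial (m - Finsupp.single i 1) (MvPolynomial.coeff m x) * MvPolynomial.X i := by
      rw [MvPolynomial.X, MvPolynomial.monomial_mul, tsub_add_cancel_of_le hle, mul_one]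
    rw [this]
    exact Ideal.mul_mem_left _ _ (Ideal.subset_span ⟨i, rfl⟩)

/-- the projective line over `k` -/
noncomputable abbrev P1 : Scheme.{u} := Proj (CohB1.polyGrading 1 k)

/-- the structure morphism of the projective line -/
noncomputable def P1.toSpec : P1 k ⟶ Spec (CommRingCat.of k) :=
  Proj.toSpecZero (CohB1.polyGrading 1 k) ≫
    Spec.map (CommRingCat.ofHom (algebraMap k (CohB1.polyGrading 1 k 0)))

/-- the `i`-th standard chart of `P^1_k` -/
noncomputable def chartι (i : Fin (1 + 1)) :
    Spec (CommRingCat.of (Chart k i)) ⟶ P1 k :=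
  Proj.awayι (CohB1.polyGrading 1 k) (MvPolynomial.X i) (X_mem k i) one_pos

instance (i : Fin (1 + 1)) : IsOpenImmersion (chartι k i) := by
  unfold chartι; infer_instance

theorem exists_chart (x : P1 k) :
    ∃ (i : Fin (1 + 1)) (p : Spec (CommRingCat.of (Chart k i))), chartι k i p = x := by
  have h := Proj.iSup_basicOpen_eq_top (CohB1.polyGrading 1 k)
    (MvPolynomial.X : Fin (1 + 1) → MvPolynomial (Fin (1 + 1)) k) (irrelevant_le k)
  have hx : x ∈ (⨆ i, Proj.basicOpen (CohB1.polyGrading 1 k)
      ((MvPolynomial.X : Fin (1 + 1) → MvPolynomial (Fin (1 + 1)) k) i)) := by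
    rw [h]; trivial
  obtain ⟨i, hi⟩ := TopologicalSpace.Opens.mem_iSup.mp hx
  rw [← Proj.opensRange_awayι (CohB1.polyGrading 1 k) _ (X_mem k i) one_pos] at hi
  obtain ⟨p, hp⟩ := hi
  exact ⟨i, p, hp⟩

theorem chartι_toSpec (i : Fin (1 + 1)) :
    chartι k i ≫ P1.toSpec k = Spec.map (CommRingCat.ofHom (chartC k i)) := by
  rw [chartι, P1.toSpec, Proj.awayι_toSpecZero_assoc, ← Spec.map_comp]
  rfl

/-- (after helper1's `ProjSpaceLib.algebraMap_bijective`) -/
theorem algebraMap_bijective :
    Function.Bijective (algebraMap k (CohB1.polyGrading 1 k 0)) := by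
  constructor
  · intro r r' h
    have := congrArg Subtype.val h
    exact MvPolynomial.C_injective _ _ this
  · rintro ⟨p, hp⟩
    have hp' : p.IsHomogeneous 0 := (MvPolynomial.mem_homogeneousSubmodule _ _).mp hp
    have h0 : p.totalDegree = 0 := (MvPolynomial.totalDegree_zero_iff_isHomogeneous _).mpr hp'
    refine ⟨p.coeff 0, Subtype.ext ?_⟩
    exact ((MvPolynomial.totalDegree_eq_zero_iff_eq_C).mp h0).symm

instance : IsScalarTower k (CohB1.polyGrading 1 k 0) (MvPolynomial (Fin (1 + 1)) k) := by
  exact IsScalarTower.of_algebraMap_eq (R := k) (S := CohB1.polyGrading 1 k 0)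
    (A := MvPolynomial (Fin (1 + 1)) k) (fun x => rfl)

instance : Algebra.FiniteType (CohB1.polyGrading 1 k 0) (MvPolynomial (Fin (1 + 1)) k) :=
  Algebra.FiniteType.of_restrictScalars_finiteType k _ _

theorem isProper_toSpec : IsProper (P1.toSpec k) := by
  haveI : IsIso (Spec.map (CommRingCat.ofHom (algebraMap k (CohB1.polyGrading 1 k 0)))) := by
    haveI : IsIso (CommRingCat.ofHom (algebraMap k (CohB1.polyGrading 1 k 0))) :=
      (ConcreteCategory.isIso_iff_bijective _).mpr (algebraMap_bijective k)
    infer_instance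
  unfold P1.toSpec
  infer_instance



section ProjIntegral
/-! The following five statements are copied (with attribution) from helper1's library
`Groth.Agent.Lib.Helper1.ProjTop`. -/
variable {A σ : Type u} [CommRing A] [SetLike σ A] [AddSubgroupClass σ A] (𝒜 : ℕ → σ)
  [GradedRing 𝒜]

/-- a non-nilpotent element of the irrelevant ideal is nonzero at some point of `Proj`
(copied from helper1's `ProjTop`) -/
theorem exists_notMem_of_not_isNilpotent {f : A} (hf : f ∈ (𝒜)₊.toIdeal) (hn : ¬ IsNilpotent f) :
    ∃ x : ProjectiveSpectrum 𝒜, f ∉ x.asHomogeneousIdeal := by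
  have h1 : f ∉ nilradical A := fun h => hn (mem_nilradical.mp h)
  rw [nilradical_eq_sInf, Ideal.mem_sInf] at h1
  push Not at h1
  obtain ⟨P, hP, hfP⟩ := h1
  have hP' : P.IsPrime := hP
  have hQ : (P.homogeneousCore 𝒜).toIdeal.IsPrime := hP'.homogeneousCore
  have hQP : (P.homogeneousCore 𝒜).toIdeal ≤ P := Ideal.toIdeal_homogeneousCore_le 𝒜 P
  refine ⟨⟨P.homogeneousCore 𝒜, hQ, fun hle => hfP (hQP (hle hf))⟩, fun h => hfP (hQP h)⟩

/-- a point of `Proj` misses a homogeneous element of positive degree
(copied from helper1's `ProjTop`) -/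
theorem exists_homogeneous_notMem (x : ProjectiveSpectrum 𝒜) :
    ∃ (i : ℕ) (_ : 0 < i) (f : A), f ∈ 𝒜 i ∧ f ∉ x.asHomogeneousIdeal := by
  by_contra hcon
  push Not at hcon
  apply x.not_irrelevant_le
  rw [HomogeneousIdeal.irrelevant_le]
  intro i hi f hf
  exact hcon i hi f hf

variable (hred : ∀ f ∈ (𝒜)₊.toIdeal, IsNilpotent f → f = 0)

include hred in
/-- charts of an essentially reduced graded ring are reduced (copied from helper1's `ProjTop`) -/
theorem isReduced_away {d : ℕ} (hd : 0 < d) {f : A} (hf : f ∈ 𝒜 d) :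
    IsReduced (Away 𝒜 f) := by
  refine ⟨fun x hx => ?_⟩
  obtain ⟨n, hn⟩ := hx
  obtain ⟨k, a, ha, rfl⟩ := Away.mk_surjective 𝒜 hf x
  have hval : (Away.mk 𝒜 hf k a ha).val ^ n = 0 := by
    rw [← HomogeneousLocalization.val_pow, hn, HomogeneousLocalization.val_zero]
  rw [Away.val_mk, Localization.mk_pow, Localization.mk_eq_mk', IsLocalization.mk'_eq_zero_iff]
    at hval
  obtain ⟨⟨_, m, rfl⟩, hm⟩ := hval
  have hfa : f * a ∈ (𝒜)₊.toIdeal := by
    have : f * a ∈ 𝒜 (d + k • d) := SetLike.mul_mem_graded hf ha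
    exact HomogeneousIdeal.mem_irrelevant_of_mem 𝒜 (by omega) this
  have hnil : IsNilpotent (f * a) := by
    refine ⟨m + n, ?_⟩
    rw [mul_pow, pow_add, pow_add]
    calc f ^ m * f ^ n * (a ^ m * a ^ n) = (f ^ n * a ^ m) * (f ^ m * a ^ n) := by ring
      _ = 0 := by rw [hm, mul_zero]
  have h0 := hred _ hfa hnil
  apply HomogeneousLocalization.val_injective
  rw [Away.val_mk, HomogeneousLocalization.val_zero, Localization.mk_eq_mk',
    IsLocalization.mk'_eq_zero_iff]
  exact ⟨⟨f, 1, pow_one f⟩, h0⟩

include hred in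
/-- (copied from helper1's `ProjTop`) -/
theorem isReduced_proj : AlgebraicGeometry.IsReduced (Proj 𝒜) := by
  have : ∀ i, AlgebraicGeometry.IsReduced ((Proj.affineOpenCover 𝒜).openCover.X i) := by
    rintro (s : Σ i : PNat, 𝒜 i)
    have := isReduced_away 𝒜 hred s.1.2 s.2.2
    show AlgebraicGeometry.IsReduced (Spec (CommRingCat.of (Away 𝒜 (s.2 : A))))
    infer_instance
  exact IsReduced.of_openCover _ (Proj.affineOpenCover 𝒜).openCover

include hred in
/-- `Proj` of an (essentially) integral graded ring is integral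
(copied from helper1's `ProjTop`) -/
theorem isIntegral_of_essIntegral (hne : ∃ f ∈ (𝒜)₊.toIdeal, f ≠ 0)
    (hdom : ∀ f ∈ (𝒜)₊.toIdeal, ∀ g ∈ (𝒜)₊.toIdeal, f * g = 0 → f = 0 ∨ g = 0) :
    AlgebraicGeometry.IsIntegral (Proj 𝒜) := by
  rw [isIntegral_iff_irreducibleSpace_and_isReduced]
  refine ⟨?_, isReduced_proj 𝒜 hred⟩
  have hnonempty : Nonempty (Proj 𝒜) := by
    obtain ⟨f, hf, hf0⟩ := hne
    obtain ⟨x, -⟩ := exists_notMem_of_not_isNilpotent 𝒜 hf (fun h => hf0 (hred f hf h))
    exact ⟨x⟩
  have hpre : PreirreducibleSpace (Proj 𝒜) := by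
    refine ⟨?_⟩
    rintro U V hU hV ⟨x, -, hxU⟩ ⟨y, -, hyV⟩
    obtain ⟨_, ⟨a, rfl⟩, hxa, haU⟩ :=
      (ProjectiveSpectrum.isTopologicalBasis_basic_opens 𝒜).exists_subset_of_mem_open hxU hU
    obtain ⟨_, ⟨b, rfl⟩, hyb, hbV⟩ :=
      (ProjectiveSpectrum.isTopologicalBasis_basic_opens 𝒜).exists_subset_of_mem_open hyV hV
    have hxa' : a ∉ x.asHomogeneousIdeal := hxa
    have hyb' : b ∉ y.asHomogeneousIdeal := hyb
    obtain ⟨i, hi, f, hfi, hfx⟩ := exists_homogeneous_notMem 𝒜 x
    obtain ⟨j, hj, g, hgj, hgy⟩ := exists_homogeneous_notMem 𝒜 y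
    have hf : f ∈ (𝒜)₊.toIdeal := HomogeneousIdeal.mem_irrelevant_of_mem 𝒜 hi hfi
    have hg : g ∈ (𝒜)₊.toIdeal := HomogeneousIdeal.mem_irrelevant_of_mem 𝒜 hj hgj
    have haf : a * f ∈ (𝒜)₊.toIdeal := Ideal.mul_mem_left _ _ hf
    have hbg : b * g ∈ (𝒜)₊.toIdeal := Ideal.mul_mem_left _ _ hg
    have haf0 : a * f ≠ 0 := by
      intro h
      have : a * f ∈ x.asHomogeneousIdeal.toIdeal := by rw [h]; exact Ideal.zero_mem _
      rcases x.isPrime.mem_or_mem this with h1 | h1
      · exact hxa' h1
      · exact hfx h1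
    have hbg0 : b * g ≠ 0 := by
      intro h
      have : b * g ∈ y.asHomogeneousIdeal.toIdeal := by rw [h]; exact Ideal.zero_mem _
      rcases y.isPrime.mem_or_mem this with h1 | h1
      · exact hyb' h1
      · exact hgy h1
    have hprod0 : (a * f) * (b * g) ≠ 0 := by
      intro h
      rcases hdom _ haf _ hbg h with h1 | h1
      · exact haf0 h1
      · exact hbg0 h1
    have hprod : (a * f) * (b * g) ∈ (𝒜)₊.toIdeal := Ideal.mul_mem_left _ _ hbg
    obtain ⟨z, hz⟩ := exists_notMem_of_not_isNilpotent 𝒜 hprod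
      (fun h => hprod0 (hred _ hprod h))
    have hza : a ∉ z.asHomogeneousIdeal := fun h => hz (by
      have : a * (f * (b * g)) ∈ z.asHomogeneousIdeal.toIdeal := Ideal.mul_mem_right _ _ h
      rwa [← mul_assoc] at this)
    have hzb : b ∉ z.asHomogeneousIdeal := fun h => hz (by
      have : b * (g * (a * f)) ∈ z.asHomogeneousIdeal.toIdeal := Ideal.mul_mem_right _ _ h
      have e : (a * f) * (b * g) = b * (g * (a * f)) := by ring
      rwa [e])
    exact ⟨z, Set.mem_univ _, haU hza, hbV hzb⟩
  exact { toPreirreducibleSpace := hpre, toNonempty := hnonempty }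

end ProjIntegral

theorem isIntegral_P1 : IsIntegral (P1 k) := by
  show IsIntegral (Proj (CohB1.polyGrading 1 k))
  refine isIntegral_of_essIntegral (CohB1.polyGrading 1 k) (fun f _ hf => hf.eq_zero) ?_ ?_
  · refine ⟨MvPolynomial.X 0, ?_, MvPolynomial.X_ne_zero _⟩
    exact HomogeneousIdeal.mem_irrelevant_of_mem _ one_pos (X_mem k 0)
  · intro f _ g _ h
    exact mul_eq_zero.mp h



/-- maximal ideals of a PID which is not a field have height one -/
theorem height_eq_one_of_pid (B : Type*) [CommRing B] [IsDomain B] [IsPrincipalIdealRing B]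
    (hB : ¬ IsField B) (m : Ideal B) [hm : m.IsMaximal] : m.height = 1 := by
  have hne : m ≠ ⊥ := Ring.ne_bot_of_isMaximal_of_not_isField hm hB
  have hprime : m.IsPrime := hm.isPrime
  apply le_antisymm
  · have hmin : m ∈ m.minimalPrimes := by
      rw [Ideal.minimalPrimes_eq_subsingleton_self]; rfl
    haveI hpr : m.IsPrincipal := IsPrincipalIdealRing.principal m
    exact Ideal.height_le_one_of_isPrincipal_of_mem_minimalPrimes m m hmin
  · rw [Order.one_le_iff_pos, pos_iff_ne_zero]
    intro h0
    exact hne (Ideal.height_eq_zero_iff_eq_bot.mp h0)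

theorem dim_stalk_of_chart {X : Scheme.{u}} (B : Type u) [CommRing B] [IsDomain B]
    [IsPrincipalIdealRing B] (hB : ¬ IsField B)
    (j : Spec (CommRingCat.of B) ⟶ X) [IsOpenImmersion j] (p : Spec (CommRingCat.of B))
    (hcl : IsClosed ({j p} : Set X)) :
    ringKrullDim (X.presheaf.stalk (j p)) = 1 := by
  have e := (asIso (j.stalkMap p)).commRingCatIsoToRingEquiv
  rw [ringKrullDim_eq_of_ringEquiv e]
  have hclp : IsClosed ({p} : Set (Spec (CommRingCat.of B))) := by
    have : ({p} : Set (Spec (CommRingCat.of B))) = j ⁻¹' {j p} := by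
      ext q
      simp only [Set.mem_singleton_iff, Set.mem_preimage]
      exact ⟨fun h => by rw [h], fun h => j.isOpenEmbedding.injective h⟩
    rw [this]
    exact hcl.preimage j.continuous
  have hmax : (p : PrimeSpectrum B).asIdeal.IsMaximal :=
    (PrimeSpectrum.isClosed_singleton_iff_isMaximal p).mp hclp
  have h1 := IsLocalization.AtPrime.ringKrullDim_eq_height (p : PrimeSpectrum B).asIdeal
    ((Spec.structureSheaf B).presheaf.stalk p)
  have h2 := height_eq_one_of_pid B hB (p : PrimeSpectrum B).asIdeal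
  change ringKrullDim ((Spec.structureSheaf B).presheaf.stalk p) = 1
  rw [h1, h2]
  rfl



/-- a transcendence basis of a field extension of transcendence degree one -/
theorem exists_transcendental_of_trdeg_eq_one (k K : Type u) [Field k] [Field K] [Algebra k K]
    (htr : Algebra.trdeg k K = 1) :
    ∃ τ : K, Transcendental k τ ∧ Algebra.IsAlgebraic (Algebra.adjoin k ({τ} : Set K)) K := by
  obtain ⟨ι, x, hx⟩ := exists_isTranscendenceBasis' k K
  have hcard : Cardinal.mk ι = 1 := by rw [hx.cardinalMk_eq_trdeg, htr]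
  obtain ⟨hsub, ⟨i₀⟩⟩ := Cardinal.eq_one_iff_unique.mp hcard
  refine ⟨x i₀, hx.1.transcendental i₀, ?_⟩
  have hr : Set.range x = {x i₀} := by
    ext y
    simp only [Set.mem_range, Set.mem_singleton_iff]
    constructor
    · rintro ⟨i, rfl⟩; rw [Subsingleton.elim i i₀]
    · rintro rfl; exact ⟨i₀, rfl⟩
  have := hx.isAlgebraic
  rwa [hr] at this

/-- finiteness of a field extension from algebraicity over a subalgebra in the range -/
theorem finite_of_range (k F K : Type u) [Field k] [Field F] [Field K] [Algebra k K]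
    (φ : F →+* K) (ρ : k →+* F) (hρ : ∀ c, φ (ρ c) = algebraMap k K c)
    (S : Subalgebra k K) (hS : ∀ s ∈ S, s ∈ φ.range) [Algebra.IsAlgebraic S K]
    (hfg : (⊤ : IntermediateField k K).FG) : φ.Finite := by
  letI := φ.toAlgebra
  letI := ρ.toAlgebra
  haveI : IsScalarTower k F K := IsScalarTower.of_algebraMap_eq (fun c => (hρ c).symm)
  haveI : Algebra.EssFiniteType k K := IntermediateField.fg_top_iff.mp hfg
  haveI : Algebra.EssFiniteType F K := Algebra.EssFiniteType.of_comp k F K
  -- algebraicity
  let F' : Subfield K := φ.fieldRange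
  have h1 : Algebra.IsAlgebraic F' K := by
    let f : S →+* F' :=
      { toFun := fun s => ⟨s.1, by
          obtain ⟨a, ha⟩ := hS s.1 s.2
          exact ⟨a, ha⟩⟩
        map_one' := rfl
        map_mul' := fun _ _ => rfl
        map_zero' := rfl
        map_add' := fun _ _ => rfl }
    have hf : Function.Injective f := by
      intro a b hab
      apply Subtype.ext
      exact congrArg (fun z : F' => (z : K)) hab
    exact Algebra.IsAlgebraic.ringHom_of_comp_eq (R := S) (S := F') (A := K) (B := K) f
      (RingHom.id K) hf (fun y => ⟨y, rfl⟩) (by ext s; rfl)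
  have h2 : Algebra.IsAlgebraic F K := by
    exact Algebra.IsAlgebraic.of_ringHom_of_comp_eq (R := F) (S := F') (A := K) (B := K)
      φ.rangeRestrictField (RingHom.id K) φ.rangeRestrictField_bijective.2
      (fun _ _ h => h) (by ext a; rfl)
  exact Algebra.finite_of_essFiniteType_of_isAlgebraic



/-- the local homomorphism of a point factoring through an open chart hits the image of the
chart ring -/
theorem exists_preimage_stalkClosedPointTo {X : Scheme.{u}} (R K : Type u) [CommRing R] [Field K]
    (ψ : R →+* K) (j : Spec (CommRingCat.of R) ⟶ X) [IsOpenImmersion j] (b : R) :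
    ∃ a, (Scheme.stalkClosedPointTo
      (Spec.map (CommRingCat.ofHom ψ) ≫ j : Spec (CommRingCat.of K) ⟶ X)).hom a = ψ b := by
  have h1 := Scheme.stalkClosedPointTo_comp (R := CommRingCat.of K)
    (Spec.map (CommRingCat.ofHom ψ)) j
  have h2 := Scheme.germ_stalkClosedPointTo_Spec (R := CommRingCat.of R) (S := CommRingCat.of K)
    (CommRingCat.ofHom ψ)
  set y := (Spec.map (CommRingCat.ofHom ψ)) (closedPoint (CommRingCat.of K)) with hy
  haveI : IsIso (j.stalkMap y) := inferInstance
  let c : (Spec (CommRingCat.of R)).presheaf.stalk y :=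
    ((Spec (CommRingCat.of R)).presheaf.germ ⊤ y trivial).hom
      ((Scheme.ΓSpecIso (CommRingCat.of R)).inv.hom b)
  refine ⟨(inv (j.stalkMap y)).hom c, ?_⟩
  rw [h1]
  have h3 : (j.stalkMap y).hom ((inv (j.stalkMap y)).hom c) = c := by
    have : inv (j.stalkMap y) ≫ j.stalkMap y = 𝟙 _ := IsIso.inv_hom_id _
    exact congrArg (fun f => f.hom c) this
  show (Scheme.stalkClosedPointTo (Spec.map (CommRingCat.ofHom ψ))).hom
    ((j.stalkMap y).hom ((inv (j.stalkMap y)).hom c)) = ψ b
  rw [h3]
  have h4 := congrArg (fun f => f.hom ((Scheme.ΓSpecIso (CommRingCat.of R)).inv.hom b)) h2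
  simp only [CommRingCat.hom_comp, RingHom.comp_apply] at h4
  rw [h4]
  have : (Scheme.ΓSpecIso (CommRingCat.of R)).hom.hom
      ((Scheme.ΓSpecIso (CommRingCat.of R)).inv.hom b) = b := by
    have := (Scheme.ΓSpecIso (CommRingCat.of R)).inv_hom_id
    exact congrArg (fun f => f.hom b) this
  rw [this]
  rfl

/-- the composite of the canonical point of a local ring with a morphism to `Spec k` -/
theorem fromSpecStalk_comp_eq (k : Type u) [Field k] (X : Scheme.{u})
    (s : X ⟶ Spec (CommRingCat.of k)) (x : X) :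
    X.fromSpecStalk x ≫ s = Spec.map (CommRingCat.ofHom
      ((X.presheaf.germ ⊤ x trivial).hom.comp (Coh.toGlobal s))) := by
  have h1 : s ≫ Spec.map (Scheme.ΓSpecIso (CommRingCat.of k)).hom =
      X.toSpecΓ ≫ Spec.map s.appTop := by
    rw [SpecMap_ΓSpecIso_hom, Scheme.toSpecΓ_naturality]
  have h2 : s = X.toSpecΓ ≫ Spec.map s.appTop ≫
      Spec.map (Scheme.ΓSpecIso (CommRingCat.of k)).inv := by
    rw [← Category.assoc, ← h1, Category.assoc, ← Spec.map_comp, Iso.inv_hom_id, Spec.map_id,
      Category.comp_id]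
  conv_lhs => rw [h2]
  rw [Scheme.fromSpecStalk_toSpecΓ_assoc, ← Spec.map_comp, ← Spec.map_comp]
  rfl

/-- factorization of a point through the local ring of its image -/
theorem exists_factor {X : Scheme.{u}} (K : Type u) [Field K]
    (g : Spec (CommRingCat.of K) ⟶ X) (x : X) (hgx : g (closedPoint (CommRingCat.of K)) = x) :
    ∃ φ : X.presheaf.stalk x →+* K,
      g = Spec.map (CommRingCat.ofHom φ) ≫ X.fromSpecStalk x ∧
      Set.range φ = Set.range (Scheme.stalkClosedPointTo g).hom := by
  subst hgx
  exact ⟨(Scheme.stalkClosedPointTo g).hom, (Scheme.Spec_stalkClosedPointTo_fromSpecStalk g).symm, rfl⟩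



/-- closed points of the projective line have one-dimensional local rings -/
theorem dim_stalk_P1 (y : P1 k) (hy : IsClosed ({y} : Set (P1 k))) :
    ringKrullDim ((P1 k).presheaf.stalk y) = 1 := by
  obtain ⟨i, p, rfl⟩ := exists_chart k y
  obtain ⟨j, hij⟩ : ∃ j : Fin (1 + 1), j ≠ i := by
    fin_cases i
    · exact ⟨1, by decide⟩
    · exact ⟨0, by decide⟩
  let e := chartEquiv k i j hij
  haveI : IsDomain (Chart k i) := e.toMulEquiv.isDomain (Polynomial k)
  haveI : IsPrincipalIdealRing (Chart k i) :=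
    IsPrincipalIdealRing.of_surjective e.symm.toRingHom e.symm.surjective
  have hnf : ¬ IsField (Chart k i) := fun h =>
    Polynomial.not_isField k (e.symm.toMulEquiv.isField h)
  exact dim_stalk_of_chart (Chart k i) hnf (chartι k i) p hy

/-- transport of the bijective local homomorphism of a point -/
theorem exists_equiv_of_bijective {N : Scheme.{u}} (K : Type u) [Field K]
    (f : Spec (CommRingCat.of K) ⟶ N) (x : N) (hx : f (closedPoint (CommRingCat.of K)) = x)
    (hbij : Function.Bijective (Scheme.stalkClosedPointTo f).hom) :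
    ∃ e : N.presheaf.stalk x ≃+* K, ∀ b : Γ(N, ⊤),
      e ((N.presheaf.germ ⊤ x trivial).hom b) =
        (Scheme.ΓSpecIso (CommRingCat.of K)).hom.hom (f.appTop.hom b) := by
  subst hx
  refine ⟨RingEquiv.ofBijective _ hbij, fun b => ?_⟩
  have h := stalkClosedPointTo_germ_eq_evClosed (CommRingCat.of K) f ⊤ trivial ⊤ le_top trivial b
  rw [RingEquiv.ofBijective_apply]
  rw [h]
  have : evClosed (CommRingCat.of K) ⊤ trivial = (Scheme.ΓSpecIso (CommRingCat.of K)).hom :=
    germ_stalkClosedPointIso_hom (CommRingCat.of K)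
  rw [this]
  rfl

attribute [local instance] Curv2.stalkAlgebra

theorem S2345_main (k : Type u) [Field k] (K : Type u) [Field K] [Algebra k K]
    (hfg : (⊤ : IntermediateField k K).FG) (htr : Algebra.trdeg k K = 1) :
    ∃ (X : Scheme.{u}) (_ : X.Over (Spec (CommRingCat.of k))) (_ : IsIntegral X), IsProper (X ↘ (Spec (CommRingCat.of k))) ∧ Pi1.IsNormalScheme X ∧
      (∀ x : X, IsClosed ({x} : Set X) → ringKrullDim (X.presheaf.stalk x) = 1) ∧
      ∃ e : X.presheaf.stalk (genericPoint X) ≃+* K, ∀ c : k, e (algebraMap k (X.presheaf.stalk (genericPoint X)) c) = algebraMap k K c := by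
  obtain ⟨τ, hτ, halg⟩ := exists_transcendental_of_trdeg_eq_one k K htr
  haveI := isIntegral_P1 k
  haveI := isProper_toSpec k
  have h10 : (1 : Fin (1 + 1)) ≠ 0 := by decide
  -- the chart map to `K`
  let ψ : Chart k 0 →+* K :=
    (Polynomial.aeval τ : Polynomial k →ₐ[k] K).toRingHom.comp (chartEquiv k 0 1 h10).toRingHom
  have hψinj : Function.Injective ψ := by
    have h1 : Function.Injective (Polynomial.aeval τ : Polynomial k →ₐ[k] K) :=
      transcendental_iff_injective.mp hτ
    exact h1.comp (chartEquiv k 0 1 h10).injective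
  have hψC : ∀ c, ψ (chartC k 0 c) = algebraMap k K c := by
    intro c
    show (Polynomial.aeval τ) (chartEquiv k 0 1 h10 (chartC k 0 c)) = _
    rw [chartEquiv_chartC, Polynomial.aeval_C]
  haveI : IsDomain (Chart k 0) := (chartEquiv k 0 1 h10).toMulEquiv.isDomain (Polynomial k)
  let g : Spec (CommRingCat.of K) ⟶ P1 k := Spec.map (CommRingCat.ofHom ψ) ≫ chartι k 0
  have hgpt : g (closedPoint (CommRingCat.of K)) = genericPoint (P1 k) := by
    rw [← genericPoint_eq_of_isOpenImmersion (chartι k 0)]
    show (chartι k 0) ((Spec.map (CommRingCat.ofHom ψ)) (closedPoint (CommRingCat.of K))) = _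
    congr 1
    rw [genericPoint_eq_bot_of_affine]
    apply PrimeSpectrum.ext
    show Ideal.comap ψ (IsLocalRing.maximalIdeal K) = ⊥
    rw [IsLocalRing.maximalIdeal_eq_bot]
    exact (RingHom.injective_iff_ker_eq_bot ψ).mp hψinj
  obtain ⟨φ, hg, hrange⟩ := exists_factor K g (genericPoint (P1 k)) hgpt
  -- compatibility with `k`
  have hgs : g ≫ P1.toSpec k = Spec.map (CommRingCat.ofHom (algebraMap k K)) := by
    show (Spec.map (CommRingCat.ofHom ψ) ≫ chartι k 0) ≫ P1.toSpec k = _
    rw [Category.assoc, chartι_toSpec, ← Spec.map_comp]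
    congr 1
    apply CommRingCat.hom_ext
    apply RingHom.ext
    intro c
    exact hψC c
  let ρ : k →+* (P1 k).presheaf.stalk (genericPoint (P1 k)) :=
    ((P1 k).presheaf.germ ⊤ (genericPoint (P1 k)) trivial).hom.comp (Coh.toGlobal (P1.toSpec k))
  have hρ : ∀ c, φ (ρ c) = algebraMap k K c := by
    have h1 : g ≫ P1.toSpec k = Spec.map (CommRingCat.ofHom (φ.comp ρ)) := by
      rw [hg, Category.assoc, fromSpecStalk_comp_eq, ← Spec.map_comp]
      rfl
    rw [hgs] at h1
    have h2 := Spec.map_injective h1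
    intro c
    have h3 := congrArg (fun f => f.hom c) h2
    exact h3.symm
  -- finiteness of `φ`
  letI : Field ((P1 k).presheaf.stalk (genericPoint (P1 k))) :=
    (isField_functionField (P1 k)).toField
  have hS : ∀ s ∈ Algebra.adjoin k ({τ} : Set K), s ∈ φ.range := by
    intro s hs
    rw [Algebra.adjoin_singleton_eq_range_aeval] at hs
    obtain ⟨p, rfl⟩ := hs
    obtain ⟨a, ha⟩ := exists_preimage_stalkClosedPointTo (Chart k 0) K ψ (chartι k 0)
      ((chartEquiv k 0 1 h10).symm p)
    have hmem : ψ ((chartEquiv k 0 1 h10).symm p) ∈ Set.range φ := by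
      rw [hrange]
      exact ⟨a, ha⟩
    obtain ⟨a', ha'⟩ := hmem
    refine ⟨a', ?_⟩
    rw [ha']
    show (Polynomial.aeval τ) (chartEquiv k 0 1 h10 ((chartEquiv k 0 1 h10).symm p)) = _
    rw [RingEquiv.apply_symm_apply]
    rfl
  have hφfin : φ.Finite :=
    finite_of_range k ((P1 k).presheaf.stalk (genericPoint (P1 k))) K φ ρ hρ
      (Algebra.adjoin k ({τ} : Set K)) hS hfg
  -- the normalization
  haveI : QuasiCompact g := inferInstance
  haveI : QuasiSeparated g := inferInstance
  obtain ⟨hNint, hnormal, -, hη', hinj, hrange'⟩ := S4448_main (P1 k) K φ g hg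
  have hKf : IsField (CommRingCat.of K) := (inferInstance : Field K).toIsField
  have hgpt' : ∀ t, g t = genericPoint (P1 k) := by
    intro t
    rw [hg]
    exact fromSpecStalk_genericPoint_apply (P1 k) _
  haveI hfin : IsFinite g.fromNormalization :=
    isFinite_fromNormalization_of_field k (P1 k) (P1.toSpec k) K φ hφfin g hg
  refine ⟨g.normalization, ⟨g.fromNormalization ≫ P1.toSpec k⟩, hNint, ?_, hnormal, ?_, ?_⟩
  · show IsProper (g.fromNormalization ≫ P1.toSpec k)
    infer_instance
  · intro x' hx'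
    exact dim_stalk_eq_one_of_isIntegralHom g.fromNormalization
      (fromNormalization_genericPoint (CommRingCat.of K) hKf g hgpt') (dim_stalk_P1 k) x' hx'
  · -- the function field
    have hsurj : Function.Surjective (Scheme.stalkClosedPointTo g.toNormalization).hom := by
      intro y
      have hy : y ∈ Set.range (Scheme.stalkClosedPointTo g.toNormalization).hom := by
        rw [hrange']
        have hint : φ.IsIntegralElem y := hφfin.to_isIntegral y
        obtain ⟨q, hq, hq0⟩ := hint
        exact ⟨q, hq, hq0⟩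
      exact hy
    obtain ⟨e, he⟩ := exists_equiv_of_bijective K g.toNormalization (genericPoint g.normalization)
      hη' ⟨hinj, hsurj⟩
    refine ⟨e, fun c => ?_⟩
    show e ((g.normalization.presheaf.germ ⊤ (genericPoint g.normalization) trivial).hom
      ((Coh.toGlobal (g.fromNormalization ≫ P1.toSpec k)) c)) = _
    rw [he]
    show (Scheme.ΓSpecIso (CommRingCat.of K)).hom.hom (g.toNormalization.appTop.hom
      ((g.fromNormalization ≫ P1.toSpec k).appTop.hom
        ((Scheme.ΓSpecIso (CommRingCat.of k)).inv.hom c))) = _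
    have h1 : (g.fromNormalization ≫ P1.toSpec k).appTop ≫ g.toNormalization.appTop =
        (Spec.map (CommRingCat.ofHom (algebraMap k K))).appTop := by
      rw [← Scheme.Hom.comp_appTop, ← Category.assoc,
        Scheme.Hom.toNormalization_fromNormalization, hgs]
    have h2 := Scheme.ΓSpecIso_naturality (CommRingCat.ofHom (algebraMap k K))
    have h3 : (Scheme.ΓSpecIso (CommRingCat.of k)).inv ≫
        ((g.fromNormalization ≫ P1.toSpec k).appTop ≫ g.toNormalization.appTop) ≫
        (Scheme.ΓSpecIso (CommRingCat.of K)).hom = CommRingCat.ofHom (algebraMap k K) := by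
      rw [h1, Iso.inv_comp_eq]
      exact h2
    exact congrArg (fun f => f.hom c) h3


end Groth.Agent.Lib.Helper4.P1Curve1
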