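import Mathlib
import Groth.Agent.S0843
import Groth.Agent.S0844
import Groth.Agent.S0845

/-!
# Euler characteristic of O(n) on projective space over a field (helper4)
-/

set_option backward.isDefEq.respectTransparency.types false
set_option synthInstance.maxHeartbeats 400000
set_option autoImplicit false
set_option linter.unusedSectionVars false
set_option linter.style.haveILetI false
set_option linter.unusedSimpArgs false
universe u v w
open CategoryTheory AlgebraicGeometry MvPolynomial

namespace Groth.Agent.Lib.Helper4.PnX1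

theorem finrank_hom (k : Type u) [Field k] (r d : ℕ) :
    Module.finrank k (homogeneousSubmodule (Fin (r + 1)) k d) = (d + r).choose r := by
  classical
  rw [homogeneousSubmodule_eq_finsupp_supported]
  rw [(AddMonoidAlgebra.supportedEquivFinsupp (R := k) (S := k)
    {e : Fin (r + 1) →₀ ℕ | e.degree = d}).finrank_eq]
  have hset : {e : Fin (r + 1) →₀ ℕ | e.degree = d} =
      ↑((Finset.univ : Finset (Fin (r + 1))).finsuppAntidiag d) := by
    ext e
    simp [Finsupp.degree_eq_sum]
  haveI : Fintype ↥{e : Fin (r + 1) →₀ ℕ | e.degree = d} := by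
    rw [hset]
    infer_instance
  rw [Module.finrank_finsupp_self]
  rw [← Set.toFinset_card]
  have : Set.toFinset {e : Fin (r + 1) →₀ ℕ | e.degree = d} =
      (Finset.univ : Finset (Fin (r + 1))).finsuppAntidiag d := by
    ext e
    simp [Finsupp.degree_eq_sum]
  rw [this, Finset.card_finsuppAntidiag_nat_eq_choose]
  simp only [Finset.card_univ, Fintype.card_fin]
  have h : r + 1 + d - 1 = d + r := by omega
  rw [h, ← Nat.choose_symm_add]

variable (k : Type u) [Field k] (r : ℕ) (hr : 0 < r)

theorem fr_zero (n : ℤ) (j : ℕ) (h₀ : ¬ (j = 0 ∧ 0 ≤ n)) (hn : ¬ (j = r ∧ n ≤ -((r : ℤ) + 1))) :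
    Module.finrank k (Coh.HH (CohB1.ProjSpace r k) (Twist.twistProjSpace r k n) j) = 0 := by
  haveI := Groth.Agent.S0844.result k r n j h₀ hn
  exact Module.finrank_zero_of_subsingleton

theorem fr_H0 (m : ℕ) :
    Module.finrank k (Coh.HH (CohB1.ProjSpace r k) (Twist.twistProjSpace r k (m : ℤ)) 0) =
      (m + r).choose r := by
  obtain ⟨e⟩ := Groth.Agent.S0843.result k r m
  rw [e.finrank_eq, finrank_hom]

theorem fr_Hr (m : ℕ) :
    Module.finrank k (Coh.HH (CohB1.ProjSpace r k) (Twist.twistProjSpace r k (-((r : ℤ) + 1 + m))) r) =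
      (m + r).choose r := by
  obtain ⟨e⟩ := Groth.Agent.S0845.result k r m
  rw [e.finrank_eq, finrank_hom]

include hr in
theorem euler (n : ℤ) :
    ((Finset.range (r + 1)).sum fun j => (-1 : ℤ) ^ j *
        (Module.finrank k (Coh.HH (CohB1.ProjSpace r k) (Twist.twistProjSpace r k n) j) : ℤ)) =
      Ring.choose (n + r) r := by
  by_cases h0 : 0 ≤ n
  · obtain ⟨m, rfl⟩ := Int.eq_ofNat_of_zero_le h0
    rw [Finset.sum_eq_single 0]
    · rw [fr_H0, pow_zero, one_mul]
      have : ((m : ℤ) + (r : ℤ)) = ((m + r : ℕ) : ℤ) := by push_cast; rfl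
      rw [this, Ring.choose_natCast]
    · intro j _ hj
      rw [fr_zero k r (m : ℤ) j (fun h => hj h.1) (fun h => by omega), Nat.cast_zero, mul_zero]
    · intro h
      exact absurd (Finset.mem_range.mpr (Nat.succ_pos r)) h
  · by_cases h1 : n ≤ -((r : ℤ) + 1)
    · obtain ⟨m, hm⟩ : ∃ m : ℕ, n = -((r : ℤ) + 1 + m) := ⟨(-n - (r + 1)).toNat, by omega⟩
      subst hm
      rw [Finset.sum_eq_single r]
      · rw [fr_Hr]
        have e1 : (-((r : ℤ) + 1 + m) + r) = -(((m + 1 : ℕ) : ℤ)) := by push_cast; ring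
        rw [e1, Ring.choose_neg]
        have e2 : (((m + 1 : ℕ) : ℤ) + (r : ℤ) - 1) = ((m + r : ℕ) : ℤ) := by push_cast; ring
        rw [e2, Ring.choose_natCast]
        rcases Nat.even_or_odd r with he | ho
        · rw [Int.negOnePow_even (r : ℤ) (by exact_mod_cast he), he.neg_one_pow]
          simp
        · rw [Int.negOnePow_odd (r : ℤ) (by exact_mod_cast ho), ho.neg_one_pow]
          simp
      · intro j _ hj
        rw [fr_zero k r _ j (fun h => by omega) (fun h => hj h.1), Nat.cast_zero, mul_zero]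
      · intro h
        exact absurd (Finset.mem_range.mpr (Nat.lt_succ_self r)) h
    · rw [Finset.sum_eq_zero]
      · obtain ⟨t, ht⟩ : ∃ t : ℕ, n + r = t := ⟨(n + r).toNat, by omega⟩
        rw [ht, Ring.choose_natCast, Nat.choose_eq_zero_of_lt (by omega)]
        rfl
      · intro j _
        rw [fr_zero k r n j (fun h => h0 h.2) (fun h => h1 h.2), Nat.cast_zero, mul_zero]

end Groth.Agent.Lib.Helper4.PnX1
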