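import Mathlib
import Groth.Prelude.Def_ega3
import Groth.Agent.Lib.Helper1.PullPow
import Groth.Agent.Lib.Helper1.InvInv

/-!
# Pullback of a tensor product of invertible modules; trivializations of L tensor inverse of M (helper4)
-/

set_option backward.isDefEq.respectTransparency.types false
set_option synthInstance.maxHeartbeats 400000
set_option autoImplicit false
set_option linter.unusedSectionVars false
set_option linter.style.haveILetI false
set_option linter.unusedSimpArgs false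
universe u v w
open CategoryTheory
open CategoryTheory.Limits
open AlgebraicGeometry
open TopologicalSpace
open Opposite
open Groth.Agent.Helper1
open Groth.Agent.Helper1.QcCech
open Groth.Agent.Helper1.LGen
open Groth.Agent.Helper1.PullSec
open Groth.Agent.Helper1.PullGen
open Groth.Agent.Helper1.CocycleIso
open Groth.Agent.Helper1.TensGen
open Groth.Agent.Helper1.TmulLib
open Groth.Agent.Helper1.TwForm
open Groth.Agent.Helper1.InvInv

namespace Groth.Agent.Lib.Helper4.PullTens1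

section PT
variable {Z S : Scheme.{u}} (u : Z ⟶ S)

theorem compat_tens {A B : S.Modules} {W₁ W₂ : S.Opens} {a₁ : Γ(A, W₁)} {a₂ : Γ(A, W₂)}
    {b₁ : Γ(B, W₁)} {b₂ : Γ(B, W₂)}
    (ha₁ : IsGen A W₁ a₁) (ha₂ : IsGen A W₂ a₂) (hb₁ : IsGen B W₁ b₁) (hb₂ : IsGen B W₂ b₂)
    (v : Γ(Z, u ⁻¹ᵁ (W₁ ⊓ W₂)))
    (hl : u ⁻¹ᵁ (W₁ ⊓ W₂) ≤ u ⁻¹ᵁ W₁) (hr : u ⁻¹ᵁ (W₁ ⊓ W₂) ≤ u ⁻¹ᵁ W₂)
    (hv : res _ hl (σ u (CohB1.tensorMod A B) W₁ (tm A B W₁ a₁ b₁)) =
      v • res _ hr (σ u (CohB1.tensorMod A B) W₂ (tm A B W₂ a₂ b₂))) :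
    res _ hl (tm _ _ _ (σ u A W₁ a₁) (σ u B W₁ b₁)) =
      v • res _ hr (tm _ _ _ (σ u A W₂ a₂) (σ u B W₂ b₂)) := by
  have hle₁ : W₁ ⊓ W₂ ≤ W₁ := inf_le_left
  have hle₂ : W₁ ⊓ W₂ ≤ W₂ := inf_le_right
  obtain ⟨wa, hwa⟩ := IsGen.exists_unit (ha₂.res hle₂) (ha₁.res hle₁)
  obtain ⟨wb, hwb⟩ := IsGen.exists_unit (hb₂.res hle₂) (hb₁.res hle₁)
  set wa' : Γ(Z, u ⁻¹ᵁ (W₁ ⊓ W₂)) := (u.app (W₁ ⊓ W₂)).hom (wa : Γ(S, W₁ ⊓ W₂)) with hwa'
  set wb' : Γ(Z, u ⁻¹ᵁ (W₁ ⊓ W₂)) := (u.app (W₁ ⊓ W₂)).hom (wb : Γ(S, W₁ ⊓ W₂)) with hwb'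
  have hg := isGen_σ u (isGen_tm (ha₂.res hle₂) (hb₂.res hle₂))
  have e1 : res _ hl (σ u (CohB1.tensorMod A B) W₁ (tm A B W₁ a₁ b₁)) =
      (wa' * wb') • σ u (CohB1.tensorMod A B) (W₁ ⊓ W₂)
        (tm A B _ (res A hle₂ a₂) (res B hle₂ b₂)) := by
    have := σ_res u (CohB1.tensorMod A B) hle₁ (tm A B W₁ a₁ b₁)
    rw [res_tm, hwa, hwb, tm_smul_left, tm_smul_right, σ_smul, σ_smul, ← mul_smul] at this
    exact this
  have e2 : res _ hr (σ u (CohB1.tensorMod A B) W₂ (tm A B W₂ a₂ b₂)) =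
      σ u (CohB1.tensorMod A B) (W₁ ⊓ W₂) (tm A B _ (res A hle₂ a₂) (res B hle₂ b₂)) := by
    have := σ_res u (CohB1.tensorMod A B) hle₂ (tm A B W₂ a₂ b₂)
    rw [res_tm] at this
    exact this
  have hv' : v = wa' * wb' := by
    apply (IsGen.bijective_self hg).1
    change v • _ = (wa' * wb') • _
    rw [← e1, ← e2]
    exact hv.symm
  have e3 : res _ hl (σ u A W₁ a₁) = wa' • σ u A (W₁ ⊓ W₂) (res A hle₂ a₂) := by
    have := σ_res u A hle₁ a₁
    rw [hwa, σ_smul] at this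
    exact this
  have e4 : res _ hr (σ u A W₂ a₂) = σ u A (W₁ ⊓ W₂) (res A hle₂ a₂) := σ_res u A hle₂ a₂
  have e5 : res _ hl (σ u B W₁ b₁) = wb' • σ u B (W₁ ⊓ W₂) (res B hle₂ b₂) := by
    have := σ_res u B hle₁ b₁
    rw [hwb, σ_smul] at this
    exact this
  have e6 : res _ hr (σ u B W₂ b₂) = σ u B (W₁ ⊓ W₂) (res B hle₂ b₂) := σ_res u B hle₂ b₂
  rw [res_tm, res_tm, e3, e4, e5, e6, tm_smul_left, tm_smul_right, hv', mul_smul]

/-- the family of matching generators of `u^*(A ⊗ B)` and `u^*A ⊗ u^*B` -/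
noncomputable def tensFam {A B : S.Modules} (hA : PicF.IsInvertible A) (hB : PicF.IsInvertible B) :
    GenFam ((Scheme.Modules.pullback u).obj (CohB1.tensorMod A B))
      (CohB1.tensorMod ((Scheme.Modules.pullback u).obj A) ((Scheme.Modules.pullback u).obj B)) where
  ι := Σ W : S.Opens, {ab : Γ(A, W) × Γ(B, W) // IsGen A W ab.1 ∧ IsGen B W ab.2}
  W i := u ⁻¹ᵁ i.1
  a i := σ u (CohB1.tensorMod A B) i.1 (tm A B i.1 i.2.1.1 i.2.1.2)
  b i := tm _ _ _ (σ u A i.1 i.2.1.1) (σ u B i.1 i.2.1.2)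
  ha i := isGen_σ u (isGen_tm i.2.2.1 i.2.2.2)
  hb i := isGen_tm (isGen_σ u i.2.2.1) (isGen_σ u i.2.2.2)
  cov z := by
    obtain ⟨W, a, b, hxW, ha, hb⟩ := exists_isGen₂ hA hB (u z)
    exact ⟨⟨W, ⟨(a, b), ha, hb⟩⟩, hxW⟩
  compat := by
    rintro ⟨W₁, ⟨⟨a₁, b₁⟩, h₁, h₁'⟩⟩ ⟨W₂, ⟨⟨a₂, b₂⟩, h₂, h₂'⟩⟩ v hv
    exact compat_tens u h₁ h₂ h₁' h₂' v _ _ hv

/-- **the pullback of a tensor product of invertible modules is the tensor product of the
pullbacks** -/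
noncomputable def pullTensIso {A B : S.Modules} (hA : PicF.IsInvertible A)
    (hB : PicF.IsInvertible B) :
    (Scheme.Modules.pullback u).obj (CohB1.tensorMod A B) ≅
      CohB1.tensorMod ((Scheme.Modules.pullback u).obj A) ((Scheme.Modules.pullback u).obj B) :=
  (tensFam u hA hB).iso

end PT

section Inv
variable {X : Scheme.{u}} {N N' : X.Modules}

/-- the symmetric family -/
def InvFam.symm (F : InvFam N N') : InvFam N' N where
  ι := F.ι
  V := F.V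
  cov := F.cov
  n := F.n'
  n' := F.n
  hn := F.hn'
  hn' := F.hn
  η := F.η'
  η' := F.η
  hη := F.hη'
  hη' := F.hη
  mul := fun i j => by rw [mul_comm]; exact F.mul i j

/-- mutually inverse modules tensor to the structure sheaf -/
theorem InvFam.nonempty_tensor_iso (F : InvFam N N') :
    Nonempty (CohB1.tensorMod N N' ≅ Coh.structureModule X) := by
  obtain ⟨e1⟩ := InvInv.nonempty_iso F (Coh.structureModule X)
    (fun x => ⟨⊤, trivial, ⟨Scheme.Modules.restrictUnitIso _⟩⟩)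
  obtain ⟨e2⟩ := TwistAmpleOpen.nonempty_tensorMod_unit_iso N
  exact ⟨(Groth.Agent.Lead.TilT.tensorModCongr e2 (Iso.refl N')).symm ≪≫ e1⟩

end Inv

section Fin
variable {X Z : Scheme.{u}}

/-- the pullback of `L ⊗ M⁻¹` is trivial when the pullbacks of `L` and `M` are isomorphic -/
theorem nonempty_pull_iso (φ : Z ⟶ X) {L M K : X.Modules} (hL : PicF.IsInvertible L)
    (hK : PicF.IsInvertible K) (F : InvFam M K)
    (e : (Scheme.Modules.pullback φ).obj L ≅ (Scheme.Modules.pullback φ).obj M) :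
    Nonempty ((Scheme.Modules.pullback φ).obj (CohB1.tensorMod L K) ≅ Coh.structureModule Z) := by
  obtain ⟨e3⟩ := InvFam.nonempty_tensor_iso (InvFam.pullback φ F)
  exact ⟨pullTensIso φ hL hK ≪≫ Groth.Agent.Lead.TilT.tensorModCongr e (Iso.refl _) ≪≫ e3⟩

/-- a trivialization of `L ⊗ M⁻¹` over an open gives an isomorphism of `L` and `M` there -/
theorem nonempty_restrict_iso {L M K : X.Modules} (hL : PicF.IsInvertible L) (F : InvFam M K)
    (W : X.Opens)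
    (τ : (CohB1.tensorMod L K).restrict W.ι ≅ Coh.structureModule (↑W : Scheme.{u})) :
    Nonempty (L.restrict W.ι ≅ M.restrict W.ι) := by
  obtain ⟨e1⟩ := InvInv.nonempty_iso (InvFam.symm F) L hL
  obtain ⟨e2⟩ := TwistAmpleOpen.nonempty_tensorMod_unit_iso (M.restrict W.ι)
  exact ⟨(Scheme.Modules.restrictFunctor W.ι).mapIso e1.symm ≪≫
    (Groth.Agent.Lead.TilT.restrictTensorIso (CohB1.tensorMod L K) M W.ι).symm ≪≫
    Groth.Agent.Lead.TilT.tensorModCongr τ (Iso.refl _) ≪≫ e2⟩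

end Fin

end Groth.Agent.Lib.Helper4.PullTens1
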