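import Mathlib
import Groth.Agent.Lib.Helper1.CocycleIso

/-!
# Gluing morphisms of O_X-modules from local data on a cover (helper4)
-/

set_option backward.isDefEq.respectTransparency.types false
set_option synthInstance.maxHeartbeats 400000
set_option autoImplicit false
set_option linter.unusedSectionVars false
set_option linter.style.haveILetI false
set_option linter.unusedSimpArgs false
universe u v w
open CategoryTheory CategoryTheory.Limits AlgebraicGeometry TopologicalSpace Opposite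
open Groth.Agent.Helper1
open Groth.Agent.Helper1.QcCech Groth.Agent.Helper1.TwForm Groth.Agent.Helper1.TwistSec

namespace Groth.Agent.Lib.Helper4.DuF1

variable {X : Scheme.{u}}

/-- naturality of restriction -/
theorem app_res {M N : X.Modules} (φ : M ⟶ N) {U V : X.Opens} (h : V ≤ U) (s : Γ(M, U)) :
    φ.app V (res M h s) = res N h (φ.app U s) :=
  ConcreteCategory.congr_hom (φ.mapPresheaf.naturality (homOfLE h).op) s

/-- a morphism of modules given locally on the opens inside the members of a cover -/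
structure LocHom (A B : X.Modules) where
  ι : Type u
  W : ι → X.Opens
  cov : ∀ x : X, ∃ i, x ∈ W i
  tr : ∀ (i : ι) {V : X.Opens} (hV : V ≤ W i), Γ(A, V) → Γ(B, V)
  tr_add : ∀ (i : ι) {V : X.Opens} (hV : V ≤ W i) (g g' : Γ(A, V)),
    tr i hV (g + g') = tr i hV g + tr i hV g'
  tr_smul : ∀ (i : ι) {V : X.Opens} (hV : V ≤ W i) (r : Γ(X, V)) (g : Γ(A, V)),
    tr i hV (r • g) = r • tr i hV g
  tr_res : ∀ (i : ι) {V V' : X.Opens} (hV : V ≤ W i) (h : V' ≤ V) (g : Γ(A, V)),
    res B h (tr i hV g) = tr i (h.trans hV) (res A h g)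
  tr_indep : ∀ (i j : ι) {V : X.Opens} (hi : V ≤ W i) (hj : V ≤ W j) (g : Γ(A, V)),
    tr i hi g = tr j hj g

namespace LocHom

variable {A B : X.Modules} (F : LocHom A B)

theorem exists_glue (U : X.Opens) (g : Γ(A, U)) :
    ∃ g' : Γ(B, U), ∀ (i : F.ι) (V : X.Opens) (hV : V ≤ U) (hVi : V ≤ F.W i),
      res B hV g' = F.tr i hVi (res A hV g) := by
  obtain ⟨g', hg'⟩ := glue_of_compatible B (fun i : F.ι => U ⊓ F.W i) U (fun _ => inf_le_left)
    (fun x hx => by
      obtain ⟨i, hi⟩ := F.cov x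
      exact Opens.mem_iSup.2 ⟨i, ⟨hx, hi⟩⟩)
    (fun i => F.tr i inf_le_right (res A inf_le_left g)) (by
      intro i j
      rw [F.tr_res, F.tr_res, res_res, res_res]
      exact F.tr_indep i j _ _ _)
  refine ⟨g', fun i V hV hVi => ?_⟩
  have hV' : V ≤ U ⊓ F.W i := le_inf hV hVi
  have e1 : res B hV g' = res B hV' (res B (inf_le_left : U ⊓ F.W i ≤ U) g') := by
    rw [res_res]
  rw [e1, hg', F.tr_res, res_res]

/-- the glued map on sections -/
noncomputable def Φ (U : X.Opens) (g : Γ(A, U)) : Γ(B, U) := (F.exists_glue U g).choose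

theorem Φ_spec (U : X.Opens) (g : Γ(A, U)) (i : F.ι) (V : X.Opens) (hV : V ≤ U)
    (hVi : V ≤ F.W i) : res B hV (F.Φ U g) = F.tr i hVi (res A hV g) :=
  (F.exists_glue U g).choose_spec i V hV hVi

/-- sections agreeing on the members of the cover are equal -/
theorem eq_of_fam (M : X.Modules) {U : X.Opens} (s t : Γ(M, U))
    (h : ∀ (i : F.ι) (V : X.Opens) (hV : V ≤ U), V ≤ F.W i → res M hV s = res M hV t) :
    s = t := by
  apply eq_of_locally
  intro x hx
  obtain ⟨i, hi⟩ := F.cov x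
  exact ⟨U ⊓ F.W i, inf_le_left, ⟨hx, hi⟩, h i _ _ inf_le_right⟩

theorem Φ_add (U : X.Opens) (g g' : Γ(A, U)) : F.Φ U (g + g') = F.Φ U g + F.Φ U g' := by
  apply F.eq_of_fam
  intro i V hV hVi
  rw [map_add, F.Φ_spec U _ i V hV hVi, F.Φ_spec U _ i V hV hVi, F.Φ_spec U _ i V hV hVi,
    map_add, F.tr_add]

theorem Φ_smul (U : X.Opens) (r : Γ(X, U)) (g : Γ(A, U)) : F.Φ U (r • g) = r • F.Φ U g := by
  apply F.eq_of_fam
  intro i V hV hVi
  rw [res_smul, F.Φ_spec U _ i V hV hVi, F.Φ_spec U _ i V hV hVi, res_smul, F.tr_smul]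

theorem Φ_res (U V : X.Opens) (h : V ≤ U) (g : Γ(A, U)) :
    res B h (F.Φ U g) = F.Φ V (res A h g) := by
  apply F.eq_of_fam
  intro i V' hV' hVi
  rw [res_res, F.Φ_spec U _ i V' (hV'.trans h) hVi, F.Φ_spec V _ i V' hV' hVi, res_res]

/-- the glued morphism -/
noncomputable def hom : A ⟶ B := homMk A B F.Φ F.Φ_add F.Φ_smul F.Φ_res

theorem hom_app (U : X.Opens) (g : Γ(A, U)) : F.hom.app U g = F.Φ U g := rfl

theorem hom_app_of_le (i : F.ι) {V : X.Opens} (hV : V ≤ F.W i) (g : Γ(A, V)) :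
    F.hom.app V g = F.tr i hV g := by
  rw [hom_app]
  have := F.Φ_spec V g i V le_rfl hV
  rwa [res_self, res_self] at this

/-- morphisms agreeing on the opens inside the members of the cover are equal -/
theorem hom_ext {M : X.Modules} (f g : M ⟶ B) 
    (h : ∀ (i : F.ι) (V : X.Opens) (hV : V ≤ F.W i) (m : Γ(M, V)), f.app V m = g.app V m) :
    f = g := by
  apply Scheme.Modules.hom_ext
  intro U
  ext m
  apply F.eq_of_fam B
  intro i V hV hVi
  have h1 := app_res f hV m
  have h2 := app_res g hV m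
  exact h1.symm.trans ((h i V hVi _).trans h2)

theorem isIso_hom (hb : ∀ (i : F.ι) {V : X.Opens} (hV : V ≤ F.W i), Function.Bijective (F.tr i hV)) :
    IsIso F.hom := by
  apply isIso_of_app_bijective
  intro U
  constructor
  · intro g g' h
    apply F.eq_of_fam A
    intro i V hV hVi
    apply (hb i hVi).1
    have h' : F.Φ U g = F.Φ U g' := h
    rw [← F.Φ_spec U g i V hV hVi, ← F.Φ_spec U g' i V hV hVi, h']
  · intro t
    have hs : ∀ i : F.ι, ∃ s : Γ(A, U ⊓ F.W i), F.tr i inf_le_right s = res B inf_le_left t :=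
      fun i => (hb i inf_le_right).2 _
    choose s hs using hs
    obtain ⟨g, hg⟩ := glue_of_compatible A (fun i : F.ι => U ⊓ F.W i) U (fun _ => inf_le_left)
      (fun x hx => by
        obtain ⟨i, hi⟩ := F.cov x
        exact Opens.mem_iSup.2 ⟨i, ⟨hx, hi⟩⟩) s (by
        intro i j
        apply (hb i (inf_le_left.trans inf_le_right)).1
        have e1 := F.tr_res i (inf_le_right : U ⊓ F.W i ≤ F.W i)
          (inf_le_left : (U ⊓ F.W i) ⊓ (U ⊓ F.W j) ≤ U ⊓ F.W i) (s i)
        have e2 := F.tr_res j (inf_le_right : U ⊓ F.W j ≤ F.W j)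
          (inf_le_right : (U ⊓ F.W i) ⊓ (U ⊓ F.W j) ≤ U ⊓ F.W j) (s j)
        rw [hs] at e1 e2
        rw [res_res] at e1 e2
        refine e1.symm.trans (e2.trans ?_)
        exact F.tr_indep j i _ _ _)
    refine ⟨g, ?_⟩
    change F.Φ U g = t
    apply F.eq_of_fam B
    intro i V hV hVi
    rw [F.Φ_spec U g i V hV hVi]
    have hV' : V ≤ U ⊓ F.W i := le_inf hV hVi
    have e1 : res A hV g = res A hV' (res A (inf_le_left : U ⊓ F.W i ≤ U) g) := by
      rw [res_res]
    rw [e1, hg]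
    have e2 := F.tr_res i (inf_le_right : U ⊓ F.W i ≤ F.W i) hV' (s i)
    rw [hs, res_res] at e2
    exact e2.symm

end LocHom

end Groth.Agent.Lib.Helper4.DuF1
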