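import Mathlib
import Groth.Agent.Lib.Helper4.DuF1
import Groth.Agent.Lib.Helper4.TwExact
import Groth.Agent.Lib.Helper1.InvInv

/-!
# Tensoring with an invertible module is an autoequivalence of the category of O_X-modules (helper4)
-/

set_option backward.isDefEq.respectTransparency.types false
set_option synthInstance.maxHeartbeats 400000
set_option autoImplicit false
set_option linter.unusedSectionVars false
set_option linter.style.haveILetI false
set_option linter.unusedSimpArgs false
universe u v w
open CategoryTheory CategoryTheory.Limits AlgebraicGeometry TopologicalSpace Opposite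
open Groth.Agent.Helper1
open Groth.Agent.Helper1.QcCech Groth.Agent.Helper1.TwForm Groth.Agent.Helper1.TwistSec
open Groth.Agent.Helper1.LGen Groth.Agent.Helper1.TensGen Groth.Agent.Helper1.TmulLib
open Groth.Agent.Helper1.InvInv
open Groth.Agent.Lib.Helper4.DuF1
open Groth.Agent.Lib.Helper4.TwExact
open Groth.Agent.Lib.Helper4

namespace Groth.Agent.Lib.Helper4.DuF2

variable {X : Scheme.{u}} {N N' : X.Modules} (F : InvFam N N')

theorem trip_add (L : X.Modules) (i : F.ι) (O : X.Opens) (hi : O ≤ F.V i) (l l' : Γ(L, O)) :
    trip F L i O hi (l + l') = trip F L i O hi l + trip F L i O hi l' := by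
  unfold trip
  rw [tm_add_left, tm_add_left]

theorem bijective_trip (L : X.Modules) (i : F.ι) (O : X.Opens) (hi : O ≤ F.V i) :
    Function.Bijective (trip F L i O hi) := by
  have h1 := bijective_tm_of_isGen L ((F.hn i).res hi)
  have h2 := bijective_tm_of_isGen (CohB1.tensorMod L N) ((F.hn' i).res hi)
  exact h2.comp h1

/-- the local description of the unit `L ⟶ (L ⊗ N) ⊗ N'` -/
noncomputable def unitLoc (L : X.Modules) :
    LocHom L (CohB1.tensorMod (CohB1.tensorMod L N) N') where
  ι := F.ι
  W := F.V
  cov := F.cov
  tr i V hV l := trip F L i V hV l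
  tr_add i V hV g g' := trip_add F L i V hV g g'
  tr_smul i V hV r g := trip_smul F L i V hV r g
  tr_res i V V' hV h g := res_trip F L i V V' h hV g
  tr_indep i j V hi hj g := trip_indep F L i j V hi hj g

/-- the unit morphism -/
noncomputable def unitHom (L : X.Modules) : L ⟶ (TL N').obj ((TL N).obj L) := (unitLoc F L).hom

theorem unitHom_app (L : X.Modules) (i : F.ι) {V : X.Opens} (hV : V ≤ F.V i) (l : Γ(L, V)) :
    (unitHom F L).app V l = trip F L i V hV l :=
  (unitLoc F L).hom_app_of_le i hV l

theorem isIso_unitHom (L : X.Modules) : IsIso (unitHom F L) :=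
  (unitLoc F L).isIso_hom (fun i V hV => bijective_trip F L i V hV)

theorem unitHom_natural {L L' : X.Modules} (φ : L ⟶ L') :
    φ ≫ unitHom F L' = unitHom F L ≫ (TL N').map ((TL N).map φ) := by
  apply (unitLoc F L').hom_ext
  intro (i : F.ι) V (hV : V ≤ F.V i) m
  change (unitHom F L').app V (φ.app V m) =
    ((TL N').map ((TL N).map φ)).app V ((unitHom F L).app V m)
  rw [unitHom_app F L' i hV, unitHom_app F L i hV]
  unfold trip
  refine Eq.symm ((TL_map_tm N' ((TL N).map φ) V _ _).trans ?_)
  exact congrArg (fun z => tm (CohB1.tensorMod L' N) N' V z (res N' hV (F.n' i)))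
    (TL_map_tm N φ V m _)

/-- the unit isomorphism -/
noncomputable def unitIso : 𝟭 X.Modules ≅ TL N ⋙ TL N' :=
  NatIso.ofComponents (fun L => @asIso _ _ _ _ (unitHom F L) (isIso_unitHom F L))
    (fun φ => unitHom_natural F φ)

/-- the symmetric family -/
def symmFam : InvFam N' N where
  ι := F.ι
  V := F.V
  cov := F.cov
  n := F.n'
  n' := F.n
  hn := F.hn'
  hn' := F.hn
  η := F.η'
  η' := F.η
  hη := F.hη'
  hη' := F.hη
  mul i j := by rw [mul_comm]; exact F.mul i j

/-- tensoring with an invertible module is an equivalence -/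
noncomputable def tensorEquiv : X.Modules ≌ X.Modules :=
  CategoryTheory.Equivalence.mk (TL N) (TL N') (unitIso F) (unitIso (symmFam F)).symm

end Groth.Agent.Lib.Helper4.DuF2
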