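import Mathlib
import Groth.Agent.Lib.Helper4.DuF2
import Groth.Agent.Lib.Helper5.Misc.UnitFree
import Groth.Agent.S0485

/-!
# Ext groups and tensoring with an invertible module; Ext(A,B)=0 from cohomology vanishing (helper4)
-/

set_option backward.isDefEq.respectTransparency.types false
set_option synthInstance.maxHeartbeats 400000
set_option autoImplicit false
set_option linter.unusedSectionVars false
set_option linter.style.haveILetI false
set_option linter.unusedSimpArgs false
universe u v w
open CategoryTheory CategoryTheory.Limits AlgebraicGeometry TopologicalSpace Opposite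
open CategoryTheory.Abelian
open Groth.Agent.Helper1
open Groth.Agent.Helper1.InvInv
open Groth.Agent.Lib.Helper4.TwExact
open Groth.Agent.Lib.Helper4

namespace Groth.Agent.Lib.Helper4.DuF3

variable {X : Scheme.{u}}

section
variable {N N' : X.Modules} (F : InvFam N N')

include F in
theorem isEquivalence_TL : (TL N).IsEquivalence :=
  inferInstanceAs (DuF2.tensorEquiv F).functor.IsEquivalence

end

theorem isEquivalence_TL_of_isInvertible {K : X.Modules} (hK : PicF.IsInvertible K) :
    (TL K).IsEquivalence := by
  obtain ⟨K', _, ⟨F⟩⟩ := exists_invFam_of_isInvertible hK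
  exact isEquivalence_TL F

theorem subsingleton_ext_of_tensor [HasExt.{u} X.Modules] {K : X.Modules} (hK : PicF.IsInvertible K)
    (A B : X.Modules) (i : ℕ) (h : Subsingleton (Ext ((TL K).obj A) ((TL K).obj B) i)) :
    Subsingleton (Ext A B i) := by
  haveI := isEquivalence_TL_of_isInvertible hK
  haveI : EnoughInjectives X.Modules := Groth.Agent.S0485.result _ X.ringCatSheaf
  haveI : (TL K).PreservesInjectiveObjects :=
    Functor.preservesInjectiveObjects_of_adjunction_of_preservesMonomorphisms
      (TL K).asEquivalence.symm.toAdjunction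
  have hb := Functor.mapExt_bijective_of_preservesInjectiveObjects (TL K) A B i
  exact hb.1.subsingleton


section iso
variable {𝒜 : Type*} [Category 𝒜] [Abelian 𝒜] [HasExt.{u} 𝒜]

/-- `Ext` only depends on the isomorphism class of the second variable -/
noncomputable def extAddEquivOfIso₂ (A : 𝒜) {B B' : 𝒜} (e : B ≅ B') (n : ℕ) :
    Ext A B n ≃+ Ext A B' n where
  toFun x := x.comp (Ext.mk₀ e.hom) (add_zero n)
  invFun y := y.comp (Ext.mk₀ e.inv) (add_zero n)
  left_inv x := by
    simp only
    rw [Ext.comp_assoc_of_third_deg_zero, Ext.mk₀_comp_mk₀, e.hom_inv_id, Ext.comp_mk₀_id]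
  right_inv y := by
    simp only
    rw [Ext.comp_assoc_of_third_deg_zero, Ext.mk₀_comp_mk₀, e.inv_hom_id, Ext.comp_mk₀_id]
  map_add' x y := Ext.add_comp _ _ _ _

theorem subsingleton_ext_of_iso {A A' B B' : 𝒜} (e : A ≅ A') (e' : B ≅ B') (n : ℕ)
    (h : Subsingleton (Ext A' B' n)) : Subsingleton (Ext A B n) :=
  ((Groth.Agent.Lib.Helper5.Misc.UnitFree.extAddEquivOfIso e B n).trans
    (extAddEquivOfIso₂ A' e' n)).toEquiv.subsingleton

end iso

theorem subsingleton_ext_unit [HasExt.{u} X.Modules] (M : X.Modules) (i : ℕ)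
    (h : Subsingleton (Coh.HH X M i)) : Subsingleton (Ext (Coh.structureModule X) M i) := by
  obtain ⟨e⟩ := Groth.Agent.Lib.Helper5.Misc.UnitFree.nonempty_ext_unit_addEquiv_H
    (Opens.grothendieckTopology X) X.ringCatSheaf M i
  exact e.toEquiv.subsingleton

/-- the general vanishing transfer: `Ext^i(A, B) = 0` if `A ⊗ K ≅ O` and `H^i(B ⊗ K) = 0` -/
theorem subsingleton_ext_of_tensor_unit [HasExt.{u} X.Modules] {K : X.Modules}
    (hK : PicF.IsInvertible K) (A B B' : X.Modules)
    (eA : CohB1.tensorMod A K ≅ Coh.structureModule X) (eB : CohB1.tensorMod B K ≅ B') (i : ℕ)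
    (h : Subsingleton (Coh.HH X B' i)) : Subsingleton (Ext A B i) := by
  apply subsingleton_ext_of_tensor hK A B i
  exact subsingleton_ext_of_iso eA eB i (subsingleton_ext_unit B' i h)
end Groth.Agent.Lib.Helper4.DuF3
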