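import Mathlib
import Groth.Agent.Lib.Helper4.HHFin2

/-!
# Dualizing pairs: dévissage (finite coproducts, quotients, isomorphisms) (helper4)
-/

set_option backward.isDefEq.respectTransparency.types false
set_option synthInstance.maxHeartbeats 400000
set_option autoImplicit false
set_option linter.unusedSectionVars false
set_option linter.style.haveILetI false
set_option linter.unusedSimpArgs false
universe u v w
open CategoryTheory CategoryTheory.Limits AlgebraicGeometry TopologicalSpace Opposite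
open CategoryTheory.Abelian
open Groth.Agent.Helper1
open Groth.Agent.Lib.Helper4

namespace Groth.Agent.Lib.Helper4.DuB1

variable (A : Type u) [CommRing A] {X : Scheme.{u}} [X.Over (Spec (CommRingCat.of A))]
variable (n : ℕ) (ω : X.Modules) (t : Coh.HH X ω n →ₗ[A] A)

/-- the dualizing property of `(ω, t)` in degree `n`, for one module `F` -/
def Dual (F : X.Modules) : Prop :=
  ∀ ψ : Coh.HH X F n →ₗ[A] A, ∃! φ : F ⟶ ω, ∀ x : Coh.HH X F n,
    ψ x = t (Sheaf.H.map ((SheafOfModules.toSheaf X.ringCatSheaf).map φ) n x)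

variable {A n ω t}

theorem dual_sigma {k : ℕ} (B : Fin k → X.Modules) (h : ∀ j, Dual A n ω t (B j)) :
    Dual A n ω t (∐ B) := by
  intro ψ
  have hj : ∀ j, ∃! φ : B j ⟶ ω, ∀ x : Coh.HH X (B j) n,
      (ψ.comp (Canon.HHlin A (Sigma.ι B j) n)) x =
        t (Sheaf.H.map ((SheafOfModules.toSheaf X.ringCatSheaf).map φ) n x) :=
    fun j => h j (ψ.comp (Canon.HHlin A (Sigma.ι B j) n))
  choose φ hφ hφu using hj
  refine ⟨Sigma.desc φ, fun x => ?_, fun φ' hφ' => ?_⟩
  · have h2 := HHFin1.HHlin_sum A Finset.univ (fun j => FinSigma.q B j ≫ Sigma.ι B j) n x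
    rw [FinSigma.sum_q_ι, HHFin1.HHlin_id] at h2
    have h3 : ψ x = ∑ j, ψ (Canon.HHlin A (FinSigma.q B j ≫ Sigma.ι B j) n x) := by
      conv_lhs => rw [h2]
      rw [map_sum]
    have h4 : t (Canon.HHlin A (Sigma.desc φ) n x) =
        ∑ j, t (Canon.HHlin A (Sigma.desc φ) n (Canon.HHlin A (FinSigma.q B j ≫ Sigma.ι B j) n x)) := by
      conv_lhs => rw [h2]
      rw [map_sum, map_sum]
    change ψ x = t (Canon.HHlin A (Sigma.desc φ) n x)
    rw [h3, h4]
    apply Finset.sum_congr rfl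
    intro j _
    rw [HHFin1.HHlin_comp, ← HHFin1.HHlin_comp A (Sigma.ι B j) (Sigma.desc φ), Sigma.ι_desc]
    exact hφ j _
  · apply Sigma.hom_ext
    intro j
    rw [Sigma.ι_desc]
    apply hφu j
    intro x
    change ψ (Canon.HHlin A (Sigma.ι B j) n x) = t (Canon.HHlin A (Sigma.ι B j ≫ φ') n x)
    rw [HHFin1.HHlin_comp]
    exact hφ' _


theorem dual_quot {E₀ E₁ F : X.Modules} (p : E₀ ⟶ F) [Epi p] (d : E₁ ⟶ E₀) (hd : d ≫ p = 0)
    (hex : Epi (kernel.lift p d hd))
    (hsurj : Function.Surjective (Canon.HHlin A p n))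
    (h0 : Dual A n ω t E₀) (h1 : Dual A n ω t E₁) : Dual A n ω t F := by
  intro ψ
  obtain ⟨φ₀, hφ₀, hφ₀u⟩ := h0 (ψ.comp (Canon.HHlin A p n))
  have hdφ : d ≫ φ₀ = 0 := by
    obtain ⟨φ₁, hφ₁, hφ₁u⟩ := h1 0
    have e1 : d ≫ φ₀ = φ₁ := by
      apply hφ₁u
      intro x
      change (0 : A) = t (Canon.HHlin A (d ≫ φ₀) n x)
      rw [HHFin1.HHlin_comp]
      have := hφ₀ (Canon.HHlin A d n x)
      change ψ (Canon.HHlin A p n (Canon.HHlin A d n x)) = _ at this
      rw [← HHFin1.HHlin_comp, hd, HHFin1.HHlin_zero, map_zero] at this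
      exact this
    have e2 : (0 : E₁ ⟶ ω) = φ₁ := by
      apply hφ₁u
      intro x
      change (0 : A) = t (Canon.HHlin A (0 : E₁ ⟶ ω) n x)
      rw [HHFin1.HHlin_zero, map_zero]
    rw [e1, ← e2]
  have hkφ : kernel.ι p ≫ φ₀ = 0 := by
    rw [← cancel_epi (kernel.lift p d hd), ← Category.assoc, kernel.lift_ι, hdφ, comp_zero]
  have hS' : (ShortComplex.mk (kernel.ι p) p (kernel.condition p)).Exact :=
    ShortComplex.exact_of_f_is_kernel _ (kernelIsKernel p)
  haveI : Epi (ShortComplex.mk (kernel.ι p) p (kernel.condition p)).g := inferInstanceAs (Epi p)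
  let φ : F ⟶ ω := hS'.desc φ₀ hkφ
  have hpφ : p ≫ φ = φ₀ := hS'.g_desc φ₀ hkφ
  refine ⟨φ, fun y => ?_, fun φ' hφ' => ?_⟩
  · obtain ⟨x, rfl⟩ := hsurj y
    have := hφ₀ x
    change ψ (Canon.HHlin A p n x) = t (Canon.HHlin A φ₀ n x) at this
    change ψ (Canon.HHlin A p n x) = t (Canon.HHlin A φ n (Canon.HHlin A p n x))
    rw [← HHFin1.HHlin_comp, hpφ]
    exact this
  · rw [← cancel_epi p, hpφ]
    apply hφ₀u
    intro x
    change ψ (Canon.HHlin A p n x) = t (Canon.HHlin A (p ≫ φ') n x)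
    rw [HHFin1.HHlin_comp]
    exact hφ' _


theorem dual_of_iso {F G : X.Modules} (e : F ≅ G) (h : Dual A n ω t F) : Dual A n ω t G := by
  intro ψ
  obtain ⟨φ, hφ, hφu⟩ := h (ψ.comp (Canon.HHlin A e.hom n))
  refine ⟨e.inv ≫ φ, fun y => ?_, fun φ' hφ' => ?_⟩
  · change ψ y = t (Canon.HHlin A (e.inv ≫ φ) n y)
    rw [HHFin1.HHlin_comp]
    have := hφ (Canon.HHlin A e.inv n y)
    change ψ (Canon.HHlin A e.hom n (Canon.HHlin A e.inv n y)) = _ at this
    rw [← HHFin1.HHlin_comp, e.inv_hom_id, HHFin1.HHlin_id] at this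
    exact this
  · rw [Iso.eq_inv_comp]
    apply hφu
    intro x
    change ψ (Canon.HHlin A e.hom n x) = t (Canon.HHlin A (e.hom ≫ φ') n x)
    rw [HHFin1.HHlin_comp]
    exact hφ' _

theorem surj_of_subsingleton {E F : X.Modules} (p : E ⟶ F) [Epi p]
    (h : Subsingleton (Coh.HH X (kernel p) (n + 1))) :
    Function.Surjective (Canon.HHlin A p n) := by
  have hS' : (ShortComplex.mk (kernel.ι p) p (kernel.condition p)).Exact :=
    ShortComplex.exact_of_f_is_kernel _ (kernelIsKernel p)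
  have : Mono (ShortComplex.mk (kernel.ι p) p (kernel.condition p)).f :=
    inferInstanceAs (Mono (kernel.ι p))
  have : Epi (ShortComplex.mk (kernel.ι p) p (kernel.condition p)).g := inferInstanceAs (Epi p)
  have hSE : (ShortComplex.mk (kernel.ι p) p (kernel.condition p)).ShortExact := { exact := hS' }
  intro x
  exact HHFin2.exact_g_delta A hSE n x (Subsingleton.elim _ _)

end Groth.Agent.Lib.Helper4.DuB1
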