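import Mathlib
import Groth.Prelude.Def_KLin
import Groth.Agent.Lib.Helper4.HHFin2
import Groth.Agent.Lib.Helper4.DuB1

/-!
# Linear connecting isomorphisms in cohomology and Ext; the degree zero duality as a linear equivalence (helper4)
-/

set_option backward.isDefEq.respectTransparency.types false
set_option synthInstance.maxHeartbeats 400000
set_option autoImplicit false
set_option linter.unusedSectionVars false
set_option linter.style.haveILetI false
set_option linter.unusedSimpArgs false
universe u v w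
open CategoryTheory CategoryTheory.Limits AlgebraicGeometry TopologicalSpace Opposite
open CategoryTheory.Abelian
open Groth.Agent.Helper1
open Groth.Agent.Lib.Helper4

namespace Groth.Agent.Lib.Helper4.DuF5

variable (k : Type u) [Field k] {X : Scheme.{u}} [X.Over (Spec (CommRingCat.of k))]

section Coh
variable {S : ShortComplex X.Modules} (hS : S.ShortExact)

/-- exactness at `H^{i+1}(X₁)` -/
theorem exact_delta_f (i : ℕ) (y : Coh.HH X S.X₁ (i + 1)) (hy : Canon.HHlin k S.f (i + 1) y = 0) :
    ∃ x, HHFin2.deltaLin k hS i x = y :=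
  Ext.covariant_sequence_exact₁.{u, u, u+1} _ (HHFin2.Sab_shortExact hS) y hy rfl

/-- `H^0` of a monomorphism is injective -/
theorem injective_H0 {K E : X.Modules} (f : K ⟶ E) [hf : Mono f] :
    Function.Injective (Canon.HHlin k f 0) := by
  haveI : (SheafOfModules.toSheaf.{u} X.ringCatSheaf).PreservesMonomorphisms := inferInstance
  haveI : Mono ((SheafOfModules.toSheaf.{u} X.ringCatSheaf).map f) :=
    @Functor.map_mono _ _ _ _ (SheafOfModules.toSheaf.{u} X.ringCatSheaf) _ _ _ f hf
  exact Ext.postcomp_mk₀_injective_of_mono.{u, u, u+1} _ ((SheafOfModules.toSheaf.{u} X.ringCatSheaf).map f)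

/-- the connecting map `H^j(X₃) → H^{j+1}(X₁)` is an isomorphism when the cohomology of `X₂`
vanishes in degrees `j` and `j+1` -/
noncomputable def cohShift (j : ℕ) (h0 : Subsingleton (Coh.HH X S.X₂ j))
    (h1 : Subsingleton (Coh.HH X S.X₂ (j + 1))) :
    Coh.HH X S.X₃ j ≃ₗ[k] Coh.HH X S.X₁ (j + 1) :=
  LinearEquiv.ofBijective (HHFin2.deltaLin k hS j) (by
    constructor
    · rw [← LinearMap.ker_eq_bot, LinearMap.ker_eq_bot']
      intro x hx
      obtain ⟨y, rfl⟩ := HHFin2.exact_g_delta k hS j x hx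
      rw [Subsingleton.elim y 0, map_zero]
    · intro y
      exact exact_delta_f k hS j y (Subsingleton.elim _ _))

end Coh


section ExtSide
variable [HasExt.{u} X.Modules] {S : ShortComplex X.Modules} (hS : S.ShortExact) (ω : X.Modules)

/-- the connecting map `Ext^i(X₁, ω) → Ext^{i+1}(X₃, ω)` is an isomorphism when the `Ext` groups
of `X₂` vanish in degrees `i` and `i+1` -/
noncomputable def extShift (i : ℕ) (h0 : Subsingleton (Ext S.X₂ ω i))
    (h1 : Subsingleton (Ext S.X₂ ω (i + 1))) :
    Ext S.X₁ ω i ≃ₗ[k] Ext S.X₃ ω (i + 1) :=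
  LinearEquiv.ofBijective (Ext.precompOfLinear hS.extClass k ω (add_comm 1 i)) (by
    constructor
    · rw [← LinearMap.ker_eq_bot, LinearMap.ker_eq_bot']
      intro x hx
      obtain ⟨x₂, rfl⟩ := Ext.contravariant_sequence_exact₁ hS ω x (add_comm 1 i) hx
      rw [Subsingleton.elim x₂ 0, Ext.comp_zero]
    · intro y
      exact Ext.contravariant_sequence_exact₃ hS ω y (Subsingleton.elim _ _) (add_comm 1 i))

end ExtSide

section Deg0
variable (n : ℕ) (ω : X.Modules) (t : Coh.HH X ω n →ₗ[k] k)

theorem toSheaf_smulMod (M : X.Modules) (a : k) :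
    (SheafOfModules.toSheaf X.ringCatSheaf).map (Formal.smulMod k M a) =
      Coh.smulAb M (Coh.toGlobal (X ↘ Spec (CommRingCat.of k)) a) := rfl

theorem HHlin_smulMod (M : X.Modules) (a : k) (i : ℕ) (x : Coh.HH X M i) :
    Canon.HHlin k (Formal.smulMod k M a) i x = a • x := rfl

/-- the duality map as a `k`-linear map -/
noncomputable def theta (F : X.Modules) : (F ⟶ ω) →ₗ[k] Module.Dual k (Coh.HH X F n) where
  toFun φ := t ∘ₗ Canon.HHlin k φ n
  map_add' φ ψ := LinearMap.ext fun x => by
    change t (Canon.HHlin k (φ + ψ) n x) = t (Canon.HHlin k φ n x) + t (Canon.HHlin k ψ n x)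
    rw [HHFin1.HHlin_add, map_add]
  map_smul' a φ := LinearMap.ext fun x => by
    change t (Canon.HHlin k (Formal.smulMod k F a ≫ φ) n x) = a • t (Canon.HHlin k φ n x)
    rw [HHFin1.HHlin_comp, HHlin_smulMod, map_smul, map_smul]

theorem theta_apply (F : X.Modules) (φ : F ⟶ ω) (x : Coh.HH X F n) :
    theta k n ω t F φ x = t (Canon.HHlin k φ n x) := rfl

theorem theta_comp {F G : X.Modules} (f : F ⟶ G) (φ : G ⟶ ω) :
    theta k n ω t F (f ≫ φ) = theta k n ω t G φ ∘ₗ Canon.HHlin k f n :=
  LinearMap.ext fun x => by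
    change t (Canon.HHlin k (f ≫ φ) n x) = t (Canon.HHlin k φ n (Canon.HHlin k f n x))
    rw [HHFin1.HHlin_comp]

theorem theta_bijective (F : X.Modules) (h : DuB1.Dual k n ω t F) :
    Function.Bijective (theta k n ω t F) := by
  constructor
  · intro φ φ' he
    obtain ⟨φ₀, _, hu⟩ := h (theta k n ω t F φ)
    have h1 : φ = φ₀ := hu φ (fun x => rfl)
    have h2 : φ' = φ₀ := hu φ' (fun x => by rw [he]; rfl)
    rw [h1, h2]
  · intro ψ
    obtain ⟨φ, hφ, _⟩ := h ψ
    exact ⟨φ, LinearMap.ext fun x => (hφ x).symm⟩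

/-- duality in degree zero -/
noncomputable def ext0Equiv [HasExt.{u} X.Modules] (F : X.Modules) (h : DuB1.Dual k n ω t F) :
    Ext F ω 0 ≃ₗ[k] Module.Dual k (Coh.HH X F n) :=
  (Ext.linearEquiv₀ (R := k)).trans (LinearEquiv.ofBijective (theta k n ω t F) (theta_bijective k n ω t F h))

end Deg0
end Groth.Agent.Lib.Helper4.DuF5
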