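import Mathlib

/-!
# Abstract Koszul complex in a preadditive category: signs, differential, contracting homotopy (helper4)
-/

set_option backward.isDefEq.respectTransparency.types false
set_option synthInstance.maxHeartbeats 400000
set_option autoImplicit false
set_option linter.unusedSectionVars false
set_option linter.style.haveILetI false
set_option linter.unusedSimpArgs false
universe u v w
open CategoryTheory CategoryTheory.Limits

namespace Groth.Agent.Lib.Helper4.KosA1

section Sign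
variable {I : Type w} [LinearOrder I]

/-- Koszul sign -/
def sgn (S : Finset I) (j : I) : ℤ := (-1) ^ (S.filter (· < j)).card

def eps (j l : I) : ℤ := if j < l then -1 else 1

theorem sgn_mul_self (S : Finset I) (j : I) : sgn S j * sgn S j = 1 := by
  unfold sgn
  rw [← pow_add, ← two_mul, pow_mul]
  simp

theorem sgn_insert {S : Finset I} {j : I} (l : I) (hj : j ∉ S) :
    sgn (insert j S) l = sgn S l * eps j l := by
  unfold sgn eps
  rw [Finset.filter_insert]
  by_cases h : j < l
  · rw [if_pos h, if_pos h, Finset.card_insert_of_notMem (by simp [hj]), pow_succ]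
  · rw [if_neg h, if_neg h, mul_one]

theorem sgn_erase {S : Finset I} {j : I} (l : I) (hj : j ∈ S) :
    sgn (S.erase j) l = sgn S l * eps j l := by
  have h1 : sgn S l = sgn (insert j (S.erase j)) l := by rw [Finset.insert_erase hj]
  rw [h1, sgn_insert l (Finset.notMem_erase j S), mul_assoc]
  have : eps j l * eps j l = 1 := by
    unfold eps; split_ifs <;> simp
  rw [this, mul_one]

theorem eps_mul_eps {j l : I} (h : j ≠ l) : eps j l * eps l j = -1 := by
  unfold eps
  rcases lt_or_gt_of_ne h with h1 | h1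
  · rw [if_pos h1, if_neg (not_lt.2 h1.le)]; simp
  · rw [if_neg (not_lt.2 h1.le), if_pos h1]; simp

theorem eps_add_eps {j l : I} (h : j ≠ l) : eps j l + eps l j = 0 := by
  unfold eps
  rcases lt_or_gt_of_ne h with h1 | h1
  · rw [if_pos h1, if_neg (not_lt.2 h1.le)]; simp
  · rw [if_neg (not_lt.2 h1.le), if_pos h1]; simp

end Sign

section Datum
variable {C : Type u} [Category.{v} C] [Preadditive C]
variable (I : Type w) [Fintype I] [LinearOrder I]

/-- biproduct-like data for the terms of a Koszul complex -/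
structure Datum (M : ℤ → C) where
  K : ℤ → C
  ι : Finset I → ∀ i, M i ⟶ K i
  π : Finset I → ∀ i, K i ⟶ M i
  ι_π : ∀ (S T : Finset I) (i : ℤ),
    ι S i ≫ π T i = if S = T ∧ (S.card : ℤ) = i then 𝟙 (M i) else 0
  total : ∀ i, ∑ S : Finset I, π S i ≫ ι S i = 𝟙 (K i)

namespace Datum
variable {I} {M : ℤ → C} (D : Datum I M)

theorem ι_eq_zero {S : Finset I} {i : ℤ} (h : (S.card : ℤ) ≠ i) : D.ι S i = 0 := by
  have h1 : D.ι S i = D.ι S i ≫ 𝟙 _ := (Category.comp_id _).symm
  rw [h1, ← D.total i, Preadditive.comp_sum]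
  apply Finset.sum_eq_zero
  intro T _
  rw [← Category.assoc, D.ι_π, if_neg (fun hh => h hh.2), zero_comp]

theorem π_eq_zero {S : Finset I} {i : ℤ} (h : (S.card : ℤ) ≠ i) : D.π S i = 0 := by
  have h1 : D.π S i = 𝟙 _ ≫ D.π S i := (Category.id_comp _).symm
  rw [h1, ← D.total i, Preadditive.sum_comp]
  apply Finset.sum_eq_zero
  intro T _
  rw [Category.assoc, D.ι_π]
  by_cases hh : T = S ∧ (T.card : ℤ) = i
  · exact absurd (hh.1 ▸ hh.2) h
  · rw [if_neg hh, comp_zero]

theorem hom_ext_left {i : ℤ} {Z : C} (f g : D.K i ⟶ Z)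
    (h : ∀ S, D.ι S i ≫ f = D.ι S i ≫ g) : f = g := by
  have h1 : f = 𝟙 _ ≫ f := (Category.id_comp _).symm
  have h2 : g = 𝟙 _ ≫ g := (Category.id_comp _).symm
  rw [h1, h2, ← D.total i, Preadditive.sum_comp, Preadditive.sum_comp]
  apply Finset.sum_congr rfl
  intro S _
  rw [Category.assoc, Category.assoc, h S]

variable (φ : I → ∀ i, M i ⟶ M (i + 1))

/-- the Koszul differential -/
noncomputable def d (i : ℤ) : D.K i ⟶ D.K (i + 1) :=
  ∑ S : Finset I, ∑ j ∈ Sᶜ, sgn S j • (D.π S i ≫ φ j i ≫ D.ι (insert j S) (i + 1))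

theorem card_insert_ne {S : Finset I} {j : I} (hj : j ∉ S) {i : ℤ} (h : (S.card : ℤ) ≠ i) :
    ((insert j S).card : ℤ) ≠ i + 1 := by
  rw [Finset.card_insert_of_notMem hj]
  push_cast
  omega

theorem ι_d (S : Finset I) (i : ℤ) :
    D.ι S i ≫ D.d φ i = ∑ j ∈ Sᶜ, sgn S j • (φ j i ≫ D.ι (insert j S) (i + 1)) := by
  by_cases hS : (S.card : ℤ) = i
  · unfold d
    rw [Preadditive.comp_sum]
    rw [Finset.sum_eq_single S]
    · rw [Preadditive.comp_sum]
      apply Finset.sum_congr rfl
      intro j _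
      rw [Preadditive.comp_zsmul, ← Category.assoc, D.ι_π, if_pos ⟨rfl, hS⟩, Category.id_comp]
    · intro T _ hT
      rw [Preadditive.comp_sum]
      apply Finset.sum_eq_zero
      intro j _
      rw [Preadditive.comp_zsmul, ← Category.assoc, D.ι_π, if_neg (fun hh => hT hh.1.symm), zero_comp,
        smul_zero]
    · intro h; exact absurd (Finset.mem_univ _) h
  · rw [D.ι_eq_zero hS, zero_comp]
    symm
    apply Finset.sum_eq_zero
    intro j hj
    rw [D.ι_eq_zero (card_insert_ne (Finset.mem_compl.1 hj) hS), comp_zero, smul_zero]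

variable (hφ : ∀ (j l : I) (i : ℤ), φ j i ≫ φ l (i + 1) = φ l i ≫ φ j (i + 1))

include hφ in
theorem d_comp_d (i : ℤ) : D.d φ i ≫ D.d φ (i + 1) = 0 := by
  apply D.hom_ext_left
  intro S
  rw [comp_zero, ← Category.assoc, ι_d, Preadditive.sum_comp]
  have h1 : ∀ j ∈ Sᶜ, (sgn S j • (φ j i ≫ D.ι (insert j S) (i + 1))) ≫ D.d φ (i + 1) =
      ∑ l ∈ Sᶜ, if j ≠ l then (sgn S j * sgn S l * eps j l) •
        (φ j i ≫ φ l (i + 1) ≫ D.ι (insert l (insert j S)) (i + 1 + 1)) else 0 := by
    intro j hj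
    have hj' := Finset.mem_compl.1 hj
    rw [Preadditive.zsmul_comp, Category.assoc, ι_d, Preadditive.comp_sum, Finset.smul_sum]
    have h2 : (insert j S)ᶜ = Sᶜ.filter (fun l => j ≠ l) := by
      ext l
      simp only [Finset.mem_compl, Finset.mem_insert, not_or, Finset.mem_filter]
      constructor
      · rintro ⟨a, b⟩; exact ⟨b, fun h => a h.symm⟩
      · rintro ⟨a, b⟩; exact ⟨fun h => b h.symm, a⟩
    rw [h2, Finset.sum_filter]
    apply Finset.sum_congr rfl
    intro l _
    by_cases hjl : j ≠ l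
    · rw [if_pos hjl, if_pos hjl, Preadditive.comp_zsmul, smul_smul, sgn_insert l hj', mul_assoc]
    · rw [if_neg hjl, if_neg hjl]
  rw [Finset.sum_congr rfl h1, ← Finset.sum_product', ← Finset.sum_filter]
  refine Finset.sum_involution (fun p _ => p.swap) ?_ ?_ ?_ ?_
  · rintro ⟨j, l⟩ hp
    simp only [Finset.mem_filter, Finset.mem_product] at hp
    simp only [Prod.fst_swap, Prod.snd_swap]
    have e : φ j i ≫ φ l (i + 1) ≫ D.ι (insert l (insert j S)) (i + 1 + 1) =
        φ l i ≫ φ j (i + 1) ≫ D.ι (insert j (insert l S)) (i + 1 + 1) := by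
      rw [← Category.assoc, hφ j l i, Category.assoc, Finset.insert_comm l j S]
    rw [e, ← add_smul]
    have : sgn S j * sgn S l * eps j l + sgn S l * sgn S j * eps l j = 0 := by
      have := eps_add_eps hp.2
      linear_combination (sgn S j * sgn S l) * this
    rw [this, zero_smul]
  · rintro ⟨j, l⟩ hp _ h
    simp only [Finset.mem_filter, Finset.mem_product] at hp
    exact hp.2 (congrArg Prod.snd h)
  · rintro ⟨j, l⟩ hp
    simp only [Finset.mem_filter, Finset.mem_product] at hp ⊢
    exact ⟨⟨hp.1.2, hp.1.1⟩, hp.2.symm⟩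
  · rintro ⟨j, l⟩ _
    rfl


section Homotopy
variable (j₀ : I) (ψ : ∀ i, M (i + 1) ⟶ M i)

/-- the contracting homotopy when `φ j₀` is invertible -/
noncomputable def h (i : ℤ) : D.K (i + 1) ⟶ D.K i :=
  ∑ T : Finset I, if j₀ ∈ T then
    sgn (T.erase j₀) j₀ • (D.π T (i + 1) ≫ ψ i ≫ D.ι (T.erase j₀) i) else 0

theorem card_erase_ne {S : Finset I} {j : I} (hj : j ∈ S) {i : ℤ} (h : (S.card : ℤ) ≠ i + 1) :
    ((S.erase j).card : ℤ) ≠ i := by
  rw [Finset.card_erase_of_mem hj]
  have := Finset.card_pos.2 ⟨j, hj⟩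
  omega

theorem ι_h (S : Finset I) (i : ℤ) :
    D.ι S (i + 1) ≫ D.h j₀ ψ i =
      if j₀ ∈ S then sgn (S.erase j₀) j₀ • (ψ i ≫ D.ι (S.erase j₀) i) else 0 := by
  by_cases hS : (S.card : ℤ) = i + 1
  · unfold h
    rw [Preadditive.comp_sum, Finset.sum_eq_single S]
    · by_cases hj : j₀ ∈ S
      · rw [if_pos hj, if_pos hj, Preadditive.comp_zsmul, ← Category.assoc, D.ι_π,
          if_pos ⟨rfl, hS⟩, Category.id_comp]
      · rw [if_neg hj, if_neg hj, comp_zero]
    · intro T _ hT
      by_cases hj : j₀ ∈ T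
      · rw [if_pos hj, Preadditive.comp_zsmul, ← Category.assoc, D.ι_π,
          if_neg (fun hh => hT hh.1.symm), zero_comp, smul_zero]
      · rw [if_neg hj, comp_zero]
    · intro hh; exact absurd (Finset.mem_univ _) hh
  · rw [D.ι_eq_zero hS, zero_comp]
    by_cases hj : j₀ ∈ S
    · rw [if_pos hj, D.ι_eq_zero (card_erase_ne hj hS), comp_zero, smul_zero]
    · rw [if_neg hj]

variable (hφψ : ∀ i, φ j₀ i ≫ ψ i = 𝟙 _) (hψφ : ∀ i, ψ i ≫ φ j₀ i = 𝟙 _)

include hφ hφψ hψφ in
theorem φ_ψ_comm (l : I) (i : ℤ) : φ l (i + 1) ≫ ψ (i + 1) = ψ i ≫ φ l i := by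
  calc φ l (i + 1) ≫ ψ (i + 1) = (ψ i ≫ φ j₀ i) ≫ φ l (i + 1) ≫ ψ (i + 1) := by
        rw [hψφ, Category.id_comp]
    _ = ψ i ≫ (φ j₀ i ≫ φ l (i + 1)) ≫ ψ (i + 1) := by simp only [Category.assoc]
    _ = ψ i ≫ (φ l i ≫ φ j₀ (i + 1)) ≫ ψ (i + 1) := by rw [hφ]
    _ = ψ i ≫ φ l i ≫ (φ j₀ (i + 1) ≫ ψ (i + 1)) := by simp only [Category.assoc]
    _ = ψ i ≫ φ l i := by rw [hφψ, Category.comp_id]

include hφ hφψ hψφ in
theorem h_d_add_d_h (i : ℤ) :
    D.h j₀ ψ i ≫ D.d φ i + D.d φ (i + 1) ≫ D.h j₀ ψ (i + 1) = 𝟙 (D.K (i + 1)) := by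
  apply D.hom_ext_left
  intro S
  rw [Preadditive.comp_add, ← Category.assoc, ← Category.assoc, ι_h, ι_d, Category.comp_id,
    Preadditive.sum_comp]
  have hterm : ∀ l ∈ Sᶜ, (sgn S l • (φ l (i + 1) ≫ D.ι (insert l S) (i + 1 + 1))) ≫ D.h j₀ ψ (i + 1) =
      if j₀ ∈ insert l S then (sgn S l * sgn ((insert l S).erase j₀) j₀) •
        (φ l (i + 1) ≫ ψ (i + 1) ≫ D.ι ((insert l S).erase j₀) (i + 1)) else 0 := by
    intro l _
    rw [Preadditive.zsmul_comp, Category.assoc, ι_h]
    by_cases hj : j₀ ∈ insert l S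
    · rw [if_pos hj, if_pos hj, Preadditive.comp_zsmul, smul_smul]
    · rw [if_neg hj, if_neg hj, comp_zero, smul_zero]
  rw [Finset.sum_congr rfl hterm]
  by_cases hj : j₀ ∈ S
  · rw [if_pos hj, Preadditive.zsmul_comp, Category.assoc, ι_d, Preadditive.comp_sum, Finset.smul_sum]
    have hc : (S.erase j₀)ᶜ = insert j₀ Sᶜ := by
      ext l
      simp only [Finset.mem_compl, Finset.mem_erase, Finset.mem_insert, not_and, not_not]
      constructor
      · intro h
        by_cases hl : l = j₀
        · exact Or.inl hl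
        · exact Or.inr (fun hlS => hl (h hl |> fun x => absurd hlS x))
      · rintro (h | h) hl
        · exact absurd h hl
        · exact h
    rw [hc, Finset.sum_insert (by simpa using hj)]
    rw [Preadditive.comp_zsmul, smul_smul, sgn_mul_self, one_smul, ← Category.assoc, hψφ,
      Category.id_comp, Finset.insert_erase hj, add_assoc]
    rw [add_eq_left, ← Finset.sum_add_distrib]
    apply Finset.sum_eq_zero
    intro l hl
    have hlS := Finset.mem_compl.1 hl
    have hlj : l ≠ j₀ := fun h => hlS (h ▸ hj)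
    rw [if_pos (Finset.mem_insert_of_mem hj), Preadditive.comp_zsmul, smul_smul,
      Finset.erase_insert_of_ne hlj]
    rw [sgn_insert j₀ (fun h => hlS (Finset.mem_of_mem_erase h))]
    have hS : sgn S l = sgn (S.erase j₀) l * eps j₀ l := by
      have := sgn_insert l (Finset.notMem_erase j₀ S)
      rwa [Finset.insert_erase hj] at this
    rw [hS, ← Category.assoc (φ l (i + 1)), φ_ψ_comm φ hφ j₀ ψ hφψ hψφ l i, Category.assoc,
      ← add_smul]
    have : sgn (S.erase j₀) j₀ * sgn (S.erase j₀) l +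
        sgn (S.erase j₀) l * eps j₀ l * (sgn (S.erase j₀) j₀ * eps l j₀) = 0 := by
      have := eps_mul_eps hlj
      linear_combination (sgn (S.erase j₀) l * sgn (S.erase j₀) j₀) * this
    rw [this, zero_smul]
  · rw [if_neg hj, zero_comp, zero_add]
    rw [Finset.sum_eq_single j₀]
    · rw [if_pos (Finset.mem_insert_self _ _), Finset.erase_insert hj, sgn_mul_self, one_smul,
        ← Category.assoc, hφψ, Category.id_comp]
    · intro l hl hlj
      have : j₀ ∉ insert l S := by
        simp only [Finset.mem_insert, not_or]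
        exact ⟨fun h => hlj h.symm, hj⟩
      rw [if_neg this]
    · intro hh
      exact absurd (Finset.mem_compl.2 hj) hh

end Homotopy


section Map
variable {C' : Type*} [Category C'] [Preadditive C'] (F : C ⥤ C') [F.Additive]

/-- image of a datum under an additive functor -/
def map : Datum I (fun i => F.obj (M i)) where
  K i := F.obj (D.K i)
  ι S i := F.map (D.ι S i)
  π S i := F.map (D.π S i)
  ι_π S T i := by
    rw [← F.map_comp, D.ι_π]
    split_ifs
    · exact F.map_id _
    · exact F.map_zero _ _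
  total i := by
    have := congrArg F.map (D.total i)
    rw [F.map_sum, F.map_id] at this
    rw [← this]
    apply Finset.sum_congr rfl
    intro S _
    exact (F.map_comp _ _).symm

theorem map_d (i : ℤ) : F.map (D.d φ i) = (D.map F).d (fun j i => F.map (φ j i)) i := by
  unfold d
  rw [F.map_sum]
  apply Finset.sum_congr rfl
  intro S _
  rw [F.map_sum]
  apply Finset.sum_congr rfl
  intro j _
  rw [F.map_zsmul, F.map_comp, F.map_comp]
  rfl

end Map

section Complex

/-- the Koszul cochain complex -/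
noncomputable def complex : CochainComplex C ℤ :=
  CochainComplex.of D.K (D.d φ) (D.d_comp_d φ hφ)

theorem complex_X (i : ℤ) : (D.complex φ hφ).X i = D.K i := rfl

theorem complex_d (i : ℤ) : (D.complex φ hφ).d i (i + 1) = D.d φ i :=
  CochainComplex.of_d _ _ _

theorem isZero_K {i : ℤ} (h : ∀ S : Finset I, (S.card : ℤ) ≠ i) : IsZero (D.K i) := by
  rw [IsZero.iff_id_eq_zero, ← D.total i]
  apply Finset.sum_eq_zero
  intro S _
  rw [D.ι_eq_zero (h S), comp_zero]

end Complex

section Biprod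
variable [HasFiniteBiproducts C] (I) (M : ℤ → C)

/-- index type of the summands of `K i` -/
abbrev Idx (i : ℤ) : Type w := {S : Finset I // (S.card : ℤ) = i}

/-- the datum given by biproducts -/
noncomputable def ofBiproducts : Datum I M where
  K i := ⨁ (fun _ : Idx I i => M i)
  ι S i := if h : (S.card : ℤ) = i then biproduct.ι (fun _ : Idx I i => M i) ⟨S, h⟩ else 0
  π S i := if h : (S.card : ℤ) = i then biproduct.π (fun _ : Idx I i => M i) ⟨S, h⟩ else 0
  ι_π S T i := by
    by_cases hS : (S.card : ℤ) = i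
    · by_cases hT : (T.card : ℤ) = i
      · rw [dif_pos hS, dif_pos hT]
        by_cases hST : S = T
        · subst hST
          rw [if_pos ⟨rfl, hS⟩, biproduct.ι_π_self]
        · rw [if_neg (fun h => hST h.1), biproduct.ι_π_ne]
          intro h
          exact hST (congrArg Subtype.val h)
      · rw [dif_neg hT, comp_zero, if_neg]
        rintro ⟨rfl, h⟩
        exact hT h
    · rw [dif_neg hS, zero_comp, if_neg (fun h => hS h.2)]
  total i := by
    refine Eq.trans ?_ (IsBilimit.total (biproduct.isBilimit (fun _ : Idx I i => M i)))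
    rw [← Finset.sum_filter_of_ne (p := fun S : Finset I => (S.card : ℤ) = i)]
    · rw [Finset.sum_subtype (p := fun S : Finset I => (S.card : ℤ) = i) _ (by simp)]
      apply Finset.sum_congr rfl
      intro x _
      rw [dif_pos x.2, dif_pos x.2]
    · intro S _ hne
      by_contra hS
      rw [dif_neg hS, zero_comp] at hne
      exact hne rfl

theorem ofBiproducts_K (i : ℤ) : (ofBiproducts I M).K i = ⨁ (fun _ : Idx I i => M i) := rfl

end Biprod

end Datum
end Datum

section Ab
variable {I : Type w} [Fintype I] [LinearOrder I]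
variable {M : ℤ → AddCommGrpCat.{u}} (D : Datum I M) (φ : I → ∀ i, M i ⟶ M (i + 1))
  (hφ : ∀ (j l : I) (i : ℤ), φ j i ≫ φ l (i + 1) = φ l i ≫ φ j (i + 1))
  (j₀ : I) (hiso : ∀ i, IsIso (φ j₀ i))

include hφ hiso in
theorem Datum.exists_preimage (i : ℤ) (s : D.K (i + 1)) (hs : (D.d φ (i + 1)) s = 0) :
    ∃ m : D.K i, (D.d φ i) m = s := by
  let ψ : ∀ i, M (i + 1) ⟶ M i := fun i => inv (φ j₀ i)
  have key := D.h_d_add_d_h φ hφ j₀ ψ (fun i => IsIso.hom_inv_id _) (fun i => IsIso.inv_hom_id _) i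
  refine ⟨(D.h j₀ ψ i) s, ?_⟩
  have h1 := congrArg (fun f : D.K (i + 1) ⟶ D.K (i + 1) => f s) key
  simp only [AddCommGrpCat.hom_add_apply, CategoryTheory.comp_apply, CategoryTheory.id_apply] at h1
  rw [hs, map_zero, add_zero] at h1
  exact h1

end Ab

end Groth.Agent.Lib.Helper4.KosA1
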