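import Mathlib
import Groth.Agent.Lib.Helper4.KosA1

/-!
# Abstract Koszul complex: projection formula for the differential, top term (helper4)
-/

set_option backward.isDefEq.respectTransparency.types false
set_option synthInstance.maxHeartbeats 400000
set_option autoImplicit false
set_option linter.unusedSectionVars false
set_option linter.style.haveILetI false
set_option linter.unusedSimpArgs false
universe u v w
open CategoryTheory CategoryTheory.Limits
open Groth.Agent.Lib.Helper4.KosA1

namespace Groth.Agent.Lib.Helper4.KosA3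

variable {C : Type u} [Category.{v} C] [Preadditive C]
variable {I : Type w} [Fintype I] [LinearOrder I]
variable {M : ℤ → C} (D : Datum I M) (φ : I → ∀ i, M i ⟶ M (i + 1))

theorem hom_ext_right {i : ℤ} {Z : C} (f g : Z ⟶ D.K i)
    (h : ∀ S, f ≫ D.π S i = g ≫ D.π S i) : f = g := by
  have h1 : f = f ≫ 𝟙 _ := (Category.comp_id _).symm
  have h2 : g = g ≫ 𝟙 _ := (Category.comp_id _).symm
  rw [h1, h2, ← D.total i, Preadditive.comp_sum, Preadditive.comp_sum]
  apply Finset.sum_congr rfl
  intro S _
  rw [← Category.assoc, ← Category.assoc, h S]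

theorem d_π (T : Finset I) (i : ℤ) :
    D.d φ i ≫ D.π T (i + 1) = ∑ j ∈ T, sgn (T.erase j) j • (D.π (T.erase j) i ≫ φ j i) := by
  apply D.hom_ext_left
  intro S
  rw [← Category.assoc, Datum.ι_d, Preadditive.sum_comp, Preadditive.comp_sum]
  have h1 : ∀ j ∈ Sᶜ, (sgn S j • (φ j i ≫ D.ι (insert j S) (i + 1))) ≫ D.π T (i + 1) =
      if insert j S = T ∧ ((insert j S).card : ℤ) = i + 1 then sgn S j • φ j i else 0 := by
    intro j _
    rw [Preadditive.zsmul_comp, Category.assoc, D.ι_π]
    split_ifs
    · rw [Category.comp_id]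
    · rw [comp_zero, smul_zero]
  have h2 : ∀ j ∈ T, D.ι S i ≫ (sgn (T.erase j) j • (D.π (T.erase j) i ≫ φ j i)) =
      if S = T.erase j ∧ (S.card : ℤ) = i then sgn (T.erase j) j • φ j i else 0 := by
    intro j _
    rw [Preadditive.comp_zsmul, ← Category.assoc, D.ι_π]
    split_ifs
    · rw [Category.id_comp]
    · rw [zero_comp, smul_zero]
  rw [Finset.sum_congr rfl h1, Finset.sum_congr rfl h2]
  -- both sides: sum over j with j ∉ S, insert j S = T
  rw [← Finset.sum_filter, ← Finset.sum_filter]
  have hfilt : Sᶜ.filter (fun j => insert j S = T ∧ ((insert j S).card : ℤ) = i + 1) =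
      T.filter (fun j => S = T.erase j ∧ (S.card : ℤ) = i) := by
    ext j
    simp only [Finset.mem_filter, Finset.mem_compl]
    constructor
    · rintro ⟨hjS, hT, hc⟩
      refine ⟨hT ▸ Finset.mem_insert_self j S, ?_, ?_⟩
      · rw [← hT, Finset.erase_insert hjS]
      · rw [Finset.card_insert_of_notMem hjS] at hc
        push_cast at hc
        linarith
    · rintro ⟨hjT, hS, hc⟩
      have hjS : j ∉ S := by rw [hS]; exact Finset.notMem_erase j T
      refine ⟨hjS, ?_, ?_⟩
      · rw [hS, Finset.insert_erase hjT]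
      · rw [Finset.card_insert_of_notMem hjS]
        push_cast
        linarith
  rw [hfilt]
  apply Finset.sum_congr rfl
  intro j hj
  simp only [Finset.mem_filter] at hj
  rw [hj.2.1]

/-- if there is a unique subset of cardinality `i`, the corresponding inclusion is an isomorphism -/
def isoOfUnique {i : ℤ} (S₀ : Finset I) (h : (S₀.card : ℤ) = i)
    (huniq : ∀ S : Finset I, (S.card : ℤ) = i → S = S₀) : M i ≅ D.K i where
  hom := D.ι S₀ i
  inv := D.π S₀ i
  hom_inv_id := by rw [D.ι_π, if_pos ⟨rfl, h⟩]
  inv_hom_id := by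
    rw [← D.total i]
    symm
    apply Finset.sum_eq_single S₀
    · intro S _ hS
      have : (S.card : ℤ) ≠ i := fun hh => hS (huniq S hh)
      rw [D.ι_eq_zero this, comp_zero]
    · intro hh; exact absurd (Finset.mem_univ _) hh

end Groth.Agent.Lib.Helper4.KosA3
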