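import Mathlib
import Groth.Agent.Lib.Helper4.PnL1
import Groth.Agent.Lib.Helper1.TwistTens

/-!
# Serre duality on projective space: multiplication by homogeneous polynomials on twists and Čech cochains (helper4)
-/

set_option backward.isDefEq.respectTransparency.types false
set_option synthInstance.maxHeartbeats 400000
set_option autoImplicit false
set_option linter.unusedSectionVars false
set_option linter.style.haveILetI false
set_option linter.unusedSimpArgs false
universe u v w
open CategoryTheory CategoryTheory.Limits AlgebraicGeometry TopologicalSpace Opposite MvPolynomial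
open Groth.Agent.Helper1
open Groth.Agent.Lib.Helper4.PnS1
open Groth.Agent.Lib.Helper4.PnS2 hiding xm
open Groth.Agent.Lib.Helper4.PnS3
open Groth.Agent.Lib.Helper4.PnS4
open Groth.Agent.Lib.Helper4.PnC1
open Groth.Agent.Lib.Helper4.PnC2
open Groth.Agent.Lib.Helper4.PnC3
open Groth.Agent.Lib.Helper4

namespace Groth.Agent.Lib.Helper4.DuA1

variable {n : ℕ} {R : Type u} [CommRing R]

/-- convolution of a polynomial with a Laurent coefficient function -/
noncomputable def conv (f : MvPolynomial (Fin (n + 1)) R) (c : (Fin (n + 1) → ℤ) → R) :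
    (Fin (n + 1) → ℤ) → R :=
  fun e => (AddMonoidAlgebra.coeff f).sum fun b r => r * c (e - wz b)

theorem conv_add_left (f g : MvPolynomial (Fin (n + 1)) R) (c : (Fin (n + 1) → ℤ) → R) :
    conv (f + g) c = conv f c + conv g c := by
  funext e
  simp only [conv, Pi.add_apply]
  have h : AddMonoidAlgebra.coeff (f + g) = AddMonoidAlgebra.coeff f + AddMonoidAlgebra.coeff g := rfl
  rw [h]
  exact Finsupp.sum_add_index' (fun _ => by simp) (fun _ _ _ => by ring)

theorem conv_monomial (b : Fin (n + 1) →₀ ℕ) (r : R) (c : (Fin (n + 1) → ℤ) → R)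
    (e : Fin (n + 1) → ℤ) : conv (monomial b r) c e = r * c (e - wz b) := by
  simp only [conv]
  have h : AddMonoidAlgebra.coeff (monomial b r) = Finsupp.single b r := rfl
  rw [h]
  exact Finsupp.sum_single_index (by simp)

theorem co_monomial_mul (w b : Fin (n + 1) →₀ ℕ) (r : R) (m : MvPolynomial (Fin (n + 1)) R)
    (e : Fin (n + 1) → ℤ) : co w (monomial b r * m) e = r * co w m (e - wz b) := by
  simp only [co]
  by_cases h1 : ∀ i, 0 ≤ (e - wz b) i + w i
  · have h2 : ∀ i, 0 ≤ e i + w i := by
      intro i
      have := h1 i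
      simp only [Pi.sub_apply, wz] at this
      omega
    rw [if_pos h1, if_pos h2, coeff_monomial_mul', if_pos]
    · congr 2
      ext i
      have := h1 i
      simp only [Pi.sub_apply, wz] at this
      simp only [Finsupp.coe_tsub, Pi.sub_apply, tn_apply, Pi.add_apply, wz]
      omega
    · intro i
      have := h1 i
      simp only [Pi.sub_apply, wz] at this
      simp only [tn_apply, Pi.add_apply, wz]
      omega
  · rw [if_neg h1, mul_zero]
    split_ifs with h2
    · rw [coeff_monomial_mul', if_neg]
      intro hle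
      apply h1
      intro i
      have := hle i
      have := h2 i
      simp only [tn_apply, Pi.add_apply, wz, Pi.sub_apply] at *
      omega
    · rfl

theorem co_mul (w : Fin (n + 1) →₀ ℕ) (f m : MvPolynomial (Fin (n + 1)) R) :
    co w (f * m) = conv f (co w m) := by
  induction f using MvPolynomial.induction_on' with
  | monomial b r =>
    funext e
    rw [co_monomial_mul, conv_monomial]
  | add f g hf hg =>
    rw [add_mul, co_add, hf, hg, conv_add_left]


/-- the section of `O(i)` over `U` defined by a homogeneous polynomial of degree `i` -/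
noncomputable def gsec {i : ℕ} (f : Gr n R i) (U : (Opens (PT n R))ᵒᵖ) :
    Twist.sectN (𝒜 := Gr n R) (i : ℤ) U :=
  Twist.resN (i : ℤ) (show op ⊤ ⟶ U from (homOfLE (le_top : U.unop ≤ ⊤)).op) (Twist.globalOf (Gr n R) f)

theorem gsec_val {i : ℕ} (f : Gr n R i) (U : (Opens (PT n R))ᵒᵖ) (x : U.unop) :
    (((gsec f U).1 x).1 : Twist.Loc (Gr n R) x.1) = Localization.mk f.1 1 := rfl

/-- multiplication by a homogeneous polynomial, as a morphism of presheaves of abelian groups -/
noncomputable def phiF {i : ℕ} (f : Gr n R i) (d k : ℤ) (hk : k = i + d) : PP n R d ⟶ PP n R k where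
  app U := AddCommGrpCat.ofHom
    { toFun := fun s => TwistTens.mulSec (Gr n R) hk (gsec f U) s
      map_zero' := by
        apply Subtype.ext
        funext x
        apply Subtype.ext
        exact mul_zero _
      map_add' := fun s t => TwistTens.mulSec_add_right (Gr n R) hk (gsec f U) s t }
  naturality := by
    intro U V g
    rfl

theorem phiF_val {i : ℕ} (f : Gr n R i) (d k : ℤ) (hk : k = i + d) (V : Opens (PT n R))
    (s : Twist.sectN (𝒜 := Gr n R) d (op V)) (x : V) :
    ((((show Twist.sectN (𝒜 := Gr n R) k (op V) from ((phiF f d k hk).app (op V)).hom s)).1 x).1 :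
      Twist.Loc (Gr n R) x.1) =
    Localization.mk f.1 1 * ((s.1 x).1 : Twist.Loc (Gr n R) x.1) := rfl


/-- multiplication by a homogeneous polynomial of degree `i`, as a morphism `O(d) ⟶ O(i + d)` -/
noncomputable def mulBy {i : ℕ} (f : Gr n R i) (d k : ℤ) (hk : k = i + d) :
    Twist.twistProjSpace n R d ⟶ Twist.twistProjSpace n R k :=
  ⟨PresheafOfModules.homMk (M₁ := (Twist.twistProjSpace n R d).val)
    (M₂ := (Twist.twistProjSpace n R k).val) (phiF f d k hk)
    (fun U r s => TwistTens.mulSec_smul_right (Gr n R) hk r (gsec f U) s)⟩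

theorem mulBy_hom {i : ℕ} (f : Gr n R i) (d k : ℤ) (hk : k = i + d) :
    ((SheafOfModules.toSheaf (CohB1.ProjSpace n R).ringCatSheaf).map (mulBy f d k hk)).hom =
      phiF f d k hk := rfl


theorem lam_phiF {i : ℕ} (f : Gr n R i) (d k : ℤ) (hk : k = i + d) (V : Opens (PT n R)) (hV : TT ≤ V)
    (s : Twist.sectN (𝒜 := Gr n R) d (op V)) :
    lam k V hV (show Twist.sectN (𝒜 := Gr n R) k (op V) from ((phiF f d k hk).app (op V)).hom s) =
      conv f.1 (lam d V hV s) := by
  have key : ∀ w m, IsRep d (Twist.resN d (homOfLE hV).op s) w m → Hg d w m →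
      lam k V hV (show Twist.sectN (𝒜 := Gr n R) k (op V) from ((phiF f d k hk).app (op V)).hom s) =
      conv f.1 (lam d V hV s) := by
    intro w m h hm
    obtain ⟨hw, h⟩ := h
    have h2 : IsRep k (Twist.resN k (homOfLE hV).op
        (show Twist.sectN (𝒜 := Gr n R) k (op V) from ((phiF f d k hk).app (op V)).hom s)) w (f.1 * m) := by
      refine ⟨hw, fun x => ?_⟩
      have e1 := phiF_val f d k hk V s ⟨x.1, hV x.2⟩
      have e2 := h x
      refine Eq.trans ?_ ((e1.trans (congrArg _ e2)).trans ?_)
      · rfl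
      · rw [Localization.mk_mul]
        congr 1
        exact one_mul _
    have hm2 : Hg k w (f.1 * m) := by
      obtain ⟨D, hD, hDd⟩ := hm
      refine ⟨i + D, SetLike.mul_mem_graded f.2 hD, ?_⟩
      push_cast
      rw [hDd, hk]
      ring
    have e3 : lam k V hV (show Twist.sectN (𝒜 := Gr n R) k (op V) from
        ((phiF f d k hk).app (op V)).hom s) = co w (f.1 * m) := PhiT_eq h2 hm2
    have e4 : lam d V hV s = co w m := PhiT_eq ⟨hw, h⟩ hm
    rw [e3, e4, co_mul]
  exact (exists_rep_T d (Twist.resN d (homOfLE hV).op s)).elim fun w hw => hw.elim fun m hm =>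
    key w m hm.1 hm.2


/-- multiplication by `f` on the Čech complex -/
noncomputable def psiF {i : ℕ} (f : Gr n R i) (d k : ℤ) (hk : k = i + d) : KK n R d ⟶ KK n R k :=
  (cechComplexFunctor (UU n R)).map (phiF f d k hk)

theorem psiF_proj {i : ℕ} (f : Gr n R i) (d k : ℤ) (hk : k = i + d) (p : ℕ) (a : Fin (p + 1) → II.{u} n) :
    (psiF f d k hk).f p ≫ TCx.proj (UU n R) (PP n R k) p a =
      TCx.proj (UU n R) (PP n R d) p a ≫ (phiF f d k hk).app (op (TCx.W (UU n R) a)) := by
  have h : (psiF f d k hk).f p = Limits.Pi.map (fun a : Fin (p + 1) → II.{u} n =>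
      (phiF f d k hk).app (op (TCx.W (UU n R) a))) := rfl
  rw [h]
  exact Pi.map_π _ a

theorem cm_psiF {i : ℕ} (f : Gr n R i) (d k : ℤ) (hk : k = i + d) (p : ℕ) (x : (KK n R d).X p)
    (a : Fin (p + 1) → II.{u} n) :
    cm k p (((psiF f d k hk).f p).hom x) a = conv f.1 (cm d p x a) := by
  have h1 := ConcreteCategory.congr_hom (psiF_proj f d k hk p a) x
  have h2 : cm k p (((psiF f d k hk).f p).hom x) a =
      lam k (TCx.W (UU n R) a) (TT_le_W a)
        (show Twist.sectN (𝒜 := Gr n R) k (op (TCx.W (UU n R) a)) from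
          (TCx.proj (UU n R) (PP n R k) p a).hom (((psiF f d k hk).f p).hom x)) := rfl
  rw [h2]
  have h3 : (show Twist.sectN (𝒜 := Gr n R) k (op (TCx.W (UU n R) a)) from
      (TCx.proj (UU n R) (PP n R k) p a).hom (((psiF f d k hk).f p).hom x)) =
      (show Twist.sectN (𝒜 := Gr n R) k (op (TCx.W (UU n R) a)) from
        ((phiF f d k hk).app (op (TCx.W (UU n R) a))).hom
          (show Twist.sectN (𝒜 := Gr n R) d (op (TCx.W (UU n R) a)) from
            (TCx.proj (UU n R) (PP n R d) p a).hom x)) := h1
  rw [h3, lam_phiF]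
  rfl

end Groth.Agent.Lib.Helper4.DuA1
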