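import Mathlib
import Groth.Agent.Lib.Helper4.DuA1
import Groth.Agent.Lib.Helper4.PnC6

/-!
# Serre duality on projective space: morphisms between twists are multiplications by homogeneous polynomials (helper4)
-/

set_option backward.isDefEq.respectTransparency.types false
set_option synthInstance.maxHeartbeats 400000
set_option autoImplicit false
set_option linter.unusedSectionVars false
set_option linter.style.haveILetI false
set_option linter.unusedSimpArgs false
universe u v w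
open CategoryTheory CategoryTheory.Limits AlgebraicGeometry TopologicalSpace Opposite MvPolynomial
open Groth.Agent.Helper1
open Groth.Agent.Lib.Helper4.PnS1
open Groth.Agent.Lib.Helper4.PnS2 hiding xm
open Groth.Agent.Lib.Helper4.PnS3
open Groth.Agent.Lib.Helper4.PnS4
open Groth.Agent.Lib.Helper4.PnC1
open Groth.Agent.Lib.Helper4.PnC2
open Groth.Agent.Lib.Helper4.PnC3
open Groth.Agent.Lib.Helper4.DuA1
open Groth.Agent.Lib.Helper4

namespace Groth.Agent.Lib.Helper4.DuA3

variable {n : ℕ} {R : Type u} [CommRing R]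

/-- the section-level map of a morphism of twists -/
noncomputable def secMap {d k : ℤ} (φ : Twist.twistProjSpace n R d ⟶ Twist.twistProjSpace n R k)
    (V : Opens (PT n R)) (s : Twist.sectN (𝒜 := Gr n R) d (op V)) : Twist.sectN (𝒜 := Gr n R) k (op V) :=
  (φ.val.app (op V)).hom s

theorem secMap_add {d k : ℤ} (φ : Twist.twistProjSpace n R d ⟶ Twist.twistProjSpace n R k)
    (V : Opens (PT n R)) (s t : Twist.sectN (𝒜 := Gr n R) d (op V)) :
    secMap φ V (s + t) = secMap φ V s + secMap φ V t :=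
  (φ.val.app (op V)).hom.map_add' s t

/-- scalar multiplication of sections (elaborated once) -/
noncomputable def smulS {d : ℤ} {V : Opens (PT n R)} (r : Twist.O (𝒜 := Gr n R) (op V))
    (s : Twist.sectN (𝒜 := Gr n R) d (op V)) : Twist.sectN (𝒜 := Gr n R) d (op V) := r • s

theorem secMap_smul {d k : ℤ} (φ : Twist.twistProjSpace n R d ⟶ Twist.twistProjSpace n R k)
    (V : Opens (PT n R)) (r : Twist.O (𝒜 := Gr n R) (op V)) (s : Twist.sectN (𝒜 := Gr n R) d (op V)) :
    secMap φ V (smulS r s) = smulS r (secMap φ V s) :=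
  (φ.val.app (op V)).hom.map_smul' r s

theorem secMap_res {d k : ℤ} (φ : Twist.twistProjSpace n R d ⟶ Twist.twistProjSpace n R k)
    {V V' : Opens (PT n R)} (h : V' ≤ V) (s : Twist.sectN (𝒜 := Gr n R) d (op V)) :
    Twist.resN k (homOfLE h).op (secMap φ V s) = secMap φ V' (Twist.resN d (homOfLE h).op s) := by
  have h1 := PresheafOfModules.naturality_apply φ.val (homOfLE h).op s
  exact h1.symm


theorem single_le (j : Fin (n + 1)) (b : ℕ) :
    (Finsupp.single j b : Fin (n + 1) →₀ ℕ) ≤ b • Finsupp.single j 1 := by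
  rw [Finsupp.smul_single, smul_eq_mul, mul_one]

theorem NV_single (j : Fin (n + 1)) (b : ℕ) {V : Opens (PT n R)} (hV : V ≤ BO (R := R) (Finsupp.single j 1)) :
    NV V (Finsupp.single j b) :=
  (NV_BO (k := b) (single_le j b)).mono hV

theorem deg_eq (j : Fin (n + 1)) (d : ℤ) :
    ((Finsupp.degree (Finsupp.single j d.toNat : Fin (n + 1) →₀ ℕ) : ℕ) : ℤ) =
      (Finsupp.degree (Finsupp.single j (-d).toNat : Fin (n + 1) →₀ ℕ) : ℕ) + d := by
  rw [Finsupp.degree_single, Finsupp.degree_single]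
  omega

/-- the generator `x_j^d` of `O(d)` over an open of `U_j` -/
noncomputable def sig (j : Fin (n + 1)) (d : ℤ) (V : Opens (PT n R))
    (hV : V ≤ BO (R := R) (Finsupp.single j 1)) : Twist.sectN (𝒜 := Gr n R) d (op V) :=
  fs d V (Finsupp.single j (-d).toNat) (NV_single j _ hV) (xm (Finsupp.single j d.toNat)) (xm_mem _)
    (deg_eq j d)

theorem sig_res (j : Fin (n + 1)) (d : ℤ) {V V' : Opens (PT n R)}
    (hV : V ≤ BO (R := R) (Finsupp.single j 1)) (h : V' ≤ V) :
    Twist.resN d (homOfLE h).op (sig j d V hV) = sig j d V' (h.trans hV) := rfl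

theorem exists_smul_sig (j : Fin (n + 1)) (d : ℤ) (V : Opens (PT n R))
    (hV : V ≤ BO (R := R) (Finsupp.single j 1)) (s : Twist.sectN (𝒜 := Gr n R) d (op V)) :
    ∃ r : Twist.O (𝒜 := Gr n R) (op V), smulS r (sig j d V hV) = s :=
  (TwistTriv.fracSec_bijective (Gr n R) (xm_mem (Finsupp.single j d.toNat))
    (xm_mem (Finsupp.single j (-d).toNat)) (deg_eq j d) V (NV_single j _ hV) (NV_single j _ hV)).2 s

theorem secMap_res_smul {d k : ℤ} (χ : Twist.twistProjSpace n R d ⟶ Twist.twistProjSpace n R k)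
    (V : Opens (PT n R)) (s : Twist.sectN (𝒜 := Gr n R) d (op V)) (j : Fin (n + 1))
    (r : Twist.O (𝒜 := Gr n R) (op (V ⊓ BO (R := R) (Finsupp.single j 1))))
    (hr : smulS r (sig j d (V ⊓ BO (R := R) (Finsupp.single j 1)) inf_le_right) =
      Twist.resN d (homOfLE (inf_le_left : V ⊓ BO (R := R) (Finsupp.single j 1) ≤ V)).op s) :
      Twist.resN k (homOfLE (inf_le_left : V ⊓ BO (R := R) (Finsupp.single j 1) ≤ V)).op (secMap χ V s) =
        smulS r (Twist.resN k (homOfLE (inf_le_right : V ⊓ BO (R := R) (Finsupp.single j 1) ≤ _)).op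
          (secMap χ (BO (Finsupp.single j 1)) (sig j d _ le_rfl))) := by
  have e1 := secMap_res χ (inf_le_left : V ⊓ BO (R := R) (Finsupp.single j 1) ≤ V) s
  have e2 : secMap χ _ (Twist.resN d (homOfLE (inf_le_left : V ⊓ BO (R := R) (Finsupp.single j 1) ≤ V)).op s) =
      secMap χ _ (smulS r (sig j d (V ⊓ BO (R := R) (Finsupp.single j 1)) inf_le_right)) :=
    congrArg (secMap χ _) hr.symm
  have e3 := secMap_smul χ _ r (sig j d (V ⊓ BO (R := R) (Finsupp.single j 1)) inf_le_right)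
  have e4 : secMap χ _ (sig j d (V ⊓ BO (R := R) (Finsupp.single j 1)) inf_le_right) =
      Twist.resN k (homOfLE (inf_le_right : V ⊓ BO (R := R) (Finsupp.single j 1) ≤ _)).op
        (secMap χ (BO (Finsupp.single j 1)) (sig j d _ le_rfl)) :=
    (secMap_res χ (inf_le_right : V ⊓ BO (R := R) (Finsupp.single j 1) ≤ _) (sig j d _ le_rfl)).symm
  exact e1.trans (e2.trans (e3.trans (congrArg (smulS r) e4)))

theorem res_secMap_eq_aux {d k : ℤ} (φ ψ : Twist.twistProjSpace n R d ⟶ Twist.twistProjSpace n R k)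
    (V : Opens (PT n R)) (s : Twist.sectN (𝒜 := Gr n R) d (op V)) (j : Fin (n + 1))
    (h : secMap φ (BO (Finsupp.single j 1)) (sig j d _ le_rfl) =
      secMap ψ (BO (Finsupp.single j 1)) (sig j d _ le_rfl))
    (r : Twist.O (𝒜 := Gr n R) (op (V ⊓ BO (R := R) (Finsupp.single j 1))))
    (hr : smulS r (sig j d (V ⊓ BO (R := R) (Finsupp.single j 1)) inf_le_right) =
      Twist.resN d (homOfLE (inf_le_left : V ⊓ BO (R := R) (Finsupp.single j 1) ≤ V)).op s) :
    Twist.resN k (homOfLE (inf_le_left : V ⊓ BO (R := R) (Finsupp.single j 1) ≤ V)).op (secMap φ V s) =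
      Twist.resN k (homOfLE (inf_le_left : V ⊓ BO (R := R) (Finsupp.single j 1) ≤ V)).op (secMap ψ V s) :=
  ((secMap_res_smul φ V s j r hr).trans (congrArg (fun t => smulS r (Twist.resN k
    (homOfLE (inf_le_right : V ⊓ BO (R := R) (Finsupp.single j 1) ≤ _)).op t)) h)).trans
    (secMap_res_smul ψ V s j r hr).symm

theorem res_secMap_eq {d k : ℤ} (φ ψ : Twist.twistProjSpace n R d ⟶ Twist.twistProjSpace n R k)
    (V : Opens (PT n R)) (s : Twist.sectN (𝒜 := Gr n R) d (op V)) (j : Fin (n + 1))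
    (h : secMap φ (BO (Finsupp.single j 1)) (sig j d _ le_rfl) =
      secMap ψ (BO (Finsupp.single j 1)) (sig j d _ le_rfl)) :
    Twist.resN k (homOfLE (inf_le_left : V ⊓ BO (R := R) (Finsupp.single j 1) ≤ V)).op (secMap φ V s) =
      Twist.resN k (homOfLE (inf_le_left : V ⊓ BO (R := R) (Finsupp.single j 1) ≤ V)).op (secMap ψ V s) :=
  (exists_smul_sig j d (V ⊓ BO (R := R) (Finsupp.single j 1)) inf_le_right
    (Twist.resN d (homOfLE (inf_le_left : V ⊓ BO (R := R) (Finsupp.single j 1) ≤ V)).op s)).elim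
    fun r hr => res_secMap_eq_aux φ ψ V s j h r hr

theorem secMap_eq_of_sig {d k : ℤ} (φ ψ : Twist.twistProjSpace n R d ⟶ Twist.twistProjSpace n R k)
    (h : ∀ j : Fin (n + 1), secMap φ (BO (Finsupp.single j 1)) (sig j d _ le_rfl) =
      secMap ψ (BO (Finsupp.single j 1)) (sig j d _ le_rfl))
    (V : Opens (PT n R)) (s : Twist.sectN (𝒜 := Gr n R) d (op V)) :
    secMap φ V s = secMap ψ V s := by
  apply Subtype.ext
  funext x
  have hx := ProjSpaceLib.exists_X_notMem n R x.1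
  exact hx.elim fun j hj =>
    congrFun (congrArg Subtype.val (res_secMap_eq φ ψ V s j (h j))) ⟨x.1, ⟨x.2, hj⟩⟩

theorem hom_ext_sig {d k : ℤ} (φ ψ : Twist.twistProjSpace n R d ⟶ Twist.twistProjSpace n R k)
    (h : ∀ j : Fin (n + 1), secMap φ (BO (Finsupp.single j 1)) (sig j d _ le_rfl) =
      secMap ψ (BO (Finsupp.single j 1)) (sig j d _ le_rfl)) : φ = ψ := by
  apply SheafOfModules.Hom.ext
  apply PresheafOfModules.Hom.ext
  funext U
  apply ModuleCat.hom_ext
  apply LinearMap.ext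
  intro s
  exact secMap_eq_of_sig φ ψ h U.unop s


theorem co_add_den (w u : Fin (n + 1) →₀ ℕ) (m : MvPolynomial (Fin (n + 1)) R) (e : Fin (n + 1) → ℤ) :
    co (w + u) m e = co w m (e + wz u) := by
  simp only [co]
  have h1 : (∀ i, 0 ≤ e i + ((w + u) i : ℕ)) ↔ (∀ i, 0 ≤ (e + wz u) i + (w i : ℕ)) := by
    refine forall_congr' fun i => ?_
    simp only [Finsupp.coe_add, Pi.add_apply, Nat.cast_add, wz]
    constructor <;> intro h <;> omega
  have h2 : tn (e + wz (w + u)) = tn (e + wz u + wz w) := by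
    ext i
    simp only [tn_apply, Pi.add_apply, wz, Finsupp.coe_add, Nat.cast_add]
    congr 1
    ring
  by_cases h : ∀ i, 0 ≤ e i + ((w + u) i : ℕ)
  · rw [if_pos h, if_pos (h1.mp h), h2]
  · rw [if_neg h, if_neg (fun h' => h (h1.mpr h'))]

theorem co_den_num (w u v : Fin (n + 1) →₀ ℕ) (m : MvPolynomial (Fin (n + 1)) R) (e : Fin (n + 1) → ℤ) :
    co (w + u) (m * xm v) e = co w m (e + wz u - wz v) := by
  have h1 : m * xm v = monomial v 1 * m := mul_comm _ _
  rw [h1, co_monomial_mul, one_mul, co_add_den]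
  congr 1
  funext i
  simp only [Pi.add_apply, Pi.sub_apply]
  ring


theorem sig_val (j : Fin (n + 1)) (d : ℤ) (V : Opens (PT n R))
    (hV : V ≤ BO (R := R) (Finsupp.single j 1)) (x : V) :
    (((sig j d V hV).1 x).1 : Twist.Loc (Gr n R) x.1) =
      Localization.mk (xm (Finsupp.single j d.toNat))
        ⟨xm (Finsupp.single j (-d).toNat), NV_single j _ hV x⟩ := rfl

theorem smulS_val {d : ℤ} {V : Opens (PT n R)} (r : Twist.O (𝒜 := Gr n R) (op V))
    (s : Twist.sectN (𝒜 := Gr n R) d (op V)) (x : V) :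
    (((smulS r s).1 x).1 : Twist.Loc (Gr n R) x.1) =
      (r.1 x).val * ((s.1 x).1 : Twist.Loc (Gr n R) x.1) :=
  TwistTriv.smul_sec_val (Gr n R) V r s x

theorem ring_aux {L : Type*} [CommRing L] (ρ S A Sl B : L) (h1 : Sl = ρ * S) (h2 : B = ρ * A) :
    Sl * A = S * B := by
  rw [h1, h2]; ring

theorem trans_val_aux {d k : ℤ} (φ : Twist.twistProjSpace n R d ⟶ Twist.twistProjSpace n R k)
    (j l : Fin (n + 1)) (V : Opens (PT n R)) (hj : V ≤ BO (R := R) (Finsupp.single j 1))
    (hl : V ≤ BO (R := R) (Finsupp.single l 1)) (x : V)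
    (r : Twist.O (𝒜 := Gr n R) (op V)) (hr : smulS r (sig j d V hj) = sig l d V hl) :
    (((secMap φ V (sig l d V hl)).1 x).1 : Twist.Loc (Gr n R) x.1) *
        (((sig j d V hj).1 x).1 : Twist.Loc (Gr n R) x.1) =
      (((secMap φ V (sig j d V hj)).1 x).1 : Twist.Loc (Gr n R) x.1) *
        (((sig l d V hl).1 x).1 : Twist.Loc (Gr n R) x.1) := by
  have e1 : secMap φ V (sig l d V hl) = smulS r (secMap φ V (sig j d V hj)) :=
    (congrArg (secMap φ V) hr.symm).trans (secMap_smul φ V r (sig j d V hj))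
  have e2 : (((secMap φ V (sig l d V hl)).1 x).1 : Twist.Loc (Gr n R) x.1) =
      (r.1 x).val * (((secMap φ V (sig j d V hj)).1 x).1 : Twist.Loc (Gr n R) x.1) :=
    (congrArg (fun t : Twist.sectN (𝒜 := Gr n R) k (op V) =>
      ((t.1 x).1 : Twist.Loc (Gr n R) x.1)) e1).trans (smulS_val r _ x)
  have e3 : (((sig l d V hl).1 x).1 : Twist.Loc (Gr n R) x.1) =
      (r.1 x).val * (((sig j d V hj).1 x).1 : Twist.Loc (Gr n R) x.1) :=
    (congrArg (fun t : Twist.sectN (𝒜 := Gr n R) d (op V) =>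
      ((t.1 x).1 : Twist.Loc (Gr n R) x.1)) hr.symm).trans (smulS_val r _ x)
  exact ring_aux _ _ _ _ _ e2 e3

theorem trans_val {d k : ℤ} (φ : Twist.twistProjSpace n R d ⟶ Twist.twistProjSpace n R k)
    (j l : Fin (n + 1)) (V : Opens (PT n R)) (hj : V ≤ BO (R := R) (Finsupp.single j 1))
    (hl : V ≤ BO (R := R) (Finsupp.single l 1)) (x : V) :
    (((secMap φ V (sig l d V hl)).1 x).1 : Twist.Loc (Gr n R) x.1) *
        (((sig j d V hj).1 x).1 : Twist.Loc (Gr n R) x.1) =
      (((secMap φ V (sig j d V hj)).1 x).1 : Twist.Loc (Gr n R) x.1) *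
        (((sig l d V hl).1 x).1 : Twist.Loc (Gr n R) x.1) :=
  (exists_smul_sig j d V hj (sig l d V hl)).elim fun r hr => trans_val_aux φ j l V hj hl x r hr


theorem loc_aux (x : PT n R) (Sl Sj : Twist.Loc (Gr n R) x) (m : MvPolynomial (Fin (n + 1)) R)
    (w ja jb la lb : Fin (n + 1) →₀ ℕ)
    (hw : (xm w : MvPolynomial (Fin (n + 1)) R) ∉ x.asHomogeneousIdeal)
    (hja : (xm ja : MvPolynomial (Fin (n + 1)) R) ∉ x.asHomogeneousIdeal)
    (hjb : (xm jb : MvPolynomial (Fin (n + 1)) R) ∉ x.asHomogeneousIdeal)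
    (hlb : (xm lb : MvPolynomial (Fin (n + 1)) R) ∉ x.asHomogeneousIdeal)
    (hw' : (xm (w + (lb + ja)) : MvPolynomial (Fin (n + 1)) R) ∉ x.asHomogeneousIdeal)
    (hSj : Sj = Localization.mk m ⟨xm w, hw⟩)
    (e1 : Sl * Localization.mk (xm ja) ⟨xm jb, hjb⟩ = Sj * Localization.mk (xm la) ⟨xm lb, hlb⟩) :
    Sl = Localization.mk (m * xm (la + jb)) ⟨xm (w + (lb + ja)), hw'⟩ := by
  have e2 := TwistTriv.mk_mul_mk_inv (Gr n R) x hja hjb
  have e3 : Sl = Sl * (Localization.mk (xm ja) ⟨xm jb, hjb⟩) * Localization.mk (xm jb) ⟨xm ja, hja⟩ := by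
    rw [mul_assoc, e2, mul_one]
  rw [e3, e1, hSj, Localization.mk_mul, Localization.mk_mul, Localization.mk_eq_mk_iff,
    Localization.r_iff_exists]
  refine ⟨1, ?_⟩
  simp only [OneMemClass.coe_one, one_mul, Submonoid.coe_mul]
  rw [xm_add, xm_add, xm_add]
  ring

theorem isRep_trans {d k : ℤ} (φ : Twist.twistProjSpace n R d ⟶ Twist.twistProjSpace n R k)
    (j l : Fin (n + 1)) (V : Opens (PT n R)) (hj : V ≤ BO (R := R) (Finsupp.single j 1))
    (hl : V ≤ BO (R := R) (Finsupp.single l 1)) {w : Fin (n + 1) →₀ ℕ}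
    {m : MvPolynomial (Fin (n + 1)) R} (h : IsRep k (secMap φ V (sig j d V hj)) w m) :
    IsRep k (secMap φ V (sig l d V hl))
      (w + (Finsupp.single l (-d).toNat + Finsupp.single j d.toNat))
      (m * xm (Finsupp.single l d.toNat + Finsupp.single j (-d).toNat)) :=
  h.elim fun hw h => ⟨hw.add ((NV_single l _ hl).add (NV_single j _ hj)), fun x =>
    loc_aux x.1 _ _ m w _ _ _ _ (hw x) (NV_single j d.toNat hj x) (NV_single j (-d).toNat hj x)
      (NV_single l (-d).toNat hl x) _ (h x) (trans_val φ j l V hj hl x)⟩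


/-- Laurent coefficients of the image of the generator `x_j^d` -/
noncomputable def cc {d k : ℤ} (φ : Twist.twistProjSpace n R d ⟶ Twist.twistProjSpace n R k)
    (j : Fin (n + 1)) : (Fin (n + 1) → ℤ) → R :=
  lam k (BO (Finsupp.single j 1)) (TT_le_BO _) (secMap φ (BO (Finsupp.single j 1)) (sig j d _ le_rfl))

theorem cc_eq {d k : ℤ} (φ : Twist.twistProjSpace n R d ⟶ Twist.twistProjSpace n R k)
    (j : Fin (n + 1)) :
    cc φ j = PhiT k (secMap φ TT (sig j d TT (TT_le_BO _))) :=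
  congrArg (PhiT k) (secMap_res φ (TT_le_BO (R := R) (Finsupp.single j 1)) (sig j d _ le_rfl))

/-- the vector `d ε_j` -/
def dv (j : Fin (n + 1)) (d : ℤ) : Fin (n + 1) → ℤ := fun i => if i = j then d else 0

theorem cc_trans_aux {d k : ℤ} (φ : Twist.twistProjSpace n R d ⟶ Twist.twistProjSpace n R k)
    (j l : Fin (n + 1)) (w : Fin (n + 1) →₀ ℕ) (m : MvPolynomial (Fin (n + 1)) R)
    (h : IsRep k (secMap φ TT (sig j d TT (TT_le_BO _))) w m) (hm : Hg k w m)
    (e : Fin (n + 1) → ℤ) : cc φ l (e + dv l d) = cc φ j (e + dv j d) := by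
  have h2 := isRep_trans φ j l TT (TT_le_BO _) (TT_le_BO _) h
  have hm2 : Hg k (w + (Finsupp.single l (-d).toNat + Finsupp.single j d.toNat))
      (m * xm (Finsupp.single l d.toNat + Finsupp.single j (-d).toNat)) := by
    obtain ⟨D, hD, hDd⟩ := hm
    refine ⟨D + Finsupp.degree (Finsupp.single l d.toNat + Finsupp.single j (-d).toNat),
      SetLike.mul_mem_graded hD (xm_mem _), ?_⟩
    simp only [map_add, Finsupp.degree_single]
    push_cast
    rw [hDd]
    ring
  rw [cc_eq, cc_eq, PhiT_eq h hm, PhiT_eq h2 hm2, co_den_num]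
  congr 1
  funext i
  simp only [Pi.add_apply, Pi.sub_apply, dv, wz, Finsupp.coe_add, Finsupp.single_apply]
  by_cases hil : i = l <;> by_cases hij : i = j
  · subst hil; subst hij
    simp only [if_true]
    omega
  · subst hil
    have : ¬ (j = i) := fun h => hij h.symm
    simp only [if_true, if_neg hij, if_neg this]
    omega
  · subst hij
    have : ¬ (l = i) := fun h => hil h.symm
    simp only [if_true, if_neg hil, if_neg this]
    omega
  · have h1 : ¬ (l = i) := fun h => hil h.symm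
    have h2 : ¬ (j = i) := fun h => hij h.symm
    simp only [if_neg hil, if_neg hij, if_neg h1, if_neg h2]
    omega

theorem cc_trans {d k : ℤ} (φ : Twist.twistProjSpace n R d ⟶ Twist.twistProjSpace n R k)
    (j l : Fin (n + 1)) (e : Fin (n + 1) → ℤ) : cc φ l (e + dv l d) = cc φ j (e + dv j d) :=
  (exists_rep_T k (secMap φ TT (sig j d TT (TT_le_BO _)))).elim fun w hw => hw.elim fun m hm =>
    cc_trans_aux φ j l w m hm.1 hm.2 e


theorem sum_dv (j : Fin (n + 1)) (d : ℤ) : ∑ i, dv j d i = d := by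
  simp [dv]

theorem cc_finite {d k : ℤ} (φ : Twist.twistProjSpace n R d ⟶ Twist.twistProjSpace n R k)
    (j : Fin (n + 1)) : (Function.support (cc φ j)).Finite := lam_finite _ _ _ _

theorem cc_degree {d k : ℤ} (φ : Twist.twistProjSpace n R d ⟶ Twist.twistProjSpace n R k)
    (j : Fin (n + 1)) (e : Fin (n + 1) → ℤ) (he : cc φ j e ≠ 0) : ∑ i, e i = k :=
  lam_degree _ _ _ _ e he

theorem cc_neg {d k : ℤ} (φ : Twist.twistProjSpace n R d ⟶ Twist.twistProjSpace n R k)
    (j : Fin (n + 1)) (e : Fin (n + 1) → ℤ) (he : cc φ j e ≠ 0) (i : Fin (n + 1)) (hi : e i < 0) :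
    i = j := by
  have h := lam_neg k (w₁ := Finsupp.single j 1) (by rw [Finsupp.degree_single]; exact Nat.one_pos)
    (secMap φ (BO (Finsupp.single j 1)) (sig j d _ le_rfl)) e he i hi
  rw [Finsupp.single_apply] at h
  by_contra hne
  rw [if_neg (fun h' => hne h'.symm)] at h
  exact lt_irrefl 0 h

/-- the Laurent coefficients of the multiplier of `φ` -/
noncomputable def FF {d k : ℤ} (φ : Twist.twistProjSpace n R d ⟶ Twist.twistProjSpace n R k) :
    (Fin (n + 1) → ℤ) → R := fun e => cc φ 0 (e + dv 0 d)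

theorem FF_eq {d k : ℤ} (φ : Twist.twistProjSpace n R d ⟶ Twist.twistProjSpace n R k)
    (j : Fin (n + 1)) (e : Fin (n + 1) → ℤ) : FF φ e = cc φ j (e + dv j d) := cc_trans φ j 0 e

theorem FF_finite {d k : ℤ} (φ : Twist.twistProjSpace n R d ⟶ Twist.twistProjSpace n R k) :
    (Function.support (FF φ)).Finite := by
  apply Set.Finite.subset ((cc_finite φ 0).image (fun e' => e' - dv 0 d))
  intro e he
  rw [Function.mem_support] at he
  exact ⟨e + dv 0 d, he, by simp⟩

theorem FF_degree {d k : ℤ} (φ : Twist.twistProjSpace n R d ⟶ Twist.twistProjSpace n R k)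
    (e : Fin (n + 1) → ℤ) (he : FF φ e ≠ 0) : ∑ i, e i = k - d := by
  have h := cc_degree φ 0 _ he
  simp only [Pi.add_apply, Finset.sum_add_distrib, sum_dv] at h
  omega

theorem FF_nonneg (hn : 1 ≤ n) {d k : ℤ} (φ : Twist.twistProjSpace n R d ⟶ Twist.twistProjSpace n R k)
    (e : Fin (n + 1) → ℤ) (he : FF φ e ≠ 0) (i : Fin (n + 1)) : 0 ≤ e i := by
  obtain ⟨j, hj⟩ : ∃ j : Fin (n + 1), j ≠ i := by
    by_cases h0 : i = 0
    · refine ⟨⟨1, by omega⟩, ?_⟩
      rw [h0]
      intro h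
      have := congrArg Fin.val h
      simp at this
    · exact ⟨0, fun h => h0 h.symm⟩
  rw [FF_eq φ j] at he
  by_contra hlt
  push Not at hlt
  have h1 : (e + dv j d) i < 0 := by
    simp only [Pi.add_apply, dv, if_neg hj.symm]
    omega
  exact hj.symm (cc_neg φ j _ he i h1)


theorem lam_sig (j : Fin (n + 1)) (d : ℤ) :
    lam d (BO (Finsupp.single j 1)) (TT_le_BO _) (sig (R := R) j d _ le_rfl) =
      co (Finsupp.single j (-d).toNat) (xm (Finsupp.single j d.toNat)) :=
  lam_eq_of_rep (TT_le_BO _) (isRep_fs d _ _ (NV_single j _ le_rfl) _ (xm_mem _) (deg_eq j d))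
    ⟨_, xm_mem _, deg_eq j d⟩

theorem secMap_mulBy {i : ℕ} (f : Gr n R i) (d k : ℤ) (hk : k = i + d) (V : Opens (PT n R))
    (s : Twist.sectN (𝒜 := Gr n R) d (op V)) :
    secMap (mulBy f d k hk) V s = ((phiF f d k hk).app (op V)).hom s := rfl

theorem cc_mulBy {i : ℕ} (f : Gr n R i) (d k : ℤ) (hk : k = i + d) (j : Fin (n + 1))
    (e : Fin (n + 1) → ℤ) :
    cc (mulBy f d k hk) j e = co 0 f.1 (e - dv j d) := by
  have h1 : cc (mulBy f d k hk) j = conv f.1 (lam d (BO (Finsupp.single j 1)) (TT_le_BO _)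
      (sig (R := R) j d _ le_rfl)) := lam_phiF f d k hk _ (TT_le_BO _) _
  rw [h1, lam_sig, ← co_mul]
  have h2 : co (Finsupp.single j (-d).toNat) (f.1 * xm (Finsupp.single j d.toNat)) e =
      co (0 + Finsupp.single j (-d).toNat) (f.1 * xm (Finsupp.single j d.toNat)) e := by
    rw [zero_add]
  rw [h2, co_den_num]
  congr 1
  funext i
  simp only [Pi.add_apply, Pi.sub_apply, dv, wz, Finsupp.single_apply]
  by_cases hij : i = j
  · subst hij
    simp only [if_true]
    omega
  · have : ¬ (j = i) := fun h => hij h.symm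
    simp only [if_neg hij, if_neg this]
    omega

theorem lam_inj' (k : ℤ) {w₁ : Fin (n + 1) →₀ ℕ} (hw₁ : 0 < Finsupp.degree w₁)
    (s s' : Twist.sectN (𝒜 := Gr n R) k (op (BO w₁)))
    (h : lam k (BO w₁) (TT_le_BO w₁) s = lam k (BO w₁) (TT_le_BO w₁) s') : s = s' := by
  have h1 : lam k (BO w₁) (TT_le_BO w₁) (s - s') = 0 :=
    (map_sub (lamHom k (BO w₁) (TT_le_BO w₁)) s s').trans (sub_eq_zero.mpr h)
  exact sub_eq_zero.mp (lam_injective k hw₁ (s - s') h1)

theorem exists_mulBy (hn : 1 ≤ n) {d k : ℤ} {i : ℕ} (hk : k = i + d)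
    (φ : Twist.twistProjSpace n R d ⟶ Twist.twistProjSpace n R k) :
    ∃ f : Gr n R i, φ = mulBy f d k hk := by
  have hD : 0 ≤ ((Finsupp.degree (0 : Fin (n + 1) →₀ ℕ) : ℕ) : ℤ) + (i : ℤ) := by
    simp
  obtain ⟨m, hm, hco⟩ := exists_poly (i : ℤ) (0 : Fin (n + 1) →₀ ℕ) (FF φ) (FF_finite φ)
    (fun e he => by rw [FF_degree φ e he, hk]; ring)
    (fun e he i => by
      have := FF_nonneg hn φ e he i
      simpa using this) hD
  have hi : (((Finsupp.degree (0 : Fin (n + 1) →₀ ℕ) : ℕ) : ℤ) + (i : ℤ)).toNat = i := by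
    simp
  rw [hi] at hm
  refine ⟨⟨m, hm⟩, ?_⟩
  apply hom_ext_sig
  intro j
  apply lam_inj' k (w₁ := Finsupp.single j 1) (by rw [Finsupp.degree_single]; exact Nat.one_pos)
  change cc φ j = cc (mulBy ⟨m, hm⟩ d k hk) j
  funext e
  rw [cc_mulBy]
  change _ = co 0 m (e - dv j d)
  rw [hco, FF_eq φ j]
  congr 1
  funext i
  simp


theorem secMap_zero {d k : ℤ} (V : Opens (PT n R)) (s : Twist.sectN (𝒜 := Gr n R) d (op V)) :
    secMap (0 : Twist.twistProjSpace n R d ⟶ Twist.twistProjSpace n R k) V s = 0 := rfl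

theorem eq_zero_of_lt (hn : 1 ≤ n) {d k : ℤ} (hkd : k < d)
    (φ : Twist.twistProjSpace n R d ⟶ Twist.twistProjSpace n R k) : φ = 0 := by
  have hF : ∀ e, FF φ e = 0 := by
    intro e
    by_contra he
    have h1 := FF_degree φ e he
    have h2 : 0 ≤ ∑ i, e i := Finset.sum_nonneg fun i _ => FF_nonneg hn φ e he i
    omega
  apply hom_ext_sig
  intro j
  apply lam_inj' k (w₁ := Finsupp.single j 1) (by rw [Finsupp.degree_single]; exact Nat.one_pos)
  rw [secMap_zero]
  change cc φ j = lam k _ _ 0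
  rw [lam_zero]
  funext e
  have h := FF_eq φ j (e - dv j d)
  rw [hF] at h
  rw [Pi.zero_apply, h]
  congr 1
  funext i
  simp

end Groth.Agent.Lib.Helper4.DuA3
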