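import Mathlib
import Groth.Agent.Lib.Helper4.KosA1
import Groth.Agent.Lib.Helper1.RT14

/-!
# Koszul complexes of sheaves of modules: exactness from local invertibility of one of the maps (helper4)
-/

set_option backward.isDefEq.respectTransparency.types false
set_option synthInstance.maxHeartbeats 400000
set_option autoImplicit false
set_option linter.unusedSectionVars false
set_option linter.style.haveILetI false
set_option linter.unusedSimpArgs false
universe u v w
open CategoryTheory CategoryTheory.Limits AlgebraicGeometry TopologicalSpace Opposite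
open Groth.Agent.Helper1
open Groth.Agent.Helper1.QcCech
open Groth.Agent.Lib.Helper4.KosA1

namespace Groth.Agent.Lib.Helper4.KosA2

variable {X : Scheme.{u}} {I : Type w} [Fintype I] [LinearOrder I]

/-- the sections functor over an open -/
noncomputable def secF (W : X.Opens) : X.Modules ⥤ AddCommGrpCat.{u} :=
  Scheme.Modules.toPresheaf X ⋙ (evaluation _ _).obj (op W)

instance (W : X.Opens) : (secF W).Additive := ⟨rfl⟩

theorem secF_map (W : X.Opens) {M N : X.Modules} (f : M ⟶ N) : (secF W).map f = f.app W := rfl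

theorem exactAt_of_locally {M : ℤ → X.Modules} (D : Datum I M) (φ : I → ∀ i, M i ⟶ M (i + 1))
    (hφ : ∀ (j l : I) (i : ℤ), φ j i ≫ φ l (i + 1) = φ l i ≫ φ j (i + 1))
    (hloc : ∀ x : X, ∃ (j₀ : I) (V : X.Opens), x ∈ V ∧
      ∀ W : X.Opens, W ≤ V → ∀ i, Function.Bijective ((φ j₀ i).app W)) (i : ℤ) :
    (D.complex φ hφ).ExactAt i := by
  obtain ⟨k, rfl⟩ : ∃ k, i = k + 1 := ⟨i - 1, by ring⟩
  rw [HomologicalComplex.exactAt_iff' _ k (k + 1) (k + 1 + 1) (by simp) (by simp)]
  apply RT14.exact_of_locally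
  intro U s hs x hx
  obtain ⟨j₀, V, hxV, hbij⟩ := hloc x
  refine ⟨U ⊓ V, inf_le_left, ⟨hx, hxV⟩, ?_⟩
  have hg : ((D.complex φ hφ).sc' k (k + 1) (k + 1 + 1)).g = D.d φ (k + 1) := D.complex_d φ hφ (k + 1)
  have hf : ((D.complex φ hφ).sc' k (k + 1) (k + 1 + 1)).f = D.d φ k := D.complex_d φ hφ k
  rw [hf]
  have hs' : (D.d φ (k + 1)).app U s = 0 := by rw [← hg]; exact hs
  let W : X.Opens := U ⊓ V
  let F := secF (X := X) W
  have hφ' : ∀ (j l : I) (i : ℤ), F.map (φ j i) ≫ F.map (φ l (i + 1)) =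
      F.map (φ l i) ≫ F.map (φ j (i + 1)) := by
    intro j l i
    rw [← F.map_comp, ← F.map_comp, hφ]
  have hiso : ∀ i, IsIso (F.map (φ j₀ i)) := by
    intro i
    exact (ConcreteCategory.isIso_iff_bijective _).2 (hbij W inf_le_right i)
  have h0 : ((D.map F).d (fun j i => F.map (φ j i)) (k + 1))
      (res (D.K (k + 1)) (inf_le_left : W ≤ U) s) = 0 := by
    rw [← D.map_d φ F (k + 1)]
    change (D.d φ (k + 1)).app W (res (D.K (k + 1)) (inf_le_left : W ≤ U) s) = 0
    rw [← ModGlue.app_res, hs', map_zero]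
  obtain ⟨m, hm⟩ := (D.map F).exists_preimage (fun j i => F.map (φ j i)) hφ' j₀ hiso k _ h0
  refine ⟨m, ?_⟩
  rw [← D.map_d φ F k] at hm
  exact hm

end Groth.Agent.Lib.Helper4.KosA2
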