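import Mathlib
import Groth.Agent.Lib.Helper4.KosA2
import Groth.Agent.Lib.Helper4.DuA3
import Groth.Agent.Lib.Helper4.PnC6

/-!
# The Koszul complex of O(a) on projective space over a ring (helper4)
-/

set_option backward.isDefEq.respectTransparency.types false
set_option synthInstance.maxHeartbeats 400000
set_option autoImplicit false
set_option linter.unusedSectionVars false
set_option linter.style.haveILetI false
set_option linter.unusedSimpArgs false
universe u v w
open CategoryTheory CategoryTheory.Limits AlgebraicGeometry TopologicalSpace Opposite MvPolynomial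
open Groth.Agent.Helper1
open Groth.Agent.Helper1.QcCech
open Groth.Agent.Lib.Helper4.KosA1
open Groth.Agent.Lib.Helper4.KosA2
open Groth.Agent.Lib.Helper4.PnS1
open Groth.Agent.Lib.Helper4.PnC1
open Groth.Agent.Lib.Helper4.PnC6
open Groth.Agent.Lib.Helper4.DuA1
open Groth.Agent.Lib.Helper4.DuA3

namespace Groth.Agent.Lib.Helper4.KosB1

variable (n : ℕ) (R : Type u) [CommRing R]

attribute [local instance] Abelian.hasFiniteBiproducts

/-- the variable `x_j` as an element of degree one -/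
noncomputable def xv (j : Fin (n + 1)) : Gr n R 1 :=
  ⟨xm (Finsupp.single j 1), by
    have := xm_mem (R := R) (Finsupp.single j 1)
    rwa [Finsupp.degree_single] at this⟩

/-- the terms -/
noncomputable def Mt (a : ℤ) (i : ℤ) : (CohB1.ProjSpace n R).Modules := Twist.twistProjSpace n R (a + i)

/-- multiplication by the variables -/
noncomputable def phit (a : ℤ) (j : Fin (n + 1)) (i : ℤ) : Mt n R a i ⟶ Mt n R a (i + 1) :=
  mulBy (xv n R j) (a + i) (a + (i + 1)) (by push_cast; ring)

theorem phit_comm (a : ℤ) (j l : Fin (n + 1)) (i : ℤ) :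
    phit n R a j i ≫ phit n R a l (i + 1) = phit n R a l i ≫ phit n R a j (i + 1) := by
  apply Scheme.Modules.hom_ext
  intro U
  ext s
  apply Subtype.ext
  funext x
  apply Subtype.ext
  exact mul_left_comm _ _ _

theorem phit_bijective (a : ℤ) (j : Fin (n + 1)) (W : (CohB1.ProjSpace n R).Opens)
    (hW : W ≤ US n R ⟨j⟩) (i : ℤ) : Function.Bijective ((phit n R a j i).app W) := by
  have hk : a + (i + 1) = (1 : ℤ) + (a + i) := by ring
  have hm : ((1 : ℕ) : ℤ) = ((0 : ℕ) : ℤ) + 1 := by norm_num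
  have hbV : ∀ x : W, (1 : MvPolynomial (Fin (n + 1)) R) ∉ x.1.asHomogeneousIdeal :=
    fun x => TwistTens.one_not_mem (Gr n R) x.1
  have haV : ∀ x : W, (xv n R j).1 ∉ x.1.asHomogeneousIdeal := fun x => hW x.2
  have hb := TwistTens.mulSec_fracSec_bijective (Gr n R) (xv n R j).2
    (SetLike.GradedOne.one_mem : (1 : MvPolynomial (Fin (n + 1)) R) ∈ Gr n R 0) hm hk W hbV haV
  exact hb

/-- the Koszul complex of `O(a)` on projective space -/
noncomputable def kosz (a : ℤ) : CochainComplex (CohB1.ProjSpace n R).Modules ℤ :=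
  (Datum.ofBiproducts (Fin (n + 1)) (Mt n R a)).complex (phit n R a) (phit_comm n R a)

theorem kosz_exactAt (a : ℤ) (i : ℤ) : (kosz n R a).ExactAt i := by
  apply exactAt_of_locally
  intro x
  obtain ⟨j, hj⟩ := ProjSpaceLib.exists_X_notMem n R x
  exact ⟨j, US n R ⟨j⟩, hj, fun W hW i => phit_bijective n R a j W hW i⟩

theorem kosz_isZero (a : ℤ) (i : ℤ) (hi : i < 0 ∨ (n : ℤ) + 1 < i) : IsZero ((kosz n R a).X i) := by
  refine Datum.isZero_K (Datum.ofBiproducts (Fin (n + 1)) (Mt n R a)) ?_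
  intro S hS
  have h1 : S.card ≤ n + 1 := by
    have := Finset.card_le_univ S
    simpa using this
  omega

theorem card_idx (i : ℕ) : Fintype.card (Datum.Idx (Fin (n + 1)) (i : ℤ)) = Nat.choose (n + 1) i := by
  have e : Datum.Idx (Fin (n + 1)) (i : ℤ) ≃ {S : Finset (Fin (n + 1)) // S.card = i} :=
    Equiv.subtypeEquivRight (fun S => Nat.cast_inj)
  rw [Fintype.card_congr e, Fintype.card_finset_len, Fintype.card_fin]

theorem kosz_X_iso (a : ℤ) (i : ℕ) :
    Nonempty ((kosz n R a).X (i : ℤ) ≅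
      ∐ fun _ : Fin (Nat.choose (n + 1) i) => Twist.twistProjSpace n R (a + i)) := by
  let e : Fin (Nat.choose (n + 1) i) ≃ Datum.Idx (Fin (n + 1)) (i : ℤ) :=
    (Fintype.equivFinOfCardEq (card_idx n i)).symm
  exact ⟨(biproduct.isoCoproduct _) ≪≫
    (Sigma.reindex e (fun _ : Datum.Idx (Fin (n + 1)) (i : ℤ) => Twist.twistProjSpace n R (a + i))).symm⟩

theorem s1071 (a : ℤ) :
    ∃ C : CochainComplex (CohB1.ProjSpace n R).Modules ℤ, (∀ i : ℤ, C.ExactAt i) ∧
      (∀ i : ℕ, i ≤ n + 1 → Nonempty (C.X (i : ℤ) ≅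
        ∐ fun _ : Fin (Nat.choose (n + 1) i) => Twist.twistProjSpace n R (a + i))) ∧
      (∀ i : ℤ, i < 0 ∨ (n : ℤ) + 1 < i → IsZero (C.X i)) :=
  ⟨kosz n R a, kosz_exactAt n R a, fun i _ => kosz_X_iso n R a i, kosz_isZero n R a⟩

end Groth.Agent.Lib.Helper4.KosB1
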