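import Mathlib
import Groth.Agent.Lib.Helper4.KosB1
import Groth.Agent.Lib.Helper4.TwExact

/-!
# The Koszul complex of twists of an arbitrary module on projective space (helper4)
-/

set_option backward.isDefEq.respectTransparency.types false
set_option synthInstance.maxHeartbeats 400000
set_option autoImplicit false
set_option linter.unusedSectionVars false
set_option linter.style.haveILetI false
set_option linter.unusedSimpArgs false
universe u v w
open CategoryTheory CategoryTheory.Limits AlgebraicGeometry TopologicalSpace Opposite MvPolynomial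
open Groth.Agent.Helper1
open Groth.Agent.Helper1.QcCech Groth.Agent.Helper1.LGen Groth.Agent.Helper1.TensGen Groth.Agent.Helper1.TmulLib
open Groth.Agent.Lib.Helper4.KosA1
open Groth.Agent.Lib.Helper4.KosA2
open Groth.Agent.Lib.Helper4.KosB1
open Groth.Agent.Lib.Helper4.PnS1
open Groth.Agent.Lib.Helper4.PnC1
open Groth.Agent.Lib.Helper4.PnC6
open Groth.Agent.Lib.Helper4.DuA1
open Groth.Agent.Lib.Helper4.DuA3

namespace Groth.Agent.Lib.Helper4.KosB2

section General
variable {X : Scheme.{u}}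

theorem isGen_map_of_bijective {L L' : X.Modules} (g : L ⟶ L') {W : X.Opens} {σ : Γ(L, W)}
    (hσ : IsGen L W σ) (hg : ∀ V : X.Opens, V ≤ W → Function.Bijective (g.app V)) :
    IsGen L' W (g.app W σ) := by
  intro V hV
  have h1 := hσ V hV
  have h2 := hg V hV
  have : (fun r : Γ(X, V) => r • res L' hV (g.app W σ)) =
      (g.app V) ∘ (fun r : Γ(X, V) => r • res L hV σ) := by
    funext r
    change _ = g.app V (r • res L hV σ)
    rw [Scheme.Modules.Hom.app_smul, ModGlue.app_res]
  rw [this]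
  exact h2.comp h1

theorem tensorMap_tm {M M' N N' : X.Modules} (f : M ⟶ M') (g : N ⟶ N') (U : X.Opens)
    (m : Γ(M, U)) (n : Γ(N, U)) :
    (KoszTw.tensorMap f g).app U (tm M N U m n) = tm M' N' U (f.app U m) (g.app U n) :=
  KoszTw.tensorMap_tmul f g U m n

theorem bijective_tensorMap_app (E : X.Modules) {L L' : X.Modules} (g : L ⟶ L') {W : X.Opens}
    {σ : Γ(L, W)} (hσ : IsGen L W σ) (hσ' : IsGen L' W (g.app W σ)) :
    Function.Bijective ((KoszTw.tensorMap (𝟙 E) g).app W) := by
  have h1 := bijective_tm_of_isGen E hσ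
  have h2 := bijective_tm_of_isGen E hσ'
  have h3 : ((KoszTw.tensorMap (𝟙 E) g).app W) ∘ (fun m : Γ(E, W) => tm E L W m σ) =
      (fun m : Γ(E, W) => tm E L' W m (g.app W σ)) := by
    funext m
    change (KoszTw.tensorMap (𝟙 E) g).app W (tm E L W m σ) = _
    rw [tensorMap_tm]
    rfl
  have h4 : ((KoszTw.tensorMap (𝟙 E) g).app W : Γ(CohB1.tensorMod E L, W) → Γ(CohB1.tensorMod E L', W)) =
      (fun m : Γ(E, W) => tm E L' W m (g.app W σ)) ∘ (Equiv.ofBijective _ h1).symm := by
    rw [← h3]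
    funext t
    simp only [Function.comp_apply]
    congr 1
    exact ((Equiv.ofBijective _ h1).apply_symm_apply t).symm
  rw [h4]
  exact h2.comp (Equiv.bijective _)

end General

section Exact
variable {X : Scheme.{u}} {I : Type w} [Fintype I] [LinearOrder I]

/-- exactness of the Koszul complex, in short complex form -/
theorem exact_sc_of_locally {M : ℤ → X.Modules} (D : Datum I M) (φ : I → ∀ i, M i ⟶ M (i + 1))
    (hφ : ∀ (j l : I) (i : ℤ), φ j i ≫ φ l (i + 1) = φ l i ≫ φ j (i + 1))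
    (hloc : ∀ x : X, ∃ (j₀ : I) (V : X.Opens), x ∈ V ∧
      ∀ W : X.Opens, W ≤ V → ∀ i, Function.Bijective ((φ j₀ i).app W)) (k : ℤ) :
    (ShortComplex.mk (D.d φ k) (D.d φ (k + 1)) (D.d_comp_d φ hφ k)).Exact := by
  apply RT14.exact_of_locally
  intro U s hs x hx
  obtain ⟨j₀, V, hxV, hbij⟩ := hloc x
  refine ⟨U ⊓ V, inf_le_left, ⟨hx, hxV⟩, ?_⟩
  have hs' : (D.d φ (k + 1)).app U s = 0 := hs
  let W : X.Opens := U ⊓ V
  let F := secF (X := X) W
  have hφ' : ∀ (j l : I) (i : ℤ), F.map (φ j i) ≫ F.map (φ l (i + 1)) =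
      F.map (φ l i) ≫ F.map (φ j (i + 1)) := by
    intro j l i
    rw [← F.map_comp, ← F.map_comp, hφ]
  have hiso : ∀ i, IsIso (F.map (φ j₀ i)) := by
    intro i
    exact (ConcreteCategory.isIso_iff_bijective _).2 (hbij W inf_le_right i)
  have h0 : ((D.map F).d (fun j i => F.map (φ j i)) (k + 1))
      (res (D.K (k + 1)) (inf_le_left : W ≤ U) s) = 0 := by
    rw [← D.map_d φ F (k + 1)]
    change (D.d φ (k + 1)).app W (res (D.K (k + 1)) (inf_le_left : W ≤ U) s) = 0
    rw [← ModGlue.app_res, hs', map_zero]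
  obtain ⟨m, hm⟩ := (D.map F).exists_preimage (fun j i => F.map (φ j i)) hφ' j₀ hiso k _ h0
  refine ⟨m, ?_⟩
  rw [← D.map_d φ F k] at hm
  exact hm

end Exact

section Pn
variable (n : ℕ) (R : Type u) [CommRing R]

theorem xpow_mem (j : Fin (n + 1)) (k : ℕ) :
    (xm (k • Finsupp.single j 1) : MvPolynomial (Fin (n + 1)) R) ∈ Gr n R k := by
  have := xm_mem (R := R) (k • Finsupp.single j 1)
  rwa [map_nsmul, Finsupp.degree_single, smul_eq_mul, mul_one] at this

theorem xpow_notMem (j : Fin (n + 1)) (k : ℕ) (W : (CohB1.ProjSpace n R).Opens)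
    (hW : W ≤ US n R ⟨j⟩) (x : W) :
    (xm (k • Finsupp.single j 1) : MvPolynomial (Fin (n + 1)) R) ∉ x.1.asHomogeneousIdeal := by
  intro h
  rw [← xm_pow] at h
  exact hW x.2 (x.1.isPrime.mem_of_pow_mem k h)

theorem exists_isGen_twist (d : ℤ) (j : Fin (n + 1)) (W : (CohB1.ProjSpace n R).Opens)
    (hW : W ≤ US n R ⟨j⟩) :
    ∃ σ : Γ(Twist.twistProjSpace n R d, W), IsGen (Twist.twistProjSpace n R d) W σ := by
  have hm : ((d.toNat : ℕ) : ℤ) = (((-d).toNat : ℕ) : ℤ) + d := by omega
  refine ⟨TwistTriv.fracSec (Gr n R) (xpow_mem n R j d.toNat) (xpow_mem n R j (-d).toNat) hm W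
    (xpow_notMem n R j _ W hW), ?_⟩
  intro V hV
  exact TwistTriv.fracSec_bijective (Gr n R) (xpow_mem n R j d.toNat) (xpow_mem n R j (-d).toNat) hm V
    (xpow_notMem n R j _ V (hV.trans hW)) (xpow_notMem n R j _ V (hV.trans hW))

attribute [local instance] Abelian.hasFiniteBiproducts

variable (E : (CohB1.ProjSpace n R).Modules)

/-- the terms of the twisted Koszul complex -/
noncomputable def MtE (a : ℤ) (i : ℤ) : (CohB1.ProjSpace n R).Modules :=
  CohB1.tensorMod E (Mt n R a i)

/-- multiplication by the variables on twists of `E` -/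
noncomputable def phitE (a : ℤ) (j : Fin (n + 1)) (i : ℤ) : MtE n R E a i ⟶ MtE n R E a (i + 1) :=
  KoszTw.tensorMap (𝟙 E) (phit n R a j i)

theorem phitE_comm (a : ℤ) (j l : Fin (n + 1)) (i : ℤ) :
    phitE n R E a j i ≫ phitE n R E a l (i + 1) = phitE n R E a l i ≫ phitE n R E a j (i + 1) := by
  have h1 := KoszTw.tensorMap_comp (𝟙 E) (𝟙 E) (phit n R a j i) (phit n R a l (i + 1))
  have h2 := KoszTw.tensorMap_comp (𝟙 E) (𝟙 E) (phit n R a l i) (phit n R a j (i + 1))
  rw [phit_comm] at h1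
  exact h1.symm.trans h2

theorem phitE_bijective (a : ℤ) (j : Fin (n + 1)) (W : (CohB1.ProjSpace n R).Opens)
    (hW : W ≤ US n R ⟨j⟩) (i : ℤ) : Function.Bijective ((phitE n R E a j i).app W) := by
  obtain ⟨σ, hσ⟩ := exists_isGen_twist n R (a + i) j W hW
  exact bijective_tensorMap_app E (phit n R a j i) hσ
    (isGen_map_of_bijective (phit n R a j i) hσ
      (fun V hV => phit_bijective n R a j V (hV.trans hW) i))

/-- the datum of the twisted Koszul complex -/
noncomputable def datE (a : ℤ) : Datum (Fin (n + 1)) (MtE n R E a) :=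
  Datum.ofBiproducts (Fin (n + 1)) (MtE n R E a)

/-- the differential of the twisted Koszul complex -/
noncomputable def dE (a : ℤ) (i : ℤ) : (datE n R E a).K i ⟶ (datE n R E a).K (i + 1) :=
  (datE n R E a).d (phitE n R E a) i

theorem dE_comp (a : ℤ) (i : ℤ) : dE n R E a i ≫ dE n R E a (i + 1) = 0 :=
  (datE n R E a).d_comp_d (phitE n R E a) (phitE_comm n R E a) i

theorem dE_exact (a : ℤ) (i : ℤ) :
    (ShortComplex.mk (dE n R E a i) (dE n R E a (i + 1)) (dE_comp n R E a i)).Exact := by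
  apply exact_sc_of_locally (datE n R E a) (phitE n R E a) (phitE_comm n R E a)
  intro x
  obtain ⟨j, hj⟩ := ProjSpaceLib.exists_X_notMem n R x
  exact ⟨j, US n R ⟨j⟩, hj, fun W hW i => phitE_bijective n R E a j W hW i⟩

end Pn

end Groth.Agent.Lib.Helper4.KosB2
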