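import Mathlib
import Groth.Agent.Lib.Helper4.KosB2
import Groth.Agent.Lib.Helper4.SerreVan
import Groth.Agent.Lib.Helper4.KosA3
import Groth.Agent.Lib.Helper1.HH0
import Groth.Prelude.Def_Curv2

/-!
# Cohomology chase along the Koszul complex; m-regular implies (m+1)-regular (helper4)
-/

set_option backward.isDefEq.respectTransparency.types false
set_option synthInstance.maxHeartbeats 400000
set_option autoImplicit false
set_option linter.unusedSectionVars false
set_option linter.style.haveILetI false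
set_option linter.unusedSimpArgs false
universe u v w
open CategoryTheory CategoryTheory.Limits AlgebraicGeometry TopologicalSpace Opposite
open Groth.Agent.Helper1
open Groth.Agent.Lib.Helper4.KosA1
open Groth.Agent.Lib.Helper4.KosA3
open Groth.Agent.Lib.Helper4.KosB1
open Groth.Agent.Lib.Helper4.KosB2
open Groth.Agent.Lib.Helper4

namespace Groth.Agent.Lib.Helper4.KosC1

section Chase
variable (A : Type u) [CommRing A] {X : Scheme.{u}} [X.Over (Spec (CommRingCat.of A))]
variable (K : ℤ → X.Modules) (d : ∀ p, K p ⟶ K (p + 1)) (hd : ∀ p, d p ≫ d (p + 1) = 0)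

/-- the cycles -/
noncomputable abbrev Zk (p : ℤ) : X.Modules := kernel (d p)

/-- the map onto the cycles -/
noncomputable def toZ (p : ℤ) : K p ⟶ Zk K d (p + 1) := kernel.lift (d (p + 1)) (d p) (hd p)

theorem toZ_ι (p : ℤ) : toZ K d hd p ≫ kernel.ι (d (p + 1)) = d p := kernel.lift_ι _ _ _

theorem ι_toZ (p : ℤ) : kernel.ι (d p) ≫ toZ K d hd p = 0 := by
  rw [← cancel_mono (kernel.ι (d (p + 1))), Category.assoc, toZ_ι, kernel.condition, zero_comp]

/-- the short complex `Z^p → K^p → Z^{p+1}` -/
noncomputable def sesZ (p : ℤ) : ShortComplex X.Modules :=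
  ShortComplex.mk (kernel.ι (d p)) (toZ K d hd p) (ι_toZ K d hd p)

variable (hex : ∀ p, (ShortComplex.mk (d p) (d (p + 1)) (hd p)).Exact)

include hex in
theorem sesZ_shortExact (p : ℤ) : (sesZ K d hd p).ShortExact := by
  haveI : Mono (sesZ K d hd p).f := by unfold sesZ; infer_instance
  haveI : Epi (sesZ K d hd p).g := (ShortComplex.exact_iff_epi_kernel_lift _).1 (hex p)
  refine ShortComplex.ShortExact.mk ?_
  apply ShortComplex.exact_of_f_is_kernel
  exact isKernelOfComp (kernel.ι (d (p + 1))) (d p) (kernelIsKernel (d p)) (ι_toZ K d hd p)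
    (toZ_ι K d hd p)

include A hex in
theorem chase (T : ℕ) : ∀ (q : ℕ) (p : ℤ),
    (∀ (p' : ℤ) (q' : ℕ), p' + q' = p + q → q ≤ q' → q' < q + T → Subsingleton (Coh.HH X (K p') q')) →
    (∀ (p' : ℤ) (q' : ℕ), p' + q' = p + 1 + q → q' = q + T → Subsingleton (Coh.HH X (Zk K d p') q')) →
    Subsingleton (Coh.HH X (Zk K d (p + 1)) q) := by
  induction T with
  | zero =>
    intro q p _ hZ
    exact hZ (p + 1) q (by ring) rfl
  | succ T ih =>
    intro q p hK hZ
    have h1 : Subsingleton (Coh.HH X (Zk K d (p - 1 + 1)) (q + 1)) := by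
      apply ih (q + 1) (p - 1)
      · intro p' q' h1 h2 h3
        exact hK p' q' (by push_cast at h1 ⊢; linarith) (by omega) (by omega)
      · intro p' q' h1 h2
        exact hZ p' q' (by push_cast at h1 ⊢; linarith) (by omega)
    have e : p - 1 + 1 = p := by ring
    rw [e] at h1
    have h2 : Subsingleton (Coh.HH X (K p) q) := hK p q rfl le_rfl (by omega)
    exact SerreVan.subsingleton_X₃ A (sesZ_shortExact K d hd hex p) q h2 h1

end Chase

section HH0
variable (A : Type u) [CommRing A] {X : Scheme.{u}} [X.Over (Spec (CommRingCat.of A))]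

theorem HH0_natural {M N : X.Modules} (φ : M ⟶ N) (x : Coh.HH X M 0) :
    HH0.equiv X N (Canon.HHlin A φ 0 x) = φ.app ⊤ (HH0.equiv X M x) :=
  (Sheaf.H.equiv₀_naturality (Limits.isTerminalTop (α := Opens X))
    ((SheafOfModules.toSheaf X.ringCatSheaf).map φ) x).symm

end HH0

section Pn
variable (n : ℕ) (R : Type u) [CommRing R] (E : (CohB1.ProjSpace n R).Modules)

attribute [local instance] Abelian.hasFiniteBiproducts

theorem K_iso_sigma (a p : ℤ) :
    ∃ k : ℕ, Nonempty ((datE n R E a).K p ≅ ∐ fun _ : Fin k => MtE n R E a p) := by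
  refine ⟨Fintype.card (Datum.Idx (Fin (n + 1)) p), ⟨?_⟩⟩
  let e : Fin (Fintype.card (Datum.Idx (Fin (n + 1)) p)) ≃ Datum.Idx (Fin (n + 1)) p :=
    (Fintype.equivFin _).symm
  exact (biproduct.isoCoproduct _) ≪≫
    (Sigma.reindex e (fun _ : Datum.Idx (Fin (n + 1)) p => MtE n R E a p)).symm

variable [hE : E.IsQuasicoherent]

theorem isQCoh_MtE (a p : ℤ) : (MtE n R E a p).IsQuasicoherent := by
  haveI : (Twist.twistProjSpace n R (a + p)).IsQuasicoherent := (SerreFin.isCoh_twist n R (a + p)).1
  exact Groth.Agent.Lead.TilT.isQuasicoherent_tensorMod E (Twist.twistProjSpace n R (a + p))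

theorem isQCoh_K (a p : ℤ) : ((datE n R E a).K p).IsQuasicoherent := by
  obtain ⟨k, ⟨e⟩⟩ := K_iso_sigma n R E a p
  haveI h0 := isQCoh_MtE n R E a p
  haveI := @FinSigma.isQuasicoherent_sigma _ k (fun _ : Fin k => MtE n R E a p) (fun _ => h0)
  exact QcAbel.isQuasicoherent_of_iso e.symm

theorem isQCoh_Z (a p : ℤ) : (Zk (datE n R E a).K (dE n R E a) p).IsQuasicoherent := by
  haveI := isQCoh_K n R E a p
  haveI := isQCoh_K n R E a (p + 1)
  exact QcAbel.isQuasicoherent_kernel (dE n R E a p)

omit hE in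
theorem subsingleton_K (a p : ℤ) (q : ℕ)
    (h : Subsingleton (Coh.HH (CohB1.ProjSpace n R) (MtE n R E a p) q)) :
    Subsingleton (Coh.HH (CohB1.ProjSpace n R) ((datE n R E a).K p) q) := by
  obtain ⟨k, ⟨e⟩⟩ := K_iso_sigma n R E a p
  have h1 := SerreVan.subsingleton_sigma R (X := CohB1.ProjSpace n R) (𝟭 _)
    (fun _ : Fin k => MtE n R E a p) q (fun _ => h)
  exact SerreVan.subsingleton_of_iso R (X := CohB1.ProjSpace n R) e.symm q h1

end Pn

section Pn2
variable (n : ℕ) (R : Type u) [CommRing R] (E : (CohB1.ProjSpace n R).Modules) [hE : E.IsQuasicoherent]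

attribute [local instance] Abelian.hasFiniteBiproducts

theorem card_ne_of_lt (S : Finset (Fin (n + 1))) {i : ℤ} (hi : (n : ℤ) + 1 < i) : (S.card : ℤ) ≠ i := by
  have h1 : S.card ≤ n + 1 := by
    have := Finset.card_le_univ S
    simpa using this
  omega

omit hE in
theorem dE_top_eq_zero (a : ℤ) : dE n R E a (n + 1) = 0 :=
  (Datum.isZero_K (datE n R E a) (fun S => card_ne_of_lt n S (by linarith))).eq_of_tgt _ _

/-- the top cycles are the top term -/
noncomputable def zTopIso (a : ℤ) :
    Zk (datE n R E a).K (dE n R E a) (n + 1) ≅ MtE n R E a (n + 1) :=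
  (kernelIsoOfEq (dE_top_eq_zero n R E a)) ≪≫ kernelZeroIsoSource ≪≫
    (isoOfUnique (datE n R E a) Finset.univ (by simp) (fun S hS => by
      apply Finset.eq_univ_of_card
      have : (S.card : ℤ) = ((n + 1 : ℕ) : ℤ) := by push_cast; exact hS
      rw [Fintype.card_fin]
      exact_mod_cast this)).symm

omit hE in
theorem subsingleton_twist_congr {c c' : ℤ} (h : c = c') (q : ℕ)
    (hs : Subsingleton (Coh.HH (CohB1.ProjSpace n R) (CohB1.tensorMod E (Twist.twistProjSpace n R c)) q)) :
    Subsingleton (Coh.HH (CohB1.ProjSpace n R) (CohB1.tensorMod E (Twist.twistProjSpace n R c')) q) := by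
  subst h; exact hs

/-- vanishing of the cohomology of the top term from vanishing along the antidiagonal -/
theorem vanishing_top (a : ℤ) (q : ℕ)
    (h : ∀ (q' : ℕ) (c : ℤ), q ≤ q' → q' ≤ n → c = a + n + q - q' →
      Subsingleton (Coh.HH (CohB1.ProjSpace n R) (CohB1.tensorMod E (Twist.twistProjSpace n R c)) q'))
    (c : ℤ) (hc : c = a + n + 1) :
    Subsingleton (Coh.HH (CohB1.ProjSpace n R) (CohB1.tensorMod E (Twist.twistProjSpace n R c)) q) := by
  have h1 : Subsingleton (Coh.HH (CohB1.ProjSpace n R)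
      (Zk (datE n R E a).K (dE n R E a) ((n : ℤ) + 1)) q) := by
    apply chase R (datE n R E a).K (dE n R E a) (dE_comp n R E a) (dE_exact n R E a) (n + 1) q (n : ℤ)
    · intro p' q' h1 h2 h3
      by_cases hq' : q' ≤ n
      · apply subsingleton_K
        exact h q' (a + p') h2 hq' (by linarith)
      · haveI := isQCoh_K n R E a p'
        exact Groth.Agent.S0022.result n R _ q' (by omega)
    · intro p' q' h1 h2
      haveI := isQCoh_Z n R E a p'
      exact Groth.Agent.S0022.result n R _ q' (by omega)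
  have h2 := SerreVan.subsingleton_of_iso R (X := CohB1.ProjSpace n R) (zTopIso n R E a) q h1
  exact subsingleton_twist_congr n R E (by rw [hc]; ring) q h2

end Pn2

section Reg
variable (n : ℕ) (k : Type u) [Field k] (F : (CohB1.ProjSpace n k).Modules)

theorem s1642 (hF : Coh.IsCoh F) (m : ℤ) (h : Curv2.IsMRegular k n F m) :
    Curv2.IsMRegular k n F (m + 1) := by
  haveI : F.IsQuasicoherent := hF.1
  intro i hi1 hin
  apply vanishing_top n k F (m - i - n) i
  · intro q' c hq hq'n hc
    have := h q' (by omega) hq'n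
    exact subsingleton_twist_congr n k F (by rw [hc]; ring) q' this
  · ring

end Reg

end Groth.Agent.Lib.Helper4.KosC1
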