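import Mathlib
import Groth.Agent.Lib.Helper4.KosC1

/-!
# Global sections of E(c+1) as sums of multiples of sections of E(c) under regularity (helper4)
-/

set_option backward.isDefEq.respectTransparency.types false
set_option synthInstance.maxHeartbeats 400000
set_option autoImplicit false
set_option linter.unusedSectionVars false
set_option linter.style.haveILetI false
set_option linter.unusedSimpArgs false
universe u v w
open CategoryTheory CategoryTheory.Limits AlgebraicGeometry TopologicalSpace Opposite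
open Groth.Agent.Helper1
open Groth.Agent.Lib.Helper4.KosA1
open Groth.Agent.Lib.Helper4.KosA3
open Groth.Agent.Lib.Helper4.KosB1
open Groth.Agent.Lib.Helper4.KosB2
open Groth.Agent.Lib.Helper4.KosC1
open Groth.Agent.Lib.Helper4

namespace Groth.Agent.Lib.Helper4.KosC2

section Pn
variable (n : ℕ) (R : Type u) [CommRing R] (E : (CohB1.ProjSpace n R).Modules) [hE : E.IsQuasicoherent]

attribute [local instance] Abelian.hasFiniteBiproducts

/-- vanishing of `H^1` of the cycles in degree `n` -/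
theorem subsingleton_Zn (a : ℤ)
    (h : ∀ (q' : ℕ) (c : ℤ), 1 ≤ q' → q' ≤ n → c = a + n - q' →
      Subsingleton (Coh.HH (CohB1.ProjSpace n R) (CohB1.tensorMod E (Twist.twistProjSpace n R c)) q')) :
    Subsingleton (Coh.HH (CohB1.ProjSpace n R) (Zk (datE n R E a).K (dE n R E a) (n : ℤ)) 1) := by
  have h1 : Subsingleton (Coh.HH (CohB1.ProjSpace n R)
      (Zk (datE n R E a).K (dE n R E a) ((n : ℤ) - 1 + 1)) 1) := by
    apply chase R (datE n R E a).K (dE n R E a) (dE_comp n R E a) (dE_exact n R E a) (n + 1) 1 ((n : ℤ) - 1)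
    · intro p' q' h1 h2 h3
      by_cases hq' : q' ≤ n
      · apply subsingleton_K
        exact h q' (a + p') h2 hq' (by push_cast at h1; linarith)
      · haveI := isQCoh_K n R E a p'
        exact Groth.Agent.S0022.result n R _ q' (by omega)
    · intro p' q' h1 h2
      haveI := isQCoh_Z n R E a p'
      exact Groth.Agent.S0022.result n R _ q' (by omega)
  have e : (n : ℤ) - 1 + 1 = n := by ring
  rw [e] at h1
  exact h1

/-- every global section of `E(a+n+1)` is a sum of multiples of global sections of `E(a+n)` by the variables -/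
theorem exists_sum_mul (a : ℤ)
    (h : ∀ (q' : ℕ) (c : ℤ), 1 ≤ q' → q' ≤ n → c = a + n - q' →
      Subsingleton (Coh.HH (CohB1.ProjSpace n R) (CohB1.tensorMod E (Twist.twistProjSpace n R c)) q'))
    (s : Γ(MtE n R E a ((n : ℤ) + 1), ⊤)) :
    ∃ t : Fin (n + 1) → Γ(MtE n R E a (n : ℤ), ⊤), s = ∑ j, (phitE n R E a j (n : ℤ)).app ⊤ (t j) := by
  let D := datE n R E a
  let K := D.K
  let d := dE n R E a
  have hZ := subsingleton_Zn n R E a h
  have hSE := sesZ_shortExact K d (dE_comp n R E a) (dE_exact n R E a) (n : ℤ)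
  -- the section of the top term
  let u : Γ(K ((n : ℤ) + 1), ⊤) := (D.ι Finset.univ ((n : ℤ) + 1)).app ⊤ s
  -- lift to the cycles
  have hiso : IsIso (kernel.ι (d ((n : ℤ) + 1))) := by
    have h0 : d ((n : ℤ) + 1) = 0 := dE_top_eq_zero n R E a
    rw [h0]
    infer_instance
  let z : Γ(Zk K d ((n : ℤ) + 1), ⊤) := (inv (kernel.ι (d ((n : ℤ) + 1)))).app ⊤ u
  have hz : (kernel.ι (d ((n : ℤ) + 1))).app ⊤ z = u := by
    change ((inv (kernel.ι (d ((n : ℤ) + 1)))) ≫ kernel.ι (d ((n : ℤ) + 1))).app ⊤ u = u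
    rw [IsIso.inv_hom_id]
    rfl
  let x : Coh.HH (CohB1.ProjSpace n R) (Zk K d ((n : ℤ) + 1)) 0 := (HH0.equiv _ _).symm z
  obtain ⟨y, hy⟩ := HHFin2.exact_g_delta R hSE 0 x (Subsingleton.elim (h := hZ) _ _)
  let y' : Γ(K (n : ℤ), ⊤) := HH0.equiv _ _ y
  have h1 : (toZ K d (dE_comp n R E a) (n : ℤ)).app ⊤ y' = z := by
    have := HH0_natural R (toZ K d (dE_comp n R E a) (n : ℤ)) y
    rw [← this]
    have hy' : Canon.HHlin R (toZ K d (dE_comp n R E a) (n : ℤ)) 0 y = x := hy
    rw [hy']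
    exact (HH0.equiv _ _).apply_symm_apply z
  have h2 : (d (n : ℤ)).app ⊤ y' = u := by
    rw [← hz, ← h1, ← toZ_ι K d (dE_comp n R E a) (n : ℤ)]
    rfl
  have h3 : s = (D.π Finset.univ ((n : ℤ) + 1)).app ⊤ u := by
    change s = (D.ι Finset.univ ((n : ℤ) + 1) ≫ D.π Finset.univ ((n : ℤ) + 1)).app ⊤ s
    rw [D.ι_π, if_pos ⟨rfl, by simp⟩]
    rfl
  refine ⟨fun j => sgn (Finset.univ.erase j) j • (D.π (Finset.univ.erase j) (n : ℤ)).app ⊤ y', ?_⟩
  rw [h3, ← h2]
  change (d (n : ℤ) ≫ D.π Finset.univ ((n : ℤ) + 1)).app ⊤ y' = _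
  have h4 := d_π D (phitE n R E a) Finset.univ (n : ℤ)
  have h5 : d (n : ℤ) ≫ D.π Finset.univ ((n : ℤ) + 1) =
      ∑ j, sgn (Finset.univ.erase j) j • (D.π (Finset.univ.erase j) (n : ℤ) ≫ phitE n R E a j (n : ℤ)) := h4
  rw [h5]
  let ev : (K (n : ℤ) ⟶ MtE n R E a ((n : ℤ) + 1)) →+ Γ(MtE n R E a ((n : ℤ) + 1), ⊤) :=
    { toFun := fun f => f.app ⊤ y'
      map_zero' := rfl
      map_add' := fun _ _ => rfl }
  change ev _ = _
  rw [map_sum]
  apply Finset.sum_congr rfl
  intro j _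
  rw [map_zsmul ev, map_zsmul]
  rfl

end Pn

end Groth.Agent.Lib.Helper4.KosC2
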