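import Mathlib
import Groth.Agent.Lib.Helper4.KosC2
import Groth.Agent.Lib.Helper1.TwForm5
import Groth.Agent.Lib.Helper1.TwForm4
import Groth.Prelude.Def_Curv2

/-!
# Associativity of twisting with invertible modules; surjectivity of the multiplication map for regular sheaves (helper4)
-/

set_option backward.isDefEq.respectTransparency.types false
set_option synthInstance.maxHeartbeats 400000
set_option autoImplicit false
set_option linter.unusedSectionVars false
set_option linter.style.haveILetI false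
set_option linter.unusedSimpArgs false
universe u v w
open CategoryTheory CategoryTheory.Limits AlgebraicGeometry TopologicalSpace Opposite
open Groth.Agent.Helper1
open Groth.Agent.Helper1.QcCech Groth.Agent.Helper1.LGen Groth.Agent.Helper1.TensGen Groth.Agent.Helper1.TmulLib
open Groth.Agent.Helper1.TwForm
open Groth.Agent.Lib.Helper4.KosA1
open Groth.Agent.Lib.Helper4.KosA3
open Groth.Agent.Lib.Helper4.KosB1
open Groth.Agent.Lib.Helper4.KosB2
open Groth.Agent.Lib.Helper4.KosC1
open Groth.Agent.Lib.Helper4.PnS1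
open Groth.Agent.Lib.Helper4.DuA1
open Groth.Agent.Lib.Helper4

namespace Groth.Agent.Lib.Helper4.KosC3

section General
variable {X : Scheme.{u}} {N N' N'' : X.Modules}

/-- associativity: `(F ⊗ N) ⊗ N' ≅ F ⊗ N''` when `N ⊗ N' ≅ N''`, for invertible `N`, `N'` -/
noncomputable def assocIso (hN : PicF.IsInvertible N) (hN' : PicF.IsInvertible N')
    (e : CohB1.tensorMod N N' ≅ N'') (F : X.Modules) :
    CohB1.tensorMod (CohB1.tensorMod F N) N' ≅ CohB1.tensorMod F N'' :=
  Tw.iso
    ((((Tw.self N N' F).tensorR (Tw.fst N N')).tensorR (Tw.snd N N')).cast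
      (show (0 : ℤ) + 1 + 0 = 1 by norm_num) (show (0 : ℤ) + 0 + 1 = 1 by norm_num))
    (((Tw.self N N' F).tensorR (((Tw.fst N N').tensorR (Tw.snd N N')).ofIso e)).cast
      (show (0 : ℤ) + (1 + 0) = 1 by norm_num) (show (0 : ℤ) + (0 + 1) = 1 by norm_num))
    (locFrame_of_isInvertible hN hN')

end General

section Pn
variable (n : ℕ) (R : Type u) [CommRing R]

/-- twisting twice is twisting by the sum -/
theorem nonempty_twist_twist_iso (F : (CohB1.ProjSpace n R).Modules) (a b : ℤ) :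
    Nonempty (CohB1.tensorMod (CohB1.tensorMod F (Twist.twistProjSpace n R a)) (Twist.twistProjSpace n R b) ≅
      CohB1.tensorMod F (Twist.twistProjSpace n R (a + b))) := by
  have hp := TwistTens.twist_package (CohB1.polyGrading n R) (SerreFin.hcov1 n R)
  obtain ⟨e⟩ := hp.2.1 a b
  exact ⟨assocIso (hp.1 a) (hp.1 b) e F⟩

variable (E : (CohB1.ProjSpace n R).Modules) [hE : E.IsQuasicoherent]

/-- every global section of `E(c+1)` is a sum of multiples of global sections of `E(c)` by the variables,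
if `H^q(E(c-q)) = 0` for `1 ≤ q ≤ n` -/
theorem exists_sum_mul' (c c' : ℤ) (hc : c' = ((1 : ℕ) : ℤ) + c)
    (h : ∀ q' : ℕ, 1 ≤ q' → q' ≤ n →
      Subsingleton (Coh.HH (CohB1.ProjSpace n R) (CohB1.tensorMod E (Twist.twistProjSpace n R (c - q'))) q'))
    (s : Γ(CohB1.tensorMod E (Twist.twistProjSpace n R c'), ⊤)) :
    ∃ t : Fin (n + 1) → Γ(CohB1.tensorMod E (Twist.twistProjSpace n R c), ⊤),
      s = ∑ j, (KoszTw.tensorMap (𝟙 E) (mulBy (xv n R j) c c' hc)).app ⊤ (t j) := by
  obtain ⟨a, rfl⟩ : ∃ a : ℤ, c = a + n := ⟨c - n, by ring⟩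
  have hc' : c' = a + ((n : ℤ) + 1) := by rw [hc]; push_cast; ring
  subst hc'
  exact KosC2.exists_sum_mul n R E a (fun q' c hq hq' hcc => by
    have := h q' hq hq'
    exact subsingleton_twist_congr n R E hcc.symm q' this) s

end Pn

section S11739
variable (n : ℕ) (k : Type u) [Field k]

/-- the unit section of `O(0)` -/
noncomputable def one0 : Γ(Twist.twistProjSpace n k 0, ⊤) :=
  TwistTriv.fracSec (Gr n k) (SetLike.GradedOne.one_mem : (1 : MvPolynomial (Fin (n + 1)) k) ∈ Gr n k 0)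
    (SetLike.GradedOne.one_mem : (1 : MvPolynomial (Fin (n + 1)) k) ∈ Gr n k 0)
    (show ((0 : ℕ) : ℤ) = ((0 : ℕ) : ℤ) + 0 by norm_num) ⊤
    (fun x => TwistTens.one_not_mem (Gr n k) x.1)

theorem isGen_one0 : IsGen (Twist.twistProjSpace n k 0) ⊤ (one0 n k) := by
  intro V hV
  exact TwistTriv.fracSec_bijective (Gr n k) SetLike.GradedOne.one_mem SetLike.GradedOne.one_mem
    (show ((0 : ℕ) : ℤ) = ((0 : ℕ) : ℤ) + 0 by norm_num) V
    (fun x => TwistTens.one_not_mem (Gr n k) x.1) (fun x => TwistTens.one_not_mem (Gr n k) x.1)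

theorem toT_sum {X : Scheme.{u}} (M N : X.Modules) (U : X.Opens) {ι : Type*} (s : Finset ι)
    (p : ι → (CohB1.tensorPre M N).obj (op U)) :
    toT M N U (∑ j ∈ s, p j) = ∑ j ∈ s, toT M N U (p j) :=
  map_sum ((SecTwist.toTensor M N).app (op U)).hom _ _

theorem s11739 (F : (CohB1.ProjSpace n k).Modules) (hF : Coh.IsCoh F) (m : ℤ)
    (h : Curv2.IsMRegular k n F m) :
    Function.Surjective
      ((toSheafify (Opens.grothendieckTopology (CohB1.ProjSpace n k))
        (CohB1.tensorPre (CohB1.tensorMod F (Twist.twistProjSpace n k m))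
          (Twist.twistProjSpace n k 1)).presheaf).app (Opposite.op ⊤)) := by
  let G := CohB1.tensorMod F (Twist.twistProjSpace n k m)
  let L := Twist.twistProjSpace n k 1
  haveI : G.IsQuasicoherent := (SerreVan.isCoh_Tw n k m F hF).1
  have hreg : ∀ q' : ℕ, 1 ≤ q' → q' ≤ n →
      Subsingleton (Coh.HH (CohB1.ProjSpace n k)
        (CohB1.tensorMod G (Twist.twistProjSpace n k (0 - q'))) q') := by
    intro q' hq hq'
    obtain ⟨e⟩ := nonempty_twist_twist_iso n k F m (0 - q')
    have h1 := h q' hq hq'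
    have h2 := subsingleton_twist_congr n k F (show m - (q' : ℤ) = m + (0 - q') by ring) q' h1
    exact SerreVan.subsingleton_of_iso k (X := CohB1.ProjSpace n k) e.symm q' h2
  intro u
  have hc : (1 : ℤ) = ((1 : ℕ) : ℤ) + 0 := by norm_num
  obtain ⟨t, ht⟩ := exists_sum_mul' n k G 0 1 hc hreg u
  have hg : ∀ j, ∃ g : Γ(G, ⊤), tm G (Twist.twistProjSpace n k 0) ⊤ g (one0 n k) = t j :=
    fun j => (bijective_tm_of_isGen G (isGen_one0 n k)).2 (t j)
  choose g hg using hg
  let Xj : Fin (n + 1) → Γ(L, ⊤) := fun j => (mulBy (xv n k j) 0 1 hc).app ⊤ (one0 n k)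
  refine ⟨∑ j, pure G L ⊤ (g j) (Xj j), ?_⟩
  change toT G L ⊤ (∑ j, pure G L ⊤ (g j) (Xj j)) = u
  rw [toT_sum, ht]
  apply Finset.sum_congr rfl
  intro j _
  rw [toT_pure, ← hg j, tensorMap_tm]
  rfl

end S11739

end Groth.Agent.Lib.Helper4.KosC3
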