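import Mathlib
import Groth.Agent.Lib.Helper4.KosC3
import Groth.Agent.Lib.Helper1.AmpleLib3
import Groth.Agent.Lib.Helper1.VA5

/-!
# Regular sheaves on projective space are globally generated after twisting (helper4)
-/

set_option backward.isDefEq.respectTransparency.types false
set_option synthInstance.maxHeartbeats 400000
set_option autoImplicit false
set_option linter.unusedSectionVars false
set_option linter.style.haveILetI false
set_option linter.unusedSimpArgs false
universe u v w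
open CategoryTheory CategoryTheory.Limits AlgebraicGeometry TopologicalSpace Opposite
open Groth.Agent.Helper1
open Groth.Agent.Helper1.QcCech Groth.Agent.Helper1.LGen Groth.Agent.Helper1.TensGen Groth.Agent.Helper1.TmulLib
open Groth.Agent.Helper1.AmpleLib
open Groth.Agent.Lib.Helper4.KosB1
open Groth.Agent.Lib.Helper4.KosB2
open Groth.Agent.Lib.Helper4.KosC1
open Groth.Agent.Lib.Helper4.KosC3
open Groth.Agent.Lib.Helper4.PnS1
open Groth.Agent.Lib.Helper4.PnC6
open Groth.Agent.Lib.Helper4.DuA1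
open Groth.Agent.Lib.Helper4

namespace Groth.Agent.Lib.Helper4.KosC4

section Pn
variable (n : ℕ) (R : Type u) [CommRing R]

theorem mulBy_xv_bijective (d d' : ℤ) (hd : d' = ((1 : ℕ) : ℤ) + d) (j : Fin (n + 1))
    (W : (CohB1.ProjSpace n R).Opens) (hW : W ≤ US n R ⟨j⟩) :
    Function.Bijective ((mulBy (xv n R j) d d' hd).app W) := by
  have hm : ((1 : ℕ) : ℤ) = ((0 : ℕ) : ℤ) + 1 := by norm_num
  have hbV : ∀ x : W, (1 : MvPolynomial (Fin (n + 1)) R) ∉ x.1.asHomogeneousIdeal :=
    fun x => TwistTens.one_not_mem (Gr n R) x.1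
  have haV : ∀ x : W, (xv n R j).1 ∉ x.1.asHomogeneousIdeal := fun x => hW x.2
  have hk : d' = (1 : ℤ) + d := by rw [hd]; norm_num
  have hb := TwistTens.mulSec_fracSec_bijective (Gr n R) (xv n R j).2
    (SetLike.GradedOne.one_mem : (1 : MvPolynomial (Fin (n + 1)) R) ∈ Gr n R 0) hm hk W hbV haV
  exact hb

variable (F : (CohB1.ProjSpace n R).Modules)

/-- multiplication by `x_l` on `F(d)` -/
noncomputable def mu (d d' : ℤ) (hd : d' = ((1 : ℕ) : ℤ) + d) (l : Fin (n + 1)) :
    CohB1.tensorMod F (Twist.twistProjSpace n R d) ⟶ CohB1.tensorMod F (Twist.twistProjSpace n R d') :=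
  KoszTw.tensorMap (𝟙 F) (mulBy (xv n R l) d d' hd)

theorem mu_bijective (d d' : ℤ) (hd : d' = ((1 : ℕ) : ℤ) + d) (j : Fin (n + 1))
    (W : (CohB1.ProjSpace n R).Opens) (hW : W ≤ US n R ⟨j⟩) :
    Function.Bijective ((mu n R F d d' hd j).app W) := by
  obtain ⟨σ, hσ⟩ := exists_isGen_twist n R d j W hW
  exact bijective_tensorMap_app F (mulBy (xv n R j) d d' hd) hσ
    (isGen_map_of_bijective (mulBy (xv n R j) d d' hd) hσ
      (fun V hV => mulBy_xv_bijective n R d d' hd j V (hV.trans hW)))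

theorem mu_eq_smul (d d' : ℤ) (hd : d' = ((1 : ℕ) : ℤ) + d) (j l : Fin (n + 1))
    (W : (CohB1.ProjSpace n R).Opens) (hW : W ≤ US n R ⟨j⟩) :
    ∃ c : Γ(CohB1.ProjSpace n R, W), ∀ z : Γ(CohB1.tensorMod F (Twist.twistProjSpace n R d), W),
      (mu n R F d d' hd l).app W z = c • (mu n R F d d' hd j).app W z := by
  obtain ⟨σ, hσ⟩ := exists_isGen_twist n R d j W hW
  have hgen : IsGen (Twist.twistProjSpace n R d') W ((mulBy (xv n R j) d d' hd).app W σ) :=
    isGen_map_of_bijective (mulBy (xv n R j) d d' hd) hσ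
      (fun V hV => mulBy_xv_bijective n R d d' hd j V (hV.trans hW))
  obtain ⟨c, hc⟩ := hgen.exists_coeff ((mulBy (xv n R l) d d' hd).app W σ)
  refine ⟨c, fun z => ?_⟩
  obtain ⟨f, rfl⟩ := (bijective_tm_of_isGen F hσ).2 z
  change (mu n R F d d' hd l).app W (tm F _ W f σ) = c • (mu n R F d d' hd j).app W (tm F _ W f σ)
  unfold mu
  rw [tensorMap_tm, tensorMap_tm, ← hc, tm_smul_right]

theorem gg_descent (d d' : ℤ) (hd : d' = ((1 : ℕ) : ℤ) + d)
    (hgg : Curv2.IsGloballyGenerated (CohB1.tensorMod F (Twist.twistProjSpace n R d')))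
    (hA : ∀ s : Γ(CohB1.tensorMod F (Twist.twistProjSpace n R d'), ⊤),
      ∃ t : Fin (n + 1) → Γ(CohB1.tensorMod F (Twist.twistProjSpace n R d), ⊤),
        s = ∑ j, (mu n R F d d' hd j).app ⊤ (t j)) :
    Curv2.IsGloballyGenerated (CohB1.tensorMod F (Twist.twistProjSpace n R d)) := by
  let G := CohB1.tensorMod F (Twist.twistProjSpace n R d)
  let G' := CohB1.tensorMod F (Twist.twistProjSpace n R d')
  rw [GlobGen.isGloballyGenerated_iff] at hgg
  haveI : Epi (GlobGen.ofSections (fun t : Γ(G', ⊤) => t)) := hgg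
  apply isGloballyGenerated_of_spannedOn
  intro x
  obtain ⟨j, hj⟩ := ProjSpaceLib.exists_X_notMem n R x
  refine ⟨US n R ⟨j⟩, hj, ?_⟩
  intro O hO t y hy
  have hmem := GlobGen.mem_loc_of_epi (fun t : Γ(G', ⊤) => t) ((mu n R F d d' hd j).app O t)
  obtain ⟨W, hWO, hyW, hspan⟩ := hmem y hy
  refine ⟨W, hWO, hyW, ?_⟩
  have hWj : W ≤ US n R ⟨j⟩ := hWO.trans hO
  -- the span of global sections of `G` over `W`
  let S : Submodule Γ(CohB1.ProjSpace n R, W) Γ(G, W) :=
    Submodule.span Γ(CohB1.ProjSpace n R, W) (Set.range fun h : Γ(G, ⊤) => res G (le_top : W ≤ ⊤) h)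
  -- every restricted global section of `G'` is `mu_j` of an element of `S`
  have key : ∀ z' ∈ Submodule.span Γ(CohB1.ProjSpace n R, W)
      (Set.range fun i : Γ(G', ⊤) => res G' (le_top : W ≤ ⊤) i),
      ∃ z ∈ S, (mu n R F d d' hd j).app W z = z' := by
    intro z' hz'
    induction hz' using Submodule.span_induction with
    | mem z' hz' =>
      obtain ⟨s, rfl⟩ := hz'
      obtain ⟨τ, hτ⟩ := hA s
      choose c hc using fun l => mu_eq_smul n R F d d' hd j l W hWj
      refine ⟨∑ l, c l • res G (le_top : W ≤ ⊤) (τ l), ?_, ?_⟩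
      · exact Submodule.sum_mem _ (fun l _ => Submodule.smul_mem _ _ (Submodule.subset_span ⟨τ l, rfl⟩))
      · change _ = res G' (le_top : W ≤ ⊤) s
        rw [hτ, map_sum, map_sum]
        apply Finset.sum_congr rfl
        intro l _
        rw [Scheme.Modules.Hom.app_smul, ← hc l, ModGlue.app_res]
    | zero => exact ⟨0, Submodule.zero_mem _, map_zero _⟩
    | add a b _ _ ha hb =>
      obtain ⟨za, hza, rfl⟩ := ha
      obtain ⟨zb, hzb, rfl⟩ := hb
      exact ⟨za + zb, Submodule.add_mem _ hza hzb, map_add _ _ _⟩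
    | smul r a _ ha =>
      obtain ⟨za, hza, rfl⟩ := ha
      exact ⟨r • za, Submodule.smul_mem _ _ hza, Scheme.Modules.Hom.app_smul _ _ _⟩
  obtain ⟨z, hz, hzz⟩ := key _ hspan
  have h1 : (mu n R F d d' hd j).app W (res G hWO t) = (mu n R F d d' hd j).app W z := by
    rw [hzz, ModGlue.app_res]
  have h2 := (mu_bijective n R F d d' hd j W hWj).1 h1
  change res G hWO t ∈ S
  rw [h2]
  exact hz

end Pn

section S1647
variable (n : ℕ) (k : Type u) [Field k] (F : (CohB1.ProjSpace n k).Modules)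

theorem isMRegular_add (hF : Coh.IsCoh F) (m : ℤ) (h : Curv2.IsMRegular k n F m) (r : ℕ) :
    Curv2.IsMRegular k n F (m + r) := by
  induction r with
  | zero => simpa using h
  | succ r ih =>
    have := s1642 n k F hF (m + r) ih
    have e : m + ((r + 1 : ℕ) : ℤ) = m + r + 1 := by push_cast; ring
    rw [e]
    exact this

theorem isMRegular_of_le (hF : Coh.IsCoh F) (m : ℤ) (h : Curv2.IsMRegular k n F m) (d : ℤ) (hd : m ≤ d) :
    Curv2.IsMRegular k n F d := by
  obtain ⟨r, rfl⟩ : ∃ r : ℕ, d = m + r := ⟨(d - m).toNat, by omega⟩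
  exact isMRegular_add n k F hF m h r

theorem gg_congr {c c' : ℤ} (h : c = c')
    (hg : Curv2.IsGloballyGenerated (CohB1.tensorMod F (Twist.twistProjSpace n k c))) :
    Curv2.IsGloballyGenerated (CohB1.tensorMod F (Twist.twistProjSpace n k c')) := by
  subst h; exact hg

theorem exists_gg (hF : Coh.IsCoh F) :
    ∃ n₀ : ℕ, ∀ N : ℕ, n₀ ≤ N →
      Curv2.IsGloballyGenerated (CohB1.tensorMod F (Twist.twistProjSpace n k (N : ℤ))) := by
  obtain ⟨n₀, h⟩ := eventually_globallyGenerated (VA5.isAmple_twistProjSpace n k) F hF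
  refine ⟨n₀, fun N hN => ?_⟩
  have hp := TwistTens.twist_package (CohB1.polyGrading n k) (SerreFin.hcov1 n k)
  obtain ⟨e⟩ := hp.2.2 N
  exact isGloballyGenerated_of_iso (TwistTens.tensorModCongrRight F e).symm (h N hN)

theorem gg_step (hF : Coh.IsCoh F) (m : ℤ) (h : Curv2.IsMRegular k n F m) (d : ℤ) (hd : m ≤ d)
    (hg : Curv2.IsGloballyGenerated (CohB1.tensorMod F (Twist.twistProjSpace n k (d + 1)))) :
    Curv2.IsGloballyGenerated (CohB1.tensorMod F (Twist.twistProjSpace n k d)) := by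
  haveI : F.IsQuasicoherent := hF.1
  have hc : d + 1 = ((1 : ℕ) : ℤ) + d := by push_cast; ring
  apply gg_descent n k F d (d + 1) hc hg
  intro s
  have hreg := isMRegular_of_le n k F hF m h d hd
  exact exists_sum_mul' n k F d (d + 1) hc (fun q' hq hq' => hreg q' hq hq') s

theorem gg_down (hF : Coh.IsCoh F) (m : ℤ) (h : Curv2.IsMRegular k n F m) (r : ℕ) :
    ∀ d : ℤ, m ≤ d →
      Curv2.IsGloballyGenerated (CohB1.tensorMod F (Twist.twistProjSpace n k (d + r))) →
      Curv2.IsGloballyGenerated (CohB1.tensorMod F (Twist.twistProjSpace n k d)) := by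
  induction r with
  | zero =>
    intro d _ hg
    exact gg_congr n k F (by simp) hg
  | succ r ih =>
    intro d hd hg
    apply gg_step n k F hF m h d hd
    apply ih (d + 1) (by omega)
    exact gg_congr n k F (by push_cast; ring) hg

theorem s1647 (hF : Coh.IsCoh F) (m : ℤ) (h : Curv2.IsMRegular k n F m) :
    Curv2.IsGloballyGenerated (CohB1.tensorMod F (Twist.twistProjSpace n k m)) := by
  obtain ⟨n₀, hn₀⟩ := exists_gg n k F hF
  -- choose `N ≥ n₀` with `N ≥ m`
  let r : ℕ := n₀ + (-m).toNat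
  obtain ⟨N, hN⟩ : ∃ N : ℕ, (N : ℤ) = m + (n₀ + (-m).toNat + m.toNat : ℕ) ∧ n₀ ≤ N := by
    refine ⟨(m + (n₀ + (-m).toNat + m.toNat : ℕ)).toNat, ?_, ?_⟩
    · have : 0 ≤ m + ((n₀ + (-m).toNat + m.toNat : ℕ) : ℤ) := by push_cast; omega
      exact Int.toNat_of_nonneg this
    · omega
  apply gg_down n k F hF m h (n₀ + (-m).toNat + m.toNat) m le_rfl
  exact gg_congr n k F hN.1 (hn₀ N hN.2)

end S1647

end Groth.Agent.Lib.Helper4.KosC4
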