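import Mathlib
import Groth.Agent.Lib.Helper4.KosC4
import Groth.Agent.Lib.Helper4.DuF5
import Groth.Agent.Lib.Helper4.DuF3
import Groth.Agent.Lib.Helper1.QcAbel
import Groth.Agent.S0022
import Groth.Agent.S0844

/-!
# m-regularity via one-step linear resolutions on projective space (helper4)
-/

set_option backward.isDefEq.respectTransparency.types false
set_option synthInstance.maxHeartbeats 400000
set_option autoImplicit false
set_option linter.unusedSectionVars false
set_option linter.style.haveILetI false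
set_option linter.unusedSimpArgs false
universe u v w
open CategoryTheory CategoryTheory.Limits AlgebraicGeometry TopologicalSpace Opposite
open Groth.Agent.Helper1
open Groth.Agent.Lib.Helper4.KosC1
open Groth.Agent.Lib.Helper4.KosC3
open Groth.Agent.Lib.Helper4.KosC4
open Groth.Agent.Lib.Helper4.SerreVan
open Groth.Agent.Lib.Helper4

namespace Groth.Agent.Lib.Helper4.RegRes1

section General
variable (k : Type u) [Field k] {X : Scheme.{u}} [X.Over (Spec (CommRingCat.of k))]
include k

theorem subsingleton_X₁ {S : ShortComplex X.Modules} (hS : S.ShortExact) (i : ℕ)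
    (h3 : Subsingleton (Coh.HH X S.X₃ i)) (h2 : Subsingleton (Coh.HH X S.X₂ (i + 1))) :
    Subsingleton (Coh.HH X S.X₁ (i + 1)) := by
  refine subsingleton_of_forall_eq 0 fun y => ?_
  obtain ⟨x, hx⟩ := DuF5.exact_delta_f k hS i y (Subsingleton.elim (h := h2) _ _)
  rw [← hx, Subsingleton.elim (h := h3) x 0, map_zero]

theorem subsingleton_X₁_of_surj {S : ShortComplex X.Modules} (hS : S.ShortExact)
    (hg : Function.Surjective (Canon.HHlin k S.g 0)) (h2 : Subsingleton (Coh.HH X S.X₂ 1)) :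
    Subsingleton (Coh.HH X S.X₁ 1) := by
  refine subsingleton_of_forall_eq 0 fun y => ?_
  obtain ⟨x, hx⟩ := DuF5.exact_delta_f k hS 0 y (Subsingleton.elim (h := h2) _ _)
  obtain ⟨w, rfl⟩ := hg x
  rw [← hx, HHFin2.delta_g]

end General

section Pn
variable (n : ℕ) (R : Type u) [CommRing R]

theorem subsingleton_Tw_twist' (a c : ℤ) (i : ℕ) (h₀ : ¬ (i = 0 ∧ 0 ≤ a + c))
    (hn : ¬ (i = n ∧ a + c ≤ -((n : ℤ) + 1))) :
    Subsingleton (Coh.HH (CohB1.ProjSpace n R) ((Tw n R c).obj (Twist.twistProjSpace n R a)) i) := by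
  obtain ⟨e⟩ := (TwistTens.twist_package (CohB1.polyGrading n R) (SerreFin.hcov1 n R)).2.1 a c
  have h := Groth.Agent.S0844.result R n (a + c) i h₀ hn
  exact subsingleton_of_iso R (X := CohB1.ProjSpace n R) e.symm i h

/-- vanishing of cohomology of twists of sums of line bundles -/
theorem subsingleton_Tw_sigma (b : ℕ) (a c : ℤ) (i : ℕ) (h₀ : ¬ (i = 0 ∧ 0 ≤ a + c))
    (hn : ¬ (i = n ∧ a + c ≤ -((n : ℤ) + 1))) :
    Subsingleton (Coh.HH (CohB1.ProjSpace n R)
      ((Tw n R c).obj (∐ fun _ : Fin b => Twist.twistProjSpace n R a)) i) :=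
  subsingleton_sigma R (Tw n R c) (fun _ : Fin b => Twist.twistProjSpace n R a) i
    (fun _ => subsingleton_Tw_twist' n R a c i h₀ hn)

end Pn

section Field
variable (n : ℕ) (k : Type u) [Field k]

theorem isQCoh_sigma_twist (b : ℕ) (a : ℤ) :
    (∐ fun _ : Fin b => Twist.twistProjSpace n k a).IsQuasicoherent := by
  haveI : ∀ i : Fin b, ((fun _ : Fin b => Twist.twistProjSpace n k a) i).IsQuasicoherent :=
    fun i => (SerreFin.isCoh_twist n k a).1
  exact FinSigma.isQuasicoherent_sigma _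

theorem isQCoh_Tw (c : ℤ) (M : (CohB1.ProjSpace n k).Modules) [M.IsQuasicoherent] :
    ((Tw n k c).obj M).IsQuasicoherent := by
  haveI : (Twist.twistProjSpace n k c).IsQuasicoherent := (SerreFin.isCoh_twist n k c).1
  exact Groth.Agent.Lead.TilT.isQuasicoherent_tensorMod M (Twist.twistProjSpace n k c)

/-- the easy direction -/
theorem reg_of_kernel (F : (CohB1.ProjSpace n k).Modules) (hF : Coh.IsCoh F) (m : ℤ) (b : ℕ)
    (φ : (∐ fun _ : Fin b => Twist.twistProjSpace n k (-m)) ⟶ F) [Epi φ]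
    (hK : Curv2.IsMRegular k n (kernel φ) (m + 1)) : Curv2.IsMRegular k n F m := by
  intro i hi hin
  haveI : F.IsQuasicoherent := hF.1
  haveI := isQCoh_sigma_twist n k b (-m)
  haveI : (kernel φ).IsQuasicoherent := QcAbel.isQuasicoherent_kernel φ
  have hSE := SerreFin.kerSeq_shortExact φ
  have hT := TwExact.shortExact_map (SerreVan.locGen_twist n k (m - i)) hSE
  have h2 : Subsingleton (Coh.HH (CohB1.ProjSpace n k)
      ((Tw n k (m - i)).obj (∐ fun _ : Fin b => Twist.twistProjSpace n k (-m))) i) :=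
    subsingleton_Tw_sigma n k b (-m) (m - i) i (by omega) (by omega)
  have h1 : Subsingleton (Coh.HH (CohB1.ProjSpace n k) ((Tw n k (m - i)).obj (kernel φ)) (i + 1)) := by
    by_cases hlt : i + 1 ≤ n
    · have := hK (i + 1) (by omega) hlt
      exact subsingleton_twist_congr n k (kernel φ) (by push_cast; ring) (i + 1) this
    · haveI := isQCoh_Tw n k (m - i) (kernel φ)
      exact Groth.Agent.S0022.result n k _ (i + 1) (by omega)
  exact subsingleton_X₃ k hT i h2 h1

end Field


section Gen2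
variable {X : Scheme.{u}}

/-- the morphism `O_X ⟶ M` given by a global section -/
noncomputable def ofSec (M : X.Modules) (s : Γ(M, ⊤)) : Coh.structureModule X ⟶ M :=
  (SheafOfModules.unitHomEquiv M).symm (GlobGen.secOfTop M s)

theorem ofSec_app_one (M : X.Modules) (s : Γ(M, ⊤)) :
    (ofSec M s).app ⊤ (1 : X.ringCatSheaf.obj.obj (op ⊤)) = s := by
  have h1 : (SheafOfModules.unitHomEquiv M (ofSec M s)).1 (op ⊤) = s := by
    unfold ofSec
    rw [Equiv.apply_symm_apply, GlobGen.secOfTop_eval_top]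
  exact h1

theorem gen_comp_eq_zero {M N : X.Modules} (h : M ⟶ N) (hh : ∀ t : Γ(M, ⊤), h.app ⊤ t = 0) :
    GlobGen.gen M ≫ h = 0 := by
  apply N.freeHomEquiv.injective
  ext1 t
  rw [SheafOfModules.freeHomEquiv_comp_apply, GlobGen.gen, Equiv.apply_symm_apply]
  apply GlobGen.sections_ext_top
  rw [GlobGen.sectionsMap_eval, GlobGen.secOfTop_eval_top, hh]
  rfl

theorem epi_of_surj_top {M N : X.Modules} (hN : Curv2.IsGloballyGenerated N) (f : M ⟶ N)
    (hf : Function.Surjective (f.app ⊤)) : Epi f := by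
  rw [GlobGen.isGloballyGenerated_iff] at hN
  apply Preadditive.epi_of_cancel_zero
  intro N' g' hg
  let N₁ : X.Modules := N'
  let g : N ⟶ N₁ := g'
  have h0 : GlobGen.gen N ≫ g = 0 := by
    apply gen_comp_eq_zero
    intro t
    obtain ⟨w, rfl⟩ := hf t
    change (f ≫ g).app ⊤ w = 0
    rw [show f ≫ g = 0 from hg]
    rfl
  exact (cancel_epi (GlobGen.gen N)).1 (h0.trans comp_zero.symm)

end Gen2


section Gen3
variable (k : Type u) [Field k] {X : Scheme.{u}} [X.Over (Spec (CommRingCat.of k))]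

/-- every class in `H^0(M)` is the image of the unit class under the map given by its section -/
theorem exists_unit_class : ∃ w : Coh.HH X (Coh.structureModule X) 0,
    ∀ (M : X.Modules) (x : Coh.HH X M 0), Canon.HHlin k (ofSec M (HH0.equiv X M x)) 0 w = x := by
  refine ⟨(HH0.equiv X (Coh.structureModule X)).symm (1 : X.ringCatSheaf.obj.obj (op ⊤)), fun M x => ?_⟩
  apply (HH0.equiv X M).injective
  rw [HH0_natural, AddEquiv.apply_symm_apply, ofSec_app_one]

end Gen3

section Main
variable (n : ℕ) (k : Type u) [Field k]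

/-- `O(-m) ⊗ O(m) ≅ O_X` -/
theorem nonempty_Tw_neg_iso (m : ℤ) :
    Nonempty ((Tw n k m).obj (Twist.twistProjSpace n k (-m)) ≅ Coh.structureModule (CohB1.ProjSpace n k)) := by
  obtain ⟨e⟩ := (TwistTens.twist_package (CohB1.polyGrading n k) (SerreFin.hcov1 n k)).2.1 (-m) m
  obtain ⟨e0⟩ := TwistTens.nonempty_twist_zero_iso (CohB1.polyGrading n k)
  have h : (-m + m) = 0 := by ring
  exact ⟨e ≪≫ eqToIso (by rw [h]) ≪≫ e0⟩

theorem exists_epi_of_reg (F : (CohB1.ProjSpace n k).Modules) (hF : Coh.IsCoh F) (m : ℤ)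
    (h : Curv2.IsMRegular k n F m) :
    ∃ (b : ℕ) (φ : (∐ fun _ : Fin b => Twist.twistProjSpace n k (-m)) ⟶ F),
      Epi φ ∧ Curv2.IsMRegular k n (kernel φ) (m + 1) := by
  have hp := TwistTens.twist_package (CohB1.polyGrading n k) (SerreFin.hcov1 n k)
  haveI : (Tw n k m).IsEquivalence := DuF3.isEquivalence_TL_of_isInvertible (hp.1 m)
  let T := Tw n k m
  let G := T.obj F
  have hG : Coh.IsCoh G := isCoh_Tw n k m F hF
  have hgg : Curv2.IsGloballyGenerated G := s1647 n k F hF m h
  haveI hfin : Module.Finite k (Coh.HH (CohB1.ProjSpace n k) G 0) := SerreFin.s0038 n k G hG 0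
  obtain ⟨b, x, hx⟩ := Module.Finite.exists_fin (R := k) (M := Coh.HH (CohB1.ProjSpace n k) G 0)
  obtain ⟨e₀⟩ := nonempty_Tw_neg_iso n k m
  obtain ⟨w, hw⟩ := exists_unit_class k (X := CohB1.ProjSpace n k)
  let σ : Fin b → (Coh.structureModule (CohB1.ProjSpace n k) ⟶ G) :=
    fun j => ofSec G (HH0.equiv _ G (x j))
  let φj : Fin b → (Twist.twistProjSpace n k (-m) ⟶ F) := fun j => T.preimage (e₀.hom ≫ σ j)
  have hφj : ∀ j, T.map (φj j) = e₀.hom ≫ σ j := fun j => T.map_preimage _
  let φ : (∐ fun _ : Fin b => Twist.twistProjSpace n k (-m)) ⟶ F := Sigma.desc φj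
  -- surjectivity on `H^0`
  have hsurj : Function.Surjective (Canon.HHlin k (T.map φ) 0) := by
    rw [← LinearMap.range_eq_top, eq_top_iff, ← hx, Submodule.span_le]
    rintro _ ⟨j, rfl⟩
    refine ⟨Canon.HHlin k (T.map (Sigma.ι (fun _ : Fin b => Twist.twistProjSpace n k (-m)) j)) 0
      (Canon.HHlin k e₀.inv 0 w), ?_⟩
    rw [← HHFin1.HHlin_comp, ← HHFin1.HHlin_comp, ← T.map_comp, Sigma.ι_desc, hφj, e₀.inv_hom_id_assoc]
    exact hw G (x j)
  have hsurj' : Function.Surjective ((T.map φ).app ⊤) := by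
    intro t
    obtain ⟨y, hy⟩ := hsurj ((HH0.equiv _ G).symm t)
    refine ⟨HH0.equiv _ _ y, ?_⟩
    rw [← HH0_natural k, hy, AddEquiv.apply_symm_apply]
  haveI hepiT : Epi (T.map φ) := epi_of_surj_top hgg _ hsurj'
  haveI hepi : Epi φ := T.epi_of_epi_map hepiT
  refine ⟨b, φ, hepi, ?_⟩
  have hSE := SerreFin.kerSeq_shortExact φ
  intro i hi hin
  obtain ⟨i', rfl⟩ : ∃ i', i = i' + 1 := ⟨i - 1, by omega⟩
  rcases Nat.eq_zero_or_pos i' with h0 | hpos
  · subst h0
    have hT := TwExact.shortExact_map (SerreVan.locGen_twist n k m) hSE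
    have h2 : Subsingleton (Coh.HH (CohB1.ProjSpace n k)
        ((Tw n k m).obj (∐ fun _ : Fin b => Twist.twistProjSpace n k (-m))) 1) :=
      subsingleton_Tw_sigma n k b (-m) m 1 (by omega) (by omega)
    have := subsingleton_X₁_of_surj k hT hsurj h2
    exact subsingleton_twist_congr n k (kernel φ) (by push_cast; ring) 1 this
  · have hT := TwExact.shortExact_map (SerreVan.locGen_twist n k (m + 1 - ((i' + 1 : ℕ) : ℤ))) hSE
    have h2 : Subsingleton (Coh.HH (CohB1.ProjSpace n k)
        ((Tw n k (m + 1 - ((i' + 1 : ℕ) : ℤ))).obj (∐ fun _ : Fin b => Twist.twistProjSpace n k (-m)))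
          (i' + 1)) :=
      subsingleton_Tw_sigma n k b (-m) _ (i' + 1) (by omega) (by push_cast; omega)
    have h3 : Subsingleton (Coh.HH (CohB1.ProjSpace n k)
        ((Tw n k (m + 1 - ((i' + 1 : ℕ) : ℤ))).obj F) i') := by
      have := h i' hpos (by omega)
      exact subsingleton_twist_congr n k F (by push_cast; ring) i' this
    exact subsingleton_X₁ k hT i' h3 h2

end Main

end Groth.Agent.Lib.Helper4.RegRes1
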