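import Mathlib
import Groth.Agent.Lib.Helper4.RegRes1

/-!
# Splitting of extensions of O by a module with vanishing H^1 (helper4)
-/

set_option backward.isDefEq.respectTransparency.types false
set_option synthInstance.maxHeartbeats 400000
set_option autoImplicit false
set_option linter.unusedSectionVars false
set_option linter.style.haveILetI false
set_option linter.unusedSimpArgs false
universe u v w
open CategoryTheory CategoryTheory.Limits AlgebraicGeometry TopologicalSpace Opposite
open Groth.Agent.Helper1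
open Groth.Agent.Lib.Helper4.KosC1
open Groth.Agent.Lib.Helper4.SerreVan
open Groth.Agent.Lib.Helper4.RegRes1
open Groth.Agent.Lib.Helper4

namespace Groth.Agent.Lib.Helper4.SplitO1

section Gen
variable {X : Scheme.{u}}

theorem ofSec_comp {M N : X.Modules} (t : Γ(M, ⊤)) (p : M ⟶ N) :
    ofSec M t ≫ p = ofSec N (p.app ⊤ t) := by
  unfold ofSec
  refine (SheafOfModules.unitHomEquiv_symm_comp (GlobGen.secOfTop M t) p).trans ?_
  congr 1
  apply GlobGen.sections_ext_top
  rw [GlobGen.sectionsMap_eval, GlobGen.secOfTop_eval_top, GlobGen.secOfTop_eval_top]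

theorem ofSec_one : ofSec (Coh.structureModule X) (1 : X.ringCatSheaf.obj.obj (op ⊤)) = 𝟙 _ := by
  unfold ofSec
  apply (SheafOfModules.unitHomEquiv (Coh.structureModule X)).injective
  rw [Equiv.apply_symm_apply]
  apply GlobGen.sections_ext_top
  rw [GlobGen.secOfTop_eval_top]
  rfl

end Gen

section Split
variable (A : Type u) [CommRing A] {X : Scheme.{u}} [X.Over (Spec (CommRingCat.of A))]
include A

theorem surj_top_of_H1 {S : ShortComplex X.Modules} (hS : S.ShortExact)
    (h1 : Subsingleton (Coh.HH X S.X₁ 1)) : Function.Surjective (S.g.app ⊤) := by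
  intro u
  obtain ⟨y, hy⟩ := HHFin2.exact_g_delta A hS 0 ((HH0.equiv X S.X₃).symm u)
    (Subsingleton.elim (h := h1) _ _)
  refine ⟨HH0.equiv X S.X₂ y, ?_⟩
  rw [← HH0_natural A, hy, AddEquiv.apply_symm_apply]

end Split

theorem s19180 (R : Type u) [CommRing R]
    (m : ℕ) (hm : 1 ≤ m) (F : (CohB1.ProjSpace 1 R).Modules)
    (i : Twist.twistProjSpace 1 R (m : ℤ) ⟶ F) (p : F ⟶ Coh.structureModule (CohB1.ProjSpace 1 R))
    (w : i ≫ p = 0) (hex : (ShortComplex.mk i p w).ShortExact) :
    ∃ s : Coh.structureModule (CohB1.ProjSpace 1 R) ⟶ F, s ≫ p = 𝟙 _ := by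
  have h1 : Subsingleton (Coh.HH (CohB1.ProjSpace 1 R) (Twist.twistProjSpace 1 R (m : ℤ)) 1) :=
    Groth.Agent.S0844.result R 1 (m : ℤ) 1 (by omega) (by omega)
  obtain ⟨t, ht⟩ := surj_top_of_H1 R hex h1 (1 : (CohB1.ProjSpace 1 R).ringCatSheaf.obj.obj (op ⊤))
  refine ⟨ofSec F t, ?_⟩
  rw [ofSec_comp]
  have ht' : p.app ⊤ t = (1 : (CohB1.ProjSpace 1 R).ringCatSheaf.obj.obj (op ⊤)) := ht
  rw [ht', ofSec_one]

end Groth.Agent.Lib.Helper4.SplitO1
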