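import Mathlib
import Groth.Agent.Lib.Helper4.SplitO1
import Groth.Agent.Lib.Helper4.KosC4
import Groth.Agent.Lib.Helper4.DuF3

/-!
# Vanishing for regular sheaves; splitting of extensions of line bundles on P^n, n ≥ 2 (helper4)
-/

set_option backward.isDefEq.respectTransparency.types false
set_option synthInstance.maxHeartbeats 400000
set_option autoImplicit false
set_option linter.unusedSectionVars false
set_option linter.style.haveILetI false
set_option linter.unusedSimpArgs false
universe u v w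
open CategoryTheory CategoryTheory.Limits AlgebraicGeometry TopologicalSpace Opposite
open Groth.Agent.Helper1
open Groth.Agent.Lib.Helper4.KosC1
open Groth.Agent.Lib.Helper4.KosC4
open Groth.Agent.Lib.Helper4.SerreVan
open Groth.Agent.Lib.Helper4.RegRes1
open Groth.Agent.Lib.Helper4.SplitO1
open Groth.Agent.Lib.Helper4

namespace Groth.Agent.Lib.Helper4.RegMisc1

section A
variable (n : ℕ) (k : Type u) [Field k]

theorem s3224 (F : (CohB1.ProjSpace n k).Modules) (hF : Coh.IsCoh F) (m : ℤ)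
    (hreg : ∀ i : ℕ, 1 ≤ i → Subsingleton (Coh.HH (CohB1.ProjSpace n k)
      (CohB1.tensorMod F (Twist.twistProjSpace n k (m - i))) i)) :
    ∀ (i : ℕ) (r : ℤ), 1 ≤ i → m - i ≤ r →
      Subsingleton (Coh.HH (CohB1.ProjSpace n k) (CohB1.tensorMod F (Twist.twistProjSpace n k r)) i) := by
  intro i r hi hr
  by_cases hin : i ≤ n
  · have h0 : Curv2.IsMRegular k n F m := fun q hq _ => hreg q hq
    have := isMRegular_of_le n k F hF m h0 (r + i) (by omega) i hi hin
    exact subsingleton_twist_congr n k F (by ring) i this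
  · haveI : F.IsQuasicoherent := hF.1
    haveI := isQCoh_Tw n k r F
    exact Groth.Agent.S0022.result n k _ i (by omega)

end A

section Split
variable (A : Type u) [CommRing A] {X : Scheme.{u}} [X.Over (Spec (CommRingCat.of A))]
include A

/-- a short exact sequence `0 → K → F → Q → 0` with `Q ≅ O` and `H^1(K) = 0` has a section -/
theorem exists_section_of_iso_unit {S : ShortComplex X.Modules} (hS : S.ShortExact)
    (e : S.X₃ ≅ Coh.structureModule X) (h1 : Subsingleton (Coh.HH X S.X₁ 1)) :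
    ∃ s : S.X₃ ⟶ S.X₂, s ≫ S.g = 𝟙 _ := by
  obtain ⟨t, ht⟩ := surj_top_of_H1 A hS h1 (e.inv.app ⊤ (1 : X.ringCatSheaf.obj.obj (op ⊤)))
  refine ⟨e.hom ≫ ofSec S.X₂ t, ?_⟩
  rw [Category.assoc, ofSec_comp, ht]
  have h2 : ofSec S.X₃ (e.inv.app ⊤ (1 : X.ringCatSheaf.obj.obj (op ⊤))) = e.inv := by
    rw [← ofSec_comp, ofSec_one, Category.id_comp]
  rw [h2, e.hom_inv_id]

end Split

section B
variable (n : ℕ) (k : Type u) [Field k]

theorem s11484 (hn : 2 ≤ n) (a b : ℤ) (S : ShortComplex (CohB1.ProjSpace n k).Modules) (hS : S.ShortExact)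
    (ha : Nonempty (S.X₁ ≅ Twist.twistProjSpace n k a)) (hb : Nonempty (S.X₃ ≅ Twist.twistProjSpace n k b)) :
    Nonempty S.Splitting := by
  obtain ⟨ea⟩ := ha
  obtain ⟨eb⟩ := hb
  have hp := TwistTens.twist_package (CohB1.polyGrading n k) (SerreFin.hcov1 n k)
  haveI : (Tw n k (-b)).IsEquivalence := DuF3.isEquivalence_TL_of_isInvertible (hp.1 (-b))
  let T := Tw n k (-b)
  have hT := TwExact.shortExact_map (SerreVan.locGen_twist n k (-b)) hS
  -- `T S.X₃ ≅ O`
  obtain ⟨e0⟩ := nonempty_Tw_neg_iso n k (-b)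
  have e3 : (S.map T).X₃ ≅ Coh.structureModule (CohB1.ProjSpace n k) :=
    T.mapIso eb ≪≫ (eqToIso (by rw [neg_neg]) : T.obj (Twist.twistProjSpace n k b) ≅
      (Tw n k (-b)).obj (Twist.twistProjSpace n k (-(-b)))) ≪≫ e0
  -- `H^1(T S.X₁) = 0`
  have h1 : Subsingleton (Coh.HH (CohB1.ProjSpace n k) (S.map T).X₁ 1) := by
    have := subsingleton_Tw_twist' n k a (-b) 1 (by omega) (by omega)
    exact subsingleton_of_iso k (X := CohB1.ProjSpace n k) (T.mapIso ea).symm 1 this
  obtain ⟨s', hs'⟩ := exists_section_of_iso_unit k hT e3 h1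
  let s : S.X₃ ⟶ S.X₂ := T.preimage s'
  have hs : s ≫ S.g = 𝟙 _ := by
    apply T.map_injective
    rw [T.map_comp, T.map_preimage, CategoryTheory.Functor.map_id]
    exact hs'
  haveI := hS.mono_f
  exact ⟨ShortComplex.Splitting.ofExactOfSection S hS.exact s hs hS.mono_f⟩

end B

end Groth.Agent.Lib.Helper4.RegMisc1
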