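import Mathlib
import Groth.Prelude.Def_DeltaF
import Groth.Prelude.Def_RDerDelta
import Groth.Agent.S16463
import Groth.Agent.S6773
import Groth.Agent.S6774
import Groth.Agent.Lib.Helper1.DeltaComp
import Groth.Agent.Lib.Helper3.HPDelta

/-!
# delta-functors: precomposition with exact functors, isomorphism and uniqueness from effaceability (helper4)
-/

set_option backward.isDefEq.respectTransparency.types false
set_option synthInstance.maxHeartbeats 400000
set_option autoImplicit false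
set_option linter.unusedSectionVars false
set_option linter.style.haveILetI false
set_option linter.unusedSimpArgs false
universe v v' v'' u u' u''
open CategoryTheory
open CategoryTheory.Limits
open DeltaF

namespace Groth.Agent.Lib.Helper4.DeltaNat1

variable {A : Type u} [Category.{v} A] [Abelian A]
  {B : Type u'} [Category.{v'} B] [Abelian B]
  {D : Type u''} [Category.{v''} D] [Abelian D]

/-- precomposition of a δ-functor with an exact functor -/
noncomputable def precomp (G : A ⥤ B) [G.Additive] [PreservesFiniteLimits G]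
    [PreservesFiniteColimits G] (T : CohDeltaFunctor B D ℕ) : CohDeltaFunctor A D ℕ where
  F n := G ⋙ T.F n
  additive _ := inferInstance
  δ S hS n₀ n₁ h := T.δ (S.map G) (hS.map_of_exact G) n₀ n₁ h
  δ_natural hS hS' φ n₀ n₁ h :=
    T.δ_natural (hS.map_of_exact G) (hS'.map_of_exact G) (G.mapShortComplex.map φ) n₀ n₁ h
  exact₂ S hS n := T.exact₂ (S.map G) (hS.map_of_exact G) n
  comp_δ S hS n₀ n₁ h := T.comp_δ (S.map G) (hS.map_of_exact G) n₀ n₁ h
  exact₃ S hS n₀ n₁ h := T.exact₃ (S.map G) (hS.map_of_exact G) n₀ n₁ h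
  δ_comp S hS n₀ n₁ h := T.δ_comp (S.map G) (hS.map_of_exact G) n₀ n₁ h
  exact₁ S hS n₀ n₁ h := T.exact₁ (S.map G) (hS.map_of_exact G) n₀ n₁ h

/-- two effaceable δ-functors which agree in degree zero are isomorphic -/
theorem exists_iso_of_effaceable (T₁ T₂ : CohDeltaFunctor A D ℕ) (h₁ : T₁.IsEffaceable)
    (h₂ : T₂.IsEffaceable) (e0 : T₁.F 0 ≅ T₂.F 0) : ∃ φ : T₁ ≅ T₂, φ.hom.app 0 = e0.hom := by
  have hU₁ := Groth.Agent.S6773.result T₁ h₁
  have hU₂ := Groth.Agent.S6773.result T₂ h₂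
  obtain ⟨φ, hφ, -⟩ := Groth.Agent.S6774.result T₁ T₂ hU₁ hU₂ e0
  exact ⟨φ, hφ⟩

/-- the isomorphism in each degree -/
noncomputable def isoOfEffaceable (T₁ T₂ : CohDeltaFunctor A D ℕ) (h₁ : T₁.IsEffaceable)
    (h₂ : T₂.IsEffaceable) (e0 : T₁.F 0 ≅ T₂.F 0) (n : ℕ) : T₁.F n ≅ T₂.F n :=
  Groth.Agent.Helper1.DeltaComp.appIso (exists_iso_of_effaceable T₁ T₂ h₁ h₂ e0).choose n

/-- an effaceable δ-functor: uniqueness of extensions of natural transformations out of it -/
theorem hom_ext_of_effaceable (T₁ T₂ : CohDeltaFunctor A D ℕ) (h₁ : T₁.IsEffaceable)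
    (τ τ' : T₁ ⟶ T₂) (h : τ.app 0 = τ'.app 0) : τ = τ' := by
  have hU₁ := Groth.Agent.S6773.result T₁ h₁
  obtain ⟨σ, -, hσ⟩ := hU₁ T₂ (τ.app 0)
  exact (hσ τ rfl).trans (hσ τ' h.symm).symm

end Groth.Agent.Lib.Helper4.DeltaNat1
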