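import Mathlib
import Groth.Prelude.Def_Coh
import Groth.Agent.Lib.Lead.BCU4

/-!
# Base change of a scheme over Spec A along a ring map: coordinate rings of preimages of affine opens (helper4)
-/

set_option backward.isDefEq.respectTransparency.types false
set_option synthInstance.maxHeartbeats 400000
set_option autoImplicit false
set_option linter.unusedSectionVars false
set_option linter.style.haveILetI false
set_option linter.unusedSimpArgs false
universe u v w
open CategoryTheory
open CategoryTheory.Limits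
open AlgebraicGeometry
open TopologicalSpace
open Opposite
open Groth.Agent.Lead.BCU

namespace Groth.Agent.Lib.Helper4.BaseChgRing1

variable (A : Type u) [CommRing A] (X : Scheme.{u}) [X.Over (Spec (CommRingCat.of A))]
variable (A' : Type u) [CommRing A'] [Algebra A A']

/-- the map of spectra -/
noncomputable abbrev sMap : Spec (CommRingCat.of A') ⟶ Spec (CommRingCat.of A) :=
  Spec.map (CommRingCat.ofHom (algebraMap A A'))

/-- base change of `X` to `A'` -/
noncomputable def BC : Scheme.{u} := pullback (X ↘ Spec (CommRingCat.of A)) (sMap A A')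

noncomputable def pr : BC A X A' ⟶ X := pullback.fst _ _

noncomputable def str : BC A X A' ⟶ Spec (CommRingCat.of A') := pullback.snd _ _

noncomputable instance : (BC A X A').Over (Spec (CommRingCat.of A')) := ⟨str A X A'⟩

lemma over_eq : (BC A X A' ↘ Spec (CommRingCat.of A')) = str A X A' := rfl

lemma cond : pr A X A' ≫ (X ↘ Spec (CommRingCat.of A)) = str A X A' ≫ sMap A A' :=
  pullback.condition

lemma isPullback : IsPullback (str A X A') (pr A X A') (sMap A A') (X ↘ Spec (CommRingCat.of A)) :=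
  (IsPullback.of_hasPullback _ _).flip

instance : IsAffineHom (pr A X A') :=
  MorphismProperty.pullback_fst (P := @IsAffineHom) _ _ inferInstance

instance [IsProper (X ↘ Spec (CommRingCat.of A))] : IsProper (BC A X A' ↘ Spec (CommRingCat.of A')) := by
  rw [over_eq]
  exact MorphismProperty.pullback_snd (P := @IsProper) _ _ inferInstance

variable {X} in
lemma isAffineOpen_preimage {W : X.Opens} (hW : IsAffineOpen W) : IsAffineOpen (pr A X A' ⁻¹ᵁ W) :=
  hW.preimage (pr A X A')

/-- the pushout square of coordinate rings -/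
lemma isPushout_sections {W : X.Opens} (hW : IsAffineOpen W) :
    IsPushout ((X ↘ Spec (CommRingCat.of A)).appLE ⊤ W le_top)
      ((sMap A A').appLE ⊤ ((sMap A A') ⁻¹ᵁ ⊤) le_rfl)
      ((pr A X A').appLE W (pr A X A' ⁻¹ᵁ W) le_rfl)
      ((str A X A').appLE ((sMap A A') ⁻¹ᵁ ⊤) (pr A X A' ⁻¹ᵁ W)
        (preimage_le _ _ _ _ (isPullback A X A') le_top)) :=
  isPushout_appLE (sMap A A') (X ↘ Spec (CommRingCat.of A)) (str A X A') (pr A X A')
    (isPullback A X A') (isAffineOpen_top _) hW le_top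

/-- a pushout of commutative rings is generated by the images of the two legs -/
lemma closure_of_isPushout {R0 R1 R2 R3 : CommRingCat.{u}} {f : R0 ⟶ R1} {g : R0 ⟶ R2} {inl : R1 ⟶ R3}
    {inr : R2 ⟶ R3} (h : IsPushout f g inl inr) :
    Subring.closure (Set.range inl.hom ∪ Set.range inr.hom) = ⊤ := by
  set S := Subring.closure (Set.range inl.hom ∪ Set.range inr.hom) with hS
  let a : R1 ⟶ CommRingCat.of S := CommRingCat.ofHom
    (inl.hom.codRestrict S (fun x => Subring.subset_closure (Or.inl ⟨x, rfl⟩)))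
  let b : R2 ⟶ CommRingCat.of S := CommRingCat.ofHom
    (inr.hom.codRestrict S (fun x => Subring.subset_closure (Or.inr ⟨x, rfl⟩)))
  let i : CommRingCat.of S ⟶ R3 := CommRingCat.ofHom S.subtype
  have hab : f ≫ a = g ≫ b := by
    apply CommRingCat.hom_ext
    apply RingHom.ext
    intro x
    apply Subtype.ext
    exact congrArg (fun φ => φ.hom x) h.w
  have h1 : inl ≫ (h.desc a b hab ≫ i) = inl ≫ 𝟙 _ := by
    rw [← Category.assoc, h.inl_desc]; rfl
  have h2 : inr ≫ (h.desc a b hab ≫ i) = inr ≫ 𝟙 _ := by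
    rw [← Category.assoc, h.inr_desc]; rfl
  have h3 : h.desc a b hab ≫ i = 𝟙 _ := h.hom_ext h1 h2
  rw [eq_top_iff]
  intro x _
  have : x = i.hom ((h.desc a b hab).hom x) := by
    have := congrArg (fun φ => φ.hom x) h3
    exact this.symm
  rw [this]
  exact ((h.desc a b hab).hom x).2

/-- the structure map of the coordinate ring of an open of a scheme over `Spec A` -/
noncomputable def alphaRing (W : X.Opens) : A →+* Γ(X, W) :=
  ((X ↘ Spec (CommRingCat.of A)).appLE ⊤ W le_top).hom.comp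
    (Scheme.ΓSpecIso (CommRingCat.of A)).inv.hom

variable {X} in
lemma alphaRing_res {W W' : X.Opens} (h : W' ≤ W) (a : A) :
    (X.presheaf.map (homOfLE h).op).hom (alphaRing A X W a) = alphaRing A X W' a := by
  unfold alphaRing
  have := Scheme.Hom.appLE_map (X ↘ Spec (CommRingCat.of A)) (U := ⊤) (V := W) le_top (homOfLE h).op
  exact congrArg (fun φ => φ.hom ((Scheme.ΓSpecIso (CommRingCat.of A)).inv.hom a)) this

/-- compatibility of the structure maps with a morphism over a ring map -/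
lemma alphaRing_appLE_gen {A₁ A₂ : Type u} [CommRing A₁] [CommRing A₂] (φ : A₁ →+* A₂)
    {Y Z : Scheme.{u}} [Y.Over (Spec (CommRingCat.of A₁))] [Z.Over (Spec (CommRingCat.of A₂))]
    (k : Z ⟶ Y)
    (hk : k ≫ (Y ↘ Spec (CommRingCat.of A₁)) =
      (Z ↘ Spec (CommRingCat.of A₂)) ≫ Spec.map (CommRingCat.ofHom φ))
    (V : Y.Opens) (V' : Z.Opens) (e : V' ≤ k ⁻¹ᵁ V) (a : A₁) :
    (k.appLE V V' e).hom (alphaRing A₁ Y V a) = alphaRing A₂ Z V' (φ a) := by
  unfold alphaRing
  change ((Scheme.ΓSpecIso (CommRingCat.of A₁)).inv ≫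
    (Y ↘ Spec (CommRingCat.of A₁)).appLE ⊤ V le_top ≫ k.appLE V V' e).hom a =
    (CommRingCat.ofHom φ ≫ (Scheme.ΓSpecIso (CommRingCat.of A₂)).inv ≫
      (Z ↘ Spec (CommRingCat.of A₂)).appLE ⊤ V' le_top).hom a
  congr 2
  rw [Scheme.Hom.appLE_comp_appLE, Scheme.ΓSpecIso_inv_naturality_assoc]
  congr 1
  have key : ∀ (θ : Z ⟶ Spec (CommRingCat.of A₁))
      (hθ : θ = (Z ↘ Spec (CommRingCat.of A₂)) ≫ Spec.map (CommRingCat.ofHom φ))
      (e' : V' ≤ θ ⁻¹ᵁ ⊤), θ.appLE ⊤ V' e' =
      (Spec.map (CommRingCat.ofHom φ)).appTop ≫ (Z ↘ Spec (CommRingCat.of A₂)).appLE ⊤ V' le_top := by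
    intro θ hθ e'
    subst hθ
    rw [Scheme.Hom.comp_appLE]
    rfl
  exact key _ hk _

variable {X} in
lemma alphaRing_appLE (W : X.Opens) (V : (BC A X A').Opens) (e : V ≤ pr A X A' ⁻¹ᵁ W) (a : A) :
    ((pr A X A').appLE W V e).hom (alphaRing A X W a) =
      alphaRing A' (BC A X A') V (algebraMap A A' a) :=
  alphaRing_appLE_gen (algebraMap A A') (pr A X A') (cond A X A') W V e a

lemma surjective_ΓSpecIso_inv (R : CommRingCat.{u}) :
    Function.Surjective (Scheme.ΓSpecIso R).inv.hom := by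
  intro x
  refine ⟨(Scheme.ΓSpecIso R).hom.hom x, ?_⟩
  change ((Scheme.ΓSpecIso R).hom ≫ (Scheme.ΓSpecIso R).inv).hom x = x
  rw [Iso.hom_inv_id]; rfl

variable {X} in
/-- the coordinate ring of the preimage of an affine open is generated by the two obvious subrings -/
lemma closure_sections {W : X.Opens} (hW : IsAffineOpen W) :
    Subring.closure (Set.range ((pr A X A').appLE W (pr A X A' ⁻¹ᵁ W) le_rfl).hom ∪
      Set.range (alphaRing A' (BC A X A') (pr A X A' ⁻¹ᵁ W))) = ⊤ := by
  have h := closure_of_isPushout (isPushout_sections A X A' hW)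
  have h2 : Set.range (alphaRing A' (BC A X A') (pr A X A' ⁻¹ᵁ W)) =
      Set.range ((str A X A').appLE ((sMap A A') ⁻¹ᵁ ⊤) (pr A X A' ⁻¹ᵁ W)
        (preimage_le _ _ _ _ (isPullback A X A') le_top)).hom := by
    unfold alphaRing
    rw [RingHom.coe_comp, Set.range_comp, (surjective_ΓSpecIso_inv _).range_eq, Set.image_univ]
    rfl
  rw [h2]
  exact h

variable {X} in
/-- the universal property of the coordinate ring of the preimage of an affine open -/
lemma exists_desc {W : X.Opens} (hW : IsAffineOpen W) {Q : Type u} [CommRing Q]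
    (a : Γ(X, W) →+* Q) (b : A' →+* Q)
    (hab : ∀ x, a (alphaRing A X W x) = b (algebraMap A A' x)) :
    ∃ d : Γ(BC A X A', pr A X A' ⁻¹ᵁ W) →+* Q,
      (∀ r, d (((pr A X A').appLE W (pr A X A' ⁻¹ᵁ W) le_rfl).hom r) = a r) ∧
      (∀ y, d (alphaRing A' (BC A X A') (pr A X A' ⁻¹ᵁ W) y) = b y) := by
  have P := isPushout_sections A X A' hW
  let a' : Γ(X, W) ⟶ CommRingCat.of Q := CommRingCat.ofHom a
  let b' : Γ(Spec (CommRingCat.of A'), (sMap A A') ⁻¹ᵁ ⊤) ⟶ CommRingCat.of Q :=
    (Scheme.ΓSpecIso (CommRingCat.of A')).hom ≫ CommRingCat.ofHom b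
  have hab' : (X ↘ Spec (CommRingCat.of A)).appLE ⊤ W le_top ≫ a' =
      (sMap A A').appLE ⊤ ((sMap A A') ⁻¹ᵁ ⊤) le_rfl ≫ b' := by
    apply CommRingCat.hom_ext
    apply RingHom.ext
    intro x
    obtain ⟨x0, rfl⟩ := surjective_ΓSpecIso_inv _ x
    have h1 : ((X ↘ Spec (CommRingCat.of A)).appLE ⊤ W le_top ≫ a').hom
        ((Scheme.ΓSpecIso (CommRingCat.of A)).inv.hom x0) = a (alphaRing A X W x0) := rfl
    rw [h1, hab]
    have h2 := Scheme.ΓSpecIso_naturality (CommRingCat.ofHom (algebraMap A A'))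
    have h3 : ((sMap A A').appLE ⊤ ((sMap A A') ⁻¹ᵁ ⊤) le_rfl ≫ b') =
        ((sMap A A').appTop ≫ (Scheme.ΓSpecIso (CommRingCat.of A')).hom) ≫ CommRingCat.ofHom b := by
      rw [Category.assoc]
      congr 1
    rw [h3, h2]
    change b (algebraMap A A' x0) = b (algebraMap A A' (((Scheme.ΓSpecIso (CommRingCat.of A)).inv ≫
      (Scheme.ΓSpecIso (CommRingCat.of A)).hom).hom x0))
    rw [Iso.inv_hom_id]
    rfl
  refine ⟨(P.desc a' b' hab').hom, fun r => ?_, fun y => ?_⟩
  · exact congrArg (fun φ => φ.hom r) (P.inl_desc a' b' hab')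
  · have := congrArg (fun φ => φ.hom ((Scheme.ΓSpecIso (CommRingCat.of A')).inv.hom y))
      (P.inr_desc a' b' hab')
    refine Eq.trans ?_ (this.trans ?_)
    · rfl
    · change b (((Scheme.ΓSpecIso (CommRingCat.of A')).inv ≫
        (Scheme.ΓSpecIso (CommRingCat.of A')).hom).hom y) = b y
      rw [Iso.inv_hom_id]
      rfl

section Maps
variable (A'' : Type u) [CommRing A''] [Algebra A A''] (ψ : A' →ₐ[A] A'')

/-- the morphism of base changes induced by an algebra map -/
noncomputable def bcMap : BC A X A'' ⟶ BC A X A' :=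
  pullback.lift (pr A X A'') (str A X A'' ≫ Spec.map (CommRingCat.ofHom ψ.toRingHom)) (by
    have h := cond A X A''
    rw [Category.assoc, ← Spec.map_comp]
    refine h.trans ?_
    congr 1
    change Spec.map _ = Spec.map _
    congr 1
    apply CommRingCat.hom_ext
    apply RingHom.ext
    intro a
    exact (ψ.commutes a).symm)

lemma bcMap_pr : bcMap A X A' A'' ψ ≫ pr A X A' = pr A X A'' := pullback.lift_fst _ _ _

lemma bcMap_str : bcMap A X A' A'' ψ ≫ str A X A' =
    str A X A'' ≫ Spec.map (CommRingCat.ofHom ψ.toRingHom) := pullback.lift_snd _ _ _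

instance : IsAffineHom (bcMap A X A' A'' ψ) := by
  haveI : IsAffineHom (bcMap A X A' A'' ψ ≫ pr A X A') := by rw [bcMap_pr]; infer_instance
  exact IsAffineHom.of_comp (bcMap A X A' A'' ψ) (pr A X A')

lemma alphaRing_bcMap (V : (BC A X A').Opens) (V' : (BC A X A'').Opens)
    (e : V' ≤ bcMap A X A' A'' ψ ⁻¹ᵁ V) (y : A') :
    ((bcMap A X A' A'' ψ).appLE V V' e).hom (alphaRing A' (BC A X A') V y) =
      alphaRing A'' (BC A X A'') V' (ψ y) :=
  alphaRing_appLE_gen ψ.toRingHom (bcMap A X A' A'' ψ) (bcMap_str A X A' A'' ψ) V V' e y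

end Maps

end Groth.Agent.Lib.Helper4.BaseChgRing1
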