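import Mathlib
import Groth.Agent.Lib.Lead.TilT5
import Groth.Agent.Lib.Lead.SD2

/-!
# Sections of the tensor product of quasi-coherent modules over an affine open (helper4)
-/

set_option backward.isDefEq.respectTransparency.types false
set_option synthInstance.maxHeartbeats 400000
set_option autoImplicit false
set_option linter.unusedSectionVars false
set_option linter.style.haveILetI false
set_option linter.unusedSimpArgs false
universe u v w
open CategoryTheory
open CategoryTheory.Limits
open AlgebraicGeometry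
open TopologicalSpace
open Opposite
open TensorProduct
open Groth.Agent.Lead.TilT
open Groth.Agent.Lead.SD
open Groth.Agent.Helper1.QcCech
open Groth.Agent.Helper1

namespace Groth.Agent.Lib.Helper4.TenSec1

variable {X : Scheme.{u}}

/-- an ideal of the sections over an affine open whose basic opens cover is the unit ideal -/
theorem ideal_eq_top {U : X.Opens} (hU : IsAffineOpen U) (I : Ideal Γ(X, U))
    (h : ∀ x ∈ U, ∃ g ∈ I, x ∈ X.basicOpen g) : I = ⊤ := by
  have h1 : U ≤ ⨆ f : (I : Set Γ(X, U)), X.basicOpen f.1 := by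
    intro x hx
    obtain ⟨g, hg, hxg⟩ := h x hx
    exact Opens.mem_iSup.2 ⟨⟨g, hg⟩, hxg⟩
  have h2 := (hU.self_le_iSup_basicOpen_iff (s := (I : Set Γ(X, U)))).1 h1
  rwa [Ideal.span_eq] at h2

variable (F G : X.Modules) [F.IsQuasicoherent] [G.IsQuasicoherent]

attribute [local instance] basicOpenModule

/-- restriction of tensors to a basic open is a localization -/
theorem isLocalizedModule_resT {U : X.Opens} (hU : IsAffineOpen U) (g : Γ(X, U)) :
    ∃ ρ : (Γ(F, U) ⊗[Γ(X, U)] Γ(G, U)) →ₗ[Γ(X, U)]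
        (Γ(F, X.basicOpen g) ⊗[Γ(X, X.basicOpen g)] Γ(G, X.basicOpen g)),
      IsLocalizedModule (.powers g) ρ ∧ ∀ p, ρ p = resT F G (X.basicOpen_le g) p := by
  haveI := hU.isLocalization_basicOpen g
  haveI : IsLocalizedModule (.powers g) (resₗ F g) := isLocalizedModule_res F hU g
  haveI : IsLocalizedModule (.powers g) (resₗ G g) := isLocalizedModule_res G hU g
  refine ⟨tmap Γ(X, X.basicOpen g) (resₗ F g) (resₗ G g),
    isLocalizedModule_tmap (.powers g) Γ(X, X.basicOpen g) _ _, ?_⟩
  intro p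
  induction p using TensorProduct.induction_on with
  | zero => rw [map_zero, resT_zero]
  | tmul m n => rfl
  | add p q hp hq => rw [map_add, resT_add, hp, hq]


variable {X : Scheme.{u}} (F G : X.Modules) [F.IsQuasicoherent] [G.IsQuasicoherent]
attribute [local instance] basicOpenModule

theorem toTₗ_injective {U : X.Opens} (hU : IsAffineOpen U) :
    Function.Injective (toTₗ F G U) := by
  rw [injective_iff_map_eq_zero]
  intro p hp
  let I : Ideal Γ(X, U) := LinearMap.ker (LinearMap.toSpanSingleton Γ(X, U) _ p)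
  have hI : I = ⊤ := by
    apply ideal_eq_top hU
    intro x hx
    obtain ⟨V, hV, hxV, hpV⟩ := toTₗ_locally_injective F G U p hp x hx
    obtain ⟨g, hgV, hxg⟩ := hU.exists_basicOpen_le (V := V) ⟨x, hxV⟩ hx
    obtain ⟨ρ, hρ, hρe⟩ := isLocalizedModule_resT F G hU g
    have h0 : ρ p = 0 := by
      rw [hρe, ← resT_resT F G hV hgV p, hpV, resT_zero]
    obtain ⟨c, hc⟩ := IsLocalizedModule.exists_of_eq (S := .powers g) (f := ρ) (x₁ := p) (x₂ := 0)
      (by rw [h0, map_zero])
    obtain ⟨c, n, rfl⟩ := c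
    refine ⟨g ^ (n + 1), ?_, ?_⟩
    · change LinearMap.toSpanSingleton Γ(X, U) _ p (g ^ (n + 1)) = 0
      rw [LinearMap.toSpanSingleton_apply, pow_succ', mul_smul]
      have : (g ^ n) • p = (⟨g ^ n, n, rfl⟩ : Submonoid.powers g) • p := rfl
      rw [this, hc, smul_zero, smul_zero]
    · rw [X.basicOpen_pow g (Nat.succ_pos n)]
      exact hxg
  have h1 : (1 : Γ(X, U)) ∈ I := by rw [hI]; trivial
  have h2 : LinearMap.toSpanSingleton Γ(X, U) _ p 1 = 0 := h1
  rwa [LinearMap.toSpanSingleton_apply, one_smul] at h2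


theorem toTₗ_surjective {U : X.Opens} (hU : IsAffineOpen U) :
    Function.Surjective (toTₗ F G U) := by
  intro t
  let J : Ideal Γ(X, U) := (LinearMap.range (toTₗ F G U)).comap
    (LinearMap.toSpanSingleton Γ(X, U) _ t)
  have hJ : J = ⊤ := by
    apply ideal_eq_top hU
    intro x hx
    obtain ⟨V, hV, q, hxV, hq⟩ := toTₗ_locally_surjective F G U t x hx
    obtain ⟨g, hgV, hxg⟩ := hU.exists_basicOpen_le (V := V) ⟨x, hxV⟩ hx
    obtain ⟨ρ, hρ, hρe⟩ := isLocalizedModule_resT F G hU g
    obtain ⟨⟨p, c⟩, hpc⟩ := IsLocalizedModule.surj (.powers g) ρ (resT F G hgV q)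
    obtain ⟨c, n, rfl⟩ := c
    have hpc' : (g ^ n) • resT F G hgV q = ρ p := hpc
    -- the difference vanishes on the basic open
    have hd : res (CohB1.tensorMod F G) (X.basicOpen_le g) (toTₗ F G U p - (g ^ n) • t) = 0 := by
      rw [map_sub, res_toTₗ, ← hρe, ← hpc', res_smul]
      have e1 : res (CohB1.tensorMod F G) (X.basicOpen_le g) t =
          toTₗ F G (X.basicOpen g) (resT F G hgV q) := by
        rw [← res_toTₗ, hq, res_res]
      rw [e1, sub_eq_zero]
      exact LinearMap.map_smul_of_tower (toTₗ F G (X.basicOpen g)) (g ^ n) _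
    obtain ⟨m, hm⟩ := QcLoc.exists_kill hU (CohB1.tensorMod F G) g _ hd
    refine ⟨g ^ (m + n + 1), ?_, ?_⟩
    · change LinearMap.toSpanSingleton Γ(X, U) _ t (g ^ (m + n + 1)) ∈ LinearMap.range (toTₗ F G U)
      rw [LinearMap.toSpanSingleton_apply]
      refine ⟨(g ^ (m + 1)) • p, ?_⟩
      rw [map_smul]
      rw [smul_sub, sub_eq_zero] at hm
      rw [pow_succ', mul_smul, hm, ← mul_smul, ← mul_smul]
      congr 1
      ring
    · rw [X.basicOpen_pow g (Nat.succ_pos (m + n))]
      exact hxg
  have h1 : (1 : Γ(X, U)) ∈ J := by rw [hJ]; trivial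
  have h2 : LinearMap.toSpanSingleton Γ(X, U) _ t 1 ∈ LinearMap.range (toTₗ F G U) := h1
  rwa [LinearMap.toSpanSingleton_apply, one_smul] at h2

theorem toTₗ_bijective {U : X.Opens} (hU : IsAffineOpen U) :
    Function.Bijective (toTₗ F G U) :=
  ⟨toTₗ_injective F G hU, toTₗ_surjective F G hU⟩

end Groth.Agent.Lib.Helper4.TenSec1
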