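import Mathlib
import Groth.Prelude.Def_ega3
import Groth.Agent.Lib.Helper4.TenSec1
import Groth.Agent.Lib.Helper4.BaseChgRing1
import Groth.Agent.Lib.Lead.BCU4
import Groth.Agent.Lib.Lead.PBQc

/-!
# Sections of F tensor f^*(M~) over affine opens: the comparison with F(W) tensor M (helper4)
-/

set_option backward.isDefEq.respectTransparency.types false
set_option synthInstance.maxHeartbeats 400000
set_option autoImplicit false
set_option linter.unusedSectionVars false
set_option linter.style.haveILetI false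
set_option linter.unusedSimpArgs false
universe u v w
open CategoryTheory
open CategoryTheory.Limits
open AlgebraicGeometry
open TopologicalSpace
open Opposite
open TensorProduct
open Groth.Agent.Lead.TilT
open Groth.Agent.Helper1.QcCech
open Groth.Agent.Lib.Helper4.BaseChgRing1
open Groth.Agent.Lib.Helper4.TenSec1

namespace Groth.Agent.Lib.Helper4.TenSec2

section Alg
variable {A A₁ B : Type u} [CommRing A] [CommRing A₁] [CommRing B]
  {M M₁ N : Type u} [AddCommGroup M] [Module A M] [AddCommGroup M₁] [Module A₁ M₁]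
  [AddCommGroup N] [Module B N]

/-- transport of a base change along a semilinear isomorphism of the source -/
theorem isBC_semilinear (σ : A →+* A₁) (hσ : Function.Bijective σ) (φ₁ : A₁ →+* B)
    (μ : M →+ M₁) (hμb : Function.Bijective μ) (hμ : ∀ a m, μ (a • m) = σ a • μ m)
    (l₁ : M₁ → N) (h : Groth.Agent.Lead.BCU.IsBC φ₁ l₁) : Groth.Agent.Lead.BCU.IsBC (φ₁.comp σ) (fun m => l₁ (μ m)) := by
  obtain ⟨l₁', hl₁, hb⟩ := h
  letI alg1 : Algebra A₁ B := φ₁.toAlgebra
  letI mod1 : Module A₁ N := Module.compHom N φ₁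
  haveI : IsScalarTower A₁ B N := ⟨fun a a' n => by
    change (φ₁ a * a') • n = φ₁ a • a' • n
    exact mul_smul _ _ _⟩
  letI alg : Algebra A B := (φ₁.comp σ).toAlgebra
  letI mod : Module A N := Module.compHom N (φ₁.comp σ)
  haveI : IsScalarTower A B N := ⟨fun a a' n => by
    change ((φ₁.comp σ) a * a') • n = (φ₁.comp σ) a • a' • n
    exact mul_smul _ _ _⟩
  let l' : M →ₗ[A] N :=
    { toFun := fun m => l₁' (μ m)
      map_add' := fun x y => by rw [map_add, map_add]
      map_smul' := fun a m => by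
        rw [hμ, l₁'.map_smul]
        rfl }
  refine ⟨l', fun m => hl₁ (μ m), ?_⟩
  apply IsBaseChange.of_lift_unique
  intro Q _ _ _ _ g
  letI modQ1 : Module A₁ Q := Module.compHom Q φ₁
  haveI : IsScalarTower A₁ B Q := ⟨fun a a' n => by
    change (φ₁ a * a') • n = φ₁ a • a' • n
    exact mul_smul _ _ _⟩
  let μe : M ≃+ M₁ := AddEquiv.ofBijective μ hμb
  have hAQ : ∀ (a : A) (q : Q), a • q = φ₁ (σ a) • q := fun a q => by
    rw [← one_smul B q, ← smul_assoc, ← smul_assoc]
    congr 1

  let g₁ : M₁ →ₗ[A₁] Q :=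
    { toFun := fun m₁ => g (μe.symm m₁)
      map_add' := fun x y => by rw [map_add, map_add]
      map_smul' := fun a₁ m₁ => by
        obtain ⟨a, rfl⟩ := hσ.2 a₁
        have : μe.symm (σ a • m₁) = a • μe.symm m₁ := by
          apply μe.injective
          rw [AddEquiv.apply_symm_apply]
          change _ = μ (a • μe.symm m₁)
          rw [hμ]
          congr 1
          exact (μe.apply_symm_apply m₁).symm
        rw [this, g.map_smul, hAQ]
        rfl }
  refine ⟨hb.lift g₁, ?_, ?_⟩
  · ext m
    change hb.lift g₁ (l₁' (μ m)) = g m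
    rw [hb.lift_eq]
    change g (μe.symm (μe m)) = g m
    rw [AddEquiv.symm_apply_apply]
  · intro g' hg'
    apply hb.algHom_ext
    intro m₁
    rw [hb.lift_eq]
    have := LinearMap.congr_fun hg' (μe.symm m₁)
    change g' (l₁' (μ (μe.symm m₁))) = g (μe.symm m₁) at this
    have e : μ (μe.symm m₁) = m₁ := μe.apply_symm_apply m₁
    rw [e] at this
    exact this

end Alg


section Geo
variable (A : Type u) [CommRing A] {X : Scheme.{u}} [X.Over (Spec (CommRingCat.of A))]

/-- `M~` on `Spec A` -/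
noncomputable abbrev tl (M : ModuleCat.{u} A) : (Spec (CommRingCat.of A)).Modules :=
  tilde (R := CommRingCat.of A) M

/-- `f^*(M~)` -/
noncomputable abbrev pbT (M : ModuleCat.{u} A) : X.Modules :=
  (Scheme.Modules.pullback (X ↘ Spec (CommRingCat.of A))).obj (tl A M)

instance (M : ModuleCat.{u} A) : (pbT A (X := X) M).IsQuasicoherent :=
  Groth.Agent.Lead.PB.isQuasicoherent_pullback _ _

theorem le_preTop (W : X.Opens) : W ≤ (X ↘ Spec (CommRingCat.of A)) ⁻¹ᵁ ⊤ := fun _ _ => trivial

/-- `M → Γ(Spec A, M~)` -/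
noncomputable def toTop (M : ModuleCat.{u} A) :
    M →+ Γ(tl A M, (⊤ : (Spec (CommRingCat.of A)).Opens)) :=
  (tilde.toOpen (R := CommRingCat.of A) M ⊤).hom.toAddMonoidHom

theorem toTop_bijective (M : ModuleCat.{u} A) : Function.Bijective (toTop A M) := by
  haveI : IsIso (tilde.toOpen (R := CommRingCat.of A) M ⊤) :=
    tilde.isIso_toOpen_top (R := CommRingCat.of A) (M := M)
  exact ConcreteCategory.bijective_of_isIso (tilde.toOpen (R := CommRingCat.of A) M ⊤)

theorem toTop_smul (M : ModuleCat.{u} A) (a : A) (m : M) :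
    toTop A M (a • m) = (Scheme.ΓSpecIso (CommRingCat.of A)).inv.hom a • toTop A M m := by
  have h1 : toTop A M (a • m) =
      (a • (tilde.toOpen (R := CommRingCat.of A) M ⊤).hom m : _) :=
    LinearMap.map_smul (tilde.toOpen (R := CommRingCat.of A) M ⊤).hom a m
  rw [h1]
  have h2 := Scheme.Modules.smul_Spec_def (M := tl A M) (U := ⊤) a (toTop A M m)
  refine h2.trans ?_
  congr 1

/-- the canonical map `M → Γ(W, f^* M~)` -/
noncomputable def nu (M : ModuleCat.{u} A) (W : X.Opens) (m : M) : Γ(pbT A (X := X) M, W) :=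
  Groth.Agent.Lead.BCU.unitRes (X ↘ Spec (CommRingCat.of A)) (tl A M) (W := ⊤)
    (le_preTop A W) (toTop A M m)

theorem isBC_nu (M : ModuleCat.{u} A) {W : X.Opens} (hW : IsAffineOpen W) :
    Groth.Agent.Lead.BCU.IsBC (alphaRing A X W) (nu A M W) := by
  have h1 := Groth.Agent.Lead.BCU.isBC_unitRes (X ↘ Spec (CommRingCat.of A)) (tl A M)
    (isAffineOpen_top (Spec (CommRingCat.of A))) hW (le_preTop A W)
  exact isBC_semilinear (Scheme.ΓSpecIso (CommRingCat.of A)).inv.hom
    (ConcreteCategory.bijective_of_isIso (Scheme.ΓSpecIso (CommRingCat.of A)).inv) _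
    (toTop A M) (toTop_bijective A M) (toTop_smul A M) _ h1


/-- sections of a direct image -/
noncomputable def secPush {Y S : Scheme.{u}} (h : Y ⟶ S) (N : Y.Modules) (U : S.Opens) :
    Γ((Scheme.Modules.pushforward h).obj N, U) ≃+ Γ(N, h ⁻¹ᵁ U) := AddEquiv.refl _

theorem secPush_smul {Y S : Scheme.{u}} (h : Y ⟶ S) (N : Y.Modules) (U : S.Opens) (r : Γ(S, U))
    (w : Γ((Scheme.Modules.pushforward h).obj N, U)) :
    secPush h N U (r • w) = (h.app U).hom r • secPush h N U w := rfl

theorem nu_eq (M : ModuleCat.{u} A) (W : X.Opens) (m : M) :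
    nu A (X := X) M W m = Groth.Agent.Helper1.QcCech.res (pbT A M)
      (le_preTop A W)
      (secPush (X ↘ Spec (CommRingCat.of A)) (pbT A M) ⊤
        ((((Scheme.Modules.pullbackPushforwardAdjunction (X ↘ Spec (CommRingCat.of A))).unit.app
          (tl A M)).app ⊤).hom (toTop A M m))) := rfl

theorem nu_add (M : ModuleCat.{u} A) (W : X.Opens) (m m' : M) :
    nu A M W (m + m') = nu A (X := X) M W m + nu A M W m' := by
  rw [nu_eq, nu_eq, nu_eq, map_add, map_add, map_add, map_add]

theorem nu_smul (M : ModuleCat.{u} A) (W : X.Opens) (a : A) (m : M) :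
    nu A M W (a • m) = alphaRing A X W a • nu A (X := X) M W m := by
  rw [nu_eq, nu_eq, toTop_smul]
  have h1 := Scheme.Modules.Hom.app_smul
    ((Scheme.Modules.pullbackPushforwardAdjunction (X ↘ Spec (CommRingCat.of A))).unit.app (tl A M))
    ((Scheme.ΓSpecIso (CommRingCat.of A)).inv.hom a) (toTop A M m)
  refine (congrArg (fun z => Groth.Agent.Helper1.QcCech.res (pbT A M)
      (le_preTop A W)
      (secPush (X ↘ Spec (CommRingCat.of A)) (pbT A M) ⊤ z)) h1).trans ?_
  rw [secPush_smul]
  refine (Groth.Agent.Helper1.QcCech.res_smul (pbT A M) _ _ _).trans ?_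
  rfl


variable (F : X.Modules)

/-- the `A`-module structure on sections -/
noncomputable abbrev secMod (W : X.Opens) : Module A Γ(F, W) := Module.compHom _ (alphaRing A X W)

attribute [local instance] secMod

theorem secMod_smul (W : X.Opens) (a : A) (s : Γ(F, W)) : a • s = alphaRing A X W a • s := rfl

/-- `f^*(M~) ⊗ F` -/
noncomputable abbrev Psi (M : ModuleCat.{u} A) : X.Modules := CohB1.tensorMod (pbT A M) F

/-- the comparison map `Γ(W, F) ⊗_A M → Γ(W, f^*(M~) ⊗ F)` -/
noncomputable def theta (M : ModuleCat.{u} A) (W : X.Opens) :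
    Γ(F, W) ⊗[A] M →+ Γ(Psi A F M, W) :=
  TensorProduct.liftAddHom
    (AddMonoidHom.mk' (fun s : Γ(F, W) => AddMonoidHom.mk'
      (fun m : M => toTₗ (pbT A M) F W (nu A M W m ⊗ₜ s))
      (fun m m' => by rw [nu_add, TensorProduct.add_tmul, map_add]))
      (fun s s' => by
        ext m
        change toTₗ (pbT A M) F W (nu A M W m ⊗ₜ (s + s')) = toTₗ (pbT A M) F W (nu A M W m ⊗ₜ s) +
          toTₗ (pbT A M) F W (nu A M W m ⊗ₜ s')
        rw [TensorProduct.tmul_add, map_add]))
    (fun a s m => by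
      change toTₗ (pbT A M) F W (nu A M W m ⊗ₜ (a • s)) = toTₗ (pbT A M) F W (nu A M W (a • m) ⊗ₜ s)
      rw [nu_smul, secMod_smul, TensorProduct.smul_tmul])

theorem theta_tmul (M : ModuleCat.{u} A) (W : X.Opens) (s : Γ(F, W)) (m : M) :
    theta A F M W (s ⊗ₜ m) = toTₗ (pbT A M) F W (nu A M W m ⊗ₜ s) := rfl


theorem theta_bijective [F.IsQuasicoherent] (M : ModuleCat.{u} A) {W : X.Opens}
    (hW : IsAffineOpen W) : Function.Bijective (theta A F M W) := by
  obtain ⟨l', hl', hb⟩ := isBC_nu A (X := X) M hW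
  letI alg : Algebra A Γ(X, W) := (alphaRing A X W).toAlgebra
  letI modN : Module A Γ(pbT A (X := X) M, W) := Module.compHom _ (alphaRing A X W)
  haveI : IsScalarTower A Γ(X, W) Γ(pbT A (X := X) M, W) := ⟨fun a a' n => by
    change (alphaRing A X W a * a') • n = alphaRing A X W a • a' • n
    exact mul_smul _ _ _⟩
  haveI : IsScalarTower A Γ(X, W) Γ(F, W) := ⟨fun a a' n => by
    change (alphaRing A X W a * a') • n = alphaRing A X W a • a' • n
    exact mul_smul _ _ _⟩
  let e : Γ(F, W) ⊗[A] M ≃ₗ[Γ(X, W)] Γ(pbT A (X := X) M, W) ⊗[Γ(X, W)] Γ(F, W) :=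
    (hb.tensorEquiv Γ(F, W)).symm ≪≫ₗ TensorProduct.comm _ _ _
  have he : ∀ x, theta A F M W x = toTₗ (pbT A M) F W (e x) := by
    intro x
    induction x using TensorProduct.induction_on with
    | zero => rw [map_zero, map_zero, map_zero]
    | tmul s m =>
      rw [theta_tmul]
      congr 1
      have : e (s ⊗ₜ m) = l' m ⊗ₜ s := by
        simp [e, IsBaseChange.tensorEquiv, IsBaseChange.equiv_tmul]
      rw [this, hl']
    | add x y hx hy => rw [map_add, hx, hy, map_add, map_add]
  have h1 : (theta A F M W : _ → _) = (toTₗ (pbT A M) F W) ∘ e := funext he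
  rw [h1]
  exact (toTₗ_bijective (pbT A M) F hW).comp e.bijective


end Geo

section Nat
open MonoidalCategory
variable {X : Scheme.{u}} (F : X.Modules)

/-- naturality of the canonical map to the tensor product in the first variable -/
theorem tensorRightMod_map_toTₗ {N N' : X.Modules} (g : N ⟶ N') (W : X.Opens)
    (n : Γ(N, W)) (s : Γ(F, W)) :
    (Scheme.Modules.Hom.app (show CohB1.tensorMod N F ⟶ CohB1.tensorMod N' F from
        (DCoh.tensorRightMod F).map g) W).hom (toTₗ N F W (n ⊗ₜ s)) =
      toTₗ N' F W ((g.app W).hom n ⊗ₜ s) := by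
  let φ : (show X.PresheafOfModules from CohB1.tensorPre N F) ⟶
      (show X.PresheafOfModules from CohB1.tensorPre N' F) :=
    (show CohB1.toPMod N ⟶ CohB1.toPMod N' from (DCoh.toP (X := X)).map g) ▷ (CohB1.toPMod F)
  have h := (PresheafOfModules.sheafificationAdjunction (𝟙 X.ringCatSheaf.obj)).unit.naturality φ
  have h2 := congrArg (fun ψ => (PresheafOfModules.Hom.app ψ (op W)).hom (idEquiv N F W (n ⊗ₜ s))) h
  exact h2.symm

end Nat

section Geo2

variable (A : Type u) [CommRing A] {X : Scheme.{u}} [X.Over (Spec (CommRingCat.of A))]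

/-- `f^*(φ~)` -/
noncomputable abbrev pbTmap {M M' : ModuleCat.{u} A} (φ : M ⟶ M') : pbT A (X := X) M ⟶ pbT A M' :=
  (Scheme.Modules.pullback (X ↘ Spec (CommRingCat.of A))).map (tilde.map (R := CommRingCat.of A) φ)

theorem toTop_map {M M' : ModuleCat.{u} A} (φ : M ⟶ M') (m : M) :
    ((tilde.map (R := CommRingCat.of A) φ).app ⊤).hom (toTop A M m) = toTop A M' (φ.hom m) := by
  have h := tilde.toOpen_map_app (R := CommRingCat.of A) φ ⊤
  exact congrArg (fun ψ => ψ.hom m) h

theorem secPush_map {Y S : Scheme.{u}} (h : Y ⟶ S) {N N' : Y.Modules} (g : N ⟶ N') (U : S.Opens)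
    (w : Γ((Scheme.Modules.pushforward h).obj N, U)) :
    secPush h N' U ((((Scheme.Modules.pushforward h).map g).app U).hom w) =
      (g.app (h ⁻¹ᵁ U)).hom (secPush h N U w) := rfl

theorem nu_map {M M' : ModuleCat.{u} A} (φ : M ⟶ M') (W : X.Opens) (m : M) :
    ((pbTmap A (X := X) φ).app W).hom (nu A M W m) = nu A M' W (φ.hom m) := by
  rw [nu_eq, nu_eq]
  have h1 := Groth.Agent.Lead.BCU.app_res (pbTmap A (X := X) φ) (le_preTop A W)
    (secPush (X ↘ Spec (CommRingCat.of A)) (pbT A M) ⊤
        ((((Scheme.Modules.pullbackPushforwardAdjunction (X ↘ Spec (CommRingCat.of A))).unit.app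
          (tl A M)).app ⊤).hom (toTop A M m)))
  refine h1.trans ?_
  congr 1
  rw [← secPush_map]
  congr 1
  have h2 := (Scheme.Modules.pullbackPushforwardAdjunction (X ↘ Spec (CommRingCat.of A))).unit.naturality
    (tilde.map (R := CommRingCat.of A) φ)
  have h3 := congrArg (fun ψ => (Scheme.Modules.Hom.app ψ ⊤).hom (toTop A M m)) h2
  refine h3.symm.trans ?_
  change ((((Scheme.Modules.pullbackPushforwardAdjunction (X ↘ Spec (CommRingCat.of A))).unit.app
          (tl A M')).app ⊤).hom (((tilde.map (R := CommRingCat.of A) φ).app ⊤).hom (toTop A M m))) = _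
  rw [toTop_map]


variable (F : X.Modules)
attribute [local instance] secMod

/-- `f^*(φ~) ⊗ F` -/
noncomputable abbrev PsiMap {M M' : ModuleCat.{u} A} (φ : M ⟶ M') : Psi A F M ⟶ Psi A F M' :=
  (DCoh.tensorRightMod F).map (pbTmap A (X := X) φ)

theorem theta_map {M M' : ModuleCat.{u} A} (φ : M ⟶ M') (W : X.Opens) (x : Γ(F, W) ⊗[A] M) :
    ((PsiMap A F φ).app W).hom (theta A F M W x) =
      theta A F M' W (LinearMap.lTensor Γ(F, W) φ.hom x) := by
  induction x using TensorProduct.induction_on with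
  | zero => rw [map_zero, map_zero, map_zero, map_zero]
  | tmul s m =>
    rw [theta_tmul, LinearMap.lTensor_tmul, theta_tmul]
    refine (tensorRightMod_map_toTₗ F (pbTmap A (X := X) φ) W _ s).trans ?_
    rw [nu_map]
  | add x y hx hy => rw [map_add, map_add, hx, hy, map_add, map_add]

/-- restriction of sections, `A`-linearly -/
noncomputable def resA {W W' : X.Opens} (h : W' ≤ W) : Γ(F, W) →ₗ[A] Γ(F, W') where
  toFun := res F h
  map_add' := map_add _
  map_smul' := fun a s => by
    change res F h (alphaRing A X W a • s) = alphaRing A X W' a • res F h s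
    rw [res_smul]
    congr 1
    exact alphaRing_res A h a

theorem resA_apply {W W' : X.Opens} (h : W' ≤ W) (s : Γ(F, W)) : resA A F h s = res F h s := rfl

theorem nu_res (M : ModuleCat.{u} A) {W W' : X.Opens} (h : W' ≤ W) (m : M) :
    res (pbT A (X := X) M) h (nu A M W m) = nu A M W' m := by
  rw [nu_eq, nu_eq, res_res]

theorem theta_res (M : ModuleCat.{u} A) {W W' : X.Opens} (h : W' ≤ W) (x : Γ(F, W) ⊗[A] M) :
    res (Psi A F M) h (theta A F M W x) =
      theta A F M W' (LinearMap.rTensor M (resA A F h) x) := by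
  induction x using TensorProduct.induction_on with
  | zero => rw [map_zero, map_zero, map_zero, map_zero]
  | tmul s m =>
    rw [theta_tmul, LinearMap.rTensor_tmul, theta_tmul, res_toTₗ, resT_tmul, nu_res, resA_apply]
  | add x y hx hy => rw [map_add, map_add, hx, hy, map_add, map_add]


theorem tensorAFunctor_obj (M : ModuleCat.{u} A) :
    (CohIII.tensorAFunctor A F).obj M = Psi A F M := rfl

theorem tensorAFunctor_map {M M' : ModuleCat.{u} A} (φ : M ⟶ M') :
    (CohIII.tensorAFunctor A F).map φ = PsiMap A F φ := rfl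

theorem tensorA_eq (M : Type u) [AddCommGroup M] [Module A M] :
    CohIII.tensorA A F M = CohB1.tensorMod F (pbT A (ModuleCat.of A M)) := rfl

end Geo2
end Groth.Agent.Lib.Helper4.TenSec2
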