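import Mathlib
import Groth.Prelude.Def_ega3
import Groth.Agent.Lib.Helper4.TenSec2
import Groth.Agent.Lib.Helper4.LocCech1
import Groth.Agent.Lib.Lead.FO1

/-!
# Čech complex of F as a complex of A-modules; tensoring with M computes the Čech complex of F ⊗ f^*M~ (helper4)
-/

set_option backward.isDefEq.respectTransparency.types false
set_option synthInstance.maxHeartbeats 400000
set_option autoImplicit false
set_option linter.unusedSectionVars false
set_option linter.style.haveILetI false
set_option linter.unusedSimpArgs false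
universe u v w
open CategoryTheory
open CategoryTheory.Limits
open AlgebraicGeometry
open TopologicalSpace
open Opposite
open TensorProduct
open Groth.Agent.Helper1
open Groth.Agent.Helper1.QcCech
open Groth.Agent.Lib.Helper4.BaseChgRing1
open Groth.Agent.Lib.Helper4.TenSec2
open Groth.Agent.Lib.Helper4.LocCech1

namespace Groth.Agent.Lib.Helper4.CechTen1

variable (A : Type u) [CommRing A] {X : Scheme.{u}} [X.Over (Spec (CommRingCat.of A))]
variable (F : X.Modules) {ι : Type u} (U : ι → X.Opens)

attribute [local instance] secMod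

/-- evaluation of a cochain, `A`-linearly -/
noncomputable def projA (n : ℕ) (a : Fin (n + 1) → ι) : Co F U n →ₗ[A] Γ(F, TCx.W U a) :=
  LinearMap.proj a

theorem projA_apply (n : ℕ) (a : Fin (n + 1) → ι) (y : Co F U n) : projA A F U n a y = y a := rfl

/-- the Čech differential, `A`-linearly -/
noncomputable def DdA (n : ℕ) : Co F U n →ₗ[A] Co F U (n + 1) :=
  LinearMap.pi fun a => ∑ i : Fin (n + 2), (-1 : ℤ) ^ (i : ℕ) •
    (resA A F (TCx.W_face_le U a i)).comp (projA A F U n (fun k => a (i.succAbove k)))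

theorem DdA_apply (n : ℕ) (y : Co F U n) : DdA A F U n y = Dd F U n y := by
  funext a
  rw [Dd_apply]
  change (∑ i : Fin (n + 2), (-1 : ℤ) ^ (i : ℕ) •
    (resA A F (TCx.W_face_le U a i)).comp (projA A F U n (fun k => a (i.succAbove k)))) y = _
  rw [LinearMap.sum_apply]
  rfl

theorem Dd_Dd (n : ℕ) (y : Co F U n) : Dd F U (n + 1) (Dd F U n y) = 0 := by
  obtain ⟨x, rfl⟩ := comps_surjective F U n y
  rw [← comps_d, ← comps_d]
  have h : ((TCx.K U F.presheaf).d n (n + 1) ≫ (TCx.K U F.presheaf).d (n + 1) (n + 1 + 1)) = 0 :=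
    (TCx.K U F.presheaf).d_comp_d _ _ _
  have h2 := congrArg (fun ψ => ψ.hom x) h
  change ((TCx.K U F.presheaf).d (n + 1) (n + 1 + 1)).hom
    (((TCx.K U F.presheaf).d n (n + 1)).hom x) = 0 at h2
  rw [h2]
  funext a
  exact map_zero (TCx.proj U F.presheaf (n + 1 + 1) a).hom

/-- the Čech complex of `F`, as a complex of `A`-modules indexed by the naturals -/
noncomputable def CAN : CochainComplex (ModuleCat.{u} A) ℕ :=
  CochainComplex.of (fun n => ModuleCat.of A (Co F U n)) (fun n => ModuleCat.ofHom (DdA A F U n))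
    (fun n => by
      apply ModuleCat.hom_ext
      apply LinearMap.ext
      intro y
      change DdA A F U (n + 1) (DdA A F U n y) = 0
      rw [DdA_apply, DdA_apply, Dd_Dd])

theorem CAN_d (n : ℕ) : (CAN A F U).d n (n + 1) = ModuleCat.ofHom (DdA A F U n) :=
  CochainComplex.of_d (fun n => ModuleCat.of A (Co F U n))
    (fun n => ModuleCat.ofHom (DdA A F U n)) n


section Theta
variable (M : ModuleCat.{u} A)

/-- the source complex in abelian groups -/
noncomputable abbrev SC : CochainComplex AddCommGrpCat.{u} ℕ :=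
  ((forget₂ (ModuleCat.{u} A) AddCommGrpCat.{u}).mapHomologicalComplex (ComplexShape.up ℕ)).obj
    (CohIII.tensorObj (CAN A F U) M)

/-- the `a`-th component of the comparison -/
noncomputable def compA (n : ℕ) (a : Fin (n + 1) → ι) :
    (Co F U n) ⊗[A] M →+ Γ(Psi A F M, TCx.W U a) :=
  (theta A F M (TCx.W U a)).comp (LinearMap.rTensor M (projA A F U n a)).toAddMonoidHom

theorem compA_apply (n : ℕ) (a : Fin (n + 1) → ι) (x : (Co F U n) ⊗[A] M) :
    compA A F U M n a x = theta A F M (TCx.W U a) (LinearMap.rTensor M (projA A F U n a) x) := rfl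

/-- the comparison in degree `n` -/
noncomputable def thetaX (n : ℕ) : (SC A F U M).X n ⟶ (TCx.K U (Psi A F M).presheaf).X n :=
  Pi.lift fun a => AddCommGrpCat.ofHom (compA A F U M n a)

theorem thetaX_proj (n : ℕ) (a : Fin (n + 1) → ι) (x : (Co F U n) ⊗[A] M) :
    (TCx.proj U (Psi A F M).presheaf n a).hom ((thetaX A F U M n).hom x) = compA A F U M n a x := by
  have h : thetaX A F U M n ≫ TCx.proj U (Psi A F M).presheaf n a =
      AddCommGrpCat.ofHom (compA A F U M n a) := Pi.lift_π _ a
  exact ConcreteCategory.congr_hom h x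

theorem SC_d_apply (n : ℕ) (x : (Co F U n) ⊗[A] M) :
    ((SC A F U M).d n (n + 1)).hom x = LinearMap.rTensor M (DdA A F U n) x := by
  change (MonoidalCategory.whiskerRight ((CAN A F U).d n (n + 1)) M).hom x = _
  rw [CAN_d]
  rfl


theorem compA_tmul (n : ℕ) (a : Fin (n + 1) → ι) (y : Co F U n) (m : M) :
    compA A F U M n a (y ⊗ₜ m) = theta A F M (TCx.W U a) (y a ⊗ₜ m) := rfl

theorem compA_d (n : ℕ) (a : Fin (n + 2) → ι) (x : (Co F U n) ⊗[A] M) :
    compA A F U M (n + 1) a (LinearMap.rTensor M (DdA A F U n) x) =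
      ∑ k : Fin (n + 2), (-1 : ℤ) ^ (k : ℕ) • res (Psi A F M) (TCx.W_face_le U a k)
        (compA A F U M n (fun j => a (k.succAbove j)) x) := by
  induction x using TensorProduct.induction_on with
  | zero =>
    rw [map_zero, map_zero]
    symm
    apply Finset.sum_eq_zero
    intro k _
    rw [map_zero, map_zero, smul_zero]
  | tmul y m =>
    rw [LinearMap.rTensor_tmul, compA_tmul, DdA_apply, Dd_apply, TensorProduct.sum_tmul, map_sum]
    refine Finset.sum_congr rfl fun k _ => ?_
    rw [compA_tmul, theta_res, LinearMap.rTensor_tmul, resA_apply]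
    have e := TensorProduct.smul_tmul' (R := A) ((-1 : ℤ) ^ (k : ℕ))
      (res F (TCx.W_face_le U a k) (y fun j => a (k.succAbove j))) m
    rw [← e, map_zsmul]
  | add x y hx hy =>
    rw [map_add, map_add, hx, hy, ← Finset.sum_add_distrib]
    refine Finset.sum_congr rfl fun k _ => ?_
    rw [map_add, map_add, smul_add]

/-- the comparison of complexes -/
noncomputable def thetaC : SC A F U M ⟶ TCx.K U (Psi A F M).presheaf where
  f := thetaX A F U M
  comm' := by
    intro i j hij
    have hij' : i + 1 = j := hij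
    subst hij'
    apply ConcreteCategory.hom_ext
    intro x
    apply TCx.ext U _ (i + 1)
    intro a
    rw [ConcreteCategory.comp_apply, ConcreteCategory.comp_apply, TCx.d_apply, SC_d_apply]
    refine Eq.trans ?_ (thetaX_proj A F U M (i + 1) a _).symm
    rw [compA_d]
    refine Finset.sum_congr rfl fun k _ => ?_
    rw [thetaX_proj]
    rfl


section Bij
variable [Finite ι] [F.IsQuasicoherent] (haff : ∀ (n : ℕ) (a : Fin (n + 1) → ι), IsAffineOpen (TCx.W U a))

/-- tensor products commute with finite products -/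
noncomputable def piL (n : ℕ) :
    (Co F U n) ⊗[A] M ≃ₗ[A] ∀ a : Fin (n + 1) → ι, Γ(F, TCx.W U a) ⊗[A] M := by
  classical
  haveI : Fintype ι := Fintype.ofFinite ι
  exact TensorProduct.piLeft A M (fun a : Fin (n + 1) → ι => Γ(F, TCx.W U a))

theorem piL_apply (n : ℕ) (x : (Co F U n) ⊗[A] M) (a : Fin (n + 1) → ι) :
    piL A F U M n x a = LinearMap.rTensor M (projA A F U n a) x := by
  classical
  haveI : Fintype ι := Fintype.ofFinite ι
  induction x using TensorProduct.induction_on with
  | zero => rw [map_zero, map_zero]; rfl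
  | tmul y m => simp [piL, projA]
  | add x y hx hy => rw [map_add, map_add, Pi.add_apply, hx, hy]

include haff in
theorem thetaX_bijective (n : ℕ) : Function.Bijective (thetaX A F U M n).hom := by
  constructor
  · intro (x : (Co F U n) ⊗[A] M) (y : (Co F U n) ⊗[A] M) hxy
    apply (piL A F U M n).injective
    funext a
    rw [piL_apply, piL_apply]
    apply (theta_bijective A F M (haff n a)).1
    have h := congrArg (TCx.proj U (Psi A F M).presheaf n a).hom hxy
    rw [thetaX_proj, thetaX_proj] at h
    exact h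
  · intro z
    choose t ht using fun a : Fin (n + 1) → ι =>
      (theta_bijective A F M (haff n a)).2 ((TCx.proj U (Psi A F M).presheaf n a).hom z)
    refine ⟨((piL A F U M n).symm t : (Co F U n) ⊗[A] M), ?_⟩
    apply TCx.ext U _ n
    intro a
    rw [thetaX_proj, compA_apply, ← piL_apply, LinearEquiv.apply_symm_apply]
    exact ht a

include haff in
theorem isIso_thetaC : IsIso (thetaC A F U M) := by
  haveI : ∀ n, IsIso ((thetaC A F U M).f n) := fun n =>
    (ConcreteCategory.isIso_iff_bijective _).2 (thetaX_bijective A F U M haff n)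
  exact HomologicalComplex.Hom.isIso_of_components _

end Bij

end Theta


section General
variable {Y : TopCat.{u}} {κ : Type u} (V : κ → Opens Y)
variable {P Q : (Opens Y)ᵒᵖ ⥤ AddCommGrpCat.{u}} (φ : P ⟶ Q)

theorem map_proj (p : ℕ) (a : Fin (p + 1) → κ) :
    ((cechComplexFunctor V).map φ).f p ≫ TCx.proj V Q p a =
      TCx.proj V P p a ≫ φ.app (op (TCx.W V a)) := by
  have hA : ((cechComplexFunctor V).map φ).f p = Limits.Pi.map (fun a : Fin (p + 1) → κ =>
      φ.app (op (∏ᶜ fun k => V (a k)))) := rfl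
  rw [hA]
  exact Pi.map_π _ a

theorem map_proj_apply (p : ℕ) (a : Fin (p + 1) → κ) (c : (TCx.K V P).X p) :
    (TCx.proj V Q p a).hom ((((cechComplexFunctor V).map φ).f p).hom c) =
      (φ.app (op (TCx.W V a))).hom ((TCx.proj V P p a).hom c) :=
  ConcreteCategory.congr_hom (map_proj V φ p a) c

end General

section NatM
variable {M M' : ModuleCat.{u} A} (g : M ⟶ M')

/-- the map of source complexes -/
noncomputable abbrev SCmap : SC A F U M ⟶ SC A F U M' :=
  ((forget₂ (ModuleCat.{u} A) AddCommGrpCat.{u}).mapHomologicalComplex (ComplexShape.up ℕ)).map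
    (CohIII.tensorMap (CAN A F U) g)

theorem SCmap_apply (n : ℕ) (x : (Co F U n) ⊗[A] M) :
    ((SCmap A F U g).f n).hom x = LinearMap.lTensor (Co F U n) g.hom x := rfl

/-- the map of Čech complexes -/
noncomputable abbrev Cmap : TCx.K U (Psi A F M).presheaf ⟶ TCx.K U (Psi A F M').presheaf :=
  (cechComplexFunctor U).map ((SheafOfModules.toSheaf X.ringCatSheaf).map (PsiMap A F g)).hom

theorem Cmap_proj (n : ℕ) (a : Fin (n + 1) → ι) (z : (TCx.K U (Psi A F M).presheaf).X n) :
    (TCx.proj U (Psi A F M').presheaf n a).hom (((Cmap A F U g).f n).hom z) =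
      ((PsiMap A F g).app (TCx.W U a)).hom ((TCx.proj U (Psi A F M).presheaf n a).hom z) :=
  map_proj_apply U
    ((SheafOfModules.toSheaf X.ringCatSheaf).map (PsiMap A F g)).hom n a z

theorem thetaC_natural : thetaC A F U M ≫ Cmap A F U g = SCmap A F U g ≫ thetaC A F U M' := by
  apply HomologicalComplex.hom_ext
  intro n
  apply ConcreteCategory.hom_ext
  intro (x : (Co F U n) ⊗[A] M)
  apply TCx.ext U _ n
  intro a
  change (TCx.proj U (Psi A F M').presheaf n a).hom
      (((Cmap A F U g).f n).hom ((thetaX A F U M n).hom x)) =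
    (TCx.proj U (Psi A F M').presheaf n a).hom
      ((thetaX A F U M' n).hom (((SCmap A F U g).f n).hom x))
  rw [Cmap_proj, thetaX_proj, SCmap_apply, thetaX_proj, compA_apply, compA_apply, theta_map]
  congr 1
  induction x using TensorProduct.induction_on with
  | zero => rw [map_zero, map_zero, map_zero, map_zero]
  | tmul y m => rfl
  | add x y hx hy => rw [map_add, map_add, map_add, map_add, hx, hy]

end NatM


section Flat
open Groth.Agent.Lead.FO

theorem flat_sections [F.IsQuasicoherent]
    (hfl : FlatMod.IsFlatOver (X ↘ Spec (CommRingCat.of A)) F) {W : X.Opens} (hW : IsAffineOpen W) :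
    Module.Flat A Γ(F, W) := by
  have h1 := flat_sectionsOver_of_isFlatOverAt (X ↘ Spec (CommRingCat.of A)) F hW
    (isAffineOpen_top (Spec (CommRingCat.of A))) (le_preTop A W) (fun z => hfl z.1)
  letI alg : Algebra A Γ(Spec (CommRingCat.of A), ⊤) :=
    (Scheme.ΓSpecIso (CommRingCat.of A)).inv.hom.toAlgebra
  letI m1 : Module Γ(Spec (CommRingCat.of A), ⊤) Γ(F, W) :=
    sectionsOver (X ↘ Spec (CommRingCat.of A)) F (le_preTop A W)
  haveI : IsScalarTower A Γ(Spec (CommRingCat.of A), ⊤) Γ(F, W) :=
    IsScalarTower.of_algebraMap_smul fun r m => rfl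
  haveI : Module.Flat Γ(Spec (CommRingCat.of A), ⊤) Γ(F, W) := h1
  haveI : Module.Flat A Γ(Spec (CommRingCat.of A), ⊤) := by
    let e : A ≃ₗ[A] Γ(Spec (CommRingCat.of A), ⊤) :=
      LinearEquiv.ofBijective (Algebra.linearMap A Γ(Spec (CommRingCat.of A), ⊤))
        (ConcreteCategory.bijective_of_isIso (Scheme.ΓSpecIso (CommRingCat.of A)).inv)
    exact Module.Flat.of_linearEquiv e.symm
  exact Module.Flat.trans A Γ(Spec (CommRingCat.of A), ⊤) Γ(F, W)

theorem flat_CAN [Finite ι] [F.IsQuasicoherent]
    (hfl : FlatMod.IsFlatOver (X ↘ Spec (CommRingCat.of A)) F)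
    (haff : ∀ (n : ℕ) (a : Fin (n + 1) → ι), IsAffineOpen (TCx.W U a)) (n : ℕ) :
    Module.Flat A ((CAN A F U).X n) := by
  haveI : ∀ a : Fin (n + 1) → ι, Module.Flat A Γ(F, TCx.W U a) := fun a =>
    flat_sections A F hfl (haff n a)
  change Module.Flat A (∀ a : Fin (n + 1) → ι, Γ(F, TCx.W U a))
  classical
  letI : Fintype ι := Fintype.ofFinite ι
  exact Module.Flat.of_linearEquiv
    (DirectSum.linearEquivFunOnFintype A (Fin (n + 1) → ι) (fun a => Γ(F, TCx.W U a))).symm

end Flat

end Groth.Agent.Lib.Helper4.CechTen1
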