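import Mathlib
import Groth.Prelude.Def_ega3
import Groth.Agent.Lib.Helper4.CechTen1
import Groth.Agent.Lib.Helper4.PnE3
import Groth.Agent.Lib.Helper3.MapExtend

/-!
# The Čech complex tensored with M computes H^p(X, F ⊗_A M), naturally in M (helper4)
-/

set_option backward.isDefEq.respectTransparency.types false
set_option synthInstance.maxHeartbeats 400000
set_option autoImplicit false
set_option linter.unusedSectionVars false
set_option linter.style.haveILetI false
set_option linter.unusedSimpArgs false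
universe u v w
open CategoryTheory
open CategoryTheory.Limits
open AlgebraicGeometry
open TopologicalSpace
open Opposite
open TensorProduct
open Groth.Agent.Helper1
open Groth.Agent.Helper1.QcCech
open Groth.Agent.Lib.Helper4.BaseChgRing1
open Groth.Agent.Lib.Helper4.TenSec2
open Groth.Agent.Lib.Helper4.LocCech1
open Groth.Agent.Lib.Helper4.CechTen1

namespace Groth.Agent.Lib.Helper4.CechTen2

section Gen
  universe v1 v2 w1 w2
variable {C : Type w1} [Category.{v1} C] [Preadditive C] [HasZeroObject C]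
  {D : Type w2} [Category.{v2} D] [Preadditive D] [HasZeroObject D]
  (F G : C ⥤ D) [F.Additive] [G.Additive] (τ : F ⟶ G)
  {ι ι' : Type*} {c : ComplexShape ι} {c' : ComplexShape ι'}

open Groth.Agent.Helper3.MapExtend

lemma xIso_nat (K : HomologicalComplex C c) : ∀ o : Option ι,
    τ.app (HomologicalComplex.extend.X K o) ≫ (xIso G K o).hom =
      (xIso F K o).hom ≫
        HomologicalComplex.extend.mapX ((NatTrans.mapHomologicalComplex τ c).app K) o
  | none => (HomologicalComplex.extend.isZero_X _ rfl).eq_of_tgt _ _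
  | some i => by
      change τ.app (K.X i) ≫ 𝟙 _ = 𝟙 _ ≫ τ.app (K.X i)
      rw [Category.comp_id, Category.id_comp]

lemma mapExtendIso_nat (K : HomologicalComplex C c) (e : c.Embedding c') :
    (NatTrans.mapHomologicalComplex τ c').app (K.extend e) ≫ (mapExtendIso G K e).hom =
      (mapExtendIso F K e).hom ≫
        HomologicalComplex.extendMap ((NatTrans.mapHomologicalComplex τ c).app K) e := by
  ext j
  exact xIso_nat F G τ K (e.r j)


lemma chain4 {C : Type*} [Category C] {X0 X1 X2 X3 X4 Y0 Y1 Y2 Y3 Y4 : C}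
    {f0 : X0 ⟶ Y0} {f1 : X1 ⟶ Y1} {f2 : X2 ⟶ Y2} {f3 : X3 ⟶ Y3} {f4 : X4 ⟶ Y4}
    {a : X0 ⟶ X1} {b : X1 ⟶ X2} {c : X2 ⟶ X3} {d : X3 ⟶ X4}
    {a' : Y0 ⟶ Y1} {b' : Y1 ⟶ Y2} {c' : Y2 ⟶ Y3} {d' : Y3 ⟶ Y4}
    (hA : f0 ≫ a' = a ≫ f1) (hB : f1 ≫ b' = b ≫ f2) (hC : f2 ≫ c' = c ≫ f3)
    (hD : f3 ≫ d' = d ≫ f4) :
    f0 ≫ (a' ≫ b' ≫ c' ≫ d') = (a ≫ b ≫ c ≫ d) ≫ f4 := by
  rw [reassoc_of% hA, reassoc_of% hB, reassoc_of% hC, hD]
  simp only [Category.assoc]

end Gen


variable (A : Type u) [CommRing A] {X : Scheme.{u}} [X.Over (Spec (CommRingCat.of A))]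
variable (F : X.Modules) {ι : Type u} (U : ι → X.Opens)

attribute [local instance] secMod

/-- the Čech complex, indexed by the integers -/
noncomputable abbrev CZ : CochainComplex (ModuleCat.{u} A) ℤ :=
  (CAN A F U).extend ComplexShape.embeddingUpNat

section Chain
variable (M : ModuleCat.{u} A) (p : ℕ)

/-- step A -/
noncomputable def isoA :
    (CohIII.tensorObj (CZ A F U) M).homology (p : ℤ) ≅
      (CohIII.tensorObj (CAN A F U) M).homology p :=
  HomologicalComplex.homologyMapIso
      (Groth.Agent.Helper3.MapExtend.mapExtendIso (MonoidalCategory.tensorRight M) (CAN A F U)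
        ComplexShape.embeddingUpNat) (p : ℤ) ≪≫
    HomologicalComplex.extendHomologyIso (CohIII.tensorObj (CAN A F U) M)
      ComplexShape.embeddingUpNat (j := p) (j' := (p : ℤ)) rfl

variable {M} in
theorem isoA_nat {M' : ModuleCat.{u} A} (g : M ⟶ M') :
    HomologicalComplex.homologyMap (CohIII.tensorMap (CZ A F U) g) (p : ℤ) ≫
        (isoA A F U M' p).hom =
      (isoA A F U M p).hom ≫
        HomologicalComplex.homologyMap (CohIII.tensorMap (CAN A F U) g) p := by
  unfold isoA
  simp only [Iso.trans_hom, HomologicalComplex.homologyMapIso_hom]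
  rw [← Category.assoc, ← HomologicalComplex.homologyMap_comp]
  have h := mapExtendIso_nat _ _ ((MonoidalCategory.tensoringRight (ModuleCat.{u} A)).map g)
    (CAN A F U) ComplexShape.embeddingUpNat
  change CohIII.tensorMap (CZ A F U) g ≫ _ = _ ≫ HomologicalComplex.extendMap
    (CohIII.tensorMap (CAN A F U) g) _ at h
  rw [h, HomologicalComplex.homologyMap_comp, Category.assoc,
    HomologicalComplex.extendHomologyIso_hom_naturality]
  rw [Category.assoc]


/-- step B -/
noncomputable def isoB :
    (forget₂ (ModuleCat.{u} A) AddCommGrpCat.{u}).obj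
        ((CohIII.tensorObj (CAN A F U) M).homology p) ≅ (SC A F U M).homology p :=
  (((CohIII.tensorObj (CAN A F U) M).sc p).mapHomologyIso
    (forget₂ (ModuleCat.{u} A) AddCommGrpCat.{u})).symm

variable {M} in
theorem isoB_nat {M' : ModuleCat.{u} A} (g : M ⟶ M') :
    (forget₂ (ModuleCat.{u} A) AddCommGrpCat.{u}).map
        (HomologicalComplex.homologyMap (CohIII.tensorMap (CAN A F U) g) p) ≫
        (isoB A F U M' p).hom =
      (isoB A F U M p).hom ≫ HomologicalComplex.homologyMap (SCmap A F U g) p :=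
  ShortComplex.mapHomologyIso_inv_naturality
    ((HomologicalComplex.shortComplexFunctor _ _ p).map (CohIII.tensorMap (CAN A F U) g))
    (forget₂ (ModuleCat.{u} A) AddCommGrpCat.{u})


section C
variable [Finite ι] [F.IsQuasicoherent]
  (haff : ∀ (n : ℕ) (a : Fin (n + 1) → ι), IsAffineOpen (TCx.W U a))

/-- step C -/
noncomputable def isoC :
    (SC A F U M).homology p ≅ CohTop.cechH (Psi A F M).presheaf U p :=
  haveI := isIso_thetaC A F U M haff
  HomologicalComplex.homologyMapIso (asIso (thetaC A F U M)) p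

variable {M} in
theorem isoC_nat {M' : ModuleCat.{u} A} (g : M ⟶ M') :
    HomologicalComplex.homologyMap (SCmap A F U g) p ≫ (isoC A F U M' p haff).hom =
      (isoC A F U M p haff).hom ≫ HomologicalComplex.homologyMap (Cmap A F U g) p := by
  unfold isoC
  simp only [HomologicalComplex.homologyMapIso_hom, asIso_hom]
  rw [← HomologicalComplex.homologyMap_comp, ← HomologicalComplex.homologyMap_comp,
    thetaC_natural]

variable (hcov : iSup U = ⊤)

include hcov in
omit [Finite ι] in
/-- the union is terminal -/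
noncomputable def hTop : IsTerminal (iSup U) := by rw [hcov]; exact isTerminalTop

/-- step D, as an additive equivalence -/
noncomputable def eD :
    CohTop.cechH (Psi A F M).presheaf U p ≃+ Coh.HH X (Psi A F M) p :=
  AddEquiv.ofBijective
    (Groth.Agent.Lib.Helper4.PnE3.EE U (hTop U hcov) (Coh.toAb (Psi A F M)) p)
    (by
      apply Groth.Agent.Lib.Helper4.PnE3.EE_bijective
      intro q a r
      have h2 : IsAffineOpen (iInf fun k => U (a k)) := by
        rw [← TCx.W_eq_iInf]; exact haff q a
      exact QcAcyc.subsingleton_HU (Psi A F M) _ h2 r)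

theorem eD_apply (x : CohTop.cechH (Psi A F M).presheaf U p) :
    eD A F U M p haff hcov x =
      Groth.Agent.Lib.Helper4.PnE3.EE U (hTop U hcov) (Coh.toAb (Psi A F M)) p x := rfl

/-- step D -/
noncomputable def isoD :
    CohTop.cechH (Psi A F M).presheaf U p ≅ (CohIII.HAb X p).obj (Psi A F M) :=
  (eD A F U M p haff hcov).toAddCommGrpIso

theorem isoD_hom_apply (x : CohTop.cechH (Psi A F M).presheaf U p) :
    (isoD A F U M p haff hcov).hom.hom x = eD A F U M p haff hcov x := rfl

theorem HAb_map_apply {G G' : X.Modules} (φ : G ⟶ G') (y : Coh.HH X G p) :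
    ((CohIII.HAb X p).map φ).hom y =
      Sheaf.H.map ((SheafOfModules.toSheaf X.ringCatSheaf).map φ) p y := rfl

variable {M} in
theorem isoD_nat {M' : ModuleCat.{u} A} (g : M ⟶ M') :
    HomologicalComplex.homologyMap (Cmap A F U g) p ≫ (isoD A F U M' p haff hcov).hom =
      (isoD A F U M p haff hcov).hom ≫ (CohIII.HAb X p).map (PsiMap A F g) := by
  apply ConcreteCategory.hom_ext
  intro x
  rw [ConcreteCategory.comp_apply, ConcreteCategory.comp_apply]
  refine (isoD_hom_apply A F U M' p haff hcov _).trans ?_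
  refine (eD_apply A F U M' p haff hcov _).trans ?_
  refine (Groth.Agent.Lib.Helper4.PnE3.EE_natural U (hTop U hcov)
    ((SheafOfModules.toSheaf X.ringCatSheaf).map (PsiMap A F g)) p x).trans ?_
  rfl

/-- the comparison isomorphism at `M` -/
noncomputable def isoM :
    (CohIII.TFun (CZ A F U) (p : ℤ) ⋙ forget₂ (ModuleCat.{u} A) AddCommGrpCat.{u}).obj M ≅
      (CohIII.tensorAFunctor A F ⋙ CohIII.HAb X p).obj M :=
  (forget₂ (ModuleCat.{u} A) AddCommGrpCat.{u}).mapIso (isoA A F U M p) ≪≫ isoB A F U M p ≪≫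
    isoC A F U M p haff ≪≫ isoD A F U M p haff hcov

variable {M} in
theorem isoM_nat {M' : ModuleCat.{u} A} (g : M ⟶ M') :
    (CohIII.TFun (CZ A F U) (p : ℤ) ⋙ forget₂ (ModuleCat.{u} A) AddCommGrpCat.{u}).map g ≫
        (isoM A F U M' p haff hcov).hom =
      (isoM A F U M p haff hcov).hom ≫ (CohIII.tensorAFunctor A F ⋙ CohIII.HAb X p).map g := by
  have hA := congrArg (forget₂ (ModuleCat.{u} A) AddCommGrpCat.{u}).map (isoA_nat A F U p g)
  rw [Functor.map_comp, Functor.map_comp] at hA
  exact chain4 hA (isoB_nat A F U p g) (isoC_nat A F U p haff g) (isoD_nat A F U p haff hcov g)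

end C

end Chain

/-- **the Čech complex computes the cohomology of `F ⊗_A M`, naturally in `M`** -/
noncomputable def cechNatIso [Finite ι] [F.IsQuasicoherent]
    (haff : ∀ (n : ℕ) (a : Fin (n + 1) → ι), IsAffineOpen (TCx.W U a)) (hcov : iSup U = ⊤)
    (p : ℕ) :
    CohIII.TFun (CZ A F U) (p : ℤ) ⋙ forget₂ (ModuleCat.{u} A) AddCommGrpCat.{u} ≅
      CohIII.tensorAFunctor A F ⋙ CohIII.HAb X p :=
  NatIso.ofComponents (fun M => isoM A F U M p haff hcov)
    (fun g => isoM_nat A F U p haff hcov g)

end Groth.Agent.Lib.Helper4.CechTen2
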