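import Mathlib
import Groth.Prelude.Def_ega3
import Groth.Agent.Lib.Helper4.CechTen2
import Groth.Agent.Lib.Helper4.T2Main1
import Groth.Agent.Lib.Helper1.QcsVan

/-!
# The module Čech complex: A-linear comparison with cohomology, finiteness, cohomological bound (helper4)
-/

set_option backward.isDefEq.respectTransparency.types false
set_option synthInstance.maxHeartbeats 400000
set_option autoImplicit false
set_option linter.unusedSectionVars false
set_option linter.style.haveILetI false
set_option linter.unusedSimpArgs false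
universe u v w
open CategoryTheory
open CategoryTheory.Limits
open AlgebraicGeometry
open TopologicalSpace
open Opposite
open TensorProduct
open Groth.Agent.Helper1
open Groth.Agent.Helper1.QcCech
open Groth.Agent.Lib.Helper4.BaseChgRing1
open Groth.Agent.Lib.Helper4.TenSec2
open Groth.Agent.Lib.Helper4.LocCech1
open Groth.Agent.Lib.Helper4.CechTen1
open Groth.Agent.Lib.Helper4.CechTen2

namespace Groth.Agent.Lib.Helper4.CechTen3

variable (A : Type u) [CommRing A] {X : Scheme.{u}} [X.Over (Spec (CommRingCat.of A))]
variable (F : X.Modules) {ι : Type u} (U : ι → X.Opens)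

attribute [local instance] secMod

lemma chain2 {C : Type*} [Category C] {X0 X1 X2 Y0 Y1 Y2 : C}
    {f0 : X0 ⟶ Y0} {f1 : X1 ⟶ Y1} {f2 : X2 ⟶ Y2}
    {a : X0 ⟶ X1} {b : X1 ⟶ X2} {a' : Y0 ⟶ Y1} {b' : Y1 ⟶ Y2}
    (hA : f0 ≫ a' = a ≫ f1) (hB : f1 ≫ b' = b ≫ f2) :
    f0 ≫ (a' ≫ b') = (a ≫ b) ≫ f2 := by
  rw [reassoc_of% hA, hB, Category.assoc]

lemma inv_comm {C : Type*} [Category C] {X Y : C} (ρ : X ⟶ Y) [IsIso ρ] (s : X ⟶ X) (t : Y ⟶ Y)
    (h : s ≫ ρ = ρ ≫ t) : t ≫ inv ρ = inv ρ ≫ s := by
  rw [IsIso.comp_inv_eq, Category.assoc, h, IsIso.inv_hom_id_assoc]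

/-- the Čech complex in abelian groups, from the module version -/
noncomputable abbrev CAb : CochainComplex AddCommGrpCat.{u} ℕ :=
  ((forget₂ (ModuleCat.{u} A) AddCommGrpCat.{u}).mapHomologicalComplex (ComplexShape.up ℕ)).obj
    (CAN A F U)

/-- components, additively -/
noncomputable def compsHom (n : ℕ) : (TCx.K U F.presheaf).X n →+ Co F U n where
  toFun := comps F U n
  map_zero' := by
    funext a
    exact map_zero (TCx.proj U F.presheaf n a).hom
  map_add' x y := by
    funext a
    exact map_add (TCx.proj U F.presheaf n a).hom x y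

/-- the comparison of Čech complexes -/
noncomputable def rho : TCx.K U F.presheaf ⟶ CAb A F U where
  f n := AddCommGrpCat.ofHom (compsHom F U n)
  comm' i j hij := by
    obtain rfl : i + 1 = j := hij
    apply ConcreteCategory.hom_ext
    intro x
    change ((CAN A F U).d i (i + 1)).hom (comps F U i x) =
      comps F U (i + 1) (((TCx.K U F.presheaf).d i (i + 1)).hom x)
    rw [CAN_d, comps_d]
    exact DdA_apply A F U i _

theorem isIso_rho : IsIso (rho A F U) := by
  haveI : ∀ n, IsIso ((rho A F U).f n) := by
    intro n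
    apply (ConcreteCategory.isIso_iff_bijective _).2
    exact ⟨comps_injective F U n, comps_surjective F U n⟩
  exact HomologicalComplex.Hom.isIso_of_components _


theorem resTop_toGlobal (W : X.Opens) (r : A) :
    Coh.resTop X (op W) (Coh.toGlobal (X ↘ Spec (CommRingCat.of A)) r) = alphaRing A X W r := by
  unfold alphaRing Coh.toGlobal Coh.resTop
  rw [Scheme.Hom.appLE]
  rfl

/-- multiplication by a scalar on the module Čech complex -/
noncomputable abbrev mulC (r : A) : CAN A F U ⟶ CAN A F U := r • 𝟙 _

theorem rho_smul (r : A) :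
    (cechComplexFunctor U).map
        (Coh.smulAb F (Coh.toGlobal (X ↘ Spec (CommRingCat.of A)) r)).hom ≫ rho A F U =
      rho A F U ≫ ((forget₂ (ModuleCat.{u} A) AddCommGrpCat.{u}).mapHomologicalComplex
        (ComplexShape.up ℕ)).map (mulC A F U r) := by
  apply HomologicalComplex.hom_ext
  intro n
  apply ConcreteCategory.hom_ext
  intro x
  change comps F U n (((cechComplexFunctor U).map
      (Coh.smulAb F (Coh.toGlobal (X ↘ Spec (CommRingCat.of A)) r)).hom).f n x) =
    r • comps F U n x
  funext a
  change (TCx.proj U F.presheaf n a).hom _ = r • (comps F U n x a)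
  refine (map_proj_apply U _ n a x).trans ?_
  rw [secMod_smul, ← resTop_toGlobal]
  rfl


theorem homologyMap_mulC (r : A) (p : ℕ) (x : (CAN A F U).homology p) :
    (HomologicalComplex.homologyMap (mulC A F U r) p).hom x = r • x := by
  have h : HomologicalComplex.homologyMap (mulC A F U r) p = r • 𝟙 _ := by
    have h1 : (HomologicalComplex.shortComplexFunctor (ModuleCat.{u} A) (ComplexShape.up ℕ) p).map
        (mulC A F U r) = r • 𝟙 _ := by
      ext <;> rfl
    change ShortComplex.homologyMap ((HomologicalComplex.shortComplexFunctor (ModuleCat.{u} A)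
      (ComplexShape.up ℕ) p).map (mulC A F U r)) = _
    rw [h1, ShortComplex.homologyMap_smul, ShortComplex.homologyMap_id]
    rfl
  rw [h]
  rfl

section Lin
variable [Finite ι] [F.IsQuasicoherent]
  (haff : ∀ (n : ℕ) (a : Fin (n + 1) → ι), IsAffineOpen (TCx.W U a)) (hcov : iSup U = ⊤) (p : ℕ)

/-- Čech to derived, for `F` itself -/
noncomputable def eF : CohTop.cechH F.presheaf U p ≃+ Coh.HH X F p :=
  AddEquiv.ofBijective
    (Groth.Agent.Lib.Helper4.PnE3.EE U (hTop U hcov) (Coh.toAb F) p)
    (by
      apply Groth.Agent.Lib.Helper4.PnE3.EE_bijective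
      intro q a r
      have h2 : IsAffineOpen (iInf fun k => U (a k)) := by
        rw [← TCx.W_eq_iInf]; exact haff q a
      exact QcAcyc.subsingleton_HU F _ h2 r)

theorem eF_apply (x : CohTop.cechH F.presheaf U p) :
    eF F U haff hcov p x =
      Groth.Agent.Lib.Helper4.PnE3.EE U (hTop U hcov) (Coh.toAb F) p x := rfl

/-- homology of the module Čech complex, as Čech cohomology -/
noncomputable def isoH :
    (forget₂ (ModuleCat.{u} A) AddCommGrpCat.{u}).obj ((CAN A F U).homology p) ≅
      CohTop.cechH F.presheaf U p :=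
  haveI := isIso_rho A F U
  (((CAN A F U).sc p).mapHomologyIso (forget₂ (ModuleCat.{u} A) AddCommGrpCat.{u})).symm ≪≫
    HomologicalComplex.homologyMapIso (asIso (rho A F U)).symm p

theorem isoH_nat (r : A) :
    (forget₂ (ModuleCat.{u} A) AddCommGrpCat.{u}).map
        (HomologicalComplex.homologyMap (mulC A F U r) p) ≫ (isoH A F U p).hom =
      (isoH A F U p).hom ≫ HomologicalComplex.homologyMap ((cechComplexFunctor U).map
        (Coh.smulAb F (Coh.toGlobal (X ↘ Spec (CommRingCat.of A)) r)).hom) p := by
  haveI := isIso_rho A F U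
  have h1 : (forget₂ (ModuleCat.{u} A) AddCommGrpCat.{u}).map
      (HomologicalComplex.homologyMap (mulC A F U r) p) ≫
      (((CAN A F U).sc p).mapHomologyIso (forget₂ (ModuleCat.{u} A) AddCommGrpCat.{u})).inv =
      (((CAN A F U).sc p).mapHomologyIso (forget₂ (ModuleCat.{u} A) AddCommGrpCat.{u})).inv ≫
      HomologicalComplex.homologyMap (((forget₂ (ModuleCat.{u} A)
        AddCommGrpCat.{u}).mapHomologicalComplex (ComplexShape.up ℕ)).map (mulC A F U r)) p :=
    ShortComplex.mapHomologyIso_inv_naturality
      ((HomologicalComplex.shortComplexFunctor _ _ p).map (mulC A F U r))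
      (forget₂ (ModuleCat.{u} A) AddCommGrpCat.{u})
  have h2 : HomologicalComplex.homologyMap (((forget₂ (ModuleCat.{u} A)
        AddCommGrpCat.{u}).mapHomologicalComplex (ComplexShape.up ℕ)).map (mulC A F U r)) p ≫
      HomologicalComplex.homologyMap (inv (rho A F U)) p =
      HomologicalComplex.homologyMap (inv (rho A F U)) p ≫
      HomologicalComplex.homologyMap ((cechComplexFunctor U).map
        (Coh.smulAb F (Coh.toGlobal (X ↘ Spec (CommRingCat.of A)) r)).hom) p := by
    have e : ((forget₂ (ModuleCat.{u} A) AddCommGrpCat.{u}).mapHomologicalComplex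
        (ComplexShape.up ℕ)).map (mulC A F U r) ≫ inv (rho A F U) =
        inv (rho A F U) ≫ (cechComplexFunctor U).map
          (Coh.smulAb F (Coh.toGlobal (X ↘ Spec (CommRingCat.of A)) r)).hom :=
      inv_comm _ _ _ (rho_smul A F U r)
    exact (HomologicalComplex.homologyMap_comp _ _ p).symm.trans
      ((congrArg (fun φ => HomologicalComplex.homologyMap φ p) e).trans
        (HomologicalComplex.homologyMap_comp _ _ p))
  exact chain2 h1 h2


/-- the comparison map on homology -/
noncomputable def toHH : (CAN A F U).homology p →+ Coh.HH X F p :=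
  (eF F U haff hcov p).toAddMonoidHom.comp (isoH A F U p).hom.hom

theorem toHH_apply (x : (CAN A F U).homology p) :
    toHH A F U haff hcov p x = eF F U haff hcov p ((isoH A F U p).hom.hom x) := rfl

theorem toHH_bijective : Function.Bijective (toHH A F U haff hcov p) :=
  (eF F U haff hcov p).bijective.comp
    (ConcreteCategory.bijective_of_isIso (isoH A F U p).hom)

theorem toHH_smul (r : A) (x : (CAN A F U).homology p) :
    toHH A F U haff hcov p (r • x) = r • toHH A F U haff hcov p x := by
  rw [← homologyMap_mulC A F U r p x, toHH_apply]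
  have h' : (isoH A F U p).hom.hom ((HomologicalComplex.homologyMap (mulC A F U r) p).hom x) =
      (HomologicalComplex.homologyMap ((cechComplexFunctor U).map
        (Coh.smulAb F (Coh.toGlobal (X ↘ Spec (CommRingCat.of A)) r)).hom) p).hom
        ((isoH A F U p).hom.hom x) := ConcreteCategory.congr_hom (isoH_nat A F U p r) x
  refine (congrArg (eF F U haff hcov p) h').trans ?_
  refine (eF_apply F U haff hcov p _).trans ?_
  exact Groth.Agent.Lib.Helper4.PnE3.EE_natural U (hTop U hcov)
    (Coh.smulAb F (Coh.toGlobal (X ↘ Spec (CommRingCat.of A)) r)) p _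

/-- the comparison, as a linear equivalence -/
noncomputable def linHH : (CAN A F U).homology p ≃ₗ[A] Coh.HH X F p :=
  LinearEquiv.ofBijective
    { toFun := toHH A F U haff hcov p
      map_add' := map_add _
      map_smul' := toHH_smul A F U haff hcov p }
    (toHH_bijective A F U haff hcov p)


include haff hcov in
theorem finite_CAN [IsNoetherianRing A] [IsProper (X ↘ Spec (CommRingCat.of A))]
    (hF : Coh.IsCoh F) : Module.Finite A ((CAN A F U).homology p) := by
  haveI := Groth.Agent.Lib.Helper4.T2Main1.t2 A X F hF p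
  exact Module.Finite.equiv (linHH A F U haff hcov p).symm

include haff hcov in
theorem finite_CZ [IsNoetherianRing A] [IsProper (X ↘ Spec (CommRingCat.of A))]
    (hF : Coh.IsCoh F) (i : ℤ) : Module.Finite A ((CZ A F U).homology i) := by
  by_cases hi : 0 ≤ i
  · obtain ⟨q, rfl⟩ := Int.eq_ofNat_of_zero_le hi
    haveI := finite_CAN A F U haff hcov q hF
    exact Module.Finite.equiv ((CAN A F U).extendHomologyIso ComplexShape.embeddingUpNat
      (j := q) (j' := (q : ℤ)) rfl).symm.toLinearEquiv
  · have hz : IsZero ((CZ A F U).homology i) := by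
      rw [← HomologicalComplex.exactAt_iff_isZero_homology]
      apply HomologicalComplex.extend_exactAt
      intro j hj
      apply hi
      rw [← hj]
      exact Int.natCast_nonneg j
    haveI := ModuleCat.subsingleton_of_isZero hz
    infer_instance

end Lin

theorem exists_bound_HH [QuasiSeparatedSpace X] [CompactSpace X] :
    ∃ d : ℕ, ∀ (G : X.Modules) [G.IsQuasicoherent] (n : ℕ), d ≤ n →
      Subsingleton (Coh.HH X G n) := by
  obtain ⟨d, hd⟩ := Groth.Agent.Helper1.QcsVan.exists_bound (X := X) ⊤
    (by simpa using isCompact_univ)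
  refine ⟨d, fun G _ n hn => ?_⟩
  have := hd G n hn
  exact (Groth.Agent.Helper3.HTerm.HEquiv (Opens.grothendieckTopology X) isTerminalTop
    (Coh.toAb G) n).subsingleton

end Groth.Agent.Lib.Helper4.CechTen3
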