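import Mathlib
import Groth.Agent.Lib.Helper4.ChowCov1
import Groth.Agent.Lib.Helper1.SchNoeth

/-!
# Finite affine covers with affine finite intersections on quasi-compact schemes separated over an affine base (helper4)
-/

set_option backward.isDefEq.respectTransparency.types false
set_option synthInstance.maxHeartbeats 400000
set_option autoImplicit false
set_option linter.unusedSectionVars false
set_option linter.style.haveILetI false
set_option linter.unusedSimpArgs false
universe u v w
open CategoryTheory
open CategoryTheory.Limits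
open AlgebraicGeometry
open TopologicalSpace
open Opposite
open Groth.Agent.Helper1

namespace Groth.Agent.Lib.Helper4.SepCover1

variable {R : CommRingCat.{u}} {X : Scheme.{u}} (fZ : X ⟶ Spec R) [IsSeparated fZ]

include fZ in
theorem isAffineOpen_inf {O V : X.Opens} (hO : IsAffineOpen O) (hV : IsAffineOpen V) :
    IsAffineOpen (O ⊓ V) :=
  Groth.Agent.Lib.Helper4.ChowCov1.isAffineOpen_inf_preimage fZ (𝟙 X) O hO V hV

include fZ in
theorem isAffineOpen_iInf_fin {ι : Type*} (U : ι → X.Opens) (hU : ∀ i, IsAffineOpen (U i)) :
    ∀ (m : ℕ) (a : Fin (m + 1) → ι), IsAffineOpen (⨅ k, U (a k)) := by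
  intro m
  induction m with
  | zero =>
    intro a
    have : (⨅ k, U (a k)) = U (a 0) := by
      apply le_antisymm (iInf_le _ 0)
      refine le_iInf fun k => ?_
      rw [Subsingleton.elim k 0]
    rw [this]
    exact hU _
  | succ m ih =>
    intro a
    have : (⨅ k, U (a k)) = U (a 0) ⊓ ⨅ k : Fin (m + 1), U (a k.succ) := by
      apply le_antisymm
      · exact le_inf (iInf_le _ 0) (le_iInf fun k => iInf_le _ k.succ)
      · refine le_iInf fun k => ?_
        refine Fin.cases ?_ (fun j => ?_) k
        · exact inf_le_left
        · exact inf_le_right.trans (iInf_le _ j)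
    rw [this]
    exact isAffineOpen_inf fZ (hU _) (ih _)

include fZ in
/-- a finite affine open cover with affine finite intersections -/
theorem exists_cover [CompactSpace X] :
    ∃ (ι : Type u) (_ : Finite ι) (U : ι → X.Opens), iSup U = ⊤ ∧
      ∀ (n : ℕ) (a : Fin (n + 1) → ι), IsAffineOpen (TCx.W U a) := by
  obtain ⟨ι, hfin, U, hcov⟩ := SchNoeth.exists_finite_affine_cover X
  refine ⟨ι, hfin, fun i => (U i).1, hcov, fun m a => ?_⟩
  rw [TCx.W_eq_iInf]
  exact isAffineOpen_iInf_fin fZ (fun i => (U i).1) (fun i => (U i).2) m a

end Groth.Agent.Lib.Helper4.SepCover1
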