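import Mathlib
import Groth.Prelude.Def_ModSite2
import Groth.Prelude.Def_ExtSupp
import Groth.Agent.Lib.Helper5.Misc.RestrExact

/-!
# The adjunction quotOn ⊣ sectOn on a ringed site; modules null on U and their left orthogonal (helper4)
-/

set_option backward.isDefEq.respectTransparency.types false
set_option synthInstance.maxHeartbeats 400000
set_option autoImplicit false
set_option linter.unusedSectionVars false
set_option linter.style.haveILetI false
set_option linter.unusedSimpArgs false
universe u v w
open CategoryTheory CategoryTheory.Limits Opposite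

namespace Groth.Agent.Lib.Helper4.QSAdj

variable {C : Type u} [SmallCategory C] {J : GrothendieckTopology C}
  (O : Sheaf J CommRingCat.{u}) (U : C)

open Groth.Agent.Lib.Helper5 in
instance : PreservesFiniteLimits (ModSite.restr O U) := RestrExact.preservesFiniteLimits_restr O U
open Groth.Agent.Lib.Helper5 in
instance : PreservesFiniteColimits (ModSite.restr O U) := RestrExact.preservesFiniteColimits_restr O U

/-- a module all of whose maps to modules null on `U` vanish -/
def IsT (X : ModSite.Mod O) : Prop :=
  ∀ (N : ModSite.Mod O), ModSite.IsNullOn O U N → ∀ f : X ⟶ N, f = 0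

variable {O U}

lemma isT_extZero (Q : ModSite.Mod (O.over U)) : IsT O U ((ModSite.extZero O U).obj Q) := by
  intro N hN f
  apply ((ModSite.extZeroAdj O U).homEquiv Q N).injective
  exact hN.eq_of_tgt _ _

lemma IsT.of_iso {X Y : ModSite.Mod O} (e : X ≅ Y) (h : IsT O U X) : IsT O U Y := by
  intro N hN f
  have := h N hN (e.hom ≫ f)
  rw [← cancel_epi e.hom, this, comp_zero]

lemma IsT.of_epi {X Y : ModSite.Mod O} (p : X ⟶ Y) [Epi p] (h : IsT O U X) : IsT O U Y := by
  intro N hN f
  have := h N hN (p ≫ f)
  rw [← cancel_epi p, this, comp_zero]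

lemma isNullOn_of_iso {X Y : ModSite.Mod O} (e : X ≅ Y) (h : ModSite.IsNullOn O U X) :
    ModSite.IsNullOn O U Y :=
  IsZero.of_iso h ((ModSite.restr O U).mapIso e.symm)


section adj

variable [ModSite.HasPushOver O U]

instance pushOver_additive : (ModSite.pushOver O U).Additive :=
  (ModSite.restrPushOverAdj O U).right_adjoint_additive

lemma restr_map_eq_zero_iff {A B : ModSite.Mod O} (h : A ⟶ B) :
    (ModSite.restr O U).map h = 0 ↔ h ≫ (ModSite.restrPushOverAdj O U).unit.app B = 0 := by
  have key : (ModSite.restrPushOverAdj O U).homEquiv A ((ModSite.restr O U).obj B)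
      ((ModSite.restr O U).map h) = h ≫ (ModSite.restrPushOverAdj O U).unit.app B := by
    rw [Adjunction.homEquiv_unit]
    exact ((ModSite.restrPushOverAdj O U).unit.naturality h).symm
  constructor
  · intro h0
    rw [← key, h0, Adjunction.homEquiv_unit, Functor.map_zero, comp_zero]
  · intro h0
    apply ((ModSite.restrPushOverAdj O U).homEquiv A ((ModSite.restr O U).obj B)).injective
    rw [key, h0, Adjunction.homEquiv_unit, Functor.map_zero, comp_zero]

lemma isNullOn_sectOn (F : ModSite.Mod O) : ModSite.IsNullOn O U ((ModSite.sectOn O U).obj F) := by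
  have h0 : (ModSite.restr O U).map ((ModSite.sectOnι O U).app F) = 0 :=
    (restr_map_eq_zero_iff _).2 (kernel.condition _)
  haveI : Mono ((ModSite.sectOnι O U).app F) := by
    change Mono (kernel.ι _)
    infer_instance
  haveI : Mono ((ModSite.restr O U).map ((ModSite.sectOnι O U).app F)) := inferInstance
  exact IsZero.of_mono_eq_zero _ h0

lemma restr_map_eq_zero_of_src {A B : ModSite.Mod O} (hA : ModSite.IsNullOn O U A) (h : A ⟶ B) :
    (ModSite.restr O U).map h = 0 := hA.eq_of_src _ _

lemma restr_map_eq_zero_of_tgt {A B : ModSite.Mod O} (hB : ModSite.IsNullOn O U B) (h : A ⟶ B) :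
    (ModSite.restr O U).map h = 0 := hB.eq_of_tgt _ _

lemma counit_comp_eq_zero_iff {A B : ModSite.Mod O} (h : A ⟶ B) :
    (ModSite.extZeroAdj O U).counit.app A ≫ h = 0 ↔ (ModSite.restr O U).map h = 0 :=
  (ExtSupp.mem_homZ_iff U h).symm

/-- the bijection `Hom(A/A_U, B) ≃ Hom(A, Γ_Z B)` -/
noncomputable def qsHomEquiv (A B : ModSite.Mod O) :
    ((ModSite.quotOn O U).obj A ⟶ B) ≃ (A ⟶ (ModSite.sectOn O U).obj B) where
  toFun f := kernel.lift _ ((ModSite.quotOnπ O U).app A ≫ f) (by
    apply (restr_map_eq_zero_iff _).1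
    rw [Functor.map_comp,
      restr_map_eq_zero_of_src (ExtSupp.isNullOn_quotOn O U A) f, comp_zero])
  invFun g := cokernel.desc _ (g ≫ (ModSite.sectOnι O U).app B) (by
    apply (counit_comp_eq_zero_iff _).2
    rw [Functor.map_comp,
      restr_map_eq_zero_of_src (isNullOn_sectOn B), comp_zero])
  left_inv f := by
    apply coequalizer.hom_ext
    erw [cokernel.π_desc]
    erw [kernel.lift_ι]
    rfl
  right_inv g := by
    apply equalizer.hom_ext
    erw [kernel.lift_ι]
    erw [cokernel.π_desc]
    rfl

end adj


section adj2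

variable [ModSite.HasPushOver O U]

lemma qsHomEquiv_ι {A B : ModSite.Mod O} (f : (ModSite.quotOn O U).obj A ⟶ B) :
    qsHomEquiv A B f ≫ (ModSite.sectOnι O U).app B = (ModSite.quotOnπ O U).app A ≫ f := by
  erw [kernel.lift_ι]

lemma π_qsHomEquiv_symm {A B : ModSite.Mod O} (g : A ⟶ (ModSite.sectOn O U).obj B) :
    (ModSite.quotOnπ O U).app A ≫ (qsHomEquiv A B).symm g = g ≫ (ModSite.sectOnι O U).app B := by
  erw [cokernel.π_desc]

instance (A : ModSite.Mod O) : Epi ((ModSite.quotOnπ O U).app A) := by
  change Epi (cokernel.π _)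
  infer_instance

instance (A : ModSite.Mod O) : Mono ((ModSite.sectOnι O U).app A) := by
  change Mono (kernel.ι _)
  infer_instance

/-- the adjunction `(A ↦ A/A_U) ⊣ Γ_Z` -/
noncomputable def qsAdj : ModSite.quotOn O U ⊣ ModSite.sectOn O U :=
  Adjunction.mkOfHomEquiv
    { homEquiv := qsHomEquiv
      homEquiv_naturality_left_symm := by
        intro X' X Y f g
        rw [← cancel_epi ((ModSite.quotOnπ O U).app X'), π_qsHomEquiv_symm]
        have h1 := (ModSite.quotOnπ O U).naturality f
        dsimp only [Functor.id_map, Functor.id_obj] at h1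
        rw [← Category.assoc, ← h1]
        simp only [Category.assoc]
        rw [π_qsHomEquiv_symm]
      homEquiv_naturality_right := by
        intro X Y Y' f g
        rw [← cancel_mono ((ModSite.sectOnι O U).app Y'), qsHomEquiv_ι]
        have h1 := (ModSite.sectOnι O U).naturality g
        dsimp only [Functor.id_map, Functor.id_obj] at h1
        rw [Category.assoc, h1]
        simp only [← Category.assoc]
        rw [qsHomEquiv_ι] }

lemma qsAdj_homEquiv {A B : ModSite.Mod O} (f : (ModSite.quotOn O U).obj A ⟶ B) :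
    (qsAdj (O := O) (U := U)).homEquiv A B f = qsHomEquiv A B f := by
  simp [qsAdj]

end adj2

end Groth.Agent.Lib.Helper4.QSAdj
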