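import Mathlib
import Groth.Prelude.Def_ModSite2
import Groth.Prelude.Def_ExtSupp
import Groth.Agent.Lib.Helper4.QSAdj

/-!
# Local lifting and separatedness for sheaves of modules on a site; a criterion for a cokernel to be null on U (helper4)
-/

set_option backward.isDefEq.respectTransparency.types false
set_option synthInstance.maxHeartbeats 400000
set_option autoImplicit false
set_option linter.unusedSectionVars false
set_option linter.style.haveILetI false
set_option linter.unusedSimpArgs false
universe u v w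
open CategoryTheory CategoryTheory.Limits Opposite

namespace Groth.Agent.Lib.Helper4.QSLocal

open Groth.Agent.Lib.Helper4.QSAdj

variable {C : Type u} [SmallCategory C] {J : GrothendieckTopology C}

lemma isSheaf_forget (F : Sheaf J AddCommGrpCat.{u}) :
    Presieve.IsSheaf J (F.obj ⋙ forget AddCommGrpCat.{u}) :=
  (isSheaf_iff_isSheaf_of_type J _).1
    ((Presheaf.isSheaf_iff_isSheaf_forget J F.obj (forget AddCommGrpCat.{u})).1 F.property)

lemma sheaf_ext (F : Sheaf J AddCommGrpCat.{u}) {V : C} {S : Sieve V} (hS : S ∈ J V)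
    {x y : F.obj.obj (op V)}
    (h : ∀ ⦃W : C⦄ (f : W ⟶ V), S f → F.obj.map f.op x = F.obj.map f.op y) : x = y :=
  ((isSheaf_forget F) S hS).isSeparatedFor.ext (fun W f hf => h f hf)

variable {O : Sheaf J CommRingCat.{u}}

/-- sections of a sheaf of modules agreeing on a covering sieve are equal -/
lemma mod_ext (M : ModSite.Mod O) {V : C} {S : Sieve V} (hS : S ∈ J V) {x y : ModSite.sect M V}
    (h : ∀ ⦃W : C⦄ (f : W ⟶ V), S f → M.val.map f.op x = M.val.map f.op y) : x = y :=
  sheaf_ext (ModSite.toAb M) hS h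

/-- an epimorphism of sheaves of modules is locally surjective -/
lemma exists_local_lift {M N : ModSite.Mod O} (f : M ⟶ N) [Epi f] {V : C} (s : ModSite.sect N V) :
    ∃ S ∈ J V, ∀ ⦃W : C⦄ (g : W ⟶ V), S g →
      ∃ t : ModSite.sect M W, (f.val.app (op W)).hom t = N.val.map g.op s := by
  haveI : PreservesColimitsOfSize.{0, 0} (SheafOfModules.toSheaf.{u} (ModSite.ringSh O)) :=
    preservesColimitsOfSize_shrink.{0, u, 0, u} _
  haveI : (SheafOfModules.toSheaf.{u} (ModSite.ringSh O)).PreservesEpimorphisms :=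
    preservesEpimorphisms_of_preservesColimitsOfShape _
  have h1 : Epi ((SheafOfModules.toSheaf (ModSite.ringSh O)).map f) := inferInstance
  have hls : Sheaf.IsLocallySurjective ((SheafOfModules.toSheaf (ModSite.ringSh O)).map f) :=
    (Sheaf.isLocallySurjective_iff_epi' (φ := (SheafOfModules.toSheaf (ModSite.ringSh O)).map f)).2 h1
  refine ⟨_, Presheaf.imageSieve_mem J
    ((SheafOfModules.toSheaf (ModSite.ringSh O)).map f).hom (U := op V) s, ?_⟩
  intro W g hg
  obtain ⟨t, ht⟩ := hg
  exact ⟨t, ht⟩


lemma comp_val_app_apply {X A B : ModSite.Mod O} (c : X ⟶ A) (p : A ⟶ B) (W : C)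
    (y : ModSite.sect X W) :
    ((c ≫ p).val.app (op W)).hom y = (p.val.app (op W)).hom ((c.val.app (op W)).hom y) := rfl

lemma zero_val_app_apply {X B : ModSite.Mod O} (W : C) (y : ModSite.sect X W) :
    ((0 : X ⟶ B).val.app (op W)).hom y = 0 := rfl

/-- if `c` is surjective on sections over all objects mapping to `U`, its cokernel is null on `U` -/
lemma isNullOn_cokernel_of_surjective (U : C) {X A : ModSite.Mod O} (c : X ⟶ A)
    (h : ∀ ⦃V : C⦄ (_ : V ⟶ U) (a : ModSite.sect A V),
      ∃ y : ModSite.sect X V, (c.val.app (op V)).hom y = a) :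
    ModSite.IsNullOn O U (cokernel c) := by
  rw [ExtSupp.isNullOn_iff]
  intro V g x
  obtain ⟨S, hS, hlift⟩ := exists_local_lift (cokernel.π c) x
  refine mod_ext (cokernel c) hS ?_
  intro W f hf
  obtain ⟨a, ha⟩ := hlift f hf
  obtain ⟨y, hy⟩ := h (f ≫ g) a
  rw [← ha, ← hy, ← comp_val_app_apply, cokernel.condition, zero_val_app_apply, map_zero]
  rfl

end Groth.Agent.Lib.Helper4.QSLocal
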