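import Mathlib
import Groth.Prelude.Def_ModSite2
import Groth.Prelude.Def_ExtSupp
import Groth.Agent.Lib.Helper4.QSAdj
import Groth.Agent.Lib.Helper4.QSLocal
import Groth.Agent.Lib.Helper5.Misc.FreeOn
import Groth.Agent.Lib.Helper5.Misc.ShriekSheaf
import Groth.Agent.Lib.Helper3.QcSum4

/-!
# quotOn preserves monomorphisms and Γ_Z preserves injectives, for any object U of a ringed site (helper4)
-/

set_option backward.isDefEq.respectTransparency.types false
set_option synthInstance.maxHeartbeats 400000
set_option autoImplicit false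
set_option linter.unusedSectionVars false
set_option linter.style.haveILetI false
set_option linter.unusedSimpArgs false
universe u v w
open CategoryTheory CategoryTheory.Limits Opposite

namespace Groth.Agent.Lib.Helper4.QSLocal2

open Groth.Agent.Lib.Helper4.QSAdj Groth.Agent.Lib.Helper4.QSLocal Groth.Agent.Lib.Helper5.FreeOn

variable {C : Type u} [SmallCategory C] {J : GrothendieckTopology C}
  {O : Sheaf J CommRingCat.{u}}

lemma freeOnHomEquiv_zero (W : C) (F : ModSite.Mod O) :
    freeOnHomEquiv O W F 0 = 0 := by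
  have h := Groth.Agent.Helper3.QcSum.freeOnHomEquiv_add O W (F := F) 0 0
  rw [add_zero] at h
  exact left_eq_add.mp h

/-- a monomorphism of sheaves of modules is injective on sections -/
lemma eq_zero_of_mono {A B : ModSite.Mod O} (f : A ⟶ B) [Mono f] {W : C} (a : ModSite.sect A W)
    (h : (f.val.app (op W)).hom a = 0) : a = 0 := by
  have h1 : (freeOnHomEquiv O W A).symm a ≫ f = 0 := by
    apply (freeOnHomEquiv O W B).injective
    rw [freeOnHomEquiv_naturality, Equiv.apply_symm_apply, freeOnHomEquiv_zero]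
    exact h
  have h2 : (freeOnHomEquiv O W A).symm a = 0 := by
    rw [← cancel_mono f, h1, zero_comp]
  have h3 := congrArg (freeOnHomEquiv O W A) h2
  rw [Equiv.apply_symm_apply, freeOnHomEquiv_zero] at h3
  exact h3

/-- sections of a kernel -/
lemma exists_kernel_section {A B : ModSite.Mod O} (g : A ⟶ B) {W : C} (a : ModSite.sect A W)
    (h : (g.val.app (op W)).hom a = 0) :
    ∃ k : ModSite.sect (kernel g) W, ((kernel.ι g).val.app (op W)).hom k = a := by
  have h1 : (freeOnHomEquiv O W A).symm a ≫ g = 0 := by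
    apply (freeOnHomEquiv O W B).injective
    rw [freeOnHomEquiv_naturality, Equiv.apply_symm_apply, freeOnHomEquiv_zero]
    exact h
  refine ⟨freeOnHomEquiv O W _ (kernel.lift g _ h1), ?_⟩
  have h2 := freeOnHomEquiv_naturality O W (kernel.lift g _ h1) (kernel.ι g)
  rw [kernel.lift_ι, Equiv.apply_symm_apply] at h2
  exact h2.symm


lemma map_val_app_apply {M N : ModSite.Mod O} (f : M ⟶ N) {V W : C} (g : W ⟶ V)
    (s : ModSite.sect M V) :
    (f.val.app (op W)).hom (M.val.map g.op s) = N.val.map g.op ((f.val.app (op V)).hom s) :=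
  PresheafOfModules.naturality_apply f.val g.op s

/-- an element killed by the projection to a cokernel is locally in the image -/
lemma exists_local_lift_of_cokernel_zero {X B : ModSite.Mod O} (c : X ⟶ B) {W : C}
    (b : ModSite.sect B W) (h : ((cokernel.π c).val.app (op W)).hom b = 0) :
    ∃ S ∈ J W, ∀ ⦃W' : C⦄ (g : W' ⟶ W), S g →
      ∃ t : ModSite.sect X W', (c.val.app (op W')).hom t = B.val.map g.op b := by
  obtain ⟨k, hk⟩ := exists_kernel_section (cokernel.π c) b h
  haveI : Epi (Abelian.factorThruImage c) := inferInstance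
  obtain ⟨S, hS, hl⟩ := exists_local_lift (Abelian.factorThruImage c) k
  refine ⟨S, hS, fun W' g hg => ?_⟩
  obtain ⟨t, ht⟩ := hl g hg
  refine ⟨t, ?_⟩
  have h1 : c = Abelian.factorThruImage c ≫ kernel.ι (cokernel.π c) :=
    (Abelian.image.fac c).symm
  rw [← hk, ← map_val_app_apply, ← ht]
  conv_lhs => rw [h1]
  rfl


lemma mono_of_injective_sections {A B : ModSite.Mod O} (f : A ⟶ B)
    (h : ∀ (W : C) (a : ModSite.sect A W), (f.val.app (op W)).hom a = 0 → a = 0) : Mono f := by
  apply Preadditive.mono_of_cancel_zero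
  intro Z g hg
  apply SheafOfModules.hom_ext
  apply PresheafOfModules.hom_ext
  intro W
  apply ModuleCat.hom_ext
  apply LinearMap.ext
  intro z
  have h1 : (f.val.app W).hom ((g.val.app W).hom z) = 0 := by
    have := congrArg (fun m : Z ⟶ B => (m.val.app W).hom z) hg
    exact this
  exact h W.unop _ h1


section star

open Groth.Agent.Lib.Helper5 Groth.Agent.Lib.Helper5.TensorSheaf Groth.Agent.Lib.Helper5.ShriekSheaf

variable (U : C)

lemma star' (G : ModSite.Mod (O.over U)) {V : C} (t : ModSite.sect ((extZero' O U).obj G) V) :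
    ∃ S ∈ J V, ∀ ⦃W : C⦄ (g : W ⟶ V), S g →
      ((extZero' O U).obj G).val.map g.op t = 0 ∨ Nonempty (W ⟶ U) := by
  obtain ⟨P, hP⟩ : ∃ P : PM O, P = (shr O U).obj ((fgt (O.over U)).obj G) := ⟨_, rfl⟩
  have hls := (W_unit' ((shr O U).obj ((fgt (O.over U)).obj G))).isLocallySurjective
  refine ⟨_, Presheaf.imageSieve_mem J ((PresheafOfModules.toPresheaf _).map
    ((unit' O).app ((shr O U).obj ((fgt (O.over U)).obj G)))) (U := op V) t, ?_⟩
  intro W g hg
  obtain ⟨p, hp⟩ := hg
  by_cases hW : Nonempty (W ⟶ U)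
  · exact Or.inr hW
  · left
    have hp0 : p = 0 := by
      have : ∀ x : Shriek.sec (R := Rg O) (U := U) ((fgt (O.over U)).obj G) W, x = 0 :=
        fun x => DFinsupp.ext (fun i => (hW ⟨i⟩).elim)
      exact this p
    rw [hp0] at hp
    refine hp.symm.trans ?_
    exact map_zero _

lemma star (G : ModSite.Mod (O.over U)) {V : C} (t : ModSite.sect ((ModSite.extZero O U).obj G) V) :
    ∃ S ∈ J V, ∀ ⦃W : C⦄ (g : W ⟶ V), S g →
      ((ModSite.extZero O U).obj G).val.map g.op t = 0 ∨ Nonempty (W ⟶ U) := by
  obtain ⟨e, he⟩ : ∃ e : (extZero' O U).obj G ≅ (ModSite.extZero O U).obj G,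
    e = (extZeroIso O U).app G := ⟨_, rfl⟩
  obtain ⟨S, hS, h⟩ := star' U G ((e.inv.val.app (op V)).hom t)
  refine ⟨S, hS, fun W g hg => ?_⟩
  rcases h g hg with h0 | hW
  · left
    have h1 : (e.hom.val.app (op V)).hom ((e.inv.val.app (op V)).hom t) = t := by
      rw [← comp_val_app_apply, e.inv_hom_id]
      rfl
    rw [← h1, ← map_val_app_apply, h0]
    exact map_zero (e.hom.val.app (op W)).hom
  · exact Or.inr hW

end star


lemma mod_eq_zero (M : ModSite.Mod O) {V : C} {S : Sieve V} (hS : S ∈ J V) {x : ModSite.sect M V}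
    (h : ∀ ⦃W : C⦄ (f : W ⟶ V), S f → M.val.map f.op x = 0) : x = 0 :=
  mod_ext M hS (fun W f hf => (h f hf).trans (map_zero (M.val.map f.op).hom).symm)

section mono

variable (U : C) [ModSite.HasPushOver O U]

/-- the counit `j_!j^*B ⟶ B`, with normalised source and target -/
noncomputable abbrev cou (B : ModSite.Mod O) :
    (ModSite.extZero O U).obj ((ModSite.restr O U).obj B) ⟶ B :=
  (ModSite.extZeroAdj O U).counit.app B

/-- the projection `B ⟶ B/B_U`, with normalised source -/
noncomputable abbrev prj (B : ModSite.Mod O) : B ⟶ (ModSite.quotOn O U).obj B :=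
  (ModSite.quotOnπ O U).app B

/-- **`A ↦ A/A_U` preserves monomorphisms** (for any object `U` of the site). -/
theorem quotOn_map_mono {A B : ModSite.Mod O} (f : A ⟶ B) [Mono f] :
    Mono ((ModSite.quotOn O U).map f) := by
  have hπB' : prj U B = cokernel.π (cou U B) := rfl
  haveI : Epi (prj U A) := by
    change Epi (cokernel.π _)
    infer_instance
  have nat : f ≫ prj U B = prj U A ≫ (ModSite.quotOn O U).map f :=
    (ModSite.quotOnπ O U).naturality f
  apply mono_of_injective_sections
  intro V q hq
  obtain ⟨S, hS, hl⟩ := exists_local_lift (prj U A) q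
  refine mod_eq_zero _ hS ?_
  intro W g hg
  obtain ⟨a, ha⟩ := hl g hg
  have hb : ((prj U B).val.app (op W)).hom ((f.val.app (op W)).hom a) = 0 := by
    rw [← comp_val_app_apply, nat, comp_val_app_apply, ha, map_val_app_apply, hq]
    exact map_zero _
  rw [hπB'] at hb
  obtain ⟨S', hS', hl'⟩ := exists_local_lift_of_cokernel_zero (cou U B) _ hb
  refine mod_eq_zero _ hS' ?_
  intro W' g' hg'
  obtain ⟨t, ht⟩ := hl' g' hg'
  obtain ⟨S'', hS'', hst⟩ := star U _ t
  refine mod_eq_zero _ hS'' ?_
  intro W'' g'' hg''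
  rcases hst g'' hg'' with h0 | hu
  · have h1 : (f.val.app (op W'')).hom (A.val.map g''.op (A.val.map g'.op a)) = 0 := by
      rw [map_val_app_apply, map_val_app_apply, ← ht, ← map_val_app_apply, h0]
      exact map_zero _
    have h2 := eq_zero_of_mono f _ h1
    rw [← ha, ← map_val_app_apply, ← map_val_app_apply, h2]
    exact map_zero _
  · obtain ⟨u⟩ := hu
    exact (ExtSupp.isNullOn_iff O U _).1 (ExtSupp.isNullOn_quotOn O U A) u _

instance : (ModSite.quotOn O U).PreservesMonomorphisms where
  preserves f _ := quotOn_map_mono U f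

/-- `Γ_Z` preserves injective objects. -/
instance injective_sectOn (Q : ModSite.Mod O) [Injective Q] :
    Injective ((ModSite.sectOn O U).obj Q) :=
  (qsAdj (O := O) (U := U)).map_injective Q inferInstance

end mono

end Groth.Agent.Lib.Helper4.QSLocal2
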