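import Mathlib
import Groth.Prelude.Def_ModSite2
import Groth.Prelude.Def_ExtSupp
import Groth.Agent.Lib.Helper4.QSAdj
import Groth.Agent.Lib.Helper5.Misc.TensorSES
import Groth.Agent.Lib.Helper5.Misc.ShriekProj
import Groth.Agent.Lib.Helper5.Misc.TensorOver
import Groth.Agent.Lib.Helper5.Misc.TensorSheaf

/-!
# quotOn commutes with tensor products; Γ_Z ℋom(M,-) ≅ ℋom(M,Γ_Z -) ≅ ℋom(M/M_U,-) (helper4)
-/

set_option backward.isDefEq.respectTransparency.types false
set_option synthInstance.maxHeartbeats 400000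
set_option autoImplicit false
set_option linter.unusedSectionVars false
set_option linter.style.haveILetI false
set_option linter.unusedSimpArgs false
universe u v w
open CategoryTheory CategoryTheory.Limits Opposite

namespace Groth.Agent.Lib.Helper4.QSTensor

open Groth.Agent.Lib.Helper4.QSAdj

variable {C : Type u} [SmallCategory C] {J : GrothendieckTopology C}
  {O : Sheaf J CommRingCat.{u}} {U : C} [ModSite.HasPushOver O U]

/-- **Lemma Q**: a cokernel `X → A → N → 0` with `X` left orthogonal to null modules and `N` null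
is `A/A_U`. -/
noncomputable def quotOnIso {X A N : ModSite.Mod O} (f : X ⟶ A) (p : A ⟶ N) (w : f ≫ p = 0)
    (hp : IsColimit (CokernelCofork.ofπ p w)) (hX : IsT O U X) (hN : ModSite.IsNullOn O U N) :
    (ModSite.quotOn O U).obj A ≅ N where
  hom := cokernel.desc _ p (by
    apply (counit_comp_eq_zero_iff _).2
    exact restr_map_eq_zero_of_tgt hN p)
  inv := hp.desc (CokernelCofork.ofπ ((ModSite.quotOnπ O U).app A)
    (hX _ (ExtSupp.isNullOn_quotOn O U A) _))
  hom_inv_id := by
    apply coequalizer.hom_ext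
    erw [cokernel.π_desc_assoc]
    exact (hp.fac _ WalkingParallelPair.one).trans (Category.comp_id _).symm
  inv_hom_id := by
    apply Cofork.IsColimit.hom_ext hp
    have h1 : p ≫ hp.desc (CokernelCofork.ofπ ((ModSite.quotOnπ O U).app A)
        (hX _ (ExtSupp.isNullOn_quotOn O U A) _)) = (ModSite.quotOnπ O U).app A :=
      hp.fac _ WalkingParallelPair.one
    change p ≫ _ ≫ _ = p ≫ 𝟙 _
    rw [← Category.assoc, h1]
    erw [cokernel.π_desc]
    exact (Category.comp_id _).symm

lemma π_quotOnIso_hom {X A N : ModSite.Mod O} (f : X ⟶ A) (p : A ⟶ N) (w : f ≫ p = 0)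
    (hp : IsColimit (CokernelCofork.ofπ p w)) (hX : IsT O U X) (hN : ModSite.IsNullOn O U N) :
    (ModSite.quotOnπ O U).app A ≫ (quotOnIso f p w hp hX hN).hom = p := by
  erw [cokernel.π_desc]


open Groth.Agent.Lib.Helper5

/-- `- ⊗ M` -/
noncomputable abbrev tR (M : ModSite.Mod O) : ModSite.Mod O ⥤ ModSite.Mod O :=
  (ModSite.tensorBi O).flip.obj M

/-- `P ⊗ -` -/
noncomputable abbrev tL (P : ModSite.Mod O) : ModSite.Mod O ⥤ ModSite.Mod O :=
  (ModSite.tensorBi O).obj P

/-- symmetry of the tensor product, objectwise -/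
noncomputable def symmIso (P M : ModSite.Mod O) : (tL P).obj M ≅ (tL M).obj P :=
  (TensorSES.objIsoFlipObj P).app M

lemma isT_tensor_extZero (Q : ModSite.Mod (O.over U)) (M : ModSite.Mod O) :
    IsT O U ((tR M).obj ((ModSite.extZero O U).obj Q)) :=
  (isT_extZero _).of_iso (ShriekSheaf.projIso Q M)

lemma isT_tensor_extZero' (P : ModSite.Mod O) (Q : ModSite.Mod (O.over U)) :
    IsT O U ((tL P).obj ((ModSite.extZero O U).obj Q)) :=
  (isT_tensor_extZero Q P).of_iso (symmIso _ _)

lemma isNullOn_tensor_left {N : ModSite.Mod O} (hN : ModSite.IsNullOn O U N) (M : ModSite.Mod O) :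
    ModSite.IsNullOn O U ((tR M).obj N) := by
  have h1 : IsZero (((ModSite.tensorBi (O.over U)).flip.obj ((ModSite.restr O U).obj M)).obj
      ((ModSite.restr O U).obj N)) :=
    Functor.map_isZero _ hN
  exact IsZero.of_iso h1 (TensorOver.restrTensorIso O U N M)

lemma isNullOn_tensor_right (P : ModSite.Mod O) {N : ModSite.Mod O}
    (hN : ModSite.IsNullOn O U N) : ModSite.IsNullOn O U ((tL P).obj N) :=
  isNullOn_of_iso (symmIso _ _) (isNullOn_tensor_left hN P)


instance (M : ModSite.Mod O) : PreservesFiniteColimits (tR M) :=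
  PreservesColimitsOfSize.preservesFiniteColimits.{u, u} _

instance (P : ModSite.Mod O) : PreservesFiniteColimits (tL P) :=
  PreservesColimitsOfSize.preservesFiniteColimits.{u, u} _

instance (P : ModSite.Mod O) : (tL P).Additive := by
  haveI : PreservesFiniteColimits (tL P) := inferInstance
  haveI := preservesBinaryBiproducts_of_preservesBinaryCoproducts (tL P)
  exact Functor.additive_of_preservesBinaryBiproducts _

/-- the cokernel cofork `j_!j^*P → P → P/P_U` -/
noncomputable abbrev qCofork (P : ModSite.Mod O) :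
    CokernelCofork ((ModSite.extZeroAdj O U).counit.app P) :=
  CokernelCofork.ofπ ((ModSite.quotOnπ O U).app P) (cokernel.condition _)

noncomputable def qCoforkIsColimit (P : ModSite.Mod O) : IsColimit (qCofork (U := U) P) :=
  cokernelIsCokernel _

/-- `(P ⊗ M)/(P ⊗ M)_U ≅ (P/P_U) ⊗ M` -/
noncomputable def isoA (P M : ModSite.Mod O) :
    (ModSite.quotOn O U).obj ((tR M).obj P) ≅ (tR M).obj ((ModSite.quotOn O U).obj P) :=
  quotOnIso ((tR M).map ((ModSite.extZeroAdj O U).counit.app P))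
    ((tR M).map ((ModSite.quotOnπ O U).app P)) ((qCofork P).map_condition (tR M))
    (CokernelCofork.mapIsColimit (qCofork P) (qCoforkIsColimit P) (tR M))
    (isT_tensor_extZero _ M) (isNullOn_tensor_left (ExtSupp.isNullOn_quotOn O U P) M)

lemma π_isoA_hom (P M : ModSite.Mod O) :
    (ModSite.quotOnπ O U).app ((tR M).obj P) ≫ (isoA (U := U) P M).hom =
      (tR M).map ((ModSite.quotOnπ O U).app P) :=
  π_quotOnIso_hom _ _ _ _ _ _

/-- `(P ⊗ M)/(P ⊗ M)_U ≅ P ⊗ (M/M_U)` -/
noncomputable def isoC (P M : ModSite.Mod O) :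
    (ModSite.quotOn O U).obj ((tL P).obj M) ≅ (tL P).obj ((ModSite.quotOn O U).obj M) :=
  quotOnIso ((tL P).map ((ModSite.extZeroAdj O U).counit.app M))
    ((tL P).map ((ModSite.quotOnπ O U).app M)) ((qCofork M).map_condition (tL P))
    (CokernelCofork.mapIsColimit (qCofork M) (qCoforkIsColimit M) (tL P))
    (isT_tensor_extZero' P _) (isNullOn_tensor_right P (ExtSupp.isNullOn_quotOn O U M))

lemma π_isoC_hom (P M : ModSite.Mod O) :
    (ModSite.quotOnπ O U).app ((tL P).obj M) ≫ (isoC (U := U) P M).hom =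
      (tL P).map ((ModSite.quotOnπ O U).app M) :=
  π_quotOnIso_hom _ _ _ _ _ _


variable (U) in
/-- `(- ⊗ M) ⋙ quotOn ≅ quotOn ⋙ (- ⊗ M)` -/
noncomputable def natIsoA (M : ModSite.Mod O) :
    tR M ⋙ ModSite.quotOn O U ≅ ModSite.quotOn O U ⋙ tR M :=
  NatIso.ofComponents (fun P => isoA P M) (by
    intro P P' g
    rw [← cancel_epi ((ModSite.quotOnπ O U).app ((tR M).obj P))]
    have h1 := (ModSite.quotOnπ O U).naturality ((tR M).map g)
    have h2 := (ModSite.quotOnπ O U).naturality g
    dsimp only [Functor.id_map, Functor.id_obj, Functor.comp_map, Functor.comp_obj] at h1 h2 ⊢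
    rw [← Category.assoc, ← h1, Category.assoc, π_isoA_hom, ← Category.assoc, π_isoA_hom,
      ← Functor.map_comp, ← Functor.map_comp, h2])

lemma natC_aux (M : ModSite.Mod O) {P P' : ModSite.Mod O} (g : P ⟶ P') :
    (ModSite.quotOn O U).map ((tR M).map g) ≫ (isoC (U := U) P' M).hom =
      (isoC (U := U) P M).hom ≫ (tR ((ModSite.quotOn O U).obj M)).map g := by
  rw [← cancel_epi ((ModSite.quotOnπ O U).app ((tR M).obj P))]
  have h1 : (tR M).map g ≫ (ModSite.quotOnπ O U).app ((tR M).obj P') =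
      (ModSite.quotOnπ O U).app ((tR M).obj P) ≫ (ModSite.quotOn O U).map ((tR M).map g) :=
    (ModSite.quotOnπ O U).naturality ((tR M).map g)
  have h2 : (tL P).map ((ModSite.quotOnπ O U).app M) ≫
      (tR ((ModSite.quotOn O U).obj M)).map g =
      (tR M).map g ≫ (tL P').map ((ModSite.quotOnπ O U).app M) :=
    ((ModSite.tensorBi O).map g).naturality ((ModSite.quotOnπ O U).app M)
  have h3 : (ModSite.quotOnπ O U).app ((tR M).obj P') ≫ (isoC (U := U) P' M).hom =
      (tL P').map ((ModSite.quotOnπ O U).app M) := π_isoC_hom P' M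
  have h4 : (ModSite.quotOnπ O U).app ((tR M).obj P) ≫ (isoC (U := U) P M).hom =
      (tL P).map ((ModSite.quotOnπ O U).app M) := π_isoC_hom P M
  calc (ModSite.quotOnπ O U).app ((tR M).obj P) ≫
        (ModSite.quotOn O U).map ((tR M).map g) ≫ (isoC (U := U) P' M).hom
      = ((ModSite.quotOnπ O U).app ((tR M).obj P) ≫
        (ModSite.quotOn O U).map ((tR M).map g)) ≫ (isoC (U := U) P' M).hom :=
          (Category.assoc _ _ _).symm
    _ = ((tR M).map g ≫ (ModSite.quotOnπ O U).app ((tR M).obj P')) ≫ (isoC (U := U) P' M).hom := by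
          rw [h1]
    _ = (tR M).map g ≫ (tL P').map ((ModSite.quotOnπ O U).app M) := by
          rw [Category.assoc, h3]
    _ = (tL P).map ((ModSite.quotOnπ O U).app M) ≫ (tR ((ModSite.quotOn O U).obj M)).map g :=
          h2.symm
    _ = ((ModSite.quotOnπ O U).app ((tR M).obj P) ≫ (isoC (U := U) P M).hom) ≫
          (tR ((ModSite.quotOn O U).obj M)).map g := by rw [h4]
    _ = _ := Category.assoc _ _ _

variable (U) in
/-- `(- ⊗ M) ⋙ quotOn ≅ (- ⊗ M/M_U)` -/
noncomputable def natIsoC (M : ModSite.Mod O) :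
    tR M ⋙ ModSite.quotOn O U ≅ tR ((ModSite.quotOn O U).obj M) :=
  NatIso.ofComponents (fun P => isoC P M) (fun g => natC_aux M g)


section s12893

variable (U) (M : ModSite.Mod O) [ModSite.HasSheafHom M]

/-- `Γ_Z ℋom(M, -) ≅ ℋom(M, Γ_Z -)` -/
noncomputable def sheafHomSectOnIso :
    ModSite.sheafHom M ⋙ ModSite.sectOn O U ≅ ModSite.sectOn O U ⋙ ModSite.sheafHom M :=
  conjugateIsoEquiv ((qsAdj (O := O) (U := U)).comp (ModSite.sheafHomAdj M))
    ((ModSite.sheafHomAdj M).comp (qsAdj (O := O) (U := U))) (natIsoA U M)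

/-- `Γ_Z ℋom(M, -) ≅ ℋom(M/M_U, -)` -/
noncomputable def sheafHomSectOnIso' [ModSite.HasSheafHom ((ModSite.quotOn O U).obj M)] :
    ModSite.sheafHom M ⋙ ModSite.sectOn O U ≅ ModSite.sheafHom ((ModSite.quotOn O U).obj M) :=
  conjugateIsoEquiv ((qsAdj (O := O) (U := U)).comp (ModSite.sheafHomAdj M))
    (ModSite.sheafHomAdj ((ModSite.quotOn O U).obj M)) ((natIsoC U M).symm ≪≫ natIsoA U M)

theorem main [ModSite.HasSheafHom ((ModSite.quotOn O U).obj M)] :
    Nonempty (ModSite.sheafHom M ⋙ ModSite.sectOn O U ≅ ModSite.sectOn O U ⋙ ModSite.sheafHom M) ∧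
      Nonempty (ModSite.sheafHom M ⋙ ModSite.sectOn O U ≅
        ModSite.sheafHom ((ModSite.quotOn O U).obj M)) :=
  ⟨⟨sheafHomSectOnIso U M⟩, ⟨sheafHomSectOnIso' U M⟩⟩

end s12893

end Groth.Agent.Lib.Helper4.QSTensor
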