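import Mathlib
import Groth.Prelude.Def_ModSite2
import Groth.Prelude.Def_ExtSupp
import Groth.Prelude.Def_SpSeq
import Groth.Agent.Lib.Helper4.QSAdj
import Groth.Agent.Lib.Helper4.QSTensor
import Groth.Agent.Lib.Helper3.LocGlobExt1
import Groth.Agent.S6165

/-!
# The spectral sequence H^p(C, ℰxt^q_Z(M,N)) ⟹ Ext^n_Z(M,N) on a ringed site (helper4)
-/

set_option backward.isDefEq.respectTransparency.types false
set_option synthInstance.maxHeartbeats 400000
set_option autoImplicit false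
set_option linter.unusedSectionVars false
set_option linter.style.haveILetI false
set_option linter.unusedSimpArgs false
universe u v w
open CategoryTheory CategoryTheory.Limits Opposite

namespace Groth.Agent.Lib.Helper4.ExtSuppSS2

open Groth.Agent.Lib.Helper4.QSAdj Groth.Agent.Lib.Helper4.QSTensor Groth.Agent.Helper3

variable {C : Type u} [SmallCategory C] {J : GrothendieckTopology C}
  {O : Sheaf J CommRingCat.{u}}

lemma isTotallyAcyclic_of_iso {F G : Sheaf J AddCommGrpCat.{u}} (e : F ≅ G)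
    (h : CohCx.IsTotallyAcyclic F) : CohCx.IsTotallyAcyclic G := by
  intro K p
  haveI := h K p
  refine ⟨fun x y => ?_⟩
  have hx : ∀ z : CohCx.HK K G (p + 1), z = 0 := by
    intro z
    have h1 : (z.comp (Abelian.Ext.mk₀ e.inv) (add_zero _)).comp (Abelian.Ext.mk₀ e.hom)
        (add_zero _) = z := by
      rw [Abelian.Ext.comp_assoc_of_third_deg_zero, Abelian.Ext.mk₀_comp_mk₀, e.inv_hom_id,
        Abelian.Ext.comp_mk₀_id]
    rw [← h1, Subsingleton.elim (z.comp (Abelian.Ext.mk₀ e.inv) (add_zero _)) 0,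
      Abelian.Ext.zero_comp]
  rw [hx x, hx y]


section

variable (U : C) [ModSite.HasPushOver O U] (M : ModSite.Mod O) [ModSite.HasSheafHom M]

/-- `Γ_Z ℋom(M, Q)` is totally acyclic for `Q` injective -/
lemma isTotallyAcyclic_sectOn_sheafHom (Q : ModSite.Mod O) [Injective Q] :
    CohCx.IsTotallyAcyclic (ModSite.toAb ((ModSite.sheafHom M ⋙ ModSite.sectOn O U).obj Q)) := by
  haveI : ModSite.HasSheafHom ((ModSite.quotOn O U).obj M) := Groth.Agent.S6165.result O _
  have h := Groth.Agent.S6150.result O ((ModSite.quotOn O U).obj M) Q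
  exact isTotallyAcyclic_of_iso
    ((SheafOfModules.toSheaf (ModSite.ringSh O)).mapIso ((sheafHomSectOnIso' U M).app Q).symm) h

/-- `Γ(Γ_Z ℋom(M, -)) ≅ Hom(M/M_U, -)` -/
noncomputable def gammaZHomIso :
    (ModSite.sheafHom M ⋙ ModSite.sectOn O U) ⋙ LocGlobExt.SΓ O ≅
      preadditiveCoyoneda.obj (op ((ModSite.quotOn O U).obj M)) :=
  haveI : ModSite.HasSheafHom ((ModSite.quotOn O U).obj M) := Groth.Agent.S6165.result O _
  Functor.isoWhiskerRight (sheafHomSectOnIso' U M) (LocGlobExt.SΓ O) ≪≫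
    LocGlobExt.compIso O ((ModSite.quotOn O U).obj M)

variable [HasInjectiveResolutions (ModSite.Mod O)] [HasExt.{u} (ModSite.Mod O)]

theorem main (N : ModSite.Mod O) :
    ∃ (E : E₂CohomologicalSpectralSequence AddCommGrpCat.{u})
      (a : SpSeq.Abutment E (fun n : ℤ =>
        if 0 ≤ n then AddCommGrpCat.of (ExtSupp.ExtZ U M N n.toNat)
          else AddCommGrpCat.of PUnit.{u + 1})),
      (∀ n, a.IsFinite n) ∧ SpSeq.IsBounded E ∧
      ∀ p q : ℤ, Nonempty ((E.page 2 le_rfl).X (p, q) ≅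
        (if 0 ≤ p ∧ 0 ≤ q then
          AddCommGrpCat.of (ModSite.HC O ((ModSite.extZSh U M q.toNat).obj N) p.toNat)
         else AddCommGrpCat.of PUnit.{u + 1})) := by
  have hT : ∀ Q : ModSite.Mod O, Injective Q → ∀ q : ℕ, 0 < q →
      IsZero (((LocGlobExt.SΓ O).rightDerived q).obj
        ((ModSite.sheafHom M ⋙ ModSite.sectOn O U).obj Q)) := by
    intro Q hQ q hq
    exact LocGlobExt.isZero_rightDerived_SΓ O _ (isTotallyAcyclic_sectOn_sheafHom U M Q) q hq
  obtain ⟨E, a, hfin, hbdd, hE⟩ := GSS.main' (ModSite.sheafHom M ⋙ ModSite.sectOn O U)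
    (LocGlobExt.SΓ O) hT N
  obtain ⟨a', ha'⟩ := AbutIf.exists_abutment_if
    (fun k => (((ModSite.sheafHom M ⋙ ModSite.sectOn O U) ⋙ LocGlobExt.SΓ O).rightDerived k).obj N)
    (fun k => AddCommGrpCat.of (ExtSupp.ExtZ U M N k)) a hfin
    (fun k => ⟨ExtRD.rightDerivedIsoExt _ ((ModSite.quotOn O U).obj M) (gammaZHomIso U M) N k⟩)
  refine ⟨E, a', ha', hbdd, ?_⟩
  intro p q
  refine AbutIf.nonempty_iso_if _ (hE p q) ?_
  obtain ⟨e⟩ := Groth.Agent.S0491.result J (ModSite.ringSh O)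
    ((ModSite.extZSh U M q.toNat).obj N) p.toNat
  exact ⟨ExtRD.coyonedaRightDerivedIso (ModSite.unit O) _ p.toNat ≪≫ e.toAddCommGrpIso⟩

end

end Groth.Agent.Lib.Helper4.ExtSuppSS2
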