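import Mathlib
import Groth.Prelude.Def_ModSite2
import Groth.Prelude.Def_ExtSupp
import Groth.Prelude.Def_ToposFin2
import Groth.Agent.Lib.Helper3.TCech

/-!
# Cohomology with supports of totally acyclic abelian sheaves on a site vanishes (retract trick) (helper4)
-/

set_option backward.isDefEq.respectTransparency.types false
set_option synthInstance.maxHeartbeats 400000
set_option autoImplicit false
set_option linter.unusedSectionVars false
set_option linter.style.haveILetI false
set_option linter.unusedSimpArgs false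
universe u v w
open CategoryTheory CategoryTheory.Limits Opposite

namespace Groth.Agent.Lib.Helper4.HZVan

open Groth.Agent.Helper3

variable {C : Type u} [SmallCategory C] {J : GrothendieckTopology C}

/-- the free abelian sheaf functor -/
noncomputable abbrev Zf : Sheaf J (Type u) ⥤ Sheaf J AddCommGrpCat.{u} := ToposFin.freeAb J

/-- free ⊣ forget -/
noncomputable abbrev adjZ : Zf (J := J) ⊣ sheafCompose J (forget AddCommGrpCat.{u}) := TCech.adjF

section retract

variable {K L : Sheaf J (Type u)} (k : K ⟶ L)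

/-- `ℤ[L]/ℤ[K] ⟶ ℤ[L ⊔_K L]` -/
noncomputable def ri : cokernel ((Zf (J := J)).map k) ⟶ Zf.obj (pushout k k) :=
  cokernel.desc _ (Zf.map (pushout.inl k k) - Zf.map (pushout.inr k k)) (by
    rw [Preadditive.comp_sub, ← Functor.map_comp, ← Functor.map_comp, pushout.condition, sub_self])

/-- `ℤ[L ⊔_K L] ⟶ ℤ[L]/ℤ[K]` -/
noncomputable def rr : Zf.obj (pushout k k) ⟶ cokernel ((Zf (J := J)).map k) :=
  (adjZ.homEquiv _ _).symm (pushout.desc (adjZ.homEquiv L _ (cokernel.π (Zf.map k)))
    (adjZ.homEquiv L _ 0) (by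
      rw [← Adjunction.homEquiv_naturality_left, ← Adjunction.homEquiv_naturality_left,
        cokernel.condition, comp_zero]))

lemma inl_rr : Zf.map (pushout.inl k k) ≫ rr k = cokernel.π (Zf.map k) := by
  unfold rr
  rw [← Adjunction.homEquiv_naturality_left_symm, pushout.inl_desc, Equiv.symm_apply_apply]

lemma inr_rr : Zf.map (pushout.inr k k) ≫ rr k = 0 := by
  unfold rr
  rw [← Adjunction.homEquiv_naturality_left_symm, pushout.inr_desc, Equiv.symm_apply_apply]

lemma ri_rr : ri k ≫ rr k = 𝟙 _ := by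
  apply coequalizer.hom_ext
  unfold ri
  erw [cokernel.π_desc_assoc]
  rw [Preadditive.sub_comp, inl_rr, inr_rr, sub_zero]
  exact (Category.comp_id _).symm

/-- **Flasque vanishing**: `Ext^{n+1}(ℤ[L]/ℤ[K], F) = 0` for `F` totally acyclic. -/
theorem ext_cokernel_eq_zero (F : Sheaf J AddCommGrpCat.{u}) (hF : CohCx.IsTotallyAcyclic F)
    (n : ℕ) (x : Abelian.Ext (cokernel ((Zf (J := J)).map k)) F (n + 1)) : x = 0 := by
  haveI : Subsingleton (Abelian.Ext (Zf.obj (pushout k k)) F (n + 1)) := hF (pushout k k) n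
  have h1 : (Abelian.Ext.mk₀ (ri k)).comp ((Abelian.Ext.mk₀ (rr k)).comp x (zero_add _))
      (zero_add _) = x := by
    rw [← Abelian.Ext.comp_assoc_of_second_deg_zero, Abelian.Ext.mk₀_comp_mk₀, ri_rr,
      Abelian.Ext.mk₀_id_comp]
  rw [← h1, Subsingleton.elim ((Abelian.Ext.mk₀ (rr k)).comp x (zero_add _)) 0,
    Abelian.Ext.comp_zero]

end retract

/-- `H^{n+1}_Z(F) = 0` for `F` totally acyclic -/
theorem subsingleton_HZFunctor (U : Sheaf J (Type u)) (F : Sheaf J AddCommGrpCat.{u})
    (hF : CohCx.IsTotallyAcyclic F) (n : ℕ) :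
    Subsingleton ((ToposFin.HZFunctor U (n + 1)).obj F : AddCommGrpCat.{u}) :=
  ⟨fun x y => (ext_cokernel_eq_zero (terminal.from U) F hF n x).trans
    (ext_cokernel_eq_zero (terminal.from U) F hF n y).symm⟩

end Groth.Agent.Lib.Helper4.HZVan
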