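import Mathlib
import Groth.Prelude.Def_ModSite2
import Groth.Prelude.Def_ExtSupp
import Groth.Prelude.Def_ToposFin2
import Groth.Agent.Lib.Helper3.TCech
import Groth.Agent.Lib.Helper4.QSAdj
import Groth.Agent.Lib.Helper4.QSTensor
import Groth.Agent.Lib.Helper4.HZVan
import Groth.Agent.Lib.Helper4.QSLocal
import Groth.Agent.Lib.Helper5.Misc.UnitFree
import Groth.Agent.Lib.Helper5.Misc.SheafHomTA

/-!
# Independence of the ring: Ext_O(O/O_U, M) ≅ H_Z(M) on a ringed site (helper4)
-/

set_option backward.isDefEq.respectTransparency.types false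
set_option synthInstance.maxHeartbeats 400000
set_option autoImplicit false
set_option linter.unusedSectionVars false
set_option linter.style.haveILetI false
set_option linter.unusedSimpArgs false
universe u v w
open CategoryTheory CategoryTheory.Limits Opposite

namespace Groth.Agent.Lib.Helper4.HZRing

open Groth.Agent.Helper3 Groth.Agent.Lib.Helper4.QSAdj Groth.Agent.Lib.Helper4.QSTensor
  Groth.Agent.Lib.Helper4.HZVan Groth.Agent.Lib.Helper4.QSLocal

section cokerEquiv

variable {𝒜 ℬ : Type*} [Category 𝒜] [Preadditive 𝒜] [Category ℬ] [Preadditive ℬ]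
  {X Y : 𝒜} (f : X ⟶ Y) [HasCokernel f] {X' Y' : ℬ} (f' : X' ⟶ Y') [HasCokernel f']
  (M : 𝒜) (M' : ℬ) (eX : (X ⟶ M) ≃+ (X' ⟶ M')) (eY : (Y ⟶ M) ≃+ (Y' ⟶ M'))
  (h : ∀ g : Y ⟶ M, eX (f ≫ g) = f' ≫ eY g)

include h in
lemma h_symm (g' : Y' ⟶ M') : eX.symm (f' ≫ g') = f ≫ eY.symm g' := by
  apply eX.injective
  rw [AddEquiv.apply_symm_apply, h, AddEquiv.apply_symm_apply]

/-- maps out of cokernels correspond when maps out of the terms do -/
noncomputable def cokerHomEquiv : (cokernel f ⟶ M) ≃+ (cokernel f' ⟶ M') where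
  toFun g := cokernel.desc f' (eY (cokernel.π f ≫ g)) (by
    rw [← h, cokernel.condition_assoc, zero_comp, map_zero])
  invFun g' := cokernel.desc f (eY.symm (cokernel.π f' ≫ g')) (by
    rw [← h_symm f f' M M' eX eY h, cokernel.condition_assoc, zero_comp, map_zero])
  left_inv g := by
    apply coequalizer.hom_ext
    erw [cokernel.π_desc, cokernel.π_desc]
    rw [AddEquiv.symm_apply_apply]
  right_inv g' := by
    apply coequalizer.hom_ext
    erw [cokernel.π_desc, cokernel.π_desc]
    rw [AddEquiv.apply_symm_apply]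
  map_add' g₁ g₂ := by
    apply coequalizer.hom_ext
    erw [cokernel.π_desc]
    rw [Preadditive.comp_add, map_add]
    erw [Preadditive.comp_add, cokernel.π_desc, cokernel.π_desc]

lemma π_cokerHomEquiv (g : cokernel f ⟶ M) :
    cokernel.π f' ≫ cokerHomEquiv f f' M M' eX eY h g = eY (cokernel.π f ≫ g) := by
  erw [cokernel.π_desc]

end cokerEquiv


open Groth.Agent.Lib.Helper5.Misc.InjTotAcyc Groth.Agent.Lib.Helper5.Misc.ExtFreeHK
  Groth.Agent.Lib.Helper5.Misc.UnitFree Groth.Agent.Lib.Helper5.Misc.SheafHomTA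

variable {C : Type u} [SmallCategory C] {J : GrothendieckTopology C}
  {O : Sheaf J CommRingCat.{u}} (U : C)

/-- the map `εU → pt` -/
noncomputable def tU : ToposFin.eps J U ⟶ K₀ J :=
  (Sheaf.isTerminalTerminal J Types.isTerminalPUnit).from _

/-- the free sheaf of modules functor on maps -/
noncomputable abbrev fsMap {K₁ K₂ : Sheaf J (Type u)} (a : K₁ ⟶ K₂) :
    freeSh (R := ModSite.ringSh O) K₁ ⟶ freeSh (R := ModSite.ringSh O) K₂ :=
  (PresheafOfModules.sheafification.{u} (𝟙 (ModSite.ringSh O).obj)).map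
    ((PresheafOfModules.free (ModSite.ringSh O).obj).map a.hom)

variable (O) in
/-- `O[pt]/O[εU]` -/
noncomputable abbrev P' : ModSite.Mod O := cokernel (fsMap (O := O) (tU U))

/-- `ℤ[pt]/ℤ[εU]` -/
noncomputable abbrev Q' : Sheaf J AddCommGrpCat.{u} := cokernel ((Zf (J := J)).map (tU U))

/-- degree zero comparison -/
noncomputable def ψ (M : ModSite.Mod O) : (P' O U ⟶ M) ≃+ (Q' (J := J) U ⟶ ModSite.toAb M) :=
  cokerHomEquiv (fsMap (O := O) (tU U)) ((Zf (J := J)).map (tU U)) M (ModSite.toAb M)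
    (φ (ToposFin.eps J U) M) (φ (K₀ J) M) (fun g => φ_naturality_left (tU U) M g)

lemma ψ_naturality {M N : ModSite.Mod O} (g : M ⟶ N) (p : P' O U ⟶ M) :
    ψ U N (p ≫ g) = ψ U M p ≫ (SheafOfModules.toSheaf (ModSite.ringSh O)).map g := by
  apply coequalizer.hom_ext
  have h1 := π_cokerHomEquiv (fsMap (O := O) (tU U)) ((Zf (J := J)).map (tU U)) N (ModSite.toAb N)
    (φ (ToposFin.eps J U) N) (φ (K₀ J) N) (fun g => φ_naturality_left (tU U) N g) (p ≫ g)
  have h2 := π_cokerHomEquiv (fsMap (O := O) (tU U)) ((Zf (J := J)).map (tU U)) M (ModSite.toAb M)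
    (φ (ToposFin.eps J U) M) (φ (K₀ J) M) (fun g => φ_naturality_left (tU U) M g) p
  refine h1.trans ?_
  rw [← Category.assoc, φ_naturality]
  erw [← Category.assoc, h2]


open Groth.Agent.Lib.Helper5.Misc in
theorem ext_P'_equiv [HasExt.{u} (ModSite.Mod O)] (M : ModSite.Mod O) (n : ℕ) :
    Nonempty (Abelian.Ext (P' O U) M n ≃+ Abelian.Ext (Q' (J := J) U) (ModSite.toAb M) n) := by
  have := Groth.Agent.S0485.result J (ModSite.ringSh O)
  have : PreservesFiniteColimits (SheafOfModules.toSheaf.{u} (ModSite.ringSh O)) :=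
    PreservesColimitsOfSize.preservesFiniteColimits _
  exact ExtShift.nonempty_ext_addEquiv (SheafOfModules.toSheaf.{u} (ModSite.ringSh O))
    (P' O U) (Q' U) (ψ U) (fun g p => ψ_naturality U g p)
    (fun I _ n x => ext_cokernel_eq_zero (tU U) _ (isTotallyAcyclic_of_injective I) n x) n M


/-- maps out of `O[εU]` are sections over `U` -/
noncomputable def freeShEpsEquiv (N : ModSite.Mod O) :
    (freeSh (R := ModSite.ringSh O) (ToposFin.eps J U) ⟶ N) ≃
      ((sheafToPresheaf J (Type u)).obj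
        ((sheafCompose J (forget AddCommGrpCat.{u})).obj (ModSite.toAb N))).obj (op U) :=
  ((φ (ToposFin.eps J U) N).toEquiv.trans (adjZ.homEquiv _ _)).trans
    (((sheafificationAdjunction J (Type u)).homEquiv (yoneda.obj U) _).trans yonedaEquiv)

lemma isT_freeSh_eps : IsT O U (freeSh (R := ModSite.ringSh O) (ToposFin.eps J U)) := by
  intro N hN f
  haveI : Subsingleton (((sheafToPresheaf J (Type u)).obj
        ((sheafCompose J (forget AddCommGrpCat.{u})).obj (ModSite.toAb N))).obj (op U)) := by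
    have key : ∀ a b : ModSite.sect N U, a = b := fun a b =>
      ((ExtSupp.isNullOn_iff O U N).1 hN (𝟙 U) a).trans
        ((ExtSupp.isNullOn_iff O U N).1 hN (𝟙 U) b).symm
    exact ⟨fun a b => key a b⟩
  exact (freeShEpsEquiv U N).injective (Subsingleton.elim _ _)


variable (O) in
/-- the map `O[εU] → O` -/
noncomputable def cU : freeSh (R := ModSite.ringSh O) (ToposFin.eps J U) ⟶ ModSite.unit O :=
  fsMap (O := O) (tU U) ≫ (unitIso J (ModSite.ringSh O)).inv

variable (O) in
/-- the presheaf-level map `O[εU] → O` -/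
noncomputable def cU₀ : (PresheafOfModules.free (ModSite.ringSh O).obj).obj (ToposFin.eps J U).obj ⟶
    PresheafOfModules.unit (ModSite.ringSh O).obj :=
  (PresheafOfModules.free (ModSite.ringSh O).obj).map (tU U).hom ≫ toUnit (ModSite.ringSh O).obj

lemma cU_eq : cU O U = ((shAdj (ModSite.ringSh O)).homEquiv _ (ModSite.unit O)).symm (cU₀ O U) := by
  rw [Adjunction.homEquiv_counit]
  change fsMap (O := O) (tU U) ≫ (PresheafOfModules.sheafification.{u}
      (𝟙 (ModSite.ringSh O).obj)).map (toUnit (ModSite.ringSh O).obj) ≫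
      (shAdj (ModSite.ringSh O)).counit.app (ModSite.unit O) =
    (PresheafOfModules.sheafification.{u} (𝟙 (ModSite.ringSh O).obj)).map
      ((PresheafOfModules.free (ModSite.ringSh O).obj).map (tU U).hom ≫
        toUnit (ModSite.ringSh O).obj) ≫ (shAdj (ModSite.ringSh O)).counit.app (ModSite.unit O)
  rw [Functor.map_comp, Category.assoc]

lemma unit_comp_cU :
    (shAdj (ModSite.ringSh O)).unit.app _ ≫
      (SheafOfModules.forget (ModSite.ringSh O)).map (cU O U) = cU₀ O U := by
  have h := (shAdj (ModSite.ringSh O)).homEquiv_unit (X := (PresheafOfModules.free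
    (ModSite.ringSh O).obj).obj (ToposFin.eps J U).obj) (Y := ModSite.unit O) (f := cU O U)
  rw [← h, cU_eq, Equiv.apply_symm_apply]


lemma cU₀_app_freeMk {V : C} (k : (ToposFin.eps J U).obj.obj (op V)) :
    ((cU₀ O U).app (op V)).hom (ModuleCat.freeMk k) = (1 : (ModSite.ringSh O).obj.obj (op V)) := by
  change ((toUnit (ModSite.ringSh O).obj).app (op V)).hom
    (((ModuleCat.free ((ModSite.ringSh O).obj.obj (op V))).map ((tU U).hom.app (op V))).hom
      (ModuleCat.freeMk k)) = _
  erw [ModuleCat.free_map_apply]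
  exact toUnit_app_freeMk _ _ _

lemma cU_surjective {V : C} (g : V ⟶ U) (a : ModSite.sect (ModSite.unit O) V) :
    ∃ y : ModSite.sect (freeSh (R := ModSite.ringSh O) (ToposFin.eps J U)) V,
      ((cU O U).val.app (op V)).hom y = a := by
  obtain ⟨k⟩ : Nonempty ((ToposFin.eps J U).obj.obj (op V)) :=
    ⟨((toSheafify J (yoneda.obj U)).app (op V)) g⟩
  obtain ⟨x, hx⟩ : ∃ x : ((PresheafOfModules.free (ModSite.ringSh O).obj).obj
      (ToposFin.eps J U).obj).obj (op V), x = ModuleCat.freeMk k := ⟨_, rfl⟩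
  have h1 := congrArg (fun m => (m.app (op V)).hom x) (unit_comp_cU (O := O) U)
  have h2 : ((cU O U).val.app (op V)).hom
      ((((shAdj (ModSite.ringSh O)).unit.app ((PresheafOfModules.free (ModSite.ringSh O).obj).obj
      (ToposFin.eps J U).obj)).app (op V)).hom x) =
      (1 : (ModSite.ringSh O).obj.obj (op V)) := by
    refine h1.trans ?_
    rw [hx]
    exact cU₀_app_freeMk U k
  obtain ⟨a', ha'⟩ : ∃ a' : (ModSite.ringSh O).obj.obj (op V), a' = a := ⟨a, rfl⟩
  refine ⟨a' •
    ((((shAdj (ModSite.ringSh O)).unit.app ((PresheafOfModules.free (ModSite.ringSh O).obj).obj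
      (ToposFin.eps J U).obj)).app (op V)).hom x), ?_⟩
  refine (((cU O U).val.app (op V)).hom.map_smul a' _).trans ?_
  rw [h2, ← ha']
  exact mul_one a'


section final

variable [ModSite.HasPushOver O U]

/-- `O/O_U ≅ coker(O[εU] → O)` -/
noncomputable def quotOnUnitIso : (ModSite.quotOn O U).obj (ModSite.unit O) ≅ cokernel (cU O U) :=
  quotOnIso (cU O U) (cokernel.π _) (cokernel.condition _) (cokernelIsCokernel _)
    (isT_freeSh_eps U)
    (isNullOn_cokernel_of_surjective U (cU O U) (fun _ g a => cU_surjective U g a))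

/-- `coker(O[εU] → O[pt]) ≅ coker(O[εU] → O)` -/
noncomputable def P'Iso : P' O U ≅ cokernel (cU O U) :=
  cokernel.mapIso _ _ (Iso.refl _) (unitIso J (ModSite.ringSh O)).symm (by
    simp only [Iso.refl_hom, Category.id_comp, Iso.symm_hom]
    rfl)

/-- `ℤ[pt]/ℤ[εU] ≅ ℤ_Z` -/
noncomputable def Q'Iso : Q' (J := J) U ≅ ToposFin.quotZ (ToposFin.eps J U) :=
  cokernel.mapIso _ _ (Iso.refl _)
    ((Zf (J := J)).mapIso ((Sheaf.isTerminalTerminal J Types.isTerminalPUnit).uniqueUpToIso
      terminalIsTerminal)) (by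
    simp only [Iso.refl_hom, Category.id_comp, Functor.mapIso_hom]
    rw [← Functor.map_comp]
    congr 1
    exact terminalIsTerminal.hom_ext _ _)

/-- **Independence of the ring**: `Ext^n_O(O/O_U, M) ≅ H^n_Z(M)`. -/
theorem ext_quotOn_unit_equiv_HZ [HasExt.{u} (ModSite.Mod O)] (M : ModSite.Mod O) (n : ℕ) :
    Nonempty (Abelian.Ext ((ModSite.quotOn O U).obj (ModSite.unit O)) M n ≃+ ModSite.HZ U M n) := by
  obtain ⟨e⟩ := ext_P'_equiv U M n
  exact ⟨(extAddEquivOfIso ((quotOnUnitIso U) ≪≫ (P'Iso U).symm) M n).trans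
    (e.trans (extAddEquivOfIso (Q'Iso U) (ModSite.toAb M) n))⟩

end final

end Groth.Agent.Lib.Helper4.HZRing
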