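import Mathlib
import Groth.Prelude.Def_ModSite2
import Groth.Prelude.Def_ExtSupp
import Groth.Prelude.Def_SpSeq
import Groth.Agent.Lib.Helper4.QSAdj
import Groth.Agent.Lib.Helper4.QSTensor
import Groth.Agent.Lib.Helper4.HZVan
import Groth.Agent.Lib.Helper4.HZRing
import Groth.Agent.Lib.Helper4.ExtSuppSS2
import Groth.Agent.Lib.Helper3.LocGlobExt1
import Groth.Agent.S6165

/-!
# Spectral sequences H^p_Z(ℰxt^q(M,N)) ⟹ Ext_Z(M,N) and H^p(C, ℋ^q_Z M) ⟹ H_Z(M) on a ringed site (helper4)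
-/

set_option backward.isDefEq.respectTransparency.types false
set_option synthInstance.maxHeartbeats 400000
set_option autoImplicit false
set_option linter.unusedSectionVars false
set_option linter.style.haveILetI false
set_option linter.unusedSimpArgs false
universe u v w
open CategoryTheory CategoryTheory.Limits Opposite

namespace Groth.Agent.Lib.Helper4.ExtSuppSS1

open Groth.Agent.Lib.Helper4.QSAdj Groth.Agent.Lib.Helper4.QSTensor Groth.Agent.Helper3
  Groth.Agent.Lib.Helper4.HZVan Groth.Agent.Lib.Helper4.HZRing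

/-- `Hom(L A, -) ≅ Hom(A, R -)` as functors to abelian groups -/
noncomputable def coyonedaAdjIso {𝒜 ℬ : Type*} [Category.{v} 𝒜] [Preadditive 𝒜] [Category.{v} ℬ]
    [Preadditive ℬ] {L : 𝒜 ⥤ ℬ} {R : ℬ ⥤ 𝒜} (adj : L ⊣ R) [L.Additive] (A : 𝒜) :
    preadditiveCoyoneda.obj (op (L.obj A)) ≅ R ⋙ preadditiveCoyoneda.obj (op A) :=
  NatIso.ofComponents (fun N => (adj.homAddEquiv A N).toAddCommGrpIso) (by
    intro N N' g
    ext φ
    exact adj.homEquiv_naturality_right φ g)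

variable {C : Type u} [SmallCategory C] {J : GrothendieckTopology C}
  {O : Sheaf J CommRingCat.{u}}

section

variable (U : C) [ModSite.HasPushOver O U] (M : ModSite.Mod O) [ModSite.HasSheafHom M]

/-- `Hom(O/O_U, -)`: global sections with support -/
noncomputable abbrev SZ : ModSite.Mod O ⥤ AddCommGrpCat.{u} :=
  preadditiveCoyoneda.obj (op ((ModSite.quotOn O U).obj (ModSite.unit O)))

/-- `(O/O_U) ⊗ M ≅ M/M_U` -/
noncomputable def quotUnitTensorIso :
    (tR M).obj ((ModSite.quotOn O U).obj (ModSite.unit O)) ≅ (ModSite.quotOn O U).obj M :=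
  (isoA (U := U) (ModSite.unit O) M).symm ≪≫
    (ModSite.quotOn O U).mapIso (LocGlobExt.leftUnitIso O M)

/-- `Γ_Z(ℋom(M, -)) ≅ Hom(M/M_U, -)` (global sections with support) -/
noncomputable def compIsoZ :
    ModSite.sheafHom M ⋙ SZ (O := O) U ≅
      preadditiveCoyoneda.obj (op ((ModSite.quotOn O U).obj M)) :=
  (coyonedaAdjIso (ModSite.sheafHomAdj M) _).symm ≪≫
    preadditiveCoyoneda.mapIso (quotUnitTensorIso U M).symm.op

end


section main

variable (U : C) [ModSite.HasPushOver O U]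
  [HasInjectiveResolutions (ModSite.Mod O)] [HasExt.{u} (ModSite.Mod O)]

/-- `Rᵖ Hom(O/O_U, -)(F) ≅ H^p_Z(F)` -/
theorem nonempty_rightDerived_SZ_iso (F : ModSite.Mod O) (p : ℕ) :
    Nonempty (((SZ (O := O) U).rightDerived p).obj F ≅ AddCommGrpCat.of (ModSite.HZ U F p)) := by
  obtain ⟨e⟩ := ext_quotOn_unit_equiv_HZ U F p
  exact ⟨ExtRD.coyonedaRightDerivedIso _ F p ≪≫ e.toAddCommGrpIso⟩

lemma isZero_rightDerived_SZ (F : ModSite.Mod O) (hF : CohCx.IsTotallyAcyclic (ModSite.toAb F))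
    (q : ℕ) (hq : 0 < q) : IsZero (((SZ (O := O) U).rightDerived q).obj F) := by
  obtain ⟨m, rfl⟩ : ∃ m, q = m + 1 := ⟨q - 1, by omega⟩
  obtain ⟨e⟩ := nonempty_rightDerived_SZ_iso U F (m + 1)
  haveI : Subsingleton (ModSite.HZ U F (m + 1)) :=
    subsingleton_HZFunctor (ToposFin.eps J U) (ModSite.toAb F) hF m
  exact (AddCommGrpCat.isZero_of_subsingleton _).of_iso e

variable (M : ModSite.Mod O) [ModSite.HasSheafHom M]

/-- **S13586**: `H^p_Z(ℰxt^q(M, N)) ⟹ Ext^{p+q}_Z(M, N)`. -/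
theorem main (N : ModSite.Mod O) :
    ∃ (E : E₂CohomologicalSpectralSequence AddCommGrpCat.{u})
      (a : SpSeq.Abutment E (fun n : ℤ =>
        if 0 ≤ n then AddCommGrpCat.of (ExtSupp.ExtZ U M N n.toNat)
          else AddCommGrpCat.of PUnit.{u + 1})),
      (∀ n, a.IsFinite n) ∧ SpSeq.IsBounded E ∧
      ∀ p q : ℤ, Nonempty ((E.page 2 le_rfl).X (p, q) ≅
        (if 0 ≤ p ∧ 0 ≤ q then
          AddCommGrpCat.of (ModSite.HZ U ((ModSite.extSh M q.toNat).obj N) p.toNat)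
         else AddCommGrpCat.of PUnit.{u + 1})) := by
  have hT : ∀ Q : ModSite.Mod O, Injective Q → ∀ q : ℕ, 0 < q →
      IsZero (((SZ (O := O) U).rightDerived q).obj ((ModSite.sheafHom M).obj Q)) := by
    intro Q hQ q hq
    exact isZero_rightDerived_SZ U _ (Groth.Agent.S6150.result O M Q) q hq
  obtain ⟨E, a, hfin, hbdd, hE⟩ := GSS.main' (ModSite.sheafHom M) (SZ (O := O) U) hT N
  obtain ⟨a', ha'⟩ := AbutIf.exists_abutment_if
    (fun k => ((ModSite.sheafHom M ⋙ SZ (O := O) U).rightDerived k).obj N)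
    (fun k => AddCommGrpCat.of (ExtSupp.ExtZ U M N k)) a hfin
    (fun k => ⟨ExtRD.rightDerivedIsoExt _ ((ModSite.quotOn O U).obj M) (compIsoZ U M) N k⟩)
  refine ⟨E, a', ha', hbdd, ?_⟩
  intro p q
  exact AbutIf.nonempty_iso_if _ (hE p q) (nonempty_rightDerived_SZ_iso U _ _)

end main


section unitor

open Groth.Agent.Lib.Helper5.TensorSheaf MonoidalCategory

variable (O)

/-- `O ⊗ - ≅ 𝟭` -/
noncomputable def leftUnitNatIso : tL (ModSite.unit O) ≅ 𝟭 (ModSite.Mod O) :=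
  NatIso.ofComponents (fun M => LocGlobExt.leftUnitIso O M) (by
    intro M M' g
    change (shf O).map (𝟙_ (PM O) ◁ (fgt O).map g) ≫
      ((shf O).map (λ_ ((fgt O).obj M')).hom ≫ (adj O).counit.app M') =
      ((shf O).map (λ_ ((fgt O).obj M)).hom ≫ (adj O).counit.app M) ≫ g
    rw [← Category.assoc, ← Functor.map_comp, leftUnitor_naturality, Functor.map_comp,
      Category.assoc, Category.assoc]
    congr 1
    exact (adj O).counit.naturality g)

end unitor


section s12889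

open Groth.Agent.Lib.Helper5

variable (O)

/-- `- ⊗ O ≅ 𝟭` -/
noncomputable def rightUnitNatIso : tR (ModSite.unit O) ≅ 𝟭 (ModSite.Mod O) :=
  (TensorSES.objIsoFlipObj (ModSite.unit O)).symm ≪≫ leftUnitNatIso O

instance : ModSite.HasSheafHom (ModSite.unit O) := Groth.Agent.S6165.result O _

/-- `ℋom(O, -) ≅ 𝟭` -/
noncomputable def sheafHomUnitIso : ModSite.sheafHom (ModSite.unit O) ≅ 𝟭 (ModSite.Mod O) :=
  conjugateIsoEquiv (ModSite.sheafHomAdj (ModSite.unit O)) Adjunction.id (rightUnitNatIso O).symm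

variable {O} (U : C) [ModSite.HasPushOver O U]

instance : ModSite.HasSheafHom ((ModSite.quotOn O U).obj (ModSite.unit O)) :=
  Groth.Agent.S6165.result O _

/-- `Γ_Z ≅ ℋom(O/O_U, -)` -/
noncomputable def sectOnIso :
    ModSite.sectOn O U ≅ ModSite.sheafHom ((ModSite.quotOn O U).obj (ModSite.unit O)) :=
  (Functor.leftUnitor _).symm ≪≫
    Functor.isoWhiskerRight (sheafHomUnitIso O).symm (ModSite.sectOn O U) ≪≫
    sheafHomSectOnIso' U (ModSite.unit O)

lemma isTotallyAcyclic_sectOn (Q : ModSite.Mod O) [Injective Q] :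
    CohCx.IsTotallyAcyclic (ModSite.toAb ((ModSite.sectOn O U).obj Q)) :=
  Groth.Agent.Lib.Helper4.ExtSuppSS2.isTotallyAcyclic_of_iso
    ((SheafOfModules.toSheaf (ModSite.ringSh O)).mapIso ((sectOnIso U).app Q).symm)
    (Groth.Agent.S6150.result O _ Q)

instance quotOn_additive : (ModSite.quotOn O U).Additive :=
  (qsAdj (O := O) (U := U)).left_adjoint_additive

/-- `Γ(Γ_Z(-)) ≅ Hom(O/O_U, -)` -/
noncomputable def sectOnSΓIso :
    ModSite.sectOn O U ⋙ LocGlobExt.SΓ O ≅ SZ (O := O) U :=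
  (coyonedaAdjIso (qsAdj (O := O) (U := U)) (ModSite.unit O)).symm

end s12889


section s12889main

variable (U : C) [ModSite.HasPushOver O U] [HasInjectiveResolutions (ModSite.Mod O)]

lemma hasExt_mod : HasExt.{u} (ModSite.Mod O) := by
  haveI := Groth.Agent.S0485.result J (ModSite.ringSh O)
  exact hasExt_of_enoughInjectives _

/-- **S12889**: `H^p(C, ℋ^q_Z(M)) ⟹ H^{p+q}_Z(M)`. -/
theorem main12889 (M : ModSite.Mod O) :
    ∃ (E : E₂CohomologicalSpectralSequence AddCommGrpCat.{u})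
      (a : SpSeq.Abutment E (fun n : ℤ =>
        if 0 ≤ n then AddCommGrpCat.of (ModSite.HZ U M n.toNat)
          else AddCommGrpCat.of PUnit.{u + 1})),
      (∀ n : ℤ, a.IsFinite n) ∧ SpSeq.IsBounded E ∧
      ∀ p q : ℤ, Nonempty ((E.page 2 le_rfl).X (p, q) ≅
        (if 0 ≤ p ∧ 0 ≤ q then
          AddCommGrpCat.of (ModSite.HC O ((ModSite.HZsh O U q.toNat).obj M) p.toNat)
          else AddCommGrpCat.of PUnit.{u + 1})) := by
  haveI : HasExt.{u} (ModSite.Mod O) := hasExt_mod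
  have hT : ∀ Q : ModSite.Mod O, Injective Q → ∀ q : ℕ, 0 < q →
      IsZero (((LocGlobExt.SΓ O).rightDerived q).obj ((ModSite.sectOn O U).obj Q)) := by
    intro Q hQ q hq
    exact LocGlobExt.isZero_rightDerived_SΓ O _ (isTotallyAcyclic_sectOn U Q) q hq
  obtain ⟨E, a, hfin, hbdd, hE⟩ := GSS.main' (ModSite.sectOn O U) (LocGlobExt.SΓ O) hT M
  obtain ⟨a', ha'⟩ := AbutIf.exists_abutment_if
    (fun k => ((ModSite.sectOn O U ⋙ LocGlobExt.SΓ O).rightDerived k).obj M)
    (fun k => AddCommGrpCat.of (ModSite.HZ U M k)) a hfin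
    (fun k => by
      obtain ⟨e⟩ := nonempty_rightDerived_SZ_iso U M k
      exact ⟨(ExtRD.rightDerivedNatIso (sectOnSΓIso U) k).app M ≪≫ e⟩)
  refine ⟨E, a', ha', hbdd, ?_⟩
  intro p q
  refine AbutIf.nonempty_iso_if _ (hE p q) ?_
  obtain ⟨e⟩ := Groth.Agent.S0491.result J (ModSite.ringSh O)
    ((ModSite.HZsh O U q.toNat).obj M) p.toNat
  exact ⟨ExtRD.coyonedaRightDerivedIso (ModSite.unit O) _ p.toNat ≪≫ e.toAddCommGrpIso⟩

/-- second half of S12891 -/
theorem subsingleton_HZ_of_isTotallyAcyclic (M : ModSite.Mod O)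
    (hM : CohCx.IsTotallyAcyclic (ModSite.toAb M)) (q : ℕ) (hq : 1 ≤ q) :
    Subsingleton (ModSite.HZ U M q) := by
  obtain ⟨m, rfl⟩ : ∃ m, q = m + 1 := ⟨q - 1, by omega⟩
  exact subsingleton_HZFunctor (ToposFin.eps J U) (ModSite.toAb M) hM m

end s12889main

end Groth.Agent.Lib.Helper4.ExtSuppSS1
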