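import Mathlib
import Groth.Prelude.Def_Found

/-!
# Integral closures over Nagata rings: Stacks 037J and finiteness in reduced finite type algebras (helper4)
-/

set_option backward.isDefEq.respectTransparency.types false
set_option synthInstance.maxHeartbeats 400000
set_option autoImplicit false
set_option linter.unusedSectionVars false
set_option linter.style.haveILetI false
set_option linter.unusedSimpArgs false
universe u v w
open CategoryTheory CategoryTheory.Limits AlgebraicGeometry TopologicalSpace IsLocalRing

namespace Groth.Agent.Lib.Helper4.Nagata1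

/-- elements algebraic over `k` which are linearly independent over `k` stay linearly independent
over the polynomial ring generated by an algebraically independent family -/
theorem linearIndependent_adjoin_of_isAlgebraic {k K : Type*} [Field k] [Field K] [Algebra k K]
    {ι κ : Type*} (x : ι → K) (hx : AlgebraicIndependent k x) (a : κ → K)
    (ha : ∀ j, IsAlgebraic k (a j)) (hlin : LinearIndependent k a) :
    LinearIndependent (Algebra.adjoin k (Set.range x)) a := by
  classical
  -- the algebraic closure of `k` in `K`
  let L : IntermediateField k K := algebraicClosure k K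
  have hxL : AlgebraicIndependent L x := hx.extendScalars L
  rw [linearIndependent_iff'] at hlin ⊢
  intro s g hg j hj
  -- write the coefficients as polynomials
  have hsurj : ∀ r : Algebra.adjoin k (Set.range x), ∃ f : MvPolynomial ι k,
      MvPolynomial.aeval x f = (r : K) := by
    intro r
    have h1 : (r : K) ∈ (MvPolynomial.aeval x : MvPolynomial ι k →ₐ[k] K).range := by
      rw [← Algebra.adjoin_range_eq_range_aeval]
      exact r.2
    exact h1
  choose f hf using hsurj
  let a' : κ → L := fun j => ⟨a j, (mem_algebraicClosure_iff (F := k) (E := K)).mpr (ha j)⟩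
  -- the polynomial over `L`
  let G : MvPolynomial ι L :=
    ∑ i ∈ s, MvPolynomial.C (a' i) * MvPolynomial.map (algebraMap k L) (f (g i))
  have hG : MvPolynomial.aeval x G = 0 := by
    simp only [G, map_sum, map_mul, MvPolynomial.aeval_C]
    have : ∀ i, MvPolynomial.aeval x (MvPolynomial.map (algebraMap k L) (f (g i))) =
        ((g i : Algebra.adjoin k (Set.range x)) : K) := by
      intro i
      rw [← hf (g i)]
      rw [MvPolynomial.aeval_def, MvPolynomial.aeval_def, MvPolynomial.eval₂_map]
      congr 1
    simp only [this]
    rw [← hg]
    refine Finset.sum_congr rfl fun i _ => ?_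
    rw [mul_comm]
    rfl
  have hG0 : G = 0 := by
    have hinj : Function.Injective (MvPolynomial.aeval x : MvPolynomial ι L →ₐ[L] K) := hxL
    exact hinj (by rw [hG, map_zero])
  -- coefficients
  have hcoef : ∀ μ : ι →₀ ℕ, ∀ i ∈ s, MvPolynomial.coeff μ (f (g i)) = 0 := by
    intro μ
    have h1 : MvPolynomial.coeff μ G = 0 := by rw [hG0, MvPolynomial.coeff_zero]
    simp only [G, MvPolynomial.coeff_sum, MvPolynomial.coeff_C_mul, MvPolynomial.coeff_map] at h1
    have h2 : ∑ i ∈ s, (MvPolynomial.coeff μ (f (g i))) • a i = 0 := by
      have h3 := congrArg (fun z : L => (z : K)) h1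
      simp only [AddSubmonoidClass.coe_finsetSum, MulMemClass.coe_mul, ZeroMemClass.coe_zero] at h3
      rw [← h3]
      refine Finset.sum_congr rfl fun i _ => ?_
      rw [Algebra.smul_def, mul_comm]
      rfl
    exact hlin s (fun i => MvPolynomial.coeff μ (f (g i))) h2
  have hfj : f (g j) = 0 := by
    ext μ
    rw [hcoef μ j hj, MvPolynomial.coeff_zero]
  apply Subtype.ext
  rw [← hf (g j), hfj, map_zero]
  rfl



open scoped IntermediateField.algebraAdjoinAdjoin in
/-- Stacks 037J: the algebraic closure of `k` in a finitely generated field extension is finite -/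
theorem finite_algebraicClosure_of_essFiniteType (k K : Type u) [Field k] [Field K] [Algebra k K]
    [Algebra.EssFiniteType k K] : FiniteDimensional k (algebraicClosure k K) := by
  obtain ⟨ι, x, hx⟩ := exists_isTranscendenceBasis' k K
  let F : IntermediateField k K := IntermediateField.adjoin k (Set.range x)
  haveI halg : Algebra.IsAlgebraic F K := hx.isAlgebraic_field
  haveI : Algebra.EssFiniteType F K := Algebra.EssFiniteType.of_comp k F K
  haveI hfin : Module.Finite F K := Algebra.finite_of_essFiniteType_of_isAlgebraic
  -- the rank bound
  have hrank : Module.rank k (algebraicClosure k K) ≤ Module.rank F K := by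
    rw [Module.rank_def]
    apply ciSup_le'
    rintro ⟨s, hs⟩
    -- the family in `K`
    have hs' : LinearIndependent k (fun i : s => ((i : algebraicClosure k K) : K)) := by
      have h1 : LinearIndependent k (fun i : s => (i : algebraicClosure k K)) := hs
      exact h1.map' (algebraicClosure k K).val.toLinearMap
        (LinearMap.ker_eq_bot.mpr Subtype.val_injective)
    have h2 := linearIndependent_adjoin_of_isAlgebraic x hx.1
      (fun i : s => ((i : algebraicClosure k K) : K))
      (fun i => (mem_algebraicClosure_iff (F := k) (E := K)).mp (i : algebraicClosure k K).2) hs'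
    have h3 : LinearIndependent F (fun i : s => ((i : algebraicClosure k K) : K)) :=
      (LinearIndependent.iff_fractionRing (Algebra.adjoin k (Set.range x)) F).mp h2
    exact h3.cardinal_le_rank
  have : Module.rank k (algebraicClosure k K) < Cardinal.aleph0 :=
    lt_of_le_of_lt hrank (Module.rank_lt_aleph0 F K)
  exact Module.rank_lt_aleph0_iff.mp this



/-- integral closure of an N-2 domain in a finitely generated field extension of its fraction
field -/
theorem finite_integralClosure_of_isN2_of_essFiniteType (R : Type u) [CommRing R] [IsDomain R]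
    (hN : CAlg.IsN2 R) (L : Type u) [Field L] [Algebra R L]
    (hinj : Function.Injective (algebraMap R L)) [Algebra.EssFiniteType R L] :
    Module.Finite R (integralClosure R L) := by
  letI : Algebra (FractionRing R) L := (IsFractionRing.lift hinj).toAlgebra
  haveI : IsScalarTower R (FractionRing R) L :=
    IsScalarTower.of_algebraMap_eq (fun r => (IsFractionRing.lift_algebraMap hinj r).symm)
  haveI : Algebra.EssFiniteType (FractionRing R) L :=
    Algebra.EssFiniteType.of_comp R (FractionRing R) L
  let F' : IntermediateField (FractionRing R) L := algebraicClosure (FractionRing R) L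
  haveI hfin : FiniteDimensional (FractionRing R) F' :=
    finite_algebraicClosure_of_essFiniteType (FractionRing R) L
  have h1 : Module.Finite R (integralClosure R F') := hN F' hfin
  haveI : IsScalarTower R F' L := IsScalarTower.of_algebraMap_eq (fun _ => rfl)
  -- the comparison map
  let ψ : integralClosure R F' →ₗ[R] integralClosure R L :=
    { toFun := fun z => ⟨((z : F') : L), by
        have hz : IsIntegral R (z : F') := z.2
        exact hz.map (IsScalarTower.toAlgHom R F' L)⟩
      map_add' := fun _ _ => rfl
      map_smul' := fun _ _ => rfl }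
  have hψ : Function.Surjective ψ := by
    rintro ⟨y, hy⟩
    have hy' : IsIntegral R y := hy
    have hyF : IsIntegral (FractionRing R) y := hy'.tower_top
    have hmem : y ∈ F' := (mem_algebraicClosure_iff (F := FractionRing R) (E := L)).mpr hyF.isAlgebraic
    refine ⟨⟨⟨y, hmem⟩, ?_⟩, rfl⟩
    show IsIntegral R (⟨y, hmem⟩ : F')
    have hinjF : Function.Injective (algebraMap F' L) := (algebraMap F' L).injective
    exact (isIntegral_algebraMap_iff hinjF).mp hy'
  exact Module.Finite.of_surjective ψ hψ



/-- integral closure in a finitely generated field over a ring all of whose domain quotients are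
N-2 -/
theorem finite_integralClosure_field (R : Type u) [CommRing R]
    (hN : ∀ (p : Ideal R) [p.IsPrime], CAlg.IsN2 (R ⧸ p))
    (L : Type u) [Field L] [Algebra R L] [Algebra.EssFiniteType R L] :
    Module.Finite R (integralClosure R L) := by
  let p : Ideal R := RingHom.ker (algebraMap R L)
  haveI hp : p.IsPrime := RingHom.ker_isPrime _
  letI : Algebra (R ⧸ p) L := (Ideal.Quotient.lift p (algebraMap R L) (fun a ha => ha)).toAlgebra
  haveI : IsScalarTower R (R ⧸ p) L := IsScalarTower.of_algebraMap_eq (fun _ => rfl)
  have hinj : Function.Injective (algebraMap (R ⧸ p) L) := by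
    rw [injective_iff_map_eq_zero]
    intro a ha
    obtain ⟨a, rfl⟩ := Ideal.Quotient.mk_surjective a
    exact Ideal.Quotient.eq_zero_iff_mem.mpr ha
  haveI : Algebra.EssFiniteType (R ⧸ p) L := Algebra.EssFiniteType.of_comp R (R ⧸ p) L
  have h1 : Module.Finite (R ⧸ p) (integralClosure (R ⧸ p) L) :=
    finite_integralClosure_of_isN2_of_essFiniteType (R ⧸ p) (hN p) L hinj
  haveI : Module.Finite R (integralClosure (R ⧸ p) L) := Module.Finite.trans (R ⧸ p) _
  let ψ : integralClosure (R ⧸ p) L →ₗ[R] integralClosure R L :=
    { toFun := fun z => ⟨(z : L), by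
        have hz : IsIntegral (R ⧸ p) (z : L) := z.2
        exact isIntegral_trans (R := R) (A := R ⧸ p) _ hz⟩
      map_add' := fun _ _ => rfl
      map_smul' := fun _ _ => rfl }
  have hψ : Function.Surjective ψ := by
    rintro ⟨y, hy⟩
    have hy' : IsIntegral R y := hy
    exact ⟨⟨y, hy'.tower_top⟩, rfl⟩
  exact Module.Finite.of_surjective ψ hψ



/-- integral closure in a ring embedded in a finite product of finitely generated fields -/
theorem finite_integralClosure_of_embedding (R : Type u) [CommRing R] [IsNoetherianRing R]
    (hN : ∀ (p : Ideal R) [p.IsPrime], CAlg.IsN2 (R ⧸ p))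
    (B : Type*) [CommRing B] [Algebra R B]
    {ι : Type*} [Finite ι] (L : ι → Type u) [∀ i, Field (L i)] [∀ i, Algebra R (L i)]
    [∀ i, Algebra.EssFiniteType R (L i)]
    (ψ : B →ₐ[R] (∀ i, L i)) (hψ : Function.Injective ψ) :
    Module.Finite R (integralClosure R B) := by
  haveI : ∀ i, Module.Finite R (integralClosure R (L i)) :=
    fun i => finite_integralClosure_field R hN (L i)
  haveI : Module.Finite R (∀ i, integralClosure R (L i)) := Module.Finite.pi
  let Φ : integralClosure R B →ₗ[R] (∀ i, integralClosure R (L i)) :=
    { toFun := fun b i => ⟨ψ b.1 i, by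
        have hb : IsIntegral R b.1 := b.2
        have h1 : IsIntegral R (ψ b.1) := hb.map ψ
        exact h1.map (Pi.evalAlgHom R L i)⟩
      map_add' := fun a b => by
        funext i
        apply Subtype.ext
        show ψ (a.1 + b.1) i = ψ a.1 i + ψ b.1 i
        rw [map_add]; rfl
      map_smul' := fun r a => by
        funext i
        apply Subtype.ext
        show ψ (r • a.1) i = r • ψ a.1 i
        rw [map_smul]; rfl }
  have hΦ : Function.Injective Φ := by
    intro a b hab
    apply Subtype.ext
    apply hψ
    funext i
    have := congrFun hab i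
    exact congrArg Subtype.val this
  exact Module.Finite.of_injective Φ hΦ



/-- the product of the residue fields at the minimal primes -/
theorem injective_pi_minimalPrimes (S : Type*) [CommRing S] [IsReduced S] (s : S)
    (hs : ∀ q ∈ minimalPrimes S, s ∈ q) : s = 0 := by
  have h1 : s ∈ nilradical S := by
    rw [nilradical_eq_sInf, Ideal.mem_sInf]
    intro P hP
    have hP' : P.IsPrime := hP
    obtain ⟨q, hq, hqP⟩ := Ideal.exists_minimalPrimes_le (I := ⊥) (J := P) bot_le
    exact hqP (hs q hq)
  rw [nilradical_eq_zero] at h1
  exact h1

theorem S0573_main (R : Type u) [CommRing R] (hR : CAlg.IsNagata R)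
    (S : Type u) [CommRing S] [IsReduced S] [Algebra R S] [Algebra.FiniteType R S] :
    Module.Finite R (integralClosure R S) := by
  obtain ⟨hnoeth, hN⟩ := hR
  haveI := hnoeth
  haveI : IsNoetherianRing S := Algebra.FiniteType.isNoetherianRing R S
  haveI hfin : Finite (minimalPrimes S) := (minimalPrimes.finite_of_isNoetherianRing S).to_subtype
  haveI hprime : ∀ q : minimalPrimes S, q.1.IsPrime := fun q => Ideal.IsMinimalPrime.isPrime q.2
  let L : minimalPrimes S → Type u := fun q => FractionRing (S ⧸ q.1)
  haveI : ∀ q : minimalPrimes S, Algebra.EssFiniteType R (L q) := fun q => by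
    haveI : Algebra.EssFiniteType (S ⧸ q.1) (L q) :=
      Algebra.EssFiniteType.of_isLocalization _ (nonZeroDivisors (S ⧸ q.1))
    exact Algebra.EssFiniteType.comp R (S ⧸ q.1) (L q)
  let ψ : S →ₐ[R] (∀ q : minimalPrimes S, L q) :=
    AlgHom.pi (fun q => IsScalarTower.toAlgHom R S (L q))
  have hψ : Function.Injective ψ := by
    rw [injective_iff_map_eq_zero]
    intro s hs
    apply injective_pi_minimalPrimes S s
    intro q hq
    have h1 : algebraMap S (L ⟨q, hq⟩) s = 0 := congrFun hs ⟨q, hq⟩
    have h2 : algebraMap (S ⧸ q) (FractionRing (S ⧸ q)) (Ideal.Quotient.mk q s) = 0 := h1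
    have h3 : Ideal.Quotient.mk q s = 0 :=
      (IsFractionRing.injective (S ⧸ q) (FractionRing (S ⧸ q))) (by rw [h2, map_zero])
    exact Ideal.Quotient.eq_zero_iff_mem.mp h3
  exact finite_integralClosure_of_embedding R hN S L ψ hψ


end Groth.Agent.Lib.Helper4.Nagata1
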