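import Mathlib
import Groth.Prelude.Def_Found
import Groth.Prelude.Def_Curv2
import Groth.Agent.Lib.Helper4.Nagata1

/-!
# Total rings of fractions of reduced Noetherian rings; reduced one-dimensional local Nagata rings (helper4)
-/

set_option backward.isDefEq.respectTransparency.types false
set_option synthInstance.maxHeartbeats 400000
set_option autoImplicit false
set_option linter.unusedSectionVars false
set_option linter.style.haveILetI false
set_option linter.unusedSimpArgs false
universe u v w
open CategoryTheory CategoryTheory.Limits AlgebraicGeometry TopologicalSpace IsLocalRing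

namespace Groth.Agent.Lib.Helper4.Nagata2
open Groth.Agent.Lib.Helper4.Nagata1

/-- prime avoidance for the minimal primes -/
theorem exists_avoid_minimalPrimes (A : Type*) [CommRing A] (hfin : (minimalPrimes A).Finite)
    (q : Ideal A) (hq : q ∈ minimalPrimes A) :
    ∃ a b : A, a ∉ q ∧ (∀ q' ∈ minimalPrimes A, q' ≠ q → a ∈ q') ∧ b ∈ q ∧
      (∀ q' ∈ minimalPrimes A, q' ≠ q → b ∉ q') := by
  classical
  have hqp : q.IsPrime := Ideal.IsMinimalPrime.isPrime hq
  let s : Finset (Ideal A) := hfin.toFinset.erase q
  have hs : ∀ q', q' ∈ s ↔ (q' ∈ minimalPrimes A ∧ q' ≠ q) := by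
    intro q'
    simp only [s, Finset.mem_erase, Set.Finite.mem_toFinset]
    tauto
  have hmin : ∀ q' ∈ minimalPrimes A, q' ≤ q → q' = q := by
    intro q' hq' hle
    have hq'p : q'.IsPrime := Ideal.IsMinimalPrime.isPrime hq'
    exact le_antisymm hle (hq.2 ⟨hq'p, bot_le⟩ hle)
  have hmin' : ∀ q' ∈ minimalPrimes A, q ≤ q' → q' = q := by
    intro q' hq' hle
    exact le_antisymm (hq'.2 ⟨hqp, bot_le⟩ hle) hle
  -- the element `a`
  have ha : ∃ a, a ∈ s.inf id ∧ a ∉ q := by
    by_contra hcon
    push Not at hcon
    have hle : s.inf id ≤ q := fun a ha => hcon a ha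
    obtain ⟨q', hq's, hq'le⟩ := (Ideal.IsPrime.inf_le' hqp).mp hle
    obtain ⟨h1, h2⟩ := (hs q').mp hq's
    exact h2 (hmin q' h1 hq'le)
  obtain ⟨a, has, haq⟩ := ha
  -- the element `b`
  have hb : ∃ b, b ∈ q ∧ ∀ q' ∈ s, b ∉ q' := by
    by_contra hcon
    push Not at hcon
    have hsub : (q : Set A) ⊆ ⋃ i ∈ (↑s : Set (Ideal A)), (id i : Ideal A) := by
      intro b hb
      obtain ⟨q', hq's, hbq'⟩ := hcon b hb
      simp only [Set.mem_iUnion]
      exact ⟨q', hq's, hbq'⟩
    obtain ⟨q', hq's, hle⟩ := (Ideal.subset_union_prime (f := id) q q (fun i hi _ _ => by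
      obtain ⟨h1, _⟩ := (hs i).mp hi
      exact Ideal.IsMinimalPrime.isPrime h1)).mp hsub
    obtain ⟨h1, h2⟩ := (hs q').mp hq's
    exact h2 (hmin' q' h1 hle)
  obtain ⟨b, hbq, hbs⟩ := hb
  refine ⟨a, b, haq, ?_, hbq, ?_⟩
  · intro q' hq' hne
    have h1 : s.inf id ≤ id q' := Finset.inf_le ((hs q').mpr ⟨hq', hne⟩)
    exact h1 has
  · intro q' hq' hne
    exact hbs q' ((hs q').mpr ⟨hq', hne⟩)

/-- an element outside every minimal prime of a reduced ring is a non-zero-divisor -/
theorem mem_nonZeroDivisors_of_notMem_minimalPrimes (A : Type*) [CommRing A] [IsReduced A]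
    (s : A) (hs : ∀ q ∈ minimalPrimes A, s ∉ q) : s ∈ nonZeroDivisors A := by
  rw [mem_nonZeroDivisors_iff_right]
  intro x hx
  -- x * s = 0
  have h1 : x ∈ nilradical A := by
    rw [nilradical_eq_sInf, Ideal.mem_sInf]
    intro P hP
    have hP' : P.IsPrime := hP
    obtain ⟨q, hq, hqP⟩ := Ideal.exists_minimalPrimes_le (I := ⊥) (J := P) bot_le
    have hqp : q.IsPrime := Ideal.IsMinimalPrime.isPrime hq
    have : x * s ∈ q := by rw [hx]; exact q.zero_mem
    rcases hqp.mem_or_mem this with h | h
    · exact hqP h
    · exact absurd h (hs q hq)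
  rw [nilradical_eq_zero] at h1
  exact h1



section TotalFractions

variable (A : Type u) [CommRing A]

instance minimalPrimes_isPrime (q : minimalPrimes A) : q.1.IsPrime :=
  Ideal.IsMinimalPrime.isPrime q.2

/-- the residue field at a minimal prime -/
abbrev MinField (q : minimalPrimes A) : Type u := FractionRing (A ⧸ q.1)

theorem algebraMap_minField_eq_zero_iff (q : minimalPrimes A) (a : A) :
    algebraMap A (MinField A q) a = 0 ↔ a ∈ q.1 := by
  have h0 : algebraMap A (MinField A q) a =
      algebraMap (A ⧸ q.1) (FractionRing (A ⧸ q.1)) (Ideal.Quotient.mk q.1 a) := rfl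
  rw [h0]
  constructor
  · intro h
    have h3 : Ideal.Quotient.mk q.1 a = 0 :=
      (IsFractionRing.injective (A ⧸ q.1) (FractionRing (A ⧸ q.1))) (by rw [h, map_zero])
    exact Ideal.Quotient.eq_zero_iff_mem.mp h3
  · intro h
    rw [Ideal.Quotient.eq_zero_iff_mem.mpr h, map_zero]

/-- the map from the total ring of fractions to the product of the residue fields at the minimal
primes -/
noncomputable def toPiMinField : FractionRing A →ₐ[A] (∀ q : minimalPrimes A, MinField A q) :=
  IsLocalization.liftAlgHom (M := nonZeroDivisors A)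
    (f := Algebra.ofId A (∀ q : minimalPrimes A, MinField A q)) (by
      intro s
      rw [Pi.isUnit_iff]
      intro q
      apply IsUnit.mk0
      show algebraMap A (MinField A q) (s : A) ≠ 0
      rw [Ne, algebraMap_minField_eq_zero_iff]
      intro hsq
      exact Set.disjoint_left.mp (Ideal.disjoint_nonZeroDivisors_of_mem_minimalPrimes q.2) hsq s.2)

theorem toPiMinField_algebraMap (a : A) (q : minimalPrimes A) :
    toPiMinField A (algebraMap A (FractionRing A) a) q = algebraMap A (MinField A q) a := by
  rw [AlgHom.commutes]
  rfl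

theorem toPiMinField_injective [IsReduced A] : Function.Injective (toPiMinField A) := by
  rw [injective_iff_map_eq_zero]
  intro x hx
  obtain ⟨a, s, rfl⟩ := IsLocalization.exists_mk'_eq (nonZeroDivisors A) x
  have h1 : toPiMinField A (algebraMap A (FractionRing A) a) = 0 := by
    have : algebraMap A (FractionRing A) a =
        IsLocalization.mk' (FractionRing A) a s * algebraMap A (FractionRing A) (s : A) := by
      rw [IsLocalization.mk'_spec]
    rw [this, map_mul, hx, zero_mul]
  have ha : a = 0 := by
    apply injective_pi_minimalPrimes A a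
    intro q hq
    have h2 := congrFun h1 ⟨q, hq⟩
    rw [toPiMinField_algebraMap] at h2
    exact (algebraMap_minField_eq_zero_iff A ⟨q, hq⟩ a).mp h2
  rw [ha, IsLocalization.mk'_zero]

/-- surjectivity onto the elements concentrated in one factor -/
theorem exists_toPiMinField_eq_single [IsReduced A] [DecidableEq (minimalPrimes A)]
    (hfin : (minimalPrimes A).Finite)
    (q : minimalPrimes A) (y : MinField A q) :
    ∃ z : FractionRing A, toPiMinField A z = Pi.single q y := by
  obtain ⟨a, b, haq, haq', hbq, hbq'⟩ := exists_avoid_minimalPrimes A hfin q.1 q.2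
  obtain ⟨c', t', rfl⟩ := IsLocalization.exists_mk'_eq (nonZeroDivisors (A ⧸ q.1)) y
  obtain ⟨c, rfl⟩ := Ideal.Quotient.mk_surjective c'
  obtain ⟨t, ht⟩ := Ideal.Quotient.mk_surjective (t' : A ⧸ q.1)
  have htq : t ∉ q.1 := by
    intro h
    have : (t' : A ⧸ q.1) = 0 := by rw [← ht]; exact Ideal.Quotient.eq_zero_iff_mem.mpr h
    exact nonZeroDivisors.coe_ne_zero t' this
  -- the denominator
  have hden : t * a + b ∈ nonZeroDivisors A := by
    apply mem_nonZeroDivisors_of_notMem_minimalPrimes
    intro q' hq' hmem
    by_cases hqq : q' = q.1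
    · subst hqq
      have h1 : t * a ∈ q.1 := by
        have := q.1.sub_mem hmem hbq
        simpa using this
      rcases (minimalPrimes_isPrime A q).mem_or_mem h1 with h | h
      · exact htq h
      · exact haq h
    · have h1 : b ∈ q' := by
        have := q'.sub_mem hmem (q'.mul_mem_left t (haq' q' hq' hqq))
        simpa using this
      exact hbq' q' hq' hqq h1
  refine ⟨IsLocalization.mk' (FractionRing A) (c * a) ⟨t * a + b, hden⟩, ?_⟩
  funext q'
  have hspec : toPiMinField A (IsLocalization.mk' (FractionRing A) (c * a) ⟨t * a + b, hden⟩) q' *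
      algebraMap A (MinField A q') (t * a + b) = algebraMap A (MinField A q') (c * a) := by
    rw [← toPiMinField_algebraMap, ← toPiMinField_algebraMap, ← Pi.mul_apply, ← map_mul,
      IsLocalization.mk'_spec]
  by_cases hqq : q' = q
  · subst hqq
    rw [Pi.single_eq_same]
    have hne : algebraMap A (MinField A q') (t * a + b) ≠ 0 := by
      rw [Ne, algebraMap_minField_eq_zero_iff]
      intro h
      exact Set.disjoint_left.mp (Ideal.disjoint_nonZeroDivisors_of_mem_minimalPrimes q'.2) h hden
    apply mul_right_cancel₀ hne
    rw [hspec]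
    -- the right hand side
    have h1 : IsLocalization.mk' (FractionRing (A ⧸ q'.1)) (Ideal.Quotient.mk q'.1 c) t' *
        algebraMap (A ⧸ q'.1) (FractionRing (A ⧸ q'.1)) (t' : A ⧸ q'.1) =
        algebraMap (A ⧸ q'.1) (FractionRing (A ⧸ q'.1)) (Ideal.Quotient.mk q'.1 c) :=
      IsLocalization.mk'_spec _ _ _
    have h2 : algebraMap A (MinField A q') (t * a + b) =
        algebraMap (A ⧸ q'.1) (FractionRing (A ⧸ q'.1)) (t' : A ⧸ q'.1) *
          algebraMap A (MinField A q') a := by
      have hb0 : algebraMap A (MinField A q') b = 0 :=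
        (algebraMap_minField_eq_zero_iff A q' b).mpr hbq
      rw [map_add, hb0, add_zero, map_mul, ← ht]
      rfl
    rw [h2, ← mul_assoc, h1, map_mul]
    rfl
  · have hne : (Pi.single q (IsLocalization.mk' (FractionRing (A ⧸ q.1)) (Ideal.Quotient.mk q.1 c) t') :
        ∀ q : minimalPrimes A, MinField A q) q' = 0 := Pi.single_eq_of_ne hqq _
    rw [hne]
    have hq'ne : q'.1 ≠ q.1 := fun h => hqq (Subtype.ext h)
    have hden' : algebraMap A (MinField A q') (t * a + b) ≠ 0 := by
      rw [Ne, algebraMap_minField_eq_zero_iff]
      intro h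
      exact Set.disjoint_left.mp (Ideal.disjoint_nonZeroDivisors_of_mem_minimalPrimes q'.2) h hden
    have h0 : algebraMap A (MinField A q') (c * a) = 0 :=
      (algebraMap_minField_eq_zero_iff A q' _).mpr (q'.1.mul_mem_left c (haq' q'.1 q'.2 hq'ne))
    rw [h0] at hspec
    exact (mul_eq_zero.mp hspec).resolve_right hden'

end TotalFractions



/-- localizing at a prime not containing an idempotent-like element: the local ring only sees
the corresponding factor -/
theorem localization_of_factor {C D : Type*} [CommRing C] [CommRing D] [IsDomain D]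
    [IsIntegrallyClosed D] (π : C →+* D) (hπ : Function.Surjective π) (e : C)
    (hker : ∀ x, π x = 0 → e * x = 0) (P : Ideal C) [hP : P.IsPrime] (heP : e ∉ P) :
    IsDomain (Localization.AtPrime P) ∧ IsIntegrallyClosed (Localization.AtPrime P) := by
  have hkerP : RingHom.ker π ≤ P := by
    intro x hx
    have h1 : e * x ∈ P := by rw [hker x hx]; exact P.zero_mem
    exact (hP.mem_or_mem h1).resolve_left heP
  let P' : Ideal D := P.map π
  haveI hP' : P'.IsPrime := Ideal.map_isPrime_of_surjective hπ hkerP
  have hcomap : P'.comap π = P := Ideal.comap_map_of_surjective' π hπ P |>.trans (by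
    rw [sup_eq_left]; exact hkerP)
  letI : Algebra C D := π.toAlgebra
  have halg : ∀ c : C, algebraMap C (Localization.AtPrime P') c =
      algebraMap D (Localization.AtPrime P') (π c) := fun c =>
    IsScalarTower.algebraMap_apply C D (Localization.AtPrime P') c
  haveI hloc : IsLocalization.AtPrime (Localization.AtPrime P') P := by
    refine ⟨?_, ?_, ?_⟩
    · rintro ⟨s, hs⟩
      have : π s ∈ P'.primeCompl := by
        intro h
        apply hs
        rw [← hcomap]
        exact h
      show IsUnit (algebraMap C (Localization.AtPrime P') s)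
      rw [halg]
      exact IsLocalization.map_units (Localization.AtPrime P') ⟨π s, this⟩
    · intro z
      obtain ⟨d, t, rfl⟩ := IsLocalization.exists_mk'_eq P'.primeCompl z
      obtain ⟨c, rfl⟩ := hπ d
      obtain ⟨s, hs⟩ := hπ (t : D)
      have hsP : s ∈ P.primeCompl := by
        intro h
        apply t.2
        rw [← hs]
        exact Ideal.mem_map_of_mem π h
      refine ⟨⟨c, ⟨s, hsP⟩⟩, ?_⟩
      show IsLocalization.mk' (Localization.AtPrime P') (π c) t *
        algebraMap C (Localization.AtPrime P') s = algebraMap C (Localization.AtPrime P') c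
      rw [halg, halg, hs, IsLocalization.mk'_spec]
    · intro c₁ c₂ h
      have h' : algebraMap D (Localization.AtPrime P') (π c₁) =
          algebraMap D (Localization.AtPrime P') (π c₂) := by
        rw [← halg, ← halg]; exact h
      obtain ⟨t, ht⟩ := (IsLocalization.eq_iff_exists P'.primeCompl _).mp h'
      obtain ⟨s, hs⟩ := hπ (t : D)
      have hsP : s ∉ P := by
        intro h
        apply t.2
        rw [← hs]
        exact Ideal.mem_map_of_mem π h
      have h0 : π (s * (c₁ - c₂)) = 0 := by
        rw [map_mul, map_sub, hs, mul_sub, ht, sub_self]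
      have h1 := hker _ h0
      refine ⟨⟨e * s, ?_⟩, ?_⟩
      · intro h
        rcases hP.mem_or_mem h with h | h
        · exact heP h
        · exact hsP h
      · show e * s * c₁ = e * s * c₂
        have : e * s * c₁ - e * s * c₂ = e * (s * (c₁ - c₂)) := by ring
        rw [← sub_eq_zero, this, h1]
  let E : Localization.AtPrime P ≃ₐ[C] Localization.AtPrime P' :=
    IsLocalization.algEquiv P.primeCompl _ _
  constructor
  · exact E.toRingEquiv.toMulEquiv.isDomain (Localization.AtPrime P')
  · haveI : IsIntegrallyClosed (Localization.AtPrime P') :=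
      isIntegrallyClosed_of_isLocalization (Localization.AtPrime P') P'.primeCompl
        (Ideal.primeCompl_le_nonZeroDivisors _)
    exact IsIntegrallyClosed.of_equiv E.symm.toRingEquiv



/-- an element of a product of algebras concentrated in one factor is integral if its component
is -/
theorem isIntegral_single {R : Type*} [CommRing R] {ι : Type*} [DecidableEq ι] (L : ι → Type*)
    [∀ i, CommRing (L i)] [∀ i, Algebra R (L i)] (i : ι) (y : L i) (hy : IsIntegral R y) :
    IsIntegral R (Pi.single i y : ∀ i, L i) := by
  obtain ⟨p, hp, hpy⟩ := hy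
  refine ⟨Polynomial.X * p, Polynomial.Monic.mul Polynomial.monic_X hp, ?_⟩
  rw [Polynomial.eval₂_mul, Polynomial.eval₂_X]
  funext j
  rw [Pi.mul_apply, Pi.zero_apply]
  by_cases hj : j = i
  · subst hj
    rw [Pi.single_eq_same]
    have h1 : (Polynomial.eval₂ (algebraMap R (∀ i, L i)) (Pi.single j y) p) j =
        Polynomial.eval₂ (algebraMap R (L j)) y p := by
      have := Polynomial.hom_eval₂ p (algebraMap R (∀ i, L i)) (Pi.evalRingHom L j) (Pi.single j y)
      simp only [Pi.evalRingHom_apply, Pi.single_eq_same] at this
      rw [this]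
      rfl
    rw [h1, hpy, mul_zero]
  · rw [Pi.single_eq_of_ne hj, zero_mul]



section TotalFractions

variable (A : Type u) [CommRing A]

theorem single_one_mul {ι : Type*} [DecidableEq ι] (L : ι → Type*) [∀ i, CommRing (L i)] (i : ι)
    (f : ∀ i, L i) : (Pi.single i 1 : ∀ i, L i) * f = Pi.single i (f i) := by
  funext j
  rw [Pi.mul_apply]
  by_cases hj : j = i
  · subst hj; rw [Pi.single_eq_same, Pi.single_eq_same, one_mul]
  · rw [Pi.single_eq_of_ne hj, Pi.single_eq_of_ne hj, zero_mul]

/-- the localizations of the integral closure of a reduced Noetherian ring in its total ring of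
fractions are integrally closed domains -/
theorem normal_integralClosure_fractionRing [IsReduced A] (hfin : (minimalPrimes A).Finite)
    (P : Ideal (integralClosure A (FractionRing A))) [hP : P.IsPrime] :
    IsDomain (Localization.AtPrime P) ∧ IsIntegrallyClosed (Localization.AtPrime P) := by
  classical
  haveI : Finite (minimalPrimes A) := hfin.to_subtype
  haveI : Fintype (minimalPrimes A) := Fintype.ofFinite _
  have hinj := toPiMinField_injective A
  -- the idempotents
  choose e he using fun q : minimalPrimes A => exists_toPiMinField_eq_single A hfin q 1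
  have hint : ∀ z : FractionRing A, IsIntegral A (toPiMinField A z) → IsIntegral A z :=
    fun z hz => (isIntegral_algHom_iff (toPiMinField A) hinj).mp hz
  have heint : ∀ q, IsIntegral A (e q) := fun q => by
    apply hint
    rw [he]
    exact isIntegral_single _ q 1 isIntegral_one
  let e' : minimalPrimes A → integralClosure A (FractionRing A) := fun q => ⟨e q, heint q⟩
  have hsum : ∑ q, e' q = 1 := by
    apply Subtype.ext
    apply hinj
    rw [AddSubmonoidClass.coe_finsetSum, map_sum]
    simp only [e', he]
    rw [Finset.univ_sum_single, OneMemClass.coe_one, map_one]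
    rfl
  obtain ⟨q, hq⟩ : ∃ q, e' q ∉ P := by
    by_contra hcon
    push Not at hcon
    apply hP.ne_top
    rw [Ideal.eq_top_iff_one, ← hsum]
    exact P.sum_mem (fun q _ => hcon q)
  -- the factor
  let D := integralClosure (A ⧸ q.1) (MinField A q)
  haveI : IsIntegrallyClosed D :=
    integralClosure.isIntegrallyClosedOfFiniteExtension (R := A ⧸ q.1) (MinField A q)
      (L := MinField A q)
  let π₀ : integralClosure A (FractionRing A) →+* MinField A q :=
    ((Pi.evalRingHom (MinField A) q).comp (toPiMinField A).toRingHom).comp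
      (integralClosure A (FractionRing A)).val.toRingHom
  have hπ₀ : ∀ x, π₀ x ∈ D.toSubring := by
    intro x
    have hx : IsIntegral A x.1 := x.2
    have h1 : IsIntegral A (toPiMinField A x.1) := hx.map (toPiMinField A)
    have h2 : IsIntegral A (toPiMinField A x.1 q) := h1.map (Pi.evalAlgHom A (MinField A) q)
    exact h2.tower_top
  let π : integralClosure A (FractionRing A) →+* D := π₀.codRestrict D.toSubring hπ₀
  have hπ : Function.Surjective π := by
    rintro ⟨y, hy⟩
    have hy' : IsIntegral A y := isIntegral_trans (R := A) (A := A ⧸ q.1) _ hy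
    obtain ⟨z, hz⟩ := exists_toPiMinField_eq_single A hfin q y
    have hzint : IsIntegral A z := by
      apply hint
      rw [hz]
      exact isIntegral_single _ q y hy'
    refine ⟨⟨z, hzint⟩, ?_⟩
    apply Subtype.ext
    show toPiMinField A z q = y
    rw [hz, Pi.single_eq_same]
  have hker : ∀ x, π x = 0 → e' q * x = 0 := by
    intro x hx
    have hx' : toPiMinField A x.1 q = 0 := congrArg Subtype.val hx
    apply Subtype.ext
    apply hinj
    show toPiMinField A (e q * x.1) = toPiMinField A 0
    rw [map_mul, he, single_one_mul, hx', Pi.single_zero, map_zero]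
  exact localization_of_factor π hπ (e' q) hker P hq

end TotalFractions



/-- a finite module over a one-dimensional Noetherian ring killed by a non-zero-divisor has finite
length -/
theorem isFiniteLength_of_smul_eq_zero (A : Type*) [CommRing A] [IsNoetherianRing A]
    [Ring.KrullDimLE 1 A] (M : Type*) [AddCommGroup M] [Module A M] [Module.Finite A M]
    (s : A) (hs : s ∈ nonZeroDivisors A) (hM : ∀ m : M, s • m = 0) : IsFiniteLength A M := by
  rw [isFiniteLength_iff_isNoetherian_isArtinian]
  refine ⟨inferInstance, ?_⟩
  have hart : IsArtinianRing (A ⧸ Ideal.span {s}) := by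
    rw [isArtinianRing_iff_krullDimLE_zero, Ring.KrullDimLE, Order.krullDimLE_iff,
      ← ENat.WithBot.add_le_add_one_right_iff, Nat.cast_zero, zero_add]
    exact (ringKrullDim_quotient_succ_le_of_nonZeroDivisor hs).trans (Order.KrullDimLE.krullDim_le)
  have htors : Module.IsTorsionBySet A M (Ideal.span {s} : Ideal A) := by
    rw [Module.isTorsionBySet_span_singleton_iff]
    exact hM
  letI := htors.module
  haveI : IsScalarTower A (A ⧸ Ideal.span {s}) M := htors.isScalarTower
  haveI : Module.Finite (A ⧸ Ideal.span {s}) M := Module.Finite.of_restrictScalars_finite A _ M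
  haveI : IsArtinian (A ⧸ Ideal.span {s}) M := inferInstance
  exact isArtinian_of_surjective_algebraMap (R := A ⧸ Ideal.span {s}) (S := A)
    (Ideal.Quotient.mk_surjective (I := Ideal.span {s}))



section TotalFractions

variable (A : Type u) [CommRing A]

/-- a common denominator for a finite integral closure inside the total ring of fractions -/
theorem exists_conductor [Module.Finite A (integralClosure A (FractionRing A))] :
    ∃ s ∈ nonZeroDivisors A, ∀ x : integralClosure A (FractionRing A),
      s • x ∈ LinearMap.range (Algebra.linearMap A (integralClosure A (FractionRing A))) := by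
  classical
  obtain ⟨G, hG⟩ := (Module.Finite.fg_top :
    (⊤ : Submodule A (integralClosure A (FractionRing A))).FG)
  obtain ⟨s, hs⟩ := IsLocalization.exist_integer_multiples_of_finset (nonZeroDivisors A)
    (G.image (fun x : integralClosure A (FractionRing A) => (x : FractionRing A)))
  refine ⟨s, s.2, fun x => ?_⟩
  have hx : x ∈ Submodule.span A (G : Set (integralClosure A (FractionRing A))) := by
    rw [hG]; trivial
  induction hx using Submodule.span_induction with
  | mem y hy =>
    obtain ⟨a, ha⟩ := hs (y : FractionRing A) (Finset.mem_image_of_mem _ hy)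
    refine ⟨a, ?_⟩
    apply Subtype.ext
    show algebraMap A (FractionRing A) a = (s : A) • (y : FractionRing A)
    exact ha
  | zero => rw [smul_zero]; exact Submodule.zero_mem _
  | add y z _ _ hy hz => rw [smul_add]; exact Submodule.add_mem _ hy hz
  | smul c y _ hy => rw [smul_comm]; exact Submodule.smul_mem _ c hy

end TotalFractions

theorem S7652_main (A : Type u) [CommRing A] [IsLocalRing A]
    [IsReduced A] (hN : CAlg.IsNagata A) (hdim : ringKrullDim A = 1) :
    Module.Finite A (integralClosure A (FractionRing A)) ∧
      (∀ p : PrimeSpectrum (integralClosure A (FractionRing A)),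
        IsDomain (Localization.AtPrime p.asIdeal) ∧ IsIntegrallyClosed (Localization.AtPrime p.asIdeal)) ∧
      Curv2.deltaInv A < ⊤ := by
  obtain ⟨hnoeth, hN2⟩ := hN
  haveI := hnoeth
  have hfin : (minimalPrimes A).Finite := minimalPrimes.finite_of_isNoetherianRing A
  haveI : Finite (minimalPrimes A) := hfin.to_subtype
  haveI : ∀ q : minimalPrimes A, Algebra.EssFiniteType A (MinField A q) := fun q => by
    haveI : Algebra.EssFiniteType (A ⧸ q.1) (MinField A q) :=
      Algebra.EssFiniteType.of_isLocalization _ (nonZeroDivisors (A ⧸ q.1))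
    exact Algebra.EssFiniteType.comp A (A ⧸ q.1) (MinField A q)
  haveI h1 : Module.Finite A (integralClosure A (FractionRing A)) :=
    finite_integralClosure_of_embedding A hN2 (FractionRing A) (MinField A) (toPiMinField A)
      (toPiMinField_injective A)
  refine ⟨h1, fun p => normal_integralClosure_fractionRing A hfin p.asIdeal, ?_⟩
  -- the delta invariant
  haveI : Ring.KrullDimLE 1 A := by
    rw [Ring.KrullDimLE, Order.krullDimLE_iff]
    exact le_of_eq hdim
  obtain ⟨s, hs, hcond⟩ := exists_conductor A
  have hfl : IsFiniteLength A ((integralClosure A (FractionRing A)) ⧸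
      LinearMap.range (Algebra.linearMap A (integralClosure A (FractionRing A)))) := by
    apply isFiniteLength_of_smul_eq_zero A _ s hs
    intro m
    obtain ⟨x, rfl⟩ := Submodule.Quotient.mk_surjective _ m
    rw [← Submodule.Quotient.mk_smul, Submodule.Quotient.mk_eq_zero]
    exact hcond x
  rw [Curv2.deltaInv, lt_top_iff_ne_top, Module.length_ne_top_iff]
  exact hfl


end Groth.Agent.Lib.Helper4.Nagata2
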