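import Mathlib
import Groth.Prelude.Def_Brnch
import Groth.Prelude.Def_Curv2
import Groth.Prelude.Def_Found
import Groth.Agent.Lib.Helper4.Nagata2

/-!
# Idempotents in the total ring of fractions; delta = 0; one branch (helper4)
-/

set_option backward.isDefEq.respectTransparency.types false
set_option synthInstance.maxHeartbeats 400000
set_option autoImplicit false
set_option linter.unusedSectionVars false
set_option linter.style.haveILetI false
set_option linter.unusedSimpArgs false
universe u v w
open CategoryTheory CategoryTheory.Limits AlgebraicGeometry TopologicalSpace IsLocalRing Opposite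
open Groth.Agent.Lib.Helper4.Nagata2

namespace Groth.Agent.Lib.Helper4.BranchCount1

section Idem

/-- a reduced ring with finitely many minimal primes whose total ring of fractions has no
nontrivial idempotent integral over the ring is a domain. -/
theorem isDomain_of_idempotents (A : Type u) [CommRing A] [IsReduced A] [Nontrivial A]
    (hfin : (minimalPrimes A).Finite)
    (hid : ∀ e : FractionRing A, IsIntegral A e → e * e = e → e = 0 ∨ e = 1) : IsDomain A := by
  have hinj : Function.Injective (algebraMap A (FractionRing A)) :=
    IsLocalization.injective _ le_rfl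
  -- any two minimal primes coincide
  have key : ∀ p ∈ minimalPrimes A, ∀ q ∈ minimalPrimes A, p = q := by
    intro p hp q hq
    by_contra hpq
    obtain ⟨a, b, hap, ha', hbp, hb'⟩ := exists_avoid_minimalPrimes A hfin p hp
    have hs : a + b ∈ nonZeroDivisors A := by
      apply mem_nonZeroDivisors_of_notMem_minimalPrimes
      intro q' hq' hmem
      haveI : q'.IsPrime := Ideal.IsMinimalPrime.isPrime hq'
      by_cases h : q' = p
      · subst h
        exact hap (by simpa using Ideal.sub_mem _ hmem hbp)
      · exact hb' q' hq' h (by simpa using Ideal.sub_mem _ hmem (ha' q' hq' h))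
    have hab : a * b = 0 := by
      have h1 : a * b ∈ nilradical A := by
        rw [nilradical_eq_sInf, Ideal.mem_sInf]
        intro P hP
        haveI : P.IsPrime := hP
        obtain ⟨q', hq', hle⟩ := Ideal.exists_minimalPrimes_le (I := ⊥) (J := P) bot_le
        apply hle
        by_cases h : q' = p
        · subst h; exact Ideal.mul_mem_left _ _ hbp
        · exact Ideal.mul_mem_right _ _ (ha' q' hq' h)
      rw [nilradical_eq_zero] at h1
      exact h1
    let e : FractionRing A := IsLocalization.mk' (FractionRing A) a ⟨a + b, hs⟩
    have hee : e * e = e := by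
      rw [← IsLocalization.mk'_mul, IsLocalization.mk'_eq_iff_eq]
      congr 1
      simp only [Submonoid.coe_mul]
      have : a * a = a * (a + b) := by rw [mul_add, hab, add_zero]
      rw [this]; ring
    have hint : IsIntegral A e := by
      refine ⟨Polynomial.X ^ 2 - Polynomial.X, ?_, ?_⟩
      · exact Polynomial.monic_X_pow_sub (by simp)
      · simp [pow_two, hee]
    rcases hid e hint hee with h0 | h1
    · have : a = 0 := by
        have := (IsLocalization.mk'_eq_zero_iff a (⟨a + b, hs⟩ : nonZeroDivisors A)).mp h0
        obtain ⟨m, hm⟩ := this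
        exact (mem_nonZeroDivisors_iff.mp m.2).1 _ hm
      exact hap (this ▸ Ideal.zero_mem _)
    · have : a = a + b := by
        have h2 : e = IsLocalization.mk' (FractionRing A) (a + b) (⟨a + b, hs⟩ : nonZeroDivisors A) := by
          rw [h1]; exact (IsLocalization.mk'_self (FractionRing A) hs).symm
        have h3 := hinj ((IsLocalization.mk'_eq_iff_eq (S := FractionRing A)).mp h2)
        have h4 : (a - (a + b)) * (a + b) = 0 := by
          simp only at h3
          linear_combination h3
        have h5 := (mem_nonZeroDivisors_iff_right.mp hs) _ h4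
        linear_combination h5
      have hb0 : b = 0 := by linear_combination -this
      exact hb' q hq (Ne.symm hpq) (hb0 ▸ Ideal.zero_mem _)
  obtain ⟨m, hm⟩ := Ideal.exists_maximal A
  obtain ⟨p, hp, -⟩ := Ideal.exists_minimalPrimes_le (I := ⊥) (J := m) bot_le
  have hp' : p ∈ minimalPrimes A := hp
  have hnil : nilradical A = p := by
    rw [nilradical_eq_sInf]
    apply le_antisymm
    · exact sInf_le (Ideal.IsMinimalPrime.isPrime hp')
    · refine le_sInf ?_
      intro P hP
      haveI : P.IsPrime := hP
      obtain ⟨q', hq', hle⟩ := Ideal.exists_minimalPrimes_le (I := ⊥) (J := P) bot_le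
      rw [key p hp' q' hq']
      exact hle
  have hbot : p = ⊥ := by rw [← hnil]; exact nilradical_eq_zero A
  haveI : (⊥ : Ideal A).IsPrime := hbot ▸ Ideal.IsMinimalPrime.isPrime hp'
  exact IsDomain.of_bot_isPrime A

end Idem



section Delta

variable (A : Type u) [CommRing A]

theorem deltaInv_eq_zero_iff :
    Curv2.deltaInv A = 0 ↔
      Function.Surjective (algebraMap A (integralClosure A (FractionRing A))) := by
  unfold Curv2.deltaInv
  rw [Module.length_eq_zero_iff, Submodule.Quotient.subsingleton_iff, LinearMap.range_eq_top]
  rfl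

theorem eq_zero_or_one_of_idempotent [IsLocalRing A] (c : A) (hc : c * c = c) : c = 0 ∨ c = 1 := by
  rcases IsLocalRing.isUnit_or_isUnit_one_sub_self c with h | h
  · right
    have : c * (c - 1) = 0 := by rw [mul_sub, hc, mul_one, sub_self]
    have := (h.mul_right_eq_zero).mp this
    linear_combination this
  · left
    have : (1 - c) * c = 0 := by rw [sub_mul, hc, one_mul, sub_self]
    exact (h.mul_right_eq_zero).mp this

theorem dvr_of_normal_dim_one (R : Type*) [CommRing R] [IsDomain R] [IsLocalRing R]
    [IsNoetherianRing R] [IsIntegrallyClosed R] (hdim : ringKrullDim R = 1) :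
    IsDiscreteValuationRing R := by
  have hF : ¬ IsField R := by
    intro h
    have := ringKrullDim_eq_zero_of_isField h
    rw [hdim] at this
    exact one_ne_zero this
  haveI : Ring.KrullDimLE 1 R := ⟨by rw [Nat.cast_one]; exact hdim.le⟩
  have hm : maximalIdeal R ≠ ⊥ := fun h => hF (IsLocalRing.isField_iff_maximalIdeal_eq.mpr h)
  have h4 : IsIntegrallyClosed R ∧ ∃! P : Ideal R, P ≠ ⊥ ∧ P.IsPrime := by
    refine ⟨inferInstance, maximalIdeal R, ⟨hm, inferInstance⟩, ?_⟩
    rintro P ⟨hP0, hP⟩
    have : P.IsMaximal := hP.isMaximal_of_ne_bot hP0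
    exact IsLocalRing.eq_maximalIdeal this
  exact ((IsDiscreteValuationRing.TFAE R hF).out 3 0).mp h4

theorem S7653_main [IsLocalRing A] [IsReduced A] (hN : IsNoetherianRing A)
    (hdim : ringKrullDim A = 1) :
    Curv2.deltaInv A = 0 ↔ ∃ _ : IsDomain A, IsDiscreteValuationRing A := by
  rw [deltaInv_eq_zero_iff]
  have hinj : Function.Injective (algebraMap A (FractionRing A)) :=
    IsLocalization.injective _ le_rfl
  constructor
  · intro hsurj
    have hmem : ∀ e : FractionRing A, IsIntegral A e → ∃ c : A, algebraMap A (FractionRing A) c = e := by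
      intro e he
      obtain ⟨c, hc⟩ := hsurj ⟨e, he⟩
      exact ⟨c, congrArg Subtype.val hc⟩
    haveI : IsDomain A := by
      apply isDomain_of_idempotents A (minimalPrimes.finite_of_isNoetherianRing A)
      intro e he hee
      obtain ⟨c, rfl⟩ := hmem e he
      have hcc : c * c = c := hinj (by rw [map_mul, hee])
      rcases eq_zero_or_one_of_idempotent A c hcc with h | h
      · left; rw [h, map_zero]
      · right; rw [h, map_one]
    refine ⟨inferInstance, ?_⟩
    haveI : IsIntegrallyClosed A := by
      rw [isIntegrallyClosed_iff (FractionRing A)]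
      intro x hx
      exact hmem x hx
    exact dvr_of_normal_dim_one A hdim
  · rintro ⟨hdom, hdvr⟩
    intro x
    haveI : IsIntegrallyClosed A := inferInstance
    obtain ⟨c, hc⟩ := (isIntegrallyClosed_iff (FractionRing A)).mp inferInstance x.2
    exact ⟨c, Subtype.ext hc⟩

end Delta



section Unibranch

variable (A : Type u) [CommRing A]

theorem minimalPrimes_eq_image_red :
    minimalPrimes A = Ideal.comap (Ideal.Quotient.mk (nilradical A)) '' minimalPrimes (CAlg2.red A) := by
  rw [← Ideal.minimalPrimes_eq_comap]
  exact (Ideal.radical_minimalPrimes (I := (⊥ : Ideal A))).symm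

theorem finite_minimalPrimes_red (h : (minimalPrimes A).Finite) :
    (minimalPrimes (CAlg2.red A)).Finite := by
  rw [minimalPrimes_eq_image_red] at h
  exact Set.Finite.of_finite_image h
    (Ideal.comap_injective_of_surjective _ Ideal.Quotient.mk_surjective).injOn

instance isReduced_red : IsReduced (CAlg2.red A) :=
  (Ideal.isRadical_iff_quotient_reduced (nilradical A)).mp (Ideal.radical_isRadical _)

instance nontrivial_red [Nontrivial A] : Nontrivial (CAlg2.red A) := by
  apply Ideal.Quotient.nontrivial_iff.mpr
  intro h
  have h1 : (1 : A) ∈ nilradical A := h ▸ Submodule.mem_top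
  obtain ⟨n, hn⟩ := mem_nilradical.mp h1
  rw [one_pow] at hn
  exact one_ne_zero hn

theorem isLocalRing_of_card_eq_one (N : Type*) [CommRing N] 
    (h : ENat.card (MaximalSpectrum N) = 1) : IsLocalRing N := by
  obtain ⟨u⟩ := ENat.card_eq_one_iff_unique.mp h
  refine IsLocalRing.of_unique_max_ideal ⟨u.default.asIdeal, u.default.isMaximal, ?_⟩
  intro I hI
  exact congrArg MaximalSpectrum.asIdeal (u.uniq ⟨I, hI⟩)

theorem card_eq_one_of_isLocalRing (N : Type*) [CommRing N] [IsLocalRing N] :
    ENat.card (MaximalSpectrum N) = 1 := by
  rw [ENat.card_eq_one_iff_unique]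
  exact ⟨{ default := ⟨maximalIdeal N, inferInstance⟩
           uniq := fun m => MaximalSpectrum.ext (IsLocalRing.eq_maximalIdeal m.isMaximal) }⟩

theorem finite_minimalPrimes_of_isDomain_red (h : IsDomain (CAlg2.red A)) :
    (minimalPrimes A).Finite := by
  have hp : (nilradical A).IsPrime := (Ideal.Quotient.isDomain_iff_prime _).mp h
  have : minimalPrimes A = {nilradical A} := by
    have h1 : (nilradical A).minimalPrimes = {nilradical A} :=
      Ideal.minimalPrimes_eq_subsingleton_self
    rw [← h1]
    exact (Ideal.radical_minimalPrimes (I := (⊥ : Ideal A))).symm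
  rw [this]
  exact Set.finite_singleton _

theorem S9235_main [IsLocalRing A] :
    Brnch.numBranches A = 1 ↔ CAlg2.IsUnibranch A := by
  unfold Brnch.numBranches CAlg2.IsUnibranch
  constructor
  · intro h
    by_cases hfin : (minimalPrimes A).Finite
    · rw [if_pos hfin] at h
      haveI hloc : IsLocalRing (CAlg2.normRed A) := isLocalRing_of_card_eq_one _ h
      refine ⟨?_, hloc⟩
      apply isDomain_of_idempotents (CAlg2.red A) (finite_minimalPrimes_red A hfin)
      intro e he hee
      have := eq_zero_or_one_of_idempotent (CAlg2.normRed A) ⟨e, he⟩ (Subtype.ext hee)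
      rcases this with h0 | h1
      · left; exact congrArg Subtype.val h0
      · right; exact congrArg Subtype.val h1
    · rw [if_neg hfin] at h
      exact absurd h (by simp)
  · rintro ⟨hdom, hloc⟩
    rw [if_pos (finite_minimalPrimes_of_isDomain_red A hdom)]
    exact card_eq_one_of_isLocalRing _

end Unibranch


end Groth.Agent.Lib.Helper4.BranchCount1
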