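import Mathlib
import Groth.Prelude.Def_Brnch
import Groth.Prelude.Def_EGA4b
import Groth.Agent.Lib.Helper4.Nagata2
import Groth.Agent.Lib.Helper4.BranchCount1

/-!
# Product decomposition of the normalization; branches as a sum over minimal primes (helper4)
-/

set_option backward.isDefEq.respectTransparency.types false
set_option synthInstance.maxHeartbeats 400000
set_option autoImplicit false
set_option linter.unusedSectionVars false
set_option linter.style.haveILetI false
set_option linter.unusedSimpArgs false
universe u v w
open CategoryTheory CategoryTheory.Limits AlgebraicGeometry TopologicalSpace IsLocalRing Opposite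
open Groth.Agent.Lib.Helper4.Nagata2 Groth.Agent.Lib.Helper4.BranchCount1

namespace Groth.Agent.Lib.Helper4.BranchSum1

section ProdDecomp

variable (R : Type u) [CommRing R] [IsReduced R]

theorem toPiMinField_surjective (hfin : (minimalPrimes R).Finite) :
    Function.Surjective (toPiMinField R) := by
  classical
  haveI : Finite (minimalPrimes R) := hfin.to_subtype
  haveI : Fintype (minimalPrimes R) := Fintype.ofFinite _
  intro f
  have hf : f = ∑ q, Pi.single q (f q) := (Finset.univ_sum_single f).symm
  choose z hz using fun q => exists_toPiMinField_eq_single R hfin q (f q)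
  refine ⟨∑ q, z q, ?_⟩
  rw [map_sum, hf]
  exact Finset.sum_congr rfl (fun q _ => hz q)

/-- integrality in a finite product is componentwise -/
theorem isIntegral_pi_iff {S : Type*} [CommRing S] {ι : Type*} [Finite ι] (L : ι → Type*)
    [∀ i, CommRing (L i)] [∀ i, Algebra S (L i)] (f : ∀ i, L i) :
    IsIntegral S f ↔ ∀ i, IsIntegral S (f i) := by
  classical
  haveI : Fintype ι := Fintype.ofFinite _
  constructor
  · intro h i
    exact h.map (Pi.evalAlgHom S L i)
  · intro h
    rw [← Finset.univ_sum_single f]
    exact IsIntegral.sum _ (fun i _ => isIntegral_single L i (f i) (h i))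

theorem isIntegral_minField_iff (q : minimalPrimes R) (y : MinField R q) :
    IsIntegral R y ↔ IsIntegral (R ⧸ q.1) y := by
  constructor
  · intro h
    exact h.tower_top
  · intro h
    haveI : Algebra.IsIntegral R (R ⧸ q.1) :=
      Algebra.isIntegral_of_surjective Ideal.Quotient.mk_surjective
    exact isIntegral_trans y h

/-- the decomposition of the normalization of a reduced ring with finitely many minimal primes -/
noncomputable def normProdHom :
    integralClosure R (FractionRing R) →+*
      ∀ q : minimalPrimes R, integralClosure (R ⧸ q.1) (FractionRing (R ⧸ q.1)) :=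
  RingHom.pi (fun q =>
    RingHom.codRestrict
      (((Pi.evalRingHom (fun q : minimalPrimes R => MinField R q) q).comp
        (toPiMinField R).toRingHom).comp
          (algebraMap (integralClosure R (FractionRing R)) (FractionRing R)))
      (integralClosure (R ⧸ q.1) (FractionRing (R ⧸ q.1)))
      (fun x => (isIntegral_minField_iff R q _).mp
        ((x.2.map (toPiMinField R)).map (Pi.evalAlgHom R (fun q : minimalPrimes R => MinField R q) q))))

theorem normProdHom_coe (x : integralClosure R (FractionRing R)) (q : minimalPrimes R) :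
    ((normProdHom R x q : integralClosure (R ⧸ q.1) (FractionRing (R ⧸ q.1))) :
      FractionRing (R ⧸ q.1)) = toPiMinField R x.1 q := rfl

theorem normProdHom_algebraMap (r : R) (q : minimalPrimes R) :
    normProdHom R (algebraMap R _ r) q =
      algebraMap (R ⧸ q.1) (integralClosure (R ⧸ q.1) (FractionRing (R ⧸ q.1)))
        (Ideal.Quotient.mk q.1 r) := by
  apply Subtype.ext
  rw [normProdHom_coe]
  exact toPiMinField_algebraMap R r q

theorem normProdHom_bijective (hfin : (minimalPrimes R).Finite) :
    Function.Bijective (normProdHom R) := by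
  haveI : Finite (minimalPrimes R) := hfin.to_subtype
  constructor
  · intro x y hxy
    apply Subtype.ext
    apply toPiMinField_injective R
    funext q
    rw [← normProdHom_coe, ← normProdHom_coe, hxy]
  · intro y
    obtain ⟨z, hz⟩ := toPiMinField_surjective R hfin (fun q => (y q).1)
    have hzint : IsIntegral R z := by
      have h1 : IsIntegral R (toPiMinField R z) := by
        rw [isIntegral_pi_iff]
        intro q
        rw [hz, isIntegral_minField_iff]
        exact (y q).2
      exact (isIntegral_algHom_iff (toPiMinField R) (toPiMinField_injective R)).mp h1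
    refine ⟨⟨z, hzint⟩, ?_⟩
    funext q
    apply Subtype.ext
    rw [normProdHom_coe]
    exact congrFun hz q

/-- the product decomposition as a ring isomorphism -/
noncomputable def normProdEquiv (hfin : (minimalPrimes R).Finite) :
    integralClosure R (FractionRing R) ≃+*
      ∀ q : minimalPrimes R, integralClosure (R ⧸ q.1) (FractionRing (R ⧸ q.1)) :=
  RingEquiv.ofBijective (normProdHom R) (normProdHom_bijective R hfin)

theorem normProdEquiv_apply (hfin : (minimalPrimes R).Finite) (x) :
    normProdEquiv R hfin x = normProdHom R x := rfl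

end ProdDecomp



section PiMax

variable {ι : Type u} [Finite ι] (S : ι → Type u) [∀ i, CommRing (S i)]

theorem evalRingHom_surjective (i : ι) : Function.Surjective (Pi.evalRingHom S i) := by
  classical
  intro y
  exact ⟨Function.update 0 i y, by simp⟩

/-- maximal ideals of a finite product -/
noncomputable def sigmaToPiMax (x : Σ i, MaximalSpectrum (S i)) : MaximalSpectrum (∀ i, S i) :=
  ⟨x.2.asIdeal.comap (Pi.evalRingHom S x.1),
    haveI := x.2.isMaximal
    Ideal.comap_isMaximal_of_surjective _ (evalRingHom_surjective S x.1)⟩

theorem sigmaToPiMax_bijective : Function.Bijective (sigmaToPiMax S) := by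
  constructor
  · rintro ⟨i, m⟩ ⟨j, m'⟩ h
    have h1 : PrimeSpectrum.sigmaToPi S ⟨i, m.toPrimeSpectrum⟩ =
        PrimeSpectrum.sigmaToPi S ⟨j, m'.toPrimeSpectrum⟩ := by
      apply PrimeSpectrum.ext
      exact congrArg MaximalSpectrum.asIdeal h
    have h2 := PrimeSpectrum.sigmaToPi_injective S h1
    obtain ⟨rfl, h3⟩ := Sigma.mk.inj_iff.mp h2
    have h4 := eq_of_heq h3
    congr 1
    exact MaximalSpectrum.ext (congrArg PrimeSpectrum.asIdeal h4)
  · intro M
    obtain ⟨⟨i, p⟩, hp⟩ := (PrimeSpectrum.sigmaToPi_bijective S).2 M.toPrimeSpectrum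
    have hp' : p.asIdeal.comap (Pi.evalRingHom S i) = M.asIdeal :=
      congrArg PrimeSpectrum.asIdeal hp
    have hmap : M.asIdeal.map (Pi.evalRingHom S i) = p.asIdeal := by
      rw [← hp', Ideal.map_comap_of_surjective _ (evalRingHom_surjective S i)]
    have hmax : p.asIdeal.IsMaximal := by
      rcases Ideal.map_eq_top_or_isMaximal_of_surjective (Pi.evalRingHom S i)
        (evalRingHom_surjective S i) M.isMaximal with h | h
      · rw [hmap] at h
        exact absurd h p.isPrime.ne_top
      · rwa [hmap] at h
    refine ⟨⟨i, ⟨p.asIdeal, hmax⟩⟩, ?_⟩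
    exact MaximalSpectrum.ext hp'

end PiMax

section CardSigma

theorem card_sigma_eq_sum {ι : Type u} [Fintype ι] (α : ι → Type u) :
    ENat.card (Σ i, α i) = ∑ i, ENat.card (α i) := by
  classical
  revert α
  refine Fintype.induction_empty_option (P := fun ι _ => ∀ α : ι → Type u,
    ENat.card (Σ i, α i) = ∑ i, ENat.card (α i)) ?_ ?_ ?_ ι
  · intro β γ _ e IH α
    letI : Fintype β := Fintype.ofEquiv γ e.symm
    have h1 : ENat.card (Σ i, α i) = ENat.card (Σ b : β, α (e b)) :=
      ENat.card_congr (Equiv.sigmaCongrLeft (β := α) e).symm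
    rw [h1, IH]
    exact Fintype.sum_equiv e _ _ (fun _ => rfl)
  · intro α
    rw [Finset.univ_eq_empty, Finset.sum_empty, ENat.card_eq_zero_iff_empty]
    exact ⟨fun x => x.1.elim⟩
  · intro β _ IH α
    have e : (Σ o : Option β, α o) ≃ α none ⊕ Σ b : β, α (some b) :=
      { toFun := fun x => match x with
          | ⟨none, a⟩ => Sum.inl a
          | ⟨some b, a⟩ => Sum.inr ⟨b, a⟩
        invFun := fun x => match x with
          | Sum.inl a => ⟨none, a⟩
          | Sum.inr ⟨b, a⟩ => ⟨some b, a⟩
        left_inv := by rintro ⟨_ | b, a⟩ <;> rfl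
        right_inv := by rintro (a | ⟨b, a⟩) <;> rfl }
    rw [ENat.card_congr e, ENat.card_sum, IH, Fintype.sum_option]

theorem card_sigma_eq_finsum {ι : Type u} [Finite ι] (α : ι → Type u) :
    ENat.card (Σ i, α i) = ∑ᶠ i, ENat.card (α i) := by
  haveI : Fintype ι := Fintype.ofFinite _
  rw [finsum_eq_sum_of_fintype]
  exact card_sigma_eq_sum α

end CardSigma



section IcEquiv

variable {B C : Type u} [CommRing B] [CommRing C] (e : B ≃+* C)

/-- the isomorphism of total rings of fractions induced by a ring isomorphism -/
noncomputable def fracEquivOf : FractionRing B ≃+* FractionRing C :=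
  IsFractionRing.ringEquivOfRingEquiv e

theorem fracEquivOf_algebraMap (b : B) :
    fracEquivOf e (algebraMap B (FractionRing B) b) = algebraMap C (FractionRing C) (e b) :=
  IsFractionRing.ringEquivOfRingEquiv_algebraMap e b

theorem fracEquivOf_symm_apply (y : FractionRing C) :
    (fracEquivOf e).symm y = fracEquivOf e.symm y := rfl

theorem isIntegral_fracEquivOf {x : FractionRing B} (hx : IsIntegral B x) :
    IsIntegral C (fracEquivOf e x) :=
  IsIntegral.map_of_comp_eq e.toRingHom (fracEquivOf e).toRingHom
    (RingHom.ext fun b => (fracEquivOf_algebraMap e b).symm) hx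

/-- the induced map of normalizations -/
noncomputable def icHom :
    integralClosure B (FractionRing B) →+* integralClosure C (FractionRing C) :=
  RingHom.codRestrict ((fracEquivOf e).toRingHom.comp
      (algebraMap (integralClosure B (FractionRing B)) (FractionRing B)))
    (integralClosure C (FractionRing C))
    (fun x => isIntegral_fracEquivOf e x.2)

theorem icHom_coe (x : integralClosure B (FractionRing B)) :
    ((icHom e x : integralClosure C (FractionRing C)) : FractionRing C) = fracEquivOf e x.1 := rfl

theorem icHom_bijective : Function.Bijective (icHom e) := by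
  constructor
  · intro x y h
    apply Subtype.ext
    apply (fracEquivOf e).injective
    rw [← icHom_coe, ← icHom_coe, h]
  · intro y
    refine ⟨⟨(fracEquivOf e).symm y.1, ?_⟩, ?_⟩
    · rw [fracEquivOf_symm_apply]
      exact isIntegral_fracEquivOf e.symm y.2
    · apply Subtype.ext
      rw [icHom_coe]
      exact (fracEquivOf e).apply_symm_apply y.1

/-- the induced isomorphism of normalizations -/
noncomputable def icEquiv :
    integralClosure B (FractionRing B) ≃+* integralClosure C (FractionRing C) :=
  RingEquiv.ofBijective (icHom e) (icHom_bijective e)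

theorem icEquiv_algebraMap (b : B) :
    icEquiv e (algebraMap B _ b) = algebraMap C _ (e b) := by
  apply Subtype.ext
  change fracEquivOf e (algebraMap B (FractionRing B) b) = _
  exact fracEquivOf_algebraMap e b

end IcEquiv

section MaxEquiv

/-- a ring isomorphism induces a bijection of maximal spectra -/
noncomputable def maxSpecEquiv {B C : Type u} [CommRing B] [CommRing C] (e : B ≃+* C) :
    MaximalSpectrum B ≃ MaximalSpectrum C where
  toFun m := ⟨m.asIdeal.comap e.symm.toRingHom,
    haveI := m.isMaximal
    Ideal.comap_isMaximal_of_surjective _ e.symm.surjective⟩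
  invFun m := ⟨m.asIdeal.comap e.toRingHom,
    haveI := m.isMaximal
    Ideal.comap_isMaximal_of_surjective _ e.surjective⟩
  left_inv m := by
    apply MaximalSpectrum.ext
    ext x
    change e.symm (e x) ∈ m.asIdeal ↔ _
    rw [RingEquiv.symm_apply_apply]
  right_inv m := by
    apply MaximalSpectrum.ext
    ext x
    change e (e.symm x) ∈ m.asIdeal ↔ _
    rw [RingEquiv.apply_symm_apply]

end MaxEquiv

section KerEquiv

variable {A B C : Type u} [CommRing A] [CommRing B] [CommRing C]

/-- two quotients of a ring with the same kernel are isomorphic -/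
noncomputable def quotEquivOfKerEq (f : A →+* B) (g : A →+* C) (hf : Function.Surjective f)
    (hg : Function.Surjective g) (h : RingHom.ker f = RingHom.ker g) : B ≃+* C :=
  (RingHom.quotientKerEquivOfSurjective hf).symm.trans
    ((Ideal.quotEquivOfEq h).trans (RingHom.quotientKerEquivOfSurjective hg))

theorem quotEquivOfKerEq_apply (f : A →+* B) (g : A →+* C) (hf : Function.Surjective f)
    (hg : Function.Surjective g) (h : RingHom.ker f = RingHom.ker g) (a : A) :
    quotEquivOfKerEq f g hf hg h (f a) = g a := by
  unfold quotEquivOfKerEq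
  have h1 : (RingHom.quotientKerEquivOfSurjective hf).symm (f a) =
      Ideal.Quotient.mk (RingHom.ker f) a := by
    rw [RingEquiv.symm_apply_eq]
    rfl
  rw [RingEquiv.trans_apply, h1, RingEquiv.trans_apply, Ideal.quotEquivOfEq_mk]
  rfl

end KerEquiv



section Main

variable (A : Type u) [CommRing A]

/-- minimal primes of the reduction correspond to minimal primes -/
noncomputable def minPrimesEquiv : minimalPrimes (CAlg2.red A) ≃ minimalPrimes A :=
  Equiv.ofBijective
    (fun q => ⟨q.1.comap (Ideal.Quotient.mk (nilradical A)), by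
      rw [minimalPrimes_eq_image_red]; exact ⟨q.1, q.2, rfl⟩⟩)
    ⟨fun q q' h => Subtype.ext
        (Ideal.comap_injective_of_surjective _ Ideal.Quotient.mk_surjective
          (congrArg Subtype.val h)),
      fun p => by
        have hp : p.1 ∈ Ideal.comap (Ideal.Quotient.mk (nilradical A)) ''
            minimalPrimes (CAlg2.red A) := by
          rw [← minimalPrimes_eq_image_red]; exact p.2
        obtain ⟨q, hq, hqp⟩ := hp
        exact ⟨⟨q, hq⟩, Subtype.ext hqp⟩⟩

theorem minPrimesEquiv_coe (q : minimalPrimes (CAlg2.red A)) :
    (minPrimesEquiv A q).1 = q.1.comap (Ideal.Quotient.mk (nilradical A)) := rfl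

/-- the first presentation of the component ring -/
noncomputable def compMapL (q : minimalPrimes (CAlg2.red A)) : A →+* (CAlg2.red A ⧸ q.1) :=
  (Ideal.Quotient.mk q.1).comp (Ideal.Quotient.mk (nilradical A))

/-- the second presentation of the component ring -/
noncomputable def compMapR (p : Ideal A) : A →+* CAlg2.red (A ⧸ p) :=
  (Ideal.Quotient.mk (nilradical (A ⧸ p))).comp (Ideal.Quotient.mk p)

theorem ker_compMapL (q : minimalPrimes (CAlg2.red A)) :
    RingHom.ker (compMapL A q) = (minPrimesEquiv A q).1 := by
  unfold compMapL
  rw [← RingHom.comap_ker, Ideal.mk_ker, minPrimesEquiv_coe]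

theorem ker_compMapR (p : Ideal A) [p.IsPrime] :
    RingHom.ker (compMapR A p) = p := by
  unfold compMapR
  rw [← RingHom.comap_ker, Ideal.mk_ker, nilradical_eq_zero, Ideal.zero_eq_bot,
    ← RingHom.ker_eq_comap_bot, Ideal.mk_ker]

/-- the comparison of the two component rings -/
noncomputable def compEquiv (q : minimalPrimes (CAlg2.red A)) :
    (CAlg2.red A ⧸ q.1) ≃+* CAlg2.red (A ⧸ (minPrimesEquiv A q).1) :=
  haveI : (minPrimesEquiv A q).1.IsPrime := Ideal.IsMinimalPrime.isPrime (minPrimesEquiv A q).2
  quotEquivOfKerEq (compMapL A q) (compMapR A (minPrimesEquiv A q).1)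
    (Ideal.Quotient.mk_surjective.comp Ideal.Quotient.mk_surjective)
    (Ideal.Quotient.mk_surjective.comp Ideal.Quotient.mk_surjective)
    ((ker_compMapL A q).trans (ker_compMapR A _).symm)

theorem compEquiv_apply (q : minimalPrimes (CAlg2.red A)) (a : A) :
    compEquiv A q (compMapL A q a) = compMapR A (minPrimesEquiv A q).1 a :=
  quotEquivOfKerEq_apply _ _ _ _ _ a

theorem numBranches_of_isPrime [IsLocalRing A] (p : Ideal A) [hp : p.IsPrime] :
    Brnch.numBranches (A ⧸ p) = ENat.card (MaximalSpectrum (CAlg2.normRed (A ⧸ p))) := by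
  unfold Brnch.numBranches
  rw [if_pos]
  have : minimalPrimes (A ⧸ p) = {⊥} := by
    have : (⊥ : Ideal (A ⧸ p)).IsPrime := Ideal.isPrime_bot
    exact Ideal.minimalPrimes_eq_subsingleton_self
  rw [this]
  exact Set.finite_singleton _

theorem S9810_main [IsLocalRing A] (h : (minimalPrimes A).Finite) :
    Brnch.numBranches A =
      ∑ᶠ p : minimalPrimes A,
        haveI : p.1.IsPrime := p.2.1.1
        Brnch.numBranches (A ⧸ p.1) := by
  have hfinR := finite_minimalPrimes_red A h
  haveI : Finite (minimalPrimes (CAlg2.red A)) := hfinR.to_subtype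
  have h1 : Brnch.numBranches A = ENat.card (MaximalSpectrum (CAlg2.normRed A)) := by
    unfold Brnch.numBranches
    rw [if_pos h]
  rw [h1, ENat.card_congr (maxSpecEquiv (normProdEquiv (CAlg2.red A) hfinR)),
    ← ENat.card_congr (Equiv.ofBijective _ (sigmaToPiMax_bijective
      (fun q : minimalPrimes (CAlg2.red A) =>
        integralClosure (CAlg2.red A ⧸ q.1) (FractionRing (CAlg2.red A ⧸ q.1))))),
    card_sigma_eq_finsum, ← finsum_comp_equiv (minPrimesEquiv A)]
  apply finsum_congr
  intro q
  haveI : (minPrimesEquiv A q).1.IsPrime := Ideal.IsMinimalPrime.isPrime (minPrimesEquiv A q).2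
  rw [numBranches_of_isPrime]
  exact ENat.card_congr (maxSpecEquiv (icEquiv (compEquiv A q)))

end Main


end Groth.Agent.Lib.Helper4.BranchSum1
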