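import Mathlib
import Groth.Prelude.Def_Brnch
import Groth.Prelude.Def_Curv2
import Groth.Prelude.Def_Found

/-!
# Geometric branches vs the delta invariant (helper4)
-/

set_option backward.isDefEq.respectTransparency.types false
set_option synthInstance.maxHeartbeats 400000
set_option autoImplicit false
set_option linter.unusedSectionVars false
set_option linter.style.haveILetI false
set_option linter.unusedSimpArgs false
universe u v w
open CategoryTheory CategoryTheory.Limits AlgebraicGeometry TopologicalSpace IsLocalRing Opposite
open scoped TensorProduct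

namespace Groth.Agent.Lib.Helper4.GeomBranch1

section Abstract

variable (A : Type u) [CommRing A] [IsLocalRing A] (N : Type u) [CommRing N] [Algebra A N]

theorem algebraMap_closure_eq :
    algebraMap A (AlgebraicClosure (ResidueField A)) = Brnch.toClosure A := by
  rw [IsScalarTower.algebraMap_eq A (ResidueField A) (AlgebraicClosure (ResidueField A))]
  rfl

/-- the map from pairs (maximal ideal, embedding of the residue field) to `A`-algebra maps. -/
noncomputable def sigToAlgHom
    (x : Σ m' : MaximalSpectrum N, {σ : N ⧸ m'.asIdeal →+* AlgebraicClosure (ResidueField A) //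
      σ.comp ((Ideal.Quotient.mk m'.asIdeal).comp (algebraMap A N)) = Brnch.toClosure A}) :
    N →ₐ[A] AlgebraicClosure (ResidueField A) :=
  { toRingHom := x.2.1.comp (Ideal.Quotient.mk x.1.asIdeal)
    commutes' := fun a => by
      have h := x.2.2
      rw [algebraMap_closure_eq]
      exact RingHom.congr_fun h a }

theorem sigToAlgHom_apply
    (x : Σ m' : MaximalSpectrum N, {σ : N ⧸ m'.asIdeal →+* AlgebraicClosure (ResidueField A) //
      σ.comp ((Ideal.Quotient.mk m'.asIdeal).comp (algebraMap A N)) = Brnch.toClosure A}) (n : N) :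
    sigToAlgHom A N x n = x.2.1 (Ideal.Quotient.mk x.1.asIdeal n) := rfl

theorem sigToAlgHom_injective : Function.Injective (sigToAlgHom A N) := by
  rintro ⟨m₁, σ₁, h₁⟩ ⟨m₂, σ₂, h₂⟩ h
  have key : ∀ n : N, σ₁ (Ideal.Quotient.mk m₁.asIdeal n) = σ₂ (Ideal.Quotient.mk m₂.asIdeal n) :=
    fun n => by
      have := DFunLike.congr_fun h n
      simpa only [sigToAlgHom_apply] using this
  haveI := m₁.isMaximal
  haveI := m₂.isMaximal
  letI : Field (N ⧸ m₁.asIdeal) := Ideal.Quotient.field _
  letI : Field (N ⧸ m₂.asIdeal) := Ideal.Quotient.field _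
  have hm : m₁ = m₂ := by
    ext n
    rw [← Ideal.Quotient.eq_zero_iff_mem, ← Ideal.Quotient.eq_zero_iff_mem,
      ← map_eq_zero_iff σ₁ σ₁.injective, ← map_eq_zero_iff σ₂ σ₂.injective, key]
  subst hm
  have hσ : σ₁ = σ₂ := by
    apply RingHom.ext
    intro y
    obtain ⟨n, rfl⟩ := Ideal.Quotient.mk_surjective y
    exact key n
  subst hσ
  rfl

end Abstract



section Abstract

variable (A : Type u) [CommRing A] [IsLocalRing A] (N : Type u) [CommRing N] [Algebra A N]

/-- extend an `A`-algebra map to the base change to the residue field. -/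
noncomputable def algHomToBaseChange (τ : N →ₐ[A] AlgebraicClosure (ResidueField A)) :
    (ResidueField A ⊗[A] N) →ₐ[ResidueField A] AlgebraicClosure (ResidueField A) :=
  Algebra.TensorProduct.lift (Algebra.ofId _ _) τ (fun _ _ => Commute.all _ _)

theorem algHomToBaseChange_injective : Function.Injective (algHomToBaseChange A N) := by
  intro τ₁ τ₂ h
  ext n
  have := DFunLike.congr_fun h ((1 : ResidueField A) ⊗ₜ[A] n)
  simpa [algHomToBaseChange] using this

theorem card_algHom_le [Module.Finite (ResidueField A) (ResidueField A ⊗[A] N)] :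
    ENat.card (N →ₐ[A] AlgebraicClosure (ResidueField A)) ≤
      (Module.finrank (ResidueField A) (ResidueField A ⊗[A] N) : ℕ∞) := by
  refine (ENat.card_le_card_of_injective (algHomToBaseChange_injective A N)).trans ?_
  rw [ENat.card_eq_coe_natCard]
  exact_mod_cast card_algHom_le_finrank (ResidueField A) (ResidueField A ⊗[A] N)
    (AlgebraicClosure (ResidueField A))

end Abstract



section Abstract

variable (A : Type u) [CommRing A] [IsLocalRing A] (N : Type u) [CommRing N] [Algebra A N]

theorem length_residueField : Module.length A (ResidueField A) = 1 := by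
  rw [Module.length_eq_of_surjective (S := A) (R := ResidueField A) (M := ResidueField A)
    IsLocalRing.residue_surjective, Module.length_eq_finrank]
  simp

theorem mk_one_surjective :
    Function.Surjective (TensorProduct.mk A (ResidueField A) N 1) := by
  intro v
  induction v using TensorProduct.induction_on with
  | zero => exact ⟨0, map_zero _⟩
  | tmul k n =>
    obtain ⟨a, rfl⟩ := IsLocalRing.residue_surjective k
    refine ⟨a • n, ?_⟩
    rw [TensorProduct.mk_apply, TensorProduct.tmul_smul, TensorProduct.smul_tmul',
      Algebra.smul_def, mul_one]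
    rfl
  | add x y hx hy =>
    obtain ⟨a, rfl⟩ := hx
    obtain ⟨b, rfl⟩ := hy
    exact ⟨a + b, map_add _ _ _⟩

theorem length_baseChange_le :
    Module.length A (ResidueField A ⊗[A] N) ≤
      Module.length A (N ⧸ LinearMap.range (Algebra.linearMap A N)) + 1 := by
  let j : ResidueField A →ₗ[A] ResidueField A ⊗[A] N := (TensorProduct.mk A (ResidueField A) N).flip 1
  let P := LinearMap.range j
  rw [Module.length_eq_add_of_exact P.subtype P.mkQ (Submodule.subtype_injective _)
    (Submodule.mkQ_surjective _) (LinearMap.exact_subtype_mkQ P), add_comm]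
  have h1 : Module.length A P ≤ 1 := by
    rw [← length_residueField A]
    exact Module.length_le_of_surjective j.rangeRestrict j.surjective_rangeRestrict
  have h2 : Module.length A ((ResidueField A ⊗[A] N) ⧸ P) ≤
      Module.length A (N ⧸ LinearMap.range (Algebra.linearMap A N)) := by
    let g : N →ₗ[A] (ResidueField A ⊗[A] N) ⧸ P := P.mkQ.comp (TensorProduct.mk A (ResidueField A) N 1)
    have hg : LinearMap.range (Algebra.linearMap A N) ≤ LinearMap.ker g := by
      rintro _ ⟨a, rfl⟩
      rw [LinearMap.mem_ker]
      change P.mkQ ((1 : ResidueField A) ⊗ₜ[A] (algebraMap A N a)) = 0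
      rw [Submodule.mkQ_apply, Submodule.Quotient.mk_eq_zero]
      refine ⟨algebraMap A (ResidueField A) a, ?_⟩
      change (algebraMap A (ResidueField A) a) ⊗ₜ[A] (1 : N) = _
      rw [Algebra.algebraMap_eq_smul_one, Algebra.algebraMap_eq_smul_one, TensorProduct.smul_tmul]
    refine Module.length_le_of_surjective (Submodule.liftQ _ g hg) ?_
    intro y
    obtain ⟨v, rfl⟩ := Submodule.mkQ_surjective P y
    obtain ⟨n, rfl⟩ := mk_one_surjective A N v
    exact ⟨Submodule.Quotient.mk n, rfl⟩
  exact add_le_add h2 h1

theorem finrank_baseChange_le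
    (h : Module.length A (N ⧸ LinearMap.range (Algebra.linearMap A N)) ≠ ⊤) :
    Module.Finite (ResidueField A) (ResidueField A ⊗[A] N) ∧
    (Module.finrank (ResidueField A) (ResidueField A ⊗[A] N) : ℕ∞) ≤
      Module.length A (N ⧸ LinearMap.range (Algebra.linearMap A N)) + 1 := by
  have h1 := length_baseChange_le A N
  rw [Module.length_eq_of_surjective (S := A) (R := ResidueField A)
    IsLocalRing.residue_surjective] at h1
  have hfin : Module.length (ResidueField A) (ResidueField A ⊗[A] N) ≠ ⊤ := by
    intro htop
    rw [htop, top_le_iff] at h1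
    exact h (by simpa using h1)
  rw [Module.length_ne_top_iff] at hfin
  haveI : Module.Finite (ResidueField A) (ResidueField A ⊗[A] N) := by
    rw [isFiniteLength_iff_isNoetherian_isArtinian] at hfin
    haveI := hfin.1
    infer_instance
  refine ⟨inferInstance, ?_⟩
  rwa [Module.length_eq_finrank] at h1

end Abstract



section Abstract

variable (A : Type u) [CommRing A] [IsLocalRing A] (N : Type u) [CommRing N] [Algebra A N]

theorem card_sig_le :
    ENat.card (Σ m' : MaximalSpectrum N,
      {σ : N ⧸ m'.asIdeal →+* AlgebraicClosure (ResidueField A) //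
        σ.comp ((Ideal.Quotient.mk m'.asIdeal).comp (algebraMap A N)) = Brnch.toClosure A}) ≤
      Module.length A (N ⧸ LinearMap.range (Algebra.linearMap A N)) + 1 := by
  by_cases h : Module.length A (N ⧸ LinearMap.range (Algebra.linearMap A N)) = ⊤
  · rw [h, top_add]; exact le_top
  · obtain ⟨hfin, hle⟩ := finrank_baseChange_le A N h
    exact ((ENat.card_le_card_of_injective (sigToAlgHom_injective A N)).trans
      (card_algHom_le A N)).trans hle

end Abstract

section Bridge

variable (A : Type u) [CommRing A] [IsReduced A]

/-- `A ≃ A_red` for a reduced ring. -/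
noncomputable def redEquiv : A ≃+* CAlg2.red A :=
  RingEquiv.ofBijective (Ideal.Quotient.mk (nilradical A))
    ⟨(RingHom.injective_iff_ker_eq_bot _).2 (by rw [Ideal.mk_ker]; exact nilradical_eq_zero A),
      Ideal.Quotient.mk_surjective⟩

theorem redEquiv_apply (a : A) : redEquiv A a = Ideal.Quotient.mk (nilradical A) a := rfl

/-- the induced isomorphism of total rings of fractions -/
noncomputable def fracEquiv : FractionRing A ≃+* FractionRing (CAlg2.red A) :=
  IsFractionRing.ringEquivOfRingEquiv (redEquiv A)

theorem fracEquiv_algebraMap (a : A) :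
    fracEquiv A (algebraMap A (FractionRing A) a) =
      algebraMap (CAlg2.red A) (FractionRing (CAlg2.red A)) (Ideal.Quotient.mk (nilradical A) a) :=
  IsFractionRing.ringEquivOfRingEquiv_algebraMap (redEquiv A) a

theorem isIntegral_fracEquiv {x : FractionRing A} (hx : IsIntegral A x) :
    IsIntegral (CAlg2.red A) (fracEquiv A x) := by
  refine IsIntegral.map_of_comp_eq (redEquiv A).toRingHom (fracEquiv A).toRingHom ?_ hx
  ext a
  exact (fracEquiv_algebraMap A a).symm

theorem isIntegral_fracEquiv_symm {y : FractionRing (CAlg2.red A)} (hy : IsIntegral (CAlg2.red A) y) :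
    IsIntegral A ((fracEquiv A).symm y) := by
  refine IsIntegral.map_of_comp_eq (redEquiv A).symm.toRingHom (fracEquiv A).symm.toRingHom
    (RingHom.ext fun b => ?_) hy
  obtain ⟨a, rfl⟩ := (redEquiv A).surjective b
  change algebraMap A (FractionRing A) ((redEquiv A).symm (redEquiv A a)) =
    (fracEquiv A).symm (algebraMap _ _ (redEquiv A a))
  rw [RingEquiv.symm_apply_apply, RingEquiv.eq_symm_apply]
  exact fracEquiv_algebraMap A a

/-- the comparison map from the integral closure of `A` to that of `A_red`. -/
noncomputable def normMap :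
    integralClosure A (FractionRing A) →+* CAlg2.normRed A :=
  RingHom.codRestrict ((fracEquiv A).toRingHom.comp
      (algebraMap (integralClosure A (FractionRing A)) (FractionRing A)))
    (integralClosure (CAlg2.red A) (FractionRing (CAlg2.red A)))
    (fun x => isIntegral_fracEquiv A x.2)

theorem normMap_coe (x : integralClosure A (FractionRing A)) :
    ((normMap A x : CAlg2.normRed A) : FractionRing (CAlg2.red A)) = fracEquiv A x.1 := rfl

theorem normMap_surjective : Function.Surjective (normMap A) := by
  intro y
  refine ⟨⟨(fracEquiv A).symm y.1, isIntegral_fracEquiv_symm A y.2⟩, ?_⟩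
  apply Subtype.ext
  rw [normMap_coe]
  exact (fracEquiv A).apply_symm_apply y.1

theorem normMap_algebraMap (a : A) :
    normMap A (algebraMap A _ a) =
      (algebraMap (CAlg2.red A) (CAlg2.normRed A)) (Ideal.Quotient.mk (nilradical A) a) := by
  apply Subtype.ext
  rw [normMap_coe]
  exact fracEquiv_algebraMap A a

end Bridge

theorem main (A : Type u) [CommRing A] [IsLocalRing A]
    [IsReduced A] (hN : CAlg.IsNagata A) :
    Brnch.numGeomBranches A ≤ Curv2.deltaInv A + 1 := by
  haveI : IsNoetherianRing A := hN.1
  have hfin : (minimalPrimes A).Finite := minimalPrimes.finite_of_isNoetherianRing A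
  unfold Brnch.numGeomBranches
  rw [if_pos hfin]
  letI alg : Algebra A (CAlg2.normRed A) :=
    ((algebraMap (CAlg2.red A) (CAlg2.normRed A)).comp (Ideal.Quotient.mk (nilradical A))).toAlgebra
  refine (card_sig_le A (CAlg2.normRed A)).trans ?_
  refine add_le_add ?_ le_rfl
  unfold Curv2.deltaInv
  let ψ : integralClosure A (FractionRing A) →ₐ[A] CAlg2.normRed A :=
    { toRingHom := normMap A
      commutes' := fun a => normMap_algebraMap A a }
  let g : integralClosure A (FractionRing A) →ₗ[A]
      CAlg2.normRed A ⧸ LinearMap.range (Algebra.linearMap A (CAlg2.normRed A)) :=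
    (Submodule.mkQ _).comp ψ.toLinearMap
  have hg : LinearMap.range (Algebra.linearMap A (integralClosure A (FractionRing A))) ≤
      LinearMap.ker g := by
    rintro _ ⟨a, rfl⟩
    rw [LinearMap.mem_ker]
    change Submodule.mkQ _ (ψ (algebraMap A _ a)) = 0
    rw [ψ.commutes, Submodule.mkQ_apply, Submodule.Quotient.mk_eq_zero]
    exact ⟨a, rfl⟩
  refine Module.length_le_of_surjective (Submodule.liftQ _ g hg) ?_
  intro y
  obtain ⟨n, rfl⟩ := Submodule.mkQ_surjective _ y
  obtain ⟨c, rfl⟩ := normMap_surjective A n
  exact ⟨Submodule.Quotient.mk c, rfl⟩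


end Groth.Agent.Lib.Helper4.GeomBranch1
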