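import Mathlib
import Groth.Prelude.Def_Brnch
import Groth.Prelude.Def_Curv2
import Groth.Prelude.Def_Found
import Groth.Agent.Lib.Helper4.GeomBranch1
import Groth.Agent.Lib.Helper4.BranchCount1

/-!
# Residue field extensions of the normalization; geometric unibranch criteria (helper4)
-/

set_option backward.isDefEq.respectTransparency.types false
set_option synthInstance.maxHeartbeats 400000
set_option autoImplicit false
set_option linter.unusedSectionVars false
set_option linter.style.haveILetI false
set_option linter.unusedSimpArgs false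
universe u v w
open CategoryTheory CategoryTheory.Limits AlgebraicGeometry TopologicalSpace IsLocalRing Opposite
open Groth.Agent.Lib.Helper4.GeomBranch1 Groth.Agent.Lib.Helper4.BranchCount1

namespace Groth.Agent.Lib.Helper4.GeomBranch2

section Residue

variable (A : Type u) [CommRing A] [IsLocalRing A] (N : Type u) [CommRing N] [Algebra A N]
  [Algebra.IsIntegral A N] (m' : Ideal N) [hm' : m'.IsMaximal]

theorem comap_maximal : m'.comap (algebraMap A N) = maximalIdeal A :=
  IsLocalRing.eq_maximalIdeal (Ideal.isMaximal_comap_of_isIntegral_of_isMaximal m')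

theorem liesOver_maximal : m'.LiesOver (maximalIdeal A) := ⟨(comap_maximal A N m').symm⟩

/-- the residue field extension at a maximal ideal of an integral algebra over a local ring -/
@[reducible] noncomputable def resAlgebra : Algebra (ResidueField A) (N ⧸ m') :=
  haveI := liesOver_maximal A N m'
  Ideal.Quotient.algebraOfLiesOver m' (maximalIdeal A)

theorem resAlgebra_algebraMap (a : A) :
    letI := resAlgebra A N m'
    algebraMap (ResidueField A) (N ⧸ m') (residue A a) =
      Ideal.Quotient.mk m' (algebraMap A N a) := rfl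

theorem resAlgebra_isAlgebraic :
    letI := resAlgebra A N m'
    letI : Field (N ⧸ m') := Ideal.Quotient.field m'
    Algebra.IsAlgebraic (ResidueField A) (N ⧸ m') := by
  letI := resAlgebra A N m'
  letI : Field (N ⧸ m') := Ideal.Quotient.field m'
  haveI := liesOver_maximal A N m'
  haveI : Algebra.IsIntegral (ResidueField A) (N ⧸ m') :=
    Ideal.Quotient.algebra_isIntegral_of_liesOver m' (maximalIdeal A)
  exact Algebra.IsIntegral.isAlgebraic

/-- embeddings over `A` are the same as embeddings over the residue field -/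
noncomputable def embEquiv :
    letI := resAlgebra A N m'
    {σ : N ⧸ m' →+* AlgebraicClosure (ResidueField A) //
      σ.comp ((Ideal.Quotient.mk m').comp (algebraMap A N)) = Brnch.toClosure A} ≃
    ((N ⧸ m') →ₐ[ResidueField A] AlgebraicClosure (ResidueField A)) :=
  letI := resAlgebra A N m'
  { toFun := fun σ =>
      { toRingHom := σ.1
        commutes' := fun k => by
          obtain ⟨a, rfl⟩ := IsLocalRing.residue_surjective k
          rw [resAlgebra_algebraMap]
          exact RingHom.congr_fun σ.2 a }
    invFun := fun τ => ⟨τ.toRingHom, by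
      ext a
      have := τ.commutes (residue A a)
      rw [resAlgebra_algebraMap] at this
      exact this⟩
    left_inv := fun σ => rfl
    right_inv := fun τ => rfl }

theorem nonempty_emb :
    Nonempty {σ : N ⧸ m' →+* AlgebraicClosure (ResidueField A) //
      σ.comp ((Ideal.Quotient.mk m').comp (algebraMap A N)) = Brnch.toClosure A} := by
  letI := resAlgebra A N m'
  letI : Field (N ⧸ m') := Ideal.Quotient.field m'
  haveI := resAlgebra_isAlgebraic A N m'
  exact ⟨(embEquiv A N m').symm IsAlgClosed.lift⟩

theorem subsingleton_emb_iff :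
    Subsingleton {σ : N ⧸ m' →+* AlgebraicClosure (ResidueField A) //
      σ.comp ((Ideal.Quotient.mk m').comp (algebraMap A N)) = Brnch.toClosure A} ↔
    ∀ x : N ⧸ m', ∃ n : ℕ, x ^ (ringExpChar (N ⧸ m')) ^ n ∈
      ((Ideal.Quotient.mk m').comp (algebraMap A N)).range := by
  letI := resAlgebra A N m'
  letI : Field (N ⧸ m') := Ideal.Quotient.field m'
  haveI := resAlgebra_isAlgebraic A N m'
  haveI : ExpChar (ResidueField A) (ringExpChar (N ⧸ m')) :=
    (algebraMap (ResidueField A) (N ⧸ m')).expChar (algebraMap (ResidueField A) (N ⧸ m')).injective _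
  have hrange : (algebraMap (ResidueField A) (N ⧸ m')).range =
      ((Ideal.Quotient.mk m').comp (algebraMap A N)).range := by
    ext y
    constructor
    · rintro ⟨k, rfl⟩
      obtain ⟨a, rfl⟩ := IsLocalRing.residue_surjective k
      exact ⟨a, rfl⟩
    · rintro ⟨a, rfl⟩
      exact ⟨residue A a, rfl⟩
  rw [(embEquiv A N m').subsingleton_congr,
    ← (Field.embEquivOfIsAlgClosed (ResidueField A) (N ⧸ m')
      (AlgebraicClosure (ResidueField A))).subsingleton_congr,
    ← isPurelyInseparable_iff_subsingleton_emb,
    isPurelyInseparable_iff_pow_mem (ResidueField A) (ringExpChar (N ⧸ m')), hrange]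

end Residue



section Residue

variable (A : Type u) [CommRing A] [IsLocalRing A] (N : Type u) [CommRing N] [Algebra A N]
  [Algebra.IsIntegral A N] (m' : Ideal N) [hm' : m'.IsMaximal]

end Residue

section Count

variable (A : Type u) [CommRing A] [IsLocalRing A] (N : Type u) [CommRing N] [Algebra A N]
  [Algebra.IsIntegral A N]

theorem card_sig_eq_one_iff :
    ENat.card (Σ m' : MaximalSpectrum N,
      {σ : N ⧸ m'.asIdeal →+* AlgebraicClosure (ResidueField A) //
        σ.comp ((Ideal.Quotient.mk m'.asIdeal).comp (algebraMap A N)) = Brnch.toClosure A}) = 1 ↔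
    IsLocalRing N ∧ ∀ (m' : Ideal N) [m'.IsMaximal], ∀ x : N ⧸ m', ∃ n : ℕ,
      x ^ (ringExpChar (N ⧸ m')) ^ n ∈ ((Ideal.Quotient.mk m').comp (algebraMap A N)).range := by
  rw [ENat.card_eq_one_iff_unique]
  constructor
  · rintro ⟨u⟩
    have huniq : ∀ (m' : Ideal N) (h : m'.IsMaximal), (⟨m', h⟩ : MaximalSpectrum N) = u.default.1 := by
      intro m' h
      haveI := h
      obtain ⟨σ⟩ := nonempty_emb A N m'
      have := u.uniq ⟨⟨m', h⟩, σ⟩
      exact congrArg Sigma.fst this
    refine ⟨?_, ?_⟩
    · refine IsLocalRing.of_unique_max_ideal ⟨u.default.1.asIdeal, u.default.1.isMaximal, ?_⟩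
      intro I hI
      exact congrArg MaximalSpectrum.asIdeal (huniq I hI)
    · intro m' hm'
      rw [← subsingleton_emb_iff A N m']
      constructor
      intro σ₁ σ₂
      have h1 := u.uniq ⟨⟨m', hm'⟩, σ₁⟩
      have h2 := u.uniq ⟨⟨m', hm'⟩, σ₂⟩
      have h3 := h1.trans h2.symm
      exact eq_of_heq (Sigma.mk.inj_iff.mp h3).2
  · rintro ⟨hloc, hpi⟩
    haveI := hloc
    let m₀ : MaximalSpectrum N := ⟨maximalIdeal N, inferInstance⟩
    haveI := m₀.isMaximal
    obtain ⟨σ₀⟩ := nonempty_emb A N m₀.asIdeal
    haveI hsub := (subsingleton_emb_iff A N m₀.asIdeal).mpr (hpi m₀.asIdeal)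
    refine ⟨{ default := ⟨m₀, σ₀⟩, uniq := ?_ }⟩
    rintro ⟨m', σ⟩
    have hm : m' = m₀ := MaximalSpectrum.ext (IsLocalRing.eq_maximalIdeal m'.isMaximal)
    subst hm
    exact congrArg _ (Subsingleton.elim σ σ₀)

end Count

section Main

variable (A : Type u) [CommRing A] [IsLocalRing A]

/-- the structure of `A`-algebra on the normalization of the reduction. -/
@[reducible] noncomputable def normRedAlgebra : Algebra A (CAlg2.normRed A) :=
  ((algebraMap (CAlg2.red A) (CAlg2.normRed A)).comp (Ideal.Quotient.mk (nilradical A))).toAlgebra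

theorem normRedAlgebra_algebraMap :
    letI := normRedAlgebra A
    algebraMap A (CAlg2.normRed A) =
    (algebraMap (CAlg2.red A) (CAlg2.normRed A)).comp (Ideal.Quotient.mk (nilradical A)) := rfl

theorem normRed_isIntegral :
    letI := normRedAlgebra A
    Algebra.IsIntegral A (CAlg2.normRed A) := by
  letI := normRedAlgebra A
  haveI : IsScalarTower A (CAlg2.red A) (CAlg2.normRed A) :=
    IsScalarTower.of_algebraMap_eq (fun _ => rfl)
  haveI : Algebra.IsIntegral A (CAlg2.red A) :=
    Algebra.isIntegral_of_surjective (R := A) (B := CAlg2.red A) Ideal.Quotient.mk_surjective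
  exact Algebra.IsIntegral.trans (CAlg2.red A)

theorem S9236_main : Brnch.numGeomBranches A = 1 ↔ CAlg2.IsGeomUnibranch A := by
  letI := normRedAlgebra A
  haveI := normRed_isIntegral A
  have key := card_sig_eq_one_iff A (CAlg2.normRed A)
  unfold CAlg2.IsGeomUnibranch
  constructor
  · intro h
    unfold Brnch.numGeomBranches at h
    by_cases hfin : (minimalPrimes A).Finite
    · rw [if_pos hfin] at h
      obtain ⟨hloc, hpi⟩ := key.mp h
      refine ⟨?_, fun m' hm' => hpi m'⟩
      rw [← S9235_main]
      unfold Brnch.numBranches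
      rw [if_pos hfin]
      exact card_eq_one_of_isLocalRing _
    · rw [if_neg hfin] at h
      exact absurd h (by simp)
  · rintro ⟨huni, hpi⟩
    unfold Brnch.numGeomBranches
    rw [if_pos (finite_minimalPrimes_of_isDomain_red A huni.1)]
    exact key.mpr ⟨huni.2, fun m' hm' => hpi m'⟩

end Main



section Residue

variable (A : Type u) [CommRing A] [IsLocalRing A] (N : Type u) [CommRing N] [Algebra A N]
  [Algebra.IsIntegral A N] (m' : Ideal N) [hm' : m'.IsMaximal]

end Residue

section Main

variable (A : Type u) [CommRing A] [IsLocalRing A]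

end Main

section SepClosed

theorem pow_mem_of_isSepClosed (k κ L : Type u) [Field k] [IsSepClosed k] [Field κ] [Field L]
    [Algebra k κ] [Algebra κ L] [Algebra.IsAlgebraic k κ] [Algebra.IsAlgebraic κ L] (x : L) :
    ∃ (n : ℕ) (c : k), algebraMap κ L (algebraMap k κ c) = x ^ (ringExpChar L) ^ n := by
  letI algkL : Algebra k L := ((algebraMap κ L).comp (algebraMap k κ)).toAlgebra
  haveI : IsScalarTower k κ L := IsScalarTower.of_algebraMap_eq (fun _ => rfl)
  haveI : Algebra.IsAlgebraic k L := Algebra.IsAlgebraic.trans k κ L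
  haveI : ExpChar k (ringExpChar L) := (algebraMap k L).expChar (algebraMap k L).injective _
  have hpi : IsPurelyInseparable k L := inferInstance
  obtain ⟨n, c, hc⟩ := (isPurelyInseparable_iff_pow_mem k (ringExpChar L)).mp hpi x
  exact ⟨n, c, hc⟩

theorem isGeomUnibranch_of_isSepClosed (k : Type u) [Field k] [IsSepClosed k]
    (A : Type u) [CommRing A] [IsLocalRing A] [Algebra k A]
    [Algebra.IsAlgebraic k (ResidueField A)] (h : CAlg2.IsUnibranch A) :
    CAlg2.IsGeomUnibranch A := by
  refine ⟨h, ?_⟩
  intro m' hm'
  letI algN := normRedAlgebra A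
  haveI := normRed_isIntegral A
  rw [← normRedAlgebra_algebraMap A]
  intro x
  letI fL : Field (CAlg2.normRed A ⧸ m') := Ideal.Quotient.field m'
  obtain ⟨n, c, hc⟩ := @pow_mem_of_isSepClosed k (ResidueField A) (CAlg2.normRed A ⧸ m') _ _ _ fL _
    (resAlgebra A (CAlg2.normRed A) m') _ (resAlgebra_isAlgebraic A (CAlg2.normRed A) m') x
  refine ⟨n, algebraMap k A c, ?_⟩
  rw [← hc, IsScalarTower.algebraMap_apply k A (ResidueField A), ResidueField.algebraMap_eq,
    resAlgebra_algebraMap]
  rfl

theorem isAlgebraic_residueField_of_finiteType (k S : Type u) [Field k] [CommRing S] [Algebra k S]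
    [Algebra.FiniteType k S] (m : Ideal S) [m.IsMaximal] :
    Algebra.IsAlgebraic k (ResidueField (Localization.AtPrime m)) := by
  letI : Field (S ⧸ m) := Ideal.Quotient.field m
  haveI : Module.Finite k (S ⧸ m) := finite_of_finite_type_of_isJacobsonRing k (S ⧸ m)
  have hsurj : Function.Surjective (algebraMap (S ⧸ m) m.ResidueField) :=
    m.bijective_algebraMap_quotient_residueField.2
  haveI : Module.Finite k m.ResidueField :=
    Module.Finite.of_surjective (IsScalarTower.toAlgHom k (S ⧸ m) m.ResidueField).toLinearMap hsurj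
  exact Algebra.IsAlgebraic.of_finite k m.ResidueField

theorem S2731_main (k S : Type u) [Field k] [IsSepClosed k] [CommRing S] [Algebra k S]
    [Algebra.FiniteType k S]
    (m : Ideal S) [m.IsMaximal] (h : CAlg2.IsUnibranch (Localization.AtPrime m)) :
    CAlg2.IsGeomUnibranch (Localization.AtPrime m) := by
  haveI := isAlgebraic_residueField_of_finiteType k S m
  exact isGeomUnibranch_of_isSepClosed k _ h

end SepClosed


end Groth.Agent.Lib.Helper4.GeomBranch2
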