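import Mathlib
import Groth.Prelude.Def_Brnch
import Groth.Prelude.Def_EGA4b
import Groth.Agent.Lib.Helper4.GeomBranch2
import Groth.Agent.Lib.Helper4.BranchSum1

/-!
# Geometric branches as a sum over minimal primes (helper4)
-/

set_option backward.isDefEq.respectTransparency.types false
set_option synthInstance.maxHeartbeats 400000
set_option autoImplicit false
set_option linter.unusedSectionVars false
set_option linter.style.haveILetI false
set_option linter.unusedSimpArgs false
universe u v w
open CategoryTheory CategoryTheory.Limits AlgebraicGeometry TopologicalSpace IsLocalRing Opposite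
open Groth.Agent.Lib.Helper4.GeomBranch1 Groth.Agent.Lib.Helper4.GeomBranch2
open Groth.Agent.Lib.Helper4.BranchSum1 Groth.Agent.Lib.Helper4.BranchCount1

namespace Groth.Agent.Lib.Helper4.BranchSum2

section SigHom

variable (A : Type u) [CommRing A] [IsLocalRing A] (N : Type u) [CommRing N] [Algebra A N]
  [Algebra.IsIntegral A N]

theorem ker_toClosure : RingHom.ker (Brnch.toClosure A) = maximalIdeal A := by
  unfold Brnch.toClosure
  ext a
  rw [RingHom.mem_ker, RingHom.comp_apply, map_eq_zero_iff _ (RingHom.injective _),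
    ← RingHom.mem_ker, IsLocalRing.ker_residue]

/-- pairs (maximal ideal, embedding of its residue field) as ring maps to the algebraic closure -/
noncomputable def sigToHom
    (x : Σ m' : MaximalSpectrum N, {σ : N ⧸ m'.asIdeal →+* AlgebraicClosure (ResidueField A) //
      σ.comp ((Ideal.Quotient.mk m'.asIdeal).comp (algebraMap A N)) = Brnch.toClosure A}) :
    {τ : N →+* AlgebraicClosure (ResidueField A) //
      τ.comp (algebraMap A N) = Brnch.toClosure A} :=
  ⟨x.2.1.comp (Ideal.Quotient.mk x.1.asIdeal), by rw [RingHom.comp_assoc]; exact x.2.2⟩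

theorem sigToHom_apply
    (x : Σ m' : MaximalSpectrum N, {σ : N ⧸ m'.asIdeal →+* AlgebraicClosure (ResidueField A) //
      σ.comp ((Ideal.Quotient.mk m'.asIdeal).comp (algebraMap A N)) = Brnch.toClosure A}) (n : N) :
    (sigToHom A N x).1 n = x.2.1 (Ideal.Quotient.mk x.1.asIdeal n) := rfl

theorem sigToHom_bijective : Function.Bijective (sigToHom A N) := by
  constructor
  · rintro ⟨m₁, σ₁, h₁⟩ ⟨m₂, σ₂, h₂⟩ h
    have key : ∀ n : N, σ₁ (Ideal.Quotient.mk m₁.asIdeal n) =
        σ₂ (Ideal.Quotient.mk m₂.asIdeal n) := fun n => by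
      have := congrArg (fun t => t.1 n) h
      simpa only [sigToHom_apply] using this
    haveI := m₁.isMaximal
    haveI := m₂.isMaximal
    letI : Field (N ⧸ m₁.asIdeal) := Ideal.Quotient.field _
    letI : Field (N ⧸ m₂.asIdeal) := Ideal.Quotient.field _
    have hm : m₁ = m₂ := by
      ext n
      rw [← Ideal.Quotient.eq_zero_iff_mem, ← Ideal.Quotient.eq_zero_iff_mem,
        ← map_eq_zero_iff σ₁ σ₁.injective, ← map_eq_zero_iff σ₂ σ₂.injective, key]
    subst hm
    have hσ : σ₁ = σ₂ := by
      apply RingHom.ext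
      intro y
      obtain ⟨n, rfl⟩ := Ideal.Quotient.mk_surjective y
      exact key n
    subst hσ
    rfl
  · rintro ⟨τ, hτ⟩
    haveI hprime : (RingHom.ker τ).IsPrime := RingHom.ker_isPrime τ
    have hcomap : (RingHom.ker τ).comap (algebraMap A N) = maximalIdeal A := by
      rw [RingHom.comap_ker, hτ, ker_toClosure]
    have hmax : (RingHom.ker τ).IsMaximal :=
      Ideal.isMaximal_of_isIntegral_of_isMaximal_comap (R := A) _
        (by rw [hcomap]; infer_instance)
    refine ⟨⟨⟨RingHom.ker τ, hmax⟩, ⟨RingHom.kerLift τ, ?_⟩⟩, ?_⟩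
    · ext a
      simp only [RingHom.comp_apply, RingHom.kerLift_mk]
      exact RingHom.congr_fun hτ a
    · apply Subtype.ext
      ext n
      simp [sigToHom]

theorem card_sig_eq_card_hom :
    ENat.card (Σ m' : MaximalSpectrum N,
      {σ : N ⧸ m'.asIdeal →+* AlgebraicClosure (ResidueField A) //
        σ.comp ((Ideal.Quotient.mk m'.asIdeal).comp (algebraMap A N)) = Brnch.toClosure A}) =
    ENat.card {τ : N →+* AlgebraicClosure (ResidueField A) //
      τ.comp (algebraMap A N) = Brnch.toClosure A} :=
  ENat.card_congr (Equiv.ofBijective _ (sigToHom_bijective A N))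

end SigHom

section Transport

variable {A₁ A₂ N₁ N₂ Ω₁ Ω₂ : Type u} [CommRing A₁] [CommRing A₂] [CommRing N₁] [CommRing N₂]
  [CommRing Ω₁] [CommRing Ω₂]

/-- transport of compatible ring maps along isomorphisms -/
noncomputable def homTransport (θ : N₁ ≃+* N₂) (ψ : Ω₁ ≃+* Ω₂) (π : A₁ →+* A₂)
    (hπ : Function.Surjective π) (f₁ : A₁ →+* N₁) (c₁ : A₁ →+* Ω₁) (f₂ : A₂ →+* N₂) (c₂ : A₂ →+* Ω₂)
    (hf : θ.toRingHom.comp f₁ = f₂.comp π) (hc : ψ.toRingHom.comp c₁ = c₂.comp π) :
    {τ : N₁ →+* Ω₁ // τ.comp f₁ = c₁} ≃ {τ : N₂ →+* Ω₂ // τ.comp f₂ = c₂} where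
  toFun τ := ⟨(ψ.toRingHom.comp τ.1).comp θ.symm.toRingHom, by
    apply RingHom.cancel_right hπ |>.mp
    ext a
    have h1 : f₂ (π a) = θ (f₁ a) := (RingHom.congr_fun hf a).symm
    have h2 : c₂ (π a) = ψ (c₁ a) := (RingHom.congr_fun hc a).symm
    have h3 : τ.1 (f₁ a) = c₁ a := RingHom.congr_fun τ.2 a
    simp only [RingHom.comp_apply, RingEquiv.toRingHom_eq_coe, RingHom.coe_coe]
    rw [h1, RingEquiv.symm_apply_apply, h3, h2]⟩
  invFun τ := ⟨(ψ.symm.toRingHom.comp τ.1).comp θ.toRingHom, by
    ext a
    have h1 : θ (f₁ a) = f₂ (π a) := RingHom.congr_fun hf a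
    have h2 : ψ (c₁ a) = c₂ (π a) := RingHom.congr_fun hc a
    have h3 : τ.1 (f₂ (π a)) = c₂ (π a) := RingHom.congr_fun τ.2 (π a)
    simp only [RingHom.comp_apply, RingEquiv.toRingHom_eq_coe, RingHom.coe_coe]
    rw [h1, h3, ← h2, RingEquiv.symm_apply_apply]⟩
  left_inv τ := by
    apply Subtype.ext
    ext n
    simp
  right_inv τ := by
    apply Subtype.ext
    ext n
    simp

end Transport

section PiHom

variable {ι : Type u} [Finite ι] (S : ι → Type u) [∀ i, CommRing (S i)]
  {A Ω : Type u} [CommRing A] [CommRing Ω] [IsDomain Ω] (g : A →+* ∀ i, S i) (c : A →+* Ω)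

/-- ring maps from a finite product to a domain factor through one factor -/
noncomputable def sigmaToPiHom
    (x : Σ i, {τ : S i →+* Ω // τ.comp ((Pi.evalRingHom S i).comp g) = c}) :
    {τ : (∀ i, S i) →+* Ω // τ.comp g = c} :=
  ⟨x.2.1.comp (Pi.evalRingHom S x.1), by rw [RingHom.comp_assoc]; exact x.2.2⟩

theorem sigmaToPiHom_bijective : Function.Bijective (sigmaToPiHom S g c) := by
  classical
  constructor
  · rintro ⟨i, τ, hτ⟩ ⟨j, τ', hτ'⟩ h
    have key : ∀ f : ∀ i, S i, τ (f i) = τ' (f j) := fun f => by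
      have := congrArg (fun t => t.1 f) h
      simpa [sigmaToPiHom] using this
    have hij : i = j := by
      by_contra hne
      have := key (Pi.single i 1)
      rw [Pi.single_eq_same, Pi.single_eq_of_ne (Ne.symm hne), map_one, map_zero] at this
      exact one_ne_zero this
    subst hij
    have : τ = τ' := by
      apply RingHom.ext
      intro y
      have := key (Pi.single i y)
      rwa [Pi.single_eq_same] at this
    subst this
    rfl
  · rintro ⟨τ, hτ⟩
    haveI hprime : (RingHom.ker τ).IsPrime := RingHom.ker_isPrime τ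
    obtain ⟨⟨i, P⟩, hP⟩ := (PrimeSpectrum.sigmaToPi_bijective S).2 ⟨RingHom.ker τ, hprime⟩
    have hP' : P.asIdeal.comap (Pi.evalRingHom S i) = RingHom.ker τ :=
      congrArg PrimeSpectrum.asIdeal hP
    have hker : RingHom.ker (Pi.evalRingHom S i) ≤ RingHom.ker τ := by
      rw [← hP', RingHom.ker_eq_comap_bot]
      exact Ideal.comap_mono bot_le
    have hsurj := evalRingHom_surjective S i
    refine ⟨⟨i, ⟨(Pi.evalRingHom S i).liftOfSurjective hsurj ⟨τ, hker⟩, ?_⟩⟩, ?_⟩
    · rw [← RingHom.comp_assoc, RingHom.liftOfSurjective_comp]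
      exact hτ
    · apply Subtype.ext
      exact RingHom.liftOfSurjective_comp _ hsurj ⟨τ, hker⟩

end PiHom



section SigHom

variable (A : Type u) [CommRing A] [IsLocalRing A] (N : Type u) [CommRing N] [Algebra A N]
  [Algebra.IsIntegral A N]

end SigHom

section Transport

variable {A₁ A₂ N₁ N₂ Ω₁ Ω₂ : Type u} [CommRing A₁] [CommRing A₂] [CommRing N₁] [CommRing N₂]
  [CommRing Ω₁] [CommRing Ω₂]

end Transport

section PiHom

variable {ι : Type u} [Finite ι] (S : ι → Type u) [∀ i, CommRing (S i)]
  {A Ω : Type u} [CommRing A] [CommRing Ω] [IsDomain Ω] (g : A →+* ∀ i, S i) (c : A →+* Ω)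

end PiHom

section Closure

variable {A B : Type u} [CommRing A] [CommRing B] [IsLocalRing A] [IsLocalRing B]
  (π : A →+* B) (hπ : Function.Surjective π)

/-- the isomorphism of residue fields induced by a surjection of local rings -/
noncomputable def residueEquivOfSurjective : ResidueField A ≃+* ResidueField B :=
  haveI := IsLocalHom.of_surjective π hπ
  RingEquiv.ofBijective (ResidueField.map π)
    ⟨(ResidueField.map π).injective, fun y => by
      obtain ⟨b, rfl⟩ := IsLocalRing.residue_surjective y
      obtain ⟨a, rfl⟩ := hπ b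
      exact ⟨residue A a, rfl⟩⟩

theorem residueEquivOfSurjective_residue (a : A) :
    residueEquivOfSurjective π hπ (residue A a) = residue B (π a) := rfl

/-- an isomorphism of the algebraic closures of the residue fields -/
noncomputable def closureEquiv :
    AlgebraicClosure (ResidueField A) ≃+* AlgebraicClosure (ResidueField B) :=
  IsAlgClosure.equivOfEquiv _ _ (residueEquivOfSurjective π hπ)

theorem closureEquiv_comp_toClosure :
    (closureEquiv π hπ).toRingHom.comp (Brnch.toClosure A) = (Brnch.toClosure B).comp π := by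
  have h1 := IsAlgClosure.equivOfEquiv_comp_algebraMap (AlgebraicClosure (ResidueField A))
    (AlgebraicClosure (ResidueField B)) (residueEquivOfSurjective π hπ)
  ext a
  have h2 := RingHom.congr_fun h1 (residue A a)
  simp only [RingHom.comp_apply, RingHom.coe_coe, residueEquivOfSurjective_residue] at h2
  exact h2

end Closure

section Main

variable (A : Type u) [CommRing A] [IsLocalRing A]

theorem numGeomBranches_eq_card_hom (h : (minimalPrimes A).Finite) :
    Brnch.numGeomBranches A =
      letI := normRedAlgebra A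
      ENat.card {τ : CAlg2.normRed A →+* AlgebraicClosure (ResidueField A) //
        τ.comp (algebraMap A (CAlg2.normRed A)) = Brnch.toClosure A} := by
  letI := normRedAlgebra A
  haveI := normRed_isIntegral A
  unfold Brnch.numGeomBranches
  rw [if_pos h]
  exact card_sig_eq_card_hom A (CAlg2.normRed A)

theorem finite_minimalPrimes_quotient (p : Ideal A) [hp : p.IsPrime] :
    (minimalPrimes (A ⧸ p)).Finite := by
  have : minimalPrimes (A ⧸ p) = {⊥} := by
    have : (⊥ : Ideal (A ⧸ p)).IsPrime := Ideal.isPrime_bot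
    exact Ideal.minimalPrimes_eq_subsingleton_self
  rw [this]
  exact Set.finite_singleton _

theorem S9811_main (h : (minimalPrimes A).Finite) :
    Brnch.numGeomBranches A =
      ∑ᶠ p : minimalPrimes A,
        haveI : p.1.IsPrime := p.2.1.1
        Brnch.numGeomBranches (A ⧸ p.1) := by
  have hfinR := finite_minimalPrimes_red A h
  haveI : Finite (minimalPrimes (CAlg2.red A)) := hfinR.to_subtype
  letI algN := normRedAlgebra A
  rw [numGeomBranches_eq_card_hom A h]
  -- transport to the product
  let Φ := normProdEquiv (CAlg2.red A) hfinR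
  let g : A →+* ∀ q : minimalPrimes (CAlg2.red A),
      integralClosure (CAlg2.red A ⧸ q.1) (FractionRing (CAlg2.red A ⧸ q.1)) :=
    Φ.toRingHom.comp (algebraMap A (CAlg2.normRed A))
  have e1 := homTransport Φ (RingEquiv.refl (AlgebraicClosure (ResidueField A))) (RingHom.id A)
    Function.surjective_id (algebraMap A (CAlg2.normRed A)) (Brnch.toClosure A) g
    (Brnch.toClosure A) rfl rfl
  rw [ENat.card_congr e1,
    ← ENat.card_congr (Equiv.ofBijective _ (sigmaToPiHom_bijective
      (fun q : minimalPrimes (CAlg2.red A) =>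
        integralClosure (CAlg2.red A ⧸ q.1) (FractionRing (CAlg2.red A ⧸ q.1))) g
      (Brnch.toClosure A))),
    card_sigma_eq_finsum, ← finsum_comp_equiv (minPrimesEquiv A)]
  apply finsum_congr
  intro q
  haveI hpq : (minPrimesEquiv A q).1.IsPrime := Ideal.IsMinimalPrime.isPrime (minPrimesEquiv A q).2
  letI algB := normRedAlgebra (A ⧸ (minPrimesEquiv A q).1)
  rw [numGeomBranches_eq_card_hom _ (finite_minimalPrimes_quotient A _)]
  refine ENat.card_congr (homTransport (icEquiv (compEquiv A q))
    (closureEquiv (Ideal.Quotient.mk (minPrimesEquiv A q).1) Ideal.Quotient.mk_surjective)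
    (Ideal.Quotient.mk (minPrimesEquiv A q).1) Ideal.Quotient.mk_surjective _ _ _ _
    (RingHom.ext fun a => ?_)
    (closureEquiv_comp_toClosure _ _))
  change icEquiv (compEquiv A q) (normProdHom (CAlg2.red A)
    (algebraMap (CAlg2.red A) (CAlg2.normRed A) (Ideal.Quotient.mk (nilradical A) a)) q) = _
  rw [normProdHom_algebraMap]
  change icEquiv (compEquiv A q) (algebraMap _ _ (compMapL A q a)) = _
  rw [icEquiv_algebraMap, compEquiv_apply]
  rfl

end Main


end Groth.Agent.Lib.Helper4.BranchSum2
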