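import Mathlib
import Groth.Prelude.Def_Brnch
import Groth.Agent.Lib.Helper4.GeomBranch2
import Groth.Agent.Lib.Helper4.BranchSum2

/-!
# Normalization of a localization: maximal ideals and maps to a field (helper4)
-/

set_option backward.isDefEq.respectTransparency.types false
set_option synthInstance.maxHeartbeats 400000
set_option autoImplicit false
set_option linter.unusedSectionVars false
set_option linter.style.haveILetI false
set_option linter.unusedSimpArgs false
universe u v w
open CategoryTheory CategoryTheory.Limits AlgebraicGeometry TopologicalSpace IsLocalRing Opposite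
open Groth.Agent.Lib.Helper4.GeomBranch1 Groth.Agent.Lib.Helper4.GeomBranch2
open Groth.Agent.Lib.Helper4.BranchSum1 Groth.Agent.Lib.Helper4.BranchSum2

namespace Groth.Agent.Lib.Helper4.NormFibre1

section LocMax

variable {B B' L : Type u} [CommRing B] [CommRing B'] [CommRing L] [Algebra B B']
  [Algebra.IsIntegral B B'] [Algebra B' L]
  (𝔭 : Ideal B) [h𝔭 : 𝔭.IsPrime] [hL : IsLocalization (Algebra.algebraMapSubmonoid B' 𝔭.primeCompl) L]

theorem disjoint_of_comap_le (Q : Ideal B') (hQ : Q.comap (algebraMap B B') ≤ 𝔭) :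
    Disjoint ((Algebra.algebraMapSubmonoid B' 𝔭.primeCompl : Submonoid B') : Set B') (Q : Set B') := by
  rw [Set.disjoint_left]
  rintro _ ⟨s, hs, rfl⟩ hsQ
  exact hs (hQ hsQ)

theorem comap_le_of_disjoint (Q : Ideal B')
    (hd : Disjoint ((Algebra.algebraMapSubmonoid B' 𝔭.primeCompl : Submonoid B') : Set B')
      (Q : Set B')) : Q.comap (algebraMap B B') ≤ 𝔭 := by
  intro b hb
  by_contra hnb
  exact Set.disjoint_left.mp hd ⟨b, hnb, rfl⟩ hb

theorem comap_eq_of_isMaximal (m' : Ideal L) [hm' : m'.IsMaximal] :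
    (m'.comap (algebraMap B' L)).comap (algebraMap B B') = 𝔭 := by
  set M' := Algebra.algebraMapSubmonoid B' 𝔭.primeCompl with hM'
  have hprime := (IsLocalization.isPrime_iff_isPrime_disjoint M' L m').mp hm'.isPrime
  haveI hQprime : (m'.comap (algebraMap B' L)).IsPrime := hprime.1
  have hle := comap_le_of_disjoint 𝔭 _ hprime.2
  obtain ⟨Q₂, hQ₂ge, hQ₂prime, hQ₂⟩ :=
    Ideal.exists_ideal_over_prime_of_isIntegral_of_isPrime 𝔭 (m'.comap (algebraMap B' L)) hle
  have hd₂ := disjoint_of_comap_le 𝔭 Q₂ hQ₂.le
  have hp₂ : (Q₂.map (algebraMap B' L)).IsPrime :=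
    IsLocalization.isPrime_of_isPrime_disjoint M' L Q₂ hQ₂prime hd₂
  have hm'le : m' ≤ Q₂.map (algebraMap B' L) := by
    rw [← IsLocalization.map_under M' L m']
    exact Ideal.map_mono hQ₂ge
  have heq : m' = Q₂.map (algebraMap B' L) := hm'.eq_of_le hp₂.ne_top hm'le
  have : Q₂ = m'.comap (algebraMap B' L) := by
    rw [heq]
    exact (IsLocalization.under_map_of_isPrime_disjoint M' L hQ₂prime hd₂).symm
  rw [← this, hQ₂]

theorem isMaximal_map_of_comap_eq (Q : Ideal B') [hQp : Q.IsPrime]
    (hQ : Q.comap (algebraMap B B') = 𝔭) :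
    (Q.map (algebraMap B' L)).IsMaximal ∧ (Q.map (algebraMap B' L)).comap (algebraMap B' L) = Q := by
  set M' := Algebra.algebraMapSubmonoid B' 𝔭.primeCompl with hM'
  have hd := disjoint_of_comap_le 𝔭 Q hQ.le
  have hp : (Q.map (algebraMap B' L)).IsPrime :=
    IsLocalization.isPrime_of_isPrime_disjoint M' L Q hQp hd
  have hcm : (Q.map (algebraMap B' L)).comap (algebraMap B' L) = Q :=
    IsLocalization.under_map_of_isPrime_disjoint M' L hQp hd
  refine ⟨?_, hcm⟩
  obtain ⟨n', hn'max, hn'le⟩ := Ideal.exists_le_maximal _ hp.ne_top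
  haveI := hn'max
  have h3 := comap_eq_of_isMaximal (B' := B') 𝔭 n'
  haveI : (n'.comap (algebraMap B' L)).IsPrime := Ideal.comap_isPrime _ _
  have hQle : Q ≤ n'.comap (algebraMap B' L) := by
    rw [← hcm]
    exact Ideal.comap_mono hn'le
  have hQeq : Q = n'.comap (algebraMap B' L) := by
    by_contra hne
    have hlt : Q < n'.comap (algebraMap B' L) := lt_of_le_of_ne hQle hne
    have := Ideal.IsIntegral.comap_lt_comap (R := B) hlt
    rw [hQ, h3] at this
    exact lt_irrefl _ this
  have : Q.map (algebraMap B' L) = n' := by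
    rw [hQeq]
    exact IsLocalization.map_under M' L n'
  rw [this]
  exact hn'max

/-- maximal ideals of the localization of an integral algebra at a prime of the base correspond to
the primes over it -/
noncomputable def maxSpecLocEquiv :
    MaximalSpectrum L ≃ {Q : Ideal B' // Q.IsPrime ∧ Q.comap (algebraMap B B') = 𝔭} where
  toFun m' := ⟨m'.asIdeal.comap (algebraMap B' L),
    haveI := m'.isMaximal
    Ideal.comap_isPrime _ _, haveI := m'.isMaximal; comap_eq_of_isMaximal (B' := B') 𝔭 m'.asIdeal⟩
  invFun Q := ⟨Q.1.map (algebraMap B' L),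
    haveI := Q.2.1
    (isMaximal_map_of_comap_eq 𝔭 Q.1 Q.2.2).1⟩
  left_inv m' := by
    apply MaximalSpectrum.ext
    exact IsLocalization.map_under (Algebra.algebraMapSubmonoid B' 𝔭.primeCompl) L m'.asIdeal
  right_inv Q := by
    apply Subtype.ext
    haveI := Q.2.1
    exact (isMaximal_map_of_comap_eq 𝔭 Q.1 Q.2.2).2

end LocMax


section LocHom

variable {B A B' L Ω : Type u} [CommRing B] [CommRing A] [CommRing B'] [CommRing L] [Field Ω]
  [Algebra B A] [Algebra B B'] [Algebra B' L] [Algebra A L] [Algebra B L]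
  [IsScalarTower B A L] [IsScalarTower B B' L]
  (𝔭 : Ideal B) [h𝔭 : 𝔭.IsPrime] [hA : IsLocalization.AtPrime A 𝔭]
  [hL : IsLocalization (Algebra.algebraMapSubmonoid B' 𝔭.primeCompl) L]
  (c : A →+* Ω)

theorem isUnit_of_mem_algebraMapSubmonoid (τ' : B' →+* Ω)
    (hτ' : τ'.comp (algebraMap B B') = c.comp (algebraMap B A))
    (y : Algebra.algebraMapSubmonoid B' 𝔭.primeCompl) : IsUnit (τ' y) := by
  obtain ⟨_, s, hs, rfl⟩ := y
  have h1 : τ' (algebraMap B B' s) = c (algebraMap B A s) := RingHom.congr_fun hτ' s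
  change IsUnit (τ' (algebraMap B B' s))
  rw [h1]
  exact (IsLocalization.map_units A (⟨s, hs⟩ : 𝔭.primeCompl)).map c

/-- ring maps out of a localization of `B'` compatible with a map from the localization of `B` -/
noncomputable def locHomEquiv :
    {τ : L →+* Ω // τ.comp (algebraMap A L) = c} ≃
      {τ' : B' →+* Ω // τ'.comp (algebraMap B B') = c.comp (algebraMap B A)} where
  toFun τ := ⟨τ.1.comp (algebraMap B' L), by
    ext b
    have h1 : τ.1 (algebraMap A L (algebraMap B A b)) = c (algebraMap B A b) :=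
      RingHom.congr_fun τ.2 _
    simp only [RingHom.comp_apply]
    rw [← IsScalarTower.algebraMap_apply B B' L, IsScalarTower.algebraMap_apply B A L, h1]⟩
  invFun τ' := ⟨IsLocalization.lift (M := Algebra.algebraMapSubmonoid B' 𝔭.primeCompl)
      (g := τ'.1) (isUnit_of_mem_algebraMapSubmonoid 𝔭 c τ'.1 τ'.2), by
    apply IsLocalization.ringHom_ext 𝔭.primeCompl
    ext b
    simp only [RingHom.comp_apply]
    rw [← IsScalarTower.algebraMap_apply B A L, IsScalarTower.algebraMap_apply B B' L,
      IsLocalization.lift_eq]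
    exact RingHom.congr_fun τ'.2 b⟩
  left_inv τ := by
    apply Subtype.ext
    apply IsLocalization.ringHom_ext (Algebra.algebraMapSubmonoid B' 𝔭.primeCompl)
    ext b
    simp only [RingHom.comp_apply, IsLocalization.lift_eq]
  right_inv τ' := by
    apply Subtype.ext
    ext b
    simp only [RingHom.comp_apply, IsLocalization.lift_eq]

end LocHom


section IcEquivGen

variable {R₁ R₂ : Type u} [CommRing R₁] [CommRing R₂] (e : R₁ ≃+* R₂)
  (K₁ K₂ : Type u) [CommRing K₁] [CommRing K₂] [Algebra R₁ K₁] [IsFractionRing R₁ K₁]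
  [Algebra R₂ K₂] [IsFractionRing R₂ K₂]

/-- the isomorphism of total rings of fractions induced by a ring isomorphism -/
noncomputable def fracEquivGen : K₁ ≃+* K₂ :=
  IsFractionRing.ringEquivOfRingEquiv e

theorem fracEquivGen_algebraMap (b : R₁) :
    fracEquivGen e K₁ K₂ (algebraMap R₁ K₁ b) = algebraMap R₂ K₂ (e b) :=
  IsFractionRing.ringEquivOfRingEquiv_algebraMap e b

theorem fracEquivGen_symm_apply (y : K₂) :
    (fracEquivGen e K₁ K₂).symm y = fracEquivGen e.symm K₂ K₁ y := rfl

theorem isIntegral_fracEquivGen {x : K₁} (hx : IsIntegral R₁ x) :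
    IsIntegral R₂ (fracEquivGen e K₁ K₂ x) :=
  IsIntegral.map_of_comp_eq e.toRingHom (fracEquivGen e K₁ K₂).toRingHom
    (RingHom.ext fun b => (fracEquivGen_algebraMap e K₁ K₂ b).symm) hx

/-- the induced map of integral closures -/
noncomputable def icHomGen : integralClosure R₁ K₁ →+* integralClosure R₂ K₂ :=
  RingHom.codRestrict ((fracEquivGen e K₁ K₂).toRingHom.comp
      (algebraMap (integralClosure R₁ K₁) K₁))
    (integralClosure R₂ K₂)
    (fun x => isIntegral_fracEquivGen e K₁ K₂ x.2)

theorem icHomGen_coe (x : integralClosure R₁ K₁) :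
    ((icHomGen e K₁ K₂ x : integralClosure R₂ K₂) : K₂) = fracEquivGen e K₁ K₂ x.1 := rfl

theorem icHomGen_bijective : Function.Bijective (icHomGen e K₁ K₂) := by
  constructor
  · intro x y h
    apply Subtype.ext
    apply (fracEquivGen e K₁ K₂).injective
    rw [← icHomGen_coe, ← icHomGen_coe, h]
  · intro y
    refine ⟨⟨(fracEquivGen e K₁ K₂).symm y.1, ?_⟩, ?_⟩
    · rw [fracEquivGen_symm_apply]
      exact isIntegral_fracEquivGen e.symm K₂ K₁ y.2
    · apply Subtype.ext
      rw [icHomGen_coe]
      exact (fracEquivGen e K₁ K₂).apply_symm_apply y.1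

/-- the induced isomorphism of integral closures -/
noncomputable def icEquivGen : integralClosure R₁ K₁ ≃+* integralClosure R₂ K₂ :=
  RingEquiv.ofBijective (icHomGen e K₁ K₂) (icHomGen_bijective e K₁ K₂)

theorem icEquivGen_algebraMap (b : R₁) :
    icEquivGen e K₁ K₂ (algebraMap R₁ _ b) = algebraMap R₂ _ (e b) := by
  apply Subtype.ext
  change fracEquivGen e K₁ K₂ (algebraMap R₁ K₁ b) = _
  exact fracEquivGen_algebraMap e K₁ K₂ b

end IcEquivGen

section Core

variable {B K B' A : Type u} [CommRing B] [IsDomain B] [Field K] [Algebra B K] [IsFractionRing B K]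
  [CommRing B'] [Algebra B B'] [Algebra B' K] [IsScalarTower B B' K]
  [Algebra.IsIntegral B B']
  (hinj : Function.Injective (algebraMap B' K))
  (hic : ∀ z : K, IsIntegral B z → ∃ b' : B', algebraMap B' K b' = z)
  (𝔭 : Ideal B) [h𝔭 : 𝔭.IsPrime] [CommRing A] [Algebra B A] [hA : IsLocalization.AtPrime A 𝔭]

/-- the canonical map from a localization at a prime to the fraction field -/
@[reducible] noncomputable def locAlgebra : Algebra A K :=
  (IsLocalization.lift (M := 𝔭.primeCompl) (S := A) (g := algebraMap B K) (fun y => by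
    apply IsUnit.mk0
    intro h0
    have : (y : B) = 0 := IsFractionRing.injective B K (by rw [h0, map_zero])
    exact y.2 (this ▸ 𝔭.zero_mem))).toAlgebra

theorem locAlgebra_tower :
    letI := locAlgebra (K := K) (A := A) 𝔭
    IsScalarTower B A K := by
  letI := locAlgebra (K := K) (A := A) 𝔭
  refine IsScalarTower.of_algebraMap_eq (fun b => ?_)
  exact (IsLocalization.lift_eq _ b).symm

theorem locAlgebra_isFractionRing :
    letI := locAlgebra (K := K) (A := A) 𝔭
    IsFractionRing A K := by
  letI := locAlgebra (K := K) (A := A) 𝔭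
  haveI := locAlgebra_tower (K := K) (A := A) 𝔭
  exact IsFractionRing.isFractionRing_of_isDomain_of_isLocalization 𝔭.primeCompl A K

/-- the map from `B'` to the integral closure of the localization -/
noncomputable def toIcLoc :
    letI := locAlgebra (K := K) (A := A) 𝔭
    B' →+* integralClosure A K :=
  letI := locAlgebra (K := K) (A := A) 𝔭
  haveI := locAlgebra_tower (K := K) (A := A) 𝔭
  RingHom.codRestrict (algebraMap B' K) (integralClosure A K) (fun b' => by
    have h1 : IsIntegral B (algebraMap B' K b') :=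
      (Algebra.IsIntegral.isIntegral (R := B) b').map (IsScalarTower.toAlgHom B B' K)
    exact h1.tower_top)

theorem toIcLoc_coe (b' : B') :
    letI := locAlgebra (K := K) (A := A) 𝔭
    ((toIcLoc (K := K) (A := A) 𝔭 b' : integralClosure A K) : K) = algebraMap B' K b' := rfl

include hinj hic in
theorem isLocalization_toIcLoc :
    letI := locAlgebra (K := K) (A := A) 𝔭
    letI := (toIcLoc (K := K) (A := A) (B' := B') 𝔭).toAlgebra
    IsLocalization (Algebra.algebraMapSubmonoid B' 𝔭.primeCompl) (integralClosure A K) := by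
  letI := locAlgebra (K := K) (A := A) 𝔭
  haveI := locAlgebra_tower (K := K) (A := A) 𝔭
  letI := (toIcLoc (K := K) (A := A) (B' := B') 𝔭).toAlgebra
  rw [isLocalization_iff]
  refine ⟨?_, ?_, ?_⟩
  · rintro ⟨_, s, hs, rfl⟩
    have hu : IsUnit (algebraMap A (integralClosure A K) (algebraMap B A s)) :=
      (IsLocalization.map_units A (⟨s, hs⟩ : 𝔭.primeCompl)).map _
    convert hu using 1
    apply Subtype.ext
    change algebraMap B' K (algebraMap B B' s) = algebraMap A K (algebraMap B A s)
    rw [← IsScalarTower.algebraMap_apply, ← IsScalarTower.algebraMap_apply]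
  · intro c
    obtain ⟨m, hm⟩ := IsIntegral.exists_multiple_integral_of_isLocalization 𝔭.primeCompl
      (Rₘ := A) (c : K) c.2
    obtain ⟨b', hb'⟩ := hic _ hm
    refine ⟨⟨b', ⟨algebraMap B B' m, m, m.2, rfl⟩⟩, ?_⟩
    apply Subtype.ext
    change (c : K) * algebraMap B' K (algebraMap B B' m) = algebraMap B' K b'
    rw [hb', ← IsScalarTower.algebraMap_apply, Submonoid.smul_def, Algebra.smul_def, mul_comm]
  · intro x y hxy
    have : algebraMap B' K x = algebraMap B' K y := congrArg Subtype.val hxy
    exact ⟨1, by rw [hinj this]⟩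

end Core


section Core2

variable {B K B' A : Type u} [CommRing B] [IsDomain B] [Field K] [Algebra B K] [IsFractionRing B K]
  [CommRing B'] [Algebra B B'] [Algebra B' K] [IsScalarTower B B' K]
  [Algebra.IsIntegral B B']
  (hinj : Function.Injective (algebraMap B' K))
  (hic : ∀ z : K, IsIntegral B z → ∃ b' : B', algebraMap B' K b' = z)
  (𝔭 : Ideal B) [h𝔭 : 𝔭.IsPrime] [CommRing A] [Algebra B A] [hA : IsLocalization.AtPrime A 𝔭]
  [IsLocalRing A] [IsDomain A]

/-- the normalization of the reduction of a local domain as an integral closure in a given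
fraction field -/
noncomputable def normRedEquivIc :
    letI := locAlgebra (K := K) (A := A) 𝔭
    CAlg2.normRed A ≃+* integralClosure A K :=
  letI := locAlgebra (K := K) (A := A) 𝔭
  haveI := locAlgebra_isFractionRing (K := K) (A := A) 𝔭
  icEquivGen (redEquiv A).symm (FractionRing (CAlg2.red A)) K

theorem normRedEquivIc_algebraMap (a : A) :
    letI := locAlgebra (K := K) (A := A) 𝔭
    letI := normRedAlgebra A
    normRedEquivIc (K := K) 𝔭 (algebraMap A (CAlg2.normRed A) a) =
      algebraMap A (integralClosure A K) a := by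
  letI := locAlgebra (K := K) (A := A) 𝔭
  haveI := locAlgebra_isFractionRing (K := K) (A := A) 𝔭
  letI := normRedAlgebra A
  change icEquivGen (redEquiv A).symm (FractionRing (CAlg2.red A)) K
    (algebraMap (CAlg2.red A) _ (redEquiv A a)) = _
  rw [icEquivGen_algebraMap, RingEquiv.symm_apply_apply]

include hinj hic in
theorem card_maxSpec_normRed :
    ENat.card (MaximalSpectrum (CAlg2.normRed A)) =
      ENat.card {Q : Ideal B' // Q.IsPrime ∧ Q.comap (algebraMap B B') = 𝔭} := by
  letI := locAlgebra (K := K) (A := A) 𝔭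
  letI := (toIcLoc (K := K) (A := A) (B' := B') 𝔭).toAlgebra
  haveI := isLocalization_toIcLoc (A := A) hinj hic 𝔭
  rw [ENat.card_congr (maxSpecEquiv (normRedEquivIc (K := K) (A := A) 𝔭))]
  exact ENat.card_congr (maxSpecLocEquiv (B' := B') (L := integralClosure A K) 𝔭)

include hinj hic 𝔭 h𝔭 hA in
theorem card_hom_normRed {Ω : Type u} [Field Ω] (c : A →+* Ω) :
    letI := normRedAlgebra A
    ENat.card {τ : CAlg2.normRed A →+* Ω // τ.comp (algebraMap A (CAlg2.normRed A)) = c} =
      ENat.card {τ' : B' →+* Ω // τ'.comp (algebraMap B B') = c.comp (algebraMap B A)} := by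
  letI := normRedAlgebra A
  letI := locAlgebra (K := K) (A := A) 𝔭
  haveI := locAlgebra_tower (K := K) (A := A) 𝔭
  letI algB'L := (toIcLoc (K := K) (A := A) (B' := B') 𝔭).toAlgebra
  haveI := isLocalization_toIcLoc (A := A) hinj hic 𝔭
  have e1 := homTransport (normRedEquivIc (K := K) (A := A) 𝔭) (RingEquiv.refl Ω) (RingHom.id A)
    Function.surjective_id (algebraMap A (CAlg2.normRed A)) c
    (algebraMap A (integralClosure A K)) c
    (RingHom.ext fun a => normRedEquivIc_algebraMap (K := K) 𝔭 a) rfl
  rw [ENat.card_congr e1]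
  haveI : IsScalarTower B A (integralClosure A K) :=
    IsScalarTower.of_algebraMap_eq (fun b => Subtype.ext (by
      change algebraMap B K b = algebraMap A K (algebraMap B A b)
      exact IsScalarTower.algebraMap_apply B A K b))
  haveI : IsScalarTower B B' (integralClosure A K) :=
    IsScalarTower.of_algebraMap_eq (fun b => Subtype.ext (by
      change algebraMap B K b = algebraMap B' K (algebraMap B B' b)
      exact IsScalarTower.algebraMap_apply B B' K b))
  exact ENat.card_congr (locHomEquiv (B' := B') (L := integralClosure A K) 𝔭 c)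

end Core2

end Groth.Agent.Lib.Helper4.NormFibre1
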