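import Mathlib
import Groth.Prelude.Def_Brnch
import Groth.Agent.Lib.Helper4.BranchSum1

/-!
# Fibres of an affine morphism: primes, residue fields and embeddings (helper4)
-/

set_option backward.isDefEq.respectTransparency.types false
set_option synthInstance.maxHeartbeats 400000
set_option autoImplicit false
set_option linter.unusedSectionVars false
set_option linter.style.haveILetI false
set_option linter.unusedSimpArgs false
universe u v w
open CategoryTheory CategoryTheory.Limits AlgebraicGeometry TopologicalSpace IsLocalRing Opposite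
open Groth.Agent.Lib.Helper4.BranchSum1

namespace Groth.Agent.Lib.Helper4.NormFibre2

section ENatSum

theorem enat_hasSum {ι : Type*} (f : ι → ℕ∞) : HasSum f (⨆ s : Finset ι, ∑ a ∈ s, f a) :=
  tendsto_atTop_iSup fun _ _ => Finset.sum_le_sum_of_subset

theorem enat_summable {ι : Type*} (f : ι → ℕ∞) : Summable f := ⟨_, enat_hasSum f⟩

theorem enat_sum_le_tsum {ι : Type*} (f : ι → ℕ∞) (s : Finset ι) : ∑ i ∈ s, f i ≤ ∑' i, f i :=
  (enat_summable f).sum_le_tsum s (fun _ _ => zero_le)

theorem enat_tsum_eq_top_of_infinite {ι : Type*} [Infinite ι] (f : ι → ℕ∞) (hf : ∀ i, 1 ≤ f i) :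
    ∑' i, f i = ⊤ := by
  rw [ENat.eq_top_iff_forall_ge]
  intro n
  obtain ⟨s, hs⟩ := Infinite.exists_subset_card_eq ι n
  refine le_trans ?_ (enat_sum_le_tsum f s)
  calc (n : ℕ∞) = ∑ _i ∈ s, (1 : ℕ∞) := by simp [hs]
    _ ≤ ∑ i ∈ s, f i := Finset.sum_le_sum (fun i _ => hf i)

theorem card_sigma_eq_tsum {ι : Type u} (α : ι → Type u) (h : ∀ i, Nonempty (α i)) :
    ENat.card (Σ i, α i) = ∑' i, ENat.card (α i) := by
  rcases finite_or_infinite ι with hfin | hinf
  · haveI : Fintype ι := Fintype.ofFinite ι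
    rw [tsum_fintype]
    exact card_sigma_eq_sum α
  · rw [enat_tsum_eq_top_of_infinite _ (fun i => (ENat.one_le_card_iff_nonempty _).mpr (h i))]
    haveI : Infinite (Σ i, α i) :=
      Infinite.of_surjective (fun x : Σ i, α i => x.1)
        (fun i => ⟨⟨i, (h i).some⟩, rfl⟩)
    exact ENat.card_eq_top_of_infinite

end ENatSum

section EmbCount

/-- counting embeddings into a fixed algebraic closure of an isomorphic base field -/
theorem card_emb_eq {F F' E Ω : Type u} [Field F] [Field F'] [Field E] [Field Ω]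
    [Algebra F' E] [Algebra.IsAlgebraic F' E] [Algebra F Ω] [IsAlgClosure F Ω] (t : F ≃+* F') :
    ENat.card (Field.Emb F' E) =
      ENat.card {σ : E →+* Ω // (σ.comp (algebraMap F' E)).comp t.toRingHom = algebraMap F Ω} := by
  letI algF'Ω : Algebra F' Ω := ((algebraMap F Ω).comp t.symm.toRingHom).toAlgebra
  haveI : IsAlgClosed Ω := IsAlgClosure.isAlgClosed F
  haveI : Algebra.IsAlgebraic F' E := inferInstance
  rw [ENat.card_congr (Field.embEquivOfIsAlgClosed F' E Ω)]
  refine ENat.card_congr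
    { toFun := fun σ => ⟨σ.toRingHom, ?_⟩
      invFun := fun σ => { toRingHom := σ.1, commutes' := ?_ }
      left_inv := fun σ => rfl
      right_inv := fun σ => rfl }
  · ext a
    have := σ.commutes (t a)
    simp only [RingHom.comp_apply, RingEquiv.toRingHom_eq_coe, RingHom.coe_coe,
      AlgHom.toRingHom_eq_coe, AlgHom.coe_toRingHom]
    rw [this]
    change (algebraMap F Ω) (t.symm (t a)) = _
    rw [RingEquiv.symm_apply_apply]
  · intro a'
    have := RingHom.congr_fun σ.2 (t.symm a')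
    simp only [RingHom.comp_apply, RingEquiv.toRingHom_eq_coe, RingHom.coe_coe,
      RingEquiv.apply_symm_apply] at this
    exact this

end EmbCount



section Rho

variable {N : Scheme.{u}} {V : N.Opens} (hV : IsAffineOpen V) (x' : N) (hx' : x' ∈ V)

/-- the map from sections over an open to the residue field of a point -/
noncomputable def rho : Γ(N, V) →+* N.residueField x' :=
  (N.residue x').hom.comp (N.presheaf.germ V x' hx').hom

theorem rho_apply (b : Γ(N, V)) :
    rho x' hx' b = IsLocalRing.residue (N.presheaf.stalk x') ((N.presheaf.germ V x' hx').hom b) :=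
  rfl

include hV in
theorem ker_rho : RingHom.ker (rho x' hx') = (hV.primeIdealOf ⟨x', hx'⟩).asIdeal := by
  letI := N.presheaf.algebra_section_stalk (U := V) ⟨x', hx'⟩
  haveI := hV.isLocalization_stalk ⟨x', hx'⟩
  ext b
  rw [RingHom.mem_ker]
  change IsLocalRing.residue (N.presheaf.stalk x') ((N.presheaf.germ V x' hx').hom b) =
    (0 : IsLocalRing.ResidueField (N.presheaf.stalk x')) ↔ _
  rw [IsLocalRing.residue_eq_zero_iff]
  exact IsLocalization.AtPrime.to_map_mem_maximal_iff (N.presheaf.stalk x')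
    (hV.primeIdealOf ⟨x', hx'⟩).asIdeal b

include hV in
theorem rho_epi {Ω : Type*} [CommRing Ω] (σ₁ σ₂ : N.residueField x' →+* Ω)
    (h : σ₁.comp (rho x' hx') = σ₂.comp (rho x' hx')) : σ₁ = σ₂ := by
  letI := N.presheaf.algebra_section_stalk (U := V) ⟨x', hx'⟩
  haveI := hV.isLocalization_stalk ⟨x', hx'⟩
  have h1 : σ₁.comp (IsLocalRing.residue (N.presheaf.stalk x')) =
      σ₂.comp (IsLocalRing.residue (N.presheaf.stalk x')) := by
    apply IsLocalization.ringHom_ext (hV.primeIdealOf ⟨x', hx'⟩).asIdeal.primeCompl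
    exact h
  apply RingHom.ext
  intro y
  obtain ⟨a, rfl⟩ := IsLocalRing.residue_surjective y
  exact RingHom.congr_fun h1 a

include hV in
theorem exists_lift_rho {Ω : Type*} [Field Ω] (τ' : Γ(N, V) →+* Ω)
    (hker : RingHom.ker τ' = (hV.primeIdealOf ⟨x', hx'⟩).asIdeal) :
    ∃ σ : N.residueField x' →+* Ω, σ.comp (rho x' hx') = τ' := by
  letI := N.presheaf.algebra_section_stalk (U := V) ⟨x', hx'⟩
  haveI := hV.isLocalization_stalk ⟨x', hx'⟩
  have hunits : ∀ y : (hV.primeIdealOf ⟨x', hx'⟩).asIdeal.primeCompl, IsUnit (τ' y) := by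
    intro y
    apply IsUnit.mk0
    intro h0
    have hmem : (y : Γ(N, V)) ∈ RingHom.ker τ' := RingHom.mem_ker.mpr h0
    have hle : RingHom.ker τ' ≤ (hV.primeIdealOf ⟨x', hx'⟩).asIdeal := hker.le
    exact y.2 (hle hmem)
  let τ'' : N.presheaf.stalk x' →+* Ω :=
    IsLocalization.lift (M := (hV.primeIdealOf ⟨x', hx'⟩).asIdeal.primeCompl) hunits
  have hτ'' : ∀ b, τ'' (algebraMap Γ(N, V) (N.presheaf.stalk x') b) = τ' b :=
    fun b => IsLocalization.lift_eq hunits b
  have hmax : ∀ a ∈ IsLocalRing.maximalIdeal (N.presheaf.stalk x'), τ'' a = 0 := by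
    intro a ha
    obtain ⟨b, s, rfl⟩ := IsLocalization.exists_mk'_eq
      (hV.primeIdealOf ⟨x', hx'⟩).asIdeal.primeCompl a
    have hb : b ∈ (hV.primeIdealOf ⟨x', hx'⟩).asIdeal :=
      (IsLocalization.AtPrime.mk'_mem_maximal_iff (N.presheaf.stalk x')
        (hV.primeIdealOf ⟨x', hx'⟩).asIdeal b s).mp ha
    rw [IsLocalization.lift_mk', Units.mul_inv_eq_iff_eq_mul, zero_mul]
    have hge : (hV.primeIdealOf ⟨x', hx'⟩).asIdeal ≤ RingHom.ker τ' := hker.ge
    exact RingHom.mem_ker.mp (hge hb)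
  refine ⟨Ideal.Quotient.lift (IsLocalRing.maximalIdeal (N.presheaf.stalk x')) τ'' hmax, ?_⟩
  ext b
  change Ideal.Quotient.lift _ τ'' hmax
    (Ideal.Quotient.mk _ ((N.presheaf.germ V x' hx').hom b)) = τ' b
  rw [Ideal.Quotient.lift_mk]
  exact hτ'' b

end Rho



section Fibre

variable {N X : Scheme.{u}} (ν : N ⟶ X) [IsAffineHom ν] {U : X.Opens} (hU : IsAffineOpen U)
  (x : X) (hxU : x ∈ U)

theorem primeIdealOf_injective' {Y : Scheme.{u}} {W : Y.Opens} (hW : IsAffineOpen W) :
    Function.Injective hW.primeIdealOf := by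
  intro a b hab
  have h1 := hW.fromSpec_primeIdealOf a
  have h2 := hW.fromSpec_primeIdealOf b
  rw [hab] at h1
  exact Subtype.ext (h1.symm.trans h2)

include hxU in
theorem mem_preimage_of_fibre (x' : {x' : N // ν.base x' = x}) : x'.1 ∈ ν ⁻¹ᵁ U := by
  show ν.base x'.1 ∈ U
  rw [x'.2]; exact hxU

theorem comap_primeIdealOf_fibre (x' : {x' : N // ν.base x' = x}) :
    ((hU.preimage ν).primeIdealOf ⟨x'.1, mem_preimage_of_fibre ν x hxU x'⟩).asIdeal.comap
      (ν.app U).hom = (hU.primeIdealOf ⟨x, hxU⟩).asIdeal := by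
  have hV : IsAffineOpen (ν ⁻¹ᵁ U) := hU.preimage ν
  have hmem := mem_preimage_of_fibre ν x hxU x'
  have h1 := IsAffineOpen.comap_primeIdealOf_appLE (f := ν) U hU (ν ⁻¹ᵁ U) hV le_rfl hmem
  have h2 : hU.primeIdealOf ⟨ν x'.1, hmem⟩ = hU.primeIdealOf ⟨x, hxU⟩ := by
    congr 1
    exact Subtype.ext x'.2
  rw [h2, ← Scheme.Hom.app_eq_appLE] at h1
  exact congrArg PrimeSpectrum.asIdeal h1

theorem base_fromSpec_of_comap (Q : Ideal Γ(N, ν ⁻¹ᵁ U)) (hQ : Q.IsPrime)
    (hcomap : Q.comap (ν.app U).hom = (hU.primeIdealOf ⟨x, hxU⟩).asIdeal) :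
    ν.base ((hU.preimage ν).fromSpec ⟨Q, hQ⟩) = x := by
  have hV : IsAffineOpen (ν ⁻¹ᵁ U) := hU.preimage ν
  have h1 := IsAffineOpen.SpecMap_appLE_fromSpec ν hU hV le_rfl
  have h2 := congrArg (fun g => g.base ⟨Q, hQ⟩) h1
  simp only [Scheme.Hom.comp_base, TopCat.hom_comp, ContinuousMap.comp_apply] at h2
  rw [← h2]
  have h3 : (Spec.map (ν.appLE U (ν ⁻¹ᵁ U) le_rfl)).base ⟨Q, hQ⟩ = hU.primeIdealOf ⟨x, hxU⟩ := by
    apply PrimeSpectrum.ext
    rw [← hcomap, Scheme.Hom.app_eq_appLE]
    rfl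
  rw [h3]
  exact hU.fromSpec_primeIdealOf ⟨x, hxU⟩

/-- the points of the fibre of an affine morphism as primes of the ring of the preimage -/
noncomputable def fibreEquivPrimes :
    {x' : N // ν.base x' = x} ≃
      {Q : Ideal Γ(N, ν ⁻¹ᵁ U) // Q.IsPrime ∧
        Q.comap (ν.app U).hom = (hU.primeIdealOf ⟨x, hxU⟩).asIdeal} where
  toFun x' := ⟨((hU.preimage ν).primeIdealOf ⟨x'.1, mem_preimage_of_fibre ν x hxU x'⟩).asIdeal,
    inferInstance, comap_primeIdealOf_fibre ν hU x hxU x'⟩
  invFun Q := ⟨(hU.preimage ν).fromSpec ⟨Q.1, Q.2.1⟩, base_fromSpec_of_comap ν hU x hxU Q.1 Q.2.1 Q.2.2⟩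
  left_inv x' := Subtype.ext ((hU.preimage ν).fromSpec_primeIdealOf ⟨x'.1, _⟩)
  right_inv Q := by
    apply Subtype.ext
    have hV : IsAffineOpen (ν ⁻¹ᵁ U) := hU.preimage ν
    have hmem : hV.fromSpec ⟨Q.1, Q.2.1⟩ ∈ ν ⁻¹ᵁ U := by
      show ν.base _ ∈ U
      rw [base_fromSpec_of_comap ν hU x hxU Q.1 Q.2.1 Q.2.2]; exact hxU
    have h1 := hV.fromSpec_primeIdealOf ⟨hV.fromSpec ⟨Q.1, Q.2.1⟩, hmem⟩
    have h2 := hV.fromSpec.isOpenEmbedding.injective h1
    exact congrArg PrimeSpectrum.asIdeal h2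

theorem fibreEquivPrimes_apply (x' : {x' : N // ν.base x' = x}) :
    (fibreEquivPrimes ν hU x hxU x').1 =
      ((hU.preimage ν).primeIdealOf ⟨x'.1, mem_preimage_of_fibre ν x hxU x'⟩).asIdeal := rfl

end Fibre


section Natural

variable {N X : Scheme.{u}} (ν : N ⟶ X) {U : X.Opens} (x' : N) (hx' : ν x' ∈ U)

theorem rho_comp_app :
    (rho (V := ν ⁻¹ᵁ U) x' hx').comp (ν.app U).hom =
      (ν.residueFieldMap x').hom.comp (rho (V := U) (ν x') hx') := by
  ext a
  have h1 := congrArg (fun φ => φ.hom ((X.presheaf.germ U (ν x') hx').hom a))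
    (Scheme.residue_residueFieldMap ν x')
  have h2 := Scheme.Hom.germ_stalkMap_apply ν U x' hx' a
  simp only [CommRingCat.hom_comp, RingHom.comp_apply] at h1
  simp only [rho, RingHom.comp_apply]
  rw [h1]
  exact (congrArg (N.residue x').hom h2).symm

end Natural

section Algebraic

theorem isAlgebraic_of_localization {B B' S k k' : Type*} [CommRing B] [CommRing B'] [CommRing S]
    [Field k] [Field k'] [Algebra B B'] [Algebra.IsIntegral B B'] [Algebra B' S]
    (𝔮 : Ideal B') [𝔮.IsPrime] [IsLocalization.AtPrime S 𝔮]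
    (r : B →+* k) (r' : S →+* k') (hr' : Function.Surjective r') (i : k →+* k')
    (hcomm : i.comp r = (r'.comp (algebraMap B' S)).comp (algebraMap B B')) :
    letI := i.toAlgebra
    Algebra.IsAlgebraic k k' := by
  letI := i.toAlgebra
  have hρ : ∀ b' : B', IsIntegral k ((r'.comp (algebraMap B' S)) b') := by
    intro b'
    exact IsIntegral.map_of_comp_eq r (r'.comp (algebraMap B' S)) hcomm
      (Algebra.IsIntegral.isIntegral (R := B) b')
  constructor
  intro z
  obtain ⟨a, rfl⟩ := hr' z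
  obtain ⟨b', s, rfl⟩ := IsLocalization.exists_mk'_eq 𝔮.primeCompl a
  have hs : r' (algebraMap B' S (s : B')) ≠ 0 :=
    ((IsLocalization.map_units S s).map r').ne_zero
  have hz : r' (IsLocalization.mk' S b' s) =
      (r'.comp (algebraMap B' S)) b' * ((r'.comp (algebraMap B' S)) (s : B'))⁻¹ := by
    simp only [RingHom.comp_apply]
    rw [eq_mul_inv_iff_mul_eq₀ hs, ← map_mul, IsLocalization.mk'_spec]
  rw [hz]
  exact ((hρ b').isAlgebraic).mul ((hρ _).isAlgebraic.inv)

variable {N X : Scheme.{u}} (ν : N ⟶ X) [IsIntegralHom ν]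

theorem isAlgebraic_residueFieldMap (x' : N) :
    letI := (ν.residueFieldMap x').hom.toAlgebra
    Algebra.IsAlgebraic (X.residueField (ν x')) (N.residueField x') := by
  obtain ⟨U, hU, hxU, -⟩ := exists_isAffineOpen_mem_and_subset (U := (⊤ : X.Opens))
    (x := ν x') (by simp)
  have hV : IsAffineOpen (ν ⁻¹ᵁ U) := hU.preimage ν
  letI algBB' : Algebra Γ(X, U) Γ(N, ν ⁻¹ᵁ U) := (ν.app U).hom.toAlgebra
  haveI hint : Algebra.IsIntegral Γ(X, U) Γ(N, ν ⁻¹ᵁ U) := ⟨ν.isIntegral_app U hU⟩
  letI := N.presheaf.algebra_section_stalk (U := ν ⁻¹ᵁ U) ⟨x', hxU⟩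
  haveI := hV.isLocalization_stalk ⟨x', hxU⟩
  exact isAlgebraic_of_localization (hV.primeIdealOf ⟨x', hxU⟩).asIdeal
    (rho (V := U) (ν x') hxU) (N.residue x').hom (N.residue_surjective x')
    (ν.residueFieldMap x').hom (rho_comp_app ν x' hxU).symm

end Algebraic


section SigmaHom

variable {N X : Scheme.{u}} (ν : N ⟶ X) [IsAffineHom ν] {U : X.Opens} (hU : IsAffineOpen U)
  (x : X) (hxU : x ∈ U) {Ω : Type u} [Field Ω] (c₀ : Γ(X, U) →+* Ω)

/-- from pairs (point of the fibre, map of its residue field) to maps of the ring of sections -/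
noncomputable def sigmaFibreToHom
    (y : Σ x' : {x' : N // ν.base x' = x},
      {σ : N.residueField x'.1 →+* Ω //
        (σ.comp (rho (V := ν ⁻¹ᵁ U) x'.1 (mem_preimage_of_fibre ν x hxU x'))).comp (ν.app U).hom = c₀}) :
    {τ' : Γ(N, ν ⁻¹ᵁ U) →+* Ω // τ'.comp (ν.app U).hom = c₀} :=
  ⟨y.2.1.comp (rho (V := ν ⁻¹ᵁ U) y.1.1 (mem_preimage_of_fibre ν x hxU y.1)), y.2.2⟩

theorem ker_comp_of_injective {R S T : Type*} [CommRing R] [CommRing S] [CommRing T]
    (f : R →+* S) (g : S →+* T) (hg : Function.Injective g) :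
    RingHom.ker (g.comp f) = RingHom.ker f := by
  ext r
  simp only [RingHom.mem_ker, RingHom.comp_apply]
  exact map_eq_zero_iff g hg

theorem sigmaFibreToHom_bijective (hc₀ : RingHom.ker c₀ = (hU.primeIdealOf ⟨x, hxU⟩).asIdeal) :
    Function.Bijective (sigmaFibreToHom ν x hxU c₀) := by
  have hV : IsAffineOpen (ν ⁻¹ᵁ U) := hU.preimage ν
  constructor
  · rintro ⟨x'₁, σ₁, h₁⟩ ⟨x'₂, σ₂, h₂⟩ h
    have hcomp : σ₁.comp (rho (V := ν ⁻¹ᵁ U) x'₁.1 (mem_preimage_of_fibre ν x hxU x'₁)) =
        σ₂.comp (rho (V := ν ⁻¹ᵁ U) x'₂.1 (mem_preimage_of_fibre ν x hxU x'₂)) :=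
      congrArg Subtype.val h
    have hk := congrArg RingHom.ker hcomp
    rw [ker_comp_of_injective _ _ σ₁.injective, ker_comp_of_injective _ _ σ₂.injective,
      ker_rho hV _ _, ker_rho hV _ _] at hk
    have hx : x'₁ = x'₂ := by
      have := primeIdealOf_injective' hV (PrimeSpectrum.ext hk)
      exact Subtype.ext (congrArg (fun z : (ν ⁻¹ᵁ U : N.Opens) => (z.1 : N)) this)
    subst hx
    have hσ : σ₁ = σ₂ := rho_epi hV _ _ σ₁ σ₂ hcomp
    subst hσ
    rfl
  · rintro ⟨τ', hτ'⟩
    haveI hprime : (RingHom.ker τ').IsPrime := RingHom.ker_isPrime τ'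
    have hcomap : (RingHom.ker τ').comap (ν.app U).hom = (hU.primeIdealOf ⟨x, hxU⟩).asIdeal := by
      rw [RingHom.comap_ker, hτ', hc₀]
    let x' := (fibreEquivPrimes ν hU x hxU).symm ⟨RingHom.ker τ', hprime, hcomap⟩
    have hx' : ((hU.preimage ν).primeIdealOf ⟨x'.1, mem_preimage_of_fibre ν x hxU x'⟩).asIdeal =
        RingHom.ker τ' := by
      rw [← fibreEquivPrimes_apply ν hU x hxU x']
      exact congrArg Subtype.val ((fibreEquivPrimes ν hU x hxU).apply_symm_apply _)
    obtain ⟨σ, hσ⟩ := exists_lift_rho hV x'.1 (mem_preimage_of_fibre ν x hxU x') τ' hx'.symm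
    refine ⟨⟨x', ⟨σ, ?_⟩⟩, ?_⟩
    · rw [hσ]; exact hτ'
    · exact Subtype.ext hσ

end SigmaHom


section EmbPoint

/-- the algebraic closure of the residue field of the local ring, as an algebra over the residue
field of the scheme at the point -/
@[reducible] noncomputable def algResClosure (X : Scheme.{u}) (y : X) :
    Algebra (X.residueField y)
      (AlgebraicClosure (IsLocalRing.ResidueField (X.presheaf.stalk y))) :=
  inferInstanceAs (Algebra (IsLocalRing.ResidueField (X.presheaf.stalk y))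
    (AlgebraicClosure (IsLocalRing.ResidueField (X.presheaf.stalk y))))

variable {N X : Scheme.{u}} (ν : N ⟶ X) [IsIntegralHom ν] {U : X.Opens} (hU : IsAffineOpen U)

include hU in
theorem card_emb_point (x' : N) (hx' : ν x' ∈ U) :
    letI := (ν.residueFieldMap x').hom.toAlgebra
    ENat.card (Field.Emb (X.residueField (ν x')) (N.residueField x')) =
      ENat.card {σ : N.residueField x' →+*
          AlgebraicClosure (IsLocalRing.ResidueField (X.presheaf.stalk (ν x'))) //
        (σ.comp (rho (V := ν ⁻¹ᵁ U) x' hx')).comp (ν.app U).hom =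
          (Brnch.toClosure (X.presheaf.stalk (ν x'))).comp (X.presheaf.germ U (ν x') hx').hom} := by
  letI algκ := (ν.residueFieldMap x').hom.toAlgebra
  haveI := isAlgebraic_residueFieldMap ν x'
  letI algΩ := algResClosure X (ν x')
  haveI : IsAlgClosure (X.residueField (ν x'))
      (AlgebraicClosure (IsLocalRing.ResidueField (X.presheaf.stalk (ν x')))) :=
    inferInstanceAs (IsAlgClosure (IsLocalRing.ResidueField (X.presheaf.stalk (ν x')))
      (AlgebraicClosure (IsLocalRing.ResidueField (X.presheaf.stalk (ν x')))))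
  rw [card_emb_eq (F := X.residueField (ν x')) (F' := X.residueField (ν x'))
    (E := N.residueField x')
    (Ω := AlgebraicClosure (IsLocalRing.ResidueField (X.presheaf.stalk (ν x'))))
    (RingEquiv.refl _)]
  refine ENat.card_congr (Equiv.subtypeEquivRight (fun σ => ?_))
  have hnat := rho_comp_app ν x' hx'
  constructor
  · intro h
    rw [RingHom.comp_assoc, hnat, ← RingHom.comp_assoc]
    have h' : σ.comp (ν.residueFieldMap x').hom =
        algebraMap (X.residueField (ν x'))
          (AlgebraicClosure (IsLocalRing.ResidueField (X.presheaf.stalk (ν x')))) := h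
    rw [h']
    rfl
  · intro h
    rw [RingHom.comp_assoc, hnat, ← RingHom.comp_assoc] at h
    have := rho_epi hU (ν x') hx' (σ.comp (ν.residueFieldMap x').hom)
      (algebraMap (X.residueField (ν x'))
        (AlgebraicClosure (IsLocalRing.ResidueField (X.presheaf.stalk (ν x'))))) h
    exact this

include hU in
theorem card_emb_point' (x : X) (hxU : x ∈ U) (x' : N) (h : ν.base x' = x) :
    letI := (ν.residueFieldMap x').hom.toAlgebra
    ENat.card (Field.Emb (X.residueField (ν.base x')) (N.residueField x')) =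
      ENat.card {σ : N.residueField x' →+*
          AlgebraicClosure (IsLocalRing.ResidueField (X.presheaf.stalk x)) //
        (σ.comp (rho (V := ν ⁻¹ᵁ U) x' (show ν.base x' ∈ U from h ▸ hxU))).comp (ν.app U).hom =
          (Brnch.toClosure (X.presheaf.stalk x)).comp (X.presheaf.germ U x hxU).hom} := by
  subst h
  exact card_emb_point ν hU x' hxU

end EmbPoint


end Groth.Agent.Lib.Helper4.NormFibre2
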