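import Mathlib
import Groth.Prelude.Def_Brnch
import Groth.Prelude.Def_Curv2
import Groth.Agent.Lib.Helper4.NormFibre1
import Groth.Agent.Lib.Helper4.NormFibre2
import Groth.Agent.Lib.Helper4.NormDimOne1

/-!
# Branches of an integral scheme at a point and the fibre of the normalization (helper4)
-/

set_option backward.isDefEq.respectTransparency.types false
set_option synthInstance.maxHeartbeats 400000
set_option autoImplicit false
set_option linter.unusedSectionVars false
set_option linter.style.haveILetI false
set_option linter.unusedSimpArgs false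
universe u v w
open CategoryTheory CategoryTheory.Limits AlgebraicGeometry TopologicalSpace IsLocalRing Opposite
open Groth.Agent.Lib.Helper4.GeomBranch1 Groth.Agent.Lib.Helper4.GeomBranch2
open Groth.Agent.Lib.Helper4.BranchSum1 Groth.Agent.Lib.Helper4.BranchSum2
open Groth.Agent.Lib.Helper4.NormFibre1 Groth.Agent.Lib.Helper4.NormFibre2
open Groth.Agent.Lib.Helper4.NormDimOne1

namespace Groth.Agent.Lib.Helper4.NormFibre3

theorem finite_minimalPrimes_of_isDomain (A : Type*) [CommRing A] [IsDomain A] :
    (minimalPrimes A).Finite := by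
  have : minimalPrimes A = {⊥} := by
    have : (⊥ : Ideal A).IsPrime := Ideal.isPrime_bot
    exact Ideal.minimalPrimes_eq_subsingleton_self
  rw [this]
  exact Set.finite_singleton _

section General

variable {N X : Scheme.{u}} [IsIntegral N] [IsIntegral X] (ν : N ⟶ X) [IsIntegralHom ν]
    (hgen : ν (genericPoint N) = genericPoint X)
    (hbij : Function.Bijective (ν.stalkMap (genericPoint N)).hom)
    (hic : ∀ (U : X.Opens), IsAffineOpen U → (U : Set X).Nonempty →
      ∀ _ : IsDomain Γ(N, ν ⁻¹ᵁ U), IsIntegrallyClosed Γ(N, ν ⁻¹ᵁ U))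

include hgen hbij hic in
theorem main_general (x : X) :
    Brnch.numBranchesAt X x = ENat.card {x' : N // ν.base x' = x} ∧
    Brnch.numGeomBranchesAt X x =
      ∑' x' : {x' : N // ν.base x' = x},
        (letI := (ν.residueFieldMap x'.1).hom.toAlgebra
         ENat.card (Field.Emb (X.residueField (ν.base x'.1)) (N.residueField x'.1))) := by
  obtain ⟨U, hU, hxU, -⟩ := exists_isAffineOpen_mem_and_subset (U := (⊤ : X.Opens)) (x := x) (by simp)
  have hV : IsAffineOpen (ν ⁻¹ᵁ U) := hU.preimage ν
  have hne : (U : Set X).Nonempty := ⟨x, hxU⟩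
  have hηU : ν (genericPoint N) ∈ U := by
    rw [hgen]
    exact ((genericPoint_spec X).mem_open_set_iff U.isOpen).mpr (by simpa using hne)
  haveI : Nonempty U := ⟨⟨_, hηU⟩⟩
  haveI : Nonempty (ν ⁻¹ᵁ U : N.Opens) := ⟨⟨genericPoint N, hηU⟩⟩
  haveI : IsDomain Γ(X, U) := inferInstance
  haveI hdomB : IsDomain Γ(N, ν ⁻¹ᵁ U) := inferInstance
  haveI hicB := hic U hU hne hdomB
  letI algAB : Algebra Γ(X, U) Γ(N, ν ⁻¹ᵁ U) := (ν.app U).hom.toAlgebra
  letI algBL : Algebra Γ(N, ν ⁻¹ᵁ U) N.functionField :=
    (N.presheaf.germ (ν ⁻¹ᵁ U) (genericPoint N) hηU).hom.toAlgebra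
  letI algAL : Algebra Γ(X, U) N.functionField :=
    ((N.presheaf.germ (ν ⁻¹ᵁ U) (genericPoint N) hηU).hom.comp (ν.app U).hom).toAlgebra
  haveI : IsScalarTower Γ(X, U) Γ(N, ν ⁻¹ᵁ U) N.functionField :=
    IsScalarTower.of_algebraMap_eq (fun _ => rfl)
  have hinjB : Function.Injective (algebraMap Γ(N, ν ⁻¹ᵁ U) N.functionField) :=
    N.germToFunctionField_injective (ν ⁻¹ᵁ U)
  have hsq : ∀ a : Γ(X, U), (ν.stalkMap (genericPoint N)).hom
      ((X.presheaf.germ U (ν (genericPoint N)) hηU).hom a) = algebraMap Γ(X, U) N.functionField a := by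
    intro a
    exact Scheme.Hom.germ_stalkMap_apply ν U (genericPoint N) hηU a
  have hinjA : Function.Injective (algebraMap Γ(X, U) N.functionField) := by
    intro a b hab
    rw [← hsq, ← hsq] at hab
    have h1 := hbij.1 hab
    have hinjg : Function.Injective (X.presheaf.germ U (ν (genericPoint N)) hηU).hom :=
      germ_injective_of_isIntegral X (ν (genericPoint N)) hηU
    exact hinjg h1
  haveI : FaithfulSMul Γ(X, U) N.functionField :=
    (faithfulSMul_iff_algebraMap_injective _ _).mpr hinjA
  haveI hfrA : IsFractionRing Γ(X, U) N.functionField := by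
    apply IsFractionRing.of_field
    intro z
    obtain ⟨k, rfl⟩ := hbij.2 z
    obtain ⟨a, s, hs, hk⟩ := stalk_eq_div_of_eq_genericPoint X U hU _ hgen hηU k
    refine ⟨a, s, ?_⟩
    have hs' : algebraMap Γ(X, U) N.functionField s ≠ 0 := by
      intro h0
      exact hs (hinjA (by rw [h0, map_zero]))
    rw [eq_div_iff hs', ← hsq, ← hsq, ← map_mul, hk]
  haveI hfrB : IsFractionRing Γ(N, ν ⁻¹ᵁ U) N.functionField :=
    functionField_isFractionRing_of_isAffineOpen N (ν ⁻¹ᵁ U) hV
  haveI hint : Algebra.IsIntegral Γ(X, U) Γ(N, ν ⁻¹ᵁ U) := ⟨ν.isIntegral_app U hU⟩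
  have hicK : ∀ z : N.functionField, IsIntegral Γ(X, U) z →
      ∃ b' : Γ(N, ν ⁻¹ᵁ U), algebraMap Γ(N, ν ⁻¹ᵁ U) N.functionField b' = z := by
    intro z hz
    have hz' : IsIntegral Γ(N, ν ⁻¹ᵁ U) z := hz.tower_top
    exact (isIntegrallyClosed_iff N.functionField).mp hicB hz'
  -- the local ring
  letI algBA : Algebra Γ(X, U) (X.presheaf.stalk x) :=
    X.presheaf.algebra_section_stalk (U := U) ⟨x, hxU⟩
  haveI hlocA : IsLocalization.AtPrime (X.presheaf.stalk x) (hU.primeIdealOf ⟨x, hxU⟩).asIdeal :=
    hU.isLocalization_stalk ⟨x, hxU⟩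
  haveI : IsDomain (X.presheaf.stalk x) := inferInstance
  have hfinA : (minimalPrimes (X.presheaf.stalk x)).Finite := finite_minimalPrimes_of_isDomain _
  constructor
  · unfold Brnch.numBranchesAt Brnch.numBranches
    rw [if_pos hfinA, card_maxSpec_normRed (K := N.functionField) (A := X.presheaf.stalk x)
      hinjB hicK (hU.primeIdealOf ⟨x, hxU⟩).asIdeal]
    exact ENat.card_congr (fibreEquivPrimes ν hU x hxU).symm
  · unfold Brnch.numGeomBranchesAt
    have hc₀ : RingHom.ker ((Brnch.toClosure (X.presheaf.stalk x)).comp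
        (algebraMap Γ(X, U) (X.presheaf.stalk x))) = (hU.primeIdealOf ⟨x, hxU⟩).asIdeal := by
      rw [← RingHom.comap_ker, ker_toClosure]
      exact IsLocalization.AtPrime.under_maximalIdeal (X.presheaf.stalk x)
        (hU.primeIdealOf ⟨x, hxU⟩).asIdeal
    have hcard : ∀ x' : {x' : N // ν.base x' = x},
        (letI := (ν.residueFieldMap x'.1).hom.toAlgebra
         ENat.card (Field.Emb (X.residueField (ν.base x'.1)) (N.residueField x'.1))) =
        ENat.card {σ : N.residueField x'.1 →+*
            AlgebraicClosure (IsLocalRing.ResidueField (X.presheaf.stalk x)) //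
          (σ.comp (rho (V := ν ⁻¹ᵁ U) x'.1 (mem_preimage_of_fibre ν x hxU x'))).comp
            (ν.app U).hom =
            (Brnch.toClosure (X.presheaf.stalk x)).comp (algebraMap Γ(X, U) (X.presheaf.stalk x))} :=
      fun x' => card_emb_point' ν hU x hxU x'.1 x'.2
    have hnonempty : ∀ x' : {x' : N // ν.base x' = x},
        Nonempty {σ : N.residueField x'.1 →+*
            AlgebraicClosure (IsLocalRing.ResidueField (X.presheaf.stalk x)) //
          (σ.comp (rho (V := ν ⁻¹ᵁ U) x'.1 (mem_preimage_of_fibre ν x hxU x'))).comp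
            (ν.app U).hom =
            (Brnch.toClosure (X.presheaf.stalk x)).comp
              (algebraMap Γ(X, U) (X.presheaf.stalk x))} := by
      intro x'
      rw [← ENat.card_ne_zero_iff_nonempty, ← hcard x']
      letI := (ν.residueFieldMap x'.1).hom.toAlgebra
      exact ENat.card_ne_zero
    rw [numGeomBranches_eq_card_hom _ hfinA,
      card_hom_normRed (K := N.functionField) (A := X.presheaf.stalk x)
        hinjB hicK (hU.primeIdealOf ⟨x, hxU⟩).asIdeal (Brnch.toClosure (X.presheaf.stalk x))]
    have e := ENat.card_congr (Equiv.ofBijective _ (sigmaFibreToHom_bijective ν hU x hxU _ hc₀))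
    refine e.symm.trans ?_
    rw [card_sigma_eq_tsum _ hnonempty]
    exact tsum_congr (fun x' => (hcard x').symm)

end General

open Groth.Agent.Lib.Helper4.NormalizationField1 Groth.Agent.Lib.Helper4.NormalizationField2

theorem S7657_main (X : Scheme.{u}) [IsIntegral X]
    [QuasiCompact (X.fromSpecStalk (genericPoint X))] [QuasiSeparated (X.fromSpecStalk (genericPoint X))]
    (x : X) :
    Brnch.numBranchesAt X x =
        ENat.card {x' : ↥(Curv2.normalization X) // (Curv2.normalizationι X).base x' = x} ∧
      Brnch.numGeomBranchesAt X x =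
        ∑' x' : {x' : ↥(Curv2.normalization X) // (Curv2.normalizationι X).base x' = x},
          (letI := ((Curv2.normalizationι X).residueFieldMap x'.1).hom.toAlgebra
           ENat.card (Field.Emb (X.residueField ((Curv2.normalizationι X).base x'.1))
             ((Curv2.normalization X).residueField x'.1))) := by
  obtain ⟨hint, -, hgen, hbij⟩ := normalization_facts X
  change IsIntegral (Curv2.normalization X) at hint
  change (Curv2.normalizationι X) (genericPoint (Curv2.normalization X)) = genericPoint X at hgen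
  change Function.Bijective ((Curv2.normalizationι X).stalkMap
    (genericPoint (Curv2.normalization X))).hom at hbij
  haveI : IsIntegralHom (Curv2.normalizationι X) := by
    change @IsIntegralHom (X.fromSpecStalk (genericPoint X)).normalization X
      (X.fromSpecStalk (genericPoint X)).fromNormalization
    infer_instance
  have hic : ∀ (U : X.Opens), IsAffineOpen U → (U : Set X).Nonempty →
      ∀ _ : IsDomain Γ(Curv2.normalization X, (Curv2.normalizationι X) ⁻¹ᵁ U),
        IsIntegrallyClosed Γ(Curv2.normalization X, (Curv2.normalizationι X) ⁻¹ᵁ U) := by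
    intro U hU hne _
    have hL := isField_functionField X
    have hg := fromSpecStalk_genericPoint_apply X
    have hηU : genericPoint X ∈ U :=
      ((genericPoint_spec X).mem_open_set_iff U.isOpen).mpr (by simpa using hne)
    have hF : IsField Γ(Spec (X.presheaf.stalk (genericPoint X)),
        (X.fromSpecStalk (genericPoint X)) ⁻¹ᵁ U) := by
      apply isField_sections_Spec _ hL
      haveI : Nonempty (Spec (X.presheaf.stalk (genericPoint X))) :=
        ⟨IsLocalRing.closedPoint _⟩
      refine ⟨Classical.arbitrary _, ?_⟩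
      show (X.fromSpecStalk (genericPoint X)) _ ∈ U
      rw [hg]; exact hηU
    obtain ⟨_, h2⟩ := sections_normalization_of_isField (X.fromSpecStalk (genericPoint X)) hU hF
    exact h2
  exact main_general (Curv2.normalizationι X) hgen hbij hic x

end Groth.Agent.Lib.Helper4.NormFibre3
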