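import Mathlib
import Groth.Prelude.Def_Brnch
import Groth.Agent.Lib.Helper4.NormFibre3

/-!
# Integral closure of a domain is universally injective iff all localizations are geometrically unibranch (helper4)
-/

set_option backward.isDefEq.respectTransparency.types false
set_option synthInstance.maxHeartbeats 400000
set_option autoImplicit false
set_option linter.unusedSectionVars false
set_option linter.style.haveILetI false
set_option linter.unusedSimpArgs false
universe u v w
open CategoryTheory CategoryTheory.Limits AlgebraicGeometry TopologicalSpace IsLocalRing Opposite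
open Groth.Agent.Lib.Helper4.GeomBranch1 Groth.Agent.Lib.Helper4.GeomBranch2
open Groth.Agent.Lib.Helper4.BranchCount1
open Groth.Agent.Lib.Helper4.BranchSum1 Groth.Agent.Lib.Helper4.BranchSum2
open Groth.Agent.Lib.Helper4.NormFibre1 Groth.Agent.Lib.Helper4.NormFibre2
open Groth.Agent.Lib.Helper4.NormFibre3

namespace Groth.Agent.Lib.Helper4.GeomUnibranchIC1

theorem univInj_Spec_iff {R S : Type u} [CommRing R] [CommRing S] (φ : R →+* S) :
    UniversallyInjective (Spec.map (CommRingCat.ofHom φ)) ↔
      ∀ (K : Type u) [Field K] (τ₁ τ₂ : S →+* K), τ₁.comp φ = τ₂.comp φ → τ₁ = τ₂ := by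
  have htfae := (tfae_universallyInjective (Spec.map (CommRingCat.ofHom φ))).out 0 1
  rw [htfae]
  constructor
  · intro h K _ τ₁ τ₂ heq
    have h1 := @h K _ (Spec.map (CommRingCat.ofHom τ₁)) (Spec.map (CommRingCat.ofHom τ₂)) (by
      change Spec.map (CommRingCat.ofHom τ₁) ≫ Spec.map (CommRingCat.ofHom φ) =
        Spec.map (CommRingCat.ofHom τ₂) ≫ Spec.map (CommRingCat.ofHom φ)
      rw [← Spec.map_comp, ← Spec.map_comp, ← CommRingCat.ofHom_comp, ← CommRingCat.ofHom_comp, heq])
    have h2 := Spec.map_injective h1
    exact congrArg CommRingCat.Hom.hom h2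
  · intro h K _ g₁ g₂ heq
    change g₁ ≫ Spec.map (CommRingCat.ofHom φ) = g₂ ≫ Spec.map (CommRingCat.ofHom φ) at heq
    rw [← Spec.map_preimage g₁, ← Spec.map_preimage g₂] at heq ⊢
    rw [← Spec.map_comp, ← Spec.map_comp] at heq
    have h2 := Spec.map_injective heq
    have h3 := h K (Spec.preimage g₁).hom (Spec.preimage g₂).hom (by
      have := congrArg CommRingCat.Hom.hom h2
      simpa using this)
    congr 1
    exact CommRingCat.hom_ext h3

section Lift

variable {B B' Ap K : Type u} [CommRing B] [CommRing B'] [Algebra B B'] [Algebra.IsIntegral B B']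
  [Field K] (c₀ : B →+* K) [CommRing Ap] [IsLocalRing Ap] [Algebra B Ap] (p : Ideal B) [p.IsPrime]
  [IsLocalization.AtPrime Ap p] (hp : RingHom.ker c₀ = p)

/-- the lift of `c₀` to the localization -/
noncomputable def locLift : Ap →+* K :=
  IsLocalization.lift (M := p.primeCompl) (S := Ap) (g := c₀) (fun y => by
    apply IsUnit.mk0
    intro h0
    have : (y : B) ∈ RingHom.ker c₀ := h0
    rw [hp] at this
    exact y.2 this)

theorem locLift_algebraMap (b : B) : locLift c₀ p hp (algebraMap B Ap b) = c₀ b :=
  IsLocalization.lift_eq _ b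

theorem locLift_maximalIdeal (a : Ap) (ha : a ∈ maximalIdeal Ap) : locLift c₀ p hp a = 0 := by
  have h1 : RingHom.ker (locLift (Ap := Ap) c₀ p hp) = maximalIdeal Ap := by
    rw [← IsLocalization.AtPrime.map_eq_maximalIdeal p Ap,
      ← IsLocalization.map_under p.primeCompl Ap (RingHom.ker (locLift (Ap := Ap) c₀ p hp))]
    congr 1
    refine Eq.trans ?_ hp
    ext b
    simp only [Ideal.mem_comap, RingHom.mem_ker, locLift_algebraMap]
  rw [← h1] at ha
  exact ha

/-- the induced map on the residue field -/
noncomputable def resLift : ResidueField Ap →+* K :=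
  Ideal.Quotient.lift (maximalIdeal Ap) (locLift c₀ p hp) (locLift_maximalIdeal c₀ p hp)

theorem resLift_residue (b : B) :
    resLift (Ap := Ap) c₀ p hp (residue Ap (algebraMap B Ap b)) = c₀ b := by
  change Ideal.Quotient.lift _ _ _ (Ideal.Quotient.mk _ _) = _
  rw [Ideal.Quotient.lift_mk, locLift_algebraMap]

include hp in
theorem eq_of_subsingleton
    (hsub : Subsingleton {τ' : B' →+* AlgebraicClosure (ResidueField Ap) //
      τ'.comp (algebraMap B B') = (Brnch.toClosure Ap).comp (algebraMap B Ap)})
    (τ₁ τ₂ : B' →+* K) (h₁ : τ₁.comp (algebraMap B B') = c₀)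
    (h₂ : τ₂.comp (algebraMap B B') = c₀) : τ₁ = τ₂ := by
  letI algκK : Algebra (ResidueField Ap) K := (resLift (Ap := Ap) c₀ p hp).toAlgebra
  have hint : ∀ (τ : B' →+* K), τ.comp (algebraMap B B') = c₀ → ∀ b' : B',
      τ b' ∈ algebraicClosure (ResidueField Ap) K := by
    intro τ hτ b'
    rw [mem_algebraicClosure_iff']
    refine IsIntegral.map_of_comp_eq ((residue Ap).comp (algebraMap B Ap)) τ ?_
      (Algebra.IsIntegral.isIntegral (R := B) b')
    rw [hτ]
    ext b
    exact resLift_residue c₀ p hp b
  let j : algebraicClosure (ResidueField Ap) K →ₐ[ResidueField Ap]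
    AlgebraicClosure (ResidueField Ap) := IsAlgClosed.lift
  have key : ∀ (τ : B' →+* K) (hτ : τ.comp (algebraMap B B') = c₀),
      (j.toRingHom.comp (τ.codRestrict (algebraicClosure (ResidueField Ap) K) (hint τ hτ))).comp
        (algebraMap B B') = (Brnch.toClosure Ap).comp (algebraMap B Ap) := by
    intro τ hτ
    ext b
    have h1 : τ.codRestrict (algebraicClosure (ResidueField Ap) K) (hint τ hτ) (algebraMap B B' b) =
        algebraMap (ResidueField Ap) (algebraicClosure (ResidueField Ap) K)
          (residue Ap (algebraMap B Ap b)) := by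
      apply Subtype.ext
      change τ (algebraMap B B' b) = resLift (Ap := Ap) c₀ p hp (residue Ap (algebraMap B Ap b))
      rw [resLift_residue]
      exact RingHom.congr_fun hτ b
    change j (τ.codRestrict (algebraicClosure (ResidueField Ap) K) (hint τ hτ) (algebraMap B B' b)) = _
    rw [h1, j.commutes]
    rfl
  have heq := congrArg Subtype.val (hsub.elim ⟨_, key τ₁ h₁⟩ ⟨_, key τ₂ h₂⟩)
  ext b'
  have h3 := RingHom.congr_fun heq b'
  have h4 := j.toRingHom.injective h3
  exact congrArg Subtype.val h4

end Lift

theorem one_le_numGeomBranches (A : Type u) [CommRing A] [IsLocalRing A] :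
    1 ≤ Brnch.numGeomBranches A := by
  unfold Brnch.numGeomBranches
  by_cases hfin : (minimalPrimes A).Finite
  · rw [if_pos hfin, ENat.one_le_card_iff_nonempty]
    letI := normRedAlgebra A
    haveI := normRed_isIntegral A
    haveI : Nontrivial (CAlg2.normRed A) := inferInstance
    obtain ⟨m, hm⟩ := Ideal.exists_maximal (CAlg2.normRed A)
    obtain ⟨σ⟩ := nonempty_emb A (CAlg2.normRed A) m
    exact ⟨⟨⟨m, hm⟩, σ⟩⟩
  · rw [if_neg hfin]
    exact le_top

section Dom

variable {R : Type u} [CommRing R] [IsDomain R]

theorem numGeomBranches_loc (p : Ideal R) [p.IsPrime] :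
    Brnch.numGeomBranches (Localization.AtPrime p) =
      ENat.card {τ' : integralClosure R (FractionRing R) →+*
          AlgebraicClosure (ResidueField (Localization.AtPrime p)) //
        τ'.comp (algebraMap R (integralClosure R (FractionRing R))) =
          (Brnch.toClosure (Localization.AtPrime p)).comp (algebraMap R (Localization.AtPrime p))} := by
  rw [numGeomBranches_eq_card_hom _ (finite_minimalPrimes_of_isDomain _)]
  exact card_hom_normRed (B := R) (K := FractionRing R) (B' := integralClosure R (FractionRing R))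
    (A := Localization.AtPrime p) Subtype.val_injective (fun z hz => ⟨⟨z, hz⟩, rfl⟩) p _

theorem numBranches_loc (p : Ideal R) [p.IsPrime] :
    Brnch.numBranches (Localization.AtPrime p) =
      ENat.card {Q : Ideal (integralClosure R (FractionRing R)) //
        Q.IsPrime ∧ Q.comap (algebraMap R (integralClosure R (FractionRing R))) = p} := by
  unfold Brnch.numBranches
  rw [if_pos (finite_minimalPrimes_of_isDomain _)]
  exact card_maxSpec_normRed (B := R) (K := FractionRing R)
    (B' := integralClosure R (FractionRing R))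
    (A := Localization.AtPrime p) Subtype.val_injective (fun z hz => ⟨⟨z, hz⟩, rfl⟩) p

theorem main :
    (UniversallyInjective (Spec.map (CommRingCat.ofHom
        (algebraMap R (integralClosure R (FractionRing R))))) ↔
      ∀ (p : Ideal R) [p.IsPrime], CAlg2.IsGeomUnibranch (Localization.AtPrime p)) ∧
    ((∀ (p : Ideal R) [p.IsPrime], CAlg2.IsGeomUnibranch (Localization.AtPrime p)) →
      IsHomeomorph (PrimeSpectrum.comap (algebraMap R (integralClosure R (FractionRing R))))) := by
  refine ⟨?_, ?_⟩
  · rw [univInj_Spec_iff]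
    constructor
    · intro h p _
      rw [← S9236_main]
      apply le_antisymm _ (one_le_numGeomBranches _)
      rw [numGeomBranches_loc, ENat.card_le_one_iff_subsingleton]
      refine ⟨fun a b => Subtype.ext ?_⟩
      exact h _ a.1 b.1 (a.2.trans b.2.symm)
    · intro h K _ τ₁ τ₂ heq
      have hprime : (RingHom.ker (τ₁.comp (algebraMap R (integralClosure R (FractionRing R))))).IsPrime :=
        RingHom.ker_isPrime _
      have h1 := (S9236_main (Localization.AtPrime (RingHom.ker
        (τ₁.comp (algebraMap R (integralClosure R (FractionRing R))))))).mpr (h _)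
      rw [numGeomBranches_loc] at h1
      have hsub := (ENat.card_le_one_iff_subsingleton _).mp h1.le
      exact eq_of_subsingleton (τ₁.comp (algebraMap R (integralClosure R (FractionRing R))))
        (RingHom.ker (τ₁.comp (algebraMap R (integralClosure R (FractionRing R))))) rfl
        hsub τ₁ τ₂ rfl heq.symm
  · intro h
    have hfib : ∀ (p : Ideal R) [p.IsPrime],
        Nonempty (Unique {Q : Ideal (integralClosure R (FractionRing R)) //
          Q.IsPrime ∧ Q.comap (algebraMap R (integralClosure R (FractionRing R))) = p}) := by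
      intro p _
      have h1 := (S9235_main (Localization.AtPrime p)).mpr (h p).1
      rw [numBranches_loc] at h1
      exact ENat.card_eq_one_iff_unique.mp h1
    rw [isHomeomorph_iff_continuous_isClosedMap_bijective]
    refine ⟨PrimeSpectrum.continuous_comap _,
      PrimeSpectrum.isClosedMap_comap_of_isIntegral _
        (algebraMap_isIntegral_iff.mpr inferInstance), ?_, ?_⟩
    · intro Q₁ Q₂ h12
      obtain ⟨u⟩ := hfib (PrimeSpectrum.comap (algebraMap R (integralClosure R (FractionRing R))) Q₁).asIdeal
      have e1 := u.uniq ⟨Q₁.asIdeal, Q₁.isPrime, rfl⟩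
      have e2 := u.uniq ⟨Q₂.asIdeal, Q₂.isPrime, congrArg PrimeSpectrum.asIdeal h12.symm⟩
      exact PrimeSpectrum.ext (congrArg Subtype.val (e1.trans e2.symm))
    · intro P
      obtain ⟨u⟩ := hfib P.asIdeal
      exact ⟨⟨u.default.1, u.default.2.1⟩, PrimeSpectrum.ext u.default.2.2⟩

end Dom

end Groth.Agent.Lib.Helper4.GeomUnibranchIC1
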