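import Mathlib
import Groth.Prelude.Def_Brnch
import Groth.Agent.Lib.Helper4.NormFibre3

/-!
# Branch counts for a localization with a unique minimal prime (helper4)
-/

set_option backward.isDefEq.respectTransparency.types false
set_option synthInstance.maxHeartbeats 400000
set_option autoImplicit false
set_option linter.unusedSectionVars false
set_option linter.style.haveILetI false
set_option linter.unusedSimpArgs false
universe u v w
open CategoryTheory CategoryTheory.Limits AlgebraicGeometry TopologicalSpace IsLocalRing Opposite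
open Groth.Agent.Lib.Helper4.GeomBranch1 Groth.Agent.Lib.Helper4.GeomBranch2
open Groth.Agent.Lib.Helper4.BranchCount1
open Groth.Agent.Lib.Helper4.BranchSum1 Groth.Agent.Lib.Helper4.BranchSum2
open Groth.Agent.Lib.Helper4.NormFibre1 Groth.Agent.Lib.Helper4.NormFibre2
open Groth.Agent.Lib.Helper4.NormFibre3

namespace Groth.Agent.Lib.Helper4.RadBir1

section NilTransport

variable {A A' : Type u} [CommRing A] [CommRing A'] (π : A →+* A') (hπ : Function.Surjective π)
  (hker : RingHom.ker π ≤ nilradical A)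

include hker in
theorem comap_nilradical_eq : (nilradical A').comap π = nilradical A := by
  apply le_antisymm
  · intro a ha
    rw [Ideal.mem_comap, mem_nilradical] at ha
    obtain ⟨n, hn⟩ := ha
    rw [← map_pow] at hn
    have h1 : a ^ n ∈ nilradical A := hker (RingHom.mem_ker.mpr hn)
    rw [mem_nilradical] at h1 ⊢
    obtain ⟨m, hm⟩ := h1
    exact ⟨n * m, by rw [pow_mul]; exact hm⟩
  · intro a ha
    rw [Ideal.mem_comap, mem_nilradical]
    rw [mem_nilradical] at ha
    exact ha.map π

/-- the induced isomorphism of reductions -/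
noncomputable def redEquivOfSurj : CAlg2.red A ≃+* CAlg2.red A' :=
  quotEquivOfKerEq (Ideal.Quotient.mk (nilradical A)) ((Ideal.Quotient.mk (nilradical A')).comp π)
    Ideal.Quotient.mk_surjective (Ideal.Quotient.mk_surjective.comp hπ) (by
      rw [Ideal.mk_ker, ← RingHom.comap_ker, Ideal.mk_ker]
      exact (comap_nilradical_eq π hker).symm)

theorem redEquivOfSurj_mk (a : A) :
    redEquivOfSurj π hπ hker (Ideal.Quotient.mk (nilradical A) a) =
      Ideal.Quotient.mk (nilradical A') (π a) :=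
  quotEquivOfKerEq_apply _ _ _ _ _ a

/-- the induced isomorphism of normalizations -/
noncomputable def normRedEquivOfSurj : CAlg2.normRed A ≃+* CAlg2.normRed A' :=
  icEquiv (redEquivOfSurj π hπ hker)

theorem normRedEquivOfSurj_algebraMap (a : A) :
    letI := normRedAlgebra A
    letI := normRedAlgebra A'
    normRedEquivOfSurj π hπ hker (algebraMap A (CAlg2.normRed A) a) =
      algebraMap A' (CAlg2.normRed A') (π a) := by
  letI := normRedAlgebra A
  letI := normRedAlgebra A'
  change icEquiv (redEquivOfSurj π hπ hker)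
    (algebraMap (CAlg2.red A) _ (Ideal.Quotient.mk (nilradical A) a)) = _
  rw [icEquiv_algebraMap, redEquivOfSurj_mk]
  rfl

include hπ hker in
/-- counting maps out of the normalization is insensitive to nilpotents -/
theorem card_hom_normRed_of_surj {Ω : Type u} [CommRing Ω] (c : A →+* Ω) (c' : A' →+* Ω)
    (hc : c'.comp π = c) :
    letI := normRedAlgebra A
    letI := normRedAlgebra A'
    ENat.card {τ : CAlg2.normRed A →+* Ω // τ.comp (algebraMap A (CAlg2.normRed A)) = c} =
      ENat.card {τ : CAlg2.normRed A' →+* Ω // τ.comp (algebraMap A' (CAlg2.normRed A')) = c'} := by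
  letI := normRedAlgebra A
  letI := normRedAlgebra A'
  exact ENat.card_congr (homTransport (normRedEquivOfSurj π hπ hker) (RingEquiv.refl Ω) π hπ
    (algebraMap A (CAlg2.normRed A)) c (algebraMap A' (CAlg2.normRed A')) c'
    (RingHom.ext fun a => normRedEquivOfSurj_algebraMap π hπ hker a)
    (by rw [hc]; rfl))

include hπ hker in
theorem card_maxSpec_normRed_of_surj :
    ENat.card (MaximalSpectrum (CAlg2.normRed A)) =
      ENat.card (MaximalSpectrum (CAlg2.normRed A')) :=
  ENat.card_congr (maxSpecEquiv (normRedEquivOfSurj π hπ hker))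

end NilTransport



section ExistsMin

variable {A₀ : Type u} [CommRing A₀] (p : Ideal A₀) [hp : p.IsPrime]
  (A : Type u) [CommRing A] [Algebra A₀ A] [hA : IsLocalization.AtPrime A p]

/-- if the reduction of the localization is a domain, there is a smallest prime below `p` -/
theorem exists_min_of_isDomain_red (hdom : IsDomain (CAlg2.red A)) :
    ∃ P₀ : Ideal A₀, P₀.IsPrime ∧ P₀ ≤ p ∧ ∀ P : Ideal A₀, P.IsPrime → P ≤ p → P₀ ≤ P := by
  have hnil : (nilradical A).IsPrime := (Ideal.Quotient.isDomain_iff_prime _).mp hdom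
  refine ⟨(nilradical A).comap (algebraMap A₀ A), Ideal.comap_isPrime _ _, ?_, ?_⟩
  · intro a ha
    by_contra hap
    have hu : IsUnit (algebraMap A₀ A a) := IsLocalization.map_units A (⟨a, hap⟩ : p.primeCompl)
    exact hnil.ne_top (Ideal.eq_top_of_isUnit_mem _ ha hu)
  · intro P hP hPp
    have hdisj : Disjoint (p.primeCompl : Set A₀) (P : Set A₀) :=
      Set.disjoint_left.mpr fun a ha ha' => ha (hPp ha')
    have hPmap : (P.map (algebraMap A₀ A)).IsPrime :=
      IsLocalization.isPrime_of_isPrime_disjoint p.primeCompl A P hP hdisj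
    have h1 : nilradical A ≤ P.map (algebraMap A₀ A) := by
      rw [nilradical_eq_sInf]
      exact sInf_le hPmap
    have h2 := Ideal.comap_mono (f := algebraMap A₀ A) h1
    have h3 : (P.map (algebraMap A₀ A)).comap (algebraMap A₀ A) = P :=
      IsLocalization.under_map_of_isPrime_disjoint p.primeCompl A hP hdisj
    rwa [h3] at h2

end ExistsMin



section UniqueMin

variable {A₀ : Type u} [CommRing A₀] (p : Ideal A₀) [hp : p.IsPrime] (P₀ : Ideal A₀) [hP₀ : P₀.IsPrime]
  (hP₀p : P₀ ≤ p) (hmin : ∀ P : Ideal A₀, P.IsPrime → P ≤ p → P₀ ≤ P)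
  (A : Type u) [CommRing A] [Algebra A₀ A] [hA : IsLocalization.AtPrime A p]

include hP₀p in
theorem isPrime_map : (P₀.map (algebraMap A₀ A)).IsPrime :=
  IsLocalization.isPrime_of_isPrime_disjoint p.primeCompl A P₀ hP₀
    (Set.disjoint_left.mpr fun a ha ha' => ha (hP₀p ha'))

theorem comap_le_of_isPrime (J : Ideal A) [hJ : J.IsPrime] : J.comap (algebraMap A₀ A) ≤ p := by
  intro a ha
  by_contra hap
  have hu : IsUnit (algebraMap A₀ A a) := IsLocalization.map_units A (⟨a, hap⟩ : p.primeCompl)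
  exact hJ.ne_top (Ideal.eq_top_of_isUnit_mem _ ha hu)

include hP₀p hmin in
theorem nilradical_eq_map : nilradical A = P₀.map (algebraMap A₀ A) := by
  haveI := isPrime_map p P₀ hP₀p A
  apply le_antisymm
  · rw [nilradical_eq_sInf]
    exact sInf_le (isPrime_map p P₀ hP₀p A)
  · rw [nilradical_eq_sInf]
    apply le_sInf
    intro J hJ
    haveI : J.IsPrime := hJ
    rw [Ideal.map_le_iff_le_comap]
    exact hmin _ (Ideal.comap_isPrime _ _) (comap_le_of_isPrime p A J)

include hP₀p in
theorem isPrime_map_mk : (p.map (Ideal.Quotient.mk P₀)).IsPrime :=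
  Ideal.map_isPrime_of_surjective Ideal.Quotient.mk_surjective (by rw [Ideal.mk_ker]; exact hP₀p)

include hP₀p in
theorem mk_mem_map_iff (a : A₀) : Ideal.Quotient.mk P₀ a ∈ p.map (Ideal.Quotient.mk P₀) ↔ a ∈ p := by
  constructor
  · intro h
    rw [Ideal.mem_map_iff_of_surjective _ Ideal.Quotient.mk_surjective] at h
    obtain ⟨b, hb, hba⟩ := h
    have : a - b ∈ P₀ := by
      rw [← Ideal.Quotient.eq]; exact hba.symm
    have h2 : a = (a - b) + b := by ring
    rw [h2]
    exact p.add_mem (hP₀p this) hb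
  · intro h
    exact Ideal.mem_map_of_mem _ h

include hP₀p in
theorem comap_map_mk : (p.map (Ideal.Quotient.mk P₀)).comap (Ideal.Quotient.mk P₀) = p := by
  ext a
  rw [Ideal.mem_comap, mk_mem_map_iff p P₀ hP₀p]

include hP₀p in
theorem algebraMapSubmonoid_eq :
    haveI := isPrime_map_mk p P₀ hP₀p
    Algebra.algebraMapSubmonoid (A₀ ⧸ P₀) p.primeCompl = (p.map (Ideal.Quotient.mk P₀)).primeCompl := by
  haveI := isPrime_map_mk p P₀ hP₀p
  ext x
  obtain ⟨a, rfl⟩ := Ideal.Quotient.mk_surjective x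
  constructor
  · rintro ⟨b, hb, hba⟩
    intro hmem
    have hba' : Ideal.Quotient.mk P₀ b = Ideal.Quotient.mk P₀ a := hba
    rw [← hba'] at hmem
    exact hb ((mk_mem_map_iff p P₀ hP₀p b).mp hmem)
  · intro h
    refine ⟨a, ?_, rfl⟩
    intro ha
    exact h ((mk_mem_map_iff p P₀ hP₀p a).mpr ha)

include hP₀p in
theorem isLocalization_quot :
    haveI := isPrime_map_mk p P₀ hP₀p
    IsLocalization.AtPrime (A ⧸ P₀.map (algebraMap A₀ A)) (p.map (Ideal.Quotient.mk P₀)) := by
  haveI := isPrime_map_mk p P₀ hP₀p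
  have h : IsLocalization (Algebra.algebraMapSubmonoid (A₀ ⧸ P₀) p.primeCompl)
    (A ⧸ P₀.map (algebraMap A₀ A)) := inferInstance
  rw [algebraMapSubmonoid_eq p P₀ hP₀p] at h
  exact h

section KeyLemma

variable [IsLocalRing A] {K N : Type u} [Field K] [Algebra (A₀ ⧸ P₀) K] [IsFractionRing (A₀ ⧸ P₀) K]
  [CommRing N] [Algebra (A₀ ⧸ P₀) N] [Algebra N K] [IsScalarTower (A₀ ⧸ P₀) N K]
  [Algebra.IsIntegral (A₀ ⧸ P₀) N]
  (hinj : Function.Injective (algebraMap N K))
  (hic : ∀ z : K, IsIntegral (A₀ ⧸ P₀) z → ∃ n : N, algebraMap N K n = z)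

include hP₀p hmin in
theorem isDomain_red : IsDomain (CAlg2.red A) := by
  haveI : (nilradical A).IsPrime := by
    rw [nilradical_eq_map p P₀ hP₀p hmin A]
    exact isPrime_map p P₀ hP₀p A
  exact Ideal.Quotient.isDomain _

include hP₀p hmin in
theorem finite_minimalPrimes_loc : (minimalPrimes A).Finite :=
  finite_minimalPrimes_of_isDomain_red A (isDomain_red p P₀ hP₀p hmin A)

include hP₀p hmin hinj hic in
theorem card_hom_normRed_gen {Ω : Type u} [Field Ω] (c : A →+* Ω) :
    letI := normRedAlgebra A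
    ENat.card {τ : CAlg2.normRed A →+* Ω // τ.comp (algebraMap A (CAlg2.normRed A)) = c} =
      ENat.card {τ' : N →+* Ω // τ'.comp ((algebraMap (A₀ ⧸ P₀) N).comp (Ideal.Quotient.mk P₀)) =
        c.comp (algebraMap A₀ A)} := by
  letI := normRedAlgebra A
  haveI hpr := isPrime_map_mk p P₀ hP₀p
  haveI hpr2 := isPrime_map p P₀ hP₀p A
  haveI hloc := isLocalization_quot p P₀ hP₀p A
  haveI : IsDomain (A ⧸ P₀.map (algebraMap A₀ A)) := Ideal.Quotient.isDomain _
  haveI : IsLocalRing (A ⧸ P₀.map (algebraMap A₀ A)) :=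
    IsLocalization.AtPrime.isLocalRing (A ⧸ P₀.map (algebraMap A₀ A)) (p.map (Ideal.Quotient.mk P₀))
  have hnil := nilradical_eq_map p P₀ hP₀p hmin A
  have hkill : ∀ a ∈ P₀.map (algebraMap A₀ A), c a = 0 := by
    intro a ha
    rw [← hnil, mem_nilradical] at ha
    obtain ⟨n, hn⟩ := ha
    have : c a ^ n = 0 := by rw [← map_pow, hn, map_zero]
    exact eq_zero_of_pow_eq_zero this
  let c' : (A ⧸ P₀.map (algebraMap A₀ A)) →+* Ω := Ideal.Quotient.lift _ c hkill
  have hc' : c'.comp (Ideal.Quotient.mk (P₀.map (algebraMap A₀ A))) = c := by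
    ext a; exact Ideal.Quotient.lift_mk (P₀.map (algebraMap A₀ A)) c hkill
  rw [card_hom_normRed_of_surj (Ideal.Quotient.mk (P₀.map (algebraMap A₀ A)))
    Ideal.Quotient.mk_surjective (by rw [Ideal.mk_ker, hnil]) c c' hc']
  rw [card_hom_normRed (B := A₀ ⧸ P₀) (K := K) (B' := N) (A := A ⧸ P₀.map (algebraMap A₀ A))
    hinj hic (p.map (Ideal.Quotient.mk P₀)) c']
  apply ENat.card_congr
  apply Equiv.subtypeEquivRight
  intro τ'
  have hcomm : (algebraMap (A₀ ⧸ P₀) (A ⧸ P₀.map (algebraMap A₀ A))).comp (Ideal.Quotient.mk P₀) =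
      (Ideal.Quotient.mk (P₀.map (algebraMap A₀ A))).comp (algebraMap A₀ A) := by
    ext a; rfl
  constructor
  · intro h
    rw [← RingHom.comp_assoc, h, RingHom.comp_assoc, hcomm, ← RingHom.comp_assoc, hc']
  · intro h
    apply RingHom.cancel_right Ideal.Quotient.mk_surjective |>.mp
    rw [RingHom.comp_assoc, h, RingHom.comp_assoc, hcomm, ← RingHom.comp_assoc, hc']

include hP₀p hmin hinj hic in
theorem card_maxSpec_normRed_gen :
    ENat.card (MaximalSpectrum (CAlg2.normRed A)) =
      ENat.card {Q : Ideal N // Q.IsPrime ∧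
        Q.comap ((algebraMap (A₀ ⧸ P₀) N).comp (Ideal.Quotient.mk P₀)) = p} := by
  haveI hpr := isPrime_map_mk p P₀ hP₀p
  haveI hpr2 := isPrime_map p P₀ hP₀p A
  haveI hloc := isLocalization_quot p P₀ hP₀p A
  haveI : IsDomain (A ⧸ P₀.map (algebraMap A₀ A)) := Ideal.Quotient.isDomain _
  haveI : IsLocalRing (A ⧸ P₀.map (algebraMap A₀ A)) :=
    IsLocalization.AtPrime.isLocalRing (A ⧸ P₀.map (algebraMap A₀ A)) (p.map (Ideal.Quotient.mk P₀))
  have hnil := nilradical_eq_map p P₀ hP₀p hmin A
  rw [card_maxSpec_normRed_of_surj (Ideal.Quotient.mk (P₀.map (algebraMap A₀ A)))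
    Ideal.Quotient.mk_surjective (by rw [Ideal.mk_ker, hnil])]
  rw [card_maxSpec_normRed (B := A₀ ⧸ P₀) (K := K) (B' := N) (A := A ⧸ P₀.map (algebraMap A₀ A))
    hinj hic (p.map (Ideal.Quotient.mk P₀))]
  apply ENat.card_congr
  apply Equiv.subtypeEquivRight
  intro Q
  apply and_congr_right
  intro _
  rw [← Ideal.comap_comap]
  constructor
  · intro h
    rw [h, comap_map_mk p P₀ hP₀p]
  · intro h
    have := congrArg (Ideal.map (Ideal.Quotient.mk P₀)) h
    rwa [Ideal.map_comap_of_surjective _ Ideal.Quotient.mk_surjective] at this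

include hP₀p hmin hinj hic in
theorem numGeomBranches_gen :
    Brnch.numGeomBranches A =
      ENat.card {τ' : N →+* AlgebraicClosure (ResidueField A) //
        τ'.comp ((algebraMap (A₀ ⧸ P₀) N).comp (Ideal.Quotient.mk P₀)) =
          (Brnch.toClosure A).comp (algebraMap A₀ A)} := by
  rw [numGeomBranches_eq_card_hom A (finite_minimalPrimes_loc p P₀ hP₀p hmin A)]
  exact card_hom_normRed_gen p P₀ hP₀p hmin A hinj hic (Brnch.toClosure A)

include hP₀p hmin hinj hic in
theorem numBranches_gen :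
    Brnch.numBranches A =
      ENat.card {Q : Ideal N // Q.IsPrime ∧
        Q.comap ((algebraMap (A₀ ⧸ P₀) N).comp (Ideal.Quotient.mk P₀)) = p} := by
  unfold Brnch.numBranches
  rw [if_pos (finite_minimalPrimes_loc p P₀ hP₀p hmin A)]
  exact card_maxSpec_normRed_gen p P₀ hP₀p hmin A hinj hic

end KeyLemma

end UniqueMin


end Groth.Agent.Lib.Helper4.RadBir1
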