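import Mathlib
import Groth.Prelude.Def_Brnch
import Groth.Agent.Lib.Helper4.NormFibre3
import Groth.Agent.Lib.Helper4.GeomUnibranchIC1
import Groth.Agent.Lib.Helper4.RadBir1

/-!
# Comparison of geometric branches along an integral birational extension: core (helper4)
-/

set_option backward.isDefEq.respectTransparency.types false
set_option synthInstance.maxHeartbeats 400000
set_option autoImplicit false
set_option linter.unusedSectionVars false
set_option linter.style.haveILetI false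
set_option linter.unusedSimpArgs false
universe u v w
open CategoryTheory CategoryTheory.Limits AlgebraicGeometry TopologicalSpace IsLocalRing Opposite
open Groth.Agent.Lib.Helper4.GeomBranch1 Groth.Agent.Lib.Helper4.GeomBranch2
open Groth.Agent.Lib.Helper4.BranchCount1
open Groth.Agent.Lib.Helper4.BranchSum1 Groth.Agent.Lib.Helper4.BranchSum2
open Groth.Agent.Lib.Helper4.NormFibre1 Groth.Agent.Lib.Helper4.NormFibre2
open Groth.Agent.Lib.Helper4.NormFibre3 Groth.Agent.Lib.Helper4.GeomUnibranchIC1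
open Groth.Agent.Lib.Helper4.RadBir1

namespace Groth.Agent.Lib.Helper4.RadBir2

section Field

/-- two algebraic closures of `F` (given by ring maps) are isomorphic over `F` -/
theorem exists_equiv_of_algClosures {F Ω₁ Ω₂ : Type u} [Field F] [Field Ω₁] [Field Ω₂]
    [IsAlgClosed Ω₁] [IsAlgClosed Ω₂] (j₁ : F →+* Ω₁) (j₂ : F →+* Ω₂)
    (h₁ : letI := j₁.toAlgebra; Algebra.IsAlgebraic F Ω₁)
    (h₂ : letI := j₂.toAlgebra; Algebra.IsAlgebraic F Ω₂) :
    ∃ θ : Ω₁ ≃+* Ω₂, θ.toRingHom.comp j₁ = j₂ := by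
  letI a₁ := j₁.toAlgebra
  letI a₂ := j₂.toAlgebra
  haveI : IsAlgClosure F Ω₁ := ⟨inferInstance, h₁⟩
  haveI : IsAlgClosure F Ω₂ := ⟨inferInstance, h₂⟩
  let θ := IsAlgClosure.equiv F Ω₁ Ω₂
  refine ⟨θ.toRingEquiv, ?_⟩
  ext x
  exact θ.commutes x

/-- algebraicity over a bigger subfield -/
theorem isAlgebraic_of_comp {F E Ω : Type u} [Field F] [Field E] [Field Ω] (j : F →+* E)
    (σ : E →+* Ω) (h : letI := (σ.comp j).toAlgebra; Algebra.IsAlgebraic F Ω) :
    letI := σ.toAlgebra; Algebra.IsAlgebraic E Ω := by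
  letI a1 := (σ.comp j).toAlgebra
  letI a2 := σ.toAlgebra
  letI a3 := j.toAlgebra
  haveI : IsScalarTower F E Ω := IsScalarTower.of_algebraMap_eq (fun _ => rfl)
  exact Algebra.IsAlgebraic.tower_top (K := F) E

/-- transitivity of algebraicity in ring hom form -/
theorem isAlgebraic_comp {F E Ω : Type u} [Field F] [Field E] [Field Ω] (j : F →+* E)
    (σ : E →+* Ω) (h₁ : letI := j.toAlgebra; Algebra.IsAlgebraic F E)
    (h₂ : letI := σ.toAlgebra; Algebra.IsAlgebraic E Ω) :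
    letI := (σ.comp j).toAlgebra; Algebra.IsAlgebraic F Ω := by
  letI a1 := (σ.comp j).toAlgebra
  letI a2 := σ.toAlgebra
  letI a3 := j.toAlgebra
  haveI : IsScalarTower F E Ω := IsScalarTower.of_algebraMap_eq (fun _ => rfl)
  exact Algebra.IsAlgebraic.trans F E Ω

end Field

section Epi

variable {A₀ A : Type u} [CommRing A₀] [CommRing A] [Algebra A₀ A] (p : Ideal A₀) [p.IsPrime]
  [IsLocalization.AtPrime A p] [IsLocalRing A]

include p in
theorem residue_epi {Ω : Type*} [CommRing Ω] (σ₁ σ₂ : ResidueField A →+* Ω)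
    (h : σ₁.comp ((residue A).comp (algebraMap A₀ A)) = σ₂.comp ((residue A).comp (algebraMap A₀ A))) :
    σ₁ = σ₂ := by
  have h1 : σ₁.comp (residue A) = σ₂.comp (residue A) := by
    apply IsLocalization.ringHom_ext p.primeCompl
    exact h
  apply RingHom.ext
  intro y
  obtain ⟨a, rfl⟩ := IsLocalRing.residue_surjective y
  exact RingHom.congr_fun h1 a

include p in
theorem ker_residue_comp : RingHom.ker ((residue A).comp (algebraMap A₀ A)) = p := by
  ext a
  rw [RingHom.mem_ker, RingHom.comp_apply, residue_eq_zero_iff]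
  exact IsLocalization.AtPrime.to_map_mem_maximal_iff A p a

end Epi



section Setup

variable {A₀ B₀ : Type u} [CommRing A₀] [CommRing B₀] [Algebra A₀ B₀] [Algebra.IsIntegral A₀ B₀]
  (P₀ : Ideal A₀) [P₀.IsPrime] (Q₀ : Ideal B₀) [Q₀.IsPrime] [Q₀.LiesOver P₀]
  (hfrac : ∀ b : B₀, ∃ s a : A₀, s ∉ P₀ ∧ algebraMap A₀ B₀ s * b - algebraMap A₀ B₀ a ∈ Q₀)

/-- the normalization of the component -/
abbrev Nrm : Type u := integralClosure (B₀ ⧸ Q₀) (FractionRing (B₀ ⧸ Q₀))

/-- the canonical map from `B₀` to the normalization of the component -/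
noncomputable def iotaB : B₀ →+* Nrm Q₀ :=
  (algebraMap (B₀ ⧸ Q₀) (Nrm Q₀)).comp (Ideal.Quotient.mk Q₀)

include hfrac in
theorem isFractionRing_AK :
    IsFractionRing (A₀ ⧸ P₀) (FractionRing (B₀ ⧸ Q₀)) := by
  apply IsFractionRing.of_field
  -- every element of `B₀ ⧸ Q₀` is a fraction
  have key : ∀ b : B₀ ⧸ Q₀, ∃ s a : A₀ ⧸ P₀, s ≠ 0 ∧
      algebraMap (A₀ ⧸ P₀) (B₀ ⧸ Q₀) s * b = algebraMap (A₀ ⧸ P₀) (B₀ ⧸ Q₀) a := by
    intro b
    obtain ⟨b, rfl⟩ := Ideal.Quotient.mk_surjective b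
    obtain ⟨s, a, hs, hsa⟩ := hfrac b
    refine ⟨Ideal.Quotient.mk P₀ s, Ideal.Quotient.mk P₀ a, ?_, ?_⟩
    · rwa [Ne, Ideal.Quotient.eq_zero_iff_mem]
    · rw [Ideal.Quotient.algebraMap_mk_of_liesOver, Ideal.Quotient.algebraMap_mk_of_liesOver,
        ← map_mul, Ideal.Quotient.eq]
      exact hsa
  intro z
  obtain ⟨⟨b, t⟩, hz⟩ := IsLocalization.surj (nonZeroDivisors (B₀ ⧸ Q₀)) z
  have ht0 : (t : B₀ ⧸ Q₀) ≠ 0 := nonZeroDivisors.ne_zero t.2
  obtain ⟨s, a, hs, hsa⟩ := key b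
  obtain ⟨s', a', hs', hsa'⟩ := key t
  have hinjA := FaithfulSMul.algebraMap_injective (A₀ ⧸ P₀) (B₀ ⧸ Q₀)
  have hinjK := IsFractionRing.injective (B₀ ⧸ Q₀) (FractionRing (B₀ ⧸ Q₀))
  have ha'0 : a' ≠ 0 := by
    intro h0
    rw [h0, map_zero] at hsa'
    rcases mul_eq_zero.mp hsa' with h | h
    · exact hs' (hinjA (by rw [h, map_zero]))
    · exact ht0 h
  refine ⟨a * s', s * a', ?_⟩
  have hK : ∀ x : A₀ ⧸ P₀, algebraMap (A₀ ⧸ P₀) (FractionRing (B₀ ⧸ Q₀)) x =
      algebraMap (B₀ ⧸ Q₀) (FractionRing (B₀ ⧸ Q₀)) (algebraMap (A₀ ⧸ P₀) (B₀ ⧸ Q₀) x) :=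
    fun x => IsScalarTower.algebraMap_apply _ _ _ x
  have hden : algebraMap (A₀ ⧸ P₀) (FractionRing (B₀ ⧸ Q₀)) (s * a') ≠ 0 := by
    rw [hK]
    exact (map_ne_zero_iff _ hinjK).mpr ((map_ne_zero_iff _ hinjA).mpr (mul_ne_zero hs ha'0))
  rw [eq_div_iff hden, hK, hK]
  have hz' : z * algebraMap (B₀ ⧸ Q₀) (FractionRing (B₀ ⧸ Q₀)) (t : B₀ ⧸ Q₀) =
      algebraMap (B₀ ⧸ Q₀) (FractionRing (B₀ ⧸ Q₀)) b := hz
  have e1 : algebraMap (A₀ ⧸ P₀) (B₀ ⧸ Q₀) (s * a') =
      algebraMap (A₀ ⧸ P₀) (B₀ ⧸ Q₀) s * (algebraMap (A₀ ⧸ P₀) (B₀ ⧸ Q₀) s' * (t : B₀ ⧸ Q₀)) := by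
    rw [map_mul, hsa']
  have e2 : algebraMap (A₀ ⧸ P₀) (B₀ ⧸ Q₀) (a * s') =
      (algebraMap (A₀ ⧸ P₀) (B₀ ⧸ Q₀) s * b) * algebraMap (A₀ ⧸ P₀) (B₀ ⧸ Q₀) s' := by
    rw [map_mul, hsa]
  rw [e1, e2]
  simp only [map_mul]
  rw [← hz']
  ring

section Formulas

variable (p : Ideal A₀) [p.IsPrime] (A : Type u) [CommRing A] [IsLocalRing A] [Algebra A₀ A]
  [IsLocalization.AtPrime A p]
  (hP₀p : P₀ ≤ p) (hminA : ∀ P : Ideal A₀, P.IsPrime → P ≤ p → P₀ ≤ P)

theorem iota_comp :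
    (algebraMap (A₀ ⧸ P₀) (Nrm Q₀)).comp (Ideal.Quotient.mk P₀) =
      (iotaB Q₀).comp (algebraMap A₀ B₀) := by
  refine RingHom.ext fun a => ?_
  apply Subtype.ext
  change algebraMap (A₀ ⧸ P₀) (FractionRing (B₀ ⧸ Q₀)) (Ideal.Quotient.mk P₀ a) =
    algebraMap (B₀ ⧸ Q₀) (FractionRing (B₀ ⧸ Q₀)) (Ideal.Quotient.mk Q₀ (algebraMap A₀ B₀ a))
  rw [IsScalarTower.algebraMap_apply (A₀ ⧸ P₀) (B₀ ⧸ Q₀) (FractionRing (B₀ ⧸ Q₀)),
    Ideal.Quotient.algebraMap_mk_of_liesOver]

include hfrac hP₀p hminA in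
theorem numGeomBranches_A :
    Brnch.numGeomBranches A =
      ENat.card {τ' : Nrm Q₀ →+* AlgebraicClosure (ResidueField A) //
        τ'.comp ((iotaB Q₀).comp (algebraMap A₀ B₀)) =
          (Brnch.toClosure A).comp (algebraMap A₀ A)} := by
  haveI := isFractionRing_AK P₀ Q₀ hfrac
  haveI : Algebra.IsIntegral (A₀ ⧸ P₀) (Nrm Q₀) := Algebra.IsIntegral.trans (B₀ ⧸ Q₀)
  rw [numGeomBranches_gen p P₀ hP₀p hminA A (K := FractionRing (B₀ ⧸ Q₀)) (N := Nrm Q₀)
    Subtype.val_injective (fun z hz => ⟨⟨z, hz.tower_top⟩, rfl⟩), iota_comp]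

include hfrac hP₀p hminA in
theorem numBranches_A :
    Brnch.numBranches A =
      ENat.card {Q : Ideal (Nrm Q₀) // Q.IsPrime ∧
        Q.comap ((iotaB Q₀).comp (algebraMap A₀ B₀)) = p} := by
  haveI := isFractionRing_AK P₀ Q₀ hfrac
  haveI : Algebra.IsIntegral (A₀ ⧸ P₀) (Nrm Q₀) := Algebra.IsIntegral.trans (B₀ ⧸ Q₀)
  rw [numBranches_gen p P₀ hP₀p hminA A (K := FractionRing (B₀ ⧸ Q₀)) (N := Nrm Q₀)
    Subtype.val_injective (fun z hz => ⟨⟨z, hz.tower_top⟩, rfl⟩), iota_comp]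

variable (q : Ideal B₀) [q.IsPrime] (Bq : Type u) [CommRing Bq] [IsLocalRing Bq] [Algebra B₀ Bq]
  [IsLocalization.AtPrime Bq q]
  (hQ₀q : Q₀ ≤ q) (hminB : ∀ Q : Ideal B₀, Q.IsPrime → Q ≤ q → Q₀ ≤ Q)

include hQ₀q hminB in
theorem numGeomBranches_B :
    Brnch.numGeomBranches Bq =
      ENat.card {τ' : Nrm Q₀ →+* AlgebraicClosure (ResidueField Bq) //
        τ'.comp (iotaB Q₀) = (Brnch.toClosure Bq).comp (algebraMap B₀ Bq)} :=
  numGeomBranches_gen q Q₀ hQ₀q hminB Bq (K := FractionRing (B₀ ⧸ Q₀)) (N := Nrm Q₀)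
    Subtype.val_injective (fun z hz => ⟨⟨z, hz⟩, rfl⟩)

include hQ₀q hminB in
theorem numBranches_B :
    Brnch.numBranches Bq =
      ENat.card {Q : Ideal (Nrm Q₀) // Q.IsPrime ∧ Q.comap (iotaB Q₀) = q} :=
  numBranches_gen q Q₀ hQ₀q hminB Bq (K := FractionRing (B₀ ⧸ Q₀)) (N := Nrm Q₀)
    Subtype.val_injective (fun z hz => ⟨⟨z, hz⟩, rfl⟩)

end Formulas

end Setup



section Core

variable {A₀ B₀ N : Type u} [CommRing A₀] [CommRing B₀] [CommRing N] [Algebra A₀ B₀]
  [Algebra.IsIntegral A₀ B₀] (ιB : B₀ →+* N)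
  (p : Ideal A₀) [p.IsPrime] (A : Type u) [CommRing A] [IsLocalRing A] [Algebra A₀ A]
  [IsLocalization.AtPrime A p]
  (q : Ideal B₀) [q.IsPrime] (Bq : Type u) [CommRing Bq] [IsLocalRing Bq] [Algebra B₀ Bq]
  [IsLocalization.AtPrime Bq q]
  (ψ : A →+* Bq) [IsLocalHom ψ]
  (hψ : ψ.comp (algebraMap A₀ A) = (algebraMap B₀ Bq).comp (algebraMap A₀ B₀))

theorem toClosure_eq (R : Type u) [CommRing R] [IsLocalRing R] :
    Brnch.toClosure R = (algebraMap (ResidueField R) (AlgebraicClosure (ResidueField R))).comp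
      (residue R) := rfl

include hψ in
theorem map_residue_comp :
    (ResidueField.map ψ).comp ((residue A).comp (algebraMap A₀ A)) =
      ((residue Bq).comp (algebraMap B₀ Bq)).comp (algebraMap A₀ B₀) := by
  ext a
  simp only [RingHom.comp_apply]
  rw [ResidueField.map_residue]
  exact congrArg (residue Bq) (RingHom.congr_fun hψ a)

include hψ q in
theorem isAlgebraic_residue :
    letI := (ResidueField.map ψ).toAlgebra
    Algebra.IsAlgebraic (ResidueField A) (ResidueField Bq) :=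
  isAlgebraic_of_localization (B := A₀) (B' := B₀) (S := Bq) q
    ((residue A).comp (algebraMap A₀ A)) (residue Bq) residue_surjective (ResidueField.map ψ)
    (map_residue_comp A Bq ψ hψ)

theorem isAlgebraic_closure (R : Type u) [CommRing R] [IsLocalRing R] :
    letI := (algebraMap (ResidueField R) (AlgebraicClosure (ResidueField R))).toAlgebra
    Algebra.IsAlgebraic (ResidueField R) (AlgebraicClosure (ResidueField R)) := by
  rw [toAlgebra_algebraMap]
  infer_instance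

include hψ in
/-- key compatibility -/
theorem toClosure_comp_psi :
    (Brnch.toClosure Bq).comp ((algebraMap B₀ Bq).comp (algebraMap A₀ B₀)) =
      ((algebraMap (ResidueField Bq) (AlgebraicClosure (ResidueField Bq))).comp
        (ResidueField.map ψ)).comp ((residue A).comp (algebraMap A₀ A)) := by
  rw [RingHom.comp_assoc, map_residue_comp A Bq ψ hψ, toClosure_eq]
  rfl

include hψ q p in
/-- the backward direction: uniqueness upstairs plus pure inseparability give uniqueness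
downstairs -/
theorem subsingleton_A_of_B
    (huniq : ∀ q' : Ideal B₀, q'.IsPrime → q'.comap (algebraMap A₀ B₀) = p → q' = q)
    (hB : Subsingleton {τ' : N →+* AlgebraicClosure (ResidueField Bq) //
      τ'.comp ιB = (Brnch.toClosure Bq).comp (algebraMap B₀ Bq)})
    (hPI : (ResidueField.map ψ).IsPurelyInseparable) :
    Subsingleton {τ' : N →+* AlgebraicClosure (ResidueField A) //
      τ'.comp (ιB.comp (algebraMap A₀ B₀)) = (Brnch.toClosure A).comp (algebraMap A₀ A)} := by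
  -- for each τ, the restriction to B₀ factors through the residue field of Bq
  have hfac : ∀ τ : {τ' : N →+* AlgebraicClosure (ResidueField A) //
      τ'.comp (ιB.comp (algebraMap A₀ B₀)) = (Brnch.toClosure A).comp (algebraMap A₀ A)},
      ∃ sb : ResidueField Bq →+* AlgebraicClosure (ResidueField A),
        sb.comp ((residue Bq).comp (algebraMap B₀ Bq)) = τ.1.comp ιB ∧
        sb.comp (ResidueField.map ψ) =
          algebraMap (ResidueField A) (AlgebraicClosure (ResidueField A)) := by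
    intro τ
    have h1 : (τ.1.comp ιB).comp (algebraMap A₀ B₀) =
        (Brnch.toClosure A).comp (algebraMap A₀ A) := by
      rw [RingHom.comp_assoc]; exact τ.2
    have hker : RingHom.ker (τ.1.comp ιB) = q := by
      apply huniq _ (RingHom.ker_isPrime _)
      rw [RingHom.comap_ker, h1, toClosure_eq, RingHom.comp_assoc, ← RingHom.comap_ker,
        (RingHom.injective_iff_ker_eq_bot _).mp
          (algebraMap (ResidueField A) (AlgebraicClosure (ResidueField A))).injective,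
        ← RingHom.ker_eq_comap_bot]
      exact ker_residue_comp p
    refine ⟨resLift (Ap := Bq) (τ.1.comp ιB) q hker, ?_, ?_⟩
    · ext b
      exact resLift_residue (Ap := Bq) (τ.1.comp ιB) q hker b
    · apply residue_epi p
      rw [RingHom.comp_assoc, map_residue_comp A Bq ψ hψ]
      ext a
      simp only [RingHom.comp_apply]
      rw [resLift_residue (Ap := Bq) (τ.1.comp ιB) q hker]
      exact RingHom.congr_fun h1 a
  refine ⟨fun τ₁ τ₂ => ?_⟩
  obtain ⟨σ₁, hσ₁, hσ₁'⟩ := hfac τ₁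
  obtain ⟨σ₂, hσ₂, hσ₂'⟩ := hfac τ₂
  have hσ : σ₁ = σ₂ := by
    letI := (ResidueField.map ψ).toAlgebra
    haveI : IsPurelyInseparable (ResidueField A) (ResidueField Bq) := hPI
    exact IsPurelyInseparable.injective_comp_algebraMap (ResidueField A) (ResidueField Bq)
      (AlgebraicClosure (ResidueField A)) (hσ₁'.trans hσ₂'.symm)
  subst hσ
  -- the algebraic closure downstairs is an algebraic closure of the residue field upstairs
  have halg : letI := σ₁.toAlgebra
      Algebra.IsAlgebraic (ResidueField Bq) (AlgebraicClosure (ResidueField A)) := by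
    apply isAlgebraic_of_comp (ResidueField.map ψ) σ₁
    rw [hσ₁']
    exact isAlgebraic_closure A
  obtain ⟨θ, hθ⟩ := exists_equiv_of_algClosures
    (algebraMap (ResidueField Bq) (AlgebraicClosure (ResidueField Bq))) σ₁
    (isAlgebraic_closure Bq) halg
  have hθ' : θ.symm.toRingHom.comp σ₁ =
      algebraMap (ResidueField Bq) (AlgebraicClosure (ResidueField Bq)) := by
    rw [← hθ, ← RingHom.comp_assoc]
    ext x
    simp
  have hmem : ∀ τ : N →+* AlgebraicClosure (ResidueField A),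
      σ₁.comp ((residue Bq).comp (algebraMap B₀ Bq)) = τ.comp ιB →
      (θ.symm.toRingHom.comp τ).comp ιB = (Brnch.toClosure Bq).comp (algebraMap B₀ Bq) := by
    intro τ h
    rw [RingHom.comp_assoc, ← h, ← RingHom.comp_assoc, hθ', toClosure_eq, RingHom.comp_assoc]
  have := congrArg Subtype.val (hB.elim ⟨_, hmem τ₁.1 hσ₁⟩ ⟨_, hmem τ₂.1 hσ₂⟩)
  apply Subtype.ext
  ext n
  have h3 := RingHom.congr_fun this n
  exact θ.symm.injective h3

end Core




section Core

variable {A₀ B₀ N : Type u} [CommRing A₀] [CommRing B₀] [CommRing N] [Algebra A₀ B₀]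
  [Algebra.IsIntegral A₀ B₀] (ιB : B₀ →+* N)
  (p : Ideal A₀) [p.IsPrime] (A : Type u) [CommRing A] [IsLocalRing A] [Algebra A₀ A]
  [IsLocalization.AtPrime A p]
  (q : Ideal B₀) [q.IsPrime] (Bq : Type u) [CommRing Bq] [IsLocalRing Bq] [Algebra B₀ Bq]
  [IsLocalization.AtPrime Bq q]
  (ψ : A →+* Bq) [IsLocalHom ψ]
  (hψ : ψ.comp (algebraMap A₀ A) = (algebraMap B₀ Bq).comp (algebraMap A₀ B₀))


include hψ q in
/-- an embedding of the upper residue field in the lower algebraic closure -/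
theorem exists_sigma :
    ∃ σ : ResidueField Bq →+* AlgebraicClosure (ResidueField A),
      σ.comp (ResidueField.map ψ) =
        algebraMap (ResidueField A) (AlgebraicClosure (ResidueField A)) := by
  letI := (ResidueField.map ψ).toAlgebra
  haveI : Algebra.IsAlgebraic (ResidueField A) (ResidueField Bq) :=
    isAlgebraic_residue A q Bq ψ hψ
  let φ : ResidueField Bq →ₐ[ResidueField A] AlgebraicClosure (ResidueField A) :=
    IsAlgClosed.lift
  refine ⟨φ.toRingHom, ?_⟩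
  refine RingHom.ext fun a => ?_
  exact φ.commutes a

/-- an isomorphism of the two algebraic closures inducing a given embedding -/
theorem exists_theta (σ : ResidueField Bq →+* AlgebraicClosure (ResidueField A))
    (hσ : σ.comp (ResidueField.map ψ) =
      algebraMap (ResidueField A) (AlgebraicClosure (ResidueField A))) :
    ∃ θ : AlgebraicClosure (ResidueField Bq) ≃+* AlgebraicClosure (ResidueField A),
      θ.toRingHom.comp (algebraMap (ResidueField Bq) (AlgebraicClosure (ResidueField Bq))) = σ := by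
  have halg : letI := σ.toAlgebra
      Algebra.IsAlgebraic (ResidueField Bq) (AlgebraicClosure (ResidueField A)) := by
    apply isAlgebraic_of_comp (ResidueField.map ψ) σ
    rw [hσ]
    exact isAlgebraic_closure A
  exact exists_equiv_of_algClosures
    (algebraMap (ResidueField Bq) (AlgebraicClosure (ResidueField Bq))) σ
    (isAlgebraic_closure Bq) halg

include hψ in
/-- transport of a compatible map upstairs to a compatible map downstairs -/
theorem mem_A_of_B (σ : ResidueField Bq →+* AlgebraicClosure (ResidueField A))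
    (hσ : σ.comp (ResidueField.map ψ) =
      algebraMap (ResidueField A) (AlgebraicClosure (ResidueField A)))
    (θ : AlgebraicClosure (ResidueField Bq) ≃+* AlgebraicClosure (ResidueField A))
    (hθ : θ.toRingHom.comp (algebraMap (ResidueField Bq) (AlgebraicClosure (ResidueField Bq))) = σ)
    (τ : N →+* AlgebraicClosure (ResidueField Bq))
    (hτ : τ.comp ιB = (Brnch.toClosure Bq).comp (algebraMap B₀ Bq)) :
    (θ.toRingHom.comp τ).comp (ιB.comp (algebraMap A₀ B₀)) =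
      (Brnch.toClosure A).comp (algebraMap A₀ A) := by
  refine RingHom.ext fun a => ?_
  have e1 := RingHom.congr_fun hτ (algebraMap A₀ B₀ a)
  have e2 := RingHom.congr_fun (toClosure_comp_psi A Bq ψ hψ) a
  have e3 := RingHom.congr_fun hθ (ResidueField.map ψ (residue A (algebraMap A₀ A a)))
  have e4 := RingHom.congr_fun hσ (residue A (algebraMap A₀ A a))
  simp only [RingHom.comp_apply] at e1 e2 e3 e4 ⊢
  rw [e1, e2, e3, e4]
  rfl

include hψ q in
theorem subsingleton_B_of_A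
    (hA : Subsingleton {τ' : N →+* AlgebraicClosure (ResidueField A) //
      τ'.comp (ιB.comp (algebraMap A₀ B₀)) = (Brnch.toClosure A).comp (algebraMap A₀ A)}) :
    Subsingleton {τ' : N →+* AlgebraicClosure (ResidueField Bq) //
      τ'.comp ιB = (Brnch.toClosure Bq).comp (algebraMap B₀ Bq)} := by
  obtain ⟨σ, hσ⟩ := exists_sigma A q Bq ψ hψ
  obtain ⟨θ, hθ⟩ := exists_theta A Bq ψ σ hσ
  refine ⟨fun τ₁ τ₂ => ?_⟩
  have := congrArg Subtype.val (hA.elim ⟨_, mem_A_of_B ιB A Bq ψ hψ σ hσ θ hθ τ₁.1 τ₁.2⟩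
    ⟨_, mem_A_of_B ιB A Bq ψ hψ σ hσ θ hθ τ₂.1 τ₂.2⟩)
  apply Subtype.ext
  refine RingHom.ext fun n => ?_
  exact θ.injective (RingHom.congr_fun this n)

include hψ q in
theorem purelyInseparable_of_A
    (hA : Subsingleton {τ' : N →+* AlgebraicClosure (ResidueField A) //
      τ'.comp (ιB.comp (algebraMap A₀ B₀)) = (Brnch.toClosure A).comp (algebraMap A₀ A)})
    (hne : Nonempty {τ' : N →+* AlgebraicClosure (ResidueField Bq) //
      τ'.comp ιB = (Brnch.toClosure Bq).comp (algebraMap B₀ Bq)}) :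
    (ResidueField.map ψ).IsPurelyInseparable := by
  obtain ⟨τ₀⟩ := hne
  -- uniqueness of embeddings
  have huniq : ∀ σ₁ σ₂ : ResidueField Bq →+* AlgebraicClosure (ResidueField A),
      σ₁.comp (ResidueField.map ψ) =
        algebraMap (ResidueField A) (AlgebraicClosure (ResidueField A)) →
      σ₂.comp (ResidueField.map ψ) =
        algebraMap (ResidueField A) (AlgebraicClosure (ResidueField A)) → σ₁ = σ₂ := by
    intro σ₁ σ₂ h₁ h₂
    obtain ⟨θ₁, hθ₁⟩ := exists_theta A Bq ψ σ₁ h₁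
    obtain ⟨θ₂, hθ₂⟩ := exists_theta A Bq ψ σ₂ h₂
    have := congrArg Subtype.val (hA.elim ⟨_, mem_A_of_B ιB A Bq ψ hψ σ₁ h₁ θ₁ hθ₁ τ₀.1 τ₀.2⟩
      ⟨_, mem_A_of_B ιB A Bq ψ hψ σ₂ h₂ θ₂ hθ₂ τ₀.1 τ₀.2⟩)
    have h3 : (θ₁.toRingHom.comp τ₀.1).comp ιB = (θ₂.toRingHom.comp τ₀.1).comp ιB := by
      change (θ₁.toRingHom.comp τ₀.1) = (θ₂.toRingHom.comp τ₀.1) at this
      rw [this]
    rw [RingHom.comp_assoc, RingHom.comp_assoc, τ₀.2, toClosure_eq, ← RingHom.comp_assoc,
      ← RingHom.comp_assoc, ← RingHom.comp_assoc, ← RingHom.comp_assoc, hθ₁, hθ₂,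
      RingHom.comp_assoc, RingHom.comp_assoc] at h3
    exact residue_epi q σ₁ σ₂ h3
  letI := (ResidueField.map ψ).toAlgebra
  haveI : Algebra.IsAlgebraic (ResidueField A) (ResidueField Bq) :=
    isAlgebraic_residue A q Bq ψ hψ
  change IsPurelyInseparable (ResidueField A) (ResidueField Bq)
  rw [isPurelyInseparable_iff_finSepDegree_eq_one, Field.finSepDegree, Nat.card_eq_one_iff_unique]
  refine ⟨?_, ⟨IsAlgClosed.lift⟩⟩
  have hsub : Subsingleton (ResidueField Bq →ₐ[ResidueField A]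
      AlgebraicClosure (ResidueField A)) := by
    refine ⟨fun φ₁ φ₂ => ?_⟩
    have := huniq φ₁.toRingHom φ₂.toRingHom (RingHom.ext fun a => φ₁.commutes a)
      (RingHom.ext fun a => φ₂.commutes a)
    exact AlgHom.coe_ringHom_injective this
  exact (Field.embEquivOfIsAlgClosed (ResidueField A) (ResidueField Bq)
    (AlgebraicClosure (ResidueField A))).subsingleton

/-- uniqueness of the prime upstairs from the count of branches -/
theorem unique_q (hιint : ιB.IsIntegral)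
    (hT : Subsingleton {Q : Ideal N // Q.IsPrime ∧ Q.comap (ιB.comp (algebraMap A₀ B₀)) = p})
    (q₁ q₂ : Ideal B₀) [q₁.IsPrime] [q₂.IsPrime]
    (h₁ : q₁.comap (algebraMap A₀ B₀) = p) (h₂ : q₂.comap (algebraMap A₀ B₀) = p)
    (hk₁ : RingHom.ker ιB ≤ q₁) (hk₂ : RingHom.ker ιB ≤ q₂) : q₁ = q₂ := by
  have key : ∀ q' : Ideal B₀, q'.IsPrime → RingHom.ker ιB ≤ q' →
      ∃ Q : Ideal N, Q.IsPrime ∧ Q.comap ιB = q' := by
    intro q' hq' hk
    letI := ιB.toAlgebra
    haveI : Algebra.IsIntegral B₀ N := ⟨hιint⟩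
    obtain ⟨Q, -, hQ, hQ'⟩ := Ideal.exists_ideal_over_prime_of_isIntegral q' (⊥ : Ideal N)
      (by rw [← RingHom.ker_eq_comap_bot]; exact hk)
    exact ⟨Q, hQ, hQ'⟩
  obtain ⟨Q₁, hQ₁, hQ₁'⟩ := key q₁ inferInstance hk₁
  obtain ⟨Q₂, hQ₂, hQ₂'⟩ := key q₂ inferInstance hk₂
  have e := hT.elim ⟨Q₁, hQ₁, by rw [← Ideal.comap_comap, hQ₁', h₁]⟩
    ⟨Q₂, hQ₂, by rw [← Ideal.comap_comap, hQ₂', h₂]⟩
  have e' : Q₁ = Q₂ := congrArg Subtype.val e
  rw [← hQ₁', ← hQ₂', e']

end Core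


end Groth.Agent.Lib.Helper4.RadBir2
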