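import Mathlib
import Groth.Prelude.Def_Brnch
import Groth.Prelude.Def_EGA4Misc
import Groth.Agent.Lib.Helper4.NormFibre3
import Groth.Agent.Lib.Helper4.GeomUnibranchIC1
import Groth.Agent.Lib.Helper4.RadBir1
import Groth.Agent.Lib.Helper4.RadBir2

/-!
# Ring-level comparison of geometric unibranchness along an integral birational extension, and the affine dictionary (helper4)
-/

set_option backward.isDefEq.respectTransparency.types false
set_option synthInstance.maxHeartbeats 400000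
set_option autoImplicit false
set_option linter.unusedSectionVars false
set_option linter.style.haveILetI false
set_option linter.unusedSimpArgs false
universe u v w
open CategoryTheory CategoryTheory.Limits AlgebraicGeometry TopologicalSpace IsLocalRing Opposite
open Groth.Agent.Lib.Helper4.GeomBranch1 Groth.Agent.Lib.Helper4.GeomBranch2
open Groth.Agent.Lib.Helper4.BranchCount1
open Groth.Agent.Lib.Helper4.BranchSum1 Groth.Agent.Lib.Helper4.BranchSum2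
open Groth.Agent.Lib.Helper4.NormFibre1 Groth.Agent.Lib.Helper4.NormFibre2
open Groth.Agent.Lib.Helper4.NormFibre3 Groth.Agent.Lib.Helper4.GeomUnibranchIC1
open Groth.Agent.Lib.Helper4.RadBir1 Groth.Agent.Lib.Helper4.RadBir2

namespace Groth.Agent.Lib.Helper4.RadBir3

/-- ring-level form of birationality of an integral extension -/
structure RingBir (A₀ B₀ : Type u) [CommRing A₀] [CommRing B₀] [Algebra A₀ B₀] : Prop where
  mapsTo : ∀ Q ∈ minimalPrimes B₀, Q.comap (algebraMap A₀ B₀) ∈ minimalPrimes A₀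
  surj : ∀ P ∈ minimalPrimes A₀, ∃ Q ∈ minimalPrimes B₀, Q.comap (algebraMap A₀ B₀) = P
  uniq : ∀ P ∈ minimalPrimes A₀, ∀ Q Q' : Ideal B₀, Q.IsPrime → Q'.IsPrime →
    Q.comap (algebraMap A₀ B₀) = P → Q'.comap (algebraMap A₀ B₀) = P → Q = Q'
  frac : ∀ P ∈ minimalPrimes A₀, ∀ Q : Ideal B₀, Q.IsPrime → Q.comap (algebraMap A₀ B₀) = P →
    ∀ b : B₀, ∃ s a : A₀, s ∉ P ∧ algebraMap A₀ B₀ s * b - algebraMap A₀ B₀ a ∈ Q


section Top

variable {α : Type*} [TopologicalSpace α]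

theorem mem_genericPoints_iff_forall [QuasiSober α] [T0Space α] (x : α) :
    x ∈ genericPoints α ↔ ∀ x' : α, x' ⤳ x → x' = x := by
  constructor
  · intro h x' hx'
    have h1 : closure {x} ≤ closure {x'} := specializes_iff_closure_subset.mp hx'
    have h2 : closure {x'} ≤ closure {x} := h.2 (isIrreducible_singleton.closure) h1
    exact (hx'.antisymm (specializes_iff_closure_subset.mpr h2)).eq
  · intro h
    let c : irreducibleComponents α := ⟨_, irreducibleComponent_mem_irreducibleComponents x⟩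
    have h1 := genericPoints.isGenericPoint_ofComponent c
    have h2 : (genericPoints.ofComponent c).1 ⤳ x := h1.specializes mem_irreducibleComponent
    have h3 := h _ h2
    rw [← h3]
    exact (genericPoints.ofComponent c).2

theorem exists_generic_specializes' [QuasiSober α] (x : α) :
    ∃ ξ ∈ genericPoints α, ξ ⤳ x := by
  let c : irreducibleComponents α := ⟨_, irreducibleComponent_mem_irreducibleComponents x⟩
  refine ⟨(genericPoints.ofComponent c).1, (genericPoints.ofComponent c).2, ?_⟩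
  exact (genericPoints.isGenericPoint_ofComponent c).specializes mem_irreducibleComponent

end Top

section Dict

variable {Y : Scheme.{u}} {U : Y.Opens} (hU : IsAffineOpen U)

theorem fromSpec_mem (z : PrimeSpectrum Γ(Y, U)) : hU.fromSpec z ∈ U := by
  have h : hU.fromSpec z ∈ Set.range hU.fromSpec := Set.mem_range_self z
  rw [hU.range_fromSpec] at h
  exact h

theorem primeIdealOf_fromSpec (z : PrimeSpectrum Γ(Y, U)) :
    hU.primeIdealOf ⟨hU.fromSpec z, fromSpec_mem hU z⟩ = z :=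
  hU.fromSpec.isOpenEmbedding.injective (hU.fromSpec_primeIdealOf ⟨_, fromSpec_mem hU z⟩)

theorem specializes_iff_primeIdealOf_le (y₁ y₂ : U) :
    (y₁ : Y) ⤳ (y₂ : Y) ↔ (hU.primeIdealOf y₁).asIdeal ≤ (hU.primeIdealOf y₂).asIdeal := by
  have h := hU.fromSpec.isOpenEmbedding.isInducing.specializes_iff
    (x := hU.primeIdealOf y₁) (y := hU.primeIdealOf y₂)
  rw [hU.fromSpec_primeIdealOf, hU.fromSpec_primeIdealOf] at h
  rw [h]
  exact (PrimeSpectrum.le_iff_specializes (hU.primeIdealOf y₁) (hU.primeIdealOf y₂)).symm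

theorem mem_genericPoints_iff_minimalPrimes (y : Y) (hy : y ∈ U) :
    y ∈ genericPoints Y ↔ (hU.primeIdealOf ⟨y, hy⟩).asIdeal ∈ minimalPrimes Γ(Y, U) := by
  rw [mem_genericPoints_iff_forall]
  constructor
  · intro h
    refine ⟨⟨(hU.primeIdealOf ⟨y, hy⟩).2, bot_le⟩, ?_⟩
    intro Q hQ hle
    have h1 := (specializes_iff_primeIdealOf_le hU
      ⟨hU.fromSpec ⟨Q, hQ.1⟩, fromSpec_mem hU ⟨Q, hQ.1⟩⟩ ⟨y, hy⟩).mpr (by
        rw [primeIdealOf_fromSpec]; exact hle)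
    have h2 := h _ h1
    have h3 : hU.primeIdealOf ⟨hU.fromSpec ⟨Q, hQ.1⟩, fromSpec_mem hU ⟨Q, hQ.1⟩⟩ =
        hU.primeIdealOf ⟨y, hy⟩ := by
      congr 1
      exact Subtype.ext h2
    rw [primeIdealOf_fromSpec] at h3
    rw [← h3]
  · intro h y' hy'
    have hy'U : y' ∈ U := hy'.mem_open U.2 hy
    have h1 := (specializes_iff_primeIdealOf_le hU ⟨y', hy'U⟩ ⟨y, hy⟩).mp hy'
    have h2 := h.2 ⟨(hU.primeIdealOf ⟨y', hy'U⟩).2, bot_le⟩ h1
    have h3 : hU.primeIdealOf ⟨y', hy'U⟩ = hU.primeIdealOf ⟨y, hy⟩ :=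
      PrimeSpectrum.ext (le_antisymm h1 h2)
    have h4 := primeIdealOf_injective' hU h3
    exact congrArg Subtype.val h4

end Dict



section Frac

variable {Y : Scheme.{u}} {U : Y.Opens} (hU : IsAffineOpen U) (y : Y) (hy : y ∈ U)

include hU in
theorem exists_frac_rho (c : Y.residueField y) :
    ∃ s a : Γ(Y, U), s ∉ (hU.primeIdealOf ⟨y, hy⟩).asIdeal ∧ rho y hy s * c = rho y hy a := by
  letI := Y.presheaf.algebra_section_stalk (U := U) ⟨y, hy⟩
  haveI := hU.isLocalization_stalk ⟨y, hy⟩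
  obtain ⟨z, rfl⟩ := IsLocalRing.residue_surjective c
  obtain ⟨⟨a, s⟩, h⟩ := IsLocalization.surj (hU.primeIdealOf ⟨y, hy⟩).asIdeal.primeCompl z
  refine ⟨s.1, a, s.2, ?_⟩
  have h' : z * (Y.presheaf.germ U y hy).hom s.1 = (Y.presheaf.germ U y hy).hom a := h
  rw [rho_apply, rho_apply, ← h', map_mul]
  exact mul_comm _ _

end Frac

section Bir

variable {X Y : Scheme.{u}} (f : X ⟶ Y) [IsAffineHom f] {U : Y.Opens} (hU : IsAffineOpen U)

theorem comap_primeIdealOf (x : X) (hx : x ∈ f ⁻¹ᵁ U) :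
    ((hU.preimage f).primeIdealOf ⟨x, hx⟩).asIdeal.comap (f.app U).hom =
      (hU.primeIdealOf ⟨f x, hx⟩).asIdeal :=
  comap_primeIdealOf_fibre f hU (f x) hx ⟨x, rfl⟩

theorem point_of_prime (Q : Ideal Γ(X, f ⁻¹ᵁ U)) (hQ : Q.IsPrime) :
    ∃ x : X, ∃ hx : x ∈ f ⁻¹ᵁ U, ((hU.preimage f).primeIdealOf ⟨x, hx⟩).asIdeal = Q ∧
      (hU.primeIdealOf ⟨f x, hx⟩).asIdeal = Q.comap (f.app U).hom := by
  have hV := hU.preimage f
  have hx := fromSpec_mem hV ⟨Q, hQ⟩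
  have h1 := primeIdealOf_fromSpec hV ⟨Q, hQ⟩
  have h2 : (hV.primeIdealOf ⟨hV.fromSpec ⟨Q, hQ⟩, hx⟩).asIdeal = Q :=
    congrArg PrimeSpectrum.asIdeal h1
  refine ⟨hV.fromSpec ⟨Q, hQ⟩, hx, h2, ?_⟩
  rw [← comap_primeIdealOf f hU _ hx, h2]

include hU in
theorem ringBir_of_isBirational (hf : RadPt.IsBirational f) :
    letI := (f.app U).hom.toAlgebra
    RingBir Γ(Y, U) Γ(X, f ⁻¹ᵁ U) := by
  letI := (f.app U).hom.toAlgebra
  have hV := hU.preimage f
  refine ⟨?_, ?_, ?_, ?_⟩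
  · intro Q hQ
    obtain ⟨x, hx, hxQ, hfx⟩ := point_of_prime f hU Q hQ.1.1
    have hgen : x ∈ genericPoints X := by
      rw [mem_genericPoints_iff_minimalPrimes hV x hx, hxQ]; exact hQ
    have hgen' := hf.1.mapsTo hgen
    rw [mem_genericPoints_iff_minimalPrimes hU (f x) hx, hfx] at hgen'
    exact hgen'
  · intro P hP
    have hy := fromSpec_mem hU ⟨P, hP.1.1⟩
    have h1 : (hU.primeIdealOf ⟨hU.fromSpec ⟨P, hP.1.1⟩, hy⟩).asIdeal = P :=
      congrArg PrimeSpectrum.asIdeal (primeIdealOf_fromSpec hU ⟨P, hP.1.1⟩)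
    have hgen : hU.fromSpec ⟨P, hP.1.1⟩ ∈ genericPoints Y := by
      rw [mem_genericPoints_iff_minimalPrimes hU _ hy, h1]; exact hP
    obtain ⟨x, hxgen, hfx⟩ := hf.1.surjOn hgen
    have hx : x ∈ f ⁻¹ᵁ U := by
      show f x ∈ U
      rw [hfx]; exact hy
    refine ⟨(hV.primeIdealOf ⟨x, hx⟩).asIdeal, ?_, ?_⟩
    · exact (mem_genericPoints_iff_minimalPrimes hV x hx).mp hxgen
    · have h2 := comap_primeIdealOf f hU x hx
      have h3 : hU.primeIdealOf ⟨f x, hx⟩ = hU.primeIdealOf ⟨hU.fromSpec ⟨P, hP.1.1⟩, hy⟩ := by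
        congr 1
        exact Subtype.ext hfx
      rw [h3, h1] at h2
      exact h2
  · intro P hP Q Q' hQ hQ' hQP hQ'P
    obtain ⟨x, hx, hxQ, hfx⟩ := point_of_prime f hU Q hQ
    obtain ⟨x', hx', hxQ', hfx'⟩ := point_of_prime f hU Q' hQ'
    have hQP' : Q.comap (f.app U).hom = P := hQP
    have hQ'P' : Q'.comap (f.app U).hom = P := hQ'P
    rw [hQP'] at hfx
    rw [hQ'P'] at hfx'
    have hgen : f x ∈ genericPoints Y := by
      rw [mem_genericPoints_iff_minimalPrimes hU _ hx, hfx]; exact hP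
    have h1 : hU.primeIdealOf ⟨f x', hx'⟩ = hU.primeIdealOf ⟨f x, hx⟩ :=
      PrimeSpectrum.ext (hfx'.trans hfx.symm)
    have h2 : f x' = f x := congrArg Subtype.val (primeIdealOf_injective' hU h1)
    have h3 : x = x' := (hf.2 (f x) hgen).1 x x' rfl h2
    subst h3
    rw [← hxQ, ← hxQ']
  · intro P hP Q hQ hQP b
    obtain ⟨x, hx, hxQ, hfx⟩ := point_of_prime f hU Q hQ
    have hQP' : Q.comap (f.app U).hom = P := hQP
    rw [hQP'] at hfx
    have hgen : f x ∈ genericPoints Y := by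
      rw [mem_genericPoints_iff_minimalPrimes hU _ hx, hfx]; exact hP
    have hbij := (hf.2 (f x) hgen).2 x rfl
    obtain ⟨c, hc⟩ := hbij.2 (rho (V := f ⁻¹ᵁ U) x hx b)
    obtain ⟨s, a, hs, hsa⟩ := exists_frac_rho hU (f x) hx c
    rw [hfx] at hs
    refine ⟨s, a, hs, ?_⟩
    rw [← hxQ, ← ker_rho hV x hx, RingHom.mem_ker, map_sub, map_mul]
    have h1 := rho_comp_app f x hx
    have h2 := RingHom.congr_fun h1 s
    have h3 := RingHom.congr_fun h1 a
    simp only [RingHom.comp_apply] at h2 h3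
    change rho (V := f ⁻¹ᵁ U) x hx ((f.app U).hom s) * _ - rho (V := f ⁻¹ᵁ U) x hx ((f.app U).hom a) = 0
    rw [h2, h3, ← hc, ← map_mul, hsa, sub_self]

end Bir



section Ring

variable {A₀ B₀ : Type u} [CommRing A₀] [CommRing B₀] [Algebra A₀ B₀] [Algebra.IsIntegral A₀ B₀]

theorem mem_minimalPrimes_of_min {R : Type*} [CommRing R] (P₀ : Ideal R) (hP₀ : P₀.IsPrime)
    (p : Ideal R) (hP₀p : P₀ ≤ p) (hmin : ∀ P : Ideal R, P.IsPrime → P ≤ p → P₀ ≤ P) :
    P₀ ∈ minimalPrimes R :=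
  ⟨⟨hP₀, bot_le⟩, fun P' hP' hle => hmin P' hP'.1 (hle.trans hP₀p)⟩

theorem iotaB_isIntegral (Q₀ : Ideal B₀) [Q₀.IsPrime] : (iotaB Q₀).IsIntegral := by
  unfold iotaB
  apply RingHom.IsIntegral.trans
  · exact RingHom.isIntegral_of_surjective _ Ideal.Quotient.mk_surjective
  · exact algebraMap_isIntegral_iff.mpr inferInstance

theorem ker_iotaB (Q₀ : Ideal B₀) [Q₀.IsPrime] : RingHom.ker (iotaB Q₀) = Q₀ := by
  ext b
  rw [RingHom.mem_ker]
  unfold iotaB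
  rw [RingHom.comp_apply]
  have hinj : Function.Injective (algebraMap (B₀ ⧸ Q₀) (Nrm Q₀)) := by
    intro x y hxy
    have := congrArg Subtype.val hxy
    exact IsFractionRing.injective (B₀ ⧸ Q₀) (FractionRing (B₀ ⧸ Q₀)) this
  rw [map_eq_zero_iff _ hinj, Ideal.Quotient.eq_zero_iff_mem]

/-- lying over holds for a birational integral extension -/
theorem ring_exists_q (hbir : RingBir A₀ B₀) (p : Ideal A₀) [p.IsPrime] :
    ∃ q : Ideal B₀, q.IsPrime ∧ q.comap (algebraMap A₀ B₀) = p := by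
  obtain ⟨P', hP'min, hP'p⟩ := Ideal.exists_minimalPrimes_le (bot_le : (⊥ : Ideal A₀) ≤ p)
  obtain ⟨Q', hQ'min, hQ'P'⟩ := hbir.surj P' hP'min
  obtain ⟨q, -, hq, hq'⟩ := Ideal.exists_ideal_over_prime_of_isIntegral p (⊥ : Ideal B₀)
    (le_trans (Ideal.comap_mono bot_le) (hQ'P'.le.trans hP'p))
  exact ⟨q, hq, hq'⟩

theorem ring_forward (hbir : RingBir A₀ B₀) (p : Ideal A₀) [p.IsPrime] (A : Type u) [CommRing A]
    [IsLocalRing A] [Algebra A₀ A] [IsLocalization.AtPrime A p]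
    (hGU : CAlg2.IsGeomUnibranch A) :
    (∀ q₁ q₂ : Ideal B₀, q₁.IsPrime → q₂.IsPrime → q₁.comap (algebraMap A₀ B₀) = p →
      q₂.comap (algebraMap A₀ B₀) = p → q₁ = q₂) ∧
    ∀ (q : Ideal B₀) [q.IsPrime] (Bq : Type u) [CommRing Bq] [IsLocalRing Bq] [Algebra B₀ Bq]
      [IsLocalization.AtPrime Bq q] (ψ : A →+* Bq) [IsLocalHom ψ],
      ψ.comp (algebraMap A₀ A) = (algebraMap B₀ Bq).comp (algebraMap A₀ B₀) →
      q.comap (algebraMap A₀ B₀) = p →
      (ResidueField.map ψ).IsPurelyInseparable ∧ CAlg2.IsGeomUnibranch Bq := by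
  obtain ⟨P₀, hP₀, hP₀p, hminA⟩ := exists_min_of_isDomain_red p A hGU.1.1
  have hP₀min : P₀ ∈ minimalPrimes A₀ := mem_minimalPrimes_of_min P₀ hP₀ p hP₀p hminA
  obtain ⟨Q₀, hQ₀min, hQ₀P₀⟩ := hbir.surj P₀ hP₀min
  haveI hQ₀ : Q₀.IsPrime := hQ₀min.1.1
  haveI : Q₀.LiesOver P₀ := ⟨hQ₀P₀.symm⟩
  have hfrac := hbir.frac P₀ hP₀min Q₀ hQ₀ hQ₀P₀
  have hminB : ∀ q : Ideal B₀, q.IsPrime → q.comap (algebraMap A₀ B₀) = p →
      ∀ Q : Ideal B₀, Q.IsPrime → Q ≤ q → Q₀ ≤ Q := by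
    intro q hq hqp Q hQ hQq
    obtain ⟨Q', hQ'min, hQ'Q⟩ := Ideal.exists_minimalPrimes_le (bot_le : (⊥ : Ideal B₀) ≤ Q)
    have hP'min := hbir.mapsTo Q' hQ'min
    have hP'p : Q'.comap (algebraMap A₀ B₀) ≤ p := by
      rw [← hqp]; exact Ideal.comap_mono (hQ'Q.trans hQq)
    have h1 : P₀ ≤ Q'.comap (algebraMap A₀ B₀) := hminA _ hP'min.1.1 hP'p
    have h2 : Q'.comap (algebraMap A₀ B₀) ≤ P₀ := hP'min.2 ⟨hP₀, bot_le⟩ h1
    have h3 : Q'.comap (algebraMap A₀ B₀) = P₀ := le_antisymm h2 h1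
    have h4 : Q' = Q₀ := hbir.uniq P₀ hP₀min Q' Q₀ hQ'min.1.1 hQ₀ h3 hQ₀P₀
    rw [← h4]; exact hQ'Q
  have hSA := numGeomBranches_A P₀ Q₀ hfrac p A hP₀p hminA
  have hTA := numBranches_A P₀ Q₀ hfrac p A hP₀p hminA
  have h1A : Brnch.numGeomBranches A = 1 := (S9236_main A).mpr hGU
  have h1A' : Brnch.numBranches A = 1 := (S9235_main A).mpr hGU.1
  rw [h1A] at hSA
  rw [h1A'] at hTA
  have hsubA := (ENat.card_le_one_iff_subsingleton _).mp hSA.symm.le
  have hsubT := (ENat.card_le_one_iff_subsingleton _).mp hTA.symm.le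
  refine ⟨?_, ?_⟩
  · intro q₁ q₂ hq₁ hq₂ h₁ h₂
    haveI := hq₁
    haveI := hq₂
    refine unique_q (iotaB Q₀) p (iotaB_isIntegral Q₀) hsubT q₁ q₂ h₁ h₂ ?_ ?_
    · rw [ker_iotaB]; exact hminB q₁ hq₁ h₁ q₁ hq₁ le_rfl
    · rw [ker_iotaB]; exact hminB q₂ hq₂ h₂ q₂ hq₂ le_rfl
  · intro q hq Bq _ _ _ _ ψ _ hψ hqp
    have hSB := numGeomBranches_B Q₀ q Bq (hminB q hq hqp q hq le_rfl) (hminB q hq hqp)
    have hsubB := subsingleton_B_of_A (iotaB Q₀) A q Bq ψ hψ hsubA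
    have hneB : Nonempty {τ' : Nrm Q₀ →+* AlgebraicClosure (ResidueField Bq) //
        τ'.comp (iotaB Q₀) = (Brnch.toClosure Bq).comp (algebraMap B₀ Bq)} := by
      rw [← ENat.one_le_card_iff_nonempty, ← hSB]
      exact one_le_numGeomBranches Bq
    refine ⟨purelyInseparable_of_A (iotaB Q₀) A q Bq ψ hψ hsubA hneB, ?_⟩
    rw [← S9236_main, hSB]
    exact le_antisymm ((ENat.card_le_one_iff_subsingleton _).mpr hsubB)
      ((ENat.one_le_card_iff_nonempty _).mpr hneB)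

theorem ring_backward (hbir : RingBir A₀ B₀) (p : Ideal A₀) [p.IsPrime] (A : Type u) [CommRing A]
    [IsLocalRing A] [Algebra A₀ A] [IsLocalization.AtPrime A p]
    (q : Ideal B₀) [hq : q.IsPrime] (hqp : q.comap (algebraMap A₀ B₀) = p)
    (huniq : ∀ q' : Ideal B₀, q'.IsPrime → q'.comap (algebraMap A₀ B₀) = p → q' = q)
    (Bq : Type u) [CommRing Bq] [IsLocalRing Bq] [Algebra B₀ Bq]
    [IsLocalization.AtPrime Bq q] (ψ : A →+* Bq) [IsLocalHom ψ]
    (hψ : ψ.comp (algebraMap A₀ A) = (algebraMap B₀ Bq).comp (algebraMap A₀ B₀))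
    (hPI : (ResidueField.map ψ).IsPurelyInseparable) (hGU : CAlg2.IsGeomUnibranch Bq) :
    CAlg2.IsGeomUnibranch A := by
  obtain ⟨Q₀, hQ₀, hQ₀q, hminB⟩ := exists_min_of_isDomain_red q Bq hGU.1.1
  have hQ₀min : Q₀ ∈ minimalPrimes B₀ := mem_minimalPrimes_of_min Q₀ hQ₀ q hQ₀q hminB
  have hP₀min := hbir.mapsTo Q₀ hQ₀min
  haveI hP₀ : (Q₀.comap (algebraMap A₀ B₀)).IsPrime := hP₀min.1.1
  haveI : Q₀.LiesOver (Q₀.comap (algebraMap A₀ B₀)) := ⟨rfl⟩
  have hP₀p : Q₀.comap (algebraMap A₀ B₀) ≤ p := by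
    rw [← hqp]; exact Ideal.comap_mono hQ₀q
  have hfrac := hbir.frac _ hP₀min Q₀ hQ₀ rfl
  have hminA : ∀ P : Ideal A₀, P.IsPrime → P ≤ p → Q₀.comap (algebraMap A₀ B₀) ≤ P := by
    intro P hP hPp
    obtain ⟨P', hP'min, hP'P⟩ := Ideal.exists_minimalPrimes_le (bot_le : (⊥ : Ideal A₀) ≤ P)
    obtain ⟨Q', hQ'min, hQ'P'⟩ := hbir.surj P' hP'min
    haveI := hQ'min.1.1
    obtain ⟨q', hQ'q', hq', hq'p⟩ := Ideal.exists_ideal_over_prime_of_isIntegral_of_isPrime p Q'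
      (hQ'P'.le.trans (hP'P.trans hPp))
    have e : q' = q := huniq q' hq' hq'p
    rw [e] at hQ'q'
    have h1 : Q₀ ≤ Q' := hminB Q' hQ'min.1.1 hQ'q'
    have h2 : Q' ≤ Q₀ := hQ'min.2 ⟨hQ₀, bot_le⟩ h1
    have h3 : Q' = Q₀ := le_antisymm h2 h1
    rw [← h3, hQ'P']; exact hP'P
  have hSA := numGeomBranches_A _ Q₀ hfrac p A hP₀p hminA
  have hSB := numGeomBranches_B Q₀ q Bq hQ₀q hminB
  have h1B : Brnch.numGeomBranches Bq = 1 := (S9236_main Bq).mpr hGU
  rw [h1B] at hSB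
  have hsubB := (ENat.card_le_one_iff_subsingleton _).mp hSB.symm.le
  have hsubA := subsingleton_A_of_B (iotaB Q₀) p A q Bq ψ hψ huniq hsubB hPI
  rw [← S9236_main]
  apply le_antisymm
  · rw [hSA]; exact (ENat.card_le_one_iff_subsingleton _).mpr hsubA
  · exact one_le_numGeomBranches A

end Ring


end Groth.Agent.Lib.Helper4.RadBir3
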