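import Mathlib
import Groth.Prelude.Def_EGA4c

/-!
# Z-pure and Z-closed modules (EGA IV 5.10): sections of M~ over the complement of V(J), depth >= 2 iff closed (helper4)
-/

set_option backward.isDefEq.respectTransparency.types false
set_option synthInstance.maxHeartbeats 400000
set_option autoImplicit false
set_option linter.unusedSectionVars false
set_option linter.style.haveILetI false
set_option linter.unusedSimpArgs false
universe u v w
open CategoryTheory CategoryTheory.Limits AlgebraicGeometry TopologicalSpace IsLocalRing Opposite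

namespace Groth.Agent.Lib.Helper4.Hartogs1
section S0

variable (A : Type u) [CommRing A] (J : Ideal A) (M : Type u) [AddCommGroup M] [Module A M]

/-- the open complement as an open of PrimeSpectrum.Top -/
def oc : Opens (PrimeSpectrum.Top A) :=
  ⟨(PrimeSpectrum.zeroLocus (J : Set A))ᶜ, (PrimeSpectrum.isClosed_zeroLocus _).isOpen_compl⟩

abbrev Sec (U : Opens (PrimeSpectrum.Top A)) : Type u := (structureSheafInType A M).obj.obj (op U)

example : (EGA4.openCompl A J : Opens (PrimeSpectrum.Top A)) = oc A J := rfl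

-- the function underlying restrCompl
lemma restrCompl_apply (s : Sec A M ⊤) :
    (EGA4.restrCompl A J M).hom s = (structureSheafInType A M).obj.map (homOfLE (le_top : oc A J ≤ ⊤)).op s := rfl

lemma restrCompl_toOpen (m : M) :
    (EGA4.restrCompl A J M).hom (StructureSheaf.toOpenₗ A M ⊤ m) = StructureSheaf.toOpenₗ A M (oc A J) m := rfl

lemma inj_iff : Function.Injective (EGA4.restrCompl A J M) ↔
    Function.Injective (StructureSheaf.toOpenₗ A M (oc A J)) := by
  have hb := StructureSheaf.toOpenₗ_top_bijective (R := A) (M := M)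
  constructor
  · intro h m m' e
    apply hb.1
    apply h
    exact e
  · intro h s s' e
    obtain ⟨m, rfl⟩ := hb.2 s
    obtain ⟨m', rfl⟩ := hb.2 s'
    congr 1
    apply h
    exact e

lemma surj_iff : Function.Surjective (EGA4.restrCompl A J M) ↔
    Function.Surjective (StructureSheaf.toOpenₗ A M (oc A J)) := by
  have hb := StructureSheaf.toOpenₗ_top_bijective (R := A) (M := M)
  constructor
  · intro h s
    obtain ⟨t, ht⟩ := h s
    obtain ⟨m, rfl⟩ := hb.2 t
    exact ⟨m, ht⟩
  · intro h s
    obtain ⟨m, hm⟩ := h s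
    exact ⟨StructureSheaf.toOpenₗ A M ⊤ m, hm⟩


end S0

section S1

variable (A : Type u) [CommRing A] (J : Ideal A) (M : Type u) [AddCommGroup M] [Module A M]

variable {A J M}

lemma mem_oc {x : PrimeSpectrum.Top A} : x ∈ oc A J ↔ ¬ J ≤ x.asIdeal := by
  exact not_congr (PrimeSpectrum.mem_zeroLocus (x : PrimeSpectrum A) (J : Set A))

lemma sec_ext {U : Opens (PrimeSpectrum.Top A)} {s t : Sec A M U} (h : ∀ x : U, s.1 x = t.1 x) : s = t :=
  Subtype.ext (funext h)

lemma toOpen_apply (U : Opens (PrimeSpectrum.Top A)) (m : M) (x : U) :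
    (StructureSheaf.toOpenₗ A M U m).1 x = LocalizedModule.mk m 1 := rfl

lemma zero_apply (U : Opens (PrimeSpectrum.Top A)) (x : U) : (0 : Sec A M U).1 x = 0 := rfl

lemma mk_one_eq_zero_iff {p : Ideal A} [p.IsPrime] (m : M) :
    (LocalizedModule.mk m 1 : LocalizedModule p.primeCompl M) = 0 ↔ ∃ s : A, s ∉ p ∧ s • m = 0 := by
  rw [← LocalizedModule.mkLinearMap_apply, IsLocalizedModule.eq_zero_iff p.primeCompl]
  constructor
  · rintro ⟨s, hs⟩
    exact ⟨s.1, s.2, hs⟩
  · rintro ⟨s, hs, h⟩
    exact ⟨⟨s, hs⟩, h⟩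

lemma toOpen_eq_zero_iff (U : Opens (PrimeSpectrum.Top A)) (m : M) :
    StructureSheaf.toOpenₗ A M U m = 0 ↔ ∀ x ∈ U, ∃ s : A, s ∉ (x : PrimeSpectrum.Top A).asIdeal ∧ s • m = 0 := by
  constructor
  · intro h x hx
    have := congrArg (fun s => s.1 ⟨x, hx⟩) h
    simp only [toOpen_apply, zero_apply] at this
    exact (mk_one_eq_zero_iff m).1 this
  · intro h
    apply sec_ext
    intro x
    rw [toOpen_apply, zero_apply]
    exact (mk_one_eq_zero_iff m).2 (h x.1 x.2)

/-- vanishing on the complement of `V(J)` in terms of the annihilator -/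
lemma toOpen_oc_eq_zero_iff (m : M) :
    StructureSheaf.toOpenₗ A M (oc A J) m = 0 ↔
      ∀ p : Ideal A, p.IsPrime → (⊥ : Submodule A M).colon {m} ≤ p → J ≤ p := by
  rw [toOpen_eq_zero_iff]
  constructor
  · intro h p hp hle
    by_contra hJ
    obtain ⟨s, hs, hsm⟩ := h ⟨p, hp⟩ (mem_oc.2 hJ)
    exact hs (hle (by rw [Submodule.mem_colon_singleton]; simpa using hsm))
  · intro h x hx
    by_contra hcon
    push Not at hcon
    apply mem_oc.1 hx
    apply h x.asIdeal x.2
    intro s hs
    by_contra hsx
    rw [Submodule.mem_colon_singleton] at hs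
    exact hcon s hsx (by simpa using hs)


end S1

section S2

variable (A : Type u) [CommRing A] (J : Ideal A) (M : Type u) [AddCommGroup M] [Module A M]

variable {A J M}

lemma zeroLocus_subset_of_mem {Z : Set (PrimeSpectrum A)} (hZ : StableUnderSpecialization Z)
    {p : PrimeSpectrum A} (hp : p ∈ Z) : PrimeSpectrum.zeroLocus (p.asIdeal : Set A) ⊆ Z := by
  intro q hq
  rw [PrimeSpectrum.mem_zeroLocus] at hq
  have : p ⤳ q := (PrimeSpectrum.le_iff_specializes p q).1 hq
  exact hZ this hp

variable (M) in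
theorem isPureAlong_iff [IsNoetherianRing A] (Z : Set (PrimeSpectrum A))
    (hZ : StableUnderSpecialization Z) :
    EGA4.IsPureAlong Z M ↔ ∀ p : PrimeSpectrum A, p.asIdeal ∈ associatedPrimes A M → p ∉ Z := by
  constructor
  · intro h p hp hpZ
    have hp' : IsAssociatedPrime p.asIdeal M := hp
    rw [isAssociatedPrime_iff] at hp'
    obtain ⟨-, m, hm⟩ := hp'
    have hinj := (inj_iff A p.asIdeal M).1 (h p.asIdeal (zeroLocus_subset_of_mem hZ hpZ))
    have h0 : StructureSheaf.toOpenₗ A M (oc A p.asIdeal) m = 0 := by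
      rw [toOpen_oc_eq_zero_iff]
      intro P _ hle
      rw [hm]; exact hle
    have hm0 : m = 0 := hinj (by rw [h0, map_zero])
    have : p.asIdeal = ⊤ := by
      rw [hm, hm0]
      rw [Ideal.eq_top_iff_one, Submodule.mem_colon_singleton]
      simp
    exact p.2.ne_top this
  · intro h J hJ
    rw [inj_iff]
    rw [injective_iff_map_eq_zero]
    intro m hm
    by_contra hne
    obtain ⟨P, hP, hle⟩ := exists_le_isAssociatedPrime_of_isNoetherianRing A m hne
    have hJP : J ≤ P := (toOpen_oc_eq_zero_iff m).1 hm P hP.isPrime hle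
    exact h ⟨P, hP.isPrime⟩ hP (hJ (by rw [PrimeSpectrum.mem_zeroLocus]; exact hJP))

theorem S4720_main [IsNoetherianRing A]
    (Z : Set (PrimeSpectrum A)) (hZ : StableUnderSpecialization Z)
    (N : Submodule A M) :
    (EGA4.IsPureAlong Z M → EGA4.IsPureAlong Z ↥N) ∧
      (EGA4.IsPureAlong Z ↥N → EGA4.IsPureAlong Z (M ⧸ N) → EGA4.IsPureAlong Z M) := by
  simp only [isPureAlong_iff _ Z hZ]
  constructor
  · intro h p hp
    exact h p (associatedPrimes.subset_of_injective (f := N.subtype) N.injective_subtype hp)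
  · intro h1 h2 p hp
    have := associatedPrimes.subset_union_of_exact (f := N.subtype) (g := N.mkQ) N.injective_subtype
      (LinearMap.exact_subtype_mkQ N) hp
    rcases this with h | h
    · exact h1 p h
    · exact h2 p h


end S2

section S3

section Reg

variable {R : Type u} [CommRing R] {N : Type v} [AddCommGroup N] [Module R N]

open Pointwise in
lemma regular_quot_iff (x y : R) :
    IsSMulRegular (QuotSMulTop x N) y ↔
      ∀ n : N, y • n ∈ x • (⊤ : Submodule R N) → n ∈ x • (⊤ : Submodule R N) := by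
  rw [isSMulRegular_iff_right_eq_zero_of_smul]
  constructor
  · intro h n hn
    have := h (Submodule.Quotient.mk n) (by
      rw [← Submodule.Quotient.mk_smul, Submodule.Quotient.mk_eq_zero]; exact hn)
    rwa [Submodule.Quotient.mk_eq_zero] at this
  · intro h n hn
    induction n using Submodule.Quotient.induction_on with
    | H n =>
      rw [← Submodule.Quotient.mk_smul, Submodule.Quotient.mk_eq_zero] at hn
      rw [Submodule.Quotient.mk_eq_zero]
      exact h n hn

open Pointwise in
lemma mem_smul_top_iff (x : R) (n : N) : n ∈ x • (⊤ : Submodule R N) ↔ ∃ n' : N, n = x • n' := by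
  rw [Submodule.mem_smul_pointwise_iff_exists]
  constructor
  · rintro ⟨n', -, rfl⟩; exact ⟨n', rfl⟩
  · rintro ⟨n', rfl⟩; exact ⟨n', trivial, rfl⟩

theorem exists_regular_mem_iff [IsNoetherianRing R] [Module.Finite R N] (I : Ideal R) :
    (∃ r ∈ I, IsSMulRegular N r) ↔ ∀ P ∈ associatedPrimes R N, ¬ I ≤ P := by
  have hU := biUnion_associatedPrimes_eq_compl_regular R N
  constructor
  · rintro ⟨r, hrI, hr⟩ P hP hle
    have : r ∈ ⋃ p ∈ associatedPrimes R N, (p : Set R) := by
      simp only [Set.mem_iUnion]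
      exact ⟨P, hP, hle hrI⟩
    rw [hU] at this
    exact this hr
  · intro h
    by_contra hcon
    push Not at hcon
    have hfin : (associatedPrimes R N).Finite := associatedPrimes.finite R N
    have hsub : (I : Set R) ⊆ ⋃ p ∈ (hfin.toFinset : Set (Ideal R)), (p : Set R) := by
      intro r hr
      have : r ∈ ({ r : R | IsSMulRegular N r }ᶜ : Set R) := hcon r hr
      rw [← hU] at this
      simpa using this
    rw [Ideal.subset_union_prime (f := fun p : Ideal R => p) ⊥ ⊥ (by
      intro i hi _ _
      exact (hfin.mem_toFinset.1 hi).isPrime)] at hsub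
    obtain ⟨P, hP, hle⟩ := hsub
    exact h P (hfin.mem_toFinset.1 hP) hle

end Reg

section LocalDepth

variable {R : Type u} [CommRing R] [IsLocalRing R] {N : Type v} [AddCommGroup N] [Module R N]

lemma smul_top_eq_top_iff [Module.Finite R N] :
    maximalIdeal R • (⊤ : Submodule R N) = ⊤ ↔ Subsingleton N := by
  constructor
  · intro h
    have := Submodule.eq_bot_of_le_smul_of_le_jacobson_bot (maximalIdeal R) (⊤ : Submodule R N)
      Module.Finite.fg_top (by rw [h]) (by rw [IsLocalRing.jacobson_eq_maximalIdeal ⊥ bot_ne_top])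
    exact (Submodule.subsingleton_iff R).1 (subsingleton_of_bot_eq_top this.symm)
  · intro h
    exact Subsingleton.elim _ _

theorem one_le_depth_iff [Module.Finite R N] :
    (1 : ℕ∞) ≤ LocCoh.depth R N ↔
      Subsingleton N ∨ ∃ r ∈ maximalIdeal R, IsSMulRegular N r := by
  classical
  unfold LocCoh.depth LocCoh.idealDepth
  split_ifs with h
  · simp only [le_top, true_iff]
    exact Or.inl (smul_top_eq_top_iff.1 h)
  · constructor
    · intro hle
      right
      by_contra hcon
      push Not at hcon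
      have : (⨆ (rs : List R) (_ : RingTheory.Sequence.IsWeaklyRegular N rs ∧ ∀ r ∈ rs, r ∈ maximalIdeal R),
          (rs.length : ℕ∞)) ≤ 0 := by
        apply iSup₂_le
        rintro rs ⟨hreg, hmem⟩
        cases rs with
        | nil => simp
        | cons r rs' =>
          exfalso
          rw [RingTheory.Sequence.isWeaklyRegular_cons_iff] at hreg
          exact hcon r (hmem r (by simp)) hreg.1
      have := hle.trans this
      simp at this
    · rintro (hs | ⟨r, hr, hreg⟩)
      · exact absurd (smul_top_eq_top_iff.2 hs) h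
      · refine le_iSup₂_of_le [r] ⟨?_, ?_⟩ (by simp)
        · rw [RingTheory.Sequence.isWeaklyRegular_singleton_iff]; exact hreg
        · intro r' hr'; simp at hr'; rw [hr']; exact hr

theorem two_le_depth_iff [Module.Finite R N] :
    (2 : ℕ∞) ≤ LocCoh.depth R N ↔
      Subsingleton N ∨ ∃ r ∈ maximalIdeal R, ∃ r' ∈ maximalIdeal R,
        IsSMulRegular N r ∧ IsSMulRegular (QuotSMulTop r N) r' := by
  classical
  unfold LocCoh.depth LocCoh.idealDepth
  split_ifs with h
  · simp only [le_top, true_iff]
    exact Or.inl (smul_top_eq_top_iff.1 h)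
  · constructor
    · intro hle
      right
      by_contra hcon
      push Not at hcon
      have : (⨆ (rs : List R) (_ : RingTheory.Sequence.IsWeaklyRegular N rs ∧ ∀ r ∈ rs, r ∈ maximalIdeal R),
          (rs.length : ℕ∞)) ≤ 1 := by
        apply iSup₂_le
        rintro rs ⟨hreg, hmem⟩
        cases rs with
        | nil => simp
        | cons r rs' =>
          cases rs' with
          | nil => simp
          | cons r' rs'' =>
            exfalso
            rw [RingTheory.Sequence.isWeaklyRegular_cons_iff] at hreg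
            obtain ⟨h1, h2⟩ := hreg
            rw [RingTheory.Sequence.isWeaklyRegular_cons_iff] at h2
            exact hcon r (hmem r (by simp)) r' (hmem r' (by simp)) h1 h2.1
      have := hle.trans this
      norm_num at this
    · rintro (hs | ⟨r, hr, r', hr', hreg, hreg'⟩)
      · exact absurd (smul_top_eq_top_iff.2 hs) h
      · refine le_iSup₂_of_le [r, r'] ⟨?_, ?_⟩ (by simp)
        · rw [RingTheory.Sequence.isWeaklyRegular_cons_iff,
            RingTheory.Sequence.isWeaklyRegular_singleton_iff]
          exact ⟨hreg, hreg'⟩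
        · intro r'' hr''
          simp at hr''
          rcases hr'' with rfl | rfl
          · exact hr
          · exact hr'

end LocalDepth


end S3

section S4

variable {A : Type u} [CommRing A] {M : Type u} [AddCommGroup M] [Module A M]

example (p : Ideal A) [p.IsPrime] [IsNoetherianRing A] [Module.Finite A M] :
  Module.Finite (Localization.AtPrime p) (LocalizedModule p.primeCompl M) := inferInstance
example (p : Ideal A) [p.IsPrime] [IsNoetherianRing A] : IsNoetherianRing (Localization.AtPrime p) := inferInstance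

lemma maximalIdeal_mem_ass_iff [IsNoetherianRing A] (p : Ideal A) [p.IsPrime] :
    maximalIdeal (Localization.AtPrime p) ∈
      associatedPrimes (Localization.AtPrime p) (LocalizedModule p.primeCompl M) ↔
    p ∈ associatedPrimes A M := by
  rw [← Module.associatedPrimes.preimage_comap_associatedPrimes_eq_associatedPrimes_of_isLocalizedModule
    p.primeCompl (Localization.AtPrime p) (LocalizedModule.mkLinearMap p.primeCompl M)]
  rw [Set.mem_preimage]
  have : Ideal.comap (algebraMap A (Localization.AtPrime p)) (maximalIdeal (Localization.AtPrime p)) = p :=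
    IsLocalization.AtPrime.under_maximalIdeal (Localization.AtPrime p) p
  rw [this]

theorem one_le_depth_localized_iff [IsNoetherianRing A] [Module.Finite A M] (p : Ideal A) [p.IsPrime] :
    (1 : ℕ∞) ≤ LocCoh.depth (Localization.AtPrime p) (LocalizedModule p.primeCompl M) ↔
      p ∉ associatedPrimes A M := by
  rw [one_le_depth_iff, exists_regular_mem_iff, ← maximalIdeal_mem_ass_iff (M := M) p]
  constructor
  · rintro (h | h)
    · rw [associatedPrimes.eq_empty_of_subsingleton]; simp
    · intro hm
      exact h _ hm le_rfl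
  · intro h
    right
    intro P hP hle
    have hPprime : P.IsPrime := IsAssociatedPrime.isPrime hP
    have : P = maximalIdeal (Localization.AtPrime p) :=
      le_antisymm (IsLocalRing.le_maximalIdeal hPprime.ne_top) hle
    exact h (this ▸ hP)


end S4

section S5

variable (A : Type u) [CommRing A] (J : Ideal A) (M : Type u) [AddCommGroup M] [Module A M]

variable {A J M}

lemma regular_localizedModule (S : Submonoid A) {x : A} (h : IsSMulRegular M x) :
    IsSMulRegular (LocalizedModule S M) x := by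
  rw [isSMulRegular_iff_right_eq_zero_of_smul]
  intro n hn
  induction n using LocalizedModule.induction_on with
  | h m s =>
    rw [LocalizedModule.smul'_mk, ← LocalizedModule.zero_mk s, LocalizedModule.mk_eq] at hn
    obtain ⟨w, hw⟩ := hn
    rw [← LocalizedModule.zero_mk s, LocalizedModule.mk_eq]
    refine ⟨w, ?_⟩
    simp only [smul_zero] at hw ⊢
    apply h
    simp only [smul_zero]
    rw [Submonoid.smul_def, Submonoid.smul_def, smul_comm x, smul_comm x]
    exact hw

lemma sub_apply' {U : Opens (PrimeSpectrum.Top A)} (s t : Sec A M U) (x : U) :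
    (s - t).1 x = s.1 x - t.1 x := rfl

/-- a section over `U` killed by an `M`-regular element is zero -/
lemma sec_eq_zero_of_smul_eq_zero {U : Opens (PrimeSpectrum.Top A)} {x : A} (hx : IsSMulRegular M x)
    (t : Sec A M U) (h : x • t = 0) : t = 0 := by
  apply sec_ext
  intro z
  rw [zero_apply]
  have := congrArg (fun s => s.1 z) h
  simp only [structureSheafInType.smul_apply, zero_apply] at this
  exact (isSMulRegular_iff_right_eq_zero_of_smul.1 (regular_localizedModule _ hx)) _ this

lemma basicOpen_le_oc {x : A} (hx : x ∈ J) : PrimeSpectrum.basicOpen x ≤ oc A J := by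
  intro z hz
  refine mem_oc.2 ?_
  intro hle
  exact hz (hle hx)

/-- a section over `U` vanishing on `D(x)` for an `M`-regular element `x` is zero -/
lemma sec_eq_zero_of_vanish_basicOpen {U : Opens (PrimeSpectrum.Top A)} {x : A} (hx : IsSMulRegular M x)
    (t : Sec A M U) (h : ∀ z : U, x ∉ z.1.asIdeal → t.1 z = 0) : t = 0 := by
  apply sec_ext
  intro z
  rw [zero_apply]
  obtain ⟨g, hzg, hgU, n, hn⟩ := StructureSheaf.exists_const U t z.1 z.2
  have hval : ∀ w : PrimeSpectrum.basicOpen g, t.1 ⟨w.1, hgU w.2⟩ = LocalizedModule.mk n ⟨g, w.2⟩ := by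
    intro w
    have := congrArg (fun s => s.1 w) hn
    exact this.symm
  -- `n` vanishes in `M_{gx}`
  have h0 : StructureSheaf.toOpenₗ A M (PrimeSpectrum.basicOpen (g * x)) n = 0 := by
    apply sec_ext
    intro w
    rw [toOpen_apply, zero_apply]
    have hw : w.1 ∈ PrimeSpectrum.basicOpen g ⊓ PrimeSpectrum.basicOpen x := by
      rw [← PrimeSpectrum.basicOpen_mul]; exact w.2
    have h1 := hval ⟨w.1, hw.1⟩
    rw [h ⟨w.1, hgU hw.1⟩ hw.2] at h1
    have h2 : (LocalizedModule.mk n 1 : LocalizedModule w.1.asIdeal.primeCompl M) =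
        g • (LocalizedModule.mk n ⟨g, hw.1⟩ : LocalizedModule w.1.asIdeal.primeCompl M) := by
      rw [LocalizedModule.smul'_mk, LocalizedModule.mk_eq]
      exact ⟨1, by simp [Submonoid.smul_def]⟩
    rw [h2, ← h1, smul_zero]
  have h3 := (IsLocalizedModule.eq_zero_iff (Submonoid.powers (g * x))
    (StructureSheaf.toOpenₗ A M (PrimeSpectrum.basicOpen (g * x)))).1 h0
  obtain ⟨⟨c, N, rfl⟩, hc⟩ := h3
  simp only [Submonoid.smul_def] at hc
  rw [mul_pow, mul_comm, mul_smul] at hc
  have h4 : g ^ N • n = 0 := (isSMulRegular_iff_right_eq_zero_of_smul.1 (hx.pow N)) _ hc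
  rw [hval ⟨z.1, hzg⟩, ← LocalizedModule.zero_mk ⟨g, hzg⟩, LocalizedModule.mk_eq]
  refine ⟨⟨g ^ N, z.1.asIdeal.primeCompl.pow_mem hzg N⟩, ?_⟩
  simp only [smul_zero, Submonoid.smul_def]
  rw [smul_comm, h4, smul_zero]


end S5

section S6

variable (A : Type u) [CommRing A] (J : Ideal A) (M : Type u) [AddCommGroup M] [Module A M]

variable {A J M}

lemma exists_pow_smul_eq_toOpen {x : A} (hxJ : x ∈ J) (hx : IsSMulRegular M x) (s : Sec A M (oc A J)) :
    ∃ (k : ℕ) (m : M), x ^ k • s = StructureSheaf.toOpenₗ A M (oc A J) m := by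
  have hle := basicOpen_le_oc (J := J) hxJ
  let s' : Sec A M (PrimeSpectrum.basicOpen x) := (structureSheafInType A M).obj.map hle.hom.op s
  obtain ⟨⟨m, ⟨c, k, rfl⟩⟩, hm⟩ := IsLocalizedModule.surj (Submonoid.powers x)
    (StructureSheaf.toOpenₗ A M (PrimeSpectrum.basicOpen x)) s'
  refine ⟨k, m, ?_⟩
  rw [← sub_eq_zero]
  apply sec_eq_zero_of_vanish_basicOpen hx
  intro z hz
  rw [sub_apply', structureSheafInType.smul_apply, toOpen_apply, sub_eq_zero]
  have := congrArg (fun t => t.1 ⟨z.1, hz⟩) hm
  simp only [Submonoid.smul_def, structureSheafInType.smul_apply, toOpen_apply] at this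
  exact this

lemma toOpen_injective_of_regular {x : A} (hxJ : x ∈ J) (hx : IsSMulRegular M x) :
    Function.Injective (StructureSheaf.toOpenₗ A M (oc A J)) := by
  rw [injective_iff_map_eq_zero]
  intro m hm
  have hle := basicOpen_le_oc (J := J) hxJ
  have h0 : StructureSheaf.toOpenₗ A M (PrimeSpectrum.basicOpen x) m = 0 := by
    apply sec_ext
    intro z
    rw [toOpen_apply, zero_apply]
    have := congrArg (fun t => t.1 ⟨z.1, hle z.2⟩) hm
    simpa only [toOpen_apply, zero_apply] using this
  obtain ⟨⟨c, N, rfl⟩, hc⟩ := (IsLocalizedModule.eq_zero_iff (Submonoid.powers x)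
    (StructureSheaf.toOpenₗ A M (PrimeSpectrum.basicOpen x))).1 h0
  simp only [Submonoid.smul_def] at hc
  exact (isSMulRegular_iff_right_eq_zero_of_smul.1 (hx.pow N)) _ hc

/-- powers of a regular pair -/
lemma regular_pow_quot {R : Type u} [CommRing R] {N : Type v} [AddCommGroup N] [Module R N]
    {x y : R} (hx : IsSMulRegular N x)
    (hy : ∀ n : N, (∃ n', y • n = x • n') → ∃ n', n = x • n') (k l : ℕ) :
    ∀ n : N, (∃ n', y ^ l • n = x ^ k • n') → ∃ n', n = x ^ k • n' := by
  have key : ∀ k : ℕ, ∀ n : N, (∃ n', y • n = x ^ k • n') → ∃ n', n = x ^ k • n' := by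
    intro k
    induction k with
    | zero => intro n _; exact ⟨n, by simp⟩
    | succ k ih =>
      rintro n ⟨n', hn'⟩
      obtain ⟨n1, rfl⟩ := hy n ⟨x ^ k • n', by rw [hn', pow_succ', mul_smul]⟩
      have h1 : y • n1 = x ^ k • n' := by
        apply hx
        simp only
        rw [smul_comm, hn', pow_succ', mul_smul]
      obtain ⟨n2, rfl⟩ := ih n1 ⟨n', h1⟩
      exact ⟨n2, by rw [pow_succ', mul_smul]⟩
  induction l with
  | zero => intro n ⟨n', hn'⟩; exact ⟨n', by simpa using hn'⟩
  | succ l ih =>
    rintro n ⟨n', hn'⟩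
    apply ih
    apply key k
    refine ⟨n', ?_⟩
    rw [← hn', pow_succ', mul_smul]

theorem surjective_of_regular_pair {x y : A} (hxJ : x ∈ J) (hyJ : y ∈ J) (hx : IsSMulRegular M x)
    (hy : IsSMulRegular M y) (hxy : IsSMulRegular (QuotSMulTop x M) y) :
    Function.Surjective (StructureSheaf.toOpenₗ A M (oc A J)) := by
  intro s
  obtain ⟨k, m1, h1⟩ := exists_pow_smul_eq_toOpen hxJ hx s
  obtain ⟨l, m2, h2⟩ := exists_pow_smul_eq_toOpen hyJ hy s
  have hinj := toOpen_injective_of_regular (J := J) hxJ hx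
  have h3 : y ^ l • m1 = x ^ k • m2 := by
    apply hinj
    rw [map_smul, map_smul, ← h1, ← h2, smul_comm]
  have hy' : ∀ n : M, (∃ n', y • n = x • n') → ∃ n', n = x • n' := by
    intro n hn
    rw [← mem_smul_top_iff] at hn ⊢
    exact (regular_quot_iff x y).1 hxy n hn
  obtain ⟨m, rfl⟩ := regular_pow_quot hx hy' k l m1 ⟨m2, h3⟩
  refine ⟨m, ?_⟩
  symm
  rw [← sub_eq_zero]
  apply sec_eq_zero_of_smul_eq_zero (hx.pow k)
  rw [smul_sub, h1, map_smul, sub_self]


end S6

section S7

variable {A : Type u} [CommRing A] {M : Type u} [AddCommGroup M] [Module A M]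

/-- exchange lemma for regular elements -/
lemma exchange {R : Type u} [CommRing R] {N : Type v} [AddCommGroup N] [Module R N] (I : Ideal R)
    {x y : R} (hyI : y ∈ I) (hx : IsSMulRegular N x) (hy : IsSMulRegular N y) (u : N)
    (hu : ¬ ∃ n, u = x • n) (hI : ∀ a ∈ I, ∃ n, a • u = x • n) :
    ∃ v : N, (¬ ∃ n, v = y • n) ∧ ∀ a ∈ I, ∃ n, a • v = y • n := by
  obtain ⟨v, hv⟩ := hI y hyI
  refine ⟨v, ?_, ?_⟩
  · rintro ⟨v', rfl⟩
    apply hu
    refine ⟨v', ?_⟩
    apply hy
    simp only
    rw [hv, smul_comm]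
  · intro a ha
    obtain ⟨w, hw⟩ := hI a ha
    refine ⟨w, ?_⟩
    apply hx
    simp only
    rw [smul_comm x a v, ← hv, smul_comm a y u, hw, smul_comm]

/-- the localization action: `algebraMap x • n = x • n` regularity transfer -/
lemma regular_algebraMap_iff {R : Type u} [CommRing R] [Algebra A R] {N : Type v} [AddCommGroup N]
    [Module A N] [Module R N] [IsScalarTower A R N] (x : A) :
    IsSMulRegular N (algebraMap A R x) ↔ IsSMulRegular N x := by
  unfold IsSMulRegular
  have : (fun n : N => algebraMap A R x • n) = fun n : N => x • n := by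
    funext n; rw [algebraMap_smul]
  rw [this]

theorem not_two_le_depth_of_mem_ass_quot [IsNoetherianRing A] [Module.Finite A M] {x : A}
    (hx : IsSMulRegular M x) (P : Ideal A) [P.IsPrime]
    (hP : P ∈ associatedPrimes A (QuotSMulTop x M)) :
    ¬ (2 : ℕ∞) ≤ LocCoh.depth (Localization.AtPrime P) (LocalizedModule P.primeCompl M) := by
  have hP' : IsAssociatedPrime P (QuotSMulTop x M) := hP
  rw [isAssociatedPrime_iff] at hP'
  obtain ⟨-, ubar, hu⟩ := hP'
  obtain ⟨u, rfl⟩ := Submodule.Quotient.mk_surjective _ ubar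
  have hmem : ∀ a : A, a ∈ P ↔ ∃ n, a • u = x • n := by
    intro a
    rw [hu, Submodule.mem_colon_singleton, Submodule.mem_bot, ← Submodule.Quotient.mk_smul,
      Submodule.Quotient.mk_eq_zero, mem_smul_top_iff]
  have hxP : x ∈ P := (hmem x).2 ⟨u, rfl⟩
  intro h2
  rw [two_le_depth_iff] at h2
  rcases h2 with hs | ⟨r, hr, r', hr', hreg, hreg'⟩
  · have : (LocalizedModule.mk u 1 : LocalizedModule P.primeCompl M) = 0 := Subsingleton.elim _ _
    obtain ⟨g, hg, hgu⟩ := (mk_one_eq_zero_iff u).1 this
    exact hg ((hmem g).2 ⟨0, by rw [hgu, smul_zero]⟩)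
  · have hXreg : IsSMulRegular (LocalizedModule P.primeCompl M) (algebraMap A (Localization.AtPrime P) x) :=
      (regular_algebraMap_iff x).2 (regular_localizedModule _ hx)
    have hu' : ¬ ∃ n : LocalizedModule P.primeCompl M,
        (LocalizedModule.mk u 1 : LocalizedModule P.primeCompl M) =
          (algebraMap A (Localization.AtPrime P) x) • n := by
      rintro ⟨n, hn⟩
      induction n using LocalizedModule.induction_on with
      | h n0 s =>
        rw [algebraMap_smul, LocalizedModule.smul'_mk, LocalizedModule.mk_eq] at hn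
        obtain ⟨w, hw⟩ := hn
        simp only [one_smul, Submonoid.smul_def] at hw
        have : (w.1 * s.1) ∈ P := (hmem _).2 ⟨w.1 • n0, by rw [mul_smul, hw, smul_comm]⟩
        exact (P.primeCompl.mul_mem w.2 s.2) this
    have hI : ∀ a ∈ maximalIdeal (Localization.AtPrime P), ∃ n : LocalizedModule P.primeCompl M,
        a • (LocalizedModule.mk u 1 : LocalizedModule P.primeCompl M) =
          (algebraMap A (Localization.AtPrime P) x) • n := by
      intro a ha
      obtain ⟨b, s, rfl⟩ := IsLocalization.exists_mk'_eq P.primeCompl a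
      have hb : b ∈ P := (IsLocalization.AtPrime.mk'_mem_maximal_iff (Localization.AtPrime P) P b s).1 ha
      obtain ⟨n0, hn0⟩ := (hmem b).1 hb
      refine ⟨LocalizedModule.mk n0 s, ?_⟩
      rw [← Localization.mk_eq_mk', LocalizedModule.mk_smul_mk, hn0, algebraMap_smul, LocalizedModule.smul'_mk, mul_one]
    obtain ⟨v, hv, hv'⟩ := exchange (maximalIdeal (Localization.AtPrime P)) hr hXreg hreg _ hu' hI
    apply hv
    have h1 := hv' r' hr'
    rw [← mem_smul_top_iff] at h1 ⊢
    exact (regular_quot_iff r r').1 hreg' v h1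


end S7

section S8

variable (A : Type u) [CommRing A] (J : Ideal A) (M : Type u) [AddCommGroup M] [Module A M]

variable {A J M}

/-- the section `u / x` over the complement of `V(p)` when `p • u ⊆ x M` -/
theorem exists_section_of_colon {x : A} (hx : IsSMulRegular M x) (p : Ideal A) (u : M)
    (hp : ∀ b ∈ p, ∃ n : M, b • u = x • n) :
    ∃ s : Sec A M (oc A p), x • s = StructureSheaf.toOpenₗ A M (oc A p) u := by
  have h1 : ∀ z : oc A p, ∃ f : A, f ∈ p ∧ f ∉ z.1.asIdeal := by
    intro z
    have := mem_oc.1 z.2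
    obtain ⟨f, hf, hfz⟩ := SetLike.not_le_iff_exists.1 this
    exact ⟨f, hf, hfz⟩
  choose f hfp hfz using h1
  have h2 : ∀ z : oc A p, ∃ n : M, f z • u = x • n := fun z => hp _ (hfp z)
  choose n hn using h2
  have hcompat : ∀ z w : oc A p, f z • n w = f w • n z := by
    intro z w
    apply hx
    simp only
    rw [smul_comm x, ← hn w, smul_comm x, ← hn z, smul_comm]
  let sf : ∀ z : oc A p, StructureSheaf.Localizations M z.1 := fun z =>
    LocalizedModule.mk (n z) ⟨f z, hfz z⟩
  have hsf : (StructureSheaf.isLocallyFraction A M).pred sf := by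
    intro z
    refine ⟨PrimeSpectrum.basicOpen (f z), hfz z, homOfLE (basicOpen_le_oc (hfp z)), n z, f z, ?_⟩
    intro w
    refine ⟨w.2, ?_⟩
    change LocalizedModule.mk (n ⟨w.1, _⟩) ⟨f ⟨w.1, _⟩, _⟩ = _
    rw [LocalizedModule.mk_eq]
    refine ⟨1, ?_⟩
    simp only [one_smul, Submonoid.smul_def]
    exact hcompat _ _
  refine ⟨⟨sf, hsf⟩, ?_⟩
  apply sec_ext
  intro z
  rw [structureSheafInType.smul_apply, toOpen_apply]
  change x • LocalizedModule.mk (n z) ⟨f z, hfz z⟩ = _
  rw [LocalizedModule.smul'_mk, LocalizedModule.mk_eq]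
  refine ⟨1, ?_⟩
  simp only [one_smul, Submonoid.smul_def]
  rw [hn z]


end S8

section S9

variable {A : Type u} [CommRing A] {M : Type u} [AddCommGroup M] [Module A M]

/-- clearing denominators over a finitely generated ideal -/
lemma exists_common_denominator (p : Ideal A) [p.IsPrime] (x : A) (u0 : M) (I : Ideal A) (hI : I.FG)
    (hIp : ∀ b ∈ I, ∃ g : A, g ∉ p ∧ ∃ n : M, (g * b) • u0 = x • n) :
    ∃ g : A, g ∉ p ∧ ∀ b ∈ I, ∃ n : M, (g * b) • u0 = x • n := by
  revert hIp
  refine Submodule.fg_induction (R := A) (M := A) (motive := fun (I : Ideal A) _ =>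
    (∀ b ∈ I, ∃ g : A, g ∉ p ∧ ∃ n : M, (g * b) • u0 = x • n) →
      ∃ g : A, g ∉ p ∧ ∀ b ∈ I, ∃ n : M, (g * b) • u0 = x • n) ?_ ?_ I hI
  · intro b h
    obtain ⟨g, hg, n, hn⟩ := h b (Submodule.mem_span_singleton_self b)
    refine ⟨g, hg, ?_⟩
    intro b' hb'
    obtain ⟨c, rfl⟩ := Submodule.mem_span_singleton.1 hb'
    refine ⟨c • n, ?_⟩
    rw [smul_eq_mul, ← mul_assoc, mul_comm g c, mul_assoc, mul_smul, hn, smul_comm]
  · intro I1 I2 _ _ h1 h2 h
    obtain ⟨g1, hg1, H1⟩ := h1 (fun b hb => h b (Submodule.mem_sup_left hb))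
    obtain ⟨g2, hg2, H2⟩ := h2 (fun b hb => h b (Submodule.mem_sup_right hb))
    refine ⟨g1 * g2, ?_, ?_⟩
    · intro hmem
      rcases Ideal.IsPrime.mem_or_mem ‹p.IsPrime› hmem with h' | h'
      · exact hg1 h'
      · exact hg2 h'
    · intro b hb
      obtain ⟨b1, hb1, b2, hb2, rfl⟩ := Submodule.mem_sup.1 hb
      obtain ⟨n1, hn1⟩ := H1 b1 hb1
      obtain ⟨n2, hn2⟩ := H2 b2 hb2
      refine ⟨g2 • n1 + g1 • n2, ?_⟩
      rw [mul_add, add_smul, smul_add, smul_comm x g2, ← hn1, smul_comm x g1, ← hn2]
      rw [← mul_smul, ← mul_smul]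
      congr 2 <;> ring

theorem exists_lift_of_maximalIdeal_mem_ass [IsNoetherianRing A] (p : Ideal A) [p.IsPrime] {x : A}
    (h : maximalIdeal (Localization.AtPrime p) ∈ associatedPrimes (Localization.AtPrime p)
      (QuotSMulTop (algebraMap A (Localization.AtPrime p) x) (LocalizedModule p.primeCompl M))) :
    ∃ u : M, (∀ b ∈ p, ∃ n : M, b • u = x • n) ∧ ¬ ∃ n : M, u = x • n := by
  have h' : IsAssociatedPrime (maximalIdeal (Localization.AtPrime p))
      (QuotSMulTop (algebraMap A (Localization.AtPrime p) x) (LocalizedModule p.primeCompl M)) := h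
  rw [isAssociatedPrime_iff] at h'
  obtain ⟨-, ubar, hu⟩ := h'
  obtain ⟨u', rfl⟩ := Submodule.Quotient.mk_surjective _ ubar
  have hmem : ∀ a : Localization.AtPrime p, a ∈ maximalIdeal (Localization.AtPrime p) ↔
      ∃ n : LocalizedModule p.primeCompl M, a • u' = (algebraMap A (Localization.AtPrime p) x) • n := by
    intro a
    rw [hu, Submodule.mem_colon_singleton, Submodule.mem_bot, ← Submodule.Quotient.mk_smul,
      Submodule.Quotient.mk_eq_zero, mem_smul_top_iff]
  have hu'not : ¬ ∃ n : LocalizedModule p.primeCompl M,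
      u' = (algebraMap A (Localization.AtPrime p) x) • n := by
    rintro ⟨n, hn⟩
    have : (1 : Localization.AtPrime p) ∈ maximalIdeal (Localization.AtPrime p) :=
      (hmem 1).2 ⟨n, by rw [one_smul, hn]⟩
    exact (Ideal.ne_top_iff_one _).1 (IsLocalRing.maximalIdeal.isMaximal _).ne_top this
  induction u' using LocalizedModule.induction_on with
  | h u0 s =>
    -- the element `u0 / 1`
    have hrel : (LocalizedModule.mk u0 1 : LocalizedModule p.primeCompl M) =
        (s : A) • (LocalizedModule.mk u0 s : LocalizedModule p.primeCompl M) := by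
      rw [LocalizedModule.smul'_mk, LocalizedModule.mk_eq]
      exact ⟨1, by simp [Submonoid.smul_def]⟩
    have hrel' : (LocalizedModule.mk u0 s : LocalizedModule p.primeCompl M) =
        (Localization.mk 1 s : Localization.AtPrime p) •
          (LocalizedModule.mk u0 1 : LocalizedModule p.primeCompl M) := by
      rw [LocalizedModule.mk_smul_mk, one_smul, mul_one]
    -- each element of `p` has a denominator
    have hden : ∀ b ∈ p, ∃ g : A, g ∉ p ∧ ∃ n : M, (g * b) • u0 = x • n := by
      intro b hb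
      have hb' : algebraMap A (Localization.AtPrime p) b ∈ maximalIdeal (Localization.AtPrime p) :=
        (IsLocalization.AtPrime.to_map_mem_maximal_iff _ p b).2 hb
      obtain ⟨n, hn⟩ := (hmem _).1 hb'
      have h3 : b • (LocalizedModule.mk u0 1 : LocalizedModule p.primeCompl M) =
          x • ((s : A) • n) := by
        rw [hrel, smul_comm b, ← algebraMap_smul (Localization.AtPrime p) b, hn, algebraMap_smul,
          smul_comm]
      induction n using LocalizedModule.induction_on with
      | h n0 t =>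
        rw [LocalizedModule.smul'_mk, LocalizedModule.smul'_mk, LocalizedModule.smul'_mk,
          LocalizedModule.mk_eq] at h3
        obtain ⟨w, hw⟩ := h3
        simp only [one_smul, Submonoid.smul_def] at hw
        refine ⟨w.1 * t.1, fun hmem' => (p.primeCompl.mul_mem w.2 t.2) hmem', w.1 • s.1 • n0, ?_⟩
        rw [mul_smul, mul_smul, hw, smul_comm w.1 x]
    obtain ⟨g, hg, Hg⟩ := exists_common_denominator p x u0 p
      ((isNoetherianRing_iff_ideal_fg A).1 inferInstance p) hden
    refine ⟨g • u0, ?_, ?_⟩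
    · intro b hb
      obtain ⟨n, hn⟩ := Hg b hb
      exact ⟨n, by rw [← hn, mul_smul, smul_comm]⟩
    · rintro ⟨n, hn⟩
      apply hu'not
      refine ⟨(Localization.mk 1 (⟨g, hg⟩ * s) : Localization.AtPrime p) •
        (LocalizedModule.mk n 1 : LocalizedModule p.primeCompl M), ?_⟩
      rw [algebraMap_smul, smul_comm, LocalizedModule.smul'_mk, ← hn, LocalizedModule.mk_smul_mk,
        one_smul, mul_one, LocalizedModule.mk_eq]
      exact ⟨1, by simp only [Submonoid.smul_def, Submonoid.coe_mul, one_smul, mul_smul]; rw [smul_comm]⟩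


end S9

section S10

variable (A : Type u) [CommRing A] (J : Ideal A) (M : Type u) [AddCommGroup M] [Module A M]

variable {A J M}

theorem exists_regular_pair [IsNoetherianRing A] [Module.Finite A M] (J : Ideal A)
    (h : ∀ p : PrimeSpectrum A, J ≤ p.asIdeal → (2 : ℕ∞) ≤
      LocCoh.depth (Localization.AtPrime p.asIdeal) (LocalizedModule p.asIdeal.primeCompl M)) :
    ∃ x ∈ J, ∃ y ∈ J, IsSMulRegular M x ∧ IsSMulRegular M y ∧ IsSMulRegular (QuotSMulTop x M) y := by
  have h1 : ∀ P ∈ associatedPrimes A M, ¬ J ≤ P := by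
    intro P hP hle
    haveI : P.IsPrime := IsAssociatedPrime.isPrime hP
    have h2 := h ⟨P, inferInstance⟩ hle
    have h3 : (1 : ℕ∞) ≤ LocCoh.depth (Localization.AtPrime P) (LocalizedModule P.primeCompl M) :=
      le_trans (by norm_num) h2
    exact (one_le_depth_localized_iff P).1 h3 hP
  obtain ⟨x, hxJ, hx⟩ := (exists_regular_mem_iff J).2 h1
  have h2 : ∀ P ∈ associatedPrimes A (M × QuotSMulTop x M), ¬ J ≤ P := by
    intro P hP hle
    rw [associatedPrimes.prod] at hP
    rcases hP with hP | hP
    · exact h1 P hP hle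
    · haveI : P.IsPrime := IsAssociatedPrime.isPrime hP
      exact not_two_le_depth_of_mem_ass_quot hx P hP (h ⟨P, inferInstance⟩ hle)
  obtain ⟨y, hyJ, hy⟩ := (exists_regular_mem_iff J).2 h2
  refine ⟨x, hxJ, y, hyJ, hx, ?_, ?_⟩
  · intro m m' hmm
    have hmm' : y • m = y • m' := hmm
    have := hy (a₁ := (m, 0)) (a₂ := (m', 0)) (by simp only [Prod.smul_mk, smul_zero]; rw [hmm'])
    exact (Prod.mk.inj this).1
  · intro m m' hmm
    have hmm' : y • m = y • m' := hmm
    have := hy (a₁ := (0, m)) (a₂ := (0, m')) (by simp only [Prod.smul_mk, smul_zero]; rw [hmm'])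
    exact (Prod.mk.inj this).2

theorem closed_of_depth [IsNoetherianRing A] [Module.Finite A M] (Z : Set (PrimeSpectrum A))
    (h : ∀ p : PrimeSpectrum A, p ∈ Z → (2 : ℕ∞) ≤
      LocCoh.depth (Localization.AtPrime p.asIdeal) (LocalizedModule p.asIdeal.primeCompl M)) :
    EGA4.IsClosedAlong Z M := by
  intro J hJ
  obtain ⟨x, hxJ, y, hyJ, hx, hy, hxy⟩ := exists_regular_pair (M := M) J (fun p hp => h p (hJ (by
    rw [PrimeSpectrum.mem_zeroLocus]; exact hp)))
  exact ⟨(inj_iff A J M).2 (toOpen_injective_of_regular hxJ hx),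
    (surj_iff A J M).2 (surjective_of_regular_pair hxJ hyJ hx hy hxy)⟩

theorem depth_of_closed [IsNoetherianRing A] [Module.Finite A M] (Z : Set (PrimeSpectrum A))
    (hZ : StableUnderSpecialization Z) (h : EGA4.IsClosedAlong Z M) (p : PrimeSpectrum A) (hp : p ∈ Z) :
    (2 : ℕ∞) ≤ LocCoh.depth (Localization.AtPrime p.asIdeal) (LocalizedModule p.asIdeal.primeCompl M) := by
  have hpure : EGA4.IsPureAlong Z M := fun J hJ => (h J hJ).1
  rw [isPureAlong_iff M Z hZ] at hpure
  have hVp := zeroLocus_subset_of_mem hZ hp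
  have h1 : ∀ P ∈ associatedPrimes A M, ¬ p.asIdeal ≤ P := by
    intro P hP hle
    haveI : P.IsPrime := IsAssociatedPrime.isPrime hP
    exact hpure ⟨P, inferInstance⟩ hP (hVp (by rw [PrimeSpectrum.mem_zeroLocus]; exact hle))
  obtain ⟨x, hxp, hx⟩ := (exists_regular_mem_iff p.asIdeal).2 h1
  have hbij := h p.asIdeal hVp
  have hinj := (inj_iff A p.asIdeal M).1 hbij.1
  have hsurj := (surj_iff A p.asIdeal M).1 hbij.2
  rw [two_le_depth_iff]
  right
  have hXmem : algebraMap A (Localization.AtPrime p.asIdeal) x ∈ maximalIdeal (Localization.AtPrime p.asIdeal) :=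
    (IsLocalization.AtPrime.to_map_mem_maximal_iff _ p.asIdeal x).2 hxp
  have hXreg : IsSMulRegular (LocalizedModule p.asIdeal.primeCompl M)
      (algebraMap A (Localization.AtPrime p.asIdeal) x) :=
    (regular_algebraMap_iff x).2 (regular_localizedModule _ hx)
  have h2 : ∀ P' ∈ associatedPrimes (Localization.AtPrime p.asIdeal)
      (QuotSMulTop (algebraMap A (Localization.AtPrime p.asIdeal) x) (LocalizedModule p.asIdeal.primeCompl M)),
      ¬ maximalIdeal (Localization.AtPrime p.asIdeal) ≤ P' := by
    intro P' hP' hle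
    have hP'prime : P'.IsPrime := IsAssociatedPrime.isPrime hP'
    have hEq : P' = maximalIdeal (Localization.AtPrime p.asIdeal) :=
      le_antisymm (IsLocalRing.le_maximalIdeal hP'prime.ne_top) hle
    rw [hEq] at hP'
    obtain ⟨u, hu1, hu2⟩ := exists_lift_of_maximalIdeal_mem_ass p.asIdeal hP'
    obtain ⟨s, hs⟩ := exists_section_of_colon hx p.asIdeal u hu1
    obtain ⟨m, rfl⟩ := hsurj s
    apply hu2
    refine ⟨m, ?_⟩
    apply hinj
    rw [← hs, map_smul]
  obtain ⟨r', hr', hreg'⟩ := (exists_regular_mem_iff _).2 h2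
  exact ⟨_, hXmem, r', hr', hXreg, hreg'⟩

theorem S2720_main [IsNoetherianRing A] (Z : Set (PrimeSpectrum A)) (hZ : StableUnderSpecialization Z)
    [Module.Finite A M] :
    EGA4.IsClosedAlong Z M ↔
      ∀ p : PrimeSpectrum A, p ∈ Z → (2 : ℕ∞) ≤ LocCoh.depth (Localization.AtPrime p.asIdeal) (LocalizedModule p.asIdeal.primeCompl M) :=
  ⟨fun h p hp => depth_of_closed Z hZ h p hp, closed_of_depth Z⟩

theorem S2719_main [IsNoetherianRing A] (Z : Set (PrimeSpectrum A)) (hZ : StableUnderSpecialization Z) :
    (EGA4.IsPureAlong Z M ↔ ∀ p : PrimeSpectrum A, p.asIdeal ∈ associatedPrimes A M → p ∉ Z) ∧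
      (Module.Finite A M → (EGA4.IsPureAlong Z M ↔
        ∀ p : PrimeSpectrum A, p ∈ Z → (1 : ℕ∞) ≤ LocCoh.depth (Localization.AtPrime p.asIdeal) (LocalizedModule p.asIdeal.primeCompl M))) := by
  refine ⟨isPureAlong_iff M Z hZ, fun hfin => ?_⟩
  rw [isPureAlong_iff M Z hZ]
  constructor
  · intro h p hp
    rw [one_le_depth_localized_iff]
    exact fun hass => h p hass hp
  · intro h p hass hp
    exact (one_le_depth_localized_iff p.asIdeal).1 (h p hp) hass


end S10

section S11

variable {A : Type u} [CommRing A] {M : Type u} [AddCommGroup M] [Module A M]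

lemma stable_Zge (n : ℕ) : StableUnderSpecialization (EGA4.Zge A n) := by
  intro p q hpq hp
  have hle : p.asIdeal ≤ q.asIdeal := (PrimeSpectrum.le_iff_specializes p q).2 hpq
  exact le_trans hp (Ideal.height_mono hle)

lemma support_localized_eq_univ (hsupp : Module.support A M = Set.univ) (p : Ideal A) [p.IsPrime] :
    Module.support (Localization.AtPrime p) (LocalizedModule p.primeCompl M) = Set.univ := by
  rw [Set.eq_univ_iff_forall]
  intro q'
  let q : PrimeSpectrum A := ⟨q'.asIdeal.comap (algebraMap A (Localization.AtPrime p)), inferInstance⟩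
  have hq : q ∈ Module.support A M := by rw [hsupp]; trivial
  rw [Module.mem_support_iff'] at hq ⊢
  obtain ⟨m, hm⟩ := hq
  refine ⟨LocalizedModule.mk m 1, ?_⟩
  intro a ha
  obtain ⟨b, s, rfl⟩ := IsLocalization.exists_mk'_eq p.primeCompl a
  have hb : b ∉ q.asIdeal := by
    intro hb
    apply ha
    have : algebraMap A (Localization.AtPrime p) b ∈ q'.asIdeal := hb
    rw [← IsLocalization.mk'_spec (Localization.AtPrime p) b s] at this
    rcases Ideal.IsPrime.mem_or_mem q'.2 this with h | h
    · exact h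
    · exfalso
      exact q'.2.ne_top (Ideal.eq_top_of_isUnit_mem _ h (IsLocalization.map_units _ s))
  have hqp : q.asIdeal ≤ p := by
    intro c hc
    by_contra hcp
    have : algebraMap A (Localization.AtPrime p) c ∈ q'.asIdeal := hc
    exact q'.2.ne_top (Ideal.eq_top_of_isUnit_mem _ this (IsLocalization.map_units (M := p.primeCompl) _ ⟨c, hcp⟩))
  rw [← Localization.mk_eq_mk', LocalizedModule.mk_smul_mk, mul_one]
  intro h0
  rw [← LocalizedModule.zero_mk s, LocalizedModule.mk_eq] at h0
  obtain ⟨w, hw⟩ := h0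
  simp only [smul_zero, Submonoid.smul_def] at hw
  have hw' : w.1 * s.1 * b ∉ q.asIdeal := by
    intro hmem
    rcases Ideal.IsPrime.mem_or_mem q.2 hmem with h | h
    · rcases Ideal.IsPrime.mem_or_mem q.2 h with h | h
      · exact w.2 (hqp h)
      · exact s.2 (hqp h)
    · exact hb h
  apply hm _ hw'
  rw [mul_smul, mul_smul]
  exact hw

lemma supportDim_localized (hsupp : Module.support A M = Set.univ) (p : Ideal A) [p.IsPrime] :
    Module.supportDim (Localization.AtPrime p) (LocalizedModule p.primeCompl M) =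
      ((p.height : ℕ∞) : WithBot ℕ∞) := by
  unfold Module.supportDim
  rw [support_localized_eq_univ hsupp p]
  rw [← IsLocalization.AtPrime.ringKrullDim_eq_height p (Localization.AtPrime p)]
  unfold ringKrullDim
  exact Order.krullDim_eq_of_orderIso OrderIso.Set.univ


end S11

section S12

variable {A : Type u} [CommRing A] {M : Type u} [AddCommGroup M] [Module A M]

lemma hasSk_iff (hsupp : Module.support A M = Set.univ) (k : ℕ) :
    LocCoh.HasSk k A M ↔ ∀ p : PrimeSpectrum A, min (k : ℕ∞) p.asIdeal.height ≤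
      LocCoh.depth (Localization.AtPrime p.asIdeal) (LocalizedModule p.asIdeal.primeCompl M) := by
  unfold LocCoh.HasSk
  constructor
  · intro h p
    have := h p.asIdeal
    rw [supportDim_localized hsupp p.asIdeal] at this
    have hk : (k : WithBot ℕ∞) = ((k : ℕ∞) : WithBot ℕ∞) := rfl
    rw [hk, ← WithBot.coe_min, WithBot.coe_le_coe] at this
    exact this
  · intro h p hp
    have := h ⟨p, hp⟩
    rw [supportDim_localized hsupp p]
    have hk : (k : WithBot ℕ∞) = ((k : ℕ∞) : WithBot ℕ∞) := rfl
    rw [hk, ← WithBot.coe_min, WithBot.coe_le_coe]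
    exact this

theorem S2721_main [IsNoetherianRing A] [Module.Finite A M] (hsupp : Module.support A M = Set.univ) :
    (LocCoh.HasSk 1 A M ↔ EGA4.IsPureAlong (EGA4.Zge A 1) M) ∧
      (LocCoh.HasSk 2 A M ↔ (EGA4.IsClosedAlong (EGA4.Zge A 2) M ∧ EGA4.IsPureAlong (EGA4.Zge A 1) M)) := by
  rw [hasSk_iff hsupp, hasSk_iff hsupp, S2720_main _ (stable_Zge 2),
    ((S2719_main (M := M) _ (stable_Zge 1)).2 inferInstance)]
  have hZ1 : ∀ p : PrimeSpectrum A, p ∈ EGA4.Zge A 1 ↔ (1 : ℕ∞) ≤ p.asIdeal.height := by
    intro p; rfl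
  have hZ2 : ∀ p : PrimeSpectrum A, p ∈ EGA4.Zge A 2 ↔ (2 : ℕ∞) ≤ p.asIdeal.height := by
    intro p; rfl
  constructor
  · constructor
    · intro h p hp
      rw [hZ1] at hp
      have := h p
      rwa [Nat.cast_one, min_eq_left hp] at this
    · intro h p
      by_cases hp : (1 : ℕ∞) ≤ p.asIdeal.height
      · rw [Nat.cast_one, min_eq_left hp]
        exact h p ((hZ1 p).2 hp)
      · have : p.asIdeal.height = 0 := by
          rw [not_le, Order.lt_one_iff] at hp
          exact hp
        rw [this]
        simp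
  · constructor
    · intro h
      constructor
      · intro p hp
        rw [hZ2] at hp
        have := h p
        rwa [Nat.cast_ofNat, min_eq_left hp] at this
      · intro p hp
        rw [hZ1] at hp
        have := h p
        refine le_trans ?_ this
        rw [Nat.cast_ofNat]
        exact le_min (by norm_num) hp
    · rintro ⟨h2, h1⟩ p
      by_cases hp2 : (2 : ℕ∞) ≤ p.asIdeal.height
      · rw [Nat.cast_ofNat, min_eq_left hp2]
        exact h2 p ((hZ2 p).2 hp2)
      · by_cases hp1 : (1 : ℕ∞) ≤ p.asIdeal.height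
        · refine le_trans ?_ (h1 p ((hZ1 p).2 hp1))
          rw [not_le] at hp2
          have : p.asIdeal.height ≤ 1 := by
            have := Order.le_of_lt_add_one (x := p.asIdeal.height) (y := (1 : ℕ∞)) (by
              rw [one_add_one_eq_two]; exact hp2)
            exact this
          exact le_trans (min_le_right _ _) this
        · have : p.asIdeal.height = 0 := by
            rw [not_le, Order.lt_one_iff] at hp1
            exact hp1
          rw [this]
          simp


end S12

end Groth.Agent.Lib.Helper4.Hartogs1
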