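import Mathlib
import Groth.Prelude.Def_EGA4c
import Groth.Prelude.Def_FEt
import Groth.Agent.Lib.Helper4.Hartogs1

/-!
# Sections over the preimage of the punctured spectrum for finite algebras of depth >= 2 (S0291) (helper4)
-/

set_option backward.isDefEq.respectTransparency.types false
set_option synthInstance.maxHeartbeats 400000
set_option autoImplicit false
set_option linter.unusedSectionVars false
set_option linter.style.haveILetI false
set_option linter.unusedSimpArgs false
universe u v w
open CategoryTheory CategoryTheory.Limits AlgebraicGeometry TopologicalSpace IsLocalRing Opposite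
open Groth.Agent.Lib.Helper4.Hartogs1

namespace Groth.Agent.Lib.Helper4.Hartogs2

variable (A B : Type u) [CommRing A] [IsNoetherianRing A] [IsLocalRing A] [CommRing B] [Algebra A B]
    [Module.Finite A B]

lemma comap_ne_closedPoint_iff (q : PrimeSpectrum B) :
    (PrimeSpectrum.comap (algebraMap A B) q ≠ IsLocalRing.closedPoint A) ↔
      ¬ (maximalIdeal A).map (algebraMap A B) ≤ q.asIdeal := by
  rw [ne_eq, not_iff_not, Ideal.map_le_iff_le_comap]
  constructor
  · intro h
    have : (PrimeSpectrum.comap (algebraMap A B) q).asIdeal = maximalIdeal A := by rw [h]; rfl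
    rw [← this]; exact le_rfl
  · intro h
    apply PrimeSpectrum.ext
    have hq : (q.asIdeal.comap (algebraMap A B)).IsPrime := inferInstance
    exact (le_antisymm (IsLocalRing.le_maximalIdeal hq.ne_top) h)

lemma preimage_punctured_eq :
    (Spec.map (CommRingCat.ofHom (algebraMap A B)) ⁻¹ᵁ FEt.puncturedSpec A : Opens (PrimeSpectrum.Top B)) =
      oc B ((maximalIdeal A).map (algebraMap A B)) := by
  ext q
  exact (comap_ne_closedPoint_iff A B q).trans mem_oc.symm

lemma isIso_presheaf_map_of_bijective_toOpen (U : Opens (PrimeSpectrum.Top B))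
    (hb : Function.Bijective (StructureSheaf.toOpenₗ B B U)) :
    IsIso ((Spec (CommRingCat.of B)).presheaf.map (homOfLE (le_top : U ≤ ⊤)).op) := by
  rw [ConcreteCategory.isIso_iff_bijective]
  have ht := StructureSheaf.toOpenₗ_top_bijective (R := B) (M := B)
  constructor
  · intro s s' e
    obtain ⟨m, rfl⟩ := ht.2 s
    obtain ⟨m', rfl⟩ := ht.2 s'
    congr 1
    apply hb.1
    exact e
  · intro s
    obtain ⟨m, hm⟩ := hb.2 s
    exact ⟨StructureSheaf.toOpenₗ B B ⊤ m, hm⟩

theorem S0291_main
    (h : ∀ (m : Ideal B) (_ : m.IsMaximal), (2 : ℕ∞) ≤ LocCoh.depth (Localization.AtPrime m) (Localization.AtPrime m)) :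
    IsIso ((Spec (CommRingCat.of B)).presheaf.map (homOfLE (le_top :
      Spec.map (CommRingCat.ofHom (algebraMap A B)) ⁻¹ᵁ FEt.puncturedSpec A ≤ ⊤)).op) := by
  haveI : IsNoetherianRing B := IsNoetherianRing.of_finite A B
  have hcl : EGA4.IsClosedAlong
      (PrimeSpectrum.zeroLocus (((maximalIdeal A).map (algebraMap A B) : Ideal B) : Set B)) B := by
    apply closed_of_depth
    intro p hp
    rw [PrimeSpectrum.mem_zeroLocus, SetLike.coe_subset_coe, Ideal.map_le_iff_le_comap] at hp
    have hq : (p.asIdeal.comap (algebraMap A B)).IsPrime := inferInstance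
    have hEq : p.asIdeal.comap (algebraMap A B) = maximalIdeal A :=
      le_antisymm (IsLocalRing.le_maximalIdeal hq.ne_top) hp
    have hmax : p.asIdeal.IsMaximal := by
      apply Ideal.isMaximal_of_isIntegral_of_isMaximal_comap (R := A) p.asIdeal
      rw [hEq]; infer_instance
    exact h p.asIdeal hmax
  have hbij := hcl _ (subset_refl _)
  have hb : Function.Bijective (StructureSheaf.toOpenₗ B B (oc B ((maximalIdeal A).map (algebraMap A B)))) :=
    ⟨(inj_iff B _ B).1 hbij.1, (surj_iff B _ B).1 hbij.2⟩
  rw [← preimage_punctured_eq A B] at hb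
  exact isIso_presheaf_map_of_bijective_toOpen B _ hb

end Groth.Agent.Lib.Helper4.Hartogs2
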