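import Mathlib
import Groth.Prelude.Def_CAlg
import Groth.Agent.Lib.Helper4.Hartogs2
import Groth.Agent.Lib.Helper8.Depth23
import Groth.Agent.Lib.Helper8.Depth19

/-!
# Hartogs extension on locally Noetherian schemes: sections and morphisms to affine targets (S2848) (helper4)
-/

set_option backward.isDefEq.respectTransparency.types false
set_option synthInstance.maxHeartbeats 400000
set_option autoImplicit false
set_option linter.unusedSectionVars false
set_option linter.style.haveILetI false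
set_option linter.unusedSimpArgs false
universe u v w
open CategoryTheory CategoryTheory.Limits AlgebraicGeometry TopologicalSpace IsLocalRing Opposite
open Groth.Agent.Lib.Helper4.Hartogs1 Groth.Agent.Lib.Helper4.Hartogs2

namespace Groth.Agent.Lib.Helper4.Hartogs4

theorem spec_res_isIso (A : Type u) [CommRing A] [IsNoetherianRing A]
    (W : Opens (PrimeSpectrum.Top A))
    (h : ∀ p : PrimeSpectrum A, p ∉ W → (2 : ℕ∞) ≤
      LocCoh.depth (Localization.AtPrime p.asIdeal) (Localization.AtPrime p.asIdeal)) :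
    IsIso ((Spec (CommRingCat.of A)).presheaf.map (homOfLE (le_top : W ≤ ⊤)).op) := by
  obtain ⟨J, hJ⟩ : ∃ J : Ideal A, W = oc A J := by
    obtain ⟨S, hS⟩ : ∃ S : Set (PrimeSpectrum A), S = {p | p ∉ W} := ⟨_, rfl⟩
    have hcl : IsClosed S := by
      subst hS
      exact W.isOpen.isClosed_compl
    refine ⟨PrimeSpectrum.vanishingIdeal S, ?_⟩
    have h1 : PrimeSpectrum.zeroLocus (PrimeSpectrum.vanishingIdeal S : Set A) = S := by
      rw [PrimeSpectrum.zeroLocus_vanishingIdeal_eq_closure, hcl.closure_eq]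
    ext p
    show p ∈ W ↔ p ∉ PrimeSpectrum.zeroLocus (PrimeSpectrum.vanishingIdeal S : Set A)
    rw [h1, hS]
    exact not_not.symm
  subst hJ
  have hcl : EGA4.IsClosedAlong (PrimeSpectrum.zeroLocus ((J : Ideal A) : Set A)) A := by
    apply closed_of_depth
    intro p hp
    rw [Groth.Agent.Helper8.Depth.depth_localizedModule_self]
    apply h
    intro hpW
    exact hpW hp
  have hbij := hcl _ (subset_refl _)
  have hb : Function.Bijective (StructureSheaf.toOpenₗ A A (oc A J)) :=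
    ⟨(inj_iff A _ A).1 hbij.1, (surj_iff A _ A).1 hbij.2⟩
  exact isIso_presheaf_map_of_bijective_toOpen A (oc A J) hb


theorem depth_self_eq_of_ringEquiv {R₁ R₂ : Type u} [CommRing R₁] [CommRing R₂] [IsLocalRing R₁]
    [IsLocalRing R₂] (σ : R₁ ≃+* R₂) : LocCoh.depth R₂ R₂ = LocCoh.depth R₁ R₁ :=
  Groth.Agent.Helper8.Depth.depth_eq_of_semilinear σ σ.toAddEquiv (fun r x => by simp)

theorem affine_res_isIso {X : Scheme.{u}} [IsLocallyNoetherian X] (U : X.Opens)
    (hU : ∀ x : X, x ∉ U → (2 : ℕ∞) ≤ LocCoh.depth (X.presheaf.stalk x) (X.presheaf.stalk x))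
    (V : X.Opens) (hV : IsAffineOpen V) :
    IsIso (X.presheaf.map (homOfLE (inf_le_left : V ⊓ U ≤ V)).op) := by
  haveI : IsNoetherianRing Γ(X, V) := IsLocallyNoetherian.component_noetherian ⟨V, hV⟩
  have hrange : hV.fromSpec.opensRange = V := hV.opensRange_fromSpec
  haveI i1 : IsIso (hV.fromSpec.app V) := Scheme.Hom.isIso_app hV.fromSpec V (by rw [hrange])
  haveI i2 : IsIso (hV.fromSpec.app (V ⊓ U)) :=
    Scheme.Hom.isIso_app hV.fromSpec (V ⊓ U) (by rw [hrange]; exact inf_le_left)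
  have hnat := hV.fromSpec.naturality (homOfLE (inf_le_left : V ⊓ U ≤ V)).op
  -- the Spec side
  have hspec : IsIso ((Spec Γ(X, V)).presheaf.map (homOfLE (le_top : hV.fromSpec ⁻¹ᵁ (V ⊓ U) ≤ ⊤)).op) := by
    apply spec_res_isIso Γ(X, V) (hV.fromSpec ⁻¹ᵁ (V ⊓ U))
    intro p hp
    have hpV : hV.fromSpec p ∈ V := by
      have : hV.fromSpec p ∈ hV.fromSpec.opensRange := ⟨p, rfl⟩
      rwa [hV.opensRange_fromSpec] at this
    have hpU : hV.fromSpec p ∉ U := by
      intro h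
      apply hp
      exact ⟨hpV, h⟩
    have h2 := hU _ hpU
    have hloc := hV.isLocalization_stalk' p hpV
    letI := TopCat.Presheaf.algebra_section_stalk X.presheaf ⟨hV.fromSpec p, hpV⟩
    haveI : IsLocalization p.asIdeal.primeCompl (X.presheaf.stalk (hV.fromSpec p)) := hloc
    have e := IsLocalization.algEquiv p.asIdeal.primeCompl (Localization.AtPrime p.asIdeal)
      (X.presheaf.stalk (hV.fromSpec p))
    rw [depth_self_eq_of_ringEquiv e.toRingEquiv.symm]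
    exact h2
  have htop : hV.fromSpec ⁻¹ᵁ V = ⊤ := hV.fromSpec_preimage_self
  have h3 : IsIso ((Spec Γ(X, V)).presheaf.map (homOfLE (le_top : hV.fromSpec ⁻¹ᵁ V ≤ ⊤)).op) := by
    have : (homOfLE (le_top : hV.fromSpec ⁻¹ᵁ V ≤ ⊤)).op = eqToHom (by rw [htop]) := Subsingleton.elim _ _
    rw [this]
    infer_instance
  have h4 : IsIso ((Spec Γ(X, V)).presheaf.map
      ((Opens.map hV.fromSpec.base).map (homOfLE (inf_le_left : V ⊓ U ≤ V))).op) := by
    have hcomp : (Spec Γ(X, V)).presheaf.map (homOfLE (le_top : hV.fromSpec ⁻¹ᵁ V ≤ ⊤)).op ≫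
        (Spec Γ(X, V)).presheaf.map ((Opens.map hV.fromSpec.base).map (homOfLE (inf_le_left : V ⊓ U ≤ V))).op =
        (Spec Γ(X, V)).presheaf.map (homOfLE (le_top : hV.fromSpec ⁻¹ᵁ (V ⊓ U) ≤ ⊤)).op := by
      rw [← Functor.map_comp]
      rfl
    rw [← hcomp] at hspec
    exact IsIso.of_isIso_comp_left
      ((Spec Γ(X, V)).presheaf.map (homOfLE (le_top : hV.fromSpec ⁻¹ᵁ V ≤ ⊤)).op) _
  have h5 : IsIso (X.presheaf.map (homOfLE (inf_le_left : V ⊓ U ≤ V)).op ≫ hV.fromSpec.app (V ⊓ U)) := by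
    rw [hnat]
    haveI : IsIso ((Spec Γ(X, V)).presheaf.map
      ((Opens.map hV.fromSpec.base).map (homOfLE (inf_le_left : V ⊓ U ≤ V)).op.unop).op) := h4
    exact IsIso.comp_isIso
  exact IsIso.of_isIso_comp_right _ (hV.fromSpec.app (V ⊓ U))

section glue
variable {X : Scheme.{u}}

lemma res_res {A B C : X.Opens} (i : B ⟶ A) (j : C ⟶ B) (k : C ⟶ A) (s : Γ(X, A)) :
    X.presheaf.map j.op (X.presheaf.map i.op s) = X.presheaf.map k.op s := by
  rw [← ConcreteCategory.comp_apply, ← X.presheaf.map_comp]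
  rfl

lemma le_iSup_affine (W : X.Opens) : W ≤ ⨆ V : {V : X.affineOpens // (V : X.Opens) ≤ W}, (V.1 : X.Opens) := by
  intro x hx
  obtain ⟨V, hV, hxV, hVW⟩ := Opens.isBasis_iff_nbhd.1 (X.isBasis_affineOpens) hx
  rw [Opens.mem_iSup]
  exact ⟨⟨⟨V, hV⟩, hVW⟩, hxV⟩

theorem res_injective (U : X.Opens)
    (h : ∀ V : X.Opens, IsAffineOpen V →
      Function.Injective (X.presheaf.map (homOfLE (inf_le_left : V ⊓ U ≤ V)).op))
    (W : X.Opens) :
    Function.Injective (X.presheaf.map (homOfLE (inf_le_left : W ⊓ U ≤ W)).op) := by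
  intro s t hst
  apply X.sheaf.eq_of_locally_eq' (fun V : {V : X.affineOpens // (V : X.Opens) ≤ W} => (V.1 : X.Opens)) W
    (fun V => homOfLE V.2) (le_iSup_affine W)
  intro V
  apply h V.1.1 V.1.2
  show X.presheaf.map _ (X.presheaf.map _ s) = X.presheaf.map _ (X.presheaf.map _ t)
  rw [res_res _ _ (homOfLE (le_trans inf_le_left V.2 : V.1.1 ⊓ U ≤ W)),
    res_res _ _ (homOfLE (le_trans inf_le_left V.2 : V.1.1 ⊓ U ≤ W))]
  rw [← res_res (homOfLE (inf_le_left : W ⊓ U ≤ W)) (homOfLE (inf_le_inf_right U V.2 : V.1.1 ⊓ U ≤ W ⊓ U)) _ s,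
    ← res_res (homOfLE (inf_le_left : W ⊓ U ≤ W)) (homOfLE (inf_le_inf_right U V.2 : V.1.1 ⊓ U ≤ W ⊓ U)) _ t, hst]

theorem res_surjective (U : X.Opens)
    (h : ∀ V : X.Opens, IsAffineOpen V →
      Function.Bijective (X.presheaf.map (homOfLE (inf_le_left : V ⊓ U ≤ V)).op))
    (W : X.Opens) :
    Function.Surjective (X.presheaf.map (homOfLE (inf_le_left : W ⊓ U ≤ W)).op) := by
  intro t
  have hinj := res_injective U (fun V hV => (h V hV).1)
  have hex : ∀ V : {V : X.affineOpens // (V : X.Opens) ≤ W}, ∃ sV : Γ(X, V.1.1),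
      X.presheaf.map (homOfLE (inf_le_left : V.1.1 ⊓ U ≤ V.1.1)).op sV =
        X.presheaf.map (homOfLE (inf_le_inf_right U V.2 : V.1.1 ⊓ U ≤ W ⊓ U)).op t :=
    fun V => (h V.1.1 V.1.2).2 _
  choose sf hsf using hex
  have hcompat : TopCat.Presheaf.IsCompatible X.presheaf
      (fun V : {V : X.affineOpens // (V : X.Opens) ≤ W} => (V.1 : X.Opens)) sf := by
    intro V V'
    apply hinj (V.1.1 ⊓ V'.1.1)
    show X.presheaf.map _ (X.presheaf.map _ (sf V)) = X.presheaf.map _ (X.presheaf.map _ (sf V'))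
    have e1 : X.presheaf.map (homOfLE (inf_le_left : (V.1.1 ⊓ V'.1.1) ⊓ U ≤ V.1.1 ⊓ V'.1.1)).op
        (X.presheaf.map (Opens.infLELeft V.1.1 V'.1.1).op (sf V)) =
        X.presheaf.map (homOfLE (inf_le_inf_right U (le_trans inf_le_left V.2) : (V.1.1 ⊓ V'.1.1) ⊓ U ≤ W ⊓ U)).op t := by
      rw [res_res _ _ (homOfLE (le_trans inf_le_left inf_le_left : (V.1.1 ⊓ V'.1.1) ⊓ U ≤ V.1.1)),
        ← res_res (homOfLE (inf_le_left : V.1.1 ⊓ U ≤ V.1.1))
          (homOfLE (inf_le_inf_right U inf_le_left : (V.1.1 ⊓ V'.1.1) ⊓ U ≤ V.1.1 ⊓ U)) _ (sf V), hsf V,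
        res_res]
    have e2 : X.presheaf.map (homOfLE (inf_le_left : (V.1.1 ⊓ V'.1.1) ⊓ U ≤ V.1.1 ⊓ V'.1.1)).op
        (X.presheaf.map (Opens.infLERight V.1.1 V'.1.1).op (sf V')) =
        X.presheaf.map (homOfLE (inf_le_inf_right U (le_trans inf_le_left V.2) : (V.1.1 ⊓ V'.1.1) ⊓ U ≤ W ⊓ U)).op t := by
      rw [res_res _ _ (homOfLE (le_trans inf_le_left inf_le_right : (V.1.1 ⊓ V'.1.1) ⊓ U ≤ V'.1.1)),
        ← res_res (homOfLE (inf_le_left : V'.1.1 ⊓ U ≤ V'.1.1))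
          (homOfLE (inf_le_inf_right U inf_le_right : (V.1.1 ⊓ V'.1.1) ⊓ U ≤ V'.1.1 ⊓ U)) _ (sf V'), hsf V',
        res_res]
    exact e1.trans e2.symm
  obtain ⟨s, hs, -⟩ := X.sheaf.existsUnique_gluing'
    (fun V : {V : X.affineOpens // (V : X.Opens) ≤ W} => (V.1 : X.Opens)) W
    (fun V => homOfLE V.2) (le_iSup_affine W) sf hcompat
  refine ⟨s, ?_⟩
  apply X.sheaf.eq_of_locally_eq'
    (fun V : {V : X.affineOpens // (V : X.Opens) ≤ W} => (V.1 : X.Opens) ⊓ U) (W ⊓ U)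
    (fun V => homOfLE (inf_le_inf_right U V.2)) ?_
  · intro V
    show X.presheaf.map _ (X.presheaf.map _ s) = X.presheaf.map _ t
    rw [← hsf V, ← hs V]
    show _ = X.presheaf.map _ (X.presheaf.map _ s)
    rw [res_res _ _ (homOfLE (le_trans inf_le_left V.2 : V.1.1 ⊓ U ≤ W)),
      res_res _ _ (homOfLE (le_trans inf_le_left V.2 : V.1.1 ⊓ U ≤ W))]
  · intro x hx
    have := le_iSup_affine W hx.1
    rw [Opens.mem_iSup] at this ⊢
    obtain ⟨V, hxV⟩ := this
    exact ⟨V, hxV, hx.2⟩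

end glue

theorem isIso_res_top {X : Scheme.{u}} [IsLocallyNoetherian X] (U : X.Opens)
    (hU : ∀ x : X, x ∉ U → (2 : ℕ∞) ≤ LocCoh.depth (X.presheaf.stalk x) (X.presheaf.stalk x))
    (A : X.Opens) (hA : A = ⊤ ⊓ U) (hle : A ≤ ⊤) : IsIso (X.presheaf.map (homOfLE hle).op) := by
  subst hA
  rw [ConcreteCategory.isIso_iff_bijective]
  have h : ∀ V : X.Opens, IsAffineOpen V →
      Function.Bijective (X.presheaf.map (homOfLE (inf_le_left : V ⊓ U ≤ V)).op) := by
    intro V hV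
    have := affine_res_isIso U hU V hV
    rw [ConcreteCategory.isIso_iff_bijective] at this
    exact this
  exact ⟨res_injective U (fun V hV => (h V hV).1) ⊤, res_surjective U h ⊤⟩

theorem S2848_main (X Y : Scheme.{u}) [IsLocallyNoetherian X] [IsAffine Y] (U : X.Opens)
    (hU : ∀ x : ↥X, x ∉ U → (2 : ℕ∞) ≤ LocCoh.depth (X.presheaf.stalk x) (X.presheaf.stalk x))
    (f : (U : Scheme.{u}) ⟶ Y) : ∃! g : X ⟶ Y, U.ι ≫ g = f := by
  haveI hiso : IsIso U.ι.appTop := by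
    have : U.ι.appTop = X.presheaf.map (homOfLE (le_top : U.ι ''ᵁ (U.ι ⁻¹ᵁ ⊤) ≤ ⊤)).op := by
      rw [Scheme.Hom.appTop, Scheme.Opens.ι_app]
    rw [this]
    apply isIso_res_top U hU
    simp
  refine ⟨X.toSpecΓ ≫ Spec.map (f.appTop ≫ inv U.ι.appTop) ≫ inv Y.toSpecΓ, ?_, ?_⟩
  · show U.ι ≫ X.toSpecΓ ≫ Spec.map (f.appTop ≫ inv U.ι.appTop) ≫ inv Y.toSpecΓ = f
    rw [← cancel_mono Y.toSpecΓ]
    simp only [Category.assoc, IsIso.inv_hom_id, Category.comp_id]
    rw [Scheme.toSpecΓ_naturality, ← Category.assoc, Scheme.toSpecΓ_naturality, Category.assoc,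
      ← Spec.map_comp]
    simp
  · intro g hg
    apply ext_of_isAffine
    rw [← cancel_mono U.ι.appTop, ← Scheme.Hom.comp_appTop, hg]
    have : U.ι ≫ X.toSpecΓ ≫ Spec.map (f.appTop ≫ inv U.ι.appTop) ≫ inv Y.toSpecΓ = f := by
      rw [← cancel_mono Y.toSpecΓ]
      simp only [Category.assoc, IsIso.inv_hom_id, Category.comp_id]
      rw [Scheme.toSpecΓ_naturality, ← Category.assoc, Scheme.toSpecΓ_naturality, Category.assoc,
        ← Spec.map_comp]
      simp
    rw [← Scheme.Hom.comp_appTop, this]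

end Groth.Agent.Lib.Helper4.Hartogs4
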