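import Mathlib
import Groth.Agent.Lib.Helper4.Hartogs4
import Groth.Agent.Lib.Helper8.Depth1

/-!
# Relative Hartogs extension: morphisms to affine-over-base targets extend across depth >= 2 loci (S19995) (helper4)
-/

set_option backward.isDefEq.respectTransparency.types false
set_option synthInstance.maxHeartbeats 400000
set_option autoImplicit false
set_option linter.unusedSectionVars false
set_option linter.style.haveILetI false
set_option linter.unusedSimpArgs false
universe u v w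
open CategoryTheory CategoryTheory.Limits AlgebraicGeometry TopologicalSpace IsLocalRing Opposite Topology
open Groth.Agent.Lib.Helper4.Hartogs4

namespace Groth.Agent.Lib.Helper4.RelHartogs1

/-- Lemma E': extension of morphisms to affine targets along a morphism inducing an isomorphism on
global sections. -/
theorem existsUnique_of_isIso_appTop {T' T Y : Scheme.{u}} (i : T' ⟶ T) [IsIso i.appTop] [IsAffine Y]
    (f : T' ⟶ Y) : ∃! g : T ⟶ Y, i ≫ g = f := by
  have key : i ≫ T.toSpecΓ ≫ Spec.map (f.appTop ≫ inv i.appTop) ≫ inv Y.toSpecΓ = f := by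
    rw [← cancel_mono Y.toSpecΓ]
    simp only [Category.assoc, IsIso.inv_hom_id, Category.comp_id]
    rw [Scheme.toSpecΓ_naturality, ← Category.assoc, Scheme.toSpecΓ_naturality, Category.assoc,
      ← Spec.map_comp]
    simp
  refine ⟨_, key, ?_⟩
  intro g hg
  apply ext_of_isAffine
  rw [← cancel_mono i.appTop, ← Scheme.Hom.comp_appTop, hg, ← Scheme.Hom.comp_appTop, key]

lemma isIso_appLE_opensRange {A B : Scheme.{u}} (f : A ⟶ B) [IsOpenImmersion f]
    (e : (⊤ : A.Opens) ≤ f ⁻¹ᵁ f.opensRange) : IsIso (f.appLE f.opensRange ⊤ e) := by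
  rw [Scheme.Hom.appLE]
  haveI : IsIso (f.app f.opensRange) := Scheme.Hom.isIso_app f _ le_rfl
  haveI : IsIso (homOfLE e).op := ⟨⟨(homOfLE le_top).op, Subsingleton.elim _ _, Subsingleton.elim _ _⟩⟩
  infer_instance

lemma isIso_appLE_of_eq_opensRange {A B : Scheme.{u}} (f : A ⟶ B) [IsOpenImmersion f] (V : B.Opens)
    (hV : V = f.opensRange) (e : (⊤ : A.Opens) ≤ f ⁻¹ᵁ V) : IsIso (f.appLE V ⊤ e) := by
  subst hV
  exact isIso_appLE_opensRange f e

/-- Lemma O': the Hartogs property passes to open subschemes. -/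
theorem isIso_appTop_pullback_snd {X T : Scheme.{u}} (U : X.Opens)
    (hbij : ∀ W : X.Opens, Function.Bijective (X.presheaf.map (homOfLE (inf_le_left : W ⊓ U ≤ W)).op))
    (j : T ⟶ X) [IsOpenImmersion j] : IsIso (pullback.snd U.ι j).appTop := by
  have hd : (pullback.snd U.ι j ≫ j).opensRange = j.opensRange ⊓ U := by
    apply Opens.ext
    have := IsOpenImmersion.range_pullback_to_base_of_left U.ι j
    rw [Scheme.Opens.range_ι] at this
    show Set.range (pullback.snd U.ι j ≫ j) = _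
    have hc : Set.range (pullback.snd U.ι j ≫ j) = Set.range (pullback.fst U.ι j ≫ U.ι) := by
      rw [pullback.condition]
    rw [hc, this, Set.inter_comm]
    rfl
  have e₁ : (⊤ : T.Opens) ≤ j ⁻¹ᵁ j.opensRange := by
    intro x _; exact ⟨x, rfl⟩
  have e₃ : (⊤ : (pullback U.ι j).Opens) ≤ (pullback.snd U.ι j ≫ j) ⁻¹ᵁ (j.opensRange ⊓ U) := by
    intro x _
    show (pullback.snd U.ι j ≫ j) x ∈ j.opensRange ⊓ U
    rw [← hd]; exact ⟨x, rfl⟩
  haveI h1 : IsIso (j.appLE j.opensRange ⊤ e₁) := isIso_appLE_opensRange j e₁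
  haveI h3 : IsIso ((pullback.snd U.ι j ≫ j).appLE (j.opensRange ⊓ U) ⊤ e₃) :=
    isIso_appLE_of_eq_opensRange _ _ hd.symm e₃
  haveI h2 : IsIso (X.presheaf.map (homOfLE (inf_le_left : j.opensRange ⊓ U ≤ j.opensRange)).op) := by
    rw [ConcreteCategory.isIso_iff_bijective]
    exact hbij _
  have heq : j.appLE j.opensRange ⊤ e₁ ≫ (pullback.snd U.ι j).appTop =
      X.presheaf.map (homOfLE (inf_le_left : j.opensRange ⊓ U ≤ j.opensRange)).op ≫
        (pullback.snd U.ι j ≫ j).appLE (j.opensRange ⊓ U) ⊤ e₃ := by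
    rw [Scheme.Hom.map_appLE]
    have : (pullback.snd U.ι j).appTop = (pullback.snd U.ι j).appLE ⊤ ⊤ le_rfl := by
      rw [Scheme.Hom.appTop, Scheme.Hom.app_eq_appLE]
      rfl
    rw [this, Scheme.Hom.appLE_comp_appLE]
  have h4 : IsIso (j.appLE j.opensRange ⊤ e₁ ≫ (pullback.snd U.ι j).appTop) := by
    rw [heq]; infer_instance
  exact IsIso.of_isIso_comp_left (j.appLE j.opensRange ⊤ e₁) _

section RH
variable {X S Z : Scheme.{u}} (U : X.Opens)
  (hbij : ∀ W : X.Opens, Function.Bijective (X.presheaf.map (homOfLE (inf_le_left : W ⊓ U ≤ W)).op))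
  (p : X ⟶ S) (q : Z ⟶ S) [IsAffineHom q] (ψ : (U : Scheme.{u}) ⟶ Z) (hψ : ψ ≫ q = U.ι ≫ p)

/-- property characterizing the local extension -/
def IsExt {T : Scheme.{u}} (j : T ⟶ X) (g : T ⟶ Z) : Prop :=
  g ≫ q = j ≫ p ∧ pullback.snd U.ι j ≫ g = pullback.fst U.ι j ≫ ψ

include hbij hψ in
theorem existsUnique_local {T V : Scheme.{u}} [IsAffine V] (j : T ⟶ X) [IsOpenImmersion j]
    (t : T ⟶ V) (v : V ⟶ S) (htv : t ≫ v = j ≫ p) : ∃! g : T ⟶ Z, IsExt U p q ψ j g := by
  haveI := isIso_appTop_pullback_snd U hbij j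
  have hcond : (pullback.fst U.ι j ≫ ψ) ≫ q = (pullback.snd U.ι j ≫ t) ≫ v := by
    rw [Category.assoc, hψ, ← Category.assoc, pullback.condition, Category.assoc, Category.assoc, htv]
  obtain ⟨g', hg', huniq'⟩ := existsUnique_of_isIso_appTop (pullback.snd U.ι j)
    (pullback.lift (pullback.fst U.ι j ≫ ψ) (pullback.snd U.ι j ≫ t) hcond : pullback U.ι j ⟶ pullback q v)
  have hsnd : g' ≫ pullback.snd q v = t := by
    obtain ⟨g₀, -, hu⟩ := existsUnique_of_isIso_appTop (pullback.snd U.ι j) (pullback.snd U.ι j ≫ t)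
    have e1 : pullback.snd U.ι j ≫ g' ≫ pullback.snd q v = pullback.snd U.ι j ≫ t := by
      rw [← Category.assoc, hg', pullback.lift_snd]
    rw [hu (g' ≫ pullback.snd q v) e1, hu t rfl]
  refine ⟨g' ≫ pullback.fst q v, ⟨?_, ?_⟩, ?_⟩
  · rw [Category.assoc, pullback.condition, ← Category.assoc, hsnd, htv]
  · rw [← Category.assoc, hg', pullback.lift_fst]
  · rintro g₁ ⟨h1, h2⟩
    have : pullback.lift g₁ t (by rw [h1, htv]) = g' := by
      apply huniq'
      show pullback.snd U.ι j ≫ pullback.lift g₁ t _ = _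
      apply pullback.hom_ext
      · rw [Category.assoc, pullback.lift_fst, pullback.lift_fst, h2]
      · rw [Category.assoc, pullback.lift_snd, pullback.lift_snd]
    rw [← this, pullback.lift_fst]

/-- the cover of `X` by the preimages of the affine opens of `S` -/
noncomputable abbrev cov : X.OpenCover := (Scheme.directedAffineCover S).pullback₁ p

include hbij hψ in
theorem relHartogs : ∃! g : X ⟶ Z, g ≫ q = p ∧ U.ι ≫ g = ψ := by
  have hloc : ∀ i : (cov p).I₀, ∃! g : (cov p).X i ⟶ Z, IsExt U p q ψ ((cov p).f i) g := by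
    intro i
    haveI : IsAffine ((Scheme.directedAffineCover S).X i) := i.2
    exact existsUnique_local U hbij p q ψ hψ ((cov p).f i) (pullback.snd p ((Scheme.directedAffineCover S).f i))
      ((Scheme.directedAffineCover S).f i) pullback.condition.symm
  choose gl hgl hgluniq using hloc
  have hcompat : ∀ {i j : (cov p).I₀} (hij : i ⟶ j), (cov p).trans hij ≫ gl j = gl i := by
    intro i j hij
    apply hgluniq i
    constructor
    · rw [Category.assoc, (hgl j).1, ← Category.assoc, Scheme.Cover.trans_map]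
    · have hm : pullback.snd U.ι ((cov p).f i) ≫ (cov p).trans hij =
          pullback.map U.ι ((cov p).f i) U.ι ((cov p).f j) (𝟙 _) ((cov p).trans hij) (𝟙 _)
            (by simp) (by simp) ≫ pullback.snd U.ι ((cov p).f j) := by
        rw [pullback.lift_snd]
      rw [← Category.assoc, hm, Category.assoc, (hgl j).2, ← Category.assoc, pullback.lift_fst,
        Category.comp_id]
  have hcharext : ∀ g : X ⟶ Z, (g ≫ q = p ∧ U.ι ≫ g = ψ) →
      ∀ i : (cov p).I₀, IsExt U p q ψ ((cov p).f i) ((cov p).f i ≫ g) := by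
    rintro g ⟨h1, h2⟩ i
    constructor
    · rw [Category.assoc, h1]
    · rw [← Category.assoc, ← pullback.condition, Category.assoc, h2]
  refine ⟨(cov p).glueMorphismsOfLocallyDirected gl hcompat, ⟨?_, ?_⟩, ?_⟩
  · apply (cov p).hom_ext
    intro i
    rw [← Category.assoc, Scheme.OpenCover.map_glueMorphismsOfLocallyDirected, (hgl i).1]
  · apply ((cov p).pullback₁ U.ι).hom_ext
    intro i
    show pullback.fst U.ι ((cov p).f i) ≫ U.ι ≫ _ = pullback.fst U.ι ((cov p).f i) ≫ ψ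
    rw [← Category.assoc, pullback.condition, Category.assoc,
      Scheme.OpenCover.map_glueMorphismsOfLocallyDirected, (hgl i).2]
  · intro g hg
    apply (cov p).hom_ext
    intro i
    rw [Scheme.OpenCover.map_glueMorphismsOfLocallyDirected]
    exact hgluniq i _ (hcharext g hg i)

end RH

/-- Lemma FD: flat local homomorphisms preserve `depth ≥ 2`. -/
theorem two_le_depth_of_flat {A B : Type u} [CommRing A] [CommRing B] [IsLocalRing A] [IsLocalRing B]
    (φ : A →+* B) (hflat : φ.Flat) [IsLocalHom φ] (h : (2 : ℕ∞) ≤ LocCoh.depth A A) :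
    (2 : ℕ∞) ≤ LocCoh.depth B B := by
  letI := φ.toAlgebra
  haveI : Module.Flat A B := hflat
  have hne : maximalIdeal A • (⊤ : Submodule A A) ≠ ⊤ := by
    rw [smul_eq_mul, Ideal.mul_top]
    exact Ideal.IsPrime.ne_top'
  obtain ⟨rs, hlen, hreg, hmem⟩ := (Groth.Agent.Helper8.Depth.le_idealDepth_iff hne 2).1 h
  have hreg' : RingTheory.Sequence.IsWeaklyRegular B (rs.map (algebraMap A B)) := hreg.of_flat
  have hmem' : ∀ r ∈ rs.map (algebraMap A B), r ∈ maximalIdeal B := by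
    intro r hr
    obtain ⟨r0, hr0, rfl⟩ := List.mem_map.mp hr
    have := hmem r0 hr0
    rw [mem_maximalIdeal, mem_nonunits_iff] at this ⊢
    exact fun hu => this (isUnit_of_map_unit φ r0 hu)
  have := Groth.Agent.Helper8.Depth.length_le_idealDepth (I := maximalIdeal B) (M := B) hreg' hmem'
  rw [List.length_map, hlen] at this
  exact this

theorem hbij_of_depth (X : Scheme.{u}) [IsLocallyNoetherian X] (U : X.Opens)
    (h : ∀ x : X, x ∉ U → (2 : ℕ∞) ≤ LocCoh.depth (X.presheaf.stalk x) (X.presheaf.stalk x))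
    (W : X.Opens) : Function.Bijective (X.presheaf.map (homOfLE (inf_le_left : W ⊓ U ≤ W)).op) := by
  have h' : ∀ V : X.Opens, IsAffineOpen V →
      Function.Bijective (X.presheaf.map (homOfLE (inf_le_left : V ⊓ U ≤ V)).op) := by
    intro V hV
    have := affine_res_isIso U h V hV
    rw [ConcreteCategory.isIso_iff_bijective] at this
    exact this
  exact ⟨res_injective U (fun V hV => (h' V hV).1) W, res_surjective U h' W⟩

theorem depth_preimage_of_flat {X S : Scheme.{u}} (p : X ⟶ S) [Flat p] (U : S.Opens)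
    (h : ∀ s : S, s ∉ U → (2 : ℕ∞) ≤ LocCoh.depth (S.presheaf.stalk s) (S.presheaf.stalk s))
    (x : X) (hx : x ∉ p ⁻¹ᵁ U) :
    (2 : ℕ∞) ≤ LocCoh.depth (X.presheaf.stalk x) (X.presheaf.stalk x) :=
  two_le_depth_of_flat (p.stalkMap x).hom (Flat.stalkMap p x) (h (p x) hx)

/-- Relative Hartogs extension: flat source over a locally Noetherian base with `depth ≥ 2` off `U`,
affine target. -/
theorem relHartogs_flat {X S Z U' : Scheme.{u}} [IsLocallyNoetherian X] (p : X ⟶ S) [Flat p]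
    (q : Z ⟶ S) [IsAffineHom q] (U : S.Opens)
    (h : ∀ s : S, s ∉ U → (2 : ℕ∞) ≤ LocCoh.depth (S.presheaf.stalk s) (S.presheaf.stalk s))
    (i : U' ⟶ X) [IsOpenImmersion i] (hi : i.opensRange = p ⁻¹ᵁ U)
    (ψ : U' ⟶ Z) (hψ : ψ ≫ q = i ≫ p) :
    ∃! g : X ⟶ Z, g ≫ q = p ∧ i ≫ g = ψ := by
  have hb := hbij_of_depth X (p ⁻¹ᵁ U) (depth_preimage_of_flat p U h)
  rw [← hi] at hb
  have hψ' : (i.isoOpensRange.inv ≫ ψ) ≫ q = i.opensRange.ι ≫ p := by
    rw [Category.assoc, hψ, ← Category.assoc]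
    congr 1
    rw [Iso.inv_comp_eq]
    exact (Scheme.Hom.isoOpensRange_hom_ι i).symm
  obtain ⟨g, ⟨hg1, hg2⟩, hguniq⟩ := relHartogs i.opensRange hb p q (i.isoOpensRange.inv ≫ ψ) hψ'
  have hι : i.isoOpensRange.hom ≫ i.opensRange.ι = i := Scheme.Hom.isoOpensRange_hom_ι i
  refine ⟨g, ⟨hg1, ?_⟩, ?_⟩
  · rw [← hι, Category.assoc, hg2, Iso.hom_inv_id_assoc]
  · rintro g' ⟨h1, h2⟩
    apply hguniq
    refine ⟨h1, ?_⟩
    rw [← h2, ← Category.assoc]
    congr 1
    rw [Iso.eq_inv_comp, hι]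

theorem S19995_main
    (S G₁ G₂ : Scheme.{u}) [AlgebraicGeometry.IsNoetherian S] (f₁ : G₁ ⟶ S) (f₂ : G₂ ⟶ S)
    [AlgebraicGeometry.IsFinite f₁] [AlgebraicGeometry.Flat f₁]
    [AlgebraicGeometry.IsFinite f₂] [AlgebraicGeometry.Flat f₂]
    (U : S.Opens)
    (hU : ∀ s : S, s ∉ U → (2 : ℕ∞) ≤ LocCoh.depth (S.presheaf.stalk s) (S.presheaf.stalk s))
    (φU : ((f₁ ⁻¹ᵁ U : G₁.Opens) : Scheme.{u}) ⟶ ((f₂ ⁻¹ᵁ U : G₂.Opens) : Scheme.{u}))
    (hφU : φU ≫ (f₂ ⁻¹ᵁ U).ι ≫ f₂ = (f₁ ⁻¹ᵁ U).ι ≫ f₁) :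
    ∃! φ : G₁ ⟶ G₂, φ ≫ f₂ = f₁ ∧ (f₁ ⁻¹ᵁ U).ι ≫ φ = φU ≫ (f₂ ⁻¹ᵁ U).ι := by
  haveI : IsLocallyNoetherian G₁ := LocallyOfFiniteType.isLocallyNoetherian f₁
  exact relHartogs_flat f₁ f₂ U hU (f₁ ⁻¹ᵁ U).ι (Scheme.Opens.opensRange_ι _)
    (φU ≫ (f₂ ⁻¹ᵁ U).ι) (by rw [Category.assoc, hφU])

end Groth.Agent.Lib.Helper4.RelHartogs1
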