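import Mathlib
import Groth.Prelude.Def_CInt
import Groth.Prelude.Def_CAlg
import Groth.Agent.Lib.Helper4.RelHartogs1

/-!
# Schematic density on locally Noetherian schemes: depth >= 1 criterion (S5091), (S1) schemes (S15712) (helper4)
-/

set_option backward.isDefEq.respectTransparency.types false
set_option synthInstance.maxHeartbeats 400000
set_option autoImplicit false
set_option linter.unusedSectionVars false
set_option linter.style.haveILetI false
set_option linter.unusedSimpArgs false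
universe u v w
open CategoryTheory CategoryTheory.Limits AlgebraicGeometry TopologicalSpace IsLocalRing Opposite Topology
open Groth.Agent.Lib.Helper4.Hartogs1 Groth.Agent.Lib.Helper4.Hartogs2 Groth.Agent.Lib.Helper4.Hartogs4
open Groth.Agent.Lib.Helper4.RelHartogs1

namespace Groth.Agent.Lib.Helper4.SchDense1

/-- transfer of injectivity from an affine open of `X` to `Spec Γ(X, V)` -/
theorem affine_inj_iff_spec {X : Scheme.{u}} (U V : X.Opens) (hV : IsAffineOpen V) :
    Function.Injective (X.presheaf.map (homOfLE (inf_le_left : V ⊓ U ≤ V)).op) ↔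
    Function.Injective ((Spec Γ(X, V)).presheaf.map
      (homOfLE (le_top : hV.fromSpec ⁻¹ᵁ (V ⊓ U) ≤ ⊤)).op) := by
  have hrange : hV.fromSpec.opensRange = V := hV.opensRange_fromSpec
  haveI i1 : IsIso (hV.fromSpec.app V) := Scheme.Hom.isIso_app hV.fromSpec V (by rw [hrange])
  haveI i2 : IsIso (hV.fromSpec.app (V ⊓ U)) :=
    Scheme.Hom.isIso_app hV.fromSpec (V ⊓ U) (by rw [hrange]; exact inf_le_left)
  have hnat := hV.fromSpec.naturality (homOfLE (inf_le_left : V ⊓ U ≤ V)).op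
  have htop : hV.fromSpec ⁻¹ᵁ V = ⊤ := hV.fromSpec_preimage_self
  have h3 : IsIso ((Spec Γ(X, V)).presheaf.map (homOfLE (le_top : hV.fromSpec ⁻¹ᵁ V ≤ ⊤)).op) := by
    have : (homOfLE (le_top : hV.fromSpec ⁻¹ᵁ V ≤ ⊤)).op = eqToHom (by rw [htop]) := Subsingleton.elim _ _
    rw [this]
    infer_instance
  have hcomp : (Spec Γ(X, V)).presheaf.map (homOfLE (le_top : hV.fromSpec ⁻¹ᵁ V ≤ ⊤)).op ≫
      (Spec Γ(X, V)).presheaf.map ((Opens.map hV.fromSpec.base).map (homOfLE (inf_le_left : V ⊓ U ≤ V))).op =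
      (Spec Γ(X, V)).presheaf.map (homOfLE (le_top : hV.fromSpec ⁻¹ᵁ (V ⊓ U) ≤ ⊤)).op := by
    rw [← Functor.map_comp]
    rfl
  have b1 : Function.Bijective (hV.fromSpec.app V) := (ConcreteCategory.isIso_iff_bijective _).1 i1
  have b2 : Function.Bijective (hV.fromSpec.app (V ⊓ U)) := (ConcreteCategory.isIso_iff_bijective _).1 i2
  have b3 : Function.Bijective ((Spec Γ(X, V)).presheaf.map (homOfLE (le_top : hV.fromSpec ⁻¹ᵁ V ≤ ⊤)).op) :=
    (ConcreteCategory.isIso_iff_bijective _).1 h3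
  have coe_comp : ∀ {A B C : CommRingCat.{u}} (f : A ⟶ B) (g : B ⟶ C),
      (⇑(ConcreteCategory.hom (f ≫ g)) : A → C) = ⇑(ConcreteCategory.hom g) ∘ ⇑(ConcreteCategory.hom f) := by
    intro A B C f g
    funext x
    rfl
  rw [← hcomp, coe_comp, Function.Injective.of_comp_iff' _ b3,
    ← Function.Injective.of_comp_iff' _ b1, ← coe_comp]
  have hnat' : hV.fromSpec.app V ≫ (Spec Γ(X, V)).presheaf.map
      ((Opens.map hV.fromSpec.base).map (homOfLE (inf_le_left : V ⊓ U ≤ V))).op =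
      X.presheaf.map (homOfLE (inf_le_left : V ⊓ U ≤ V)).op ≫ hV.fromSpec.app (V ⊓ U) := hnat.symm
  rw [hnat', coe_comp, Function.Injective.of_comp_iff b2.1]

theorem spec_inj_iff_toOpen (A : Type u) [CommRing A] (W : Opens (PrimeSpectrum.Top A)) :
    Function.Injective ((Spec (CommRingCat.of A)).presheaf.map (homOfLE (le_top : W ≤ ⊤)).op) ↔
    Function.Injective (StructureSheaf.toOpenₗ A A W) := by
  have ht := StructureSheaf.toOpenₗ_top_bijective (R := A) (M := A)
  constructor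
  · intro h m m' e
    apply ht.1
    apply h
    exact e
  · intro h s s' e
    obtain ⟨m, rfl⟩ := ht.2 s
    obtain ⟨m', rfl⟩ := ht.2 s'
    congr 1
    apply h
    exact e

/-- the closed complement of an open of `Spec A` -/
def cZ (A : Type u) [CommRing A] (W : Opens (PrimeSpectrum.Top A)) : Set (PrimeSpectrum A) :=
  {p | p ∉ W}

lemma stable_cZ (A : Type u) [CommRing A] (W : Opens (PrimeSpectrum.Top A)) :
    StableUnderSpecialization (cZ A W) := by
  intro p q hpq hp hq
  exact hp (hpq.mem_open W.isOpen hq)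

lemma exists_eq_oc (A : Type u) [CommRing A] (W : Opens (PrimeSpectrum.Top A)) :
    ∃ J : Ideal A, W = oc A J ∧ PrimeSpectrum.zeroLocus (J : Set A) = cZ A W := by
  have hcl : IsClosed (cZ A W) := by
    exact W.isOpen.isClosed_compl
  refine ⟨PrimeSpectrum.vanishingIdeal (cZ A W), ?_, ?_⟩
  · have h1 : PrimeSpectrum.zeroLocus (PrimeSpectrum.vanishingIdeal (cZ A W) : Set A) = cZ A W := by
      rw [PrimeSpectrum.zeroLocus_vanishingIdeal_eq_closure, hcl.closure_eq]
    ext p
    show p ∈ W ↔ p ∉ PrimeSpectrum.zeroLocus (PrimeSpectrum.vanishingIdeal (cZ A W) : Set A)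
    rw [h1]
    exact not_not.symm
  · rw [PrimeSpectrum.zeroLocus_vanishingIdeal_eq_closure, hcl.closure_eq]

theorem spec_inj_iff_depth (A : Type u) [CommRing A] [IsNoetherianRing A]
    (W : Opens (PrimeSpectrum.Top A)) :
    (∀ W' : Opens (PrimeSpectrum.Top A), W ≤ W' → Function.Injective (StructureSheaf.toOpenₗ A A W')) ↔
    ∀ p : PrimeSpectrum A, p ∉ W → (1 : ℕ∞) ≤
      LocCoh.depth (Localization.AtPrime p.asIdeal) (Localization.AtPrime p.asIdeal) := by
  have key := ((S2719_main (A := A) (M := A) (cZ A W) (stable_cZ A W)).2 inferInstance)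
  have hpure : EGA4.IsPureAlong (cZ A W) A ↔
      (∀ W' : Opens (PrimeSpectrum.Top A), W ≤ W' → Function.Injective (StructureSheaf.toOpenₗ A A W')) := by
    constructor
    · intro h W' hWW'
      obtain ⟨J, hJ, hJZ⟩ := exists_eq_oc A W'
      rw [hJ, ← inj_iff]
      apply h
      rw [hJZ]
      intro p hp hpW
      exact hp (hWW' hpW)
    · intro h J hJ
      rw [inj_iff]
      apply h
      intro p hpW
      show p ∉ PrimeSpectrum.zeroLocus (J : Set A)
      intro hp
      exact hJ hp hpW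
  rw [← hpure, key]
  constructor
  · intro h p hp
    rw [← Groth.Agent.Helper8.Depth.depth_localizedModule_self]
    exact h p hp
  · intro h p hp
    rw [Groth.Agent.Helper8.Depth.depth_localizedModule_self]
    exact h p hp

theorem depth_stalk_eq {X : Scheme.{u}} {V : X.Opens} (hV : IsAffineOpen V) (p : PrimeSpectrum Γ(X, V)) :
    LocCoh.depth (X.presheaf.stalk (hV.fromSpec p)) (X.presheaf.stalk (hV.fromSpec p)) =
      LocCoh.depth (Localization.AtPrime p.asIdeal) (Localization.AtPrime p.asIdeal) := by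
  have hpV : hV.fromSpec p ∈ V := by
    have : hV.fromSpec p ∈ hV.fromSpec.opensRange := ⟨p, rfl⟩
    rwa [hV.opensRange_fromSpec] at this
  have hloc := hV.isLocalization_stalk' p hpV
  letI := TopCat.Presheaf.algebra_section_stalk X.presheaf ⟨hV.fromSpec p, hpV⟩
  haveI : IsLocalization p.asIdeal.primeCompl (X.presheaf.stalk (hV.fromSpec p)) := hloc
  have e := IsLocalization.algEquiv p.asIdeal.primeCompl (Localization.AtPrime p.asIdeal)
    (X.presheaf.stalk (hV.fromSpec p))
  exact depth_self_eq_of_ringEquiv e.toRingEquiv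

lemma fromSpec_mem {X : Scheme.{u}} {V : X.Opens} (hV : IsAffineOpen V) (p : PrimeSpectrum Γ(X, V)) :
    hV.fromSpec p ∈ V := by
  have : hV.fromSpec p ∈ hV.fromSpec.opensRange := ⟨p, rfl⟩
  rwa [hV.opensRange_fromSpec] at this

theorem affine_inj_iff_depth {X : Scheme.{u}} [IsLocallyNoetherian X] (U V : X.Opens) (hV : IsAffineOpen V) :
    (∀ U' : X.Opens, U ≤ U' → Function.Injective (X.presheaf.map (homOfLE (inf_le_left : V ⊓ U' ≤ V)).op)) ↔
    ∀ p : PrimeSpectrum Γ(X, V), hV.fromSpec p ∉ U → (1 : ℕ∞) ≤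
      LocCoh.depth (X.presheaf.stalk (hV.fromSpec p)) (X.presheaf.stalk (hV.fromSpec p)) := by
  haveI : IsNoetherianRing Γ(X, V) := IsLocallyNoetherian.component_noetherian ⟨V, hV⟩
  have hmem : ∀ p : PrimeSpectrum Γ(X, V), p ∉ hV.fromSpec ⁻¹ᵁ (V ⊓ U) ↔ hV.fromSpec p ∉ U := by
    intro p
    constructor
    · intro h hU
      exact h ⟨fromSpec_mem hV p, hU⟩
    · intro h hU
      exact h hU.2
  constructor
  · intro h p hp
    rw [depth_stalk_eq]
    apply (spec_inj_iff_depth Γ(X, V) (hV.fromSpec ⁻¹ᵁ (V ⊓ U))).1 _ p ((hmem p).2 hp)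
    intro W' hWW'
    have hinj := (spec_inj_iff_toOpen Γ(X, V) _).1 ((affine_inj_iff_spec U V hV).1 (h U le_rfl))
    have hfac : ⇑(StructureSheaf.toOpenₗ Γ(X, V) Γ(X, V) (hV.fromSpec ⁻¹ᵁ (V ⊓ U))) =
        ⇑((structureSheafInType Γ(X, V) Γ(X, V)).obj.map (homOfLE hWW').op) ∘
          ⇑(StructureSheaf.toOpenₗ Γ(X, V) Γ(X, V) W') := by
      funext m
      rfl
    rw [hfac] at hinj
    exact Function.Injective.of_comp hinj
  · intro h U' hUU'
    rw [affine_inj_iff_spec U' V hV]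
    apply (spec_inj_iff_toOpen Γ(X, V) (hV.fromSpec ⁻¹ᵁ (V ⊓ U'))).2
    apply (spec_inj_iff_depth Γ(X, V) (hV.fromSpec ⁻¹ᵁ (V ⊓ U))).2
    · intro p hp
      rw [← depth_stalk_eq hV p]
      exact h p ((hmem p).1 hp)
    · intro p hp
      exact ⟨hp.1, hUU' hp.2⟩

theorem isSchematicallyDense_mono {X : Scheme.{u}} {U U' : X.Opens} (h : CInt.IsSchematicallyDense U)
    (hUU' : U ≤ U') : CInt.IsSchematicallyDense U' := by
  intro W
  have hfac : ⇑(ConcreteCategory.hom (X.presheaf.map (homOfLE (inf_le_left : W ⊓ U ≤ W)).op)) =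
      ⇑(ConcreteCategory.hom (X.presheaf.map (homOfLE (inf_le_inf_left W hUU' : W ⊓ U ≤ W ⊓ U')).op)) ∘
      ⇑(ConcreteCategory.hom (X.presheaf.map (homOfLE (inf_le_left : W ⊓ U' ≤ W)).op)) := by
    funext s
    exact (res_res _ _ _ s).symm
  have := h W
  rw [hfac] at this
  exact Function.Injective.of_comp this

theorem S5091_main (X : Scheme.{u}) [IsLocallyNoetherian X] (U : X.Opens) :
    CInt.IsSchematicallyDense U ↔
      ∀ x : ↥X, x ∉ U → (1 : ℕ∞) ≤ LocCoh.depth ↑(X.presheaf.stalk x) ↑(X.presheaf.stalk x) := by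
  constructor
  · intro h x hx
    obtain ⟨V, hV, hxV, -⟩ := Opens.isBasis_iff_nbhd.1 (X.isBasis_affineOpens) (show x ∈ (⊤ : X.Opens) from trivial)
    have key := (affine_inj_iff_depth U V hV).1 (fun U' hUU' => isSchematicallyDense_mono h hUU' V)
      (hV.primeIdealOf ⟨x, hxV⟩)
    rw [hV.fromSpec_primeIdealOf ⟨x, hxV⟩] at key
    exact key hx
  · intro h
    apply res_injective U
    intro V hV
    exact (affine_inj_iff_depth U V hV).2 (fun p hp => h _ hp) U le_rfl


lemma minimal_mem_dense_open (A : Type u) [CommRing A] [IsNoetherianRing A]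
    (W : Set (PrimeSpectrum A)) (hW : IsOpen W) (hd : Dense W) (p : PrimeSpectrum A)
    (hp : p.asIdeal ∈ minimalPrimes A) : p ∈ W := by
  have hZ : PrimeSpectrum.zeroLocus (p.asIdeal : Set A) ∈ irreducibleComponents (PrimeSpectrum A) := by
    rw [← PrimeSpectrum.zeroLocus_minimalPrimes]
    exact ⟨p.asIdeal, hp, rfl⟩
  obtain ⟨o, ho, hne, hoZ⟩ := NoetherianSpace.exists_isOpen_nonempty_subset_irreducibleComponent _ hZ
  obtain ⟨q, hqo, hqW⟩ := hd.inter_open_nonempty o ho hne
  have hpq : p ⤳ q := (PrimeSpectrum.le_iff_specializes p q).1 (by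
    have := hoZ hqo
    rwa [PrimeSpectrum.mem_zeroLocus] at this)
  exact hpq.mem_open hW hqW

theorem one_le_dim_stalk {X : Scheme.{u}} [IsLocallyNoetherian X] (U : X.Opens) (hU : Dense (U : Set X))
    {V : X.Opens} (hV : IsAffineOpen V) (p : PrimeSpectrum Γ(X, V)) (hp : hV.fromSpec p ∉ U) :
    (1 : WithBot ℕ∞) ≤ ringKrullDim (X.presheaf.stalk (hV.fromSpec p)) := by
  haveI : IsNoetherianRing Γ(X, V) := IsLocallyNoetherian.component_noetherian ⟨V, hV⟩
  have hpV := fromSpec_mem hV p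
  have hloc := hV.isLocalization_stalk' p hpV
  letI := TopCat.Presheaf.algebra_section_stalk X.presheaf ⟨hV.fromSpec p, hpV⟩
  haveI : IsLocalization.AtPrime (X.presheaf.stalk (hV.fromSpec p)) p.asIdeal := hloc
  rw [IsLocalization.AtPrime.ringKrullDim_eq_height p.asIdeal (X.presheaf.stalk (hV.fromSpec p))]
  have hnm : p.asIdeal ∉ minimalPrimes Γ(X, V) := by
    intro hmin
    apply hp
    have hd : Dense (hV.fromSpec ⁻¹' (U : Set X)) :=
      hU.preimage hV.fromSpec.isOpenEmbedding.isOpenMap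
    exact minimal_mem_dense_open Γ(X, V) _ (U.isOpen.preimage hV.fromSpec.continuous) hd p hmin
  have : (1 : ℕ∞) ≤ p.asIdeal.height := by
    rw [Order.one_le_iff_ne_zero, Ne, Ideal.height_eq_zero_iff]
    exact hnm
  exact_mod_cast this

theorem dense_of_isSchematicallyDense {X : Scheme.{u}} (U : X.Opens) (h : CInt.IsSchematicallyDense U) :
    Dense (U : Set X) := by
  rw [dense_iff_inter_open]
  intro W hW hne
  by_contra hcon
  rw [Set.not_nonempty_iff_eq_empty] at hcon
  have hbot : (⟨W, hW⟩ : X.Opens) ⊓ U = ⊥ := SetLike.ext' hcon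
  haveI : Nonempty (⟨W, hW⟩ : X.Opens) := hne.to_subtype
  haveI : Nontrivial Γ(X, (⟨W, hW⟩ : X.Opens)) := inferInstance
  haveI : Subsingleton Γ(X, (⟨W, hW⟩ : X.Opens) ⊓ U) := by rw [hbot]; infer_instance
  exact zero_ne_one (h ⟨W, hW⟩ (Subsingleton.elim _ _))

theorem S15712_main (X : Scheme.{u}) [IsLocallyNoetherian X]
    (hS1 : ∀ x : X, min (1 : WithBot ℕ∞) (ringKrullDim (X.presheaf.stalk x)) ≤
      ((LocCoh.depth (X.presheaf.stalk x) (X.presheaf.stalk x) : ℕ∞) : WithBot ℕ∞))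
    (U : X.Opens) : CInt.IsSchematicallyDense U ↔ Dense (U : Set X) := by
  refine ⟨dense_of_isSchematicallyDense U, fun hd => ?_⟩
  rw [S5091_main]
  intro x hx
  obtain ⟨V, hV, hxV, -⟩ := Opens.isBasis_iff_nbhd.1 (X.isBasis_affineOpens) (show x ∈ (⊤ : X.Opens) from trivial)
  have key := one_le_dim_stalk U hd hV (hV.primeIdealOf ⟨x, hxV⟩)
  rw [hV.fromSpec_primeIdealOf ⟨x, hxV⟩] at key
  have h1 := hS1 x
  rw [min_eq_left (key hx)] at h1
  exact_mod_cast h1

end Groth.Agent.Lib.Helper4.SchDense1
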