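import Mathlib
import Groth.Prelude.Def_Coh
import Groth.Prelude.Def_Pic
import Groth.Prelude.Def_CInt
import Groth.Prelude.Def_CAlg
import Groth.Agent.Lib.Helper4.SchDense1

/-!
# Hartogs and schematic density for invertible modules; generic sheaf gluing of restriction bijectivity (S14330) (helper4)
-/

set_option backward.isDefEq.respectTransparency.types false
set_option synthInstance.maxHeartbeats 400000
set_option autoImplicit false
set_option linter.unusedSectionVars false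
set_option linter.style.haveILetI false
set_option linter.unusedSimpArgs false
universe u v w
open CategoryTheory CategoryTheory.Limits AlgebraicGeometry TopologicalSpace IsLocalRing Opposite Topology
open Groth.Agent.Lib.Helper4.Hartogs4 Groth.Agent.Lib.Helper4.RelHartogs1 Groth.Agent.Lib.Helper4.SchDense1

namespace Groth.Agent.Lib.Helper4.ModHartogs1

section generic
variable {X : TopCat.{u}} (F : TopCat.Sheaf Ab.{u} X) (U : Opens X) (B : Set (Opens X))

lemma gres_res {A B' C : Opens X} (i : B' ⟶ A) (j : C ⟶ B') (k : C ⟶ A) (s : ToType (F.1.obj (op A))) :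
    F.1.map j.op (F.1.map i.op s) = F.1.map k.op s := by
  rw [← ConcreteCategory.comp_apply, ← F.1.map_comp]
  rfl

variable {B}

lemma le_iSup_basis (hB : ∀ (W : Opens X) (x : X), x ∈ W → ∃ V ∈ B, x ∈ V ∧ V ≤ W) (W : Opens X) :
    W ≤ ⨆ V : {V : B // (V : Opens X) ≤ W}, (V.1 : Opens X) := by
  intro x hx
  obtain ⟨V, hV, hxV, hVW⟩ := hB W x hx
  rw [Opens.mem_iSup]
  exact ⟨⟨⟨V, hV⟩, hVW⟩, hxV⟩

theorem gres_injective (hB : ∀ (W : Opens X) (x : X), x ∈ W → ∃ V ∈ B, x ∈ V ∧ V ≤ W)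
    (h : ∀ V ∈ B, Function.Injective (F.1.map (homOfLE (inf_le_left : V ⊓ U ≤ V)).op))
    (W : Opens X) :
    Function.Injective (F.1.map (homOfLE (inf_le_left : W ⊓ U ≤ W)).op) := by
  intro s t hst
  apply F.eq_of_locally_eq' (fun V : {V : B // (V : Opens X) ≤ W} => (V.1 : Opens X)) W
    (fun V => homOfLE V.2) (le_iSup_basis hB W)
  intro V
  apply h V.1.1 V.1.2
  show F.1.map _ (F.1.map _ s) = F.1.map _ (F.1.map _ t)
  rw [gres_res F _ _ (homOfLE (le_trans inf_le_left V.2 : V.1.1 ⊓ U ≤ W)),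
    gres_res F _ _ (homOfLE (le_trans inf_le_left V.2 : V.1.1 ⊓ U ≤ W))]
  rw [← gres_res F (homOfLE (inf_le_left : W ⊓ U ≤ W)) (homOfLE (inf_le_inf_right U V.2 : V.1.1 ⊓ U ≤ W ⊓ U)) _ s,
    ← gres_res F (homOfLE (inf_le_left : W ⊓ U ≤ W)) (homOfLE (inf_le_inf_right U V.2 : V.1.1 ⊓ U ≤ W ⊓ U)) _ t, hst]

theorem gres_surjective (hB : ∀ (W : Opens X) (x : X), x ∈ W → ∃ V ∈ B, x ∈ V ∧ V ≤ W)
    (h : ∀ V ∈ B, Function.Bijective (F.1.map (homOfLE (inf_le_left : V ⊓ U ≤ V)).op))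
    (W : Opens X) :
    Function.Surjective (F.1.map (homOfLE (inf_le_left : W ⊓ U ≤ W)).op) := by
  intro t
  have hinj := gres_injective F U hB (fun V hV => (h V hV).1)
  have hex : ∀ V : {V : B // (V : Opens X) ≤ W}, ∃ sV : ToType (F.1.obj (op V.1.1)),
      F.1.map (homOfLE (inf_le_left : V.1.1 ⊓ U ≤ V.1.1)).op sV =
        F.1.map (homOfLE (inf_le_inf_right U V.2 : V.1.1 ⊓ U ≤ W ⊓ U)).op t :=
    fun V => (h V.1.1 V.1.2).2 _
  choose sf hsf using hex
  have hcompat : TopCat.Presheaf.IsCompatible F.1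
      (fun V : {V : B // (V : Opens X) ≤ W} => (V.1 : Opens X)) sf := by
    intro V V'
    apply hinj (V.1.1 ⊓ V'.1.1)
    show F.1.map _ (F.1.map _ (sf V)) = F.1.map _ (F.1.map _ (sf V'))
    have e1 : F.1.map (homOfLE (inf_le_left : (V.1.1 ⊓ V'.1.1) ⊓ U ≤ V.1.1 ⊓ V'.1.1)).op
        (F.1.map (Opens.infLELeft V.1.1 V'.1.1).op (sf V)) =
        F.1.map (homOfLE (inf_le_inf_right U (le_trans inf_le_left V.2) : (V.1.1 ⊓ V'.1.1) ⊓ U ≤ W ⊓ U)).op t := by
      rw [gres_res F _ _ (homOfLE (le_trans inf_le_left inf_le_left : (V.1.1 ⊓ V'.1.1) ⊓ U ≤ V.1.1)),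
        ← gres_res F (homOfLE (inf_le_left : V.1.1 ⊓ U ≤ V.1.1))
          (homOfLE (inf_le_inf_right U inf_le_left : (V.1.1 ⊓ V'.1.1) ⊓ U ≤ V.1.1 ⊓ U)) _ (sf V), hsf V,
        gres_res]
    have e2 : F.1.map (homOfLE (inf_le_left : (V.1.1 ⊓ V'.1.1) ⊓ U ≤ V.1.1 ⊓ V'.1.1)).op
        (F.1.map (Opens.infLERight V.1.1 V'.1.1).op (sf V')) =
        F.1.map (homOfLE (inf_le_inf_right U (le_trans inf_le_left V.2) : (V.1.1 ⊓ V'.1.1) ⊓ U ≤ W ⊓ U)).op t := by
      rw [gres_res F _ _ (homOfLE (le_trans inf_le_left inf_le_right : (V.1.1 ⊓ V'.1.1) ⊓ U ≤ V'.1.1)),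
        ← gres_res F (homOfLE (inf_le_left : V'.1.1 ⊓ U ≤ V'.1.1))
          (homOfLE (inf_le_inf_right U inf_le_right : (V.1.1 ⊓ V'.1.1) ⊓ U ≤ V'.1.1 ⊓ U)) _ (sf V'), hsf V',
        gres_res]
    exact e1.trans e2.symm
  obtain ⟨s, hs, -⟩ := F.existsUnique_gluing'
    (fun V : {V : B // (V : Opens X) ≤ W} => (V.1 : Opens X)) W
    (fun V => homOfLE V.2) (le_iSup_basis hB W) sf hcompat
  refine ⟨s, ?_⟩
  apply F.eq_of_locally_eq'
    (fun V : {V : B // (V : Opens X) ≤ W} => (V.1 : Opens X) ⊓ U) (W ⊓ U)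
    (fun V => homOfLE (inf_le_inf_right U V.2)) ?_
  · intro V
    show F.1.map _ (F.1.map _ s) = F.1.map _ t
    rw [← hsf V, ← hs V]
    show _ = F.1.map _ (F.1.map _ s)
    rw [gres_res F _ _ (homOfLE (le_trans inf_le_left V.2 : V.1.1 ⊓ U ≤ W)),
      gres_res F _ _ (homOfLE (le_trans inf_le_left V.2 : V.1.1 ⊓ U ≤ W))]
  · intro x hx
    have := le_iSup_basis hB W hx.1
    rw [Opens.mem_iSup] at this ⊢
    obtain ⟨V, hxV⟩ := this
    exact ⟨V, hxV, hx.2⟩

end generic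

variable {Y : Scheme.{u}} (L : Y.Modules) (T : Y.Opens)
  (e : L.restrict T.ι ≅ Coh.structureModule (↑T))

example (V' : T.toScheme.Opens) : Γ(L.restrict T.ι, V') = Γ(L, T.ι ''ᵁ V') := rfl

example (V' : T.toScheme.Opens) : (ToType Γ(Coh.structureModule (↑T), V')) = (Γ(Y, T.ι ''ᵁ V') : Type u) := rfl

/-- the comparison map on sections -/
noncomputable def α (V' : T.toScheme.Opens) : ToType Γ(L, T.ι ''ᵁ V') → Γ(Y, T.ι ''ᵁ V') :=
  fun s => e.hom.app V' s

lemma α_bij (V' : T.toScheme.Opens) : Function.Bijective (α L T e V') := by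
  have : IsIso (e.hom.app V') := inferInstance
  rw [ConcreteCategory.isIso_iff_bijective] at this
  exact this

lemma α_nat {V₁ V₂ : T.toScheme.Opens} (i : V₂ ⟶ V₁) (s : ToType Γ(L, T.ι ''ᵁ V₁)) :
    α L T e V₂ (L.presheaf.map (T.ι.opensFunctor.map i).op s) =
      Y.presheaf.map (T.ι.opensFunctor.map i).op (α L T e V₁ s) := by
  have := e.hom.mapPresheaf.naturality i.op
  have h2 := congrArg (fun φ => φ s) this
  exact h2


section modres

lemma inj_transport {X : TopCat.{u}} (F : TopCat.Presheaf Ab.{u} X) {A₁ A₂ V VU : Opens X}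
    (h₁ : A₁ = V) (h₂ : A₂ = VU) (hA : A₂ ≤ A₁) (hV : VU ≤ V) :
    Function.Injective (F.map (homOfLE hA).op) ↔ Function.Injective (F.map (homOfLE hV).op) := by
  subst h₁; subst h₂; rfl

lemma bij_transport {X : TopCat.{u}} (F : TopCat.Presheaf Ab.{u} X) {A₁ A₂ V VU : Opens X}
    (h₁ : A₁ = V) (h₂ : A₂ = VU) (hA : A₂ ≤ A₁) (hV : VU ≤ V) :
    Function.Bijective (F.map (homOfLE hA).op) ↔ Function.Bijective (F.map (homOfLE hV).op) := by
  subst h₁; subst h₂; rfl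

lemma inj_transport' {Y : Scheme.{u}} {A₁ A₂ V VU : Y.Opens}
    (h₁ : A₁ = V) (h₂ : A₂ = VU) (hA : A₂ ≤ A₁) (hV : VU ≤ V) :
    Function.Injective (Y.presheaf.map (homOfLE hA).op) ↔ Function.Injective (Y.presheaf.map (homOfLE hV).op) := by
  subst h₁; subst h₂; rfl

lemma bij_transport' {Y : Scheme.{u}} {A₁ A₂ V VU : Y.Opens}
    (h₁ : A₁ = V) (h₂ : A₂ = VU) (hA : A₂ ≤ A₁) (hV : VU ≤ V) :
    Function.Bijective (Y.presheaf.map (homOfLE hA).op) ↔ Function.Bijective (Y.presheaf.map (homOfLE hV).op) := by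
  subst h₁; subst h₂; rfl

variable {Y : Scheme.{u}} (L : Y.Modules) (U : Y.Opens)

/-- the basis of opens over which `L` is trivial -/
def triv : Set Y.Opens :=
  {V | ∃ T : Y.Opens, V ≤ T ∧ Nonempty (L.restrict T.ι ≅ Coh.structureModule (↑T))}

lemma triv_basis (hL : PicF.IsInvertible L) (W : Y.Opens) (x : Y) (hx : x ∈ W) :
    ∃ V ∈ triv L, x ∈ V ∧ V ≤ W := by
  obtain ⟨T, hxT, hT⟩ := hL x
  exact ⟨W ⊓ T, ⟨T, inf_le_right, hT⟩, ⟨hx, hxT⟩, inf_le_left⟩

lemma conj_inj (T : Y.Opens) (e : L.restrict T.ι ≅ Coh.structureModule (↑T))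
    {V₁ V₂ : T.toScheme.Opens} (i : V₂ ⟶ V₁) :
    Function.Injective (L.presheaf.map (T.ι.opensFunctor.map i).op) ↔
      Function.Injective (Y.presheaf.map (T.ι.opensFunctor.map i).op) := by
  have hnat : α L T e V₂ ∘ ⇑(ConcreteCategory.hom (L.presheaf.map (T.ι.opensFunctor.map i).op)) =
      ⇑(ConcreteCategory.hom (Y.presheaf.map (T.ι.opensFunctor.map i).op)) ∘ α L T e V₁ := by
    funext s
    exact α_nat L T e i s
  rw [← Function.Injective.of_comp_iff (α_bij L T e V₂).1, hnat,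
    Function.Injective.of_comp_iff' _ (α_bij L T e V₁)]

lemma conj_bij (T : Y.Opens) (e : L.restrict T.ι ≅ Coh.structureModule (↑T))
    {V₁ V₂ : T.toScheme.Opens} (i : V₂ ⟶ V₁) :
    Function.Bijective (L.presheaf.map (T.ι.opensFunctor.map i).op) ↔
      Function.Bijective (Y.presheaf.map (T.ι.opensFunctor.map i).op) := by
  have hnat : α L T e V₂ ∘ ⇑(ConcreteCategory.hom (L.presheaf.map (T.ι.opensFunctor.map i).op)) =
      ⇑(ConcreteCategory.hom (Y.presheaf.map (T.ι.opensFunctor.map i).op)) ∘ α L T e V₁ := by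
    funext s
    exact α_nat L T e i s
  rw [← Function.Bijective.of_comp_iff' (α_bij L T e V₂), hnat,
    Function.Bijective.of_comp_iff _ (α_bij L T e V₁)]

lemma image_preimage_of_le (T : Y.Opens) {V : Y.Opens} (h : V ≤ T) : T.ι ''ᵁ (T.ι ⁻¹ᵁ V) = V := by
  apply le_antisymm
  · rintro _ ⟨x, hx, rfl⟩
    exact hx
  · intro x hx
    exact ⟨⟨x, h hx⟩, hx, rfl⟩

theorem modres_inj_of_triv {V : Y.Opens} (hV : V ∈ triv L)
    (h : Function.Injective (Y.presheaf.map (homOfLE (inf_le_left : V ⊓ U ≤ V)).op)) :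
    Function.Injective (L.presheaf.map (homOfLE (inf_le_left : V ⊓ U ≤ V)).op) := by
  obtain ⟨T, hVT, ⟨e⟩⟩ := hV
  have h₁ := image_preimage_of_le T hVT
  have h₂ := image_preimage_of_le T (le_trans inf_le_left hVT : V ⊓ U ≤ T)
  have i : T.ι ⁻¹ᵁ (V ⊓ U) ⟶ T.ι ⁻¹ᵁ V := homOfLE (fun x hx => hx.1)
  have key := conj_inj L T e i
  have hi : T.ι.opensFunctor.map i = homOfLE (by rw [h₁, h₂]; exact inf_le_left) := Subsingleton.elim _ _
  rw [hi] at key
  rw [inj_transport L.presheaf h₁ h₂ _ inf_le_left, inj_transport' h₁ h₂ _ inf_le_left] at key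
  exact key.2 h

theorem modres_bij_of_triv {V : Y.Opens} (hV : V ∈ triv L)
    (h : Function.Bijective (Y.presheaf.map (homOfLE (inf_le_left : V ⊓ U ≤ V)).op)) :
    Function.Bijective (L.presheaf.map (homOfLE (inf_le_left : V ⊓ U ≤ V)).op) := by
  obtain ⟨T, hVT, ⟨e⟩⟩ := hV
  have h₁ := image_preimage_of_le T hVT
  have h₂ := image_preimage_of_le T (le_trans inf_le_left hVT : V ⊓ U ≤ T)
  have i : T.ι ⁻¹ᵁ (V ⊓ U) ⟶ T.ι ⁻¹ᵁ V := homOfLE (fun x hx => hx.1)
  have key := conj_bij L T e i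
  have hi : T.ι.opensFunctor.map i = homOfLE (by rw [h₁, h₂]; exact inf_le_left) := Subsingleton.elim _ _
  rw [hi] at key
  rw [bij_transport L.presheaf h₁ h₂ _ inf_le_left, bij_transport' h₁ h₂ _ inf_le_left] at key
  exact key.2 h

theorem modres_inj (hL : PicF.IsInvertible L)
    (h : ∀ W : Y.Opens, Function.Injective (Y.presheaf.map (homOfLE (inf_le_left : W ⊓ U ≤ W)).op))
    (W : Y.Opens) : Function.Injective (L.presheaf.map (homOfLE (inf_le_left : W ⊓ U ≤ W)).op) :=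
  gres_injective ⟨L.presheaf, L.isSheaf⟩ U (triv_basis L hL)
    (fun V hV => modres_inj_of_triv L U hV (h V)) W

theorem modres_bij (hL : PicF.IsInvertible L)
    (h : ∀ W : Y.Opens, Function.Bijective (Y.presheaf.map (homOfLE (inf_le_left : W ⊓ U ≤ W)).op))
    (W : Y.Opens) : Function.Bijective (L.presheaf.map (homOfLE (inf_le_left : W ⊓ U ≤ W)).op) :=
  ⟨gres_injective ⟨L.presheaf, L.isSheaf⟩ U (triv_basis L hL)
    (fun V hV => (modres_bij_of_triv L U hV (h V)).1) W,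
   gres_surjective ⟨L.presheaf, L.isSheaf⟩ U (triv_basis L hL)
    (fun V hV => modres_bij_of_triv L U hV (h V)) W⟩

end modres


theorem le_depth_of_flat {A B : Type u} [CommRing A] [CommRing B] [IsLocalRing A] [IsLocalRing B]
    (φ : A →+* B) (hflat : φ.Flat) [IsLocalHom φ] (n : ℕ) (h : (n : ℕ∞) ≤ LocCoh.depth A A) :
    (n : ℕ∞) ≤ LocCoh.depth B B := by
  letI := φ.toAlgebra
  haveI : Module.Flat A B := hflat
  have hne : maximalIdeal A • (⊤ : Submodule A A) ≠ ⊤ := by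
    rw [smul_eq_mul, Ideal.mul_top]
    exact Ideal.IsPrime.ne_top'
  obtain ⟨rs, hlen, hreg, hmem⟩ := (Groth.Agent.Helper8.Depth.le_idealDepth_iff hne n).1 h
  have hreg' : RingTheory.Sequence.IsWeaklyRegular B (rs.map (algebraMap A B)) := hreg.of_flat
  have hmem' : ∀ r ∈ rs.map (algebraMap A B), r ∈ maximalIdeal B := by
    intro r hr
    obtain ⟨r0, hr0, rfl⟩ := List.mem_map.mp hr
    have := hmem r0 hr0
    rw [mem_maximalIdeal, mem_nonunits_iff] at this ⊢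
    exact fun hu => this (isUnit_of_map_unit φ r0 hu)
  have := Groth.Agent.Helper8.Depth.length_le_idealDepth (I := maximalIdeal B) (M := B) hreg' hmem'
  rw [List.length_map, hlen] at this
  exact this

theorem S14330_main {S A : Scheme.{u}} [IsLocallyNoetherian S]
    (f : A ⟶ S) [Smooth f] (L : A.Modules) (hL : PicF.IsInvertible L) (V : S.Opens) :
    (CInt.IsSchematicallyDense V →
      ∀ W : S.Opens, Function.Injective (L.val.map (homOfLE (inf_le_left : f ⁻¹ᵁ W ⊓ f ⁻¹ᵁ V ≤ f ⁻¹ᵁ W)).op)) ∧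
    ((∀ x : S, x ∉ V → 2 ≤ LocCoh.depth (S.presheaf.stalk x) (S.presheaf.stalk x)) →
      ∀ W : S.Opens, Function.Bijective (L.val.map (homOfLE (inf_le_left : f ⁻¹ᵁ W ⊓ f ⁻¹ᵁ V ≤ f ⁻¹ᵁ W)).op)) := by
  haveI : IsLocallyNoetherian A := LocallyOfFiniteType.isLocallyNoetherian f
  constructor
  · intro hV W
    have h1 := (S5091_main S V).1 hV
    have h2 : CInt.IsSchematicallyDense (f ⁻¹ᵁ V) := by
      rw [S5091_main]
      intro x hx
      have := le_depth_of_flat (f.stalkMap x).hom (Flat.stalkMap f x) 1 (by exact_mod_cast h1 (f x) hx)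
      exact_mod_cast this
    exact modres_inj L (f ⁻¹ᵁ V) hL h2 (f ⁻¹ᵁ W)
  · intro hV W
    exact modres_bij L (f ⁻¹ᵁ V) hL (hbij_of_depth A (f ⁻¹ᵁ V) (depth_preimage_of_flat f V hV)) (f ⁻¹ᵁ W)

end Groth.Agent.Lib.Helper4.ModHartogs1
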