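import Mathlib
import Groth.Prelude.Def_CAlg
import Groth.Prelude.Def_FlatMod2
import Groth.Prelude.Def_EGA4c
import Groth.Prelude.Def_LocCohZ
import Groth.Prelude.Def_Coh
import Groth.Agent.Lib.Lead.SD1
import Groth.Agent.Lib.Helper1.AffFin
import Groth.Agent.Lib.Helper8.Depth23
import Groth.Agent.Lib.Helper4.Hartogs1
import Groth.Agent.Lib.Helper4.ModHartogs1

/-!
# Hartogs for coherent modules on locally Noetherian schemes: depth >= 2 off U iff sections extend (S6039) (helper4)
-/

set_option backward.isDefEq.respectTransparency.types false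
set_option synthInstance.maxHeartbeats 400000
set_option autoImplicit false
set_option linter.unusedSectionVars false
set_option linter.style.haveILetI false
set_option linter.unusedSimpArgs false
universe u v w
open CategoryTheory CategoryTheory.Limits AlgebraicGeometry TopologicalSpace IsLocalRing Opposite Topology
open Groth.Agent.Lib.Helper4.Hartogs1 Groth.Agent.Lib.Helper4.ModHartogs1

namespace Groth.Agent.Lib.Helper4.CohHartogs1

theorem semilinear_of_isLocalizedModule {R : Type*} [CommRing R] (S : Submonoid R)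
    {A₁ A₂ : Type*} [CommRing A₁] [CommRing A₂] [Algebra R A₁] [Algebra R A₂]
    [IsLocalization S A₁] [IsLocalization S A₂]
    {N L₁ L₂ : Type*} [AddCommGroup N] [Module R N]
    [AddCommGroup L₁] [Module R L₁] [Module A₁ L₁] [IsScalarTower R A₁ L₁]
    [AddCommGroup L₂] [Module R L₂] [Module A₂ L₂] [IsScalarTower R A₂ L₂]
    (f₁ : N →ₗ[R] L₁) (f₂ : N →ₗ[R] L₂) [IsLocalizedModule S f₁] [IsLocalizedModule S f₂]
    (a : A₁) (y : L₁) :
    IsLocalizedModule.linearEquiv S f₁ f₂ (a • y) =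
      (IsLocalization.algEquiv S A₁ A₂ a) • IsLocalizedModule.linearEquiv S f₁ f₂ y := by
  obtain ⟨⟨r, s⟩, h⟩ := IsLocalization.surj S a
  simp only at h
  have hinj : Function.Injective (fun z : L₂ => (s : R) • z) :=
    IsLocalizedModule.smul_injective f₂ s
  apply hinj
  simp only
  rw [← map_smul, ← algebraMap_smul A₁ (s : R) (a • y), smul_smul, mul_comm, h, algebraMap_smul,
    map_smul]
  rw [← algebraMap_smul A₂ (s : R) (_ • _), smul_smul]
  congr 1
  have : algebraMap R A₂ s = IsLocalization.algEquiv S A₁ A₂ (algebraMap R A₁ s) := by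
    rw [AlgEquiv.commutes]
  rw [this, ← map_mul, mul_comm, h, AlgEquiv.commutes, algebraMap_smul]

attribute [local instance] Groth.Agent.Lead.SD.stalkModule

/-- depth of the stalk computed from any localization presentation -/
theorem depth_stalk_eq_of_isLocalizedModule {X : Scheme.{u}} (M : X.Modules) {V : X.Opens}
    (hV : IsAffineOpen V) (x : V) {N : Type u} [AddCommGroup N] [Module Γ(X, V) N]
    (f : N →ₗ[Γ(X, V)] M.presheaf.stalk x.1)
    [IsLocalizedModule (hV.primeIdealOf x).asIdeal.primeCompl f] :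
    LocCoh.depth (X.presheaf.stalk x.1) (M.presheaf.stalk x.1) =
      LocCoh.depth (Localization.AtPrime (hV.primeIdealOf x).asIdeal)
        (LocalizedModule (hV.primeIdealOf x).asIdeal.primeCompl N) := by
  haveI := hV.isLocalization_stalk x
  exact Groth.Agent.Helper8.Depth.depth_eq_of_semilinear
    (IsLocalization.algEquiv (hV.primeIdealOf x).asIdeal.primeCompl
      (Localization.AtPrime (hV.primeIdealOf x).asIdeal) (X.presheaf.stalk x.1)).toRingEquiv
    (IsLocalizedModule.linearEquiv (hV.primeIdealOf x).asIdeal.primeCompl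
      (LocalizedModule.mkLinearMap (hV.primeIdealOf x).asIdeal.primeCompl N) f).toAddEquiv
    (fun r y => semilinear_of_isLocalizedModule _ _ _ r y)

section aff
variable {X : Scheme.{u}} (M : X.Modules) {V : X.Opens} (hV : IsAffineOpen V)

/-- restriction of sections from `V` to `fromSpec '' ⊤`, as a linear equivalence over `Γ(X, V)` -/
noncomputable def secEquiv :
    Γ(M, V) ≃ₗ[Γ(X, V)] Γ(M.restrict hV.fromSpec, ⊤) where
  toFun s := M.presheaf.map (homOfLE (Groth.Agent.Helper1.QcLoc.image_top hV).le).op s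
  invFun s := M.presheaf.map (homOfLE (Groth.Agent.Helper1.QcLoc.image_top hV).ge).op s
  map_add' a b := map_add _ a b
  map_smul' r s := by
    simp only [RingHom.id_apply]
    rw [Groth.Agent.Helper1.QcLoc.smul_eq hV M ⊤ r]
    rw [Scheme.Modules.map_smul]
  left_inv s := by
    show M.presheaf.map _ (M.presheaf.map _ s) = s
    rw [← ConcreteCategory.comp_apply, ← Functor.map_comp]
    have : (homOfLE (Groth.Agent.Helper1.QcLoc.image_top hV).le).op ≫ (homOfLE (Groth.Agent.Helper1.QcLoc.image_top hV).ge).op = 𝟙 _ :=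
      Subsingleton.elim _ _
    rw [this, M.presheaf.map_id]; rfl
  right_inv s := by
    have key : ∀ t : Γ(M, hV.fromSpec ''ᵁ ⊤),
        M.presheaf.map (homOfLE (Groth.Agent.Helper1.QcLoc.image_top hV).le).op
          (M.presheaf.map (homOfLE (Groth.Agent.Helper1.QcLoc.image_top hV).ge).op t) = t := by
      intro t
      rw [← ConcreteCategory.comp_apply, ← Functor.map_comp]
      have : (homOfLE (Groth.Agent.Helper1.QcLoc.image_top hV).ge).op ≫ (homOfLE (Groth.Agent.Helper1.QcLoc.image_top hV).le).op = 𝟙 _ :=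
        Subsingleton.elim _ _
      rw [this, M.presheaf.map_id]; rfl
    exact key s

end aff


section spec
variable (R : CommRingCat.{u}) (F : (Spec R).Modules)

/-- the module of global sections -/
noncomputable abbrev NN : ModuleCat.{u} R := moduleSpecΓFunctor.obj F
end spec

lemma bij_of_square {A B C D : Type*} (a₁ : A → C) (a₂ : B → D) (t : A → B) (f : C → D)
    (h₁ : Function.Bijective a₁) (h₂ : Function.Bijective a₂) (hsq : ∀ s, a₂ (t s) = f (a₁ s)) :
    Function.Bijective f ↔ Function.Bijective t := by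
  have e1 : f ∘ a₁ = a₂ ∘ t := by funext s; exact (hsq s).symm
  rw [← Function.Bijective.of_comp_iff f h₁, e1, Function.Bijective.of_comp_iff' h₂]


section spec2
variable (R : CommRingCat.{u}) (F : (Spec R).Modules) [F.IsQuasicoherent]
lemma conj_bij {W₁ W₂ : (Spec R).Opens} (i : W₂ ⟶ W₁) :
    Function.Bijective (F.presheaf.map i.op) ↔
      Function.Bijective ((tilde (NN R F)).presheaf.map i.op) := by
  have hb : ∀ W : (Spec R).Opens, Function.Bijective ((Scheme.Modules.fromTildeΓ F).app W) := by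
    intro W
    have : IsIso ((Scheme.Modules.fromTildeΓ F).app W) := inferInstance
    rw [ConcreteCategory.isIso_iff_bijective] at this
    exact this
  have hnat : ∀ s, (Scheme.Modules.fromTildeΓ F).app W₂ ((tilde (NN R F)).presheaf.map i.op s) =
      F.presheaf.map i.op ((Scheme.Modules.fromTildeΓ F).app W₁ s) := by
    intro s
    have := (Scheme.Modules.fromTildeΓ F).mapPresheaf.naturality i.op
    exact congrArg (fun φ => φ s) this
  exact bij_of_square _ _ _ _ (hb W₁) (hb W₂) hnat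


lemma tilde_restr_iff (J : Ideal R) :
    Function.Bijective ((tilde (NN R F)).presheaf.map (homOfLE (le_top : EGA4.openCompl R J ≤ ⊤)).op) ↔
      Function.Bijective (EGA4.restrCompl R J (NN R F)) := Iff.rfl
end spec2

section aff2
variable {X : Scheme.{u}} (M : X.Modules) [M.IsQuasicoherent] {V : X.Opens} (hV : IsAffineOpen V)

theorem depth_NN (p : PrimeSpectrum Γ(X, V)) :
    LocCoh.depth (X.presheaf.stalk (hV.fromSpec p)) (M.presheaf.stalk (hV.fromSpec p)) =
      LocCoh.depth (Localization.AtPrime p.asIdeal)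
        (LocalizedModule p.asIdeal.primeCompl (NN Γ(X, V) (M.restrict hV.fromSpec))) := by
  obtain ⟨x, hx⟩ : ∃ x : V, x = ⟨hV.fromSpec p, Groth.Agent.Lead.SD.fromSpec_mem hV p⟩ := ⟨_, rfl⟩
  have hxp : hV.primeIdealOf x = p := by
    rw [hx]; exact Groth.Agent.Lead.SD.primeIdealOf_fromSpec hV p
  haveI := Groth.Agent.Lead.SD.isLocalizedModule_germ M hV x
  haveI : IsLocalizedModule (hV.primeIdealOf x).asIdeal.primeCompl
      ((Groth.Agent.Lead.SD.germₗ M x) ∘ₗ (secEquiv M hV).symm.toLinearMap) :=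
    IsLocalizedModule.of_linearEquiv_right _ _ _
  have h1 := depth_stalk_eq_of_isLocalizedModule M hV x
    ((Groth.Agent.Lead.SD.germₗ M x) ∘ₗ (secEquiv M hV).symm.toLinearMap)
  have key : ∀ q : PrimeSpectrum Γ(X, V), q = p →
      LocCoh.depth (Localization.AtPrime q.asIdeal)
        (LocalizedModule q.asIdeal.primeCompl (NN Γ(X, V) (M.restrict hV.fromSpec))) =
      LocCoh.depth (Localization.AtPrime p.asIdeal)
        (LocalizedModule p.asIdeal.primeCompl (NN Γ(X, V) (M.restrict hV.fromSpec))) := by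
    rintro q rfl; rfl
  rw [← key _ hxp]
  subst hx
  exact h1


lemma image_openCompl (U : X.Opens) (J : Ideal Γ(X, V))
    (hJ : PrimeSpectrum.zeroLocus (J : Set Γ(X, V)) = {p | hV.fromSpec p ∉ U}) :
    hV.fromSpec ''ᵁ (EGA4.openCompl Γ(X, V) J) = V ⊓ U := by
  ext x
  constructor
  · rintro ⟨p, hp, rfl⟩
    refine ⟨Groth.Agent.Lead.SD.fromSpec_mem hV p, ?_⟩
    by_contra hcon
    apply hp
    show p ∈ PrimeSpectrum.zeroLocus (J : Set Γ(X, V))
    rw [hJ]
    exact hcon
  · rintro ⟨hxV, hxU⟩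
    refine ⟨hV.primeIdealOf ⟨x, hxV⟩, ?_, hV.fromSpec_primeIdealOf ⟨x, hxV⟩⟩
    intro hcon
    have : hV.primeIdealOf ⟨x, hxV⟩ ∈ PrimeSpectrum.zeroLocus (J : Set Γ(X, V)) := hcon
    rw [hJ] at this
    apply this
    show hV.fromSpec (hV.primeIdealOf ⟨x, hxV⟩) ∈ U
    rw [hV.fromSpec_primeIdealOf ⟨x, hxV⟩]
    exact hxU

include hV in
theorem affine_bij_of_depth [IsLocallyNoetherian X] (hft : M.IsFiniteType) (U : X.Opens)
    (h : ∀ x : X, x ∉ U → (2 : ℕ∞) ≤ LocCoh.depth (X.presheaf.stalk x) (M.presheaf.stalk x)) :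
    Function.Bijective (M.presheaf.map (homOfLE (inf_le_left : V ⊓ U ≤ V)).op) := by
  haveI : IsNoetherianRing Γ(X, V) := IsLocallyNoetherian.component_noetherian ⟨V, hV⟩
  haveI : Module.Finite Γ(X, V) (NN Γ(X, V) (M.restrict hV.fromSpec)) :=
    Groth.Agent.Helper1.AffFin.finite_restrict M inferInstance hft hV.fromSpec
  obtain ⟨Z, hZ⟩ : ∃ Z : Set (PrimeSpectrum Γ(X, V)), Z = {p | hV.fromSpec p ∉ U} := ⟨_, rfl⟩
  have hZc : IsClosed Z := by
    rw [hZ]
    exact (U.isOpen.preimage hV.fromSpec.continuous).isClosed_compl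
  have hJ : PrimeSpectrum.zeroLocus (PrimeSpectrum.vanishingIdeal Z : Set Γ(X, V)) = Z := by
    rw [PrimeSpectrum.zeroLocus_vanishingIdeal_eq_closure, hZc.closure_eq]
  have hdep : ∀ p : PrimeSpectrum Γ(X, V), p ∈ Z → (2 : ℕ∞) ≤
      LocCoh.depth (Localization.AtPrime p.asIdeal)
        (LocalizedModule p.asIdeal.primeCompl (NN Γ(X, V) (M.restrict hV.fromSpec))) := by
    intro p hp
    rw [← depth_NN M hV p]
    apply h
    rw [hZ] at hp
    exact hp
  have hcl := closed_of_depth (A := Γ(X, V)) (M := NN Γ(X, V) (M.restrict hV.fromSpec)) Z hdep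
  have hb := hcl (PrimeSpectrum.vanishingIdeal Z) hJ.le
  have hb2 := (tilde_restr_iff Γ(X, V) (M.restrict hV.fromSpec) (PrimeSpectrum.vanishingIdeal Z)).2 hb
  have hb3 := (conj_bij Γ(X, V) (M.restrict hV.fromSpec) (homOfLE (le_top : EGA4.openCompl Γ(X, V) (PrimeSpectrum.vanishingIdeal Z) ≤ ⊤))).2 hb2
  have h₁ := Groth.Agent.Helper1.QcLoc.image_top hV
  have h₂ := image_openCompl hV U (PrimeSpectrum.vanishingIdeal Z) (hJ.trans hZ)
  have hb4 : Function.Bijective (M.presheaf.map (homOfLE (hV.fromSpec.image_mono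
      (le_top : EGA4.openCompl Γ(X, V) (PrimeSpectrum.vanishingIdeal Z) ≤ ⊤))).op) := hb3
  exact (bij_transport M.presheaf h₁ h₂ _ inf_le_left).1 hb4


include hV in
theorem depth_of_affine_bij [IsLocallyNoetherian X] (hft : M.IsFiniteType) (U : X.Opens)
    (h : ∀ V' : X.Opens, Function.Bijective (M.presheaf.map (homOfLE (inf_le_left : V' ⊓ U ≤ V')).op))
    (x : X) (hxV : x ∈ V) (hxU : x ∉ U) :
    (2 : ℕ∞) ≤ LocCoh.depth (X.presheaf.stalk x) (M.presheaf.stalk x) := by
  haveI : IsNoetherianRing Γ(X, V) := IsLocallyNoetherian.component_noetherian ⟨V, hV⟩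
  haveI : Module.Finite Γ(X, V) (NN Γ(X, V) (M.restrict hV.fromSpec)) :=
    Groth.Agent.Helper1.AffFin.finite_restrict M inferInstance hft hV.fromSpec
  obtain ⟨Z, hZ⟩ : ∃ Z : Set (PrimeSpectrum Γ(X, V)), Z = {p | hV.fromSpec p ∉ U} := ⟨_, rfl⟩
  have hZc : IsClosed Z := by
    rw [hZ]
    exact (U.isOpen.preimage hV.fromSpec.continuous).isClosed_compl
  have hcl : EGA4.IsClosedAlong Z (NN Γ(X, V) (M.restrict hV.fromSpec)) := by
    intro J hJ
    rw [← tilde_restr_iff, ← conj_bij]
    show Function.Bijective (M.presheaf.map (homOfLE (hV.fromSpec.image_mono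
      (le_top : EGA4.openCompl Γ(X, V) J ≤ ⊤))).op)
    -- two out of three
    have hle : (hV.fromSpec ''ᵁ ⊤) ⊓ U ≤ hV.fromSpec ''ᵁ (EGA4.openCompl Γ(X, V) J) := by
      rintro _ ⟨⟨p, -, rfl⟩, hpU⟩
      refine ⟨p, ?_, rfl⟩
      intro hcon
      have := hJ hcon
      rw [hZ] at this
      exact this hpU
    have heq : hV.fromSpec ''ᵁ (EGA4.openCompl Γ(X, V) J) ⊓ U = (hV.fromSpec ''ᵁ ⊤) ⊓ U := by
      apply le_antisymm
      · exact inf_le_inf_right U (hV.fromSpec.image_mono le_top)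
      · exact le_inf hle inf_le_right
    have hb := h (hV.fromSpec ''ᵁ (EGA4.openCompl Γ(X, V) J))
    have ha := h (hV.fromSpec ''ᵁ ⊤)
    have ha' : Function.Bijective (M.presheaf.map (homOfLE (le_trans inf_le_left (hV.fromSpec.image_mono le_top) :
        hV.fromSpec ''ᵁ (EGA4.openCompl Γ(X, V) J) ⊓ U ≤ hV.fromSpec ''ᵁ ⊤)).op) :=
      (bij_transport M.presheaf rfl heq _ inf_le_left).2 ha
    have hcomp : (M.presheaf.map (homOfLE (le_trans inf_le_left (hV.fromSpec.image_mono le_top) :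
        hV.fromSpec ''ᵁ (EGA4.openCompl Γ(X, V) J) ⊓ U ≤ hV.fromSpec ''ᵁ ⊤)).op : _ → _) =
        (M.presheaf.map (homOfLE (inf_le_left : hV.fromSpec ''ᵁ (EGA4.openCompl Γ(X, V) J) ⊓ U ≤ _)).op) ∘
        (M.presheaf.map (homOfLE (hV.fromSpec.image_mono
          (le_top : EGA4.openCompl Γ(X, V) J ≤ ⊤))).op) := by
      funext s
      show _ = M.presheaf.map _ (M.presheaf.map _ s)
      rw [← ConcreteCategory.comp_apply, ← Functor.map_comp]
      rfl
    rw [hcomp] at ha'
    exact (Function.Bijective.of_comp_iff' hb _).1 ha'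
  obtain ⟨p, hp⟩ : ∃ p, p = hV.primeIdealOf ⟨x, hxV⟩ := ⟨_, rfl⟩
  have hpx : hV.fromSpec p = x := by rw [hp]; exact hV.fromSpec_primeIdealOf ⟨x, hxV⟩
  have hpZ : p ∈ Z := by
    rw [hZ]
    show hV.fromSpec p ∉ U
    rw [hpx]; exact hxU
  have hd := depth_of_closed (A := Γ(X, V)) (M := NN Γ(X, V) (M.restrict hV.fromSpec)) Z
    hZc.stableUnderSpecialization hcl p hpZ
  rw [← depth_NN M hV p] at hd
  have key : ∀ y : X, y = x → (2 : ℕ∞) ≤ LocCoh.depth (X.presheaf.stalk y) (M.presheaf.stalk y) →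
      (2 : ℕ∞) ≤ LocCoh.depth (X.presheaf.stalk x) (M.presheaf.stalk x) := by
    rintro y rfl hy; exact hy
  exact key _ hpx hd

end aff2


theorem S6039_main (X : Scheme.{u}) [IsLocallyNoetherian X] (U : X.Opens)
    (M : X.Modules) (hM : Coh.IsCoh M) :
    (∀ x : X, x ∉ (U : Set X) → (2 : ℕ∞) ≤ LocCoh.depth (X.presheaf.stalk x) (M.presheaf.stalk x)) ↔
      ∀ V : X.Opens, Function.Bijective (M.val.map (homOfLE (inf_le_left : V ⊓ U ≤ V)).op).hom := by
  haveI : M.IsQuasicoherent := hM.1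
  have hB : ∀ (W : X.Opens) (x : X), x ∈ W → ∃ V ∈ {V : X.Opens | IsAffineOpen V}, x ∈ V ∧ V ≤ W := by
    intro W x hx
    obtain ⟨V, hV, hxV, hVW⟩ := exists_isAffineOpen_mem_and_subset (x := x) (U := W) hx
    exact ⟨V, hV, hxV, hVW⟩
  constructor
  · intro h V
    have haff : ∀ V ∈ {V : X.Opens | IsAffineOpen V},
        Function.Bijective (M.presheaf.map (homOfLE (inf_le_left : V ⊓ U ≤ V)).op) :=
      fun V hV => affine_bij_of_depth M hV hM.2 U h
    exact ⟨gres_injective ⟨M.presheaf, M.isSheaf⟩ U hB (fun V hV => (haff V hV).1) V,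
      gres_surjective ⟨M.presheaf, M.isSheaf⟩ U hB haff V⟩
  · intro h x hx
    obtain ⟨V, hV, hxV, -⟩ := exists_isAffineOpen_mem_and_subset (x := x) (U := ⊤) trivial
    exact depth_of_affine_bij M hV hM.2 U (fun V' => h V') x hxV hx

end Groth.Agent.Lib.Helper4.CohHartogs1
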