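import Mathlib
import Groth.Agent.Lib.Helper4.DuF5

/-!
# Serre duality in degree one by dévissage: Ext^1(F,ω) and the dual of H^(n-1)(F) (helper4)
-/

set_option backward.isDefEq.respectTransparency.types false
set_option synthInstance.maxHeartbeats 400000
set_option autoImplicit false
set_option linter.unusedSectionVars false
set_option linter.style.haveILetI false
set_option linter.unusedSimpArgs false
universe u v w
open CategoryTheory CategoryTheory.Limits AlgebraicGeometry TopologicalSpace Opposite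
open CategoryTheory.Abelian
open Groth.Agent.Helper1
open Groth.Agent.Lib.Helper4.DuF5
open Groth.Agent.Lib.Helper4

namespace Groth.Agent.Lib.Helper4.DuF6

section Gen
variable {C : Type u} [Category.{v} C] [Abelian C] [HasExt.{w} C]

theorem comp_extClass_f {S : ShortComplex C} (hS : S.ShortExact) {Z : C} {n : ℕ}
    (x : Ext Z S.X₃ n) :
    (x.comp hS.extClass rfl).comp (Ext.mk₀ S.f) (add_zero (n + 1)) = 0 :=
  (Ext.comp_assoc_of_third_deg_zero x hS.extClass (Ext.mk₀ S.f) rfl).trans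
    ((congrArg (fun t => x.comp t rfl) hS.extClass_comp).trans (Ext.comp_zero _ _ _ _ _))

end Gen

variable (k : Type u) [Field k] {X : Scheme.{u}} [X.Over (Spec (CommRingCat.of k))]
variable {S : ShortComplex X.Modules} (hS : S.ShortExact)

theorem f_delta (i : ℕ) (x : Coh.HH X S.X₃ i) :
    Canon.HHlin k S.f (i + 1) (HHFin2.deltaLin k hS i x) = 0 :=
  comp_extClass_f.{u+1, u, u} (HHFin2.Sab_shortExact hS) x

variable [HasExt.{u} X.Modules] (ω : X.Modules)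

/-- the boundary map `Hom(X₁, ω) → Ext¹(X₃, ω)` -/
noncomputable def bdry : (S.X₁ ⟶ ω) →ₗ[k] Ext S.X₃ ω 1 :=
  (Ext.precompOfLinear hS.extClass k ω (add_zero 1)) ∘ₗ
    (Ext.linearEquiv₀ (R := k) (X := S.X₁) (Y := ω)).symm.toLinearMap

theorem bdry_apply (φ : S.X₁ ⟶ ω) :
    bdry k hS ω φ = hS.extClass.comp (Ext.mk₀ φ) (add_zero 1) := rfl

theorem bdry_surjective (h1 : Subsingleton (Ext S.X₂ ω 1)) :
    Function.Surjective (bdry k hS ω) := by
  intro y
  obtain ⟨x, hx⟩ := Ext.contravariant_sequence_exact₃ hS ω y (Subsingleton.elim _ _) (add_zero 1)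
  obtain ⟨φ, rfl⟩ := (Ext.mk₀_bijective _ _).2 x
  exact ⟨φ, hx⟩

theorem mem_ker_bdry (φ : S.X₁ ⟶ ω) :
    bdry k hS ω φ = 0 ↔ ∃ φ' : S.X₂ ⟶ ω, S.f ≫ φ' = φ := by
  constructor
  · intro h
    obtain ⟨x₂, hx₂⟩ := Ext.contravariant_sequence_exact₁ hS ω (Ext.mk₀ φ) (add_zero 1) h
    obtain ⟨φ', rfl⟩ := (Ext.mk₀_bijective _ _).2 x₂
    rw [Ext.mk₀_comp_mk₀] at hx₂
    exact ⟨φ', (Ext.mk₀_bijective _ _).1 hx₂⟩
  · rintro ⟨φ', rfl⟩
    rw [bdry_apply, ← Ext.mk₀_comp_mk₀]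
    exact hS.extClass_comp_assoc (Ext.mk₀ φ')


section Deg1
variable (j : ℕ) (t : Coh.HH X ω (j + 1) →ₗ[k] k)

/-- the comparison map `Hom(X₁, ω) → H^j(X₃)^∨` -/
noncomputable def Theta : (S.X₁ ⟶ ω) →ₗ[k] Module.Dual k (Coh.HH X S.X₃ j) :=
  (HHFin2.deltaLin k hS j).dualMap ∘ₗ theta k (j + 1) ω t S.X₁

theorem Theta_apply (φ : S.X₁ ⟶ ω) (x : Coh.HH X S.X₃ j) :
    Theta k hS ω j t φ x = theta k (j + 1) ω t S.X₁ φ (HHFin2.deltaLin k hS j x) := rfl

theorem Theta_surjective (hK : DuB1.Dual k (j + 1) ω t S.X₁)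
    (hj : Subsingleton (Coh.HH X S.X₂ j)) : Function.Surjective (Theta k hS ω j t) := by
  have hinj : Function.Injective (HHFin2.deltaLin k hS j) := by
    rw [← LinearMap.ker_eq_bot, LinearMap.ker_eq_bot']
    intro x hx
    obtain ⟨y, rfl⟩ := HHFin2.exact_g_delta k hS j x hx
    rw [Subsingleton.elim y 0, map_zero]
  exact (LinearMap.dualMap_surjective_of_injective hinj).comp
    (theta_bijective k (j + 1) ω t S.X₁ hK).2

theorem exists_factor (n : ℕ) (t' : Coh.HH X ω n →ₗ[k] k)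
    (hK : DuB1.Dual k n ω t' S.X₁) (hE : DuB1.Dual k n ω t' S.X₂) (φ : S.X₁ ⟶ ω)
    (h : theta k n ω t' S.X₁ φ ∈ (LinearMap.ker (Canon.HHlin k S.f n)).dualAnnihilator) :
    ∃ φ' : S.X₂ ⟶ ω, S.f ≫ φ' = φ := by
  rw [← LinearMap.range_dualMap_eq_dualAnnihilator_ker] at h
  obtain ⟨ψ, hψ⟩ := h
  obtain ⟨φ', rfl⟩ := (theta_bijective k n ω t' S.X₂ hE).2 ψ
  refine ⟨φ', (theta_bijective k n ω t' S.X₁ hK).1 ?_⟩
  rw [theta_comp]
  exact hψ

theorem mem_ker_Theta (hK : DuB1.Dual k (j + 1) ω t S.X₁) (hE : DuB1.Dual k (j + 1) ω t S.X₂)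
    (φ : S.X₁ ⟶ ω) :
    Theta k hS ω j t φ = 0 ↔ ∃ φ' : S.X₂ ⟶ ω, S.f ≫ φ' = φ := by
  constructor
  · intro h
    apply exists_factor k ω (j + 1) t hK hE φ
    rw [Submodule.mem_dualAnnihilator]
    intro y hy
    obtain ⟨x, rfl⟩ := exact_delta_f k hS j y (LinearMap.mem_ker.1 hy)
    have := congrArg (fun ψ : Module.Dual k (Coh.HH X S.X₃ j) => ψ x) h
    exact this
  · rintro ⟨φ', rfl⟩
    apply LinearMap.ext
    intro x
    rw [Theta_apply, theta_comp]
    change theta k (j + 1) ω t S.X₂ φ' (Canon.HHlin k S.f (j + 1) (HHFin2.deltaLin k hS j x)) = 0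
    rw [f_delta, map_zero]

/-- duality in degree one -/
noncomputable def ext1Equiv (hK : DuB1.Dual k (j + 1) ω t S.X₁) (hE : DuB1.Dual k (j + 1) ω t S.X₂)
    (h1 : Subsingleton (Ext S.X₂ ω 1)) (hj : Subsingleton (Coh.HH X S.X₂ j)) :
    Ext S.X₃ ω 1 ≃ₗ[k] Module.Dual k (Coh.HH X S.X₃ j) :=
  ((bdry k hS ω).quotKerEquivOfSurjective (bdry_surjective k hS ω h1)).symm.trans
    ((Submodule.quotEquivOfEq _ _ (by
      ext φ
      rw [LinearMap.mem_ker, LinearMap.mem_ker, mem_ker_bdry, mem_ker_Theta k hS ω j t hK hE])).trans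
      ((Theta k hS ω j t).quotKerEquivOfSurjective (Theta_surjective k hS ω j t hK hj)))

end Deg1

include hS in
/-- vanishing of `Ext¹` in dimension zero -/
theorem subsingleton_ext1_zero (t : Coh.HH X ω 0 →ₗ[k] k)
    (hK : DuB1.Dual k 0 ω t S.X₁) (hE : DuB1.Dual k 0 ω t S.X₂)
    (h1 : Subsingleton (Ext S.X₂ ω 1)) : Subsingleton (Ext S.X₃ ω 1) := by
  haveI : Mono S.f := hS.mono_f
  refine ⟨fun a b => ?_⟩
  have hz : ∀ y : Ext S.X₃ ω 1, y = 0 := by
    intro y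
    obtain ⟨φ, rfl⟩ := bdry_surjective k hS ω h1 y
    rw [mem_ker_bdry]
    apply exists_factor k ω 0 t hK hE φ
    rw [Submodule.mem_dualAnnihilator]
    intro y hy
    have : y = 0 := injective_H0 k S.f ((LinearMap.mem_ker.1 hy).trans (map_zero _).symm)
    rw [this, map_zero]
  rw [hz a, hz b]
end Groth.Agent.Lib.Helper4.DuF6
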