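import Mathlib
import Groth.Agent.Lib.Helper4.DuF6

/-!
# Serre duality for Ext by dimension shifting (abstract form) (helper4)
-/

set_option backward.isDefEq.respectTransparency.types false
set_option synthInstance.maxHeartbeats 400000
set_option autoImplicit false
set_option linter.unusedSectionVars false
set_option linter.style.haveILetI false
set_option linter.unusedSimpArgs false
universe u v w
open CategoryTheory CategoryTheory.Limits AlgebraicGeometry TopologicalSpace Opposite
open CategoryTheory.Abelian
open Groth.Agent.Helper1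
open Groth.Agent.Lib.Helper4.DuF5
open Groth.Agent.Lib.Helper4.DuF6
open Groth.Agent.Lib.Helper4

namespace Groth.Agent.Lib.Helper4.DuF7

variable (k : Type u) [Field k] {X : Scheme.{u}} [X.Over (Spec (CommRingCat.of k))]
variable [HasExt.{u} X.Modules] (n : ℕ) (ω : X.Modules) (t : Coh.HH X ω n →ₗ[k] k)
variable (P : X.Modules → Prop)

/-- a presentation of `F` by a module with good vanishing and duality properties -/
def HasPres (F : X.Modules) : Prop :=
  ∃ (E : X.Modules) (π : E ⟶ F), Epi π ∧ P (kernel π) ∧ DuB1.Dual k n ω t E ∧
    (∀ i, 1 ≤ i → Subsingleton (Ext E ω i)) ∧ (∀ j, j < n → Subsingleton (Coh.HH X E j))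

theorem shortExact_kernel {E F : X.Modules} (π : E ⟶ F) [Epi π] :
    (ShortComplex.mk (kernel.ι π) π (kernel.condition π)).ShortExact := by
  have hS' : (ShortComplex.mk (kernel.ι π) π (kernel.condition π)).Exact :=
    ShortComplex.exact_of_f_is_kernel _ (kernelIsKernel π)
  haveI : Mono (ShortComplex.mk (kernel.ι π) π (kernel.condition π)).f :=
    inferInstanceAs (Mono (kernel.ι π))
  haveI : Epi (ShortComplex.mk (kernel.ι π) π (kernel.condition π)).g := inferInstanceAs (Epi π)
  exact { exact := hS' }

theorem subsingleton_dual {V : Type*} [AddCommGroup V] [Module k V] (h : Subsingleton V) :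
    Subsingleton (Module.Dual k V) :=
  ⟨fun a b => LinearMap.ext fun x => by rw [Subsingleton.elim x 0, map_zero, map_zero]⟩

theorem ext_duality (hdual : ∀ F, P F → DuB1.Dual k n ω t F)
    (hpres : ∀ F, P F → HasPres k n ω t P F) (i : ℕ) :
    (∀ F, P F → ∀ j, i + j = n →
      Nonempty (Ext F ω i ≃ₗ[k] Module.Dual k (Coh.HH X F j))) ∧
    (∀ F, P F → n < i → Subsingleton (Ext F ω i)) := by
  induction i with
  | zero =>
    refine ⟨fun F hF j hj => ?_, fun F hF hlt => absurd hlt (Nat.not_lt_zero _)⟩
    obtain rfl : j = n := by omega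
    exact ⟨ext0Equiv k j ω t F (hdual F hF)⟩
  | succ i ih =>
    rcases Nat.eq_zero_or_pos i with hi | hi
    · subst hi
      refine ⟨fun F hF j hj => ?_, fun F hF hlt => ?_⟩
      · obtain ⟨E, π, hπ, hK, hE, hext, hcoh⟩ := hpres F hF
        haveI := hπ
        have hS := shortExact_kernel π
        obtain rfl : n = j + 1 := by omega
        exact ⟨ext1Equiv k hS ω j t (hdual _ hK) hE (hext 1 le_rfl) (hcoh j (Nat.lt_succ_self j))⟩
      · obtain ⟨E, π, hπ, hK, hE, hext, hcoh⟩ := hpres F hF
        haveI := hπ
        have hS := shortExact_kernel π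
        obtain rfl : n = 0 := by omega
        exact subsingleton_ext1_zero k hS ω t (hdual _ hK) hE (hext 1 le_rfl)
    · refine ⟨fun F hF j hj => ?_, fun F hF hlt => ?_⟩
      · obtain ⟨E, π, hπ, hK, hE, hext, hcoh⟩ := hpres F hF
        haveI := hπ
        have hS := shortExact_kernel π
        have e1 := extShift k hS ω i (hext i hi) (hext (i + 1) (by omega))
        obtain ⟨e2⟩ := ih.1 _ hK (j + 1) (by omega)
        have e3 := cohShift k hS j (hcoh j (by omega)) (hcoh (j + 1) (by omega))
        exact ⟨e1.symm.trans (e2.trans e3.dualMap)⟩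
      · obtain ⟨E, π, hπ, hK, hE, hext, hcoh⟩ := hpres F hF
        haveI := hπ
        have hS := shortExact_kernel π
        have e1 := extShift k hS ω i (hext i hi) (hext (i + 1) (by omega))
        have hsub : Subsingleton (Ext (kernel π) ω i) := by
          rcases Nat.lt_or_ge n i with h | h
          · exact ih.2 _ hK h
          · have hin : i = n := by omega
            obtain ⟨e2⟩ := ih.1 _ hK 0 (by omega)
            have h0 : Subsingleton (Coh.HH X (kernel π) 0) := by
              haveI := hcoh 0 (by omega)
              exact (injective_H0 k (kernel.ι π)).subsingleton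
            haveI := subsingleton_dual k h0
            exact e2.toEquiv.subsingleton
        exact e1.symm.toEquiv.subsingleton

end Groth.Agent.Lib.Helper4.DuF7
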