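import Mathlib
import Groth.Agent.Lib.Helper4.DuA1
import Groth.Agent.Lib.Helper4.PnE5

/-!
# Serre duality on projective space: top cohomology of multiplication maps as truncated convolution (helper4)
-/

set_option backward.isDefEq.respectTransparency.types false
set_option synthInstance.maxHeartbeats 400000
set_option autoImplicit false
set_option linter.unusedSectionVars false
set_option linter.style.haveILetI false
set_option linter.unusedSimpArgs false
universe u v w
open CategoryTheory CategoryTheory.Limits AlgebraicGeometry TopologicalSpace Opposite MvPolynomial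
open Groth.Agent.Helper1
open Groth.Agent.Lib.Helper4.PnS1
open Groth.Agent.Lib.Helper4.PnS2 hiding xm
open Groth.Agent.Lib.Helper4.PnS3
open Groth.Agent.Lib.Helper4.PnS4
open Groth.Agent.Lib.Helper4.PnC1
open Groth.Agent.Lib.Helper4.PnC2
open Groth.Agent.Lib.Helper4.PnC3
open Groth.Agent.Lib.Helper4.PnC4
open Groth.Agent.Lib.Helper4.PnT1
open Groth.Agent.Lib.Helper4.PnT2
open Groth.Agent.Lib.Helper4.DuA1
open Groth.Agent.Lib.Helper4

namespace Groth.Agent.Lib.Helper4.DuA2

variable {R : Type u} [CommRing R] {p : ℕ}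

/-- truncated convolution -/
noncomputable def convT (f : MvPolynomial (Fin (p + 1 + 1)) R) (g : (Fin (p + 1 + 1) → ℤ) → R) :
    (Fin (p + 1 + 1) → ℤ) → R :=
  open Classical in fun e => if full e then conv f g e else 0

theorem full_sub (e : Fin (p + 1 + 1) → ℤ) (he : full e) (b : Fin (p + 1 + 1) →₀ ℕ) :
    full (e - wz b) := by
  intro j
  have := he j
  simp only [Pi.sub_apply, wz]
  omega

theorem conv_ne_zero {n : ℕ} (f : MvPolynomial (Fin (n + 1)) R) (g : (Fin (n + 1) → ℤ) → R)
    (e : Fin (n + 1) → ℤ) (h : conv f g e ≠ 0) :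
    ∃ b, coeff b f ≠ 0 ∧ g (e - wz b) ≠ 0 := by
  simp only [conv, Finsupp.sum] at h
  obtain ⟨b, hb, hne⟩ := Finset.exists_ne_zero_of_sum_ne_zero h
  refine ⟨b, ?_, ?_⟩
  · intro h0
    apply hne
    have : (AddMonoidAlgebra.coeff f) b = coeff b f := rfl
    rw [this, h0, zero_mul]
  · intro h0
    apply hne
    rw [h0, mul_zero]

theorem conv_support_finite {n : ℕ} (f : MvPolynomial (Fin (n + 1)) R) (g : (Fin (n + 1) → ℤ) → R)
    (hg : (Function.support g).Finite) : (Function.support (conv f g)).Finite := by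
  apply Set.Finite.subset (Set.Finite.biUnion (f.support : Set (Fin (n + 1) →₀ ℕ)).toFinite
    (fun b _ => hg.image (fun e' => e' + wz b)))
  intro e he
  rw [Function.mem_support] at he
  obtain ⟨b, hb, hgb⟩ := conv_ne_zero f g e he
  simp only [Set.mem_iUnion]
  refine ⟨b, Finset.mem_coe.mpr (mem_support_iff.mpr hb), e - wz b, hgb, ?_⟩
  simp

theorem convT_mem {i : ℕ} (f : Gr (p + 1) R i) (d k : ℤ) (hk : k = i + d)
    (g : (Fin (p + 1 + 1) → ℤ) → R) (hg : g ∈ Gf (p + 1) R d) : convT f.1 g ∈ Gf (p + 1) R k := by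
  classical
  obtain ⟨h1, h2⟩ := hg
  refine ⟨(conv_support_finite f.1 g h1).subset ?_, fun e he => ?_⟩
  · intro e he
    rw [Function.mem_support] at he ⊢
    simp only [convT] at he
    split_ifs at he with hf
    · exact he
    · exact absurd rfl he
  · simp only [convT] at he
    split_ifs at he with hf
    · refine ⟨?_, hf⟩
      obtain ⟨b, hb, hgb⟩ := conv_ne_zero f.1 g e he
      have h3 := (h2 _ hgb).1
      have h4 : Finsupp.degree b = i := by
        by_contra hne
        have hh : f.1.IsHomogeneous i := (mem_homogeneousSubmodule _ _).mp f.2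
        exact hb (hh.coeff_eq_zero hne)
      have h5 : ∑ j, wz b j = (i : ℤ) := by
        rw [wz_sum, h4]
      simp only [Pi.sub_apply, Finset.sum_sub_distrib] at h3
      rw [hk]
      omega
    · exact absurd rfl he

theorem conv_add_right {n : ℕ} (f : MvPolynomial (Fin (n + 1)) R) (g g' : (Fin (n + 1) → ℤ) → R) :
    conv f (g + g') = conv f g + conv f g' := by
  funext e
  simp only [conv, Pi.add_apply, Finsupp.sum, mul_add, Finset.sum_add_distrib]

theorem conv_smul_right {n : ℕ} (f : MvPolynomial (Fin (n + 1)) R) (r : R) (g : (Fin (n + 1) → ℤ) → R) :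
    conv f (r • g) = r • conv f g := by
  funext e
  simp only [conv, Pi.smul_apply, smul_eq_mul, Finsupp.sum, Finset.mul_sum]
  apply Finset.sum_congr rfl
  intro b _
  ring

/-- truncated convolution as a linear map on Laurent tails -/
noncomputable def convTlin {i : ℕ} (f : Gr (p + 1) R i) (d k : ℤ) (hk : k = i + d) :
    Gf (p + 1) R d →ₗ[R] Gf (p + 1) R k where
  toFun g := ⟨convT f.1 g.1, convT_mem f d k hk g.1 g.2⟩
  map_add' g g' := by
    classical
    apply Subtype.ext
    funext e
    simp only [convT, Submodule.coe_add, conv_add_right, Pi.add_apply]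
    split_ifs <;> simp
  map_smul' r g := by
    classical
    apply Subtype.ext
    funext e
    simp only [convT, Submodule.coe_smul, conv_smul_right, Pi.smul_apply, RingHom.id_apply]
    split_ifs <;> simp

theorem Psi0_psiF {i : ℕ} (f : Gr (p + 1) R i) (d k : ℤ) (hk : k = i + d)
    (x : (KK (p + 1) R d).X (p + 1)) :
    Psi0 (((psiF f d k hk).f (p + 1)).hom x) = convT f.1 (Psi0 x) := by
  classical
  funext e
  simp only [Psi0, convT]
  split_ifs with he
  · rw [cm_psiF]
    simp only [conv]
    apply Finsupp.sum_congr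
    intro b _
    have h : Psi0 x (e - wz b) = cm d (p + 1) x (a₀ p) (e - wz b) := by
      simp only [Psi0]
      rw [if_pos (full_sub e he b)]
    rw [h]
  · rfl

theorem PsiEquiv_psiF {i : ℕ} (f : Gr (p + 1) R i) (d k : ℤ) (hk : k = i + d)
    (h : (KK (p + 1) R d).homology (p + 1)) :
    PsiEquiv ((HomologicalComplex.homologyMap (psiF f d k hk) (p + 1)).hom h) =
      convTlin f d k hk (PsiEquiv h) := by
  obtain ⟨z, rfl⟩ := PnH.homologyπ_surjective (KK (p + 1) R d) (p + 1) h
  apply Subtype.ext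
  rw [PsiEquiv_apply, PsiEquiv_apply, PnH.homologyMap_π, PsiH_π, PnH.iCycles_cyclesMap, Psi0_psiF]
  change _ = convT f.1 (PsiH _).1
  rw [PsiH_π]


theorem En_mulBy {i : ℕ} (f : Gr (p + 1) R i) (d k : ℤ) (hk : k = i + d) (q : ℕ)
    (x : (KK (p + 1) R d).homology q) :
    PnE4.En (p + 1) R k q ((HomologicalComplex.homologyMap (psiF f d k hk) q).hom x) =
      Sheaf.H.map ((SheafOfModules.toSheaf (CohB1.ProjSpace (p + 1) R).ringCatSheaf).map
        (mulBy f d k hk)) q (PnE4.En (p + 1) R d q x) :=
  PnE3.EE_natural (UU (p + 1) R) (PnE4.hTn (p + 1) R)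
    ((SheafOfModules.toSheaf (CohB1.ProjSpace (p + 1) R).ringCatSheaf).map (mulBy f d k hk)) q x

theorem topEquiv_mulBy {i : ℕ} (f : Gr (p + 1) R i) (d k : ℤ) (hk : k = i + d)
    (y : Coh.HH (CohB1.ProjSpace (p + 1) R) (Twist.twistProjSpace (p + 1) R d) (p + 1)) :
    PnE5.topEquiv p R k (Sheaf.H.map ((SheafOfModules.toSheaf
      (CohB1.ProjSpace (p + 1) R).ringCatSheaf).map (mulBy f d k hk)) (p + 1) y) =
      convTlin f d k hk (PnE5.topEquiv p R d y) := by
  obtain ⟨x, rfl⟩ := (PnE4.En_bijective (p + 1) R d (p + 1)).2 y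
  rw [← En_mulBy]
  have h1 : ∀ (d' : ℤ) (x' : (KK (p + 1) R d').homology (p + 1)),
      PnE5.topEquiv p R d' (PnE4.En (p + 1) R d' (p + 1) x') = PsiEquiv x' := by
    intro d' x'
    change PsiEquiv ((AddEquiv.ofBijective (PnE4.En (p + 1) R d' (p + 1))
      (PnE4.En_bijective (p + 1) R d' (p + 1))).symm
        ((AddEquiv.ofBijective (PnE4.En (p + 1) R d' (p + 1))
      (PnE4.En_bijective (p + 1) R d' (p + 1))) x')) = _
    rw [AddEquiv.symm_apply_apply]
  rw [h1, h1, PsiEquiv_psiF]

end Groth.Agent.Lib.Helper4.DuA2
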