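import Mathlib
import Groth.Agent.Lib.Helper4.DuA2
import Groth.Agent.Lib.Helper4.DuA3

/-!
# Serre duality on projective space: the perfect pairing for line bundles (helper4)
-/

set_option backward.isDefEq.respectTransparency.types false
set_option synthInstance.maxHeartbeats 400000
set_option autoImplicit false
set_option linter.unusedSectionVars false
set_option linter.style.haveILetI false
set_option linter.unusedSimpArgs false
universe u v w
open CategoryTheory CategoryTheory.Limits AlgebraicGeometry TopologicalSpace Opposite MvPolynomial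
open Groth.Agent.Helper1
open Groth.Agent.Lib.Helper4.PnS1
open Groth.Agent.Lib.Helper4.PnS2 hiding xm
open Groth.Agent.Lib.Helper4.PnS3
open Groth.Agent.Lib.Helper4.PnS4
open Groth.Agent.Lib.Helper4.PnC1
open Groth.Agent.Lib.Helper4.PnC2
open Groth.Agent.Lib.Helper4.PnC3
open Groth.Agent.Lib.Helper4.PnC4
open Groth.Agent.Lib.Helper4.PnT1
open Groth.Agent.Lib.Helper4.PnT2
open Groth.Agent.Lib.Helper4.DuA1
open Groth.Agent.Lib.Helper4.DuA2
open Groth.Agent.Lib.Helper4.DuA3
open Groth.Agent.Lib.Helper4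

namespace Groth.Agent.Lib.Helper4.DuA4

variable {R : Type u} [CommRing R] {p : ℕ}

/-- the exponent `(-1, …, -1)` -/
def neg1 (p : ℕ) : Fin (p + 1 + 1) → ℤ := fun _ => -1

theorem full_neg1 : full (neg1 p) := fun _ => by simp [neg1]

theorem sum_neg1 : ∑ i, neg1 p i = -(((p + 1 : ℕ) : ℤ) + 1) := by
  simp [neg1]

theorem eq_neg1 (e : Fin (p + 1 + 1) → ℤ) (he : full e) (hs : ∑ i, e i = -(((p + 1 : ℕ) : ℤ) + 1)) :
    e = neg1 p := by
  by_contra hne
  have h1 : ∃ j, e j ≠ -1 := by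
    by_contra hall
    push Not at hall
    exact hne (funext hall)
  obtain ⟨j, hj⟩ := h1
  have h2 : ∑ i, e i < ∑ i, neg1 p i := by
    apply Finset.sum_lt_sum
    · intro i _
      have := he i
      simp only [neg1]
      omega
    · refine ⟨j, Finset.mem_univ _, ?_⟩
      have := he j
      simp only [neg1]
      omega
  rw [sum_neg1] at h2
  omega

/-- the indicator function of an exponent -/
noncomputable def delta (v : Fin (p + 1 + 1) → ℤ) : (Fin (p + 1 + 1) → ℤ) → R :=
  fun e => if e = v then 1 else 0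

theorem delta_mem {d : ℤ} (v : Fin (p + 1 + 1) → ℤ) (hv : full v) (hd : ∑ i, v i = d) :
    (delta v : (Fin (p + 1 + 1) → ℤ) → R) ∈ Gf (p + 1) R d := by
  refine ⟨Set.Finite.subset (Set.finite_singleton v) ?_, fun e he => ?_⟩
  · intro e he
    rw [Function.mem_support] at he
    simp only [delta] at he
    split_ifs at he with h
    · exact h
    · exact absurd rfl he
  · simp only [delta] at he
    split_ifs at he with h
    · rw [h]; exact ⟨hd, hv⟩
    · exact absurd rfl he

/-- the indicator as a Laurent tail -/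
noncomputable def deltaG (d : ℤ) (v : Fin (p + 1 + 1) → ℤ) : Gf (p + 1) R d :=
  open Classical in if h : full v ∧ ∑ i, v i = d then ⟨delta v, delta_mem v h.1 h.2⟩ else 0

theorem deltaG_val {d : ℤ} (v : Fin (p + 1 + 1) → ℤ) (hv : full v) (hd : ∑ i, v i = d) :
    ((deltaG d v : Gf (p + 1) R d) : (Fin (p + 1 + 1) → ℤ) → R) = delta v := by
  classical
  simp only [deltaG]
  rw [dif_pos ⟨hv, hd⟩]

theorem Gf_decomp {d : ℤ} (g : Gf (p + 1) R d) :
    g = ∑ e ∈ g.2.1.toFinset, g.1 e • deltaG d e := by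
  classical
  apply Subtype.ext
  funext e'
  rw [Submodule.coe_sum, Finset.sum_apply]
  have h1 : ∀ e ∈ g.2.1.toFinset, ((g.1 e • deltaG d e : Gf (p + 1) R d) :
      (Fin (p + 1 + 1) → ℤ) → R) e' = if e' = e then g.1 e else 0 := by
    intro e he
    have hne : g.1 e ≠ 0 := by simpa using he
    obtain ⟨hd, hf⟩ := g.2.2 e hne
    rw [Submodule.coe_smul, Pi.smul_apply, deltaG_val e hf hd]
    simp only [delta, smul_eq_mul, mul_ite, mul_one, mul_zero]
  rw [Finset.sum_congr rfl h1, Finset.sum_ite_eq]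
  split_ifs with h
  · rfl
  · by_contra hne
    apply h
    simpa using hne

theorem Gf_ext {d : ℤ} {M : Type*} [AddCommGroup M] [Module R M] (L L' : Gf (p + 1) R d →ₗ[R] M)
    (h : ∀ e, full e → ∑ i, e i = d → L (deltaG d e) = L' (deltaG d e)) : L = L' := by
  apply LinearMap.ext
  intro g
  rw [Gf_decomp g, map_sum, map_sum]
  apply Finset.sum_congr rfl
  intro e he
  have hne : g.1 e ≠ 0 := by simpa using he
  obtain ⟨hd, hf⟩ := g.2.2 e hne
  rw [map_smul, map_smul, h e hf hd]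


/-- the degree of the dualizing twist -/
abbrev wd (p : ℕ) : ℤ := -(((p + 1 : ℕ) : ℤ) + 1)

/-- the coefficient of `x^{(-1,…,-1)}` -/
noncomputable def tcoef : Gf (p + 1) R (wd p) →ₗ[R] R where
  toFun g := g.1 (neg1 p)
  map_add' _ _ := rfl
  map_smul' _ _ := rfl

theorem tcoef_bijective : Function.Bijective (tcoef (R := R) (p := p)) := by
  constructor
  · rw [← LinearMap.ker_eq_bot, LinearMap.ker_eq_bot']
    intro g hg
    apply Subtype.ext
    funext e
    by_contra hne
    obtain ⟨hd, hf⟩ := g.2.2 e hne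
    have := eq_neg1 e hf hd
    rw [this] at hne
    exact hne hg
  · intro r
    refine ⟨r • deltaG (wd p) (neg1 p), ?_⟩
    change (r • deltaG (wd p) (neg1 p) : Gf (p + 1) R (wd p)).1 (neg1 p) = r
    rw [Submodule.coe_smul, Pi.smul_apply, deltaG_val _ full_neg1 sum_neg1]
    simp [delta]

/-- the coefficient of `x^{(-1,…,-1)}`, as an equivalence -/
noncomputable def tcoefEquiv : Gf (p + 1) R (wd p) ≃ₗ[R] R :=
  LinearEquiv.ofBijective tcoef tcoef_bijective

theorem wz_injective {n : ℕ} (b b' : Fin (n + 1) →₀ ℕ) (h : wz b = wz b') : b = b' := by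
  ext i
  have := congrFun h i
  simp only [wz] at this
  exact_mod_cast this

theorem conv_delta (f : MvPolynomial (Fin (p + 1 + 1)) R) (b : Fin (p + 1 + 1) →₀ ℕ) :
    conv f (delta (neg1 p - wz b)) (neg1 p) = coeff b f := by
  classical
  simp only [conv, Finsupp.sum, delta]
  have h1 : ∀ b' : Fin (p + 1 + 1) →₀ ℕ, (neg1 p - wz b' = neg1 p - wz b) ↔ b' = b := by
    intro b'
    constructor
    · intro h
      apply wz_injective
      have := sub_right_injective h
      exact this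
    · intro h; rw [h]
  simp only [h1, mul_ite, mul_one, mul_zero, Finset.sum_ite_eq']
  split_ifs with h
  · rfl
  · rw [Finsupp.notMem_support_iff] at h
    exact h.symm


theorem full_neg1_sub (b : Fin (p + 1 + 1) →₀ ℕ) : full (neg1 p - wz b) :=
  full_sub _ full_neg1 b

theorem sum_neg1_sub {i : ℕ} {d : ℤ} (hk : wd p = i + d) (b : Fin (p + 1 + 1) →₀ ℕ)
    (hb : Finsupp.degree b = i) : ∑ j, (neg1 p - wz b) j = d := by
  simp only [Pi.sub_apply, Finset.sum_sub_distrib, sum_neg1, wz_sum, hb]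
  have : wd p = -(((p + 1 : ℕ) : ℤ) + 1) := rfl
  omega

theorem tcoef_convTlin_deltaG {i : ℕ} {d : ℤ} (hk : wd p = i + d) (f : Gr (p + 1) R i)
    (b : Fin (p + 1 + 1) →₀ ℕ) (hb : Finsupp.degree b = i) :
    tcoef (convTlin f d (wd p) hk (deltaG d (neg1 p - wz b))) = coeff b f.1 := by
  classical
  change convT f.1 (deltaG d (neg1 p - wz b) : Gf (p + 1) R d).1 (neg1 p) = _
  rw [deltaG_val _ (full_neg1_sub b) (sum_neg1_sub hk b hb)]
  simp only [convT]
  rw [if_pos full_neg1, conv_delta]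

theorem model_unique {i : ℕ} {d : ℤ} (hk : wd p = i + d) (f f' : Gr (p + 1) R i)
    (h : ∀ g : Gf (p + 1) R d, tcoef (convTlin f d (wd p) hk g) = tcoef (convTlin f' d (wd p) hk g)) :
    f = f' := by
  apply Subtype.ext
  ext b
  by_cases hb : Finsupp.degree b = i
  · rw [← tcoef_convTlin_deltaG hk f b hb, ← tcoef_convTlin_deltaG hk f' b hb, h]
  · have h1 : f.1.IsHomogeneous i := (mem_homogeneousSubmodule _ _).mp f.2
    have h2 : f'.1.IsHomogeneous i := (mem_homogeneousSubmodule _ _).mp f'.2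
    rw [h1.coeff_eq_zero hb, h2.coeff_eq_zero hb]

theorem model_exists {i : ℕ} {d : ℤ} (hk : wd p = i + d) (L : Gf (p + 1) R d →ₗ[R] R) :
    ∃ f : Gr (p + 1) R i, ∀ g : Gf (p + 1) R d, L g = tcoef (convTlin f d (wd p) hk g) := by
  classical
  let c : (Fin (p + 1 + 1) → ℤ) → R := fun e =>
    if (∀ j, 0 ≤ e j) ∧ ∑ j, e j = (i : ℤ) then L (deltaG d (neg1 p - e)) else 0
  have hc : ∀ e, c e ≠ 0 → (∀ j, 0 ≤ e j) ∧ ∑ j, e j = (i : ℤ) := by
    intro e he
    by_contra hcon
    apply he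
    simp only [c]
    rw [if_neg hcon]
  have hfin : (Function.support c).Finite := by
    apply Set.Finite.subset (Set.Finite.pi (t := fun _ : Fin (p + 1 + 1) => Set.Icc (0 : ℤ) i)
      (fun _ => Set.finite_Icc _ _))
    intro e he
    rw [Function.mem_support] at he
    obtain ⟨h1, h2⟩ := hc e he
    intro j _
    refine ⟨h1 j, ?_⟩
    rw [← h2]
    exact Finset.single_le_sum (f := e) (fun j _ => h1 j) (Finset.mem_univ j)
  have hD : 0 ≤ ((Finsupp.degree (0 : Fin (p + 1 + 1) →₀ ℕ) : ℕ) : ℤ) + (i : ℤ) := by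
    simp
  obtain ⟨m, hm, hco⟩ := exists_poly (i : ℤ) (0 : Fin (p + 1 + 1) →₀ ℕ) c hfin
    (fun e he => (hc e he).2)
    (fun e he j => by
      have := (hc e he).1 j
      simpa using this) hD
  have hi : (((Finsupp.degree (0 : Fin (p + 1 + 1) →₀ ℕ) : ℕ) : ℤ) + (i : ℤ)).toNat = i := by
    simp
  rw [hi] at hm
  refine ⟨⟨m, hm⟩, ?_⟩
  have hL : L = tcoef.comp (convTlin ⟨m, hm⟩ d (wd p) hk) := by
    apply Gf_ext
    intro e he hd
    -- write e = neg1 - wz b
    let b : Fin (p + 1 + 1) →₀ ℕ := tn (neg1 p - e)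
    have hnn : ∀ j, 0 ≤ (neg1 p - e) j := by
      intro j
      have := he j
      simp only [Pi.sub_apply, neg1]
      omega
    have hb1 : wz b = neg1 p - e := by
      funext j
      have := hnn j
      simp only [b, wz, tn_apply]
      omega
    have hb2 : neg1 p - wz b = e := by
      rw [hb1]; simp
    have hsum : ∑ j, (neg1 p - e) j = (i : ℤ) := by
      simp only [Pi.sub_apply, Finset.sum_sub_distrib, sum_neg1, hd]
      have : wd p = -(((p + 1 : ℕ) : ℤ) + 1) := rfl
      omega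
    have hb3 : Finsupp.degree b = i := by
      have h1 := wz_sum b
      rw [hb1, hsum] at h1
      exact_mod_cast h1.symm
    rw [LinearMap.comp_apply, ← hb2, tcoef_convTlin_deltaG hk ⟨m, hm⟩ b hb3]
    change _ = coeff b m
    rw [coeff_eq_co 0 b m, hco]
    simp only [c]
    have h0 : wz b - wz (0 : Fin (p + 1 + 1) →₀ ℕ) = wz b := by
      funext j; simp [wz]
    rw [h0, hb1, if_pos ⟨hnn, hsum⟩]
  intro g
  rw [hL]
  rfl


/-- the trace isomorphism `H^r(P^r, O(-r-1)) ≃ R` -/
noncomputable def tr (p : ℕ) (R : Type u) [CommRing R] :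
    Coh.HH (CohB1.ProjSpace (p + 1) R) (Twist.twistProjSpace (p + 1) R (wd p)) (p + 1) ≃ₗ[R] R :=
  (PnE5.topEquiv p R (wd p)).trans tcoefEquiv

theorem Gf_eq_zero {d : ℤ} (hd : wd p < d) (g : Gf (p + 1) R d) : g = 0 := by
  apply Subtype.ext
  funext e
  by_contra hne
  obtain ⟨hs, hf⟩ := g.2.2 e hne
  have h2 : ∑ i, e i ≤ ∑ i, neg1 p i := by
    apply Finset.sum_le_sum
    intro i _
    have := hf i
    simp only [neg1]
    omega
  rw [sum_neg1] at h2
  have : wd p = -(((p + 1 : ℕ) : ℤ) + 1) := rfl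
  omega

theorem line_duality (d : ℤ)
    (ψ : Coh.HH (CohB1.ProjSpace (p + 1) R) (Twist.twistProjSpace (p + 1) R d) (p + 1) →ₗ[R] R) :
    ∃! φ : Twist.twistProjSpace (p + 1) R d ⟶ Twist.twistProjSpace (p + 1) R (wd p),
      ∀ x : Coh.HH (CohB1.ProjSpace (p + 1) R) (Twist.twistProjSpace (p + 1) R d) (p + 1),
        ψ x = tr p R (Sheaf.H.map ((SheafOfModules.toSheaf
          (CohB1.ProjSpace (p + 1) R).ringCatSheaf).map φ) (p + 1) x) := by
  by_cases hlt : wd p < d
  · have hx : ∀ x : Coh.HH (CohB1.ProjSpace (p + 1) R) (Twist.twistProjSpace (p + 1) R d) (p + 1),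
        x = 0 := by
      intro x
      apply (PnE5.topEquiv p R d).injective
      rw [Gf_eq_zero hlt (PnE5.topEquiv p R d x), map_zero]
    refine ⟨0, fun x => ?_, fun φ _ => eq_zero_of_lt (by omega) hlt φ⟩
    rw [hx x, map_zero, map_zero, map_zero]
  · push Not at hlt
    obtain ⟨i, hi⟩ : ∃ i : ℕ, wd p = i + d := ⟨(wd p - d).toNat, by omega⟩
    let L : Gf (p + 1) R d →ₗ[R] R := ψ.comp (PnE5.topEquiv p R d).symm.toLinearMap
    obtain ⟨f, hf⟩ := model_exists hi L
    have key : ∀ (f' : Gr (p + 1) R i)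
        (x : Coh.HH (CohB1.ProjSpace (p + 1) R) (Twist.twistProjSpace (p + 1) R d) (p + 1)),
        tr p R (Sheaf.H.map ((SheafOfModules.toSheaf (CohB1.ProjSpace (p + 1) R).ringCatSheaf).map
          (mulBy f' d (wd p) hi)) (p + 1) x) =
          tcoef (convTlin f' d (wd p) hi (PnE5.topEquiv p R d x)) := by
      intro f' x
      change tcoef (PnE5.topEquiv p R (wd p) _) = _
      rw [topEquiv_mulBy]
    have hfx : ∀ x : Coh.HH (CohB1.ProjSpace (p + 1) R) (Twist.twistProjSpace (p + 1) R d) (p + 1),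
        ψ x = tr p R (Sheaf.H.map ((SheafOfModules.toSheaf
          (CohB1.ProjSpace (p + 1) R).ringCatSheaf).map (mulBy f d (wd p) hi)) (p + 1) x) := by
      intro x
      rw [key, ← hf]
      change ψ x = ψ ((PnE5.topEquiv p R d).symm (PnE5.topEquiv p R d x))
      rw [LinearEquiv.symm_apply_apply]
    refine ⟨mulBy f d (wd p) hi, hfx, fun φ hφ => ?_⟩
    obtain ⟨f', rfl⟩ := exists_mulBy (by omega) hi φ
    congr 1
    apply model_unique hi
    intro g
    obtain ⟨x, rfl⟩ := (PnE5.topEquiv p R d).surjective g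
    rw [← key, ← key, ← hφ x, ← hfx x]


theorem s11326 (A : Type u) [CommRing A] (r : ℕ) (hr : 1 ≤ r) :
    ∃ t : Coh.HH (CohB1.ProjSpace r A) (Twist.twistProjSpace r A (-((r : ℤ) + 1))) r ≃ₗ[A] A,
      ∀ (n : ℤ) (ψ : Coh.HH (CohB1.ProjSpace r A) (Twist.twistProjSpace r A (-(n + r + 1))) r →ₗ[A] A),
        ∃! φ : Twist.twistProjSpace r A (-(n + r + 1)) ⟶ Twist.twistProjSpace r A (-((r : ℤ) + 1)),
          ∀ x : Coh.HH (CohB1.ProjSpace r A) (Twist.twistProjSpace r A (-(n + r + 1))) r,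
            ψ x = t (Sheaf.H.map ((SheafOfModules.toSheaf (CohB1.ProjSpace r A).ringCatSheaf).map φ) r x) := by
  obtain ⟨p, rfl⟩ : ∃ p, r = p + 1 := ⟨r - 1, by omega⟩
  exact ⟨tr p A, fun n ψ => line_duality _ ψ⟩

end Groth.Agent.Lib.Helper4.DuA4
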