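import Mathlib
import Groth.Agent.Lib.Helper4.DuA3
import Groth.Agent.Lib.Helper4.PnE6

/-!
# Serre duality on projective space: the zero-dimensional case, line bundles (helper4)
-/

set_option backward.isDefEq.respectTransparency.types false
set_option synthInstance.maxHeartbeats 400000
set_option autoImplicit false
set_option linter.unusedSectionVars false
set_option linter.style.haveILetI false
set_option linter.unusedSimpArgs false
universe u v w
open CategoryTheory CategoryTheory.Limits AlgebraicGeometry TopologicalSpace Opposite MvPolynomial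
open Groth.Agent.Helper1
open Groth.Agent.Lib.Helper4.PnS1
open Groth.Agent.Lib.Helper4.PnS2 hiding xm
open Groth.Agent.Lib.Helper4.PnS3
open Groth.Agent.Lib.Helper4.PnS4
open Groth.Agent.Lib.Helper4.PnC1
open Groth.Agent.Lib.Helper4.PnC2
open Groth.Agent.Lib.Helper4.PnC3
open Groth.Agent.Lib.Helper4.DuA1
open Groth.Agent.Lib.Helper4.DuA3
open Groth.Agent.Lib.Helper4

namespace Groth.Agent.Lib.Helper4.DuC1

variable (R : Type u) [CommRing R]

theorem le_U0 (V : Opens (PT 0 R)) : V ≤ BO (R := R) (Finsupp.single 0 1) :=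
  le_top.trans (PnE6.top_eq_BO R).le

/-- multiplication by `x_0^v` on `P^0`, as a morphism of presheaves of abelian groups -/
noncomputable def tauPre (v d k : ℤ) (hk : k = v + d) : PP 0 R d ⟶ PP 0 R k where
  app U := AddCommGrpCat.ofHom
    { toFun := fun s => TwistTens.mulSec (Gr 0 R) hk (sig 0 v U.unop (le_U0 R _)) s
      map_zero' := by
        apply Subtype.ext
        funext x
        apply Subtype.ext
        exact mul_zero _
      map_add' := fun s t => TwistTens.mulSec_add_right (Gr 0 R) hk _ s t }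
  naturality := by
    intro U V g
    rfl

/-- multiplication by `x_0^v` on `P^0` -/
noncomputable def tau (v d k : ℤ) (hk : k = v + d) :
    Twist.twistProjSpace 0 R d ⟶ Twist.twistProjSpace 0 R k :=
  ⟨PresheafOfModules.homMk (M₁ := (Twist.twistProjSpace 0 R d).val)
    (M₂ := (Twist.twistProjSpace 0 R k).val) (tauPre R v d k hk)
    (fun U r s => TwistTens.mulSec_smul_right (Gr 0 R) hk r (sig 0 v U.unop (le_U0 R _)) s)⟩

theorem secMap_tau (v d k : ℤ) (hk : k = v + d) (V : Opens (PT 0 R))
    (s : Twist.sectN (𝒜 := Gr 0 R) d (op V)) (x : V) :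
    (((secMap (tau R v d k hk) V s).1 x).1 : Twist.Loc (Gr 0 R) x.1) =
      (((sig 0 v V (le_U0 R V)).1 x).1 : Twist.Loc (Gr 0 R) x.1) * ((s.1 x).1 : Twist.Loc (Gr 0 R) x.1) := rfl

theorem sig_mul_sig (v : ℤ) (V : Opens (PT 0 R)) (x : V) :
    (((sig 0 (-v) V (le_U0 R V)).1 x).1 : Twist.Loc (Gr 0 R) x.1) *
      (((sig 0 v V (le_U0 R V)).1 x).1 : Twist.Loc (Gr 0 R) x.1) = 1 := by
  rw [sig_val, sig_val, Localization.mk_mul, ← Localization.mk_one, Localization.mk_eq_mk_iff,
    Localization.r_iff_exists]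
  refine ⟨1, ?_⟩
  simp only [OneMemClass.coe_one, one_mul, Submonoid.coe_mul, mul_one, neg_neg]
  ring

theorem ring_aux2 {L : Type*} [CommRing L] (a b s : L) (h : a * b = 1) : a * (b * s) = s := by
  rw [← mul_assoc, h, one_mul]

theorem secMap_tau_tau (v d k : ℤ) (hk : k = v + d) (hd : d = -v + k) (V : Opens (PT 0 R))
    (s : Twist.sectN (𝒜 := Gr 0 R) d (op V)) :
    secMap (tau R (-v) k d hd) V (secMap (tau R v d k hk) V s) = s := by
  apply Subtype.ext
  funext x
  apply Subtype.ext
  exact ring_aux2 _ _ _ (sig_mul_sig R v V x)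

theorem tau_comp (v d k : ℤ) (hk : k = v + d) (hd : d = -v + k) :
    tau R v d k hk ≫ tau R (-v) k d hd = 𝟙 _ := by
  apply SheafOfModules.Hom.ext
  apply PresheafOfModules.Hom.ext
  funext U
  apply ModuleCat.hom_ext
  apply LinearMap.ext
  intro s
  exact secMap_tau_tau R v d k hk hd U.unop s

/-- all twists on `P^0` are isomorphic -/
noncomputable def tauIso (d k : ℤ) : Twist.twistProjSpace 0 R d ≅ Twist.twistProjSpace 0 R k where
  hom := tau R (k - d) d k (by omega)
  inv := tau R (-(k - d)) k d (by omega)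
  hom_inv_id := tau_comp R (k - d) d k (by omega) (by omega)
  inv_hom_id := by
    have h := tau_comp R (-(k - d)) k d (by omega) (by omega)
    have e : tau R (- -(k - d)) d k (by omega) = tau R (k - d) d k (by omega) := by
      congr 1
      exact neg_neg _
    rw [e] at h
    exact h


section general
variable {R} {n : ℕ}

theorem C_mem (c : R) : (C c : MvPolynomial (Fin (n + 1)) R) ∈ Gr n R 0 :=
  (mem_homogeneousSubmodule _ _).mpr (isHomogeneous_C _ c)

theorem phiF_C (c : R) (d : ℤ) :
    phiF (⟨C c, C_mem c⟩ : Gr n R 0) d d (by simp) = PnL1.phiR n R d c := by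
  ext U s
  apply Subtype.ext
  funext x
  apply Subtype.ext
  exact (phiF_val (⟨C c, C_mem c⟩ : Gr n R 0) d d (by simp) U.unop s x).trans
    (PnL1.phiR_val c U.unop s x).symm

theorem H_mulBy_C (c : R) (d : ℤ) (i : ℕ)
    (x : Coh.HH (CohB1.ProjSpace n R) (Twist.twistProjSpace n R d) i) :
    Sheaf.H.map ((SheafOfModules.toSheaf (CohB1.ProjSpace n R).ringCatSheaf).map
      (mulBy (⟨C c, C_mem c⟩ : Gr n R 0) d d (by simp))) i x = c • x := by
  have e : (SheafOfModules.toSheaf (CohB1.ProjSpace n R).ringCatSheaf).map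
      (mulBy (⟨C c, C_mem c⟩ : Gr n R 0) d d (by simp)) =
      Coh.smulAb (Twist.twistProjSpace n R d) (Coh.toGlobal (CohB1.ProjSpace.toSpec n R) c) := by
    have h2 : (Coh.smulAb (Twist.twistProjSpace n R d)
        (Coh.toGlobal (CohB1.ProjSpace.toSpec n R) c)).hom = PnL1.phiR n R d c := rfl
    have h1 : ((SheafOfModules.toSheaf (CohB1.ProjSpace n R).ringCatSheaf).map
      (mulBy (⟨C c, C_mem c⟩ : Gr n R 0) d d (by simp))).hom =
        phiF (⟨C c, C_mem c⟩ : Gr n R 0) d d (by simp) := mulBy_hom _ d d (by simp)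
    exact Sheaf.hom_ext (h1.trans ((phiF_C c d).trans h2.symm))
  exact congrArg (fun f => Sheaf.H.map f i x) e

end general


theorem fin1_eq (e e' : Fin 1 → ℤ) (h : e 0 = e' 0) : e = e' := by
  funext i
  have : i = 0 := Subsingleton.elim _ _
  rw [this, h]

theorem exists_mulBy_C (d : ℤ) (φ : Twist.twistProjSpace 0 R d ⟶ Twist.twistProjSpace 0 R d) :
    ∃ c : R, φ = mulBy (⟨C c, C_mem c⟩ : Gr 0 R 0) d d (by simp) := by
  refine ⟨cc φ 0 (dv 0 d), ?_⟩
  apply hom_ext_sig
  intro j
  have hj : j = 0 := Subsingleton.elim _ _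
  subst hj
  apply lam_inj' d (w₁ := Finsupp.single 0 1) (by rw [Finsupp.degree_single]; exact Nat.one_pos)
  change cc φ 0 = cc (mulBy (⟨C (cc φ 0 (dv 0 d)), C_mem _⟩ : Gr 0 R 0) d d (by simp)) 0
  funext e
  rw [cc_mulBy]
  change _ = co 0 (C (cc φ 0 (dv 0 d))) (e - dv 0 d)
  by_cases he : e = dv 0 d
  · subst he
    simp only [co, sub_self]
    rw [if_pos (by intro i; simp)]
    have : tn ((0 : Fin 1 → ℤ) + wz (0 : Fin 1 →₀ ℕ)) = 0 := by
      ext i; simp [wz]
    rw [this, coeff_zero_C]
  · have h1 : cc φ 0 e = 0 := by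
      by_contra hne
      have h2 := cc_degree φ 0 e hne
      apply he
      apply fin1_eq
      rw [PnE6.sum_fin_one] at h2
      simp [dv, h2]
    rw [h1]
    simp only [co]
    split_ifs with h3
    · rw [coeff_C, if_neg]
      intro h4
      apply he
      apply fin1_eq
      have h5 := DFunLike.congr_fun h4 0
      have h6 := h3 0
      simp only [Finsupp.coe_zero, Pi.zero_apply, tn_apply, Pi.add_apply, Pi.sub_apply, wz,
        Nat.cast_zero, add_zero, dv, if_true] at h5 h6 ⊢
      omega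
    · rfl


/-- the degree of the dualizing twist on `P^0` -/
abbrev wd0 : ℤ := -(((0 : ℕ) : ℤ) + 1)

theorem wd0_neg : wd0 < 0 := by simp [wd0]

/-- the coefficient at the exponent `(-1)` -/
noncomputable def tcoef0 : PnT1.Gf 0 R wd0 →ₗ[R] R where
  toFun g := g.1 (fun _ => -1)
  map_add' _ _ := rfl
  map_smul' _ _ := rfl

theorem tcoef0_bijective : Function.Bijective (tcoef0 R) := by
  classical
  constructor
  · rw [← LinearMap.ker_eq_bot, LinearMap.ker_eq_bot']
    intro g hg
    apply Subtype.ext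
    funext e
    by_contra hne
    obtain ⟨hd, -⟩ := g.2.2 e hne
    rw [PnE6.sum_fin_one] at hd
    have : e = fun _ => -1 := fin1_eq _ _ (by simpa [wd0] using hd)
    rw [this] at hne
    exact hne hg
  · intro r
    refine ⟨⟨fun e => if e = (fun _ => -1) then r else 0, ?_, ?_⟩, ?_⟩
    · apply Set.Finite.subset (Set.finite_singleton (fun _ => (-1 : ℤ)))
      intro e he
      rw [Function.mem_support] at he
      split_ifs at he with h
      · exact h
      · exact absurd rfl he
    · intro e he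
      simp only at he
      split_ifs at he with h
      · rw [h]
        refine ⟨by simp [wd0], fun i => by simp⟩
      · exact absurd rfl he
    · change (if (fun _ : Fin 1 => (-1 : ℤ)) = (fun _ => -1) then r else 0) = r
      rw [if_pos rfl]

/-- the trace isomorphism on `P^0` -/
noncomputable def tr0 : Coh.HH (CohB1.ProjSpace 0 R) (Twist.twistProjSpace 0 R wd0) 0 ≃ₗ[R] R :=
  (PnE6.zeroEquiv R wd0 wd0_neg).trans (LinearEquiv.ofBijective (tcoef0 R) (tcoef0_bijective R))

theorem line_duality0_self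
    (ψ : Coh.HH (CohB1.ProjSpace 0 R) (Twist.twistProjSpace 0 R wd0) 0 →ₗ[R] R) :
    ∃! φ : Twist.twistProjSpace 0 R wd0 ⟶ Twist.twistProjSpace 0 R wd0,
      ∀ x : Coh.HH (CohB1.ProjSpace 0 R) (Twist.twistProjSpace 0 R wd0) 0,
        ψ x = tr0 R (Sheaf.H.map ((SheafOfModules.toSheaf
          (CohB1.ProjSpace 0 R).ringCatSheaf).map φ) 0 x) := by
  have hψ : ∀ x, ψ x = tr0 R x * ψ ((tr0 R).symm 1) := by
    intro x
    have h1 : x = tr0 R x • (tr0 R).symm 1 := by
      apply (tr0 R).injective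
      rw [map_smul, LinearEquiv.apply_symm_apply, smul_eq_mul, mul_one]
    conv_lhs => rw [h1]
    rw [map_smul, smul_eq_mul]
  refine ⟨mulBy (⟨C (ψ ((tr0 R).symm 1)), C_mem _⟩ : Gr 0 R 0) wd0 wd0 (by simp), fun x => ?_,
    fun φ hφ => ?_⟩
  · rw [H_mulBy_C, map_smul, smul_eq_mul, hψ x, mul_comm]
  · obtain ⟨c, rfl⟩ := exists_mulBy_C R wd0 φ
    have h1 := hφ ((tr0 R).symm 1)
    rw [H_mulBy_C, map_smul, smul_eq_mul, LinearEquiv.apply_symm_apply, mul_one] at h1
    rw [h1]

end Groth.Agent.Lib.Helper4.DuC1
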