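import Mathlib
import Groth.Agent.Lib.Helper4.DuB2
import Groth.Agent.Lib.Helper4.DuC1

/-!
# Serre duality on projective space: the dualizing property for coherent modules, all dimensions (helper4)
-/

set_option backward.isDefEq.respectTransparency.types false
set_option synthInstance.maxHeartbeats 400000
set_option autoImplicit false
set_option linter.unusedSectionVars false
set_option linter.style.haveILetI false
set_option linter.unusedSimpArgs false
universe u v w
open CategoryTheory CategoryTheory.Limits AlgebraicGeometry TopologicalSpace Opposite MvPolynomial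
open Groth.Agent.Helper1
open Groth.Agent.Lib.Helper4.DuA4
open Groth.Agent.Lib.Helper4.DuB1
open Groth.Agent.Lib.Helper4.DuB2
open Groth.Agent.Lib.Helper4.DuC1
open Groth.Agent.Lib.Helper4.SerreFin
open Groth.Agent.Lib.Helper4

namespace Groth.Agent.Lib.Helper4.DuC2

variable (R : Type u) [CommRing R]

theorem dual_twist0 (d : ℤ) :
    Dual R 0 (Twist.twistProjSpace 0 R wd0) (tr0 R).toLinearMap (Twist.twistProjSpace 0 R d) :=
  dual_of_iso (tauIso R wd0 d) (fun ψ => line_duality0_self R ψ)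

theorem dual_coh0 [IsNoetherianRing R] (M : (CohB1.ProjSpace 0 R).Modules) (hM : Coh.IsCoh M) :
    Dual R 0 (Twist.twistProjSpace 0 R wd0) (tr0 R).toLinearMap M := by
  obtain ⟨n₀, h⟩ := Groth.Agent.S4402.result (CohB1.polyGrading 0 R) (sX 0 R)
    (sX_mem 0 R) (irrelevant_eq 0 R) M hM.1 hM.2
  obtain ⟨k, π', hπ'⟩ := h n₀ le_rfl
  let π : (∐ fun _ : Fin k => Twist.twistProjSpace 0 R (-(n₀ : ℤ))) ⟶ M := π'
  haveI hπ : Epi π := hπ'
  have hB : ∀ (m : ℕ) (k : ℕ) (_ : Fin k), Coh.IsCoh (Twist.twistProjSpace 0 R (-(m : ℤ))) :=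
    fun m k _ => isCoh_twist 0 R _
  have hE : ∀ (m k : ℕ), Coh.IsCoh (∐ fun _ : Fin k => Twist.twistProjSpace 0 R (-(m : ℤ))) := by
    intro m k
    haveI : ∀ i : Fin k, ((fun _ : Fin k => Twist.twistProjSpace 0 R (-(m : ℤ))) i).IsQuasicoherent :=
      fun i => (hB m k i).1
    exact ⟨FinSigma.isQuasicoherent_sigma _, VT.isFT_sigma _ (fun i => (hB m k i).2)⟩
  have hK : Coh.IsCoh (kernel π) := FtLocal.isCoh_kernel (hE n₀ k) hM π
  obtain ⟨n₁, h'⟩ := Groth.Agent.S4402.result (CohB1.polyGrading 0 R) (sX 0 R)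
    (sX_mem 0 R) (irrelevant_eq 0 R) (kernel π) hK.1 hK.2
  obtain ⟨k', q', hq'⟩ := h' n₁ le_rfl
  let q : (∐ fun _ : Fin k' => Twist.twistProjSpace 0 R (-(n₁ : ℤ))) ⟶ kernel π := q'
  haveI hq : Epi q := hq'
  haveI : Coh.IsQCoh (kernel π) := hK.1
  have hsub : Subsingleton (Coh.HH (CohB1.ProjSpace 0 R) (kernel π) (0 + 1)) :=
    Groth.Agent.S0022.result 0 R (kernel π) (0 + 1) (by omega)
  have hlift : kernel.lift π (q ≫ kernel.ι π) (by rw [Category.assoc, kernel.condition, comp_zero]) = q := by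
    rw [← cancel_mono (kernel.ι π), kernel.lift_ι]
  refine dual_quot π (q ≫ kernel.ι π) (by rw [Category.assoc, kernel.condition, comp_zero])
    (by rw [hlift]; exact hq) (surj_of_subsingleton π hsub)
    (dual_sigma _ fun _ => dual_twist0 R _) (dual_sigma _ fun _ => dual_twist0 R _)

theorem s11314 (k : Type u) [Field k] (n : ℕ) :
    ∃ t : Coh.HH (CohB1.ProjSpace n k) (Twist.twistProjSpace n k (-((n : ℤ) + 1))) n →ₗ[k] k,
      ∀ F : (CohB1.ProjSpace n k).Modules, Coh.IsCoh F → ∀ ψ : Coh.HH (CohB1.ProjSpace n k) F n →ₗ[k] k,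
        ∃! φ : F ⟶ (Twist.twistProjSpace n k (-((n : ℤ) + 1))), ∀ x : Coh.HH (CohB1.ProjSpace n k) F n,
          ψ x = t (Sheaf.H.map ((SheafOfModules.toSheaf (CohB1.ProjSpace n k).ringCatSheaf).map φ) n x) := by
  rcases n with _ | p
  · exact ⟨(tr0 k).toLinearMap, fun F hF ψ => dual_coh0 k F hF ψ⟩
  · exact ⟨(tr p k).toLinearMap, fun F hF ψ => dual_coh p k F hF ψ⟩

end Groth.Agent.Lib.Helper4.DuC2
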