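import Mathlib
import Groth.Agent.Lib.Helper4.DuF3
import Groth.Agent.Lib.Helper4.SerreVan
import Groth.Agent.Lib.Helper4.PnC7

/-!
# Ext^i(O(a),O(b)) vanishes on projective space when H^i(O(b-a)) does (helper4)
-/

set_option backward.isDefEq.respectTransparency.types false
set_option synthInstance.maxHeartbeats 400000
set_option autoImplicit false
set_option linter.unusedSectionVars false
set_option linter.style.haveILetI false
set_option linter.unusedSimpArgs false
universe u v w
open CategoryTheory CategoryTheory.Limits AlgebraicGeometry TopologicalSpace Opposite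
open CategoryTheory.Abelian
open Groth.Agent.Helper1
open Groth.Agent.Lib.Helper4

namespace Groth.Agent.Lib.Helper4.DuF4

variable (n : ℕ) (R : Type u) [CommRing R]

/-- twists with equal degrees are isomorphic -/
noncomputable def twistIsoOfEq {a b : ℤ} (h : a = b) :
    Twist.twistProjSpace n R a ≅ Twist.twistProjSpace n R b := eqToIso (by rw [h])

theorem subsingleton_ext_twist [HasExt.{u} (CohB1.ProjSpace n R).Modules] (a b : ℤ) (i : ℕ)
    (h : Subsingleton (Coh.HH (CohB1.ProjSpace n R) (Twist.twistProjSpace n R (b - a)) i)) :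
    Subsingleton (Ext (Twist.twistProjSpace n R a) (Twist.twistProjSpace n R b) i) := by
  have hpk := TwistTens.twist_package (CohB1.polyGrading n R) (SerreFin.hcov1 n R)
  have hK : PicF.IsInvertible (Twist.twistProjSpace n R (-a)) := hpk.1 (-a)
  obtain ⟨e1⟩ := hpk.2.1 a (-a)
  obtain ⟨e2⟩ := hpk.2.1 b (-a)
  obtain ⟨e0⟩ := PnC7.nonempty_iso_twist_zero n R
  let eA : CohB1.tensorMod (Twist.twistProjSpace n R a) (Twist.twistProjSpace n R (-a)) ≅
      Coh.structureModule (CohB1.ProjSpace n R) :=
    e1 ≪≫ twistIsoOfEq n R (add_neg_cancel a) ≪≫ e0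
  let eB : CohB1.tensorMod (Twist.twistProjSpace n R b) (Twist.twistProjSpace n R (-a)) ≅
      Twist.twistProjSpace n R (b - a) :=
    e2 ≪≫ twistIsoOfEq n R (sub_eq_add_neg b a).symm
  exact DuF3.subsingleton_ext_of_tensor_unit hK _ _ _ eA eB i h

end Groth.Agent.Lib.Helper4.DuF4
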