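import Mathlib
import Groth.Agent.Lib.Helper4.DuF7
import Groth.Agent.Lib.Helper4.DuF4
import Groth.Agent.Lib.Helper4.DuC2
import Groth.Agent.S0844

/-!
# Serre duality for Ext on projective space over a field (helper4)
-/

set_option backward.isDefEq.respectTransparency.types false
set_option synthInstance.maxHeartbeats 400000
set_option autoImplicit false
set_option linter.unusedSectionVars false
set_option linter.style.haveILetI false
set_option linter.unusedSimpArgs false
universe u v w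
open CategoryTheory CategoryTheory.Limits AlgebraicGeometry TopologicalSpace Opposite
open CategoryTheory.Abelian
open Groth.Agent.Helper1
open Groth.Agent.Lib.Helper4.DuA4
open Groth.Agent.Lib.Helper4.DuB1
open Groth.Agent.Lib.Helper4.DuB2
open Groth.Agent.Lib.Helper4.DuC1
open Groth.Agent.Lib.Helper4.DuC2
open Groth.Agent.Lib.Helper4.SerreFin
open Groth.Agent.Lib.Helper4

namespace Groth.Agent.Lib.Helper4.DuF8

section Sigma
variable {C : Type u} [Category.{v} C] [Abelian C] [HasExt.{w} C]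

theorem sum_comp {A B Z : C} {ι : Type*} (s : Finset ι) (f : ι → (A ⟶ B)) {i : ℕ} (x : Ext B Z i) :
    (Ext.mk₀ (∑ j ∈ s, f j)).comp x (zero_add i) = ∑ j ∈ s, (Ext.mk₀ (f j)).comp x (zero_add i) := by
  classical
  induction s using Finset.induction_on with
  | empty => rw [Finset.sum_empty, Finset.sum_empty, Ext.mk₀_zero, Ext.zero_comp]
  | insert a s ha ih =>
    rw [Finset.sum_insert ha, Finset.sum_insert ha, Ext.mk₀_add, Ext.add_comp, ih]

end Sigma

section Sigma2
variable {X : Scheme.{u}} [HasExt.{u} X.Modules]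

theorem subsingleton_ext_sigma {r : ℕ} (B : Fin r → X.Modules) (ω : X.Modules) (i : ℕ)
    (h : ∀ j, Subsingleton (Ext (B j) ω i)) : Subsingleton (Ext (∐ B) ω i) := by
  refine subsingleton_of_forall_eq 0 fun x => ?_
  have h1 := sum_comp Finset.univ (fun j => FinSigma.q B j ≫ Sigma.ι B j) x
  rw [FinSigma.sum_q_ι, Ext.mk₀_id_comp] at h1
  rw [h1]
  apply Finset.sum_eq_zero
  intro j _
  rw [← Ext.mk₀_comp_mk₀, Ext.comp_assoc_of_second_deg_zero]
  have : (Ext.mk₀ (Sigma.ι B j)).comp x (zero_add i) = 0 := Subsingleton.elim (h := h j) _ _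
  rw [this, Ext.comp_zero]

end Sigma2


section Pn
variable (k : Type u) [Field k] (n : ℕ) [HasExt.{u} (CohB1.ProjSpace n k).Modules]

/-- good presentations of coherent modules on projective space -/
theorem hasPres_of_dual {ω' : (CohB1.ProjSpace n k).Modules}
    (hω : ω' = Twist.twistProjSpace n k (-((n : ℤ) + 1)))
    (t : Coh.HH (CohB1.ProjSpace n k) ω' n →ₗ[k] k)
    (htw : ∀ d : ℤ, Dual k n ω' t (Twist.twistProjSpace n k d))
    (F : (CohB1.ProjSpace n k).Modules) (hF : Coh.IsCoh F) :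
    DuF7.HasPres k n ω' t Coh.IsCoh F := by
  obtain ⟨n₀, h⟩ := Groth.Agent.S4402.result (CohB1.polyGrading n k) (sX n k)
    (sX_mem n k) (irrelevant_eq n k) F hF.1 hF.2
  obtain ⟨r, π', hπ'⟩ := h (max n₀ 1) (le_max_left _ _)
  have hq : 1 ≤ max n₀ 1 := le_max_right _ _
  generalize max n₀ 1 = q at π' hπ' hq
  let π : (∐ fun _ : Fin r => Twist.twistProjSpace n k (-(q : ℤ))) ⟶ F := π'
  haveI hπ : Epi π := hπ'
  have hB : ∀ (_ : Fin r), Coh.IsCoh (Twist.twistProjSpace n k (-(q : ℤ))) :=
    fun _ => isCoh_twist n k _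
  have hE : Coh.IsCoh (∐ fun _ : Fin r => Twist.twistProjSpace n k (-(q : ℤ))) := by
    haveI : ∀ i : Fin r, ((fun _ : Fin r => Twist.twistProjSpace n k (-(q : ℤ))) i).IsQuasicoherent :=
      fun i => (hB i).1
    exact ⟨FinSigma.isQuasicoherent_sigma _, VT.isFT_sigma _ (fun i => (hB i).2)⟩
  have hK : Coh.IsCoh (kernel π) := FtLocal.isCoh_kernel hE hF π
  refine ⟨_, π, hπ, hK, dual_sigma _ (fun _ => htw _), fun i hi => ?_, fun j hj => ?_⟩
  · apply subsingleton_ext_sigma
    intro _
    subst hω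
    apply DuF4.subsingleton_ext_twist
    apply Groth.Agent.S0844.result
    · omega
    · intro h
      omega
  · have := SerreVan.subsingleton_sigma k (𝟭 _) (fun _ : Fin r => Twist.twistProjSpace n k (-(q : ℤ))) j
      (fun _ => Groth.Agent.S0844.result k n _ j (by omega) (by omega))
    exact this

end Pn

section Final
variable (k : Type u) [Field k] (n : ℕ) [HasExt.{u} (CohB1.ProjSpace n k).Modules]

theorem ext_duality_Pn_aux {ω' : (CohB1.ProjSpace n k).Modules}
    (hω : ω' = Twist.twistProjSpace n k (-((n : ℤ) + 1)))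
    (t : Coh.HH (CohB1.ProjSpace n k) ω' n →ₗ[k] k)
    (htw : ∀ d : ℤ, Dual k n ω' t (Twist.twistProjSpace n k d))
    (hcoh : ∀ F : (CohB1.ProjSpace n k).Modules, Coh.IsCoh F → Dual k n ω' t F)
    (F : (CohB1.ProjSpace n k).Modules) (hF : Coh.IsCoh F) :
    (∀ i : ℕ, i ≤ n → Nonempty (Abelian.Ext F (Twist.twistProjSpace n k (-((n : ℤ) + 1))) i ≃ₗ[k]
      Module.Dual k (Coh.HH (CohB1.ProjSpace n k) F (n - i)))) ∧
    ∀ i : ℕ, n < i → Subsingleton (Abelian.Ext F (Twist.twistProjSpace n k (-((n : ℤ) + 1))) i) := by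
  have key := DuF7.ext_duality k n ω' t Coh.IsCoh hcoh (hasPres_of_dual k n hω t htw)
  subst hω
  exact ⟨fun i hi => (key i).1 F hF (n - i) (by omega), fun i hi => (key i).2 F hF hi⟩

theorem s15516 (F : (CohB1.ProjSpace n k).Modules) (hF : Coh.IsCoh F) :
    (∀ i : ℕ, i ≤ n → Nonempty (Abelian.Ext F (Twist.twistProjSpace n k (-((n : ℤ) + 1))) i ≃ₗ[k]
      Module.Dual k (Coh.HH (CohB1.ProjSpace n k) F (n - i)))) ∧
    ∀ i : ℕ, n < i → Subsingleton (Abelian.Ext F (Twist.twistProjSpace n k (-((n : ℤ) + 1))) i) := by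
  rcases n with _ | p
  · exact ext_duality_Pn_aux k 0 rfl (tr0 k).toLinearMap (fun d => dual_twist0 k d)
      (fun F hF => dual_coh0 k F hF) F hF
  · exact ext_duality_Pn_aux k (p + 1) rfl (tr p k).toLinearMap (fun d => dual_twist p k d)
      (fun F hF => dual_coh p k F hF) F hF

theorem subsingleton_dual_iff {V : Type*} [AddCommGroup V] [Module k V] :
    Subsingleton (Module.Dual k V) ↔ Subsingleton V := by
  constructor
  · intro h
    refine subsingleton_of_forall_eq 0 fun v => ?_
    rw [← Module.forall_dual_apply_eq_zero_iff k v]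
    intro φ
    rw [Subsingleton.elim φ 0]
    rfl
  · exact DuF7.subsingleton_dual k

theorem s10950 (F : (CohB1.ProjSpace n k).Modules) (hF : Coh.IsCoh F) (i : ℕ) (hi : i ≤ n) :
    Subsingleton (Abelian.Ext F (Twist.twistProjSpace n k (-((n : ℤ) + 1))) i) ↔
      Subsingleton (Coh.HH (CohB1.ProjSpace n k) F (n - i)) := by
  obtain ⟨e⟩ := (s15516 k n F hF).1 i hi
  exact e.toEquiv.subsingleton_congr.trans (subsingleton_dual_iff k)

end Final
end Groth.Agent.Lib.Helper4.DuF8
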