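import Mathlib
import Groth.Agent.Lib.Helper4.ClBridge2
import Groth.Agent.Lib.Helper4.KosC4
import Groth.Agent.Lib.Helper1.CounitLib
import Groth.Agent.Lib.Helper1.AmpleAff
import Groth.Agent.Lib.Helper1.AmpleLib4
import Groth.Prelude.Def_Pic13

/-!
# Castelnuovo-Mumford regularity on closed subschemes of projective space via pushforward (helper4)
-/

set_option backward.isDefEq.respectTransparency.types false
set_option synthInstance.maxHeartbeats 400000
set_option autoImplicit false
set_option linter.unusedSectionVars false
set_option linter.style.haveILetI false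
set_option linter.unusedSimpArgs false
universe u v w
open CategoryTheory CategoryTheory.Limits AlgebraicGeometry
open TopologicalSpace Opposite
open Groth.Agent.Helper1
open Groth.Agent.Lib.Helper4 Groth.Agent.Lib.Helper4.ClBridge2

namespace Groth.Agent.Lib.Helper4.ClBridge4

variable {X Y : Scheme.{u}}

theorem isGloballyGenerated_of_epi {M N : X.Modules} (π : M ⟶ N) (hπ : Epi π)
    (h : Curv2.IsGloballyGenerated M) : Curv2.IsGloballyGenerated N := by
  obtain ⟨ι, p, hp⟩ := h
  exact ⟨ι, p ≫ π, @epi_comp _ _ _ _ _ p hp π hπ⟩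

/-- pullbacks of globally generated modules are globally generated -/
theorem isGloballyGenerated_pullback (f : X ⟶ Y) {M : Y.Modules}
    (h : Curv2.IsGloballyGenerated M) :
    Curv2.IsGloballyGenerated ((Scheme.Modules.pullback f).obj M) := by
  obtain ⟨ι, p, hp⟩ := h
  have hpe : (Scheme.Modules.pullback f).PreservesEpimorphisms :=
    Functor.preservesEpimorphisms_of_adjunction (Scheme.Modules.pullbackPushforwardAdjunction f)
  have h1 : Epi ((Scheme.Modules.pullback f).map p) :=
    @Functor.PreservesEpimorphisms.preserves _ _ _ _ _ hpe _ _ p hp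
  haveI : (Opens.map f.base).Final := Groth.Agent.Helper1.PullSec.final_opensMap f
  let e : (Scheme.Modules.pullback f).obj (SheafOfModules.free ι) ≅ SheafOfModules.free ι :=
    SheafOfModules.pullbackObjFreeIso f.toRingCatSheafHom ι
  exact ⟨ι, e.inv ≫ (Scheme.Modules.pullback f).map p, @epi_comp _ _ _ _ _ e.inv inferInstance _ h1⟩

/-- for an affine morphism, a quasi-coherent module is generated by its direct image -/
theorem epi_counit_of_isAffineHom (f : X ⟶ Y) [IsAffineHom f] (G : X.Modules) [G.IsQuasicoherent] :
    Epi ((Scheme.Modules.pullbackPushforwardAdjunction f).counit.app G) := by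
  apply CounitLib.epi_counit_of_globallyGenerated_restrict
  intro U hU
  haveI : IsAffine (↑(f ⁻¹ᵁ U) : Scheme.{u}) := hU.preimage f
  haveI : (G.restrict (f ⁻¹ᵁ U).ι).IsQuasicoherent :=
    Scheme.Modules.isQuasicoherent_restrictFunctor _ G
  exact AmpleLib.isGloballyGenerated_of_isAffine _

/-- global generation descends from the direct image along an affine morphism -/
theorem isGloballyGenerated_of_pushforward (f : X ⟶ Y) [IsAffineHom f] (G : X.Modules)
    [G.IsQuasicoherent]
    (h : Curv2.IsGloballyGenerated ((Scheme.Modules.pushforward f).obj G)) :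
    Curv2.IsGloballyGenerated G := by
  exact isGloballyGenerated_of_epi ((Scheme.Modules.pullbackPushforwardAdjunction f).counit.app G)
    (epi_counit_of_isAffineHom f G) (isGloballyGenerated_pullback f h)

section Reg
variable (k : Type u) [Field k] (n : ℕ) (i : X ⟶ CohB1.ProjSpace n k) [IsClosedImmersion i]
  (F : X.Modules)

theorem twistOn_eq (d : ℤ) : Pic13.twistOn k i F d = twOn n k i F d := rfl

theorem isMRegular_push [Coh.IsQCoh F] (m : ℤ) (h : Pic13.IsMRegular k i F m) :
    Curv2.IsMRegular k n ((Scheme.Modules.pushforward i).obj F) m := by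
  intro q hq _
  rw [← subsingleton_twOn_iff]
  exact h q hq

theorem isMRegular_of_push [Coh.IsQCoh F] (m : ℤ)
    (h : Curv2.IsMRegular k n ((Scheme.Modules.pushforward i).obj F) m) :
    Pic13.IsMRegular k i F m := by
  intro q hq
  by_cases hqn : q ≤ n
  · change Subsingleton (Coh.HH X (twOn n k i F (m - q)) q)
    rw [subsingleton_twOn_iff]
    exact h q hq hqn
  · haveI := isQCoh_twOn n k i F (m - q)
    exact ClBridge1.subsingleton_HH_of_closed n k i (twOn n k i F (m - q)) q (by omega)

theorem s12111 (hF : Coh.IsCoh F) (m : ℤ)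
    (h : Pic13.IsMRegular k i F m) (n' : ℤ) (hn' : m ≤ n') :
    Pic13.IsMRegular k i F n' ∧ Curv2.IsGloballyGenerated (Pic13.twistOn k i F n') := by
  haveI : Coh.IsQCoh F := hF.1
  have hc : Coh.IsCoh ((Scheme.Modules.pushforward i).obj F) := FinPush.isCoh_pushforward i F hF
  have h1 := isMRegular_push k n i F m h
  have h2 := KosC4.isMRegular_of_le n k _ hc m h1 n' hn'
  refine ⟨isMRegular_of_push k n i F n' h2, ?_⟩
  have h3 := KosC4.s1647 n k _ hc n' h2
  obtain ⟨φ⟩ := nonempty_projFormula i F (Twist.twistProjSpace n k n') (isInvertible_twist n k n')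
  haveI := isQCoh_twOn n k i F n'
  apply isGloballyGenerated_of_pushforward i (twOn n k i F n')
  exact AmpleLib.isGloballyGenerated_of_iso φ h3

end Reg

end Groth.Agent.Lib.Helper4.ClBridge4
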