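import Mathlib
import Groth.Prelude.Def_CAlg
import Groth.Prelude.Def_FlatMod2
import Groth.Prelude.Def_Coh
import Groth.Prelude.Def_CurvBase
import Mathlib.AlgebraicGeometry.FunctionField
import Groth.Agent.Lib.Lead.SD1
import Groth.Agent.Lib.Helper7.CohStalk.Finite
import Groth.Agent.Lib.Helper4.Hartogs1

/-!
# Isomorphism criterion for maps from a coherent module via depth >= 2 and associated points (S8890, S8891) (helper4)
-/

set_option backward.isDefEq.respectTransparency.types false
set_option synthInstance.maxHeartbeats 400000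
set_option autoImplicit false
set_option linter.unusedSectionVars false
set_option linter.style.haveILetI false
set_option linter.unusedSimpArgs false
universe u v w
open CategoryTheory CategoryTheory.Limits AlgebraicGeometry TopologicalSpace IsLocalRing Opposite Topology
open Groth.Agent.Lib.Helper4.Hartogs1

namespace Groth.Agent.Lib.Helper4.CohIso1

section CA
variable {A : Type*} [CommRing A] (p : Ideal A) [p.IsPrime]
  {Ap : Type*} [CommRing Ap] [Algebra A Ap] [IsLocalization.AtPrime Ap p] [IsLocalRing Ap]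
  {N N' : Type*} [AddCommGroup N] [Module A N] [AddCommGroup N'] [Module A N']
  {L L' : Type*} [AddCommGroup L] [Module A L] [Module Ap L] [IsScalarTower A Ap L]
  [AddCommGroup L'] [Module A L'] [Module Ap L'] [IsScalarTower A Ap L']
  (g : N →ₗ[A] L) (g' : N' →ₗ[A] L') [IsLocalizedModule p.primeCompl g]
  [IsLocalizedModule p.primeCompl g']
  (ψ : N →ₗ[A] N') (φp : L →ₗ[Ap] L') (hcomm : ∀ n, φp (g n) = g' (ψ n))

include hcomm in
/-- injectivity step -/
theorem inj_step [Module.Finite Ap L] (k : N) (hk : ψ k = 0) (hann : ∀ r : A, r • k = 0 ↔ r ∈ p)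
    (h : Function.Injective φp ∨ (1 : ℕ∞) ≤ LocCoh.depth Ap L) : False := by
  have hgk : g k ≠ 0 := by
    intro h0
    rw [IsLocalizedModule.eq_zero_iff p.primeCompl] at h0
    obtain ⟨s, hs⟩ := h0
    exact s.2 ((hann s.1).1 hs)
  rcases h with h | h
  · apply hgk
    apply h
    rw [hcomm, hk, map_zero, map_zero]
  · rw [one_le_depth_iff] at h
    rcases h with h | ⟨a, ha, hreg⟩
    · exact hgk (Subsingleton.elim _ _)
    · obtain ⟨⟨r, s⟩, hrs⟩ := IsLocalization.surj p.primeCompl a
      simp only at hrs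
      have hr : r ∈ p := by
        rw [← IsLocalization.AtPrime.to_map_mem_maximal_iff Ap p r, ← hrs]
        exact Ideal.mul_mem_right _ _ ha
      have h1 : (s : A) • (a • g k) = 0 := by
        rw [← algebraMap_smul Ap (s : A), smul_smul, mul_comm, hrs, algebraMap_smul, ← map_smul,
          (hann r).2 hr, map_zero]
      have h2 : a • g k = 0 := by
        have := IsLocalizedModule.smul_injective g s (a₁ := a • g k) (a₂ := 0)
        apply this
        simp only [smul_zero]
        exact h1
      apply hgk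
      apply hreg
      simp only [smul_zero]
      exact h2

include p hcomm in
theorem injective_loc (hψ : Function.Injective ψ) : Function.Injective φp := by
  rw [injective_iff_map_eq_zero]
  intro l hl
  obtain ⟨⟨n, s⟩, hns⟩ := IsLocalizedModule.surj p.primeCompl g l
  simp only at hns
  have h1 : g' (ψ n) = 0 := by
    rw [← hcomm, ← hns, LinearMap.map_smul_of_tower, hl, smul_zero]
  rw [IsLocalizedModule.eq_zero_iff p.primeCompl] at h1
  obtain ⟨t, ht⟩ := h1
  have h2 : t • n = 0 := by
    apply hψ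
    rw [map_zero, ← ht]
    exact map_smul ψ (t : A) n
  have h3 : g n = 0 := by
    rw [IsLocalizedModule.eq_zero_iff p.primeCompl]
    exact ⟨t, h2⟩
  rw [h3] at hns
  have := IsLocalizedModule.smul_injective g s (a₁ := l) (a₂ := 0)
  apply this
  simp only [smul_zero]
  exact hns

include hcomm in
/-- surjectivity step -/
theorem surj_step [Module.Finite Ap L] (hφ : Function.Injective φp) (n' : N')
    (hann : ∀ r : A, (∃ n, ψ n = r • n') ↔ r ∈ p)
    (h : Function.Surjective φp ∨
      ((2 : ℕ∞) ≤ LocCoh.depth Ap L ∧ ¬ IsAssociatedPrime (maximalIdeal Ap) L')) : False := by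
  -- the class of `n'` is not in the image
  have h0 : ∀ l : L, φp l ≠ g' n' := by
    intro l hl
    obtain ⟨⟨n, s⟩, hns⟩ := IsLocalizedModule.surj p.primeCompl g l
    simp only at hns
    have h1 : g' ((s : A) • n' - ψ n) = 0 := by
      rw [map_sub, map_smul, ← hl, ← hcomm, ← hns, LinearMap.map_smul_of_tower]
      exact sub_self _
    rw [IsLocalizedModule.eq_zero_iff p.primeCompl] at h1
    obtain ⟨t, ht⟩ := h1
    have h2 : ((t : A) * (s : A)) ∈ p := by
      rw [← hann]
      refine ⟨(t : A) • n, ?_⟩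
      rw [map_smul, mul_smul]
      have : (t : A) • ((s : A) • n' - ψ n) = 0 := ht
      rw [smul_sub, sub_eq_zero] at this
      exact this.symm
    rcases (inferInstance : p.IsPrime).mem_or_mem h2 with h3 | h3
    · exact t.2 h3
    · exact s.2 h3
  -- the maximal ideal maps it into the image
  have hm : ∀ z ∈ maximalIdeal Ap, ∃ l : L, φp l = z • g' n' := by
    intro z hz
    obtain ⟨⟨r, s⟩, hrs⟩ := IsLocalization.surj p.primeCompl z
    simp only at hrs
    have hr : r ∈ p := by
      rw [← IsLocalization.AtPrime.to_map_mem_maximal_iff Ap p r, ← hrs]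
      exact Ideal.mul_mem_right _ _ hz
    obtain ⟨n, hn⟩ := (hann r).2 hr
    obtain ⟨u, hu⟩ := IsLocalization.map_units Ap s
    refine ⟨(↑u⁻¹ : Ap) • g n, ?_⟩
    rw [map_smul, hcomm, hn, map_smul, ← algebraMap_smul Ap r (g' n'), ← hrs, mul_comm, ← hu,
      ← smul_smul, smul_smul (↑u⁻¹ : Ap), Units.inv_mul, one_smul]
  rcases h with h | ⟨hd, hass⟩
  · obtain ⟨l, hl⟩ := h (g' n')
    exact h0 l hl
  · apply hass
    -- produce an element with annihilator the maximal ideal
    have key : ∃ h' : L', h' ≠ 0 ∧ ∀ z ∈ maximalIdeal Ap, z • h' = 0 := by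
      rw [two_le_depth_iff] at hd
      rcases hd with hs | ⟨a, ha, b, hb, hra, hrb⟩
      · refine ⟨g' n', ?_, ?_⟩
        · intro h1
          exact h0 0 (by rw [map_zero, h1])
        · intro z hz
          obtain ⟨l, hl⟩ := hm z hz
          rw [← hl, Subsingleton.elim l 0, map_zero]
      · obtain ⟨ua, hua⟩ := hm a ha
        obtain ⟨ub, hub⟩ := hm b hb
        have h1 : b • ua = a • ub := by
          apply hφ
          rw [map_smul, map_smul, hua, hub, smul_smul, smul_smul, mul_comm]
        -- `b` regular modulo `a`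
        have h2 : ∃ u' : L, ua = a • u' := by
          have hmem : b • (Submodule.Quotient.mk ua : QuotSMulTop a L) = b • (0 : QuotSMulTop a L) := by
            rw [smul_zero, ← Submodule.Quotient.mk_smul, h1]
            rw [Submodule.Quotient.mk_eq_zero]
            exact Submodule.smul_mem_pointwise_smul _ _ _ Submodule.mem_top
          have := hrb hmem
          rw [Submodule.Quotient.mk_eq_zero] at this
          obtain ⟨u', -, hu'⟩ := this
          exact ⟨u', hu'.symm⟩
        obtain ⟨u', hu'⟩ := h2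
        refine ⟨g' n' - φp u', ?_, ?_⟩
        · intro h3
          exact h0 u' (sub_eq_zero.1 h3).symm
        · intro z hz
          obtain ⟨w, hw⟩ := hm z hz
          have h4 : a • (g' n' - φp u') = 0 := by
            rw [smul_sub, ← hua, ← map_smul, ← hu', sub_self]
          have h5 : φp (w - z • u') = z • (g' n' - φp u') := by
            rw [map_sub, map_smul, hw, smul_sub]
          have h6 : a • (w - z • u') = 0 := by
            apply hφ
            rw [map_smul, h5, smul_comm, h4, smul_zero, map_zero]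
          have h7 : w - z • u' = 0 := by
            apply hra
            simp only [smul_zero]
            exact h6
          rw [← h5, h7, map_zero]
    obtain ⟨h', hne, hz⟩ := key
    refine ⟨inferInstance, h', ?_⟩
    have hcol : (⊥ : Submodule Ap L').colon {h'} = maximalIdeal Ap := by
      apply le_antisymm
      · apply IsLocalRing.le_maximalIdeal
        intro htop
        have : (1 : Ap) ∈ (⊥ : Submodule Ap L').colon {h'} := by rw [htop]; trivial
        rw [Submodule.mem_colon_singleton, one_smul] at this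
        exact hne this
      · intro z hz'
        rw [Submodule.mem_colon_singleton]
        exact hz z hz'
    rw [hcol, Ideal.IsPrime.radical inferInstance]


include p hcomm in
theorem surjective_loc (hψ : Function.Surjective ψ) : Function.Surjective φp := by
  intro l'
  obtain ⟨⟨n', s⟩, hns⟩ := IsLocalizedModule.surj p.primeCompl g' l'
  simp only at hns
  obtain ⟨n, rfl⟩ := hψ n'
  obtain ⟨u, hu⟩ := IsLocalization.map_units Ap s
  refine ⟨(↑u⁻¹ : Ap) • g n, ?_⟩
  rw [map_smul, hcomm, ← hns]
  have : (s • l' : L') = (algebraMap A Ap s) • l' := by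
    rw [algebraMap_smul]; rfl
  rw [this, ← hu, smul_smul, Units.inv_mul, one_smul]

end CA

section stalkmap
variable {X : Scheme.{u}} {F G : X.Modules} (φ : F ⟶ G) (x : X)

/-- the stalk map of a morphism of modules -/
noncomputable abbrev stalkMapAb : F.presheaf.stalk x ⟶ G.presheaf.stalk x :=
  (TopCat.Presheaf.stalkFunctor AddCommGrpCat.{u} x).map (Scheme.Modules.Hom.mapPresheaf φ)

lemma stalkMapAb_germ (U : X.Opens) (hx : x ∈ U) (s : Γ(F, U)) :
    stalkMapAb φ x (F.presheaf.germ U x hx s) = G.presheaf.germ U x hx (φ.app U s) := by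
  exact TopCat.Presheaf.stalkFunctor_map_germ_apply U x hx (Scheme.Modules.Hom.mapPresheaf φ) s

lemma stalkMapAb_smul (a : X.presheaf.stalk x) (l : F.presheaf.stalk x) :
    stalkMapAb φ x (a • l) = a • stalkMapAb φ x l := by
  obtain ⟨U, hxU, r, rfl⟩ := TopCat.Presheaf.exists_germ_eq X.presheaf a
  obtain ⟨W, hxW, s, rfl⟩ := TopCat.Presheaf.exists_germ_eq F.presheaf l
  have hxT : x ∈ U ⊓ W := ⟨hxU, hxW⟩
  have e1 : X.presheaf.germ U x hxU r = X.presheaf.germ (U ⊓ W) x hxT
      (X.presheaf.map (homOfLE (inf_le_left : U ⊓ W ≤ U)).op r) :=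
    (TopCat.Presheaf.germ_res_apply X.presheaf (homOfLE (inf_le_left : U ⊓ W ≤ U)) x hxT r).symm
  have e2 : F.presheaf.germ W x hxW s = F.presheaf.germ (U ⊓ W) x hxT
      (F.presheaf.map (homOfLE (inf_le_right : U ⊓ W ≤ W)).op s) :=
    (TopCat.Presheaf.germ_res_apply F.presheaf (homOfLE (inf_le_right : U ⊓ W ≤ W)) x hxT s).symm
  rw [e1, e2, ← Groth.Agent.Lead.SD.germ_smul, stalkMapAb_germ, stalkMapAb_germ,
    Scheme.Modules.Hom.app_smul, Groth.Agent.Lead.SD.germ_smul]

/-- the stalk map as a linear map over the local ring -/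
noncomputable def stalkMapₗ : F.presheaf.stalk x →ₗ[X.presheaf.stalk x] G.presheaf.stalk x where
  toFun := stalkMapAb φ x
  map_add' a b := map_add _ a b
  map_smul' a l := stalkMapAb_smul φ x a l

end stalkmap

attribute [local instance] Groth.Agent.Lead.SD.stalkModule

section aff
variable {X : Scheme.{u}} [IsLocallyNoetherian X] {F G : X.Modules} (φ : F ⟶ G)
  (hF : Coh.IsCoh F) (hG : Coh.IsQCoh G)
  (h : ∀ x : X, Function.Bijective (stalkMapAb φ x) ∨
      ((2 : ℕ∞) ≤ LocCoh.depth (X.presheaf.stalk x) (F.presheaf.stalk x) ∧ ¬ Curv2.IsAssPoint G x))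
  {V : X.Opens} (hV : IsAffineOpen V)

/-- the map on sections as a linear map -/
noncomputable def appₗ (V : X.Opens) : Γ(F, V) →ₗ[Γ(X, V)] Γ(G, V) where
  toFun := φ.app V
  map_add' a b := map_add _ a b
  map_smul' r s := Scheme.Modules.Hom.app_smul φ r s

lemma hcomm (x : V) (n : Γ(F, V)) :
    stalkMapₗ φ x.1 (Groth.Agent.Lead.SD.germₗ F x n) = Groth.Agent.Lead.SD.germₗ G x (appₗ φ V n) :=
  stalkMapAb_germ φ x.1 V x.2 n

include hF hG h hV in
theorem app_injective : Function.Injective (appₗ φ V) := by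
  haveI : IsNoetherianRing Γ(X, V) := IsLocallyNoetherian.component_noetherian ⟨V, hV⟩
  haveI : F.IsQuasicoherent := hF.1
  haveI : G.IsQuasicoherent := hG
  rw [← LinearMap.ker_eq_bot, Submodule.eq_bot_iff]
  by_contra hcon
  push Not at hcon
  obtain ⟨k, hk, hk0⟩ := hcon
  obtain ⟨P, hP, -⟩ := exists_le_isAssociatedPrime_of_isNoetherianRing Γ(X, V)
    (M := LinearMap.ker (appₗ φ V)) ⟨k, hk⟩ (by
      intro h0; exact hk0 (congrArg Subtype.val h0))
  rw [isAssociatedPrime_iff] at hP
  obtain ⟨hPprime, y, hy⟩ := hP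
  obtain ⟨x, hx⟩ : ∃ x : V, x = ⟨hV.fromSpec ⟨P, hPprime⟩, Groth.Agent.Lead.SD.fromSpec_mem hV _⟩ := ⟨_, rfl⟩
  have hxp : hV.primeIdealOf x = ⟨P, hPprime⟩ := by
    rw [hx]; exact Groth.Agent.Lead.SD.primeIdealOf_fromSpec hV _
  have hPeq : (hV.primeIdealOf x).asIdeal = P := congrArg PrimeSpectrum.asIdeal hxp
  haveI := Groth.Agent.Lead.SD.isLocalizedModule_germ F hV x
  haveI := Groth.Agent.Lead.SD.isLocalizedModule_germ G hV x
  haveI := hV.isLocalization_stalk x
  haveI : Module.Finite (X.presheaf.stalk x.1) (F.presheaf.stalk x.1) :=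
    Groth.Agent.Helper7.FinType.stalk_finite_of_isCoh F hF x.1
  refine inj_step (hV.primeIdealOf x).asIdeal (Groth.Agent.Lead.SD.germₗ F x)
    (Groth.Agent.Lead.SD.germₗ G x) (appₗ φ V) (stalkMapₗ φ x.1) (hcomm φ x) y.1 y.2 ?_ ?_
  · intro r
    rw [hPeq, hy, Submodule.mem_colon_singleton, Submodule.mem_bot]
    constructor
    · intro h1; exact Subtype.ext h1
    · intro h1; exact congrArg Subtype.val h1
  · rcases h x.1 with h1 | h1
    · exact Or.inl h1.1
    · right
      exact le_trans (by norm_num) h1.1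

include hF hG h hV in
theorem app_surjective : Function.Surjective (appₗ φ V) := by
  haveI : IsNoetherianRing Γ(X, V) := IsLocallyNoetherian.component_noetherian ⟨V, hV⟩
  haveI : F.IsQuasicoherent := hF.1
  haveI : G.IsQuasicoherent := hG
  have hinj := app_injective φ hF hG h hV
  rw [← LinearMap.range_eq_top, ← Submodule.Quotient.subsingleton_iff]
  by_contra hcon
  rw [not_subsingleton_iff_nontrivial] at hcon
  obtain ⟨q, hq⟩ := exists_ne (0 : Γ(G, V) ⧸ LinearMap.range (appₗ φ V))
  obtain ⟨P, hP, -⟩ := exists_le_isAssociatedPrime_of_isNoetherianRing Γ(X, V) q hq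
  rw [isAssociatedPrime_iff] at hP
  obtain ⟨hPprime, y, hy⟩ := hP
  obtain ⟨n', rfl⟩ := Submodule.Quotient.mk_surjective _ y
  obtain ⟨x, hx⟩ : ∃ x : V, x = ⟨hV.fromSpec ⟨P, hPprime⟩, Groth.Agent.Lead.SD.fromSpec_mem hV _⟩ := ⟨_, rfl⟩
  have hxp : hV.primeIdealOf x = ⟨P, hPprime⟩ := by
    rw [hx]; exact Groth.Agent.Lead.SD.primeIdealOf_fromSpec hV _
  have hPeq : (hV.primeIdealOf x).asIdeal = P := congrArg PrimeSpectrum.asIdeal hxp
  haveI := Groth.Agent.Lead.SD.isLocalizedModule_germ F hV x
  haveI := Groth.Agent.Lead.SD.isLocalizedModule_germ G hV x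
  haveI := hV.isLocalization_stalk x
  haveI : Module.Finite (X.presheaf.stalk x.1) (F.presheaf.stalk x.1) :=
    Groth.Agent.Helper7.FinType.stalk_finite_of_isCoh F hF x.1
  have hφinj : Function.Injective (stalkMapₗ φ x.1) :=
    injective_loc (hV.primeIdealOf x).asIdeal (Groth.Agent.Lead.SD.germₗ F x)
      (Groth.Agent.Lead.SD.germₗ G x) (appₗ φ V) (stalkMapₗ φ x.1) (hcomm φ x) hinj
  refine surj_step (hV.primeIdealOf x).asIdeal (Groth.Agent.Lead.SD.germₗ F x)
    (Groth.Agent.Lead.SD.germₗ G x) (appₗ φ V) (stalkMapₗ φ x.1) (hcomm φ x) hφinj n' ?_ ?_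
  · intro r
    rw [hPeq, hy, Submodule.mem_colon_singleton, Submodule.mem_bot, ← Submodule.Quotient.mk_smul,
      Submodule.Quotient.mk_eq_zero, LinearMap.mem_range]
  · rcases h x.1 with h1 | h1
    · exact Or.inl h1.2
    · exact Or.inr h1

end aff

section final
variable {X : Scheme.{u}} [IsLocallyNoetherian X] {F G : X.Modules} (φ : F ⟶ G)

theorem S8890_main (hF : Coh.IsCoh F) (hG : Coh.IsQCoh G)
    (h : ∀ x : ↥X, Function.Bijective ((TopCat.Presheaf.stalkFunctor AddCommGrpCat.{u} x).map (Scheme.Modules.Hom.mapPresheaf φ)) ∨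
      ((2 : ℕ∞) ≤ LocCoh.depth (X.presheaf.stalk x) (F.presheaf.stalk x) ∧ ¬ Curv2.IsAssPoint G x)) :
    IsIso φ := by
  haveI : F.IsQuasicoherent := hF.1
  haveI : G.IsQuasicoherent := hG
  have hst : ∀ x : X, Function.Bijective (stalkMapAb φ x) := by
    intro x
    obtain ⟨V, hV, hxV, -⟩ := exists_isAffineOpen_mem_and_subset (x := x) (U := ⊤) trivial
    have hi := app_injective φ hF hG h hV
    have hs := app_surjective φ hF hG h hV
    obtain ⟨x', hx'⟩ : ∃ x' : V, x' = ⟨x, hxV⟩ := ⟨_, rfl⟩
    haveI := Groth.Agent.Lead.SD.isLocalizedModule_germ F hV x'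
    haveI := Groth.Agent.Lead.SD.isLocalizedModule_germ G hV x'
    haveI := hV.isLocalization_stalk x'
    have h1 : Function.Injective (stalkMapₗ φ x'.1) :=
      injective_loc (hV.primeIdealOf x').asIdeal (Groth.Agent.Lead.SD.germₗ F x')
        (Groth.Agent.Lead.SD.germₗ G x') (appₗ φ V) (stalkMapₗ φ x'.1) (hcomm φ x') hi
    have h2 : Function.Surjective (stalkMapₗ φ x'.1) :=
      surjective_loc (hV.primeIdealOf x').asIdeal (Groth.Agent.Lead.SD.germₗ F x')
        (Groth.Agent.Lead.SD.germₗ G x') (appₗ φ V) (stalkMapₗ φ x'.1) (hcomm φ x') hs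
    subst hx'
    exact ⟨h1, h2⟩
  have happ : ∀ U : (Opens X)ᵒᵖ, IsIso ((Scheme.Modules.Hom.mapPresheaf φ).app U) := by
    intro U
    rw [ConcreteCategory.isIso_iff_bijective]
    exact TopCat.Presheaf.app_bijective_of_stalkFunctor_map_bijective
      (F := ⟨F.presheaf, F.isSheaf⟩) (G := ⟨G.presheaf, G.isSheaf⟩) ⟨Scheme.Modules.Hom.mapPresheaf φ⟩
      U.unop (fun x _ => hst x)
  haveI : IsIso ((Scheme.Modules.toPresheaf X).map φ) := by
    show IsIso (Scheme.Modules.Hom.mapPresheaf φ)
    exact NatIso.isIso_of_isIso_app _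
  exact isIso_of_reflects_iso φ (Scheme.Modules.toPresheaf X)

end final

theorem not_isAssPoint_of_ne_genericPoint {X : Scheme.{u}} [IsIntegral X] (G : X.Modules) (x : X)
    (htf : NoZeroSMulDivisors ↑(X.presheaf.stalk x) ↑(G.presheaf.stalk x))
    (hx : x ≠ genericPoint ↥X) : ¬ Curv2.IsAssPoint G x := by
  intro hass
  have hm : maximalIdeal (X.presheaf.stalk x) ≠ ⊥ := by
    intro h0
    have hfield : IsField (X.presheaf.stalk x) := IsLocalRing.isField_iff_maximalIdeal_eq.2 h0
    have hdim : ringKrullDim (X.presheaf.stalk x) = 0 := ringKrullDim_eq_zero_of_isField hfield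
    rw [ringKrullDim_stalk_eq_coheight] at hdim
    have hco : Order.coheight x = 0 := by exact_mod_cast hdim
    rw [Order.coheight_eq_zero] at hco
    have h1 : x ≤ genericPoint X := genericPoint_specializes x
    have h2 : genericPoint X ≤ x := hco h1
    exact hx (Specializes.antisymm h1 h2).eq.symm
  obtain ⟨a, ha, ha0⟩ := Submodule.exists_mem_ne_zero_of_ne_bot hm
  obtain ⟨hprime, g, hg⟩ := hass
  have ha' : a ∈ ((⊥ : Submodule (X.presheaf.stalk x) (G.presheaf.stalk x)).colon {g}).radical := by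
    rw [← hg]; exact ha
  obtain ⟨n, hn⟩ := ha'
  rw [Submodule.mem_colon_singleton, Submodule.mem_bot] at hn
  have hg0 : g = 0 := by
    rcases smul_eq_zero.1 hn with h1 | h1
    · exact absurd (pow_eq_zero_iff (n := n) (by
        intro hn0; subst hn0; simp at h1) |>.1 h1) ha0
    · exact h1
  apply hprime.ne_top
  rw [hg, hg0]
  rw [Ideal.radical_eq_top]
  rw [eq_top_iff]
  intro r _
  rw [Submodule.mem_colon_singleton, smul_zero]
  exact Submodule.zero_mem _

theorem S8891_main (X : Scheme.{u}) [IsIntegral X] [IsLocallyNoetherian X] {F G : X.Modules}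
    (φ : F ⟶ G) (hF : Coh.IsCoh F) (hG : Coh.IsQCoh G)
    (htf : ∀ x : ↥X, NoZeroSMulDivisors ↑(X.presheaf.stalk x) ↑(G.presheaf.stalk x))
    (h : ∀ x : ↥X, Function.Bijective ((TopCat.Presheaf.stalkFunctor AddCommGrpCat.{u} x).map (Scheme.Modules.Hom.mapPresheaf φ)) ∨
      ((2 : ℕ∞) ≤ LocCoh.depth (X.presheaf.stalk x) (F.presheaf.stalk x) ∧ x ≠ genericPoint ↥X)) :
    IsIso φ := by
  apply S8890_main φ hF hG
  intro x
  rcases h x with h1 | h1
  · exact Or.inl h1
  · exact Or.inr ⟨h1.1, not_isAssPoint_of_ne_genericPoint G x (htf x) h1.2⟩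

end Groth.Agent.Lib.Helper4.CohIso1
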