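import Mathlib
import Groth.Prelude.Def_ega3
import Groth.Prelude.Def_FlatMod2
import Groth.Agent.Lib.Helper1.RpushLoc1
import Groth.Agent.Lib.Helper4.CohIso1
import Groth.Agent.Lib.Lead.FB1

/-!
# The chart square of a morphism over an affine open of the base; flatness over the base restricts to charts (helper4)
-/

set_option backward.isDefEq.respectTransparency.types false
set_option synthInstance.maxHeartbeats 400000
set_option autoImplicit false
set_option linter.unusedSectionVars false
set_option linter.style.haveILetI false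
set_option linter.unusedSimpArgs false
universe u v w
open CategoryTheory
open CategoryTheory.Limits
open AlgebraicGeometry
open TopologicalSpace
open Opposite
open Groth.Agent.Helper1.RpushLoc
open Groth.Agent.Lib.Helper4.CohIso1

namespace Groth.Agent.Lib.Helper4.ChartSq1

section Iso
variable {X S : Scheme.{u}} (f : X ⟶ S) {M N : X.Modules} (e : M ≅ N) (x : X)

theorem stalkMapAb_inv_hom (l : M.presheaf.stalk x) :
    stalkMapAb e.inv x (stalkMapAb e.hom x l) = l := by
  have h := ((Scheme.Modules.toPresheaf X ⋙
    TopCat.Presheaf.stalkFunctor AddCommGrpCat.{u} x).mapIso e).hom_inv_id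
  exact ConcreteCategory.congr_hom h l

include e in
/-- flatness over the base is invariant under isomorphisms of modules -/
theorem isFlatOverAt_of_iso (h : FlatMod.IsFlatOverAt f M x) : FlatMod.IsFlatOverAt f N x := by
  unfold FlatMod.IsFlatOverAt at h ⊢
  letI := FlatMod.moduleStalkOver f M x
  letI := FlatMod.moduleStalkOver f N x
  let E : M.presheaf.stalk x ≃ₗ[S.presheaf.stalk (f.base x)] N.presheaf.stalk x :=
    { toFun := stalkMapAb e.hom x
      invFun := stalkMapAb e.inv x
      map_add' := fun a b => map_add _ a b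
      map_smul' := fun a l => stalkMapAb_smul e.hom x ((f.stalkMap x).hom a) l
      left_inv := fun l => stalkMapAb_inv_hom e x l
      right_inv := fun l => stalkMapAb_inv_hom e.symm x l }
  exact Module.Flat.of_linearEquiv E.symm

end Iso

variable {X S : Scheme.{u}} (f : X ⟶ S) {V : S.Opens} (hV : IsAffineOpen V)

/-- the chart square -/
theorem isPullback_chart :
    IsPullback (f ⁻¹ᵁ V).ι (strMap f hV) f hV.fromSpec := by
  have h1 : IsPullback (𝟙 (↑(f ⁻¹ᵁ V) : Scheme.{u})) (strMap f hV) (f ∣_ V) hV.isoSpec.inv :=
    IsPullback.of_horiz_isIso ⟨by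
      unfold strMap
      rw [Category.assoc, Iso.hom_inv_id, Category.comp_id, Category.id_comp]⟩
  have h2 : IsPullback (f ⁻¹ᵁ V).ι (f ∣_ V) f V.ι := (isPullback_morphismRestrict f V).flip
  have h3 := h1.paste_horiz h2
  rw [Category.id_comp] at h3
  exact h3

theorem isFlatOver_restrict (F : X.Modules) [F.IsQuasicoherent] (hfl : FlatMod.IsFlatOver f F) :
    FlatMod.IsFlatOver (strMap f hV) (F.restrict (f ⁻¹ᵁ V).ι) := by
  intro x'
  have h := Groth.Agent.Lead.FB.flat_baseChange (isPullback_chart f hV) F x' (hfl _)
  exact isFlatOverAt_of_iso (strMap f hV)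
    ((Scheme.Modules.restrictFunctorIsoPullback (f ⁻¹ᵁ V).ι).symm.app F) x' h

end Groth.Agent.Lib.Helper4.ChartSq1
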