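import Mathlib
import Groth.Agent.Lib.Helper1.TwistExt2
import Groth.Agent.Lib.Helper1.AmpleLib1
import Groth.Agent.Lib.Helper1.AmpleLib2
import Groth.Agent.Lib.Helper1.TensGen
import Groth.Agent.Lib.Helper1.SecOps
import Groth.Agent.Lib.Helper1.InvQc
import Groth.Agent.Lib.Helper4.KosC3
import Groth.Agent.Lib.Lead.TilT5

/-!
# flatness of sections over the locus of a section from flatness of global sections of high twists (helper4)
-/

set_option backward.isDefEq.respectTransparency.types false
set_option synthInstance.maxHeartbeats 400000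
set_option autoImplicit false
set_option linter.unusedSectionVars false
set_option linter.style.haveILetI false
set_option linter.unusedSimpArgs false
universe u v w
open CategoryTheory
open CategoryTheory.Limits
open AlgebraicGeometry
open TopologicalSpace
open Opposite
open Groth.Agent.Helper1
open Groth.Agent.Helper1.QcCech
open Groth.Agent.Helper1.LGen
open Groth.Agent.Helper1.TensGen
open Groth.Agent.Helper1.TmulLib
open Groth.Agent.Helper1.TwistSec
open Groth.Agent.Helper1.AmpleLib
open Groth.Agent.Helper1.TwForm

namespace Groth.Agent.Lib.Helper4.FlatTw1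

variable {Z : Scheme.{u}} {A : Type u} [CommRing A] (ψ : A →+* Γ(Z, ⊤))

/-- sections over an open as a module over a base ring mapping to the global functions -/
noncomputable abbrev modA (G : Z.Modules) (O : Z.Opens) : Module A Γ(G, O) :=
  Module.compHom _ ((resR (le_top : O ≤ ⊤)).comp ψ)

theorem modA_smul (G : Z.Modules) (O : Z.Opens) (a : A) (m : Γ(G, O)) :
    letI := modA ψ G O
    a • m = resR (le_top : O ≤ ⊤) (ψ a) • m := rfl

theorem resR_self' {O : Z.Opens} (h : O ≤ O) (r : Γ(Z, O)) : resR h r = r := by
  have : (homOfLE h).op = 𝟙 _ := Subsingleton.elim _ _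
  change (Z.presheaf.map (homOfLE h).op).hom r = r
  rw [this, CategoryTheory.Functor.map_id]
  rfl

/-- restriction is linear over the base ring -/
theorem res_smulA (G : Z.Modules) {O O' : Z.Opens} (h : O' ≤ O) (a : A) (m : Γ(G, O)) :
    res G h (letI := modA ψ G O; a • m) = (letI := modA ψ G O'; a • res G h m) := by
  rw [modA_smul, modA_smul, res_smul, resR_resR]

/-- the twist is linear over functions -/
theorem twist_smul {L : Z.Modules} (s : Coh.structureModule Z ⟶ L) (n : ℕ) (F : Z.Modules)
    (U : Z.Opens) (r : Γ(Z, U)) (t : Γ(F, U)) :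
    SecTwist.twist s n F U (r • t) = r • SecTwist.twist s n F U t := by
  rw [twist_eq, twist_eq, tm_smul_left]
  rfl

theorem twist_add {L : Z.Modules} (s : Coh.structureModule Z ⟶ L) (n : ℕ) (F : Z.Modules)
    (U : Z.Opens) (t t' : Γ(F, U)) :
    SecTwist.twist s n F U (t + t') = SecTwist.twist s n F U t + SecTwist.twist s n F U t' := by
  rw [twist_eq, twist_eq, twist_eq, tm_add_left]
  rfl

/-- the twist as an additive map -/
noncomputable def twistHom {L : Z.Modules} (s : Coh.structureModule Z ⟶ L) (n : ℕ) (F : Z.Modules)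
    (U : Z.Opens) : Γ(F, U) →+ Γ(CohB1.tensorMod F (CohB1.tensorPow L n), U) where
  toFun := SecTwist.twist s n F U
  map_zero' := by
    have := twist_add s n F U 0 0
    rw [add_zero] at this
    exact left_eq_add.mp this
  map_add' := twist_add s n F U

theorem twist_smulA {L : Z.Modules} (s : Coh.structureModule Z ⟶ L) (n : ℕ) (F : Z.Modules)
    (U : Z.Opens) (a : A) (t : Γ(F, U)) :
    SecTwist.twist s n F U (letI := modA ψ F U; a • t) =
      (letI := modA ψ (CohB1.tensorMod F (CohB1.tensorPow L n)) U;
        a • (show Γ(CohB1.tensorMod F (CohB1.tensorPow L n), U) from SecTwist.twist s n F U t)) := by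
  rw [modA_smul, modA_smul, twist_smul]
  rfl

theorem twist_bijective {L : Z.Modules} (s : Coh.structureModule Z ⟶ L) (n : ℕ) (F : Z.Modules)
    {U : Z.Opens} (hU : U ≤ CohB1.genLocus L s) :
    Function.Bijective (SecTwist.twist s n F U) := by
  have h := bijective_tm_of_isGen F (isGen_gpow (isGen_secVal s hU) n)
  have : SecTwist.twist s n F U = fun m => tm F (CohB1.tensorPow L n) U m (gpow (secVal s U) n) := by
    funext t
    exact twist_eq s n F U t
  rw [this]
  exact h


/-- global sections of isomorphic modules are linearly equivalent over the base ring -/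
noncomputable def secEquivOfIso {G G' : Z.Modules} (e : G ≅ G') (O : Z.Opens) :
    letI := modA ψ G O
    letI := modA ψ G' O
    Γ(G, O) ≃ₗ[A] Γ(G', O) :=
  letI := modA ψ G O
  letI := modA ψ G' O
  { toFun := fun m => e.hom.app O m
    invFun := fun m => e.inv.app O m
    map_add' := fun a b => map_add (e.hom.app O).hom a b
    map_smul' := fun a m => by
      simp only [RingHom.id_apply]
      rw [modA_smul, modA_smul]
      exact Scheme.Modules.Hom.app_smul e.hom _ m
    left_inv := fun m => by
      have := congrArg (fun φ => Scheme.Modules.Hom.app φ O m) e.hom_inv_id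
      exact this
    right_inv := fun m => by
      have := congrArg (fun φ => Scheme.Modules.Hom.app φ O m) e.inv_hom_id
      exact this }


variable [CompactSpace Z] [QuasiSeparatedSpace Z]

/-- **flatness of sections over `Z_s`** from flatness of the global sections of the high twists -/
theorem flat_sections_genLocus {L : Z.Modules} (hL : PicF.IsInvertible L)
    (s : Coh.structureModule Z ⟶ L) (F : Z.Modules) [F.IsQuasicoherent] (n₀ : ℕ)
    (hflat : ∀ n, n₀ ≤ n →
      @Module.Flat A Γ(CohB1.tensorMod F (CohB1.tensorPow L n), ⊤) _ _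
        (modA ψ (CohB1.tensorMod F (CohB1.tensorPow L n)) ⊤)) :
    @Module.Flat A Γ(F, CohB1.genLocus L s) _ _ (modA ψ F (CohB1.genLocus L s)) := by
  classical
  letI mP := modA ψ F (CohB1.genLocus L s)
  rw [Module.Flat.iff_forall_isTrivialRelation]
  intro l a x hax
  -- Step 1: extend the `x i` after twisting
  have h1 : ∀ i : Fin l, ∃ N : ℕ, ∀ n, N ≤ n →
      ∃ t' : Γ(CohB1.tensorMod F (CohB1.tensorPow L n), ⊤),
        res (CohB1.tensorMod F (CohB1.tensorPow L n)) (le_top : CohB1.genLocus L s ≤ ⊤) t' =
          SecTwist.twist s n F (CohB1.genLocus L s) (x i) :=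
    fun i => exists_twist_extends_ge hL s F (x i)
  choose N hN using h1
  let n := max n₀ (Finset.univ.sup N)
  have hn : ∀ i, N i ≤ n := fun i =>
    (Finset.le_sup (f := N) (Finset.mem_univ i)).trans (le_max_right _ _)
  have hn₀ : n₀ ≤ n := le_max_left _ _
  choose x' hx' using fun i => hN i n (hn i)
  -- Step 2: the relation holds after restriction
  let G := CohB1.tensorMod F (CohB1.tensorPow L n)
  haveI : (CohB1.tensorPow L n).IsQuasicoherent :=
    InvQc.isQuasicoherent_of_isInvertible _ (isInvertible_tensorPow hL n)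
  haveI : G.IsQuasicoherent := Groth.Agent.Lead.TilT.isQuasicoherent_tensorMod _ _
  letI mG := modA ψ G ⊤
  letI mGU := modA ψ G (CohB1.genLocus L s)
  let t : Γ(G, ⊤) := ∑ i, a i • x' i
  have ht : res G (le_top : CohB1.genLocus L s ≤ ⊤) t = 0 := by
    have e1 : res G (le_top : CohB1.genLocus L s ≤ ⊤) t =
        ∑ i, a i • twistHom s n F (CohB1.genLocus L s) (x i) := by
      change res G _ (∑ i, a i • x' i) = _
      rw [map_sum]
      refine Finset.sum_congr rfl (fun i _ => ?_)
      rw [res_smulA ψ G, hx']
      rfl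
    have e2 : ∑ i, a i • twistHom s n F (CohB1.genLocus L s) (x i) =
        twistHom s n F (CohB1.genLocus L s) (∑ i, a i • x i) := by
      rw [map_sum]
      refine Finset.sum_congr rfl (fun i _ => ?_)
      exact (twist_smulA ψ s n F _ (a i) (x i)).symm
    rw [e1, e2, hax, map_zero]
  -- Step 3: kill the relation by a further twist
  obtain ⟨m, hm, htm⟩ := exists_twist_eq_zero hL s G t ht
  -- Step 4: the doubly twisted module has flat global sections
  let G' := CohB1.tensorMod G (CohB1.tensorPow L m)
  let e : G' ≅ CohB1.tensorMod F (CohB1.tensorPow L (n + m)) :=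
    Groth.Agent.Lib.Helper4.KosC3.assocIso (isInvertible_tensorPow hL n)
      (isInvertible_tensorPow hL m) (SecOps.mulIso hL n m) F
  letI mG' := modA ψ G' ⊤
  letI mG'U := modA ψ G' (CohB1.genLocus L s)
  haveI hfl' : Module.Flat A Γ(G', ⊤) := by
    letI := modA ψ (CohB1.tensorMod F (CohB1.tensorPow L (n + m))) ⊤
    haveI := hflat (n + m) (by omega)
    exact Module.Flat.of_linearEquiv (secEquivOfIso ψ e ⊤)
  -- Step 5: the twisted relation is trivial
  have hrel : ∑ i, a i • twistHom s m G ⊤ (x' i) = 0 := by
    have e3 : ∑ i, a i • twistHom s m G ⊤ (x' i) = twistHom s m G ⊤ (∑ i, a i • x' i) := by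
      rw [map_sum]
      refine Finset.sum_congr rfl (fun i _ => ?_)
      exact (twist_smulA ψ s m G _ (a i) (x' i)).symm
    rw [e3]
    exact htm
  obtain ⟨k, c, y, hxy, hcy⟩ := Module.Flat.isTrivialRelation_of_sum_smul_eq_zero hrel
  -- Step 6: divide by the power of `s` on `Z_s`
  have hb1 := twist_bijective s n F (le_refl (CohB1.genLocus L s))
  have hb2 := twist_bijective s m G (le_refl (CohB1.genLocus L s))
  have hb : Function.Bijective (fun w : Γ(F, CohB1.genLocus L s) =>
      twistHom s m G (CohB1.genLocus L s) (twistHom s n F (CohB1.genLocus L s) w)) :=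
    hb2.comp hb1
  choose y' hy' using fun j => hb.2 (res G' (le_top : CohB1.genLocus L s ≤ ⊤) (y j))
  refine ⟨k, c, y', fun i => ?_, hcy⟩
  apply hb.1
  change twistHom s m G _ (twistHom s n F _ (x i)) =
    twistHom s m G _ (twistHom s n F _ (∑ j, c i j • y' j))
  have e4 : twistHom s m G (CohB1.genLocus L s) (twistHom s n F (CohB1.genLocus L s) (x i)) =
      res G' (le_top : CohB1.genLocus L s ≤ ⊤) (twistHom s m G ⊤ (x' i)) := by
    change SecTwist.twist s m G _ (SecTwist.twist s n F _ (x i)) =
      res G' _ (SecTwist.twist s m G ⊤ (x' i))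
    rw [← hx', res_twist]
  have hxy' : twistHom s m G ⊤ (x' i) = ∑ j, c i j • y j := hxy i
  have hy'' : ∀ j, twistHom s m G (CohB1.genLocus L s) (twistHom s n F (CohB1.genLocus L s) (y' j)) =
      res G' (le_top : CohB1.genLocus L s ≤ ⊤) (y j) := hy'
  rw [e4, hxy', map_sum, map_sum, map_sum]
  refine Finset.sum_congr rfl (fun j _ => ?_)
  rw [res_smulA ψ G']
  have e5 : twistHom s n F (CohB1.genLocus L s) (c i j • y' j) =
      c i j • twistHom s n F (CohB1.genLocus L s) (y' j) := twist_smulA ψ s n F _ (c i j) (y' j)
  have e6 : twistHom s m G (CohB1.genLocus L s) (c i j • twistHom s n F (CohB1.genLocus L s) (y' j)) =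
      c i j • twistHom s m G (CohB1.genLocus L s) (twistHom s n F (CohB1.genLocus L s) (y' j)) :=
    twist_smulA ψ s m G _ (c i j) _
  rw [e5, e6, hy'' j]

end Groth.Agent.Lib.Helper4.FlatTw1
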