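import Mathlib
import Groth.Agent.Lib.Helper4.FlatTw1
import Groth.Agent.Lib.Helper1.TwistTens
import Groth.Agent.Lib.Lead.FO1
import Groth.Agent.Lib.Helper1.RelAmpleCrit

/-!
# flatness over the base from flatness of direct images of high twists by a relatively ample module (helper4)
-/

set_option backward.isDefEq.respectTransparency.types false
set_option synthInstance.maxHeartbeats 400000
set_option autoImplicit false
set_option linter.unusedSectionVars false
set_option linter.style.haveILetI false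
set_option linter.unusedSimpArgs false
universe u v w
open CategoryTheory
open CategoryTheory.Limits
open AlgebraicGeometry
open TopologicalSpace
open Opposite
open Groth.Agent.Helper1
open Groth.Agent.Helper1.QcCech
open Groth.Agent.Helper1.LGen
open Groth.Agent.Helper1.TwForm
open Groth.Agent.Lib.Helper4.FlatTw1

namespace Groth.Agent.Lib.Helper4.FlatTw2

variable {Z : Scheme.{u}} {A : Type u} [CommRing A] (ψ : A →+* Γ(Z, ⊤))
  [QuasiSeparatedSpace Z]

/-- on a scheme with an ample invertible module, a quasi-coherent module whose high twists have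
flat global sections has flat sections over affine opens around every point -/
theorem exists_affine_flat_sections {L : Z.Modules} (hL : CohB1.IsAmple L)
    (F : Z.Modules) [F.IsQuasicoherent] (n₀ : ℕ)
    (hflat : ∀ n, n₀ ≤ n →
      @Module.Flat A Γ(CohB1.tensorMod F (CohB1.tensorPow L n), ⊤) _ _
        (modA ψ (CohB1.tensorMod F (CohB1.tensorPow L n)) ⊤)) (z : Z) :
    ∃ O : Z.Opens, z ∈ O ∧ IsAffineOpen O ∧ @Module.Flat A Γ(F, O) _ _ (modA ψ F O) := by
  obtain ⟨hinv, hcomp, hcov⟩ := hL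
  haveI := hcomp
  obtain ⟨k, s, hzs, haff⟩ := hcov z
  refine ⟨CohB1.genLocus _ s, hzs, haff, ?_⟩
  refine flat_sections_genLocus ψ (isInvertible_tensorPow hinv (k + 1)) s F n₀ (fun n hn => ?_)
  let e : CohB1.tensorMod F (CohB1.tensorPow (CohB1.tensorPow L (k + 1)) n) ≅
      CohB1.tensorMod F (CohB1.tensorPow L ((k + 1) * n)) :=
    TwistTens.tensorModCongrRight F (SecOps.powIso' hinv (k + 1) n)
  letI := modA ψ (CohB1.tensorMod F (CohB1.tensorPow (CohB1.tensorPow L (k + 1)) n)) ⊤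
  letI := modA ψ (CohB1.tensorMod F (CohB1.tensorPow L ((k + 1) * n))) ⊤
  haveI := hflat ((k + 1) * n) (hn.trans (Nat.le_mul_of_pos_left n (Nat.succ_pos k)))
  exact Module.Flat.of_linearEquiv (secEquivOfIso ψ e ⊤)


section Rel
variable {X Y : Scheme.{u}} (f : X ⟶ Y)

theorem ι_appIso_inv_apply (U : X.Opens) (O : (↑U : Scheme.{u}).Opens) (r : Γ((↑U : Scheme.{u}), O)) :
    (U.ι.appIso O).inv r = (show Γ(X, U.ι ''ᵁ O) from r) := by
  rw [Scheme.Opens.ι_appIso]
  rfl

/-- scalar multiplication on the restriction to an open subscheme -/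
theorem smul_restrict_ι (U : X.Opens) (F : X.Modules) (O : (↑U : Scheme.{u}).Opens)
    (r : Γ((↑U : Scheme.{u}), O)) (m : Γ(F.restrict U.ι, O)) :
    r • m = (show Γ(F.restrict U.ι, O) from
      ((show Γ(X, U.ι ''ᵁ O) from r) • (show Γ(F, U.ι ''ᵁ O) from m))) := by
  rw [SubSh.smul_restrict, ι_appIso_inv_apply]


open Groth.Agent.Lead

theorem resR_appLE {V : Y.Opens} {U U' : X.Opens} (e : U ≤ f ⁻¹ᵁ V) (h : U' ≤ U) (a : Γ(Y, V)) :
    resR h ((f.appLE V U e).hom a) = (f.appLE V U' (h.trans e)).hom a := by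
  have := f.appLE_map e (homOfLE h).op
  exact ConcreteCategory.congr_hom this a

/-- **flatness from flatness of the direct images of high twists** -/
theorem isFlatOver_of_flat_twists [QuasiCompact f] [QuasiSeparated f]
    (L : X.Modules)
    (ha : ∀ W : Y.Opens, IsAffineOpen W → CohB1.IsAmple (L.restrict (f ⁻¹ᵁ W).ι))
    (F : X.Modules) [F.IsQuasicoherent] (n₀ : ℕ)
    (hflat : ∀ n, n₀ ≤ n → ∀ W : Y.Opens, IsAffineOpen W →
      @Module.Flat Γ(Y, W) Γ(CohB1.tensorMod F (CohB1.tensorPow L n), f ⁻¹ᵁ W) _ _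
        (FO.sectionsOver f (CohB1.tensorMod F (CohB1.tensorPow L n)) (le_refl (f ⁻¹ᵁ W)))) :
    FlatMod.IsFlatOver f F := by
  intro x
  obtain ⟨_, ⟨W, hW, rfl⟩, hxW, -⟩ := Y.isBasis_affineOpens.exists_subset_of_mem_open
    (Set.mem_univ (f x)) isOpen_univ
  let Uo : X.Opens := f ⁻¹ᵁ W
  let z : (↑Uo : Scheme.{u}) := ⟨x, hxW⟩
  haveI : IsAffine (↑W : Scheme.{u}) := hW
  haveI : CompactSpace (↑Uo : Scheme.{u}) :=
    QuasiCompact.compactSpace_of_compactSpace (f ∣_ W)
  haveI : QuasiSeparatedSpace (↑Uo : Scheme.{u}) :=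
    quasiSeparatedSpace_of_quasiSeparated (f ∣_ W)
  have htop : Uo.ι ''ᵁ ⊤ = Uo := by simp
  have hle : Uo.ι ''ᵁ ⊤ ≤ f ⁻¹ᵁ W := htop.le
  let ψ : Γ(Y, W) →+* Γ((↑Uo : Scheme.{u}), ⊤) := (f.appLE W (Uo.ι ''ᵁ ⊤) hle).hom
  haveI : (F.restrict Uo.ι).IsQuasicoherent := Scheme.Modules.isQuasicoherent_restrictFunctor Uo.ι F
  have hamp := ha W hW
  have hK : ∀ n, n₀ ≤ n →
      @Module.Flat Γ(Y, W) Γ(CohB1.tensorMod (F.restrict Uo.ι) (CohB1.tensorPow (L.restrict Uo.ι) n), ⊤)
        _ _ (modA ψ (CohB1.tensorMod (F.restrict Uo.ι) (CohB1.tensorPow (L.restrict Uo.ι) n)) ⊤) := by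
    intro n hn
    let G := CohB1.tensorMod F (CohB1.tensorPow L n)
    letI m0 := FO.sectionsOver f G (le_refl (f ⁻¹ᵁ W))
    letI m1 := modA ψ (G.restrict Uo.ι) ⊤
    haveI := hflat n hn W hW
    let e1 : Γ(G, f ⁻¹ᵁ W) ≃ₗ[Γ(Y, W)] Γ(G.restrict Uo.ι, ⊤) :=
      { toFun := fun m => res G hle m
        invFun := fun m => res G htop.ge (show Γ(G, Uo.ι ''ᵁ ⊤) from m)
        map_add' := fun a b => map_add (res G hle) a b
        map_smul' := fun a m => by
          simp only [RingHom.id_apply]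
          have h1 : res G hle (a • m) = (f.appLE W (Uo.ι ''ᵁ ⊤) hle).hom a • res G hle m := by
            change res G hle ((f.appLE W (f ⁻¹ᵁ W) (le_refl _)).hom a • m) = _
            rw [res_smul, resR_appLE]
          have h2 : (a • (show Γ(G.restrict Uo.ι, ⊤) from res G hle m)) =
              (show Γ(G.restrict Uo.ι, ⊤) from
                ((f.appLE W (Uo.ι ''ᵁ ⊤) hle).hom a • res G hle m)) := by
            rw [modA_smul, smul_restrict_ι, resR_self']
            rfl
          exact h1.trans h2.symm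
        left_inv := fun m => by
          change res G htop.ge (res G hle m) = m
          rw [res_res, res_self]
        right_inv := fun m => by
          change res G hle (res G htop.ge _) = m
          rw [res_res, res_self] }
    have hloc := locFrame_of_isInvertible hamp.1 hamp.1
    letI m2 := modA ψ (CohB1.tensorMod (F.restrict Uo.ι) (CohB1.tensorPow (L.restrict Uo.ι) n)) ⊤
    let e2 : Γ(G.restrict Uo.ι, ⊤) ≃ₗ[Γ(Y, W)]
        Γ(CohB1.tensorMod (F.restrict Uo.ι) (CohB1.tensorPow (L.restrict Uo.ι) n), ⊤) :=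
      secEquivOfIso ψ
        (RelAmpleLib.restrictTwistIso Uo.ι (Iso.refl (F.restrict Uo.ι)) hloc n) ⊤
    exact Module.Flat.of_linearEquiv (e1 ≪≫ₗ e2).symm
  obtain ⟨O, hzO, hO, hflO⟩ := exists_affine_flat_sections ψ hamp (F.restrict Uo.ι) n₀ hK z
  have hU : IsAffineOpen (Uo.ι ''ᵁ O) := hO.image_of_isOpenImmersion Uo.ι
  have hUV : Uo.ι ''ᵁ O ≤ f ⁻¹ᵁ W := (Uo.ι.image_mono le_top).trans hle
  have hxU : x ∈ Uo.ι ''ᵁ O := ⟨z, hzO, rfl⟩
  refine (FO.isFlatOverAt_iff_flat_stalkOver f F hW hUV ⟨x, hxU⟩).2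
    (FO.flat_stalkOver_of_flat_sectionsOver f F hU hUV ⟨x, hxU⟩ ?_)
  letI m1 := modA ψ (F.restrict Uo.ι) O
  letI m2 := FO.sectionsOver f F hUV
  let e : Γ(F.restrict Uo.ι, O) ≃ₗ[Γ(Y, W)] Γ(F, Uo.ι ''ᵁ O) :=
    { toFun := fun m => m
      invFun := fun m => m
      map_add' := fun _ _ => rfl
      map_smul' := fun a m => by
        simp only [RingHom.id_apply]
        change (show Γ(F, Uo.ι ''ᵁ O) from (a • (show Γ(F.restrict Uo.ι, O) from m))) =
          (f.appLE W (Uo.ι ''ᵁ O) hUV).hom a • (show Γ(F, Uo.ι ''ᵁ O) from m)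
        rw [modA_smul, smul_restrict_ι]
        have hres : (show Γ(X, Uo.ι ''ᵁ O) from resR (le_top : O ≤ ⊤) (ψ a)) =
            (f.appLE W (Uo.ι ''ᵁ O) hUV).hom a := by
          rw [← resR_appLE f hle (Uo.ι.image_mono le_top) a]
          rfl
        rw [hres]
      left_inv := fun _ => rfl
      right_inv := fun _ => rfl }
  exact Module.Flat.of_linearEquiv e.symm

end Rel

end Groth.Agent.Lib.Helper4.FlatTw2
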