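import Mathlib

/-!
# Elements of the homology of a cochain complex of modules: classes of cycles (helper4)
-/

set_option backward.isDefEq.respectTransparency.types false
set_option synthInstance.maxHeartbeats 400000
set_option autoImplicit false
set_option linter.unusedSectionVars false
set_option linter.style.haveILetI false
set_option linter.unusedSimpArgs false
universe u v w
open CategoryTheory
open CategoryTheory.Limits

namespace Groth.Agent.Lib.Helper4.HomEl1

variable {A : Type u} [CommRing A]

section Cls
variable (L : CochainComplex (ModuleCat.{u} A) ℤ) (p q r : ℤ) (hpq : p + 1 = q) (hqr : q + 1 = r)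

/-- the cycles as a submodule -/
abbrev Zs : Submodule A (L.X q) := LinearMap.ker (L.d q r).hom

include hqr in
theorem next_eq : (ComplexShape.up ℤ).next q = r := by
  rw [CochainComplex.next]; exact hqr

include hpq in
theorem prev_eq : (ComplexShape.up ℤ).prev q = p := by
  rw [CochainComplex.prev]; omega

/-- the submodule of cycles, into the categorical cycles -/
noncomputable def toCyc : ModuleCat.of A (Zs L q r) ⟶ L.cycles q :=
  L.liftCycles (ModuleCat.ofHom (Zs L q r).subtype) r (next_eq q r hqr) (by
    apply ModuleCat.hom_ext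
    apply LinearMap.ext
    intro z
    exact z.2)

theorem iCycles_toCyc (z : Zs L q r) : (L.iCycles q).hom ((toCyc L q r hqr).hom z) = z.1 :=
  ConcreteCategory.congr_hom (L.liftCycles_i (ModuleCat.ofHom (Zs L q r).subtype) r
    (next_eq q r hqr) _) z

theorem iCycles_injective : Function.Injective (L.iCycles q).hom :=
  (ModuleCat.mono_iff_injective _).mp inferInstance

theorem d_iCycles (y : L.cycles q) : (L.d q r).hom ((L.iCycles q).hom y) = 0 :=
  ConcreteCategory.congr_hom (L.iCycles_d q r) y

include hqr in
theorem toCyc_surjective : Function.Surjective (toCyc L q r hqr).hom := by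
  intro y
  refine ⟨⟨(L.iCycles q).hom y, d_iCycles L q r y⟩, ?_⟩
  apply iCycles_injective L q
  rw [iCycles_toCyc]

/-- the class of a cycle -/
noncomputable def cls : Zs L q r →ₗ[A] L.homology q :=
  (toCyc L q r hqr ≫ L.homologyπ q).hom

theorem cls_apply (z : Zs L q r) :
    cls L q r hqr z = (L.homologyπ q).hom ((toCyc L q r hqr).hom z) := rfl

theorem cls_surjective : Function.Surjective (cls L q r hqr) := by
  intro c
  obtain ⟨y, rfl⟩ := (ModuleCat.epi_iff_surjective _).mp
    (inferInstance : Epi (L.homologyπ q)) c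
  obtain ⟨z, rfl⟩ := toCyc_surjective L q r hqr y
  exact ⟨z, rfl⟩

include hpq in
theorem cls_eq_zero_iff (z : Zs L q r) :
    cls L q r hqr z = 0 ↔ ∃ w : L.X p, (L.d p q).hom w = z.1 := by
  have hex : (ShortComplex.mk (L.toCycles p q) (L.homologyπ q)
      (L.toCycles_comp_homologyπ p q)).Exact :=
    ShortComplex.exact_of_g_is_cokernel _ (L.homologyIsCokernel p q (prev_eq p q hpq))
  rw [ShortComplex.moduleCat_exact_iff] at hex
  constructor
  · intro h
    obtain ⟨w, hw⟩ := hex _ h
    have hw' : (L.toCycles p q).hom w = (toCyc L q r hqr).hom z := hw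
    refine ⟨w, ?_⟩
    have h2 : (L.iCycles q).hom ((L.toCycles p q).hom w) = (L.d p q).hom w :=
      ConcreteCategory.congr_hom (L.toCycles_i p q) w
    rw [← h2, hw', iCycles_toCyc]
  · rintro ⟨w, hw⟩
    have h2 : (L.iCycles q).hom ((L.toCycles p q).hom w) = (L.d p q).hom w :=
      ConcreteCategory.congr_hom (L.toCycles_i p q) w
    have h1 : (toCyc L q r hqr).hom z = (L.toCycles p q).hom w := by
      apply iCycles_injective L q
      rw [iCycles_toCyc, ← hw, h2]
    rw [cls_apply, h1]
    exact ConcreteCategory.congr_hom (L.toCycles_comp_homologyπ p q) w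

end Cls

section Map
variable {L L' : CochainComplex (ModuleCat.{u} A) ℤ} (φ : L ⟶ L') (q r : ℤ) (hqr : q + 1 = r)

theorem map_mem (z : Zs L q r) : (φ.f q).hom z.1 ∈ Zs L' q r := by
  change (L'.d q r).hom ((φ.f q).hom z.1) = 0
  have h := ConcreteCategory.congr_hom (φ.comm q r) z.1
  change (L'.d q r).hom ((φ.f q).hom z.1) = (φ.f r).hom ((L.d q r).hom z.1) at h
  rw [h, z.2, map_zero]

theorem map_cls (z : Zs L q r) :
    (HomologicalComplex.homologyMap φ q).hom (cls L q r hqr z) =
      cls L' q r hqr ⟨(φ.f q).hom z.1, map_mem φ q r z⟩ := by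
  have h : (HomologicalComplex.homologyMap φ q).hom
      ((L.homologyπ q).hom ((toCyc L q r hqr).hom z)) =
      (L'.homologyπ q).hom ((HomologicalComplex.cyclesMap φ q).hom ((toCyc L q r hqr).hom z)) :=
    ConcreteCategory.congr_hom (HomologicalComplex.homologyπ_naturality φ q)
      ((toCyc L q r hqr).hom z)
  rw [cls_apply, cls_apply]
  refine h.trans (congrArg (L'.homologyπ q).hom ?_)
  apply iCycles_injective L' q
  have h2 : (L'.iCycles q).hom ((HomologicalComplex.cyclesMap φ q).hom
      ((toCyc L q r hqr).hom z)) = (φ.f q).hom ((L.iCycles q).hom ((toCyc L q r hqr).hom z)) :=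
    ConcreteCategory.congr_hom (HomologicalComplex.cyclesMap_i φ q) ((toCyc L q r hqr).hom z)
  rw [h2, iCycles_toCyc, iCycles_toCyc]

end Map

end Groth.Agent.Lib.Helper4.HomEl1
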