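import Mathlib
import Groth.Prelude.Def_ega3
import Groth.Agent.Lib.Helper4.HomEl1
import Groth.Agent.Lib.Helper5.TorAmp.FlatTrunc

/-!
# The exchange property for the cohomology of a complex tensored with modules: cokernel criterion and local criterion (helper4)
-/

set_option backward.isDefEq.respectTransparency.types false
set_option synthInstance.maxHeartbeats 400000
set_option autoImplicit false
set_option linter.unusedSectionVars false
set_option linter.style.haveILetI false
set_option linter.unusedSimpArgs false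
universe u v w
open CategoryTheory
open CategoryTheory.Limits
open TensorProduct
open Groth.Agent.Lib.Helper4.HomEl1

namespace Groth.Agent.Lib.Helper4.ExchAlg1

variable {A : Type u} [CommRing A] (K : CochainComplex (ModuleCat.{u} A) ℤ)

/-- `K ⊗ M` -/
noncomputable abbrev KM (M : ModuleCat.{u} A) : CochainComplex (ModuleCat.{u} A) ℤ :=
  CohIII.tensorObj K M

theorem KM_d (M : ModuleCat.{u} A) (i j : ℤ) :
    ((KM K M).d i j).hom = (K.d i j).hom.rTensor M := rfl

theorem KM_map {M M' : ModuleCat.{u} A} (g : M ⟶ M') (i : ℤ) :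
    ((CohIII.tensorMap K g).f i).hom = g.hom.lTensor (K.X i) := rfl

section Fix
variable (o p q : ℤ) (hop : o + 1 = p) (hpq : p + 1 = q)

/-- the boundaries in degree `q` -/
abbrev Bq : Submodule A (K.X q) := LinearMap.range (K.d p q).hom

/-- the cycles in degree `p` -/
abbrev Zp : Submodule A (K.X p) := LinearMap.ker (K.d p q).hom

/-- `K^p → B^q` -/
abbrev sig : K.X p →ₗ[A] Bq K p q := (K.d p q).hom.rangeRestrict

theorem sig_surjective : Function.Surjective (sig K p q) := LinearMap.surjective_rangeRestrict _

theorem subtype_comp_sig : (Bq K p q).subtype ∘ₗ sig K p q = (K.d p q).hom := rfl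

theorem exact_Zp_sig : Function.Exact (Zp K p q).subtype (sig K p q) := by
  intro x
  constructor
  · intro h
    refine ⟨⟨x, ?_⟩, rfl⟩
    have := congrArg Subtype.val h
    exact this
  · rintro ⟨z, rfl⟩
    ext
    exact z.2

theorem sig_comp_d : sig K p q ∘ₗ (K.d o p).hom = 0 := by
  apply LinearMap.ext
  intro w
  ext
  change (K.d p q).hom ((K.d o p).hom w) = 0
  exact ConcreteCategory.congr_hom (K.d_comp_d o p q) w

include hpq in
/-- **X1**: if `B^q ⊗ M → K^q ⊗ M` is always injective, then `T^p` preserves surjections -/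
theorem surjective_of_injective
    (hinj : ∀ M : ModuleCat.{u} A, Function.Injective ((Bq K p q).subtype.rTensor M))
    {M M'' : ModuleCat.{u} A} (g : M ⟶ M'') (hg : Function.Surjective g.hom) :
    Function.Surjective ((CohIII.TFun K p).map g).hom := by
  intro c''
  obtain ⟨z'', rfl⟩ := cls_surjective (KM K M'') p q hpq c''
  -- z'' comes from Z ⊗ M''
  have h1 : ((Bq K p q).subtype.rTensor M'') ((sig K p q).rTensor M'' z''.1) = 0 := by
    rw [← LinearMap.comp_apply, ← LinearMap.rTensor_comp, subtype_comp_sig]
    exact z''.2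
  have h2 : (sig K p q).rTensor M'' z''.1 = 0 := hinj M'' (h1.trans (map_zero _).symm)
  obtain ⟨ζ'', hζ''⟩ := (rTensor_exact M'' (exact_Zp_sig K p q) (sig_surjective K p q) z''.1).1 h2
  obtain ⟨ζ, rfl⟩ := LinearMap.lTensor_surjective (Zp K p q) hg ζ''
  have hz : (Zp K p q).subtype.rTensor M ζ ∈ Zs (KM K M) p q := by
    change (K.d p q).hom.rTensor M ((Zp K p q).subtype.rTensor M ζ) = 0
    rw [← LinearMap.comp_apply, ← LinearMap.rTensor_comp]
    have : (K.d p q).hom ∘ₗ (Zp K p q).subtype = 0 := by
      apply LinearMap.ext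
      intro z
      exact z.2
    rw [this, LinearMap.rTensor_zero, LinearMap.zero_apply]
  refine ⟨cls (KM K M) p q hpq ⟨_, hz⟩, ?_⟩
  refine (map_cls (CohIII.tensorMap K g) p q hpq _).trans ?_
  congr 1
  apply Subtype.ext
  change g.hom.lTensor (K.X p) ((Zp K p q).subtype.rTensor M ζ) = z''.1
  rw [← hζ'', ← LinearMap.comp_apply, ← LinearMap.comp_apply, LinearMap.lTensor_comp_rTensor,
    LinearMap.rTensor_comp_lTensor]


include hop hpq in
/-- **X2**: if `T^p(A) → T^p(N)` is surjective for some map `A → N`, then `B^q ⊗ N → K^q ⊗ N` is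
injective -/
theorem injective_of_surjective (N : ModuleCat.{u} A) (g : ModuleCat.of A A ⟶ N)
    (hs : Function.Surjective ((CohIII.TFun K p).map g).hom) :
    Function.Injective ((Bq K p q).subtype.rTensor N) := by
  rw [injective_iff_map_eq_zero]
  intro x hx
  obtain ⟨y'', rfl⟩ := LinearMap.rTensor_surjective N (sig_surjective K p q) x
  have hy'' : y'' ∈ Zs (KM K N) p q := by
    change (K.d p q).hom.rTensor N y'' = 0
    rw [← subtype_comp_sig, LinearMap.rTensor_comp, LinearMap.comp_apply]
    exact hx
  obtain ⟨c, hc⟩ := hs (cls (KM K N) p q hpq ⟨y'', hy''⟩)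
  obtain ⟨y, rfl⟩ := cls_surjective (KM K (ModuleCat.of A A)) p q hpq c
  have hc' := (map_cls (CohIII.tensorMap K g) p q hpq y).symm.trans hc
  have hd : cls (KM K N) p q hpq
      (⟨((CohIII.tensorMap K g).f p).hom y.1, map_mem (CohIII.tensorMap K g) p q y⟩ -
        ⟨y'', hy''⟩) = 0 := by
    rw [map_sub, hc', sub_self]
  obtain ⟨w, hw⟩ := (cls_eq_zero_iff (KM K N) o p q hop hpq _).1 hd
  have hw' : (K.d o p).hom.rTensor N w = g.hom.lTensor (K.X p) y.1 - y'' := hw
  have h3 : (sig K p q).rTensor N (g.hom.lTensor (K.X p) y.1) = 0 := by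
    rw [← LinearMap.comp_apply, LinearMap.rTensor_comp_lTensor, ← LinearMap.lTensor_comp_rTensor,
      LinearMap.comp_apply]
    have h5 : (sig K p q).rTensor (ModuleCat.of A A) y.1 = 0 := by
      apply Module.Flat.rTensor_preserves_injective_linearMap (M := A) (Bq K p q).subtype
        Subtype.val_injective
      rw [map_zero, ← LinearMap.comp_apply, ← LinearMap.rTensor_comp, subtype_comp_sig]
      exact y.2
    rw [h5, map_zero]
  have h4 : (sig K p q).rTensor N ((K.d o p).hom.rTensor N w) = 0 := by
    rw [← LinearMap.comp_apply, ← LinearMap.rTensor_comp, sig_comp_d K o p q,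
      LinearMap.rTensor_zero, LinearMap.zero_apply]
  have h6 : y'' = g.hom.lTensor (K.X p) y.1 - (K.d o p).hom.rTensor N w := by
    rw [hw']; abel
  rw [h6, map_sub, h3, h4, sub_zero]


open Groth.Agent.Helper1.TorL Groth.Agent.Helper5.FlatAcyc in
/-- flatness of the cokernel, from injectivity after tensoring with cyclic modules -/
theorem flat_coker_of_injective [Module.Flat A (K.X q)]
    (h : ∀ I : Ideal A, Function.Injective ((Bq K p q).subtype.rTensor (A ⧸ I))) :
    Module.Flat A (K.X q ⧸ Bq K p q) := by
  rw [flat_iff_tor_one_quotient]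
  intro I _
  have hS := shortExact_subtype_mkQ (R := A) (Bq K p q)
  refine (isZero_tor_one_X₃_iff _ hS (ModuleCat.of A (A ⧸ I)) ?_).2 ?_
  · have : Module.Flat A (ModuleCat.of A (K.X q)) := ‹Module.Flat A (K.X q)›
    exact isZero_tor_succ_of_flat (ModuleCat.of A (K.X q)) _ 0
  · exact h I

open Groth.Agent.Helper1.TorL Groth.Agent.Helper5.FlatAcyc in
/-- the converse: a flat cokernel gives universal injectivity -/
theorem injective_of_flat_coker [Module.Flat A (K.X q)] [Module.Flat A (K.X q ⧸ Bq K p q)]
    (M : ModuleCat.{u} A) : Function.Injective ((Bq K p q).subtype.rTensor M) := by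
  have hS := shortExact_subtype_mkQ (R := A) (Bq K p q)
  have : Module.Flat A (ModuleCat.shortComplexOfCompEqZero (Bq K p q).subtype (Bq K p q).mkQ
      (by ext x; simp)).X₂ := ‹Module.Flat A (K.X q)›
  have : Module.Flat A (ModuleCat.shortComplexOfCompEqZero (Bq K p q).subtype (Bq K p q).mkQ
      (by ext x; simp)).X₃ := ‹Module.Flat A (K.X q ⧸ Bq K p q)›
  exact rTensor_injective_of_flat _ hS M

end Fix

section Thm
variable (o p q : ℤ) (hop : o + 1 = p) (hpq : p + 1 = q)

/-- `T^p` preserves surjections -/
def PresSurj : Prop :=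
  ∀ (M M'' : ModuleCat.{u} A) (g : M ⟶ M''), Function.Surjective g.hom →
    Function.Surjective ((CohIII.TFun K p).map g).hom

include hop hpq in
/-- the exchange property in terms of the cokernel of the differential -/
theorem presSurj_iff_flat [Module.Flat A (K.X q)] :
    PresSurj K p ↔ Module.Flat A (K.X q ⧸ Bq K p q) := by
  constructor
  · intro h
    apply flat_coker_of_injective
    intro I
    exact injective_of_surjective K o p q hop hpq (ModuleCat.of A (A ⧸ I))
      (ModuleCat.ofHom (Submodule.mkQ I)) (h _ _ _ (Submodule.mkQ_surjective I))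
  · intro h M M'' g hg
    exact surjective_of_injective K p q hpq (fun M => injective_of_flat_coker K p q M) g hg

include hop hpq in
/-- **the local criterion for the exchange property** -/
theorem presSurj_iff_local [IsLocalRing A] [IsNoetherianRing A] [Module.Finite A (K.X q)]
    [Module.Free A (K.X q)] :
    PresSurj K p ↔ Function.Surjective ((CohIII.TFun K p).map
      (ModuleCat.ofHom (Algebra.linearMap A (IsLocalRing.ResidueField A)))).hom := by
  constructor
  · intro h
    exact h _ _ _ Ideal.Quotient.mk_surjective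
  · intro hs
    have h1 := injective_of_surjective K o p q hop hpq _ _ hs
    haveI : IsNoetherian A (K.X q) := isNoetherian_of_isNoetherianRing_of_finite A _
    haveI : Module.Free A (K.X q ⧸ Bq K p q) :=
      Module.free_of_lTensor_residueField_injective (Bq K p q).subtype (Bq K p q).mkQ
        (Submodule.mkQ_surjective _) (LinearMap.exact_subtype_mkQ _)
        ((LinearMap.lTensor_inj_iff_rTensor_inj _ _).2 h1)
    exact (presSurj_iff_flat K o p q hop hpq).2 inferInstance

end Thm


section Transfer
variable (p : ℤ) {G : ModuleCat.{u} A ⥤ AddCommGrpCat.{u}}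
  (e : CohIII.TFun K p ⋙ forget₂ (ModuleCat.{u} A) AddCommGrpCat.{u} ≅ G)

include e in
theorem map_surjective_iff {M M' : ModuleCat.{u} A} (g : M ⟶ M') :
    Function.Surjective (G.map g).hom ↔ Function.Surjective ((CohIII.TFun K p).map g).hom := by
  have hnat : ∀ x, (e.hom.app M').hom (((CohIII.TFun K p).map g).hom x) =
      (G.map g).hom ((e.hom.app M).hom x) := fun x =>
    ConcreteCategory.congr_hom (e.hom.naturality g) x
  have hb : ∀ N, Function.Bijective (e.hom.app N).hom := fun N =>
    ConcreteCategory.bijective_of_isIso (e.hom.app N)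
  constructor
  · intro h y
    obtain ⟨x', hx'⟩ := h ((e.hom.app M').hom y)
    obtain ⟨x, rfl⟩ := (hb M).2 x'
    refine ⟨x, (hb M').1 ?_⟩
    rw [hnat, hx']
  · intro h y'
    obtain ⟨y, rfl⟩ := (hb M').2 y'
    obtain ⟨x, rfl⟩ := h y
    exact ⟨(e.hom.app M).hom x, (hnat x).symm⟩

include e in
theorem map_injective_iff {M M' : ModuleCat.{u} A} (g : M ⟶ M') :
    Function.Injective (G.map g).hom ↔ Function.Injective ((CohIII.TFun K p).map g).hom := by
  have hnat : ∀ x, (e.hom.app M').hom (((CohIII.TFun K p).map g).hom x) =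
      (G.map g).hom ((e.hom.app M).hom x) := fun x =>
    ConcreteCategory.congr_hom (e.hom.naturality g) x
  have hb : ∀ N, Function.Bijective (e.hom.app N).hom := fun N =>
    ConcreteCategory.bijective_of_isIso (e.hom.app N)
  constructor
  · intro h x y hxy
    apply (hb M).1
    apply h
    rw [← hnat, ← hnat, hxy]
  · intro h x' y' hxy
    obtain ⟨x, rfl⟩ := (hb M).2 x'
    obtain ⟨y, rfl⟩ := (hb M).2 y'
    rw [← hnat, ← hnat] at hxy
    rw [h ((hb M').1 hxy)]

include e in
theorem preservesEpi_iff : G.PreservesEpimorphisms ↔ PresSurj K p := by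
  constructor
  · intro h M M'' g hg
    haveI : Epi g := (ModuleCat.epi_iff_surjective g).2 hg
    have h1 : Epi (G.map g) := h.preserves g
    exact (map_surjective_iff K p e g).1 ((AddCommGrpCat.epi_iff_surjective _).1 h1)
  · intro h
    constructor
    intro M M'' g hg
    exact (AddCommGrpCat.epi_iff_surjective _).2
      ((map_surjective_iff K p e g).2 (h M M'' g ((ModuleCat.epi_iff_surjective g).1 hg)))

end Transfer

end Groth.Agent.Lib.Helper4.ExchAlg1
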