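import Mathlib
import Groth.Prelude.Def_ega3
import Groth.Agent.Lib.Helper4.HomEl1
import Groth.Agent.Lib.Helper4.ExchAlg1

/-!
# Natural isomorphisms of group-valued functors between scalar-compatible module-valued functors are linear (helper4)
-/

set_option backward.isDefEq.respectTransparency.types false
set_option synthInstance.maxHeartbeats 400000
set_option autoImplicit false
set_option linter.unusedSectionVars false
set_option linter.style.haveILetI false
set_option linter.unusedSimpArgs false
universe u v w
open CategoryTheory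
open CategoryTheory.Limits
open TensorProduct
open Opposite
open Groth.Agent.Lib.Helper4.HomEl1
open Groth.Agent.Lib.Helper4.ExchAlg1

namespace Groth.Agent.Lib.Helper4.LinNat1

variable {A : Type u} [CommRing A]

/-- a natural isomorphism of the underlying group-valued functors of two functors compatible with scalars is linear -/
noncomputable def linearOfNatural {S₁ S₂ : ModuleCat.{u} A ⥤ ModuleCat.{u} A}
    (h₁ : ∀ (M : ModuleCat.{u} A) (r : A) (x : S₁.obj M), (S₁.map (r • 𝟙 M)).hom x = r • x)
    (h₂ : ∀ (M : ModuleCat.{u} A) (r : A) (x : S₂.obj M), (S₂.map (r • 𝟙 M)).hom x = r • x)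
    (φ : S₁ ⋙ forget₂ (ModuleCat.{u} A) AddCommGrpCat.{u} ≅
      S₂ ⋙ forget₂ (ModuleCat.{u} A) AddCommGrpCat.{u}) : S₁ ≅ S₂ :=
  NatIso.ofComponents
    (fun M => LinearEquiv.toModuleIso
      { toFun := (φ.hom.app M).hom
        map_add' := map_add _
        map_smul' := fun r x => by
          have hn : (φ.hom.app M).hom ((S₁.map (r • 𝟙 M)).hom x) =
              (S₂.map (r • 𝟙 M)).hom ((φ.hom.app M).hom x) :=
            ConcreteCategory.congr_hom (φ.hom.naturality (r • 𝟙 M)) x
          rw [h₁ M r x] at hn
          exact hn.trans (h₂ M r _)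
        invFun := (φ.inv.app M).hom
        left_inv := fun x => ConcreteCategory.congr_hom (φ.hom_inv_id_app M) x
        right_inv := fun x => ConcreteCategory.congr_hom (φ.inv_hom_id_app M) x })
    (fun {M M'} g => by
      apply ModuleCat.hom_ext
      apply LinearMap.ext
      intro x
      exact ConcreteCategory.congr_hom (φ.hom.naturality g) x)

variable (K : CochainComplex (ModuleCat.{u} A) ℤ)

theorem TFun_map_smul (q : ℤ) (M : ModuleCat.{u} A) (r : A) (c : (CohIII.TFun K q).obj M) :
    ((CohIII.TFun K q).map (r • 𝟙 M)).hom c = r • c := by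
  obtain ⟨z, rfl⟩ := cls_surjective (KM K M) q (q + 1) rfl c
  refine (map_cls (CohIII.tensorMap K (r • 𝟙 M)) q (q + 1) rfl z).trans ?_
  refine Eq.trans ?_ (map_smul (cls (KM K M) q (q + 1) rfl) r z)
  congr 1
  apply Subtype.ext
  change (r • 𝟙 M : M ⟶ M).hom.lTensor (K.X q) z.1 = r • z.1
  have : (r • 𝟙 M : M ⟶ M).hom = r • LinearMap.id := rfl
  rw [this, LinearMap.lTensor_smul, LinearMap.lTensor_id, LinearMap.smul_apply, LinearMap.id_apply]
  rfl

end Groth.Agent.Lib.Helper4.LinNat1
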