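import Mathlib
import Groth.Prelude.Def_ega3
import Groth.Agent.Lib.Helper4.TenSec2
import Groth.Agent.Lib.Lead.FBC2

/-!
# Base change of sections over affine opens along a ring map of bases (helper4)
-/

set_option backward.isDefEq.respectTransparency.types false
set_option synthInstance.maxHeartbeats 400000
set_option autoImplicit false
set_option linter.unusedSectionVars false
set_option linter.style.haveILetI false
set_option linter.unusedSimpArgs false
universe u v w
open CategoryTheory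
open CategoryTheory.Limits
open AlgebraicGeometry
open TopologicalSpace
open Opposite
open TensorProduct
open Groth.Agent.Lead.BCU
open Groth.Agent.Lib.Helper4.BaseChgRing1
open Groth.Agent.Lib.Helper4.TenSec2

namespace Groth.Agent.Lib.Helper4.BCSec1

variable {A B : Type u} [CommRing A] [CommRing B] (φ : A →+* B)
variable {X X' : Scheme.{u}} [X.Over (Spec (CommRingCat.of A))] [X'.Over (Spec (CommRingCat.of B))]
variable (g : X' ⟶ X)

theorem ofHom_alphaRing (W : X.Opens) :
    CommRingCat.ofHom (alphaRing A X W) =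
      (Scheme.ΓSpecIso (CommRingCat.of A)).inv ≫
        (X ↘ Spec (CommRingCat.of A)).appLE ⊤ W le_top := rfl

/-- the pushout square of coordinate rings over the base rings -/
theorem isPushout_base
    (hsq : IsPullback g (X' ↘ Spec (CommRingCat.of B)) (X ↘ Spec (CommRingCat.of A))
      (Spec.map (CommRingCat.ofHom φ)))
    {W : X.Opens} (hW : IsAffineOpen W) :
    IsPushout (CommRingCat.ofHom φ) (CommRingCat.ofHom (alphaRing A X W))
      (CommRingCat.ofHom (alphaRing B X' (g ⁻¹ᵁ W))) (g.appLE W (g ⁻¹ᵁ W) le_rfl) := by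
  have h0 := isPushout_appLE (Spec.map (CommRingCat.ofHom φ)) (X ↘ Spec (CommRingCat.of A))
    (X' ↘ Spec (CommRingCat.of B)) g hsq.flip (isAffineOpen_top _) hW le_top
  refine h0.flip.of_iso (Scheme.ΓSpecIso (CommRingCat.of A)) (Scheme.ΓSpecIso (CommRingCat.of B))
    (Iso.refl _) (Iso.refl _) ?_ ?_ ?_ ?_
  · rw [← Scheme.Hom.app_eq_appLE]
    exact Scheme.ΓSpecIso_naturality (CommRingCat.ofHom φ)
  · rw [ofHom_alphaRing, Iso.hom_inv_id_assoc]
    exact Category.comp_id _
  · exact (Category.comp_id _).trans ((Iso.hom_inv_id_assoc (Scheme.ΓSpecIso (CommRingCat.of B))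
      ((X' ↘ Spec (CommRingCat.of B)).appLE ⊤ (g ⁻¹ᵁ W) le_top)).symm)
  · exact (Category.comp_id _).trans (Category.id_comp _).symm


section Sec
variable (F : X.Modules)
attribute [local instance] secMod

theorem unitRes_smulA
    (hw : g ≫ (X ↘ Spec (CommRingCat.of A)) =
      (X' ↘ Spec (CommRingCat.of B)) ≫ Spec.map (CommRingCat.ofHom φ))
    {W : X.Opens} {W' : X'.Opens} (e : W' ≤ g ⁻¹ᵁ W) (a : A) (s : Γ(F, W)) :
    unitRes g F e (a • s) = φ a • unitRes g F e s :=
  (Groth.Agent.Lead.FBC.unitRes_smul g F e (alphaRing A X W a) s).trans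
    (congrArg (fun r => r • unitRes g F e s) (alphaRing_appLE_gen φ g hw W W' e a))

/-- the comparison `B ⊗_A Γ(W, F) → Γ(W', g^* F)` -/
noncomputable def ups
    (hw : g ≫ (X ↘ Spec (CommRingCat.of A)) =
      (X' ↘ Spec (CommRingCat.of B)) ≫ Spec.map (CommRingCat.ofHom φ))
    {W : X.Opens} {W' : X'.Opens} (e : W' ≤ g ⁻¹ᵁ W) :
    letI := φ.toAlgebra
    B ⊗[A] Γ(F, W) →ₗ[B] Γ((Scheme.Modules.pullback g).obj F, W') :=
  letI := φ.toAlgebra
  letI : Module A Γ((Scheme.Modules.pullback g).obj F, W') := Module.compHom _ φ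
  haveI : IsScalarTower A B Γ((Scheme.Modules.pullback g).obj F, W') := ⟨fun a b n => by
    change (φ a * b) • n = φ a • b • n
    exact mul_smul _ _ _⟩
  LinearMap.liftBaseChange B
    ({ toFun := unitRes g F e
       map_add' := Groth.Agent.Lead.FBC.unitRes_add g F e
       map_smul' := fun a s => unitRes_smulA φ g F hw e a s } :
      Γ(F, W) →ₗ[A] Γ((Scheme.Modules.pullback g).obj F, W'))

theorem ups_tmul
    (hw : g ≫ (X ↘ Spec (CommRingCat.of A)) =
      (X' ↘ Spec (CommRingCat.of B)) ≫ Spec.map (CommRingCat.ofHom φ))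
    {W : X.Opens} {W' : X'.Opens} (e : W' ≤ g ⁻¹ᵁ W) (b : B) (s : Γ(F, W)) :
    letI := φ.toAlgebra
    ups φ g F hw e (b ⊗ₜ[A] s) = b • unitRes g F e s := by
  letI := φ.toAlgebra
  rfl

/-- **sections of the pullback over the preimage of an affine open are the base change of the
sections** -/
theorem isBC_base [F.IsQuasicoherent]
    (hsq : IsPullback g (X' ↘ Spec (CommRingCat.of B)) (X ↘ Spec (CommRingCat.of A))
      (Spec.map (CommRingCat.ofHom φ)))
    {W : X.Opens} (hW : IsAffineOpen W) :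
    IsBC φ (unitRes g F (le_refl (g ⁻¹ᵁ W))) := by
  letI := φ.toAlgebra
  haveI : IsAffineHom g := MorphismProperty.of_isPullback hsq.flip inferInstance
  have hpo := isPushout_base φ g hsq hW
  have h2 := isBC_unitRes g F hW (hW.preimage g) (le_refl (g ⁻¹ᵁ W))
  have h1 := isBC_tmul φ (M := Γ(F, W))
  have hbij := bijective_of_isBC_pushout φ (g.appLE W (g ⁻¹ᵁ W) le_rfl).hom (alphaRing A X W)
    (alphaRing B X' (g ⁻¹ᵁ W)) hpo (M := Γ(F, W)) (fun r m => rfl) h1 h2
    (ups φ g F hsq.w (le_refl (g ⁻¹ᵁ W))).toAddMonoidHom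
    (fun r' n => LinearMap.map_smul (ups φ g F hsq.w (le_refl (g ⁻¹ᵁ W))) r' n)
    (fun m => (ups_tmul φ g F hsq.w (le_refl (g ⁻¹ᵁ W)) 1 m).trans (one_smul _ _))
  refine IsBC.of_equiv (LinearEquiv.refl A Γ(F, W))
    (LinearEquiv.ofBijective (ups φ g F hsq.w (le_refl (g ⁻¹ᵁ W))) hbij).symm ?_ h1
  intro m
  rw [LinearEquiv.symm_apply_eq]
  exact ((ups_tmul φ g F hsq.w (le_refl (g ⁻¹ᵁ W)) 1 m).trans (one_smul _ _)).symm

/-- variant for an open equal to the preimage -/
theorem isBC_base' [F.IsQuasicoherent]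
    (hsq : IsPullback g (X' ↘ Spec (CommRingCat.of B)) (X ↘ Spec (CommRingCat.of A))
      (Spec.map (CommRingCat.ofHom φ)))
    {W : X.Opens} (hW : IsAffineOpen W) {W' : X'.Opens} (e : W' = g ⁻¹ᵁ W) :
    IsBC φ (unitRes g F e.le) := by
  subst e
  exact isBC_base φ g F hsq hW

theorem isAffineHom_of_sq
    (hsq : IsPullback g (X' ↘ Spec (CommRingCat.of B)) (X ↘ Spec (CommRingCat.of A))
      (Spec.map (CommRingCat.ofHom φ))) : IsAffineHom g :=
  MorphismProperty.of_isPullback hsq.flip inferInstance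

end Sec

end Groth.Agent.Lib.Helper4.BCSec1
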