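import Mathlib
import Groth.Prelude.Def_ega3
import Groth.Agent.Lib.Helper4.BCSec1
import Groth.Agent.Lib.Helper4.CechTen2
import Groth.Agent.Lib.Helper4.SepCover1

/-!
# Cohomology and base change for the functors T^p via Cech complexes (helper4)
-/

set_option backward.isDefEq.respectTransparency.types false
set_option synthInstance.maxHeartbeats 400000
set_option autoImplicit false
set_option linter.unusedSectionVars false
set_option linter.style.haveILetI false
set_option linter.unusedSimpArgs false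
universe u v w
open CategoryTheory
open CategoryTheory.Limits
open AlgebraicGeometry
open TopologicalSpace
open Opposite
open TensorProduct
open Groth.Agent.Helper1
open Groth.Agent.Helper1.QcCech
open Groth.Agent.Lib.Helper4.BaseChgRing1
open Groth.Agent.Lib.Helper4.TenSec2
open Groth.Agent.Lib.Helper4.LocCech1
open Groth.Agent.Lib.Helper4.CechTen1
open Groth.Agent.Lib.Helper4.CechTen2
open Groth.Agent.Lib.Helper4.BCSec1

namespace Groth.Agent.Lib.Helper4.BCSec2

variable {A B : Type u} [CommRing A] [CommRing B] (φ : A →+* B)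
variable {X X' : Scheme.{u}} [X.Over (Spec (CommRingCat.of A))] [X'.Over (Spec (CommRingCat.of B))]
variable (g : X' ⟶ X)
variable (F : X.Modules) {ι : Type u} (U : ι → X.Opens)

attribute [local instance] secMod

/-- the preimage family -/
abbrev Up : ι → X'.Opens := fun i => g ⁻¹ᵁ U i

theorem Wp_eq {n : ℕ} (a : Fin (n + 1) → ι) : TCx.W (Up g U) a = g ⁻¹ᵁ TCx.W U a := by
  rw [TCx.W_eq_iInf, TCx.W_eq_iInf]
  ext x
  simp only [Opens.coe_iInf, Set.mem_iInter, SetLike.mem_coe, Scheme.Hom.mem_preimage]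
  rw [← SetLike.mem_coe, Opens.coe_iInf]
  simp only [Set.mem_iInter, SetLike.mem_coe]

theorem iSup_Up (hcov : iSup U = ⊤) : iSup (Up g U) = ⊤ := by
  rw [eq_top_iff]
  intro x _
  have hx : g x ∈ iSup U := by rw [hcov]; trivial
  obtain ⟨i, hi⟩ := Opens.mem_iSup.1 hx
  exact Opens.mem_iSup.2 ⟨i, hi⟩

theorem isAffineOpen_Wp [IsAffineHom g]
    (haff : ∀ (n : ℕ) (a : Fin (n + 1) → ι), IsAffineOpen (TCx.W U a))
    (n : ℕ) (a : Fin (n + 1) → ι) : IsAffineOpen (TCx.W (Up g U) a) := by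
  rw [Wp_eq]
  exact (haff n a).preimage g

/-- the pulled back module -/
noncomputable abbrev Fp : X'.Modules := (Scheme.Modules.pullback g).obj F

/-- `unitRes` as an additive map -/
noncomputable def uAdd {W : X.Opens} {W' : X'.Opens} (e : W' ≤ g ⁻¹ᵁ W) : Γ(F, W) →+ Γ(Fp g F, W') :=
  AddMonoidHom.mk' (Groth.Agent.Lead.BCU.unitRes g F e) (Groth.Agent.Lead.FBC.unitRes_add g F e)

theorem uAdd_apply {W : X.Opens} {W' : X'.Opens} (e : W' ≤ g ⁻¹ᵁ W) (s : Γ(F, W)) :
    uAdd g F e s = Groth.Agent.Lead.BCU.unitRes g F e s := rfl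

theorem uAdd_res {W₁ W₂ : X.Opens} {W₁' W₂' : X'.Opens} (e₁ : W₁' ≤ g ⁻¹ᵁ W₁)
    (e₂ : W₂' ≤ g ⁻¹ᵁ W₂) (hW : W₂ ≤ W₁) (hW' : W₂' ≤ W₁') (m : Γ(F, W₁)) :
    res (Fp g F) hW' (uAdd g F e₁ m) = uAdd g F e₂ (res F hW m) :=
  Groth.Agent.Lead.FBC.unitRes_res g F e₁ e₂ hW hW' m

/-- the pullback of cochains -/
noncomputable def uCo (n : ℕ) (y : Co F U n) : Co (Fp g F) (Up g U) n :=
  fun a => uAdd g F (Wp_eq g U a).le (y a)

theorem uCo_apply (n : ℕ) (y : Co F U n) (a : Fin (n + 1) → ι) :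
    uCo g F U n y a = uAdd g F (Wp_eq g U a).le (y a) := rfl

theorem uCo_add (n : ℕ) (y y' : Co F U n) : uCo g F U n (y + y') = uCo g F U n y + uCo g F U n y' := by
  funext a
  exact map_add (uAdd g F (Wp_eq g U a).le) (y a) (y' a)

theorem uCo_Dd (n : ℕ) (y : Co F U n) :
    uCo g F U (n + 1) (Dd F U n y) = Dd (Fp g F) (Up g U) n (uCo g F U n y) := by
  funext a
  rw [uCo_apply, Dd_apply, Dd_apply, map_sum]
  refine Finset.sum_congr rfl fun k _ => ?_
  rw [map_zsmul]
  congr 1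
  exact (uAdd_res g F _ _ (TCx.W_face_le U a k) (TCx.W_face_le (Up g U) a k) _).symm

variable (hw : g ≫ (X ↘ Spec (CommRingCat.of A)) =
      (X' ↘ Spec (CommRingCat.of B)) ≫ Spec.map (CommRingCat.ofHom φ))

include hw in
theorem uCo_smulA (n : ℕ) (c : A) (y : Co F U n) :
    uCo g F U n (c • y) = φ c • uCo g F U n y := by
  funext a
  exact unitRes_smulA φ g F hw (Wp_eq g U a).le c (y a)


section Gam
variable (M' : ModuleCat.{u} B)

/-- `M'` as an `A`-module -/
noncomputable abbrev rs : ModuleCat.{u} A := (ModuleCat.restrictScalars φ).obj M'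

theorem rs_smul (c : A) (m : rs φ M') : c • m = (show rs φ M' from (φ c • (show M' from m))) := rfl

/-- the comparison in degree `n` -/
noncomputable def gamX (n : ℕ) :
    (Co F U n) ⊗[A] (rs φ M') →+ (Co (Fp g F) (Up g U) n) ⊗[B] M' :=
  TensorProduct.liftAddHom
    (AddMonoidHom.mk' (fun y : Co F U n => AddMonoidHom.mk'
      (fun m : rs φ M' => (uCo g F U n y) ⊗ₜ[B] (show M' from m))
      (fun m m' => TensorProduct.tmul_add _ _ _))
      (fun y y' => by
        ext m
        change (uCo g F U n (y + y')) ⊗ₜ[B] (show M' from m) =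
          (uCo g F U n y) ⊗ₜ[B] (show M' from m) + (uCo g F U n y') ⊗ₜ[B] (show M' from m)
        rw [uCo_add, TensorProduct.add_tmul]))
    (fun c y m => by
      change (uCo g F U n (c • y)) ⊗ₜ[B] (show M' from m) =
        (uCo g F U n y) ⊗ₜ[B] (φ c • (show M' from m))
      rw [uCo_smulA φ g F U hw, TensorProduct.smul_tmul])

theorem gamX_tmul (n : ℕ) (y : Co F U n) (m : rs φ M') :
    gamX φ g F U hw M' n (y ⊗ₜ m) = (uCo g F U n y) ⊗ₜ[B] (show M' from m) := rfl

/-- the comparison of complexes -/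
noncomputable def gamC : SC A F U (rs φ M') ⟶ SC B (Fp g F) (Up g U) M' where
  f n := AddCommGrpCat.ofHom (gamX φ g F U hw M' n)
  comm' := by
    intro i j hij
    have hij' : i + 1 = j := hij
    subst hij'
    apply ConcreteCategory.hom_ext
    intro (x : (Co F U i) ⊗[A] (rs φ M'))
    rw [ConcreteCategory.comp_apply, ConcreteCategory.comp_apply, SC_d_apply, SC_d_apply]
    symm
    change gamX φ g F U hw M' (i + 1) (LinearMap.rTensor (rs φ M') (DdA A F U i) x) =
      LinearMap.rTensor M' (DdA B (Fp g F) (Up g U) i) (gamX φ g F U hw M' i x)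
    induction x using TensorProduct.induction_on with
    | zero => rw [map_zero, map_zero, map_zero, map_zero]
    | tmul y m =>
      rw [LinearMap.rTensor_tmul, gamX_tmul, gamX_tmul, LinearMap.rTensor_tmul, DdA_apply,
        DdA_apply, uCo_Dd]
    | add x y hx hy => rw [map_add, map_add, hx, hy, map_add, map_add]

theorem gamC_f_apply (n : ℕ) (x : (Co F U n) ⊗[A] (rs φ M')) :
    ((gamC φ g F U hw M').f n).hom x = gamX φ g F U hw M' n x := rfl

end Gam

section NatG
variable {M' M'' : ModuleCat.{u} B} (h : M' ⟶ M'')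

theorem gamC_natural :
    SCmap A F U ((ModuleCat.restrictScalars φ).map h) ≫ gamC φ g F U hw M'' =
      gamC φ g F U hw M' ≫ SCmap B (Fp g F) (Up g U) h := by
  apply HomologicalComplex.hom_ext
  intro n
  apply ConcreteCategory.hom_ext
  intro (x : (Co F U n) ⊗[A] (rs φ M'))
  change gamX φ g F U hw M'' n (((SCmap A F U ((ModuleCat.restrictScalars φ).map h)).f n).hom x) =
    ((SCmap B (Fp g F) (Up g U) h).f n).hom (gamX φ g F U hw M' n x)
  rw [SCmap_apply, SCmap_apply]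
  induction x using TensorProduct.induction_on with
  | zero => rw [map_zero, map_zero, map_zero, map_zero]
  | tmul y m => rfl
  | add x y hx hy => rw [map_add, map_add, hx, hy, map_add, map_add]

end NatG


section Bij
variable [Finite ι] [F.IsQuasicoherent]
  (hsq : IsPullback g (X' ↘ Spec (CommRingCat.of B)) (X ↘ Spec (CommRingCat.of A))
      (Spec.map (CommRingCat.ofHom φ)))
  (haff : ∀ (n : ℕ) (a : Fin (n + 1) → ι), IsAffineOpen (TCx.W U a))

include haff in
theorem gamX_bijective (M' : ModuleCat.{u} B) (n : ℕ) :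
    Function.Bijective (gamX φ g F U hsq.w M' n) := by
  letI alg : Algebra A B := φ.toAlgebra
  letI modA : ∀ a : Fin (n + 1) → ι, Module A Γ(Fp g F, TCx.W (Up g U) a) :=
    fun a => Module.compHom _ φ
  haveI tower : ∀ a : Fin (n + 1) → ι, IsScalarTower A B Γ(Fp g F, TCx.W (Up g U) a) :=
    fun a => ⟨fun c b x => by
      change (φ c * b) • x = φ c • b • x
      exact mul_smul _ _ _⟩
  let uW : ∀ a : Fin (n + 1) → ι, Γ(F, TCx.W U a) →ₗ[A] Γ(Fp g F, TCx.W (Up g U) a) := fun a =>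
    { toFun := uAdd g F (Wp_eq g U a).le
      map_add' := map_add _
      map_smul' := fun c s => unitRes_smulA φ g F hsq.w (Wp_eq g U a).le c s }
  have hbW : ∀ a, IsBaseChange B (uW a) := by
    intro a
    obtain ⟨l', hl', hb⟩ := isBC_base' φ g F hsq (haff n a) (Wp_eq g U a)
    have : l' = uW a := LinearMap.ext hl'
    rw [← this]
    exact hb
  have hb := IsBaseChange.pi uW hbW
  letI modM : Module A M' := Module.compHom M' φ
  haveI : IsScalarTower A B M' := ⟨fun c b x => by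
    change (φ c * b) • x = φ c • b • x
    exact mul_smul _ _ _⟩
  let e := hb.tensorEquiv M'
  have he : ∀ (m : M') (y : Co F U n), e (m ⊗ₜ uCo g F U n y) = m ⊗ₜ y := by
    intro m y
    have h1 : uCo g F U n y = (LinearMap.pi fun a => uW a ∘ₗ LinearMap.proj a) y := rfl
    rw [h1]
    simp [e, IsBaseChange.tensorEquiv, IsBaseChange.equiv_symm_apply]
  obtain ⟨c1, hc1⟩ : ∃ c1 : (Co F U n) ⊗[A] (rs φ M') ≃+ (Co F U n) ⊗[A] M',
      ∀ (y : Co F U n) (m : rs φ M'), c1 (y ⊗ₜ m) = y ⊗ₜ[A] (show M' from m) :=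
    ⟨AddEquiv.refl _, fun y m => rfl⟩
  have key : ∀ x : (Co F U n) ⊗[A] (rs φ M'), gamX φ g F U hsq.w M' n x =
      (TensorProduct.comm B M' (Co (Fp g F) (Up g U) n))
        (e.symm ((TensorProduct.comm A (Co F U n) M') (c1 x))) := by
    intro x
    induction x using TensorProduct.induction_on with
    | zero => rw [map_zero, map_zero, map_zero, map_zero, map_zero]
    | tmul y m =>
      rw [hc1, TensorProduct.comm_tmul, ← he, LinearEquiv.symm_apply_apply,
        TensorProduct.comm_tmul]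
      rfl
    | add x y hx hy => rw [map_add, hx, hy, map_add, map_add, map_add, map_add]
  have h2 : (gamX φ g F U hsq.w M' n : _ → _) =
      (TensorProduct.comm B M' (Co (Fp g F) (Up g U) n)) ∘ e.symm ∘
        (TensorProduct.comm A (Co F U n) M') ∘ c1 := funext key
  rw [h2]
  exact (TensorProduct.comm B M' _).bijective.comp
    (e.symm.bijective.comp ((TensorProduct.comm A (Co F U n) M').bijective.comp c1.bijective))

include haff in
theorem isIso_gamC (M' : ModuleCat.{u} B) : IsIso (gamC φ g F U hsq.w M') := by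
  haveI : ∀ n, IsIso ((gamC φ g F U hsq.w M').f n) := fun n =>
    (ConcreteCategory.isIso_iff_bijective _).2 (gamX_bijective φ g F U hsq haff M' n)
  exact HomologicalComplex.Hom.isIso_of_components _

end Bij


section Cat

lemma sq_inv {C : Type*} [Category C] {X Y X' Y' : C} (e : X ≅ Y) (e' : X' ≅ Y') (f : X ⟶ X')
    (f' : Y ⟶ Y') (h : f ≫ e'.hom = e.hom ≫ f') : f' ≫ e'.inv = e.inv ≫ f := by
  rw [Iso.comp_inv_eq, Category.assoc, h, Iso.inv_hom_id_assoc]

lemma chain5 {C : Type*} [Category C] {X0 X1 X2 X3 X4 X5 Y0 Y1 Y2 Y3 Y4 Y5 : C}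
    {f0 : X0 ⟶ Y0} {f1 : X1 ⟶ Y1} {f2 : X2 ⟶ Y2} {f3 : X3 ⟶ Y3} {f4 : X4 ⟶ Y4} {f5 : X5 ⟶ Y5}
    {a : X0 ⟶ X1} {b : X1 ⟶ X2} {c : X2 ⟶ X3} {d : X3 ⟶ X4} {e : X4 ⟶ X5}
    {a' : Y0 ⟶ Y1} {b' : Y1 ⟶ Y2} {c' : Y2 ⟶ Y3} {d' : Y3 ⟶ Y4} {e' : Y4 ⟶ Y5}
    (hA : f0 ≫ a' = a ≫ f1) (hB : f1 ≫ b' = b ≫ f2) (hC : f2 ≫ c' = c ≫ f3)
    (hD : f3 ≫ d' = d ≫ f4) (hE : f4 ≫ e' = e ≫ f5) :
    f0 ≫ (a' ≫ b' ≫ c' ≫ d' ≫ e') = (a ≫ b ≫ c ≫ d ≫ e) ≫ f5 := by
  rw [reassoc_of% hA, reassoc_of% hB, reassoc_of% hC, reassoc_of% hD, hE]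
  simp only [Category.assoc]

end Cat

section NatIso
variable [Finite ι] [F.IsQuasicoherent]
  (hsq : IsPullback g (X' ↘ Spec (CommRingCat.of B)) (X ↘ Spec (CommRingCat.of A))
      (Spec.map (CommRingCat.ofHom φ)))
  (haff : ∀ (n : ℕ) (a : Fin (n + 1) → ι), IsAffineOpen (TCx.W U a))

/-- the middle step -/
noncomputable def isoG (M' : ModuleCat.{u} B) (p : ℕ) :
    (SC A F U (rs φ M')).homology p ≅ (SC B (Fp g F) (Up g U) M').homology p :=
  haveI := isIso_gamC φ g F U hsq haff M'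
  HomologicalComplex.homologyMapIso (asIso (gamC φ g F U hsq.w M')) p

theorem isoG_nat {M' M'' : ModuleCat.{u} B} (h : M' ⟶ M'') (p : ℕ) :
    HomologicalComplex.homologyMap (SCmap A F U ((ModuleCat.restrictScalars φ).map h)) p ≫
        (isoG φ g F U hsq haff M'' p).hom =
      (isoG φ g F U hsq haff M' p).hom ≫
        HomologicalComplex.homologyMap (SCmap B (Fp g F) (Up g U) h) p := by
  unfold isoG
  simp only [HomologicalComplex.homologyMapIso_hom, asIso_hom]
  rw [← HomologicalComplex.homologyMap_comp, ← HomologicalComplex.homologyMap_comp,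
    gamC_natural]

/-- the component of the base change isomorphism of Čech functors -/
noncomputable def bcM (M' : ModuleCat.{u} B) (p : ℕ) :
    (ModuleCat.restrictScalars φ ⋙ CohIII.TFun (CZ A F U) (p : ℤ) ⋙
        forget₂ (ModuleCat.{u} A) AddCommGrpCat.{u}).obj M' ≅
      (CohIII.TFun (CZ B (Fp g F) (Up g U)) (p : ℤ) ⋙
        forget₂ (ModuleCat.{u} B) AddCommGrpCat.{u}).obj M' :=
  (forget₂ (ModuleCat.{u} A) AddCommGrpCat.{u}).mapIso (isoA A F U (rs φ M') p) ≪≫
    isoB A F U (rs φ M') p ≪≫ isoG φ g F U hsq haff M' p ≪≫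
    (isoB B (Fp g F) (Up g U) M' p).symm ≪≫
    (forget₂ (ModuleCat.{u} B) AddCommGrpCat.{u}).mapIso (isoA B (Fp g F) (Up g U) M' p).symm

theorem bcM_nat {M' M'' : ModuleCat.{u} B} (h : M' ⟶ M'') (p : ℕ) :
    (ModuleCat.restrictScalars φ ⋙ CohIII.TFun (CZ A F U) (p : ℤ) ⋙
        forget₂ (ModuleCat.{u} A) AddCommGrpCat.{u}).map h ≫ (bcM φ g F U hsq haff M'' p).hom =
      (bcM φ g F U hsq haff M' p).hom ≫
        (CohIII.TFun (CZ B (Fp g F) (Up g U)) (p : ℤ) ⋙
          forget₂ (ModuleCat.{u} B) AddCommGrpCat.{u}).map h := by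
  have hA := congrArg (forget₂ (ModuleCat.{u} A) AddCommGrpCat.{u}).map
    (isoA_nat A F U p ((ModuleCat.restrictScalars φ).map h))
  rw [Functor.map_comp, Functor.map_comp] at hA
  have hB := isoB_nat A F U p ((ModuleCat.restrictScalars φ).map h)
  have hG := isoG_nat φ g F U hsq haff h p
  have hB' := sq_inv _ _ _ _ (isoB_nat B (Fp g F) (Up g U) p h)
  have hA0 := congrArg (forget₂ (ModuleCat.{u} B) AddCommGrpCat.{u}).map
    (isoA_nat B (Fp g F) (Up g U) p h)
  rw [Functor.map_comp, Functor.map_comp] at hA0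
  have hA' := sq_inv ((forget₂ (ModuleCat.{u} B) AddCommGrpCat.{u}).mapIso
      (isoA B (Fp g F) (Up g U) M' p))
    ((forget₂ (ModuleCat.{u} B) AddCommGrpCat.{u}).mapIso (isoA B (Fp g F) (Up g U) M'' p)) _ _ hA0
  exact chain5 hA hB hG hB' hA'

/-- **base change for the Čech functors** -/
noncomputable def bcCech (p : ℕ) :
    ModuleCat.restrictScalars φ ⋙ CohIII.TFun (CZ A F U) (p : ℤ) ⋙
        forget₂ (ModuleCat.{u} A) AddCommGrpCat.{u} ≅
      CohIII.TFun (CZ B (Fp g F) (Up g U)) (p : ℤ) ⋙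
        forget₂ (ModuleCat.{u} B) AddCommGrpCat.{u} :=
  NatIso.ofComponents (fun M' => bcM φ g F U hsq haff M' p)
    (fun h => bcM_nat φ g F U hsq haff h p)

end NatIso


section Main
variable [Finite ι] [F.IsQuasicoherent]
  (hsq : IsPullback g (X' ↘ Spec (CommRingCat.of B)) (X ↘ Spec (CommRingCat.of A))
      (Spec.map (CommRingCat.ofHom φ)))
  (haff : ∀ (n : ℕ) (a : Fin (n + 1) → ι), IsAffineOpen (TCx.W U a)) (hcov : iSup U = ⊤)

include hsq in
theorem isQuasicoherent_Fp : (Fp g F).IsQuasicoherent :=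
  Groth.Agent.Lead.PB.isQuasicoherent_pullback _ _

/-- **cohomology and base change, in terms of the functors `T^p`**: for a cartesian square over
`Spec B → Spec A`, the functor `M' ↦ H^p(X', g^*F ⊗_B M')` on `B`-modules is `M' ↦ H^p(X, F ⊗_A M')` -/
noncomputable def bcIso (p : ℕ) :
    ModuleCat.restrictScalars φ ⋙ CohIII.tensorAFunctor A F ⋙ CohIII.HAb X p ≅
      CohIII.tensorAFunctor B (Fp g F) ⋙ CohIII.HAb X' p :=
  haveI : IsAffineHom g := isAffineHom_of_sq φ g hsq
  haveI : (Fp g F).IsQuasicoherent := Groth.Agent.Lead.PB.isQuasicoherent_pullback _ _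
  Functor.isoWhiskerLeft (ModuleCat.restrictScalars φ) (cechNatIso A F U haff hcov p).symm ≪≫
    bcCech φ g F U hsq haff p ≪≫
    cechNatIso B (Fp g F) (Up g U) (isAffineOpen_Wp g U haff) (iSup_Up g U hcov) p

end Main

section Exists
variable [F.IsQuasicoherent]
  (hsq : IsPullback g (X' ↘ Spec (CommRingCat.of B)) (X ↘ Spec (CommRingCat.of A))
      (Spec.map (CommRingCat.ofHom φ)))

include hsq in
theorem exists_bcIso [IsSeparated (X ↘ Spec (CommRingCat.of A))] [CompactSpace X] (p : ℕ) :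
    Nonempty (ModuleCat.restrictScalars φ ⋙ CohIII.tensorAFunctor A F ⋙ CohIII.HAb X p ≅
      CohIII.tensorAFunctor B (Fp g F) ⋙ CohIII.HAb X' p) := by
  obtain ⟨ι, hfin, U, hcov, haff⟩ :=
    Groth.Agent.Lib.Helper4.SepCover1.exists_cover (X ↘ Spec (CommRingCat.of A))
  exact ⟨bcIso φ g F U hsq haff hcov p⟩

end Exists

end Groth.Agent.Lib.Helper4.BCSec2
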