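import Mathlib
import Groth.Agent.Lib.Helper5.DRing.PCBuild
import Groth.Agent.Lib.Helper5.DRing.PCNoeth
import Groth.Agent.Lib.Helper5.TorAmp.FlatAcyc
import Groth.Agent.Lib.Helper5.TorAmp.FlatTrunc
import Groth.Agent.Lib.Helper5.DRing.ConeEl

/-!
# Mumford's lemma (finite free bounded above model) and universal quasi-isomorphisms of flat complexes (helper4)
-/

set_option backward.isDefEq.respectTransparency.types false
set_option synthInstance.maxHeartbeats 400000
set_option autoImplicit false
set_option linter.unusedSectionVars false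
set_option linter.style.haveILetI false
set_option linter.unusedSimpArgs false
universe u v w
open CategoryTheory
open CategoryTheory.Limits
open DerivedCategory

namespace Groth.Agent.Lib.Helper4.MumCx1

variable {R : Type u} [CommRing R]

attribute [local instance] HasDerivedCategory.standard

/-- **Mumford's lemma**: a complex over a Noetherian ring with finite cohomology, vanishing above `b`,
is quasi-isomorphic to a complex of finite free modules vanishing above `b`. -/
theorem exists_mumford [IsNoetherianRing R] (L : CochainComplex (ModuleCat.{u} R) ℤ)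
    (hfin : ∀ i, Module.Finite R (L.homology i)) (b : ℤ) (hb : ∀ i, b < i → L.ExactAt i) :
    ∃ (K : CochainComplex (ModuleCat.{u} R) ℤ) (α : K ⟶ L), QuasiIso α ∧
      (∀ i, Module.Finite R (K.X i) ∧ Module.Free R (K.X i)) ∧ (∀ i, b < i → IsZero (K.X i)) := by
  have hpc : ∀ m, DRing.IsPseudoCoherent R m (DRing.toD L) := by
    intro m
    rw [Groth.Agent.Helper5.PCDev.pc_iff_noetherian]
    refine ⟨⟨b, fun i hi => ?_⟩, fun i _ => ?_⟩
    · have hz : IsZero (L.homology i) := by
        rw [← HomologicalComplex.exactAt_iff_isZero_homology]; exact hb i hi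
      exact ModuleCat.subsingleton_of_isZero
        (hz.of_iso ((homologyFunctorFactors (ModuleCat.{u} R) i).app L))
    · haveI : Module.Finite R ((HomologicalComplex.homologyFunctor (ModuleCat.{u} R)
          (ComplexShape.up ℤ) i).obj L) := hfin i
      exact Module.Finite.equiv
        ((homologyFunctorFactors (ModuleCat.{u} R) i).app L).symm.toLinearEquiv
  let s₀ := Groth.Agent.Helper5.PCBuild.stage0 L b hb
  refine ⟨Groth.Agent.Helper5.PCBuild.Finf hpc s₀, Groth.Agent.Helper5.PCBuild.αinf hpc s₀, ?_,
    Groth.Agent.Helper5.PCBuild.finiteFree_Finf hpc s₀,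
    Groth.Agent.Helper5.PCBuild.vanishesAbove_Finf hpc s₀⟩
  rw [Groth.Agent.Helper5.FlatAcyc.quasiIso_iff_acyclic_cone]
  intro i
  exact Groth.Agent.Helper5.PCBuild.exactAt_cone_αinf hpc s₀ i


open Groth.Agent.Helper5.FlatAcyc

/-- flatness of cycles from universal exactness two steps to the left -/
theorem flat_ker_of_universal (X : CochainComplex (ModuleCat.{u} R) ℤ) (hX : X.Acyclic)
    (hflat : ∀ i, Module.Flat R (X.X i)) (i : ℤ)
    (hT : ∀ I : Ideal R, ((TM (ModuleCat.of R (R ⧸ I))).obj X).ExactAt (i - 1 - 1)) :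
    Module.Flat R (LinearMap.ker (X.d i (i + 1)).hom) := by
  have h1 := exact_of_exactAt X (i - 1 - 1 - 1) (i - 1 - 1) (i - 1) (by omega) (by omega) (hX _)
  have h2 := exact_of_exactAt X (i - 1 - 1) (i - 1) i (by omega) (by omega) (hX _)
  have h3 := exact_of_exactAt X (i - 1) i (i + 1) (by omega) rfl (hX _)
  have hY : ∀ I : Ideal R, Function.Exact ((X.d (i - 1 - 1 - 1) (i - 1 - 1)).hom.rTensor (R ⧸ I))
      ((X.d (i - 1 - 1) (i - 1)).hom.rTensor (R ⧸ I)) := fun I =>
    exact_of_exactAt ((TM (ModuleCat.of R (R ⧸ I))).obj X) (i - 1 - 1 - 1) (i - 1 - 1) (i - 1)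
      (by omega) (by omega) (hT I)
  haveI := hflat (i - 1)
  haveI := flat_quotient_range _ _ h1 hY
  have e1 : LinearMap.range (X.d (i - 1 - 1) (i - 1)).hom = LinearMap.ker (X.d (i - 1) i).hom :=
    (LinearMap.exact_iff.1 h2).symm
  have e2 : LinearMap.range (X.d (i - 1) i).hom = LinearMap.ker (X.d i (i + 1)).hom :=
    (LinearMap.exact_iff.1 h3).symm
  exact Module.Flat.of_linearEquiv
    ((LinearEquiv.ofEq _ _ e2.symm).trans
      (((X.d (i - 1) i).hom.quotKerEquivRange).symm.trans
        (Submodule.quotEquivOfEq _ _ e1.symm)))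

/-- the cycle submodules of an acyclic complex of flat modules are flat, if they are in high
degrees -/
theorem flat_cycles' (X : CochainComplex (ModuleCat.{u} R) ℤ) (hX : X.Acyclic)
    (hflat : ∀ i, Module.Flat R (X.X i)) (b : ℤ)
    (hb : ∀ i, b < i → Module.Flat R (LinearMap.ker (X.d i (i + 1)).hom)) :
    ∀ i : ℤ, Module.Flat R (LinearMap.ker (X.d i (i + 1)).hom) := by
  have key : ∀ (n : ℕ) (i : ℤ), b < i + n → Module.Flat R (LinearMap.ker (X.d i (i + 1)).hom) := by
    intro n
    induction n with
    | zero =>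
      intro i hi
      exact hb i (by simpa using hi)
    | succ n ih =>
      intro i hi
      have h1 := ih (i + 1) (by push_cast at hi; omega)
      have hex := exact_of_exactAt X i (i + 1) (i + 1 + 1) rfl rfl (hX _)
      have := hflat i
      exact (ker_flat_of_range (X.d i (i + 1)).hom _
        (LinearMap.exact_iff.1 hex).symm).1
  intro i
  exact key (b - i + 1).toNat i (by omega)

theorem acyclic_tensor' (X : CochainComplex (ModuleCat.{u} R) ℤ) (hX : X.Acyclic)
    (hflat : ∀ i, Module.Flat R (X.X i)) (b : ℤ)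
    (hb : ∀ i, b < i → Module.Flat R (LinearMap.ker (X.d i (i + 1)).hom))
    (M : ModuleCat.{u} R) : ((TM M).obj X).Acyclic := by
  intro j
  refine exactAt_of_exact _ (j - 1) j (j + 1) (by omega) rfl ?_
  rw [TM_d_hom, TM_d_hom]
  have hex := exact_of_exactAt X (j - 1) j (j + 1) (by omega) rfl (hX _)
  have hex1 := exact_of_exactAt X j (j + 1) (j + 1 + 1) rfl rfl (hX _)
  have hex2 := exact_of_exactAt X (j + 1) (j + 1 + 1) (j + 1 + 1 + 1) rfl rfl (hX _)
  have := hflat (j + 1)
  have := flat_cycles' X hX hflat b hb (j + 1 + 1)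
  have hinj := (ker_flat_of_range (X.d (j + 1) (j + 1 + 1)).hom _
        (LinearMap.exact_iff.1 hex2).symm).2 M
  exact rTensor_exact_of_range _ _ hex _ (LinearMap.exact_iff.1 hex1).symm M hinj

/-- an acyclic complex of flat modules that is universally exact in high degrees is universally
exact -/
theorem acyclic_tensor_of_universal (X : CochainComplex (ModuleCat.{u} R) ℤ) (hX : X.Acyclic)
    (hflat : ∀ i, Module.Flat R (X.X i)) (b : ℤ)
    (hT : ∀ (I : Ideal R) (i : ℤ), b < i → ((TM (ModuleCat.of R (R ⧸ I))).obj X).ExactAt i)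
    (M : ModuleCat.{u} R) : ((TM M).obj X).Acyclic :=
  acyclic_tensor' X hX hflat (b + 2)
    (fun i hi => flat_ker_of_universal X hX hflat i (fun I => hT I _ (by omega))) M


/-- **Theorem M**: a quasi-isomorphism from a bounded above complex of flat modules to a complex
of flat modules whose tensor products are all exact in high degrees stays a quasi-isomorphism
after tensoring with any module. -/
theorem quasiIso_tensor_of_universal {P E : CochainComplex (ModuleCat.{u} R) ℤ} (f : P ⟶ E)
    (hf : QuasiIso f) (hP : ∀ i, Module.Flat R (P.X i)) (hE : ∀ i, Module.Flat R (E.X i)) (b : ℤ)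
    (hPb : ∀ i, b < i → IsZero (P.X i))
    (hEb : ∀ (I : Ideal R) (i : ℤ), b < i →
      ((TM (ModuleCat.of R (R ⧸ I))).obj E).ExactAt i)
    (M : ModuleCat.{u} R) : QuasiIso ((TM M).map f) := by
  rw [quasiIso_iff_acyclic_cone] at hf ⊢
  have hT : ∀ (I : Ideal R) (i : ℤ), b < i →
      ((TM (ModuleCat.of R (R ⧸ I))).obj (CochainComplex.mappingCone f)).ExactAt i := by
    intro I i hi
    refine HomologicalComplex.ExactAt.of_iso ?_
      (CochainComplex.mappingCone.mapHomologicalComplexIso f
        (MonoidalCategory.tensorRight (ModuleCat.of R (R ⧸ I)))).symm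
    rw [Groth.Agent.Helper5.ConeEl.exactAt_cone_iff _ (i - 1) i (i + 1) (i + 1 + 1) (by omega) rfl rfl]
    intro x g _ hg
    have hz : ∀ j, b < j → ∀ y : ((TM (ModuleCat.of R (R ⧸ I))).obj P).X j, y = 0 := by
      intro j hj y
      have : IsZero (((TM (ModuleCat.of R (R ⧸ I))).obj P).X j) :=
        Functor.map_isZero (MonoidalCategory.tensorRight (ModuleCat.of R (R ⧸ I))) (hPb j hj)
      have := ModuleCat.subsingleton_of_isZero this
      exact Subsingleton.elim _ _
    have hdg : (((TM (ModuleCat.of R (R ⧸ I))).obj E).d i (i + 1)).hom g = 0 := by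
      rw [hz _ (by omega) x, map_zero, zero_add] at hg
      exact hg
    have hE' := exact_of_exactAt ((TM (ModuleCat.of R (R ⧸ I))).obj E) (i - 1) i (i + 1) (by omega)
      rfl (hEb I i hi)
    obtain ⟨g', hg'⟩ := (hE' g).1 hdg
    exact ⟨0, g', by rw [map_zero, neg_zero]; exact (hz _ (by omega) x).symm,
      by rw [map_zero, zero_add, hg']⟩
  have h1 := acyclic_tensor_of_universal _ hf (flat_cone f hP hE) b hT M
  intro n
  exact (h1 n).of_iso (CochainComplex.mappingCone.mapHomologicalComplexIso f
    (MonoidalCategory.tensorRight M))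

end Groth.Agent.Lib.Helper4.MumCx1
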