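import Mathlib
import Groth.Prelude.Def_ega3
import Groth.Agent.Lib.Helper4.CechTen3
import Groth.Agent.Lib.Helper4.MumCx1
import Groth.Agent.Lib.Helper4.SepCover1

/-!
# Mumford's complex for a coherent sheaf flat over a Noetherian affine base (helper4)
-/

set_option backward.isDefEq.respectTransparency.types false
set_option synthInstance.maxHeartbeats 400000
set_option autoImplicit false
set_option linter.unusedSectionVars false
set_option linter.style.haveILetI false
set_option linter.unusedSimpArgs false
universe u v w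
open CategoryTheory
open CategoryTheory.Limits
open AlgebraicGeometry
open TopologicalSpace
open Opposite
open TensorProduct
open Groth.Agent.Helper1
open Groth.Agent.Lib.Helper4.TenSec2
open Groth.Agent.Lib.Helper4.CechTen1
open Groth.Agent.Lib.Helper4.CechTen2
open Groth.Agent.Lib.Helper4.CechTen3
open Groth.Agent.Lib.Helper4.MumCx1
open Groth.Agent.Helper5.FlatAcyc

namespace Groth.Agent.Lib.Helper4.MumCx2

section Alg
variable {R : Type u} [CommRing R] {ι : Type} {c : ComplexShape ι}

/-- `f ⊗ M` -/
noncomputable abbrev tensorHom {P E : HomologicalComplex (ModuleCat.{u} R) c} (f : P ⟶ E)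
    (M : ModuleCat.{u} R) : CohIII.tensorObj P M ⟶ CohIII.tensorObj E M :=
  ((MonoidalCategory.tensorRight M).mapHomologicalComplex c).map f

theorem tensorHom_nat {P E : HomologicalComplex (ModuleCat.{u} R) c} (f : P ⟶ E)
    {M M' : ModuleCat.{u} R} (g : M ⟶ M') :
    CohIII.tensorMap P g ≫ tensorHom f M' = tensorHom f M ≫ CohIII.tensorMap E g :=
  ((NatTrans.mapHomologicalComplex
    ((MonoidalCategory.tensoringRight (ModuleCat.{u} R)).map g) c).naturality f).symm

/-- a universal quasi-isomorphism induces an isomorphism of the functors `T^p` -/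
noncomputable def TFunIso {P E : HomologicalComplex (ModuleCat.{u} R) c} (f : P ⟶ E)
    (h : ∀ M : ModuleCat.{u} R, QuasiIso (tensorHom f M)) (p : ι) :
    CohIII.TFun P p ≅ CohIII.TFun E p :=
  NatIso.ofComponents
    (fun M => @asIso _ _ _ _ (HomologicalComplex.homologyMap (tensorHom f M) p)
      ((quasiIsoAt_iff_isIso_homologyMap _ _).1 ((h M).quasiIsoAt p)))
    (fun {M M'} g => by
      change HomologicalComplex.homologyMap (CohIII.tensorMap P g) p ≫
          HomologicalComplex.homologyMap (tensorHom f M') p =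
        HomologicalComplex.homologyMap (tensorHom f M) p ≫
          HomologicalComplex.homologyMap (CohIII.tensorMap E g) p
      rw [← HomologicalComplex.homologyMap_comp, ← HomologicalComplex.homologyMap_comp,
        tensorHom_nat])

end Alg


section Geo
variable (A : Type u) [CommRing A] {X : Scheme.{u}} [X.Over (Spec (CommRingCat.of A))]
variable (F : X.Modules) {ι : Type u} (U : ι → X.Opens)

attribute [local instance] secMod

theorem flat_CZ [Finite ι] [F.IsQuasicoherent]
    (hfl : FlatMod.IsFlatOver (X ↘ Spec (CommRingCat.of A)) F)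
    (haff : ∀ (n : ℕ) (a : Fin (n + 1) → ι), IsAffineOpen (TCx.W U a)) (i : ℤ) :
    Module.Flat A ((CZ A F U).X i) := by
  by_cases hi : 0 ≤ i
  · obtain ⟨q, rfl⟩ := Int.eq_ofNat_of_zero_le hi
    haveI := flat_CAN A F U hfl haff q
    exact Module.Flat.of_linearEquiv ((CAN A F U).extendXIso ComplexShape.embeddingUpNat
      (i := q) (i' := (q : ℤ)) rfl).toLinearEquiv
  · have hz : IsZero ((CZ A F U).X i) := by
      apply HomologicalComplex.isZero_extend_X
      intro j hj
      apply hi
      rw [← hj]
      exact Int.natCast_nonneg j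
    haveI := ModuleCat.subsingleton_of_isZero hz
    infer_instance

theorem exactAt_tensor_CZ_neg (M : ModuleCat.{u} A) (i : ℤ) (hi : i < 0) :
    (CohIII.tensorObj (CZ A F U) M).ExactAt i := by
  refine HomologicalComplex.ExactAt.of_iso ?_
    (Groth.Agent.Helper3.MapExtend.mapExtendIso (MonoidalCategory.tensorRight M) (CAN A F U)
      ComplexShape.embeddingUpNat).symm
  apply HomologicalComplex.extend_exactAt
  intro j hj
  have : (0 : ℤ) ≤ i := by rw [← hj]; exact Int.natCast_nonneg j
  omega


theorem exactAt_tensor_CZ [Finite ι] [F.IsQuasicoherent]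
    (haff : ∀ (n : ℕ) (a : Fin (n + 1) → ι), IsAffineOpen (TCx.W U a)) (hcov : iSup U = ⊤)
    (d : ℕ) (hd : ∀ (G : X.Modules) [G.IsQuasicoherent] (n : ℕ), d ≤ n →
      Subsingleton (Coh.HH X G n))
    (M : ModuleCat.{u} A) (i : ℤ) (hi : (d : ℤ) < i) :
    (CohIII.tensorObj (CZ A F U) M).ExactAt i := by
  obtain ⟨q, rfl⟩ := Int.eq_ofNat_of_zero_le (by omega : 0 ≤ i)
  rw [HomologicalComplex.exactAt_iff_isZero_homology]
  have e := isoM A F U M q haff hcov
  haveI : Subsingleton ((CohIII.tensorAFunctor A F ⋙ CohIII.HAb X q).obj M) :=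
    hd (Psi A F M) q (by omega)
  haveI : Subsingleton ((CohIII.tensorObj (CZ A F U) M).homology (q : ℤ)) :=
    e.addCommGroupIsoToAddEquiv.subsingleton
  exact ModuleCat.isZero_of_subsingleton _

end Geo

section Main
variable (A : Type u) [CommRing A] [IsNoetherianRing A] (X : Scheme.{u})
  [X.Over (Spec (CommRingCat.of A))] [IsProper (X ↘ Spec (CommRingCat.of A))]
  (F : X.Modules) (hF : Coh.IsCoh F) (hfl : FlatMod.IsFlatOver (X ↘ Spec (CommRingCat.of A)) F)

attribute [local instance] secMod

include hF hfl in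
/-- **Mumford's complex**: the cohomology of `F ⊗_A M` is computed, naturally in `M`, by a bounded above
complex of finite free modules. -/
theorem exists_mumford_complex :
    ∃ K : CochainComplex (ModuleCat.{u} A) ℤ,
      (∀ i, Module.Finite A (K.X i) ∧ Module.Free A (K.X i)) ∧
      (∃ b : ℤ, ∀ i, b < i → IsZero (K.X i)) ∧
      (∀ (M : ModuleCat.{u} A) (i : ℤ), i < 0 → IsZero ((CohIII.TFun K i).obj M)) ∧
      ∀ p : ℕ, Nonempty (CohIII.TFun K (p : ℤ) ⋙ forget₂ (ModuleCat.{u} A) AddCommGrpCat.{u} ≅
        CohIII.tensorAFunctor A F ⋙ CohIII.HAb X p) := by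
  haveI : F.IsQuasicoherent := hF.1
  haveI : IsLocallyNoetherian X :=
    LocallyOfFiniteType.isLocallyNoetherian (X ↘ Spec (CommRingCat.of A))
  haveI : CompactSpace X := QuasiCompact.compactSpace_of_compactSpace (X ↘ Spec (CommRingCat.of A))
  haveI : IsNoetherian X := {}
  obtain ⟨ι, hfin, U, hcov, haff⟩ :=
    Groth.Agent.Lib.Helper4.SepCover1.exists_cover (X ↘ Spec (CommRingCat.of A))
  obtain ⟨d, hd⟩ := exists_bound_HH (X := X)
  have hb : ∀ i : ℤ, (d : ℤ) < i → (CZ A F U).ExactAt i := by
    intro i hi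
    obtain ⟨q, rfl⟩ := Int.eq_ofNat_of_zero_le (by omega : 0 ≤ i)
    rw [HomologicalComplex.exactAt_iff_isZero_homology]
    haveI : Subsingleton (Coh.HH X F q) := hd F q (by omega)
    haveI : Subsingleton ((CAN A F U).homology q) :=
      (linHH A F U haff hcov q).toEquiv.subsingleton
    exact (ModuleCat.isZero_of_subsingleton _).of_iso
      ((CAN A F U).extendHomologyIso ComplexShape.embeddingUpNat (j := q) (j' := (q : ℤ)) rfl)
  obtain ⟨K, α, hq, hff, hvan⟩ := exists_mumford (CZ A F U)
    (fun i => finite_CZ A F U haff hcov hF i) d hb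
  have hKflat : ∀ i, Module.Flat A (K.X i) := fun i => by
    haveI := (hff i).1
    haveI := (hff i).2
    infer_instance
  have huniv : ∀ M : ModuleCat.{u} A, QuasiIso (tensorHom α M) := fun M =>
    quasiIso_tensor_of_universal α hq hKflat (flat_CZ A F U hfl haff) d hvan
      (fun I i hi => exactAt_tensor_CZ A F U haff hcov d hd _ i hi) M
  refine ⟨K, hff, ⟨d, hvan⟩, ?_, ?_⟩
  · intro M i hi
    have h1 : IsZero ((CohIII.TFun (CZ A F U) i).obj M) := by
      change IsZero ((CohIII.tensorObj (CZ A F U) M).homology i)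
      rw [← HomologicalComplex.exactAt_iff_isZero_homology]
      exact exactAt_tensor_CZ_neg A F U M i hi
    exact h1.of_iso ((TFunIso α huniv i).app M)
  · intro p
    exact ⟨Functor.isoWhiskerRight (TFunIso α huniv (p : ℤ)) _ ≪≫ cechNatIso A F U haff hcov p⟩

end Main

end Groth.Agent.Lib.Helper4.MumCx2
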