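import Mathlib
import Groth.Prelude.Def_ega3
import Groth.Agent.Lib.Helper4.BCSec2
import Groth.Agent.Lib.Helper4.MumCx2
import Groth.Agent.Lib.Helper4.CechTen3

/-!
# Mumford's complex with its comparison data; cohomology of base changes and fibres via the Cech complex (helper4)
-/

set_option backward.isDefEq.respectTransparency.types false
set_option synthInstance.maxHeartbeats 400000
set_option autoImplicit false
set_option linter.unusedSectionVars false
set_option linter.style.haveILetI false
set_option linter.unusedSimpArgs false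
universe u v w
open CategoryTheory
open CategoryTheory.Limits
open AlgebraicGeometry
open TopologicalSpace
open Opposite
open TensorProduct
open MonoidalCategory
open Groth.Agent.Helper1
open Groth.Agent.Lib.Helper4.BaseChgRing1
open Groth.Agent.Lib.Helper4.TenSec2
open Groth.Agent.Lib.Helper4.LocCech1
open Groth.Agent.Lib.Helper4.CechTen1
open Groth.Agent.Lib.Helper4.CechTen2
open Groth.Agent.Lib.Helper4.CechTen3
open Groth.Agent.Lib.Helper4.BCSec1
open Groth.Agent.Lib.Helper4.BCSec2
open Groth.Agent.Lib.Helper4.MumCx1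
open Groth.Agent.Lib.Helper4.MumCx2

namespace Groth.Agent.Lib.Helper4.MumBC1

section Data
variable (A : Type u) [CommRing A] [IsNoetherianRing A] (X : Scheme.{u})
  [X.Over (Spec (CommRingCat.of A))] [IsProper (X ↘ Spec (CommRingCat.of A))]
  (F : X.Modules) (hF : Coh.IsCoh F) (hfl : FlatMod.IsFlatOver (X ↘ Spec (CommRingCat.of A)) F)

attribute [local instance] secMod

include hF hfl in
/-- **Mumford's complex, with its comparison data** -/
theorem exists_mumford_data :
    ∃ (ι : Type u) (_ : Finite ι) (U : ι → X.Opens) (_ : iSup U = ⊤)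
      (_ : ∀ (n : ℕ) (a : Fin (n + 1) → ι), IsAffineOpen (TCx.W U a))
      (K : CochainComplex (ModuleCat.{u} A) ℤ) (α : K ⟶ CZ A F U),
      QuasiIso α ∧ (∀ i, Module.Finite A (K.X i) ∧ Module.Free A (K.X i)) ∧
      (∃ b : ℤ, ∀ i, b < i → IsZero (K.X i)) ∧
      (∀ M : ModuleCat.{u} A, QuasiIso (tensorHom α M)) := by
  haveI : F.IsQuasicoherent := hF.1
  haveI : IsLocallyNoetherian X :=
    LocallyOfFiniteType.isLocallyNoetherian (X ↘ Spec (CommRingCat.of A))
  haveI : CompactSpace X := QuasiCompact.compactSpace_of_compactSpace (X ↘ Spec (CommRingCat.of A))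
  haveI : IsNoetherian X := {}
  obtain ⟨ι, hfin, U, hcov, haff⟩ :=
    Groth.Agent.Lib.Helper4.SepCover1.exists_cover (X ↘ Spec (CommRingCat.of A))
  obtain ⟨d, hd⟩ := exists_bound_HH (X := X)
  have hb : ∀ i : ℤ, (d : ℤ) < i → (CZ A F U).ExactAt i := by
    intro i hi
    obtain ⟨q, rfl⟩ := Int.eq_ofNat_of_zero_le (by omega : 0 ≤ i)
    rw [HomologicalComplex.exactAt_iff_isZero_homology]
    haveI : Subsingleton (Coh.HH X F q) := hd F q (by omega)
    haveI : Subsingleton ((CAN A F U).homology q) :=
      (linHH A F U haff hcov q).toEquiv.subsingleton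
    exact (ModuleCat.isZero_of_subsingleton _).of_iso
      ((CAN A F U).extendHomologyIso ComplexShape.embeddingUpNat (j := q) (j' := (q : ℤ)) rfl)
  obtain ⟨K, α, hq, hff, hvan⟩ := exists_mumford (CZ A F U)
    (fun i => finite_CZ A F U haff hcov hF i) d hb
  have hKflat : ∀ i, Module.Flat A (K.X i) := fun i => by
    haveI := (hff i).1
    haveI := (hff i).2
    infer_instance
  have huniv : ∀ M : ModuleCat.{u} A, QuasiIso (tensorHom α M) := fun M =>
    quasiIso_tensor_of_universal α hq hKflat (flat_CZ A F U hfl haff) d hvan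
      (fun I i hi => exactAt_tensor_CZ A F U haff hcov d hd _ i hi) M
  exact ⟨ι, hfin, U, hcov, haff, K, α, hq, hff, ⟨d, hvan⟩, huniv⟩

end Data


section HH

/-- the right unitor for complexes -/
noncomputable def runitG {R : Type u} [CommRing R] {ι' : Type} {c : ComplexShape ι'}
    (P : HomologicalComplex (ModuleCat.{u} R) c) :
    CohIII.tensorObj P (𝟙_ (ModuleCat.{u} R)) ≅ P :=
  HomologicalComplex.Hom.isoOfComponents (fun i => ρ_ (P.X i))
    (fun i j _ => (MonoidalCategory.rightUnitor_naturality (P.d i j)).symm)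

variable {A B : Type u} [CommRing A] [CommRing B] (φ : A →+* B)
variable {X X' : Scheme.{u}} [X.Over (Spec (CommRingCat.of A))] [X'.Over (Spec (CommRingCat.of B))]
variable (g : X' ⟶ X) (F : X.Modules) {ι : Type u} (U : ι → X.Opens)
variable [Finite ι] [F.IsQuasicoherent]
  (hsq : IsPullback g (X' ↘ Spec (CommRingCat.of B)) (X ↘ Spec (CommRingCat.of A))
      (Spec.map (CommRingCat.ofHom φ)))
  (haff : ∀ (n : ℕ) (a : Fin (n + 1) → ι), IsAffineOpen (TCx.W U a)) (hcov : iSup U = ⊤)

attribute [local instance] secMod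

/-- **cohomology of the base change**, in terms of the Čech complex of `F`:
`H^p(X', g^*F) ≅ H^p(C(U, F) ⊗_A B)` -/
noncomputable def hhBC (p : ℕ) :
    Coh.HH X' (Fp g F) p ≃+
      ((CohIII.TFun (CZ A F U) (p : ℤ)).obj (rs φ (𝟙_ (ModuleCat.{u} B)))) :=
  haveI : IsAffineHom g := isAffineHom_of_sq φ g hsq
  haveI : (Fp g F).IsQuasicoherent := Groth.Agent.Lead.PB.isQuasicoherent_pullback _ _
  let e1 := (linHH B (Fp g F) (Up g U) (isAffineOpen_Wp g U haff) (iSup_Up g U hcov) p).symm.toAddEquiv
  let e2 := ((HomologicalComplex.homologyMapIso (runitG (CAN B (Fp g F) (Up g U))) p).symm ≪≫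
    (isoA B (Fp g F) (Up g U) (𝟙_ (ModuleCat.{u} B)) p).symm).toLinearEquiv.toAddEquiv
  let e3 := (bcM φ g F U hsq haff (𝟙_ (ModuleCat.{u} B)) p).symm.addCommGroupIsoToAddEquiv
  (e1.trans e2).trans e3

end HH


section Fibre
variable (A : Type u) [CommRing A] (y : ↑(Spec (CommRingCat.of A)))

/-- the structure map of the residue field at a point of `Spec A` -/
noncomputable def phiY : A →+* (Spec (CommRingCat.of A)).residueField y :=
  (Spec.preimage ((Spec (CommRingCat.of A)).fromSpecResidueField y)).hom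

theorem map_phiY : Spec.map (CommRingCat.ofHom (phiY A y)) =
    (Spec (CommRingCat.of A)).fromSpecResidueField y :=
  Spec.map_preimage _

theorem ker_phiY : RingHom.ker (phiY A y) = y.asIdeal := by
  let s : Spec ((Spec (CommRingCat.of A)).residueField y) := ⟨⊥, Ideal.isPrime_bot⟩
  have h1 := Scheme.fromSpecResidueField_apply y s
  rw [← map_phiY, Spec.map_apply] at h1
  have h2 := congrArg PrimeSpectrum.asIdeal h1
  rw [← h2]
  rfl

variable {X : Scheme.{u}} [X.Over (Spec (CommRingCat.of A))]

/-- the fibre square, over the ring map to the residue field -/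
theorem isPullback_fiber :
    IsPullback ((X ↘ Spec (CommRingCat.of A)).fiberι y)
      ((X ↘ Spec (CommRingCat.of A)).fiberToSpecResidueField y)
      (X ↘ Spec (CommRingCat.of A)) (Spec.map (CommRingCat.ofHom (phiY A y))) := by
  have h := IsPullback.of_hasPullback (X ↘ Spec (CommRingCat.of A))
    ((Spec (CommRingCat.of A)).fromSpecResidueField y)
  exact (congrArg (fun z => IsPullback ((X ↘ Spec (CommRingCat.of A)).fiberι y)
    ((X ↘ Spec (CommRingCat.of A)).fiberToSpecResidueField y)
    (X ↘ Spec (CommRingCat.of A)) z) (map_phiY A y)).mpr h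

variable (F : X.Modules) {ι : Type u} (U : ι → X.Opens)
variable [Finite ι] [F.IsQuasicoherent]
  (haff : ∀ (n : ℕ) (a : Fin (n + 1) → ι), IsAffineOpen (TCx.W U a)) (hcov : iSup U = ⊤)

attribute [local instance] secMod

/-- **cohomology of the fibre**, in terms of the Čech complex of `F` -/
noncomputable def fibBC (p : ℕ) :
    CohIII.fiberH (X ↘ Spec (CommRingCat.of A)) F y p ≃+
      ((CohIII.TFun (CZ A F U) (p : ℤ)).obj (rs (phiY A y)
        (𝟙_ (ModuleCat.{u} ((Spec (CommRingCat.of A)).residueField y))))) :=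
  letI : ((X ↘ Spec (CommRingCat.of A)).fiber y).Over
      (Spec (CommRingCat.of ((Spec (CommRingCat.of A)).residueField y))) :=
    CohIII.fiberOver (X ↘ Spec (CommRingCat.of A)) y
  hhBC (phiY A y) ((X ↘ Spec (CommRingCat.of A)).fiberι y) F U (isPullback_fiber A y) haff hcov p

end Fibre

end Groth.Agent.Lib.Helper4.MumBC1
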