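import Mathlib

/-!
# Tensoring with a finite projective module as Hom out of the dual; commutation with arbitrary products (helper4)
-/

set_option backward.isDefEq.respectTransparency.types false
set_option synthInstance.maxHeartbeats 400000
set_option autoImplicit false
set_option linter.unusedSectionVars false
set_option linter.style.haveILetI false
set_option linter.unusedSimpArgs false
universe u v w
open TensorProduct

namespace Groth.Agent.Lib.Helper4.DualTen1

variable (A : Type u) [CommRing A]

section Tau
variable (N : Type u) [AddCommGroup N] [Module A N] (M : Type u) [AddCommGroup M] [Module A M]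

/-- `N ⊗ M → Hom(N*, M)`, `x ⊗ m ↦ (f ↦ f x • m)` -/
noncomputable def tau : N ⊗[A] M →ₗ[A] (Module.Dual A N →ₗ[A] M) :=
  dualTensorHom A (Module.Dual A N) M ∘ₗ (Module.Dual.eval A N).rTensor M

theorem tau_tmul (x : N) (m : M) (f : Module.Dual A N) : tau A N M (x ⊗ₜ m) f = f x • m := rfl

theorem tau_bijective [Module.Finite A N] [Module.Projective A N] :
    Function.Bijective (tau A N M) := by
  have h1 : Function.Bijective ((Module.Dual.eval A N).rTensor M) :=
    (LinearEquiv.rTensor M (Module.evalEquiv A N)).bijective
  exact (dualTensorHom_bijective (R := A) (M := Module.Dual A N) (N := M)).comp h1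

variable {M} in
theorem tau_lTensor {M' : Type u} [AddCommGroup M'] [Module A M'] (g : M →ₗ[A] M')
    (z : N ⊗[A] M) : tau A N M' (g.lTensor N z) = g ∘ₗ tau A N M z := by
  induction z using TensorProduct.induction_on with
  | zero => simp
  | tmul x m =>
    apply LinearMap.ext
    intro f
    rw [LinearMap.lTensor_tmul, tau_tmul, LinearMap.comp_apply, tau_tmul, map_smul]
  | add x y hx hy => rw [map_add, map_add, hx, hy, map_add, LinearMap.comp_add]

variable {N} in
theorem tau_rTensor {N' : Type u} [AddCommGroup N'] [Module A N'] (v : N →ₗ[A] N')
    (z : N ⊗[A] M) : tau A N' M (v.rTensor M z) = tau A N M z ∘ₗ v.dualMap := by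
  induction z using TensorProduct.induction_on with
  | zero => simp
  | tmul x m =>
    apply LinearMap.ext
    intro f
    rw [LinearMap.rTensor_tmul, tau_tmul, LinearMap.comp_apply, tau_tmul]
    rfl
  | add x y hx hy => rw [map_add, map_add, hx, hy, map_add, LinearMap.add_comp]

end Tau

section Pi
variable (N : Type u) [AddCommGroup N] [Module A N] [Module.Finite A N] [Module.Projective A N]
  {J : Type u} (M : J → Type u) [∀ j, AddCommGroup (M j)] [∀ j, Module A (M j)]

theorem piRightHom_eq (z : N ⊗[A] (∀ j, M j)) (j : J) :
    TensorProduct.piRightHom A A N M z j = (LinearMap.proj j).lTensor N z := by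
  induction z using TensorProduct.induction_on with
  | zero => simp
  | tmul x m => rfl
  | add x y hx hy => rw [map_add, map_add, Pi.add_apply, hx, hy]

/-- tensoring with a finite projective module commutes with arbitrary products -/
theorem piRightHom_bijective : Function.Bijective (TensorProduct.piRightHom A A N M) := by
  constructor
  · rw [injective_iff_map_eq_zero]
    intro z hz
    apply (tau_bijective A N (∀ j, M j)).1
    rw [map_zero]
    apply LinearMap.ext
    intro f
    funext j
    have h1 := tau_lTensor A N (LinearMap.proj j : (∀ j, M j) →ₗ[A] M j) z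
    rw [← piRightHom_eq, hz] at h1
    have h2 := LinearMap.congr_fun h1 f
    simp only [Pi.zero_apply, map_zero, LinearMap.zero_apply, LinearMap.comp_apply] at h2
    exact h2.symm
  · intro y
    obtain ⟨z, hz⟩ := (tau_bijective A N (∀ j, M j)).2 (LinearMap.pi fun j => tau A N (M j) (y j))
    refine ⟨z, ?_⟩
    funext j
    apply (tau_bijective A N (M j)).1
    rw [piRightHom_eq, tau_lTensor, hz]
    rfl

end Pi

end Groth.Agent.Lib.Helper4.DualTen1
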