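import Mathlib
import Groth.Prelude.Def_ega3
import Groth.Agent.Lib.Helper4.HomEl1
import Groth.Agent.Lib.Helper4.ExchAlg1
import Groth.Agent.Lib.Helper4.DualTen1

/-!
# Exchange property: connecting argument and corepresentability of T^{p+1} (helper4)
-/

set_option backward.isDefEq.respectTransparency.types false
set_option synthInstance.maxHeartbeats 400000
set_option autoImplicit false
set_option linter.unusedSectionVars false
set_option linter.style.haveILetI false
set_option linter.unusedSimpArgs false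
universe u v w
open CategoryTheory
open CategoryTheory.Limits
open TensorProduct
open Opposite
open Groth.Agent.Lib.Helper4.HomEl1
open Groth.Agent.Lib.Helper4.ExchAlg1
open Groth.Agent.Lib.Helper4.DualTen1

namespace Groth.Agent.Lib.Helper4.ExchAlg2

variable {A : Type u} [CommRing A] (K : CochainComplex (ModuleCat.{u} A) ℤ)

/-- `T^q` preserves injections -/
def PresInj (q : ℤ) : Prop :=
  ∀ (M' M : ModuleCat.{u} A) (j : M' ⟶ M), Function.Injective j.hom →
    Function.Injective ((CohIII.TFun K q).map j).hom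

section Snake
variable (p q r : ℤ) (hpq : p + 1 = q) (hqr : q + 1 = r)

theorem lr_comm {M M' : ModuleCat.{u} A} (g : M ⟶ M') (i i' : ℤ) (z : (K.X i) ⊗[A] M) :
    g.hom.lTensor (K.X i') ((K.d i i').hom.rTensor M z) =
      (K.d i i').hom.rTensor M' (g.hom.lTensor (K.X i) z) := by
  rw [← LinearMap.comp_apply, ← LinearMap.comp_apply, LinearMap.lTensor_comp_rTensor,
    LinearMap.rTensor_comp_lTensor]

include hpq hqr in
/-- the connecting argument: if `T^{p+1}` preserves injections then `T^p` preserves surjections -/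
theorem presSurj_of_presInj [Module.Flat A (K.X q)] [Module.Flat A (K.X r)]
    (h : PresInj K q) : PresSurj K p := by
  intro M M'' g hg c''
  obtain ⟨z'', rfl⟩ := cls_surjective (KM K M'') p q hpq c''
  -- the kernel
  let M' : ModuleCat.{u} A := ModuleCat.of A (LinearMap.ker g.hom)
  let j : M' ⟶ M := ModuleCat.ofHom (LinearMap.ker g.hom).subtype
  have hj : Function.Injective j.hom := Subtype.val_injective
  have hex : Function.Exact j.hom g.hom := LinearMap.exact_subtype_ker_map g.hom
  have hgj : g.hom ∘ₗ j.hom = 0 := by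
    apply LinearMap.ext
    intro x
    exact x.2
  obtain ⟨y, hy⟩ := LinearMap.lTensor_surjective (K.X p) hg z''.1
  have hu : g.hom.lTensor (K.X q) ((K.d p q).hom.rTensor M y) = 0 := by
    rw [lr_comm, hy]
    exact z''.2
  obtain ⟨x, hx⟩ := (lTensor_exact (K.X q) hex hg _).1 hu
  have hxc : x ∈ Zs (KM K M') q r := by
    change (K.d q r).hom.rTensor M' x = 0
    apply Module.Flat.lTensor_preserves_injective_linearMap (M := K.X r) j.hom hj
    rw [map_zero, lr_comm, hx, ← LinearMap.comp_apply, ← LinearMap.rTensor_comp]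
    have : (K.d q r).hom ∘ₗ (K.d p q).hom = 0 := by
      apply LinearMap.ext
      intro w
      exact ConcreteCategory.congr_hom (K.d_comp_d p q r) w
    rw [this, LinearMap.rTensor_zero, LinearMap.zero_apply]
  have h0 : ((CohIII.TFun K q).map j).hom (cls (KM K M') q r hqr ⟨x, hxc⟩) = 0 := by
    refine (map_cls (CohIII.tensorMap K j) q r hqr _).trans ?_
    refine (cls_eq_zero_iff (KM K M) p q r hpq hqr _).2 ⟨y, ?_⟩
    exact hx.symm
  have h1 : cls (KM K M') q r hqr ⟨x, hxc⟩ = 0 := h M' M j hj (h0.trans (map_zero _).symm)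
  obtain ⟨y', hy'⟩ := (cls_eq_zero_iff (KM K M') p q r hpq hqr _).1 h1
  have hy'' : (K.d p q).hom.rTensor M' y' = x := hy'
  have hz : y - j.hom.lTensor (K.X p) y' ∈ Zs (KM K M) p q := by
    change (K.d p q).hom.rTensor M (y - j.hom.lTensor (K.X p) y') = 0
    rw [map_sub, ← lr_comm, hy'', hx, sub_self]
  refine ⟨cls (KM K M) p q hpq ⟨_, hz⟩, ?_⟩
  refine (map_cls (CohIII.tensorMap K g) p q hpq _).trans ?_
  congr 1
  apply Subtype.ext
  change g.hom.lTensor (K.X p) (y - j.hom.lTensor (K.X p) y') = z''.1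
  rw [map_sub, hy, ← LinearMap.comp_apply, ← LinearMap.lTensor_comp, hgj, LinearMap.lTensor_zero,
    LinearMap.zero_apply, sub_zero]

end Snake


section Corep
variable (p q r : ℤ) (hpq : p + 1 = q) (hqr : q + 1 = r)

/-- the cokernel of the differential -/
abbrev Wq : Type u := K.X q ⧸ Bq K p q

/-- the quotient map -/
abbrev mkW : K.X q →ₗ[A] Wq K p q := (Bq K p q).mkQ

theorem Bq_le_ker : Bq K p q ≤ LinearMap.ker (K.d q r).hom := by
  rintro _ ⟨w, rfl⟩
  exact ConcreteCategory.congr_hom (K.d_comp_d p q r) w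

/-- the induced differential on the cokernel -/
noncomputable def dbar : Wq K p q →ₗ[A] K.X r :=
  (Bq K p q).liftQ (K.d q r).hom (Bq_le_ker K p q r)

theorem dbar_comp_mk : dbar K p q r ∘ₗ mkW K p q = (K.d q r).hom :=
  Submodule.liftQ_mkQ _ _ _

variable [Module.Projective A (Wq K p q)]

/-- a section of the quotient map -/
noncomputable def secW : Wq K p q →ₗ[A] K.X q :=
  (Module.projective_lifting_property (mkW K p q) LinearMap.id
    (Submodule.mkQ_surjective _)).choose

theorem mk_comp_sec : mkW K p q ∘ₗ secW K p q = LinearMap.id :=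
  (Module.projective_lifting_property (mkW K p q) LinearMap.id
    (Submodule.mkQ_surjective _)).choose_spec

theorem d_comp_sec : (K.d q r).hom ∘ₗ secW K p q = dbar K p q r := by
  rw [← dbar_comp_mk K p q r, LinearMap.comp_assoc, mk_comp_sec, LinearMap.comp_id]

/-- the kernel of the induced differential, tensored with `M` -/
noncomputable abbrev KerM (M : ModuleCat.{u} A) : Submodule A (Wq K p q ⊗[A] M) :=
  LinearMap.ker ((dbar K p q r).rTensor M)

theorem sec_mem (M : ModuleCat.{u} A) (w : KerM K p q r M) :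
    (secW K p q).rTensor M w.1 ∈ Zs (KM K M) q r := by
  change (K.d q r).hom.rTensor M ((secW K p q).rTensor M w.1) = 0
  rw [← LinearMap.comp_apply, ← LinearMap.rTensor_comp, d_comp_sec]
  exact w.2

/-- from the kernel to cohomology -/
noncomputable def Psi (M : ModuleCat.{u} A) : KerM K p q r M →ₗ[A] (KM K M).homology q :=
  cls (KM K M) q r hqr ∘ₗ LinearMap.codRestrict (Zs (KM K M) q r)
    ((secW K p q).rTensor M ∘ₗ (KerM K p q r M).subtype) (sec_mem K p q r M)

theorem Psi_apply (M : ModuleCat.{u} A) (w : KerM K p q r M) :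
    Psi K p q r hqr M w = cls (KM K M) q r hqr ⟨(secW K p q).rTensor M w.1, sec_mem K p q r M w⟩ :=
  rfl

include hpq in
theorem Psi_injective (M : ModuleCat.{u} A) : Function.Injective (Psi K p q r hqr M) := by
  rw [injective_iff_map_eq_zero]
  intro w hw
  rw [Psi_apply] at hw
  obtain ⟨y, hy⟩ := (cls_eq_zero_iff (KM K M) p q r hpq hqr _).1 hw
  have hy' : (K.d p q).hom.rTensor M y = (secW K p q).rTensor M w.1 := hy
  apply Subtype.ext
  have h1 : (mkW K p q).rTensor M ((secW K p q).rTensor M w.1) = w.1 := by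
    rw [← LinearMap.comp_apply, ← LinearMap.rTensor_comp, mk_comp_sec, LinearMap.rTensor_id,
      LinearMap.id_apply]
  rw [← h1, ← hy', ← LinearMap.comp_apply, ← LinearMap.rTensor_comp]
  have : mkW K p q ∘ₗ (K.d p q).hom = 0 := by
    apply LinearMap.ext
    intro y
    exact (Submodule.Quotient.mk_eq_zero _).2 ⟨y, rfl⟩
  rw [this, LinearMap.rTensor_zero, LinearMap.zero_apply]
  rfl

include hpq in
theorem Psi_surjective (M : ModuleCat.{u} A) : Function.Surjective (Psi K p q r hqr M) := by
  intro c
  obtain ⟨z, rfl⟩ := cls_surjective (KM K M) q r hqr c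
  have hw : (mkW K p q).rTensor M z.1 ∈ KerM K p q r M := by
    change (dbar K p q r).rTensor M ((mkW K p q).rTensor M z.1) = 0
    rw [← LinearMap.comp_apply, ← LinearMap.rTensor_comp, dbar_comp_mk]
    exact z.2
  refine ⟨⟨_, hw⟩, ?_⟩
  rw [Psi_apply, ← sub_eq_zero, ← map_sub]
  refine (cls_eq_zero_iff (KM K M) p q r hpq hqr _).2 ?_
  -- `s ∘ mk - id` has image in the boundaries
  let ρ : K.X q →ₗ[A] Bq K p q := LinearMap.codRestrict (Bq K p q)
    (secW K p q ∘ₗ mkW K p q - LinearMap.id) (by
      intro x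
      rw [← Submodule.Quotient.mk_eq_zero (Bq K p q)]
      change mkW K p q (secW K p q (mkW K p q x) - x) = 0
      rw [map_sub, ← LinearMap.comp_apply (mkW K p q) (secW K p q), mk_comp_sec,
        LinearMap.id_apply, sub_self])
  have hρ : (Bq K p q).subtype ∘ₗ ρ = secW K p q ∘ₗ mkW K p q - LinearMap.id := rfl
  obtain ⟨y, hy⟩ := LinearMap.rTensor_surjective M (sig_surjective K p q) (ρ.rTensor M z.1)
  refine ⟨y, ?_⟩
  change (K.d p q).hom.rTensor M y =
    (secW K p q).rTensor M ((mkW K p q).rTensor M z.1) - (show (K.X q) ⊗[A] M from z.1)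
  rw [← subtype_comp_sig, LinearMap.rTensor_comp, LinearMap.comp_apply, hy,
    ← LinearMap.comp_apply, ← LinearMap.rTensor_comp, hρ, LinearMap.rTensor_sub,
    LinearMap.sub_apply, LinearMap.rTensor_comp, LinearMap.comp_apply, LinearMap.rTensor_id,
    LinearMap.id_apply]

theorem kerMap_mem {M M' : ModuleCat.{u} A} (g : M ⟶ M') (w : KerM K p q r M) :
    g.hom.lTensor (Wq K p q) w.1 ∈ KerM K p q r M' := by
  change (dbar K p q r).rTensor M' (g.hom.lTensor (Wq K p q) w.1) = 0
  rw [← LinearMap.comp_apply, LinearMap.rTensor_comp_lTensor, ← LinearMap.lTensor_comp_rTensor,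
    LinearMap.comp_apply]
  have : (dbar K p q r).rTensor M w.1 = 0 := w.2
  rw [this, map_zero]

theorem Psi_natural {M M' : ModuleCat.{u} A} (g : M ⟶ M') (w : KerM K p q r M) :
    ((CohIII.TFun K q).map g).hom (Psi K p q r hqr M w) =
      Psi K p q r hqr M' ⟨_, kerMap_mem K p q r g w⟩ := by
  rw [Psi_apply, Psi_apply]
  refine (map_cls (CohIII.tensorMap K g) q r hqr _).trans ?_
  congr 1
  apply Subtype.ext
  change g.hom.lTensor (K.X q) ((secW K p q).rTensor M w.1) =
    (secW K p q).rTensor M' (g.hom.lTensor (Wq K p q) w.1)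
  rw [← LinearMap.comp_apply, ← LinearMap.comp_apply, LinearMap.lTensor_comp_rTensor,
    LinearMap.rTensor_comp_lTensor]


/-- the corepresenting module -/
abbrev Qm : Type u := Module.Dual A (Wq K p q) ⧸ LinearMap.range (dbar K p q r).dualMap

theorem range_le_ker_tau (M : ModuleCat.{u} A) (w : KerM K p q r M) :
    LinearMap.range (dbar K p q r).dualMap ≤ LinearMap.ker (tau A (Wq K p q) M w.1) := by
  rintro _ ⟨f, rfl⟩
  change (tau A (Wq K p q) M w.1 ∘ₗ (dbar K p q r).dualMap) f = 0
  rw [← tau_rTensor]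
  have : (dbar K p q r).rTensor M w.1 = 0 := w.2
  rw [this, map_zero, LinearMap.zero_apply]

/-- from the kernel to homomorphisms out of the corepresenting module -/
noncomputable def Xi (M : ModuleCat.{u} A) : KerM K p q r M →ₗ[A] (Qm K p q r →ₗ[A] M) where
  toFun w := (LinearMap.range (dbar K p q r).dualMap).liftQ (tau A (Wq K p q) M w.1)
    (range_le_ker_tau K p q r M w)
  map_add' w w' := by
    apply Submodule.linearMap_qext
    apply LinearMap.ext
    intro f
    simp only [LinearMap.comp_apply, Submodule.mkQ_apply, Submodule.liftQ_apply,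
      LinearMap.add_apply, Submodule.coe_add, map_add]
  map_smul' a w := by
    apply Submodule.linearMap_qext
    apply LinearMap.ext
    intro f
    simp only [LinearMap.comp_apply, Submodule.mkQ_apply, Submodule.liftQ_apply,
      LinearMap.smul_apply, Submodule.coe_smul, map_smul, RingHom.id_apply]

theorem Xi_mk (M : ModuleCat.{u} A) (w : KerM K p q r M) (f : Module.Dual A (Wq K p q)) :
    Xi K p q r M w (Submodule.Quotient.mk f) = tau A (Wq K p q) M w.1 f := rfl

variable [Module.Finite A (Wq K p q)] [Module.Finite A (K.X r)] [Module.Projective A (K.X r)]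

theorem Xi_injective (M : ModuleCat.{u} A) : Function.Injective (Xi K p q r M) := by
  intro w w' h
  apply Subtype.ext
  apply (tau_bijective A (Wq K p q) M).1
  apply LinearMap.ext
  intro f
  rw [← Xi_mk, ← Xi_mk, h]

theorem Xi_surjective (M : ModuleCat.{u} A) : Function.Surjective (Xi K p q r M) := by
  intro ψ
  obtain ⟨w₀, hw₀⟩ := (tau_bijective A (Wq K p q) M).2
    (ψ ∘ₗ (LinearMap.range (dbar K p q r).dualMap).mkQ)
  have hmem : w₀ ∈ KerM K p q r M := by
    change (dbar K p q r).rTensor M w₀ = 0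
    apply (tau_bijective A (K.X r) M).1
    rw [map_zero, tau_rTensor, hw₀]
    apply LinearMap.ext
    intro f
    change ψ (Submodule.Quotient.mk ((dbar K p q r).dualMap f)) = 0
    have h0 : (Submodule.Quotient.mk ((dbar K p q r).dualMap f) : Qm K p q r) = 0 :=
      (Submodule.Quotient.mk_eq_zero (LinearMap.range (dbar K p q r).dualMap)).2
        (LinearMap.mem_range_self _ f)
    rw [h0, map_zero]
  refine ⟨⟨w₀, hmem⟩, ?_⟩
  apply Submodule.linearMap_qext
  apply LinearMap.ext
  intro f
  change tau A (Wq K p q) M w₀ f = ψ (Submodule.Quotient.mk f)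
  rw [hw₀]
  rfl

theorem Xi_natural {M M' : ModuleCat.{u} A} (g : M ⟶ M') (w : KerM K p q r M) :
    Xi K p q r M' ⟨_, kerMap_mem K p q r g w⟩ = g.hom ∘ₗ Xi K p q r M w := by
  apply Submodule.linearMap_qext
  apply LinearMap.ext
  intro f
  change tau A (Wq K p q) M' (g.hom.lTensor (Wq K p q) w.1) f = g.hom (tau A (Wq K p q) M w.1 f)
  rw [tau_lTensor]
  rfl


/-- `Xi` as an equivalence -/
noncomputable def XiE (M : ModuleCat.{u} A) : KerM K p q r M ≃ₗ[A] (Qm K p q r →ₗ[A] M) :=
  LinearEquiv.ofBijective (Xi K p q r M) ⟨Xi_injective K p q r M, Xi_surjective K p q r M⟩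

/-- `Psi` as an equivalence -/
noncomputable def PsiE (M : ModuleCat.{u} A) : KerM K p q r M ≃ₗ[A] (KM K M).homology q :=
  LinearEquiv.ofBijective (Psi K p q r hqr M)
    ⟨Psi_injective K p q r hpq hqr M, Psi_surjective K p q r hpq hqr M⟩

/-- the comparison at `M` -/
noncomputable def EM (M : ModuleCat.{u} A) :
    (Qm K p q r →ₗ[A] M) ≃ₗ[A] (KM K M).homology q :=
  (XiE K p q r M).symm ≪≫ₗ PsiE K p q r hpq hqr M

theorem EM_Xi (M : ModuleCat.{u} A) (w : KerM K p q r M) :
    EM K p q r hpq hqr M (Xi K p q r M w) = Psi K p q r hqr M w := by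
  change PsiE K p q r hpq hqr M ((XiE K p q r M).symm ((XiE K p q r M) w)) = _
  rw [LinearEquiv.symm_apply_apply]
  rfl

theorem EM_natural {M M' : ModuleCat.{u} A} (g : M ⟶ M') (ψ : Qm K p q r →ₗ[A] M) :
    ((CohIII.TFun K q).map g).hom (EM K p q r hpq hqr M ψ) =
      EM K p q r hpq hqr M' (g.hom ∘ₗ ψ) := by
  obtain ⟨w, rfl⟩ := Xi_surjective K p q r M ψ
  rw [EM_Xi, ← Xi_natural, EM_Xi, Psi_natural]

/-- **corepresentability** of `T^q` when the cokernel of the incoming differential is projective -/
noncomputable def corepIso :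
    (linearCoyoneda A (ModuleCat.{u} A)).obj (op (ModuleCat.of A (Qm K p q r))) ≅
      CohIII.TFun K q :=
  NatIso.ofComponents
    (fun M => ((ModuleCat.homLinearEquiv (S := A)).trans (EM K p q r hpq hqr M)).toModuleIso)
    (fun {M M'} g => by
      apply ModuleCat.hom_ext
      apply LinearMap.ext
      intro φ
      exact (EM_natural K p q r hpq hqr g φ.hom).symm)

theorem finite_Qm : Module.Finite A (Qm K p q r) := inferInstance

end Corep


section Main
variable [IsNoetherianRing A] (o p q r : ℤ) (hop : o + 1 = p) (hpq : p + 1 = q) (hqr : q + 1 = r)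

include hop hpq hqr in
/-- the exchange property in degree `p` gives corepresentability in degree `p + 1` -/
theorem exists_corep_of_presSurj [Module.Finite A (K.X q)] [Module.Projective A (K.X q)]
    [Module.Finite A (K.X r)] [Module.Projective A (K.X r)] (h : PresSurj K p) :
    ∃ Q : ModuleCat.{u} A, Module.Finite A Q ∧
      Nonempty ((linearCoyoneda A (ModuleCat.{u} A)).obj (op Q) ≅ CohIII.TFun K q) := by
  haveI : Module.Flat A (Wq K p q) := (presSurj_iff_flat K o p q hop hpq).1 h
  haveI : Module.FinitePresentation A (Wq K p q) := Module.finitePresentation_of_finite A _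
  haveI : Module.Projective A (Wq K p q) := Module.Flat.projective_of_finitePresentation
  exact ⟨ModuleCat.of A (Qm K p q r), finite_Qm K p q r, ⟨corepIso K p q r hpq hqr⟩⟩

include hpq hqr in
/-- corepresentability in degree `p + 1` (as a functor to abelian groups) gives the exchange
property in degree `p` -/
theorem presSurj_of_corep [Module.Flat A (K.X q)] [Module.Flat A (K.X r)] (Q : ModuleCat.{u} A)
    (e : CohIII.TFun K q ⋙ forget₂ (ModuleCat.{u} A) AddCommGrpCat.{u} ≅
      (linearCoyoneda A (ModuleCat.{u} A)).obj (op Q) ⋙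
        forget₂ (ModuleCat.{u} A) AddCommGrpCat.{u}) :
    PresSurj K p := by
  apply presSurj_of_presInj K p q r hpq hqr
  intro M' M j hj
  rw [← map_injective_iff K q e j]
  intro φ φ' h
  have h' : φ ≫ j = φ' ≫ j := h
  haveI : Mono j := (ModuleCat.mono_iff_injective j).2 hj
  exact (cancel_mono j).1 h'

end Main

end Groth.Agent.Lib.Helper4.ExchAlg2
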