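import Mathlib
import Groth.Agent.Lib.Helper5.TorAmp.FlatLin

/-!
# Fibrewise injectivity of a map to a finite projective module: local splitting, flat cokernel, universal injectivity (helper4)
-/

set_option backward.isDefEq.respectTransparency.types false
set_option synthInstance.maxHeartbeats 400000
set_option autoImplicit false
set_option linter.unusedSectionVars false
set_option linter.style.haveILetI false
set_option linter.unusedSimpArgs false
universe u v w
open TensorProduct

namespace Groth.Agent.Lib.Helper4.LocAlg1

section A
variable {R : Type u} [CommRing R] [IsLocalRing R] {κ : Type u} [Field κ] (χ : R →+* κ)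
  (hχ : ∀ r ∈ IsLocalRing.maximalIdeal R, χ r = 0)
  {M N : Type u} [AddCommGroup M] [Module R M] [AddCommGroup N] [Module R N] (l : M →ₗ[R] N)

include hχ in
/-- injectivity after tensoring with a field extension of the residue field descends to the residue
field -/
theorem lTensor_residueField_injective_of_field
    (hinj : letI : Module R κ := Module.compHom κ χ
      Function.Injective (l.lTensor κ)) :
    Function.Injective (l.lTensor (IsLocalRing.ResidueField R)) := by
  letI modRκ : Module R κ := Module.compHom κ χ
  let ι : IsLocalRing.ResidueField R →+* κ := Ideal.Quotient.lift _ χ hχ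
  letI modkκ : Module (IsLocalRing.ResidueField R) κ := Module.compHom κ ι
  haveI : IsScalarTower R (IsLocalRing.ResidueField R) κ := ⟨fun r c x => by
    have h1 : ι (r • c) = χ r * ι c := by
      rw [Algebra.smul_def r c, map_mul]
      rfl
    change ι (r • c) * x = χ r * (ι c * x)
    rw [h1, mul_assoc]⟩
  let ιk : IsLocalRing.ResidueField R →ₗ[IsLocalRing.ResidueField R] κ :=
    { toFun := ι
      map_add' := map_add ι
      map_smul' := fun c x => by
        change ι (c * x) = ι c * ι x
        exact map_mul ι c x }
  have hker : LinearMap.ker ιk = ⊥ := by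
    rw [LinearMap.ker_eq_bot]
    exact ι.injective
  obtain ⟨gk, hgk⟩ := LinearMap.exists_leftInverse_of_injective ιk hker
  let ιR : IsLocalRing.ResidueField R →ₗ[R] κ := ιk.restrictScalars R
  let gR : κ →ₗ[R] IsLocalRing.ResidueField R := gk.restrictScalars R
  have hg : gR ∘ₗ ιR = LinearMap.id := by
    apply LinearMap.ext
    intro c
    exact LinearMap.congr_fun hgk c
  have hιM : Function.Injective (ιR.rTensor M) := by
    apply Function.LeftInverse.injective (g := gR.rTensor M)
    intro x
    rw [← LinearMap.comp_apply, ← LinearMap.rTensor_comp, hg, LinearMap.rTensor_id]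
    rfl
  intro x y hxy
  apply hιM
  apply hinj
  rw [← LinearMap.comp_apply, ← LinearMap.comp_apply, LinearMap.lTensor_comp_rTensor,
    ← LinearMap.rTensor_comp_lTensor, LinearMap.comp_apply, LinearMap.comp_apply, hxy]

end A


section B
variable {A : Type u} [CommRing A] (p : Ideal A) [p.IsPrime] {κ : Type u} [Field κ] (ψ : A →+* κ)
  (hψ : RingHom.ker ψ = p)
  {W Q : Type u} [AddCommGroup W] [Module A W] [AddCommGroup Q] [Module A Q] (l : W →ₗ[A] Q)

/-- the induced map from the localization -/
noncomputable def chi : Localization.AtPrime p →+* κ :=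
  IsLocalization.lift (M := p.primeCompl) (g := ψ) (fun y => by
    rw [isUnit_iff_ne_zero]
    intro h
    have h1 : (y : A) ∈ RingHom.ker ψ := RingHom.mem_ker.2 h
    rw [hψ] at h1
    exact y.2 h1)

theorem chi_algebraMap (a : A) : chi p ψ hψ (algebraMap A _ a) = ψ a :=
  IsLocalization.lift_eq _ a

theorem chi_maximal (r : Localization.AtPrime p)
    (hr : r ∈ IsLocalRing.maximalIdeal (Localization.AtPrime p)) : chi p ψ hψ r = 0 := by
  obtain ⟨x, s, rfl⟩ := IsLocalization.exists_mk'_eq p.primeCompl r
  have hx : x ∈ p := (IsLocalization.AtPrime.mk'_mem_maximal_iff (Localization.AtPrime p) p x s).1 hr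
  have hx0 : ψ x = 0 := by
    rw [← RingHom.mem_ker, hψ]; exact hx
  unfold chi
  rw [IsLocalization.lift_mk', hx0, zero_mul]

theorem lTensor_baseChange_injective
    (hinj : letI : Module A κ := Module.compHom κ ψ
      Function.Injective (l.lTensor κ)) :
    letI : Module (Localization.AtPrime p) κ := Module.compHom κ (chi p ψ hψ)
    Function.Injective ((l.baseChange (Localization.AtPrime p)).lTensor κ) := by
  letI modA : Module A κ := Module.compHom κ ψ
  letI modR : Module (Localization.AtPrime p) κ := Module.compHom κ (chi p ψ hψ)
  haveI : IsScalarTower A (Localization.AtPrime p) κ := ⟨fun a r x => by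
    change chi p ψ hψ (a • r) * x = ψ a * (chi p ψ hψ r * x)
    rw [Algebra.smul_def, map_mul, chi_algebraMap, mul_assoc]⟩
  have key := TensorProduct.AlgebraTensorModule.lTensor_comp_cancelBaseChange (R := A)
    (A := Localization.AtPrime p) (B := Localization.AtPrime p) (M := κ) (N := W) (Q := Q) l
  intro z z' hz
  apply (TensorProduct.AlgebraTensorModule.cancelBaseChange A (Localization.AtPrime p)
    (Localization.AtPrime p) κ W).injective
  apply hinj
  have k1 := LinearMap.congr_fun key z
  have k2 := LinearMap.congr_fun key z'
  simp only [LinearMap.comp_apply, LinearEquiv.coe_coe] at k1 k2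
  refine k1.trans (Eq.trans ?_ k2.symm)
  congr 1

include hψ in
/-- **transfer to the local ring**: injectivity on the fibre at `p` (computed with any field `κ`
whose structure map has kernel `p`) gives injectivity modulo the maximal ideal of the localization -/
theorem lTensor_residueField_baseChange_injective
    (hinj : letI : Module A κ := Module.compHom κ ψ
      Function.Injective (l.lTensor κ)) :
    Function.Injective ((l.baseChange (Localization.AtPrime p)).lTensor
      (IsLocalRing.ResidueField (Localization.AtPrime p))) :=
  lTensor_residueField_injective_of_field (chi p ψ hψ) (chi_maximal p ψ hψ) _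
    (lTensor_baseChange_injective p ψ hψ l hinj)

end B


section C

/-- the splitting lemma -/
theorem exists_section_of_retraction {R : Type u} [CommRing R] {M N P : Type u}
    [AddCommGroup M] [Module R M] [AddCommGroup N] [Module R N] [AddCommGroup P] [Module R P]
    (f : M →ₗ[R] N) (g : N →ₗ[R] P) (hex : Function.Exact f g) (hg : Function.Surjective g)
    (f' : N →ₗ[R] M) (hf' : f' ∘ₗ f = LinearMap.id) : ∃ σ : P →ₗ[R] N, g ∘ₗ σ = LinearMap.id := by
  let e : N →ₗ[R] N := LinearMap.id - f ∘ₗ f'
  have he : LinearMap.ker g ≤ LinearMap.ker e := by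
    intro n hn
    obtain ⟨m, rfl⟩ := (hex n).1 hn
    have h1 : f' (f m) = m := LinearMap.congr_fun hf' m
    change f m - f (f' (f m)) = 0
    rw [h1, sub_self]
  let σ : P →ₗ[R] N := (LinearMap.ker g).liftQ e he ∘ₗ (g.quotKerEquivOfSurjective hg).symm.toLinearMap
  refine ⟨σ, ?_⟩
  apply LinearMap.ext
  intro x
  obtain ⟨n, rfl⟩ := hg x
  have h2 : (g.quotKerEquivOfSurjective hg).symm (g n) = Submodule.Quotient.mk n := by
    rw [LinearEquiv.symm_apply_eq]
    rfl
  change g ((LinearMap.ker g).liftQ e he ((g.quotKerEquivOfSurjective hg).symm (g n))) = g n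
  rw [h2, Submodule.liftQ_apply]
  change g (n - f (f' n)) = g n
  rw [map_sub, (hex (f (f' n))).2 ⟨_, rfl⟩, sub_zero]

variable {A : Type u} [CommRing A] {W Q : Type u} [AddCommGroup W] [Module A W]
  [AddCommGroup Q] [Module A Q] (l : W →ₗ[A] Q)

/-- **local splitting**: if `l ⊗ κ` is injective for a field `κ` over `A` with kernel `p`, then `l`
becomes a split injection after localizing at `p` -/
theorem exists_retraction_baseChange [Module.Finite A W] [Module.Finite A Q] [Module.Projective A Q]
    (p : Ideal A) [p.IsPrime] {κ : Type u} [Field κ] (ψ : A →+* κ) (hψ : RingHom.ker ψ = p)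
    (hinj : letI : Module A κ := Module.compHom κ ψ
      Function.Injective (l.lTensor κ)) :
    ∃ l' : (Localization.AtPrime p) ⊗[A] Q →ₗ[Localization.AtPrime p] (Localization.AtPrime p) ⊗[A] W,
      l' ∘ₗ l.baseChange (Localization.AtPrime p) = LinearMap.id := by
  haveI : Module.Free (Localization.AtPrime p) ((Localization.AtPrime p) ⊗[A] Q) :=
    Module.free_of_flat_of_isLocalRing
  exact (IsLocalRing.split_injective_iff_lTensor_residueField_injective
    (l.baseChange (Localization.AtPrime p))).2
    (lTensor_residueField_baseChange_injective p ψ hψ l hinj)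

/-- **globalization**: a map into a flat module which is a split injection after localizing at each
maximal ideal is injective with flat cokernel -/
theorem flat_coker_of_local_retractions [Module.Flat A Q]
    (h : ∀ (m : Ideal A) [m.IsMaximal],
      ∃ l' : (Localization.AtPrime m) ⊗[A] Q →ₗ[Localization.AtPrime m] (Localization.AtPrime m) ⊗[A] W,
        l' ∘ₗ l.baseChange (Localization.AtPrime m) = LinearMap.id) :
    Module.Flat A (Q ⧸ LinearMap.range l) ∧ Function.Injective l := by
  constructor
  · refine Module.flat_of_isLocalized_maximal A (Q ⧸ LinearMap.range l)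
      (fun P _ => (Localization.AtPrime P) ⊗[A] (Q ⧸ LinearMap.range l))
      (fun P _ => TensorProduct.mk A (Localization.AtPrime P) (Q ⧸ LinearMap.range l) 1) ?_
    intro m hm
    obtain ⟨l', hl'⟩ := h m
    have hex : Function.Exact (l.baseChange (Localization.AtPrime m))
        ((LinearMap.range l).mkQ.baseChange (Localization.AtPrime m)) :=
      lTensor_exact (Localization.AtPrime m) (LinearMap.exact_map_mkQ_range l)
        (Submodule.mkQ_surjective _)
    have hsurj : Function.Surjective ((LinearMap.range l).mkQ.baseChange (Localization.AtPrime m)) :=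
      LinearMap.lTensor_surjective (Localization.AtPrime m) (Submodule.mkQ_surjective _)
    obtain ⟨σ, hσ⟩ := exists_section_of_retraction _ _ hex hsurj l' hl'
    exact Module.Flat.of_retract (σ.restrictScalars A)
      (((LinearMap.range l).mkQ.baseChange (Localization.AtPrime m)).restrictScalars A)
      (by
        apply LinearMap.ext
        intro x
        exact LinearMap.congr_fun hσ x)
  · rw [injective_iff_map_eq_zero]
    intro x hx
    refine Module.eq_zero_of_localization_maximal
      (fun P _ => (Localization.AtPrime P) ⊗[A] W)
      (fun P _ => TensorProduct.mk A (Localization.AtPrime P) W 1) x ?_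
    intro m hm
    obtain ⟨l', hl'⟩ := h m
    have h1 := LinearMap.congr_fun hl' ((1 : Localization.AtPrime m) ⊗ₜ[A] x)
    change l' (l.baseChange (Localization.AtPrime m) (1 ⊗ₜ x)) = 1 ⊗ₜ x at h1
    rw [LinearMap.baseChange_tmul, hx, TensorProduct.tmul_zero, map_zero] at h1
    exact h1.symm

end C


section D
variable {A : Type u} [CommRing A] {W Q : Type u} [AddCommGroup W] [Module A W]
  [AddCommGroup Q] [Module A Q] (l : W →ₗ[A] Q)

/-- **the fibre criterion**: a map from a finite module to a finite projective module which is
injective on the fibres at all maximal ideals is injective with flat cokernel -/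
theorem flat_coker_of_fibers [Module.Finite A W] [Module.Finite A Q] [Module.Projective A Q]
    (h : ∀ (m : Ideal A) [m.IsMaximal], ∃ (κ : Type u) (_ : Field κ) (ψ : A →+* κ),
      RingHom.ker ψ = m ∧ (letI : Module A κ := Module.compHom κ ψ
        Function.Injective (l.lTensor κ))) :
    Module.Flat A (Q ⧸ LinearMap.range l) ∧ Function.Injective l := by
  apply flat_coker_of_local_retractions
  intro m hm
  obtain ⟨κ, hκ, ψ, hψ, hinj⟩ := h m
  exact exists_retraction_baseChange l m ψ hψ hinj

open Groth.Agent.Helper5.FlatAcyc in
/-- an injective map into a flat module with flat cokernel is universally injective -/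
theorem rTensor_injective_of_flat_coker [Module.Flat A Q]
    (hfl : Module.Flat A (Q ⧸ LinearMap.range l)) (hinj : Function.Injective l)
    (M : Type u) [AddCommGroup M] [Module A M] : Function.Injective (l.rTensor M) := by
  have hmem : ∀ w, l w ∈ LinearMap.ker (LinearMap.range l).mkQ := by
    intro w
    rw [Submodule.ker_mkQ]
    exact ⟨w, rfl⟩
  let l₀ : W →ₗ[A] LinearMap.ker (LinearMap.range l).mkQ := l.codRestrict _ hmem
  have hb : Function.Bijective l₀ := by
    constructor
    · intro x y hxy
      apply hinj
      exact congrArg Subtype.val hxy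
    · intro y
      have hy : y.1 ∈ LinearMap.range l := by
        have h0 : (LinearMap.range l).mkQ y.1 = 0 := y.2
        exact (Submodule.Quotient.mk_eq_zero _).1 h0
      obtain ⟨w, hw⟩ := hy
      exact ⟨w, Subtype.ext hw⟩
  let e₀ := LinearEquiv.ofBijective l₀ hb
  have hfac : l = (LinearMap.ker (LinearMap.range l).mkQ).subtype ∘ₗ e₀.toLinearMap := by
    apply LinearMap.ext
    intro w
    rfl
  have h1 := rTensor_subtype_injective (R := A) (LinearMap.range l).mkQ
    (Submodule.mkQ_surjective _) M
  rw [hfac, LinearMap.rTensor_comp]
  exact h1.comp (e₀.rTensor M).injective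

end D

end Groth.Agent.Lib.Helper4.LocAlg1
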