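import Mathlib
import Groth.Prelude.Def_ega3
import Groth.Agent.Lib.Helper4.ExchAlg2
import Groth.Agent.Lib.Helper4.LocAlg1
import Groth.Agent.Lib.Helper4.MumCx2

/-!
# Truncating a bounded above complex of finite projective modules to the amplitude given by vanishing of its fibre cohomology (helper4)
-/

set_option backward.isDefEq.respectTransparency.types false
set_option synthInstance.maxHeartbeats 400000
set_option autoImplicit false
set_option linter.unusedSectionVars false
set_option linter.style.haveILetI false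
set_option linter.unusedSimpArgs false
universe u v w
open CategoryTheory
open CategoryTheory.Limits
open TensorProduct
open Groth.Agent.Lib.Helper4.HomEl1
open Groth.Agent.Lib.Helper4.ExchAlg1
open Groth.Agent.Lib.Helper4.ExchAlg2
open Groth.Agent.Lib.Helper4.LocAlg1
open Groth.Agent.Lib.Helper4.MumCx1
open Groth.Agent.Lib.Helper4.MumCx2
open MonoidalCategory

namespace Groth.Agent.Lib.Helper4.TruncAlg1

variable {A : Type u} [CommRing A] (K : CochainComplex (ModuleCat.{u} A) ℤ)

/-- the fibre condition: `T^q` vanishes on a residue field at every maximal ideal -/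
def FibVan (q : ℤ) : Prop :=
  ∀ (m : Ideal A) [m.IsMaximal], ∃ (κ : Type u) (_ : Field κ) (ψ : A →+* κ),
    RingHom.ker ψ = m ∧
      Subsingleton ((CohIII.TFun K q).obj ((ModuleCat.restrictScalars ψ).obj (ModuleCat.of κ κ)))

/-- universal vanishing of `T^q` -/
def UVan (q : ℤ) : Prop := ∀ M : ModuleCat.{u} A, IsZero ((CohIII.TFun K q).obj M)

variable (o p q r : ℤ) (hop : o + 1 = p) (hpq : p + 1 = q) (hqr : q + 1 = r)

include hop hpq in
theorem projective_Wq_of_uvan [IsNoetherianRing A] [Module.Finite A (K.X q)]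
    [Module.Projective A (K.X q)] (h : UVan K p) : Module.Projective A (Wq K p q) := by
  have h1 : PresSurj K p := by
    intro M M'' g hg c
    haveI := ModuleCat.subsingleton_of_isZero (h M'')
    exact ⟨0, Subsingleton.elim _ _⟩
  haveI : Module.Flat A (Wq K p q) := (presSurj_iff_flat K o p q hop hpq).1 h1
  haveI : Module.FinitePresentation A (Wq K p q) := Module.finitePresentation_of_finite A _
  exact Module.Flat.projective_of_finitePresentation

theorem range_dbar : LinearMap.range (dbar K p q r) = Bq K q r := by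
  apply le_antisymm
  · rintro _ ⟨w, rfl⟩
    obtain ⟨x, rfl⟩ := Submodule.mkQ_surjective _ w
    exact ⟨x, (LinearMap.congr_fun (dbar_comp_mk K p q r) x).symm⟩
  · rintro _ ⟨x, rfl⟩
    exact ⟨mkW K p q x, LinearMap.congr_fun (dbar_comp_mk K p q r) x⟩

include hpq hqr in
theorem step [IsNoetherianRing A] [Module.Projective A (Wq K p q)] [Module.Finite A (K.X q)]
    [Module.Finite A (K.X r)] [Module.Projective A (K.X r)] (hf : FibVan K q) :
    Module.Projective A (Wq K q r) ∧ UVan K q := by
  have hfib : ∀ (m : Ideal A) [m.IsMaximal], ∃ (κ : Type u) (_ : Field κ) (ψ : A →+* κ),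
      RingHom.ker ψ = m ∧ (letI : Module A κ := Module.compHom κ ψ
        Function.Injective ((dbar K p q r).lTensor κ)) := by
    intro m hm
    obtain ⟨κ, hκ, ψ, hψ, hsub⟩ := hf m
    refine ⟨κ, hκ, ψ, hψ, ?_⟩
    letI : Module A κ := Module.compHom κ ψ
    rw [LinearMap.lTensor_inj_iff_rTensor_inj]
    have hker : KerM K p q r ((ModuleCat.restrictScalars ψ).obj (ModuleCat.of κ κ)) = ⊥ := by
      rw [eq_bot_iff]
      intro w hw
      haveI hs' : Subsingleton ((KM K ((ModuleCat.restrictScalars ψ).obj
          (ModuleCat.of κ κ))).homology q) := hsub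
      haveI : Subsingleton (KerM K p q r ((ModuleCat.restrictScalars ψ).obj (ModuleCat.of κ κ))) :=
        (PsiE K p q r hpq hqr _).toEquiv.subsingleton
      have : (⟨w, hw⟩ : KerM K p q r ((ModuleCat.restrictScalars ψ).obj (ModuleCat.of κ κ))) = 0 :=
        Subsingleton.elim _ _
      exact congrArg Subtype.val this
    exact LinearMap.ker_eq_bot.1 hker
  obtain ⟨hflat, hinj⟩ := flat_coker_of_fibers (dbar K p q r) hfib
  constructor
  · haveI : Module.Flat A (Wq K q r) :=
      Module.Flat.of_linearEquiv (Submodule.quotEquivOfEq _ _ (range_dbar K p q r)).symm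
    haveI : Module.FinitePresentation A (Wq K q r) := Module.finitePresentation_of_finite A _
    exact Module.Flat.projective_of_finitePresentation
  · intro M
    have h1 := rTensor_injective_of_flat_coker (dbar K p q r) hflat hinj M
    haveI : Subsingleton (KerM K p q r M) := by
      refine ⟨fun a b => Subtype.ext (h1 ?_)⟩
      rw [show (dbar K p q r).rTensor M a.1 = 0 from a.2,
        show (dbar K p q r).rTensor M b.1 = 0 from b.2]
    haveI : Subsingleton ((CohIII.TFun K q).obj M) :=
      (PsiE K p q r hpq hqr M).symm.toEquiv.subsingleton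
    exact ModuleCat.isZero_of_subsingleton _


/-- **the bottom induction**: universal vanishing in negative degrees and fibrewise vanishing in
degrees `< d'` give universal vanishing in degrees `< d'` and a projective cokernel in degree `d'` -/
theorem bottom [IsNoetherianRing A] (hK : ∀ i, Module.Finite A (K.X i) ∧ Module.Projective A (K.X i))
    (hneg : ∀ i : ℤ, i < 0 → UVan K i) (d' : ℕ) (hf : ∀ i : ℕ, i < d' → FibVan K (i : ℤ)) :
    (∀ p q : ℤ, p + 1 = q → q = (d' : ℤ) → Module.Projective A (Wq K p q)) ∧
      ∀ i : ℤ, i < (d' : ℤ) → UVan K i := by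
  induction d' with
  | zero =>
    refine ⟨fun p q hpq hq => ?_, fun i hi => hneg i (by simpa using hi)⟩
    haveI := (hK q).1
    haveI := (hK q).2
    exact projective_Wq_of_uvan K (p - 1) p q (by omega) hpq (hneg p (by simp at hq; omega))
  | succ n ih =>
    obtain ⟨ih1, ih2⟩ := ih (fun i hi => hf i (by omega))
    haveI := ih1 ((n : ℤ) - 1) n (by omega) rfl
    haveI := (hK (n : ℤ)).1
    haveI := (hK ((n : ℤ) + 1)).1
    haveI := (hK ((n : ℤ) + 1)).2
    obtain ⟨h1, h2⟩ := step K ((n : ℤ) - 1) n ((n : ℤ) + 1) (by omega) rfl (hf n (by omega))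
    refine ⟨fun p q hpq hq => ?_, fun i hi => ?_⟩
    · have hq' : q = (n : ℤ) + 1 := by rw [hq]; push_cast; ring
      have hp' : p = (n : ℤ) := by omega
      subst hq' hp'
      exact h1
    · by_cases hin : i < (n : ℤ)
      · exact ih2 i hin
      · have : i = (n : ℤ) := by push_cast at hi; omega
        subst this
        exact h2


section Trunc

/-- the right unitor for complexes -/
noncomputable def runit : CohIII.tensorObj K (𝟙_ (ModuleCat.{u} A)) ≅ K :=
  HomologicalComplex.Hom.isoOfComponents (fun i => ρ_ (K.X i))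
    (fun i j _ => (MonoidalCategory.rightUnitor_naturality (K.d i j)).symm)

theorem exactAt_of_uvan (i : ℤ) (h : UVan K i) : K.ExactAt i := by
  have h1 : (CohIII.tensorObj K (𝟙_ (ModuleCat.{u} A))).ExactAt i := by
    rw [HomologicalComplex.exactAt_iff_isZero_homology]
    exact h _
  exact h1.of_iso (runit K)

/-- the cokernel description of the opcycles -/
noncomputable def opcyclesIso (p q : ℤ) (hpq : p + 1 = q) :
    K.opcycles q ≅ ModuleCat.of A (Wq K p q) :=
  (K.opcyclesIsCokernel p q (prev_eq p q hpq)).coconePointUniqueUpToIso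
    (ModuleCat.cokernelIsColimit (K.d p q))

variable (n : ℤ)

theorem isZero_truncGE_X (i : ℤ) (hi : i < n) : IsZero ((K.truncGE n).X i) :=
  CochainComplex.isZero_of_isStrictlyGE (K.truncGE n) n i hi

theorem truncGE_X_props [IsNoetherianRing A]
    (hK : ∀ i, Module.Finite A (K.X i) ∧ Module.Projective A (K.X i))
    (hW : ∀ p q : ℤ, p + 1 = q → q = n → Module.Projective A (Wq K p q)) (i : ℤ) :
    Module.Finite A ((K.truncGE n).X i) ∧ Module.Projective A ((K.truncGE n).X i) := by
  rcases lt_trichotomy i n with hi | hi | hi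
  · haveI := ModuleCat.subsingleton_of_isZero (isZero_truncGE_X K n i hi)
    exact ⟨inferInstance, inferInstance⟩
  · subst hi
    haveI := (hK i).1
    haveI := hW (i - 1) i (by omega) rfl
    let e := (K.truncGEXIsoOpcycles i ≪≫ opcyclesIso K (i - 1) i (by omega)).toLinearEquiv
    exact ⟨Module.Finite.equiv e.symm, Module.Projective.of_equiv e.symm⟩
  · haveI := (hK i).1
    haveI := (hK i).2
    let e := (K.truncGEXIso n i hi).toLinearEquiv
    exact ⟨Module.Finite.equiv e.symm, Module.Projective.of_equiv e.symm⟩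

theorem isZero_truncGE_X_of_isZero (i : ℤ) (h : IsZero (K.X i)) : IsZero ((K.truncGE n).X i) := by
  rcases lt_trichotomy i n with hi | hi | hi
  · exact isZero_truncGE_X K n i hi
  · subst hi
    refine IsZero.of_iso ?_ (K.truncGEXIsoOpcycles i)
    haveI : Epi (K.pOpcycles i) := inferInstance
    exact IsZero.of_epi (K.pOpcycles i) h
  · exact h.of_iso (K.truncGEXIso n i hi)

/-- **the canonical truncation from below is a universal quasi-isomorphism** when the complex is
universally acyclic below the truncation degree -/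
theorem quasiIso_tensor_πTruncGE [IsNoetherianRing A]
    (hK : ∀ i, Module.Finite A (K.X i) ∧ Module.Projective A (K.X i))
    (hW : ∀ p q : ℤ, p + 1 = q → q = n → Module.Projective A (Wq K p q))
    (huv : ∀ i : ℤ, i < n → UVan K i) (b : ℤ) (hb : ∀ i, b < i → IsZero (K.X i))
    (M : ModuleCat.{u} A) : QuasiIso (tensorHom (K.πTruncGE n) M) := by
  haveI : K.IsGE n := by
    rw [CochainComplex.isGE_iff]
    intro i hi
    exact exactAt_of_uvan K i (huv i hi)
  have hq : QuasiIso (K.πTruncGE n) := inferInstance
  refine quasiIso_tensor_of_universal (K.πTruncGE n) hq (fun i => ?_) (fun i => ?_) b hb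
    (fun I i hi => ?_) M
  · haveI := (hK i).2
    infer_instance
  · haveI := (truncGE_X_props K n hK hW i).2
    infer_instance
  · apply HomologicalComplex.ExactAt.of_isZero
    exact Functor.map_isZero (MonoidalCategory.tensorRight _)
      (isZero_truncGE_X_of_isZero K n i (hb i hi))


end Trunc


section Top
open Groth.Agent.Helper5.FlatAcyc

variable (d : ℤ)

/-- kernels of the differentials are flat above a degree beyond which the complex is exact -/
theorem flat_ker_of_exact_above (hex : ∀ i, d < i → K.ExactAt i)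
    (hflat : ∀ i, Module.Flat A (K.X i)) (b : ℤ) (hb : ∀ i, b < i → IsZero (K.X i)) :
    ∀ i : ℤ, d ≤ i → Module.Flat A (LinearMap.ker (K.d i (i + 1)).hom) := by
  have key : ∀ (n : ℕ) (i : ℤ), d ≤ i → b < i + n →
      Module.Flat A (LinearMap.ker (K.d i (i + 1)).hom) := by
    intro n
    induction n with
    | zero =>
      intro i _ hi
      haveI := ModuleCat.subsingleton_of_isZero (hb i (by simpa using hi))
      infer_instance
    | succ n ih =>
      intro i hdi hi
      haveI := ih (i + 1) (by omega) (by push_cast at hi; omega)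
      have hex' := exact_of_exactAt K i (i + 1) (i + 1 + 1) rfl rfl (hex (i + 1) (by omega))
      haveI := hflat i
      exact (ker_flat_of_range (K.d i (i + 1)).hom _ (LinearMap.exact_iff.1 hex').symm).1
  intro i hi
  exact key (b - i + 1).toNat i hi (by omega)

/-- the kernel description of the cycles -/
noncomputable def cyclesIso (q r : ℤ) (hqr : q + 1 = r) :
    K.cycles q ≅ ModuleCat.of A (LinearMap.ker (K.d q r).hom) :=
  (K.cyclesIsKernel q r (next_eq q r hqr)).conePointUniqueUpToIso
    (ModuleCat.kernelIsLimit (K.d q r))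

theorem isZero_truncLE_X (i : ℤ) (hi : d < i) : IsZero ((K.truncLE d).X i) :=
  CochainComplex.isZero_of_isStrictlyLE (K.truncLE d) d i hi

theorem truncLE_X_props [IsNoetherianRing A]
    (hK : ∀ i, Module.Finite A (K.X i) ∧ Module.Projective A (K.X i))
    (hex : ∀ i, d < i → K.ExactAt i) (b : ℤ) (hb : ∀ i, b < i → IsZero (K.X i)) (i : ℤ) :
    Module.Finite A ((K.truncLE d).X i) ∧ Module.Projective A ((K.truncLE d).X i) := by
  rcases lt_trichotomy i d with hi | hi | hi
  · haveI := (hK i).1
    haveI := (hK i).2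
    let e := (K.truncLEXIso d i hi).toLinearEquiv
    exact ⟨Module.Finite.equiv e.symm, Module.Projective.of_equiv e.symm⟩
  · subst hi
    haveI := (hK i).1
    haveI : IsNoetherian A (K.X i) := isNoetherian_of_isNoetherianRing_of_finite A _
    haveI : Module.Flat A (LinearMap.ker (K.d i (i + 1)).hom) :=
      flat_ker_of_exact_above K i hex (fun j => by haveI := (hK j).2; infer_instance) b hb i le_rfl
    haveI : Module.FinitePresentation A (LinearMap.ker (K.d i (i + 1)).hom) :=
      Module.finitePresentation_of_finite A _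
    haveI : Module.Projective A (LinearMap.ker (K.d i (i + 1)).hom) :=
      Module.Flat.projective_of_finitePresentation
    let e := (K.truncLEXIsoCycles i ≪≫ cyclesIso K i (i + 1) rfl).toLinearEquiv
    exact ⟨Module.Finite.equiv e.symm, Module.Projective.of_equiv e.symm⟩
  · haveI := ModuleCat.subsingleton_of_isZero (isZero_truncLE_X K d i hi)
    exact ⟨inferInstance, inferInstance⟩

/-- **the canonical truncation from above is a universal quasi-isomorphism** when the complex is
exact above the truncation degree -/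
theorem quasiIso_tensor_ιTruncLE [IsNoetherianRing A]
    (hK : ∀ i, Module.Finite A (K.X i) ∧ Module.Projective A (K.X i))
    (hex : ∀ i, d < i → K.ExactAt i) (b : ℤ) (hb : ∀ i, b < i → IsZero (K.X i)) (hdb : d ≤ b)
    (M : ModuleCat.{u} A) : QuasiIso (tensorHom (K.ιTruncLE d) M) := by
  haveI : K.IsLE d := by
    rw [CochainComplex.isLE_iff]
    intro i hi
    exact hex i hi
  have hq : QuasiIso (K.ιTruncLE d) := inferInstance
  refine quasiIso_tensor_of_universal (K.ιTruncLE d) hq (fun i => ?_) (fun i => ?_) b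
    (fun i hi => isZero_truncLE_X K d i (by omega)) (fun I i hi => ?_) M
  · haveI := (truncLE_X_props K d hK hex b hb i).2
    infer_instance
  · haveI := (hK i).2
    infer_instance
  · apply HomologicalComplex.ExactAt.of_isZero
    exact Functor.map_isZero (MonoidalCategory.tensorRight _) (hb i hi)

end Top


section Amp

theorem uvan_of_iso {K L : CochainComplex (ModuleCat.{u} A) ℤ} {q : ℤ}
    (e : CohIII.TFun L q ≅ CohIII.TFun K q) (h : UVan K q) : UVan L q :=
  fun M => (h M).of_iso (e.app M)

theorem fibVan_of_iso {K L : CochainComplex (ModuleCat.{u} A) ℤ} {q : ℤ}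
    (e : CohIII.TFun L q ≅ CohIII.TFun K q) (h : FibVan K q) : FibVan L q := by
  intro m hm
  obtain ⟨κ, hκ, ψ, hψ, hsub⟩ := h m
  refine ⟨κ, hκ, ψ, hψ, ?_⟩
  exact (e.app _).toLinearEquiv.toEquiv.subsingleton

/-- **amplitude**: a bounded above complex of finite projective modules which is exact above `d`,
universally acyclic in negative degrees and fibrewise acyclic below `d'` can be replaced, without
changing the functors `T^p`, by a complex of finite projective modules concentrated in `[d', d]` -/
theorem exists_amplitude [IsNoetherianRing A]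
    (hK : ∀ i, Module.Finite A (K.X i) ∧ Module.Projective A (K.X i))
    (b : ℤ) (hb : ∀ i, b < i → IsZero (K.X i)) (hneg : ∀ i : ℤ, i < 0 → UVan K i) (d' d : ℕ)
    (hex : ∀ i : ℤ, (d : ℤ) < i → K.ExactAt i) (hf : ∀ i : ℕ, i < d' → FibVan K (i : ℤ)) :
    ∃ L : CochainComplex (ModuleCat.{u} A) ℤ,
      (∀ i, Module.Finite A (L.X i) ∧ Module.Projective A (L.X i)) ∧
      (∀ i : ℤ, i < (d' : ℤ) ∨ (d : ℤ) < i → IsZero (L.X i)) ∧
      ∀ p : ℤ, Nonempty (CohIII.TFun L p ≅ CohIII.TFun K p) := by
  -- top truncation
  have hb' : ∀ i, max b (d : ℤ) < i → IsZero (K.X i) := fun i hi => hb i (by omega)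
  have hu1 := quasiIso_tensor_ιTruncLE K (d : ℤ) hK hex (max b d) hb' (le_max_right _ _)
  have hK1 := truncLE_X_props K (d : ℤ) hK hex (max b d) hb'
  have e1 : ∀ p : ℤ, CohIII.TFun (K.truncLE (d : ℤ)) p ≅ CohIII.TFun K p :=
    fun p => TFunIso (K.ιTruncLE (d : ℤ)) hu1 p
  have hneg1 : ∀ i : ℤ, i < 0 → UVan (K.truncLE (d : ℤ)) i := fun i hi => uvan_of_iso (e1 i) (hneg i hi)
  have hf1 : ∀ i : ℕ, i < d' → FibVan (K.truncLE (d : ℤ)) (i : ℤ) :=
    fun i hi => fibVan_of_iso (e1 i) (hf i hi)
  -- bottom truncation
  obtain ⟨hW, huv⟩ := bottom (K.truncLE (d : ℤ)) hK1 hneg1 d' hf1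
  have hu2 := quasiIso_tensor_πTruncGE (K.truncLE (d : ℤ)) (d' : ℤ) hK1 hW huv (d : ℤ)
    (fun i hi => isZero_truncLE_X K (d : ℤ) i hi)
  refine ⟨(K.truncLE (d : ℤ)).truncGE (d' : ℤ), truncGE_X_props _ _ hK1 hW, ?_, fun p => ?_⟩
  · rintro i (hi | hi)
    · exact isZero_truncGE_X _ _ i hi
    · exact isZero_truncGE_X_of_isZero _ _ i (isZero_truncLE_X K (d : ℤ) i hi)
  · exact ⟨(TFunIso ((K.truncLE (d : ℤ)).πTruncGE (d' : ℤ)) hu2 p).symm ≪≫ e1 p⟩

end Amp

end Groth.Agent.Lib.Helper4.TruncAlg1
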