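import Mathlib
import Groth.Prelude.Def_ega3
import Groth.Agent.Lib.Helper4.MumBC1
import Groth.Agent.Lib.Helper4.TruncAlg1

/-!
# The Mumford complex data structure, fibre vanishing, and S14619 (complex of amplitude [d', d] computing the cohomology of all base changes) (helper4)
-/

set_option backward.isDefEq.respectTransparency.types false
set_option synthInstance.maxHeartbeats 400000
set_option autoImplicit false
set_option linter.unusedSectionVars false
set_option linter.style.haveILetI false
set_option linter.unusedSimpArgs false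
universe u v w
open CategoryTheory
open CategoryTheory.Limits
open AlgebraicGeometry
open TopologicalSpace
open Opposite
open TensorProduct
open MonoidalCategory
open ZeroObject
open Groth.Agent.Helper1
open Groth.Agent.Lib.Helper4.CechTen1
open Groth.Agent.Lib.Helper4.CechTen2
open Groth.Agent.Lib.Helper4.CechTen3
open Groth.Agent.Lib.Helper4.BCSec2
open Groth.Agent.Lib.Helper4.MumCx1
open Groth.Agent.Lib.Helper4.MumCx2
open Groth.Agent.Lib.Helper4.MumBC1
open Groth.Agent.Lib.Helper4.TruncAlg1

namespace Groth.Agent.Lib.Helper4.MumBC2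

/-- `B` as an `A`-module through restriction of scalars, versus through the algebra structure -/
noncomputable def rsUnitLin (A B : Type u) [CommRing A] [CommRing B] [Algebra A B] :
    (rs (algebraMap A B) (𝟙_ (ModuleCat.{u} B))) ≃ₗ[A] B where
  toFun b := b
  invFun b := b
  map_add' _ _ := rfl
  map_smul' a b := by
    change algebraMap A B a * (show B from b) = a • (show B from b)
    exact (Algebra.smul_def a _).symm
  left_inv _ := rfl
  right_inv _ := rfl

noncomputable def rsUnitIso (A B : Type u) [CommRing A] [CommRing B] [Algebra A B] :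
    rs (algebraMap A B) (𝟙_ (ModuleCat.{u} B)) ≅ ModuleCat.of A B :=
  (rsUnitLin A B).toModuleIso

section Geo
variable (A : Type u) [CommRing A] [IsNoetherianRing A] (X : Scheme.{u})
  [X.Over (Spec (CommRingCat.of A))] [IsProper (X ↘ Spec (CommRingCat.of A))]
  (F : X.Modules) (hF : Coh.IsCoh F) (hfl : FlatMod.IsFlatOver (X ↘ Spec (CommRingCat.of A)) F)

attribute [local instance] Groth.Agent.Lib.Helper4.TenSec2.secMod

/-- the complex, together with everything known about it -/
structure MData where
  ι : Type u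
  fin : Finite ι
  U : ι → X.Opens
  hcov : iSup U = ⊤
  haff : ∀ (n : ℕ) (a : Fin (n + 1) → ι), IsAffineOpen (TCx.W U a)
  K : CochainComplex (ModuleCat.{u} A) ℤ
  α : K ⟶ CZ A F U
  hq : QuasiIso α
  hff : ∀ i, Module.Finite A (K.X i) ∧ Module.Free A (K.X i)
  b : ℤ
  hb : ∀ i, b < i → IsZero (K.X i)
  huniv : ∀ M : ModuleCat.{u} A, QuasiIso (tensorHom α M)

include hF hfl in
theorem nonempty_mdata : Nonempty (MData A X F) := by
  obtain ⟨ι, hfin, U, hcov, haff, K, α, hq, hff, ⟨b, hb⟩, huniv⟩ := exists_mumford_data A X F hF hfl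
  exact ⟨⟨ι, hfin, U, hcov, haff, K, α, hq, hff, b, hb, huniv⟩⟩

variable {A X F} (D : MData A X F)

/-- the comparison of `T`-functors -/
noncomputable def MData.eK (p : ℤ) : CohIII.TFun D.K p ≅ CohIII.TFun (CZ A F D.U) p :=
  TFunIso D.α D.huniv p

theorem MData.proj (i : ℤ) : Module.Finite A (D.K.X i) ∧ Module.Projective A (D.K.X i) := by
  haveI := (D.hff i).1
  haveI := (D.hff i).2
  exact ⟨inferInstance, inferInstance⟩

theorem MData.hneg (i : ℤ) (hi : i < 0) : UVan D.K i := by
  intro M
  have h1 : IsZero ((CohIII.TFun (CZ A F D.U) i).obj M) := by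
    change IsZero ((CohIII.tensorObj (CZ A F D.U) M).homology i)
    rw [← HomologicalComplex.exactAt_iff_isZero_homology]
    exact exactAt_tensor_CZ_neg A F D.U M i hi
  exact h1.of_iso ((D.eK i).app M)

theorem MData.exactAt [F.IsQuasicoherent] (q : ℕ) (h : Subsingleton (Coh.HH X F q)) :
    D.K.ExactAt (q : ℤ) := by
  haveI := D.fin
  haveI := D.hq
  haveI : QuasiIsoAt D.α (q : ℤ) := inferInstance
  rw [exactAt_iff_of_quasiIsoAt D.α (q : ℤ),
    HomologicalComplex.exactAt_iff_isZero_homology]
  haveI : Subsingleton ((CAN A F D.U).homology q) :=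
    (linHH A F D.U D.haff D.hcov q).toEquiv.subsingleton
  exact (ModuleCat.isZero_of_subsingleton _).of_iso
    ((CAN A F D.U).extendHomologyIso ComplexShape.embeddingUpNat (j := q) (j' := (q : ℤ)) rfl)

theorem MData.fibVan [F.IsQuasicoherent] (q : ℕ)
    (h : ∀ y : ↑(Spec (CommRingCat.of A)),
      Subsingleton (CohIII.fiberH (X ↘ Spec (CommRingCat.of A)) F y q)) : FibVan D.K (q : ℤ) := by
  haveI := D.fin
  intro m hm
  let y : ↑(Spec (CommRingCat.of A)) := ⟨m, hm.isPrime⟩
  refine ⟨(Spec (CommRingCat.of A)).residueField y, inferInstance, phiY A y, ker_phiY A y, ?_⟩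
  haveI := h y
  have e := fibBC A y F D.U D.haff D.hcov q
  haveI : Subsingleton ((CohIII.TFun (CZ A F D.U) (q : ℤ)).obj (rs (phiY A y)
      (𝟙_ (ModuleCat.{u} ((Spec (CommRingCat.of A)).residueField y))))) :=
    e.symm.toEquiv.subsingleton
  exact ((D.eK (q : ℤ)).app _).toLinearEquiv.toEquiv.subsingleton

end Geo


section Main
open Groth.Agent.Helper5.FlatAcyc

theorem addEquiv_of_subsingleton {M N : Type u} [AddCommGroup M] [AddCommGroup N]
    [Subsingleton M] [Subsingleton N] : Nonempty (M ≃+ N) :=
  ⟨{ toFun := fun _ => 0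
     invFun := fun _ => 0
     left_inv := fun _ => Subsingleton.elim _ _
     right_inv := fun _ => Subsingleton.elim _ _
     map_add' := fun _ _ => Subsingleton.elim _ _ }⟩

theorem s14619 (A : Type u) [CommRing A] [IsNoetherianRing A] (X : Scheme.{u})
    [X.Over (Spec (CommRingCat.of A))]
    [IsProper (X ↘ Spec (CommRingCat.of A))] (F : X.Modules) (hF : Coh.IsCoh F)
    (hfl : FlatMod.IsFlatOver (X ↘ Spec (CommRingCat.of A)) F) (d' d : ℕ)
    (hd : ∀ p : ℕ, d < p → Subsingleton (Coh.HH X F p))
    (hd' : ∀ (y : ↑(Spec (CommRingCat.of A))) (p : ℕ), p < d' →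
      Subsingleton (CohIII.fiberH (X ↘ Spec (CommRingCat.of A)) F y p)) :
    ∃ L : CochainComplex (ModuleCat.{u} A) ℤ,
      (∀ i, Module.Finite A (L.X i) ∧ Module.Projective A (L.X i)) ∧
      (∀ i : ℤ, i < (d' : ℤ) ∨ (d : ℤ) < i → IsZero (L.X i)) ∧
      ((∀ p : ℕ, Subsingleton (Coh.HH X F p)) → ∀ i, IsZero (L.X i)) ∧
      ∀ (B : Type u) [CommRing B] [Algebra A B] (p : ℕ),
        Nonempty (Coh.HH (pullback (X ↘ Spec (CommRingCat.of A)) (Spec.map (CommRingCat.ofHom (algebraMap A B))))
            ((Scheme.Modules.pullback (pullback.fst (X ↘ Spec (CommRingCat.of A))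
              (Spec.map (CommRingCat.ofHom (algebraMap A B))))).obj F) p ≃+
          CohIII.T L (p : ℤ) (ModuleCat.of A B)) := by
  haveI : F.IsQuasicoherent := hF.1
  obtain ⟨D⟩ := nonempty_mdata A X F hF hfl
  haveI := D.fin
  -- the base change isomorphism for `K`
  have hBC : ∀ (B : Type u) [CommRing B] [Algebra A B] (p : ℕ),
      Nonempty (Coh.HH (pullback (X ↘ Spec (CommRingCat.of A))
          (Spec.map (CommRingCat.ofHom (algebraMap A B))))
        ((Scheme.Modules.pullback (pullback.fst (X ↘ Spec (CommRingCat.of A))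
          (Spec.map (CommRingCat.ofHom (algebraMap A B))))).obj F) p ≃+
        (CohIII.TFun D.K (p : ℤ)).obj (ModuleCat.of A B)) := by
    intro B _ _ p
    letI : (pullback (X ↘ Spec (CommRingCat.of A))
        (Spec.map (CommRingCat.ofHom (algebraMap A B)))).Over (Spec (CommRingCat.of B)) :=
      ⟨pullback.snd _ _⟩
    have hsq : IsPullback (pullback.fst (X ↘ Spec (CommRingCat.of A))
        (Spec.map (CommRingCat.ofHom (algebraMap A B))))
        (pullback (X ↘ Spec (CommRingCat.of A))
          (Spec.map (CommRingCat.ofHom (algebraMap A B))) ↘ Spec (CommRingCat.of B))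
        (X ↘ Spec (CommRingCat.of A)) (Spec.map (CommRingCat.ofHom (algebraMap A B))) :=
      IsPullback.of_hasPullback _ _
    have e1 := hhBC (algebraMap A B) (pullback.fst (X ↘ Spec (CommRingCat.of A))
        (Spec.map (CommRingCat.ofHom (algebraMap A B)))) F D.U hsq D.haff D.hcov p
    have e2 := ((D.eK (p : ℤ)).symm.app (rs (algebraMap A B) (𝟙_ (ModuleCat.{u} B)))).toLinearEquiv.toAddEquiv
    have e3 := ((CohIII.TFun D.K (p : ℤ)).mapIso (rsUnitIso A B)).toLinearEquiv.toAddEquiv
    exact ⟨(e1.trans e2).trans e3⟩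
  by_cases hall : ∀ p : ℕ, Subsingleton (Coh.HH X F p)
  · -- everything vanishes
    have hac : D.K.Acyclic := by
      intro i
      by_cases hi : i < 0
      · exact exactAt_of_uvan D.K i (D.hneg i hi)
      · obtain ⟨q, rfl⟩ := Int.eq_ofNat_of_zero_le (by omega : 0 ≤ i)
        exact D.exactAt q (hall q)
    have huv : ∀ (p : ℤ) (M : ModuleCat.{u} A), IsZero ((CohIII.TFun D.K p).obj M) := by
      intro p M
      have h1 := acyclic_tensor' D.K hac (fun i => by haveI := (D.proj i).2; infer_instance) D.b
        (fun i hi => by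
          haveI := ModuleCat.subsingleton_of_isZero (D.hb i hi)
          infer_instance) M p
      change IsZero ((CohIII.tensorObj D.K M).homology p)
      rw [← HomologicalComplex.exactAt_iff_isZero_homology]
      exact h1
    have hz : ∀ i, IsZero ((0 : CochainComplex (ModuleCat.{u} A) ℤ).X i) := fun i =>
      Functor.map_isZero (HomologicalComplex.eval (ModuleCat.{u} A) (ComplexShape.up ℤ) i)
        (isZero_zero _)
    refine ⟨0, fun i => ?_, fun i _ => hz i, fun _ i => hz i, fun B _ _ p => ?_⟩
    · haveI := ModuleCat.subsingleton_of_isZero (hz i)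
      exact ⟨inferInstance, inferInstance⟩
    · obtain ⟨e⟩ := hBC B p
      haveI := ModuleCat.subsingleton_of_isZero (huv (p : ℤ) (ModuleCat.of A B))
      haveI : Subsingleton (Coh.HH (pullback (X ↘ Spec (CommRingCat.of A))
          (Spec.map (CommRingCat.ofHom (algebraMap A B))))
        ((Scheme.Modules.pullback (pullback.fst (X ↘ Spec (CommRingCat.of A))
          (Spec.map (CommRingCat.ofHom (algebraMap A B))))).obj F) p) := e.toEquiv.subsingleton
      have hz2 : IsZero (CohIII.T (0 : CochainComplex (ModuleCat.{u} A) ℤ) (p : ℤ)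
          (ModuleCat.of A B)) := by
        change IsZero ((CohIII.tensorObj (0 : CochainComplex (ModuleCat.{u} A) ℤ)
          (ModuleCat.of A B)).homology (p : ℤ))
        rw [← HomologicalComplex.exactAt_iff_isZero_homology]
        apply HomologicalComplex.ExactAt.of_isZero
        exact Functor.map_isZero (MonoidalCategory.tensorRight _) (hz _)
      haveI := ModuleCat.subsingleton_of_isZero hz2
      exact addEquiv_of_subsingleton
  · obtain ⟨L, hL1, hL2, hL3⟩ := exists_amplitude D.K D.proj D.b D.hb D.hneg d' d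
      (fun i hi => by
        obtain ⟨q, rfl⟩ := Int.eq_ofNat_of_zero_le (by omega : 0 ≤ i)
        exact D.exactAt q (hd q (by exact_mod_cast hi)))
      (fun i hi => D.fibVan i (fun y => hd' y i hi))
    refine ⟨L, hL1, hL2, fun h => absurd h hall, fun B _ _ p => ?_⟩
    obtain ⟨e⟩ := hBC B p
    obtain ⟨eL⟩ := hL3 (p : ℤ)
    exact ⟨e.trans ((eL.symm.app (ModuleCat.of A B)).toLinearEquiv.toAddEquiv)⟩

end Main

end Groth.Agent.Lib.Helper4.MumBC2
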