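import Mathlib
import Groth.Prelude.Def_ega3
import Groth.Agent.Lib.Helper4.MumBC2
import Groth.Agent.Lib.Helper4.LinNat1

/-!
# Semilinearity of the base change comparison hhBC / fibBC (helper4)
-/

set_option backward.isDefEq.respectTransparency.types false
set_option synthInstance.maxHeartbeats 400000
set_option autoImplicit false
set_option linter.unusedSectionVars false
set_option linter.style.haveILetI false
set_option linter.unusedSimpArgs false
universe u v w
open CategoryTheory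
open CategoryTheory.Limits
open AlgebraicGeometry
open TopologicalSpace
open Opposite
open TensorProduct
open MonoidalCategory
open Groth.Agent.Helper1
open Groth.Agent.Lib.Helper4.BaseChgRing1
open Groth.Agent.Lib.Helper4.TenSec2
open Groth.Agent.Lib.Helper4.LocCech1
open Groth.Agent.Lib.Helper4.CechTen1
open Groth.Agent.Lib.Helper4.CechTen2
open Groth.Agent.Lib.Helper4.CechTen3
open Groth.Agent.Lib.Helper4.BCSec1
open Groth.Agent.Lib.Helper4.BCSec2
open Groth.Agent.Lib.Helper4.MumCx1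
open Groth.Agent.Lib.Helper4.MumCx2
open Groth.Agent.Lib.Helper4.MumBC1
open Groth.Agent.Lib.Helper4.LinNat1

namespace Groth.Agent.Lib.Helper4.FibLin1

section HH
variable {A B : Type u} [CommRing A] [CommRing B] (φ : A →+* B)
variable {X X' : Scheme.{u}} [X.Over (Spec (CommRingCat.of A))] [X'.Over (Spec (CommRingCat.of B))]
variable (g : X' ⟶ X) (F : X.Modules) {ι : Type u} (U : ι → X.Opens)
variable [Finite ι] [F.IsQuasicoherent]
  (hsq : IsPullback g (X' ↘ Spec (CommRingCat.of B)) (X ↘ Spec (CommRingCat.of A))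
      (Spec.map (CommRingCat.ofHom φ)))
  (haff : ∀ (n : ℕ) (a : Fin (n + 1) → ι), IsAffineOpen (TCx.W U a)) (hcov : iSup U = ⊤)

attribute [local instance] secMod

theorem rs_map_smul (M' : ModuleCat.{u} B) (a : A) :
    (ModuleCat.restrictScalars φ).map (φ a • 𝟙 M') = a • 𝟙 (rs φ M') := rfl

/-- the inverse of `bcM` as a plain map between the module carriers -/
noncomputable def bcInv (M' : ModuleCat.{u} B) (p : ℕ)
    (z : (CohIII.TFun (CZ B (Fp g F) (Up g U)) (p : ℤ)).obj M') :
    (CohIII.TFun (CZ A F U) (p : ℤ)).obj (rs φ M') :=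
  (bcM φ g F U hsq haff M' p).inv.hom z

theorem bcInv_smul (p : ℕ) (a : A)
    (z : (CohIII.TFun (CZ B (Fp g F) (Up g U)) (p : ℤ)).obj (𝟙_ (ModuleCat.{u} B))) :
    bcInv φ g F U hsq haff (𝟙_ (ModuleCat.{u} B)) p (φ a • z) =
      a • bcInv φ g F U hsq haff (𝟙_ (ModuleCat.{u} B)) p z := by
  let I := 𝟙_ (ModuleCat.{u} B)
  let h : I ⟶ I := φ a • 𝟙 I
  have h1 : φ a • z = ((CohIII.TFun (CZ B (Fp g F) (Up g U)) (p : ℤ)).map h).hom z :=
    (TFun_map_smul _ (p : ℤ) I (φ a) z).symm
  have hn := bcM_nat φ g F U hsq haff h p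
  let w : (CohIII.TFun (CZ A F U) (p : ℤ)).obj (rs φ I) := (bcM φ g F U hsq haff I p).inv.hom z
  have hw : (bcM φ g F U hsq haff I p).hom.hom w = z := by
    change ((bcM φ g F U hsq haff I p).inv ≫ (bcM φ g F U hsq haff I p).hom).hom z = z
    rw [Iso.inv_hom_id]; rfl
  have h2 := ConcreteCategory.congr_hom hn w
  have h3 : (bcM φ g F U hsq haff I p).inv.hom
      (((CohIII.TFun (CZ B (Fp g F) (Up g U)) (p : ℤ)).map h).hom z) =
      ((CohIII.TFun (CZ A F U) (p : ℤ)).map ((ModuleCat.restrictScalars φ).map h)).hom w := by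
    have h4 : (bcM φ g F U hsq haff I p).hom.hom
        (((CohIII.TFun (CZ A F U) (p : ℤ)).map ((ModuleCat.restrictScalars φ).map h)).hom w) =
        ((CohIII.TFun (CZ B (Fp g F) (Up g U)) (p : ℤ)).map h).hom z := by
      refine Eq.trans h2 ?_
      change ((CohIII.TFun (CZ B (Fp g F) (Up g U)) (p : ℤ)).map h).hom
        ((bcM φ g F U hsq haff I p).hom.hom w) = _
      rw [hw]
    rw [← h4]
    change ((bcM φ g F U hsq haff I p).hom ≫ (bcM φ g F U hsq haff I p).inv).hom _ = _
    rw [Iso.hom_inv_id]; rfl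
  change (bcM φ g F U hsq haff I p).inv.hom (φ a • z) = (a • w : (CohIII.TFun (CZ A F U) (p : ℤ)).obj (rs φ I))
  rw [h1]
  refine h3.trans ?_
  rw [rs_map_smul]
  exact TFun_map_smul _ (p : ℤ) _ a w

theorem hhBC_smul (p : ℕ) (a : A) (x : Coh.HH X' (Fp g F) p) :
    hhBC φ g F U hsq haff hcov p (φ a • x) = a • hhBC φ g F U hsq haff hcov p x := by
  haveI : IsAffineHom g := isAffineHom_of_sq φ g hsq
  haveI : (Fp g F).IsQuasicoherent := Groth.Agent.Lead.PB.isQuasicoherent_pullback _ _
  let e1 := (linHH B (Fp g F) (Up g U) (isAffineOpen_Wp g U haff) (iSup_Up g U hcov) p).symm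
  let e2 := ((HomologicalComplex.homologyMapIso (runitG (CAN B (Fp g F) (Up g U))) p).symm ≪≫
    (isoA B (Fp g F) (Up g U) (𝟙_ (ModuleCat.{u} B)) p).symm).toLinearEquiv
  change bcInv φ g F U hsq haff (𝟙_ (ModuleCat.{u} B)) p (e2 (e1 (φ a • x))) =
    a • bcInv φ g F U hsq haff (𝟙_ (ModuleCat.{u} B)) p (e2 (e1 x))
  rw [map_smul, map_smul]
  exact bcInv_smul φ g F U hsq haff p a (e2 (e1 x))

end HH
section Fibre
variable (A : Type u) [CommRing A] (y : ↑(Spec (CommRingCat.of A)))
variable {X : Scheme.{u}} [X.Over (Spec (CommRingCat.of A))]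
variable (F : X.Modules) {ι : Type u} (U : ι → X.Opens)
variable [Finite ι] [F.IsQuasicoherent]
  (haff : ∀ (n : ℕ) (a : Fin (n + 1) → ι), IsAffineOpen (TCx.W U a)) (hcov : iSup U = ⊤)

attribute [local instance] secMod

theorem fibBC_smul (p : ℕ) (a : A)
    (x : CohIII.fiberH (X ↘ Spec (CommRingCat.of A)) F y p) :
    fibBC A y F U haff hcov p (phiY A y a • x) = a • fibBC A y F U haff hcov p x :=
  letI : ((X ↘ Spec (CommRingCat.of A)).fiber y).Over
      (Spec (CommRingCat.of ((Spec (CommRingCat.of A)).residueField y))) :=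
    CohIII.fiberOver (X ↘ Spec (CommRingCat.of A)) y
  hhBC_smul (phiY A y) ((X ↘ Spec (CommRingCat.of A)).fiberι y) F U (isPullback_fiber A y)
    haff hcov p a x

end Fibre

end Groth.Agent.Lib.Helper4.FibLin1
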