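import Mathlib
import Groth.Prelude.Def_ega3
import Groth.Agent.Lib.Helper4.TruncAlg1
import Groth.Agent.Lib.Helper5.TorAmp.FlatLin

/-!
# Fibrewise vanishing of T^{p+1} makes T^p right exact (no hypothesis below) (helper4)
-/

set_option backward.isDefEq.respectTransparency.types false
set_option synthInstance.maxHeartbeats 400000
set_option autoImplicit false
set_option linter.unusedSectionVars false
set_option linter.style.haveILetI false
set_option linter.unusedSimpArgs false
universe u v w
open CategoryTheory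
open CategoryTheory.Limits
open TensorProduct
open Groth.Agent.Lib.Helper4.HomEl1
open Groth.Agent.Lib.Helper4.ExchAlg1
open Groth.Agent.Lib.Helper4.ExchAlg2
open Groth.Agent.Lib.Helper4.LocAlg1
open Groth.Agent.Lib.Helper4.TruncAlg1
open MonoidalCategory

namespace Groth.Agent.Lib.Helper4.AlgFib1

variable {A : Type u} [CommRing A] (K : CochainComplex (ModuleCat.{u} A) ℤ)
variable (o p q r : ℤ) (hop : o + 1 = p) (hpq : p + 1 = q) (hqr : q + 1 = r)

include hpq hqr in
/-- vanishing of `H^q(K ⊗ M)` makes the induced differential on the cokernel injective after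
tensoring with `M` (no projectivity needed) -/
theorem kerM_eq_bot (M : ModuleCat.{u} A) (h : Subsingleton ((KM K M).homology q)) :
    KerM K p q r M = ⊥ := by
  rw [eq_bot_iff]
  intro w hw
  obtain ⟨z, rfl⟩ := LinearMap.rTensor_surjective M (Submodule.mkQ_surjective (Bq K p q)) w
  have hz : z ∈ Zs (KM K M) q r := by
    change (K.d q r).hom.rTensor M z = 0
    rw [← dbar_comp_mk K p q r, LinearMap.rTensor_comp, LinearMap.comp_apply]
    exact hw
  have h0 : cls (KM K M) q r hqr ⟨z, hz⟩ = 0 := Subsingleton.elim _ _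
  obtain ⟨y, hy⟩ := (cls_eq_zero_iff (KM K M) p q r hpq hqr _).1 h0
  have hy' : (K.d p q).hom.rTensor M y = z := hy
  rw [Submodule.mem_bot, ← hy', ← LinearMap.comp_apply, ← LinearMap.rTensor_comp]
  have : mkW K p q ∘ₗ (K.d p q).hom = 0 := by
    apply LinearMap.ext
    intro y
    exact (Submodule.Quotient.mk_eq_zero _).2 ⟨y, rfl⟩
  rw [this, LinearMap.rTensor_zero, LinearMap.zero_apply]

include hop hpq hqr in
/-- **fibrewise vanishing of `T^q` makes `T^p` right exact** -/
theorem presSurj_of_fibVan [IsNoetherianRing A] [Module.Finite A (K.X q)] [Module.Flat A (K.X q)]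
    [Module.Finite A (K.X r)] [Module.Projective A (K.X r)] (hf : FibVan K q) :
    PresSurj K p := by
  have hfib : ∀ (m : Ideal A) [m.IsMaximal], ∃ (κ : Type u) (_ : Field κ) (ψ : A →+* κ),
      RingHom.ker ψ = m ∧ (letI : Module A κ := Module.compHom κ ψ
        Function.Injective ((dbar K p q r).lTensor κ)) := by
    intro m hm
    obtain ⟨κ, hκ, ψ, hψ, hsub⟩ := hf m
    refine ⟨κ, hκ, ψ, hψ, ?_⟩
    letI : Module A κ := Module.compHom κ ψ
    rw [LinearMap.lTensor_inj_iff_rTensor_inj]
    have hker : KerM K p q r ((ModuleCat.restrictScalars ψ).obj (ModuleCat.of κ κ)) = ⊥ :=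
      kerM_eq_bot K p q r hpq hqr _ hsub
    exact LinearMap.ker_eq_bot.1 hker
  obtain ⟨hflat, hinj⟩ := flat_coker_of_fibers (dbar K p q r) hfib
  haveI : Module.Flat A (K.X r ⧸ LinearMap.range (dbar K p q r)) := hflat
  haveI : Module.Flat A (LinearMap.range (dbar K p q r)) := by
    have h1 := Groth.Agent.Helper5.FlatAcyc.flat_ker (LinearMap.range (dbar K p q r)).mkQ
      (Submodule.mkQ_surjective _)
    rw [Submodule.ker_mkQ] at h1
    exact h1
  haveI : Module.Flat A (Wq K p q) :=
    Module.Flat.of_linearEquiv (LinearEquiv.ofInjective (dbar K p q r) hinj)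
  exact (presSurj_iff_flat K o p q hop hpq).2 inferInstance

end Groth.Agent.Lib.Helper4.AlgFib1
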