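import Mathlib

/-!
# Abstract algebra for the theorem on formal functions: finite modules over complete rings are complete; comparison of the adic completion with an inverse limit (helper4)
-/

set_option backward.isDefEq.respectTransparency.types false
set_option synthInstance.maxHeartbeats 400000
set_option autoImplicit false
set_option linter.unusedSectionVars false
set_option linter.style.haveILetI false
set_option linter.unusedSimpArgs false
universe u v w

namespace Groth.Agent.Lib.Helper4.FFAlg1

section Complete
variable {A : Type u} [CommRing A] (I : Ideal A)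

theorem isPrecomplete_pi [IsPrecomplete I A] (n : ℕ) : IsPrecomplete I (Fin n → A) := by
  rw [← AdicCompletion.of_surjective_iff]
  intro y
  have h : ∀ j : Fin n, ∃ v : A, AdicCompletion.of I A v =
      AdicCompletion.map I (LinearMap.proj (R := A) (φ := fun _ : Fin n => A) j) y :=
    fun j => AdicCompletion.of_surjective I A _
  choose v hv using h
  refine ⟨v, ?_⟩
  apply (AdicCompletion.piEquivFin I n).injective
  rw [AdicCompletion.piEquivFin_apply, AdicCompletion.piEquivFin_apply]
  funext j
  change AdicCompletion.map I (LinearMap.proj j) (AdicCompletion.of I (Fin n → A) v) =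
    AdicCompletion.map I (LinearMap.proj j) y
  rw [AdicCompletion.map_of, ← hv j]
  rfl

variable {H : Type v} [AddCommGroup H] [Module A H]

theorem isPrecomplete_of_finite [IsPrecomplete I A] [Module.Finite A H] : IsPrecomplete I H := by
  obtain ⟨n, π, hπ⟩ := Module.Finite.exists_fin' A H
  haveI := isPrecomplete_pi I n
  rw [← AdicCompletion.of_surjective_iff]
  intro x
  obtain ⟨y, rfl⟩ := AdicCompletion.map_surjective I hπ x
  obtain ⟨v, rfl⟩ := AdicCompletion.of_surjective I (Fin n → A) y
  exact ⟨π v, (AdicCompletion.map_of I π v).symm⟩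

theorem isAdicComplete_of_finite [IsNoetherianRing A] [IsAdicComplete I A] [Module.Finite A H] :
    IsAdicComplete I H :=
  { toIsHausdorff := IsHausdorff.of_le_jacobson I H (IsAdicComplete.le_jacobson_bot I)
    toIsPrecomplete := isPrecomplete_of_finite I }

end Complete


section Lim
variable {A : Type u} [CommRing A] (I : Ideal A) {H : Type v} [AddCommGroup H] [Module A H]
variable {G : ℕ → Type w} [∀ n, AddCommGroup (G n)] [∀ n, Module A (G n)]
variable (t : ∀ n, G (n + 1) →+ G n) (f : ∀ n, H →ₗ[A] G n)
variable (L : AddSubgroup (∀ n, G n))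

structure Data (c : ℕ) : Prop where
  hL : ∀ y : ∀ n, G n, y ∈ L ↔ ∀ n, t n (y (n + 1)) = y n
  hft : ∀ n x, t n (f (n + 1) x) = f n x
  ha : ∀ n, I ^ (n + 1) • (⊤ : Submodule A H) ≤ LinearMap.ker (f n)
  hb : ∀ n, c ≤ n → ∀ x, f n x = 0 → x ∈ I ^ (n - c) • (⊤ : Submodule A H)
  hc : ∀ y ∈ L, ∀ n, ∃ x, f n x = y n

variable {I t f L} {c : ℕ} (D : Data I t f L c)

include D in
theorem Data.f_of_le (y : ∀ n, G n) (hy : y ∈ L) {j k : ℕ} (hjk : j ≤ k) (x : H)
    (hx : f k x = y k) : f j x = y j := by
  induction k, hjk using Nat.le_induction with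
  | base => exact hx
  | succ k hk ih =>
    apply ih
    rw [← D.hft k x, hx]
    exact (D.hL y).1 hy k

include D in
theorem Data.mem_of_le (y : ∀ n, G n) (hy : y ∈ L) {j k : ℕ} (hjk : j ≤ k) (x x' : H)
    (hx : f k x = y k) (hx' : f j x' = y j) (hj : c ≤ j) :
    x - x' ∈ I ^ (j - c) • (⊤ : Submodule A H) := by
  apply D.hb j hj
  rw [map_sub, D.f_of_le y hy hjk x hx, hx', sub_self]

/-- the comparison map -/
noncomputable def Data.Phi : AdicCompletion I H →+ L where
  toFun x := ⟨fun n => Submodule.liftQ _ (f n) (D.ha n) (x.val (n + 1)), by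
    rw [D.hL]
    intro n
    obtain ⟨h, hh⟩ := Submodule.Quotient.mk_surjective _ (x.val (n + 1 + 1))
    have h1 : x.val (n + 1) = Submodule.Quotient.mk h := by
      rw [← x.property (Nat.le_succ (n + 1)), ← hh]
      rfl
    rw [h1, ← hh]
    exact D.hft n h⟩
  map_zero' := by
    apply Subtype.ext
    funext n
    exact map_zero _
  map_add' x y := by
    apply Subtype.ext
    funext n
    exact map_add _ _ _

theorem Data.Phi_of (x : H) (n : ℕ) : (D.Phi (AdicCompletion.of I H x)).1 n = f n x := rfl

include D in
theorem Data.Phi_injective : Function.Injective D.Phi := by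
  rw [injective_iff_map_eq_zero]
  intro x hx
  apply AdicCompletion.ext
  intro n
  obtain ⟨h, hh⟩ := Submodule.Quotient.mk_surjective _ (x.val (n + c + 1))
  have h0 : f (n + c) h = 0 := by
    have := congrArg (fun z : L => z.1 (n + c)) hx
    change Submodule.liftQ _ (f (n + c)) (D.ha (n + c)) (x.val (n + c + 1)) = 0 at this
    rw [← hh] at this
    exact this
  have h1 := D.hb (n + c) (Nat.le_add_left _ _) h h0
  rw [Nat.add_sub_cancel] at h1
  have h2 : x.val n = Submodule.Quotient.mk h := by
    rw [← x.property (show n ≤ n + c + 1 by omega), ← hh]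
    rfl
  rw [h2]
  exact (Submodule.Quotient.mk_eq_zero _).2 h1

include D in
theorem Data.Phi_surjective : Function.Surjective D.Phi := by
  intro y
  have hy := y.2
  choose h hh using D.hc y.1 y.2
  have hcau : ∀ {m n : ℕ}, m ≤ n → h (n + c) - h (m + c) ∈ I ^ m • (⊤ : Submodule A H) := by
    intro m n hmn
    have := D.mem_of_le y.1 hy (show m + c ≤ n + c by omega) _ _ (hh (n + c)) (hh (m + c))
      (Nat.le_add_left _ _)
    rwa [Nat.add_sub_cancel] at this
  let x : AdicCompletion I H := ⟨fun m => Submodule.Quotient.mk (h (m + c)), by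
    intro m n hmn
    change Submodule.Quotient.mk (h (n + c)) = Submodule.Quotient.mk (h (m + c))
    exact (Submodule.Quotient.eq _).2 (hcau hmn)⟩
  refine ⟨x, ?_⟩
  apply Subtype.ext
  funext n
  change f n (h (n + 1 + c)) = y.1 n
  exact D.f_of_le y.1 hy (by omega) _ (hh _)

/-- the theorem on formal functions, abstract form -/
noncomputable def Data.equiv : AdicCompletion I H ≃+ L :=
  AddEquiv.ofBijective D.Phi ⟨D.Phi_injective, D.Phi_surjective⟩

include D in
theorem Data.bijective_of_complete [IsAdicComplete I H] (g : H →+ L)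
    (hg : ∀ x n, (g x).1 n = f n x) : Function.Bijective g := by
  have : (g : H → L) = D.Phi ∘ AdicCompletion.of I H := by
    funext x
    apply Subtype.ext
    funext n
    exact hg x n
  rw [this]
  exact Function.Bijective.comp ⟨D.Phi_injective, D.Phi_surjective⟩ (AdicCompletion.of_bijective I H)

end Lim

end Groth.Agent.Lib.Helper4.FFAlg1
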