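import Mathlib
import Groth.Agent.Lib.Helper4.FFAlg1

/-!
# Transfer of the formal-functions data along linear equivalences (helper4)
-/

set_option backward.isDefEq.respectTransparency.types false
set_option synthInstance.maxHeartbeats 400000
set_option autoImplicit false
set_option linter.unusedSectionVars false
set_option linter.style.haveILetI false
set_option linter.unusedSimpArgs false
universe u v w
open Groth.Agent.Lib.Helper4

namespace Groth.Agent.Lib.Helper4.FFAlg2
 universe v' w'

variable {A : Type u} [CommRing A] (I : Ideal A)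

theorem equiv_mem_smul_top {H H' : Type*} [AddCommGroup H] [Module A H] [AddCommGroup H'] [Module A H']
    (e : H' ≃ₗ[A] H) (J : Ideal A) (x : H') (hx : x ∈ J • (⊤ : Submodule A H')) :
    e x ∈ J • (⊤ : Submodule A H) := by
  have h1 : e x ∈ Submodule.map (e : H' →ₗ[A] H) (J • (⊤ : Submodule A H')) :=
    Submodule.mem_map_of_mem hx
  rw [Submodule.map_smul''] at h1
  exact Submodule.smul_mono le_rfl le_top h1

variable {H : Type v} [AddCommGroup H] [Module A H]
variable {G : ℕ → Type w} [∀ n, AddCommGroup (G n)] [∀ n, Module A (G n)]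
variable {t : ∀ n, G (n + 1) →+ G n} {f : ∀ n, H →ₗ[A] G n} {L : AddSubgroup (∀ n, G n)} {c : ℕ}
variable {H' : Type v'} [AddCommGroup H'] [Module A H']
variable {G' : ℕ → Type w'} [∀ n, AddCommGroup (G' n)] [∀ n, Module A (G' n)]

theorem Data.transfer (D : FFAlg1.Data I t f L c)
    (t' : ∀ n, G' (n + 1) →+ G' n) (f' : ∀ n, H' →ₗ[A] G' n) (L' : AddSubgroup (∀ n, G' n))
    (hL' : ∀ y : ∀ n, G' n, y ∈ L' ↔ ∀ n, t' n (y (n + 1)) = y n)
    (e : H' ≃ₗ[A] H) (eG : ∀ n, G' n ≃ₗ[A] G n)
    (hf : ∀ n x, eG n (f' n x) = f n (e x)) (ht : ∀ n y, eG n (t' n y) = t n (eG (n + 1) y)) :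
    FFAlg1.Data I t' f' L' c where
  hL := hL'
  hft n x := by
    apply (eG n).injective
    rw [ht, hf, hf, D.hft]
  ha n := by
    intro x hx
    rw [LinearMap.mem_ker]
    apply (eG n).injective
    rw [hf, map_zero]
    exact D.ha n (equiv_mem_smul_top e _ x hx)
  hb n hn x hx := by
    have h1 : f n (e x) = 0 := by rw [← hf, hx, map_zero]
    have h2 := D.hb n hn (e x) h1
    have h3 := equiv_mem_smul_top e.symm _ _ h2
    rwa [LinearEquiv.symm_apply_apply] at h3
  hc y hy n := by
    have hy' : (fun n => eG n (y n)) ∈ L := by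
      rw [D.hL]
      intro n
      change t n (eG (n + 1) (y (n + 1))) = eG n (y n)
      rw [← ht, (hL' y).1 hy n]
    obtain ⟨x, hx⟩ := D.hc _ hy' n
    refine ⟨e.symm x, ?_⟩
    apply (eG n).injective
    rw [hf, LinearEquiv.apply_symm_apply]
    exact hx

end Groth.Agent.Lib.Helper4.FFAlg2
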