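import Mathlib
import Groth.Prelude.Def_Formal
import Groth.Agent.Lib.Helper4.BaseChgRing1
import Groth.Agent.Lib.Helper4.ReesAlg1
import Groth.Agent.Lib.Helper4.HHFin2
import Groth.Agent.Lib.Helper1.FinSigma
import Groth.Agent.Lib.Helper1.FtLocal
import Groth.Agent.Lib.Helper1.AffPushEpi

/-!
# The submodules I^n F of an O_X-module over Spec A: multiplication maps, inclusions, sections over affine opens (helper4)
-/

set_option backward.isDefEq.respectTransparency.types false
set_option synthInstance.maxHeartbeats 400000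
set_option autoImplicit false
set_option linter.unusedSectionVars false
set_option linter.style.haveILetI false
set_option linter.unusedSimpArgs false
universe u v w
open CategoryTheory
open CategoryTheory.Limits
open AlgebraicGeometry
open TopologicalSpace
open Opposite
open Groth.Agent.Helper1
open Groth.Agent.Lib.Helper4.BaseChgRing1
open Groth.Agent.Lib.Helper4.ReesAlg1

namespace Groth.Agent.Lib.Helper4.IPow1

variable (A : Type u) [CommRing A] {X : Scheme.{u}} [X.Over (Spec (CommRingCat.of A))]

theorem resTop_toGlobal (W : X.Opens) (a : A) :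
    Coh.resTop X (op W) (Coh.toGlobal (X ↘ Spec (CommRingCat.of A)) a) = alphaRing A X W a := rfl

theorem smulMod_app (M : X.Modules) (a : A) (W : X.Opens) (m : Γ(M, W)) :
    (Formal.smulMod A M a).app W m = alphaRing A X W a • m := rfl

theorem smulMod_ext {M N : X.Modules} (φ ψ : M ⟶ N)
    (h : (SheafOfModules.toSheaf X.ringCatSheaf).map φ = (SheafOfModules.toSheaf X.ringCatSheaf).map ψ) :
    φ = ψ := (SheafOfModules.toSheaf X.ringCatSheaf).map_injective h

theorem smulMod_mul (M : X.Modules) (a b : A) :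
    Formal.smulMod A M b ≫ Formal.smulMod A M a = Formal.smulMod A M (a * b) := by
  apply smulMod_ext
  refine (Functor.map_comp _ _ _).trans ?_
  change Coh.smulAb M _ ≫ Coh.smulAb M _ = Coh.smulAb M _
  rw [map_mul, Coh.smulAb_mul]

theorem smulMod_add (M : X.Modules) (a b : A) :
    Formal.smulMod A M (a + b) = Formal.smulMod A M a + Formal.smulMod A M b := by
  apply smulMod_ext
  refine Eq.trans ?_ (Functor.map_add (F := SheafOfModules.toSheaf X.ringCatSheaf)).symm
  change Coh.smulAb M _ = Coh.smulAb M _ + Coh.smulAb M _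
  rw [map_add, Coh.smulAb_add]

theorem smulMod_zero (M : X.Modules) : Formal.smulMod A M 0 = 0 := by
  apply smulMod_ext
  refine Eq.trans ?_ (Functor.map_zero (SheafOfModules.toSheaf X.ringCatSheaf) _ _).symm
  change Coh.smulAb M _ = 0
  rw [map_zero, Coh.smulAb_zero]

theorem smulMod_nat {M N : X.Modules} (φ : M ⟶ N) (a : A) :
    Formal.smulMod A M a ≫ φ = φ ≫ Formal.smulMod A N a := by
  apply smulMod_ext
  refine (Functor.map_comp _ _ _).trans (Eq.trans ?_ (Functor.map_comp _ _ _).symm)
  exact (Canon.toSheaf_map_comp_smulAb φ _).symm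

variable {A} (I : Ideal A) (F : X.Modules)

theorem smulMod_π {n : ℕ} {a : A} (ha : a ∈ I ^ n) :
    Formal.smulMod A F a ≫ Formal.modPowπ I n F = 0 := by
  have h : Formal.smulMod A F a = Sigma.ι (fun _ : ↥(I ^ n) => F) ⟨a, ha⟩ ≫ Formal.smulFamily (I ^ n) F := by
    unfold Formal.smulFamily
    rw [Sigma.ι_desc]
  rw [h, Category.assoc]
  have : Formal.smulFamily (I ^ n) F ≫ Formal.modPowπ I n F = 0 := cokernel.condition _
  rw [this, comp_zero]

/-- `I^n F` -/
noncomputable abbrev Pn (n : ℕ) : X.Modules := Abelian.image (Formal.smulFamily (I ^ n) F)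

/-- the inclusion `I^n F ⟶ F` -/
noncomputable abbrev incl (n : ℕ) : Pn I F n ⟶ F := Abelian.image.ι (Formal.smulFamily (I ^ n) F)

/-- the canonical epimorphism onto `I^n F` -/
noncomputable abbrev fac (n : ℕ) : (∐ fun _ : ↥(I ^ n) => F) ⟶ Pn I F n :=
  Abelian.factorThruImage (Formal.smulFamily (I ^ n) F)

theorem fac_incl (n : ℕ) : fac I F n ≫ incl I F n = Formal.smulFamily (I ^ n) F :=
  Abelian.image.fac _

theorem incl_π (n : ℕ) : incl I F n ≫ Formal.modPowπ I n F = 0 := kernel.condition _

/-- the short exact sequence `0 → I^n F → F → F/I^n F → 0` -/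
noncomputable abbrev Sn (n : ℕ) : ShortComplex X.Modules :=
  ShortComplex.mk (incl I F n) (Formal.modPowπ I n F) (incl_π I F n)

theorem Sn_shortExact (n : ℕ) : (Sn I F n).ShortExact where
  exact := ShortComplex.exact_of_f_is_kernel _ (kernelIsKernel (Formal.modPowπ I n F))
  mono_f := inferInstanceAs (Mono (kernel.ι _))
  epi_g := inferInstanceAs (Epi (cokernel.π _))

/-- a morphism into `F` which is killed by the projection factors through `I^n F` -/
noncomputable def liftPn {G : X.Modules} (n : ℕ) (φ : G ⟶ F) (h : φ ≫ Formal.modPowπ I n F = 0) :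
    G ⟶ Pn I F n := kernel.lift _ φ h

theorem liftPn_incl {G : X.Modules} (n : ℕ) (φ : G ⟶ F) (h : φ ≫ Formal.modPowπ I n F = 0) :
    liftPn I F n φ h ≫ incl I F n = φ := kernel.lift_ι _ _ _

theorem incl_smulMod_π {n k : ℕ} {a : A} (ha : a ∈ I ^ k) :
    (incl I F n ≫ Formal.smulMod A F a) ≫ Formal.modPowπ I (n + k) F = 0 := by
  haveI : Epi (fac I F n) := inferInstanceAs (Epi (Abelian.factorThruImage _))
  rw [← cancel_epi (fac I F n), comp_zero, ← Category.assoc, ← Category.assoc, fac_incl]
  apply Sigma.hom_ext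
  intro b
  rw [comp_zero, ← Category.assoc, ← Category.assoc]
  unfold Formal.smulFamily
  rw [Sigma.ι_desc, smulMod_mul]
  exact smulMod_π I F (by rw [pow_add, mul_comm a]; exact Ideal.mul_mem_mul b.2 ha)

/-- multiplication by an element of `I^k` as a map `I^n F ⟶ I^(n+k) F` -/
noncomputable def mu (n k : ℕ) (a : A) (ha : a ∈ I ^ k) : Pn I F n ⟶ Pn I F (n + k) :=
  liftPn I F (n + k) (incl I F n ≫ Formal.smulMod A F a) (incl_smulMod_π I F ha)

theorem mu_incl (n k : ℕ) (a : A) (ha : a ∈ I ^ k) :
    mu I F n k a ha ≫ incl I F (n + k) = incl I F n ≫ Formal.smulMod A F a :=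
  liftPn_incl _ _ _ _ _

theorem incl_π_of_le {i j : ℕ} (h : i ≤ j) : incl I F j ≫ Formal.modPowπ I i F = 0 := by
  haveI : Epi (fac I F j) := inferInstanceAs (Epi (Abelian.factorThruImage _))
  rw [← cancel_epi (fac I F j), comp_zero, ← Category.assoc, fac_incl]
  exact Formal.smulFamily_π_of_le (Ideal.pow_le_pow_right h) F

/-- the inclusion `I^j F ⟶ I^i F` for `i ≤ j` -/
noncomputable def iota {i j : ℕ} (h : i ≤ j) : Pn I F j ⟶ Pn I F i :=
  liftPn I F i (incl I F j) (incl_π_of_le I F h)

theorem iota_incl {i j : ℕ} (h : i ≤ j) : iota I F h ≫ incl I F i = incl I F j :=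
  liftPn_incl _ _ _ _ _

section Sections
variable [F.IsQuasicoherent] {W : X.Opens} (hW : IsAffineOpen W)

theorem exact_sections (n : ℕ) (x : Γ(F, W)) (hx : (Formal.modPowπ I n F).app W x = 0) :
    ∃ y : Γ(Pn I F n, W), (incl I F n).app W y = x := by
  haveI : Mono (Sn I F n).f := (Sn_shortExact I F n).mono_f
  exact QcAbel.app_exact' (S := Sn I F n) (Sn_shortExact I F n).exact W x hx

theorem mem_range_incl_of_mem_IM (n : ℕ) (x : Γ(F, W)) (hx : x ∈ IM I (alphaRing A X W) Γ(F, W) n) :
    x ∈ Set.range ((incl I F n).app W) := by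
  unfold IM at hx
  induction hx using Submodule.span_induction with
  | mem x hx =>
    obtain ⟨a, ha, m, rfl⟩ := hx
    obtain ⟨y, hy⟩ := exact_sections I F n (alphaRing A X W a • m) (by
      have h1 := congrArg (fun φ => Scheme.Modules.Hom.app φ W m) (smulMod_π I F ha)
      exact h1)
    exact ⟨y, hy⟩
  | zero => exact ⟨0, map_zero _⟩
  | add x y _ _ hx hy =>
    obtain ⟨x', rfl⟩ := hx
    obtain ⟨y', rfl⟩ := hy
    exact ⟨x' + y', map_add _ _ _⟩
  | smul r x _ hx =>
    obtain ⟨x', rfl⟩ := hx
    exact ⟨r • x', Scheme.Modules.Hom.app_smul _ _ _⟩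

include hW in
theorem mem_IM_of_mem_range_incl [IsNoetherianRing A] (n : ℕ) (y : Γ(Pn I F n, W)) :
    (incl I F n).app W y ∈ IM I (alphaRing A X W) Γ(F, W) n := by
  obtain ⟨k, a, ha⟩ := (Submodule.fg_iff_exists_fin_generating_family).1
    (IsNoetherian.noetherian (I ^ n))
  have ha' : ∀ i, a i ∈ I ^ n := fun i => by rw [← ha]; exact Submodule.subset_span ⟨i, rfl⟩
  let B : Fin k → X.Modules := fun _ => F
  let ψ : (∐ B) ⟶ F := Sigma.desc (fun i => Formal.smulMod A F (a i))
  -- the projection to the cokernel of ψ kills `I^n F`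
  have claim0 : ∀ c ∈ Submodule.span A (Set.range a), Formal.smulMod A F c ≫ cokernel.π ψ = 0 := by
    intro c hb
    induction hb using Submodule.span_induction with
    | mem x hx =>
      obtain ⟨i, rfl⟩ := hx
      have : Formal.smulMod A F (a i) = Sigma.ι B i ≫ ψ :=
        (Sigma.ι_desc (fun i => Formal.smulMod A F (a i)) i).symm
      rw [this, Category.assoc, cokernel.condition, comp_zero]
    | zero => rw [smulMod_zero, zero_comp]
    | add x y _ _ hx hy => rw [smulMod_add, Preadditive.add_comp, hx, hy, add_zero]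
    | smul c x _ hx =>
      rw [smul_eq_mul, mul_comm, ← smulMod_mul, Category.assoc, hx, comp_zero]
  have claim : Formal.smulFamily (I ^ n) F ≫ cokernel.π ψ = 0 := by
    apply Sigma.hom_ext
    intro b
    rw [comp_zero, ← Category.assoc]
    unfold Formal.smulFamily
    rw [Sigma.ι_desc]
    exact claim0 _ (by rw [ha]; exact b.2)
  let θ : Formal.modPow I n F ⟶ cokernel ψ := cokernel.desc _ (cokernel.π ψ) claim
  have hθ : Formal.modPowπ I n F ≫ θ = cokernel.π ψ := cokernel.π_desc _ _ _
  set x := (incl I F n).app W y with hx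
  have h1 : (cokernel.π ψ).app W x = 0 := by
    rw [← hθ]
    change θ.app W ((Formal.modPowπ I n F).app W ((incl I F n).app W y)) = 0
    have h2 := congrArg (fun φ => Scheme.Modules.Hom.app φ W y) (incl_π I F n)
    change (Formal.modPowπ I n F).app W ((incl I F n).app W y) = 0 at h2
    rw [h2, map_zero]
  -- exactness of the image sequence
  let S' : ShortComplex X.Modules := ShortComplex.mk (Abelian.image.ι ψ) (cokernel.π ψ)
    (kernel.condition _)
  have hS' : S'.Exact := ShortComplex.exact_of_f_is_kernel _ (kernelIsKernel (cokernel.π ψ))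
  haveI : Mono S'.f := inferInstanceAs (Mono (kernel.ι _))
  obtain ⟨y', hy'⟩ := QcAbel.app_exact' (S := S') hS' W x h1
  haveI : ∀ i, (B i).IsQuasicoherent := fun _ => ‹F.IsQuasicoherent›
  haveI : (∐ B).IsQuasicoherent := FinSigma.isQuasicoherent_sigma B
  haveI : (Abelian.image ψ).IsQuasicoherent := QcAbel.isQuasicoherent_image ψ
  haveI : Epi (Abelian.factorThruImage ψ) := inferInstance
  obtain ⟨z, hz⟩ := AffPushEpi.app_surjective_of_epi (Abelian.factorThruImage ψ) W hW y'
  have h3 : x = ψ.app W z := by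
    rw [← hy', ← hz]
    exact congrArg (fun φ => Scheme.Modules.Hom.app φ W z) (Abelian.image.fac ψ)
  rw [h3, FinSigma.desc_app]
  refine Submodule.sum_mem _ fun i _ => ?_
  exact Submodule.subset_span ⟨a i, ha' i, (FinSigma.q B i).app W z, rfl⟩

end Sections

end Groth.Agent.Lib.Helper4.IPow1
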