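import Mathlib
import Groth.Prelude.Def_Formal
import Groth.Agent.Lib.Helper4.IPow1
import Groth.Agent.Lib.Helper4.HHFin3
import Groth.Agent.Lib.Helper4.DuF5

/-!
# Sheaf-level lemmas for the theorem on formal functions: naturality of the connecting map, transition maps of the system F/I^nF, multiplication on I^nF (helper4)
-/

set_option backward.isDefEq.respectTransparency.types false
set_option synthInstance.maxHeartbeats 400000
set_option autoImplicit false
set_option linter.unusedSectionVars false
set_option linter.style.haveILetI false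
set_option linter.unusedSimpArgs false
universe u v w
open CategoryTheory
open CategoryTheory.Limits
open AlgebraicGeometry
open TopologicalSpace
open Opposite
open CategoryTheory.Abelian
open Groth.Agent.Helper1
open Groth.Agent.Lib.Helper4
open Groth.Agent.Lib.Helper4.IPow1

namespace Groth.Agent.Lib.Helper4.FFSheaf1

section ExtNat
variable {C : Type u} [Category.{v} C] [Abelian C] [HasExt.{w} C]

theorem extClass_nat {S S' : ShortComplex C} (hS : S.ShortExact) (hS' : S'.ShortExact) (φ : S ⟶ S')
    {Z : C} {n : ℕ} (x : Ext Z S.X₃ n) :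
    (x.comp (Ext.mk₀ φ.τ₃) (add_zero n)).comp hS'.extClass rfl =
      (x.comp hS.extClass rfl).comp (Ext.mk₀ φ.τ₁) (add_zero (n + 1)) := by
  have hnat := ShortComplex.ShortExact.extClass_naturality hS hS' φ
  exact (Ext.comp_assoc_of_second_deg_zero x (Ext.mk₀ φ.τ₃) hS'.extClass rfl).trans
    ((congrArg (fun t => x.comp t rfl) hnat.symm).trans
      (Ext.comp_assoc_of_third_deg_zero x hS.extClass (Ext.mk₀ φ.τ₁) rfl).symm)

end ExtNat

variable (A : Type u) [CommRing A] {X : Scheme.{u}} [X.Over (Spec (CommRingCat.of A))]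

section Delta
variable {S S' : ShortComplex X.Modules} (hS : S.ShortExact) (hS' : S'.ShortExact) (φ : S ⟶ S')

/-- the induced morphism of short complexes of abelian sheaves -/
noncomputable def mapSab : HHFin2.Sab S ⟶ HHFin2.Sab S' where
  τ₁ := (SheafOfModules.toSheaf X.ringCatSheaf).map φ.τ₁
  τ₂ := (SheafOfModules.toSheaf X.ringCatSheaf).map φ.τ₂
  τ₃ := (SheafOfModules.toSheaf X.ringCatSheaf).map φ.τ₃
  comm₁₂ := (Functor.map_comp _ _ _).symm.trans
    ((congrArg (SheafOfModules.toSheaf X.ringCatSheaf).map φ.comm₁₂).trans (Functor.map_comp _ _ _))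
  comm₂₃ := (Functor.map_comp _ _ _).symm.trans
    ((congrArg (SheafOfModules.toSheaf X.ringCatSheaf).map φ.comm₂₃).trans (Functor.map_comp _ _ _))

/-- naturality of the connecting homomorphism -/
theorem delta_nat (i : ℕ) (x : Coh.HH X S.X₃ i) :
    HHFin2.deltaLin A hS' i (Canon.HHlin A φ.τ₃ i x) =
      Canon.HHlin A φ.τ₁ (i + 1) (HHFin2.deltaLin A hS i x) :=
  extClass_nat.{u+1, u, u} (HHFin2.Sab_shortExact hS) (HHFin2.Sab_shortExact hS') (mapSab φ) x

end Delta

variable {A} (I : Ideal A) (F : X.Modules)

theorem compl_refl (n : ℕ) : (Formal.completion I F).map (homOfLE (le_refl n)).op = 𝟙 _ := by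
  have : (homOfLE (le_refl n)) = 𝟙 n := rfl
  rw [this, op_id]
  exact CategoryTheory.Functor.map_id _ _

theorem compl_succ {n k : ℕ} (h : n ≤ k) :
    (Formal.completion I F).map (homOfLE (h.trans (Nat.le_succ k))).op =
      Formal.modPowTrans I (k + 1) F ≫ (Formal.completion I F).map (homOfLE h).op := by
  have e : homOfLE (h.trans (Nat.le_succ k)) = homOfLE h ≫ homOfLE (Nat.le_succ k) := rfl
  rw [e, op_comp, Functor.map_comp]
  congr 1
  exact Functor.ofOpSequence_map_homOfLE_succ _ k

theorem π_trans {n k : ℕ} (h : n ≤ k) :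
    Formal.modPowπ I (k + 1) F ≫ (Formal.completion I F).map (homOfLE h).op =
      Formal.modPowπ I (n + 1) F := by
  induction k, h using Nat.le_induction with
  | base =>
    rw [compl_refl]
    exact Category.comp_id _
  | succ k hk ih =>
    rw [compl_succ, ← Category.assoc, Formal.modPowπ_trans]
    exact ih

theorem iota_refl (j : ℕ) : iota I F (le_refl j) = 𝟙 _ := by
  rw [← cancel_mono (incl I F j), iota_incl, Category.id_comp]

theorem iota_trans {i j k : ℕ} (h1 : i ≤ j) (h2 : j ≤ k) :
    iota I F h2 ≫ iota I F h1 = iota I F (h1.trans h2) := by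
  rw [← cancel_mono (incl I F i), Category.assoc, iota_incl, iota_incl, iota_incl]

theorem mu_iota_self (j : ℕ) (a : A) (ha : a ∈ I ^ 1) :
    mu I F j 1 a ha ≫ iota I F (Nat.le_succ j) = Formal.smulMod A (Pn I F j) a := by
  rw [← cancel_mono (incl I F j), Category.assoc, iota_incl, mu_incl, smulMod_nat]

theorem smulMod_modPow_zero {j : ℕ} {a : A} (ha : a ∈ I ^ j) :
    Formal.smulMod A (Formal.modPow I j F) a = 0 := by
  haveI : Epi (Formal.modPowπ I j F) := inferInstanceAs (Epi (cokernel.π _))
  rw [← cancel_epi (Formal.modPowπ I j F), comp_zero, ← smulMod_nat, smulMod_π I F ha]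

end Groth.Agent.Lib.Helper4.FFSheaf1
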