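import Mathlib
import Groth.Agent.Lib.Helper1.SubSh
import Groth.Agent.Lib.Helper1.TwistSec

/-!
# Sections of arbitrary coproducts of O_X-modules: local spans, finite support on quasi-compact opens (helper4)
-/

set_option backward.isDefEq.respectTransparency.types false
set_option synthInstance.maxHeartbeats 400000
set_option autoImplicit false
set_option linter.unusedSectionVars false
set_option linter.style.haveILetI false
set_option linter.unusedSimpArgs false
universe u v w
open CategoryTheory CategoryTheory.Limits AlgebraicGeometry TopologicalSpace Opposite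
open Groth.Agent.Helper1
open Groth.Agent.Helper1.QcCech
open Groth.Agent.Helper1.SubSh

namespace Groth.Agent.Lib.Helper4.DuD1

variable {X : Scheme.{u}} {ι : Type u} (B : ι → X.Modules)


/-- naturality of restriction -/
theorem app_res {M N : X.Modules} (φ : M ⟶ N) {U V : X.Opens} (h : V ≤ U) (s : Γ(M, U)) :
    φ.app V (res M h s) = res N h (φ.app U s) := by
  exact (ConcreteCategory.congr_hom (φ.mapPresheaf.naturality (homOfLE h).op) s)

/-- the family of submodules spanned by the images of the summands -/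
noncomputable def imgPre : PreSub (∐ B) where
  carrier U := Submodule.span Γ(X, U) (⋃ j, Set.range (fun s : Γ(B j, U) => (Sigma.ι B j).app U s))
  res_mem := by
    intro U V h t ht
    induction ht using Submodule.span_induction with
    | mem y hy =>
      obtain ⟨j, s, rfl⟩ := Set.mem_iUnion.1 hy
      apply Submodule.subset_span
      refine Set.mem_iUnion.2 ⟨j, res (B j) h s, ?_⟩
      exact app_res (Sigma.ι B j) h s
    | zero => rw [map_zero]; exact Submodule.zero_mem _
    | add x y _ _ hx hy => rw [map_add]; exact Submodule.add_mem _ hx hy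
    | smul r x _ hx => rw [res_smul]; exact Submodule.smul_mem _ _ hx

/-- the local family -/
noncomputable def imgLoc : LocalSub (∐ B) := (imgPre B).loc

theorem ι_mem (j : ι) (U : X.Opens) (s : Γ(B j, U)) :
    (Sigma.ι B j).app U s ∈ (imgLoc B).carrier U :=
  (imgPre B).le_loc (Submodule.subset_span (Set.mem_iUnion.2 ⟨j, s, rfl⟩))

noncomputable def sect : ∐ B ⟶ (imgLoc B).obj :=
  Sigma.desc fun j => (imgLoc B).lift (Sigma.ι B j) (ι_mem B j)

theorem sect_ι : sect B ≫ (imgLoc B).ι = 𝟙 _ := by
  apply Sigma.hom_ext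
  intro j
  rw [sect, Sigma.ι_desc_assoc, LocalSub.lift_ι, Category.comp_id]

instance : IsIso (imgLoc B).ι := by
  haveI : IsSplitEpi (imgLoc B).ι := ⟨⟨⟨sect B, sect_ι B⟩⟩⟩
  exact isIso_of_mono_of_isSplitEpi _

/-- every section of a coproduct is locally a combination of sections of the summands -/
theorem locally_mem_span {U : X.Opens} (t : Γ(∐ B, U)) (x : X) (hx : x ∈ U) :
    ∃ (W : X.Opens) (h : W ≤ U), x ∈ W ∧ res (∐ B) h t ∈
      Submodule.span Γ(X, W) (⋃ j, Set.range (fun s : Γ(B j, W) => (Sigma.ι B j).app W s)) :=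
  (imgLoc B).mem_of_isIso t x hx

open Classical in
/-- finite support property of a section of a coproduct -/
def FinSupp {U : X.Opens} (t : Γ(∐ B, U)) (J : Finset ι) : Prop :=
  (∀ i, i ∉ J → (Sigma.π B i).app U t = 0) ∧
    t = ∑ j ∈ J, (Sigma.ι B j).app U ((Sigma.π B j).app U t)

open Classical in
theorem finSupp_mono {U : X.Opens} {t : Γ(∐ B, U)} {J J' : Finset ι} (hJ : J ⊆ J')
    (h : FinSupp B t J) : FinSupp B t J' := by
  refine ⟨fun i hi => h.1 i (fun hi' => hi (hJ hi')), ?_⟩
  have h2 := h.2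
  rw [← Finset.sum_subset hJ]
  · exact h2
  · intro j _ hj
    rw [h.1 j hj, map_zero]

open Classical in
theorem π_ι_app (i j : ι) {U : X.Opens} (s : Γ(B j, U)) :
    (Sigma.π B i).app U ((Sigma.ι B j).app U s) = (Sigma.ι B j ≫ Sigma.π B i).app U s := rfl

open Classical in
theorem finSupp_of_mem_span {U : X.Opens} {t : Γ(∐ B, U)}
    (ht : t ∈ Submodule.span Γ(X, U)
      (⋃ j, Set.range (fun s : Γ(B j, U) => (Sigma.ι B j).app U s))) :
    ∃ J, FinSupp B t J := by
  induction ht using Submodule.span_induction with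
  | mem y hy =>
    obtain ⟨j, s, rfl⟩ := Set.mem_iUnion.1 hy
    refine ⟨{j}, fun i hi => ?_, ?_⟩
    · have hij : j ≠ i := fun h => hi (by rw [h]; exact Finset.mem_singleton_self _)
      change (Sigma.π B i).app U ((Sigma.ι B j).app U s) = 0
      rw [π_ι_app, Sigma.ι_π_of_ne B hij]
      rfl
    · rw [Finset.sum_singleton]
      change (Sigma.ι B j).app U s = (Sigma.ι B j).app U ((Sigma.π B j).app U ((Sigma.ι B j).app U s))
      rw [π_ι_app, Sigma.ι_π_eq_id]
      rfl
  | zero =>
    refine ⟨∅, fun i _ => map_zero _, ?_⟩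
    rw [Finset.sum_empty]
  | add x y _ _ hx hy =>
    obtain ⟨J, hJ⟩ := hx
    obtain ⟨J', hJ'⟩ := hy
    have h1 := finSupp_mono B (Finset.subset_union_left (s₂ := J')) hJ
    have h2 := finSupp_mono B (Finset.subset_union_right (s₁ := J)) hJ'
    refine ⟨J ∪ J', fun i hi => ?_, ?_⟩
    · rw [map_add, h1.1 i hi, h2.1 i hi, add_zero]
    · conv_lhs => rw [h1.2, h2.2]
      rw [← Finset.sum_add_distrib]
      refine Finset.sum_congr rfl fun j _ => ?_
      rw [map_add, map_add]
  | smul r x _ hx =>
    obtain ⟨J, hJ⟩ := hx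
    refine ⟨J, fun i hi => ?_, ?_⟩
    · rw [Scheme.Modules.Hom.app_smul, hJ.1 i hi, smul_zero]
    · conv_lhs => rw [hJ.2]
      rw [Finset.smul_sum]
      refine Finset.sum_congr rfl fun j _ => ?_
      rw [Scheme.Modules.Hom.app_smul, Scheme.Modules.Hom.app_smul]

open Classical in
theorem finSupp_of_isCompact {U : X.Opens} (hU : IsCompact (U : Set X)) (t : Γ(∐ B, U)) :
    ∃ J, FinSupp B t J := by
  have h := fun x : U => locally_mem_span B t x.1 x.2
  choose W hW hxW hmem using h
  have hJ := fun x : U => finSupp_of_mem_span B (hmem x)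
  choose J hJ using hJ
  obtain ⟨S, hS⟩ := hU.elim_finite_subcover (fun x : U => (W x : Set X)) (fun x => (W x).isOpen)
    (fun y hy => Set.mem_iUnion.2 ⟨⟨y, hy⟩, hxW ⟨y, hy⟩⟩)
  have hcov : ∀ y ∈ U, ∃ x ∈ S, y ∈ W x := by
    intro y hy
    have := hS hy
    simp only [Set.mem_iUnion] at this
    obtain ⟨x, hx, hy⟩ := this
    exact ⟨x, hx, hy⟩
  refine ⟨S.biUnion J, fun i hi => ?_, ?_⟩
  · apply TwistSec.eq_of_locally (B i)
    intro y hy
    obtain ⟨x, hxS, hyx⟩ := hcov y hy
    refine ⟨W x, hW x, hyx, ?_⟩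
    rw [map_zero, ← app_res]
    exact (hJ x).1 i (fun hi' => hi (Finset.mem_biUnion.2 ⟨x, hxS, hi'⟩))
  · apply TwistSec.eq_of_locally (∐ B)
    intro y hy
    obtain ⟨x, hxS, hyx⟩ := hcov y hy
    refine ⟨W x, hW x, hyx, ?_⟩
    have h1 := finSupp_mono B (Finset.subset_biUnion_of_mem J hxS) (hJ x)
    rw [map_sum]
    conv_lhs => rw [h1.2]
    refine Finset.sum_congr rfl fun j _ => ?_
    rw [← app_res, ← app_res]
end Groth.Agent.Lib.Helper4.DuD1
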