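import Mathlib
import Groth.Agent.Lib.Helper4.DuD1
import Groth.Agent.Lib.Helper4.PnE4
import Groth.Agent.Lib.Lead.QB3

/-!
# Top Čech cohomology of infinite coproducts on projective space is generated by the summands (helper4)
-/

set_option backward.isDefEq.respectTransparency.types false
set_option synthInstance.maxHeartbeats 400000
set_option autoImplicit false
set_option linter.unusedSectionVars false
set_option linter.style.haveILetI false
set_option linter.unusedSimpArgs false
universe u v w
open CategoryTheory CategoryTheory.Limits AlgebraicGeometry TopologicalSpace Opposite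
open Groth.Agent.Helper1
open Groth.Agent.Helper1.QcCech
open Groth.Agent.Lib.Helper4.PnC1
open Groth.Agent.Lib.Helper4.PnC6
open Groth.Agent.Lib.Helper4

namespace Groth.Agent.Lib.Helper4.DuD2

section General
variable {X : TopCat.{u}} {ι : Type u} (U : ι → Opens X)
variable {P Q : (Opens X)ᵒᵖ ⥤ AddCommGrpCat.{u}} (φ : P ⟶ Q)

theorem map_proj (p : ℕ) (a : Fin (p + 1) → ι) :
    ((cechComplexFunctor U).map φ).f p ≫ TCx.proj U Q p a =
      TCx.proj U P p a ≫ φ.app (op (TCx.W U a)) := by
  have hA : ((cechComplexFunctor U).map φ).f p = Limits.Pi.map (fun a : Fin (p + 1) → ι =>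
      φ.app (op (∏ᶜ fun k => U (a k)))) := rfl
  rw [hA]
  exact Pi.map_π _ a

theorem map_proj_apply (p : ℕ) (a : Fin (p + 1) → ι) (c : (TCx.K U P).X p) :
    (TCx.proj U Q p a).hom ((((cechComplexFunctor U).map φ).f p).hom c) =
      (φ.app (op (TCx.W U a))).hom ((TCx.proj U P p a).hom c) :=
  ConcreteCategory.congr_hom (map_proj U φ p a) c

end General

section Hom
variable {α : Type*} (K : CochainComplex AddCommGrpCat.{u} ℕ) (p : ℕ)

theorem homology_sum (f : α → (K ⟶ K)) (J : Finset α) (z : K.cycles p)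
    (h : (K.iCycles p).hom z = ∑ j ∈ J, ((f j).f p).hom ((K.iCycles p).hom z)) :
    (K.homologyπ p).hom z =
      ∑ j ∈ J, (HomologicalComplex.homologyMap (f j) p).hom ((K.homologyπ p).hom z) := by
  have hinj : Function.Injective (K.iCycles p).hom :=
    (AddCommGrpCat.mono_iff_injective _).1 inferInstance
  have hz : z = ∑ j ∈ J, (HomologicalComplex.cyclesMap (f j) p).hom z := by
    apply hinj
    rw [map_sum]
    refine h.trans (Finset.sum_congr rfl fun j _ => ?_)
    exact (ConcreteCategory.congr_hom (HomologicalComplex.cyclesMap_i (f j) p) z).symm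
  conv_lhs => rw [hz]
  rw [map_sum]
  refine Finset.sum_congr rfl fun j _ => ?_
  exact (ConcreteCategory.congr_hom (HomologicalComplex.homologyπ_naturality (f j) p) z).symm

end Hom


section Main
variable (n : ℕ) (R : Type u) [CommRing R]

/-- the natural Leray comparison for the standard cover, for a general module -/
noncomputable def EM (M : (CohB1.ProjSpace n R).Modules) (p : ℕ) :
    CohTop.cechH (Coh.toAb M).obj (UU n R) p →+ Coh.HH (CohB1.ProjSpace n R) M p :=
  PnE3.EE (UU n R) (PnE4.hTn n R) (Coh.toAb M) p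

theorem isAffineOpen_iInf {p : ℕ} (a : Fin (p + 1) → II.{u} n) :
    IsAffineOpen (X := CohB1.ProjSpace n R) (iInf fun k => US n R (a k)) := by
  have h1 : (iInf fun k => US n R (a k)) = ⨅ i ∈ (Finset.univ.image a : Finset (II.{u} n)), US n R i := by
    apply le_antisymm
    · refine le_iInf fun i => le_iInf fun hi => ?_
      obtain ⟨k, -, rfl⟩ := Finset.mem_image.1 hi
      exact iInf_le _ k
    · refine le_iInf fun k => ?_
      exact (iInf_le _ (a k)).trans (iInf_le _ (Finset.mem_image_of_mem a (Finset.mem_univ k)))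
  rw [h1]
  exact isAffineOpen_iInf_US n R _ ⟨a 0, Finset.mem_image_of_mem a (Finset.mem_univ 0)⟩

theorem isAffineOpen_W {p : ℕ} (a : Fin (p + 1) → II.{u} n) :
    IsAffineOpen (X := CohB1.ProjSpace n R) (TCx.W (US n R) a) := by
  have h0 : TCx.W (US n R) a = iInf fun k => US n R (a k) := TCx.W_eq_iInf (US n R) a
  rw [h0]
  exact isAffineOpen_iInf n R a

theorem EM_bijective (M : (CohB1.ProjSpace n R).Modules) [Coh.IsQCoh M] (p : ℕ) :
    Function.Bijective (EM n R M p) := by
  apply PnE3.EE_bijective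
  intro q a r
  have h2 := isAffineOpen_iInf n R a
  exact Groth.Agent.Helper1.QcAcyc.subsingleton_HU M _ h2 r

theorem EM_natural {M N : (CohB1.ProjSpace n R).Modules} (φ : M ⟶ N) (p : ℕ)
    (x : CohTop.cechH (Coh.toAb M).obj (UU n R) p) :
    EM n R N p ((HomologicalComplex.homologyMap ((cechComplexFunctor (UU n R)).map
      ((SheafOfModules.toSheaf _).map φ).hom) p).hom x) =
      Sheaf.H.map ((SheafOfModules.toSheaf _).map φ) p (EM n R M p x) :=
  PnE3.EE_natural (UU n R) (PnE4.hTn n R) ((SheafOfModules.toSheaf _).map φ) p x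

end Main

section Gen
variable (n : ℕ) (R : Type u) [CommRing R]
variable {ι : Type u} (B : ι → (CohB1.ProjSpace n R).Modules) [∀ j, Coh.IsQCoh (B j)]

open Classical in
theorem gen_images (p : ℕ) (x : Coh.HH (CohB1.ProjSpace n R) (∐ B) p) :
    ∃ J : Finset ι, x = ∑ j ∈ J,
      Sheaf.H.map ((SheafOfModules.toSheaf _).map (Sigma.π B j ≫ Sigma.ι B j)) p x := by
  haveI : Coh.IsQCoh (∐ B) := Groth.Agent.Lead.QB.isQuasicoherent_sigma B
  obtain ⟨y, rfl⟩ := (EM_bijective n R (∐ B) p).2 x
  let K := TCx.K (UU n R) (Coh.toAb (∐ B)).obj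
  have hepi : Epi (K.homologyπ p) := by
    dsimp only [K]
    infer_instance
  obtain ⟨z, rfl⟩ : ∃ z : K.cycles p, (K.homologyπ p).hom z = y :=
    (AddCommGrpCat.epi_iff_surjective _).1 hepi y
  have hJ : ∀ a : Fin (p + 1) → II.{u} n, ∃ J, DuD1.FinSupp B
      (show Γ(∐ B, TCx.W (US n R) a) from
        (TCx.proj (UU n R) (Coh.toAb (∐ B)).obj p a).hom ((K.iCycles p).hom z)) J :=
    fun a => DuD1.finSupp_of_isCompact B (isAffineOpen_W n R a).isCompact _
  choose J hJ using hJ
  have hc : (K.iCycles p).hom z = ∑ j ∈ Finset.univ.biUnion J,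
      (((cechComplexFunctor (UU n R)).map
        ((SheafOfModules.toSheaf _).map (Sigma.π B j ≫ Sigma.ι B j)).hom).f p).hom
        ((K.iCycles p).hom z) := by
    apply TCx.ext
    intro a
    rw [map_sum]
    have h1 := (DuD1.finSupp_mono B (Finset.subset_biUnion_of_mem J (Finset.mem_univ a)) (hJ a)).2
    refine h1.trans (Finset.sum_congr rfl fun j _ => ?_)
    rw [map_proj_apply]
    rfl
  have h2 := homology_sum K p (fun j => (cechComplexFunctor (UU n R)).map
        ((SheafOfModules.toSheaf _).map (Sigma.π B j ≫ Sigma.ι B j)).hom) (Finset.univ.biUnion J) z hc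
  refine ⟨Finset.univ.biUnion J, ?_⟩
  refine (congrArg (EM n R (∐ B) p) h2).trans ((map_sum (EM n R (∐ B) p) _ _).trans ?_)
  exact Finset.sum_congr rfl fun j _ => EM_natural n R _ p _

end Gen
end Groth.Agent.Lib.Helper4.DuD2
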