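import Mathlib
import Groth.Agent.Lib.Helper1.TCx
import Groth.Agent.Lib.Helper4.DuD2

/-!
# Maps of Cech complexes (possibly on different spaces) from compatible families of section maps (helper4)
-/

set_option backward.isDefEq.respectTransparency.types false
set_option synthInstance.maxHeartbeats 400000
set_option autoImplicit false
set_option linter.unusedSectionVars false
set_option linter.style.haveILetI false
set_option linter.unusedSimpArgs false
universe u v w
open CategoryTheory
open CategoryTheory.Limits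
open TopologicalSpace
open Opposite
open Groth.Agent.Helper1

namespace Groth.Agent.Lib.Helper4.CechMap1

variable {X X' X'' : TopCat.{u}} {ι : Type u} (U : ι → Opens X) (U' : ι → Opens X') (U'' : ι → Opens X'')
variable (P : (Opens X)ᵒᵖ ⥤ AddCommGrpCat.{u}) (P' : (Opens X')ᵒᵖ ⥤ AddCommGrpCat.{u})
  (P'' : (Opens X'')ᵒᵖ ⥤ AddCommGrpCat.{u})

/-- a compatible family of maps on the values at the finite intersections -/
structure Fam where
  θ : ∀ (n : ℕ) (a : Fin (n + 1) → ι), P.obj (op (TCx.W U a)) →+ P'.obj (op (TCx.W U' a))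
  comm : ∀ (n : ℕ) (a : Fin (n + 2) → ι) (i : Fin (n + 2))
    (y : P.obj (op (TCx.W U (fun k => a (i.succAbove k))))),
    θ (n + 1) a ((P.map (homOfLE (TCx.W_face_le U a i)).op).hom y) =
      (P'.map (homOfLE (TCx.W_face_le U' a i)).op).hom (θ n (fun k => a (i.succAbove k)) y)

variable {U U' U'' P P' P''}

noncomputable def Fam.f (F : Fam U U' P P') (n : ℕ) : (TCx.K U P).X n ⟶ (TCx.K U' P').X n :=
  Pi.lift fun a => TCx.proj U P n a ≫ AddCommGrpCat.ofHom (F.θ n a)

lemma Fam.f_proj (F : Fam U U' P P') (n : ℕ) (a : Fin (n + 1) → ι) (x : (TCx.K U P).X n) :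
    (TCx.proj U' P' n a).hom ((F.f n).hom x) = F.θ n a ((TCx.proj U P n a).hom x) := by
  have h : F.f n ≫ TCx.proj U' P' n a = TCx.proj U P n a ≫ AddCommGrpCat.ofHom (F.θ n a) :=
    Pi.lift_π _ a
  exact ConcreteCategory.congr_hom h x

noncomputable def Fam.map (F : Fam U U' P P') : TCx.K U P ⟶ TCx.K U' P' where
  f := F.f
  comm' := by
    intro i j hij
    have hij' : i + 1 = j := hij
    subst hij'
    apply ConcreteCategory.hom_ext
    intro x
    apply TCx.ext U' P' (i + 1)
    intro a
    rw [ConcreteCategory.comp_apply, ConcreteCategory.comp_apply, Fam.f_proj, TCx.d_apply, TCx.d_apply,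
      map_sum]
    refine Finset.sum_congr rfl fun k _ => ?_
    rw [map_zsmul, F.comm, Fam.f_proj]

lemma Fam.map_proj (F : Fam U U' P P') (n : ℕ) (a : Fin (n + 1) → ι) (x : (TCx.K U P).X n) :
    (TCx.proj U' P' n a).hom ((F.map.f n).hom x) = F.θ n a ((TCx.proj U P n a).hom x) :=
  F.f_proj n a x

/-- extensionality for maps of Čech complexes -/
lemma hom_ext' (Θ₁ Θ₂ : TCx.K U P ⟶ TCx.K U' P')
    (h : ∀ (n : ℕ) (a : Fin (n + 1) → ι) (x : (TCx.K U P).X n),
      (TCx.proj U' P' n a).hom ((Θ₁.f n).hom x) = (TCx.proj U' P' n a).hom ((Θ₂.f n).hom x)) :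
    Θ₁ = Θ₂ := by
  apply HomologicalComplex.hom_ext
  intro n
  apply ConcreteCategory.hom_ext
  intro x
  exact TCx.ext U' P' n _ _ (fun a => h n a x)

end Groth.Agent.Lib.Helper4.CechMap1
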