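import Mathlib
import Groth.Prelude.Def_Coh
import Groth.Agent.Lib.Lead.BCU4
import Groth.Agent.Lib.Lead.PBQc
import Groth.Agent.Lib.Helper4.BaseChgRing1
import Groth.Agent.Lib.Helper4.ReesAlg1

/-!
# The Rees base change of a scheme over Spec A: coefficient data of sections of h^*g^*F over preimages of affine opens (helper4)
-/

set_option backward.isDefEq.respectTransparency.types false
set_option synthInstance.maxHeartbeats 400000
set_option autoImplicit false
set_option linter.unusedSectionVars false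
set_option linter.style.haveILetI false
set_option linter.unusedSimpArgs false
universe u v w
open CategoryTheory
open CategoryTheory.Limits
open AlgebraicGeometry
open TopologicalSpace
open Opposite
open Polynomial
open Groth.Agent.Lead.BCU
open Groth.Agent.Lib.Helper4.BaseChgRing1
open Groth.Agent.Lib.Helper4.ReesAlg1

namespace Groth.Agent.Lib.Helper4.ReesGeom1

variable (A : Type u) [CommRing A] (I : Ideal A) (X : Scheme.{u}) [X.Over (Spec (CommRingCat.of A))]
variable (F : X.Modules)

noncomputable abbrev XB : Scheme.{u} := BC A X (reesAlgebra I)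
noncomputable abbrev Xt : Scheme.{u} := BC A X A[X]
noncomputable abbrev gB : XB A I X ⟶ X := pr A X (reesAlgebra I)
noncomputable abbrev hB : Xt A X ⟶ XB A I X := bcMap A X (reesAlgebra I) A[X] (reesAlgebra I).val
noncomputable abbrev KB : (XB A I X).Modules := (Scheme.Modules.pullback (gB A I X)).obj F
noncomputable abbrev HB : (XB A I X).Modules :=
  (Scheme.Modules.pushforward (hB A I X)).obj ((Scheme.Modules.pullback (hB A I X)).obj (KB A I X F))
noncomputable abbrev phiB : KB A I X F ⟶ HB A I X F :=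
  (Scheme.Modules.pullbackPushforwardAdjunction (hB A I X)).unit.app (KB A I X F)

theorem res_self {Z : Scheme.{u}} (H : Z.Modules) {O : Z.Opens} (x : Γ(H, O)) :
    res H (le_refl O) x = x := by
  change H.presheaf.map (𝟙 _) x = x
  rw [CategoryTheory.Functor.map_id]
  rfl

section Aff
variable {X} {W : X.Opens} (hW : IsAffineOpen W)

noncomputable abbrev VB (W : X.Opens) : (XB A I X).Opens := gB A I X ⁻¹ᵁ W
noncomputable abbrev Vt (W : X.Opens) : (Xt A X).Opens := hB A I X ⁻¹ᵁ (gB A I X ⁻¹ᵁ W)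

noncomputable abbrev rhoB (W : X.Opens) : Γ(X, W) →+* Γ(XB A I X, VB A I W) :=
  ((gB A I X).appLE W (VB A I W) le_rfl).hom
noncomputable abbrev etaB (W : X.Opens) : Γ(XB A I X, VB A I W) →+* Γ(Xt A X, Vt A I W) :=
  ((hB A I X).appLE (VB A I W) (Vt A I W) le_rfl).hom
noncomputable abbrev betaB (W : X.Opens) : reesAlgebra I →+* Γ(XB A I X, VB A I W) :=
  alphaRing (reesAlgebra I) (XB A I X) (VB A I W)
noncomputable abbrev betat (W : X.Opens) : A[X] →+* Γ(Xt A X, Vt A I W) :=
  alphaRing A[X] (Xt A X) (Vt A I W)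

lemma hc1 (a : A) : rhoB A I W (alphaRing A X W a) = betaB A I W (algebraMap A (reesAlgebra I) a) :=
  alphaRing_appLE A (reesAlgebra I) W (VB A I W) le_rfl a

lemma hc2 (b : reesAlgebra I) : etaB A I W (betaB A I W b) = betat A I W b.1 :=
  alphaRing_bcMap A X (reesAlgebra I) A[X] (reesAlgebra I).val (VB A I W) (Vt A I W) le_rfl b

include hW in
lemma genB : Subring.closure (Set.range (rhoB A I W) ∪ Set.range (betaB A I W)) = ⊤ :=
  closure_sections A (reesAlgebra I) hW

include hW in
lemma gent : Subring.closure (Set.range ((etaB A I W).comp (rhoB A I W)) ∪ Set.range (betat A I W)) = ⊤ := by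
  have h0 := closure_sections A A[X] hW
  have key : ∀ (q : Xt A X ⟶ X) (hq : hB A I X ≫ gB A I X = q),
      Subring.closure (Set.range (q.appLE W (q ⁻¹ᵁ W) le_rfl).hom ∪
        Set.range (alphaRing A[X] (Xt A X) (q ⁻¹ᵁ W))) = ⊤ →
      Subring.closure (Set.range ((etaB A I W).comp (rhoB A I W)) ∪ Set.range (betat A I W)) = ⊤ := by
    intro q hq h
    subst hq
    have e : (hB A I X ≫ gB A I X).appLE W ((hB A I X ≫ gB A I X) ⁻¹ᵁ W) le_rfl =
        (gB A I X).appLE W (VB A I W) le_rfl ≫ (hB A I X).appLE (VB A I W) (Vt A I W) le_rfl :=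
      (Scheme.Hom.appLE_comp_appLE _ _ _ _ _ _ _).symm
    rw [e] at h
    exact h
  exact key _ (bcMap_pr A X (reesAlgebra I) A[X] (reesAlgebra I).val) h0

include hW in
lemma exists_eps : ∃ ε : Γ(Xt A X, Vt A I W) →+* Γ(X, W)[X],
    (∀ r, ε (etaB A I W (rhoB A I W r)) = C r) ∧
    (∀ f, ε (betat A I W f) = f.map (alphaRing A X W)) := by
  have h0 := exists_desc A A[X] hW (Q := Γ(X, W)[X]) (C : Γ(X, W) →+* Γ(X, W)[X])
    (Polynomial.mapRingHom (alphaRing A X W)) (fun x => by
      change C (alphaRing A X W x) = Polynomial.map (alphaRing A X W) (C x)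
      rw [Polynomial.map_C])
  have key : ∀ (q : Xt A X ⟶ X) (hq : hB A I X ≫ gB A I X = q),
      (∃ d : Γ(Xt A X, q ⁻¹ᵁ W) →+* Γ(X, W)[X],
        (∀ r, d ((q.appLE W (q ⁻¹ᵁ W) le_rfl).hom r) = C r) ∧
        (∀ y, d (alphaRing A[X] (Xt A X) (q ⁻¹ᵁ W) y) = Polynomial.mapRingHom (alphaRing A X W) y)) →
      ∃ ε : Γ(Xt A X, Vt A I W) →+* Γ(X, W)[X],
        (∀ r, ε (etaB A I W (rhoB A I W r)) = C r) ∧
        (∀ f, ε (betat A I W f) = f.map (alphaRing A X W)) := by
    intro q hq h
    subst hq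
    obtain ⟨d, hd1, hd2⟩ := h
    have e : (hB A I X ≫ gB A I X).appLE W ((hB A I X ≫ gB A I X) ⁻¹ᵁ W) le_rfl =
        (gB A I X).appLE W (VB A I W) le_rfl ≫ (hB A I X).appLE (VB A I W) (Vt A I W) le_rfl :=
      (Scheme.Hom.appLE_comp_appLE _ _ _ _ _ _ _).symm
    refine ⟨d, fun r => ?_, fun f => hd2 f⟩
    have := hd1 r
    rw [e] at this
    exact this
  exact key _ (bcMap_pr A X (reesAlgebra I) A[X] (reesAlgebra I).val) h0

variable [F.IsQuasicoherent]

instance : (KB A I X F).IsQuasicoherent := Groth.Agent.Lead.PB.isQuasicoherent_pullback _ _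

/-- the sections of `h^* g^* F` over the preimage of `W` -/
abbrev TT (W : X.Opens) : Type u :=
  Γ((Scheme.Modules.pullback (hB A I X)).obj (KB A I X F), Vt A I W)

/-- the unit maps -/
noncomputable abbrev vv (W : X.Opens) : Γ(F, W) → Γ(KB A I X F, VB A I W) :=
  unitRes (gB A I X) F (le_refl _)
noncomputable abbrev uu' (W : X.Opens) : Γ(KB A I X F, VB A I W) → TT A I F W :=
  unitRes (hB A I X) (KB A I X F) (le_refl _)
noncomputable abbrev uu (W : X.Opens) : Γ(F, W) → TT A I F W := fun m => uu' A I F W (vv A I F W m)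

include hW in
lemma hvv : IsBC (rhoB A I W) (vv A I F W) :=
  isBC_unitRes (gB A I X) F hW (hW.preimage (gB A I X)) (le_refl _)

include hW in
lemma huu' : IsBC (etaB A I W) (uu' A I F W) :=
  isBC_unitRes (hB A I X) (KB A I X F) (hW.preimage (gB A I X))
    ((hW.preimage (gB A I X)).preimage (hB A I X)) (le_refl _)

/-- the variable `t` on the preimage of `W` -/
noncomputable abbrev tt (W : X.Opens) : Γ(Xt A X, Vt A I W) := betat A I W (Polynomial.X : A[X])

/-- the coefficient data over an affine open -/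
structure IsCoef (c : ℕ → (TT A I F W →+ Γ(F, W))) : Prop where
  inj : ∀ w, (∀ k, c k w = 0) → w = 0
  mono : ∀ k n m, c k (tt A I W ^ n • uu A I F W m) = if k = n then m else 0
  range : ∀ w, w ∈ Set.range (uu' A I F W) ↔ ∀ k, c k w ∈ IM I (alphaRing A X W) Γ(F, W) k
  smulB : ∀ (b : reesAlgebra I) w k, c k (etaB A I W (betaB A I W b) • w) =
    ∑ x ∈ Finset.HasAntidiagonal.antidiagonal k, alphaRing A X W (b.1.coeff x.1) • c x.2 w
  smulR : ∀ r w k, c k (etaB A I W (rhoB A I W r) • w) = r • c k w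
  exp : ∀ w, ∃ f : ℕ →₀ Γ(F, W), w = f.sum (fun k m => tt A I W ^ k • uu A I F W m)

include hW in
theorem exists_coef : ∃ c : ℕ → (TT A I F W →+ Γ(F, W)), IsCoef A I F c := by
  obtain ⟨ε, hε1, hε2⟩ := exists_eps A I hW
  have hv := hvv A I F hW
  have hu' := huu' A I F hW
  have hu := isBC_comp hv hu'
  obtain ⟨Φ, hΦ⟩ := exists_Phi ((etaB A I W).comp (rhoB A I W)) (uu' A I F W ∘ vv A I F W) hu ε hε1
  have hgen := hgen_of I (alphaRing A X W) (rhoB A I W) (etaB A I W) (betaB A I W) (betat A I W)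
    (hc1 A I) (hc2 A I) (gent A I hW)
  have hεX : ε (betat A I W (Polynomial.X : A[X])) = Polynomial.X := by rw [hε2, Polynomial.map_X]
  refine ⟨fun k => (Finsupp.applyAddHom k).comp
    ((PolynomialModule.coeffAddEquiv (R := Γ(X, W)) (M := Γ(F, W))).toAddMonoidHom.comp Φ), ?_⟩
  have hc : ∀ k w, ((Finsupp.applyAddHom k).comp
    ((PolynomialModule.coeffAddEquiv (R := Γ(X, W)) (M := Γ(F, W))).toAddMonoidHom.comp Φ)) w =
      (Φ w).coeff k := fun k w => rfl
  refine ⟨?_, ?_, ?_, ?_, ?_, ?_⟩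
  · intro w hw
    apply Phi_injective ((etaB A I W).comp (rhoB A I W)) (betat A I W (Polynomial.X : A[X])) _ hu hΦ hgen hεX
    rw [map_zero]
    apply PolynomialModule.ext
    ext k
    rw [← hc, hw]
    rfl
  · intro k n m
    rw [hc, hΦ.smul, map_pow, hεX, Polynomial.X_pow_eq_monomial]
    have := hΦ.unit m
    change Φ (uu A I F W m) = _ at this
    rw [this, PolynomialModule.monomial_smul_single, add_zero, one_smul,
      PolynomialModule.coeff_single, Finsupp.single_apply]
    simp only [eq_comm]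
  · intro w
    constructor
    · rintro ⟨g, rfl⟩ k
      rw [hc]
      exact coeff_mem_of_range I (alphaRing A X W) (rhoB A I W) (etaB A I W) (betaB A I W)
        (betat A I W) (hc1 A I) (hc2 A I) ε hε1 hε2 (vv A I F W) hv (uu' A I F W) hu' hΦ
        (genB A I hW) g k
    · intro h
      exact mem_range_of_coeff I (alphaRing A X W) (rhoB A I W) (etaB A I W) (betaB A I W)
        (betat A I W) (hc1 A I) (hc2 A I) ε hε1 hε2 (vv A I F W) hv (uu' A I F W) hu' hΦ
        (gent A I hW) w (fun n => by rw [← hc]; exact h n)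
  · intro b w k
    rw [hc, hΦ.smul, hc2, hε2, PolynomialModule.smul_apply]
    refine Finset.sum_congr rfl fun x _ => ?_
    rw [Polynomial.coeff_map]
    rfl
  · intro r w k
    rw [hc, hΦ.smul]
    have : ε (etaB A I W (rhoB A I W r)) = C r := hε1 r
    rw [this, ← Polynomial.monomial_zero_left, PolynomialModule.monomial_smul_apply]
    simp only [zero_le, if_true, Nat.sub_zero]
    rfl
  · intro w
    refine ⟨(Φ w).coeff, ?_⟩
    have h2 := Psi_coeff_Phi ((etaB A I W).comp (rhoB A I W)) (betat A I W (Polynomial.X : A[X])) _ hu hΦ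
      hgen hεX w
    refine h2.symm.trans ?_
    unfold Psi
    rw [Finsupp.liftAddHom_apply]
    rfl

end Aff

end Groth.Agent.Lib.Helper4.ReesGeom1
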