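import Mathlib
import Groth.Prelude.Def_Formal
import Groth.Agent.Lib.Helper4.ReesGeom1
import Groth.Agent.Lib.Helper4.IPow1
import Groth.Agent.Lib.Helper1.QcAbel
import Groth.Agent.Lib.Helper1.QcCech
import Groth.Agent.Lib.Helper1.PushQc

/-!
# The Rees module F' on the Rees base change: naturality of coefficient maps, sections of F' over preimages of affine opens (helper4)
-/

set_option backward.isDefEq.respectTransparency.types false
set_option synthInstance.maxHeartbeats 400000
set_option autoImplicit false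
set_option linter.unusedSectionVars false
set_option linter.style.haveILetI false
set_option linter.unusedSimpArgs false
universe u v w
open CategoryTheory
open CategoryTheory.Limits
open AlgebraicGeometry
open TopologicalSpace
open Opposite
open Polynomial
open Groth.Agent.Helper1
open Groth.Agent.Lead.BCU
open Groth.Agent.Lib.Helper4.BaseChgRing1
open Groth.Agent.Lib.Helper4.ReesAlg1
open Groth.Agent.Lib.Helper4.ReesGeom1
open Groth.Agent.Lib.Helper4.IPow1

namespace Groth.Agent.Lib.Helper4.ReesGeom2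

variable (A : Type u) [CommRing A] (I : Ideal A) {X : Scheme.{u}} [X.Over (Spec (CommRingCat.of A))]
variable (F : X.Modules) [F.IsQuasicoherent]

/-- naturality of the unit under restriction -/
theorem unitRes_res {Y' Y : Scheme.{u}} (h : Y' ⟶ Y) (G : Y.Modules) {W₁ W₂ : Y.Opens} (e : W₂ ≤ W₁)
    (m : Γ(G, W₁)) :
    QcCech.res ((Scheme.Modules.pullback h).obj G) (h.preimage_mono e) (unitRes h G (le_refl _) m) =
      unitRes h G (le_refl _) (QcCech.res G e m) := by
  unfold unitRes
  rw [res_self, res_self]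
  exact (app_res ((Scheme.Modules.pullbackPushforwardAdjunction h).unit.app G) e m).symm

lemma Vt_mono {W₁ W₂ : X.Opens} (e : W₂ ≤ W₁) : Vt A I W₂ ≤ Vt A I W₁ :=
  (hB A I X).preimage_mono ((gB A I X).preimage_mono e)

section Res
variable {W₁ W₂ : X.Opens} (e : W₂ ≤ W₁)

theorem uu_res (m : Γ(F, W₁)) :
    QcCech.res _ (Vt_mono A I e) (uu A I F W₁ m) = uu A I F W₂ (QcCech.res F e m) := by
  unfold uu uu' vv
  rw [unitRes_res (hB A I X) (KB A I X F) ((gB A I X).preimage_mono e),
    unitRes_res (gB A I X) F e]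

theorem tt_res : QcCech.resR (Vt_mono A I e) (tt A I W₁) = tt A I W₂ :=
  alphaRing_res A[X] (Vt_mono A I e) _

theorem term_res (k : ℕ) (m : Γ(F, W₁)) :
    QcCech.res _ (Vt_mono A I e) (tt A I W₁ ^ k • uu A I F W₁ m) =
      tt A I W₂ ^ k • uu A I F W₂ (QcCech.res F e m) := by
  rw [QcCech.res_smul, map_pow, tt_res A I e, uu_res A I F e]

end Res

section Coef
variable {F} {W : X.Opens} {c : ℕ → (TT A I F W →+ Γ(F, W))} (hc : IsCoef A I F c)
include hc

theorem coef_sum (f : ℕ →₀ Γ(F, W)) (k : ℕ) :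
    c k (f.sum (fun j m => tt A I W ^ j • uu A I F W m)) = f k := by
  classical
  rw [map_finsuppSum]
  simp only [hc.mono]
  rw [Finsupp.sum_ite_eq]
  split_ifs with h
  · rfl
  · exact (Finsupp.notMem_support_iff.1 h).symm

end Coef

theorem coef_res {W₁ W₂ : X.Opens} (e : W₂ ≤ W₁) {c₁ : ℕ → (TT A I F W₁ →+ Γ(F, W₁))}
    {c₂ : ℕ → (TT A I F W₂ →+ Γ(F, W₂))} (h₁ : IsCoef A I F c₁) (h₂ : IsCoef A I F c₂)
    (w : TT A I F W₁) (k : ℕ) :
    c₂ k (QcCech.res _ (Vt_mono A I e) w) = QcCech.res F e (c₁ k w) := by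
  obtain ⟨f, rfl⟩ := h₁.exp w
  rw [coef_sum A I h₁, map_finsuppSum]
  simp only [term_res A I F e]
  have : (f.sum fun j m => tt A I W₂ ^ j • uu A I F W₂ (QcCech.res F e m)) =
      (f.mapRange (QcCech.res F e) (map_zero _)).sum (fun j m => tt A I W₂ ^ j • uu A I F W₂ m) := by
    rw [Finsupp.sum_mapRange_index]
    intro j
    have h0 : uu A I F W₂ 0 = 0 := by
      have := h₂.mono 0 0 (0 : Γ(F, W₂))
      apply h₂.inj
      intro k'
      have h3 := h₂.mono k' 0 (0 : Γ(F, W₂))
      rw [pow_zero, one_smul] at h3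
      rw [h3]
      split_ifs <;> rfl
    rw [h0, smul_zero]
  rw [this, coef_sum A I h₂]
  rfl

/-! ### the Rees module `F'` -/

instance : ((Scheme.Modules.pullback (hB A I X)).obj (KB A I X F)).IsQuasicoherent :=
  Groth.Agent.Lead.PB.isQuasicoherent_pullback _ _

instance : (HB A I X F).IsQuasicoherent :=
  PushQc.isQuasicoherent_pushforward (hB A I X) _

/-- the Rees module of `F` on the Rees base change -/
noncomputable abbrev Fp : (XB A I X).Modules := Abelian.image (phiB A I X F)

noncomputable abbrev jp : Fp A I F ⟶ HB A I X F := Abelian.image.ι (phiB A I X F)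

noncomputable abbrev ep : KB A I X F ⟶ Fp A I F := Abelian.factorThruImage (phiB A I X F)

instance : (Fp A I F).IsQuasicoherent := QcAbel.isQuasicoherent_image (phiB A I X F)

theorem jp_injective (V : (XB A I X).Opens) : Function.Injective ((jp A I F).app V) :=
  haveI : Mono (jp A I F) := inferInstanceAs (Mono (kernel.ι _))
  FtLocal.app_injective_of_mono (jp A I F) V

theorem phiB_app (W : X.Opens) (m : Γ(KB A I X F, VB A I W)) :
    (phiB A I X F).app (VB A I W) m = uu' A I F W m := by
  unfold uu' unitRes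
  rw [res_self]

theorem mem_range_jp_iff {W : X.Opens} (hW : IsAffineOpen W) (w : TT A I F W) :
    w ∈ Set.range ((jp A I F).app (VB A I W)) ↔ w ∈ Set.range (uu' A I F W) := by
  constructor
  · rintro ⟨y, rfl⟩
    haveI : Epi (ep A I F) := inferInstanceAs (Epi (Abelian.factorThruImage _))
    obtain ⟨z, rfl⟩ := AffPushEpi.app_surjective_of_epi (ep A I F) (VB A I W)
      (hW.preimage (gB A I X)) y
    refine ⟨z, ?_⟩
    rw [← phiB_app]
    exact (congrArg (fun φ => Scheme.Modules.Hom.app φ (VB A I W) z)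
      (Abelian.image.fac (phiB A I X F))).symm
  · rintro ⟨z, rfl⟩
    refine ⟨(ep A I F).app (VB A I W) z, ?_⟩
    rw [← phiB_app]
    exact congrArg (fun φ => Scheme.Modules.Hom.app φ (VB A I W) z)
      (Abelian.image.fac (phiB A I X F))

theorem mem_range_jp_iff_coef {W : X.Opens} (hW : IsAffineOpen W)
    {c : ℕ → (TT A I F W →+ Γ(F, W))} (hc : IsCoef A I F c) (w : TT A I F W) :
    w ∈ Set.range ((jp A I F).app (VB A I W)) ↔
      ∀ k, c k w ∈ IM I (alphaRing A X W) Γ(F, W) k := by
  rw [mem_range_jp_iff A I F hW]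
  exact hc.range w

end Groth.Agent.Lib.Helper4.ReesGeom2
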