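import Mathlib

/-!
# Noetherian property of graded objects acted on by the Rees algebra (helper4)
-/

set_option backward.isDefEq.respectTransparency.types false
set_option synthInstance.maxHeartbeats 400000
set_option autoImplicit false
set_option linter.unusedSectionVars false
set_option linter.style.haveILetI false
set_option linter.unusedSimpArgs false
universe u v w
open Polynomial

namespace Groth.Agent.Lib.Helper4.ReesNoeth1

variable {A : Type u} [CommRing A] (I : Ideal A)

/-- the degree one element `a t` of the Rees algebra -/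
noncomputable def mon1 (a : A) (ha : a ∈ I) : reesAlgebra I :=
  ⟨Polynomial.monomial 1 a, reesAlgebra.monomial_mem.2 (by simpa using ha)⟩

theorem rees_gen (S : Subalgebra A (reesAlgebra I))
    (hS : ∀ (a : A) (ha : a ∈ I), mon1 I a ha ∈ S) : S = ⊤ := by
  rw [eq_top_iff]
  rintro ⟨b, hb⟩ -
  have hb' : b ∈ Algebra.adjoin A
      (Submodule.map (Polynomial.monomial 1 : A →ₗ[A] A[X]) I : Set A[X]) := by
    rw [adjoin_monomial_eq_reesAlgebra]; exact hb
  have hle : Algebra.adjoin A
      (Submodule.map (Polynomial.monomial 1 : A →ₗ[A] A[X]) I : Set A[X]) ≤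
      S.map (reesAlgebra I).val := by
    apply Algebra.adjoin_le
    rintro x ⟨a, ha, rfl⟩
    exact ⟨mon1 I a ha, hS a ha, rfl⟩
  obtain ⟨b', hb'S, hb'e⟩ := hle hb'
  have : b' = ⟨b, hb⟩ := Subtype.ext hb'e
  rw [← this]
  exact hb'S

variable {W : Type v} [AddCommGroup W] [Module (reesAlgebra I) W]

/-- a subgroup stable under the generators of the Rees algebra is stable under the Rees algebra -/
theorem smul_mem_of_gen (V : AddSubgroup W)
    (h1 : ∀ (r : A), ∀ w ∈ V, (algebraMap A (reesAlgebra I) r) • w ∈ V)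
    (h2 : ∀ (a : A) (ha : a ∈ I), ∀ w ∈ V, mon1 I a ha • w ∈ V) (b : reesAlgebra I) :
    ∀ w ∈ V, b • w ∈ V := by
  let S : Subalgebra A (reesAlgebra I) :=
    { carrier := {b | ∀ w ∈ V, b • w ∈ V}
      mul_mem' := fun {b b'} hb hb' w hw => by
        rw [mul_smul]; exact hb _ (hb' w hw)
      one_mem' := fun w hw => by rw [one_smul]; exact hw
      add_mem' := fun {b b'} hb hb' w hw => by
        rw [add_smul]; exact V.add_mem (hb w hw) (hb' w hw)
      zero_mem' := fun w hw => by rw [zero_smul]; exact V.zero_mem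
      algebraMap_mem' := fun r w hw => h1 r w hw }
  have hS : S = ⊤ := rees_gen I S (fun a ha w hw => h2 a ha w hw)
  have hb : b ∈ S := by rw [hS]; trivial
  exact hb

variable [IsNoetherian (reesAlgebra I) W]
variable {H : ℕ → Type w} [∀ n, AddCommGroup (H n)] [∀ n, Module A (H n)]
variable (μ : ∀ n (a : A), a ∈ I → (H n →ₗ[A] H (n + 1)))
variable (inn : ∀ n, H n →+ W) (pr : ∀ n, W →+ H n)

/-- the key Noetherian property of the graded object `H` -/
theorem algK
    (h1a : ∀ n y, pr n (inn n y) = y) (h1b : ∀ m n, m ≠ n → ∀ y, pr m (inn n y) = 0)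
    (h2 : ∀ n (r : A) y, (algebraMap A (reesAlgebra I) r) • inn n y = inn n (r • y))
    (h3 : ∀ n (a : A) (ha : a ∈ I) y, mon1 I a ha • inn n y = inn (n + 1) (μ n a ha y))
    (N : ∀ n, Submodule A (H n)) (hN : ∀ n (a : A) (ha : a ∈ I), ∀ y ∈ N n, μ n a ha y ∈ N (n + 1)) :
    ∃ c, ∀ n, c ≤ n → ∀ x ∈ N (n + 1),
      x ∈ Submodule.span A {z | ∃ (a : A) (ha : a ∈ I) (y : H n), y ∈ N n ∧ z = μ n a ha y} := by
  classical
  set Q : ∀ n, Submodule A (H (n + 1)) := fun n =>
    Submodule.span A {z | ∃ (a : A) (ha : a ∈ I) (y : H n), y ∈ N n ∧ z = μ n a ha y} with hQ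
  -- the subgroup generated by the images
  let W' : AddSubgroup W := ⨆ n, (N n).toAddSubgroup.map (inn n)
  -- behaviour of the projections on W'
  have L : ∀ w ∈ W', (∀ n, pr n w ∈ N n) ∧
      (∀ n (r : A), pr n ((algebraMap A (reesAlgebra I) r) • w) = r • pr n w) ∧
      (∀ n (a : A) (ha : a ∈ I), pr (n + 1) (mon1 I a ha • w) = μ n a ha (pr n w)) ∧
      (∀ (r : A), (algebraMap A (reesAlgebra I) r) • w ∈ W') ∧
      (∀ (a : A) (ha : a ∈ I), mon1 I a ha • w ∈ W') ∧
      (∃ c, ∀ n, c ≤ n → pr (n + 1) w = 0) := by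
    intro w hw
    induction hw using AddSubgroup.iSup_induction' with
    | hp j x hx =>
      obtain ⟨y, hy, rfl⟩ := hx
      refine ⟨?_, ?_, ?_, ?_, ?_, ?_⟩
      · intro n
        by_cases h : n = j
        · subst h; rw [h1a]; exact hy
        · rw [h1b n j h]; exact (N n).zero_mem
      · intro n r
        rw [h2]
        by_cases h : n = j
        · subst h; rw [h1a, h1a]
        · rw [h1b n j h, h1b n j h, smul_zero]
      · intro n a ha
        rw [h3]
        by_cases h : n = j
        · subst h; rw [h1a, h1a]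
        · rw [h1b (n + 1) (j + 1) (by omega), h1b n j h, map_zero]
      · intro r
        rw [h2]
        exact AddSubgroup.mem_iSup_of_mem j ⟨r • y, (N j).smul_mem r hy, rfl⟩
      · intro a ha
        rw [h3]
        exact AddSubgroup.mem_iSup_of_mem (j + 1) ⟨μ j a ha y, hN j a ha y hy, rfl⟩
      · exact ⟨j, fun n hn => h1b (n + 1) j (by omega) y⟩
    | h1 =>
      refine ⟨fun n => by rw [map_zero]; exact (N n).zero_mem, fun n r => by simp,
        fun n a ha => by simp, fun r => by rw [smul_zero]; exact W'.zero_mem,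
        fun a ha => by rw [smul_zero]; exact W'.zero_mem, ⟨0, fun n _ => map_zero _⟩⟩
    | hadd x y hx hy ihx ihy =>
      obtain ⟨a1, a2, a3, a4, a5, c1, a6⟩ := ihx
      obtain ⟨b1, b2, b3, b4, b5, c2, b6⟩ := ihy
      refine ⟨fun n => by rw [map_add]; exact (N n).add_mem (a1 n) (b1 n),
        fun n r => by rw [smul_add, map_add, map_add, a2, b2, smul_add],
        fun n a ha => by rw [smul_add, map_add, map_add, a3, b3, map_add],
        fun r => by rw [smul_add]; exact W'.add_mem (a4 r) (b4 r),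
        fun a ha => by rw [smul_add]; exact W'.add_mem (a5 a ha) (b5 a ha),
        ⟨max c1 c2, fun n hn => by
          rw [map_add, a6 n (le_trans (le_max_left _ _) hn), b6 n (le_trans (le_max_right _ _) hn),
            add_zero]⟩⟩
  -- W' as a submodule over the Rees algebra
  let Wsub : Submodule (reesAlgebra I) W :=
    { carrier := W'
      add_mem' := fun ha hb => W'.add_mem ha hb
      zero_mem' := W'.zero_mem
      smul_mem' := fun b w hw => smul_mem_of_gen I W' (fun r w hw => (L w hw).2.2.2.1 r)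
        (fun a ha w hw => (L w hw).2.2.2.2.1 a ha) b w hw }
  obtain ⟨s, hs⟩ : Wsub.FG := IsNoetherian.noetherian Wsub
  have hsW : ∀ z ∈ s, z ∈ W' := fun z hz => by
    have : z ∈ Wsub := by rw [← hs]; exact Submodule.subset_span hz
    exact this
  -- a common bound
  have hc : ∃ c, ∀ z ∈ s, ∀ n, c ≤ n → pr (n + 1) z = 0 := by
    have : ∀ t : Finset W, (∀ z ∈ t, z ∈ W') → ∃ c, ∀ z ∈ t, ∀ n, c ≤ n → pr (n + 1) z = 0 := by
      intro t
      induction t using Finset.induction_on with
      | empty => exact fun _ => ⟨0, fun z hz => absurd hz (Finset.notMem_empty z)⟩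
      | insert z t hzt ih =>
        intro h
        obtain ⟨c1, h1⟩ := ih (fun z' hz' => h z' (Finset.mem_insert_of_mem hz'))
        obtain ⟨c2, h2'⟩ := (L z (h z (Finset.mem_insert_self z t))).2.2.2.2.2
        refine ⟨max c1 c2, fun z' hz' n hn => ?_⟩
        rcases Finset.mem_insert.1 hz' with rfl | hz''
        · exact h2' n (le_trans (le_max_right _ _) hn)
        · exact h1 z' hz'' n (le_trans (le_max_left _ _) hn)
    exact this s hsW
  obtain ⟨c, hc⟩ := hc
  refine ⟨c, fun n hn x hx => ?_⟩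
  -- the subgroup V
  let V : AddSubgroup W :=
    { carrier := {w | w ∈ W' ∧ ∀ n, c ≤ n → pr (n + 1) w ∈ Q n}
      add_mem' := fun {a b} ha hb => ⟨W'.add_mem ha.1 hb.1, fun n hn => by
        rw [map_add]; exact (Q n).add_mem (ha.2 n hn) (hb.2 n hn)⟩
      zero_mem' := ⟨W'.zero_mem, fun n hn => by rw [map_zero]; exact (Q n).zero_mem⟩
      neg_mem' := fun {a} ha => ⟨W'.neg_mem ha.1, fun n hn => by
        rw [map_neg]; exact (Q n).neg_mem (ha.2 n hn)⟩ }
  have hV1 : ∀ (r : A), ∀ w ∈ V, (algebraMap A (reesAlgebra I) r) • w ∈ V := by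
    intro r w hw
    refine ⟨(L w hw.1).2.2.2.1 r, fun n hn => ?_⟩
    rw [(L w hw.1).2.1]
    exact (Q n).smul_mem r (hw.2 n hn)
  have hV2 : ∀ (a : A) (ha : a ∈ I), ∀ w ∈ V, mon1 I a ha • w ∈ V := by
    intro a ha w hw
    refine ⟨(L w hw.1).2.2.2.2.1 a ha, fun n hn => ?_⟩
    rw [(L w hw.1).2.2.1]
    exact Submodule.subset_span ⟨a, ha, pr n w, (L w hw.1).1 n, rfl⟩
  let Vsub : Submodule (reesAlgebra I) W :=
    { carrier := V
      add_mem' := fun ha hb => V.add_mem ha hb
      zero_mem' := V.zero_mem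
      smul_mem' := fun b w hw => smul_mem_of_gen I V hV1 hV2 b w hw }
  have hsV : (s : Set W) ⊆ Vsub := by
    intro z hz
    refine ⟨hsW z hz, fun n hn => ?_⟩
    rw [hc z hz n hn]
    exact (Q n).zero_mem
  have hle : Wsub ≤ Vsub := by
    rw [← hs]
    exact Submodule.span_le.2 hsV
  have hx' : inn (n + 1) x ∈ Wsub :=
    AddSubgroup.mem_iSup_of_mem (n + 1) ⟨x, hx, rfl⟩
  have := (hle hx').2 n hn
  rwa [h1a] at this

end Groth.Agent.Lib.Helper4.ReesNoeth1
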