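import Mathlib
import Groth.Prelude.Def_Formal
import Groth.Agent.Lib.Helper4.ReesGeom2
import Groth.Agent.Lib.Helper4.ReesNoeth1
import Groth.Agent.Lib.Helper1.QcExt

/-!
# Section maps between I^nF and the Rees module F' over affine opens: inclusions, projections, restriction, action of the Rees algebra (helper4)
-/

set_option backward.isDefEq.respectTransparency.types false
set_option synthInstance.maxHeartbeats 400000
set_option autoImplicit false
set_option linter.unusedSectionVars false
set_option linter.style.haveILetI false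
set_option linter.unusedSimpArgs false
universe u v w
open CategoryTheory
open CategoryTheory.Limits
open AlgebraicGeometry
open TopologicalSpace
open Opposite
open Polynomial
open Groth.Agent.Helper1
open Groth.Agent.Lead.BCU
open Groth.Agent.Lib.Helper4.BaseChgRing1
open Groth.Agent.Lib.Helper4.ReesAlg1
open Groth.Agent.Lib.Helper4.ReesGeom1
open Groth.Agent.Lib.Helper4.ReesGeom2
open Groth.Agent.Lib.Helper4.IPow1
open Groth.Agent.Lib.Helper4.ReesNoeth1

namespace Groth.Agent.Lib.Helper4.ReesGeom3

section Lift
variable {P Q R : Type*} [AddCommGroup P] [AddCommGroup Q] [AddCommGroup R]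

/-- lifting an additive map through an injective additive map -/
noncomputable def liftInj (j : P →+ R) (hj : Function.Injective j) (f : Q →+ R)
    (hf : ∀ y, f y ∈ Set.range j) : Q →+ P where
  toFun y := Classical.choose (hf y)
  map_zero' := hj (by rw [Classical.choose_spec (hf 0), map_zero, map_zero])
  map_add' a b := hj (by
    rw [Classical.choose_spec (hf (a + b)), map_add, map_add, Classical.choose_spec (hf a),
      Classical.choose_spec (hf b)])

theorem liftInj_spec (j : P →+ R) (hj : Function.Injective j) (f : Q →+ R)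
    (hf : ∀ y, f y ∈ Set.range j) (y : Q) : j (liftInj j hj f hf y) = f y :=
  Classical.choose_spec (hf y)

end Lift

variable (A : Type u) [CommRing A] [IsNoetherianRing A] (I : Ideal A) {X : Scheme.{u}}
  [X.Over (Spec (CommRingCat.of A))]
variable (F : X.Modules) [F.IsQuasicoherent]

section Aff
variable {W : X.Opens} (hW : IsAffineOpen W)

/-- the chosen coefficient maps -/
noncomputable def coefW : ℕ → (TT A I F W →+ Γ(F, W)) := Classical.choose (exists_coef A I F hW)

theorem coefW_spec : IsCoef A I F (coefW A I F hW) := Classical.choose_spec (exists_coef A I F hW)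

/-- the unit as an additive map -/
noncomputable def uuAdd : Γ(F, W) →+ TT A I F W :=
  isBC_addHom (isBC_comp (hvv A I F hW) (huu' A I F hW))

theorem uuAdd_apply (m : Γ(F, W)) : uuAdd A I F hW m = uu A I F W m := rfl

include hW in
theorem uu_smul (r : Γ(X, W)) (m : Γ(F, W)) :
    uu A I F W (r • m) = etaB A I W (rhoB A I W r) • uu A I F W m :=
  isBC_map_smul (isBC_comp (hvv A I F hW) (huu' A I F hW)) r m

/-- `jp` on sections as an additive map -/
noncomputable def jpAdd (V : (XB A I X).Opens) : Γ(Fp A I F, V) →+ Γ(HB A I X F, V) :=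
  ((jp A I F).app V).hom

noncomputable def inclAdd (n : ℕ) (W : X.Opens) : Γ(Pn I F n, W) →+ Γ(F, W) :=
  ((incl I F n).app W).hom

theorem inclAdd_injective (n : ℕ) (W : X.Opens) : Function.Injective (inclAdd A I F n W) :=
  haveI : Mono (incl I F n) := inferInstanceAs (Mono (kernel.ι _))
  FtLocal.app_injective_of_mono (incl I F n) W

/-- the degree `n` inclusion on sections -/
noncomputable def iotaSec (n : ℕ) : Γ(Pn I F n, W) →+ Γ(Fp A I F, VB A I W) :=
  liftInj (jpAdd A I F (VB A I W)) (jp_injective A I F _)
    ((DistribSMul.toAddMonoidHom (TT A I F W) (tt A I W ^ n)).comp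
      ((uuAdd A I F hW).comp (inclAdd A I F n W)))
    (fun x => by
      refine (mem_range_jp_iff_coef A I F hW (coefW_spec A I F hW)
        (tt A I W ^ n • uu A I F W ((incl I F n).app W x))).2 ?_
      intro k
      change coefW A I F hW k (tt A I W ^ n • uu A I F W ((incl I F n).app W x)) ∈ _
      rw [(coefW_spec A I F hW).mono]
      split_ifs with h
      · subst h
        exact mem_IM_of_mem_range_incl I F hW k x
      · exact Submodule.zero_mem _)

theorem jp_iotaSec (n : ℕ) (x : Γ(Pn I F n, W)) :
    (jp A I F).app (VB A I W) (iotaSec A I F hW n x) =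
      tt A I W ^ n • uu A I F W ((incl I F n).app W x) :=
  liftInj_spec _ _ _ _ x

/-- `jp` on sections over the preimage of `W`, with values in `TT` -/
noncomputable def jpT (W : X.Opens) : Γ(Fp A I F, VB A I W) →+ TT A I F W :=
  jpAdd A I F (VB A I W)

theorem jpT_injective (W : X.Opens) : Function.Injective (jpT A I F W) := jp_injective A I F _

theorem jpT_iotaSec (n : ℕ) (x : Γ(Pn I F n, W)) :
    jpT A I F W (iotaSec A I F hW n x) = tt A I W ^ n • uu A I F W ((incl I F n).app W x) :=
  liftInj_spec _ _ _ _ x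

theorem jpT_smul (s : Γ(XB A I X, VB A I W)) (y : Γ(Fp A I F, VB A I W)) :
    jpT A I F W (s • y) = etaB A I W s • jpT A I F W y := by
  have h1 : jpT A I F W (s • y) = s • (jp A I F).app (VB A I W) y :=
    Scheme.Modules.Hom.app_smul (jp A I F) s y
  have h2 : (s • (jp A I F).app (VB A I W) y : Γ(HB A I X F, VB A I W)) =
      (((hB A I X).app (VB A I W)).hom s) • jpT A I F W y := rfl
  rw [h1, h2, Scheme.Hom.app_eq_appLE]

/-- the degree `n` projection on sections -/
noncomputable def piSec (n : ℕ) : Γ(Fp A I F, VB A I W) →+ Γ(Pn I F n, W) :=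
  liftInj (inclAdd A I F n W) (inclAdd_injective A I F n W)
    ((coefW A I F hW n).comp (jpAdd A I F (VB A I W)))
    (fun y => by
      apply mem_range_incl_of_mem_IM I F n
      exact (mem_range_jp_iff_coef A I F hW (coefW_spec A I F hW) _).1 ⟨y, rfl⟩ n)

theorem incl_piSec (n : ℕ) (y : Γ(Fp A I F, VB A I W)) :
    (incl I F n).app W (piSec A I F hW n y) = coefW A I F hW n ((jp A I F).app (VB A I W) y) :=
  liftInj_spec _ _ _ _ y

theorem piSec_iotaSec_self (n : ℕ) (x : Γ(Pn I F n, W)) :
    piSec A I F hW n (iotaSec A I F hW n x) = x := by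
  apply inclAdd_injective A I F n W
  change (incl I F n).app W _ = (incl I F n).app W x
  rw [incl_piSec, jp_iotaSec, (coefW_spec A I F hW).mono, if_pos rfl]

theorem piSec_iotaSec_ne {m n : ℕ} (h : m ≠ n) (x : Γ(Pn I F n, W)) :
    piSec A I F hW m (iotaSec A I F hW n x) = 0 := by
  apply inclAdd_injective A I F m W
  change (incl I F m).app W _ = (incl I F m).app W 0
  rw [incl_piSec, jp_iotaSec, (coefW_spec A I F hW).mono, if_neg h, map_zero]

end Aff

section Restr
variable {W₁ W₂ : X.Opens} (hW₁ : IsAffineOpen W₁) (hW₂ : IsAffineOpen W₂) (e : W₂ ≤ W₁)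

lemma VB_mono {W₁ W₂ : X.Opens} (e : W₂ ≤ W₁) : VB A I W₂ ≤ VB A I W₁ := (gB A I X).preimage_mono e

theorem iotaSec_res (n : ℕ) (x : Γ(Pn I F n, W₁)) :
    QcCech.res (Fp A I F) (VB_mono A I e) (iotaSec A I F hW₁ n x) =
      iotaSec A I F hW₂ n (QcCech.res (Pn I F n) e x) := by
  apply jp_injective A I F (VB A I W₂)
  rw [QcExt.app_res, jp_iotaSec, jp_iotaSec, QcExt.app_res]
  exact term_res A I F e n _

theorem piSec_res (n : ℕ) (y : Γ(Fp A I F, VB A I W₁)) :
    QcCech.res (Pn I F n) e (piSec A I F hW₁ n y) =
      piSec A I F hW₂ n (QcCech.res (Fp A I F) (VB_mono A I e) y) := by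
  apply inclAdd_injective A I F n W₂
  change (incl I F n).app W₂ _ = (incl I F n).app W₂ _
  rw [QcExt.app_res, incl_piSec, incl_piSec, QcExt.app_res]
  exact (coef_res A I F e (coefW_spec A I F hW₁) (coefW_spec A I F hW₂) _ n).symm

end Restr

section Act
variable {W : X.Opens} (hW : IsAffineOpen W)

theorem betat_C (a : A) : betat A I W (C a) = etaB A I W (rhoB A I W (alphaRing A X W a)) :=
  βt_C I (alphaRing A X W) (rhoB A I W) (etaB A I W) (betaB A I W) (betat A I W) (hc1 A I) (hc2 A I) a

/-- the action of the degree one elements -/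
theorem mon1_smul_iotaSec (n : ℕ) (a : A) (ha : a ∈ I) (x : Γ(Pn I F n, W)) :
    betaB A I W (mon1 I a ha) • iotaSec A I F hW n x =
      iotaSec A I F hW (n + 1) ((mu I F n 1 a (by simpa using ha)).app W x) := by
  apply jpT_injective A I F W
  rw [jpT_smul, jpT_iotaSec, jpT_iotaSec, hc2]
  have h1 : (incl I F (n + 1)).app W ((mu I F n 1 a (by simpa using ha)).app W x) =
      alphaRing A X W a • (incl I F n).app W x :=
    congrArg (fun φ => Scheme.Modules.Hom.app φ W x) (mu_incl I F n 1 a (by simpa using ha))
  rw [h1, uu_smul A I F hW, ← betat_C]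
  change betat A I W (monomial 1 a) • _ = _
  rw [← Polynomial.C_mul_X_pow_eq_monomial, pow_one, map_mul, smul_smul, smul_smul, pow_succ]
  congr 1
  ring

/-- the action of the base ring -/
theorem algebraMap_smul_iotaSec (n : ℕ) (r : A) (x : Γ(Pn I F n, W)) :
    betaB A I W (algebraMap A (reesAlgebra I) r) • iotaSec A I F hW n x =
      iotaSec A I F hW n (alphaRing A X W r • x) := by
  apply jpT_injective A I F W
  rw [jpT_smul, jpT_iotaSec, jpT_iotaSec, ← hc1, Scheme.Modules.Hom.app_smul, uu_smul A I F hW,
    smul_comm]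

end Act

end Groth.Agent.Lib.Helper4.ReesGeom3
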