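import Mathlib
import Groth.Prelude.Def_Formal
import Groth.Agent.Lib.Helper4.ReesGeom3
import Groth.Agent.Lib.Helper4.CechMap1
import Groth.Agent.Lib.Helper4.LocCech1

/-!
# Cech-level inclusions and projections between I^nF and the Rees module, compatibility with the Rees algebra action (helper4)
-/

set_option backward.isDefEq.respectTransparency.types false
set_option synthInstance.maxHeartbeats 400000
set_option autoImplicit false
set_option linter.unusedSectionVars false
set_option linter.style.haveILetI false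
set_option linter.unusedSimpArgs false
universe u v w
open CategoryTheory
open CategoryTheory.Limits
open AlgebraicGeometry
open TopologicalSpace
open Opposite
open Polynomial
open Groth.Agent.Helper1
open Groth.Agent.Lead.BCU
open Groth.Agent.Lib.Helper4.BaseChgRing1
open Groth.Agent.Lib.Helper4.ReesAlg1
open Groth.Agent.Lib.Helper4.ReesGeom1
open Groth.Agent.Lib.Helper4.ReesGeom2
open Groth.Agent.Lib.Helper4.ReesGeom3
open Groth.Agent.Lib.Helper4.IPow1
open Groth.Agent.Lib.Helper4.ReesNoeth1
open Groth.Agent.Lib.Helper4.CechMap1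

namespace Groth.Agent.Lib.Helper4.ReesCech1

variable (A : Type u) [CommRing A] [IsNoetherianRing A] (I : Ideal A) {X : Scheme.{u}}
  [X.Over (Spec (CommRingCat.of A))]
variable (F : X.Modules) [F.IsQuasicoherent]
variable {ι : Type u} (U : ι → X.Opens)

/-- the preimage family on the Rees base change -/
noncomputable abbrev UB : ι → (XB A I X).Opens := fun i => gB A I X ⁻¹ᵁ U i

theorem WB_eq {n : ℕ} (a : Fin (n + 1) → ι) : TCx.W (UB A I U) a = VB A I (TCx.W U a) := by
  rw [TCx.W_eq_iInf, TCx.W_eq_iInf]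
  ext x
  simp only [Opens.coe_iInf, Set.mem_iInter, SetLike.mem_coe, Scheme.Hom.mem_preimage]
  rw [← SetLike.mem_coe, Opens.coe_iInf]
  simp only [Set.mem_iInter, SetLike.mem_coe]

variable (haff : ∀ (n : ℕ) (a : Fin (n + 1) → ι), IsAffineOpen (TCx.W U a))

/-- the inclusion of degree `n` on cochains -/
noncomputable def famIn (n : ℕ) : Fam U (UB A I U) (Pn I F n).presheaf (Fp A I F).presheaf where
  θ k a := (QcCech.res (Fp A I F) (WB_eq A I U a).le).comp (iotaSec A I F (haff k a) n)
  comm k a i y := by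
    change QcCech.res (Fp A I F) _ (iotaSec A I F (haff (k + 1) a) n
      (QcCech.res (Pn I F n) (TCx.W_face_le U a i) y)) =
      QcCech.res (Fp A I F) (TCx.W_face_le (UB A I U) a i)
        (QcCech.res (Fp A I F) _ (iotaSec A I F (haff k _) n y))
    rw [← iotaSec_res A I F (haff k _) (haff (k + 1) a) (TCx.W_face_le U a i), QcCech.res_res,
      QcCech.res_res]

/-- the projection of degree `n` on cochains -/
noncomputable def famPr (n : ℕ) : Fam (UB A I U) U (Fp A I F).presheaf (Pn I F n).presheaf where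
  θ k a := (piSec A I F (haff k a) n).comp (QcCech.res (Fp A I F) (WB_eq A I U a).ge)
  comm k a i y := by
    change piSec A I F (haff (k + 1) a) n (QcCech.res (Fp A I F) _
      (QcCech.res (Fp A I F) (TCx.W_face_le (UB A I U) a i) y)) =
      QcCech.res (Pn I F n) (TCx.W_face_le U a i)
        (piSec A I F (haff k _) n (QcCech.res (Fp A I F) _ y))
    rw [piSec_res A I F (haff k _) (haff (k + 1) a) (TCx.W_face_le U a i), QcCech.res_res,
      QcCech.res_res]

/-- the inclusion of degree `n` on Čech complexes -/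
noncomputable def In (n : ℕ) : TCx.K U (Pn I F n).presheaf ⟶ TCx.K (UB A I U) (Fp A I F).presheaf :=
  (famIn A I F U haff n).map

/-- the projection of degree `n` on Čech complexes -/
noncomputable def Pr (n : ℕ) : TCx.K (UB A I U) (Fp A I F).presheaf ⟶ TCx.K U (Pn I F n).presheaf :=
  (famPr A I F U haff n).map

theorem In_Pr_self (n : ℕ) : In A I F U haff n ≫ Pr A I F U haff n = 𝟙 _ := by
  apply hom_ext'
  intro k a x
  change (TCx.proj U _ k a).hom (((Pr A I F U haff n).f k).hom (((In A I F U haff n).f k).hom x)) = _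
  rw [Pr, Fam.map_proj, In, Fam.map_proj]
  change piSec A I F (haff k a) n (QcCech.res (Fp A I F) _ (QcCech.res (Fp A I F) _
    (iotaSec A I F (haff k a) n _))) = _
  rw [QcCech.res_res, QcCech.res_self, piSec_iotaSec_self]
  rfl

theorem In_Pr_ne {m n : ℕ} (h : m ≠ n) : In A I F U haff n ≫ Pr A I F U haff m = 0 := by
  apply hom_ext'
  intro k a x
  change (TCx.proj U _ k a).hom (((Pr A I F U haff m).f k).hom (((In A I F U haff n).f k).hom x)) = _
  rw [Pr, Fam.map_proj, In, Fam.map_proj]
  change piSec A I F (haff k a) m (QcCech.res (Fp A I F) _ (QcCech.res (Fp A I F) _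
    (iotaSec A I F (haff k a) n _))) = _
  rw [QcCech.res_res, QcCech.res_self, piSec_iotaSec_ne A I F (haff k a) h]
  exact (map_zero _).symm

/-- the Čech map of a morphism of abelian sheaves -/
noncomputable abbrev cechMap {Y : Scheme.{u}} (V : ι → Y.Opens) {M N : Y.Modules}
    (ψ : Coh.toAb M ⟶ Coh.toAb N) : TCx.K V M.presheaf ⟶ TCx.K V N.presheaf :=
  (cechComplexFunctor V).map ψ.hom

theorem cechMap_proj {Y : Scheme.{u}} (V : ι → Y.Opens) {M N : Y.Modules}
    (ψ : Coh.toAb M ⟶ Coh.toAb N) (k : ℕ) (a : Fin (k + 1) → ι) (x : (TCx.K V M.presheaf).X k) :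
    (TCx.proj V N.presheaf k a).hom (((cechMap V ψ).f k).hom x) =
      (ψ.hom.app (op (TCx.W V a))).hom ((TCx.proj V M.presheaf k a).hom x) :=
  Groth.Agent.Lib.Helper4.DuD2.map_proj_apply V ψ.hom k a x

theorem res_betaB_smul {W : X.Opens} {V : (XB A I X).Opens} (e : V ≤ VB A I W) (b : reesAlgebra I)
    (y : Γ(Fp A I F, VB A I W)) :
    QcCech.res (Fp A I F) e (betaB A I W b • y) =
      alphaRing (reesAlgebra I) (XB A I X) V b • QcCech.res (Fp A I F) e y := by
  rw [QcCech.res_smul]
  congr 1
  exact alphaRing_res (reesAlgebra I) e b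

theorem In_smul (n : ℕ) (r : A) :
    In A I F U haff n ≫ cechMap (UB A I U) (Coh.smulAb (Fp A I F)
        (Coh.toGlobal (XB A I X ↘ Spec (CommRingCat.of (reesAlgebra I)))
          (algebraMap A (reesAlgebra I) r))) =
      cechMap U (Coh.smulAb (Pn I F n) (Coh.toGlobal (X ↘ Spec (CommRingCat.of A)) r)) ≫
        In A I F U haff n := by
  apply hom_ext'
  intro k a x
  change (TCx.proj _ _ k a).hom (((cechMap (UB A I U) _).f k).hom (((In A I F U haff n).f k).hom x)) =
    (TCx.proj _ _ k a).hom (((In A I F U haff n).f k).hom (((cechMap U _).f k).hom x))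
  rw [cechMap_proj, In, Fam.map_proj, Fam.map_proj, cechMap_proj]
  change alphaRing (reesAlgebra I) (XB A I X) (TCx.W (UB A I U) a) (algebraMap A (reesAlgebra I) r) •
      QcCech.res (Fp A I F) (WB_eq A I U a).le (iotaSec A I F (haff k a) n _) =
    QcCech.res (Fp A I F) (WB_eq A I U a).le
      (iotaSec A I F (haff k a) n (alphaRing A X (TCx.W U a) r • _))
  rw [← algebraMap_smul_iotaSec, res_betaB_smul]

theorem In_mon1 (n : ℕ) (a₀ : A) (ha : a₀ ∈ I) :
    In A I F U haff n ≫ cechMap (UB A I U) (Coh.smulAb (Fp A I F)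
        (Coh.toGlobal (XB A I X ↘ Spec (CommRingCat.of (reesAlgebra I))) (mon1 I a₀ ha))) =
      cechMap U ((SheafOfModules.toSheaf X.ringCatSheaf).map (mu I F n 1 a₀ (by simpa using ha))) ≫
        In A I F U haff (n + 1) := by
  apply hom_ext'
  intro k a x
  change (TCx.proj _ _ k a).hom (((cechMap (UB A I U) _).f k).hom (((In A I F U haff n).f k).hom x)) =
    (TCx.proj _ _ k a).hom (((In A I F U haff (n + 1)).f k).hom (((cechMap U _).f k).hom x))
  rw [cechMap_proj, In, Fam.map_proj, In, Fam.map_proj, cechMap_proj]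
  change alphaRing (reesAlgebra I) (XB A I X) (TCx.W (UB A I U) a) (mon1 I a₀ ha) •
      QcCech.res (Fp A I F) (WB_eq A I U a).le (iotaSec A I F (haff k a) n _) =
    QcCech.res (Fp A I F) (WB_eq A I U a).le (iotaSec A I F (haff k a) (n + 1)
      ((mu I F n 1 a₀ (by simpa using ha)).app (TCx.W U a) _))
  rw [← mon1_smul_iotaSec, res_betaB_smul]

end Groth.Agent.Lib.Helper4.ReesCech1
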