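import Mathlib
import Groth.Prelude.Def_Formal
import Groth.Agent.Lib.Helper4.ReesCech1
import Groth.Agent.Lib.Helper4.SepCover1
import Groth.Agent.Lib.Helper4.PnE3
import Groth.Agent.Lib.Helper4.T2Main1
import Groth.Agent.Lib.Lead.QB3
import Groth.Agent.Lib.Helper1.CohAbel

/-!
# The cohomology of the powers I^nF of a coherent module on a proper scheme is Noetherian over the Rees algebra (EGA III 3.3.2 / Stacks 02O9) (helper4)
-/

set_option backward.isDefEq.respectTransparency.types false
set_option synthInstance.maxHeartbeats 400000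
set_option autoImplicit false
set_option linter.unusedSectionVars false
set_option linter.style.haveILetI false
set_option linter.unusedSimpArgs false
universe u v w
open CategoryTheory
open CategoryTheory.Limits
open AlgebraicGeometry
open TopologicalSpace
open Opposite
open Polynomial
open Groth.Agent.Helper1
open Groth.Agent.Lead.BCU
open Groth.Agent.Lib.Helper4
open Groth.Agent.Lib.Helper4.BaseChgRing1
open Groth.Agent.Lib.Helper4.ReesAlg1
open Groth.Agent.Lib.Helper4.ReesGeom1
open Groth.Agent.Lib.Helper4.ReesGeom2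
open Groth.Agent.Lib.Helper4.ReesGeom3
open Groth.Agent.Lib.Helper4.ReesCech1
open Groth.Agent.Lib.Helper4.IPow1
open Groth.Agent.Lib.Helper4.ReesNoeth1
open Groth.Agent.Lib.Helper4.CechMap1

namespace Groth.Agent.Lib.Helper4.ReesFin1

variable (A : Type u) [CommRing A] [IsNoetherianRing A] (I : Ideal A) {X : Scheme.{u}}
  [X.Over (Spec (CommRingCat.of A))]
variable (F : X.Modules)

instance isQuasicoherent_Pn [F.IsQuasicoherent] (n : ℕ) : (Pn I F n).IsQuasicoherent := by
  haveI : (∐ fun _ : ↥(I ^ n) => F).IsQuasicoherent :=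
    Groth.Agent.Lead.QB.isQuasicoherent_sigma _
  exact QcAbel.isQuasicoherent_image (Formal.smulFamily (I ^ n) F)

/-- the Rees module is coherent -/
theorem isCoh_Fp (hF : Coh.IsCoh F) : Coh.IsCoh (Fp A I F) := by
  haveI : F.IsQuasicoherent := hF.1
  refine ⟨inferInstance, ?_⟩
  have hK : SheafOfModules.IsFiniteType.{u, u, u} (KB A I X F) :=
    Groth.Agent.Lead.PB.isFT_pullback (gB A I X) F hF.2
  let S : ShortComplex (XB A I X).Modules := ShortComplex.mk (kernel.ι (phiB A I X F))
    (Abelian.factorThruImage (phiB A I X F)) (by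
      rw [← cancel_mono (Abelian.image.ι (phiB A I X F)), Category.assoc, Abelian.image.fac,
        kernel.condition, Limits.zero_comp])
  let S' : ShortComplex (XB A I X).Modules := ShortComplex.mk (kernel.ι (phiB A I X F))
    (phiB A I X F) (kernel.condition _)
  have hS' : S'.Exact := ShortComplex.exact_of_f_is_kernel _ (kernelIsKernel (phiB A I X F))
  let α : S ⟶ S' := { τ₁ := 𝟙 _, τ₂ := 𝟙 _, τ₃ := Abelian.image.ι (phiB A I X F) }
  have : Epi α.τ₁ := inferInstanceAs (Epi (𝟙 _))
  have : IsIso α.τ₂ := inferInstanceAs (IsIso (𝟙 _))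
  have : Mono α.τ₃ := inferInstanceAs (Mono (Abelian.image.ι (phiB A I X F)))
  have hS : S.Exact := (ShortComplex.exact_iff_of_epi_of_isIso_of_mono α).2 hS'
  have : Mono S.f := inferInstanceAs (Mono (kernel.ι (phiB A I X F)))
  have : Epi S.g := inferInstanceAs (Epi (Abelian.factorThruImage (phiB A I X F)))
  have hSE : S.ShortExact := { exact := hS }
  haveI : S.X₁.IsQuasicoherent := QcAbel.isQuasicoherent_kernel (phiB A I X F)
  haveI : S.X₂.IsQuasicoherent := inferInstanceAs (KB A I X F).IsQuasicoherent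
  haveI : S.X₃.IsQuasicoherent := inferInstanceAs (Fp A I F).IsQuasicoherent
  exact FtLocal.isFiniteType_right hSE hK

theorem hm_comp {K₁ K₂ K₃ : CochainComplex AddCommGrpCat.{u} ℕ} (f : K₁ ⟶ K₂) (g : K₂ ⟶ K₃) (p : ℕ)
    (z : K₁.homology p) :
    (HomologicalComplex.homologyMap g p).hom ((HomologicalComplex.homologyMap f p).hom z) =
      (HomologicalComplex.homologyMap (f ≫ g) p).hom z := by
  rw [HomologicalComplex.homologyMap_comp]
  rfl

section Main
variable [IsProper (X ↘ Spec (CommRingCat.of A))] (hF : Coh.IsCoh F) (p : ℕ)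

/-- the degree one multiplication on cohomology -/
noncomputable abbrev muH (n : ℕ) (a : A) (ha : a ∈ I) :
    Coh.HH X (Pn I F n) p →ₗ[A] Coh.HH X (Pn I F (n + 1)) p :=
  Canon.HHlin A (mu I F n 1 a (by simpa using ha)) p

include hF in
/-- **the cohomology of the powers `I^n F` is Noetherian over the Rees algebra** -/
theorem rees_noeth (N : ∀ n, Submodule A (Coh.HH X (Pn I F n) p))
    (hN : ∀ n (a : A) (ha : a ∈ I), ∀ y ∈ N n, muH A I F p n a ha y ∈ N (n + 1)) :
    ∃ c, ∀ n, c ≤ n → ∀ x ∈ N (n + 1),
      x ∈ Submodule.span A {z | ∃ (a : A) (ha : a ∈ I) (y : Coh.HH X (Pn I F n) p),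
        y ∈ N n ∧ z = muH A I F p n a ha y} := by
  haveI : F.IsQuasicoherent := hF.1
  haveI : IsSeparated (X ↘ Spec (CommRingCat.of A)) := inferInstance
  haveI : CompactSpace X := QuasiCompact.compactSpace_of_compactSpace (X ↘ Spec (CommRingCat.of A))
  obtain ⟨ι, hfin, U, hcov, haff⟩ := SepCover1.exists_cover (X ↘ Spec (CommRingCat.of A))
  -- terminal objects
  have hT : IsTerminal (iSup U) := by rw [hcov]; exact isTerminalTop
  have hcovB : iSup (UB A I U) = ⊤ := by
    rw [eq_top_iff]
    intro x _
    have hx : gB A I X x ∈ iSup U := by rw [hcov]; trivial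
    obtain ⟨i, hi⟩ := Opens.mem_iSup.1 hx
    exact Opens.mem_iSup.2 ⟨i, hi⟩
  have hTB : IsTerminal (iSup (UB A I U)) := by rw [hcovB]; exact isTerminalTop
  -- the comparison maps
  have hbX : ∀ n, Function.Bijective (PnE3.EE U hT (Coh.toAb (Pn I F n)) p) := by
    intro n
    apply PnE3.EE_bijective
    intro q a r
    have h2 : IsAffineOpen (iInf fun k => U (a k)) := by
      rw [← TCx.W_eq_iInf]; exact haff q a
    exact QcAcyc.subsingleton_HU (Pn I F n) _ h2 r
  have hbB : Function.Bijective (PnE3.EE (UB A I U) hTB (Coh.toAb (Fp A I F)) p) := by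
    apply PnE3.EE_bijective
    intro q a r
    have h2 : IsAffineOpen (iInf fun k => UB A I U (a k)) := by
      rw [← TCx.W_eq_iInf, WB_eq]; exact (haff q a).preimage (gB A I X)
    exact QcAcyc.subsingleton_HU (Fp A I F) _ h2 r
  let eX : ∀ n, CohTop.cechH (Pn I F n).presheaf U p ≃+ Coh.HH X (Pn I F n) p := fun n =>
    AddEquiv.ofBijective (PnE3.EE U hT (Coh.toAb (Pn I F n)) p) (hbX n)
  let eB : CohTop.cechH (Fp A I F).presheaf (UB A I U) p ≃+ Coh.HH (XB A I X) (Fp A I F) p :=
    AddEquiv.ofBijective (PnE3.EE (UB A I U) hTB (Coh.toAb (Fp A I F)) p) hbB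
  let inn : ∀ n, Coh.HH X (Pn I F n) p →+ Coh.HH (XB A I X) (Fp A I F) p := fun n =>
    eB.toAddMonoidHom.comp ((HomologicalComplex.homologyMap (In A I F U haff n) p).hom.comp
      (eX n).symm.toAddMonoidHom)
  let pr : ∀ n, Coh.HH (XB A I X) (Fp A I F) p →+ Coh.HH X (Pn I F n) p := fun n =>
    (eX n).toAddMonoidHom.comp ((HomologicalComplex.homologyMap (Pr A I F U haff n) p).hom.comp
      eB.symm.toAddMonoidHom)
  -- Noetherianity
  haveI : Module.Finite (reesAlgebra I) (Coh.HH (XB A I X) (Fp A I F) p) :=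
    T2Main1.t2 (reesAlgebra I) (XB A I X) (Fp A I F) (isCoh_Fp A I F hF) p
  haveI : IsNoetherian (reesAlgebra I) (Coh.HH (XB A I X) (Fp A I F) p) :=
    isNoetherian_of_isNoetherianRing_of_finite _ _
  refine algK I (W := Coh.HH (XB A I X) (Fp A I F) p) (H := fun n => Coh.HH X (Pn I F n) p)
    (fun n a ha => muH A I F p n a ha) inn pr ?_ ?_ ?_ ?_ N hN
  · -- pr n (inn n y) = y
    intro n y
    change eX n ((HomologicalComplex.homologyMap (Pr A I F U haff n) p).hom
      (eB.symm (eB ((HomologicalComplex.homologyMap (In A I F U haff n) p).hom ((eX n).symm y))))) = y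
    rw [AddEquiv.symm_apply_apply, ← ConcreteCategory.comp_apply,
      ← HomologicalComplex.homologyMap_comp, In_Pr_self, HomologicalComplex.homologyMap_id]
    exact (eX n).apply_symm_apply y
  · intro m n hmn y
    change eX m ((HomologicalComplex.homologyMap (Pr A I F U haff m) p).hom
      (eB.symm (eB ((HomologicalComplex.homologyMap (In A I F U haff n) p).hom ((eX n).symm y))))) = 0
    rw [AddEquiv.symm_apply_apply, ← ConcreteCategory.comp_apply,
      ← HomologicalComplex.homologyMap_comp, In_Pr_ne A I F U haff hmn,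
      HomologicalComplex.homologyMap_zero]
    exact map_zero _
  · -- scalars from A
    intro n r y
    change Sheaf.H.map (Coh.smulAb (Fp A I F) _) p
      (eB ((HomologicalComplex.homologyMap (In A I F U haff n) p).hom ((eX n).symm y))) =
      eB ((HomologicalComplex.homologyMap (In A I F U haff n) p).hom ((eX n).symm (r • y)))
    have h1 := PnE3.EE_natural (UB A I U) hTB (Coh.smulAb (Fp A I F)
      (Coh.toGlobal (XB A I X ↘ Spec (CommRingCat.of (reesAlgebra I)))
        (algebraMap A (reesAlgebra I) r))) p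
      ((HomologicalComplex.homologyMap (In A I F U haff n) p).hom ((eX n).symm y))
    refine h1.symm.trans ?_
    change eB _ = eB _
    refine congrArg eB ?_
    have h2 := In_smul A I F U haff n r
    have e1 := hm_comp (In A I F U haff n) (cechMap (UB A I U) (Coh.smulAb (Fp A I F)
      (Coh.toGlobal (XB A I X ↘ Spec (CommRingCat.of (reesAlgebra I)))
        (algebraMap A (reesAlgebra I) r)))) p ((eX n).symm y)
    have e2 := hm_comp (cechMap U (Coh.smulAb (Pn I F n)
      (Coh.toGlobal (X ↘ Spec (CommRingCat.of A)) r))) (In A I F U haff n) p ((eX n).symm y)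
    rw [h2] at e1
    refine e1.trans (e2.symm.trans ?_)
    refine congrArg (HomologicalComplex.homologyMap (In A I F U haff n) p).hom ?_
    apply (eX n).injective
    rw [AddEquiv.apply_symm_apply]
    refine (PnE3.EE_natural U hT (Coh.smulAb (Pn I F n)
      (Coh.toGlobal (X ↘ Spec (CommRingCat.of A)) r)) p ((eX n).symm y)).trans ?_
    exact congrArg (Sheaf.H.map (Coh.smulAb (Pn I F n)
      (Coh.toGlobal (X ↘ Spec (CommRingCat.of A)) r)) p) ((eX n).apply_symm_apply y)
  · -- the degree one elements
    intro n a ha y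
    change Sheaf.H.map (Coh.smulAb (Fp A I F) _) p
      (eB ((HomologicalComplex.homologyMap (In A I F U haff n) p).hom ((eX n).symm y))) =
      eB ((HomologicalComplex.homologyMap (In A I F U haff (n + 1)) p).hom
        ((eX (n + 1)).symm (muH A I F p n a ha y)))
    have h1 := PnE3.EE_natural (UB A I U) hTB (Coh.smulAb (Fp A I F)
      (Coh.toGlobal (XB A I X ↘ Spec (CommRingCat.of (reesAlgebra I))) (mon1 I a ha))) p
      ((HomologicalComplex.homologyMap (In A I F U haff n) p).hom ((eX n).symm y))
    refine h1.symm.trans ?_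
    change eB _ = eB _
    refine congrArg eB ?_
    have h2 := In_mon1 A I F U haff n a ha
    have e1 := hm_comp (In A I F U haff n) (cechMap (UB A I U) (Coh.smulAb (Fp A I F)
      (Coh.toGlobal (XB A I X ↘ Spec (CommRingCat.of (reesAlgebra I))) (mon1 I a ha)))) p
      ((eX n).symm y)
    have e2 := hm_comp (cechMap U ((SheafOfModules.toSheaf X.ringCatSheaf).map
      (mu I F n 1 a (by simpa using ha)))) (In A I F U haff (n + 1)) p ((eX n).symm y)
    rw [h2] at e1
    refine e1.trans (e2.symm.trans ?_)
    refine congrArg (HomologicalComplex.homologyMap (In A I F U haff (n + 1)) p).hom ?_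
    apply (eX (n + 1)).injective
    rw [AddEquiv.apply_symm_apply]
    refine (PnE3.EE_natural U hT ((SheafOfModules.toSheaf X.ringCatSheaf).map
      (mu I F n 1 a (by simpa using ha))) p ((eX n).symm y)).trans ?_
    exact congrArg (Sheaf.H.map ((SheafOfModules.toSheaf X.ringCatSheaf).map
      (mu I F n 1 a (by simpa using ha))) p) ((eX n).apply_symm_apply y)

end Main

end Groth.Agent.Lib.Helper4.ReesFin1
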