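import Mathlib
import Groth.Prelude.Def_Formal
import Groth.Agent.Lib.Helper4.ReesFin1
import Groth.Agent.Lib.Helper4.FFSheaf1
import Groth.Agent.Lib.Helper4.FFAlg1

/-!
# Theorem on formal functions, part 1: kernels of H^p(F) -> H^p(F/I^nF) are adically small (helper4)
-/

set_option backward.isDefEq.respectTransparency.types false
set_option synthInstance.maxHeartbeats 400000
set_option autoImplicit false
set_option linter.unusedSectionVars false
set_option linter.style.haveILetI false
set_option linter.unusedSimpArgs false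
universe u v w
open CategoryTheory
open CategoryTheory.Limits
open AlgebraicGeometry
open TopologicalSpace
open Opposite
open Groth.Agent.Helper1
open Groth.Agent.Lib.Helper4
open Groth.Agent.Lib.Helper4.IPow1
open Groth.Agent.Lib.Helper4.ReesFin1
open Groth.Agent.Lib.Helper4.FFSheaf1

namespace Groth.Agent.Lib.Helper4.FFMain1

variable (A : Type u) [CommRing A] [IsNoetherianRing A] (I : Ideal A) {X : Scheme.{u}}
  [X.Over (Spec (CommRingCat.of A))]
variable (F : X.Modules) (p : ℕ)

/-- the image of `H^p(I^nF)` in `H^p(F)` -/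
noncomputable def E (n : ℕ) : Submodule A (Coh.HH X F p) :=
  LinearMap.range (Canon.HHlin A (incl I F n) p)

theorem ker_le_E (n : ℕ) (x : Coh.HH X F p) (hx : Canon.HHlin A (Formal.modPowπ I n F) p x = 0) :
    x ∈ E A I F p n :=
  HHFin2.exact_f_g A (Sn_shortExact I F n) p x hx

theorem HHlin_incl_muH (n : ℕ) (a : A) (ha : a ∈ I) (y : Coh.HH X (Pn I F n) p) :
    Canon.HHlin A (incl I F (n + 1)) p (muH A I F p n a ha y) =
      a • Canon.HHlin A (incl I F n) p y := by
  rw [← HHFin1.HHlin_comp, mu_incl, HHFin1.HHlin_comp]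
  rfl

section Proper
variable [IsProper (X ↘ Spec (CommRingCat.of A))] (hF : Coh.IsCoh F)

include hF in
theorem exists_c0 : ∃ c0, ∀ k, E A I F p (c0 + k) ≤ I ^ k • (⊤ : Submodule A (Coh.HH X F p)) := by
  obtain ⟨c0, hc0⟩ := rees_noeth A I F hF p (fun _ => ⊤) (fun _ _ _ _ _ => trivial)
  have step : ∀ n, c0 ≤ n → E A I F p (n + 1) ≤ I • E A I F p n := by
    intro n hn x hx
    obtain ⟨x', rfl⟩ := hx
    have h1 := hc0 n hn x' trivial
    have h2 : Submodule.span A {z | ∃ (a : A) (ha : a ∈ I) (y : Coh.HH X (Pn I F n) p),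
        y ∈ (⊤ : Submodule A (Coh.HH X (Pn I F n) p)) ∧ z = muH A I F p n a ha y} ≤
        Submodule.comap (Canon.HHlin A (incl I F (n + 1)) p) (I • E A I F p n) := by
      rw [Submodule.span_le]
      rintro z ⟨a, ha, y, -, rfl⟩
      change Canon.HHlin A (incl I F (n + 1)) p (muH A I F p n a ha y) ∈ I • E A I F p n
      rw [HHlin_incl_muH]
      exact Submodule.smul_mem_smul ha ⟨y, rfl⟩
    exact h2 h1
  refine ⟨c0, fun k => ?_⟩
  induction k with
  | zero => simp
  | succ k ih =>
    refine (step (c0 + k) (Nat.le_add_right _ _)).trans ?_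
    refine (Submodule.smul_mono le_rfl ih).trans ?_
    rw [← Submodule.mul_smul, ← pow_succ']

include hF in
/-- internal form of `S0057` -/
theorem ker_small : ∃ c, ∀ n, c ≤ n → ∀ x : Coh.HH X F p,
    Canon.HHlin A (Formal.modPowπ I (n + 1) F) p x = 0 →
      x ∈ I ^ (n - c) • (⊤ : Submodule A (Coh.HH X F p)) := by
  obtain ⟨c0, hc0⟩ := exists_c0 A I F p hF
  refine ⟨c0, fun n hn x hx => ?_⟩
  have h1 := ker_le_E A I F p (n + 1) x hx
  have h2 : n + 1 = c0 + (n + 1 - c0) := by omega
  rw [h2] at h1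
  have h3 := hc0 _ h1
  exact Submodule.smul_mono_left (Ideal.pow_le_pow_right (by omega)) h3

end Proper

end Groth.Agent.Lib.Helper4.FFMain1
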