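import Mathlib
import Groth.Prelude.Def_Formal
import Groth.Agent.Lib.Helper4.FFMain1

/-!
# Theorem on formal functions, part 2: the uniform Mittag-Leffler property of the system H^p(F/I^nF) (helper4)
-/

set_option backward.isDefEq.respectTransparency.types false
set_option synthInstance.maxHeartbeats 400000
set_option autoImplicit false
set_option linter.unusedSectionVars false
set_option linter.style.haveILetI false
set_option linter.unusedSimpArgs false
universe u v w
open CategoryTheory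
open CategoryTheory.Limits
open AlgebraicGeometry
open TopologicalSpace
open Opposite
open Groth.Agent.Helper1
open Groth.Agent.Lib.Helper4
open Groth.Agent.Lib.Helper4.IPow1
open Groth.Agent.Lib.Helper4.ReesFin1
open Groth.Agent.Lib.Helper4.FFSheaf1

namespace Groth.Agent.Lib.Helper4.FFMain2

variable (A : Type u) [CommRing A] [IsNoetherianRing A] (I : Ideal A) {X : Scheme.{u}}
  [X.Over (Spec (CommRingCat.of A))]
variable (F : X.Modules) (p : ℕ)

/-- the kernel of `H^(p+1)(I^jF) → H^(p+1)(F)` -/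
noncomputable def Nk (j : ℕ) : Submodule A (Coh.HH X (Pn I F j) (p + 1)) :=
  LinearMap.ker (Canon.HHlin A (incl I F j) (p + 1))

theorem mem_Nk (j : ℕ) (w : Coh.HH X (Pn I F j) (p + 1)) :
    w ∈ Nk A I F p j ↔ Canon.HHlin A (incl I F j) (p + 1) w = 0 := Iff.rfl

theorem Nk_stable (n : ℕ) (a : A) (ha : a ∈ I) (y : Coh.HH X (Pn I F n) (p + 1))
    (hy : y ∈ Nk A I F p n) : muH A I F (p + 1) n a ha y ∈ Nk A I F p (n + 1) := by
  rw [mem_Nk] at hy ⊢
  rw [FFMain1.HHlin_incl_muH, hy, smul_zero]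

theorem HHlin_smulMod_modPow_zero {j : ℕ} {a : A} (ha : a ∈ I ^ j) (q : ℕ)
    (z : Coh.HH X (Formal.modPow I j F) q) : a • z = 0 := by
  have h1 : a • z = Canon.HHlin A (Formal.smulMod A (Formal.modPow I j F) a) q z := rfl
  rw [h1, smulMod_modPow_zero I F ha, HHFin1.HHlin_zero]

/-- (K1) `I^j` kills `Nk j` -/
theorem Nk_killed (j : ℕ) (a : A) (ha : a ∈ I ^ j) (w : Coh.HH X (Pn I F j) (p + 1))
    (hw : w ∈ Nk A I F p j) : a • w = 0 := by
  obtain ⟨z, rfl⟩ := HHFin3.exact_delta_f A (Sn_shortExact I F j) p w hw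
  rw [← map_smul]
  have : a • z = 0 := HHlin_smulMod_modPow_zero A I F ha p z
  rw [this, map_zero]

theorem HHlin_iota_muH (j : ℕ) (a : A) (ha : a ∈ I) (q : ℕ) (y : Coh.HH X (Pn I F j) q) :
    Canon.HHlin A (iota I F (Nat.le_succ j)) q (muH A I F q j a ha y) = a • y := by
  rw [← HHFin1.HHlin_comp, mu_iota_self]
  rfl

/-- the generating set -/
def gens (j : ℕ) : Set (Coh.HH X (Pn I F (j + 1)) (p + 1)) :=
  {z | ∃ (b : A) (hb : b ∈ I) (y : Coh.HH X (Pn I F j) (p + 1)),
          y ∈ Nk A I F p j ∧ z = muH A I F (p + 1) j b hb y}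

section K
variable (c0 : ℕ) (hc0 : ∀ n, c0 ≤ n → ∀ x ∈ Nk A I F p (n + 1), x ∈ Submodule.span A (gens A I F p n))

include hc0 in
theorem K2 : ∀ j, c0 ≤ j → ∀ a ∈ I ^ c0, ∀ w ∈ Nk A I F p j, a • w = 0 := by
  intro j hj
  induction j, hj using Nat.le_induction with
  | base => exact fun a ha w hw => Nk_killed A I F p c0 a ha w hw
  | succ j hj ih =>
    intro a ha w hw
    have h1 := hc0 j hj w hw
    have h2 : Submodule.span A (gens A I F p j) ≤
        LinearMap.ker (LinearMap.lsmul A (Coh.HH X (Pn I F (j + 1)) (p + 1)) a) := by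
      rw [Submodule.span_le]
      rintro z ⟨b, hb, y, hy, rfl⟩
      change a • muH A I F (p + 1) j b hb y = 0
      rw [← map_smul, ih a ha y hy, map_zero]
    exact h2 h1

theorem K3gen (j : ℕ) (b : A) (hb : b ∈ I) (y : Coh.HH X (Pn I F j) (p + 1)) (hy : y ∈ Nk A I F p j) :
    Canon.HHlin A (iota I F (Nat.le_succ j)) (p + 1) (muH A I F (p + 1) j b hb y) ∈ I • Nk A I F p j := by
  rw [HHlin_iota_muH]
  exact Submodule.smul_mem_smul hb hy

theorem K3span (j : ℕ) : Submodule.span A (gens A I F p j) ≤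
      Submodule.comap (Canon.HHlin A (iota I F (Nat.le_succ j)) (p + 1)) (I • Nk A I F p j) := by
  rw [Submodule.span_le]
  rintro z ⟨b, hb, y, hy, rfl⟩
  exact SetLike.mem_coe.2 (Submodule.mem_comap.2 (K3gen A I F p j b hb y hy))

include hc0 in
theorem K3 : ∀ j, c0 ≤ j → Submodule.map (Canon.HHlin A (iota I F (Nat.le_succ j)) (p + 1))
    (Nk A I F p (j + 1)) ≤ I • Nk A I F p j := by
  intro j hj
  rw [Submodule.map_le_iff_le_comap]
  intro w hw
  exact K3span A I F p j (hc0 j hj w hw)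

include hc0 in
theorem K3' : ∀ j, c0 ≤ j → ∀ s, Submodule.map (Canon.HHlin A (iota I F (Nat.le_add_right j s)) (p + 1))
    (Nk A I F p (j + s)) ≤ I ^ s • Nk A I F p j := by
  intro j hj s
  induction s with
  | zero =>
    rw [pow_zero, Ideal.one_eq_top, Submodule.top_smul, Submodule.map_le_iff_le_comap]
    intro w hw
    have : Canon.HHlin A (iota I F (Nat.le_add_right j 0)) (p + 1) w = w := by
      have e : iota I F (Nat.le_add_right j 0) = 𝟙 _ := iota_refl I F j
      rw [e, HHFin1.HHlin_id]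
    refine Submodule.mem_comap.2 ?_
    rw [this]
    exact hw
  | succ s ih =>
    rw [Submodule.map_le_iff_le_comap]
    intro w hw
    refine Submodule.mem_comap.2 ?_
    have e : iota I F (Nat.le_add_right j (s + 1)) =
        iota I F (Nat.le_succ (j + s)) ≫ iota I F (Nat.le_add_right j s) :=
      (iota_trans I F _ _).symm
    rw [e, HHFin1.HHlin_comp]
    have h1 : Canon.HHlin A (iota I F (Nat.le_succ (j + s))) (p + 1) w ∈ I • Nk A I F p (j + s) :=
      K3 A I F p c0 hc0 (j + s) (by omega) (Submodule.mem_map_of_mem hw)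
    have h2 : Submodule.map (Canon.HHlin A (iota I F (Nat.le_add_right j s)) (p + 1))
        (I • Nk A I F p (j + s)) ≤ I ^ (s + 1) • Nk A I F p j := by
      rw [Submodule.map_smul'']
      refine (Submodule.smul_mono le_rfl ih).trans ?_
      rw [← Submodule.mul_smul, ← pow_succ']
    exact h2 (Submodule.mem_map_of_mem h1)

include hc0 in
theorem K4 : ∀ j, c0 ≤ j → ∀ s, c0 ≤ s → ∀ w ∈ Nk A I F p (j + s),
    Canon.HHlin A (iota I F (Nat.le_add_right j s)) (p + 1) w = 0 := by
  intro j hj s hs w hw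
  have h1 := K3' A I F p c0 hc0 j hj s (Submodule.mem_map_of_mem hw)
  have h2 : I ^ s • Nk A I F p j ≤ ⊥ := by
    rw [Submodule.smul_le]
    intro a ha y hy
    rw [Submodule.mem_bot]
    exact K2 A I F p c0 hc0 j hj a (Ideal.pow_le_pow_right hs ha) y hy
  exact (Submodule.mem_bot A).1 (h2 h1)

include hc0 in
theorem K5 : ∀ i k', i + 2 * c0 ≤ k' → ∀ (h : i ≤ k') (w : Coh.HH X (Pn I F k') (p + 1)),
    w ∈ Nk A I F p k' → Canon.HHlin A (iota I F h) (p + 1) w = 0 := by
  intro i k' hik h w hw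
  have hm1 : i ≤ max i c0 := le_max_left _ _
  have hm2 : max i c0 ≤ k' := by omega
  obtain ⟨s, rfl⟩ := Nat.exists_eq_add_of_le hm2
  have e : iota I F h = iota I F (Nat.le_add_right (max i c0) s) ≫ iota I F hm1 :=
    (iota_trans I F _ _).symm
  rw [e, HHFin1.HHlin_comp, K4 A I F p c0 hc0 (max i c0) (le_max_right _ _) s (by omega) w hw, map_zero]

end K

section Proper
variable [IsProper (X ↘ Spec (CommRingCat.of A))] (hF : Coh.IsCoh F)

include hF in
theorem exists_c0' : ∃ c0, ∀ i k', i + 2 * c0 ≤ k' → ∀ (h : i ≤ k') (w : Coh.HH X (Pn I F k') (p + 1)),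
    w ∈ Nk A I F p k' → Canon.HHlin A (iota I F h) (p + 1) w = 0 := by
  obtain ⟨c0, hc0⟩ := rees_noeth A I F hF (p + 1) (Nk A I F p) (Nk_stable A I F p)
  exact ⟨c0, K5 A I F p c0 hc0⟩

include hF in
/-- internal form of `S0058` -/
theorem mittag_leffler : ∃ c, ∀ n k, n + c ≤ k →
    ∀ τ : Formal.modPow I (k + 1) F ⟶ Formal.modPow I (n + 1) F,
      Formal.modPowπ I (k + 1) F ≫ τ = Formal.modPowπ I (n + 1) F →
      ∀ z : Coh.HH X (Formal.modPow I (k + 1) F) p,
        ∃ x : Coh.HH X F p, Canon.HHlin A (Formal.modPowπ I (n + 1) F) p x = Canon.HHlin A τ p z := by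
  obtain ⟨c0, hc0⟩ := exists_c0' A I F p hF
  refine ⟨2 * c0, fun n k hnk τ hτ z => ?_⟩
  have hle : n + 1 ≤ k + 1 := by omega
  let φ : Sn I F (k + 1) ⟶ Sn I F (n + 1) :=
    { τ₁ := iota I F hle
      τ₂ := 𝟙 F
      τ₃ := τ
      comm₁₂ := by
        change iota I F hle ≫ incl I F (n + 1) = incl I F (k + 1) ≫ 𝟙 F
        rw [iota_incl, Category.comp_id]
      comm₂₃ := by
        change 𝟙 F ≫ Formal.modPowπ I (n + 1) F = Formal.modPowπ I (k + 1) F ≫ τ
        rw [hτ, Category.id_comp] }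
  apply HHFin2.exact_g_delta A (Sn_shortExact I F (n + 1)) p
  have h1 := delta_nat A (Sn_shortExact I F (k + 1)) (Sn_shortExact I F (n + 1)) φ p z
  refine h1.trans ?_
  apply hc0 (n + 1) (k + 1) (by omega) hle
  exact HHFin3.f_delta A (Sn_shortExact I F (k + 1)) p z

end Proper

end Groth.Agent.Lib.Helper4.FFMain2
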