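import Mathlib
import Groth.Prelude.Def_Formal
import Groth.Agent.Lib.Helper4.FFMain2

/-!
# Theorem on formal functions (EGA III 4.1.5, Stacks 02OC): kernels, Mittag-Leffler, completion vs inverse limit, bijectivity over a complete base (helper4)
-/

set_option backward.isDefEq.respectTransparency.types false
set_option synthInstance.maxHeartbeats 400000
set_option autoImplicit false
set_option linter.unusedSectionVars false
set_option linter.style.haveILetI false
set_option linter.unusedSimpArgs false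
universe u v w
open CategoryTheory
open CategoryTheory.Limits
open AlgebraicGeometry
open TopologicalSpace
open Opposite
open Groth.Agent.Helper1
open Groth.Agent.Lib.Helper4
open Groth.Agent.Lib.Helper4.IPow1
open Groth.Agent.Lib.Helper4.ReesFin1
open Groth.Agent.Lib.Helper4.FFSheaf1

namespace Groth.Agent.Lib.Helper4.FFMain3

variable {A : Type u} [CommRing A] [IsNoetherianRing A] (I : Ideal A) {X : Scheme.{u}}
  [X.Over (Spec (CommRingCat.of A))]
variable (F : X.Modules) (p : ℕ)

theorem toHHmodPow_apply (n : ℕ) (x : Coh.HH X F p) :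
    Formal.toHHmodPow I F p n x = Canon.HHlin A (Formal.modPowπ I (n + 1) F) p x := rfl

theorem HHmodPowTrans_apply (n : ℕ) (y : Formal.HHmodPow I F p (n + 1)) :
    Formal.HHmodPowTrans I F p n y = Canon.HHlin A (Formal.modPowTrans I (n + 1) F) p y := rfl

theorem complMap_apply {n k : ℕ} (h : n ≤ k) (z : Coh.HH X (Formal.modPow I (k + 1) F) p) :
    Sheaf.H.map ((SheafOfModules.toSheaf X.ringCatSheaf).map
        ((Formal.completion I F).map (homOfLE h).op)) p z =
      Canon.HHlin A ((Formal.completion I F).map (homOfLE h).op) p z := rfl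

theorem mem_HHlim (y : ∀ n, Formal.HHmodPow I F p n) :
    y ∈ Formal.HHlim I F p ↔ ∀ n, Formal.HHmodPowTrans I F p n (y (n + 1)) = y n := Iff.rfl

/-- the transition maps of the system `F/I^(n+1)F` -/
noncomputable def tau {n k : ℕ} (h : n ≤ k) : Formal.modPow I (k + 1) F ⟶ Formal.modPow I (n + 1) F :=
  (Formal.completion I F).map (homOfLE h).op

theorem tau_refl (n : ℕ) : tau I F (le_refl n) = 𝟙 _ := compl_refl I F n

theorem tau_succ {n k : ℕ} (h : n ≤ k) :
    tau I F (h.trans (Nat.le_succ k)) = Formal.modPowTrans I (k + 1) F ≫ tau I F h :=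
  compl_succ I F h

theorem π_tau {n k : ℕ} (h : n ≤ k) :
    Formal.modPowπ I (k + 1) F ≫ tau I F h = Formal.modPowπ I (n + 1) F := π_trans I F h

/-- iterated compatibility in the limit -/
theorem HHlim_compat (y : ∀ n, Formal.HHmodPow I F p n) (hy : y ∈ Formal.HHlim I F p) {n k : ℕ}
    (h : n ≤ k) :
    Canon.HHlin A (tau I F h) p (y k) = y n := by
  induction k, h using Nat.le_induction with
  | base =>
    rw [tau_refl]
    exact HHFin1.HHlin_id A _ p (y n)
  | succ k hk ih =>
    rw [tau_succ, HHFin1.HHlin_comp]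
    have := (mem_HHlim I F p y).1 hy k
    rw [HHmodPowTrans_apply I] at this
    rw [this]
    exact ih

section Proper
variable [IsProper (X ↘ Spec (CommRingCat.of A))] (hF : Coh.IsCoh F)

include hF in
theorem exists_data : ∃ c, FFAlg1.Data I (fun n => Formal.HHmodPowTrans I F p n)
    (fun n => Canon.HHlin A (Formal.modPowπ I (n + 1) F) p) (Formal.HHlim I F p) c := by
  obtain ⟨c, hc⟩ := FFMain1.ker_small A I F p hF
  obtain ⟨c', hc'⟩ := FFMain2.mittag_leffler A I F p hF
  refine ⟨c, ?_⟩
  refine { hL := fun y => mem_HHlim I F p y, hft := ?_, ha := ?_, hb := hc, hc := ?_ }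
  · intro n x
    rw [HHmodPowTrans_apply I]
    rw [← HHFin1.HHlin_comp, Formal.modPowπ_trans]
  · intro n
    rw [Submodule.smul_le]
    intro a ha x _
    rw [LinearMap.mem_ker, map_smul]
    exact FFMain2.HHlin_smulMod_modPow_zero A I F ha p _
  · intro y hy n
    have h1 := HHlim_compat I F p y hy (Nat.le_add_right n c')
    obtain ⟨x, hx⟩ := hc' n (n + c') le_rfl _ (π_tau I F (Nat.le_add_right n c')) (y (n + c'))
    exact ⟨x, hx.trans h1⟩

include hF in
theorem s0057 : ∃ c : ℕ, ∀ n : ℕ, c ≤ n →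
      ((Formal.toHHmodPow I F p n).ker : Set (Coh.HH X F p)) ⊆
        ((I ^ (n - c) • (⊤ : Submodule A (Coh.HH X F p)) : Submodule A (Coh.HH X F p)) : Set (Coh.HH X F p)) := by
  obtain ⟨c, hc⟩ := FFMain1.ker_small A I F p hF
  exact ⟨c, fun n hn x hx => hc n hn x hx⟩

include hF in
theorem s0058 : ∃ c : ℕ, ∀ (n k : ℕ) (h : n ≤ k), n + c ≤ k →
      Set.range (Sheaf.H.map ((SheafOfModules.toSheaf X.ringCatSheaf).map
        ((Formal.completion I F).map (homOfLE h).op)) p) = Set.range (Formal.toHHmodPow I F p n) := by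
  obtain ⟨c, hc⟩ := FFMain2.mittag_leffler A I F p hF
  refine ⟨c, fun n k h hnk => ?_⟩
  apply Set.Subset.antisymm
  · rintro _ ⟨z, rfl⟩
    obtain ⟨x, hx⟩ := hc n k hnk (tau I F h) (π_tau I F h) z
    exact ⟨x, hx⟩
  · rintro _ ⟨x, rfl⟩
    refine ⟨Formal.toHHmodPow I F p k x, ?_⟩
    change Canon.HHlin A (tau I F h) p (Canon.HHlin A (Formal.modPowπ I (k + 1) F) p x) =
      Canon.HHlin A (Formal.modPowπ I (n + 1) F) p x
    rw [← HHFin1.HHlin_comp, π_tau]

include hF in
theorem s0059 : Nonempty (AdicCompletion I (Coh.HH X F p) ≃+ Formal.HHlim I F p) := by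
  obtain ⟨c, D⟩ := exists_data I F p hF
  exact ⟨D.equiv⟩

include hF in
theorem s0003 [IsAdicComplete I A] : Function.Bijective (Formal.toHHlim I F p) := by
  obtain ⟨c, D⟩ := exists_data I F p hF
  haveI : Module.Finite A (Coh.HH X F p) := T2Main1.t2 A X F hF p
  haveI : IsAdicComplete I (Coh.HH X F p) := FFAlg1.isAdicComplete_of_finite I
  exact D.bijective_of_complete (Formal.toHHlim I F p) (fun x n => rfl)

end Proper

end Groth.Agent.Lib.Helper4.FFMain3
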