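import Mathlib
import Groth.Prelude.Def_Formal
import Groth.Agent.Lib.Helper4.FFMain3
import Groth.Agent.Lib.Helper4.LinBridge1
import Groth.Agent.Lib.Helper4.FFAlg2

/-!
# Transfer of the formal-functions data along an affine morphism: i_*(N/I^nN) = (i_*N)/I^n, Leray compatibility (helper4)
-/

set_option backward.isDefEq.respectTransparency.types false
set_option synthInstance.maxHeartbeats 400000
set_option autoImplicit false
set_option linter.unusedSectionVars false
set_option linter.style.haveILetI false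
set_option linter.unusedSimpArgs false
universe u v w
open CategoryTheory
open CategoryTheory.Limits
open AlgebraicGeometry
open TopologicalSpace
open Opposite
open Groth.Agent.Helper1
open Groth.Agent.Lib.Helper4
open Groth.Agent.Lib.Helper4.IPow1
open Groth.Agent.Lib.Helper4.BaseChgRing1
open Groth.Agent.Lib.Helper4.ReesAlg1
open Groth.Agent.Lib.Helper4.FFSheaf1

namespace Groth.Agent.Lib.Helper4.ClTr1

variable {A : Type u} [CommRing A] {X Z : Scheme.{u}} [X.Over (Spec (CommRingCat.of A))]
  [Z.Over (Spec (CommRingCat.of A))] (i : Z ⟶ X)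
  (hi : i ≫ (X ↘ Spec (CommRingCat.of A)) = Z ↘ Spec (CommRingCat.of A))

include hi in
theorem alphaRing_push (U : X.Opens) (a : A) :
    (i.app U).hom (alphaRing A X U a) = alphaRing A Z (i ⁻¹ᵁ U) a := by
  have h := alphaRing_appLE_gen (RingHom.id A) i (by
    rw [hi]
    have : Spec.map (CommRingCat.ofHom (RingHom.id A)) = 𝟙 _ := Spec.map_id _
    rw [this, Category.comp_id]) U (i ⁻¹ᵁ U) le_rfl a
  rw [Scheme.Hom.app_eq_appLE]
  exact h

/-- sections of a direct image -/
noncomputable def secPush (N : Z.Modules) (U : X.Opens) :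
    Γ((Scheme.Modules.pushforward i).obj N, U) ≃+ Γ(N, i ⁻¹ᵁ U) := AddEquiv.refl _

theorem secPush_smul (N : Z.Modules) (U : X.Opens) (s : Γ(X, U))
    (w : Γ((Scheme.Modules.pushforward i).obj N, U)) :
    secPush i N U (s • w) = (i.app U).hom s • secPush i N U w := rfl

theorem secPush_map {N N' : Z.Modules} (φ : N ⟶ N') (U : X.Opens)
    (w : Γ((Scheme.Modules.pushforward i).obj N, U)) :
    secPush i N' U (((Scheme.Modules.pushforward i).map φ).app U w) =
      φ.app (i ⁻¹ᵁ U) (secPush i N U w) := rfl

include hi in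
theorem push_smulMod (N : Z.Modules) (a : A) :
    (Scheme.Modules.pushforward i).map (Formal.smulMod A N a) =
      Formal.smulMod A ((Scheme.Modules.pushforward i).obj N) a := by
  apply Scheme.Modules.hom_ext
  intro U
  ext w
  change alphaRing A Z (i ⁻¹ᵁ U) a • secPush i N U w = secPush i N U (alphaRing A X U a • w)
  rw [secPush_smul, alphaRing_push i hi]


section Alg
variable {R : Type u} [CommRing R] (I : Ideal A) (α : A →+* R) (M : Type u) [AddCommGroup M] [Module R M]

theorem smul_mem_closure (k : ℕ) (r : R) (x : M)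
    (hx : x ∈ AddSubgroup.closure {x | ∃ a ∈ I ^ k, ∃ m : M, x = α a • m}) :
    r • x ∈ AddSubgroup.closure {x | ∃ a ∈ I ^ k, ∃ m : M, x = α a • m} := by
  induction hx using AddSubgroup.closure_induction with
  | mem y hy =>
    obtain ⟨a, ha, m, rfl⟩ := hy
    exact AddSubgroup.subset_closure ⟨a, ha, r • m, smul_comm r (α a) m⟩
  | zero => rw [smul_zero]; exact AddSubgroup.zero_mem _
  | add y z _ _ hy hz => rw [smul_add]; exact AddSubgroup.add_mem _ hy hz
  | neg y _ hy => rw [smul_neg]; exact AddSubgroup.neg_mem _ hy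

theorem mem_closure_of_mem_IM (k : ℕ) (x : M) (hx : x ∈ IM I α M k) :
    x ∈ AddSubgroup.closure {x | ∃ a ∈ I ^ k, ∃ m : M, x = α a • m} := by
  unfold IM at hx
  induction hx using Submodule.span_induction with
  | mem x hx => exact AddSubgroup.subset_closure hx
  | zero => exact AddSubgroup.zero_mem _
  | add x y _ _ hx hy => exact AddSubgroup.add_mem _ hx hy
  | smul r x _ hx => exact smul_mem_closure I α M k r x hx

end Alg


section Psi
variable (I : Ideal A) (N : Z.Modules) (F : X.Modules)
  (η : F ≅ (Scheme.Modules.pushforward i).obj N)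

instance isQuasicoherent_modPow {Y : Scheme.{u}} [Y.Over (Spec (CommRingCat.of A))] (G : Y.Modules)
    [G.IsQuasicoherent] (n : ℕ) : (Formal.modPow I n G).IsQuasicoherent := by
  haveI : (∐ fun _ : ↥(I ^ n) => G).IsQuasicoherent := Groth.Agent.Lead.QB.isQuasicoherent_sigma _
  exact QcAbel.isQuasicoherent_cokernel (Formal.smulFamily (I ^ n) G)

include hi in
theorem psi_aux (n : ℕ) : Formal.smulFamily (I ^ n) F ≫
    (η.hom ≫ (Scheme.Modules.pushforward i).map (Formal.modPowπ I n N)) = 0 := by
  apply Sigma.hom_ext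
  intro a
  rw [comp_zero, ← Category.assoc]
  unfold Formal.smulFamily
  rw [Sigma.ι_desc, ← Category.assoc, smulMod_nat, Category.assoc, ← push_smulMod i hi,
    ← Functor.map_comp, smulMod_π I N a.2, Functor.map_zero, comp_zero]

/-- the comparison `F/I^nF ⟶ i_*(N/I^nN)` -/
noncomputable def psi (n : ℕ) :
    Formal.modPow I n F ⟶ (Scheme.Modules.pushforward i).obj (Formal.modPow I n N) :=
  cokernel.desc (Formal.smulFamily (I ^ n) F)
    (η.hom ≫ (Scheme.Modules.pushforward i).map (Formal.modPowπ I n N)) (psi_aux i hi I N F η n)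

theorem π_psi (n : ℕ) : Formal.modPowπ I n F ≫ psi i hi I N F η n =
    η.hom ≫ (Scheme.Modules.pushforward i).map (Formal.modPowπ I n N) :=
  cokernel.π_desc _ _ _

theorem π_psi_app (n : ℕ) (V : X.Opens) (x : Γ(F, V)) :
    secPush i _ V ((psi i hi I N F η n).app V ((Formal.modPowπ I n F).app V x)) =
      (Formal.modPowπ I n N).app (i ⁻¹ᵁ V) (secPush i N V (η.hom.app V x)) :=
  congrArg (fun φ => secPush i _ V (Scheme.Modules.Hom.app φ V x)) (π_psi i hi I N F η n)

theorem eta_bijective (V : X.Opens) : Function.Bijective (η.hom.app V) := by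
  refine Function.bijective_iff_has_inverse.2 ⟨fun y => η.inv.app V y, fun x => ?_, fun y => ?_⟩
  · exact congrArg (fun φ => Scheme.Modules.Hom.app φ V x) η.hom_inv_id
  · exact congrArg (fun φ => Scheme.Modules.Hom.app φ V y) η.inv_hom_id

variable [IsNoetherianRing A] [IsAffineHom i] [N.IsQuasicoherent] [F.IsQuasicoherent]

include hi in
theorem mem_IM_of_eta (n : ℕ) {V : X.Opens} (x : Γ(F, V))
    (hx : secPush i N V (η.hom.app V x) ∈ IM I (alphaRing A Z (i ⁻¹ᵁ V)) Γ(N, i ⁻¹ᵁ V) n) :
    x ∈ IM I (alphaRing A X V) Γ(F, V) n := by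
  have h1 := mem_closure_of_mem_IM I _ _ n _ hx
  have key : ∀ y ∈ AddSubgroup.closure {x | ∃ a ∈ I ^ n, ∃ m : Γ(N, i ⁻¹ᵁ V),
      x = alphaRing A Z (i ⁻¹ᵁ V) a • m},
      ∀ x : Γ(F, V), secPush i N V (η.hom.app V x) = y → x ∈ IM I (alphaRing A X V) Γ(F, V) n := by
    intro y hy
    induction hy using AddSubgroup.closure_induction with
    | mem y hy =>
      obtain ⟨a, ha, m, rfl⟩ := hy
      intro x hx
      obtain ⟨m', hm'⟩ := (eta_bijective i N F η V).2 ((secPush i N V).symm m)
      have : x = alphaRing A X V a • m' := by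
        apply (eta_bijective i N F η V).1
        rw [Scheme.Modules.Hom.app_smul, hm']
        apply (secPush i N V).injective
        rw [hx, secPush_smul, alphaRing_push i hi]
        rfl
      rw [this]
      exact Submodule.subset_span ⟨a, ha, m', rfl⟩
    | zero =>
      intro x hx
      have : x = 0 := (eta_bijective i N F η V).1 (by
        rw [map_zero]; exact (secPush i N V).injective (hx.trans (map_zero _).symm))
      rw [this]; exact Submodule.zero_mem _
    | add y z _ _ hy hz =>
      intro x hx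
      obtain ⟨y', hy'⟩ := (eta_bijective i N F η V).2 ((secPush i N V).symm y)
      obtain ⟨z', hz'⟩ := (eta_bijective i N F η V).2 ((secPush i N V).symm z)
      have : x = y' + z' := by
        apply (eta_bijective i N F η V).1
        rw [map_add, hy', hz']
        apply (secPush i N V).injective
        rw [hx, map_add]; rfl
      rw [this]
      exact Submodule.add_mem _ (hy y' (by rw [hy']; rfl)) (hz z' (by rw [hz']; rfl))
    | neg y _ hy =>
      intro x hx
      obtain ⟨y', hy'⟩ := (eta_bijective i N F η V).2 ((secPush i N V).symm y)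
      have : x = - y' := by
        apply (eta_bijective i N F η V).1
        rw [map_neg, hy']
        apply (secPush i N V).injective
        rw [hx, map_neg]; rfl
      rw [this]
      exact Submodule.neg_mem _ (hy y' (by rw [hy']; rfl))
  exact key _ h1 x rfl

include hi in
theorem psi_app_bijective (n : ℕ) {V : X.Opens} (hV : IsAffineOpen V) :
    Function.Bijective ((psi i hi I N F η n).app V) := by
  have hV' : IsAffineOpen (i ⁻¹ᵁ V) := hV.preimage i
  haveI : Epi (Formal.modPowπ I n F) := inferInstanceAs (Epi (cokernel.π _))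
  haveI : Epi (Formal.modPowπ I n N) := inferInstanceAs (Epi (cokernel.π _))
  have sF := AffPushEpi.app_surjective_of_epi (Formal.modPowπ I n F) V hV
  have sN := AffPushEpi.app_surjective_of_epi (Formal.modPowπ I n N) (i ⁻¹ᵁ V) hV'
  constructor
  · rw [injective_iff_map_eq_zero]
    intro z hz
    obtain ⟨x, rfl⟩ := sF z
    have h1 := π_psi_app i hi I N F η n V x
    rw [hz, map_zero] at h1
    obtain ⟨y, hy⟩ := exact_sections I N n _ h1.symm
    have h2 : secPush i N V (η.hom.app V x) ∈ IM I (alphaRing A Z (i ⁻¹ᵁ V)) Γ(N, i ⁻¹ᵁ V) n := by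
      rw [← hy]
      exact mem_IM_of_mem_range_incl I N hV' n y
    have h3 := mem_IM_of_eta i hi I N F η n x h2
    obtain ⟨y', hy'⟩ := mem_range_incl_of_mem_IM I F n x h3
    rw [← hy']
    exact congrArg (fun φ => Scheme.Modules.Hom.app φ V y') (incl_π I F n)
  · intro y
    obtain ⟨y', hy'⟩ := sN (secPush i _ V y)
    obtain ⟨x, hx⟩ := (eta_bijective i N F η V).2 ((secPush i N V).symm y')
    refine ⟨(Formal.modPowπ I n F).app V x, ?_⟩
    apply (secPush i _ V).injective
    rw [π_psi_app, hx, ← hy']
    rfl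

include hi in
theorem isIso_psi (n : ℕ) : IsIso (psi i hi I N F η n) := by
  apply Groth.Agent.Lead.BCU.isIso_of_bijective_nhds
  intro U x hx
  obtain ⟨_, ⟨W, hW, rfl⟩, hxW, hWU⟩ := X.isBasis_affineOpens.exists_subset_of_mem_open hx U.isOpen
  exact ⟨W, hWU, hxW, psi_app_bijective i hi I N F η n hW⟩

end Psi


section Coh
variable (I : Ideal A) (N : Z.Modules) (F : X.Modules)
  (η : F ≅ (Scheme.Modules.pushforward i).obj N)

theorem leray_natural {N₁ N₂ : Z.Modules} (φ : N₁ ⟶ N₂) (p : ℕ)
    (e : Coh.HH X ((Coh.push i).obj N₁) p) :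
    LinBridge1.lerayLin i N₂ A hi p (Canon.HHlin A ((Scheme.Modules.pushforward i).map φ) p e) =
      Canon.HHlin A φ p (LinBridge1.lerayLin i N₁ A hi p e) :=
  LinBridge1.lerayAdd_natural i ((SheafOfModules.toSheaf Z.ringCatSheaf).map φ) p e

include hi in
theorem trans_psi (n : ℕ) : Formal.modPowTrans I n F ≫ psi i hi I N F η n =
    psi i hi I N F η (n + 1) ≫ (Scheme.Modules.pushforward i).map (Formal.modPowTrans I n N) := by
  haveI : Epi (Formal.modPowπ I (n + 1) F) := inferInstanceAs (Epi (cokernel.π _))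
  rw [← cancel_epi (Formal.modPowπ I (n + 1) F), ← Category.assoc, Formal.modPowπ_trans, π_psi,
    ← Category.assoc, π_psi, Category.assoc, ← Functor.map_comp, Formal.modPowπ_trans]

variable [IsNoetherianRing A] [IsAffineHom i] [N.IsQuasicoherent] [F.IsQuasicoherent]

/-- the comparison of cohomology -/
noncomputable def Lam (p : ℕ) : Coh.HH X F p ≃ₗ[A] Coh.HH Z N p :=
  (HHFin1.HHequiv A η p).trans (LinBridge1.lerayEquiv i N A hi p)

theorem Lam_apply (p : ℕ) (x : Coh.HH X F p) :
    Lam i hi N F η p x = LinBridge1.lerayLin i N A hi p (Canon.HHlin A η.hom p x) := rfl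

/-- the comparison of cohomology of the quotients -/
noncomputable def LamN (n p : ℕ) :
    Coh.HH X (Formal.modPow I n F) p ≃ₗ[A] Coh.HH Z (Formal.modPow I n N) p :=
  haveI := isIso_psi i hi I N F η n
  (HHFin1.HHequiv A (asIso (psi i hi I N F η n)) p).trans
    (LinBridge1.lerayEquiv i (Formal.modPow I n N) A hi p)

theorem LamN_apply (n p : ℕ) (y : Coh.HH X (Formal.modPow I n F) p) :
    LamN i hi I N F η n p y = LinBridge1.lerayLin i (Formal.modPow I n N) A hi p
      (Canon.HHlin A (psi i hi I N F η n) p y) := rfl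

theorem LamN_π (n p : ℕ) (x : Coh.HH X F p) :
    LamN i hi I N F η n p (Canon.HHlin A (Formal.modPowπ I n F) p x) =
      Canon.HHlin A (Formal.modPowπ I n N) p (Lam i hi N F η p x) := by
  rw [LamN_apply, Lam_apply, ← HHFin1.HHlin_comp, π_psi, HHFin1.HHlin_comp, leray_natural]

theorem LamN_trans (n p : ℕ) (y : Coh.HH X (Formal.modPow I (n + 1) F) p) :
    LamN i hi I N F η n p (Canon.HHlin A (Formal.modPowTrans I n F) p y) =
      Canon.HHlin A (Formal.modPowTrans I n N) p (LamN i hi I N F η (n + 1) p y) := by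
  rw [LamN_apply, LamN_apply, ← HHFin1.HHlin_comp, trans_psi i hi, HHFin1.HHlin_comp, leray_natural]

include hi η in
/-- **transfer of the formal-functions data along an affine morphism** -/
theorem data_transfer (p c : ℕ)
    (D : FFAlg1.Data I (fun n => Formal.HHmodPowTrans I N p n)
      (fun n => Canon.HHlin A (Formal.modPowπ I (n + 1) N) p) (Formal.HHlim I N p) c) :
    FFAlg1.Data I (fun n => Formal.HHmodPowTrans I F p n)
      (fun n => Canon.HHlin A (Formal.modPowπ I (n + 1) F) p) (Formal.HHlim I F p) c :=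
  FFAlg2.Data.transfer I D _ _ _ (fun y => FFMain3.mem_HHlim I F p y)
    (Lam i hi N F η p) (fun n => LamN i hi I N F η (n + 1) p)
    (fun n x => LamN_π i hi I N F η (n + 1) p x)
    (fun n y => LamN_trans i hi I N F η (n + 1) p y)

end Coh

end Groth.Agent.Lib.Helper4.ClTr1
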