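import Mathlib
import Groth.Prelude.Def_ega3
import Groth.Agent.Lib.Helper4.TenSec2
import Groth.Agent.Lib.Helper4.IPow1
import Groth.Agent.Lib.Helper4.ClTr1
import Groth.Agent.Lib.Lead.BCU4

/-!
# The morphisms F -> F tensor M~ given by elements of M; F/I^kF = F tensor A/I^k as sheaves (helper4)
-/

set_option backward.isDefEq.respectTransparency.types false
set_option synthInstance.maxHeartbeats 400000
set_option autoImplicit false
set_option linter.unusedSectionVars false
set_option linter.style.haveILetI false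
set_option linter.unusedSimpArgs false
universe u v w
open CategoryTheory
open CategoryTheory.Limits
open AlgebraicGeometry
open TopologicalSpace
open Opposite
open TensorProduct
open Groth.Agent.Lead.TilT
open Groth.Agent.Helper1.QcCech
open Groth.Agent.Lib.Helper4.BaseChgRing1
open Groth.Agent.Lib.Helper4.TenSec1
open Groth.Agent.Lib.Helper4.TenSec2

namespace Groth.Agent.Lib.Helper4.InsPsi1

variable (A : Type u) [CommRing A] {X : Scheme.{u}} [X.Over (Spec (CommRingCat.of A))]
variable (F : X.Modules)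
attribute [local instance] secMod

/-- the section-level map `s ↦ m ⊗ s` -/
noncomputable def insApp (M : ModuleCat.{u} A) (m : M) (W : X.Opens) : Γ(F, W) →+ Γ(Psi A F M, W) :=
  AddMonoidHom.mk' (fun s => toTₗ (pbT A M) F W (nu A M W m ⊗ₜ s))
    (fun s s' => by rw [TensorProduct.tmul_add, map_add])

theorem insApp_apply (M : ModuleCat.{u} A) (m : M) (W : X.Opens) (s : Γ(F, W)) :
    insApp A F M m W s = theta A F M W (s ⊗ₜ m) := rfl

theorem insApp_res (M : ModuleCat.{u} A) (m : M) {W W' : X.Opens} (h : W' ≤ W) (s : Γ(F, W)) :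
    res (Psi A F M) h (insApp A F M m W s) = insApp A F M m W' (res F h s) := by
  rw [insApp_apply, insApp_apply, theta_res, LinearMap.rTensor_tmul, resA_apply]

theorem insApp_smul (M : ModuleCat.{u} A) (m : M) (W : X.Opens) (r : Γ(X, W)) (s : Γ(F, W)) :
    insApp A F M m W (r • s) = r • insApp A F M m W s := by
  change toTₗ (pbT A M) F W (nu A M W m ⊗ₜ (r • s)) = r • toTₗ (pbT A M) F W (nu A M W m ⊗ₜ s)
  rw [← map_smul]
  congr 1
  exact (TensorProduct.tmul_smul r _ _)

/-- the morphism of abelian presheaves -/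
noncomputable def insPre (M : ModuleCat.{u} A) (m : M) : F.val.presheaf ⟶ (Psi A F M).val.presheaf where
  app W := AddCommGrpCat.ofHom (insApp A F M m W.unop)
  naturality := by
    intro W W' f
    ext s
    have hle : W'.unop ≤ W.unop := f.unop.le
    have hf : f = (homOfLE hle).op := Subsingleton.elim _ _
    subst hf
    exact (insApp_res A F M m hle s).symm

/-- the morphism `F ⟶ f^*(M~) ⊗ F`, `s ↦ m ⊗ s` -/
noncomputable def ins (M : ModuleCat.{u} A) (m : M) : F ⟶ Psi A F M :=
  ⟨PresheafOfModules.homMk (insPre A F M m) (by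
    intro W r s
    exact insApp_smul A F M m W.unop r s)⟩

theorem ins_app (M : ModuleCat.{u} A) (m : M) (W : X.Opens) (s : Γ(F, W)) :
    (ins A F M m).app W s = theta A F M W (s ⊗ₜ m) := rfl

theorem ins_map {M M' : ModuleCat.{u} A} (φ : M ⟶ M') (m : M) :
    ins A F M m ≫ PsiMap A F φ = ins A F M' (φ.hom m) := by
  apply Scheme.Modules.hom_ext
  intro W
  ext s
  change ((PsiMap A F φ).app W).hom ((ins A F M m).app W s) = (ins A F M' (φ.hom m)).app W s
  rw [ins_app, ins_app]
  exact (theta_map A F φ W _).trans (by rw [LinearMap.lTensor_tmul])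


theorem ins_zero (M : ModuleCat.{u} A) : ins A F M 0 = 0 := by
  apply Scheme.Modules.hom_ext
  intro W
  ext s
  change (ins A F M 0).app W s = 0
  rw [ins_app, TensorProduct.tmul_zero, map_zero]

theorem smulMod_ins (M : ModuleCat.{u} A) (m : M) (a : A) :
    Formal.smulMod A F a ≫ ins A F M m = ins A F M (a • m) := by
  apply Scheme.Modules.hom_ext
  intro W
  ext s
  change (ins A F M m).app W ((Formal.smulMod A F a).app W s) = (ins A F M (a • m)).app W s
  rw [ins_app, ins_app, Groth.Agent.Lib.Helper4.IPow1.smulMod_app, ← secMod_smul,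
    TensorProduct.smul_tmul]

section Iso
variable [F.IsQuasicoherent]

theorem ins_one_app_bijective {W : X.Opens} (hW : IsAffineOpen W) :
    Function.Bijective ((ins A F (ModuleCat.of A A) (1 : A)).app W) := by
  have h1 : ((ins A F (ModuleCat.of A A) (1 : A)).app W : Γ(F, W) → _) =
      (theta A F (ModuleCat.of A A) W) ∘ (TensorProduct.rid A Γ(F, W)).symm := by
    funext s
    rfl
  rw [h1]
  exact (theta_bijective A F (ModuleCat.of A A) hW).comp (TensorProduct.rid A Γ(F, W)).symm.bijective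

theorem isIso_ins_one : IsIso (ins A F (ModuleCat.of A A) (1 : A)) := by
  apply Groth.Agent.Lead.BCU.isIso_of_bijective_nhds
  intro U x hx
  obtain ⟨_, ⟨W, hW, rfl⟩, hxW, hWU⟩ := X.isBasis_affineOpens.exists_subset_of_mem_open hx U.isOpen
  exact ⟨W, hWU, hxW, ins_one_app_bijective A F hW⟩

end Iso

section Quot
variable (I : Ideal A) (k : ℕ)

/-- `A/I^k` as an object -/
noncomputable abbrev Qk : ModuleCat.{u} A := ModuleCat.of A (A ⧸ I ^ k)

/-- the quotient map `A → A/I^k` -/
noncomputable abbrev qk : ModuleCat.of A A ⟶ Qk A I k := ModuleCat.ofHom (Submodule.mkQ (I ^ k))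

theorem smulFamily_ins : Formal.smulFamily (I ^ k) F ≫
    ins A F (Qk A I k) (Ideal.Quotient.mk (I ^ k) 1) = 0 := by
  apply Sigma.hom_ext
  intro a
  rw [comp_zero, ← Category.assoc]
  unfold Formal.smulFamily
  rw [Sigma.ι_desc, smulMod_ins]
  have : ((a : A) • (Ideal.Quotient.mk (I ^ k) 1 : A ⧸ I ^ k)) = 0 := by
    rw [← Ideal.Quotient.mk_eq_mk, ← Submodule.Quotient.mk_smul, smul_eq_mul, mul_one]
    exact (Submodule.Quotient.mk_eq_zero _).2 a.2
  exact (congrArg (ins A F (Qk A I k)) this).trans (ins_zero A F _)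

/-- the comparison `F/I^kF ⟶ F ⊗ A/I^k` -/
noncomputable def dsc : Formal.modPow I k F ⟶ Psi A F (Qk A I k) :=
  cokernel.desc (Formal.smulFamily (I ^ k) F) (ins A F (Qk A I k) (Ideal.Quotient.mk (I ^ k) 1))
    (smulFamily_ins A F I k)

theorem π_dsc : Formal.modPowπ I k F ≫ dsc A F I k =
    ins A F (Qk A I k) (Ideal.Quotient.mk (I ^ k) 1) := cokernel.π_desc _ _ _

theorem ins_one_qk : ins A F (ModuleCat.of A A) (1 : A) ≫ PsiMap A F (qk A I k) =
    ins A F (Qk A I k) (Ideal.Quotient.mk (I ^ k) 1) := ins_map A F (qk A I k) (1 : A)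

theorem π_dsc_app (W : X.Opens) (s : Γ(F, W)) :
    (dsc A F I k).app W ((Formal.modPowπ I k F).app W s) =
      theta A F (Qk A I k) W (s ⊗ₜ (Ideal.Quotient.mk (I ^ k) 1 : A ⧸ I ^ k)) :=
  congrArg (fun φ => Scheme.Modules.Hom.app φ W s) (π_dsc A F I k)

end Quot


section QuotIso
variable (I : Ideal A) (k : ℕ) [IsNoetherianRing A] [F.IsQuasicoherent]
open Groth.Agent.Lib.Helper4.IPow1
open Groth.Agent.Lib.Helper4.ReesAlg1
open Groth.Agent.Lib.Helper4.ClTr1

theorem mem_IM_of_mem_smul (W : X.Opens) (s : Γ(F, W))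
    (hs : s ∈ ((I ^ k) • (⊤ : Submodule A Γ(F, W)))) :
    s ∈ IM I (alphaRing A X W) Γ(F, W) k := by
  exact Submodule.smul_induction_on hs
    (fun a ha m _ => Submodule.subset_span ⟨a, ha, m, rfl⟩)
    (fun x y hx hy => Submodule.add_mem _ hx hy)

theorem dsc_app_bijective {W : X.Opens} (hW : IsAffineOpen W) :
    Function.Bijective ((dsc A F I k).app W) := by
  haveI : Epi (Formal.modPowπ I k F) := inferInstanceAs (Epi (cokernel.π _))
  have sF := Groth.Agent.Helper1.AffPushEpi.app_surjective_of_epi (Formal.modPowπ I k F) W hW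
  let e := TensorProduct.tensorQuotEquivQuotSMul Γ(F, W) (I ^ k)
  constructor
  · rw [injective_iff_map_eq_zero]
    intro z hz
    obtain ⟨s, rfl⟩ := sF z
    rw [π_dsc_app] at hz
    have h1 : (s ⊗ₜ[A] (Ideal.Quotient.mk (I ^ k) 1 : A ⧸ I ^ k)) = 0 :=
      (theta_bijective A F (Qk A I k) hW).1 (hz.trans (map_zero _).symm)
    have h2 : e (s ⊗ₜ[A] (Ideal.Quotient.mk (I ^ k) 1 : A ⧸ I ^ k)) = 0 := by
      rw [h1, map_zero]
    rw [TensorProduct.tensorQuotEquivQuotSMul_tmul_mk, one_smul] at h2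
    have h3 : s ∈ ((I ^ k) • (⊤ : Submodule A Γ(F, W))) := (Submodule.Quotient.mk_eq_zero _).1 h2
    obtain ⟨y', hy'⟩ := mem_range_incl_of_mem_IM I F k s (mem_IM_of_mem_smul A F I k W s h3)
    rw [← hy']
    exact congrArg (fun φ => Scheme.Modules.Hom.app φ W y') (incl_π I F k)
  · intro y
    obtain ⟨x, rfl⟩ := (theta_bijective A F (Qk A I k) hW).2 y
    obtain ⟨s, hs⟩ := Submodule.mkQ_surjective _ (e x)
    have hx : x = s ⊗ₜ[A] (Ideal.Quotient.mk (I ^ k) 1 : A ⧸ I ^ k) := by
      apply e.injective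
      rw [TensorProduct.tensorQuotEquivQuotSMul_tmul_mk, one_smul]
      exact hs.symm
    refine ⟨(Formal.modPowπ I k F).app W s, ?_⟩
    rw [π_dsc_app, hx]

theorem isIso_dsc : IsIso (dsc A F I k) := by
  apply Groth.Agent.Lead.BCU.isIso_of_bijective_nhds
  intro U x hx
  obtain ⟨_, ⟨W, hW, rfl⟩, hxW, hWU⟩ := X.isBasis_affineOpens.exists_subset_of_mem_open hx U.isOpen
  exact ⟨W, hWU, hxW, dsc_app_bijective A F I k hW⟩

end QuotIso

end Groth.Agent.Lib.Helper4.InsPsi1
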