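import Mathlib
import Groth.Prelude.Def_ega3
import Groth.Agent.Lib.Helper4.InsPsi1
import Groth.Agent.Lib.Helper4.AlgFib1
import Groth.Agent.Lib.Helper4.MumBC2

/-!
# Vanishing of H^{n+1} of the closed fibre makes H^n(F) -> H^n(F/m^kF) surjective (helper4)
-/

set_option backward.isDefEq.respectTransparency.types false
set_option synthInstance.maxHeartbeats 400000
set_option autoImplicit false
set_option linter.unusedSectionVars false
set_option linter.style.haveILetI false
set_option linter.unusedSimpArgs false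
universe u v w
open CategoryTheory
open CategoryTheory.Limits
open AlgebraicGeometry
open TopologicalSpace
open Opposite
open TensorProduct
open MonoidalCategory
open Groth.Agent.Lib.Helper4.TenSec2
open Groth.Agent.Lib.Helper4.InsPsi1
open Groth.Agent.Lib.Helper4.AlgFib1
open Groth.Agent.Lib.Helper4.ExchAlg1
open Groth.Agent.Lib.Helper4.CechTen1
open Groth.Agent.Lib.Helper4.CechTen2
open Groth.Agent.Lib.Helper4.CechTen3
open Groth.Agent.Lib.Helper4.BCSec2
open Groth.Agent.Lib.Helper4.MumBC1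
open Groth.Agent.Lib.Helper4.MumBC2
open Groth.Agent.Lib.Helper4.TruncAlg1

namespace Groth.Agent.Lib.Helper4.FibSurj1

section Geo
variable {A : Type u} [CommRing A] [IsNoetherianRing A] {X : Scheme.{u}}
  [X.Over (Spec (CommRingCat.of A))] [IsProper (X ↘ Spec (CommRingCat.of A))]
  {F : X.Modules} (D : MData A X F)

attribute [local instance] Groth.Agent.Lib.Helper4.TenSec2.secMod

/-- fibrewise vanishing over a local base: only the closed fibre matters -/
theorem MData.fibVan_local [IsLocalRing A] [F.IsQuasicoherent] (q : ℕ)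
    (h : Subsingleton (CohIII.fiberH (X ↘ Spec (CommRingCat.of A)) F (IsLocalRing.closedPoint A) q)) :
    FibVan D.K (q : ℤ) := by
  haveI := D.fin
  intro m hm
  let y : ↑(Spec (CommRingCat.of A)) := IsLocalRing.closedPoint A
  have hy : y.asIdeal = m := (IsLocalRing.eq_maximalIdeal hm).symm
  refine ⟨(Spec (CommRingCat.of A)).residueField y, inferInstance, phiY A y,
    (ker_phiY A y).trans hy, ?_⟩
  have e := fibBC A y F D.U D.haff D.hcov q
  haveI : Subsingleton ((CohIII.TFun (CZ A F D.U) (q : ℤ)).obj (rs (phiY A y)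
      (𝟙_ (ModuleCat.{u} ((Spec (CommRingCat.of A)).residueField y))))) :=
    e.symm.toEquiv.subsingleton
  exact ((D.eK (q : ℤ)).app _).toLinearEquiv.toEquiv.subsingleton

/-- the comparison of the `T`-functors of the complex with the cohomology of `F ⊗ M` -/
noncomputable def MData.eH [F.IsQuasicoherent] (p : ℕ) :
    CohIII.TFun D.K (p : ℤ) ⋙ forget₂ (ModuleCat.{u} A) AddCommGrpCat.{u} ≅
      CohIII.tensorAFunctor A F ⋙ CohIII.HAb X p :=
  haveI := D.fin
  Functor.isoWhiskerRight (D.eK (p : ℤ)) _ ≪≫ cechNatIso A F D.U D.haff D.hcov p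

end Geo



section HH
variable {X : Scheme.{u}}

theorem HHmap_comp' {M N P : X.Modules} (φ : M ⟶ N) (ψ : N ⟶ P) (χ : M ⟶ P) (h : φ ≫ ψ = χ)
    (n : ℕ) (x : Coh.HH X M n) :
    Sheaf.H.map ((SheafOfModules.toSheaf X.ringCatSheaf).map ψ) n
      (Sheaf.H.map ((SheafOfModules.toSheaf X.ringCatSheaf).map φ) n x) =
      Sheaf.H.map ((SheafOfModules.toSheaf X.ringCatSheaf).map χ) n x := by
  subst h
  exact Formal.HHmap_comp φ ψ n x

theorem HHmap_id' {M : X.Modules} (φ : M ⟶ M) (h : φ = 𝟙 M) (n : ℕ) (x : Coh.HH X M n) :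
    Sheaf.H.map ((SheafOfModules.toSheaf X.ringCatSheaf).map φ) n x = x := by
  subst h
  have : (SheafOfModules.toSheaf X.ringCatSheaf).map (𝟙 M) = 𝟙 _ := CategoryTheory.Functor.map_id _ _
  rw [this, Sheaf.H.map_id_apply]

theorem HHmap_injective_of_isIso {M N : X.Modules} (φ : M ⟶ N) [IsIso φ] (n : ℕ) :
    Function.Injective (Sheaf.H.map ((SheafOfModules.toSheaf X.ringCatSheaf).map φ) n) := by
  intro a b hab
  have ha := HHmap_comp' φ (inv φ) (𝟙 M) (IsIso.hom_inv_id φ) n a
  have hb := HHmap_comp' φ (inv φ) (𝟙 M) (IsIso.hom_inv_id φ) n b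
  rw [HHmap_id' _ rfl] at ha hb
  rw [← ha, ← hb, hab]

end HH

section Main

theorem s4462 (A : Type u) [CommRing A] [IsNoetherianRing A]
    [IsLocalRing A] (X : Scheme.{u}) [X.Over (Spec (CommRingCat.of A))]
    [IsProper (X ↘ Spec (CommRingCat.of A))] (F : X.Modules) (hF : Coh.IsCoh F)
    (hfl : FlatMod.IsFlatOver (X ↘ Spec (CommRingCat.of A)) F) (n : ℕ)
    (hvan : Subsingleton (CohIII.fiberH (X ↘ Spec (CommRingCat.of A)) F (IsLocalRing.closedPoint A) (n + 1)))
    (p : ℕ) :
    Function.Surjective (Formal.toHHmodPow (IsLocalRing.maximalIdeal A) F n p) := by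
  haveI : F.IsQuasicoherent := hF.1
  obtain ⟨D⟩ := nonempty_mdata A X F hF hfl
  set I := IsLocalRing.maximalIdeal A with hI
  -- the algebra
  have hfv : FibVan D.K ((n : ℤ) + 1) := by
    have := MData.fibVan_local D (n + 1) hvan
    rwa [Nat.cast_add, Nat.cast_one] at this
  haveI : ∀ i, Module.Finite A (D.K.X i) := fun i => (D.hff i).1
  haveI : ∀ i, Module.Free A (D.K.X i) := fun i => (D.hff i).2
  have hps : PresSurj D.K (n : ℤ) :=
    presSurj_of_fibVan D.K ((n : ℤ) - 1) (n : ℤ) ((n : ℤ) + 1) ((n : ℤ) + 1 + 1) (by omega) rfl rfl hfv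
  have h1 : Function.Surjective ((CohIII.TFun D.K (n : ℤ)).map (qk A I (p + 1))).hom :=
    hps _ _ _ (Submodule.mkQ_surjective _)
  have h2 : Function.Surjective (((CohIII.tensorAFunctor A F ⋙ CohIII.HAb X n).map (qk A I (p + 1))).hom) :=
    (map_surjective_iff D.K (n : ℤ) (MData.eH D n) (qk A I (p + 1))).2 h1
  have h3 : Function.Surjective (Sheaf.H.map ((SheafOfModules.toSheaf X.ringCatSheaf).map
      (PsiMap A F (qk A I (p + 1)))) n) := h2
  -- the geometry
  haveI h4 : IsIso (ins A F (ModuleCat.of A A) (1 : A)) := isIso_ins_one A F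
  haveI h5 : IsIso (dsc A F I (p + 1)) := isIso_dsc A F I (p + 1)
  let j1 : Psi A F (ModuleCat.of A A) ⟶ F := inv (ins A F (ModuleCat.of A A) (1 : A))
  have hj1 : j1 ≫ ins A F (ModuleCat.of A A) (1 : A) = 𝟙 _ := IsIso.inv_hom_id _
  intro x
  obtain ⟨z, hz⟩ := h3 (Sheaf.H.map ((SheafOfModules.toSheaf X.ringCatSheaf).map (dsc A F I (p + 1))) n x)
  refine ⟨Sheaf.H.map ((SheafOfModules.toSheaf X.ringCatSheaf).map j1) n z, ?_⟩
  apply HHmap_injective_of_isIso (dsc A F I (p + 1)) n
  have e1 : Formal.modPowπ I (p + 1) F ≫ dsc A F I (p + 1) =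
      ins A F (ModuleCat.of A A) (1 : A) ≫ PsiMap A F (qk A I (p + 1)) :=
    (π_dsc A F I (p + 1)).trans (ins_one_qk A F I (p + 1)).symm
  refine (HHmap_comp' _ _ _ e1 n _).trans ?_
  refine (HHmap_comp' _ _ _ rfl n _).symm.trans ?_
  refine Eq.trans ?_ hz
  congr 1
  refine (HHmap_comp' _ _ _ hj1 n z).trans ?_
  exact HHmap_id' _ rfl n z

end Main

end Groth.Agent.Lib.Helper4.FibSurj1
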