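import Mathlib
import Groth.Prelude.Def_ega3
import Groth.Agent.Lib.Helper1.FlatCxL

/-!
# Fibre rank and flatness over reduced rings (helper4)
-/

set_option backward.isDefEq.respectTransparency.types false
set_option synthInstance.maxHeartbeats 400000
set_option autoImplicit false
set_option linter.unusedSectionVars false
set_option linter.style.haveILetI false
set_option linter.unusedSimpArgs false
universe u v w
open TensorProduct
open Groth.Agent.Helper1.FlatCxL

namespace Groth.Agent.Lib.Helper4.RedRank1

section L1
variable {A : Type u} [CommRing A] (Q : Type u) [AddCommGroup Q] [Module A Q]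

/-- the fibre rank can be computed with any field having the right kernel -/
theorem finrank_tensor_field_eq (L : Type u) [Field L] [Algebra A L] (y : PrimeSpectrum A)
    (hy : RingHom.ker (algebraMap A L) = y.asIdeal) :
    Module.finrank L (L ⊗[A] Q) = fibreRank Q y := by
  let κ := y.asIdeal.ResidueField
  have h2 : y.asIdeal.primeCompl ≤ (IsUnit.submonoid L).comap (algebraMap A L) := by
    intro s hs
    change IsUnit (algebraMap A L s)
    rw [isUnit_iff_ne_zero]
    intro h0
    apply hs
    rw [← hy]
    exact h0
  let g : κ →+* L := Ideal.ResidueField.lift y.asIdeal (algebraMap A L) (by rw [hy]) h2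
  letI : Algebra κ L := g.toAlgebra
  haveI : IsScalarTower A κ L := IsScalarTower.of_algebraMap_eq (fun a =>
    (Ideal.ResidueField.lift_algebraMap y.asIdeal (algebraMap A L) (by rw [hy]) h2 a).symm)
  let e : L ⊗[κ] (κ ⊗[A] Q) ≃ₗ[L] L ⊗[A] Q := AlgebraTensorModule.cancelBaseChange A κ L L Q
  rw [← e.finrank_eq, Module.finrank_baseChange]
  rfl

end L1


section RL
variable {R : Type u} [CommRing R]

/-- an element lying in every minimal prime of a reduced ring is zero -/
theorem eq_zero_of_mem_minimalPrimes [IsReduced R] (x : R)
    (h : ∀ q : Ideal R, q ∈ minimalPrimes R → x ∈ q) : x = 0 := by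
  have h1 : x ∈ sInf ((⊥ : Ideal R).minimalPrimes) := by
    rw [Ideal.mem_sInf]
    intro q hq
    exact h q hq
  rw [Ideal.sInf_minimalPrimes] at h1
  have h2 : (⊥ : Ideal R).radical = ⊥ := by
    have := nilradical_eq_zero R
    exact this
  rw [h2] at h1
  exact h1

variable [IsLocalRing R] [IsReduced R] (M : Type u) [AddCommGroup M] [Module R M]
  [Module.Finite R M]

open IsLocalRing in
/-- **a finite module over a reduced local ring whose fibre rank at every minimal prime equals the
fibre rank at the closed point is free** -/
theorem free_of_fibreRank_minimal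
    (h : ∀ q : PrimeSpectrum R, q.asIdeal ∈ minimalPrimes R →
      fibreRank M q = fibreRank M (closedPoint R)) :
    Module.Free R M := by
  classical
  let k := ResidueField R
  have hk : Module.finrank k (k ⊗[R] M) = fibreRank M (closedPoint R) :=
    finrank_tensor_field_eq M k (closedPoint R) (IsLocalRing.ker_residue (R := R))
  set r := Module.finrank k (k ⊗[R] M) with hr
  let b : Module.Basis (Fin r) k (k ⊗[R] M) := Module.finBasis k (k ⊗[R] M)
  have hsurj := TensorProduct.mk_surjective R M k Ideal.Quotient.mk_surjective
  choose f hf using fun i => hsurj (b i)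
  have hspan : Submodule.span R (Set.range f) = ⊤ :=
    IsLocalRing.span_eq_top_of_tmul_eq_basis f b hf
  let π : (Fin r → R) →ₗ[R] M := Fintype.linearCombination R f
  have hπs : Function.Surjective π := by
    rw [← LinearMap.range_eq_top, Fintype.range_linearCombination]
    exact hspan
  have hπi : Function.Injective π := by
    rw [injective_iff_map_eq_zero]
    intro x hx
    funext i
    apply eq_zero_of_mem_minimalPrimes
    intro q hq
    haveI : q.IsPrime := hq.1.1
    let L := q.ResidueField
    have hq' : fibreRank M ⟨q, hq.1.1⟩ = r := (h ⟨q, hq.1.1⟩ hq).trans hk.symm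
    have h1 : Module.finrank L (L ⊗[R] (Fin r → R)) = r := by
      rw [Module.finrank_baseChange, Module.finrank_pi, Fintype.card_fin]
    have h2 : Module.finrank L (L ⊗[R] M) = r := hq'
    have hs : Function.Surjective (π.baseChange L) := LinearMap.lTensor_surjective L hπs
    have hi : Function.Injective (π.baseChange L) :=
      (LinearMap.injective_iff_surjective_of_finrank_eq_finrank (h1.trans h2.symm)).2 hs
    have h3 : (1 : L) ⊗ₜ[R] x = 0 := by
      apply hi
      rw [LinearMap.baseChange_tmul, hx, TensorProduct.tmul_zero, map_zero]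
    -- evaluate the `i`-th coordinate
    let ev : L ⊗[R] (Fin r → R) →ₗ[L] L :=
      (TensorProduct.AlgebraTensorModule.rid R L L).toLinearMap ∘ₗ
        (LinearMap.proj (R := R) (φ := fun _ : Fin r => R) i).baseChange L
    have h4 : ev ((1 : L) ⊗ₜ[R] x) = algebraMap R L (x i) := by
      simp [ev, Algebra.smul_def]
    rw [h3, map_zero] at h4
    have h5 : x i ∈ RingHom.ker (algebraMap R L) := h4.symm
    rwa [Ideal.ker_algebraMap_residueField] at h5
  exact Module.Free.of_equiv (LinearEquiv.ofBijective π ⟨hπi, hπs⟩)

end RL


section Glob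
variable {A : Type u} [CommRing A] (Q : Type u) [AddCommGroup Q] [Module A Q]

/-- fibre ranks of a localization at a prime: they are the fibre ranks at the contracted primes -/
theorem fibreRank_localizedModule (m : Ideal A) [m.IsPrime]
    (q' : PrimeSpectrum (Localization.AtPrime m)) :
    fibreRank (A := Localization.AtPrime m) (LocalizedModule m.primeCompl Q) q' =
      fibreRank Q (PrimeSpectrum.comap (algebraMap A (Localization.AtPrime m)) q') := by
  let R := Localization.AtPrime m
  let L := q'.asIdeal.ResidueField
  let e1 : L ⊗[R] (LocalizedModule m.primeCompl Q) ≃ₗ[L] L ⊗[R] (R ⊗[A] Q) :=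
    (LocalizedModule.equivTensorProduct m.primeCompl Q).baseChange R L _ _
  let e2 : L ⊗[R] (R ⊗[A] Q) ≃ₗ[L] L ⊗[A] Q :=
    TensorProduct.AlgebraTensorModule.cancelBaseChange A R L L Q
  have h1 : fibreRank (A := R) (LocalizedModule m.primeCompl Q) q' = Module.finrank L (L ⊗[A] Q) :=
    (e1.trans e2).finrank_eq
  rw [h1]
  apply finrank_tensor_field_eq
  rw [PrimeSpectrum.comap_asIdeal]
  ext a
  rw [RingHom.mem_ker, Ideal.mem_comap, IsScalarTower.algebraMap_apply A R L, ← RingHom.mem_ker,
    Ideal.ker_algebraMap_residueField]

/-- a locally constant function takes the same value at a point and at its generizations -/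
theorem eq_of_le_of_isLocallyConstant {α : Type*} (f : PrimeSpectrum A → α)
    (hf : IsLocallyConstant f) {x y : PrimeSpectrum A} (hxy : x ≤ y) : f x = f y := by
  have hsp : x ⤳ y := (PrimeSpectrum.le_iff_specializes x y).1 hxy
  have hopen : IsOpen {z | f z = f y} := hf.isOpen_fiber (f y)
  exact hsp.mem_open hopen rfl

variable [Module.Finite A Q]

/-- **a finite module over a reduced ring with locally constant fibre rank is flat** -/
theorem flat_of_isLocallyConstant_fibreRank [IsReduced A]
    (h : IsLocallyConstant (fibreRank (A := A) Q)) : Module.Flat A Q := by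
  apply Module.flat_of_localized_maximal
  intro m hm
  let R := Localization.AtPrime m
  haveI : Module.Free R (LocalizedModule m.primeCompl Q) := by
    apply free_of_fibreRank_minimal
    intro q' _
    rw [fibreRank_localizedModule, fibreRank_localizedModule]
    have hcl : PrimeSpectrum.comap (algebraMap A R) (IsLocalRing.closedPoint R) = ⟨m, hm.isPrime⟩ := by
      apply PrimeSpectrum.ext
      rw [PrimeSpectrum.comap_asIdeal]
      exact Localization.AtPrime.comap_maximalIdeal
    rw [hcl]
    apply eq_of_le_of_isLocallyConstant _ h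
    rw [← hcl]
    have hle : q'.asIdeal ≤ (IsLocalRing.closedPoint R).asIdeal :=
      IsLocalRing.le_maximalIdeal q'.2.ne_top
    change (PrimeSpectrum.comap (algebraMap A R) q').asIdeal ≤
      (PrimeSpectrum.comap (algebraMap A R) (IsLocalRing.closedPoint R)).asIdeal
    rw [PrimeSpectrum.comap_asIdeal, PrimeSpectrum.comap_asIdeal]
    exact Ideal.comap_mono hle
  haveI : Module.Flat R (LocalizedModule m.primeCompl Q) := inferInstance
  exact Module.Flat.trans A R (LocalizedModule m.primeCompl Q)

end Glob


section LC
open Topology

/-- two upper semicontinuous functions with locally constant sum are locally constant -/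
theorem isLocallyConstant_of_add {X : Type*} [TopologicalSpace X] (d₁ d₂ h ρ : X → ℕ)
    (h₁ : ∀ x₀, ∀ᶠ x in 𝓝 x₀, d₁ x ≤ d₁ x₀) (h₂ : ∀ x₀, ∀ᶠ x in 𝓝 x₀, d₂ x ≤ d₂ x₀)
    (hh : IsLocallyConstant h) (hρ : IsLocallyConstant ρ)
    (hsum : ∀ x, h x + ρ x = d₁ x + d₂ x) :
    IsLocallyConstant d₁ ∧ IsLocallyConstant d₂ := by
  constructor
  · rw [IsLocallyConstant.iff_eventually_eq]
    intro x₀
    filter_upwards [h₁ x₀, h₂ x₀, hh.eventually_eq x₀, hρ.eventually_eq x₀] with x a b c d
    have := hsum x
    have := hsum x₀
    omega
  · rw [IsLocallyConstant.iff_eventually_eq]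
    intro x₀
    filter_upwards [h₁ x₀, h₂ x₀, hh.eventually_eq x₀, hρ.eventually_eq x₀] with x a b c d
    have := hsum x
    have := hsum x₀
    omega

end LC

end Groth.Agent.Lib.Helper4.RedRank1
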