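import Mathlib
import Groth.Prelude.Def_ega3
import Groth.Agent.Lib.Helper1.FlatCxL
import Groth.Agent.Lib.Helper4.RedRank1
import Groth.Agent.Lib.Helper4.ExchAlg2

/-!
# Semilinear comparison of homology with a field-coefficient complex; rank formula (helper4)
-/

set_option backward.isDefEq.respectTransparency.types false
set_option synthInstance.maxHeartbeats 400000
set_option autoImplicit false
set_option linter.unusedSectionVars false
set_option linter.style.haveILetI false
set_option linter.unusedSimpArgs false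
universe u v w
open CategoryTheory
open TensorProduct
open Groth.Agent.Helper1.FlatCxL
open Groth.Agent.Lib.Helper4.RedRank1
open Groth.Agent.Lib.Helper4.HomEl1
open Groth.Agent.Lib.Helper4.ExchAlg1
open Groth.Agent.Lib.Helper4.ExchAlg2

namespace Groth.Agent.Lib.Helper4.SemiRank1

section Frac
variable {A : Type u} [CommRing A] {L : Type u} [Field L] [Algebra A L]
variable {V W : Type u} [AddCommGroup V] [Module L V] [AddCommGroup W] [Module L W]

/-- the fraction trick: additive + semilinear over `A` implies linear over a field of fractions -/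
theorem map_smul_of_fraction
    (hfrac : ∀ b : L, ∃ a s : A, algebraMap A L s ≠ 0 ∧ b * algebraMap A L s = algebraMap A L a)
    (e : V →+ W) (h : ∀ (a : A) (x : V), e (algebraMap A L a • x) = algebraMap A L a • e x)
    (b : L) (x : V) : e (b • x) = b • e x := by
  obtain ⟨a, s, hs, hb⟩ := hfrac b
  have h1 : algebraMap A L s • e (b • x) = algebraMap A L s • (b • e x) := by
    rw [← h s, smul_smul, mul_comm, hb, h a, ← hb, mul_comm, ← smul_smul]
  exact smul_right_injective W hs h1

end Frac

section Gen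
variable {A : Type u} [CommRing A] {L : Type u} [Field L] [Algebra A L]
variable {P₁ P₂ P₃ H₁ : Type u} [AddCommGroup P₁] [AddCommGroup P₂] [AddCommGroup P₃]
  [AddCommGroup H₁] [Module A P₁] [Module A P₂] [Module A P₃] [Module A H₁]
variable {V₁ V₂ V₃ : Type u} [AddCommGroup V₁] [AddCommGroup V₂] [AddCommGroup V₃]
  [Module L V₁] [Module L V₂] [Module L V₃] [Module A V₁] [Module A V₂] [Module A V₃]
  [IsScalarTower A L V₁] [IsScalarTower A L V₂] [IsScalarTower A L V₃]

theorem exists_semilinear_equiv (d₁ : P₁ →ₗ[A] P₂) (d₂ : P₂ →ₗ[A] P₃)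
    (f : V₁ →ₗ[L] V₂) (g : V₂ →ₗ[L] V₃) (h : ∀ x, g (f x) = 0)
    (c₁ : P₁ ≃ₗ[A] V₁) (c₂ : P₂ ≃ₗ[A] V₂) (c₃ : P₃ ≃ₗ[A] V₃)
    (h₁ : ∀ x, c₂ (d₁ x) = f (c₁ x)) (h₂ : ∀ x, c₃ (d₂ x) = g (c₂ x))
    (cl : LinearMap.ker d₂ →ₗ[A] H₁) (hcl : Function.Surjective cl)
    (hker : ∀ z, cl z = 0 ↔ ∃ w, d₁ w = z.1) :
    ∃ e : H₁ ≃+ (LinearMap.ker g ⧸ LinearMap.range (f.codRestrict (LinearMap.ker g) h)),
      ∀ (a : A) (x : H₁), e (a • x) = algebraMap A L a • e x := by
  letI : Module A (LinearMap.ker g ⧸ LinearMap.range (f.codRestrict (LinearMap.ker g) h)) :=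
    Module.compHom _ (algebraMap A L)
  have hmem : ∀ z : LinearMap.ker d₂, c₂ z.1 ∈ LinearMap.ker g := by
    intro z
    rw [LinearMap.mem_ker, ← h₂, z.2, map_zero]
  let φ₂ : LinearMap.ker d₂ →ₗ[A]
      (LinearMap.ker g ⧸ LinearMap.range (f.codRestrict (LinearMap.ker g) h)) :=
    { toFun := fun z => Submodule.Quotient.mk ⟨c₂ z.1, hmem z⟩
      map_add' := fun z z' => by
        rw [← Submodule.Quotient.mk_add]
        congr 1
        apply Subtype.ext
        change c₂ (z.1 + z'.1) = c₂ z.1 + c₂ z'.1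
        rw [map_add]
      map_smul' := fun a z => by
        change _ = algebraMap A L a • Submodule.Quotient.mk _
        rw [← Submodule.Quotient.mk_smul]
        congr 1
        apply Subtype.ext
        change c₂ (a • z.1) = algebraMap A L a • c₂ z.1
        rw [map_smul, algebraMap_smul] }
  have hφ₂ : Function.Surjective φ₂ := by
    intro y
    obtain ⟨⟨v, hv⟩, rfl⟩ := Submodule.Quotient.mk_surjective _ y
    have hz : c₂.symm v ∈ LinearMap.ker d₂ := by
      rw [LinearMap.mem_ker]
      apply c₃.injective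
      rw [h₂, LinearEquiv.apply_symm_apply, map_zero]
      exact hv
    refine ⟨⟨c₂.symm v, hz⟩, ?_⟩
    change Submodule.Quotient.mk _ = _
    congr 1
    apply Subtype.ext
    exact c₂.apply_symm_apply v
  have hk : LinearMap.ker cl = LinearMap.ker φ₂ := by
    ext z
    rw [LinearMap.mem_ker, LinearMap.mem_ker, hker]
    change _ ↔ Submodule.Quotient.mk _ = 0
    rw [Submodule.Quotient.mk_eq_zero]
    constructor
    · rintro ⟨w, hw⟩
      refine ⟨c₁ w, ?_⟩
      apply Subtype.ext
      change f (c₁ w) = c₂ z.1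
      rw [← h₁, hw]
    · rintro ⟨w, hw⟩
      refine ⟨c₁.symm w, ?_⟩
      apply c₂.injective
      rw [h₁, LinearEquiv.apply_symm_apply]
      exact congrArg Subtype.val hw
  let E : H₁ ≃ₗ[A] (LinearMap.ker g ⧸ LinearMap.range (f.codRestrict (LinearMap.ker g) h)) :=
    (LinearMap.quotKerEquivOfSurjective cl hcl).symm.trans
      ((Submodule.quotEquivOfEq _ _ hk).trans (LinearMap.quotKerEquivOfSurjective φ₂ hφ₂))
  exact ⟨E.toAddEquiv, fun a x => E.map_smul a x⟩

end Gen

section AlgH
variable {A : Type u} [CommRing A] (K : CochainComplex (ModuleCat.{u} A) ℤ)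
variable (L : Type u) [Field L] [Algebra A L]
variable (o p q : ℤ) (hop : o + 1 = p) (hpq : p + 1 = q)

theorem comm_rTensor {N N' : Type u} [AddCommGroup N] [Module A N] [AddCommGroup N']
    [Module A N'] (d : N →ₗ[A] N') (x : N ⊗[A] L) :
    TensorProduct.comm A N' L (d.rTensor L x) =
      d.baseChange L (TensorProduct.comm A N L x) := by
  induction x using TensorProduct.induction_on with
  | zero => rw [map_zero, map_zero, map_zero, map_zero]
  | tmul k l => rfl
  | add x y hx hy => rw [map_add, map_add, hx, hy, map_add, map_add]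

theorem comm_d (i j : ℤ) (x : K.X i ⊗[A] L) :
    TensorProduct.comm A (K.X j) L (((KM K (ModuleCat.of A L)).d i j).hom x) =
      ((K.d i j).hom.baseChange L) (TensorProduct.comm A (K.X i) L x) :=
  comm_rTensor L (K.d i j).hom x

include hop hpq in
theorem exists_equiv_finrank [∀ i, Module.Finite A (K.X i)] :
    ∃ (H : Type u) (_ : AddCommGroup H) (_ : Module L H)
      (e : (CohIII.TFun K p).obj (ModuleCat.of A L) ≃+ H),
      (∀ (a : A) (x : (CohIII.TFun K p).obj (ModuleCat.of A L)),
        e (a • x) = algebraMap A L a • e x) ∧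
      Module.finrank L H + Module.finrank L (L ⊗[A] K.X q) =
        Module.finrank L (L ⊗[A] Wq K o p) + Module.finrank L (L ⊗[A] Wq K p q) := by
  let M : ModuleCat.{u} A := ModuleCat.of A L
  let f : L ⊗[A] K.X o →ₗ[L] L ⊗[A] K.X p := (K.d o p).hom.baseChange L
  let g : L ⊗[A] K.X p →ₗ[L] L ⊗[A] K.X q := (K.d p q).hom.baseChange L
  have h : ∀ x, g (f x) = 0 := by
    intro x
    have h0 : (K.d p q).hom ∘ₗ (K.d o p).hom = 0 := by
      ext k
      exact ConcreteCategory.congr_hom (K.d_comp_d o p q) k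
    have : g ∘ₗ f = 0 := by
      rw [← LinearMap.baseChange_comp, h0, LinearMap.baseChange_zero]
    exact LinearMap.congr_fun this x
  obtain ⟨e, he⟩ := exists_semilinear_equiv (L := L) ((KM K M).d o p).hom ((KM K M).d p q).hom
    f g h (TensorProduct.comm A (K.X o) L) (TensorProduct.comm A (K.X p) L)
    (TensorProduct.comm A (K.X q) L) (comm_d K L o p) (comm_d K L p q)
    (cls (KM K M) p q hpq) (cls_surjective (KM K M) p q hpq)
    (cls_eq_zero_iff (KM K M) o p q hop hpq)
  refine ⟨_, inferInstance, inferInstance, e, he, ?_⟩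
  have key := finrank_homology_add_aux f g h
  rw [key]
  congr 1
  · exact (quotRangeBaseChangeEquiv (κ := L) (K.d o p).hom).finrank_eq
  · exact (quotRangeBaseChangeEquiv (κ := L) (K.d p q).hom).finrank_eq

end AlgH

end Groth.Agent.Lib.Helper4.SemiRank1
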