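import Mathlib
import Groth.Prelude.Def_ega3
import Groth.Agent.Lib.Helper4.FibSurj1
import Groth.Agent.Lib.Helper4.FibLin1
import Groth.Agent.Lib.Helper4.SemiRank1

/-!
# Fibre ranks via Mumford's complex; exchange from locally constant fibre rank over a reduced base (helper4)
-/

set_option backward.isDefEq.respectTransparency.types false
set_option synthInstance.maxHeartbeats 400000
set_option autoImplicit false
set_option linter.unusedSectionVars false
set_option linter.style.haveILetI false
set_option linter.unusedSimpArgs false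
universe u v w
open CategoryTheory
open CategoryTheory.Limits
open AlgebraicGeometry
open TopologicalSpace
open Opposite
open TensorProduct
open MonoidalCategory
open Groth.Agent.Helper1.FlatCxL
open Groth.Agent.Lib.Helper4.RedRank1
open Groth.Agent.Lib.Helper4.SemiRank1
open Groth.Agent.Lib.Helper4.FibLin1
open Groth.Agent.Lib.Helper4.FibSurj1
open Groth.Agent.Lib.Helper4.TenSec2
open Groth.Agent.Lib.Helper4.AlgFib1
open Groth.Agent.Lib.Helper4.ExchAlg1
open Groth.Agent.Lib.Helper4.ExchAlg2
open Groth.Agent.Lib.Helper4.CechTen1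
open Groth.Agent.Lib.Helper4.CechTen2
open Groth.Agent.Lib.Helper4.CechTen3
open Groth.Agent.Lib.Helper4.BCSec2
open Groth.Agent.Lib.Helper4.MumBC1
open Groth.Agent.Lib.Helper4.MumBC2
open Groth.Agent.Lib.Helper4.TruncAlg1

namespace Groth.Agent.Lib.Helper4.FibRank1

section Frac
variable (A : Type u) [CommRing A] (y : ↑(Spec (CommRingCat.of A)))

theorem phiY_eq (a : A) : phiY A y a =
    (Scheme.Spec.residueFieldIso (CommRingCat.of A) y).inv.hom
      (algebraMap A y.asIdeal.ResidueField a) := by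
  have h1 := Scheme.Spec.map_residueFieldIso_inv_eq_fromSpecResidueField (CommRingCat.of A) y
  rw [← map_phiY, ← Spec.map_comp] at h1
  have h2 := Spec.map_injective h1
  exact (ConcreteCategory.congr_hom h2 a).symm

theorem hfrac_phiY (b : (Spec (CommRingCat.of A)).residueField y) :
    ∃ a s : A, phiY A y s ≠ 0 ∧ b * phiY A y s = phiY A y a := by
  let i := (Scheme.Spec.residueFieldIso (CommRingCat.of A) y)
  let b' : y.asIdeal.ResidueField := i.hom.hom b
  obtain ⟨⟨n, ⟨d, hd⟩⟩, hx⟩ := IsLocalization.surj (nonZeroDivisors (A ⧸ y.asIdeal)) b'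
  obtain ⟨a, rfl⟩ := Ideal.Quotient.mk_surjective n
  obtain ⟨s, rfl⟩ := Ideal.Quotient.mk_surjective d
  refine ⟨a, s, ?_, ?_⟩
  · rw [phiY_eq]
    intro h0
    have h1 : algebraMap A y.asIdeal.ResidueField s = 0 := by
      have := congrArg i.hom.hom h0
      rw [map_zero] at this
      rw [← this]
      change _ = (i.inv ≫ i.hom).hom _
      rw [Iso.inv_hom_id]; rfl
    have h2 : algebraMap (A ⧸ y.asIdeal) y.asIdeal.ResidueField (Ideal.Quotient.mk _ s) = 0 := h1
    have h3 := (IsFractionRing.injective (A ⧸ y.asIdeal) y.asIdeal.ResidueField)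
      (h2.trans (map_zero _).symm)
    exact nonZeroDivisors.ne_zero hd h3
  · rw [phiY_eq, phiY_eq]
    have hx' : b' * algebraMap A y.asIdeal.ResidueField s =
        algebraMap A y.asIdeal.ResidueField a := hx
    have := congrArg i.inv.hom hx'
    rw [map_mul] at this
    rw [← this]
    congr 1
    change b = (i.hom ≫ i.inv).hom b
    rw [Iso.hom_inv_id]; rfl

end Frac

section Geo
variable {A : Type u} [CommRing A] [IsNoetherianRing A] {X : Scheme.{u}}
  [X.Over (Spec (CommRingCat.of A))] [IsProper (X ↘ Spec (CommRingCat.of A))]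
  {F : X.Modules} (D : MData A X F)

attribute [local instance] Groth.Agent.Lib.Helper4.TenSec2.secMod

theorem MData.fiberRank_add [F.IsQuasicoherent] (p : ℕ) (y : ↑(Spec (CommRingCat.of A))) :
    CohIII.fiberRank (X ↘ Spec (CommRingCat.of A)) F p y +
        fibreRank (D.K.X ((p : ℤ) + 1)) y =
      fibreRank (Wq D.K ((p : ℤ) - 1) (p : ℤ)) y +
        fibreRank (Wq D.K (p : ℤ) ((p : ℤ) + 1)) y := by
  haveI := D.fin
  haveI : ∀ i, Module.Finite A (D.K.X i) := fun i => (D.hff i).1
  let L : Type u := (Spec (CommRingCat.of A)).residueField y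
  letI : Algebra A L := (phiY A y).toAlgebra
  have hker : RingHom.ker (algebraMap A L) = y.asIdeal := ker_phiY A y
  obtain ⟨H, iH1, iH2, e, he, hrank⟩ := exists_equiv_finrank D.K L ((p : ℤ) - 1) (p : ℤ)
    ((p : ℤ) + 1) (by omega) rfl
  rw [← finrank_tensor_field_eq _ L y hker, ← finrank_tensor_field_eq _ L y hker,
    ← finrank_tensor_field_eq _ L y hker, ← hrank]
  congr 1
  -- the semilinear equivalence
  let e1 := fibBC A y F D.U D.haff D.hcov p
  let e2 := ((D.eK (p : ℤ)).app (rs (phiY A y) (𝟙_ (ModuleCat.{u} L)))).symm.toLinearEquiv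
  let e3 := ((CohIII.TFun D.K (p : ℤ)).mapIso (rsUnitIso A L)).toLinearEquiv
  let E : CohIII.fiberH (X ↘ Spec (CommRingCat.of A)) F y p ≃+ H :=
    ((e1.trans e2.toAddEquiv).trans e3.toAddEquiv).trans e
  have hE : ∀ (a : A) (x : CohIII.fiberH (X ↘ Spec (CommRingCat.of A)) F y p),
      E (algebraMap A L a • x) = algebraMap A L a • E x := by
    intro a x
    change e (e3 (e2 (e1 (phiY A y a • x)))) = _
    rw [fibBC_smul A y F D.U D.haff D.hcov p a x, map_smul, map_smul, he]
    rfl
  have hr := rank_eq_of_equiv_equiv (R := L) (R' := L) id E Function.bijective_id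
    (map_smul_of_fraction (A := A) (L := L) (hfrac_phiY A y) E.toAddMonoidHom hE)
  exact congrArg Cardinal.toNat hr

end Geo

section Main

theorem fibreRank_free {A : Type u} [CommRing A] (Q : Type u) [AddCommGroup Q] [Module A Q]
    [Module.Free A Q] (x : PrimeSpectrum A) : fibreRank Q x = Module.finrank A Q := by
  haveI : Nontrivial A := x.nontrivial
  exact Module.finrank_baseChange

theorem s15522 (A : Type u) [CommRing A]
    [IsNoetherianRing A] [IsReduced A] (X : Scheme.{u}) [X.Over (Spec (CommRingCat.of A))]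
    [IsProper (X ↘ Spec (CommRingCat.of A))] (F : X.Modules) (hF : Coh.IsCoh F)
    (hfl : FlatMod.IsFlatOver (X ↘ Spec (CommRingCat.of A)) F) (p : ℕ)
    (hconst : IsLocallyConstant (CohIII.fiberRank (X ↘ Spec (CommRingCat.of A)) F p)) :
    (CohIII.tensorAFunctor A F ⋙ CohIII.HAb X p).PreservesEpimorphisms ∧
      ∀ q : ℕ, q + 1 = p → (CohIII.tensorAFunctor A F ⋙ CohIII.HAb X q).PreservesEpimorphisms := by
  haveI : F.IsQuasicoherent := hF.1
  obtain ⟨D⟩ := nonempty_mdata A X F hF hfl
  haveI : ∀ i, Module.Finite A (D.K.X i) := fun i => (D.hff i).1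
  haveI : ∀ i, Module.Free A (D.K.X i) := fun i => (D.hff i).2
  have hρ : IsLocallyConstant (fibreRank (A := A) (D.K.X ((p : ℤ) + 1))) := by
    have : fibreRank (A := A) (D.K.X ((p : ℤ) + 1)) =
        fun _ => Module.finrank A (D.K.X ((p : ℤ) + 1)) := funext fun x => fibreRank_free _ x
    rw [this]
    exact IsLocallyConstant.const _
  obtain ⟨hl1, hl2⟩ := isLocallyConstant_of_add
    (fibreRank (A := A) (Wq D.K ((p : ℤ) - 1) (p : ℤ)))
    (fibreRank (A := A) (Wq D.K (p : ℤ) ((p : ℤ) + 1)))
    (CohIII.fiberRank (X ↘ Spec (CommRingCat.of A)) F p)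
    (fibreRank (A := A) (D.K.X ((p : ℤ) + 1)))
    (fun x₀ => eventually_fibreRank_le _ x₀) (fun x₀ => eventually_fibreRank_le _ x₀)
    hconst hρ (fun y => MData.fiberRank_add D p y)
  haveI f1 : Module.Flat A (Wq D.K ((p : ℤ) - 1) (p : ℤ)) := flat_of_isLocallyConstant_fibreRank _ hl1
  haveI f2 : Module.Flat A (Wq D.K (p : ℤ) ((p : ℤ) + 1)) := flat_of_isLocallyConstant_fibreRank _ hl2
  constructor
  · rw [preservesEpi_iff D.K (p : ℤ) (MData.eH D p)]
    exact (presSurj_iff_flat D.K ((p : ℤ) - 1) (p : ℤ) ((p : ℤ) + 1) (by omega) rfl).2 f2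
  · intro q hq
    rw [preservesEpi_iff D.K (q : ℤ) (MData.eH D q)]
    have hq' : (q : ℤ) = (p : ℤ) - 1 := by omega
    rw [hq']
    exact (presSurj_iff_flat D.K ((p : ℤ) - 1 - 1) ((p : ℤ) - 1) (p : ℤ) (by omega) (by omega)).2 f1

end Main

end Groth.Agent.Lib.Helper4.FibRank1
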