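import Mathlib
import Groth.Prelude.Def_ega3
import Groth.Agent.Lib.Helper4.TruncAlg1
import Groth.Agent.Lib.Helper4.HomEl1
import Groth.Agent.Lib.Helper4.RedRank1
import Groth.Agent.Lib.Helper1.FlatCxL

/-!
# Grauert's algebra: homology of a complex of finite projectives with flat cokernels is finite projective; fibre rank formula (helper4)
-/

set_option backward.isDefEq.respectTransparency.types false
set_option synthInstance.maxHeartbeats 400000
set_option autoImplicit false
set_option linter.unusedSectionVars false
set_option linter.style.haveILetI false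
set_option linter.unusedSimpArgs false
universe u v w
open CategoryTheory
open CategoryTheory.Limits
open TensorProduct
open Groth.Agent.Helper1.FlatCxL
open Groth.Agent.Lib.Helper4.ExchAlg1
open Groth.Agent.Lib.Helper4.ExchAlg2
open Groth.Agent.Lib.Helper4.TruncAlg1
open Groth.Agent.Lib.Helper4.HomEl1
open Groth.Agent.Lib.Helper4.RedRank1

namespace Groth.Agent.Lib.Helper4.GrauertAlg1

section Rank
variable {A : Type u} [CommRing A]

/-- fibre ranks are invariant under linear equivalences -/
theorem fibreRank_congr {Q Q' : Type u} [AddCommGroup Q] [Module A Q] [AddCommGroup Q']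
    [Module A Q'] (e : Q ≃ₗ[A] Q') (y : PrimeSpectrum A) : fibreRank Q y = fibreRank Q' y :=
  LinearEquiv.finrank_eq (TensorProduct.AlgebraTensorModule.congr
    (LinearEquiv.refl y.asIdeal.ResidueField y.asIdeal.ResidueField) e)

/-- fibre ranks are additive on products -/
theorem fibreRank_prod (Q Q' : Type u) [AddCommGroup Q] [Module A Q] [AddCommGroup Q']
    [Module A Q'] [Module.Finite A Q] [Module.Finite A Q'] (y : PrimeSpectrum A) :
    fibreRank (Q × Q') y = fibreRank Q y + fibreRank Q' y := by
  unfold fibreRank
  rw [← Module.finrank_prod]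
  exact LinearEquiv.finrank_eq (TensorProduct.prodRight A y.asIdeal.ResidueField
    y.asIdeal.ResidueField Q Q')

/-- fibre ranks are additive in split short exact sequences -/
theorem fibreRank_add_of_split {M N P : Type u} [AddCommGroup M] [Module A M] [AddCommGroup N]
    [Module A N] [AddCommGroup P] [Module A P] [Module.Finite A M] [Module.Finite A P]
    (i : M →ₗ[A] N) (π : N →ₗ[A] P) (hi : Function.Injective i) (hex : Function.Exact i π)
    (s : P →ₗ[A] N) (hs : π ∘ₗ s = LinearMap.id) (y : PrimeSpectrum A) :
    fibreRank N y = fibreRank M y + fibreRank P y := by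
  have e := (hex.splitSurjectiveEquiv hi ⟨s, hs⟩).1
  rw [fibreRank_congr e y, fibreRank_prod M P y]

end Rank

section Hom
variable {A : Type u} [CommRing A] (K : CochainComplex (ModuleCat.{u} A) ℤ) (p q r : ℤ)
  (hpq : p + 1 = q) (hqr : q + 1 = r)

/-- cycles map to the kernel of `dbar` -/
noncomputable def toKer : Zs K q r →ₗ[A] LinearMap.ker (dbar K p q r) :=
  LinearMap.codRestrict _ (mkW K p q ∘ₗ (Zs K q r).subtype) (fun z => by
    change dbar K p q r (mkW K p q z.1) = 0
    have h := LinearMap.congr_fun (dbar_comp_mk K p q r) z.1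
    exact h.trans z.2)

theorem toKer_surjective : Function.Surjective (toKer K p q r) := by
  rintro ⟨w, hw⟩
  obtain ⟨x, rfl⟩ := Submodule.mkQ_surjective _ w
  have hx : (K.d q r).hom x = 0 := by
    have h := LinearMap.congr_fun (dbar_comp_mk K p q r) x
    exact h.symm.trans hw
  exact ⟨⟨x, hx⟩, rfl⟩

include hpq in
theorem ker_toKer_eq : LinearMap.ker (toKer K p q r) = LinearMap.ker (cls K q r hqr) := by
  ext z
  rw [LinearMap.mem_ker, LinearMap.mem_ker, cls_eq_zero_iff K p q r hpq hqr]
  constructor
  · intro h
    have h1 : mkW K p q z.1 = 0 := congrArg Subtype.val h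
    have h2 : z.1 ∈ Bq K p q := (Submodule.Quotient.mk_eq_zero _).1 h1
    exact h2
  · rintro ⟨w, hw⟩
    apply Subtype.ext
    change mkW K p q z.1 = 0
    exact (Submodule.Quotient.mk_eq_zero _).2 ⟨w, hw⟩

/-- homology is the kernel of `dbar` -/
noncomputable def homEquivKer : K.homology q ≃ₗ[A] LinearMap.ker (dbar K p q r) :=
  ((cls K q r hqr).quotKerEquivOfSurjective (cls_surjective K q r hqr)).symm ≪≫ₗ
    Submodule.quotEquivOfEq _ _ (ker_toKer_eq K p q r hpq hqr).symm ≪≫ₗ
    (toKer K p q r).quotKerEquivOfSurjective (toKer_surjective K p q r)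

include hpq hqr in
/-- **Grauert's algebra**: if the cokernels `W^q` and `W^r` are flat, the homology in degree `q`
is finite projective and its fibre ranks are given by the rank formula -/
theorem projective_homology [IsNoetherianRing A]
    [Module.Finite A (K.X q)] [Module.Finite A (K.X r)] [Module.Projective A (K.X r)]
    [Module.Flat A (Wq K p q)] [Module.Flat A (Wq K q r)] :
    Module.Finite A (K.homology q) ∧ Module.Projective A (K.homology q) ∧
      ∀ y : PrimeSpectrum A, fibreRank (K.homology q) y + fibreRank (K.X r) y =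
        fibreRank (Wq K p q) y + fibreRank (Wq K q r) y := by
  haveI : Module.FinitePresentation A (Wq K p q) := Module.finitePresentation_of_finite A _
  haveI : Module.FinitePresentation A (Wq K q r) := Module.finitePresentation_of_finite A _
  haveI hW1 : Module.Projective A (Wq K p q) := Module.Flat.projective_of_finitePresentation
  haveI hW2 : Module.Projective A (Wq K q r) := Module.Flat.projective_of_finitePresentation
  -- the sequence 0 → B → K^r → W^r → 0 splits
  obtain ⟨s2, hs2⟩ := Module.projective_lifting_property (mkW K q r) LinearMap.id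
    (Submodule.mkQ_surjective _)
  have hex2 : Function.Exact (Bq K q r).subtype (mkW K q r) :=
    (LinearMap.exact_subtype_mkQ (Bq K q r))
  have hr2 : ∀ y, fibreRank (K.X r) y = fibreRank (Bq K q r) y + fibreRank (Wq K q r) y :=
    fun y => fibreRank_add_of_split (Bq K q r).subtype (mkW K q r) (Submodule.subtype_injective _)
      hex2 s2 hs2 y
  let e2 := (hex2.splitSurjectiveEquiv (Submodule.subtype_injective _) ⟨s2, hs2⟩).1
  haveI hB : Module.Projective A (Bq K q r) :=
    Module.Projective.of_split (e2.symm.toLinearMap ∘ₗ LinearMap.inl A _ _)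
      (LinearMap.fst A (Bq K q r) (Wq K q r) ∘ₗ e2.toLinearMap) (by
        ext x
        simp)
  -- the sequence 0 → ker dbar → W^q → B → 0 splits
  let σ : Wq K p q →ₗ[A] Bq K q r := LinearMap.codRestrict (Bq K q r) (dbar K p q r) (fun w => by
    rw [← range_dbar K p q r]
    exact ⟨w, rfl⟩)
  have hσ : Function.Surjective σ := by
    rintro ⟨b, hb⟩
    rw [← range_dbar K p q r] at hb
    obtain ⟨w, rfl⟩ := hb
    exact ⟨w, rfl⟩
  obtain ⟨s1, hs1⟩ := Module.projective_lifting_property σ LinearMap.id hσ
  have hex1 : Function.Exact (LinearMap.ker (dbar K p q r)).subtype σ := by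
    intro w
    constructor
    · intro h
      have h1 : dbar K p q r w = 0 := congrArg Subtype.val h
      exact ⟨⟨w, h1⟩, rfl⟩
    · rintro ⟨⟨w', hw'⟩, rfl⟩
      exact Subtype.ext hw'
  haveI : Module.Finite A (LinearMap.ker (dbar K p q r)) := inferInstance
  have hr1 : ∀ y, fibreRank (Wq K p q) y =
      fibreRank (LinearMap.ker (dbar K p q r)) y + fibreRank (Bq K q r) y :=
    fun y => fibreRank_add_of_split (LinearMap.ker (dbar K p q r)).subtype σ
      (Submodule.subtype_injective _) hex1 s1 hs1 y
  let e1 := (hex1.splitSurjectiveEquiv (Submodule.subtype_injective _) ⟨s1, hs1⟩).1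
  haveI hZ : Module.Projective A (LinearMap.ker (dbar K p q r)) :=
    Module.Projective.of_split (e1.symm.toLinearMap ∘ₗ LinearMap.inl A _ _)
      (LinearMap.fst A (LinearMap.ker (dbar K p q r)) (Bq K q r) ∘ₗ e1.toLinearMap) (by
        ext x
        simp)
  let E := homEquivKer K p q r hpq hqr
  refine ⟨Module.Finite.equiv E.symm, Module.Projective.of_equiv E.symm, fun y => ?_⟩
  rw [fibreRank_congr E y, hr1 y, hr2 y]
  omega

end Hom

end Groth.Agent.Lib.Helper4.GrauertAlg1
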