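import Mathlib
import Groth.Prelude.Def_PerfAux
import Groth.Prelude.Def_CohB1
import Groth.Prelude.Def_Coh
import Groth.Agent.Lib.Helper4.FibRank1
import Groth.Agent.Lib.Helper4.GrauertAlg1
import Groth.Agent.Lib.Helper1.HProj2

/-!
# Fibre Betti numbers over a discrete valuation ring: equality at the two points iff H^p and H^{p+1} are free (helper4)
-/

set_option backward.isDefEq.respectTransparency.types false
set_option synthInstance.maxHeartbeats 400000
set_option autoImplicit false
set_option linter.unusedSectionVars false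
set_option linter.style.haveILetI false
set_option linter.unusedSimpArgs false
universe u v w
open CategoryTheory
open CategoryTheory.Limits
open AlgebraicGeometry
open TopologicalSpace
open Opposite
open TensorProduct
open MonoidalCategory
open Groth.Agent.Helper1.FlatCxL
open Groth.Agent.Lib.Helper4.RedRank1
open Groth.Agent.Lib.Helper4.FibRank1
open Groth.Agent.Lib.Helper4.ExchAlg1
open Groth.Agent.Lib.Helper4.ExchAlg2
open Groth.Agent.Lib.Helper4.TruncAlg1
open Groth.Agent.Lib.Helper4.GrauertAlg1
open Groth.Agent.Lib.Helper4.CechTen1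
open Groth.Agent.Lib.Helper4.CechTen2
open Groth.Agent.Lib.Helper4.CechTen3
open Groth.Agent.Lib.Helper4.MumBC2

namespace Groth.Agent.Lib.Helper4.DvrBetti1

section Alg
variable {R : Type u} [CommRing R] [IsDomain R] [IsPrincipalIdealRing R]
  (K : CochainComplex (ModuleCat.{u} R) ℤ) (p q r : ℤ) (hpq : p + 1 = q) (hqr : q + 1 = r)

include hpq hqr in
/-- over a principal ideal domain, the cokernel `W^q` is free exactly when `H^q` is -/
theorem free_Wq_iff [Module.Finite R (K.X q)] [Module.Free R (K.X r)] :
    Module.Free R (Wq K p q) ↔ Module.Free R (K.homology q) := by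
  haveI : IsNoetherianRing R := inferInstance
  haveI : IsNoetherian R (Wq K p q) := isNoetherian_of_isNoetherianRing_of_finite R _
  constructor
  · intro h
    haveI : Module.Free R (LinearMap.ker (dbar K p q r)) :=
      Module.free_of_finite_type_torsion_free'
    exact Module.Free.of_equiv (homEquivKer K p q r hpq hqr).symm
  · intro h
    haveI : Module.Free R (LinearMap.ker (dbar K p q r)) :=
      Module.Free.of_equiv (homEquivKer K p q r hpq hqr)
    haveI : Module.IsTorsionFree R (Wq K p q) := by
      rw [Module.isTorsionFree_iff_smul_eq_zero]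
      intro a w haw
      by_cases ha : a = 0
      · exact Or.inl ha
      · right
        have h1 : a • dbar K p q r w = 0 := by rw [← map_smul, haw, map_zero]
        have h2 : dbar K p q r w = 0 :=
          ((Module.isTorsionFree_iff_smul_eq_zero (R := R) (M := K.X r)).1 inferInstance a _ h1).resolve_left ha
        have h3 : a • (⟨w, h2⟩ : LinearMap.ker (dbar K p q r)) = 0 := Subtype.ext haw
        have h4 := ((Module.isTorsionFree_iff_smul_eq_zero (R := R)
          (M := LinearMap.ker (dbar K p q r))).1 inferInstance a _ h3).resolve_left ha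
        exact congrArg Subtype.val h4
    exact Module.free_of_finite_type_torsion_free'

end Alg

section DVR
variable {R : Type u} [CommRing R] [IsDomain R] [IsDiscreteValuationRing R]

/-- the generic point of the spectrum of a domain -/
noncomputable abbrev etaR : PrimeSpectrum R := ⟨⊥, Ideal.isPrime_bot⟩

theorem eq_closedPoint_of_ne (s : PrimeSpectrum R) (hs : s ≠ etaR) :
    s = IsLocalRing.closedPoint R := by
  apply PrimeSpectrum.ext
  have h1 : s.asIdeal ≠ ⊥ := fun h => hs (PrimeSpectrum.ext h)
  have h2 : s.asIdeal.IsMaximal := Ring.DimensionLEOne.maximalOfPrime h1 s.2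
  exact IsLocalRing.eq_maximalIdeal h2

theorem fibreRank_eta_le (Q : Type u) [AddCommGroup Q] [Module R Q] [Module.Finite R Q]
    (s : PrimeSpectrum R) : fibreRank Q (etaR (R := R)) ≤ fibreRank Q s := by
  have h := eventually_fibreRank_le Q s
  have hsp : (etaR (R := R)) ⤳ s := by
    rw [← PrimeSpectrum.le_iff_specializes]
    exact bot_le
  have hopen := h
  rw [eventually_nhds_iff] at hopen
  obtain ⟨t, ht, hto, hst⟩ := hopen
  exact ht _ (hsp.mem_open hto hst)

/-- a finite module over a discrete valuation ring is free iff its two fibre ranks agree -/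
theorem free_iff_fibreRank_eq (Q : Type u) [AddCommGroup Q] [Module R Q] [Module.Finite R Q] :
    Module.Free R Q ↔ fibreRank Q (IsLocalRing.closedPoint R) = fibreRank Q (etaR (R := R)) := by
  constructor
  · intro h
    rw [fibreRank_free, fibreRank_free]
  · intro h
    apply free_of_fibreRank_minimal
    intro q hq
    rw [IsDomain.minimalPrimes_eq_singleton_bot, Set.mem_singleton_iff] at hq
    have : q = etaR := PrimeSpectrum.ext hq
    rw [this, h]

end DVR


section Geo
variable {A : Type u} [CommRing A] [IsNoetherianRing A] {X : Scheme.{u}}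
  [X.Over (Spec (CommRingCat.of A))] [IsProper (X ↘ Spec (CommRingCat.of A))]
  {F : X.Modules}

/-- the homology of Mumford's complex is the cohomology of `F` -/
theorem MData.nonempty_homology_equiv [F.IsQuasicoherent] (D : MData A X F) (q : ℕ) (i : ℤ)
    (hi : (q : ℤ) = i) :
    Nonempty (D.K.homology i ≃ₗ[A] Coh.HH X F q) := by
  subst hi
  haveI := D.fin
  haveI : QuasiIso D.α := D.hq
  exact ⟨(isoOfQuasiIsoAt D.α (q : ℤ)).toLinearEquiv ≪≫ₗ
    ((CAN A F D.U).extendHomologyIso ComplexShape.embeddingUpNat (j := q) (j' := (q : ℤ))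
      rfl).toLinearEquiv ≪≫ₗ linHH A F D.U D.haff D.hcov q⟩

end Geo

theorem s11560 (R : Type u) [CommRing R] [IsDomain R]
    [IsDiscreteValuationRing R] (X : Scheme.{u}) [X.Over (Spec (CommRingCat.of R))] (n : ℕ)
    (ι : X ⟶ CohB1.ProjSpaceOver n (Spec (CommRingCat.of R))) [IsClosedImmersion ι]
    (hι : ι ≫ CohB1.ProjSpaceOver.toBase n (Spec (CommRingCat.of R)) = X ↘ Spec (CommRingCat.of R))
    (F : X.Modules) (hF : Coh.IsCoh F) (hfl : FlatMod.IsFlatOver (X ↘ Spec (CommRingCat.of R)) F)
    (p : ℕ) (s : ↥(Spec (CommRingCat.of R))) (hs : s ≠ genericPoint ↥(Spec (CommRingCat.of R))) :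
    PerfAux.betti (X ↘ Spec (CommRingCat.of R)) F s p =
        PerfAux.betti (X ↘ Spec (CommRingCat.of R)) F (genericPoint ↥(Spec (CommRingCat.of R))) p ↔
      Module.Free R (Coh.HH X F p) ∧ Module.Free R (Coh.HH X F (p + 1)) := by
  haveI : IsProper (X ↘ Spec (CommRingCat.of R)) := by
    rw [← hι]
    infer_instance
  haveI : F.IsQuasicoherent := hF.1
  obtain ⟨D⟩ := nonempty_mdata R X F hF hfl
  haveI : ∀ i, Module.Finite R (D.K.X i) := fun i => (D.hff i).1
  haveI : ∀ i, Module.Free R (D.K.X i) := fun i => (D.hff i).2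
  have hη : genericPoint ↥(Spec (CommRingCat.of R)) = etaR (R := R) :=
    genericPoint_eq_bot_of_affine (CommRingCat.of R)
  rw [hη] at hs ⊢
  have hs' : s = IsLocalRing.closedPoint R := eq_closedPoint_of_ne s hs
  subst hs'
  have E1 := MData.fiberRank_add D p (IsLocalRing.closedPoint R)
  have E2 := MData.fiberRank_add D p (etaR (R := R))
  have hc : fibreRank (D.K.X ((p : ℤ) + 1)) (IsLocalRing.closedPoint R) =
      fibreRank (D.K.X ((p : ℤ) + 1)) (etaR (R := R)) := by
    rw [fibreRank_free, fibreRank_free]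
  have ha := fibreRank_eta_le (Wq D.K ((p : ℤ) - 1) (p : ℤ)) (IsLocalRing.closedPoint R)
  have hb := fibreRank_eta_le (Wq D.K (p : ℤ) ((p : ℤ) + 1)) (IsLocalRing.closedPoint R)
  have hbetti : ∀ y, PerfAux.betti (X ↘ Spec (CommRingCat.of R)) F y p =
      CohIII.fiberRank (X ↘ Spec (CommRingCat.of R)) F p y := fun y => rfl
  rw [hbetti, hbetti]
  obtain ⟨e1⟩ := MData.nonempty_homology_equiv D p (p : ℤ) rfl
  obtain ⟨e2⟩ := MData.nonempty_homology_equiv D (p + 1) ((p : ℤ) + 1) (by push_cast; ring)
  have f1 := free_Wq_iff D.K ((p : ℤ) - 1) (p : ℤ) ((p : ℤ) + 1) (by omega) rfl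
  have f2 := free_Wq_iff D.K (p : ℤ) ((p : ℤ) + 1) ((p : ℤ) + 1 + 1) rfl rfl
  have g1 := free_iff_fibreRank_eq (R := R) (Wq D.K ((p : ℤ) - 1) (p : ℤ))
  have g2 := free_iff_fibreRank_eq (R := R) (Wq D.K (p : ℤ) ((p : ℤ) + 1))
  have k1 : Module.Free R (D.K.homology (p : ℤ)) ↔ Module.Free R (Coh.HH X F p) :=
    ⟨fun h => Module.Free.of_equiv e1, fun h => Module.Free.of_equiv e1.symm⟩
  have k2 : Module.Free R (D.K.homology ((p : ℤ) + 1)) ↔ Module.Free R (Coh.HH X F (p + 1)) :=
    ⟨fun h => Module.Free.of_equiv e2, fun h => Module.Free.of_equiv e2.symm⟩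
  rw [← k1, ← k2, ← f1, ← f2, g1, g2]
  constructor
  · intro h
    constructor <;> omega
  · rintro ⟨h1, h2⟩
    omega

end Groth.Agent.Lib.Helper4.DvrBetti1
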