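import Mathlib
import Groth.Prelude.Def_ega3
import Groth.Agent.Lib.Helper4.GrauertAlg1
import Groth.Agent.Lib.Helper5.TorAmp.FlatLin

/-!
# Complexes of flat modules with flat homology: homology commutes with arbitrary tensoring (helper4)
-/

set_option backward.isDefEq.respectTransparency.types false
set_option synthInstance.maxHeartbeats 400000
set_option autoImplicit false
set_option linter.unusedSectionVars false
set_option linter.style.haveILetI false
set_option linter.unusedSimpArgs false
universe u v w
open CategoryTheory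
open CategoryTheory.Limits
open TensorProduct
open Groth.Agent.Helper1.TorL
open Groth.Agent.Lib.Helper4.ExchAlg1
open Groth.Agent.Lib.Helper4.ExchAlg2
open Groth.Agent.Lib.Helper4.TruncAlg1
open Groth.Agent.Lib.Helper4.HomEl1
open Groth.Agent.Lib.Helper4.GrauertAlg1

namespace Groth.Agent.Lib.Helper4.FlatHom1

section Ext
variable {R : Type u} [CommRing R]

/-- an extension of flat modules is flat (categorical form) -/
theorem flat_X₂ (S : ShortComplex (ModuleCat.{u} R)) (hS : S.ShortExact)
    [Module.Flat R S.X₁] [Module.Flat R S.X₃] : Module.Flat R S.X₂ := by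
  rw [flat_iff_tor_one_quotient]
  intro I _
  exact isZero_tor_X₂ S hS _ 1 (isZero_tor_succ_of_flat _ _ 0) (isZero_tor_succ_of_flat _ _ 0)

/-- linear form: flat kernel and flat range give a flat source -/
theorem flat_of_ker_range {M N : Type u} [AddCommGroup M] [Module R M] [AddCommGroup N]
    [Module R N] (g : M →ₗ[R] N) [Module.Flat R (LinearMap.ker g)]
    [Module.Flat R (LinearMap.range g)] : Module.Flat R M := by
  have hs : Function.Surjective g.rangeRestrict := g.surjective_rangeRestrict
  have hS := LinearMap.shortExact_shortComplexKer hs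
  have hk : LinearMap.ker g.rangeRestrict = LinearMap.ker g := LinearMap.ker_rangeRestrict g
  haveI : Module.Flat R g.rangeRestrict.shortComplexKer.X₁ := by
    change Module.Flat R (LinearMap.ker g.rangeRestrict)
    rw [hk]
    infer_instance
  haveI : Module.Flat R g.rangeRestrict.shortComplexKer.X₃ :=
    ‹Module.Flat R (LinearMap.range g)›
  exact flat_X₂ _ hS

end Ext

section Gen
variable {A : Type u} [CommRing A]

/-- homology from a surjection on cycles with the right kernel -/
noncomputable def homEquivOfKerEq (L : CochainComplex (ModuleCat.{u} A) ℤ) (q r : ℤ)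
    (hqr : q + 1 = r) {W : Type u} [AddCommGroup W] [Module A W] (N : Submodule A W)
    (t : Zs L q r →ₗ[A] N)
    (ht : Function.Surjective t) (hk : LinearMap.ker t = LinearMap.ker (cls L q r hqr)) :
    L.homology q ≃ₗ[A] N :=
  ((cls L q r hqr).quotKerEquivOfSurjective (cls_surjective L q r hqr)).symm ≪≫ₗ
    Submodule.quotEquivOfEq _ _ hk.symm ≪≫ₗ t.quotKerEquivOfSurjective ht

end Gen

variable {A : Type u} [CommRing A] (K : CochainComplex (ModuleCat.{u} A) ℤ)

section Coeff
variable (p q r : ℤ) (hpq : p + 1 = q) (hqr : q + 1 = r) (M : ModuleCat.{u} A)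

/-- cycles of `K ⊗ M` map to the kernel of `dbar ⊗ M` -/
noncomputable def toKerM : Zs (KM K M) q r →ₗ[A] KerM K p q r M :=
  LinearMap.codRestrict _ ((mkW K p q).rTensor M ∘ₗ (Zs (KM K M) q r).subtype) (fun z => by
    change (dbar K p q r).rTensor M ((mkW K p q).rTensor M z.1) = 0
    rw [← LinearMap.comp_apply, ← LinearMap.rTensor_comp, dbar_comp_mk]
    exact z.2)

theorem toKerM_surjective : Function.Surjective (toKerM K p q r M) := by
  rintro ⟨w, hw⟩
  obtain ⟨x, rfl⟩ := LinearMap.rTensor_surjective M (Submodule.mkQ_surjective (Bq K p q)) w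
  have hx : (K.d q r).hom.rTensor M x = 0 := by
    rw [← dbar_comp_mk K p q r, LinearMap.rTensor_comp, LinearMap.comp_apply]
    exact hw
  exact ⟨⟨x, hx⟩, rfl⟩

include hpq in
theorem ker_toKerM_eq :
    LinearMap.ker (toKerM K p q r M) = LinearMap.ker (cls (KM K M) q r hqr) := by
  ext z
  rw [LinearMap.mem_ker, LinearMap.mem_ker, cls_eq_zero_iff (KM K M) p q r hpq hqr]
  constructor
  · intro h
    have h1 : (mkW K p q).rTensor M z.1 = 0 := congrArg Subtype.val h
    have hex : Function.Exact (Bq K p q).subtype (mkW K p q) :=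
      LinearMap.exact_subtype_mkQ (Bq K p q)
    obtain ⟨b, hb⟩ := (rTensor_exact M hex (Submodule.mkQ_surjective _) z.1).1 h1
    obtain ⟨y, rfl⟩ := LinearMap.rTensor_surjective M (sig_surjective K p q) b
    refine ⟨y, ?_⟩
    change (K.d p q).hom.rTensor M y = z.1
    rw [← hb, ← subtype_comp_sig, LinearMap.rTensor_comp, LinearMap.comp_apply]
  · rintro ⟨w, hw⟩
    apply Subtype.ext
    change (mkW K p q).rTensor M z.1 = 0
    have hw' : (K.d p q).hom.rTensor M w = z.1 := hw
    rw [← hw', ← LinearMap.comp_apply, ← LinearMap.rTensor_comp]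
    have : mkW K p q ∘ₗ (K.d p q).hom = 0 := by
      apply LinearMap.ext
      intro y
      exact (Submodule.Quotient.mk_eq_zero _).2 ⟨y, rfl⟩
    rw [this, LinearMap.rTensor_zero, LinearMap.zero_apply]

/-- homology of `K ⊗ M` is the kernel of `dbar ⊗ M` -/
noncomputable def homEquivKerM : (KM K M).homology q ≃ₗ[A] KerM K p q r M :=
  homEquivOfKerEq (KM K M) q r hqr (KerM K p q r M) (toKerM K p q r M) (toKerM_surjective K p q r M)
    (ker_toKerM_eq K p q r hpq hqr M)

/-- `ker(dbar) ⊗ M → W ⊗ M` -/
noncomputable abbrev kerIncl : (LinearMap.ker (dbar K p q r)) ⊗[A] M →ₗ[A] (Wq K p q) ⊗[A] M :=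
  (LinearMap.ker (dbar K p q r)).subtype.rTensor M

variable [Module.Flat A (Wq K p q)] [Module.Flat A (Bq K q r)] [Module.Flat A (K.X r)]
  [Module.Flat A (Wq K q r)]

theorem kerIncl_injective : Function.Injective (kerIncl K p q r M) :=
  (Groth.Agent.Helper5.FlatAcyc.ker_flat_of_range (dbar K p q r) (Bq K q r)
    (range_dbar K p q r)).2 M

theorem range_kerIncl : LinearMap.range (kerIncl K p q r M) = KerM K p q r M := by
  have hex : Function.Exact (LinearMap.ker (dbar K p q r)).subtype (dbar K p q r) :=
    LinearMap.exact_subtype_ker_map _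
  have h := Groth.Agent.Helper5.FlatAcyc.rTensor_exact_of_range _ _ hex (Bq K q r)
    (range_dbar K p q r) M (injective_of_flat_coker K q r M)
  exact (LinearMap.exact_iff.1 h).symm

/-- `ker(dbar) ⊗ M ≃ ker(dbar ⊗ M)` -/
noncomputable def kerTensorEquiv :
    (LinearMap.ker (dbar K p q r)) ⊗[A] M ≃ₗ[A] KerM K p q r M :=
  LinearEquiv.ofInjective (kerIncl K p q r M) (kerIncl_injective K p q r M) ≪≫ₗ
    LinearEquiv.ofEq _ _ (range_kerIncl K p q r M)

/-- **homology commutes with tensoring** when the relevant boundaries and cokernels are flat -/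
noncomputable def homTensorEquiv :
    (KM K M).homology q ≃ₗ[A] (K.homology q) ⊗[A] M :=
  homEquivKerM K p q r hpq hqr M ≪≫ₗ (kerTensorEquiv K p q r M).symm ≪≫ₗ
    TensorProduct.congr (homEquivKer K p q r hpq hqr).symm (LinearEquiv.refl A M)

end Coeff

section Propg
variable (hK : ∀ i, Module.Flat A (K.X i)) (hH : ∀ i, Module.Flat A (K.homology i))

include hK in
theorem flat_Bq_of_flat_Wq (p q : ℤ) [Module.Flat A (Wq K p q)] : Module.Flat A (Bq K p q) := by
  haveI := hK q
  haveI := Groth.Agent.Helper5.FlatAcyc.flat_ker (mkW K p q) (Submodule.mkQ_surjective _)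
  exact Module.Flat.of_linearEquiv (LinearEquiv.ofEq _ _ (Submodule.ker_mkQ (Bq K p q))).symm

include hK hH in
theorem flat_Wq_step (p q r : ℤ) (hpq : p + 1 = q) (hqr : q + 1 = r)
    [Module.Flat A (Wq K q r)] : Module.Flat A (Wq K p q) := by
  haveI := flat_Bq_of_flat_Wq K hK q r
  haveI : Module.Flat A (LinearMap.range (dbar K p q r)) := by
    rw [range_dbar]
    infer_instance
  haveI := hH q
  haveI : Module.Flat A (LinearMap.ker (dbar K p q r)) :=
    Module.Flat.of_linearEquiv (homEquivKer K p q r hpq hqr).symm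
  exact flat_of_ker_range (dbar K p q r)

include hK hH in
theorem flat_Wq_all (d : ℤ) (hU : ∀ i, d < i → UVan K i) :
    ∀ (n : ℕ) (p q : ℤ), p + 1 = q → d < p + n → Module.Flat A (Wq K p q) := by
  intro n
  induction n with
  | zero =>
    intro p q hpq hd
    have h1 : PresSurj K p := by
      intro M M'' g hg c
      haveI := ModuleCat.subsingleton_of_isZero (hU p (by simpa using hd) M'')
      exact ⟨0, Subsingleton.elim _ _⟩
    haveI := hK q
    exact (presSurj_iff_flat K (p - 1) p q (by omega) hpq).1 h1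
  | succ n ih =>
    intro p q hpq hd
    haveI := ih q (q + 1) rfl (by push_cast at hd; omega)
    exact flat_Wq_step K hK hH p q (q + 1) hpq rfl

include hK hH in
/-- all cokernels `W^q` are flat -/
theorem flat_Wq (d : ℤ) (hU : ∀ i, d < i → UVan K i) (p q : ℤ) (hpq : p + 1 = q) :
    Module.Flat A (Wq K p q) := by
  obtain ⟨n, hn⟩ : ∃ n : ℕ, d < p + n := ⟨(d - p + 1).toNat, by omega⟩
  exact flat_Wq_all K hK hH d hU n p q hpq hn

include hK hH in
/-- **flat homology commutes with arbitrary base change** -/
theorem nonempty_homTensorEquiv (d : ℤ) (hU : ∀ i, d < i → UVan K i) (q : ℤ)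
    (M : ModuleCat.{u} A) :
    Nonempty ((KM K M).homology q ≃ₗ[A] (K.homology q) ⊗[A] M) := by
  haveI := flat_Wq K hK hH d hU (q - 1) q (by omega)
  haveI := flat_Wq K hK hH d hU q (q + 1) rfl
  haveI := flat_Bq_of_flat_Wq K hK q (q + 1)
  haveI := hK (q + 1)
  exact ⟨homTensorEquiv K (q - 1) q (q + 1) (by omega) rfl M⟩

end Propg

end Groth.Agent.Lib.Helper4.FlatHom1
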