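import Mathlib
import Groth.Prelude.Def_ega3
import Groth.Prelude.Def_Canon
import Groth.Agent.Lib.Helper4.DeltaNat1
import Groth.Agent.Lib.Helper3.ExtDelta
import Groth.Agent.Lib.Helper1.RpushComp
import Groth.Agent.Lib.Helper4.IPow1

/-!
# Cohomology of O_X-modules over Spec A as a delta-functor with values in A-modules (helper4)
-/

set_option backward.isDefEq.respectTransparency.types false
set_option synthInstance.maxHeartbeats 400000
set_option autoImplicit false
set_option linter.unusedSectionVars false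
set_option linter.style.haveILetI false
set_option linter.unusedSimpArgs false
universe u v w
open CategoryTheory
open CategoryTheory.Limits
open AlgebraicGeometry
open TopologicalSpace
open Opposite
open DeltaF
open Groth.Agent.Lib.Helper4.DeltaNat1

namespace Groth.Agent.Lib.Helper4.HModDelta1

section HModF
variable (A : Type u) [CommRing A] (X : Scheme.{u}) [X.Over (Spec (CommRingCat.of A))]

/-- the constant sheaf `ℤ` -/
noncomputable abbrev ZX : Sheaf (Opens.grothendieckTopology X) AddCommGrpCat.{u} :=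
  (constantSheaf (Opens.grothendieckTopology X) AddCommGrpCat.{u}).obj
    (AddCommGrpCat.of (ULift ℤ))

theorem Hmap_congr {F G : Sheaf (Opens.grothendieckTopology X) AddCommGrpCat.{u}} {f g : F ⟶ G}
    (h : f = g) (n : ℕ) (x : Sheaf.H F n) : Sheaf.H.map f n x = Sheaf.H.map g n x := by
  subst h; rfl

/-- cohomology, as a functor to `A`-modules -/
noncomputable def HModF (n : ℕ) : X.Modules ⥤ ModuleCat.{u} A where
  obj M := ModuleCat.of A (Coh.HH X M n)
  map φ := ModuleCat.ofHom (Canon.HHlin A φ n)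
  map_id M := by
    ext x
    exact (Hmap_congr X ((SheafOfModules.toSheaf X.ringCatSheaf).map_id M) n x).trans
      (Sheaf.H.map_id_apply x)
  map_comp φ ψ := by
    ext x
    exact (Hmap_congr X ((SheafOfModules.toSheaf X.ringCatSheaf).map_comp φ ψ) n x).trans
      (Sheaf.H.map_comp_apply _ _ x)

instance (n : ℕ) : (HModF A X n).Additive where
  map_add {M N φ ψ} := by
    ext x
    exact (Hmap_congr X ((SheafOfModules.toSheaf X.ringCatSheaf).map_add (f := φ) (g := ψ)) n x).trans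
      (Sheaf.H.map_add_apply _ _ x)

/-- the underlying δ-functor of abelian groups -/
noncomputable def UAb : CohDeltaFunctor X.Modules AddCommGrpCat.{u} ℕ :=
  precomp (Groth.Agent.Helper1.QcExt.T X) (Groth.Agent.Helper3.ExtDelta.extDelta (ZX X))


theorem UAb_map {M N : X.Modules} (φ : M ⟶ N) (n : ℕ) (x : Coh.HH X M n) :
    (((UAb X).F n).map φ).hom x = Sheaf.H.map ((SheafOfModules.toSheaf X.ringCatSheaf).map φ) n x :=
  rfl

/-- multiplication by `a`, as an endomorphism of a short complex of modules -/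
noncomputable def smulSC (S : ShortComplex X.Modules) (a : A) : S ⟶ S where
  τ₁ := Formal.smulMod A S.X₁ a
  τ₂ := Formal.smulMod A S.X₂ a
  τ₃ := Formal.smulMod A S.X₃ a
  comm₁₂ := Groth.Agent.Lib.Helper4.IPow1.smulMod_nat A S.f a
  comm₂₃ := Groth.Agent.Lib.Helper4.IPow1.smulMod_nat A S.g a

theorem smul_eq (M : X.Modules) (n : ℕ) (a : A) (x : Coh.HH X M n) :
    a • x = (((UAb X).F n).map (Formal.smulMod A M a)).hom x := rfl


/-- the connecting homomorphism on cohomology groups -/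
noncomputable def δAb (S : ShortComplex X.Modules) (hS : S.ShortExact) (n₀ n₁ : ℕ)
    (h : n₀ + 1 = n₁) : Coh.HH X S.X₃ n₀ →+ Coh.HH X S.X₁ n₁ :=
  (hS.map_of_exact (Groth.Agent.Helper1.QcExt.T X)).extClass.postcomp (ZX X) h

theorem δAb_eq (S : ShortComplex X.Modules) (hS : S.ShortExact) (n₀ n₁ : ℕ)
    (h : n₀ + 1 = n₁) : (UAb X).δ S hS n₀ n₁ h = AddCommGrpCat.ofHom (δAb X S hS n₀ n₁ h) := rfl

theorem δAb_natural {S S' : ShortComplex X.Modules} (hS : S.ShortExact) (hS' : S'.ShortExact)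
    (φ : S ⟶ S') (n₀ n₁ : ℕ) (h : n₀ + 1 = n₁) (x : Coh.HH X S.X₃ n₀) :
    δAb X S' hS' n₀ n₁ h (Sheaf.H.map ((SheafOfModules.toSheaf X.ringCatSheaf).map φ.τ₃) n₀ x) =
      Sheaf.H.map ((SheafOfModules.toSheaf X.ringCatSheaf).map φ.τ₁) n₁ (δAb X S hS n₀ n₁ h x) := by
  have e := ShortComplex.ShortExact.extClass_naturality
    (hS.map_of_exact (Groth.Agent.Helper1.QcExt.T X))
    (hS'.map_of_exact (Groth.Agent.Helper1.QcExt.T X))
    ((Groth.Agent.Helper1.QcExt.T X).mapShortComplex.map φ)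
  change (x.comp (Abelian.Ext.mk₀ _) (add_zero n₀)).comp
      (hS'.map_of_exact (Groth.Agent.Helper1.QcExt.T X)).extClass h =
    (x.comp (hS.map_of_exact (Groth.Agent.Helper1.QcExt.T X)).extClass h).comp
      (Abelian.Ext.mk₀ _) (add_zero n₁)
  rw [Abelian.Ext.comp_assoc_of_second_deg_zero, Abelian.Ext.comp_assoc_of_third_deg_zero]
  exact congrArg (fun z => x.comp z h) e.symm

theorem δAb_smul (S : ShortComplex X.Modules) (hS : S.ShortExact) (n₀ n₁ : ℕ) (h : n₀ + 1 = n₁)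
    (a : A) (x : Coh.HH X S.X₃ n₀) :
    δAb X S hS n₀ n₁ h (a • x) = a • δAb X S hS n₀ n₁ h x :=
  δAb_natural X hS hS (smulSC A X S a) n₀ n₁ h x

/-- the connecting homomorphism, as a linear map -/
noncomputable def δlin (S : ShortComplex X.Modules) (hS : S.ShortExact) (n₀ n₁ : ℕ)
    (h : n₀ + 1 = n₁) : Coh.HH X S.X₃ n₀ →ₗ[A] Coh.HH X S.X₁ n₁ where
  toFun := δAb X S hS n₀ n₁ h
  map_add' := map_add _
  map_smul' a x := δAb_smul A X S hS n₀ n₁ h a x

theorem ex₂ (S : ShortComplex X.Modules) (hS : S.ShortExact) (n : ℕ) (x : Coh.HH X S.X₂ n)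
    (hx : Sheaf.H.map ((SheafOfModules.toSheaf X.ringCatSheaf).map S.g) n x = 0) :
    ∃ y : Coh.HH X S.X₁ n, Sheaf.H.map ((SheafOfModules.toSheaf X.ringCatSheaf).map S.f) n y = x :=
  (ShortComplex.ab_exact_iff _).1 ((UAb X).exact₂ S hS n) x hx

theorem ex₃ (S : ShortComplex X.Modules) (hS : S.ShortExact) (n₀ n₁ : ℕ) (h : n₀ + 1 = n₁)
    (x : Coh.HH X S.X₃ n₀) (hx : δAb X S hS n₀ n₁ h x = 0) :
    ∃ y : Coh.HH X S.X₂ n₀, Sheaf.H.map ((SheafOfModules.toSheaf X.ringCatSheaf).map S.g) n₀ y = x :=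
  (ShortComplex.ab_exact_iff _).1 ((UAb X).exact₃ S hS n₀ n₁ h) x hx

theorem ex₁ (S : ShortComplex X.Modules) (hS : S.ShortExact) (n₀ n₁ : ℕ) (h : n₀ + 1 = n₁)
    (x : Coh.HH X S.X₁ n₁)
    (hx : Sheaf.H.map ((SheafOfModules.toSheaf X.ringCatSheaf).map S.f) n₁ x = 0) :
    ∃ y : Coh.HH X S.X₃ n₀, δAb X S hS n₀ n₁ h y = x :=
  (ShortComplex.ab_exact_iff _).1 ((UAb X).exact₁ S hS n₀ n₁ h) x hx

theorem g_δ (S : ShortComplex X.Modules) (hS : S.ShortExact) (n₀ n₁ : ℕ) (h : n₀ + 1 = n₁)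
    (x : Coh.HH X S.X₂ n₀) :
    δAb X S hS n₀ n₁ h (Sheaf.H.map ((SheafOfModules.toSheaf X.ringCatSheaf).map S.g) n₀ x) = 0 :=
  Groth.Agent.Helper3.ExtDelta.comp_g_comp_extClass
    (hS.map_of_exact (Groth.Agent.Helper1.QcExt.T X)) h x

theorem δ_f (S : ShortComplex X.Modules) (hS : S.ShortExact) (n₀ n₁ : ℕ) (h : n₀ + 1 = n₁)
    (x : Coh.HH X S.X₃ n₀) :
    Sheaf.H.map ((SheafOfModules.toSheaf X.ringCatSheaf).map S.f) n₁ (δAb X S hS n₀ n₁ h x) = 0 :=
  Groth.Agent.Helper3.ExtDelta.comp_extClass_comp_f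
    (hS.map_of_exact (Groth.Agent.Helper1.QcExt.T X)) h x

/-- **cohomology of O_X-modules as a δ-functor with values in `A`-modules** -/
noncomputable def TH : CohDeltaFunctor X.Modules (ModuleCat.{u} A) ℕ where
  F n := HModF A X n
  additive n := inferInstance
  δ S hS n₀ n₁ h := ModuleCat.ofHom (δlin A X S hS n₀ n₁ h)
  δ_natural {S S'} hS hS' φ n₀ n₁ h := by
    ext x
    exact δAb_natural X hS hS' φ n₀ n₁ h x
  exact₂ S hS n := by
    rw [ShortComplex.moduleCat_exact_iff]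
    intro x hx
    exact ex₂ X S hS n x hx
  comp_δ S hS n₀ n₁ h := by
    ext x
    exact g_δ X S hS n₀ n₁ h x
  exact₃ S hS n₀ n₁ h := by
    rw [ShortComplex.moduleCat_exact_iff]
    intro x hx
    exact ex₃ X S hS n₀ n₁ h x hx
  δ_comp S hS n₀ n₁ h := by
    ext x
    exact δ_f X S hS n₀ n₁ h x
  exact₁ S hS n₀ n₁ h := by
    rw [ShortComplex.moduleCat_exact_iff]
    intro x hx
    exact ex₁ X S hS n₀ n₁ h x hx

end HModF

end Groth.Agent.Lib.Helper4.HModDelta1
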