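import Mathlib
import Groth.Prelude.Def_ega3
import Groth.Agent.Lib.Helper4.FibRank1
import Groth.Agent.Lib.Helper4.ChartSq1
import Groth.Agent.Lib.Helper4.HModDelta1

/-!
# Fibres over points of an affine chart of the base as base changes of the chart; rank formula via Mumford's complex (helper4)
-/

set_option backward.isDefEq.respectTransparency.types false
set_option synthInstance.maxHeartbeats 400000
set_option autoImplicit false
set_option linter.unusedSectionVars false
set_option linter.style.haveILetI false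
set_option linter.unusedSimpArgs false
universe u v w
open CategoryTheory
open CategoryTheory.Limits
open AlgebraicGeometry
open TopologicalSpace
open Opposite
open TensorProduct
open MonoidalCategory
open Groth.Agent.Helper1.FlatCxL
open Groth.Agent.Helper1.RpushLoc
open Groth.Agent.Lib.Helper4.RedRank1
open Groth.Agent.Lib.Helper4.SemiRank1
open Groth.Agent.Lib.Helper4.FibLin1
open Groth.Agent.Lib.Helper4.FibSurj1
open Groth.Agent.Lib.Helper4.FibRank1
open Groth.Agent.Lib.Helper4.TenSec2
open Groth.Agent.Lib.Helper4.AlgFib1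
open Groth.Agent.Lib.Helper4.ExchAlg1
open Groth.Agent.Lib.Helper4.ExchAlg2
open Groth.Agent.Lib.Helper4.CechTen1
open Groth.Agent.Lib.Helper4.CechTen2
open Groth.Agent.Lib.Helper4.CechTen3
open Groth.Agent.Lib.Helper4.BCSec2
open Groth.Agent.Lib.Helper4.MumBC1
open Groth.Agent.Lib.Helper4.MumBC2
open Groth.Agent.Lib.Helper4.TruncAlg1
open Groth.Agent.Lib.Helper4.ChartSq1
open Groth.Agent.Lib.Helper4.HModDelta1

namespace Groth.Agent.Lib.Helper4.ChartFib1

section Gen
variable {A : Type u} [CommRing A] [IsNoetherianRing A] {X : Scheme.{u}}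
  [X.Over (Spec (CommRingCat.of A))] [IsProper (X ↘ Spec (CommRingCat.of A))]
  {F : X.Modules} (D : MData A X F)
  {L : Type u} [Field L] (φ : A →+* L)
  (hfrac : ∀ b : L, ∃ a s : A, φ s ≠ 0 ∧ b * φ s = φ a)
  {X' : Scheme.{u}} [X'.Over (Spec (CommRingCat.of L))] (g : X' ⟶ X)
  (hsq : IsPullback g (X' ↘ Spec (CommRingCat.of L)) (X ↘ Spec (CommRingCat.of A))
      (Spec.map (CommRingCat.ofHom φ)))
  (y : PrimeSpectrum A) (hker : RingHom.ker φ = y.asIdeal)

attribute [local instance] Groth.Agent.Lib.Helper4.TenSec2.secMod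

include hfrac hsq hker in
/-- the rank formula for the cohomology of a base change to a field-valued point, in terms of
Mumford's complex -/
theorem MData.rank_add_of_square [F.IsQuasicoherent] (p : ℕ) :
    Module.finrank L (Coh.HH X' (Fp g F) p) + fibreRank (D.K.X ((p : ℤ) + 1)) y =
      fibreRank (Wq D.K ((p : ℤ) - 1) (p : ℤ)) y +
        fibreRank (Wq D.K (p : ℤ) ((p : ℤ) + 1)) y := by
  haveI := D.fin
  haveI : ∀ i, Module.Finite A (D.K.X i) := fun i => (D.hff i).1
  letI : Algebra A L := φ.toAlgebra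
  have hker' : RingHom.ker (algebraMap A L) = y.asIdeal := hker
  obtain ⟨H, iH1, iH2, e, he, hrank⟩ := exists_equiv_finrank D.K L ((p : ℤ) - 1) (p : ℤ)
    ((p : ℤ) + 1) (by omega) rfl
  rw [← finrank_tensor_field_eq _ L y hker', ← finrank_tensor_field_eq _ L y hker',
    ← finrank_tensor_field_eq _ L y hker', ← hrank]
  congr 1
  let e1 := hhBC φ g F D.U hsq D.haff D.hcov p
  let e2 := ((D.eK (p : ℤ)).app (rs φ (𝟙_ (ModuleCat.{u} L)))).symm.toLinearEquiv
  let e3 := ((CohIII.TFun D.K (p : ℤ)).mapIso (rsUnitIso A L)).toLinearEquiv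
  let E : Coh.HH X' (Fp g F) p ≃+ H :=
    ((e1.trans e2.toAddEquiv).trans e3.toAddEquiv).trans e
  have hE : ∀ (a : A) (x : Coh.HH X' (Fp g F) p),
      E (algebraMap A L a • x) = algebraMap A L a • E x := by
    intro a x
    change e (e3 (e2 (e1 (φ a • x)))) = _
    rw [hhBC_smul φ g F D.U hsq D.haff D.hcov p a x, map_smul, map_smul, he]
    rfl
  have hr := rank_eq_of_equiv_equiv (R := L) (R' := L) id E Function.bijective_id
    (map_smul_of_fraction (A := A) (L := L) hfrac E.toAddMonoidHom hE)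
  exact congrArg Cardinal.toNat hr

end Gen

section Chart
variable {X S : Scheme.{u}} (f : X ⟶ S) {V : S.Opens} (hV : IsAffineOpen V)
  (y' : ↑(Spec (CommRingCat.of Γ(S, V))))

/-- the ring map from the coordinate ring of the chart to the residue field of the image point -/
noncomputable def phiV : Γ(S, V) →+* S.residueField (hV.fromSpec y') :=
  (inv (hV.fromSpec.residueFieldMap y')).hom.comp (phiY Γ(S, V) y')

theorem map_phiV : Spec.map (CommRingCat.ofHom (phiV hV y')) ≫ hV.fromSpec =
    S.fromSpecResidueField (hV.fromSpec y') := by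
  have h1 : Spec.map (CommRingCat.ofHom (phiV hV y')) =
      Spec.map (inv (hV.fromSpec.residueFieldMap y')) ≫
        Spec.map (CommRingCat.ofHom (phiY Γ(S, V) y')) := Spec.map_comp _ _
  have h2 := Scheme.Hom.SpecMap_residueFieldMap_fromSpecResidueField hV.fromSpec y'
  have h3 : Spec.map (CommRingCat.ofHom (phiY Γ(S, V) y')) ≫ hV.fromSpec =
      Spec.map (hV.fromSpec.residueFieldMap y') ≫ S.fromSpecResidueField (hV.fromSpec y') :=
    (congrArg (fun z => z ≫ hV.fromSpec) (map_phiY Γ(S, V) y')).trans h2.symm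
  refine (congrArg (fun z => z ≫ hV.fromSpec) h1).trans ?_
  refine (Category.assoc _ _ _).trans ?_
  refine (congrArg (fun z => Spec.map (inv (hV.fromSpec.residueFieldMap y')) ≫ z) h3).trans ?_
  rw [← Category.assoc, ← Spec.map_comp, IsIso.hom_inv_id, Spec.map_id, Category.id_comp]

theorem ker_phiV : RingHom.ker (phiV hV y') = y'.asIdeal := by
  rw [← ker_phiY Γ(S, V) y']
  ext a
  rw [RingHom.mem_ker, RingHom.mem_ker]
  change (inv (hV.fromSpec.residueFieldMap y')).hom (phiY Γ(S, V) y' a) = 0 ↔ _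
  exact map_eq_zero_iff _ (RingHom.injective _)

theorem hfrac_phiV (b : S.residueField (hV.fromSpec y')) :
    ∃ a s : Γ(S, V), phiV hV y' s ≠ 0 ∧ b * phiV hV y' s = phiV hV y' a := by
  obtain ⟨a, s, hs, hb⟩ := hfrac_phiY Γ(S, V) y' ((hV.fromSpec.residueFieldMap y').hom b)
  refine ⟨a, s, ?_, ?_⟩
  · intro h0
    apply hs
    have := (map_eq_zero_iff _ (RingHom.injective
      (inv (hV.fromSpec.residueFieldMap y')).hom)).1 h0
    exact this
  · have h1 := congrArg (inv (hV.fromSpec.residueFieldMap y')).hom hb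
    rw [map_mul] at h1
    have h2 : (inv (hV.fromSpec.residueFieldMap y')).hom
        ((hV.fromSpec.residueFieldMap y').hom b) = b := by
      change (hV.fromSpec.residueFieldMap y' ≫ inv (hV.fromSpec.residueFieldMap y')).hom b = b
      rw [IsIso.hom_inv_id]; rfl
    rw [h2] at h1
    exact h1

/-- the fibre over the image point, as a base change of the chart -/
theorem exists_fibre_square :
    ∃ g : f.fiber (hV.fromSpec y') ⟶ (↑(f ⁻¹ᵁ V) : Scheme.{u}),
      g ≫ (f ⁻¹ᵁ V).ι = f.fiberι (hV.fromSpec y') ∧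
      IsPullback g (f.fiberToSpecResidueField (hV.fromSpec y')) (strMap f hV)
        (Spec.map (CommRingCat.ofHom (phiV hV y'))) := by
  have hc := isPullback_chart f hV
  have hbig : IsPullback (f.fiberι (hV.fromSpec y')) (f.fiberToSpecResidueField (hV.fromSpec y')) f
      (Spec.map (CommRingCat.ofHom (phiV hV y')) ≫ hV.fromSpec) := by
    exact (congrArg (fun z => IsPullback (f.fiberι (hV.fromSpec y'))
      (f.fiberToSpecResidueField (hV.fromSpec y')) f z) (map_phiV hV y')).mpr
      (IsPullback.of_hasPullback f (S.fromSpecResidueField (hV.fromSpec y')))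
  let g := hc.lift (f.fiberι (hV.fromSpec y'))
    (f.fiberToSpecResidueField (hV.fromSpec y') ≫ Spec.map (CommRingCat.ofHom (phiV hV y')))
    (by rw [Category.assoc]; exact hbig.w)
  have hg1 : g ≫ (f ⁻¹ᵁ V).ι = f.fiberι (hV.fromSpec y') := hc.lift_fst _ _ _
  have hg2 : g ≫ strMap f hV = f.fiberToSpecResidueField (hV.fromSpec y') ≫
      Spec.map (CommRingCat.ofHom (phiV hV y')) := hc.lift_snd _ _ _
  refine ⟨g, hg1, ?_⟩
  refine IsPullback.of_right ?_ hg2 hc
  rw [hg1]
  exact hbig

end Chart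

section ChartRank
variable {X S : Scheme.{u}} (f : X ⟶ S) {V : S.Opens} (hV : IsAffineOpen V)
  (y' : ↑(Spec (CommRingCat.of Γ(S, V)))) (F : X.Modules)

/-- the restriction of `F` to the fibre, through the chart -/
noncomputable def fibModIso (g : f.fiber (hV.fromSpec y') ⟶ (↑(f ⁻¹ᵁ V) : Scheme.{u}))
    (hg : g ≫ (f ⁻¹ᵁ V).ι = f.fiberι (hV.fromSpec y')) :
    Fp g (F.restrict (f ⁻¹ᵁ V).ι) ≅ CohIII.fiberMod f F (hV.fromSpec y') :=
  (Scheme.Modules.pullback g).mapIso
      ((Scheme.Modules.restrictFunctorIsoPullback (f ⁻¹ᵁ V).ι).app F) ≪≫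
    (Scheme.Modules.pullbackComp g (f ⁻¹ᵁ V).ι).app F ≪≫
    (Scheme.Modules.pullbackCongr hg).app F

theorem fiberRank_eq_chart (g : f.fiber (hV.fromSpec y') ⟶ (↑(f ⁻¹ᵁ V) : Scheme.{u}))
    (hg : g ≫ (f ⁻¹ᵁ V).ι = f.fiberι (hV.fromSpec y')) (p : ℕ) :
    letI : (f.fiber (hV.fromSpec y')).Over
        (Spec (CommRingCat.of (S.residueField (hV.fromSpec y')))) :=
      CohIII.fiberOver f (hV.fromSpec y')
    CohIII.fiberRank f F p (hV.fromSpec y') =
      Module.finrank (S.residueField (hV.fromSpec y'))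
        (Coh.HH (f.fiber (hV.fromSpec y')) (Fp g (F.restrict (f ⁻¹ᵁ V).ι)) p) := by
  letI : (f.fiber (hV.fromSpec y')).Over
      (Spec (CommRingCat.of (S.residueField (hV.fromSpec y')))) :=
    CohIII.fiberOver f (hV.fromSpec y')
  exact (LinearEquiv.finrank_eq ((HModF (S.residueField (hV.fromSpec y'))
    (f.fiber (hV.fromSpec y')) p).mapIso (fibModIso f hV y' F g hg)).toLinearEquiv).symm

end ChartRank

end Groth.Agent.Lib.Helper4.ChartFib1
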