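import Mathlib
import Groth.Prelude.Def_ega3
import Groth.Prelude.Def_CxOX
import Groth.Agent.Lib.Helper1.RpushLoc1
import Groth.Agent.Lib.Helper1.DeltaComp
import Groth.Agent.Lib.Helper1.RpushComp
import Groth.Agent.Lib.Helper5.Stalk.RpushRes
import Groth.Agent.S11327
import Groth.Agent.S0485

/-!
# Higher direct images commute with restriction to an affine chart of the base (helper4)
-/

set_option backward.isDefEq.respectTransparency.types false
set_option synthInstance.maxHeartbeats 400000
set_option autoImplicit false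
set_option linter.unusedSectionVars false
set_option linter.style.haveILetI false
set_option linter.unusedSimpArgs false
universe u v w
open CategoryTheory
open CategoryTheory.Limits
open AlgebraicGeometry
open TopologicalSpace
open Opposite
open Groth.Agent.Helper1.RpushLoc

namespace Groth.Agent.Lib.Helper4.ResRpush1

/-- restriction along the inverse of an isomorphism is the pushforward along it -/
noncomputable def restrictInvIsoPush {Y Z : Scheme.{u}} (e : Y ≅ Z) :
    Scheme.Modules.restrictFunctor e.inv ≅ Scheme.Modules.pushforward e.hom :=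
  (Functor.leftUnitor _).symm ≪≫
    Functor.isoWhiskerRight ((Scheme.Modules.pushforwardId Y).symm ≪≫
      (Scheme.Modules.pushforwardCongr e.hom_inv_id).symm ≪≫
      (Scheme.Modules.pushforwardComp e.hom e.inv).symm) (Scheme.Modules.restrictFunctor e.inv) ≪≫
    Functor.associator _ _ _ ≪≫
    Functor.isoWhiskerLeft (Scheme.Modules.pushforward e.hom)
      (Scheme.Modules.restrictFunctorAdjCounitIso e.inv) ≪≫
    Functor.rightUnitor _

variable {X S : Scheme.{u}} (f : X ⟶ S) {V : S.Opens} (hV : IsAffineOpen V)

/-- `(f_* M)|_{Spec Γ(V)} ≅ (f_V)_* (M|_{f⁻¹V})` -/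
noncomputable def resPushIso :
    Scheme.Modules.pushforward f ⋙ Scheme.Modules.restrictFunctor hV.fromSpec ≅
      Scheme.Modules.restrictFunctor (f ⁻¹ᵁ V).ι ⋙ Scheme.Modules.pushforward (strMap f hV) :=
  Functor.isoWhiskerLeft (Scheme.Modules.pushforward f)
      (Scheme.Modules.restrictFunctorComp hV.isoSpec.inv V.ι) ≪≫
    (Functor.associator _ _ _).symm ≪≫
    Functor.isoWhiskerRight (Groth.Agent.Lib.Helper5.RpushRes.pushRestrictIso f V)
      (Scheme.Modules.restrictFunctor hV.isoSpec.inv) ≪≫
    Functor.associator _ _ _ ≪≫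
    Functor.isoWhiskerLeft (Scheme.Modules.restrictFunctor (f ⁻¹ᵁ V).ι)
      (Functor.isoWhiskerLeft (Scheme.Modules.pushforward (f ∣_ V)) (restrictInvIsoPush hV.isoSpec) ≪≫
        Scheme.Modules.pushforwardComp (f ∣_ V) hV.isoSpec.hom)

/-- **higher direct images commute with restriction to an affine chart of the base** -/
theorem nonempty_resRpushIso [HasInjectiveResolutions X.Modules]
    [HasInjectiveResolutions (↑(f ⁻¹ᵁ V) : Scheme.{u}).Modules] (M : X.Modules) (n : ℕ) :
    Nonempty (((Coh.Rpush f n).obj M).restrict hV.fromSpec ≅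
      (Coh.Rpush (strMap f hV) n).obj (M.restrict (f ⁻¹ᵁ V).ι)) :=
  Groth.Agent.Helper1.DeltaComp.nonempty_iso
    (Scheme.Modules.pushforward f) (Scheme.Modules.pushforward (strMap f hV))
    (Scheme.Modules.restrictFunctor (f ⁻¹ᵁ V).ι) (Scheme.Modules.restrictFunctor hV.fromSpec)
    (resPushIso f hV)
    (fun I hI n => by
      haveI : Injective ((Scheme.Modules.restrictFunctor (f ⁻¹ᵁ V).ι).obj I) :=
        Groth.Agent.S11327.result X (f ⁻¹ᵁ V) I hI
      exact Functor.isZero_rightDerived_obj_injective_succ _ n _) M n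

end Groth.Agent.Lib.Helper4.ResRpush1
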