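import Mathlib
import Groth.Prelude.Def_ega3
import Groth.Agent.Lib.Helper4.TenSec2

/-!
# Global sections over an affine base: comparison with H^0 and compatibility with scalars (helper4)
-/

set_option backward.isDefEq.respectTransparency.types false
set_option synthInstance.maxHeartbeats 400000
set_option autoImplicit false
set_option linter.unusedSectionVars false
set_option linter.style.haveILetI false
set_option linter.unusedSimpArgs false
universe u v w
open CategoryTheory
open CategoryTheory.Limits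
open AlgebraicGeometry
open TopologicalSpace
open TensorProduct
open Opposite
open Groth.Agent.Lib.Helper4.BaseChgRing1
open Groth.Agent.Lib.Helper4.TenSec2

namespace Groth.Agent.Lib.Helper4.GlobSec1

variable (A : Type u) [CommRing A] {X : Scheme.{u}} [X.Over (Spec (CommRingCat.of A))]

/-- global sections, as abelian groups, are `H^0` -/
noncomputable def gsEquiv (G : X.Modules) :
    ((CohIII.globalSectionsA A ⋙ forget₂ (ModuleCat.{u} A) AddCommGrpCat.{u}).obj G : Type u) ≃+
      ((CohIII.HAb X 0).obj G : Type u) :=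
  (Sheaf.H.equiv₀ ((SheafOfModules.toSheaf X.ringCatSheaf).obj G) isTerminalTop).symm

theorem gsEquiv_natural {G G' : X.Modules} (φ : G ⟶ G')
    (s : ((CohIII.globalSectionsA A ⋙ forget₂ (ModuleCat.{u} A) AddCommGrpCat.{u}).obj G : Type u)) :
    gsEquiv A G' (((CohIII.globalSectionsA A ⋙ forget₂ (ModuleCat.{u} A)
        AddCommGrpCat.{u}).map φ).hom s) =
      ((CohIII.HAb X 0).map φ).hom (gsEquiv A G s) :=
  (Sheaf.H.equiv₀_symm_naturality ((SheafOfModules.toSheaf X.ringCatSheaf).map φ)
    (hT := isTerminalTop) s).symm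

/-- the natural isomorphism -/
noncomputable def gsIso :
    CohIII.globalSectionsA A ⋙ forget₂ (ModuleCat.{u} A) AddCommGrpCat.{u} ≅ CohIII.HAb X 0 :=
  NatIso.ofComponents (fun G => (gsEquiv A G).toAddCommGrpIso)
    (fun {G G'} φ => by
      apply ConcreteCategory.hom_ext
      intro s
      exact gsEquiv_natural A φ s)


section Smul
variable (F : X.Modules)
attribute [local instance] secMod
open Groth.Agent.Lead.TilT
open Groth.Agent.Helper1.QcCech

theorem theta_smul (M : ModuleCat.{u} A) (W : X.Opens) (r : A) (x : Γ(F, W) ⊗[A] M) :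
    theta A F M W (r • x) = alphaRing A X W r • theta A F M W x := by
  induction x using TensorProduct.induction_on with
  | zero => rw [smul_zero, map_zero, smul_zero]
  | tmul s m =>
    rw [TensorProduct.smul_tmul' (R := A), theta_tmul, theta_tmul, secMod_smul,
      TensorProduct.tmul_smul, map_smul]
  | add x y hx hy => rw [smul_add, map_add, hx, hy, map_add, smul_add]

theorem PsiMap_smul_app [F.IsQuasicoherent] (M : ModuleCat.{u} A) (r : A) {W : X.Opens}
    (hW : IsAffineOpen W) (t : Γ(Psi A F M, W)) :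
    ((PsiMap A F (r • 𝟙 M)).app W).hom t = alphaRing A X W r • t := by
  obtain ⟨x, rfl⟩ := (theta_bijective A F M hW).2 t
  rw [theta_map, ← theta_smul]
  congr 1
  have : (r • 𝟙 M : M ⟶ M).hom = r • LinearMap.id := rfl
  rw [this, LinearMap.lTensor_smul, LinearMap.lTensor_id, LinearMap.smul_apply, LinearMap.id_apply]

theorem PsiMap_smul_top [F.IsQuasicoherent] (M : ModuleCat.{u} A) (r : A)
    (s : Γ(Psi A F M, ⊤)) :
    ((PsiMap A F (r • 𝟙 M)).app ⊤).hom s = alphaRing A X ⊤ r • s := by
  refine TopCat.Sheaf.eq_of_locally_eq'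
    (⟨(Psi A F M).presheaf, (Psi A F M).isSheaf⟩ : TopCat.Sheaf Ab X)
    (fun V : X.affineOpens => (V : X.Opens)) ⊤ (fun V => homOfLE le_top)
    (by rw [iSup_affineOpens_eq_top]) _ _ ?_
  intro V
  change res (Psi A F M) (le_top : (V : X.Opens) ≤ ⊤) (((PsiMap A F (r • 𝟙 M)).app ⊤).hom s) =
    res (Psi A F M) (le_top : (V : X.Opens) ≤ ⊤) (alphaRing A X ⊤ r • s)
  rw [res_smul]
  have h1 := Groth.Agent.Lead.BCU.app_res (PsiMap A F (r • 𝟙 M)) (le_top : (V : X.Opens) ≤ ⊤) s
  refine h1.symm.trans ?_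
  refine (PsiMap_smul_app A F M r V.2 _).trans ?_
  congr 1
  exact (alphaRing_res A (le_top : (V : X.Opens) ≤ ⊤) r).symm


theorem alphaRing_top (r : A) :
    alphaRing A X ⊤ r = Coh.toGlobal (X ↘ Spec (CommRingCat.of A)) r := by
  unfold alphaRing Coh.toGlobal
  rw [Scheme.Hom.appLE]
  have h : (homOfLE (le_top : (⊤ : X.Opens) ≤ (X ↘ Spec (CommRingCat.of A)) ⁻¹ᵁ ⊤)).op = 𝟙 _ :=
    Subsingleton.elim _ _
  change (X.presheaf.map (homOfLE (le_top : (⊤ : X.Opens) ≤
    (X ↘ Spec (CommRingCat.of A)) ⁻¹ᵁ ⊤)).op).hom _ = _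
  rw [h, X.presheaf.map_id]
  rfl

theorem S1_smul [F.IsQuasicoherent] (M : ModuleCat.{u} A) (r : A)
    (s : (CohIII.tensorAFunctor A F ⋙ CohIII.globalSectionsA A).obj M) :
    ((CohIII.tensorAFunctor A F ⋙ CohIII.globalSectionsA A).map (r • 𝟙 M)).hom s = r • s := by
  have h := PsiMap_smul_top A F M r s
  rw [alphaRing_top] at h
  exact h

end Smul

end Groth.Agent.Lib.Helper4.GlobSec1
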