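import Mathlib
import Groth.Prelude.Def_Coh
import Groth.Agent.Lib.Helper1.QcAbel
import Groth.Agent.Lib.Helper1.QcProd

/-!
# The abelian category of quasi-coherent modules as a full subcategory; the inclusion is exact (helper4)
-/

set_option backward.isDefEq.respectTransparency.types false
set_option synthInstance.maxHeartbeats 400000
set_option autoImplicit false
set_option linter.unusedSectionVars false
set_option linter.style.haveILetI false
set_option linter.unusedSimpArgs false
universe u v w
open CategoryTheory
open CategoryTheory.Limits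
open AlgebraicGeometry
open TopologicalSpace
open Opposite
open ZeroObject

namespace Groth.Agent.Lib.Helper4.QCohAb1

variable (X : Scheme.{u})

/-- quasi-coherence as an object property -/
abbrev qc : ObjectProperty X.Modules := SheafOfModules.isQuasicoherent X.ringCatSheaf

/-- the category of quasi-coherent modules -/
abbrev QCoh := (qc X).FullSubcategory

instance : (qc X).IsClosedUnderIsomorphisms :=
  inferInstanceAs (SheafOfModules.isQuasicoherent X.ringCatSheaf).IsClosedUnderIsomorphisms

instance : (qc X).ContainsZero :=
  ⟨⟨(0 : X.Modules), isZero_zero _, Groth.Agent.Helper1.QcAbel.isQuasicoherent_of_isZero (isZero_zero _)⟩⟩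

instance : (qc X).IsClosedUnderKernels where
  kernels_le := by
    rintro _ ⟨f, k, hk, h⟩
    exact (qc X).prop_of_iso (IsLimit.conePointUniqueUpToIso (kernelIsKernel f) hk)
      (@Groth.Agent.Helper1.QcAbel.isQuasicoherent_kernel _ _ _ f h.1 h.2)

instance : (qc X).IsClosedUnderCokernels where
  cokernels_le := by
    rintro _ ⟨f, k, hk, h⟩
    exact (qc X).prop_of_iso (IsColimit.coconePointUniqueUpToIso (cokernelIsCokernel f) hk)
      (@Groth.Agent.Helper1.QcAbel.isQuasicoherent_cokernel _ _ _ f h.1 h.2)

instance : (qc X).IsClosedUnderFiniteProducts :=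
  ObjectProperty.IsClosedUnderFiniteProducts.of_isClosedUnderLimitsOfShape.{u} (fun J _ => by
    constructor
    rintro M ⟨p⟩
    have hq : ∀ j : J, (p.diag.obj ⟨j⟩).IsQuasicoherent := fun j => p.prop_diag_obj ⟨j⟩
    have := Groth.Agent.Helper1.QcAbel.isQuasicoherent_pi (fun j : J => p.diag.obj ⟨j⟩)
    exact (qc X).prop_of_iso
      ((IsLimit.conePointUniqueUpToIso p.isLimit (limit.isLimit p.diag)) ≪≫
        HasLimit.isoOfNatIso (Discrete.natIsoFunctor (F := p.diag))).symm this)

instance : (qc X).ι.Additive := inferInstance

noncomputable instance : PreservesFiniteLimits (qc X).ι :=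
  haveI : ∀ {M N : QCoh X} (f : M ⟶ N), PreservesLimit (parallelPair f 0) (qc X).ι :=
    fun f => (qc X).preservesKernels_ι f
  Functor.preservesFiniteLimits_of_preservesKernels (qc X).ι

noncomputable instance : PreservesFiniteColimits (qc X).ι :=
  haveI : ∀ {M N : QCoh X} (f : M ⟶ N), PreservesColimit (parallelPair f 0) (qc X).ι :=
    fun f => (qc X).preservesCokernels_ι f
  Functor.preservesFiniteColimits_of_preservesCokernels (qc X).ι

noncomputable example : Abelian (QCoh X) := inferInstance

/-- a quasi-coherent module, as an object of `QCoh X` -/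
abbrev mkQ (M : X.Modules) [M.IsQuasicoherent] : QCoh X := ⟨M, ‹_›⟩

end Groth.Agent.Lib.Helper4.QCohAb1
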