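import Mathlib
import Groth.Prelude.Def_ega3
import Groth.Prelude.Def_Canon
import Groth.Agent.Lib.Helper4.HModDelta1
import Groth.Agent.Lib.Helper4.QCohAb1
import Groth.Agent.Lib.Helper4.GlobSec1
import Groth.Agent.Lib.Helper4.SepCover1
import Groth.Agent.Lib.Helper4.HUon1
import Groth.Agent.Lib.Helper1.HH0
import Groth.Agent.Lib.Helper1.RpushLoc1
import Groth.Agent.Lib.Helper1.RpushComp
import Groth.Agent.Lib.Helper1.PushQc
import Groth.Agent.Lib.Helper3.HTerm
import Groth.Agent.Lib.Helper3.HPDelta
import Groth.Agent.Lib.Helper5.QC.TildeExact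
import Groth.Agent.S0011

/-!
# Higher direct images to an affine base are the sheaves associated with cohomology modules (natural iso on QCoh) (helper4)
-/

set_option backward.isDefEq.respectTransparency.types false
set_option synthInstance.maxHeartbeats 400000
set_option autoImplicit false
set_option linter.unusedSectionVars false
set_option linter.style.haveILetI false
set_option linter.unusedSimpArgs false
universe u v w
open CategoryTheory
open CategoryTheory.Limits
open AlgebraicGeometry
open TopologicalSpace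
open Opposite
open DeltaF
open Groth.Agent.Lib.Helper4.DeltaNat1
open Groth.Agent.Lib.Helper4.HModDelta1
open Groth.Agent.Lib.Helper4.QCohAb1

namespace Groth.Agent.Lib.Helper4.RpushTilde1

section Zero
variable (A : Type u) [CommRing A] (X : Scheme.{u}) [X.Over (Spec (CommRingCat.of A))]

/-- global sections are `H^0`, `A`-linearly -/
noncomputable def gsLin (G : X.Modules) :
    ((CohIII.globalSectionsA A).obj G) ≃ₗ[A] Coh.HH X G 0 :=
  { (Groth.Agent.Helper1.HH0.equiv X G).symm with
    map_smul' := fun a s => by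
      obtain ⟨x, rfl⟩ := (Groth.Agent.Helper1.HH0.equiv X G).surjective s
      apply (Groth.Agent.Helper1.HH0.equiv X G).injective
      change (Groth.Agent.Helper1.HH0.equiv X G) ((Groth.Agent.Helper1.HH0.equiv X G).symm _) =
        (Groth.Agent.Helper1.HH0.equiv X G) (a • (Groth.Agent.Helper1.HH0.equiv X G).symm _)
      rw [AddEquiv.apply_symm_apply, Groth.Agent.Helper1.HH0.equiv_smul_over,
        AddEquiv.apply_symm_apply]
      rfl }

theorem gsLin_natural {G G' : X.Modules} (φ : G ⟶ G') (s : (CohIII.globalSectionsA A).obj G) :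
    gsLin A X G' (((CohIII.globalSectionsA A).map φ).hom s) =
      Canon.HHlin A φ 0 (gsLin A X G s) :=
  (Sheaf.H.equiv₀_symm_naturality ((SheafOfModules.toSheaf X.ringCatSheaf).map φ)
    (hT := isTerminalTop) s).symm

/-- the natural isomorphism `Γ(X, -) ≅ H^0(X, -)` of functors to `A`-modules -/
noncomputable def gsIsoL : CohIII.globalSectionsA A ≅ HModF A X 0 :=
  NatIso.ofComponents (fun G => (gsLin A X G).toModuleIso)
    (fun {G G'} φ => by
      ext s
      exact gsLin_natural A X φ s)

variable [QuasiCompact (X ↘ Spec (CommRingCat.of A))] [QuasiSeparated (X ↘ Spec (CommRingCat.of A))]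

instance (M : QCoh X) :
    ((Scheme.Modules.pushforward (X ↘ Spec (CommRingCat.of A))).obj M.obj).IsQuasicoherent :=
  Groth.Agent.Helper1.PushQc.isQuasicoherent_pushforward _ M.obj

/-- the counit, whiskered -/
noncomputable def pushTildeHom :
    ((qc X).ι ⋙ Scheme.Modules.pushforward (X ↘ Spec (CommRingCat.of A))) ⋙
      (moduleSpecΓFunctor (R := CommRingCat.of A) ⋙ tilde.functor (CommRingCat.of A)) ⟶
    ((qc X).ι ⋙ Scheme.Modules.pushforward (X ↘ Spec (CommRingCat.of A))) ⋙ 𝟭 _ :=
  Functor.whiskerLeft _ (Scheme.Modules.fromTildeΓNatTrans (R := CommRingCat.of A))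

instance : IsIso (pushTildeHom A X) := by
  haveI : ∀ M, IsIso ((pushTildeHom A X).app M) := fun M =>
    Scheme.Modules.isIso_fromTildeΓ_of_isQuasicoherent
      ((Scheme.Modules.pushforward (X ↘ Spec (CommRingCat.of A))).obj M.obj)
  exact NatIso.isIso_of_isIso_app _

/-- `f_* M ≅ Γ(X, M)~` for quasi-coherent `M`, naturally -/
noncomputable def pushTildeIso :
    (qc X).ι ⋙ Scheme.Modules.pushforward (X ↘ Spec (CommRingCat.of A)) ≅
      (qc X).ι ⋙ CohIII.globalSectionsA A ⋙ tilde.functor (CommRingCat.of A) :=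
  (Functor.rightUnitor _).symm ≪≫ (asIso (pushTildeHom A X)).symm ≪≫ Functor.associator _ _ _ ≪≫
    Functor.isoWhiskerLeft (qc X).ι (Functor.associator _ _ _).symm

/-- the comparison in degree zero -/
noncomputable def e0 :
    (qc X).ι ⋙ Scheme.Modules.pushforward (X ↘ Spec (CommRingCat.of A)) ≅
      ((qc X).ι ⋙ HModF A X 0) ⋙ tilde.functor (CommRingCat.of A) :=
  pushTildeIso A X ≪≫ Functor.isoWhiskerLeft (qc X).ι
    (Functor.isoWhiskerRight (gsIsoL A X) (tilde.functor (CommRingCat.of A))) ≪≫
    (Functor.associator _ _ _).symm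

end Zero

theorem addR (R : CommRingCat.{u}) : (tilde.functor R).Additive := inferInstance
theorem pflR (R : CommRingCat.{u}) : PreservesFiniteLimits (tilde.functor R) := inferInstance
theorem pfcR (R : CommRingCat.{u}) : PreservesFiniteColimits (tilde.functor R) := inferInstance

section Main
variable (A : Type u) [CommRing A] (X : Scheme.{u}) [X.Over (Spec (CommRingCat.of A))]
  [HasInjectiveResolutions X.Modules]

instance : (tilde.functor (CommRingCat.of A)).Additive := addR _
instance : PreservesFiniteLimits (tilde.functor (CommRingCat.of A)) := pflR _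
instance : PreservesFiniteColimits (tilde.functor (CommRingCat.of A)) := pfcR _

/-- the derived δ-functor of `f_*` -/
noncomputable def ΔX : RDer.DerivedLES (Scheme.Modules.pushforward (X ↘ Spec (CommRingCat.of A))) :=
  haveI : EnoughInjectives X.Modules :=
    Groth.Agent.Helper1.DeltaComp.enoughInjectives_of_hasInjectiveResolutions
  (Groth.Agent.S16463.result _).some

/-- `R^n f_*` on quasi-coherent modules, as a δ-functor -/
noncomputable def T₁ : CohDeltaFunctor (QCoh X) (Spec (CommRingCat.of A)).Modules ℕ :=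
  Groth.Agent.Helper1.DeltaComp.pre (qc X).ι (ΔX A X)

/-- `H^n(X, -)~` on quasi-coherent modules, as a δ-functor -/
noncomputable def T₂ : CohDeltaFunctor (QCoh X) (Spec (CommRingCat.of A)).Modules ℕ :=
  Groth.Agent.Helper3.HPDelta.compExact (precomp (qc X).ι (TH A X)) (tilde.functor (CommRingCat.of A))

theorem T₁_F (n : ℕ) : (T₁ A X).F n = (qc X).ι ⋙ Coh.Rpush (X ↘ Spec (CommRingCat.of A)) n := rfl
theorem T₂_F (n : ℕ) : (T₂ A X).F n = ((qc X).ι ⋙ HModF A X n) ⋙ tilde.functor (CommRingCat.of A) := rfl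

end Main

section Efface
variable (A : Type u) [CommRing A] (X : Scheme.{u}) [X.Over (Spec (CommRingCat.of A))]
  [HasInjectiveResolutions X.Modules]
  [IsSeparated (X ↘ Spec (CommRingCat.of A))] [QuasiCompact (X ↘ Spec (CommRingCat.of A))]

theorem subsingleton_HHon_top (M : X.Modules) (p : ℕ) (h : Subsingleton (Coh.HH X M p)) :
    Subsingleton (Coh.HHon X M ((X ↘ Spec (CommRingCat.of A)) ⁻¹ᵁ ⊤) p) := by
  obtain ⟨e⟩ := Groth.Agent.Lib.Helper4.HUon1.nonempty_HU_equiv_HHon M
    ((X ↘ Spec (CommRingCat.of A)) ⁻¹ᵁ ⊤) p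
  have e' := Groth.Agent.Helper3.HTerm.HEquiv (J := Opens.grothendieckTopology X)
    (isTerminalTop (α := Opens X)) (Coh.toAb M) p
  have h1 : Subsingleton (CohTop.HU (Coh.toAb M) p ((X ↘ Spec (CommRingCat.of A)) ⁻¹ᵁ ⊤)) :=
    e'.symm.injective.subsingleton
  exact e.symm.injective.subsingleton

/-- a quasi-coherent module acyclic in degree `p` has vanishing `R^p f_*` -/
theorem isZero_rpush_of_acyclic (M : X.Modules) [M.IsQuasicoherent] (p : ℕ)
    (h : Subsingleton (Coh.HH X M p)) :
    IsZero ((Coh.Rpush (X ↘ Spec (CommRingCat.of A)) p).obj M) := by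
  obtain ⟨e⟩ := Groth.Agent.Helper1.RpushComp.nonempty_iso (X ↘ Spec (CommRingCat.of A)) M p
  apply Groth.Agent.Helper1.RpushComp.isZero_of_toAb
  refine IsZero.of_iso ?_ e
  exact Groth.Agent.Helper1.RpushLoc.isZero_rpushAb_of_cover (X ↘ Spec (CommRingCat.of A)) M p
    (fun _ : Unit => (⊤ : (Spec (CommRingCat.of A)).Opens)) (fun _ => isAffineOpen_top _)
    (fun x => ⟨(), trivial⟩) (fun _ => subsingleton_HHon_top A X M p h)

include A in
theorem exists_acyclic (M : QCoh X) :
    ∃ (M' : QCoh X) (u : M ⟶ M'), Mono u ∧ ∀ p : ℕ, 0 < p → Subsingleton (Coh.HH X M'.obj p) := by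
  haveI : CompactSpace X :=
    QuasiCompact.compactSpace_of_compactSpace (X ↘ Spec (CommRingCat.of A))
  haveI : Coh.IsQCoh M.obj := M.property
  obtain ⟨M', i, hi, hq, hv⟩ := Groth.Agent.S0011.result X
    (fun V W hV hW => Groth.Agent.Lib.Helper4.SepCover1.isAffineOpen_inf
      (X ↘ Spec (CommRingCat.of A)) hV hW) M.obj
  refine ⟨⟨M', hq⟩, (qc X).homMk i, ?_, hv⟩
  exact (qc X).ι.mono_of_mono_map hi

theorem T₁_effaceable : (T₁ A X).IsEffaceable := by
  intro n M
  obtain ⟨M', u, hu, hv⟩ := exists_acyclic A X M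
  refine ⟨M', u, hu, ?_⟩
  haveI : M'.obj.IsQuasicoherent := M'.property
  exact (isZero_rpush_of_acyclic A X M'.obj (n + 1) (hv _ (Nat.succ_pos n))).eq_of_tgt _ _

theorem T₂_effaceable : (T₂ A X).IsEffaceable := by
  intro n M
  obtain ⟨M', u, hu, hv⟩ := exists_acyclic A X M
  refine ⟨M', u, hu, ?_⟩
  haveI := hv _ (Nat.succ_pos n)
  have hz : IsZero ((HModF A X (n + 1)).obj M'.obj) :=
    @ModuleCat.isZero_of_subsingleton _ _ _ (hv _ (Nat.succ_pos n))
  exact ((tilde.functor (CommRingCat.of A)).map_isZero hz).eq_of_tgt _ _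

/-- **higher direct images to an affine base are the sheaves associated with cohomology modules,
naturally on quasi-coherent modules** -/
noncomputable def rpushTildeIso (n : ℕ) :
    (qc X).ι ⋙ Coh.Rpush (X ↘ Spec (CommRingCat.of A)) n ≅
      ((qc X).ι ⋙ HModF A X n) ⋙ tilde.functor (CommRingCat.of A) :=
  isoOfEffaceable (T₁ A X) (T₂ A X) (T₁_effaceable A X) (T₂_effaceable A X)
    (Functor.isoWhiskerLeft (qc X).ι
      (Scheme.Modules.pushforward (X ↘ Spec (CommRingCat.of A))).rightDerivedZeroIsoSelf ≪≫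
      e0 A X) n

end Efface

end Groth.Agent.Lib.Helper4.RpushTilde1
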