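import Mathlib
import Groth.Prelude.Def_ega3
import Groth.Agent.Lib.Helper4.RpushTilde1
import Groth.Agent.Lib.Helper4.ResRpush1
import Groth.Agent.Lib.Lead.FLF4

/-!
# Sections of a higher direct image over an affine open are the cohomology of the preimage (linear equivalence) (helper4)
-/

set_option backward.isDefEq.respectTransparency.types false
set_option synthInstance.maxHeartbeats 400000
set_option autoImplicit false
set_option linter.unusedSectionVars false
set_option linter.style.haveILetI false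
set_option linter.unusedSimpArgs false
universe u v w
open CategoryTheory
open CategoryTheory.Limits
open AlgebraicGeometry
open TopologicalSpace
open Opposite
open Groth.Agent.Helper1.RpushLoc
open Groth.Agent.Lib.Helper4.HModDelta1
open Groth.Agent.Lib.Helper4.QCohAb1
open Groth.Agent.Lib.Helper4.RpushTilde1
open Groth.Agent.Lib.Helper4.ResRpush1

namespace Groth.Agent.Lib.Helper4.RpushSec1

variable {X S : Scheme.{u}} (f : X ⟶ S) [IsSeparated f] [QuasiCompact f]
  [HasInjectiveResolutions X.Modules]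

/-- **sections of a higher direct image over an affine open are the cohomology of the preimage** -/
theorem nonempty_sections_equiv (M : X.Modules) [M.IsQuasicoherent] {V : S.Opens}
    (hV : IsAffineOpen V) (n : ℕ) :
    letI : (↑(f ⁻¹ᵁ V) : Scheme.{u}).Over (Spec (CommRingCat.of Γ(S, V))) := ⟨strMap f hV⟩
    Nonempty (Γ((Coh.Rpush f n).obj M, V) ≃ₗ[Γ(S, V)]
      Coh.HH (↑(f ⁻¹ᵁ V)) (M.restrict (f ⁻¹ᵁ V).ι) n) := by
  letI : (↑(f ⁻¹ᵁ V) : Scheme.{u}).Over (Spec (CommRingCat.of Γ(S, V))) := ⟨strMap f hV⟩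
  haveI : EnoughInjectives (↑(f ⁻¹ᵁ V) : Scheme.{u}).Modules :=
    Groth.Agent.S0485.result _ (↑(f ⁻¹ᵁ V) : Scheme.{u}).ringCatSheaf
  haveI : HasInjectiveResolutions (↑(f ⁻¹ᵁ V) : Scheme.{u}).Modules := inferInstance
  haveI : IsSeparated ((↑(f ⁻¹ᵁ V) : Scheme.{u}) ↘ Spec (CommRingCat.of Γ(S, V))) := by
    change IsSeparated (strMap f hV)
    unfold strMap
    infer_instance
  haveI : QuasiCompact ((↑(f ⁻¹ᵁ V) : Scheme.{u}) ↘ Spec (CommRingCat.of Γ(S, V))) := by
    change QuasiCompact (strMap f hV)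
    unfold strMap
    infer_instance
  haveI : (M.restrict (f ⁻¹ᵁ V).ι).IsQuasicoherent := inferInstance
  obtain ⟨e1⟩ := nonempty_resRpushIso f hV M n
  let e2 := (rpushTildeIso Γ(S, V) (↑(f ⁻¹ᵁ V) : Scheme.{u}) n).app
    (mkQ _ (M.restrict (f ⁻¹ᵁ V).ι))
  let H : ModuleCat Γ(S, V) := (HModF Γ(S, V) (↑(f ⁻¹ᵁ V) : Scheme.{u}) n).obj (M.restrict (f ⁻¹ᵁ V).ι)
  let e3 : ((Coh.Rpush f n).obj M).restrict hV.fromSpec ≅ (tilde.functor (CommRingCat.of Γ(S, V))).obj H :=
    e1 ≪≫ e2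
  let e4 := (moduleSpecΓFunctor (R := CommRingCat.of Γ(S, V))).mapIso e3
  let e5 := (tilde.toTildeΓNatIso (R := CommRingCat.of Γ(S, V))).app H
  exact ⟨(Groth.Agent.Lead.FLF.sectionsLinearEquiv hV ((Coh.Rpush f n).obj M)).symm ≪≫ₗ
    e4.toLinearEquiv ≪≫ₗ e5.symm.toLinearEquiv⟩

end Groth.Agent.Lib.Helper4.RpushSec1
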