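import Mathlib
import Groth.Prelude.Def_ega3
import Groth.Agent.Lib.Helper4.RpushSec1
import Groth.Agent.Lib.Helper1.CohRestr
import Groth.Agent.Lib.Helper5.RpushCl.RpushClassic
import Groth.Agent.S0002

/-!
# Coherence of higher direct images along proper morphisms (helper4)
-/

set_option backward.isDefEq.respectTransparency.types false
set_option synthInstance.maxHeartbeats 400000
set_option autoImplicit false
set_option linter.unusedSectionVars false
set_option linter.style.haveILetI false
set_option linter.unusedSimpArgs false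
universe u v w
open CategoryTheory
open CategoryTheory.Limits
open AlgebraicGeometry
open TopologicalSpace
open Opposite
open Groth.Agent.Helper1.RpushLoc
open Groth.Agent.Lib.Helper4.RpushSec1

namespace Groth.Agent.Lib.Helper4.RpushCoh1

variable {X S : Scheme.{u}} (f : X ⟶ S)

theorem isProper_strMap [IsProper f] {V : S.Opens} (hV : IsAffineOpen V) :
    IsProper (strMap f hV) := by
  unfold strMap
  infer_instance

/-- higher direct images of coherent modules along proper morphisms are coherent -/
theorem s0036 [IsProper f] [IsLocallyNoetherian S] [HasInjectiveResolutions X.Modules]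
    (M : X.Modules) (hM : Coh.IsCoh M) (i : ℕ) : Coh.IsCoh ((Coh.Rpush f i).obj M) := by
  haveI : M.IsQuasicoherent := hM.1
  haveI : ((Coh.Rpush f i).obj M).IsQuasicoherent :=
    Groth.Agent.Lib.Helper5.RpushClassic.isQuasicoherent_rpush f M i
  refine ⟨inferInstance, Groth.Agent.Helper1.FinPush.isFiniteType_of_finite_sections _ ?_⟩
  intro V hV
  letI : (↑(f ⁻¹ᵁ V) : Scheme.{u}).Over (Spec (CommRingCat.of Γ(S, V))) := ⟨strMap f hV⟩
  haveI : IsProper ((↑(f ⁻¹ᵁ V) : Scheme.{u}) ↘ Spec (CommRingCat.of Γ(S, V))) :=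
    isProper_strMap f hV
  haveI : IsNoetherianRing Γ(S, V) := IsLocallyNoetherian.component_noetherian ⟨V, hV⟩
  obtain ⟨e⟩ := nonempty_sections_equiv f M hV i
  haveI : Module.Finite Γ(S, V) (Coh.HH (↑(f ⁻¹ᵁ V)) (M.restrict (f ⁻¹ᵁ V).ι) i) :=
    Groth.Agent.S0002.result Γ(S, V) (↑(f ⁻¹ᵁ V) : Scheme.{u}) (M.restrict (f ⁻¹ᵁ V).ι)
      (Groth.Agent.Helper1.FinPush.isCoh_restrict _ M hM) i
  exact Module.Finite.equiv e.symm

end Groth.Agent.Lib.Helper4.RpushCoh1
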