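import Mathlib
import Groth.Prelude.Def_ega3
import Groth.Agent.Lib.Helper4.ChartFib1
import Groth.Agent.Lib.Helper4.RpushSec1
import Groth.Agent.Lib.Helper4.RpushCoh1
import Groth.Agent.Lib.Helper4.GrauertAlg1

/-!
# The chart package: over an affine open of the base, higher direct images and fibre cohomology of a flat coherent module along a proper morphism are computed by one complex of finite free modules (helper4)
-/

set_option backward.isDefEq.respectTransparency.types false
set_option synthInstance.maxHeartbeats 400000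
set_option autoImplicit false
set_option linter.unusedSectionVars false
set_option linter.style.haveILetI false
set_option linter.unusedSimpArgs false
universe u v w
open CategoryTheory
open CategoryTheory.Limits
open AlgebraicGeometry
open TopologicalSpace
open Opposite
open TensorProduct
open MonoidalCategory
open Groth.Agent.Helper1.FlatCxL
open Groth.Agent.Helper1.RpushLoc
open Groth.Agent.Lib.Helper4.RedRank1
open Groth.Agent.Lib.Helper4.SemiRank1
open Groth.Agent.Lib.Helper4.FibLin1
open Groth.Agent.Lib.Helper4.FibSurj1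
open Groth.Agent.Lib.Helper4.FibRank1
open Groth.Agent.Lib.Helper4.TenSec2
open Groth.Agent.Lib.Helper4.AlgFib1
open Groth.Agent.Lib.Helper4.ExchAlg1
open Groth.Agent.Lib.Helper4.ExchAlg2
open Groth.Agent.Lib.Helper4.CechTen1
open Groth.Agent.Lib.Helper4.CechTen2
open Groth.Agent.Lib.Helper4.CechTen3
open Groth.Agent.Lib.Helper4.BCSec2
open Groth.Agent.Lib.Helper4.MumBC1
open Groth.Agent.Lib.Helper4.MumBC2
open Groth.Agent.Lib.Helper4.TruncAlg1
open Groth.Agent.Lib.Helper4.ChartSq1
open Groth.Agent.Lib.Helper4.ChartFib1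
open Groth.Agent.Lib.Helper4.RpushSec1
open Groth.Agent.Lib.Helper4.RpushCoh1
open Groth.Agent.Lib.Helper4.GrauertAlg1

namespace Groth.Agent.Lib.Helper4.ChartPkg1

section Gen
variable {A : Type u} [CommRing A] [IsNoetherianRing A] {X : Scheme.{u}}
  [X.Over (Spec (CommRingCat.of A))] [IsProper (X ↘ Spec (CommRingCat.of A))]
  {F : X.Modules} (D : MData A X F)

attribute [local instance] Groth.Agent.Lib.Helper4.TenSec2.secMod

/-- the cohomology of `F` is the homology of Mumford's complex -/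
noncomputable def MData.homEquiv [F.IsQuasicoherent] (p : ℕ) :
    D.K.homology (p : ℤ) ≃ₗ[A] Coh.HH X F p :=
  haveI := D.fin
  haveI := D.hq
  (isoOfQuasiIsoAt D.α (p : ℤ)).toLinearEquiv ≪≫ₗ
    ((CAN A F D.U).extendHomologyIso ComplexShape.embeddingUpNat
      (j := p) (j' := (p : ℤ)) rfl).toLinearEquiv ≪≫ₗ
    linHH A F D.U D.haff D.hcov p

variable {L : Type u} [Field L] (φ : A →+* L)
  {X' : Scheme.{u}} [X'.Over (Spec (CommRingCat.of L))] (g : X' ⟶ X)
  (hsq : IsPullback g (X' ↘ Spec (CommRingCat.of L)) (X ↘ Spec (CommRingCat.of A))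
      (Spec.map (CommRingCat.ofHom φ)))

/-- the cohomology of a base change to a field-valued point is `T^p` of the field -/
noncomputable def MData.squareEquiv [F.IsQuasicoherent] (p : ℕ) :
    Coh.HH X' (Fp g F) p ≃+
      (CohIII.TFun D.K (p : ℤ)).obj ((ModuleCat.restrictScalars φ).obj (ModuleCat.of L L)) :=
  haveI := D.fin
  (hhBC φ g F D.U hsq D.haff D.hcov p).trans
    ((D.eK (p : ℤ)).app (rs φ (𝟙_ (ModuleCat.{u} L)))).symm.toLinearEquiv.toAddEquiv

end Gen

section Chart
variable {X S : Scheme.{u}} (f : X ⟶ S) [IsProper f] [IsLocallyNoetherian S]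
  [HasInjectiveResolutions X.Modules]
  (F : X.Modules) (hF : Coh.IsCoh F) (hfl : FlatMod.IsFlatOver f F) {V : S.Opens}
  (hV : IsAffineOpen V)

include hF hfl in
/-- **the chart package**: over an affine open `V` of the base, the higher direct images, the
fibre ranks and the vanishing of fibre cohomology are all computed by one bounded above complex of
finite free `Γ(V)`-modules -/
theorem exists_chart_complex :
    ∃ K : CochainComplex (ModuleCat.{u} Γ(S, V)) ℤ,
      (∀ i, Module.Finite Γ(S, V) (K.X i) ∧ Module.Free Γ(S, V) (K.X i)) ∧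
      (∀ i : ℤ, i < 0 → UVan K i) ∧
      (∃ b : ℤ, ∀ i, b < i → IsZero (K.X i)) ∧
      (∀ p : ℕ, Nonempty (Γ((Coh.Rpush f p).obj F, V) ≃ₗ[Γ(S, V)] K.homology (p : ℤ))) ∧
      (∀ (p : ℕ) (y' : ↑(Spec (CommRingCat.of Γ(S, V)))),
        CohIII.fiberRank f F p (hV.fromSpec y') + fibreRank (K.X ((p : ℤ) + 1)) y' =
          fibreRank (Wq K ((p : ℤ) - 1) (p : ℤ)) y' +
            fibreRank (Wq K (p : ℤ) ((p : ℤ) + 1)) y') ∧
      (∀ (p : ℕ) (y' : ↑(Spec (CommRingCat.of Γ(S, V)))),
        Subsingleton (CohIII.fiberH f F (hV.fromSpec y') p) ↔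
          Subsingleton ((CohIII.TFun K (p : ℤ)).obj
            ((ModuleCat.restrictScalars (phiV hV y')).obj
              (ModuleCat.of (S.residueField (hV.fromSpec y'))
                (S.residueField (hV.fromSpec y')))))) := by
  letI : (↑(f ⁻¹ᵁ V) : Scheme.{u}).Over (Spec (CommRingCat.of Γ(S, V))) := ⟨strMap f hV⟩
  haveI : IsProper ((↑(f ⁻¹ᵁ V) : Scheme.{u}) ↘ Spec (CommRingCat.of Γ(S, V))) :=
    isProper_strMap f hV
  haveI : IsNoetherianRing Γ(S, V) := IsLocallyNoetherian.component_noetherian ⟨V, hV⟩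
  haveI : F.IsQuasicoherent := hF.1
  have hFV : Coh.IsCoh (F.restrict (f ⁻¹ᵁ V).ι) :=
    Groth.Agent.Helper1.FinPush.isCoh_restrict _ F hF
  haveI : (F.restrict (f ⁻¹ᵁ V).ι).IsQuasicoherent := hFV.1
  have hflV : FlatMod.IsFlatOver ((↑(f ⁻¹ᵁ V) : Scheme.{u}) ↘ Spec (CommRingCat.of Γ(S, V)))
      (F.restrict (f ⁻¹ᵁ V).ι) := isFlatOver_restrict f hV F hfl
  obtain ⟨D⟩ := nonempty_mdata Γ(S, V) (↑(f ⁻¹ᵁ V) : Scheme.{u}) (F.restrict (f ⁻¹ᵁ V).ι) hFV hflV
  refine ⟨D.K, D.hff, D.hneg, ⟨D.b, D.hb⟩, fun p => ?_, fun p y' => ?_, fun p y' => ?_⟩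
  · obtain ⟨e⟩ := nonempty_sections_equiv f F hV p
    exact ⟨e ≪≫ₗ (MData.homEquiv D p).symm⟩
  · obtain ⟨g, hg1, hsq⟩ := exists_fibre_square f hV y'
    letI : (f.fiber (hV.fromSpec y')).Over
        (Spec (CommRingCat.of (S.residueField (hV.fromSpec y')))) :=
      CohIII.fiberOver f (hV.fromSpec y')
    rw [fiberRank_eq_chart f hV y' F g hg1 p]
    exact MData.rank_add_of_square D (phiV hV y') (hfrac_phiV hV y') g hsq y' (ker_phiV hV y') p
  · obtain ⟨g, hg1, hsq⟩ := exists_fibre_square f hV y'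
    letI : (f.fiber (hV.fromSpec y')).Over
        (Spec (CommRingCat.of (S.residueField (hV.fromSpec y')))) :=
      CohIII.fiberOver f (hV.fromSpec y')
    let e1 := ((Groth.Agent.Lib.Helper4.HModDelta1.HModF (S.residueField (hV.fromSpec y'))
      (f.fiber (hV.fromSpec y')) p).mapIso (fibModIso f hV y' F g hg1)).toLinearEquiv
    let e2 := MData.squareEquiv D (phiV hV y') g hsq p
    exact ⟨fun h => @Function.Injective.subsingleton _ _ _
        (e2.symm.trans e1.toAddEquiv).injective h,
      fun h => @Function.Injective.subsingleton _ _ _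
        (e1.toAddEquiv.symm.trans e2).injective h⟩

end Chart

end Groth.Agent.Lib.Helper4.ChartPkg1
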