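import Mathlib
import Groth.Prelude.Def_ega3
import Groth.Agent.Lib.Helper4.ChartPkg1
import Groth.Agent.Lib.Lead.SL1
import Groth.Agent.Lib.Lead.FLF4
import Groth.Agent.Lib.Helper5.RpushCl.RpushClassic

/-!
# Grauert's theorem: locally constant fibre rank over a reduced base gives locally free higher direct images (helper4)
-/

set_option backward.isDefEq.respectTransparency.types false
set_option synthInstance.maxHeartbeats 400000
set_option autoImplicit false
set_option linter.unusedSectionVars false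
set_option linter.style.haveILetI false
set_option linter.unusedSimpArgs false
universe u v w
open CategoryTheory
open CategoryTheory.Limits
open AlgebraicGeometry
open TopologicalSpace
open Opposite
open TensorProduct
open Topology
open Groth.Agent.Helper1.FlatCxL
open Groth.Agent.Lib.Helper4.RedRank1
open Groth.Agent.Lib.Helper4.FibRank1
open Groth.Agent.Lib.Helper4.ExchAlg1
open Groth.Agent.Lib.Helper4.ExchAlg2
open Groth.Agent.Lib.Helper4.TruncAlg1
open Groth.Agent.Lib.Helper4.ChartFib1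
open Groth.Agent.Lib.Helper4.ChartPkg1
open Groth.Agent.Lib.Helper4.GrauertAlg1

namespace Groth.Agent.Lib.Helper4.Grauert1

section Chart
variable {X S : Scheme.{u}} (f : X ⟶ S) [IsProper f] [IsLocallyNoetherian S]
  [HasInjectiveResolutions X.Modules]
  (F : X.Modules) (hF : Coh.IsCoh F) (hfl : FlatMod.IsFlatOver f F) {V : S.Opens}
  (hV : IsAffineOpen V)

include hF hfl in
/-- Grauert's theorem on a chart -/
theorem grauert_chart [IsReduced S] (p : ℕ)
    (hconst : IsLocallyConstant (CohIII.fiberRank f F p)) :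
    Module.Finite Γ(S, V) Γ((Coh.Rpush f p).obj F, V) ∧
      Module.Projective Γ(S, V) Γ((Coh.Rpush f p).obj F, V) ∧
      ∀ y' : ↑(Spec (CommRingCat.of Γ(S, V))),
        fibreRank Γ((Coh.Rpush f p).obj F, V) y' = CohIII.fiberRank f F p (hV.fromSpec y') := by
  haveI : IsNoetherianRing Γ(S, V) := IsLocallyNoetherian.component_noetherian ⟨V, hV⟩
  haveI : IsReduced Γ(S, V) := inferInstance
  obtain ⟨K, hff, hneg, ⟨b, hb⟩, hsec, hrank, hvan⟩ := exists_chart_complex f F hF hfl hV
  haveI : ∀ i, Module.Finite Γ(S, V) (K.X i) := fun i => (hff i).1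
  haveI : ∀ i, Module.Free Γ(S, V) (K.X i) := fun i => (hff i).2
  have hρ : IsLocallyConstant (fibreRank (A := Γ(S, V)) (K.X ((p : ℤ) + 1))) := by
    have : fibreRank (A := Γ(S, V)) (K.X ((p : ℤ) + 1)) =
        fun _ => Module.finrank Γ(S, V) (K.X ((p : ℤ) + 1)) := funext fun x => fibreRank_free _ x
    rw [this]
    exact IsLocallyConstant.const _
  have hh : IsLocallyConstant (fun y' : PrimeSpectrum Γ(S, V) =>
      CohIII.fiberRank f F p (hV.fromSpec y')) :=
    hconst.comp_continuous hV.fromSpec.continuous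
  obtain ⟨hl1, hl2⟩ := isLocallyConstant_of_add
    (fibreRank (A := Γ(S, V)) (Wq K ((p : ℤ) - 1) (p : ℤ)))
    (fibreRank (A := Γ(S, V)) (Wq K (p : ℤ) ((p : ℤ) + 1)))
    (fun y' : PrimeSpectrum Γ(S, V) => CohIII.fiberRank f F p (hV.fromSpec y'))
    (fibreRank (A := Γ(S, V)) (K.X ((p : ℤ) + 1)))
    (fun x₀ => eventually_fibreRank_le _ x₀) (fun x₀ => eventually_fibreRank_le _ x₀)
    hh hρ (fun y => hrank p y)
  haveI f1 : Module.Flat Γ(S, V) (Wq K ((p : ℤ) - 1) (p : ℤ)) :=
    flat_of_isLocallyConstant_fibreRank _ hl1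
  haveI f2 : Module.Flat Γ(S, V) (Wq K (p : ℤ) ((p : ℤ) + 1)) :=
    flat_of_isLocallyConstant_fibreRank _ hl2
  obtain ⟨h1, h2, h3⟩ := projective_homology K ((p : ℤ) - 1) (p : ℤ) ((p : ℤ) + 1) (by omega) rfl
  obtain ⟨e⟩ := hsec p
  refine ⟨Module.Finite.equiv e.symm, Module.Projective.of_equiv e.symm, fun y' => ?_⟩
  have := h3 y'
  have := hrank p y'
  rw [fibreRank_congr e y']
  omega

end Chart

section Sheaf
variable {S : Scheme.{u}} (M : S.Modules) [M.IsQuasicoherent] (r : S → ℕ)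

/-- from chartwise finite projectivity with known fibre ranks to local freeness of known rank -/
theorem locFree_of_charts
    (h : ∀ (V : S.Opens) (hV : IsAffineOpen V), Module.Finite Γ(S, V) Γ(M, V) ∧
      Module.Projective Γ(S, V) Γ(M, V) ∧
      ∀ y' : ↑(Spec (CommRingCat.of Γ(S, V))), fibreRank Γ(M, V) y' = r (hV.fromSpec y')) :
    FlatMod.IsFinLocFree M ∧ ∀ y : S, ∃ U : S.Opens, y ∈ U ∧
      Nonempty (M.restrict U.ι ≅ FlatMod.freeMod (↑U) (r y)) := by
  have haff : ∀ x : S, ∃ V : S.Opens, IsAffineOpen V ∧ x ∈ V := by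
    intro x
    obtain ⟨_, ⟨W, hW, rfl⟩, hxW, -⟩ := S.isBasis_affineOpens.exists_subset_of_mem_open
      (Set.mem_univ x) isOpen_univ
    exact ⟨W, hW, hxW⟩
  constructor
  · apply Groth.Agent.Lead.FLF.isFinLocFree_of_affine_nhds
    intro x
    obtain ⟨V, hV, hxV⟩ := haff x
    exact ⟨V, hV, hxV, (h V hV).1, (h V hV).2.1⟩
  · intro y
    obtain ⟨V, hV, hyV⟩ := haff y
    obtain ⟨h1, h2, h3⟩ := h V hV
    let y' : PrimeSpectrum Γ(S, V) := hV.primeIdealOf ⟨y, hyV⟩
    have hy' : hV.fromSpec y' = y := hV.fromSpec_primeIdealOf ⟨y, hyV⟩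
    have hr : Module.rankAtStalk Γ(M, V) y' = r y := by
      rw [Module.rankAtStalk_eq y']
      have := h3 y'
      rw [hy'] at this
      exact this
    obtain ⟨g, hg, ⟨b⟩⟩ := Groth.Agent.Lead.SL.exists_away_basis Γ(M, V) (r y) {y'}
      (Set.finite_singleton _) (by
        intro q hq
        rw [Set.mem_singleton_iff] at hq
        rw [hq]
        exact hr)
    refine ⟨S.basicOpen g, ?_, Groth.Agent.Lead.SL.free_basicOpen_of_basis M hV g (r y) b⟩
    have h4 : y' ∈ hV.fromSpec ⁻¹ᵁ S.basicOpen g := by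
      rw [hV.fromSpec_preimage_basicOpen]
      exact hg y' rfl
    have h5 : hV.fromSpec y' ∈ S.basicOpen g := h4
    rw [hy'] at h5
    exact h5

end Sheaf

section Main

theorem s2391 {X Y : Scheme.{u}} (f : X ⟶ Y) [IsProper f] [IsLocallyNoetherian Y]
    (F : X.Modules) (hF : Coh.IsCoh F) (hfl : FlatMod.IsFlatOver f F) [IsReduced Y]
    [HasInjectiveResolutions X.Modules] (p : ℕ) (hconst : IsLocallyConstant (CohIII.fiberRank f F p)) :
    FlatMod.IsFinLocFree ((Coh.Rpush f p).obj F) ∧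
      ∀ y : Y, ∃ U : Y.Opens, y ∈ U ∧
        Nonempty (((Coh.Rpush f p).obj F).restrict U.ι ≅ FlatMod.freeMod (↑U) (CohIII.fiberRank f F p y)) := by
  haveI : F.IsQuasicoherent := hF.1
  haveI : ((Coh.Rpush f p).obj F).IsQuasicoherent :=
    Groth.Agent.Lib.Helper5.RpushClassic.isQuasicoherent_rpush f F p
  exact locFree_of_charts _ (CohIII.fiberRank f F p)
    (fun V hV => grauert_chart f F hF hfl hV p hconst)

end Main

end Groth.Agent.Lib.Helper4.Grauert1
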