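import Mathlib
import Groth.Prelude.Def_ega3
import Groth.Agent.Lib.Helper4.Grauert1

/-!
# Cohomology concentrated in one degree on the fibres gives a locally free higher direct image (helper4)
-/

set_option backward.isDefEq.respectTransparency.types false
set_option synthInstance.maxHeartbeats 400000
set_option autoImplicit false
set_option linter.unusedSectionVars false
set_option linter.style.haveILetI false
set_option linter.unusedSimpArgs false
universe u v w
open CategoryTheory
open CategoryTheory.Limits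
open AlgebraicGeometry
open TopologicalSpace
open Opposite
open TensorProduct
open Topology
open Groth.Agent.Helper1.FlatCxL
open Groth.Agent.Lib.Helper4.RedRank1
open Groth.Agent.Lib.Helper4.FibRank1
open Groth.Agent.Lib.Helper4.ExchAlg1
open Groth.Agent.Lib.Helper4.ExchAlg2
open Groth.Agent.Lib.Helper4.TruncAlg1
open Groth.Agent.Lib.Helper4.AlgFib1
open Groth.Agent.Lib.Helper4.LocAlg1
open Groth.Agent.Lib.Helper4.ChartFib1
open Groth.Agent.Lib.Helper4.ChartPkg1
open Groth.Agent.Lib.Helper4.GrauertAlg1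
open Groth.Agent.Lib.Helper4.Grauert1

namespace Groth.Agent.Lib.Helper4.Grauert2

section Alg
variable {A : Type u} [CommRing A] (K : CochainComplex (ModuleCat.{u} A) ℤ)
variable (p q r : ℤ) (hpq : p + 1 = q) (hqr : q + 1 = r)

theorem fibVan_of_uvan (h : UVan K q) : FibVan K q := by
  intro m hm
  letI := Ideal.Quotient.field m
  refine ⟨A ⧸ m, inferInstance, Ideal.Quotient.mk m, Ideal.mk_ker, ?_⟩
  exact ModuleCat.subsingleton_of_isZero (h _)

include hpq hqr in
/-- fibrewise vanishing of `T^q` makes both neighbouring cokernels flat and the induced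
differential injective -/
theorem flat_W_of_fibVan [IsNoetherianRing A] [Module.Finite A (K.X q)] [Module.Flat A (K.X q)]
    [Module.Finite A (K.X r)] [Module.Projective A (K.X r)] (hf : FibVan K q) :
    Module.Flat A (Wq K p q) ∧ Module.Flat A (Wq K q r) ∧ Function.Injective (dbar K p q r) := by
  have hfib : ∀ (m : Ideal A) [m.IsMaximal], ∃ (κ : Type u) (_ : Field κ) (ψ : A →+* κ),
      RingHom.ker ψ = m ∧ (letI : Module A κ := Module.compHom κ ψ
        Function.Injective ((dbar K p q r).lTensor κ)) := by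
    intro m hm
    obtain ⟨κ, hκ, ψ, hψ, hsub⟩ := hf m
    refine ⟨κ, hκ, ψ, hψ, ?_⟩
    letI : Module A κ := Module.compHom κ ψ
    rw [LinearMap.lTensor_inj_iff_rTensor_inj]
    have hker : KerM K p q r ((ModuleCat.restrictScalars ψ).obj (ModuleCat.of κ κ)) = ⊥ :=
      kerM_eq_bot K p q r hpq hqr _ hsub
    exact LinearMap.ker_eq_bot.1 hker
  obtain ⟨hflat, hinj⟩ := flat_coker_of_fibers (dbar K p q r) hfib
  haveI : Module.Flat A (K.X r ⧸ LinearMap.range (dbar K p q r)) := hflat
  haveI : Module.Flat A (LinearMap.range (dbar K p q r)) := by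
    have h1 := Groth.Agent.Helper5.FlatAcyc.flat_ker (LinearMap.range (dbar K p q r)).mkQ
      (Submodule.mkQ_surjective _)
    rw [Submodule.ker_mkQ] at h1
    exact h1
  refine ⟨Module.Flat.of_linearEquiv (LinearEquiv.ofInjective (dbar K p q r) hinj), ?_, hinj⟩
  exact Module.Flat.of_linearEquiv (Submodule.quotEquivOfEq _ _ (range_dbar K p q r)).symm

end Alg

section Chart
variable {X S : Scheme.{u}} (f : X ⟶ S) [IsProper f] [IsLocallyNoetherian S]
  [HasInjectiveResolutions X.Modules]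
  (F : X.Modules) (hF : Coh.IsCoh F) (hfl : FlatMod.IsFlatOver f F) {V : S.Opens}
  (hV : IsAffineOpen V)

/-- fibrewise vanishing at the points of the chart gives `FibVan` for the chart complex -/
theorem fibVan_of_chart {K : CochainComplex (ModuleCat.{u} Γ(S, V)) ℤ} (p : ℕ)
    (hvan : ∀ (y' : ↑(Spec (CommRingCat.of Γ(S, V)))),
        Subsingleton (CohIII.fiberH f F (hV.fromSpec y') p) ↔
          Subsingleton ((CohIII.TFun K (p : ℤ)).obj
            ((ModuleCat.restrictScalars (phiV hV y')).obj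
              (ModuleCat.of (S.residueField (hV.fromSpec y'))
                (S.residueField (hV.fromSpec y'))))))
    (h : ∀ y : S, Subsingleton (CohIII.fiberH f F y p)) : FibVan K (p : ℤ) := by
  intro m hm
  let y' : ↑(Spec (CommRingCat.of Γ(S, V))) := ⟨m, hm.isPrime⟩
  exact ⟨S.residueField (hV.fromSpec y'), inferInstance, phiV hV y', ker_phiV hV y',
    (hvan y').1 (h _)⟩

include hF hfl in
theorem concentrated_chart (i0 : ℕ)
    (hconc : ∀ y : S, ∀ i : ℕ, i ≠ i0 → Subsingleton (CohIII.fiberH f F y i)) :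
    Module.Finite Γ(S, V) Γ((Coh.Rpush f i0).obj F, V) ∧
      Module.Projective Γ(S, V) Γ((Coh.Rpush f i0).obj F, V) ∧
      ∀ y' : ↑(Spec (CommRingCat.of Γ(S, V))),
        fibreRank Γ((Coh.Rpush f i0).obj F, V) y' = CohIII.fiberRank f F i0 (hV.fromSpec y') := by
  haveI : IsNoetherianRing Γ(S, V) := IsLocallyNoetherian.component_noetherian ⟨V, hV⟩
  obtain ⟨K, hff, hneg, ⟨b, hb⟩, hsec, hrank, hvan⟩ := exists_chart_complex f F hF hfl hV
  haveI : ∀ i, Module.Finite Γ(S, V) (K.X i) := fun i => (hff i).1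
  haveI : ∀ i, Module.Free Γ(S, V) (K.X i) := fun i => (hff i).2
  -- the cokernel above
  have hf2 : FibVan K ((i0 : ℤ) + 1) := by
    have := fibVan_of_chart f F hV (i0 + 1) (hvan (i0 + 1)) (fun y => hconc y (i0 + 1) (by omega))
    rw [Nat.cast_add, Nat.cast_one] at this
    exact this
  haveI f2 : Module.Flat Γ(S, V) (Wq K (i0 : ℤ) ((i0 : ℤ) + 1)) :=
    (flat_W_of_fibVan K (i0 : ℤ) ((i0 : ℤ) + 1) ((i0 : ℤ) + 1 + 1) rfl rfl hf2).1
  -- the cokernel below
  have hf1 : FibVan K ((i0 : ℤ) - 1) := by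
    rcases Nat.eq_zero_or_pos i0 with h0 | h0
    · subst h0
      exact fibVan_of_uvan K _ (hneg _ (by norm_num))
    · obtain ⟨j, rfl⟩ := Nat.exists_eq_succ_of_ne_zero (by omega : i0 ≠ 0)
      have := fibVan_of_chart f F hV j (hvan j) (fun y => hconc y j (by omega))
      have e : ((j + 1 : ℕ) : ℤ) - 1 = (j : ℤ) := by push_cast; ring
      rw [e]
      exact this
  haveI f1 : Module.Flat Γ(S, V) (Wq K ((i0 : ℤ) - 1) (i0 : ℤ)) := by
    have h := (flat_W_of_fibVan K ((i0 : ℤ) - 1 - 1) ((i0 : ℤ) - 1) ((i0 : ℤ) - 1 + 1) (by ring) rfl hf1).2.1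
    have e : (i0 : ℤ) - 1 + 1 = (i0 : ℤ) := by ring
    rw [e] at h
    exact h
  obtain ⟨h1, h2, h3⟩ := projective_homology K ((i0 : ℤ) - 1) (i0 : ℤ) ((i0 : ℤ) + 1) (by omega) rfl
  obtain ⟨e⟩ := hsec i0
  refine ⟨Module.Finite.equiv e.symm, Module.Projective.of_equiv e.symm, fun y' => ?_⟩
  have := h3 y'
  have := hrank i0 y'
  rw [fibreRank_congr e y']
  omega

end Chart

section Main

theorem s2389 {X Y : Scheme.{u}} (f : X ⟶ Y) [IsProper f] [IsLocallyNoetherian Y]
    (F : X.Modules) (hF : Coh.IsCoh F) (hfl : FlatMod.IsFlatOver f F)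
    [HasInjectiveResolutions X.Modules] (i0 : ℕ)
    (hconc : ∀ y : Y, ∀ i : ℕ, i ≠ i0 → Subsingleton (CohIII.fiberH f F y i)) :
    FlatMod.IsFinLocFree ((Coh.Rpush f i0).obj F) ∧
      ∀ y : Y, ∃ U : Y.Opens, y ∈ U ∧
        Nonempty (((Coh.Rpush f i0).obj F).restrict U.ι ≅ FlatMod.freeMod (↑U) (CohIII.fiberRank f F i0 y)) := by
  haveI : F.IsQuasicoherent := hF.1
  haveI : ((Coh.Rpush f i0).obj F).IsQuasicoherent :=
    Groth.Agent.Lib.Helper5.RpushClassic.isQuasicoherent_rpush f F i0
  exact locFree_of_charts _ (CohIII.fiberRank f F i0)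
    (fun V hV => concentrated_chart f F hF hfl hV i0 hconc)

end Main

end Groth.Agent.Lib.Helper4.Grauert2
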