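import Mathlib
import Groth.Prelude.Def_Coh
import Groth.Prelude.Def_CohB1
import Groth.Prelude.Def_Pic
import Groth.Prelude.Def_CurvBase
import Groth.Prelude.Def_ega3
import Groth.Prelude.Def_LCI2
import Groth.Prelude.Def_SecTwist
import Groth.Prelude.Def_FlatMod2
import Groth.Agent.Lib.Helper4.DvrBetti1
import Groth.Agent.Lib.Helper4.FlatHom1
import Groth.Agent.Lib.Helper4.Grauert2
import Groth.Agent.Lib.Helper1.GV1

/-!
# Projectivity of H^0 from projectivity of H^1 for flat families over a Noetherian ring with one-dimensional fibres (helper4)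
-/

set_option backward.isDefEq.respectTransparency.types false
set_option synthInstance.maxHeartbeats 400000
set_option autoImplicit false
set_option linter.unusedSectionVars false
set_option linter.style.haveILetI false
set_option linter.unusedSimpArgs false
universe u v w
open CategoryTheory
open CategoryTheory.Limits
open AlgebraicGeometry
open TopologicalSpace
open Opposite
open TensorProduct
open MonoidalCategory
open Groth.Agent.Lib.Helper4.ExchAlg1
open Groth.Agent.Lib.Helper4.ExchAlg2
open Groth.Agent.Lib.Helper4.TruncAlg1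
open Groth.Agent.Lib.Helper4.GrauertAlg1
open Groth.Agent.Lib.Helper4.Grauert2
open Groth.Agent.Lib.Helper4.MumBC2
open Groth.Agent.Lib.Helper4.FlatHom1
open Groth.Agent.Lib.Helper4.DvrBetti1

namespace Groth.Agent.Lib.Helper4.RelCurveProj1

section Alg
variable {A : Type u} [CommRing A] (K : CochainComplex (ModuleCat.{u} A) ℤ)

/-- one descending step for flatness of the cokernels, with hypotheses in the relevant degrees
only -/
theorem flat_Wq_step' (p q r : ℤ) (hpq : p + 1 = q) (hqr : q + 1 = r)
    [Module.Flat A (K.X r)] [Module.Flat A (K.homology q)]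
    [Module.Flat A (Wq K q r)] : Module.Flat A (Wq K p q) := by
  haveI : Module.Flat A (Bq K q r) := by
    haveI := Groth.Agent.Helper5.FlatAcyc.flat_ker (mkW K q r) (Submodule.mkQ_surjective _)
    exact Module.Flat.of_linearEquiv (LinearEquiv.ofEq _ _ (Submodule.ker_mkQ (Bq K q r))).symm
  haveI : Module.Flat A (LinearMap.range (dbar K p q r)) := by
    rw [range_dbar]
    infer_instance
  haveI : Module.Flat A (LinearMap.ker (dbar K p q r)) :=
    Module.Flat.of_linearEquiv (homEquivKer K p q r hpq hqr).symm
  exact flat_of_ker_range (dbar K p q r)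

/-- the homology is flat when the two neighbouring cokernels are flat -/
theorem flat_homology_of_flat_Wq (p q r : ℤ) (hpq : p + 1 = q) (hqr : q + 1 = r)
    [Module.Flat A (K.X r)] [Module.Flat A (Wq K p q)] [Module.Flat A (Wq K q r)] :
    Module.Flat A (K.homology q) := by
  haveI : Module.Flat A (Bq K q r) := by
    haveI := Groth.Agent.Helper5.FlatAcyc.flat_ker (mkW K q r) (Submodule.mkQ_surjective _)
    exact Module.Flat.of_linearEquiv (LinearEquiv.ofEq _ _ (Submodule.ker_mkQ (Bq K q r))).symm
  haveI := (Groth.Agent.Helper5.FlatAcyc.ker_flat_of_range (dbar K p q r) (Bq K q r)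
    (range_dbar K p q r)).1
  exact Module.Flat.of_linearEquiv (homEquivKer K p q r hpq hqr)

end Alg

theorem s19060 (R : Type u) [CommRing R] [IsNoetherianRing R]
    (X : Scheme.{u}) [X.Over (Spec (CommRingCat.of R))] [IsProper (X ↘ Spec (CommRingCat.of R))]
    (hdim : ∀ s : Spec (CommRingCat.of R), topologicalKrullDim ↥((X ↘ Spec (CommRingCat.of R)).fiber s) = 1)
    (F : X.Modules) (hF : Coh.IsCoh F) (hfl : FlatMod.IsFlatOver (X ↘ Spec (CommRingCat.of R)) F)
    (h1 : Module.Projective R (Coh.HH X F 1)) :
    Module.Projective R (Coh.HH X F 0) := by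
  haveI : F.IsQuasicoherent := hF.1
  obtain ⟨D⟩ := nonempty_mdata R X F hF hfl
  haveI : ∀ i, Module.Finite R (D.K.X i) := fun i => (D.hff i).1
  haveI : ∀ i, Module.Free R (D.K.X i) := fun i => (D.hff i).2
  -- vanishing of `H^2` on the fibres
  have hfib : ∀ y : ↑(Spec (CommRingCat.of R)),
      Subsingleton (CohIII.fiberH (X ↘ Spec (CommRingCat.of R)) F y 2) := by
    intro y
    haveI : LocallyOfFiniteType ((X ↘ Spec (CommRingCat.of R)).fiberToSpecResidueField y) :=
      MorphismProperty.pullback_snd _ _ inferInstance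
    haveI : IsSeparated ((X ↘ Spec (CommRingCat.of R)).fiberToSpecResidueField y) :=
      MorphismProperty.pullback_snd _ _ inferInstance
    haveI : IsLocallyNoetherian ((X ↘ Spec (CommRingCat.of R)).fiber y) :=
      LocallyOfFiniteType.isLocallyNoetherian
        ((X ↘ Spec (CommRingCat.of R)).fiberToSpecResidueField y)
    haveI : IsNoetherian ((X ↘ Spec (CommRingCat.of R)).fiber y) := {}
    haveI : ((X ↘ Spec (CommRingCat.of R)).fiber y).IsSeparated :=
      (HasAffineProperty.iff_of_isAffine (P := @IsSeparated)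
        (f := (X ↘ Spec (CommRingCat.of R)).fiberToSpecResidueField y)).mp inferInstance
    exact Groth.Agent.Helper1.GV1.subsingleton_HH_of_dim_le_one (le_of_eq (hdim y)) _
      (Groth.Agent.Lead.PB.isQuasicoherent_pullback _ _) 2 le_rfl
  have hfv : FibVan D.K ((2 : ℕ) : ℤ) := D.fibVan 2 hfib
  obtain ⟨hw2, -, -⟩ := flat_W_of_fibVan D.K 1 2 3 rfl rfl hfv
  haveI := hw2
  -- transfer of the hypothesis
  obtain ⟨e1⟩ := MData.nonempty_homology_equiv D 1 1 rfl
  obtain ⟨e0⟩ := MData.nonempty_homology_equiv D 0 0 rfl
  haveI : Module.Flat R (D.K.homology 1) := by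
    haveI : Module.Flat R (Coh.HH X F 1) := @Module.Flat.of_projective R (Coh.HH X F 1) _ _ _ h1
    exact Module.Flat.of_linearEquiv e1
  haveI : Module.Flat R (Wq D.K 0 1) := flat_Wq_step' D.K 0 1 2 rfl rfl
  -- the cokernel in degree zero
  haveI : Module.Flat R (Wq D.K (-1) 0) := by
    have hp : PresSurj D.K (-1) := by
      intro M M'' g hg c
      haveI := ModuleCat.subsingleton_of_isZero (D.hneg (-1) (by omega) M'')
      exact ⟨0, Subsingleton.elim _ _⟩
    exact (presSurj_iff_flat D.K (-2) (-1) 0 rfl rfl).1 hp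
  haveI : Module.Flat R (D.K.homology 0) := flat_homology_of_flat_Wq D.K (-1) 0 1 rfl rfl
  haveI : Module.Flat R (Coh.HH X F 0) := Module.Flat.of_linearEquiv e0.symm
  haveI : Module.Finite R (D.K.homology 0) := by
    haveI : IsNoetherian R (Wq D.K (-1) 0) := isNoetherian_of_isNoetherianRing_of_finite R _
    exact Module.Finite.equiv (homEquivKer D.K (-1) 0 1 rfl rfl).symm
  haveI : Module.Finite R (Coh.HH X F 0) := Module.Finite.equiv e0
  haveI : Module.FinitePresentation R (Coh.HH X F 0) := Module.finitePresentation_of_finite R _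
  exact Module.Flat.projective_of_finitePresentation

end Groth.Agent.Lib.Helper4.RelCurveProj1
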