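import Mathlib
import Groth.Agent.Lib.Helper4.FlatTw2
import Groth.Agent.Lib.Helper4.RelCurveProj1

/-!
# flatness and invertible twists; finite projectivity of H^0 from vanishing of higher cohomology (helper4)
-/

set_option backward.isDefEq.respectTransparency.types false
set_option synthInstance.maxHeartbeats 400000
set_option autoImplicit false
set_option linter.unusedSectionVars false
set_option linter.style.haveILetI false
set_option linter.unusedSimpArgs false
universe u v w
open CategoryTheory
open CategoryTheory.Limits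
open AlgebraicGeometry
open TopologicalSpace
open Opposite
open Groth.Agent.Helper1
open Groth.Agent.Helper1.QcCech
open Groth.Agent.Helper1.LGen
open Groth.Agent.Helper1.TensGen
open Groth.Agent.Helper1.TmulLib
open Groth.Agent.Helper1.TwForm
open Groth.Agent.Lead
open Groth.Agent.Lib.Helper4.FlatTw1
open Groth.Agent.Lib.Helper4.MumBC2
open Groth.Agent.Lib.Helper4.FlatHom1
open Groth.Agent.Lib.Helper4.DvrBetti1
open Groth.Agent.Lib.Helper4.RelCurveProj1
open Groth.Agent.Lib.Helper4.TruncAlg1
open Groth.Agent.Lib.Helper4.ExchAlg1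
open Groth.Agent.Lib.Helper4.ExchAlg2
open Groth.Agent.Lib.Helper4.GrauertAlg1
open Groth.Agent.Lib.Helper4.Grauert2

namespace Groth.Agent.Lib.Helper4.FlatTw3

section A
variable {X Y : Scheme.{u}} (f : X ⟶ Y)

/-- tensoring with an invertible module preserves flatness over the base -/
theorem isFlatOver_tensor_of_isInvertible (F N : X.Modules) [F.IsQuasicoherent]
    [(CohB1.tensorMod F N).IsQuasicoherent]
    (hN : PicF.IsInvertible N) (hfl : FlatMod.IsFlatOver f F) :
    FlatMod.IsFlatOver f (CohB1.tensorMod F N) := by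
  intro x
  obtain ⟨W₀, a, hxW₀, ha⟩ := exists_isGen hN x
  obtain ⟨_, ⟨W, hW, rfl⟩, hxW, -⟩ := Y.isBasis_affineOpens.exists_subset_of_mem_open
    (Set.mem_univ (f x)) isOpen_univ
  obtain ⟨_, ⟨U, hU, rfl⟩, hxU, hUle⟩ := X.isBasis_affineOpens.exists_subset_of_mem_open
    (show x ∈ (W₀ ⊓ f ⁻¹ᵁ W : X.Opens) from ⟨hxW₀, hxW⟩) (W₀ ⊓ f ⁻¹ᵁ W).2
  have hUW₀ : U ≤ W₀ := fun z hz => (hUle hz).1
  have hUV : U ≤ f ⁻¹ᵁ W := fun z hz => (hUle hz).2
  refine (FO.isFlatOverAt_iff_flat_stalkOver f _ hW hUV ⟨x, hxU⟩).2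
    (FO.flat_stalkOver_of_flat_sectionsOver f _ hU hUV ⟨x, hxU⟩ ?_)
  have h1 := FO.flat_sectionsOver_of_isFlatOverAt f F hU hW hUV (fun z => hfl z.1)
  letI m1 := FO.sectionsOver f F hUV
  letI m2 := FO.sectionsOver f (CohB1.tensorMod F N) hUV
  let l : Γ(F, U) →ₗ[Γ(Y, W)] Γ(CohB1.tensorMod F N, U) :=
    { toFun := fun m => tm F N U m (res N hUW₀ a)
      map_add' := fun m m' => tm_add_left F N U m m' _
      map_smul' := fun r m => by
        simp only [RingHom.id_apply]
        change tm F N U ((f.appLE W U hUV).hom r • m) _ = (f.appLE W U hUV).hom r • tm F N U m _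
        rw [tm_smul_left] }
  let e : Γ(F, U) ≃ₗ[Γ(Y, W)] Γ(CohB1.tensorMod F N, U) :=
    LinearEquiv.ofBijective l (bijective_tm_of_isGen F (ha.res hUW₀))
  exact Module.Flat.of_linearEquiv e.symm

end A

section B

/-- over a Noetherian ring, a flat coherent module on a proper scheme with vanishing higher
cohomology has finite projective global sections -/
theorem finite_projective_HH_zero (R : Type u) [CommRing R] [IsNoetherianRing R]
    (X : Scheme.{u}) [X.Over (Spec (CommRingCat.of R))] [IsProper (X ↘ Spec (CommRingCat.of R))]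
    (F : X.Modules) (hF : Coh.IsCoh F) (hfl : FlatMod.IsFlatOver (X ↘ Spec (CommRingCat.of R)) F)
    (hv : ∀ q : ℕ, 0 < q → Subsingleton (Coh.HH X F q)) :
    Module.Finite R (Coh.HH X F 0) ∧ Module.Projective R (Coh.HH X F 0) := by
  haveI : F.IsQuasicoherent := hF.1
  obtain ⟨D⟩ := nonempty_mdata R X F hF hfl
  haveI : ∀ i, Module.Finite R (D.K.X i) := fun i => (D.hff i).1
  haveI : ∀ i, Module.Free R (D.K.X i) := fun i => (D.hff i).2
  -- exactness in positive degrees
  have hex : ∀ q : ℤ, 0 < q → Subsingleton (D.K.homology q) := by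
    intro q hq
    obtain ⟨n, rfl⟩ := Int.eq_ofNat_of_zero_le hq.le
    have := D.exactAt n (hv n (by exact_mod_cast hq))
    rw [HomologicalComplex.exactAt_iff_isZero_homology] at this
    exact ModuleCat.subsingleton_of_isZero this
  -- flatness of the cokernels, by descending induction
  have hW : ∀ k : ℕ, ∀ q : ℤ, 0 ≤ q → D.b ≤ q + k → Module.Flat R (Wq D.K q (q + 1)) := by
    intro k
    induction k with
    | zero =>
      intro q hq hb
      haveI : Subsingleton (D.K.X (q + 1)) :=
        ModuleCat.subsingleton_of_isZero (D.hb (q + 1) (by simp at hb; omega))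
      haveI : Subsingleton (Wq D.K q (q + 1)) := by
        unfold Wq
        infer_instance
      infer_instance
    | succ k ih =>
      intro q hq hb
      haveI := ih (q + 1) (by omega) (by push_cast at hb ⊢; omega)
      haveI := hex (q + 1) (by omega)
      haveI : Module.Flat R (D.K.homology (q + 1)) := inferInstance
      exact flat_Wq_step' D.K q (q + 1) (q + 1 + 1) rfl rfl
  obtain ⟨k, hk⟩ : ∃ k : ℕ, D.b ≤ 0 + (k : ℤ) := ⟨D.b.toNat, by omega⟩
  haveI : Module.Flat R (Wq D.K 0 1) := hW k 0 le_rfl hk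
  obtain ⟨e0⟩ := MData.nonempty_homology_equiv D 0 0 rfl
  haveI : Module.Flat R (Wq D.K (-1) 0) := by
    have hp : PresSurj D.K (-1) := by
      intro M M'' g hg c
      haveI := ModuleCat.subsingleton_of_isZero (D.hneg (-1) (by omega) M'')
      exact ⟨0, Subsingleton.elim _ _⟩
    exact (presSurj_iff_flat D.K (-2) (-1) 0 rfl rfl).1 hp
  haveI : Module.Flat R (D.K.homology 0) := flat_homology_of_flat_Wq D.K (-1) 0 1 rfl rfl
  haveI : Module.Flat R (Coh.HH X F 0) := Module.Flat.of_linearEquiv e0.symm
  haveI : Module.Finite R (D.K.homology 0) := by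
    haveI : IsNoetherian R (Wq D.K (-1) 0) := isNoetherian_of_isNoetherianRing_of_finite R _
    exact Module.Finite.equiv (homEquivKer D.K (-1) 0 1 rfl rfl).symm
  haveI : Module.Finite R (Coh.HH X F 0) := Module.Finite.equiv e0
  haveI : Module.FinitePresentation R (Coh.HH X F 0) := Module.finitePresentation_of_finite R _
  exact ⟨inferInstance, Module.Flat.projective_of_finitePresentation⟩

end B

end Groth.Agent.Lib.Helper4.FlatTw3
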