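import Mathlib
import Groth.Agent.Lib.Helper4.FlatTw2
import Groth.Agent.Lib.Helper4.FlatTw3
import Groth.Agent.Lib.Helper4.ChartSq1
import Groth.Agent.Lib.Helper4.RpushSec1
import Groth.Agent.Lib.Helper1.RelSerre1
import Groth.Agent.Lib.Helper1.PushQc
import Groth.Agent.Lib.Helper1.InvFt
import Groth.Agent.Lib.Lead.FLF4

/-!
# flat over the base iff the direct images of high twists by a relatively ample module are finite locally free (helper4)
-/

set_option backward.isDefEq.respectTransparency.types false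
set_option synthInstance.maxHeartbeats 400000
set_option autoImplicit false
set_option linter.unusedSectionVars false
set_option linter.style.haveILetI false
set_option linter.unusedSimpArgs false
universe u v w
open CategoryTheory
open CategoryTheory.Limits
open AlgebraicGeometry
open TopologicalSpace
open Opposite
open Groth.Agent.Helper1
open Groth.Agent.Helper1.QcCech
open Groth.Agent.Helper1.TwForm
open Groth.Agent.Lead
open Groth.Agent.Lib.Helper4.FlatTw1

namespace Groth.Agent.Lib.Helper4.FlatTw4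

variable {X Y : Scheme.{u}} (f : X ⟶ Y)

/-- sections over an open of isomorphic modules -/
noncomputable def secEquiv {M M' : Y.Modules} (e : M ≅ M') (V : Y.Opens) :
    Γ(M, V) ≃ₗ[Γ(Y, V)] Γ(M', V) :=
  { toFun := fun m => e.hom.app V m
    invFun := fun m => e.inv.app V m
    map_add' := fun a b => map_add (e.hom.app V).hom a b
    map_smul' := fun a m => Scheme.Modules.Hom.app_smul e.hom _ m
    left_inv := fun m => by
      have := congrArg (fun φ => Scheme.Modules.Hom.app φ V m) e.hom_inv_id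
      exact this
    right_inv := fun m => by
      have := congrArg (fun φ => Scheme.Modules.Hom.app φ V m) e.inv_hom_id
      exact this }

/-- sections of the direct image, with the module structure through `f` -/
noncomputable def pushSecEquiv (G : X.Modules) (W : Y.Opens) :
    letI := FO.sectionsOver f G (le_refl (f ⁻¹ᵁ W))
    Γ((Scheme.Modules.pushforward f).obj G, W) ≃ₗ[Γ(Y, W)] Γ(G, f ⁻¹ᵁ W) :=
  letI := FO.sectionsOver f G (le_refl (f ⁻¹ᵁ W))
  { toFun := fun m => m
    invFun := fun m => m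
    map_add' := fun _ _ => rfl
    map_smul' := fun a m => by
      simp only [RingHom.id_apply]
      rw [PushQc.push_smul, Scheme.Hom.app_eq_appLE]
      rfl
    left_inv := fun _ => rfl
    right_inv := fun _ => rfl }

/-- (⇐) -/
theorem isFlatOver_of_isFinLocFree_push_twists [QuasiCompact f] [QuasiSeparated f]
    (L : X.Modules) (hL : PicF.IsInvertible L)
    (ha : ∀ W : Y.Opens, IsAffineOpen W → CohB1.IsAmple (L.restrict (f ⁻¹ᵁ W).ι))
    (F : X.Modules) [F.IsQuasicoherent] (n₀ : ℕ)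
    (h : ∀ n, n₀ ≤ n → FlatMod.IsFinLocFree
      ((Scheme.Modules.pushforward f).obj (CohB1.tensorMod F (CohB1.tensorPow L n)))) :
    FlatMod.IsFlatOver f F := by
  refine Groth.Agent.Lib.Helper4.FlatTw2.isFlatOver_of_flat_twists f L ha F n₀ (fun n hn W hW => ?_)
  haveI : (CohB1.tensorPow L n).IsQuasicoherent :=
    InvQc.isQuasicoherent_of_isInvertible _ (isInvertible_tensorPow hL n)
  haveI : (CohB1.tensorMod F (CohB1.tensorPow L n)).IsQuasicoherent :=
    Groth.Agent.Lead.TilT.isQuasicoherent_tensorMod _ _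
  haveI := PushQc.isQuasicoherent_pushforward f (CohB1.tensorMod F (CohB1.tensorPow L n))
  obtain ⟨h1, h2⟩ := (FLF.isFinLocFree_iff_affineOpens _).1 (h n hn) W hW
  haveI : Module.Flat Γ(Y, W)
      Γ((Scheme.Modules.pushforward f).obj (CohB1.tensorMod F (CohB1.tensorPow L n)), W) :=
    @Module.Flat.of_projective _ _ _ _ _ h2
  letI := FO.sectionsOver f (CohB1.tensorMod F (CohB1.tensorPow L n)) (le_refl (f ⁻¹ᵁ W))
  exact Module.Flat.of_linearEquiv (pushSecEquiv f _ W).symm

/-- (⇒) -/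
theorem isFinLocFree_push_twists [IsProper f] [IsNoetherian Y] (L : X.Modules)
    (hL : PicF.IsInvertible L)
    (ha : ∀ W : Y.Opens, IsAffineOpen W → CohB1.IsAmple (L.restrict (f ⁻¹ᵁ W).ι))
    (F : X.Modules) (hF : Coh.IsCoh F) (hfl : FlatMod.IsFlatOver f F) :
    ∃ n₀ : ℕ, ∀ n, n₀ ≤ n → FlatMod.IsFinLocFree
      ((Scheme.Modules.pushforward f).obj (CohB1.tensorMod F (CohB1.tensorPow L n))) := by
  classical
  obtain ⟨s, hs⟩ := isCompact_univ.elim_finite_subcover
    (fun i : Y.affineOpens => (i.1 : Set Y)) (fun i => i.1.2) (by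
      intro x _
      obtain ⟨W, hW, hxW, -⟩ := (Opens.isBasis_iff_nbhd.mp Y.isBasis_affineOpens)
        (show x ∈ (⊤ : Y.Opens) from trivial)
      exact Set.mem_iUnion.2 ⟨⟨W, hW⟩, hxW⟩)
  have key : ∀ V : Y.affineOpens, ∃ n₀ : ℕ, ∀ n : ℕ, n₀ ≤ n → ∀ p : ℕ, 0 < p →
      Subsingleton (Coh.HHon X (CohB1.tensorMod F (CohB1.tensorPow L n)) (f ⁻¹ᵁ V.1) p) := by
    intro V
    haveI : IsNoetherianRing Γ(Y, V.1) := IsLocallyNoetherian.component_noetherian V
    haveI : IsProper (RpushLoc.strMap f V.2) := by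
      unfold RpushLoc.strMap
      infer_instance
    obtain ⟨n₀, hn₀⟩ := SerreAmple.serre_vanishing Γ(Y, V.1) (RpushLoc.strMap f V.2)
      (ha V.1 V.2) (F.restrict (f ⁻¹ᵁ V.1).ι) (FinPush.isCoh_restrict _ F hF)
    refine ⟨n₀, fun n hn p hp => ?_⟩
    have hloc := locFrame_of_isInvertible (ha V.1 V.2).1 (ha V.1 V.2).1
    let e := RelAmpleLib.restrictTwistIso (f ⁻¹ᵁ V.1).ι (Iso.refl (F.restrict (f ⁻¹ᵁ V.1).ι))
      hloc n
    exact RpushLoc.subsingleton_HH_of_iso e.symm p (hn₀ n hn p hp)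
  choose N hN using key
  refine ⟨s.sup N, fun n hn => ?_⟩
  haveI : F.IsQuasicoherent := hF.1
  have hLn := isInvertible_tensorPow hL n
  haveI : (CohB1.tensorPow L n).IsQuasicoherent :=
    InvQc.isQuasicoherent_of_isInvertible _ hLn
  set G := CohB1.tensorMod F (CohB1.tensorPow L n) with hG
  haveI : G.IsQuasicoherent := Groth.Agent.Lead.TilT.isQuasicoherent_tensorMod _ _
  have hGc : Coh.IsCoh G := SerreAmple.isCoh_tensor F _ hF (InvQc.isCoh_of_isInvertible _ hLn)
  have hGfl : FlatMod.IsFlatOver f G :=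
    Groth.Agent.Lib.Helper4.FlatTw3.isFlatOver_tensor_of_isInvertible f F _ hLn hfl
  haveI := PushQc.isQuasicoherent_pushforward f G
  apply FLF.isFinLocFree_of_affine_nhds
  intro y
  have hy := hs (Set.mem_univ y)
  simp only [Set.mem_iUnion] at hy
  obtain ⟨V, hVs, hyV⟩ := hy
  refine ⟨V.1, V.2, hyV, ?_⟩
  haveI : IsNoetherianRing Γ(Y, V.1) := IsLocallyNoetherian.component_noetherian V
  letI : (↑(f ⁻¹ᵁ V.1) : Scheme.{u}).Over (Spec (CommRingCat.of Γ(Y, V.1))) :=
    ⟨RpushLoc.strMap f V.2⟩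
  haveI : IsProper ((↑(f ⁻¹ᵁ V.1) : Scheme.{u}) ↘ Spec (CommRingCat.of Γ(Y, V.1))) := by
    change IsProper (RpushLoc.strMap f V.2)
    unfold RpushLoc.strMap
    infer_instance
  have h0 := Groth.Agent.Lib.Helper4.FlatTw3.finite_projective_HH_zero Γ(Y, V.1) (↑(f ⁻¹ᵁ V.1) : Scheme.{u})
    (G.restrict (f ⁻¹ᵁ V.1).ι) (FinPush.isCoh_restrict _ G hGc)
    (Groth.Agent.Lib.Helper4.ChartSq1.isFlatOver_restrict f V.2 G hGfl)
    (fun q hq => hN V n (le_trans (Finset.le_sup hVs) hn) q hq)
  haveI : EnoughInjectives X.Modules := Groth.Agent.S0485.result _ X.ringCatSheaf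
  haveI : HasInjectiveResolutions X.Modules := inferInstance
  obtain ⟨e1⟩ := Groth.Agent.Lib.Helper4.RpushSec1.nonempty_sections_equiv f G V.2 0
  let e0 : (Coh.Rpush f 0).obj G ≅ (Scheme.Modules.pushforward f).obj G :=
    (Functor.rightDerivedZeroIsoSelf (Scheme.Modules.pushforward f)).app G
  let e := (secEquiv e0 V.1).symm ≪≫ₗ e1
  haveI := h0.1
  haveI := h0.2
  exact ⟨Module.Finite.equiv e.symm, Module.Projective.of_equiv e.symm⟩

end Groth.Agent.Lib.Helper4.FlatTw4
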