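import Mathlib
import Groth.Prelude.Def_KRR
import Groth.Agent.Lib.Helper1.RpTw2
import Groth.Agent.Lib.Lead.TilT5
import Groth.Agent.Lib.Helper3.BCDim1

/-!
# tensor symmetry; vanishing of a single higher direct image gives vanishing of cohomology over preimages of affine opens (helper4)
-/

set_option backward.isDefEq.respectTransparency.types false
set_option synthInstance.maxHeartbeats 400000
set_option autoImplicit false
set_option linter.unusedSectionVars false
set_option linter.style.haveILetI false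
set_option linter.unusedSimpArgs false
universe u v w
open CategoryTheory CategoryTheory.Limits AlgebraicGeometry TopologicalSpace Opposite MonoidalCategory
open Groth.Agent.Helper1 Groth.Agent.Helper3

namespace Groth.Agent.Lib.Helper4.KrrA
variable {X : Scheme.{u}}
noncomputable def preComm (M N : X.Modules) :
    @Iso X.PresheafOfModules _ (CohB1.tensorPre M N) (CohB1.tensorPre N M) := by
  unfold CohB1.tensorPre
  exact β_ (CohB1.toPMod M) (CohB1.toPMod N)
noncomputable def tensorModComm (M N : X.Modules) : CohB1.tensorMod M N ≅ CohB1.tensorMod N M :=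
  (CohB1.sheafifyMod X).mapIso (preComm M N)

/-- single degree version of helper3's Lemma A -/
theorem subsingleton_HU_preimage_of_isZero {X Y : Scheme.{u}} (f : X ⟶ Y) [QuasiCompact f] [QuasiSeparated f]
    (G : X.Modules) [G.IsQuasicoherent] (q : ℕ)
    (hG : IsZero ((Coh.RpushAb f q).obj (Coh.toAb G)))
    (V : Y.Opens) (hV : IsAffineOpen V) :
    Subsingleton (CohTop.HU (Coh.toAb G) q (f ⁻¹ᵁ V)) := by
  haveI := LerayCol.hasInjectiveResolutions X
  obtain ⟨e0⟩ := Groth.Agent.S0463.result (X := X.toTopCat) (Coh.toAb G) (f ⁻¹ᵁ V) q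
  suffices h : Subsingleton (CohTop.H (CohTop.restr (Coh.toAb G) (f ⁻¹ᵁ V)) q) from
    @Equiv.subsingleton _ _ e0.toEquiv h
  have hyp : ∀ j p : ℕ, 0 < p → Subsingleton (CohTop.H ((CohTop.Rpush
      (TopCat.ofHom ⟨(V : Set Y).restrictPreimage f.base, f.base.hom.continuous.restrictPreimage⟩ :
        TopCat.of ((Opens.map f.base).obj V) ⟶ TopCat.of V) j).obj
      (CohTop.restr (Coh.toAb G) ((Opens.map f.base).obj V))) p) := by
    intro j p hp
    obtain ⟨m, rfl⟩ : ∃ m, p = m + 1 := ⟨p - 1, by omega⟩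
    obtain ⟨e2⟩ := Groth.Agent.S0854.result f.base (Coh.toAb G) V j
    obtain ⟨e3⟩ := RpushComp.nonempty_iso f G j
    haveI : ((Coh.Rpush f j).obj G).IsQuasicoherent := Groth.Agent.S0030.result f G j
    haveI h4 : Subsingleton (CohTop.HU (Coh.toAb ((Coh.Rpush f j).obj G)) (m + 1) V) :=
      QcAcyc.subsingleton_HU _ V hV m
    obtain ⟨e5⟩ := Groth.Agent.S0463.result (X := Y.toTopCat)
      (Coh.toAb ((Coh.Rpush f j).obj G)) V (m + 1)
    haveI h6 : Subsingleton (CohTop.H (CohTop.restr (Coh.toAb ((Coh.Rpush f j).obj G)) V) (m + 1)) :=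
      @Equiv.subsingleton _ _ e5.symm.toEquiv h4
    have e7 : CohTop.restr (Coh.toAb ((Coh.Rpush f j).obj G)) V ≅
        CohTop.restr ((CohTop.Rpush f.base j).obj (Coh.toAb G)) V :=
      (CohTop.restrFunctor V).mapIso e3
    exact LerayCol.subsingleton_H_of_iso (e7 ≪≫ e2) (m + 1)
  obtain ⟨e1⟩ := LerayCol.nonempty_addEquiv
    (TopCat.ofHom ⟨(V : Set Y).restrictPreimage f.base, f.base.hom.continuous.restrictPreimage⟩ :
        TopCat.of ((Opens.map f.base).obj V) ⟶ TopCat.of V)
    (CohTop.restr (Coh.toAb G) ((Opens.map f.base).obj V)) hyp q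
  obtain ⟨e2⟩ := Groth.Agent.S0854.result f.base (Coh.toAb G) V q
  have hz : IsZero (CohTop.restr ((CohTop.Rpush f.base q).obj (Coh.toAb G)) V) :=
    Functor.map_isZero _ hG
  have h8 := BCDim.subsingleton_sections_of_isZero (hz.of_iso e2.symm) (op ⊤)
  exact @Equiv.subsingleton _ _ e1.toEquiv h8

theorem subsingleton_HHon_of_isZero_rpushAb {X Y : Scheme.{u}} (f : X ⟶ Y) [QuasiCompact f] [QuasiSeparated f]
    (G : X.Modules) [G.IsQuasicoherent] (q : ℕ)
    (hG : IsZero ((Coh.RpushAb f q).obj (Coh.toAb G)))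
    (V : Y.Opens) (hV : IsAffineOpen V) :
    Subsingleton (Coh.HHon X G (f ⁻¹ᵁ V) q) := by
  obtain ⟨e⟩ := Groth.Agent.Lib.Helper4.HUon1.nonempty_HU_equiv_HHon G (f ⁻¹ᵁ V) q
  haveI := subsingleton_HU_preimage_of_isZero f G q hG V hV
  exact e.symm.toEquiv.subsingleton
end Groth.Agent.Lib.Helper4.KrrA
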