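import Mathlib
import Groth.Prelude.Def_KRR
import Groth.Agent.Lib.Helper1.RpTw2
import Groth.Agent.Lib.Lead.TilT5
import Groth.Agent.Lib.Helper3.BCDim1
import Groth.Agent.Lib.Helper4.KrrA

/-!
# chart reduction for twists on P^n_Y: isZero_rpushAb_twF_iff (helper4)
-/

set_option backward.isDefEq.respectTransparency.types false
set_option synthInstance.maxHeartbeats 400000
set_option autoImplicit false
set_option linter.unusedSectionVars false
set_option linter.style.haveILetI false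
set_option linter.unusedSimpArgs false
universe u v w
open CategoryTheory CategoryTheory.Limits AlgebraicGeometry TopologicalSpace Opposite MonoidalCategory
open Groth.Agent.Helper1 Groth.Agent.Helper3
open Groth.Agent.Lib.Helper4.KrrA

namespace Groth.Agent.Lib.Helper4.KrrB

section Chart
variable (n : ℕ) (Y : Scheme.{u}) (W : Y.Opens) (hW : IsAffineOpen W)

/-- the chart iso `p⁻¹W ≅ P^n_{Γ(W)}` -/
noncomputable def chartIso :
    (↑((KRR.pr n Y) ⁻¹ᵁ W) : Scheme.{u}) ≅ CohB1.ProjSpace n Γ(Y, W) :=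
  (RpTw.exists_iso_chart n Y W hW).choose

theorem chartIso_spec :
    (chartIso n Y W hW).hom ≫ Proj.map (HProjLoc.polyMap n (RpTw.ρZ Γ(Y, W)))
        (HProjLoc.hirr_polyMap n (RpTw.ρZ Γ(Y, W))) =
      ((KRR.pr n Y) ⁻¹ᵁ W).ι ≫
        pullback.fst (CohB1.ProjSpace.toSpec n (ULift.{u} ℤ)) (specULiftZIsTerminal.from Y) :=
  (RpTw.exists_iso_chart n Y W hW).choose_spec

/-- the open immersion of the chart -/
noncomputable def jW : CohB1.ProjSpace n Γ(Y, W) ⟶ KRR.PY n Y :=
  (chartIso n Y W hW).inv ≫ ((KRR.pr n Y) ⁻¹ᵁ W).ι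

instance : IsOpenImmersion (jW n Y W hW) := by unfold jW; infer_instance

theorem jW_fst :
    jW n Y W hW ≫ pullback.fst (CohB1.ProjSpace.toSpec n (ULift.{u} ℤ)) (specULiftZIsTerminal.from Y) =
      Proj.map (HProjLoc.polyMap n (RpTw.ρZ Γ(Y, W))) (HProjLoc.hirr_polyMap n (RpTw.ρZ Γ(Y, W))) := by
  unfold jW
  rw [Category.assoc]
  have h := chartIso_spec n Y W hW
  rw [← h]
  exact Iso.inv_hom_id_assoc _ _

/-- the twisting sheaf in the chart -/
noncomputable def twIso (d : ℤ) :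
    (Twist.twistOver n Y d).restrict (jW n Y W hW) ≅ Twist.twistProjSpace n Γ(Y, W) d :=
  (Scheme.Modules.restrictFunctorIsoPullback (jW n Y W hW)).app (Twist.twistOver n Y d) ≪≫
    (Scheme.Modules.pullbackComp (jW n Y W hW)
      (pullback.fst (CohB1.ProjSpace.toSpec n (ULift.{u} ℤ)) (specULiftZIsTerminal.from Y))).app
        (Twist.twistProjSpace n (ULift.{u} ℤ) d) ≪≫
    (Scheme.Modules.pullbackCongr (jW_fst n Y W hW)).app (Twist.twistProjSpace n (ULift.{u} ℤ) d) ≪≫
    (Groth.Agent.Lib.Helper4.TwistBC1.twist_bc n (RpTw.ρZ Γ(Y, W)) d).some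

end Chart
section Chart2
variable (n : ℕ) (Y : Scheme.{u}) (W : Y.Opens) (hW : IsAffineOpen W)

theorem hom_jW : (chartIso n Y W hW).hom ≫ jW n Y W hW = ((KRR.pr n Y) ⁻¹ᵁ W).ι := by
  unfold jW
  exact Iso.hom_inv_id_assoc _ _

theorem subsingleton_chart_of_HHon (M : (KRR.PY n Y).Modules) [M.IsQuasicoherent] (i : ℕ)
    (h : Subsingleton (Coh.HHon (KRR.PY n Y) M ((KRR.pr n Y) ⁻¹ᵁ W) i)) :
    Subsingleton (Coh.HH (CohB1.ProjSpace n Γ(Y, W)) (M.restrict (jW n Y W hW)) i) := by
  let U := (KRR.pr n Y) ⁻¹ᵁ W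
  haveI : (M.restrict U.ι).IsQuasicoherent := inferInstance
  have h1 := RpTw.subsingleton_HH_pullback_of_iso (chartIso n Y W hW).symm (M.restrict U.ι) i h
  let κ : M.restrict (jW n Y W hW) ≅
      (Scheme.Modules.pullback (chartIso n Y W hW).symm.hom).obj (M.restrict U.ι) :=
    (Scheme.Modules.restrictFunctorComp (chartIso n Y W hW).inv U.ι).app M ≪≫
      (Scheme.Modules.restrictFunctorIsoPullback (chartIso n Y W hW).inv).app (M.restrict U.ι)
  exact Dv.subsingleton_HH_of_iso κ i h1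

theorem subsingleton_HHon_of_chart (M : (KRR.PY n Y).Modules) [M.IsQuasicoherent] (i : ℕ)
    (h : Subsingleton (Coh.HH (CohB1.ProjSpace n Γ(Y, W)) (M.restrict (jW n Y W hW)) i)) :
    Subsingleton (Coh.HHon (KRR.PY n Y) M ((KRR.pr n Y) ⁻¹ᵁ W) i) := by
  let U := (KRR.pr n Y) ⁻¹ᵁ W
  haveI : (M.restrict (jW n Y W hW)).IsQuasicoherent := inferInstance
  have h1 := RpTw.subsingleton_HH_pullback_of_iso (chartIso n Y W hW) (M.restrict (jW n Y W hW)) i h
  let κ : M.restrict U.ι ≅
      (Scheme.Modules.pullback (chartIso n Y W hW).hom).obj (M.restrict (jW n Y W hW)) :=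
    (Scheme.Modules.restrictFunctorCongr (hom_jW n Y W hW).symm).app M ≪≫
    (Scheme.Modules.restrictFunctorComp (chartIso n Y W hW).hom (jW n Y W hW)).app M ≪≫
      (Scheme.Modules.restrictFunctorIsoPullback (chartIso n Y W hW).hom).app (M.restrict (jW n Y W hW))
  exact Dv.subsingleton_HH_of_iso κ i h1

end Chart2
variable {X : Scheme.{u}}

section Chart3
variable (n : ℕ) (Y : Scheme.{u})

instance isSeparated_pr : IsSeparated (KRR.pr n Y) := by
  have hsep0 : IsSeparated (CohB1.ProjSpace.toSpec n (ULift.{u} ℤ)) := VA5.isSeparated_toSpec n _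
  have : IsSeparated (pullback.snd (CohB1.ProjSpace.toSpec n (ULift.{u} ℤ))
      (specULiftZIsTerminal.from Y)) := inferInstance
  exact this

instance quasiCompact_pr : QuasiCompact (KRR.pr n Y) := by
  have hqc0 : QuasiCompact (CohB1.ProjSpace.toSpec n (ULift.{u} ℤ)) := VA5.quasiCompact_toSpec n _
  have : QuasiCompact (pullback.snd (CohB1.ProjSpace.toSpec n (ULift.{u} ℤ))
      (specULiftZIsTerminal.from Y)) := inferInstance
  exact this

instance isQCoh_twistOver (d : ℤ) : (Twist.twistOver n Y d).IsQuasicoherent := by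
  haveI : (Twist.twistProjSpace n (ULift.{u} ℤ) d).IsQuasicoherent :=
    InvQc.isQuasicoherent_of_isInvertible _
      (Groth.Agent.Lib.Helper4.ClBridge2.isInvertible_twist n (ULift.{u} ℤ) d)
  exact QcPullGen.isQuasicoherent_pullback _ _

instance isQCoh_twF (d : ℤ) (F : (KRR.PY n Y).Modules) [F.IsQuasicoherent] :
    (KRR.twF n Y d F).IsQuasicoherent :=
  Groth.Agent.Lead.TilT.isQuasicoherent_tensorMod (Twist.twistOver n Y d) F

variable (W : Y.Opens) (hW : IsAffineOpen W)

/-- the twist in the chart -/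
noncomputable def chartTw (d : ℤ) (F : (KRR.PY n Y).Modules) :
    (KRR.twF n Y d F).restrict (jW n Y W hW) ≅
      CohB1.tensorMod (F.restrict (jW n Y W hW)) (Twist.twistProjSpace n Γ(Y, W) d) :=
  (Groth.Agent.Lead.TilT.restrictTensorIso (Twist.twistOver n Y d) F (jW n Y W hW)).symm ≪≫
    Groth.Agent.Lead.TilT.tensorModCongr (twIso n Y W hW d) (Iso.refl _) ≪≫
    tensorModComm _ _

theorem isZero_rpushAb_twF_iff (F : (KRR.PY n Y).Modules) [F.IsQuasicoherent] (d : ℤ) (i : ℕ) :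
    IsZero ((Coh.RpushAb (KRR.pr n Y) i).obj (Coh.toAb (KRR.twF n Y d F))) ↔
      ∀ (W : Y.Opens) (hW : IsAffineOpen W),
        Subsingleton (Coh.HH (CohB1.ProjSpace n Γ(Y, W))
          (CohB1.tensorMod (F.restrict (jW n Y W hW)) (Twist.twistProjSpace n Γ(Y, W) d)) i) := by
  constructor
  · intro h W hW
    have h1 := subsingleton_HHon_of_isZero_rpushAb (KRR.pr n Y) (KRR.twF n Y d F) i h W hW
    have h2 := subsingleton_chart_of_HHon n Y W hW (KRR.twF n Y d F) i h1
    exact Dv.subsingleton_HH_of_iso (chartTw n Y W hW d F).symm i h2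
  · intro h
    refine RpushLoc.isZero_rpushAb_of_cover (KRR.pr n Y) (KRR.twF n Y d F) i
      (fun W : Y.affineOpens => W.1) (fun W => W.2) ?_ ?_
    · intro x
      obtain ⟨_, ⟨W, hW, rfl⟩, hxW, -⟩ := Y.isBasis_affineOpens.exists_subset_of_mem_open
        (Set.mem_univ x) isOpen_univ
      exact ⟨⟨W, hW⟩, hxW⟩
    · intro W
      apply subsingleton_HHon_of_chart n Y W.1 W.2 (KRR.twF n Y d F) i
      exact Dv.subsingleton_HH_of_iso (chartTw n Y W.1 W.2 d F) i (h W.1 W.2)

end Chart3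
end Groth.Agent.Lib.Helper4.KrrB
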