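import Mathlib
import Groth.Prelude.Def_KRR
import Groth.Agent.Lib.Helper4.KrrB
import Groth.Agent.Lib.Helper4.KosC4

/-!
# relative Castelnuovo-Mumford regularity on P^n_Y: Reg, isRegSheaf_iff, s19428 (helper4)
-/

set_option backward.isDefEq.respectTransparency.types false
set_option synthInstance.maxHeartbeats 400000
set_option autoImplicit false
set_option linter.unusedSectionVars false
set_option linter.style.haveILetI false
set_option linter.unusedSimpArgs false
universe u v w
open CategoryTheory CategoryTheory.Limits AlgebraicGeometry TopologicalSpace Opposite MonoidalCategory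
open Groth.Agent.Helper1 Groth.Agent.Helper3
open Groth.Agent.Lib.Helper4.KrrA Groth.Agent.Lib.Helper4.KrrB
open Groth.Agent.Lib.Helper4.KosC1 Groth.Agent.Lib.Helper4.KosC3 Groth.Agent.Lib.Helper4.KosC4

namespace Groth.Agent.Lib.Helper4.KrrC

section Ring
variable (n : ℕ) (R : Type u) [CommRing R] (G : (CohB1.ProjSpace n R).Modules)

/-- Castelnuovo–Mumford regularity over a ring -/
def Reg (m : ℤ) : Prop :=
  ∀ i : ℕ, 1 ≤ i → Subsingleton (Coh.HH (CohB1.ProjSpace n R)
    (CohB1.tensorMod G (Twist.twistProjSpace n R (m - i))) i)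

variable [hG : G.IsQuasicoherent]

theorem reg_succ (m : ℤ) (h : Reg n R G m) : Reg n R G (m + 1) := by
  intro i hi1
  apply vanishing_top n R G (m - i - n) i
  · intro q' c hq hq'n hc
    have := h q' (by omega)
    exact subsingleton_twist_congr n R G (by rw [hc]; ring) q' this
  · ring

theorem reg_add (m : ℤ) (h : Reg n R G m) (r : ℕ) : Reg n R G (m + r) := by
  induction r with
  | zero => simpa using h
  | succ r ih =>
    have := reg_succ n R G _ ih
    have e : m + (r : ℤ) + 1 = m + ((r + 1 : ℕ) : ℤ) := by push_cast; ring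
    rw [e] at this
    exact this

end Ring

section Rel
variable (n : ℕ) (Y : Scheme.{u}) (F : (KRR.PY n Y).Modules) [F.IsQuasicoherent]

theorem isRegSheaf_iff :
    KRR.IsRegSheaf n Y F ↔ ∀ (W : Y.Opens) (hW : IsAffineOpen W),
      Reg n Γ(Y, W) (F.restrict (jW n Y W hW)) 0 := by
  constructor
  · intro h W hW i hi
    have h1 := (isZero_rpushAb_twF_iff n Y F (-(i : ℤ)) i).1 (h i hi) W hW
    exact subsingleton_twist_congr n Γ(Y, W) _ (by ring) i h1
  · intro h i hi
    apply (isZero_rpushAb_twF_iff n Y F (-(i : ℤ)) i).2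
    intro W hW
    have h1 := h W hW i hi
    exact subsingleton_twist_congr n Γ(Y, W) _ (by ring) i h1

/-- the chart of a twist -/
theorem reg_chart_twF (m : ℤ) (W : Y.Opens) (hW : IsAffineOpen W) (c : ℤ)
    (h : Reg n Γ(Y, W) (F.restrict (jW n Y W hW)) (m + c)) :
    Reg n Γ(Y, W) ((KRR.twF n Y m F).restrict (jW n Y W hW)) c := by
  intro i hi
  have h1 := h i hi
  obtain ⟨e⟩ := nonempty_twist_twist_iso n Γ(Y, W) (F.restrict (jW n Y W hW)) m (c - i)
  have h2 : Subsingleton (Coh.HH (CohB1.ProjSpace n Γ(Y, W))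
      (CohB1.tensorMod (F.restrict (jW n Y W hW)) (Twist.twistProjSpace n Γ(Y, W) (m + (c - i)))) i) :=
    subsingleton_twist_congr n Γ(Y, W) _ (by ring) i h1
  have h3 := Dv.subsingleton_HH_of_iso e i h2
  exact Dv.subsingleton_HH_of_iso
    (Groth.Agent.Lead.TilT.tensorModCongr (chartTw n Y W hW m F) (Iso.refl _)) i h3

theorem s19428 (hreg : KRR.IsRegSheaf n Y F) (m : ℕ) :
    KRR.IsRegSheaf n Y (KRR.twF n Y (m : ℤ) F) := by
  rw [isRegSheaf_iff] at hreg ⊢
  intro W hW
  apply reg_chart_twF
  have := reg_add n Γ(Y, W) _ 0 (hreg W hW) m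
  have e : (0 : ℤ) + (m : ℤ) = (m : ℤ) + 0 := by ring
  rw [e] at this
  exact this

end Rel
end Groth.Agent.Lib.Helper4.KrrC
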