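import Mathlib
import Groth.Prelude.Def_KRR
import Groth.Agent.Lib.Helper4.KrrC
import Groth.Agent.Lib.Helper1.ProjF5

/-!
# regular sheaves on P^n_Y have vanishing higher direct images (s3754) (helper4)
-/

set_option backward.isDefEq.respectTransparency.types false
set_option synthInstance.maxHeartbeats 400000
set_option autoImplicit false
set_option linter.unusedSectionVars false
set_option linter.style.haveILetI false
set_option linter.unusedSimpArgs false
universe u v w
open CategoryTheory CategoryTheory.Limits AlgebraicGeometry TopologicalSpace Opposite MonoidalCategory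
open Groth.Agent.Helper1 Groth.Agent.Helper3
open Groth.Agent.Lib.Helper4.KrrA Groth.Agent.Lib.Helper4.KrrB Groth.Agent.Lib.Helper4.KrrC
open Groth.Agent.Lib.Helper4.KosC1 Groth.Agent.Lib.Helper4.KosC3 Groth.Agent.Lib.Helper4.KosC4

namespace Groth.Agent.Lib.Helper4.KrrD

section Ring
variable (n : ℕ) (R : Type u) [CommRing R] (G : (CohB1.ProjSpace n R).Modules)

/-- `G(0) ≅ G` -/
theorem nonempty_twist_zero_iso :
    Nonempty (CohB1.tensorMod G (Twist.twistProjSpace n R 0) ≅ G) := by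
  obtain ⟨e0⟩ := TwistTens.nonempty_twist_zero_iso (CohB1.polyGrading n R)
  obtain ⟨e1⟩ := ProjF.nonempty_tensorMod_unit_right G
  exact ⟨Groth.Agent.Lead.TilT.tensorModCongr (Iso.refl G) e0 ≪≫ e1⟩

variable [hG : G.IsQuasicoherent]

/-- a regular sheaf has no higher cohomology -/
theorem subsingleton_HH_of_reg (h : Reg n R G 0) (i : ℕ) (hi : 1 ≤ i) :
    Subsingleton (Coh.HH (CohB1.ProjSpace n R) G i) := by
  have h1 := reg_add n R G 0 h i i hi
  have h2 : Subsingleton (Coh.HH (CohB1.ProjSpace n R)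
      (CohB1.tensorMod G (Twist.twistProjSpace n R 0)) i) :=
    subsingleton_twist_congr n R G (by ring) i h1
  obtain ⟨e⟩ := nonempty_twist_zero_iso n R G
  exact Dv.subsingleton_HH_of_iso e.symm i h2

end Ring

section Rel
variable (n : ℕ) (Y : Scheme.{u}) (F : (KRR.PY n Y).Modules) [F.IsQuasicoherent]

theorem isZero_rpushAb_iff (i : ℕ) :
    IsZero ((Coh.RpushAb (KRR.pr n Y) i).obj (Coh.toAb F)) ↔
      ∀ (W : Y.Opens) (hW : IsAffineOpen W),
        Subsingleton (Coh.HH (CohB1.ProjSpace n Γ(Y, W)) (F.restrict (jW n Y W hW)) i) := by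
  constructor
  · intro h W hW
    have h1 := subsingleton_HHon_of_isZero_rpushAb (KRR.pr n Y) F i h W hW
    exact subsingleton_chart_of_HHon n Y W hW F i h1
  · intro h
    refine RpushLoc.isZero_rpushAb_of_cover (KRR.pr n Y) F i
      (fun W : Y.affineOpens => W.1) (fun W => W.2) ?_ ?_
    · intro x
      obtain ⟨_, ⟨W, hW, rfl⟩, hxW, -⟩ := Y.isBasis_affineOpens.exists_subset_of_mem_open
        (Set.mem_univ x) isOpen_univ
      exact ⟨⟨W, hW⟩, hxW⟩
    · intro W
      exact subsingleton_HHon_of_chart n Y W.1 W.2 F i (h W.1 W.2)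

theorem isZero_rpushAb_of_isRegSheaf (hreg : KRR.IsRegSheaf n Y F) (i : ℕ) (hi : 1 ≤ i) :
    IsZero ((Coh.RpushAb (KRR.pr n Y) i).obj (Coh.toAb F)) := by
  rw [isZero_rpushAb_iff]
  rw [isRegSheaf_iff] at hreg
  intro W hW
  exact subsingleton_HH_of_reg n Γ(Y, W) _ (hreg W hW) i hi

theorem s3754 (hreg : KRR.IsRegSheaf n Y F) :
    (∀ m : ℕ, KRR.IsRegSheaf n Y (KRR.twF n Y (m : ℤ) F)) ∧
    ∀ i : ℕ, 1 ≤ i → IsZero ((Coh.RpushAb (KRR.pr n Y) i).obj (Coh.toAb F)) :=
  ⟨fun m => s19428 n Y F hreg m, fun i hi => isZero_rpushAb_of_isRegSheaf n Y F hreg i hi⟩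

end Rel
end Groth.Agent.Lib.Helper4.KrrD
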