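import Mathlib
import Groth.Prelude.Def_KRR
import Groth.Agent.Lib.Helper1.RpTw2

/-!
# projective space is flat over its base: flat_toSpec_ring, flat_pr (helper4)
-/

set_option backward.isDefEq.respectTransparency.types false
set_option synthInstance.maxHeartbeats 400000
set_option autoImplicit false
set_option linter.unusedSectionVars false
set_option linter.style.haveILetI false
set_option linter.unusedSimpArgs false
universe u v w
open CategoryTheory CategoryTheory.Limits AlgebraicGeometry TopologicalSpace Opposite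
open HomogeneousLocalization

namespace Groth.Agent.Lib.Helper4.PnFlat1

instance isDomain_uliftInt : IsDomain (ULift.{u} ℤ) :=
  MulEquiv.isDomain ℤ (ULift.ringEquiv : ULift.{u} ℤ ≃+* ℤ).toMulEquiv

instance isBezout_uliftInt : IsBezout (ULift.{u} ℤ) :=
  Function.Surjective.isBezout (ULift.ringEquiv : ULift.{u} ℤ ≃+* ℤ).symm.toRingHom
    (ULift.ringEquiv : ULift.{u} ℤ ≃+* ℤ).symm.surjective

section
variable (n : ℕ) (Z : Type u) [CommRing Z]

/-- the ring map `Z → (A_f)_0` -/
noncomputable def gAway (f : MvPolynomial (Fin (n + 1)) Z) : Z →+* Away (CohB1.polyGrading n Z) f :=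
  (fromZeroRingHom (CohB1.polyGrading n Z) (Submonoid.powers f)).comp
    (algebraMap Z (CohB1.polyGrading n Z 0))

theorem val_gAway (f : MvPolynomial (Fin (n + 1)) Z) (c : Z) :
    (gAway n Z f c).val = algebraMap Z (Localization.Away f) c := by
  unfold gAway
  rfl

variable [IsDomain Z] [IsBezout Z]

theorem flat_gAway (f : MvPolynomial (Fin (n + 1)) Z) : (gAway n Z f).Flat := by
  unfold RingHom.Flat
  letI := (gAway n Z f).toAlgebra
  rw [Module.Flat.flat_iff_torsion_eq_bot_of_isBezout, Submodule.eq_bot_iff]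
  intro m hm
  rw [Submodule.mem_torsion_iff] at hm
  obtain ⟨⟨c, hc⟩, hcm⟩ := hm
  -- flatness of the localization
  haveI : Module.Flat Z (Localization.Away f) :=
    Module.Flat.trans Z (MvPolynomial (Fin (n + 1)) Z) (Localization.Away f)
  have hcm' : (gAway n Z f c) * m = 0 := hcm
  have h1 : (algebraMap Z (Localization.Away f) c) * m.val = 0 := by
    rw [← val_gAway, ← HomogeneousLocalization.val_mul, hcm', HomogeneousLocalization.val_zero]
  have h2 : c • m.val = 0 := by rw [Algebra.smul_def]; exact h1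
  have h3 : m.val ∈ Submodule.torsion Z (Localization.Away f) := by
    rw [Submodule.mem_torsion_iff]
    exact ⟨⟨c, hc⟩, h2⟩
  rw [Module.Flat.torsion_eq_bot, Submodule.mem_bot] at h3
  exact HomogeneousLocalization.val_injective _ (by rw [h3, HomogeneousLocalization.val_zero])

end
section
variable (n : ℕ) (Z : Type u) [CommRing Z] [IsDomain Z] [IsBezout Z]

theorem flat_toSpec : Flat (CohB1.ProjSpace.toSpec n Z) := by
  let 𝒰 := (Proj.affineOpenCover (CohB1.polyGrading n Z)).openCover
  refine (IsZariskiLocalAtSource.iff_of_openCover (P := @Flat)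
    (f := (CohB1.ProjSpace.toSpec n Z : Proj (CohB1.polyGrading n Z) ⟶ _)) 𝒰).2 ?_
  change ∀ i : (Σ i : ℕ+, CohB1.polyGrading n Z i),
    Flat (Proj.awayι (CohB1.polyGrading n Z) i.2.1 i.2.2 i.1.2 ≫ CohB1.ProjSpace.toSpec n Z)
  rintro ⟨d, f⟩
  unfold CohB1.ProjSpace.toSpec
  have h := Proj.awayι_toSpecZero_assoc (CohB1.polyGrading n Z) f.1 f.2 d.2
    (Spec.map (CommRingCat.ofHom (algebraMap Z ↥(CohB1.polyGrading n Z 0))))
  show Flat (Proj.awayι (CohB1.polyGrading n Z) f.1 f.2 d.2 ≫
    Proj.toSpecZero (CohB1.polyGrading n Z) ≫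
      Spec.map (CommRingCat.ofHom (algebraMap Z ↥(CohB1.polyGrading n Z 0))))
  rw [h, ← Spec.map_comp, Flat.SpecMap_iff]
  exact flat_gAway n Z _

end

instance flat_pr (n : ℕ) (Y : Scheme.{u}) : Flat (KRR.pr n Y) := by
  haveI h0 : Flat (CohB1.ProjSpace.toSpec n (ULift.{u} ℤ)) := flat_toSpec n (ULift.{u} ℤ)
  have : Flat (pullback.snd (CohB1.ProjSpace.toSpec n (ULift.{u} ℤ))
      (specULiftZIsTerminal.from Y)) := inferInstance
  exact this

open Groth.Agent.Helper1 in
theorem flat_toSpec_ring (n : ℕ) (R : Type u) [CommRing R] : Flat (CohB1.ProjSpace.toSpec n R) := by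
  haveI h0 : Flat (CohB1.ProjSpace.toSpec n (ULift.{u} ℤ)) := flat_toSpec n (ULift.{u} ℤ)
  exact MorphismProperty.of_isPullback (P := @Flat)
    (HProjLoc.isPullback_projSpace n (RpTw.ρZ R)) h0
end Groth.Agent.Lib.Helper4.PnFlat1
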