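import Mathlib
import Groth.Prelude.Def_KRR
import Groth.Agent.Lib.Helper4.KrrD
import Groth.Agent.Lib.Helper4.PnFlat1
import Groth.Agent.Lib.Helper4.FlatTw4
import Groth.Agent.Lib.Helper5.Perf.LocalCoh
import Groth.Agent.Lib.Helper5.Perf.RelPerf

/-!
# direct image of a regular finite locally free sheaf is finite locally free (s3756); isFinLocFree_push_of_vanishing (helper4)
-/

set_option backward.isDefEq.respectTransparency.types false
set_option synthInstance.maxHeartbeats 400000
set_option autoImplicit false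
set_option linter.unusedSectionVars false
set_option linter.style.haveILetI false
set_option linter.unusedSimpArgs false
universe u v w
open CategoryTheory CategoryTheory.Limits AlgebraicGeometry TopologicalSpace Opposite MonoidalCategory
open Groth.Agent.Helper1 Groth.Agent.Helper3
open Groth.Agent.Lib.Helper4.KrrA Groth.Agent.Lib.Helper4.KrrB Groth.Agent.Lib.Helper4.KrrC
open Groth.Agent.Lib.Helper4.KrrD Groth.Agent.Lib.Helper4.PnFlat1
open Groth.Agent.Lib.Helper4.KosC1 Groth.Agent.Lib.Helper4.KosC3 Groth.Agent.Lib.Helper4.KosC4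
open Groth.Agent.Lib.Helper4.FlatTw4 Groth.Agent.Lead

namespace Groth.Agent.Lib.Helper4.KrrE

section Gen
variable {X Y : Scheme.{u}} (f : X ⟶ Y)

/-- over a locally Noetherian base, the direct image of a flat coherent module with vanishing higher
cohomology over the preimages of affine opens is finite locally free -/
theorem isFinLocFree_push_of_vanishing [IsProper f] [IsLocallyNoetherian Y]
    (G : X.Modules) (hGc : Coh.IsCoh G) (hGfl : FlatMod.IsFlatOver f G)
    (hv : ∀ V : Y.affineOpens, ∀ q : ℕ, 0 < q → Subsingleton (Coh.HHon X G (f ⁻¹ᵁ V.1) q)) :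
    FlatMod.IsFinLocFree ((Scheme.Modules.pushforward f).obj G) := by
  haveI : G.IsQuasicoherent := hGc.1
  haveI := PushQc.isQuasicoherent_pushforward f G
  apply FLF.isFinLocFree_of_affine_nhds
  intro y
  obtain ⟨_, ⟨W, hW, rfl⟩, hyW, -⟩ := Y.isBasis_affineOpens.exists_subset_of_mem_open
    (Set.mem_univ y) isOpen_univ
  let V : Y.affineOpens := ⟨W, hW⟩
  refine ⟨V.1, V.2, hyW, ?_⟩
  haveI : IsNoetherianRing Γ(Y, V.1) := IsLocallyNoetherian.component_noetherian V
  letI : (↑(f ⁻¹ᵁ V.1) : Scheme.{u}).Over (Spec (CommRingCat.of Γ(Y, V.1))) :=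
    ⟨RpushLoc.strMap f V.2⟩
  haveI : IsProper ((↑(f ⁻¹ᵁ V.1) : Scheme.{u}) ↘ Spec (CommRingCat.of Γ(Y, V.1))) := by
    change IsProper (RpushLoc.strMap f V.2)
    unfold RpushLoc.strMap
    infer_instance
  have h0 := Groth.Agent.Lib.Helper4.FlatTw3.finite_projective_HH_zero Γ(Y, V.1) (↑(f ⁻¹ᵁ V.1) : Scheme.{u})
    (G.restrict (f ⁻¹ᵁ V.1).ι) (FinPush.isCoh_restrict _ G hGc)
    (Groth.Agent.Lib.Helper4.ChartSq1.isFlatOver_restrict f V.2 G hGfl)
    (fun q hq => hv V q hq)
  haveI : EnoughInjectives X.Modules := Groth.Agent.S0485.result _ X.ringCatSheaf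
  haveI : HasInjectiveResolutions X.Modules := inferInstance
  obtain ⟨e1⟩ := Groth.Agent.Lib.Helper4.RpushSec1.nonempty_sections_equiv f G V.2 0
  let e0 : (Coh.Rpush f 0).obj G ≅ (Scheme.Modules.pushforward f).obj G :=
    (Functor.rightDerivedZeroIsoSelf (Scheme.Modules.pushforward f)).app G
  let e := (secEquiv e0 V.1).symm ≪≫ₗ e1
  haveI := h0.1
  haveI := h0.2
  exact ⟨Module.Finite.equiv e.symm, Module.Projective.of_equiv e.symm⟩

end Gen

section Rel
variable (n : ℕ) (Y : Scheme.{u})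

instance isProper_pr : IsProper (KRR.pr n Y) := by
  haveI : IsProper (CohB1.ProjSpace.toSpec n (ULift.{u} ℤ)) := VA5.isProper_toSpec n _
  exact MorphismProperty.pullback_snd _ _ inferInstance

theorem s3756 [IsLocallyNoetherian Y] (F : (KRR.PY n Y).Modules) (hF : FlatMod.IsFinLocFree F)
    (hreg : KRR.IsRegSheaf n Y F) :
    FlatMod.IsFinLocFree ((Scheme.Modules.pushforward (KRR.pr n Y)).obj F) := by
  have hFc : Coh.IsCoh F := Groth.Agent.Lib.Helper5.LocalCoh.isCoh_of_isFinLocFree F hF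
  haveI : F.IsQuasicoherent := hFc.1
  have hfl : FlatMod.IsFlatOver (KRR.pr n Y) F :=
    Groth.Agent.Lib.Helper5.LpullLib.isFlatOver_of_isFinLocFree (KRR.pr n Y) F hF
  apply isFinLocFree_push_of_vanishing (KRR.pr n Y) F hFc hfl
  intro V q hq
  apply subsingleton_HHon_of_chart n Y V.1 V.2 F q
  rw [isRegSheaf_iff] at hreg
  exact subsingleton_HH_of_reg n Γ(Y, V.1) _ (hreg V.1 V.2) q hq

end Rel
end Groth.Agent.Lib.Helper4.KrrE
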