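import Mathlib
import Groth.Prelude.Def_KRR
import Groth.Agent.Lib.Helper4.KrrE
import Groth.Agent.Lib.Helper5.LTen.Flf
import Groth.Agent.Lib.Helper1.InvInv2
import Groth.Agent.Lib.Helper4.SerreVan

/-!
# eventual regularity of twists over a Noetherian base; s3757 (helper4)
-/

set_option backward.isDefEq.respectTransparency.types false
set_option synthInstance.maxHeartbeats 400000
set_option autoImplicit false
set_option linter.unusedSectionVars false
set_option linter.style.haveILetI false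
set_option linter.unusedSimpArgs false
universe u v w
open CategoryTheory CategoryTheory.Limits AlgebraicGeometry TopologicalSpace Opposite MonoidalCategory
open Groth.Agent.Helper1 Groth.Agent.Helper3
open Groth.Agent.Lib.Helper4.KrrA Groth.Agent.Lib.Helper4.KrrB Groth.Agent.Lib.Helper4.KrrC
open Groth.Agent.Lib.Helper4.KrrD Groth.Agent.Lib.Helper4.KrrE Groth.Agent.Lib.Helper4.PnFlat1
open Groth.Agent.Lib.Helper4.KosC1 Groth.Agent.Lib.Helper4.KosC3 Groth.Agent.Lib.Helper4.KosC4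
open Groth.Agent.Lib.Helper4.FlatTw4 Groth.Agent.Lead

namespace Groth.Agent.Lib.Helper4.KrrF

section Ring
variable (n : ℕ) (R : Type u) [CommRing R] (G : (CohB1.ProjSpace n R).Modules) [hG : G.IsQuasicoherent]

/-- regularity from Serre vanishing -/
theorem reg_of_vanishing (m₀ : ℤ)
    (h : ∀ m : ℤ, m₀ ≤ m → ∀ i : ℕ, 0 < i → Subsingleton (Coh.HH (CohB1.ProjSpace n R)
      (CohB1.tensorMod G (Twist.twistProjSpace n R m)) i))
    (m : ℤ) (hm : m₀ + n ≤ m) : Reg n R G m := by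
  intro i hi
  by_cases hin : i ≤ n
  · exact h (m - i) (by have : (i : ℤ) ≤ n := by exact_mod_cast hin
                        omega) i hi
  · haveI : (Twist.twistProjSpace n R (m - i)).IsQuasicoherent :=
      InvQc.isQuasicoherent_of_isInvertible _
        (Groth.Agent.Lib.Helper4.ClBridge2.isInvertible_twist n R (m - i))
    haveI := Groth.Agent.Lead.TilT.isQuasicoherent_tensorMod G (Twist.twistProjSpace n R (m - i))
    exact Groth.Agent.S0022.result n R _ i (by omega)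

end Ring

section Rel
variable (n : ℕ) (Y : Scheme.{u}) (F : (KRR.PY n Y).Modules) [F.IsQuasicoherent]

theorem isZero_rpushAb_twF_of_cover (d : ℤ) (i : ℕ) {ι : Type*} (V : ι → Y.Opens)
    (hV : ∀ j, IsAffineOpen (V j)) (hcov : ∀ x : Y, ∃ j, x ∈ V j)
    (h : ∀ j, Subsingleton (Coh.HH (CohB1.ProjSpace n Γ(Y, V j))
      (CohB1.tensorMod (F.restrict (jW n Y (V j) (hV j))) (Twist.twistProjSpace n Γ(Y, V j) d)) i)) :
    IsZero ((Coh.RpushAb (KRR.pr n Y) i).obj (Coh.toAb (KRR.twF n Y d F))) := by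
  refine RpushLoc.isZero_rpushAb_of_cover (KRR.pr n Y) (KRR.twF n Y d F) i V hV hcov ?_
  intro j
  apply subsingleton_HHon_of_chart n Y (V j) (hV j) (KRR.twF n Y d F) i
  exact Dv.subsingleton_HH_of_iso (chartTw n Y (V j) (hV j) d F) i (h j)

theorem isRegSheaf_of_cover {ι : Type*} (V : ι → Y.Opens)
    (hV : ∀ j, IsAffineOpen (V j)) (hcov : ∀ x : Y, ∃ j, x ∈ V j)
    (h : ∀ j, Reg n Γ(Y, V j) (F.restrict (jW n Y (V j) (hV j))) 0) :
    KRR.IsRegSheaf n Y F := by
  intro i hi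
  apply isZero_rpushAb_twF_of_cover n Y F (-(i : ℤ)) i V hV hcov
  intro j
  exact subsingleton_twist_congr n Γ(Y, V j) _ (by ring) i (h j i hi)

end Rel

section Main
variable (n : ℕ) (Y : Scheme.{u})

theorem isFinLocFree_twF (m : ℤ) (F : (KRR.PY n Y).Modules) (hF : FlatMod.IsFinLocFree F) :
    FlatMod.IsFinLocFree (KRR.twF n Y m F) := by
  have hZ : PicF.IsInvertible (Twist.twistProjSpace n (ULift.{u} ℤ) m) :=
    Groth.Agent.Lib.Helper4.ClBridge2.isInvertible_twist n (ULift.{u} ℤ) m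
  have hO : PicF.IsInvertible (Twist.twistOver n Y m) := PullGen.isInvertible_pullback _ hZ
  exact Groth.Agent.Lib.Helper5.LTenFlf.isFinLocFree_tensor _ F
    (InvInv2.isFinLocFree_of_isInvertible hO) hF

/-- eventual regularity of twists of a coherent module over a Noetherian base -/
theorem exists_isRegSheaf_twF [IsNoetherian Y] (F : (KRR.PY n Y).Modules) (hF : Coh.IsCoh F) :
    ∃ m₀ : ℕ, ∀ m : ℕ, m₀ ≤ m → KRR.IsRegSheaf n Y (KRR.twF n Y (m : ℤ) F) := by
  classical
  haveI : F.IsQuasicoherent := hF.1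
  obtain ⟨s, hs⟩ := isCompact_univ.elim_finite_subcover
    (fun i : Y.affineOpens => (i.1 : Set Y)) (fun i => i.1.2) (by
      intro x _
      obtain ⟨W, hW, hxW, -⟩ := (Opens.isBasis_iff_nbhd.mp Y.isBasis_affineOpens)
        (show x ∈ (⊤ : Y.Opens) from trivial)
      exact Set.mem_iUnion.2 ⟨⟨W, hW⟩, hxW⟩)
  have key : ∀ V : Y.affineOpens, ∃ m₀ : ℕ, ∀ m : ℕ, m₀ ≤ m →
      Reg n Γ(Y, V.1) (F.restrict (jW n Y V.1 V.2)) (m : ℤ) := by
    intro V
    haveI : IsNoetherianRing Γ(Y, V.1) := IsLocallyNoetherian.component_noetherian V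
    have hGc : Coh.IsCoh (F.restrict (jW n Y V.1 V.2)) := FinPush.isCoh_restrict _ F hF
    haveI : (F.restrict (jW n Y V.1 V.2)).IsQuasicoherent := hGc.1
    obtain ⟨N, hN⟩ := Groth.Agent.Lib.Helper4.SerreVan.serre_vanishing n Γ(Y, V.1) _ hGc
    refine ⟨(N + n).toNat, fun m hm => ?_⟩
    apply reg_of_vanishing n Γ(Y, V.1) _ N (fun m' hm' i hi => hN m' hm' i hi)
    omega
  choose N hN using key
  refine ⟨s.sup N, fun m hm => ?_⟩
  haveI : (KRR.twF n Y (m : ℤ) F).IsQuasicoherent := inferInstance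
  refine isRegSheaf_of_cover n Y _ (fun V : s => V.1.1) (fun V => V.1.2) ?_ ?_
  · intro x
    have hx := hs (Set.mem_univ x)
    simp only [Set.mem_iUnion] at hx
    obtain ⟨V, hVs, hxV⟩ := hx
    exact ⟨⟨V, hVs⟩, hxV⟩
  · intro V
    apply reg_chart_twF
    have := hN V.1 m (le_trans (Finset.le_sup V.2) hm)
    have e : (m : ℤ) + 0 = (m : ℤ) := by ring
    rw [e]
    exact this

theorem s3757 [IsNoetherian Y] (F : (KRR.PY n Y).Modules) (hF : FlatMod.IsFinLocFree F) :
    ∃ m₀ : ℕ, ∀ m : ℕ, m₀ ≤ m →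
      FlatMod.IsFinLocFree ((Scheme.Modules.pushforward (KRR.pr n Y)).obj (KRR.twF n Y (m : ℤ) F)) := by
  have hFc : Coh.IsCoh F := Groth.Agent.Lib.Helper5.LocalCoh.isCoh_of_isFinLocFree F hF
  obtain ⟨m₀, h⟩ := exists_isRegSheaf_twF n Y F hFc
  exact ⟨m₀, fun m hm => s3756 n Y _ (isFinLocFree_twF n Y m F hF) (h m hm)⟩

end Main
end Groth.Agent.Lib.Helper4.KrrF
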