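import Mathlib
import Groth.Prelude.Def_KRR
import Groth.Agent.Lib.Helper4.KrrF
import Groth.Agent.Lib.Helper1.TwistExt
import Groth.Agent.Lib.Helper1.ProjF1
import Groth.Agent.Lib.Helper1.TwistAmple
import Groth.Agent.Lib.Helper1.AffPushEpi
import Groth.Agent.Lib.Helper4.ClBridge4

/-!
# regular qcoh sheaves on P^n_R are globally generated; S19429 (helper4)
-/

set_option backward.isDefEq.respectTransparency.types false
set_option synthInstance.maxHeartbeats 400000
set_option autoImplicit false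
set_option linter.unusedSectionVars false
set_option linter.style.haveILetI false
set_option linter.unusedSimpArgs false
universe u v w
open CategoryTheory CategoryTheory.Limits AlgebraicGeometry TopologicalSpace Opposite MonoidalCategory
open Groth.Agent.Helper1 Groth.Agent.Helper3
open Groth.Agent.Helper1.QcCech Groth.Agent.Helper1.TmulLib Groth.Agent.Helper1.TensGen
open Groth.Agent.Helper1.LGen Groth.Agent.Helper1.TwistSec Groth.Agent.Helper1.AmpleLib
open Groth.Agent.Lib.Helper4.KosB2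

namespace Groth.Agent.Lib.Helper4.KrrG

section Gen
variable {X : Scheme.{u}}

/-- bifunctoriality of the tensor product of maps, on the two orders of composition -/
theorem tensorMap_comm {E C N N' : X.Modules} (π : E ⟶ C) (g : N ⟶ N') :
    KoszTw.tensorMap (𝟙 E) g ≫ KoszTw.tensorMap π (𝟙 N') =
      KoszTw.tensorMap π (𝟙 N) ≫ KoszTw.tensorMap (𝟙 C) g := by
  apply ProjF.hom_ext_tm
  intro U m n
  change (KoszTw.tensorMap π (𝟙 N')).app U ((KoszTw.tensorMap (𝟙 E) g).app U (tm E N U m n)) =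
    (KoszTw.tensorMap (𝟙 C) g).app U ((KoszTw.tensorMap π (𝟙 N)).app U (tm E N U m n))
  rw [tensorMap_tm, tensorMap_tm, tensorMap_tm, tensorMap_tm]
  rfl

theorem tensorMap_comm_app {E C N N' : X.Modules} (π : E ⟶ C) (g : N ⟶ N') (U : X.Opens)
    (z : Γ(CohB1.tensorMod E N, U)) :
    (KoszTw.tensorMap π (𝟙 N')).app U ((KoszTw.tensorMap (𝟙 E) g).app U z) =
      (KoszTw.tensorMap (𝟙 C) g).app U ((KoszTw.tensorMap π (𝟙 N)).app U z) := by
  have := congrArg (fun φ => Scheme.Modules.Hom.app φ U z) (tensorMap_comm π g)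
  exact this

/-- **Lemma Q**: a map of modules which kills all global sections of all positive twists kills
the sections over `X_s` -/
theorem app_genLocus_eq_zero [CompactSpace X] [QuasiSeparatedSpace X] {L : X.Modules}
    (hL : PicF.IsInvertible L) (s : Coh.structureModule X ⟶ L) {E C : X.Modules}
    [E.IsQuasicoherent] (π : E ⟶ C)
    (h : ∀ k : ℕ, 0 < k → ∀ t' : Γ(CohB1.tensorMod E (CohB1.tensorPow L k), ⊤),
      (KoszTw.tensorMap π (𝟙 (CohB1.tensorPow L k))).app ⊤ t' = 0)
    (t : Γ(E, CohB1.genLocus L s)) : π.app (CohB1.genLocus L s) t = 0 := by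
  obtain ⟨k, hk, t', ht'⟩ := exists_twist_extends hL s E t
  have hg : IsGen (CohB1.tensorPow L k) (CohB1.genLocus L s)
      (gpow (secVal s (CohB1.genLocus L s)) k) := isGen_gpow (isGen_secVal s le_rfl) k
  apply (bijective_tm_of_isGen C hg).1
  simp only
  rw [tm_zero_left]
  have h1 := congrArg (fun z => (KoszTw.tensorMap π (𝟙 (CohB1.tensorPow L k))).app
    (CohB1.genLocus L s) z) ht'
  simp only at h1
  rw [QcExt.app_res, h k hk t', map_zero, twist_eq, tensorMap_tm] at h1
  exact h1.symm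

end Gen
open Groth.Agent.Lib.Helper4.KosB1 Groth.Agent.Lib.Helper4.KosC1 Groth.Agent.Lib.Helper4.KosC3
open Groth.Agent.Lib.Helper4.KosC4 Groth.Agent.Lib.Helper4.KrrC Groth.Agent.Lib.Helper4.DuA1 Groth.Agent.Lib.Helper4.PnS1
section Pn
variable (n : ℕ) (R : Type u) [CommRing R]

/-- the right unit isomorphism is natural -/
theorem unitorR_natural {X : Scheme.{u}} {E C : X.Modules} (π : E ⟶ C) :
    KoszTw.tensorMap π (𝟙 (Coh.structureModule X)) ≫ (SecTwist.unitorR C).hom =
      (SecTwist.unitorR E).hom ≫ π := by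
  apply ProjF.hom_ext_tm
  intro U m r
  change (SecTwist.unitorR C).hom.app U ((KoszTw.tensorMap π (𝟙 _)).app U (tm E _ U m r)) =
    π.app U ((SecTwist.unitorR E).hom.app U (tm E _ U m r))
  rw [tensorMap_tm]
  have h1 : (SecTwist.unitorR C).hom.app U (tm C (Coh.structureModule X) U (π.app U m)
      ((𝟙 (Coh.structureModule X) : Coh.structureModule X ⟶ _).app U r)) =
      (show Γ(X, U) from r) • π.app U m := SecTwist.unitorR_tmul C U (π.app U m) r
  have h2 : (SecTwist.unitorR E).hom.app U (tm E (Coh.structureModule X) U m r) =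
      (show Γ(X, U) from r) • m := SecTwist.unitorR_tmul E U m r
  rw [h1, h2, Scheme.Modules.Hom.app_smul]

theorem base_zero_gen {X : Scheme.{u}} {E C N0 : X.Modules} (e0 : N0 ≅ Coh.structureModule X) (π : E ⟶ C)
    (h0 : ∀ t : Γ(E, ⊤), π.app ⊤ t = 0)
    (u : Γ(CohB1.tensorMod E N0, ⊤)) :
    (KoszTw.tensorMap π (𝟙 N0)).app ⊤ u = 0 := by
  let ψ : ∀ M : X.Modules, CohB1.tensorMod M N0 ⟶ M :=
    fun M => KoszTw.tensorMap (𝟙 M) e0.hom ≫ (SecTwist.unitorR M).hom
  haveI hiso : ∀ M, IsIso (ψ M) := by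
    intro M
    haveI : IsIso (KoszTw.tensorMap (𝟙 M) e0.hom) := by
      rw [← KoszTw.tensorBi_obj_map]
      exact ((DCoh.tensorBi.obj M).mapIso e0).isIso_hom
    exact IsIso.comp_isIso
  have nat : KoszTw.tensorMap π (𝟙 N0) ≫ ψ C = ψ E ≫ π := by
    change KoszTw.tensorMap π (𝟙 _) ≫ KoszTw.tensorMap (𝟙 C) e0.hom ≫ (SecTwist.unitorR C).hom =
      (KoszTw.tensorMap (𝟙 E) e0.hom ≫ (SecTwist.unitorR E).hom) ≫ π
    rw [← Category.assoc, ← tensorMap_comm, Category.assoc, unitorR_natural, Category.assoc]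
  have h1 : (ψ C).app ⊤ ((KoszTw.tensorMap π (𝟙 N0)).app ⊤ u) = 0 := by
    have := congrArg (fun φ => Scheme.Modules.Hom.app φ ⊤ u) nat
    refine this.trans ?_
    exact h0 _
  have h2 := congrArg (fun φ => Scheme.Modules.Hom.app φ ⊤
    ((KoszTw.tensorMap π (𝟙 N0)).app ⊤ u)) (IsIso.hom_inv_id (ψ C))
  change (inv (ψ C)).app ⊤ ((ψ C).app ⊤ _) = _ at h2
  rw [h1, map_zero] at h2
  exact h2.symm

theorem base_zero {E C : (CohB1.ProjSpace n R).Modules} (π : E ⟶ C)
    (h0 : ∀ t : Γ(E, ⊤), π.app ⊤ t = 0)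
    (u : Γ(CohB1.tensorMod E (Twist.twistProjSpace n R 0), ⊤)) :
    (KoszTw.tensorMap π (𝟙 (Twist.twistProjSpace n R 0))).app ⊤ u = 0 := by
  obtain ⟨e0⟩ := TwistTens.nonempty_twist_zero_iso (CohB1.polyGrading n R)
  exact base_zero_gen (X := CohB1.ProjSpace n R) (N0 := Twist.twistProjSpace n R 0) e0 π h0 u

theorem tw_zero (E C : (CohB1.ProjSpace n R).Modules) [E.IsQuasicoherent] (π : E ⟶ C)
    (h0 : ∀ t : Γ(E, ⊤), π.app ⊤ t = 0) (hreg : Reg n R E 0) :
    ∀ (d : ℕ) (c : ℤ), c = d → ∀ u : Γ(CohB1.tensorMod E (Twist.twistProjSpace n R c), ⊤),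
      (KoszTw.tensorMap π (𝟙 (Twist.twistProjSpace n R c))).app ⊤ u = 0 := by
  intro d
  induction d with
  | zero =>
    intro c hc u
    obtain rfl : c = 0 := by simpa using hc
    exact base_zero n R π h0 u
  | succ d ih =>
    intro c hc u
    have hc' : c = ((1 : ℕ) : ℤ) + (d : ℤ) := by rw [hc]; push_cast; ring
    obtain ⟨t, ht⟩ := exists_sum_mul' n R E (d : ℤ) c hc' (fun q' hq hq' => by
      have := reg_add n R E 0 hreg d q' hq
      exact subsingleton_twist_congr n R E (by ring) q' this) u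
    rw [ht, map_sum]
    apply Finset.sum_eq_zero
    intro l _
    rw [tensorMap_comm_app π (mulBy (xv n R l) (d : ℤ) c hc') ⊤ (t l), ih (d : ℤ) rfl (t l), map_zero]

end Pn
open Groth.Agent.Lib.Helper4.KosB1 Groth.Agent.Lib.Helper4.KosC1 Groth.Agent.Lib.Helper4.KosC3
open Groth.Agent.Lib.Helper4.KosC4 Groth.Agent.Lib.Helper4.KrrC Groth.Agent.Lib.Helper4.DuA1 Groth.Agent.Lib.Helper4.PnS1
section Pn2
variable (n : ℕ) (R : Type u) [CommRing R]

theorem app_eq_zero_of_isIso {X : Scheme.{u}} {M N : X.Modules} (φ : M ⟶ N) [IsIso φ] (U : X.Opens)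
    (x : Γ(M, U)) (h : φ.app U x = 0) : x = 0 := by
  have h2 := congrArg (fun ψ => Scheme.Modules.Hom.app ψ U x) (IsIso.hom_inv_id φ)
  change (inv φ).app U (φ.app U x) = x at h2
  rw [h, map_zero] at h2
  exact h2.symm

theorem pow_zero (E C : (CohB1.ProjSpace n R).Modules) [E.IsQuasicoherent] (π : E ⟶ C)
    (h0 : ∀ t : Γ(E, ⊤), π.app ⊤ t = 0) (hreg : Reg n R E 0) (k : ℕ)
    (t' : Γ(CohB1.tensorMod E (CohB1.tensorPow (Twist.twistProjSpace n R 1) k), ⊤)) :
    (KoszTw.tensorMap π (𝟙 (CohB1.tensorPow (Twist.twistProjSpace n R 1) k))).app ⊤ t' = 0 := by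
  obtain ⟨e⟩ := (TwistTens.twist_package (CohB1.polyGrading n R) (Groth.Agent.Lib.Helper4.SerreFin.hcov1 n R)).2.2 k
  have e' : Twist.twistProjSpace n R (k : ℤ) ≅ CohB1.tensorPow (Twist.twistProjSpace n R 1) k := e
  have h1 := tensorMap_comm_app π e'.inv ⊤ t'
  rw [tw_zero n R E C π h0 hreg k (k : ℤ) rfl] at h1
  haveI : IsIso (KoszTw.tensorMap (𝟙 C) e'.inv) := by
    rw [← KoszTw.tensorBi_obj_map]
    exact ((DCoh.tensorBi.obj C).mapIso e'.symm).isIso_hom
  exact app_eq_zero_of_isIso _ ⊤ _ h1.symm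

end Pn2
open Groth.Agent.Lib.Helper4.KosB1 Groth.Agent.Lib.Helper4.KosC1 Groth.Agent.Lib.Helper4.KosC3
open Groth.Agent.Lib.Helper4.KosC4 Groth.Agent.Lib.Helper4.KrrC Groth.Agent.Lib.Helper4.DuA1 Groth.Agent.Lib.Helper4.PnS1
section Pn3
variable (n : ℕ) (R : Type u) [CommRing R]

/-- the variable `X_j` as a homogeneous element of degree one -/
noncomputable def gX (j : Fin (n + 1)) : CohB1.polyGrading n R 1 :=
  ⟨MvPolynomial.X j, MvPolynomial.isHomogeneous_X R j⟩

theorem hunit (x : ProjectiveSpectrum (CohB1.polyGrading n R)) :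
    ∃ g' : CohB1.polyGrading n R 1, (g' : MvPolynomial (Fin (n + 1)) R) ∉ x.asHomogeneousIdeal := by
  obtain ⟨i, hi⟩ := ProjSpaceLib.exists_X_notMem n R x
  exact ⟨gX n R i, hi⟩

/-- **a regular quasi-coherent sheaf on projective space over a ring is globally generated** -/
theorem isGloballyGenerated_of_reg (E : (CohB1.ProjSpace n R).Modules) [E.IsQuasicoherent]
    (hreg : Reg n R E 0) : Curv2.IsGloballyGenerated E := by
  rw [GlobGen.isGloballyGenerated_iff]
  let C := cokernel (GlobGen.gen E)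
  let π : E ⟶ C := cokernel.π (GlobGen.gen E)
  have h0 : ∀ t : Γ(E, ⊤), π.app ⊤ t = 0 :=
    GlobGen.app_top_eq_zero_of_gen_comp π (cokernel.condition _)
  haveI hqF : (SheafOfModules.free Γ(E, ⊤) : (CohB1.ProjSpace n R).Modules).IsQuasicoherent :=
    inferInstance
  haveI : C.IsQuasicoherent := QcAbel.isQuasicoherent_cokernel (GlobGen.gen E)
  haveI : CompactSpace (CohB1.ProjSpace n R) := VA5.compactSpace_projSpace n R
  haveI : IsSeparated (CohB1.ProjSpace.toSpec n R) := VA5.isSeparated_toSpec n R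
  haveI : QuasiSeparatedSpace (CohB1.ProjSpace n R) :=
    quasiSeparatedSpace_of_quasiSeparated (CohB1.ProjSpace.toSpec n R)
  have hL : PicF.IsInvertible (Twist.twistProjSpace n R 1) :=
    Groth.Agent.Lib.Helper4.ClBridge2.isInvertible_twist n R 1
  have hC : IsZero C := by
    refine CohACC.isZero_of_affine_cover C
      (fun j : Fin (n + 1) => Proj.basicOpen (CohB1.polyGrading n R)
        (gX n R j : MvPolynomial (Fin (n + 1)) R))
      (fun j => Proj.isAffineOpen_basicOpen _ _ (gX n R j).2 one_pos) ?_ ?_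
    · rw [eq_top_iff]
      intro x _
      obtain ⟨i, hi⟩ := ProjSpaceLib.exists_X_notMem n R x
      exact Opens.mem_iSup.2 ⟨i, hi⟩
    · intro j k
      haveI : Epi π := inferInstanceAs (Epi (cokernel.π (GlobGen.gen E)))
      obtain ⟨m, rfl⟩ := AffPushEpi.app_surjective_of_epi π _
        (Proj.isAffineOpen_basicOpen _ _ (gX n R j).2 one_pos) k
      have hgl := TwistAmple.genLocus_globalOf (CohB1.polyGrading n R) (gX n R j) (hunit n R)
      have key : ∀ (W : (CohB1.ProjSpace n R).Opens)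
          (hW : W = CohB1.genLocus (Twist.twistProjSpace n R 1)
            (TwistAmple.homOfSec (Twist.twistProjSpace n R 1)
              (Twist.globalOf (CohB1.polyGrading n R) (gX n R j))))
          (t : Γ(E, W)), π.app W t = 0 := by
        intro W hW t
        subst hW
        exact app_genLocus_eq_zero hL _ π (fun k _ t' => pow_zero n R E C π h0 hreg k t') t
      exact key _ hgl.symm m
  exact Preadditive.epi_of_isZero_cokernel _ hC

end Pn3
open Groth.Agent.Lib.Helper4.KrrB Groth.Agent.Lib.Helper4.KrrC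
section Fin
variable (n : ℕ) (Y : Scheme.{u})

theorem s19429 (F : (KRR.PY n Y).Modules) (hF : Coh.IsQCoh F) (hreg : KRR.IsRegSheaf n Y F) :
    Epi ((Scheme.Modules.pullbackPushforwardAdjunction (KRR.pr n Y)).counit.app F) := by
  haveI : F.IsQuasicoherent := hF
  apply CounitLib.epi_counit_of_globallyGenerated_restrict
  intro W hW
  have h1 := (isRegSheaf_iff n Y F).1 hreg W hW
  haveI : (F.restrict (jW n Y W hW)).IsQuasicoherent := inferInstance
  have h2 := isGloballyGenerated_of_reg n Γ(Y, W) (F.restrict (jW n Y W hW)) h1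
  let U := (KRR.pr n Y) ⁻¹ᵁ W
  let κ : F.restrict U.ι ≅
      (Scheme.Modules.pullback (chartIso n Y W hW).hom).obj (F.restrict (jW n Y W hW)) :=
    (Scheme.Modules.restrictFunctorCongr (hom_jW n Y W hW).symm).app F ≪≫
    (Scheme.Modules.restrictFunctorComp (chartIso n Y W hW).hom (jW n Y W hW)).app F ≪≫
      (Scheme.Modules.restrictFunctorIsoPullback (chartIso n Y W hW).hom).app (F.restrict (jW n Y W hW))
  exact AmpleLib.isGloballyGenerated_of_iso κ.symm
    (Groth.Agent.Lib.Helper4.ClBridge4.isGloballyGenerated_pullback _ h2)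

end Fin
end Groth.Agent.Lib.Helper4.KrrG
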