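import Mathlib
import Groth.Prelude.Def_KRR
import Groth.Agent.Lib.Helper4.KrrG
import Groth.Agent.Lib.Helper4.SplitO1
import Groth.Agent.Lib.Helper5.Stalk.FlatPull
import Groth.Agent.Lib.Helper1.PushQc

/-!
# regularity in short exact sequences: S19431, S19432, S19433 (helper4)
-/

set_option backward.isDefEq.respectTransparency.types false
set_option synthInstance.maxHeartbeats 400000
set_option autoImplicit false
set_option linter.unusedSectionVars false
set_option linter.style.haveILetI false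
set_option linter.unusedSimpArgs false
universe u v w
open CategoryTheory CategoryTheory.Limits AlgebraicGeometry TopologicalSpace Opposite MonoidalCategory
open Groth.Agent.Helper1 Groth.Agent.Helper3
open Groth.Agent.Lib.Helper4
open Groth.Agent.Lib.Helper4.KrrA Groth.Agent.Lib.Helper4.KrrB Groth.Agent.Lib.Helper4.KrrC
open Groth.Agent.Lib.Helper4.KrrD
open Groth.Agent.Lib.Helper4.KosC1 Groth.Agent.Lib.Helper4.KosC3 Groth.Agent.Lib.Helper4.KosC4
open Groth.Agent.Lib.Helper4.SerreVan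

namespace Groth.Agent.Lib.Helper4.KrrH

section General
variable (A : Type u) [CommRing A] {X : Scheme.{u}} [X.Over (Spec (CommRingCat.of A))]
include A

theorem exact_delta_f {S : ShortComplex X.Modules} (hS : S.ShortExact) (i : ℕ)
    (y : Coh.HH X S.X₁ (i + 1)) (hy : Canon.HHlin A S.f (i + 1) y = 0) :
    ∃ x, HHFin2.deltaLin A hS i x = y :=
  Abelian.Ext.covariant_sequence_exact₁.{u, u, u+1} _ (HHFin2.Sab_shortExact hS) y hy rfl

theorem subsingleton_X₁ {S : ShortComplex X.Modules} (hS : S.ShortExact) (i : ℕ)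
    (h3 : Subsingleton (Coh.HH X S.X₃ i)) (h2 : Subsingleton (Coh.HH X S.X₂ (i + 1))) :
    Subsingleton (Coh.HH X S.X₁ (i + 1)) := by
  refine subsingleton_of_forall_eq 0 fun y => ?_
  obtain ⟨x, hx⟩ := exact_delta_f A hS i y (Subsingleton.elim (h := h2) _ _)
  rw [← hx, Subsingleton.elim (h := h3) x 0, map_zero]

theorem subsingleton_X₁_of_surj {S : ShortComplex X.Modules} (hS : S.ShortExact)
    (hg : Function.Surjective (S.g.app ⊤)) (h2 : Subsingleton (Coh.HH X S.X₂ 1)) :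
    Subsingleton (Coh.HH X S.X₁ 1) := by
  refine subsingleton_of_forall_eq 0 fun y => ?_
  obtain ⟨x, hx⟩ := exact_delta_f A hS 0 y (Subsingleton.elim (h := h2) _ _)
  obtain ⟨w, hw⟩ := hg (HH0.equiv X S.X₃ x)
  have hx' : x = Canon.HHlin A S.g 0 ((HH0.equiv X S.X₂).symm w) := by
    apply (HH0.equiv X S.X₃).injective
    rw [HH0_natural A, AddEquiv.apply_symm_apply, hw]
  rw [← hx, hx', HHFin2.delta_g]

theorem subsingleton_X₂ {S : ShortComplex X.Modules} (hS : S.ShortExact) (i : ℕ)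
    (h1 : Subsingleton (Coh.HH X S.X₁ i)) (h3 : Subsingleton (Coh.HH X S.X₃ i)) :
    Subsingleton (Coh.HH X S.X₂ i) := by
  refine subsingleton_of_forall_eq 0 fun y => ?_
  obtain ⟨x, hx⟩ := HHFin2.exact_f_g A hS i y (Subsingleton.elim (h := h3) _ _)
  rw [← hx, Subsingleton.elim (h := h1) x 0, map_zero]

end General

section Pn
variable (n : ℕ) (R : Type u) [CommRing R] {S : ShortComplex (CohB1.ProjSpace n R).Modules}
  (hS : S.ShortExact)
include hS

theorem tw_shortExact (c : ℤ) : (S.map (Tw n R c)).ShortExact :=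
  TwExact.shortExact_map (locGen_twist n R c) hS

theorem reg_X₂ (m : ℤ) (h1 : Reg n R S.X₁ m) (h3 : Reg n R S.X₃ m) : Reg n R S.X₂ m := by
  intro i hi
  exact subsingleton_X₂ R (X := CohB1.ProjSpace n R) (tw_shortExact n R hS (m - i)) i (h1 i hi) (h3 i hi)

theorem reg_X₃ (m : ℤ) (h2 : Reg n R S.X₂ m) (h1 : Reg n R S.X₁ (m + 1)) : Reg n R S.X₃ m := by
  intro i hi
  refine SerreVan.subsingleton_X₃ R (X := CohB1.ProjSpace n R) (tw_shortExact n R hS (m - i)) i (h2 i hi) ?_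
  have := h1 (i + 1) (by omega)
  exact subsingleton_twist_congr n R S.X₁ (by push_cast; ring) (i + 1) this

theorem reg_X₁ (h2 : Reg n R S.X₂ 1) (h3 : Reg n R S.X₃ 0)
    (hsurj : Function.Surjective (S.g.app ⊤)) : Reg n R S.X₁ 1 := by
  intro i hi
  obtain ⟨j, rfl⟩ : ∃ j, i = j + 1 := ⟨i - 1, by omega⟩
  rcases Nat.eq_zero_or_pos j with rfl | hj
  · have h2' : Subsingleton (Coh.HH (CohB1.ProjSpace n R) S.X₂ 1) := by
      have h := h2 1 le_rfl
      have h' := subsingleton_twist_congr n R S.X₂ (c' := 0) (by norm_num) 1 h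
      obtain ⟨e⟩ := nonempty_twist_zero_iso n R S.X₂
      exact Dv.subsingleton_HH_of_iso e.symm 1 h'
    have h1 := subsingleton_X₁_of_surj R (X := CohB1.ProjSpace n R) hS hsurj h2'
    obtain ⟨e⟩ := nonempty_twist_zero_iso n R S.X₁
    have h1' := Dv.subsingleton_HH_of_iso e 1 h1
    exact subsingleton_twist_congr n R S.X₁ (by norm_num) 1 h1'
  · refine subsingleton_X₁ R (X := CohB1.ProjSpace n R)
      (tw_shortExact n R hS (1 - ((j + 1 : ℕ) : ℤ))) j ?_ (h2 (j + 1) hi)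
    have := h3 j hj
    exact subsingleton_twist_congr n R S.X₃ (by push_cast; ring) j this

end Pn

section Rel
variable (n : ℕ) (Y : Scheme.{u})

theorem reg_chart_twF_symm (F : (KRR.PY n Y).Modules) (m : ℤ) (W : Y.Opens) (hW : IsAffineOpen W) (c : ℤ)
    (h : Reg n Γ(Y, W) ((KRR.twF n Y m F).restrict (jW n Y W hW)) c) :
    Reg n Γ(Y, W) (F.restrict (jW n Y W hW)) (m + c) := by
  intro i hi
  have h1 := h i hi
  obtain ⟨e⟩ := nonempty_twist_twist_iso n Γ(Y, W) (F.restrict (jW n Y W hW)) m (c - i)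
  have h2 := Dv.subsingleton_HH_of_iso
    (Groth.Agent.Lead.TilT.tensorModCongr (chartTw n Y W hW m F) (Iso.refl _)).symm i h1
  have h3 := Dv.subsingleton_HH_of_iso e.symm i h2
  exact subsingleton_twist_congr n Γ(Y, W) _ (by ring) i h3

theorem restrict_shortExact {S : ShortComplex (KRR.PY n Y).Modules} (hS : S.ShortExact)
    (W : Y.Opens) (hW : IsAffineOpen W) :
    (S.map (Scheme.Modules.restrictFunctor (jW n Y W hW))).ShortExact :=
  hS.map_of_exact _

theorem s19431 (S : ShortComplex (KRR.PY n Y).Modules)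
    (hS : S.ShortExact) (h₁ : Coh.IsQCoh S.X₁) (h₂ : Coh.IsQCoh S.X₂) (h₃ : Coh.IsQCoh S.X₃)
    (hreg₁ : KRR.IsRegSheaf n Y S.X₁) (hreg₃ : KRR.IsRegSheaf n Y S.X₃) :
    KRR.IsRegSheaf n Y S.X₂ := by
  haveI : S.X₁.IsQuasicoherent := h₁
  haveI : S.X₂.IsQuasicoherent := h₂
  haveI : S.X₃.IsQuasicoherent := h₃
  rw [isRegSheaf_iff] at hreg₁ hreg₃ ⊢
  intro W hW
  exact reg_X₂ n Γ(Y, W) (restrict_shortExact n Y hS W hW) 0 (hreg₁ W hW) (hreg₃ W hW)

theorem s19432 (S : ShortComplex (KRR.PY n Y).Modules)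
    (hS : S.ShortExact) (h₁ : Coh.IsQCoh S.X₁) (h₂ : Coh.IsQCoh S.X₂) (h₃ : Coh.IsQCoh S.X₃)
    (hreg₂ : KRR.IsRegSheaf n Y S.X₂) (hreg₁ : KRR.IsRegSheaf n Y (KRR.twF n Y 1 S.X₁)) :
    KRR.IsRegSheaf n Y S.X₃ := by
  haveI : S.X₁.IsQuasicoherent := h₁
  haveI : S.X₂.IsQuasicoherent := h₂
  haveI : S.X₃.IsQuasicoherent := h₃
  haveI : (KRR.twF n Y 1 S.X₁).IsQuasicoherent := isQCoh_twF n Y 1 S.X₁
  rw [isRegSheaf_iff] at hreg₁ hreg₂ ⊢
  intro W hW
  refine reg_X₃ n Γ(Y, W) (restrict_shortExact n Y hS W hW) 0 (hreg₂ W hW) ?_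
  have := reg_chart_twF_symm n Y S.X₁ 1 W hW 0 (hreg₁ W hW)
  simpa using this


theorem jW_image_top (W : Y.Opens) (hW : IsAffineOpen W) :
    (jW n Y W hW) ''ᵁ ⊤ = (KRR.pr n Y) ⁻¹ᵁ W := by
  rw [Scheme.Hom.image_top_eq_opensRange]
  unfold jW
  rw [Scheme.Hom.opensRange_comp_of_isIso, Scheme.Opens.opensRange_ι]

theorem surjective_restrict_of_epi_push {F G : (KRR.PY n Y).Modules} [F.IsQuasicoherent]
    [G.IsQuasicoherent] (g : F ⟶ G) (hepi : Epi ((Scheme.Modules.pushforward (KRR.pr n Y)).map g))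
    (W : Y.Opens) (hW : IsAffineOpen W) :
    Function.Surjective (((Scheme.Modules.restrictFunctor (jW n Y W hW)).map g).app ⊤) := by
  haveI := PushQc.isQuasicoherent_pushforward (KRR.pr n Y) F
  haveI := PushQc.isQuasicoherent_pushforward (KRR.pr n Y) G
  have h1 := AffPushEpi.app_surjective_of_epi ((Scheme.Modules.pushforward (KRR.pr n Y)).map g) W hW
  have key : ∀ U : (KRR.PY n Y).Opens, U = (KRR.pr n Y) ⁻¹ᵁ W → Function.Surjective (g.app U) := by
    rintro _ rfl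
    exact h1
  exact key _ (jW_image_top n Y W hW)

theorem s19433 (S : ShortComplex (KRR.PY n Y).Modules)
    (hS : S.ShortExact) (h₁ : Coh.IsQCoh S.X₁) (h₂ : Coh.IsQCoh S.X₂) (h₃ : Coh.IsQCoh S.X₃)
    (hreg₂ : KRR.IsRegSheaf n Y (KRR.twF n Y 1 S.X₂)) (hreg₃ : KRR.IsRegSheaf n Y S.X₃)
    (hepi : Epi ((Scheme.Modules.pushforward (KRR.pr n Y)).map S.g)) :
    KRR.IsRegSheaf n Y (KRR.twF n Y 1 S.X₁) := by
  haveI : S.X₁.IsQuasicoherent := h₁
  haveI : S.X₂.IsQuasicoherent := h₂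
  haveI : S.X₃.IsQuasicoherent := h₃
  haveI : (KRR.twF n Y 1 S.X₁).IsQuasicoherent := isQCoh_twF n Y 1 S.X₁
  haveI : (KRR.twF n Y 1 S.X₂).IsQuasicoherent := isQCoh_twF n Y 1 S.X₂
  rw [isRegSheaf_iff] at hreg₂ hreg₃ ⊢
  intro W hW
  apply reg_chart_twF
  have h2 := reg_chart_twF_symm n Y S.X₂ 1 W hW 0 (hreg₂ W hW)
  have := reg_X₁ n Γ(Y, W) (restrict_shortExact n Y hS W hW) (by simpa using h2) (hreg₃ W hW)
    (surjective_restrict_of_epi_push n Y S.g hepi W hW)
  simpa using this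

end Rel
end Groth.Agent.Lib.Helper4.KrrH
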