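import Mathlib
import Groth.Prelude.Def_KRR
import Groth.Agent.Lib.Helper4.KrrH
import Groth.Agent.Lib.Helper5.LTen.Flf
import Groth.Agent.Lib.Helper1.ColimCoh2
import Groth.Agent.Lib.Helper1.AmpleAff

/-!
# pullbacks from the base are regular; first step of the canonical resolution: S3755 (helper4)
-/

set_option backward.isDefEq.respectTransparency.types false
set_option synthInstance.maxHeartbeats 400000
set_option autoImplicit false
set_option linter.unusedSectionVars false
set_option linter.style.haveILetI false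
set_option linter.unusedSimpArgs false
universe u v w
open CategoryTheory CategoryTheory.Limits AlgebraicGeometry TopologicalSpace Opposite MonoidalCategory
open Groth.Agent.Helper1 Groth.Agent.Helper3
open Groth.Agent.Lib.Helper4
open Groth.Agent.Lib.Helper4.KrrA Groth.Agent.Lib.Helper4.KrrB Groth.Agent.Lib.Helper4.KrrC
open Groth.Agent.Lib.Helper4.KrrD Groth.Agent.Lib.Helper4.KrrH
open Groth.Agent.Lib.Helper4.KosC1 Groth.Agent.Lib.Helper4.KosC3 Groth.Agent.Lib.Helper4.KosC4
open Groth.Agent.Lib.Helper4.SerreVan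

namespace Groth.Agent.Lib.Helper4.KrrI

section Free
variable {X : Scheme.{u}}

/-- `(⊕_ι O) ⊗ L ≅ ⊕_ι L` -/
noncomputable def freeTensorIso (ι : Type u) (L : X.Modules) :
    CohB1.tensorMod (SheafOfModules.free ι : X.Modules) L ≅ ∐ fun _ : ι => L :=
  haveI : PreservesColimitsOfShape (Discrete ι) ((DCoh.tensorBi (X := X)).obj L) :=
    Groth.Agent.Lib.Helper5.TensorSheaf.tensorBi_obj_preservesColimitsOfShape
      (O := X.sheaf) L (Discrete ι)
  tensorModComm _ _ ≪≫
    PreservesCoproduct.iso ((DCoh.tensorBi (X := X)).obj L)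
      (fun _ : ι => SheafOfModules.unit.{u} X.ringCatSheaf) ≪≫
    Sigma.mapIso (fun _ => Groth.Agent.Lib.Helper5.LTenFlf.tensorUnitIso L)

end Free

section Pn
variable (n : ℕ) (R : Type u) [CommRing R]

theorem subsingleton_HH_tw_free (ι : Type u) (d : ℤ) (hd : -(n : ℤ) ≤ d) (i : ℕ) (hi : 1 ≤ i) :
    Subsingleton (Coh.HH (CohB1.ProjSpace n R)
      (CohB1.tensorMod (SheafOfModules.free ι : (CohB1.ProjSpace n R).Modules)
        (Twist.twistProjSpace n R d)) i) := by
  haveI : CompactSpace (CohB1.ProjSpace n R) := VA5.compactSpace_projSpace n R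
  haveI : IsSeparated (CohB1.ProjSpace.toSpec n R) := VA5.isSeparated_toSpec n R
  haveI : QuasiSeparatedSpace (CohB1.ProjSpace n R) :=
    quasiSeparatedSpace_of_quasiSeparated (CohB1.ProjSpace.toSpec n R)
  refine Dv.subsingleton_HH_of_iso (freeTensorIso ι (Twist.twistProjSpace n R d)) i ?_
  refine ColimCoh.subsingleton_HH_sigma _ i (fun _ => ?_)
  exact Groth.Agent.S0844.result R n d i (fun h => by omega) (fun h => by omega)

variable {Z : Scheme.{u}} [IsAffine Z] (q : CohB1.ProjSpace n R ⟶ Z) [Flat q]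

theorem subsingleton_HH_pullback_twist (j : ℕ) : ∀ (i : ℕ), 1 ≤ i → n + 1 ≤ i + j →
    ∀ (N : Z.Modules) [N.IsQuasicoherent] (d : ℤ), -(n : ℤ) ≤ d →
      Subsingleton (Coh.HH (CohB1.ProjSpace n R)
        (CohB1.tensorMod ((Scheme.Modules.pullback q).obj N) (Twist.twistProjSpace n R d)) i) := by
  induction j with
  | zero =>
    intro i hi hij N _ d hd
    haveI : ((Scheme.Modules.pullback q).obj N).IsQuasicoherent := QcPullGen.isQuasicoherent_pullback _ _
    haveI : (Twist.twistProjSpace n R d).IsQuasicoherent := (SerreFin.isCoh_twist n R d).1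
    haveI : Coh.IsQCoh (CohB1.tensorMod ((Scheme.Modules.pullback q).obj N) (Twist.twistProjSpace n R d)) :=
      Groth.Agent.Lead.TilT.isQuasicoherent_tensorMod _ _
    exact Groth.Agent.S0022.result n R _ i (by omega)
  | succ j ih =>
    intro i hi hij N _ d hd
    obtain ⟨ι, π, hπ⟩ := AmpleLib.isGloballyGenerated_of_isAffine N
    haveI : Epi π := hπ
    haveI : (SheafOfModules.free ι : Z.Modules).IsQuasicoherent := inferInstance
    have hK : (kernel π).IsQuasicoherent := QcAbel.isQuasicoherent_kernel π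
    have hSE := @SerreFin.kerSeq_shortExact _ _ _ π hπ
    have hSE1 := hSE.map_of_exact (Scheme.Modules.pullback q)
    have hSE2 := TwExact.shortExact_map (locGen_twist n R d) hSE1
    have h1 := @ih (i + 1) (by omega) (by omega) (kernel π) hK d hd
    haveI : (Opens.map q.base).Final := Groth.Agent.Helper1.PullSec.final_opensMap q
    let e : (Scheme.Modules.pullback q).obj (SheafOfModules.free ι) ≅ SheafOfModules.free ι :=
      SheafOfModules.pullbackObjFreeIso q.toRingCatSheafHom ι
    have h2 : Subsingleton (Coh.HH (CohB1.ProjSpace n R)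
        ((Tw n R d).obj ((Scheme.Modules.pullback q).obj (SheafOfModules.free ι))) i) :=
      Dv.subsingleton_HH_of_iso ((Tw n R d).mapIso e) i (subsingleton_HH_tw_free n R ι d hd i hi)
    exact SerreVan.subsingleton_X₃ R (X := CohB1.ProjSpace n R) hSE2 i h2 h1

end Pn

section Rel
variable (n : ℕ) (Y : Scheme.{u}) (W : Y.Opens) (hW : IsAffineOpen W)

/-- the projection of the chart to the affine open `W` -/
noncomputable def qW : CohB1.ProjSpace n Γ(Y, W) ⟶ (↑W : Scheme.{u}) :=
  (chartIso n Y W hW).inv ≫ (KRR.pr n Y ∣_ W)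

theorem qW_ι : qW n Y W hW ≫ W.ι = jW n Y W hW ≫ KRR.pr n Y := by
  unfold qW jW
  rw [Category.assoc, Category.assoc, morphismRestrict_ι]

instance flat_qW : Flat (qW n Y W hW) := by
  unfold qW
  haveI : Flat (KRR.pr n Y ∣_ W) := MorphismProperty.of_isPullback (P := @Flat)
    (isPullback_morphismRestrict (KRR.pr n Y) W).flip inferInstance
  infer_instance

/-- the chart of a pullback from the base -/
noncomputable def chartPull (M : Y.Modules) :
    ((Scheme.Modules.pullback (KRR.pr n Y)).obj M).restrict (jW n Y W hW) ≅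
      (Scheme.Modules.pullback (qW n Y W hW)).obj (M.restrict W.ι) :=
  (Scheme.Modules.restrictFunctorIsoPullback (jW n Y W hW)).app _ ≪≫
    (Scheme.Modules.pullbackComp (jW n Y W hW) (KRR.pr n Y)).app M ≪≫
    (Scheme.Modules.pullbackCongr (qW_ι n Y W hW).symm).app M ≪≫
    (Scheme.Modules.pullbackComp (qW n Y W hW) W.ι).symm.app M ≪≫
    (Scheme.Modules.pullback (qW n Y W hW)).mapIso
      ((Scheme.Modules.restrictFunctorIsoPullback W.ι).symm.app M)

/-- **the pullback of a quasi-coherent module on the base is regular** -/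
theorem isRegSheaf_pullback (M : Y.Modules) [M.IsQuasicoherent] :
    KRR.IsRegSheaf n Y ((Scheme.Modules.pullback (KRR.pr n Y)).obj M) := by
  haveI : ((Scheme.Modules.pullback (KRR.pr n Y)).obj M).IsQuasicoherent :=
    QcPullGen.isQuasicoherent_pullback _ _
  rw [isRegSheaf_iff]
  intro W hW i hi
  haveI : IsAffine (↑W : Scheme.{u}) := hW
  haveI : (M.restrict W.ι).IsQuasicoherent := inferInstance
  by_cases hin : i ≤ n
  · have h1 := subsingleton_HH_pullback_twist n Γ(Y, W) (qW n Y W hW) n i hi (by omega)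
      (M.restrict W.ι) (0 - (i : ℤ)) (by omega)
    exact Dv.subsingleton_HH_of_iso
      (Groth.Agent.Lead.TilT.tensorModCongr (chartPull n Y W hW M) (Iso.refl _)) i h1
  · haveI : (((Scheme.Modules.pullback (KRR.pr n Y)).obj M).restrict (jW n Y W hW)).IsQuasicoherent :=
      inferInstance
    haveI : (Twist.twistProjSpace n Γ(Y, W) (0 - (i : ℤ))).IsQuasicoherent :=
      (SerreFin.isCoh_twist n Γ(Y, W) _).1
    haveI : Coh.IsQCoh (CohB1.tensorMod
        (((Scheme.Modules.pullback (KRR.pr n Y)).obj M).restrict (jW n Y W hW))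
        (Twist.twistProjSpace n Γ(Y, W) (0 - (i : ℤ)))) :=
      Groth.Agent.Lead.TilT.isQuasicoherent_tensorMod _ _
    exact Groth.Agent.S0022.result n Γ(Y, W) _ i (by omega)


theorem reg_kernel_of_epi {E F : (KRR.PY n Y).Modules} (ε : E ⟶ F) [Epi ε] [E.IsQuasicoherent]
    [F.IsQuasicoherent] (hE1 : KRR.IsRegSheaf n Y (KRR.twF n Y 1 E)) (hF : KRR.IsRegSheaf n Y F)
    (hpush : Epi ((Scheme.Modules.pushforward (KRR.pr n Y)).map ε)) :
    KRR.IsRegSheaf n Y (KRR.twF n Y 1 (kernel ε)) :=
  s19433 n Y (ShortComplex.mk (kernel.ι ε) ε (kernel.condition ε)) (SerreFin.kerSeq_shortExact ε)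
    (QcAbel.isQuasicoherent_kernel ε) ‹_› ‹_› hE1 hF hpush

/-- quasi-coherent version of the first step of the canonical resolution -/
theorem s3755_qcoh (F : (KRR.PY n Y).Modules) [F.IsQuasicoherent] (hreg : KRR.IsRegSheaf n Y F) :
    Epi ((Scheme.Modules.pullbackPushforwardAdjunction (KRR.pr n Y)).counit.app F) ∧
    KRR.IsRegSheaf n Y (KRR.twF n Y 1
      (kernel ((Scheme.Modules.pullbackPushforwardAdjunction (KRR.pr n Y)).counit.app F))) := by
  have hepi := Groth.Agent.Lib.Helper4.KrrG.s19429 n Y F ‹_› hreg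
  refine ⟨hepi, ?_⟩
  haveI hpq : ((Scheme.Modules.pushforward (KRR.pr n Y)).obj F).IsQuasicoherent :=
    PushQc.isQuasicoherent_pushforward (KRR.pr n Y) F
  haveI hppq : ((Scheme.Modules.pullback (KRR.pr n Y)).obj
      ((Scheme.Modules.pushforward (KRR.pr n Y)).obj F)).IsQuasicoherent :=
    QcPullGen.isQuasicoherent_pullback _ _
  have hreg₂ : KRR.IsRegSheaf n Y (KRR.twF n Y 1 ((Scheme.Modules.pullback (KRR.pr n Y)).obj
      ((Scheme.Modules.pushforward (KRR.pr n Y)).obj F))) :=
    s19428 n Y _ (isRegSheaf_pullback n Y _) 1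
  have hsplit : Epi ((Scheme.Modules.pushforward (KRR.pr n Y)).map
      ((Scheme.Modules.pullbackPushforwardAdjunction (KRR.pr n Y)).counit.app F)) := by
    have h := (Scheme.Modules.pullbackPushforwardAdjunction (KRR.pr n Y)).right_triangle_components F
    exact (IsSplitEpi.mk' ⟨_, h⟩).epi
  exact @reg_kernel_of_epi n Y _ _ _ hepi hppq ‹_› hreg₂ hreg hsplit

theorem s3755 [IsNoetherian Y] (F : (KRR.PY n Y).Modules) (hF : Coh.IsCoh F)
    (hreg : KRR.IsRegSheaf n Y F) :
    Epi ((Scheme.Modules.pullbackPushforwardAdjunction (KRR.pr n Y)).counit.app F) ∧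
    KRR.IsRegSheaf n Y (KRR.twF n Y 1
      (kernel ((Scheme.Modules.pullbackPushforwardAdjunction (KRR.pr n Y)).counit.app F))) := by
  haveI : F.IsQuasicoherent := hF.1
  exact s3755_qcoh n Y F hreg

end Rel
end Groth.Agent.Lib.Helper4.KrrI
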