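import Mathlib
import Groth.Prelude.Def_Coh
import Groth.Prelude.Def_CohTop
import Groth.Agent.Lib.Helper1.ColimCoh2
import Groth.Agent.Lib.Helper1.CohUtil
import Groth.Agent.Lib.Helper3.H0Iso

/-!
# sections over compact opens commute with filtered colimits and coproducts (helper4)
-/

set_option backward.isDefEq.respectTransparency.types false
set_option synthInstance.maxHeartbeats 400000
set_option autoImplicit false
set_option linter.unusedSectionVars false
set_option linter.style.haveILetI false
set_option linter.unusedSimpArgs false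
universe u v w
open CategoryTheory CategoryTheory.Limits AlgebraicGeometry TopologicalSpace Opposite
open Groth.Agent.Helper1 Groth.Agent.Helper3

namespace Groth.Agent.Lib.Helper4.GamColim

section Site
variable {C : Type u} [SmallCategory C] (J : GrothendieckTopology C)

theorem compEquiv_nat {F G : Sheaf J AddCommGrpCat.{u}} (φ : F ⟶ G) (U : C)
    (x : ((F.cohomologyPresheaf 0).obj (op U) : Type u)) :
    H0Iso.compEquiv J G U ((((Sheaf.cohomologyPresheafFunctor J 0).map φ).app (op U)).hom x) =
      (φ.hom.app (op U)).hom (H0Iso.compEquiv J F U x) := by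
  have h4 : (((Sheaf.cohomologyPresheafFunctor J 0).map φ).app (op U)).hom x =
      x.comp (Abelian.Ext.mk₀ φ) (add_zero 0) := rfl
  obtain ⟨ψ, rfl⟩ := (Abelian.Ext.mk₀_bijective (CohCx.freeSheaf J U) F).2 x
  rw [h4, Abelian.Ext.mk₀_comp_mk₀]
  change CohFree.evalGen J U G (Abelian.Ext.addEquiv₀ (Abelian.Ext.mk₀ _)) =
    (φ.hom.app (op U)).hom (CohFree.evalGen J U F (Abelian.Ext.addEquiv₀ (Abelian.Ext.mk₀ ψ)))
  have e1 : ∀ {X Y : Sheaf J AddCommGrpCat.{u}} (f : X ⟶ Y),
      Abelian.Ext.addEquiv₀ (Abelian.Ext.mk₀ f) = f := by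
    intro X Y f
    apply (Abelian.Ext.mk₀_bijective X Y).1
    delta Abelian.Ext.addEquiv₀
    simp
  rw [e1, e1]
  rfl

/-- the natural iso `H^0(U, -) ≅ Γ(U, -)` -/
noncomputable def h0NatIso (U : C) :
    (Sheaf.cohomologyPresheafFunctor J 0).flip.obj (op U) ≅
      sheafToPresheaf J AddCommGrpCat.{u} ⋙ (evaluation _ _).obj (op U) :=
  NatIso.ofComponents (fun F => (H0Iso.compEquiv J F U).toAddCommGrpIso) (by
    intro F G φ
    ext x
    exact compEquiv_nat J φ U x)

end Site

section Cat
variable {C : Type*} [Category C] [Preadditive C]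

theorem exists_total {κ : Type*} [Finite κ] (f : κ → C) [HasCoproduct f] :
    ∃ π : ∀ k, ∐ f ⟶ f k, ∀ [Fintype κ], ∑ k, π k ≫ Sigma.ι f k = 𝟙 (∐ f) := by
  classical
  letI := Fintype.ofFinite κ
  haveI := HasBiproduct.of_hasCoproduct f
  refine ⟨fun k => (biproduct.isoCoproduct f).inv ≫ biproduct.π f k, ?_⟩
  intro inst
  have hsub : inst = Fintype.ofFinite κ := Subsingleton.elim _ _
  subst hsub
  have ht : ∑ j : κ, biproduct.π f j ≫ biproduct.ι f j = 𝟙 (⨁ f) :=
    IsBilimit.total (biproduct.isBilimit f)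
  have h1 : ∀ k, Sigma.ι f k = biproduct.ι f k ≫ (biproduct.isoCoproduct f).hom := by
    intro k
    rw [biproduct.isoCoproduct_hom, biproduct.ι_desc]
  calc ∑ k, ((biproduct.isoCoproduct f).inv ≫ biproduct.π f k) ≫ Sigma.ι f k
      = (biproduct.isoCoproduct f).inv ≫ (∑ k, biproduct.π f k ≫ biproduct.ι f k) ≫
          (biproduct.isoCoproduct f).hom := by
        rw [Preadditive.sum_comp, Preadditive.comp_sum]
        refine Finset.sum_congr rfl (fun k _ => ?_)
        rw [h1 k]
        simp only [Category.assoc]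
    _ = 𝟙 _ := by rw [ht, Category.id_comp, Iso.inv_hom_id]

end Cat

section Sch
variable {X : Scheme.{u}} [QuasiSeparatedSpace X]

/-- sections over a compact open of a filtered colimit of modules come from a finite stage -/
theorem exists_rep_sections (U : X.Opens) (hU : IsCompact (U : Set X))
    {J : Type u} [SmallCategory J] [IsFiltered J] (F : J ⥤ X.Modules) (c : Cocone F)
    (hc : IsColimit c) (s : Γ(c.pt, U)) :
    ∃ (j : J) (t : Γ(F.obj j, U)), (c.ι.app j).app U t = s := by
  let T := SheafOfModules.toSheaf X.ringCatSheaf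
  let G := (Sheaf.cohomologyPresheafFunctor (Opens.grothendieckTopology X) 0).flip.obj (op U)
  let G₀ := sheafToPresheaf (Opens.grothendieckTopology X) AddCommGrpCat.{u} ⋙
    (evaluation _ _).obj (op U)
  have h1 : IsColimit (T.mapCocone c) := isColimitOfPreserves T hc
  have hp : PreservesColimit (F ⋙ T) G :=
    ColimCoh.preservesColimit_HU (X := X) U hU 0 J (F ⋙ T)
  have hp₀ : PreservesColimit (F ⋙ T) G₀ :=
    preservesColimit_of_natIso _ (h0NatIso (Opens.grothendieckTopology X) U)
  have h2 : IsColimit (G₀.mapCocone (T.mapCocone c)) := (hp₀.preserves h1).some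
  obtain ⟨j, y, hy⟩ := Concrete.isColimit_exists_rep _ h2 s
  exact ⟨j, y, hy⟩

theorem sum_app {X : Scheme.{u}} {A B : X.Modules} (U : X.Opens) {κ : Type*} (T : Finset κ)
    (g : κ → (A ⟶ B)) (a : Γ(A, U)) :
    (∑ k ∈ T, g k).app U a = ∑ k ∈ T, (g k).app U a := by
  classical
  induction T using Finset.induction_on with
  | empty => simp
  | insert k T hk ih =>
    rw [Finset.sum_insert hk, Finset.sum_insert hk, Scheme.Modules.Hom.add_app]
    change (g k).app U a + (∑ k ∈ T, g k).app U a = _
    rw [ih]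

theorem finite_sigma_sections {X : Scheme.{u}} (U : X.Opens) {κ : Type*} [Finite κ]
    (f : κ → X.Modules) [HasCoproduct f]
    (B : X.Modules) (φ : ∐ f ⟶ B) (H : AddSubgroup Γ(B, U))
    (h : ∀ k (t : Γ(f k, U)), (Sigma.ι f k ≫ φ).app U t ∈ H) (t : Γ(∐ f, U)) : φ.app U t ∈ H := by
  classical
  letI := Fintype.ofFinite κ
  obtain ⟨π, hπ⟩ := exists_total f
  have hπ' := @hπ inferInstance
  have hm : φ = ∑ k : κ, π k ≫ (Sigma.ι f k ≫ φ) := by
    calc φ = 𝟙 (∐ f) ≫ φ := (Category.id_comp _).symm
      _ = (∑ k, π k ≫ Sigma.ι f k) ≫ φ := by rw [hπ']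
      _ = ∑ k : κ, π k ≫ (Sigma.ι f k ≫ φ) := by
          rw [Preadditive.sum_comp]
          refine Finset.sum_congr rfl (fun k _ => ?_)
          rw [Category.assoc]
  rw [hm, sum_app]
  refine AddSubgroup.sum_mem _ (fun k _ => ?_)
  exact h k ((π k).app U t)

/-- sections over a compact open of a coproduct of modules are sums of sections of the summands -/
theorem sigma_sections_induction (U : X.Opens) (hU : IsCompact (U : Set X))
    {ι : Type u} (M : ι → X.Modules) (H : AddSubgroup Γ(∐ M, U))
    (h : ∀ i (t : Γ(M i, U)), (Sigma.ι M i).app U t ∈ H) (s : Γ(∐ M, U)) : s ∈ H := by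
  classical
  have hc := CoproductsFromFiniteFiltered.isColimitFiniteSubproductsCocone M
  obtain ⟨S, t, rfl⟩ := exists_rep_sections U hU _ _ hc s
  let f : {x // x ∈ S} → X.Modules := fun x => (Discrete.functor M).obj x.1
  refine finite_sigma_sections U f (∐ M)
    ((CoproductsFromFiniteFiltered.finiteSubcoproductsCocone M).ι.app S) H (fun k t' => ?_) t
  have e3 : Sigma.ι f k ≫ (CoproductsFromFiniteFiltered.finiteSubcoproductsCocone M).ι.app S =
      Sigma.ι M k.1.as := by
    simp [f, CoproductsFromFiniteFiltered.finiteSubcoproductsCocone]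
  have e4 : (Sigma.ι f k ≫ (CoproductsFromFiniteFiltered.finiteSubcoproductsCocone M).ι.app S).app U t' =
      (Sigma.ι M k.1.as).app U t' :=
    congrArg (fun ψ : f k ⟶ ∐ M => (ψ.app U) t') e3
  exact (congrArg (· ∈ H) e4).mpr (h _ _)


/-- sections over a compact open of a colimit cofan of modules are sums of sections of the summands -/
theorem cofan_sections_induction (U : X.Opens) (hU : IsCompact (U : Set X))
    {ι : Type u} (M : ι → X.Modules) (c : Cofan M) (hc : IsColimit c) (H : AddSubgroup Γ(c.pt, U))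
    (h : ∀ i (t : Γ(M i, U)), (c.inj i).app U t ∈ H) (s : Γ(c.pt, U)) : s ∈ H := by
  let e : ∐ M ≅ c.pt := (coproductIsCoproduct M).coconePointUniqueUpToIso hc
  have he : ∀ i, Sigma.ι M i ≫ e.hom = c.inj i := fun i =>
    IsColimit.comp_coconePointUniqueUpToIso_hom (coproductIsCoproduct M) hc ⟨i⟩
  have hs : s = e.hom.app U (e.inv.app U s) := by
    have h1 : (e.inv ≫ e.hom).app U s = s := by rw [e.inv_hom_id]; rfl
    exact h1.symm
  rw [hs]
  have := sigma_sections_induction U hU M (H.comap (e.hom.app U).hom) (fun i t => by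
    change e.hom.app U ((Sigma.ι M i).app U t) ∈ H
    have h2 : e.hom.app U ((Sigma.ι M i).app U t) = (c.inj i).app U t := by
      rw [← he i]; rfl
    rw [h2]
    exact h i t) (e.inv.app U s)
  exact this

end Sch

end Groth.Agent.Lib.Helper4.GamColim
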