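import Mathlib
import Groth.Prelude.Def_Coh
import Groth.Prelude.Def_CohTop
import Groth.Agent.Lib.Helper4.GamColim
import Groth.Agent.Lib.Helper1.H1Surj
import Groth.Agent.Lib.Helper1.AmpleAff
import Groth.Agent.Lib.Helper5.Stalk.FlatPull
import Groth.Agent.Lib.Helper4.SerreFin

/-!
# surjectivity of the unit of pullback-pushforward on global sections (helper4)
-/

set_option backward.isDefEq.respectTransparency.types false
set_option synthInstance.maxHeartbeats 400000
set_option autoImplicit false
set_option linter.unusedSectionVars false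
set_option linter.style.haveILetI false
set_option linter.unusedSimpArgs false
universe u v w
open CategoryTheory CategoryTheory.Limits AlgebraicGeometry TopologicalSpace Opposite
open Groth.Agent.Helper1 Groth.Agent.Helper3
open Groth.Agent.Lib.Helper4

namespace Groth.Agent.Lib.Helper4.UnitSurj

section Abs
variable {X Z : Scheme.{u}} (q : X ⟶ Z)

/-- naturality of the unit on sections -/
theorem unit_nat_app {M N : Z.Modules} (φ : M ⟶ N) (U : Z.Opens) (m : Γ(M, U)) :
    ((Scheme.Modules.pullback q).map φ).app (q ⁻¹ᵁ U)
        (((Scheme.Modules.pullbackPushforwardAdjunction q).unit.app M).app U m) =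
      ((Scheme.Modules.pullbackPushforwardAdjunction q).unit.app N).app U (φ.app U m) := by
  have h := (Scheme.Modules.pullbackPushforwardAdjunction q).unit.naturality φ
  have h2 := congrArg (fun ψ => (Scheme.Modules.Hom.app ψ U) m) h
  exact h2.symm

variable [CompactSpace X] [QuasiSeparatedSpace X]

/-- the unit is surjective on global sections of a free module as soon as it is so for the structure
sheaf -/
theorem unit_free_surjective
    (H0 : Function.Surjective (((Scheme.Modules.pullbackPushforwardAdjunction q).unit.app
      (SheafOfModules.unit Z.ringCatSheaf)).app ⊤)) (ι : Type u) :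
    Function.Surjective (((Scheme.Modules.pullbackPushforwardAdjunction q).unit.app
      (SheafOfModules.free ι : Z.Modules)).app ⊤) := by
  intro s
  let η := Scheme.Modules.pullbackPushforwardAdjunction q
  let c : Cofan (fun _ : ι => (Scheme.Modules.pullback q).obj (SheafOfModules.unit Z.ringCatSheaf)) :=
    Cofan.mk ((Scheme.Modules.pullback q).obj (SheafOfModules.free ι))
      (fun i => (Scheme.Modules.pullback q).map (SheafOfModules.ιFree i))
  have hc : IsColimit c :=
    isColimitCofanMkObjOfIsColimit (Scheme.Modules.pullback q) _ _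
      (SheafOfModules.isColimitFreeCofan (R := Z.ringCatSheaf) ι)
  have hU : IsCompact ((q ⁻¹ᵁ ⊤ : X.Opens) : Set X) := by
    show IsCompact (Set.univ : Set X)
    exact isCompact_univ
  let H : AddSubgroup Γ((Scheme.Modules.pullback q).obj (SheafOfModules.free ι : Z.Modules), q ⁻¹ᵁ ⊤) :=
    AddMonoidHom.range ((η.unit.app (SheafOfModules.free ι : Z.Modules)).app ⊤).hom
  have := GamColim.cofan_sections_induction (q ⁻¹ᵁ ⊤) hU _ c hc H (fun i t => by
    obtain ⟨r, rfl⟩ := H0 t
    let ui : @Quiver.Hom Z.Modules _ (SheafOfModules.unit Z.ringCatSheaf) (SheafOfModules.free ι) :=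
      SheafOfModules.ιFree (R := Z.ringCatSheaf) i
    refine ⟨Scheme.Modules.Hom.app ui ⊤ r, ?_⟩
    exact (unit_nat_app q ui ⊤ r).symm) s
  exact this

/-- **surjectivity of the unit on global sections** for a flat qcqs morphism to an affine scheme
with `H¹(X, q^* K) = 0` for all quasi-coherent `K` -/
theorem unit_surjective [IsAffine Z] [Flat q]
    (H1 : ∀ K : Z.Modules, K.IsQuasicoherent →
      Subsingleton (Coh.HH X ((Scheme.Modules.pullback q).obj K) 1))
    (H0 : Function.Surjective (((Scheme.Modules.pullbackPushforwardAdjunction q).unit.app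
      (SheafOfModules.unit Z.ringCatSheaf)).app ⊤))
    (M : Z.Modules) [M.IsQuasicoherent] :
    Function.Surjective (((Scheme.Modules.pullbackPushforwardAdjunction q).unit.app M).app ⊤) := by
  obtain ⟨ι, π, hπ⟩ := AmpleLib.isGloballyGenerated_of_isAffine M
  haveI : Epi π := hπ
  haveI : (SheafOfModules.free ι : Z.Modules).IsQuasicoherent := inferInstance
  have hK : (kernel π).IsQuasicoherent := QcAbel.isQuasicoherent_kernel π
  have hSE := @SerreFin.kerSeq_shortExact _ _ _ π hπ
  have hSE1 := hSE.map_of_exact (Scheme.Modules.pullback q)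
  have h1 := H1 (kernel π) hK
  have hsurj := H1Surj.app_top_surjective_of_H1 hSE1 h1
  intro s
  obtain ⟨s', hs'⟩ := hsurj s
  obtain ⟨r, hr⟩ := unit_free_surjective q H0 ι s'
  let π' : @Quiver.Hom Z.Modules _ (SheafOfModules.free ι) M := π
  refine ⟨Scheme.Modules.Hom.app π' ⊤ r, ?_⟩
  have h2 := unit_nat_app q π' ⊤ r
  rw [← h2]
  rw [← hs']
  exact congrArg _ hr

end Abs

end Groth.Agent.Lib.Helper4.UnitSurj
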