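import Mathlib
import Groth.Prelude.Def_KRR
import Groth.Agent.Lib.Helper4.KrrI
import Groth.Agent.Lib.Helper1.ProjSpaceLib
import Groth.Agent.Lib.Helper4.UnitSurj

/-!
# charts of P^n_Y compatible with the projection; O_Y = p_* O_P; unit surjective on charts (helper4)
-/

set_option backward.isDefEq.respectTransparency.types false
set_option synthInstance.maxHeartbeats 400000
set_option autoImplicit false
set_option linter.unusedSectionVars false
set_option linter.style.haveILetI false
set_option linter.unusedSimpArgs false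
universe u v w
open CategoryTheory CategoryTheory.Limits AlgebraicGeometry TopologicalSpace Opposite
open Groth.Agent.Helper1 Groth.Agent.Helper3
open Groth.Agent.Lib.Helper4
open Groth.Agent.Lib.Helper4.KrrB Groth.Agent.Lib.Helper4.KrrI

namespace Groth.Agent.Lib.Helper4.ChartU

section Chart
variable (n : ℕ) (Y : Scheme.{u}) (W : Y.Opens) (hW : IsAffineOpen W)

/-- a chart iso compatible with both projections -/
theorem exists_iso_chart₂ :
    ∃ e : (↑((KRR.pr n Y) ⁻¹ᵁ W) : Scheme.{u}) ≅ CohB1.ProjSpace n Γ(Y, W),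
      e.hom ≫ CohB1.ProjSpace.toSpec n Γ(Y, W) = (KRR.pr n Y ∣_ W) ≫ hW.isoSpec.hom := by
  let f := CohB1.ProjSpaceOver.toBase n Y
  let pr₁ := pullback.fst (CohB1.ProjSpace.toSpec n (ULift.{u} ℤ)) (specULiftZIsTerminal.from Y)
  have sq1 : IsPullback (f ⁻¹ᵁ W).ι (f ∣_ W) f W.ι := (isPullback_morphismRestrict f W).flip
  have sq2 : IsPullback pr₁ f (CohB1.ProjSpace.toSpec n (ULift.{u} ℤ))
      (specULiftZIsTerminal.from Y) := IsPullback.of_hasPullback _ _
  have sq3 := sq1.paste_horiz sq2
  have sq4 : IsPullback (W.ι ≫ specULiftZIsTerminal.from Y) hW.isoSpec.hom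
      (𝟙 (Spec (CommRingCat.of (ULift.{u} ℤ))))
      (Spec.map (CommRingCat.ofHom (RpTw.ρZ Γ(Y, W)))) :=
    IsPullback.of_vert_isIso ⟨specULiftZIsTerminal.hom_ext _ _⟩
  have sq5 := sq3.paste_vert sq4
  rw [Category.comp_id] at sq5
  have sq6 := HProjLoc.isPullback_projSpace n (RpTw.ρZ Γ(Y, W))
  exact ⟨sq5.isoIsPullback _ _ sq6, sq5.isoIsPullback_hom_snd _ _ sq6⟩

include hW in
/-- `Γ(W, O_Y) → Γ(p⁻¹W, O_P)` is bijective -/
theorem bijective_restrict_appTop :
    Function.Bijective (KRR.pr n Y ∣_ W).appTop := by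
  obtain ⟨e, he⟩ := exists_iso_chart₂ n Y W hW
  have h1 : (KRR.pr n Y ∣_ W) = e.hom ≫ CohB1.ProjSpace.toSpec n Γ(Y, W) ≫ hW.isoSpec.inv := by
    rw [← Category.assoc, he, Category.assoc, Iso.hom_inv_id, Category.comp_id]
  haveI := ProjSpaceLib.isIso_toSpec_appTop' n Γ(Y, W)
  have h2 : IsIso (KRR.pr n Y ∣_ W).appTop := by
    rw [h1, Scheme.Hom.comp_appTop, Scheme.Hom.comp_appTop]
    haveI : IsIso (Scheme.Hom.appTop hW.isoSpec.inv) := by
      show IsIso (hW.isoSpec.inv.app ⊤); infer_instance
    haveI : IsIso (Scheme.Hom.appTop e.hom) := by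
      show IsIso (e.hom.app ⊤); infer_instance
    infer_instance
  exact (ConcreteCategory.isIso_iff_bijective _).mp h2

include hW in
theorem bijective_pr_app : Function.Bijective ((KRR.pr n Y).app W) := by
  have h := bijective_restrict_appTop n Y W hW
  have h2 := morphismRestrict_app (KRR.pr n Y) W ⊤
  have h3 : IsIso (KRR.pr n Y ∣_ W).appTop := (ConcreteCategory.isIso_iff_bijective _).mpr h
  have h4 : IsIso ((KRR.pr n Y ∣_ W).app ⊤) := h3
  rw [h2] at h4
  have h5 : IsIso ((KRR.pr n Y).app (W.ι ''ᵁ ⊤)) := @IsIso.of_isIso_comp_right _ _ _ _ _ _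
    ((KRR.PY n Y).presheaf.map (eqToHom (image_morphismRestrict_preimage (KRR.pr n Y) W ⊤)).op)
    inferInstance h4
  have e : W.ι ''ᵁ ⊤ = W := by simp
  rw [e] at h5
  exact (ConcreteCategory.isIso_iff_bijective _).mp h5

end Chart

section Gen
variable {X S : Scheme.{u}} (f : X ⟶ S)

theorem unit_structure_eq :
    (Scheme.Modules.pullbackPushforwardAdjunction f).unit.app (Coh.structureModule S) ≫
      (Scheme.Modules.pushforward f).map (PullSec.unitIso f).hom =
        SheafOfModules.unitToPushforwardObjUnit f.toRingCatSheafHom := by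
  haveI : (Opens.map f.base).Final := PullSec.final_opensMap f
  have h := SheafOfModules.pullbackPushforwardAdjunction_homEquiv_pullbackObjUnitToUnit
    f.toRingCatSheafHom
  rw [Adjunction.homEquiv_unit] at h
  exact h

/-- the unit at the structure sheaf is an isomorphism when `O_S → f_* O_X` is bijective on affine
opens -/
theorem isIso_unit_structure' (hf : ∀ U : S.Opens, IsAffineOpen U → Function.Bijective (f.app U)) :
    IsIso ((Scheme.Modules.pullbackPushforwardAdjunction f).unit.app
      (SheafOfModules.unit S.ringCatSheaf)) := by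
  have h2 : IsIso (SheafOfModules.unitToPushforwardObjUnit f.toRingCatSheafHom) := by
    refine Groth.Agent.Lead.BCU.isIso_of_bijective_nhds
      (M := SheafOfModules.unit S.ringCatSheaf)
      (N := (Scheme.Modules.pushforward f).obj (SheafOfModules.unit X.ringCatSheaf)) _ ?_
    intro U x hx
    obtain ⟨_, ⟨V, hV, rfl⟩, hxV, hVU⟩ := S.isBasis_affineOpens.exists_subset_of_mem_open
      hx U.2
    exact ⟨V, hVU, hxV, hf V hV⟩
  have h3 : IsIso ((Scheme.Modules.pullbackPushforwardAdjunction f).unit.app (Coh.structureModule S) ≫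
      (Scheme.Modules.pushforward f).map (PullSec.unitIso f).hom) := by
    rw [unit_structure_eq]; exact h2
  exact IsIso.of_isIso_comp_right _ ((Scheme.Modules.pushforward f).map (PullSec.unitIso f).hom)

/-- the unit at the structure sheaf is bijective on global sections when `Γ(S, O_S) → Γ(X, O_X)`
is so -/
theorem unit_structure_appTop_bijective (hf : Function.Bijective f.appTop) :
    Function.Bijective (((Scheme.Modules.pullbackPushforwardAdjunction f).unit.app
      (SheafOfModules.unit S.ringCatSheaf)).app ⊤) := by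
  have h := unit_structure_eq f
  have h1 := congrArg (fun φ => Scheme.Modules.Hom.app φ ⊤) h
  simp only [Scheme.Modules.Hom.comp_app] at h1
  have h2 : Function.Bijective (Scheme.Modules.Hom.app (M := SheafOfModules.unit S.ringCatSheaf)
      (N := (Scheme.Modules.pushforward f).obj (SheafOfModules.unit X.ringCatSheaf))
      (SheafOfModules.unitToPushforwardObjUnit f.toRingCatSheafHom) ⊤) := hf
  rw [← h1] at h2
  haveI : IsIso (((Scheme.Modules.pushforward f).map (PullSec.unitIso f).hom).app ⊤) := inferInstance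
  have h3 : Function.Bijective (((Scheme.Modules.pushforward f).map (PullSec.unitIso f).hom).app ⊤) :=
    (ConcreteCategory.isIso_iff_bijective _).mp inferInstance
  have h4 : ⇑(ConcreteCategory.hom (((Scheme.Modules.pullbackPushforwardAdjunction f).unit.app
      (Coh.structureModule S)).app ⊤ ≫
      ((Scheme.Modules.pushforward f).map (PullSec.unitIso f).hom).app ⊤)) =
      ⇑(ConcreteCategory.hom (((Scheme.Modules.pushforward f).map (PullSec.unitIso f).hom).app ⊤)) ∘
      ⇑(ConcreteCategory.hom (((Scheme.Modules.pullbackPushforwardAdjunction f).unit.app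
      (Coh.structureModule S)).app ⊤)) := by
    ext x; rfl
  rw [h4] at h2
  exact (Function.Bijective.of_comp_iff' h3 _).mp h2

end Gen

section Rel
variable (n : ℕ) (Y : Scheme.{u}) (W : Y.Opens) (hW : IsAffineOpen W)

theorem qW_appTop_bijective : Function.Bijective (qW n Y W hW).appTop := by
  have h := bijective_restrict_appTop n Y W hW
  have h3 : IsIso (KRR.pr n Y ∣_ W).appTop := (ConcreteCategory.isIso_iff_bijective _).mpr h
  have h2 : IsIso (qW n Y W hW).appTop := by
    unfold qW
    rw [Scheme.Hom.comp_appTop]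
    haveI : IsIso (Scheme.Hom.appTop (chartIso n Y W hW).inv) := by
      show IsIso ((chartIso n Y W hW).inv.app ⊤); infer_instance
    infer_instance
  exact (ConcreteCategory.isIso_iff_bijective _).mp h2

/-- **(U)**: for `M` quasi-coherent on the affine open `W`, the unit `Γ(W, M) → Γ(P^n_W, q^* M)` is
surjective -/
theorem unit_surjective_qW (M : (↑W : Scheme.{u}).Modules) [M.IsQuasicoherent] :
    Function.Surjective (((Scheme.Modules.pullbackPushforwardAdjunction (qW n Y W hW)).unit.app M).app ⊤) := by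
  haveI : IsAffine (↑W : Scheme.{u}) := hW
  haveI : CompactSpace (CohB1.ProjSpace n Γ(Y, W)) := VA5.compactSpace_projSpace n _
  haveI : IsSeparated (CohB1.ProjSpace.toSpec n Γ(Y, W)) := VA5.isSeparated_toSpec n _
  haveI : QuasiSeparatedSpace (CohB1.ProjSpace n Γ(Y, W)) :=
    quasiSeparatedSpace_of_quasiSeparated (CohB1.ProjSpace.toSpec n Γ(Y, W))
  refine UnitSurj.unit_surjective (qW n Y W hW) ?_ ?_ M
  · intro K hK
    have h1 := subsingleton_HH_pullback_twist n Γ(Y, W) (qW n Y W hW) n 1 le_rfl (by omega)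
      K (0 : ℤ) (by omega)
    obtain ⟨e⟩ := KrrD.nonempty_twist_zero_iso n Γ(Y, W)
      ((Scheme.Modules.pullback (qW n Y W hW)).obj K)
    exact Dv.subsingleton_HH_of_iso e.symm 1 h1
  · exact (unit_structure_appTop_bijective _ (qW_appTop_bijective n Y W hW)).2

end Rel

end Groth.Agent.Lib.Helper4.ChartU
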