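import Mathlib
import Groth.Prelude.Def_ega3
import Groth.Agent.Lib.Helper4.Grauert2

/-!
# Vanishing of a higher direct image near a point from vanishing of the fibre cohomology (helper4)
-/

set_option backward.isDefEq.respectTransparency.types false
set_option synthInstance.maxHeartbeats 400000
set_option autoImplicit false
set_option linter.unusedSectionVars false
set_option linter.style.haveILetI false
set_option linter.unusedSimpArgs false
universe u v w
open CategoryTheory
open CategoryTheory.Limits
open AlgebraicGeometry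
open TopologicalSpace
open Opposite
open TensorProduct
open Topology
open Groth.Agent.Helper1.FlatCxL
open Groth.Agent.Lib.Helper4.RedRank1
open Groth.Agent.Lib.Helper4.FibRank1
open Groth.Agent.Lib.Helper4.ExchAlg1
open Groth.Agent.Lib.Helper4.ExchAlg2
open Groth.Agent.Lib.Helper4.TruncAlg1
open Groth.Agent.Lib.Helper4.AlgFib1
open Groth.Agent.Lib.Helper4.LocAlg1
open Groth.Agent.Lib.Helper4.ChartFib1
open Groth.Agent.Lib.Helper4.ChartPkg1
open Groth.Agent.Lib.Helper4.GrauertAlg1
open Groth.Agent.Lib.Helper4.Grauert1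
open Groth.Agent.Lib.Helper4.Grauert2

namespace Groth.Agent.Lib.Helper4.Grauert3

section Alg
variable {A : Type u} [CommRing A] {W Q : Type u} [AddCommGroup W] [Module A W]
  [AddCommGroup Q] [Module A Q] (l : W →ₗ[A] Q)

/-- if `l ⊗ κ(p)` is injective then the kernel of `l` vanishes on a basic open neighbourhood
of `p` -/
theorem exists_away_subsingleton_ker [IsNoetherianRing A] [Module.Finite A W] [Module.Finite A Q]
    [Module.Projective A Q] (p : Ideal A) [p.IsPrime] {κ : Type u} [Field κ] (ψ : A →+* κ)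
    (hψ : RingHom.ker ψ = p)
    (hinj : letI : Module A κ := Module.compHom κ ψ
      Function.Injective (l.lTensor κ)) :
    ∃ g ∉ p, Subsingleton (LocalizedModule.Away g (LinearMap.ker l)) := by
  obtain ⟨l', hl'⟩ := exists_retraction_baseChange l p ψ hψ hinj
  have hinjp : Function.Injective (l.baseChange (Localization.AtPrime p)) := by
    intro a b hab
    have := congrArg l' hab
    rwa [← LinearMap.comp_apply, ← LinearMap.comp_apply, hl'] at this
  let ι := (LinearMap.ker l).subtype
  have hι : Function.Injective (ι.baseChange (Localization.AtPrime p)) :=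
    Module.Flat.lTensor_preserves_injective_linearMap ι (Submodule.subtype_injective _)
  have hcomp : l.baseChange (Localization.AtPrime p) ∘ₗ ι.baseChange (Localization.AtPrime p) = 0 := by
    rw [← LinearMap.baseChange_comp]
    have : l ∘ₗ ι = 0 := by
      ext z
      exact z.2
    rw [this, LinearMap.baseChange_zero]
  haveI : Subsingleton (Localization.AtPrime p ⊗[A] (LinearMap.ker l)) := by
    refine ⟨fun a b => hι (hinjp ?_)⟩
    have ha := LinearMap.congr_fun hcomp a
    have hb := LinearMap.congr_fun hcomp b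
    simp only [LinearMap.comp_apply, LinearMap.zero_apply] at ha hb
    rw [ha, hb]
  haveI : Module.Finite A (LinearMap.ker l) := inferInstance
  exact IsLocalizedModule.exists_subsingleton_away
    (TensorProduct.mk A (Localization.AtPrime p) (LinearMap.ker l) 1) p

end Alg

section Sheaf
variable {S : Scheme.{u}} (M : S.Modules) [M.IsQuasicoherent]

theorem isZero_freeMod_zero (T : Scheme.{u}) : IsZero (FlatMod.freeMod T 0) :=
  (IsZero.iff_id_eq_zero _).2 (Sigma.hom_ext _ _ fun j => j.elim0)

/-- a quasi-coherent module whose sections over an affine open vanish after inverting `g`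
vanishes on the basic open of `g` -/
theorem isZero_restrict_basicOpen {V : S.Opens} (hV : IsAffineOpen V) (g : Γ(S, V))
    (h : Subsingleton (LocalizedModule.Away g Γ(M, V))) :
    IsZero (M.restrict (S.basicOpen g).ι) := by
  haveI := h
  let b : Module.Basis (Fin 0) (Localization.Away g) (LocalizedModule.Away g Γ(M, V)) :=
    Module.Basis.empty _
  obtain ⟨e⟩ := Groth.Agent.Lead.SL.free_basicOpen_of_basis M hV g 0 b
  exact (isZero_freeMod_zero _).of_iso e

end Sheaf

section Main

theorem subsingleton_away_of_equiv {A : Type u} [CommRing A] {P N : Type u} [AddCommGroup P]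
    [Module A P] [AddCommGroup N] [Module A N] (e : P ≃ₗ[A] N) (g : A)
    (h : Subsingleton (LocalizedModule.Away g N)) : Subsingleton (LocalizedModule.Away g P) := by
  rw [LocalizedModule.subsingleton_iff] at h ⊢
  intro m
  obtain ⟨r, hr, hrm⟩ := h (e m)
  refine ⟨r, hr, e.injective ?_⟩
  rw [map_smul, hrm, map_zero]

theorem s2385 {X Y : Scheme.{u}} (f : X ⟶ Y)
    [IsProper f] [IsLocallyNoetherian Y] [HasInjectiveResolutions X.Modules] (F : X.Modules)
    (hF : Coh.IsCoh F) (hfl : FlatMod.IsFlatOver f F) (y : Y) (n : ℕ)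
    (hvan : Subsingleton (CohIII.fiberH f F y n)) :
    ∃ U : Y.Opens, y ∈ U ∧ IsZero (((Coh.Rpush f n).obj F).restrict U.ι) := by
  haveI : F.IsQuasicoherent := hF.1
  haveI : ((Coh.Rpush f n).obj F).IsQuasicoherent :=
    Groth.Agent.Lib.Helper5.RpushClassic.isQuasicoherent_rpush f F n
  obtain ⟨_, ⟨V, hV, rfl⟩, hyV, -⟩ := Y.isBasis_affineOpens.exists_subset_of_mem_open
    (Set.mem_univ y) isOpen_univ
  haveI : IsNoetherianRing Γ(Y, V) := IsLocallyNoetherian.component_noetherian ⟨V, hV⟩
  obtain ⟨K, hff, hneg, ⟨b, hb⟩, hsec, hrank, hv⟩ := exists_chart_complex f F hF hfl hV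
  haveI : ∀ i, Module.Finite Γ(Y, V) (K.X i) := fun i => (hff i).1
  haveI : ∀ i, Module.Free Γ(Y, V) (K.X i) := fun i => (hff i).2
  let y' : ↑(Spec (CommRingCat.of Γ(Y, V))) := hV.primeIdealOf ⟨y, hyV⟩
  have hy' : hV.fromSpec y' = y := hV.fromSpec_primeIdealOf ⟨y, hyV⟩
  have hsub := (hv n y').1 (by rw [hy']; exact hvan)
  have hker := kerM_eq_bot K ((n : ℤ) - 1) (n : ℤ) ((n : ℤ) + 1) (by ring) rfl _ hsub
  have hinj : letI : Module Γ(Y, V) (Y.residueField (hV.fromSpec y')) :=
      Module.compHom _ (phiV hV y')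
      Function.Injective ((dbar K ((n : ℤ) - 1) (n : ℤ) ((n : ℤ) + 1)).lTensor
        (Y.residueField (hV.fromSpec y'))) := by
    letI : Module Γ(Y, V) (Y.residueField (hV.fromSpec y')) := Module.compHom _ (phiV hV y')
    rw [LinearMap.lTensor_inj_iff_rTensor_inj]
    exact LinearMap.ker_eq_bot.1 hker
  haveI : y'.asIdeal.IsPrime := y'.isPrime
  obtain ⟨g, hg, hsg⟩ := exists_away_subsingleton_ker (dbar K ((n : ℤ) - 1) (n : ℤ) ((n : ℤ) + 1))
    y'.asIdeal (phiV hV y') (ker_phiV hV y') hinj
  obtain ⟨e⟩ := hsec n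
  have hP : Subsingleton (LocalizedModule.Away g Γ((Coh.Rpush f n).obj F, V)) :=
    subsingleton_away_of_equiv
      (e ≪≫ₗ homEquivKer K ((n : ℤ) - 1) (n : ℤ) ((n : ℤ) + 1) (by ring) rfl) g hsg
  refine ⟨Y.basicOpen g, ?_, isZero_restrict_basicOpen _ hV g hP⟩
  have h4 : y' ∈ hV.fromSpec ⁻¹ᵁ Y.basicOpen g := by
    rw [hV.fromSpec_preimage_basicOpen]
    exact hg
  have h5 : hV.fromSpec y' ∈ Y.basicOpen g := h4
  rw [hy'] at h5
  exact h5

end Main

end Groth.Agent.Lib.Helper4.Grauert3
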