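import Mathlib
import Groth.Prelude.Def_Coh
import Groth.Prelude.Def_CohB1
import Groth.Prelude.Def_FlatMod2
import Groth.Prelude.Def_Twist2
import Groth.Agent.Lib.Helper4.KrrI
import Groth.Agent.Lib.Helper4.KrrE
import Groth.Agent.Lib.Helper4.Grauert3
import Groth.Agent.Lib.Helper4.PullTens1
import Groth.Agent.Lib.Helper4.FlatTw3
import Groth.Agent.Lib.Helper5.Perf.PerfAmp

/-!
# fibrewise m-regular flat families: S16625 (helper4)
-/

set_option backward.isDefEq.respectTransparency.types false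
set_option synthInstance.maxHeartbeats 400000
set_option autoImplicit false
set_option linter.unusedSectionVars false
set_option linter.style.haveILetI false
set_option linter.unusedSimpArgs false
universe u v w
open CategoryTheory CategoryTheory.Limits AlgebraicGeometry TopologicalSpace Opposite MonoidalCategory
open Groth.Agent.Helper1 Groth.Agent.Helper3
open Groth.Agent.Lib.Helper4
open Groth.Agent.Lib.Helper4.KrrA Groth.Agent.Lib.Helper4.KrrB Groth.Agent.Lib.Helper4.KrrC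
open Groth.Agent.Lib.Helper4.KrrD Groth.Agent.Lib.Helper4.KrrH Groth.Agent.Lib.Helper4.KrrI
open Groth.Agent.Lib.Helper4.KosC1 Groth.Agent.Lib.Helper4.KosC3 Groth.Agent.Lib.Helper4.KosC4
open Groth.Agent.Lib.Helper4.SerreVan

namespace Groth.Agent.Lib.Helper4.KrrJ

section PY
variable (n : ℕ) (Y : Scheme.{u})

theorem isInvertible_twistOver (d : ℤ) : PicF.IsInvertible (Twist.twistOver n Y d) :=
  PullGen.isInvertible_pullback _ (ClBridge2.isInvertible_twist n (ULift.{u} ℤ) d)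

theorem nonempty_twistOver_add (a b : ℤ) :
    Nonempty (CohB1.tensorMod (Twist.twistOver n Y a) (Twist.twistOver n Y b) ≅
      Twist.twistOver n Y (a + b)) := by
  obtain ⟨e⟩ := (TwistTens.twist_package (CohB1.polyGrading n (ULift.{u} ℤ))
    (SerreFin.hcov1 n (ULift.{u} ℤ))).2.1 a b
  exact ⟨(PullTens1.pullTensIso _ (ClBridge2.isInvertible_twist n (ULift.{u} ℤ) a)
    (ClBridge2.isInvertible_twist n (ULift.{u} ℤ) b)).symm ≪≫ (Scheme.Modules.pullback _).mapIso e⟩

/-- `Q(b)(a) ≅ Q(a + b)` -/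
theorem nonempty_twF_tensor_iso (Q : (KRR.PY n Y).Modules) (a b c : ℤ) (hc : c = a + b) :
    Nonempty (KRR.twF n Y a (CohB1.tensorMod Q (Twist.twistOver n Y b)) ≅
      CohB1.tensorMod Q (Twist.twistOver n Y c)) := by
  obtain ⟨e⟩ := nonempty_twistOver_add n Y b a
  have h : b + a = c := by rw [hc, add_comm]
  rw [h] at e
  exact ⟨tensorModComm _ _ ≪≫
    assocIso (isInvertible_twistOver n Y b) (isInvertible_twistOver n Y a) e Q⟩

theorem isCoh_twistOver (d : ℤ) : Coh.IsCoh (Twist.twistOver n Y d) :=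
  Groth.Agent.Lib.Helper5.LocalCoh.isCoh_of_isFinLocFree _
    (InvInv2.isFinLocFree_of_isInvertible (isInvertible_twistOver n Y d))

theorem isCoh_tensor_twistOver (Q : (KRR.PY n Y).Modules) (hQ : Coh.IsCoh Q) (d : ℤ) :
    Coh.IsCoh (CohB1.tensorMod Q (Twist.twistOver n Y d)) := by
  haveI : Q.IsQuasicoherent := hQ.1
  haveI : (Twist.twistOver n Y d).IsQuasicoherent := (isCoh_twistOver n Y d).1
  exact ⟨Groth.Agent.Lead.TilT.isQuasicoherent_tensorMod _ _,
    Groth.Agent.Lead.TilT.isFT_tensorMod _ _ hQ.2 (isCoh_twistOver n Y d).2⟩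

theorem isRegSheaf_of_iso {F G : (KRR.PY n Y).Modules} (e : F ≅ G) (h : KRR.IsRegSheaf n Y F) :
    KRR.IsRegSheaf n Y G := by
  intro i hi
  refine (h i hi).of_iso ?_
  exact (Coh.RpushAb (KRR.pr n Y) i).mapIso
    ((SheafOfModules.toSheaf _).mapIso (((DCoh.tensorBi (X := KRR.PY n Y)).obj
      (Twist.twistOver n Y (-(i : ℤ)))).mapIso e.symm))

end PY

section Main
variable (n : ℕ) (S : Scheme.{u}) [IsNoetherian S]

theorem isFlatOver_tensor_twistOver (Q : (KRR.PY n S).Modules) (hQ : Coh.IsCoh Q)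
    (hflat : FlatMod.IsFlatOver (KRR.pr n S) Q) (d : ℤ) :
    FlatMod.IsFlatOver (KRR.pr n S) (CohB1.tensorMod Q (Twist.twistOver n S d)) := by
  haveI : Q.IsQuasicoherent := hQ.1
  haveI : (CohB1.tensorMod Q (Twist.twistOver n S d)).IsQuasicoherent :=
    (isCoh_tensor_twistOver n S Q hQ d).1
  exact FlatTw3.isFlatOver_tensor_of_isInvertible (KRR.pr n S) Q _ (isInvertible_twistOver n S d) hflat

theorem isZero_rpushAb_of_fibres (G : (KRR.PY n S).Modules) (hG : Coh.IsCoh G)
    (hfl : FlatMod.IsFlatOver (KRR.pr n S) G) (i : ℕ)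
    (h : ∀ s : S, Subsingleton (CohIII.fiberH (KRR.pr n S) G s i)) :
    IsZero ((Coh.RpushAb (KRR.pr n S) i).obj (Coh.toAb G)) := by
  haveI := LerayCol.hasInjectiveResolutions (KRR.PY n S)
  have hz : IsZero ((Coh.Rpush (KRR.pr n S) i).obj G) :=
    Groth.Agent.Lib.Helper5.PerfAmpl.isZero_of_local _
      (fun s => Grauert3.s2385 (KRR.pr n S) G hG hfl s i (h s))
  obtain ⟨e⟩ := RpushComp.nonempty_iso (KRR.pr n S) G i
  exact ((SheafOfModules.toSheaf _).map_isZero hz).of_iso e.symm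

theorem isRegSheaf_of_fibres (Q : (KRR.PY n S).Modules) (hQ : Coh.IsCoh Q)
    (hflat : FlatMod.IsFlatOver (KRR.pr n S) Q) (m : ℤ)
    (hreg : ∀ (s : S) (i : ℕ), 1 ≤ i →
      Subsingleton (CohIII.fiberH (KRR.pr n S) (CohB1.tensorMod Q (Twist.twistOver n S (m - i))) s i)) :
    KRR.IsRegSheaf n S (CohB1.tensorMod Q (Twist.twistOver n S m)) := by
  intro i hi
  obtain ⟨e⟩ := nonempty_twF_tensor_iso n S Q (-(i : ℤ)) m (m - i) (by ring)
  have h1 := isZero_rpushAb_of_fibres n S _ (isCoh_tensor_twistOver n S Q hQ (m - i))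
    (isFlatOver_tensor_twistOver n S Q hQ hflat (m - i)) i (fun s => hreg s i hi)
  exact h1.of_iso ((Coh.RpushAb (KRR.pr n S) i).mapIso ((SheafOfModules.toSheaf _).mapIso e))

theorem s16625 (Q : (CohB1.ProjSpaceOver n S).Modules) (hQ : Coh.IsCoh Q)
    (hflat : FlatMod.IsFlatOver (CohB1.ProjSpaceOver.toBase n S) Q) (m : ℤ) (hm : 0 < m)
    (hreg : ∀ (s : S) (i : ℕ), 1 ≤ i →
      Subsingleton (Coh.HH (pullback (CohB1.ProjSpaceOver.toBase n S) (S.fromSpecResidueField s))
        ((Scheme.Modules.pullback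
            (pullback.fst (CohB1.ProjSpaceOver.toBase n S) (S.fromSpecResidueField s))).obj
          (CohB1.tensorMod Q (Twist.twistOver n S (m - i)))) i))
    (d : ℤ) (hd : m ≤ d) :
    FlatMod.IsFinLocFree ((Coh.push (CohB1.ProjSpaceOver.toBase n S)).obj
        (CohB1.tensorMod Q (Twist.twistOver n S d))) ∧
      (∀ i : ℕ, 1 ≤ i → IsZero ((Coh.RpushAb (CohB1.ProjSpaceOver.toBase n S) i).obj
        (Coh.toAb (CohB1.tensorMod Q (Twist.twistOver n S d))))) ∧
      Epi ((Scheme.Modules.pullbackPushforwardAdjunction (CohB1.ProjSpaceOver.toBase n S)).counit.app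
        (CohB1.tensorMod Q (Twist.twistOver n S d))) := by
  have hregm : KRR.IsRegSheaf n S (CohB1.tensorMod Q (Twist.twistOver n S m)) :=
    isRegSheaf_of_fibres n S Q hQ hflat m hreg
  obtain ⟨r, rfl⟩ : ∃ r : ℕ, d = m + r := ⟨(d - m).toNat, by omega⟩
  have hcm := isCoh_tensor_twistOver n S Q hQ m
  haveI : (CohB1.tensorMod Q (Twist.twistOver n S m)).IsQuasicoherent := hcm.1
  have hregd0 := s19428 n S _ hregm r
  obtain ⟨e⟩ := nonempty_twF_tensor_iso n S Q (r : ℤ) m (m + r) (by ring)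
  have hregd : KRR.IsRegSheaf n S (CohB1.tensorMod Q (Twist.twistOver n S (m + r))) :=
    isRegSheaf_of_iso n S e hregd0
  have hcd := isCoh_tensor_twistOver n S Q hQ (m + r)
  haveI : (CohB1.tensorMod Q (Twist.twistOver n S (m + r))).IsQuasicoherent := hcd.1
  refine ⟨?_, fun i hi => isZero_rpushAb_of_isRegSheaf n S _ hregd i hi,
    KrrG.s19429 n S _ hcd.1 hregd⟩
  apply KrrE.isFinLocFree_push_of_vanishing (KRR.pr n S) _ hcd
    (isFlatOver_tensor_twistOver n S Q hQ hflat (m + r))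
  intro V q hq
  apply subsingleton_HHon_of_chart n S V.1 V.2 _ q
  rw [isRegSheaf_iff] at hregd
  exact subsingleton_HH_of_reg n Γ(S, V.1) _ (hregd V.1 V.2) q hq

end Main
end Groth.Agent.Lib.Helper4.KrrJ
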