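import Mathlib
import Groth.Prelude.Def_KRR
import Groth.Agent.Lib.Lead.CIU1

/-!
# surjectivity of the unit: base change along open immersions (helper4)
-/

set_option backward.isDefEq.respectTransparency.types false
set_option synthInstance.maxHeartbeats 400000
set_option autoImplicit false
set_option linter.unusedSectionVars false
set_option linter.style.haveILetI false
set_option linter.unusedSimpArgs false
universe u v w
open CategoryTheory AlgebraicGeometry TopologicalSpace Opposite
open Scheme.Modules Groth.Agent.Lead.CIU

namespace Groth.Agent.Lib.Helper4.UnitBC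

section Comp
variable {A B C : Scheme.{u}} (f : A ⟶ B) (g : B ⟶ C)

theorem comp_fun_eq (G : C.Modules) (O : C.Opens) :
    (((pullbackPushforwardAdjunction f).unit.app ((pullback g).obj G)).app (g ⁻¹ᵁ O)) ∘
      (((pullbackPushforwardAdjunction g).unit.app G).app O) =
      (((pullbackComp f g).inv.app G).app ((f ≫ g) ⁻¹ᵁ O)) ∘
      (((pullbackPushforwardAdjunction (f ≫ g)).unit.app G).app O) := by
  have h := unit_comp_app f g G O
  funext x
  exact congrArg (fun φ => φ x) h

theorem iso_bij (G : C.Modules) (O : C.Opens) :
    Function.Bijective (((pullbackComp f g).inv.app G).app ((f ≫ g) ⁻¹ᵁ O)) := by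
  haveI : IsIso ((pullbackComp f g).inv.app G) := inferInstance
  haveI : IsIso (((pullbackComp f g).inv.app G).app ((f ≫ g) ⁻¹ᵁ O)) := inferInstance
  exact (ConcreteCategory.isIso_iff_bijective _).1 this

theorem surjective_comp_of (G : C.Modules) (O : C.Opens)
    (hg : Function.Surjective (((pullbackPushforwardAdjunction g).unit.app G).app O))
    (hf : Function.Surjective
      (((pullbackPushforwardAdjunction f).unit.app ((pullback g).obj G)).app (g ⁻¹ᵁ O))) :
    Function.Surjective (((pullbackPushforwardAdjunction (f ≫ g)).unit.app G).app O) := by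
  have h' := comp_fun_eq f g G O
  have h1 : Function.Surjective ((((pullbackComp f g).inv.app G).app ((f ≫ g) ⁻¹ᵁ O)) ∘
      (((pullbackPushforwardAdjunction (f ≫ g)).unit.app G).app O)) := by
    rw [← h']; exact hf.comp hg
  intro y
  obtain ⟨x, hx⟩ := h1 ((((pullbackComp f g).inv.app G).app ((f ≫ g) ⁻¹ᵁ O)) y)
  exact ⟨x, (iso_bij f g G O).1 hx⟩

theorem surjective_of_comp (G : C.Modules) (O : C.Opens)
    (hfg : Function.Surjective (((pullbackPushforwardAdjunction (f ≫ g)).unit.app G).app O))
    (hf : Function.Injective
      (((pullbackPushforwardAdjunction f).unit.app ((pullback g).obj G)).app (g ⁻¹ᵁ O))) :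
    Function.Surjective (((pullbackPushforwardAdjunction g).unit.app G).app O) := by
  have h' := comp_fun_eq f g G O
  have h1 : Function.Surjective
      ((((pullbackPushforwardAdjunction f).unit.app ((pullback g).obj G)).app (g ⁻¹ᵁ O)) ∘
      (((pullbackPushforwardAdjunction g).unit.app G).app O)) := by
    rw [h']; exact (iso_bij f g G O).2.comp hfg
  intro y
  obtain ⟨x, hx⟩ := h1
    ((((pullbackPushforwardAdjunction f).unit.app ((pullback g).obj G)).app (g ⁻¹ᵁ O)) y)
  exact ⟨x, hf hx⟩

end Comp

section BaseChange

theorem unit_congr_surj {A C : Scheme.{u}} {h h' : A ⟶ C} (e : h = h') (G : C.Modules) (O : C.Opens) :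
    Function.Surjective (((pullbackPushforwardAdjunction h).unit.app G).app O) ↔
      Function.Surjective (((pullbackPushforwardAdjunction h').unit.app G).app O) := by
  subst e; rfl

variable {Z X V U : Scheme.{u}} (i : Z ⟶ X) (j : U ⟶ X) (j' : V ⟶ Z) (i' : V ⟶ U)
  [IsOpenImmersion j] [IsOpenImmersion j']

/-- base change of the surjectivity of the unit along open immersions, on sections -/
theorem surjective_unit_of_baseChange (comm : j' ≫ i = i' ≫ j) (F : X.Modules) (O : X.Opens)
    (hO : O ≤ j.opensRange) (hO' : i ⁻¹ᵁ O ≤ j'.opensRange)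
    (h : Function.Surjective
        (((pullbackPushforwardAdjunction i').unit.app ((pullback j).obj F)).app (j ⁻¹ᵁ O))) :
    Function.Surjective (((pullbackPushforwardAdjunction i).unit.app F).app O) := by
  have h1 := surjective_comp_of i' j F O (unit_app_bijective_of_le_range j F O hO).2 h
  rw [← unit_congr_surj comm F O] at h1
  exact surjective_of_comp j' i F O h1 (unit_app_bijective_of_le_range j' _ _ hO').1

end BaseChange

end Groth.Agent.Lib.Helper4.UnitBC
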