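import Mathlib
import Groth.Prelude.Def_KRR
import Groth.Agent.Lib.Helper4.ChartU
import Groth.Agent.Lib.Helper4.UnitBC
import Groth.Agent.Lib.Helper4.KrrJ

/-!
# the unit M -> p_* p^* M of P^n_Y -> Y is surjective on affine opens; the counit is injective on sections (helper4)
-/

set_option backward.isDefEq.respectTransparency.types false
set_option synthInstance.maxHeartbeats 400000
set_option autoImplicit false
set_option linter.unusedSectionVars false
set_option linter.style.haveILetI false
set_option linter.unusedSimpArgs false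
universe u v w
open CategoryTheory CategoryTheory.Limits AlgebraicGeometry TopologicalSpace Opposite
open Groth.Agent.Helper1 Groth.Agent.Helper3
open Groth.Agent.Lib.Helper4
open Groth.Agent.Lib.Helper4.KrrB Groth.Agent.Lib.Helper4.KrrI Groth.Agent.Lib.Helper4.KrrH

namespace Groth.Agent.Lib.Helper4.UnitPr

section Rel
variable (n : ℕ) (Y : Scheme.{u}) (W : Y.Opens) (hW : IsAffineOpen W)

include hW in
/-- **(U)**: for `M` quasi-coherent on `Y` and `W ⊆ Y` affine open,
`Γ(W, M) → Γ(p⁻¹ W, p^* M)` is surjective -/
theorem unit_surjective_pr (M : Y.Modules) [M.IsQuasicoherent] :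
    Function.Surjective
      (((Scheme.Modules.pullbackPushforwardAdjunction (KRR.pr n Y)).unit.app M).app W) := by
  haveI : ((Scheme.Modules.pullback W.ι).obj M).IsQuasicoherent :=
    QcPullGen.isQuasicoherent_pullback _ _
  refine UnitBC.surjective_unit_of_baseChange (KRR.pr n Y) W.ι (jW n Y W hW) (qW n Y W hW)
    (qW_ι n Y W hW).symm M W ?_ ?_ ?_
  · rw [Scheme.Opens.opensRange_ι]
  · rw [← Scheme.Hom.image_top_eq_opensRange, jW_image_top]
  · have h := ChartU.unit_surjective_qW n Y W hW ((Scheme.Modules.pullback W.ι).obj M)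
    have e : W.ι ⁻¹ᵁ W = ⊤ := Scheme.Opens.ι_preimage_self W
    rw [e]
    exact h

include hW in
/-- the counit `p^* p_* G → G` is injective on sections over `p⁻¹ W` -/
theorem counit_injective_pr (G : (KRR.PY n Y).Modules) [G.IsQuasicoherent] :
    Function.Injective
      (((Scheme.Modules.pullbackPushforwardAdjunction (KRR.pr n Y)).counit.app G).app
        ((KRR.pr n Y) ⁻¹ᵁ W)) := by
  haveI : ((Scheme.Modules.pushforward (KRR.pr n Y)).obj G).IsQuasicoherent :=
    PushQc.isQuasicoherent_pushforward (KRR.pr n Y) G
  have hs := unit_surjective_pr n Y W hW ((Scheme.Modules.pushforward (KRR.pr n Y)).obj G)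
  have ht := (Scheme.Modules.pullbackPushforwardAdjunction (KRR.pr n Y)).right_triangle_components G
  have ht' := congrArg (fun φ => Scheme.Modules.Hom.app φ W) ht
  simp only [Scheme.Modules.Hom.comp_app] at ht'
  intro a b hab
  obtain ⟨a', rfl⟩ := hs a
  obtain ⟨b', rfl⟩ := hs b
  have ha := congrArg (fun φ => φ a') ht'
  have hb := congrArg (fun φ => φ b') ht'
  have hab' : ((Scheme.Modules.pushforward (KRR.pr n Y)).map
      ((Scheme.Modules.pullbackPushforwardAdjunction (KRR.pr n Y)).counit.app G)).app W
        (((Scheme.Modules.pullbackPushforwardAdjunction (KRR.pr n Y)).unit.app _).app W a') =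
      ((Scheme.Modules.pushforward (KRR.pr n Y)).map
      ((Scheme.Modules.pullbackPushforwardAdjunction (KRR.pr n Y)).counit.app G)).app W
        (((Scheme.Modules.pullbackPushforwardAdjunction (KRR.pr n Y)).unit.app _).app W b') := hab
  have : a' = b' := by
    refine Eq.trans ?_ (Eq.trans hab' ?_)
    · exact ha.symm
    · exact hb
  rw [this]

end Rel

end Groth.Agent.Lib.Helper4.UnitPr
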