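import Mathlib
import Groth.Prelude.Def_KRR
import Groth.Agent.Lib.Helper4.UnitPr
import Groth.Agent.Lib.Lead.BCU4
import Groth.Agent.Lib.Helper1.FtLocal

/-!
# termination of the canonical resolution: partial regularity of the kernels of the counit (helper4)
-/

set_option backward.isDefEq.respectTransparency.types false
set_option synthInstance.maxHeartbeats 400000
set_option autoImplicit false
set_option linter.unusedSectionVars false
set_option linter.style.haveILetI false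
set_option linter.unusedSimpArgs false
universe u v w
open CategoryTheory CategoryTheory.Limits AlgebraicGeometry TopologicalSpace Opposite
open Groth.Agent.Helper1 Groth.Agent.Helper3
open Groth.Agent.Lib.Helper4
open Groth.Agent.Lib.Helper4.KrrB Groth.Agent.Lib.Helper4.KrrC Groth.Agent.Lib.Helper4.KrrI Groth.Agent.Lib.Helper4.KrrH

namespace Groth.Agent.Lib.Helper4.KrrL

section Gen
variable {X : Scheme.{u}}

/-- a globally generated module without global sections is zero -/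
theorem isZero_of_globGen (E : X.Modules) (hgg : Curv2.IsGloballyGenerated E)
    (h0 : Subsingleton Γ(E, ⊤)) : IsZero E := by
  rw [GlobGen.isGloballyGenerated_iff] at hgg
  haveI : Subsingleton E.sections := ⟨fun s s' =>
    GlobGen.sections_ext_top E s s' (Subsingleton.elim (h := h0) _ _)⟩
  have h1 : GlobGen.gen E = 0 := by
    apply E.freeHomEquiv.injective
    exact Subsingleton.elim _ _
  exact @IsZero.of_epi_eq_zero _ _ _ _ _ (GlobGen.gen E) hgg h1

/-- sections of a zero module -/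
theorem subsingleton_sections_of_isZero (M : X.Modules) (hM : IsZero M) (U : X.Opens) :
    Subsingleton Γ(M, U) := by
  refine subsingleton_of_forall_eq 0 fun x => ?_
  have h1 : (𝟙 M : M ⟶ M).app U x = x := rfl
  rw [hM.eq_of_src (𝟙 M) 0] at h1
  exact h1.symm

/-- a module vanishing on arbitrarily small neighbourhoods is zero -/
theorem isZero_of_locally (M : X.Modules)
    (hb : ∀ (U : X.Opens) (x : X), x ∈ U → ∃ V : X.Opens, V ≤ U ∧ x ∈ V ∧ Subsingleton Γ(M, V)) :
    IsZero M := by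
  have h : IsIso (0 : M ⟶ M) := by
    apply Groth.Agent.Lead.BCU.isIso_of_bijective_nhds
    intro U x hx
    obtain ⟨V, hVU, hxV, hV⟩ := hb U x hx
    refine ⟨V, hVU, hxV, ?_, ?_⟩
    · intro a b _
      exact Subsingleton.elim _ _
    · intro b
      exact ⟨0, Subsingleton.elim _ _⟩
  rw [IsZero.iff_id_eq_zero]
  have := IsIso.hom_inv_id (0 : M ⟶ M)
  rw [zero_comp] at this
  exact this.symm

end Gen

section Rel
variable (n : ℕ) (Y : Scheme.{u}) (W : Y.Opens) (hW : IsAffineOpen W)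

/-- the kernel of the counit `p^* p_* G → G` -/
noncomputable abbrev Kof (G : (KRR.PY n Y).Modules) : (KRR.PY n Y).Modules :=
  kernel ((Scheme.Modules.pullbackPushforwardAdjunction (KRR.pr n Y)).counit.app G)

include hW in
/-- (V0): the kernel of the counit has no sections over `p⁻¹ W` -/
theorem subsingleton_sections_Kof (G : (KRR.PY n Y).Modules) [G.IsQuasicoherent]
    (O : (KRR.PY n Y).Opens) (hO : O = (KRR.pr n Y) ⁻¹ᵁ W) :
    Subsingleton Γ(Kof n Y G, O) := by
  subst hO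
  let ε := (Scheme.Modules.pullbackPushforwardAdjunction (KRR.pr n Y)).counit.app G
  have hinj := UnitPr.counit_injective_pr n Y W hW G
  refine subsingleton_of_forall_eq 0 fun x => ?_
  apply FtLocal.app_injective_of_mono (kernel.ι ε) ((KRR.pr n Y) ⁻¹ᵁ W)
  apply hinj
  have h1 : ε.app ((KRR.pr n Y) ⁻¹ᵁ W) ((kernel.ι ε).app ((KRR.pr n Y) ⁻¹ᵁ W) x) =
      (kernel.ι ε ≫ ε).app ((KRR.pr n Y) ⁻¹ᵁ W) x := rfl
  rw [map_zero, map_zero]
  refine h1.trans ?_
  rw [kernel.condition]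
  rfl

/-- partial vanishing along the antidiagonal, on a chart -/
def PV (k : ℕ) (M : (KRR.PY n Y).Modules) : Prop :=
  ∀ i : ℕ, i ≤ k → Subsingleton (Coh.HH (CohB1.ProjSpace n Γ(Y, W))
    (CohB1.tensorMod (M.restrict (jW n Y W hW)) (Twist.twistProjSpace n Γ(Y, W) (0 - (i : ℤ)))) i)

theorem subsingleton_HH0_Kof (G : (KRR.PY n Y).Modules) [G.IsQuasicoherent] :
    Subsingleton (Coh.HH (CohB1.ProjSpace n Γ(Y, W))
      (CohB1.tensorMod ((Kof n Y G).restrict (jW n Y W hW))
        (Twist.twistProjSpace n Γ(Y, W) (0 - ((0 : ℕ) : ℤ)))) 0) := by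
  have h0 : Subsingleton Γ((Kof n Y G).restrict (jW n Y W hW), ⊤) :=
    subsingleton_sections_Kof n Y W hW G ((jW n Y W hW) ''ᵁ ⊤) (jW_image_top n Y W hW)
  have h1 : Subsingleton (Coh.HH (CohB1.ProjSpace n Γ(Y, W))
      ((Kof n Y G).restrict (jW n Y W hW)) 0) :=
    (CohUtil.HH0equiv _).toEquiv.subsingleton
  obtain ⟨e⟩ := KrrD.nonempty_twist_zero_iso n Γ(Y, W) ((Kof n Y G).restrict (jW n Y W hW))
  have h2 := Dv.subsingleton_HH_of_iso e 0 h1
  exact KosC1.subsingleton_twist_congr n Γ(Y, W) _ (by norm_num) 0 h2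

theorem pv_zero (G : (KRR.PY n Y).Modules) [G.IsQuasicoherent] :
    PV n Y W hW 0 (Kof n Y G) := by
  intro i hi
  obtain rfl : i = 0 := by omega
  exact subsingleton_HH0_Kof n Y W hW G

theorem pv_succ (M : (KRR.PY n Y).Modules) [M.IsQuasicoherent] (k : ℕ) (hk : k + 1 ≤ n)
    (hepi : Epi ((Scheme.Modules.pullbackPushforwardAdjunction (KRR.pr n Y)).counit.app
      (KRR.twF n Y 1 M)))
    (h : PV n Y W hW k M) : PV n Y W hW (k + 1) (Kof n Y (KRR.twF n Y 1 M)) := by
  haveI : (KRR.twF n Y 1 M).IsQuasicoherent := isQCoh_twF n Y 1 M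
  intro i hi
  rcases Nat.eq_zero_or_pos i with rfl | hpos
  · exact subsingleton_HH0_Kof n Y W hW _
  obtain ⟨i', rfl⟩ : ∃ i', i = i' + 1 := ⟨i - 1, by omega⟩
  let G := KRR.twF n Y 1 M
  let ε := (Scheme.Modules.pullbackPushforwardAdjunction (KRR.pr n Y)).counit.app G
  haveI : Epi ε := hepi
  have hS : (ShortComplex.mk (kernel.ι ε) ε (kernel.condition ε)).ShortExact :=
    SerreFin.kerSeq_shortExact ε
  have hS1 := restrict_shortExact n Y hS W hW
  have hS2 := tw_shortExact n Γ(Y, W) hS1 (0 - ((i' + 1 : ℕ) : ℤ))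
  haveI hpq : ((Scheme.Modules.pushforward (KRR.pr n Y)).obj G).IsQuasicoherent :=
    PushQc.isQuasicoherent_pushforward (KRR.pr n Y) G
  haveI : IsAffine (↑W : Scheme.{u}) := hW
  haveI : (((Scheme.Modules.pushforward (KRR.pr n Y)).obj G).restrict W.ι).IsQuasicoherent :=
    inferInstance
  refine subsingleton_X₁ Γ(Y, W) (X := CohB1.ProjSpace n Γ(Y, W)) hS2 i' ?_ ?_
  · -- the quotient
    have a := KosC1.subsingleton_twist_congr n Γ(Y, W) (M.restrict (jW n Y W hW))
      (c := 0 - (i' : ℤ)) (c' := 1 + (0 - ((i' + 1 : ℕ) : ℤ))) (by push_cast; ring) i'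
      (h i' (by omega))
    obtain ⟨e2⟩ := KosC3.nonempty_twist_twist_iso n Γ(Y, W) (M.restrict (jW n Y W hW)) 1
      (0 - ((i' + 1 : ℕ) : ℤ))
    have b := Dv.subsingleton_HH_of_iso e2 i' a
    exact Dv.subsingleton_HH_of_iso
      (Groth.Agent.Lead.TilT.tensorModCongr (chartTw n Y W hW 1 M) (Iso.refl _)) i' b
  · -- the middle term
    have h1 := subsingleton_HH_pullback_twist n Γ(Y, W) (qW n Y W hW) n (i' + 1) (by omega)
      (by omega) (((Scheme.Modules.pushforward (KRR.pr n Y)).obj G).restrict W.ι)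
      (0 - ((i' + 1 : ℕ) : ℤ)) (by push_cast; omega)
    exact Dv.subsingleton_HH_of_iso
      (Groth.Agent.Lead.TilT.tensorModCongr
        (chartPull n Y W hW ((Scheme.Modules.pushforward (KRR.pr n Y)).obj G)) (Iso.refl _))
      (i' + 1) h1

theorem isZero_restrict_of_pv (K : (KRR.PY n Y).Modules) [K.IsQuasicoherent]
    (h : PV n Y W hW n K) (h0 : Subsingleton Γ(K.restrict (jW n Y W hW), ⊤)) :
    IsZero (K.restrict (jW n Y W hW)) := by
  haveI : (K.restrict (jW n Y W hW)).IsQuasicoherent := inferInstance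
  have hreg : Reg n Γ(Y, W) (K.restrict (jW n Y W hW)) 0 := by
    intro i hi
    by_cases hin : i ≤ n
    · exact h i hin
    · haveI : (Twist.twistProjSpace n Γ(Y, W) (0 - (i : ℤ))).IsQuasicoherent :=
        (SerreFin.isCoh_twist n Γ(Y, W) _).1
      haveI : Coh.IsQCoh (CohB1.tensorMod (K.restrict (jW n Y W hW))
          (Twist.twistProjSpace n Γ(Y, W) (0 - (i : ℤ)))) :=
        Groth.Agent.Lead.TilT.isQuasicoherent_tensorMod _ _
      exact Groth.Agent.S0022.result n Γ(Y, W) _ i (by omega)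
  exact isZero_of_globGen _ (KrrG.isGloballyGenerated_of_reg n Γ(Y, W) _ hreg) h0

theorem isZero_of_charts (K : (KRR.PY n Y).Modules)
    (h : ∀ (W : Y.Opens) (hW : IsAffineOpen W), IsZero (K.restrict (jW n Y W hW))) : IsZero K := by
  apply isZero_of_locally
  intro U x hx
  obtain ⟨_, ⟨W, hW, rfl⟩, hxW, -⟩ := Y.isBasis_affineOpens.exists_subset_of_mem_open
    (Set.mem_univ ((KRR.pr n Y) x)) isOpen_univ
  refine ⟨U ⊓ (KRR.pr n Y) ⁻¹ᵁ W, inf_le_left, ⟨hx, hxW⟩, ?_⟩
  have h1 := subsingleton_sections_of_isZero _ (h W hW)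
    ((jW n Y W hW) ⁻¹ᵁ (U ⊓ (KRR.pr n Y) ⁻¹ᵁ W))
  have h2 : Subsingleton Γ(K, (jW n Y W hW) ''ᵁ ((jW n Y W hW) ⁻¹ᵁ (U ⊓ (KRR.pr n Y) ⁻¹ᵁ W))) := h1
  have e : (jW n Y W hW) ''ᵁ ((jW n Y W hW) ⁻¹ᵁ (U ⊓ (KRR.pr n Y) ⁻¹ᵁ W)) =
      U ⊓ (KRR.pr n Y) ⁻¹ᵁ W := by
    rw [Scheme.Hom.image_preimage_eq_opensRange_inf, ← Scheme.Hom.image_top_eq_opensRange,
      jW_image_top]
    exact inf_eq_right.2 inf_le_right
  rw [e] at h2
  exact h2

/-- the kernel of the counit vanishes as soon as it is `n`-partially regular on all charts -/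
theorem isZero_Kof_of_pv (G : (KRR.PY n Y).Modules) [G.IsQuasicoherent]
    (hK : (Kof n Y G).IsQuasicoherent)
    (h : ∀ (W : Y.Opens) (hW : IsAffineOpen W), PV n Y W hW n (Kof n Y G)) :
    IsZero (Kof n Y G) := by
  apply isZero_of_charts
  intro W hW
  exact isZero_restrict_of_pv n Y W hW _ (h W hW)
    (subsingleton_sections_Kof n Y W hW G ((jW n Y W hW) ''ᵁ ⊤) (jW_image_top n Y W hW))

end Rel

end Groth.Agent.Lib.Helper4.KrrL
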