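import Mathlib

namespace Groth.Agent.Helper4.TD

open TopologicalSpace Order

universe u

variable {X : Type u} [TopologicalSpace X]

/-- Restriction of an irreducible closed subset contained in `C` to the subspace `C`. -/
def restrictIC (C : Set X) (Z : IrreducibleCloseds X) (hZ : (Z : Set X) ⊆ C) :
    IrreducibleCloseds ↥C where
  carrier := Subtype.val ⁻¹' (Z : Set X)
  isIrreducible' := by
    constructor
    · obtain ⟨z, hz⟩ := Z.isIrreducible.nonempty
      exact ⟨⟨z, hZ hz⟩, hz⟩
    · intro u v hu hv ⟨a, ha, hau⟩ ⟨b, hb, hbv⟩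
      obtain ⟨U, hU, rfl⟩ := isOpen_induced_iff.mp hu
      obtain ⟨V, hV, rfl⟩ := isOpen_induced_iff.mp hv
      obtain ⟨z, hz, hzU, hzV⟩ := Z.isIrreducible.isPreirreducible U V hU hV
        ⟨a.1, ha, hau⟩ ⟨b.1, hb, hbv⟩
      exact ⟨⟨z, hZ hz⟩, hz, hzU, hzV⟩
  isClosed' := Z.isClosed.preimage continuous_subtype_val

theorem restrictIC_lt (C : Set X) (Z Z' : IrreducibleCloseds X) (hZ : (Z : Set X) ⊆ C)
    (hZ' : (Z' : Set X) ⊆ C) (h : Z < Z') : restrictIC C Z hZ < restrictIC C Z' hZ' := by
  refine lt_of_le_of_ne (fun x hx => h.le hx) fun heq => h.ne ?_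
  have h1 : (Subtype.val ⁻¹' (Z : Set X) : Set ↥C) = Subtype.val ⁻¹' (Z' : Set X) :=
    congrArg (fun s : IrreducibleCloseds ↥C => (s : Set ↥C)) heq
  apply IrreducibleCloseds.ext
  have h2 := congrArg (Set.image Subtype.val) h1
  rw [Subtype.image_preimage_coe, Subtype.image_preimage_coe,
    Set.inter_eq_right.mpr hZ, Set.inter_eq_right.mpr hZ'] at h2
  exact h2

/-- S10831 -/
theorem topologicalKrullDim_eq_iSup_irreducibleComponents (X : Type u) [TopologicalSpace X] :
    topologicalKrullDim X = ⨆ Y ∈ irreducibleComponents X, topologicalKrullDim ↥Y := by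
  apply le_antisymm
  · refine iSup_le fun l => ?_
    obtain ⟨C, hC, hlC⟩ :=
      exists_mem_irreducibleComponents_subset_of_isIrreducible (l.last : Set X)
        l.last.isIrreducible
    have hsub : ∀ i, ((l i : IrreducibleCloseds X) : Set X) ⊆ C := fun i =>
      (show (l i : Set X) ⊆ l.last from (LTSeries.monotone l (Fin.le_last i))).trans hlC
    let L : LTSeries (IrreducibleCloseds ↥C) :=
      { length := l.length
        toFun := fun i => restrictIC C (l i) (hsub i)
        step := fun i => restrictIC_lt C _ _ _ _ (l.step i) }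
    calc (l.length : WithBot ℕ∞) = L.length := rfl
      _ ≤ topologicalKrullDim ↥C := Order.LTSeries.length_le_krullDim L
      _ ≤ ⨆ Y ∈ irreducibleComponents X, topologicalKrullDim ↥Y :=
        le_iSup₂ (f := fun Y (_ : Y ∈ irreducibleComponents X) => topologicalKrullDim ↥Y) C hC
  · exact iSup₂_le fun Y _ => topologicalKrullDim_subspace_le X Y

end Groth.Agent.Helper4.TD
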