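import Mathlib
import Groth.Prelude.Def_Flat
import Groth.Agent.Lib.Helper4.DimFT1

/-!
# Local dimension of the spectrum of a finite type algebra over a field (helper4)
-/

set_option backward.isDefEq.respectTransparency.types false
set_option synthInstance.maxHeartbeats 400000
set_option autoImplicit false
set_option linter.unusedSectionVars false
set_option linter.style.haveILetI false
set_option linter.unusedSimpArgs false
universe u v w
open CategoryTheory CategoryTheory.Limits AlgebraicGeometry TopologicalSpace IsLocalRing Opposite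
open Groth.Agent.Lib.Helper4.DimFT1

namespace Groth.Agent.Lib.Helper4.DimFT2

section Heights

variable {R : Type*} [CommRing R]

theorem isPrime_map_mk (P q : Ideal R) [q.IsPrime] (h : P ≤ q) :
    (q.map (Ideal.Quotient.mk P)).IsPrime :=
  Ideal.map_isPrime_of_surjective Ideal.Quotient.mk_surjective (by rw [Ideal.mk_ker]; exact h)

theorem comap_map_mk' (P q : Ideal R) (h : P ≤ q) :
    (q.map (Ideal.Quotient.mk P)).comap (Ideal.Quotient.mk P) = q := by
  rw [Ideal.comap_map_of_surjective _ Ideal.Quotient.mk_surjective, ← RingHom.ker_eq_comap_bot,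
    Ideal.mk_ker, sup_eq_left.mpr h]

/-- the height in a quotient is at most the height -/
theorem height_map_mk_le (P q : Ideal R) [hq : q.IsPrime] (h : P ≤ q) :
    (q.map (Ideal.Quotient.mk P)).height ≤ q.height := by
  haveI := isPrime_map_mk P q h
  have h1 := PrimeSpectrum.height_eq_orderHeight
    (⟨q.map (Ideal.Quotient.mk P), inferInstance⟩ : PrimeSpectrum (R ⧸ P))
  have h2 := PrimeSpectrum.height_eq_orderHeight (⟨q, hq⟩ : PrimeSpectrum R)
  change (q.map (Ideal.Quotient.mk P)).height = _ at h1
  change q.height = _ at h2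
  rw [h1, h2]
  have h3 := Order.height_le_height_apply_of_strictMono _
    (RingHom.strictMono_comap_of_surjective (f := Ideal.Quotient.mk P) Ideal.Quotient.mk_surjective)
    (⟨q.map (Ideal.Quotient.mk P), inferInstance⟩ : PrimeSpectrum (R ⧸ P))
  have h4 : PrimeSpectrum.comap (Ideal.Quotient.mk P)
      (⟨q.map (Ideal.Quotient.mk P), inferInstance⟩ : PrimeSpectrum (R ⧸ P)) = ⟨q, hq⟩ :=
    PrimeSpectrum.ext (comap_map_mk' P q h)
  rwa [h4] at h3

/-- the height of a prime is attained modulo a minimal prime -/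
theorem exists_minimalPrimes_height_eq [IsNoetherianRing R] (q : Ideal R) [hq : q.IsPrime] :
    ∃ P ∈ minimalPrimes R, ∃ h : P ≤ q, (q.map (Ideal.Quotient.mk P)).height = q.height := by
  obtain ⟨l, hlast, hlen⟩ := Ideal.exists_ltSeries_length_eq_height q
  obtain ⟨P, hPmin, hPle⟩ := Ideal.exists_minimalPrimes_le (I := ⊥) (J := l.head.asIdeal) bot_le
  have hPq : P ≤ q := by
    have : l.head ≤ l.last := l.head_le_last
    rw [hlast] at this
    exact hPle.trans this
  refine ⟨P, hPmin, hPq, le_antisymm (height_map_mk_le P q hPq) ?_⟩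
  haveI := hPmin.1.1
  haveI := isPrime_map_mk P q hPq
  -- push the chain to the quotient
  have hmem : ∀ i, P ≤ (l i).asIdeal := fun i => hPle.trans (l.head_le i)
  let e := Ideal.primeSpectrumQuotientOrderIsoZeroLocus P
  let l' : LTSeries (PrimeSpectrum.zeroLocus (P : Set R)) :=
    LTSeries.mk l.length (fun i => ⟨l i, hmem i⟩) (fun i j hij => l.strictMono hij)
  let l'' : LTSeries (PrimeSpectrum (R ⧸ P)) := l'.map e.symm e.symm.strictMono
  have hlast'' : l''.last = ⟨q.map (Ideal.Quotient.mk P), inferInstance⟩ := by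
    rw [LTSeries.last_map]
    apply e.injective
    rw [OrderIso.apply_symm_apply]
    apply Subtype.ext
    change l.last = PrimeSpectrum.comap (Ideal.Quotient.mk P) _
    rw [hlast]
    exact PrimeSpectrum.ext (comap_map_mk' P q hPq).symm
  have h3 := Order.length_le_height (p := l'') hlast''.le
  rw [← PrimeSpectrum.height_eq_orderHeight] at h3
  rw [← hlen]
  exact h3

end Heights



section FT

variable (k : Type u) [Field k] (S : Type u) [CommRing S] [Algebra k S] [Algebra.FiniteType k S]

instance finiteType_quotient (I : Ideal S) : Algebra.FiniteType k (S ⧸ I) :=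
  Algebra.FiniteType.of_surjective (Ideal.Quotient.mkₐ k I) (Ideal.Quotient.mkₐ_surjective k I)

include k in
/-- the dimension formula between two primes of a finite type algebra over a field -/
theorem height_map_add_dim (P q : Ideal S) [hP : P.IsPrime] [hq : q.IsPrime] (h : P ≤ q) :
    ((q.map (Ideal.Quotient.mk P)).height : WithBot ℕ∞) + ringKrullDim (S ⧸ q) =
      ringKrullDim (S ⧸ P) := by
  haveI := isPrime_map_mk P q h
  rw [← height_add_dim_quotient k (S ⧸ P) (q.map (Ideal.Quotient.mk P)),
    ringKrullDim_eq_of_ringEquiv (DoubleQuot.quotQuotEquivQuotOfLE h)]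

include k in
theorem height_map_eq_dim_of_isMaximal (P m : Ideal S) [hP : P.IsPrime] [hm : m.IsMaximal]
    (h : P ≤ m) :
    ((m.map (Ideal.Quotient.mk P)).height : WithBot ℕ∞) = ringKrullDim (S ⧸ P) := by
  haveI : (m.map (Ideal.Quotient.mk P)).IsMaximal :=
    Ideal.IsMaximal.map_of_surjective_of_ker_le Ideal.Quotient.mk_surjective
      (by rw [Ideal.mk_ker]; exact h)
  exact height_eq_dim_of_isMaximal k (S ⧸ P) _

include k in
/-- lower bound for the dimension of a basic open neighbourhood -/
theorem le_dim_away (p : Ideal S) [hp : p.IsPrime] (f : S) (hf : f ∉ p) (Sf : Type*) [CommRing Sf]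
    [Algebra S Sf] [IsLocalization.Away f Sf] :
    (p.height : WithBot ℕ∞) + ringKrullDim (S ⧸ p) ≤ ringKrullDim Sf := by
  haveI : IsNoetherianRing S := Algebra.FiniteType.isNoetherianRing k S
  haveI : IsJacobsonRing S := isJacobsonRing_of_finiteType (A := k) (B := S)
  obtain ⟨P, hPmin, hPp, hPh⟩ := exists_minimalPrimes_height_eq p
  haveI := hPmin.1.1
  -- a maximal ideal containing p and avoiding f
  obtain ⟨m, hm, hpm, hfm⟩ : ∃ m : Ideal S, m.IsMaximal ∧ p ≤ m ∧ f ∉ m := by
    have hjac : p.jacobson = p := IsJacobsonRing.out inferInstance hp.isRadical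
    have hf' : f ∉ p.jacobson := by rw [hjac]; exact hf
    unfold Ideal.jacobson at hf'
    rw [Submodule.mem_sInf] at hf'
    push Not at hf'
    obtain ⟨m, ⟨hpm, hm⟩, hfm⟩ := hf'
    exact ⟨m, hm, hpm, hfm⟩
  haveI := hm
  have hdisj : Disjoint (Submonoid.powers f : Set S) (m : Set S) := by
    rw [Set.disjoint_left]
    rintro x ⟨n, rfl⟩ hx
    exact hfm (hm.isPrime.mem_of_pow_mem n hx)
  haveI : (m.map (algebraMap S Sf)).IsPrime :=
    IsLocalization.isPrime_of_isPrime_disjoint (Submonoid.powers f) Sf m hm.isPrime hdisj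
  have h1 : ((m.map (algebraMap S Sf)).height : WithBot ℕ∞) ≤ ringKrullDim Sf :=
    Ideal.height_le_ringKrullDim_of_isPrime
  rw [IsLocalization.height_map_of_disjoint (Submonoid.powers f) m hdisj] at h1
  refine le_trans ?_ h1
  have h2 := height_map_eq_dim_of_isMaximal k S P m (hPp.trans hpm)
  have h3 := height_map_add_dim k S P p hPp
  rw [hPh] at h3
  rw [h3, ← h2]
  exact WithBot.coe_le_coe.mpr (height_map_mk_le P m (hPp.trans hpm))

include k in
/-- upper bound for the dimension of a suitable basic open neighbourhood -/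
theorem exists_dim_away_le (p : Ideal S) [hp : p.IsPrime] :
    ∃ f : S, f ∉ p ∧ ∀ (Sf : Type u) [CommRing Sf] [Algebra S Sf] [IsLocalization.Away f Sf],
      ringKrullDim Sf ≤ (p.height : WithBot ℕ∞) + ringKrullDim (S ⧸ p) := by
  classical
  haveI : IsNoetherianRing S := Algebra.FiniteType.isNoetherianRing k S
  have hfin : (minimalPrimes S).Finite := Ideal.finite_minimalPrimes_of_isNoetherianRing S ⊥
  let F := hfin.toFinset.filter (fun P => ¬ P ≤ p)
  have hJ : ¬ (F.inf id ≤ p) := by
    rw [Ideal.IsPrime.inf_le' hp]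
    rintro ⟨P, hPF, hPp⟩
    exact (Finset.mem_filter.mp hPF).2 hPp
  obtain ⟨f, hfJ, hfp⟩ := SetLike.not_le_iff_exists.mp hJ
  refine ⟨f, hfp, ?_⟩
  intro Sf _ _ _
  rw [ringKrullDim_le_iff_height_le]
  intro Q hQ
  haveI := hQ
  haveI hq : (Q.under S).IsPrime := Ideal.comap_isPrime _ Q
  rw [← IsLocalization.height_under (Submonoid.powers f) Q]
  have hfq : f ∉ Q.under S := by
    intro hmem
    have hu : IsUnit (algebraMap S Sf f) := IsLocalization.Away.algebraMap_isUnit f
    exact hQ.ne_top (Ideal.eq_top_of_isUnit_mem _ hmem hu)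
  obtain ⟨P, hPmin, hPq, hPh⟩ := exists_minimalPrimes_height_eq (Q.under S)
  haveI := hPmin.1.1
  have hPp : P ≤ p := by
    by_contra hnot
    have hPF : P ∈ F := Finset.mem_filter.mpr ⟨hfin.mem_toFinset.mpr hPmin, hnot⟩
    have : F.inf id ≤ P := Finset.inf_le (f := id) hPF
    exact hfq (hPq (this hfJ))
  haveI := isPrime_map_mk P (Q.under S) hPq
  rw [← hPh]
  have h1 : (((Q.under S).map (Ideal.Quotient.mk P)).height : WithBot ℕ∞) ≤ ringKrullDim (S ⧸ P) :=
    Ideal.height_le_ringKrullDim_of_isPrime
  refine le_trans h1 ?_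
  rw [← height_map_add_dim k S P p hPp]
  gcongr
  exact WithBot.coe_le_coe.mpr (height_map_mk_le P p hPp)

end FT



section TopSpec

theorem topologicalKrullDim_basicOpen {S : Type*} [CommRing S] (f : S) (Sf : Type*) [CommRing Sf]
    [Algebra S Sf] [IsLocalization.Away f Sf] :
    topologicalKrullDim ↥((PrimeSpectrum.basicOpen f : Opens (PrimeSpectrum S)) :
      Set (PrimeSpectrum S)) = ringKrullDim Sf := by
  have hemb := PrimeSpectrum.localization_away_isOpenEmbedding Sf f
  have rng := PrimeSpectrum.localization_away_comap_range Sf f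
  let e := hemb.isEmbedding.toHomeomorph.trans (Homeomorph.setCongr rng)
  rw [← PrimeSpectrum.topologicalKrullDim_eq_ringKrullDim]
  exact (IsHomeomorph.topologicalKrullDim_eq _ e.isHomeomorph).symm

theorem topologicalKrullDim_mono {X : Type*} [TopologicalSpace X] {s t : Set X} (h : s ⊆ t) :
    topologicalKrullDim ↥s ≤ topologicalKrullDim ↥t :=
  (Topology.IsEmbedding.inclusion h).isInducing.topologicalKrullDim_le

end TopSpec

section S2141

variable {k S : Type u} [Field k] [CommRing S] [Algebra k S] [Algebra.FiniteType k S]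

include k in
theorem localDim_spec_eq (p : Ideal S) [hp : p.IsPrime] :
    FlatMor.localDim (PrimeSpectrum S) ⟨p, hp⟩ =
      (p.height : WithBot ℕ∞) + ringKrullDim (S ⧸ p) := by
  unfold FlatMor.localDim
  apply le_antisymm
  · obtain ⟨f, hfp, hf⟩ := exists_dim_away_le k S p
    refine le_trans (iInf_le _ (⟨PrimeSpectrum.basicOpen f, hfp⟩ :
      {U : Opens (PrimeSpectrum S) // (⟨p, hp⟩ : PrimeSpectrum S) ∈ U})) ?_
    rw [topologicalKrullDim_basicOpen f (Localization.Away f)]
    exact hf (Localization.Away f)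
  · apply le_iInf
    rintro ⟨U, hU⟩
    obtain ⟨_, ⟨f, rfl⟩, hpf, hfU⟩ :=
      PrimeSpectrum.isTopologicalBasis_basic_opens.exists_subset_of_mem_open hU U.2
    refine le_trans ?_ (topologicalKrullDim_mono hfU)
    rw [topologicalKrullDim_basicOpen f (Localization.Away f)]
    exact le_dim_away k S p f hpf (Localization.Away f)

theorem S2141_main (p : Ideal S) [p.IsPrime] (r : ℕ) (hr : Algebra.trdeg k p.ResidueField = r) :
    FlatMor.localDim (PrimeSpectrum S) ⟨p, inferInstance⟩ =
      ringKrullDim (Localization.AtPrime p) + (r : WithBot ℕ∞) := by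
  rw [localDim_spec_eq (k := k) p, IsLocalization.AtPrime.ringKrullDim_eq_height p (Localization.AtPrime p)]
  congr 1
  haveI : Algebra.FiniteType k (S ⧸ p) :=
    Algebra.FiniteType.of_surjective (Ideal.Quotient.mkₐ k p) (Ideal.Quotient.mkₐ_surjective k p)
  obtain ⟨n, htr, hdim⟩ := exists_dim_eq_trdeg k (S ⧸ p)
  rw [trdeg_fractionRing_eq k (S ⧸ p) p.ResidueField, htr] at hr
  rw [hdim]
  have : n = r := by exact_mod_cast hr
  rw [this]

end S2141


end Groth.Agent.Lib.Helper4.DimFT2
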