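import Mathlib

/-!
# A finitely presented closed immersion flat at a point is locally an isomorphism (helper4)
-/

set_option backward.isDefEq.respectTransparency.types false
set_option synthInstance.maxHeartbeats 400000
set_option autoImplicit false
set_option linter.unusedSectionVars false
set_option linter.style.haveILetI false
set_option linter.unusedSimpArgs false
universe u v

namespace Groth.Agent.Lib.Helper4.ClosedImmFlat
open AlgebraicGeometry CategoryTheory TopologicalSpace Opposite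

/-- a section over an affine open whose germ at `y` vanishes is killed by a section that is
invertible at `y`. -/
lemma exists_mul_eq_zero_of_germ_eq_zero {Y : Scheme.{u}} {V : Y.Opens} (hV : IsAffineOpen V)
    (y : Y) (hy : y ∈ V) (a : Γ(Y, V)) (ha : Y.presheaf.germ V y hy a = 0) :
    ∃ s : Γ(Y, V), y ∈ Y.basicOpen s ∧ s * a = 0 := by
  letI := Y.presheaf.algebra_section_stalk (U := V) ⟨y, hy⟩
  have hloc := hV.isLocalization_stalk ⟨y, hy⟩
  have h1 : algebraMap Γ(Y, V) (Y.presheaf.stalk y) a = 0 := ha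
  obtain ⟨⟨s, hs⟩, hsa⟩ := (IsLocalization.map_eq_zero_iff
    (hV.primeIdealOf ⟨y, hy⟩).asIdeal.primeCompl (Y.presheaf.stalk y) a).mp h1
  refine ⟨s, ?_, hsa⟩
  rw [Y.mem_basicOpen s y hy]
  exact (IsLocalization.AtPrime.isUnit_to_map_iff (Y.presheaf.stalk y)
    (hV.primeIdealOf ⟨y, hy⟩).asIdeal s).mpr hs

/-- A closed immersion whose ideal over an affine open `V0` is killed by `g` is an isomorphism
over `D(g)`. -/
lemma injective_app_basicOpen {X Y : Scheme.{u}} (f : X ⟶ Y) {V0 : Y.Opens}
    (hV0 : IsAffineOpen V0) (hU0 : IsAffineOpen (f ⁻¹ᵁ V0)) (g : Γ(Y, V0))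
    (hg : ∀ a : Γ(Y, V0), f.app V0 a = 0 → g * a = 0) :
    Function.Injective (f.app (Y.basicOpen g)) := by
  rw [injective_iff_map_eq_zero]
  intro u hu
  have hloc := hV0.isLocalization_basicOpen g
  obtain ⟨⟨a, ⟨_, n, rfl⟩⟩, hau⟩ := IsLocalization.surj (Submonoid.powers g) u
  dsimp only at hau
  -- `hau : u * algebraMap (g ^ n) = algebraMap a`
  have hunit : IsUnit (algebraMap Γ(Y, V0) Γ(Y, Y.basicOpen g) g) :=
    IsLocalization.Away.algebraMap_isUnit g
  let ι : Y.basicOpen g ⟶ V0 := homOfLE (Y.basicOpen_le g)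
  have halg : ∀ b, algebraMap Γ(Y, V0) Γ(Y, Y.basicOpen g) b = Y.presheaf.map ι.op b := fun b => rfl
  -- apply `f`
  have h1 : f.app (Y.basicOpen g) (Y.presheaf.map ι.op a) = 0 := by
    rw [← halg, ← hau, map_mul, hu, zero_mul]
  have h2 : X.presheaf.map (homOfLE (f.preimage_mono (Y.basicOpen_le g))).op (f.app V0 a) = 0 := by
    rw [← h1]
    have := f.naturality ι.op
    exact (ConcreteCategory.congr_hom this a).symm
  have e : X.basicOpen (f.app V0 g) = f ⁻¹ᵁ Y.basicOpen g := (f.preimage_basicOpen g).symm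
  have h3 : (f.app V0 a) |_ (X.basicOpen (f.app V0 g)) = 0 := by
    have h4 := congrArg (X.presheaf.map (homOfLE e.le).op) h2
    rw [map_zero, ← ConcreteCategory.comp_apply, ← Functor.map_comp] at h4
    exact h4
  obtain ⟨m, hm⟩ := exists_pow_mul_eq_zero_of_res_basicOpen_eq_zero_of_isAffineOpen X hU0
    (f.app V0 a) (f.app V0 g) h3
  have h5 : f.app V0 (g ^ m * a) = 0 := by rw [map_mul, map_pow]; exact hm
  have h6 : g * (g ^ m * a) = 0 := hg _ h5
  have h7 : algebraMap Γ(Y, V0) Γ(Y, Y.basicOpen g) a = 0 := by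
    have := congrArg (algebraMap Γ(Y, V0) Γ(Y, Y.basicOpen g)) h6
    rw [map_mul, map_mul, map_pow, map_zero, ← mul_assoc, ← pow_succ'] at this
    exact (hunit.pow (m + 1)).mul_right_eq_zero.mp this
  rw [h7, map_pow] at hau
  exact (hunit.pow n).mul_left_eq_zero.mp hau

theorem S10895_main {X Y : Scheme.{u}} (f : X ⟶ Y) [IsClosedImmersion f]
    [LocallyOfFinitePresentation f] (x : X) (hflat : (f.stalkMap x).hom.Flat) :
    ∃ V : Y.Opens, f.base x ∈ V ∧ IsIso (f ∣_ V) := by
  have hinj : Function.Injective (f.stalkMap x).hom := by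
    algebraize [(f.stalkMap x).hom]
    have : IsLocalHom (algebraMap (Y.presheaf.stalk (f x)) (X.presheaf.stalk x)) :=
      inferInstanceAs <| IsLocalHom (f.stalkMap x).hom
    have : Module.FaithfullyFlat (Y.presheaf.stalk (f x)) (X.presheaf.stalk x) :=
      .of_flat_of_isLocalHom
    exact FaithfulSMul.algebraMap_injective _ _
  obtain ⟨_, ⟨V0, hV0 : IsAffineOpen V0, rfl⟩, hyV0, -⟩ :=
    Y.isBasis_affineOpens.exists_subset_of_mem_open (Set.mem_univ (f.base x)) isOpen_univ
  have hU0 : IsAffineOpen (f ⁻¹ᵁ V0) := hV0.preimage f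
  have hfp : (f.app V0).hom.FinitePresentation := by
    have := f.finitePresentation_appLE hV0 hU0 le_rfl
    rwa [Scheme.Hom.appLE_eq_app] at this
  have hsurj : Function.Surjective (f.app V0).hom := f.app_surjective V0 hV0
  have hfg : (RingHom.ker (f.app V0).hom).FG := by
    algebraize [(f.app V0).hom]
    exact Algebra.FinitePresentation.ker_fG_of_surjective (Algebra.ofId Γ(Y, V0) Γ(X, f ⁻¹ᵁ V0)) hsurj
  -- each element of the kernel is killed by a section invertible at `f x`
  have hkill : ∀ a ∈ RingHom.ker (f.app V0).hom,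
      ∃ s : Γ(Y, V0), f.base x ∈ Y.basicOpen s ∧ s * a = 0 := by
    intro a ha
    apply exists_mul_eq_zero_of_germ_eq_zero hV0 (f.base x) hyV0 a
    apply hinj
    rw [map_zero]
    have := f.germ_stalkMap_apply V0 x hyV0 a
    rw [show (f.app V0) a = 0 from ha, map_zero] at this
    exact this
  obtain ⟨t, ht⟩ := hfg
  choose! s hs1 hs2 using hkill
  have htk : ∀ a ∈ t, a ∈ RingHom.ker (f.app V0).hom := fun a ha => ht ▸ Ideal.subset_span ha
  let g : Γ(Y, V0) := ∏ a ∈ t, s a
  have hgx : f.base x ∈ Y.basicOpen g := by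
    rw [Y.mem_basicOpen g (f.base x) hyV0, map_prod]
    rw [IsUnit.prod_iff]  -- hopefully
    intro a ha
    exact (Y.mem_basicOpen (s a) (f.base x) hyV0).mp (hs1 a (htk a ha))
  have hg' : ∀ a ∈ Ideal.span (t : Set Γ(Y, V0)), g * a = 0 := by
    intro a ha'
    induction ha' using Submodule.span_induction with
    | mem b hb =>
      obtain ⟨c, hc⟩ := Finset.dvd_prod_of_mem s hb
      change g = s b * c at hc
      rw [hc, mul_comm (s b), mul_assoc, hs2 b (htk b hb), mul_zero]
    | zero => simp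
    | add b c _ _ hb hc => rw [mul_add, hb, hc, add_zero]
    | smul r b _ hb => rw [smul_eq_mul, mul_left_comm, hb, mul_zero]
  have hg : ∀ a : Γ(Y, V0), f.app V0 a = 0 → g * a = 0 := fun a ha => hg' a (ht ▸ ha)
  refine ⟨Y.basicOpen g, hgx, ?_⟩
  have haff : IsAffine (Y.basicOpen g : Y.Opens) := hV0.basicOpen g
  apply IsClosedImmersion.isIso_of_injective_of_isAffine
  have key : ∀ (W : Y.Opens) (W' : X.Opens) (e : W' ≤ f ⁻¹ᵁ W), W = Y.basicOpen g →
      W' = f ⁻¹ᵁ W → Function.Injective (f.appLE W W' e) := by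
    rintro W W' e rfl rfl
    rw [Scheme.Hom.appLE_eq_app]
    exact injective_app_basicOpen f hV0 hU0 g hg
  rw [Scheme.Hom.appTop, morphismRestrict_app']
  exact key _ _ _ (by simp) (by simp)

end Groth.Agent.Lib.Helper4.ClosedImmFlat
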