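import Mathlib

/-!
# Closed immersion near a point iff fibre condition and universally closed nearby (helper4)
-/

set_option backward.isDefEq.respectTransparency.types false
set_option synthInstance.maxHeartbeats 400000
set_option autoImplicit false
set_option linter.unusedSectionVars false
set_option linter.style.haveILetI false
set_option linter.unusedSimpArgs false
universe u v w
open AlgebraicGeometry CategoryTheory Limits
open scoped TensorProduct

namespace Groth.Agent.Lib.Helper4.ClosedImmNhd1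

section alg
variable {A B R : Type*} [CommRing A] [CommRing B] [CommRing R] [Algebra A B] [Algebra A R]
  [IsLocalRing R] (p : Ideal A) [p.IsPrime] [IsLocalization.AtPrime R p]
  [Algebra A (IsLocalRing.ResidueField R)] [IsScalarTower A R (IsLocalRing.ResidueField R)]

/-- a finite module killed by tensoring with the residue field of `A_p` is killed by some
`s ∉ p`. -/
theorem exists_notMem_smul_eq_zero (M : Type*) [AddCommGroup M] [Module A M] [Module.Finite A M]
    (h : Subsingleton (IsLocalRing.ResidueField R ⊗[A] M)) :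
    ∃ s : A, s ∉ p ∧ ∀ m : M, s • m = 0 := by
  classical
  have h1 : Subsingleton (IsLocalRing.ResidueField R ⊗[R] (R ⊗[A] M)) :=
    (TensorProduct.AlgebraTensorModule.cancelBaseChange A R R
      (IsLocalRing.ResidueField R) M).toEquiv.subsingleton_congr.mpr h
  have h2 : Subsingleton (R ⊗[A] M) := IsLocalRing.subsingleton_tensorProduct.mp h1
  obtain ⟨S, hS⟩ := (Module.finite_def.mp (inferInstance : Module.Finite A M))
  have key : ∀ m : M, ∃ s : A, s ∉ p ∧ s • m = 0 := by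
    intro m
    have : TensorProduct.mk A R M 1 m = TensorProduct.mk A R M 1 0 := Subsingleton.elim _ _
    obtain ⟨c, hc⟩ := IsLocalizedModule.exists_of_eq (S := p.primeCompl) this
    refine ⟨c.1, c.2, ?_⟩
    rw [smul_zero] at hc
    exact hc
  choose s hs hsm using key
  refine ⟨∏ m ∈ S, s m, ?_, ?_⟩
  · intro hmem
    obtain ⟨m, -, hm⟩ := (Ideal.IsPrime.prod_mem_iff).mp hmem
    exact hs m hm
  · intro m
    have hm : m ∈ Submodule.span A (S : Set M) := by rw [hS]; trivial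
    induction hm using Submodule.span_induction with
    | mem x hx =>
      rw [← Finset.mul_prod_erase S s hx, mul_comm, mul_smul, hsm, smul_zero]
    | zero => exact smul_zero _
    | add x y _ _ hx hy => rw [smul_add, hx, hy, add_zero]
    | smul a x _ hx => rw [smul_comm, hx, smul_zero]


/-- a finite algebra whose fibre at `p` is the residue field is a quotient near `p`. -/
theorem exists_notMem_smul_mem_range [Module.Finite A B]
    (h : ∀ t : B ⊗[A] IsLocalRing.ResidueField R, ∃ c : IsLocalRing.ResidueField R,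
      t = (1 : B) ⊗ₜ[A] c) :
    ∃ s : A, s ∉ p ∧ ∀ b : B, ∃ a : A, s • b = algebraMap A B a := by
  set N : Submodule A B := LinearMap.range (Algebra.linearMap A B) with hN
  have hsub : Subsingleton (IsLocalRing.ResidueField R ⊗[A] (B ⧸ N)) := by
    have hsurj : Function.Surjective (LinearMap.lTensor (IsLocalRing.ResidueField R) N.mkQ) :=
      LinearMap.lTensor_surjective _ N.mkQ_surjective
    have hzero : ∀ t, LinearMap.lTensor (IsLocalRing.ResidueField R) N.mkQ t = 0 := by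
      intro t
      obtain ⟨c, hc⟩ := h (TensorProduct.comm A _ _ t)
      have : t = c ⊗ₜ[A] (1 : B) := by
        apply (TensorProduct.comm A _ _).injective
        rw [hc, TensorProduct.comm_tmul]
      rw [this, LinearMap.lTensor_tmul]
      have h1 : N.mkQ (1 : B) = 0 := by
        rw [Submodule.mkQ_apply, Submodule.Quotient.mk_eq_zero]
        exact ⟨1, by simp⟩
      rw [h1, TensorProduct.tmul_zero]
    refine ⟨fun x y => ?_⟩
    obtain ⟨x', rfl⟩ := hsurj x
    obtain ⟨y', rfl⟩ := hsurj y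
    rw [hzero, hzero]
  obtain ⟨s, hs, hsm⟩ := exists_notMem_smul_eq_zero (R := R) p (B ⧸ N) hsub
  refine ⟨s, hs, fun b => ?_⟩
  have := hsm (N.mkQ b)
  rw [← map_smul, Submodule.mkQ_apply, Submodule.Quotient.mk_eq_zero] at this
  obtain ⟨a, ha⟩ := this
  exact ⟨a, ha.symm⟩

end alg

section geom

/-- If `f` is closed over `V ∋ y` and `W` is an open containing the fibre of `y`, then `W` contains
the preimage of an open neighbourhood of `y`. -/
theorem exists_opens_preimage_le {X Y : Scheme.{u}} (f : X ⟶ Y) (V : Y.Opens) (y : Y) (hy : y ∈ V)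
    (hcl : IsClosedMap (f ∣_ V).base) (W : X.Opens) (hW : f ⁻¹' {y} ⊆ (W : Set X)) :
    ∃ U : Y.Opens, U ≤ V ∧ y ∈ U ∧ f ⁻¹ᵁ U ≤ W := by
  let C : Set ↥(f ⁻¹ᵁ V) := (f ⁻¹ᵁ V).ι ⁻¹' ((W : Set X)ᶜ)
  have hC : IsClosed C := W.2.isClosed_compl.preimage (f ⁻¹ᵁ V).ι.continuous
  have hD : IsClosed ((f ∣_ V) '' C) := hcl _ hC
  let O : (V : Scheme.{u}).Opens := ⟨((f ∣_ V) '' C)ᶜ, hD.isOpen_compl⟩
  refine ⟨V.ι ''ᵁ O, ?_, ?_, ?_⟩
  · rintro _ ⟨o, -, rfl⟩
    exact o.2
  · refine ⟨⟨y, hy⟩, ?_, rfl⟩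
    rintro ⟨c, hc, hcy⟩
    have h1 : f c.1 = y := by
      rw [← morphismRestrict_base_coe, hcy]
    exact hc (hW h1)
  · intro x hx
    obtain ⟨o, ho, hox⟩ := hx
    by_contra hxW
    have hxV : x ∈ f ⁻¹ᵁ V := by
      change f x ∈ V
      rw [← hox]; exact o.2
    apply ho
    refine ⟨⟨x, hxV⟩, hxW, ?_⟩
    apply Subtype.ext
    rw [morphismRestrict_base_coe]
    exact hox.symm


theorem restrict_of_le (P : MorphismProperty Scheme.{u}) [IsZariskiLocalAtTarget P]
    {X Y : Scheme.{u}} (f : X ⟶ Y) {U U' : Y.Opens} (h : U' ≤ U) (hP : P (f ∣_ U)) :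
    P (f ∣_ U') := by
  have h1 : P ((f ∣_ U) ∣_ (U.ι ⁻¹ᵁ U')) := IsZariskiLocalAtTarget.restrict hP _
  rw [P.arrow_mk_iso_iff (morphismRestrictRestrict f U _)] at h1
  have e : U.ι ''ᵁ U.ι ⁻¹ᵁ U' = U' := by
    rw [Scheme.Hom.image_preimage_eq_opensRange_inf, Scheme.Opens.opensRange_ι]
    exact inf_eq_right.mpr h
  rwa [P.arrow_mk_iso_iff (morphismRestrictEq f e)] at h1

/-- a fibre isomorphic to the spectrum of the residue field has exactly one point -/
theorem existsUnique_of_isIso_fiber {X Y : Scheme.{u}} (f : X ⟶ Y) (y : Y)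
    [IsIso (f.fiberToSpecResidueField y)] :
    ∃ x : X, f x = y ∧ ∀ x' : X, f x' = y → x' = x := by
  let e : f.fiber y ≃ₜ Spec (Y.residueField y) :=
    Scheme.homeoOfIso (asIso (f.fiberToSpecResidueField y))
  have hsub : Subsingleton ↥(Spec (Y.residueField y)) :=
    inferInstanceAs (Subsingleton (PrimeSpectrum (Y.residueField y)))
  have hne : Nonempty ↥(Spec (Y.residueField y)) :=
    inferInstanceAs (Nonempty (PrimeSpectrum (Y.residueField y)))
  obtain ⟨z⟩ := hne
  let w : f ⁻¹' {y} := f.fiberHomeo y (e.symm z)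
  refine ⟨w.1, w.2, fun x' hx' => ?_⟩
  have : (⟨x', hx'⟩ : f ⁻¹' {y}) = w := by
    apply (f.fiberHomeo y).symm.injective
    apply e.injective
    exact Subsingleton.elim _ _
  exact congrArg Subtype.val this

theorem exists_isFinite_restrict {X Y : Scheme.{u}} (f : X ⟶ Y) [LocallyOfFiniteType f] (y : Y)
    (x : X) (_hx : f x = y) (hux : ∀ x', f x' = y → x' = x)
    (V : Y.Opens) (hyV : y ∈ V) [UniversallyClosed (f ∣_ V)] :
    ∃ U : Y.Opens, IsAffineOpen U ∧ y ∈ U ∧ U ≤ V ∧ IsFinite (f ∣_ U) := by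
  obtain ⟨_, ⟨W, hW, rfl⟩, hxW, -⟩ := X.isBasis_affineOpens.exists_subset_of_mem_open
    (Set.mem_univ x) isOpen_univ
  obtain ⟨U₁, hU₁V, hyU₁, hle⟩ := exists_opens_preimage_le f V y hyV (f ∣_ V).isClosedMap W
    (fun x' hx' => by rw [hux x' hx']; exact hxW)
  haveI : UniversallyClosed (f ∣_ U₁) := restrict_of_le @UniversallyClosed f hU₁V inferInstance
  haveI : IsAffine (W : Scheme.{u}) := hW
  haveI : Scheme.IsSeparated ((f ⁻¹ᵁ U₁ : X.Opens) : Scheme.{u}) :=
    ⟨by rw [← terminal.comp_from (X.homOfLE hle)]; infer_instance⟩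
  haveI : IsProper (f ∣_ U₁) := {}
  have hfin : ((f ∣_ U₁) ⁻¹' {⟨y, hyU₁⟩}).Finite := by
    apply Set.Subsingleton.finite
    intro c hc c' hc'
    apply Subtype.ext
    have h1 : f c.1 = y := by
      rw [← morphismRestrict_base_coe, hc]
    have h2 : f c'.1 = y := by
      rw [← morphismRestrict_base_coe, hc']
    rw [hux _ h1, hux _ h2]
  obtain ⟨V₂, hyV₂, hV₂⟩ :=
    exists_isFinite_morphismRestrict_of_finite_preimage_singleton (f ∣_ U₁) ⟨y, hyU₁⟩ hfin
  have hU₂ : IsFinite (f ∣_ U₁.ι ''ᵁ V₂) := by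
    rwa [← MorphismProperty.arrow_mk_iso_iff @IsFinite (morphismRestrictRestrict f U₁ V₂)]
  have hyU₂ : y ∈ U₁.ι ''ᵁ V₂ := ⟨⟨y, hyU₁⟩, hyV₂, rfl⟩
  obtain ⟨_, ⟨U, hU, rfl⟩, hyU, hUU₂⟩ := Y.isBasis_affineOpens.exists_subset_of_mem_open
    hyU₂ (U₁.ι ''ᵁ V₂).2
  refine ⟨U, hU, hyU, ?_, restrict_of_le @IsFinite f hUU₂ hU₂⟩
  intro z hz
  obtain ⟨o, -, rfl⟩ := hUU₂ hz
  exact hU₁V o.2

lemma isPullback_comp_mono {C : Type*} [Category C] {P X Y W Z : C} {fst : P ⟶ X} {snd : P ⟶ Y}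
    {f : X ⟶ W} {g : Y ⟶ W} (h : IsPullback fst snd f g) (i : W ⟶ Z) [Mono i] :
    IsPullback fst snd (f ≫ i) (g ≫ i) :=
  IsPullback.of_isLimit' ⟨by rw [← Category.assoc, h.w, Category.assoc]⟩
    (PullbackCone.isLimitOfCompMono f g i _ h.isLimit)

/-- affine chart of the fibre, with both projections -/
theorem fiberChart' {X Y : Scheme.{u}} (f : X ⟶ Y) {V : Y.Opens} (hV : IsAffineOpen V)
    {U : X.Opens} (hU : IsAffineOpen U) (e : U ≤ f ⁻¹ᵁ V) (y : Y) (hy : y ∈ V) :
    letI := (f.appLE V U e).hom.toAlgebra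
    letI := (Y.evaluation V y hy).hom.toAlgebra
    ∃ l : Spec (.of (Γ(X, U) ⊗[Γ(Y, V)] (Y.residueField y))) ⟶ f.fiber y,
      IsOpenImmersion l ∧
      l ≫ f.fiberToSpecResidueField y = Spec.map (CommRingCat.ofHom
        (Algebra.TensorProduct.includeRight.toRingHom :
          (Y.residueField y) →+* Γ(X, U) ⊗[Γ(Y, V)] (Y.residueField y))) ∧
      Set.range l = (f.fiberι y) ⁻¹' U := by
  let φ : Γ(Y, V) ⟶ Γ(X, U) := f.appLE V U e
  let ψ : Γ(Y, V) ⟶ Y.residueField y := Y.evaluation V y hy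
  algebraize [φ.hom, ψ.hom]
  have hpo := CommRingCat.isPushout_tensorProduct Γ(Y, V) Γ(X, U) (Y.residueField y)
  have hpb := isPullback_SpecMap_of_isPushout _ _ _ _ hpo
  have hpb2 := isPullback_comp_mono hpb hV.fromSpec
  have e1 : Spec.map (CommRingCat.ofHom (algebraMap Γ(Y, V) Γ(X, U))) ≫ hV.fromSpec
      = hU.fromSpec ≫ f := IsAffineOpen.SpecMap_appLE_fromSpec f hV hU e
  have e2 : Spec.map (CommRingCat.ofHom (algebraMap Γ(Y, V) (Y.residueField y))) ≫
      hV.fromSpec = Y.fromSpecResidueField y := by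
    change Spec.map (Y.presheaf.germ V y hy ≫ Y.residue _) ≫ hV.fromSpec = _
    rw [Spec.map_comp, Category.assoc]
    change _ ≫ hV.fromSpecStalk hy = _
    rw [hV.fromSpecStalk_eq_fromSpecStalk hy]
    rfl
  rw [e1, e2] at hpb2
  have hfib : IsPullback (f.fiberι y) (f.fiberToSpecResidueField y) f
      (Y.fromSpecResidueField y) := IsPullback.of_hasPullback _ _
  let l := hfib.lift _ _ (by rw [Category.assoc]; exact hpb2.w)
  have hl1 : l ≫ f.fiberι y = _ := hfib.lift_fst _ _ _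
  have hl2 : l ≫ f.fiberToSpecResidueField y = _ := hfib.lift_snd _ _ _
  have hsq : IsPullback l (Spec.map (CommRingCat.ofHom Algebra.TensorProduct.includeLeftRingHom))
      (f.fiberι y) hU.fromSpec := by
    refine IsPullback.of_right ?_ hl1 hfib.flip
    rw [hl2]
    exact hpb2.flip
  have hlo : IsOpenImmersion l :=
    MorphismProperty.of_isPullback (P := @IsOpenImmersion) hsq.flip inferInstance
  refine ⟨l, hlo, hl2, ?_⟩
  have h3 : l = hsq.isoPullback.hom ≫ pullback.fst _ _ := (hsq.isoPullback_hom_fst).symm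
  rw [h3, Scheme.Hom.comp_base, TopCat.coe_comp, Set.range_comp,
    Set.range_eq_univ.mpr hsq.isoPullback.hom.surjective, Set.image_univ,
    Scheme.Pullback.range_fst, hU.range_fromSpec]

set_option backward.isDefEq.respectTransparency false in
theorem finite_app_of_isFinite_restrict {X Y : Scheme.{u}} (f : X ⟶ Y) (V : Y.Opens)
    (hV : IsAffineOpen V) [IsFinite (f ∣_ V)] :
    IsAffineOpen (f ⁻¹ᵁ V) ∧ (f.app V).hom.Finite := by
  haveI : IsAffine (V : Scheme.{u}) := hV
  have h := (HasAffineProperty.iff_of_isAffine (P := @IsFinite) (f := f ∣_ V)).mp inferInstance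
  refine ⟨h.1, ?_⟩
  have h2 := h.2
  rw [morphismRestrict_appTop, CommRingCat.hom_comp,
    RingHom.finite_respectsIso.cancel_right_isIso] at h2
  have h3 : (Scheme.Hom.app f (V.ι ''ᵁ ⊤)).hom.Finite := h2
  rwa [Scheme.Opens.ι_image_top] at h3

set_option backward.isDefEq.respectTransparency false in
theorem exists_smul_mem_range_of_fiber {X Y : Scheme.{u}} (f : X ⟶ Y) (V : Y.Opens)
    (hV : IsAffineOpen V) (y : Y) (hy : y ∈ V) [IsFinite (f ∣_ V)]
    [IsIso (f.fiberToSpecResidueField y)] :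
    ∃ s : Γ(Y, V), s ∉ (hV.primeIdealOf ⟨y, hy⟩).asIdeal ∧
      ∀ b : Γ(X, f ⁻¹ᵁ V), ∃ a : Γ(Y, V), (f.app V).hom s * b = (f.app V).hom a := by
  obtain ⟨hU, hfin⟩ := finite_app_of_isFinite_restrict f V hV
  let φ : Γ(Y, V) ⟶ Γ(X, f ⁻¹ᵁ V) := f.appLE V (f ⁻¹ᵁ V) le_rfl
  have hφ : φ = f.app V := f.appLE_eq_app
  letI : Algebra Γ(Y, V) Γ(X, f ⁻¹ᵁ V) := φ.hom.toAlgebra
  letI : Algebra Γ(Y, V) (Y.residueField y) := (Y.evaluation V y hy).hom.toAlgebra
  letI : Algebra Γ(Y, V) (Y.presheaf.stalk y) := (Y.presheaf.germ V y hy).hom.toAlgebra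
  haveI : Module.Finite Γ(Y, V) Γ(X, f ⁻¹ᵁ V) := by
    have : φ.hom.Finite := by rw [hφ]; exact hfin
    exact this
  obtain ⟨l, hl, hl2, hlr⟩ := fiberChart' f hV hU le_rfl y hy
  have hsurj : Function.Surjective l := by
    rw [← Set.range_eq_univ, hlr]
    ext z
    simp only [Set.mem_preimage, SetLike.mem_coe, Set.mem_univ, iff_true]
    change f (f.fiberι y z) ∈ V
    have : f (f.fiberι y z) = y := by
      have := (f.fiberHomeo y z).2
      exact this
    rw [this]; exact hy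
  haveI : IsIso l := (isIso_iff_isOpenImmersion_and_surjective l).mpr ⟨hl, ⟨hsurj⟩⟩
  have hiso : IsIso (Spec.map (CommRingCat.ofHom
      (Algebra.TensorProduct.includeRight.toRingHom :
        (Y.residueField y) →+* Γ(X, f ⁻¹ᵁ V) ⊗[Γ(Y, V)] (Y.residueField y)))) := by
    rw [← hl2]; infer_instance
  have hbij := isIso_SpecMap_iff.mp hiso
  haveI : IsLocalization.AtPrime (Y.presheaf.stalk y) (hV.primeIdealOf ⟨y, hy⟩).asIdeal :=
    hV.isLocalization_stalk ⟨y, hy⟩
  haveI : IsScalarTower Γ(Y, V) (Y.presheaf.stalk y)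
      (IsLocalRing.ResidueField (Y.presheaf.stalk y)) := .of_algebraMap_eq' rfl
  obtain ⟨s, hs, hsb⟩ := exists_notMem_smul_mem_range (A := Γ(Y, V)) (B := Γ(X, f ⁻¹ᵁ V))
    (R := Y.presheaf.stalk y) (hV.primeIdealOf ⟨y, hy⟩).asIdeal
    (fun t => by obtain ⟨c, hc⟩ := hbij.2 t; exact ⟨c, hc.symm⟩)
  refine ⟨s, hs, fun b => ?_⟩
  obtain ⟨a, ha⟩ := hsb b
  refine ⟨a, ?_⟩
  rw [← hφ]
  exact ha

theorem isClosedImmersion_restrict_basicOpen {X Y : Scheme.{u}} (f : X ⟶ Y) (V : Y.Opens)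
    (hV : IsAffineOpen V) (hU : IsAffineOpen (f ⁻¹ᵁ V)) (s : Γ(Y, V))
    (hsb : ∀ b : Γ(X, f ⁻¹ᵁ V), ∃ a : Γ(Y, V), (f.app V).hom s * b = (f.app V).hom a) :
    IsClosedImmersion (f ∣_ Y.basicOpen s) := by
  set g : Γ(X, f ⁻¹ᵁ V) := (f.app V).hom s with hg
  let V' : Y.Opens := Y.basicOpen s
  let U' : X.Opens := X.basicOpen g
  have hV' : IsAffineOpen V' := hV.basicOpen s
  have hU' : IsAffineOpen U' := hU.basicOpen g
  have hV'V : V' ≤ V := Y.basicOpen_le s
  have hU'U : U' ≤ f ⁻¹ᵁ V := X.basicOpen_le g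
  have heq : f ⁻¹ᵁ V' = U' := Scheme.preimage_basicOpen f s
  have hU'V' : U' ≤ f ⁻¹ᵁ V' := heq.ge
  have hlocg : IsLocalization.Away g Γ(X, U') := hU.isLocalization_basicOpen g
  have hci : IsClosedImmersion (f.resLE V' U' hU'V') := by
    haveI : IsAffine (U' : Scheme) := hU'
    haveI : IsAffine (V' : Scheme) := hV'
    apply IsClosedImmersion.of_surjective_of_isAffine
    have happ : (f.resLE V' U' hU'V').appTop =
        V'.topIso.hom ≫ f.appLE V' U' hU'V' ≫ U'.topIso.inv := Scheme.Hom.resLE_app_top ..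
    rw [happ]
    have hsurj : Function.Surjective (f.appLE V' U' hU'V').hom := by
      intro z
      let ρ := (Y.presheaf.map (homOfLE hV'V).op).hom
      let ψ := (f.appLE V' U' hU'V').hom
      let res := (X.presheaf.map (homOfLE hU'U).op).hom
      have hψρ : ∀ r : Γ(Y, V), ψ (ρ r) = res ((f.app V).hom r) := by
        intro r
        change (f.appLE V' U' hU'V').hom ((Y.presheaf.map (homOfLE hV'V).op).hom r) =
          (X.presheaf.map (homOfLE hU'U).op).hom ((f.app V).hom r)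
        rw [← RingHom.comp_apply, ← CommRingCat.hom_comp, Scheme.Hom.map_appLE,
          ← RingHom.comp_apply, ← CommRingCat.hom_comp, Scheme.Hom.app_eq_appLE,
          Scheme.Hom.appLE_map]
      obtain ⟨⟨b, ⟨_, n, rfl⟩⟩, hb⟩ := IsLocalization.surj (Submonoid.powers g) z
      have hb0 : z * (algebraMap Γ(X, f ⁻¹ᵁ V) Γ(X, U') g) ^ n =
          algebraMap Γ(X, f ⁻¹ᵁ V) Γ(X, U') b := by
        simpa using hb
      have hb' : z * res g ^ n = res b := hb0
      obtain ⟨a, ha⟩ := hsb b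
      have ha' : IsUnit (ρ s) := RingedSpace.isUnit_res_basicOpen Y.toRingedSpace s
      obtain ⟨u, hu⟩ := ha'
      refine ⟨ρ a * ↑(u⁻¹ ^ (n + 1)), ?_⟩
      have hunit : IsUnit (res g) := by
        rw [hg, ← hψρ, ← hu]
        exact (Units.isUnit u).map ψ
      apply (hunit.pow (n + 1)).mul_left_injective
      change ψ (ρ a * ↑(u⁻¹ ^ (n + 1))) * res g ^ (n + 1) = z * res g ^ (n + 1)
      have h1 : z * res g ^ (n + 1) = ψ (ρ a) := by
        rw [pow_succ, ← mul_assoc, hb', hψρ, ← ha, map_mul, mul_comm]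
      rw [h1]
      have h2 : res g = ψ (ρ s) := by rw [hψρ]
      rw [h2, ← map_pow, ← map_mul]
      congr 1
      have : (↑(u⁻¹ ^ (n + 1)) : Γ(Y, V')) * ρ s ^ (n + 1) = 1 := by
        rw [← hu, ← Units.val_pow_eq_pow_val, ← Units.val_mul, inv_pow, inv_mul_cancel,
          Units.val_one]
      rw [mul_assoc, this, mul_one]
    have hiso1 : Function.Bijective V'.topIso.hom.hom := ConcreteCategory.bijective_of_isIso _
    have hiso2 : Function.Bijective U'.topIso.inv.hom := ConcreteCategory.bijective_of_isIso _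
    change Function.Surjective (V'.topIso.hom ≫ f.appLE V' U' hU'V' ≫ U'.topIso.inv).hom
    rw [CommRingCat.hom_comp, CommRingCat.hom_comp]
    exact (hiso2.2.comp hsurj).comp hiso1.2
  have hres : f.resLE V' U' hU'V' = (X.isoOfEq heq.symm).hom ≫ f ∣_ V' := rfl
  rw [hres] at hci
  exact (MorphismProperty.cancel_left_of_respectsIso @IsClosedImmersion _ _).mp hci

theorem isEmpty_or_isIso_of_isClosedImmersion_field {Z : Scheme.{u}} (K : Type u)
    [Field K] (h : Z ⟶ Spec (.of K)) [IsClosedImmersion h] : IsEmpty ↥Z ∨ IsIso h := by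
  rcases isEmpty_or_nonempty ↥Z with hZ | hZ
  · exact Or.inl hZ
  · right
    haveI : Nontrivial Γ(Z, ⊤) := @Scheme.component_nontrivial Z ⊤ ⟨⟨hZ.some, trivial⟩⟩
    apply IsClosedImmersion.isIso_of_injective_of_isAffine
    have h1 : Function.Injective ((Scheme.ΓSpecIso (.of K)).inv ≫ h.appTop).hom :=
      RingHom.injective _
    have h2 : h.appTop = (Scheme.ΓSpecIso (.of K)).hom ≫ ((Scheme.ΓSpecIso (.of K)).inv ≫ h.appTop) := by
      rw [Iso.hom_inv_id_assoc]
    rw [h2]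
    have h3 : Function.Bijective (Scheme.ΓSpecIso (.of K)).hom.hom :=
      ConcreteCategory.bijective_of_isIso _
    change Function.Injective ((Scheme.ΓSpecIso (.of K)).hom ≫ ((Scheme.ΓSpecIso (.of K)).inv ≫ h.appTop)).hom
    rw [CommRingCat.hom_comp]
    exact h1.comp h3.1

theorem isClosedImmersion_fiberToSpecResidueField {X Y : Scheme.{u}} (f : X ⟶ Y) (y : Y)
    (U : Y.Opens) (hyU : y ∈ U) [IsClosedImmersion (f ∣_ U)] :
    IsClosedImmersion (f.fiberToSpecResidueField y) := by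
  have hr1 : Set.range (Y.fromSpecResidueField y) ⊆ Set.range U.ι := by
    rw [Scheme.range_fromSpecResidueField, Scheme.Opens.range_ι]
    exact Set.singleton_subset_iff.mpr hyU
  let g : Spec (Y.residueField y) ⟶ U := IsOpenImmersion.lift U.ι (Y.fromSpecResidueField y) hr1
  have hg : g ≫ U.ι = Y.fromSpecResidueField y := IsOpenImmersion.lift_fac _ _ _
  have hr2 : Set.range (f.fiberι y) ⊆ Set.range (f ⁻¹ᵁ U).ι := by
    rw [f.range_fiberι, Scheme.Opens.range_ι]
    intro x hx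
    change f x ∈ U
    rw [hx]; exact hyU
  let k : f.fiber y ⟶ (f ⁻¹ᵁ U : X.Opens) := IsOpenImmersion.lift (f ⁻¹ᵁ U).ι (f.fiberι y) hr2
  have hk : k ≫ (f ⁻¹ᵁ U).ι = f.fiberι y := IsOpenImmersion.lift_fac _ _ _
  have houter : IsPullback (k ≫ (f ⁻¹ᵁ U).ι) (f.fiberToSpecResidueField y) f (g ≫ U.ι) := by
    rw [hk, hg]; exact IsPullback.of_hasPullback _ _
  have hp : k ≫ f ∣_ U = f.fiberToSpecResidueField y ≫ g := by
    rw [← cancel_mono U.ι, Category.assoc, Category.assoc, morphismRestrict_ι, reassoc_of% hk, hg]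
    exact pullback.condition
  have hsq : IsPullback k (f.fiberToSpecResidueField y) (f ∣_ U) g :=
    IsPullback.of_right houter hp (isPullback_morphismRestrict f U).flip
  exact MorphismProperty.of_isPullback (P := @IsClosedImmersion) hsq inferInstance

theorem main {X Y : Scheme.{u}} (f : X ⟶ Y) [LocallyOfFiniteType f] (y : Y) :
    (∃ U : Y.Opens, y ∈ U ∧ IsClosedImmersion (f ∣_ U)) ↔
      ((IsEmpty ↥(f.fiber y) ∨ IsIso (f.fiberToSpecResidueField y)) ∧
        ∃ V : Y.Opens, y ∈ V ∧ UniversallyClosed (f ∣_ V)) := by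
  constructor
  · rintro ⟨U, hyU, hci⟩
    refine ⟨?_, U, hyU, inferInstance⟩
    have hc := isClosedImmersion_fiberToSpecResidueField f y U hyU
    exact @isEmpty_or_isIso_of_isClosedImmersion_field _
      (IsLocalRing.ResidueField (Y.presheaf.stalk y)) _ (f.fiberToSpecResidueField y) hc
  · rintro ⟨hfib, V, hyV, hV⟩
    rcases hfib with hempty | hiso
    · have hy : ∀ x, f x ≠ y := fun x hx => hempty.false ((f.fiberHomeo y).symm ⟨x, hx⟩)
      obtain ⟨U, hUV, hyU, hle⟩ := exists_opens_preimage_le f V y hyV (f ∣_ V).isClosedMap ⊥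
        (fun x hx => (hy x hx).elim)
      refine ⟨U, hyU, ?_⟩
      haveI : IsEmpty ↥((f ⁻¹ᵁ U : X.Opens) : Scheme.{u}) := ⟨fun x => hle x.2⟩
      infer_instance
    · obtain ⟨x, hx, hux⟩ := existsUnique_of_isIso_fiber f y
      obtain ⟨U, hU, hyU, hUV, hfin⟩ := exists_isFinite_restrict f y x hx hux V hyV
      obtain ⟨s, hs, hsb⟩ := exists_smul_mem_range_of_fiber f U hU y hyU
      refine ⟨Y.basicOpen s, ?_, isClosedImmersion_restrict_basicOpen f U hU
        (finite_app_of_isFinite_restrict f U hU).1 s hsb⟩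
      rw [← SetLike.mem_coe, ← hU.fromSpec_image_basicOpen]
      exact ⟨hU.primeIdealOf ⟨y, hyU⟩, hs, hU.fromSpec_primeIdealOf ⟨y, hyU⟩⟩

end geom
end Groth.Agent.Lib.Helper4.ClosedImmNhd1
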