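import Mathlib
import Groth.Prelude.Def_ega3
import Groth.Agent.Lib.Helper4.ClosedImmNhd1

/-!
# Finite / closed immersion near a fibre over an arbitrary base (S10861) (helper4)
-/

set_option backward.isDefEq.respectTransparency.types false
set_option synthInstance.maxHeartbeats 400000
set_option autoImplicit false
set_option linter.unusedSectionVars false
set_option linter.style.haveILetI false
set_option linter.unusedSimpArgs false
universe u v w
open AlgebraicGeometry CategoryTheory Limits
open scoped TensorProduct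
open Groth.Agent.Lib.Helper4.ClosedImmNhd1

namespace Groth.Agent.Lib.Helper4.NearFibre1

section geom

variable {X Y S : Scheme.{u}}

/-- the square `X_s → X`, `Y_s → Y` is a pullback -/
theorem isPullback_fiberMapOver (f : X ⟶ Y) (g : X ⟶ S) (h : Y ⟶ S) (w : f ≫ h = g) (s : S) :
    IsPullback (g.fiberι s) (CohIII.fiberMapOver f g h w s) f (h.fiberι s) := by
  have h1 : CohIII.fiberMapOver f g h w s ≫ h.fiberToSpecResidueField s =
      g.fiberToSpecResidueField s := by
    exact (pullback.lift_snd _ _ _).trans (Category.comp_id _)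
  have h2 : CohIII.fiberMapOver f g h w s ≫ h.fiberι s = g.fiberι s ≫ f := by
    exact pullback.lift_fst _ _ _
  have hs : IsPullback (CohIII.fiberMapOver f g h w s ≫ h.fiberToSpecResidueField s) (g.fiberι s)
      (S.fromSpecResidueField s) (f ≫ h) := by
    rw [h1, w]
    exact (IsPullback.of_hasPullback g (S.fromSpecResidueField s)).flip
  have ht : IsPullback (h.fiberToSpecResidueField s) (h.fiberι s)
      (S.fromSpecResidueField s) h :=
    (IsPullback.of_hasPullback h (S.fromSpecResidueField s)).flip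
  exact (IsPullback.of_right hs h2 ht).flip

/-- gluing a local-at-target property over a union of opens -/
theorem restrict_iSup (P : MorphismProperty Scheme.{u}) [IsZariskiLocalAtTarget P]
    (f : X ⟶ Y) {ι : Type*} (V : ι → Y.Opens) (hV : ∀ i, P (f ∣_ V i)) :
    P (f ∣_ (⨆ i, V i)) := by
  apply IsZariskiLocalAtTarget.of_iSup_eq_top (P := P)
    (fun i => (⨆ i, V i).ι ⁻¹ᵁ V i)
  · apply top_le_iff.mp
    rintro ⟨z, hz⟩ -
    obtain ⟨i, hi⟩ := TopologicalSpace.Opens.mem_iSup.mp hz
    exact TopologicalSpace.Opens.mem_iSup.mpr ⟨i, hi⟩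
  · intro i
    rw [P.arrow_mk_iso_iff (morphismRestrictRestrict f _ _)]
    have e : (⨆ i, V i).ι ''ᵁ (⨆ i, V i).ι ⁻¹ᵁ V i = V i := by
      rw [Scheme.Hom.image_preimage_eq_opensRange_inf, Scheme.Opens.opensRange_ι]
      exact inf_eq_right.mpr (le_iSup V i)
    rw [P.arrow_mk_iso_iff (morphismRestrictEq f e)]
    exact hV i

/-- tube lemma for properties local at the target -/
theorem exists_restrict_preimage (P : MorphismProperty Scheme.{u}) [IsZariskiLocalAtTarget P]
    (f : X ⟶ Y) (h : Y ⟶ S) [UniversallyClosed h] (s : S)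
    (H : ∀ y : Y, h y = s → ∃ V : Y.Opens, y ∈ V ∧ P (f ∣_ V)) :
    ∃ U : S.Opens, s ∈ U ∧ P (f ∣_ (h ⁻¹ᵁ U)) := by
  choose V hyV hV using H
  let W : Y.Opens := ⨆ i : {y : Y // h y = s}, V i.1 i.2
  have hW : P (f ∣_ W) := restrict_iSup P f _ (fun i => hV i.1 i.2)
  haveI : UniversallyClosed (h ∣_ ⊤) :=
    IsZariskiLocalAtTarget.restrict (P := @UniversallyClosed) inferInstance _
  obtain ⟨U, -, hsU, hle⟩ := exists_opens_preimage_le h ⊤ s trivial (h ∣_ ⊤).isClosedMap W
    (fun y hy => TopologicalSpace.Opens.mem_iSup.mpr ⟨⟨y, hy⟩, hyV y hy⟩)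
  exact ⟨U, hsU, restrict_of_le P f hle hW⟩

/-- fibres of `f` over points of `Y_s` are finite if `f_s` is finite -/
theorem finite_preimage_of_fiberMapOver (f : X ⟶ Y) (g : X ⟶ S) (h : Y ⟶ S) (w : f ≫ h = g) (s : S)
    [IsFinite (CohIII.fiberMapOver f g h w s)] (y : Y) (hy : h y = s) :
    (f ⁻¹' {y}).Finite := by
  have hr : y ∈ Set.range (h.fiberι s) := by rw [h.range_fiberι]; exact hy
  obtain ⟨y', rfl⟩ := hr
  have hfin : ((CohIII.fiberMapOver f g h w s) ⁻¹' {y'}).Finite :=
    Scheme.Hom.finite_preimage_singleton _ y'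
  refine (hfin.image (g.fiberι s)).subset ?_
  intro x hx
  obtain ⟨p, hp1, hp2⟩ := Scheme.exists_preimage_of_isPullback
    (isPullback_fiberMapOver f g h w s).flip y' x (by exact hx.symm)
  exact ⟨p, hp1, hp2⟩

theorem finite_part (f : X ⟶ Y) (g : X ⟶ S) (h : Y ⟶ S)
    (w : f ≫ h = g) [IsProper g] [IsProper h] (s : S)
    (hfin : IsFinite (CohIII.fiberMapOver f g h w s)) :
    ∃ U : S.Opens, s ∈ U ∧ IsFinite (f ∣_ (h ⁻¹ᵁ U)) := by
  haveI : IsProper (f ≫ h) := by rw [w]; infer_instance
  haveI : IsProper f := .of_comp f h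
  apply exists_restrict_preimage @IsFinite f h s
  intro y hy
  exact exists_isFinite_morphismRestrict_of_finite_preimage_singleton f y
    (finite_preimage_of_fiberMapOver f g h w s y hy)

/-- the fibre of `f` over a point `y` of `Y_s` is a closed subscheme of `Spec κ(y)` if `f_s` is a
closed immersion -/
theorem isClosedImmersion_fiberToSpecResidueField_of_fiberMapOver
    (f : X ⟶ Y) (g : X ⟶ S) (h : Y ⟶ S) (w : f ≫ h = g) (y : Y)
    [IsClosedImmersion (CohIII.fiberMapOver f g h w (h y))] :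
    IsClosedImmersion (f.fiberToSpecResidueField y) := by
  have hA := isPullback_fiberMapOver f g h w (h y)
  let t : Spec (Y.residueField y) ⟶ h.fiber (h y) :=
    pullback.lift (Y.fromSpecResidueField y) (Spec.map (h.residueFieldMap y))
      (Scheme.Hom.SpecMap_residueFieldMap_fromSpecResidueField h y).symm
  have ht : t ≫ h.fiberι (h y) = Y.fromSpecResidueField y := pullback.lift_fst _ _ _
  let k : f.fiber y ⟶ g.fiber (h y) := hA.lift (f.fiberι y) (f.fiberToSpecResidueField y ≫ t)
    (by rw [Category.assoc, ht]; exact f.fiber_fac y)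
  have hk1 : k ≫ g.fiberι (h y) = f.fiberι y := hA.lift_fst _ _ _
  have hk2 : k ≫ CohIII.fiberMapOver f g h w (h y) = f.fiberToSpecResidueField y ≫ t :=
    hA.lift_snd _ _ _
  have houter : IsPullback (k ≫ g.fiberι (h y)) (f.fiberToSpecResidueField y) f
      (t ≫ h.fiberι (h y)) := by
    rw [hk1, ht]; exact IsPullback.of_hasPullback _ _
  have hsq : IsPullback k (f.fiberToSpecResidueField y) (CohIII.fiberMapOver f g h w (h y)) t :=
    IsPullback.of_right houter hk2 hA
  exact MorphismProperty.of_isPullback (P := @IsClosedImmersion) hsq inferInstance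

theorem closedImm_part (f : X ⟶ Y) (g : X ⟶ S) (h : Y ⟶ S)
    (w : f ≫ h = g) [IsProper g] [IsProper h] (s : S)
    (hci : IsClosedImmersion (CohIII.fiberMapOver f g h w s)) :
    ∃ U : S.Opens, s ∈ U ∧ IsClosedImmersion (f ∣_ (h ⁻¹ᵁ U)) := by
  haveI : IsProper (f ≫ h) := by rw [w]; infer_instance
  haveI : IsProper f := .of_comp f h
  apply exists_restrict_preimage @IsClosedImmersion f h s
  intro y hy
  subst hy
  have hc := isClosedImmersion_fiberToSpecResidueField_of_fiberMapOver f g h w y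
  apply (Groth.Agent.Lib.Helper4.ClosedImmNhd1.main f y).mpr
  refine ⟨?_, ⊤, trivial, IsZariskiLocalAtTarget.restrict (P := @UniversallyClosed)
    inferInstance _⟩
  exact @isEmpty_or_isIso_of_isClosedImmersion_field _
    (IsLocalRing.ResidueField (Y.presheaf.stalk y)) _ (f.fiberToSpecResidueField y) hc

theorem main (f : X ⟶ Y) (g : X ⟶ S) (h : Y ⟶ S)
    (w : f ≫ h = g) [IsProper g] [IsProper h] (s : S) :
    (IsFinite (CohIII.fiberMapOver f g h w s) → ∃ U : S.Opens, s ∈ U ∧ IsFinite (f ∣_ (h ⁻¹ᵁ U))) ∧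
    (IsClosedImmersion (CohIII.fiberMapOver f g h w s) →
      ∃ U : S.Opens, s ∈ U ∧ IsClosedImmersion (f ∣_ (h ⁻¹ᵁ U))) :=
  ⟨finite_part f g h w s, closedImm_part f g h w s⟩

end geom
end Groth.Agent.Lib.Helper4.NearFibre1
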