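import Mathlib
import Groth.Prelude.Def_ega3
import Groth.Agent.Lib.Helper4.NearFibre1
import Groth.Agent.Lib.Helper4.ClosedImmFlat

/-!
# Isomorphism near a fibre for a flat proper source (S2387) (helper4)
-/

set_option backward.isDefEq.respectTransparency.types false
set_option synthInstance.maxHeartbeats 400000
set_option autoImplicit false
set_option linter.unusedSectionVars false
set_option linter.style.haveILetI false
set_option linter.unusedSimpArgs false
universe u v w
open AlgebraicGeometry CategoryTheory Limits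
open scoped TensorProduct
open Groth.Agent.Lib.Helper4.NearFibre1

namespace Groth.Agent.Lib.Helper4.FibreIso1


section alg

variable {A : Type*} [CommRing A]

/-- multiplication map `𝔞 ⊗ P → P` -/
noncomputable def mulMap (𝔞 : Ideal A) (P : Type*) [AddCommGroup P] [Module A P] :
    𝔞 ⊗[A] P →ₗ[A] P :=
  (TensorProduct.lid A P).toLinearMap ∘ₗ LinearMap.rTensor P 𝔞.subtype

@[simp] theorem mulMap_tmul (𝔞 : Ideal A) (P : Type*) [AddCommGroup P] [Module A P]
    (a : 𝔞) (p : P) : mulMap 𝔞 P (a ⊗ₜ p) = (a : A) • p := by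
  simp [mulMap]

theorem range_mulMap (𝔞 : Ideal A) (P : Type*) [AddCommGroup P] [Module A P] :
    LinearMap.range (mulMap 𝔞 P) = 𝔞 • (⊤ : Submodule A P) := by
  apply le_antisymm
  · rintro _ ⟨t, rfl⟩
    induction t using TensorProduct.induction_on with
    | zero => simp
    | tmul a p => rw [mulMap_tmul]; exact Submodule.smul_mem_smul a.2 trivial
    | add x y hx hy => rw [map_add]; exact add_mem hx hy
  · rw [Submodule.smul_le]
    intro a ha p _
    exact ⟨(⟨a, ha⟩ : 𝔞) ⊗ₜ p, by simp⟩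

theorem mulMap_injective_of_flat (𝔞 : Ideal A) (P : Type*) [AddCommGroup P] [Module A P]
    [Module.Flat A P] : Function.Injective (mulMap 𝔞 P) := by
  unfold mulMap
  rw [LinearMap.coe_comp]
  exact (TensorProduct.lid A P).injective.comp
    (Module.Flat.rTensor_preserves_injective_linearMap _ 𝔞.injective_subtype)

theorem mulMap_naturality (𝔞 : Ideal A) {P Q : Type*} [AddCommGroup P] [Module A P]
    [AddCommGroup Q] [Module A Q] (g : P →ₗ[A] Q) (t : 𝔞 ⊗[A] P) :
    mulMap 𝔞 Q (LinearMap.lTensor 𝔞 g t) = g (mulMap 𝔞 P t) := by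
  induction t using TensorProduct.induction_on with
  | zero => simp
  | tmul a p => simp
  | add x y hx hy => simp only [map_add, hx, hy]

/-- If `N = M / K` is flat then `K ∩ 𝔞 M = 𝔞 K`. -/
theorem ker_inf_smul_top_le {M N : Type*} [AddCommGroup M] [Module A M] [AddCommGroup N]
    [Module A N] [Module.Flat A N] (g : M →ₗ[A] N) (hg : Function.Surjective g) (𝔞 : Ideal A) :
    LinearMap.ker g ⊓ 𝔞 • (⊤ : Submodule A M) ≤ 𝔞 • LinearMap.ker g := by
  rintro k ⟨hk1, hk2⟩
  rw [SetLike.mem_coe, ← range_mulMap] at hk2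
  obtain ⟨t, rfl⟩ := hk2
  have h1 : mulMap 𝔞 N (LinearMap.lTensor 𝔞 g t) = 0 := by
    rw [mulMap_naturality]; exact hk1
  have h2 : LinearMap.lTensor 𝔞 g t = 0 := by
    apply mulMap_injective_of_flat 𝔞 N
    rw [h1, map_zero]
  have hex : Function.Exact (LinearMap.lTensor 𝔞 (LinearMap.ker g).subtype)
      (LinearMap.lTensor 𝔞 g) :=
    lTensor_exact 𝔞 (LinearMap.exact_subtype_ker_map g) hg
  obtain ⟨t', rfl⟩ := (hex t).mp h2
  rw [mulMap_naturality]
  have h3 : mulMap 𝔞 (LinearMap.ker g) t' ∈ 𝔞 • (⊤ : Submodule A (LinearMap.ker g)) := by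
    rw [← range_mulMap]; exact ⟨t', rfl⟩
  have h4 : Submodule.map (LinearMap.ker g).subtype (𝔞 • (⊤ : Submodule A (LinearMap.ker g))) =
      𝔞 • LinearMap.ker g := by
    rw [Submodule.map_smul'', Submodule.map_top, Submodule.range_subtype]
  rw [← h4]
  exact ⟨_, h3, rfl⟩

open IsLocalRing in
/-- `A → B → C` local, `B → C` surjective, `C` flat over `A`, `ker ≤ 𝔪_A B`, `B` Noetherian:
then `B → C` is injective. -/
theorem injective_of_flat_of_ker_le {A B C : Type*} [CommRing A] [CommRing B] [CommRing C]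
    [IsLocalRing A] [IsLocalRing B] [IsNoetherianRing B]
    (φ : A →+* B) [IsLocalHom φ] (ψ : B →+* C) (hψ : Function.Surjective ψ)
    (hflat : (ψ.comp φ).Flat) (hker : RingHom.ker ψ ≤ (maximalIdeal A).map φ) :
    Function.Injective ψ := by
  algebraize [φ, ψ, ψ.comp φ]
  let g : B →ₗ[A] C := (IsScalarTower.toAlgHom A B C).toLinearMap
  have hg : ∀ b, g b = ψ b := fun b => rfl
  have hgs : Function.Surjective g := hψ
  have h1 := ker_inf_smul_top_le g hgs (maximalIdeal A)
  have h2 : RingHom.ker ψ ≤ maximalIdeal B • RingHom.ker ψ := by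
    intro b hb
    have hb1 : b ∈ LinearMap.ker g := by
      rw [LinearMap.mem_ker, hg]; exact hb
    have hb2 : b ∈ maximalIdeal A • (⊤ : Submodule A B) := by
      rw [Ideal.smul_top_eq_map]
      exact hker hb
    have hb3 := h1 ⟨hb1, hb2⟩
    refine Submodule.smul_induction_on hb3 ?_ ?_
    · intro a ha k hk
      rw [Algebra.smul_def]
      refine Submodule.smul_mem_smul ?_ ?_
      · exact ((local_hom_TFAE φ).out 0 2 rfl rfl).mp ‹_› (Ideal.mem_map_of_mem φ ha)
      · rw [LinearMap.mem_ker, hg] at hk; exact hk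
    · intro x y hx hy
      exact add_mem hx hy
  have h3 : RingHom.ker ψ = ⊥ :=
    Submodule.eq_bot_of_le_smul_of_le_jacobson_bot (maximalIdeal B) (RingHom.ker ψ)
      (IsNoetherian.noetherian _) h2 (maximalIdeal_le_jacobson _)
  exact (RingHom.injective_iff_ker_eq_bot ψ).mpr h3

end alg


section geom

variable {X Y S : Scheme.{u}}

set_option backward.isDefEq.respectTransparency false in
theorem germ_stalkClosedPointTo_eq_zero {R : CommRingCat.{u}} [IsLocalRing R] (u : Spec R ⟶ X)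
    (f : X ⟶ Y) (v : Spec R ⟶ Y) (hv : u ≫ f = v) (V : Y.Opens) (b₀ : Γ(Y, V))
    (hV : v (IsLocalRing.closedPoint R) ∈ V)
    (hV' : u (IsLocalRing.closedPoint R) ∈ f ⁻¹ᵁ V)
    (h0 : X.presheaf.germ (f ⁻¹ᵁ V) (u (IsLocalRing.closedPoint R)) hV' (f.app V b₀) = 0) :
    (Scheme.stalkClosedPointTo v) (Y.presheaf.germ V _ hV b₀) = 0 := by
  subst hv
  rw [Scheme.stalkClosedPointTo_comp]
  have h1 := Scheme.Hom.germ_stalkMap_apply f V (u (IsLocalRing.closedPoint R)) hV' b₀
  change (Scheme.stalkClosedPointTo u) ((f.stalkMap _) (Y.presheaf.germ V _ hV b₀)) = 0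
  exact (congrArg (Scheme.stalkClosedPointTo u) h1).trans (by rw [h0, map_zero])

theorem germ_eq_zero_of_eq {U : X.Opens} (s : Γ(X, U)) (x x₁ : X) (hx : x ∈ U) (hx₁ : x₁ ∈ U)
    (e : x₁ = x) (h : X.presheaf.germ U x hx s = 0) : X.presheaf.germ U x₁ hx₁ s = 0 := by
  subst e; exact h

set_option backward.isDefEq.respectTransparency false in
theorem ker_stalkMap_le (f : X ⟶ Y) (h : Y ⟶ S) (x : X)
    [IsIso (CohIII.fiberMapOver f (f ≫ h) h rfl (h (f x)))]
    (hinj : ∀ x₁, f x₁ = f x → x₁ = x) :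
    RingHom.ker (f.stalkMap x).hom ≤
      (IsLocalRing.maximalIdeal (S.presheaf.stalk (h (f x)))).map (h.stalkMap (f x)).hom := by
  set y := f x with hy
  set z := h y with hz
  let φ := (h.stalkMap y).hom
  let I : Ideal (Y.presheaf.stalk y) := (IsLocalRing.maximalIdeal (S.presheaf.stalk z)).map φ
  have hI : I ≤ IsLocalRing.maximalIdeal (Y.presheaf.stalk y) :=
    ((IsLocalRing.local_hom_TFAE φ).out 0 2 rfl rfl).mp inferInstance
  have hI' : I ≠ ⊤ := fun e => (IsLocalRing.maximalIdeal.isMaximal _).ne_top (top_le_iff.mp (e ▸ hI))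
  haveI : Nontrivial (Y.presheaf.stalk y ⧸ I) := Ideal.Quotient.nontrivial_iff.mpr hI'
  haveI : IsLocalRing (Y.presheaf.stalk y ⧸ I) :=
    IsLocalRing.of_surjective' (Ideal.Quotient.mk I) Ideal.Quotient.mk_surjective
  haveI : IsLocalHom (Ideal.Quotient.mk I) :=
    IsLocalHom.of_surjective (Ideal.Quotient.mk I) Ideal.Quotient.mk_surjective
  let R : CommRingCat.{u} := CommRingCat.of (Y.presheaf.stalk y ⧸ I)
  haveI : IsLocalRing R := inferInstanceAs (IsLocalRing (Y.presheaf.stalk y ⧸ I))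
  let π : Y.presheaf.stalk y ⟶ R := CommRingCat.ofHom (Ideal.Quotient.mk I)
  haveI : IsLocalHom π.hom := inferInstanceAs (IsLocalHom (Ideal.Quotient.mk I))
  let ρ : S.residueField z ⟶ R := CommRingCat.ofHom
    (Ideal.quotientMap I φ Ideal.le_comap_map :
      IsLocalRing.ResidueField (S.presheaf.stalk z) →+* Y.presheaf.stalk y ⧸ I)
  have hcomm : h.stalkMap y ≫ π = S.residue z ≫ ρ := by
    ext a
    rfl
  let v : Spec R ⟶ Y := Spec.map π ≫ Y.fromSpecStalk y
  have cond : v ≫ h = Spec.map ρ ≫ S.fromSpecResidueField z := by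
    dsimp only [v, Scheme.fromSpecResidueField]
    rw [Category.assoc, ← Scheme.SpecMap_stalkMap_fromSpecStalk, ← Spec.map_comp_assoc,
      ← Spec.map_comp_assoc, hcomm]
  let l : Spec R ⟶ h.fiber z := pullback.lift v (Spec.map ρ) cond
  have hl : l ≫ h.fiberι z = v := pullback.lift_fst _ _ _
  let u : Spec R ⟶ X := l ≫ inv (CohIII.fiberMapOver f (f ≫ h) h rfl z) ≫ (f ≫ h).fiberι z
  have hu : u ≫ f = v := by
    dsimp only [u]
    rw [Category.assoc, Category.assoc, (isPullback_fiberMapOver f (f ≫ h) h rfl z).w,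
      IsIso.inv_hom_id_assoc, hl]
  have hvcp : v (IsLocalRing.closedPoint R) = y := by
    dsimp only [v]
    rw [Scheme.Hom.comp_apply, Spec_closedPoint, Scheme.fromSpecStalk_closedPoint]
  have hx₁ : u (IsLocalRing.closedPoint R) = x := by
    apply hinj
    rw [← Scheme.Hom.comp_apply, hu, hvcp]
  intro b hb
  obtain ⟨V, hyV, b₀, rfl⟩ := Y.presheaf.exists_germ_eq b
  have hb' : (f.stalkMap x) (Y.presheaf.germ V y hyV b₀) = 0 := hb
  rw [Scheme.Hom.germ_stalkMap_apply] at hb'
  have hV : v (IsLocalRing.closedPoint R) ∈ V := by rw [hvcp]; exact hyV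
  have hV' : u (IsLocalRing.closedPoint R) ∈ f ⁻¹ᵁ V := by rw [hx₁]; exact hyV
  have h1 := germ_stalkClosedPointTo_eq_zero u f v hu V b₀ hV hV'
    (germ_eq_zero_of_eq _ x _ hyV hV' hx₁ hb')
  have h2 := congr($(Scheme.germ_stalkClosedPointTo_Spec_fromSpecStalk π V hV).hom b₀)
  simp only [CommRingCat.hom_comp, RingHom.coe_comp, Function.comp_apply] at h2
  rw [h1] at h2
  exact Ideal.Quotient.eq_zero_iff_mem.mp h2.symm

end geom

section main
variable {X Y S : Scheme.{u}}

/-- a point of `X` over a given point of `Y_s`, when `f_s` is an isomorphism -/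
theorem exists_preimage_of_isIso_fiberMapOver (f : X ⟶ Y) (g : X ⟶ S) (h : Y ⟶ S)
    (w : f ≫ h = g) (s : S) [IsIso (CohIII.fiberMapOver f g h w s)] (y : Y) (hy : h y = s) :
    ∃ x : X, f x = y := by
  have hr : y ∈ Set.range (h.fiberι s) := by rw [h.range_fiberι]; exact hy
  obtain ⟨y', rfl⟩ := hr
  refine ⟨g.fiberι s ((inv (CohIII.fiberMapOver f g h w s)) y'), ?_⟩
  rw [← Scheme.Hom.comp_apply, ← Scheme.Hom.comp_apply,
    (isPullback_fiberMapOver f g h w s).w, IsIso.inv_hom_id_assoc]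

set_option backward.isDefEq.respectTransparency false in
theorem exists_isIso_restrict_of_point (f : X ⟶ Y) (h : Y ⟶ S) [IsLocallyNoetherian S]
    [LocallyOfFiniteType h] [LocallyOfFiniteType f] [Flat (f ≫ h)] (x : X)
    [IsIso (CohIII.fiberMapOver f (f ≫ h) h rfl (h (f x)))]
    (W : Y.Opens) (hxW : f x ∈ W) [IsClosedImmersion (f ∣_ W)] :
    ∃ V : Y.Opens, f x ∈ V ∧ IsIso (f ∣_ V) := by
  haveI : IsLocallyNoetherian Y := LocallyOfFiniteType.isLocallyNoetherian h
  let x' : ↥(f ⁻¹ᵁ W : X.Opens) := ⟨x, hxW⟩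
  have hinj : ∀ x₁, f x₁ = f x → x₁ = x := by
    intro x₁ h1
    have hx₁W : f x₁ ∈ W := by rw [h1]; exact hxW
    have : (⟨x₁, hx₁W⟩ : ↥(f ⁻¹ᵁ W : X.Opens)) = x' := by
      apply (f ∣_ W).isClosedEmbedding.injective
      apply Subtype.ext
      rw [morphismRestrict_base_coe, morphismRestrict_base_coe]
      exact h1
    exact congrArg Subtype.val this
  have hker := ker_stalkMap_le f h x hinj
  let e := morphismRestrictStalkMap f W x'
  have hsurj' : Function.Surjective ((f ∣_ W).stalkMap x').hom :=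
    (f ∣_ W).stalkMap_surjective x'
  have hsurj : Function.Surjective (f.stalkMap x).hom :=
    (RingHom.surjective_respectsIso.arrow_mk_iso_iff e).mp hsurj'
  have hflat : ((f.stalkMap x).hom.comp (h.stalkMap (f x)).hom).Flat := by
    have h1 := Flat.stalkMap (f ≫ h) x
    rw [Scheme.Hom.stalkMap_comp] at h1
    exact h1
  have hinj2 : Function.Injective (f.stalkMap x).hom :=
    injective_of_flat_of_ker_le (h.stalkMap (f x)).hom (f.stalkMap x).hom hsurj hflat hker
  have hiso : IsIso (f.stalkMap x) :=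
    (ConcreteCategory.isIso_iff_bijective (f.stalkMap x)).mpr ⟨hinj2, hsurj⟩
  have hiso' : IsIso ((f ∣_ W).stalkMap x') :=
    ((MorphismProperty.isomorphisms CommRingCat).arrow_mk_iso_iff e).mpr hiso
  have hflat' : ((f ∣_ W).stalkMap x').hom.Flat :=
    RingHom.Flat.of_bijective ((ConcreteCategory.isIso_iff_bijective _).mp hiso')
  haveI : IsLocallyNoetherian (W : Scheme.{u}) :=
    LocallyOfFiniteType.isLocallyNoetherian W.ι
  haveI : LocallyOfFinitePresentation (f ∣_ W) :=
    LocallyOfFinitePresentation.iff_locallyOfFiniteType.2 inferInstance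
  obtain ⟨V', hV', hisoV'⟩ :=
    Groth.Agent.Lib.Helper4.ClosedImmFlat.S10895_main (f ∣_ W) x' hflat'
  refine ⟨W.ι ''ᵁ V', ⟨(f ∣_ W) x', hV', ?_⟩, ?_⟩
  · exact morphismRestrict_base_coe f W x'
  · exact ((MorphismProperty.isomorphisms Scheme).arrow_mk_iso_iff
      (morphismRestrictRestrict f W V')).mp hisoV'

theorem main {Z : Scheme.{u}} (f : X ⟶ Y) (g : X ⟶ Z) (h : Y ⟶ Z) (w : f ≫ h = g)
    [IsLocallyNoetherian Z] [IsProper g] [IsProper h] (z : Z) [Flat g]
    [IsIso (CohIII.fiberMapOver f g h w z)] :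
    ∃ U : Z.Opens, z ∈ U ∧ IsIso (f ∣_ (h ⁻¹ᵁ U)) := by
  subst w
  haveI : IsProper f := .of_comp f h
  obtain ⟨U₀, hzU₀, hci⟩ := (Groth.Agent.Lib.Helper4.NearFibre1.main f (f ≫ h) h rfl z).2
    inferInstance
  apply exists_restrict_preimage (MorphismProperty.isomorphisms Scheme) f h z
  intro y hy
  obtain ⟨x, rfl⟩ := exists_preimage_of_isIso_fiberMapOver f (f ≫ h) h rfl z y hy
  subst hy
  exact exists_isIso_restrict_of_point f h x (h ⁻¹ᵁ U₀) hzU₀

end main

end Groth.Agent.Lib.Helper4.FibreIso1
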