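import Mathlib
import Groth.Agent.Lib.Helper4.FibreIso1

/-!
# dimension of local rings vs base and fibre (S3447, S4990) (helper4)
-/

set_option backward.isDefEq.respectTransparency.types false
set_option synthInstance.maxHeartbeats 400000
set_option autoImplicit false
set_option linter.unusedSectionVars false
set_option linter.style.haveILetI false
set_option linter.unusedSimpArgs false
universe u v w
open CategoryTheory CategoryTheory.Limits AlgebraicGeometry TopologicalSpace IsLocalRing

namespace Groth.Agent.Lib.Helper4.FibreStalkDim1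

variable {X Y : Scheme.{u}}

set_option backward.isDefEq.respectTransparency false in
/-- the kernel of the stalk map of the inclusion of a fibre is contained in `𝔪_y 𝒪_{X,x}` -/
theorem ker_stalkMap_fiberι_le (f : X ⟶ Y) (y : Y) (x' : f.fiber y) :
    RingHom.ker ((f.fiberι y).stalkMap x').hom ≤
      (IsLocalRing.maximalIdeal (Y.presheaf.stalk (f (f.fiberι y x')))).map
        (f.stalkMap (f.fiberι y x')).hom := by
  set x₀ := f.fiberι y x' with hx₀
  set y₀ := f x₀ with hy₀
  have hy : y₀ = y := by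
    have := congr($(f.fiber_fac y) x')
    rw [Scheme.Hom.comp_apply, Scheme.Hom.comp_apply, Scheme.Hom.fiberToSpecResidueField_apply,
      Scheme.fromSpecResidueField_apply] at this
    exact this
  let φ := (f.stalkMap x₀).hom
  let I : Ideal (X.presheaf.stalk x₀) := (IsLocalRing.maximalIdeal (Y.presheaf.stalk y₀)).map φ
  have hI : I ≤ IsLocalRing.maximalIdeal (X.presheaf.stalk x₀) :=
    ((IsLocalRing.local_hom_TFAE φ).out 0 2 rfl rfl).mp inferInstance
  have hI' : I ≠ ⊤ := fun e => (IsLocalRing.maximalIdeal.isMaximal _).ne_top (top_le_iff.mp (e ▸ hI))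
  haveI : Nontrivial (X.presheaf.stalk x₀ ⧸ I) := Ideal.Quotient.nontrivial_iff.mpr hI'
  haveI : IsLocalRing (X.presheaf.stalk x₀ ⧸ I) :=
    IsLocalRing.of_surjective' (Ideal.Quotient.mk I) Ideal.Quotient.mk_surjective
  haveI : IsLocalHom (Ideal.Quotient.mk I) :=
    IsLocalHom.of_surjective (Ideal.Quotient.mk I) Ideal.Quotient.mk_surjective
  let R : CommRingCat.{u} := CommRingCat.of (X.presheaf.stalk x₀ ⧸ I)
  haveI : IsLocalRing R := inferInstanceAs (IsLocalRing (X.presheaf.stalk x₀ ⧸ I))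
  let π : X.presheaf.stalk x₀ ⟶ R := CommRingCat.ofHom (Ideal.Quotient.mk I)
  haveI : IsLocalHom π.hom := inferInstanceAs (IsLocalHom (Ideal.Quotient.mk I))
  let ρ : Y.residueField y₀ ⟶ R := CommRingCat.ofHom
    (Ideal.quotientMap I φ Ideal.le_comap_map :
      IsLocalRing.ResidueField (Y.presheaf.stalk y₀) →+* X.presheaf.stalk x₀ ⧸ I)
  have hcomm : f.stalkMap x₀ ≫ π = Y.residue y₀ ≫ ρ := by
    ext a
    rfl
  let v : Spec R ⟶ X := Spec.map π ≫ X.fromSpecStalk x₀
  have cond : v ≫ f = Spec.map ((Y.residueFieldCongr hy).inv ≫ ρ) ≫ Y.fromSpecResidueField y := by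
    have e1 : Spec.map (Y.residueFieldCongr hy).inv ≫ Y.fromSpecResidueField y =
        Y.fromSpecResidueField y₀ := Y.residueFieldCongr_fromSpecResidueField hy.symm
    rw [Spec.map_comp]
    simp only [Category.assoc]
    rw [e1]
    dsimp only [v, Scheme.fromSpecResidueField]
    rw [Category.assoc, ← Scheme.SpecMap_stalkMap_fromSpecStalk, ← Spec.map_comp_assoc, hcomm,
      Spec.map_comp, Category.assoc]
  let l : Spec R ⟶ f.fiber y := pullback.lift v _ cond
  have hl : l ≫ f.fiberι y = v := pullback.lift_fst _ _ _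
  have hvcp : v (IsLocalRing.closedPoint R) = x₀ := by
    dsimp only [v]
    rw [Scheme.Hom.comp_apply, Spec_closedPoint, Scheme.fromSpecStalk_closedPoint]
  have hx₁ : l (IsLocalRing.closedPoint R) = x' := by
    apply (f.fiberι y).isEmbedding.injective
    rw [← Scheme.Hom.comp_apply, hl, hvcp]
  intro b hb
  obtain ⟨U, hxU, b₀, rfl⟩ := X.presheaf.exists_germ_eq b
  have hb' : ((f.fiberι y).stalkMap x') (X.presheaf.germ U x₀ hxU b₀) = 0 := hb
  rw [Scheme.Hom.germ_stalkMap_apply] at hb'
  have hV : v (IsLocalRing.closedPoint R) ∈ U := by rw [hvcp]; exact hxU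
  have hV' : l (IsLocalRing.closedPoint R) ∈ (f.fiberι y) ⁻¹ᵁ U := by rw [hx₁]; exact hxU
  have h1 := Groth.Agent.Lib.Helper4.FibreIso1.germ_stalkClosedPointTo_eq_zero l (f.fiberι y) v hl U
    b₀ hV hV'
    (Groth.Agent.Lib.Helper4.FibreIso1.germ_eq_zero_of_eq _ x' _ hxU hV' hx₁ hb')
  have h2 := congr($(Scheme.germ_stalkClosedPointTo_Spec_fromSpecStalk π U hV).hom b₀)
  simp only [CommRingCat.hom_comp, RingHom.coe_comp, Function.comp_apply] at h2
  rw [h1] at h2
  exact Ideal.Quotient.eq_zero_iff_mem.mp h2.symm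



variable {X Y : Scheme.{u}}

/-- the image of the maximal ideal in a quotient of a local ring is the maximal ideal -/
theorem map_mk_maximalIdeal {B : Type*} [CommRing B] [IsLocalRing B] (J : Ideal B)
    [IsLocalRing (B ⧸ J)] :
    (maximalIdeal B).map (Ideal.Quotient.mk J) = maximalIdeal (B ⧸ J) := by
  have hJ : J ≤ maximalIdeal B := IsLocalRing.le_maximalIdeal (by
    intro h
    have : Subsingleton (B ⧸ J) := Ideal.Quotient.subsingleton_iff.mpr h
    exact not_subsingleton (B ⧸ J) this)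
  rcases Ideal.map_eq_top_or_isMaximal_of_surjective (Ideal.Quotient.mk J)
    Ideal.Quotient.mk_surjective (maximalIdeal.isMaximal B) with h | h
  · exfalso
    have h1 : (1 : B ⧸ J) ∈ (maximalIdeal B).map (Ideal.Quotient.mk J) := h ▸ Submodule.mem_top
    obtain ⟨b, hb, hb1⟩ := (Ideal.mem_map_iff_of_surjective _ Ideal.Quotient.mk_surjective).mp h1
    have : b - 1 ∈ J := by
      rw [← Ideal.Quotient.eq_zero_iff_mem, map_sub, hb1, map_one, sub_self]
    have h2 : b - 1 ∈ maximalIdeal B := hJ this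
    have h3 : (1 : B) ∈ maximalIdeal B := by
      have := (maximalIdeal B).sub_mem hb h2
      simp at this
    exact (maximalIdeal.isMaximal B).ne_top ((Ideal.eq_top_iff_one _).mpr h3)
  · exact IsLocalRing.eq_maximalIdeal h

theorem dim_le_of_local {A B C : Type u} [CommRing A] [CommRing B] [CommRing C] [IsLocalRing A]
    [IsLocalRing B] [IsNoetherianRing A] [IsNoetherianRing B] (φ : A →+* B) [IsLocalHom φ] (σ : B →+* C)
    (hσ : Function.Surjective σ) (hker : RingHom.ker σ ≤ (maximalIdeal A).map φ) :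
    ringKrullDim B ≤ ringKrullDim A + ringKrullDim C := by
  algebraize [φ]
  set J : Ideal B := (maximalIdeal A).map (algebraMap A B) with hJdef
  haveI : (maximalIdeal B).LiesOver (maximalIdeal A) :=
    ⟨(((IsLocalRing.local_hom_TFAE φ).out 0 4 rfl rfl).mp inferInstance).symm⟩
  have h := Ideal.height_le_height_add_of_liesOver (maximalIdeal A) (maximalIdeal B)
  have hJ : J ≤ maximalIdeal B := ((IsLocalRing.local_hom_TFAE φ).out 0 2 rfl rfl).mp inferInstance
  have hJ' : J ≠ ⊤ := fun e => (IsLocalRing.maximalIdeal.isMaximal _).ne_top (top_le_iff.mp (e ▸ hJ))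
  haveI : Nontrivial (B ⧸ J) := Ideal.Quotient.nontrivial_iff.mpr hJ'
  haveI : IsLocalRing (B ⧸ J) :=
    IsLocalRing.of_surjective' (Ideal.Quotient.mk J) Ideal.Quotient.mk_surjective
  rw [map_mk_maximalIdeal J] at h
  have h' : ((maximalIdeal B).height : WithBot ℕ∞) ≤
      ((maximalIdeal A).height : WithBot ℕ∞) + ((maximalIdeal (B ⧸ J)).height : WithBot ℕ∞) := by
    rw [← WithBot.coe_add]
    exact WithBot.coe_le_coe.mpr h
  rw [IsLocalRing.maximalIdeal_height_eq_ringKrullDim, IsLocalRing.maximalIdeal_height_eq_ringKrullDim,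
    IsLocalRing.maximalIdeal_height_eq_ringKrullDim] at h'
  refine h'.trans ?_
  gcongr
  rw [← ringKrullDim_eq_of_ringEquiv (RingHom.quotientKerEquivOfSurjective hσ)]
  exact ringKrullDim_le_of_surjective (Ideal.Quotient.factor hker) (Ideal.Quotient.factor_surjective hker)

theorem dim_stalk_le (f : X ⟶ Y) [IsLocallyNoetherian Y] [LocallyOfFiniteType f] (y : Y)
    (x' : f.fiber y) :
    ringKrullDim (X.presheaf.stalk (f.fiberι y x')) ≤
      ringKrullDim (Y.presheaf.stalk (f (f.fiberι y x'))) +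
        ringKrullDim ((f.fiber y).presheaf.stalk x') := by
  haveI : IsLocallyNoetherian X := LocallyOfFiniteType.isLocallyNoetherian f
  exact dim_le_of_local (f.stalkMap (f.fiberι y x')).hom ((f.fiberι y).stalkMap x').hom
    ((f.fiberι y).stalkMap_surjective x') (ker_stalkMap_fiberι_le f y x')

theorem S3447_main [IsLocallyNoetherian Y] (f : X ⟶ Y)
    [LocallyOfFiniteType f] (x : X) :
    ringKrullDim (X.presheaf.stalk x) ≤
      ringKrullDim (Y.presheaf.stalk (f.base x)) +
        ringKrullDim ((f.fiber (f.base x)).presheaf.stalk (f.asFiber x)) := by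
  have key := dim_stalk_le f (f x) (f.asFiber x)
  have hx : f.fiberι (f x) (f.asFiber x) = x := f.fiberι_asFiber x
  have e1 : ∀ a b : X, a = b →
      ringKrullDim (X.presheaf.stalk a) = ringKrullDim (X.presheaf.stalk b) := by
    rintro a _ rfl; rfl
  have e2 : ∀ a b : X, a = b →
      ringKrullDim (Y.presheaf.stalk (f a)) = ringKrullDim (Y.presheaf.stalk (f b)) := by
    rintro a _ rfl; rfl
  rw [e1 _ _ hx, e2 _ _ hx] at key
  exact key


theorem dim_eq_of_local_flat {A B : Type u} [CommRing A] [CommRing B] [IsLocalRing A]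
    [IsLocalRing B] [IsNoetherianRing A] [IsNoetherianRing B] (φ : A →+* B) [IsLocalHom φ]
    (hφ : φ.Flat) :
    ringKrullDim B = ringKrullDim A + ringKrullDim (B ⧸ (maximalIdeal A).map φ) := by
  algebraize [φ]
  set J : Ideal B := (maximalIdeal A).map (algebraMap A B) with hJdef
  haveI : (maximalIdeal B).LiesOver (maximalIdeal A) :=
    ⟨(((IsLocalRing.local_hom_TFAE φ).out 0 4 rfl rfl).mp inferInstance).symm⟩
  have h := Ideal.height_eq_height_add_of_liesOver_of_hasGoingDown (maximalIdeal A) (maximalIdeal B)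
  have hJ : J ≤ maximalIdeal B := ((IsLocalRing.local_hom_TFAE φ).out 0 2 rfl rfl).mp inferInstance
  have hJ' : J ≠ ⊤ := fun e => (IsLocalRing.maximalIdeal.isMaximal _).ne_top (top_le_iff.mp (e ▸ hJ))
  haveI : Nontrivial (B ⧸ J) := Ideal.Quotient.nontrivial_iff.mpr hJ'
  haveI : IsLocalRing (B ⧸ J) :=
    IsLocalRing.of_surjective' (Ideal.Quotient.mk J) Ideal.Quotient.mk_surjective
  rw [map_mk_maximalIdeal J] at h
  have h' : ((maximalIdeal B).height : WithBot ℕ∞) =
      ((maximalIdeal A).height : WithBot ℕ∞) + ((maximalIdeal (B ⧸ J)).height : WithBot ℕ∞) := by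
    rw [← WithBot.coe_add, h]
  rw [IsLocalRing.maximalIdeal_height_eq_ringKrullDim, IsLocalRing.maximalIdeal_height_eq_ringKrullDim,
    IsLocalRing.maximalIdeal_height_eq_ringKrullDim] at h'
  exact h'

set_option backward.isDefEq.respectTransparency false in
lemma flat_stalkMap_ι_comp_iff (f : X ⟶ Y) (V : X.Opens) (x' : V) :
    ((V.ι ≫ f).stalkMap x').hom.Flat ↔ (f.stalkMap (V.ι x')).hom.Flat := by
  rw [Scheme.Hom.stalkMap_comp, CommRingCat.hom_comp,
    RingHom.Flat.respectsIso.cancel_right_isIso]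

theorem S4990_main (f : X ⟶ Y)
    [IsLocallyNoetherian Y] [LocallyOfFiniteType f] (x : ↥X)
    (hx : ∃ U : X.Opens, x ∈ U ∧ Smooth (U.ι ≫ f)) :
    ringKrullDim ↑(X.presheaf.stalk x) =
      ringKrullDim ↑(Y.presheaf.stalk (f.base x)) +
        ringKrullDim (↑(X.presheaf.stalk x) ⧸
          (IsLocalRing.maximalIdeal ↑(Y.presheaf.stalk (f.base x))).map (f.stalkMap x).hom) := by
  haveI : IsLocallyNoetherian X := LocallyOfFiniteType.isLocallyNoetherian f
  obtain ⟨U, hxU, hsm⟩ := hx
  have hfl : (f.stalkMap x).hom.Flat := by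
    exact (flat_stalkMap_ι_comp_iff f U ⟨x, hxU⟩).mp (Flat.stalkMap (U.ι ≫ f) _)
  exact dim_eq_of_local_flat (f.stalkMap x).hom hfl


end Groth.Agent.Lib.Helper4.FibreStalkDim1
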