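import Mathlib
import Groth.Prelude.Def_Found

/-!
# Catenary rings: reduction to localizations at maximal ideals (helper4)
-/

set_option backward.isDefEq.respectTransparency.types false
set_option synthInstance.maxHeartbeats 400000
set_option autoImplicit false
set_option linter.unusedSectionVars false
set_option linter.style.haveILetI false
set_option linter.unusedSimpArgs false
universe u v w

namespace Groth.Agent.Lib.Helper4.Catenary1

/-- catenary posets -/
def CatP (α : Type u) [PartialOrder α] : Prop :=
  (∀ p q : α, p ≤ q → ∃ n : ℕ, ∀ s : LTSeries α, s.head = p → s.last = q → s.length ≤ n) ∧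
  ∀ s t : LTSeries α, s.head = t.head → s.last = t.last →
    (∀ i : Fin s.length, s (Fin.castSucc i) ⋖ s (Fin.succ i)) →
    (∀ i : Fin t.length, t (Fin.castSucc i) ⋖ t (Fin.succ i)) →
    s.length = t.length

/-- transfer along a covering-reflecting strictly monotone embedding -/
lemma catP_of_embedding {α : Type u} {β : Type v} [PartialOrder α] [PartialOrder β]
    (f : α ↪o β) (hcov : ∀ a b : α, a ⋖ b → f a ⋖ f b) (h : CatP β) : CatP α := by
  constructor
  · intro p q hpq
    obtain ⟨n, hn⟩ := h.1 (f p) (f q) (f.monotone hpq)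
    refine ⟨n, fun s hs ht => ?_⟩
    have := hn (s.map f f.strictMono) (by rw [LTSeries.head_map, hs])
      (by rw [LTSeries.last_map, ht])
    simpa using this
  · intro s t hh hl hs ht
    have := h.2 (s.map f f.strictMono) (t.map f f.strictMono)
      (by rw [LTSeries.head_map, LTSeries.head_map, hh])
      (by rw [LTSeries.last_map, LTSeries.last_map, hl])
      (fun i => hcov _ _ (hs i)) (fun i => hcov _ _ (ht i))
    simpa using this

lemma catP_Iic {α : Type u} [PartialOrder α] (m : α) (h : CatP α) : CatP (Set.Iic m) := by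
  refine catP_of_embedding (OrderEmbedding.subtype (· ∈ Set.Iic m)) ?_ h
  intro a b hab
  refine (Set.OrdConnected.apply_covBy_apply_iff (OrderEmbedding.subtype (· ∈ Set.Iic m)) ?_).2 hab
  have : Set.range (OrderEmbedding.subtype (· ∈ Set.Iic m)) = Set.Iic m := by
    ext x; simp
  rw [this]
  exact Set.ordConnected_Iic

lemma catP_congr {α : Type u} {β : Type v} [PartialOrder α] [PartialOrder β] (e : α ≃o β)
    (h : CatP β) : CatP α :=
  catP_of_embedding e.toOrderEmbedding (fun a b hab => (apply_covBy_apply_iff e).2 hab) h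

/-- restrict a series bounded by `m` to `Set.Iic m` -/
def restrictIic {α : Type u} [PartialOrder α] (m : α) (s : LTSeries α) (hs : s.last ≤ m) :
    LTSeries (Set.Iic m) where
  length := s.length
  toFun i := ⟨s i, (s.monotone (Fin.le_last i)).trans hs⟩
  step i := s.step i

lemma catP_of_forall_Iic {α : Type u} [PartialOrder α] (𝓜 : Set α)
    (hM : ∀ q : α, ∃ m ∈ 𝓜, q ≤ m) (h : ∀ m ∈ 𝓜, CatP (Set.Iic m)) : CatP α := by
  have hcov : ∀ (m : α) (a b : Set.Iic m), (a : α) ⋖ (b : α) → a ⋖ b := by
    intro m a b hab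
    refine (Set.OrdConnected.apply_covBy_apply_iff (OrderEmbedding.subtype (· ∈ Set.Iic m)) ?_).1 hab
    have : Set.range (OrderEmbedding.subtype (· ∈ Set.Iic m)) = Set.Iic m := by
      ext x; simp
    rw [this]
    exact Set.ordConnected_Iic
  constructor
  · intro p q hpq
    obtain ⟨m, hm, hqm⟩ := hM q
    obtain ⟨n, hn⟩ := (h m hm).1 ⟨p, hpq.trans hqm⟩ ⟨q, hqm⟩ hpq
    refine ⟨n, fun s hs ht => ?_⟩
    have := hn (restrictIic m s (ht ▸ hqm)) (Subtype.ext hs) (Subtype.ext ht)
    exact this
  · intro s t hh hl hs ht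
    obtain ⟨m, hm, hqm⟩ := hM s.last
    exact (h m hm).2 (restrictIic m s hqm) (restrictIic m t (hl ▸ hqm)) (Subtype.ext hh)
      (Subtype.ext hl) (fun i => hcov m _ _ (hs i)) (fun i => hcov m _ _ (ht i))

theorem S0552_main (R : Type u) [CommRing R] :
    CAlg.IsCatenary R ↔ ∀ (m : Ideal R) [m.IsMaximal], CAlg.IsCatenary (Localization.AtPrime m) := by
  have h1 : ∀ (A : Type u) [CommRing A], CAlg.IsCatenary A ↔ CatP (PrimeSpectrum A) :=
    fun A _ => Iff.rfl
  simp only [h1]
  constructor
  · intro h m hm
    exact catP_congr (IsLocalization.AtPrime.primeSpectrumOrderIso (Localization.AtPrime m) m)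
      (catP_Iic _ h)
  · intro h
    apply catP_of_forall_Iic {x : PrimeSpectrum R | x.asIdeal.IsMaximal}
    · intro q
      obtain ⟨m, hm, hqm⟩ := Ideal.exists_le_maximal q.asIdeal q.isPrime.ne_top
      exact ⟨⟨m, hm.isPrime⟩, hm, hqm⟩
    · intro m hm
      haveI : m.asIdeal.IsMaximal := hm
      exact catP_congr
        (IsLocalization.AtPrime.primeSpectrumOrderIso (Localization.AtPrime m.asIdeal) m.asIdeal).symm
        (h m.asIdeal)

end Groth.Agent.Lib.Helper4.Catenary1
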