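import Mathlib

/-!
# The dimension inequality (ring level): ht q + trdeg ≤ ht p + trdeg (helper4)
-/

set_option backward.isDefEq.respectTransparency.types false
set_option synthInstance.maxHeartbeats 400000
set_option autoImplicit false
set_option linter.unusedSectionVars false
set_option linter.style.haveILetI false
set_option linter.unusedSimpArgs false
universe u v w
open Polynomial Cardinal

namespace Groth.Agent.Lib.Helper4.DimIneq1

section Trdeg

/-- transcendence degree is invariant under compatible ring isomorphisms -/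
theorem trdeg_le_of_ringHom {R R' : Type u} {A A' : Type v} [CommRing R] [CommRing R'] [CommRing A]
    [CommRing A'] [Algebra R A] [Algebra R' A'] [Nontrivial R'] (e₁ : R →+* R') (e₂ : A →+* A')
    (h1 : Function.Surjective e₁) (h2 : Function.Injective e₂)
    (h : (algebraMap R' A').comp e₁ = e₂.comp (algebraMap R A)) :
    Algebra.trdeg R A ≤ Algebra.trdeg R' A' := by
  rw [Algebra.trdeg]
  refine ciSup_le' fun i => ?_
  have hi : AlgebraicIndependent R ((↑) : i.1 → A) := i.2
  have h3 := hi.ringHom_of_comp_eq e₁ e₂ h1 h2 h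
  exact h3.cardinalMk_le_trdeg

theorem trdeg_eq_of_ringEquiv {R R' : Type u} {A A' : Type v} [CommRing R] [CommRing R'] [CommRing A]
    [CommRing A'] [Algebra R A] [Algebra R' A'] [Nontrivial R] (e₁ : R ≃+* R') (e₂ : A ≃+* A')
    (h : (algebraMap R' A').comp (e₁ : R →+* R') = (e₂ : A →+* A').comp (algebraMap R A)) :
    Algebra.trdeg R A = Algebra.trdeg R' A' := by
  haveI : Nontrivial R' := e₁.injective.nontrivial
  refine le_antisymm (trdeg_le_of_ringHom (e₁ : R →+* R') (e₂ : A →+* A') e₁.surjective
    e₂.injective h) (trdeg_le_of_ringHom (e₁.symm : R' →+* R) (e₂.symm : A' →+* A)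
    e₁.symm.surjective e₂.symm.injective ?_)
  ext x
  obtain ⟨y, rfl⟩ := e₁.surjective x
  have := congrArg (fun f => f y) h
  simp only [RingHom.comp_apply, RingHom.coe_coe] at this ⊢
  rw [RingEquiv.symm_apply_apply, this, RingEquiv.symm_apply_apply]

/-- relative version: transcendence degree of the fraction fields -/
theorem trdeg_fractionRing_rel (D D' K K' : Type u) [CommRing D] [IsDomain D] [CommRing D']
    [IsDomain D'] [Field K] [Field K'] [Algebra D D'] [FaithfulSMul D D'] [Algebra D K]
    [IsFractionRing D K] [Algebra D' K'] [IsFractionRing D' K'] [Algebra K K'] [Algebra D K']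
    [IsScalarTower D D' K'] [IsScalarTower D K K'] :
    Algebra.trdeg K K' = Algebra.trdeg D D' := by
  haveI : FaithfulSMul D' K' := (faithfulSMul_iff_algebraMap_injective D' K').mpr
    (IsFractionRing.injective D' K')
  haveI : FaithfulSMul D K := (faithfulSMul_iff_algebraMap_injective D K).mpr
    (IsFractionRing.injective D K)
  haveI : Algebra.IsAlgebraic D' K' := IsLocalization.isAlgebraic K' (nonZeroDivisors D')
  haveI : Algebra.IsAlgebraic D K := IsLocalization.isAlgebraic K (nonZeroDivisors D)
  have h1 := trdeg_add_eq D D' (A := K')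
  rw [_root_.trdeg_eq_zero (R := D') (A := K'), add_zero] at h1
  have h2 := trdeg_add_eq D K (A := K')
  rw [_root_.trdeg_eq_zero (R := D) (A := K), zero_add] at h2
  rw [h1, h2]

end Trdeg



section PolyHeight

attribute [local instance] Polynomial.algebra in
/-- a prime of `D[X]` contracting to zero has height at most one -/
theorem height_le_one_of_comap_C_eq_bot {D : Type u} [CommRing D] [IsDomain D] (P : Ideal D[X])
    [hP : P.IsPrime] (h : P.comap (C : D →+* D[X]) = ⊥) : P.height ≤ 1 := by
  haveI : IsLocalization ((nonZeroDivisors D).map (C : D →+* D[X])) (FractionRing D)[X] :=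
    Polynomial.isLocalization (nonZeroDivisors D) (FractionRing D)
  have hdisj : Disjoint (((nonZeroDivisors D).map (C : D →+* D[X]) : Submonoid D[X]) : Set D[X])
      (P : Set D[X]) := by
    rw [Set.disjoint_left]
    rintro _ ⟨a, ha, rfl⟩ haP
    have : a ∈ P.comap (C : D →+* D[X]) := haP
    rw [h, Ideal.mem_bot] at this
    exact (nonZeroDivisors.ne_zero ha) this
  rw [← IsLocalization.height_map_of_disjoint (S := (FractionRing D)[X])
    ((nonZeroDivisors D).map (C : D →+* D[X])) P hdisj]
  haveI hprime : (P.map (algebraMap D[X] (FractionRing D)[X])).IsPrime :=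
    IsLocalization.isPrime_of_isPrime_disjoint _ _ _ hP hdisj
  have h1 := Ideal.height_le_ringKrullDim_of_isPrime
    (I := P.map (algebraMap D[X] (FractionRing D)[X]))
  rw [IsPrincipalIdealRing.ringKrullDim_eq_one (FractionRing D)[X]
    (Polynomial.not_isField (FractionRing D))] at h1
  exact_mod_cast h1

variable {R : Type u} [CommRing R] [IsNoetherianRing R]

theorem liesOver_map_C (p : Ideal R) [hp : p.IsPrime] :
    (p.map (C : R →+* R[X])).LiesOver p := by
  constructor
  ext a
  rw [Ideal.under, Ideal.mem_comap, Polynomial.algebraMap_eq, Ideal.mem_map_C_iff]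
  constructor
  · intro ha n
    rw [coeff_C]
    split_ifs
    · exact ha
    · exact p.zero_mem
  · intro h
    simpa using h 0

/-- `ht p[X] ≤ ht p` -/
theorem height_map_C_le (p : Ideal R) [hp : p.IsPrime] :
    (p.map (C : R →+* R[X])).height ≤ p.height := by
  haveI := liesOver_map_C p
  have h1 := Ideal.height_le_height_add_of_liesOver p (p.map (C : R →+* R[X]))
  rw [Polynomial.algebraMap_eq, Ideal.map_quotient_self] at h1
  haveI : (p.map (C : R →+* R[X])).IsPrime := Ideal.isPrime_map_C_of_isPrime
  rw [Ideal.height_bot, add_zero] at h1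
  exact h1

/-- `ht P ≤ ht p + 1` for a prime `P` of `R[X]` over `p` -/
theorem height_polynomial_le (p : Ideal R) [hp : p.IsPrime] (P : Ideal R[X]) [hP : P.IsPrime]
    [hPp : P.LiesOver p] : P.height ≤ p.height + 1 := by
  have h1 := Ideal.height_le_height_add_of_liesOver p P
  refine h1.trans (add_le_add le_rfl ?_)
  rw [Polynomial.algebraMap_eq]
  have hle : p.map (C : R →+* R[X]) ≤ P := by
    rw [Ideal.map_le_iff_le_comap]
    intro a ha
    rw [Ideal.mem_comap, ← Polynomial.algebraMap_eq, ← Ideal.mem_of_liesOver P p]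
    exact ha
  haveI hPbar : (P.map (Ideal.Quotient.mk (p.map (C : R →+* R[X])))).IsPrime :=
    Ideal.isPrime_map_quotientMk_of_isPrime hle
  rw [← (p.polynomialQuotientEquivQuotientPolynomial).symm.height_map]
  haveI : (Ideal.map (p.polynomialQuotientEquivQuotientPolynomial).symm
      (P.map (Ideal.Quotient.mk (p.map (C : R →+* R[X]))))).IsPrime :=
    Ideal.map_isPrime_of_equiv _
  apply height_le_one_of_comap_C_eq_bot
  rw [eq_bot_iff]
  intro a ha
  obtain ⟨a, rfl⟩ := Ideal.Quotient.mk_surjective a
  rw [Ideal.mem_bot, Ideal.Quotient.eq_zero_iff_mem, Ideal.mem_of_liesOver P p,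
    Polynomial.algebraMap_eq]
  rw [Ideal.mem_comap] at ha
  have h2 : (C (Ideal.Quotient.mk p a) : (R ⧸ p)[X]) =
      (p.polynomialQuotientEquivQuotientPolynomial).symm
        (Ideal.Quotient.mk (p.map (C : R →+* R[X])) (C a)) := by
    rw [Ideal.polynomialQuotientEquivQuotientPolynomial_symm_mk, Polynomial.map_C]
  rw [h2] at ha
  have h3 : Ideal.Quotient.mk (p.map (C : R →+* R[X])) (C a) ∈
      P.map (Ideal.Quotient.mk (p.map (C : R →+* R[X]))) := by
    obtain ⟨y, hy, hye⟩ := (Ideal.mem_map_of_equiv _ _).mp ha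
    rw [← (p.polynomialQuotientEquivQuotientPolynomial).symm.injective hye]
    exact hy
  have h4 : C a ∈ (P.map (Ideal.Quotient.mk (p.map (C : R →+* R[X])))).comap
      (Ideal.Quotient.mk (p.map (C : R →+* R[X]))) := h3
  rw [Ideal.comap_map_of_surjective _ Ideal.Quotient.mk_surjective, ← RingHom.ker_eq_comap_bot,
    Ideal.mk_ker, sup_eq_left.mpr hle] at h4
  exact h4

end PolyHeight



section PolyIneq

variable {R : Type u} [CommRing R] [IsNoetherianRing R]

theorem poly_ineq (p : Ideal R) [hp : p.IsPrime] (P : Ideal R[X]) [hP : P.IsPrime]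
    [hPp : P.LiesOver p] :
    (P.height : Cardinal.{u}) + Algebra.trdeg (R ⧸ p) (R[X] ⧸ P) ≤ (p.height : Cardinal.{u}) + 1 := by
  have hψ : ∀ f : R[X], Polynomial.aeval (R := R ⧸ p) (Ideal.Quotient.mk P X)
      (f.map (Ideal.Quotient.mk p)) = Ideal.Quotient.mk P f := by
    intro f
    rw [Polynomial.aeval_def, Polynomial.eval₂_map]
    have : (algebraMap (R ⧸ p) (R[X] ⧸ P)).comp (Ideal.Quotient.mk p) =
        (Ideal.Quotient.mk P).comp C := by
      ext a
      rfl
    rw [this, ← Polynomial.hom_eval₂, Polynomial.eval₂_C_X]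
  have hsurj : Function.Surjective (Polynomial.aeval (R := R ⧸ p) (Ideal.Quotient.mk P X)) := by
    intro y
    obtain ⟨f, rfl⟩ := Ideal.Quotient.mk_surjective y
    exact ⟨_, hψ f⟩
  have hle : p.map (C : R →+* R[X]) ≤ P := by
    rw [Ideal.map_le_iff_le_comap]
    intro a ha
    rw [Ideal.mem_comap, ← Polynomial.algebraMap_eq, ← Ideal.mem_of_liesOver P p]
    exact ha
  haveI : IsDomain (R ⧸ p) := Ideal.Quotient.isDomain p
  by_cases hPp' : P = p.map C
  · have h1 : P.height ≤ p.height := by
      rw [hPp']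
      exact height_map_C_le p
    have h2 : Algebra.trdeg (R ⧸ p) (R[X] ⧸ P) ≤ 1 :=
      (_root_.trdeg_le_of_surjective _ hsurj).trans (Polynomial.trdeg_of_isDomain).le
    exact add_le_add (ofENat_le_ofENat_of_le h1) h2
  · have h1 := height_polynomial_le p P
    have h2 : Algebra.trdeg (R ⧸ p) (R[X] ⧸ P) = 0 := by
      obtain ⟨f, hfP, hfp⟩ : ∃ f ∈ P, f ∉ p.map (C : R →+* R[X]) := by
        by_contra hcon
        push Not at hcon
        exact hPp' (le_antisymm hcon hle)
      have hf0 : f.map (Ideal.Quotient.mk p) ≠ 0 := by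
        intro h0
        apply hfp
        rw [Ideal.mem_map_C_iff]
        intro n
        have := congrArg (fun g => g.coeff n) h0
        simp only [coeff_map, coeff_zero] at this
        exact Ideal.Quotient.eq_zero_iff_mem.mp this
      have halg : IsAlgebraic (R ⧸ p) (Ideal.Quotient.mk P (X : R[X])) :=
        ⟨f.map (Ideal.Quotient.mk p), hf0, by
          rw [hψ f]
          exact Ideal.Quotient.eq_zero_iff_mem.mpr hfP⟩
      have htop : Algebra.adjoin (R ⧸ p) {Ideal.Quotient.mk P (X : R[X])} = ⊤ := by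
        rw [Algebra.adjoin_singleton_eq_range_aeval, AlgHom.range_eq_top]
        exact hsurj
      haveI : Algebra.IsAlgebraic (R ⧸ p) (R[X] ⧸ P) := by
        have := Algebra.isAlgebraic_adjoin_singleton_iff.mpr halg
        rw [htop] at this
        exact ⟨fun x => this x Algebra.mem_top⟩
      exact _root_.trdeg_eq_zero
    rw [h2, add_zero]
    calc (P.height : Cardinal.{u}) ≤ ((p.height + 1 : ℕ∞) : Cardinal.{u}) :=
          ofENat_le_ofENat_of_le h1
      _ = (p.height : Cardinal.{u}) + 1 := by rw [ofENat_add, ofENat_one]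

end PolyIneq



section OneGen

theorem height_add_one_le_comap {B S : Type*} [CommRing B] [IsDomain B] [CommRing S]
    [IsNoetherianRing S] (φ : B →+* S) (hφ : Function.Surjective φ) (hker : RingHom.ker φ ≠ ⊥)
    (q : Ideal S) [hq : q.IsPrime] :
    q.height + 1 ≤ (q.comap φ).height := by
  obtain ⟨l, hlast, hlen⟩ := Ideal.exists_ltSeries_length_eq_height q
  let l₁ : LTSeries (PrimeSpectrum B) := l.map (PrimeSpectrum.comap φ)
    (RingHom.strictMono_comap_of_surjective hφ)
  have hbot : (⟨⊥, Ideal.isPrime_bot⟩ : PrimeSpectrum B) < l₁.head := by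
    rw [LTSeries.head_map]
    refine lt_of_le_of_ne (show (⊥ : Ideal B) ≤ _ from bot_le) ?_
    intro h
    apply hker
    rw [eq_bot_iff]
    intro x hx
    have h1 : x ∈ (PrimeSpectrum.comap φ l.head).asIdeal := by
      change φ x ∈ l.head.asIdeal
      rw [RingHom.mem_ker.mp hx]
      exact zero_mem _
    rw [← h] at h1
    exact h1
  let l₂ : LTSeries (PrimeSpectrum B) := l₁.cons ⟨⊥, Ideal.isPrime_bot⟩ hbot
  haveI : (q.comap φ).IsPrime := Ideal.comap_isPrime φ q
  have hlast₂ : l₂.last = ⟨q.comap φ, inferInstance⟩ := by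
    rw [RelSeries.last_cons, LTSeries.last_map, hlast]
    rfl
  have h3 := Order.length_le_height (p := l₂) (x := ⟨q.comap φ, inferInstance⟩) hlast₂.le
  rw [← PrimeSpectrum.height_eq_orderHeight] at h3
  rw [← hlen]
  have h4 : l₂.length = l.length + 1 := by simp [l₂, l₁]
  rw [h4] at h3
  exact_mod_cast h3

variable (R S : Type u) [CommRing R] [IsDomain R] [IsNoetherianRing R] [CommRing S] [IsDomain S]
  [Algebra R S] [FaithfulSMul R S]

theorem one_gen_ineq (a : S) (ha : Algebra.adjoin R {a} = ⊤) (p : Ideal R) [hp : p.IsPrime]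
    (q : Ideal S) [hq : q.IsPrime] [hqp : q.LiesOver p] :
    (q.height : Cardinal.{u}) + Algebra.trdeg (R ⧸ p) (S ⧸ q) ≤
      (p.height : Cardinal.{u}) + Algebra.trdeg R S := by
  have hφ : Function.Surjective (Polynomial.aeval (R := R) a) := by
    rw [← AlgHom.range_eq_top, ← Algebra.adjoin_singleton_eq_range_aeval]
    exact ha
  haveI hq' : (q.comap (Polynomial.aeval (R := R) a)).IsPrime := Ideal.comap_isPrime _ q
  haveI hlo : (q.comap (Polynomial.aeval (R := R) a)).LiesOver p := Ideal.comap_liesOver q p _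
  have h1 := poly_ineq p (q.comap (Polynomial.aeval (R := R) a))
  -- identification of the residue extensions
  have h2 : Algebra.trdeg (R ⧸ p) (R[X] ⧸ q.comap (Polynomial.aeval (R := R) a)) =
      Algebra.trdeg (R ⧸ p) (S ⧸ q) := by
    let ψ : (R[X] ⧸ q.comap (Polynomial.aeval (R := R) a)) →ₐ[R ⧸ p] (S ⧸ q) :=
      { Ideal.quotientMap q (Polynomial.aeval (R := R) a : R[X] →+* S) le_rfl with
        commutes' := by
          rintro ⟨x⟩
          exact congrArg (Ideal.Quotient.mk q) ((Polynomial.aeval (R := R) a).commutes x) }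
    have hψ : Function.Bijective ψ :=
      ⟨Ideal.quotientMap_injective, Ideal.quotientMap_surjective (H := le_rfl) hφ⟩
    exact (AlgEquiv.ofBijective ψ hψ).trdeg_eq
  rw [h2] at h1
  haveI : IsNoetherianRing S := isNoetherianRing_of_surjective R[X] S
    (Polynomial.aeval (R := R) a : R[X] →+* S) hφ
  by_cases hker : RingHom.ker (Polynomial.aeval (R := R) a : R[X] →+* S) = ⊥
  · have hinj : Function.Injective (Polynomial.aeval (R := R) a) :=
      (RingHom.injective_iff_ker_eq_bot _).mpr hker
    let e : R[X] ≃ₐ[R] S := AlgEquiv.ofBijective (Polynomial.aeval (R := R) a) ⟨hinj, hφ⟩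
    have h3 : (q.comap (Polynomial.aeval (R := R) a)).height = q.height :=
      RingEquiv.height_comap e.toRingEquiv q
    have h4 : Algebra.trdeg R S = 1 := by
      rw [← e.trdeg_eq, Polynomial.trdeg_of_isDomain]
    rw [h4, ← h3]
    exact h1
  · have h3 := height_add_one_le_comap (Polynomial.aeval (R := R) a : R[X] →+* S) hφ hker q
    have h4 : Algebra.trdeg R S = 0 := by
      obtain ⟨g, hg, hg0⟩ : ∃ g ∈ RingHom.ker (Polynomial.aeval (R := R) a : R[X] →+* S), g ≠ 0 := by
        by_contra hcon
        push Not at hcon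
        exact hker ((Submodule.eq_bot_iff _).mpr hcon)
      have halg : IsAlgebraic R a := ⟨g, hg0, hg⟩
      haveI : Algebra.IsAlgebraic R S := by
        have := Algebra.isAlgebraic_adjoin_singleton_iff.mpr halg
        rw [ha] at this
        exact ⟨fun x => this x Algebra.mem_top⟩
      exact _root_.trdeg_eq_zero
    rw [h4, add_zero]
    have h5 : (q.height : Cardinal.{u}) + 1 + Algebra.trdeg (R ⧸ p) (S ⧸ q) ≤
        (p.height : Cardinal.{u}) + 1 := by
      refine le_trans (add_le_add ?_ le_rfl) h1
      calc (q.height : Cardinal.{u}) + 1 = ((q.height + 1 : ℕ∞) : Cardinal.{u}) := by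
            rw [ofENat_add, ofENat_one]
        _ ≤ _ := ofENat_le_ofENat_of_le h3
    rw [add_right_comm] at h5
    exact Cardinal.add_one_le_add_one_iff.mp h5

end OneGen



section Main

theorem main_aux (S : Type u) [CommRing S] [IsDomain S] (s : Finset S) :
    ∀ (R : Type u) [CommRing R] [IsDomain R] [IsNoetherianRing R] [Algebra R S] [FaithfulSMul R S],
      Algebra.adjoin R (s : Set S) = ⊤ → ∀ (p : Ideal R) [p.IsPrime] (q : Ideal S) [q.IsPrime]
      [q.LiesOver p],
      (q.height : Cardinal.{u}) + Algebra.trdeg (R ⧸ p) (S ⧸ q) ≤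
        (p.height : Cardinal.{u}) + Algebra.trdeg R S := by
  classical
  induction s using Finset.induction_on with
  | empty =>
    intro R _ _ _ _ _ hs p _ q _ _
    refine one_gen_ineq R S 0 ?_ p q
    rw [eq_top_iff, ← hs]
    exact Algebra.adjoin_mono (by simp)
  | insert a s' ha ih =>
    intro R _ _ _ _ _ hs p _ q _ _
    haveI : Algebra.FiniteType R (Algebra.adjoin R ({a} : Set S)) :=
      (Subalgebra.fg_iff_finiteType _).mp ⟨{a}, by simp⟩
    haveI : IsNoetherianRing (Algebra.adjoin R ({a} : Set S)) :=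
      Algebra.FiniteType.isNoetherianRing R _
    have hs' : Algebra.adjoin (Algebra.adjoin R ({a} : Set S)) (s' : Set S) = ⊤ := by
      have h0 := Algebra.adjoin_union_eq_adjoin_adjoin R ({a} : Set S) (s' : Set S)
      rw [← Set.insert_eq, ← Finset.coe_insert, hs] at h0
      rw [eq_top_iff]
      intro x _
      have hx : x ∈ (⊤ : Subalgebra R S) := Algebra.mem_top
      rw [h0] at hx
      exact hx
    haveI : FaithfulSMul R (Algebra.adjoin R ({a} : Set S)) :=
      (faithfulSMul_iff_algebraMap_injective R _).mpr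
        (fun x y h => FaithfulSMul.algebraMap_injective R S (congrArg Subtype.val h))
    haveI : FaithfulSMul (Algebra.adjoin R ({a} : Set S)) S :=
      (faithfulSMul_iff_algebraMap_injective _ S).mpr Subtype.val_injective
    haveI : (q.under (Algebra.adjoin R ({a} : Set S))).IsPrime := Ideal.comap_isPrime _ q
    have h1 := ih (Algebra.adjoin R ({a} : Set S)) hs' (q.under (Algebra.adjoin R ({a} : Set S))) q
    have hgen : Algebra.adjoin R
        ({(⟨a, Algebra.subset_adjoin (Set.mem_singleton a)⟩ : Algebra.adjoin R ({a} : Set S))} :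
          Set (Algebra.adjoin R ({a} : Set S))) = ⊤ := by
      have := Algebra.adjoin_adjoin_coe_preimage (R := R) (s := ({a} : Set S))
      convert this using 2
      ext ⟨x, hx⟩
      simp
    have h2 := one_gen_ineq R (Algebra.adjoin R ({a} : Set S))
      ⟨a, Algebra.subset_adjoin (Set.mem_singleton a)⟩ hgen p
      (q.under (Algebra.adjoin R ({a} : Set S)))
    haveI : IsScalarTower (R ⧸ p)
        (Algebra.adjoin R ({a} : Set S) ⧸ q.under (Algebra.adjoin R ({a} : Set S))) (S ⧸ q) := by
      apply IsScalarTower.of_algebraMap_eq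
      rintro ⟨x⟩
      rfl
    have h3 := trdeg_add_eq (R ⧸ p)
      (Algebra.adjoin R ({a} : Set S) ⧸ q.under (Algebra.adjoin R ({a} : Set S))) (A := S ⧸ q)
    have h4 := trdeg_add_eq R (Algebra.adjoin R ({a} : Set S)) (A := S)
    rw [← h3, ← h4]
    calc (q.height : Cardinal.{u}) + (Algebra.trdeg (R ⧸ p) _ + Algebra.trdeg _ (S ⧸ q))
        = ((q.height : Cardinal.{u}) + Algebra.trdeg _ (S ⧸ q)) + Algebra.trdeg (R ⧸ p) _ := by
          rw [add_comm (Algebra.trdeg (R ⧸ p) _), add_assoc]
      _ ≤ ((q.under (Algebra.adjoin R ({a} : Set S))).height + Algebra.trdeg _ S) +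
            Algebra.trdeg (R ⧸ p) _ := add_le_add h1 le_rfl
      _ = ((q.under (Algebra.adjoin R ({a} : Set S))).height + Algebra.trdeg (R ⧸ p) _) +
            Algebra.trdeg _ S := by rw [add_right_comm]
      _ ≤ ((p.height : Cardinal.{u}) + Algebra.trdeg R _) + Algebra.trdeg _ S :=
          add_le_add h2 le_rfl
      _ = _ := by rw [add_assoc]

theorem dim_ineq (R : Type u) [CommRing R] [IsDomain R]
    [IsNoetherianRing R] (S : Type u) [CommRing S] [IsDomain S] [Algebra R S]
    [FaithfulSMul R S] [Algebra.FiniteType R S] (p : Ideal R) [p.IsPrime] (q : Ideal S) [q.IsPrime]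
    [q.LiesOver p] :
    (q.height : Cardinal.{u}) + Algebra.trdeg (R ⧸ p) (S ⧸ q) ≤
      (p.height : Cardinal.{u}) + Algebra.trdeg R S := by
  obtain ⟨s, hs⟩ := (Algebra.FiniteType.out : (⊤ : Subalgebra R S).FG)
  exact main_aux S s R hs p q

end Main


end Groth.Agent.Lib.Helper4.DimIneq1
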