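import Mathlib
import Groth.Prelude.Def_Found
import Groth.Agent.Lib.Helper4.DimIneq1
import Groth.Agent.Lib.Helper4.DimFT2
import Groth.Agent.Lib.Helper4.Catenary1

/-!
# The dimension formula with equality for universally catenary rings (helper4)
-/

set_option backward.isDefEq.respectTransparency.types false
set_option synthInstance.maxHeartbeats 400000
set_option autoImplicit false
set_option linter.unusedSectionVars false
set_option linter.style.haveILetI false
set_option linter.unusedSimpArgs false
universe u v w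
open Polynomial Cardinal
open Groth.Agent.Lib.Helper4.DimIneq1 Groth.Agent.Lib.Helper4.DimFT2 Groth.Agent.Lib.Helper4.Catenary1

namespace Groth.Agent.Lib.Helper4.DimEq1

section OrderSat

variable {α : Type u} [PartialOrder α]

theorem isSat_of_length_eq_height {l : LTSeries α} (h : (l.length : ℕ∞) = Order.height l.last)
    (i : Fin l.length) : l i.castSucc ⋖ l i.succ := by
  refine ⟨l.step i, fun z hz1 hz2 => ?_⟩
  have h1 := Order.height_eq_index_of_length_eq_height_last h i.castSucc
  have h2 := Order.height_eq_index_of_length_eq_height_last h i.succ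
  have h3 := Order.height_add_one_le hz1
  have h4 := Order.height_add_one_le hz2
  rw [h1] at h3
  rw [h2] at h4
  have h5 : ((i.castSucc : ℕ) : ℕ∞) + 1 + 1 ≤ ((i.succ : ℕ) : ℕ∞) :=
    le_trans (add_le_add h3 le_rfl) h4
  simp only [Fin.val_castSucc, Fin.val_succ] at h5
  have h6 : (i : ℕ) + 1 + 1 ≤ (i : ℕ) + 1 := by exact_mod_cast h5
  omega

theorem isMin_head_of_length_eq_height {l : LTSeries α}
    (h : (l.length : ℕ∞) = Order.height l.last) : IsMin l.head := by
  have h1 := Order.height_eq_index_of_length_eq_height_last h 0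
  rw [← Order.height_eq_zero]
  change Order.height (l 0) = 0
  simpa using h1

theorem covBy_val_of_covBy_Ici (x : α) (a b : Set.Ici x) (hab : a ⋖ b) : (a : α) ⋖ (b : α) := by
  refine (Set.OrdConnected.apply_covBy_apply_iff (OrderEmbedding.subtype (· ∈ Set.Ici x)) ?_).2 hab
  have : Set.range (OrderEmbedding.subtype (· ∈ Set.Ici x)) = Set.Ici x := by
    ext y; simp
  rw [this]
  exact Set.ordConnected_Ici

/-- additivity of heights in a catenary poset with a least element -/
theorem height_eq_add_of_catP (hcat : CatP α) (b : α) (hb : ∀ a, b ≤ a) (x y : α) (hxy : x ≤ y)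
    (hfin : Order.height y < ⊤) :
    Order.height y = Order.height x + Order.height (⟨y, hxy⟩ : Set.Ici x) := by
  have hmin : ∀ a : α, IsMin a → a = b := fun a ha => le_antisymm (ha (hb a)) (hb a)
  obtain ⟨n₃, hn₃⟩ := ENat.ne_top_iff_exists.mp hfin.ne
  have hx_le : Order.height x ≤ Order.height y := Order.height_mono hxy
  obtain ⟨n₁, hn₁⟩ := ENat.ne_top_iff_exists.mp (lt_of_le_of_lt hx_le hfin).ne
  have hy'_le : Order.height (⟨y, hxy⟩ : Set.Ici x) ≤ Order.height y :=
    Order.height_le_height_apply_of_strictMono (Subtype.val : Set.Ici x → α)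
      (fun _ _ h => h) ⟨y, hxy⟩
  obtain ⟨n₂, hn₂⟩ := ENat.ne_top_iff_exists.mp (lt_of_le_of_lt hy'_le hfin).ne
  obtain ⟨l₃, hl₃last, hl₃len⟩ := Order.exists_series_of_height_eq_coe y hn₃.symm
  obtain ⟨l₁, hl₁last, hl₁len⟩ := Order.exists_series_of_height_eq_coe x hn₁.symm
  obtain ⟨l₂, hl₂last, hl₂len⟩ := Order.exists_series_of_height_eq_coe
    (⟨y, hxy⟩ : Set.Ici x) hn₂.symm
  have h₃ : (l₃.length : ℕ∞) = Order.height l₃.last := by rw [hl₃last, hl₃len, hn₃]
  have h₁ : (l₁.length : ℕ∞) = Order.height l₁.last := by rw [hl₁last, hl₁len, hn₁]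
  have h₂ : (l₂.length : ℕ∞) = Order.height l₂.last := by rw [hl₂last, hl₂len, hn₂]
  have hhead₃ : l₃.head = b := hmin _ (isMin_head_of_length_eq_height h₃)
  have hhead₁ : l₁.head = b := hmin _ (isMin_head_of_length_eq_height h₁)
  have hhead₂ : l₂.head = ⟨x, le_rfl⟩ := by
    have hm := isMin_head_of_length_eq_height h₂
    have h1 : (⟨x, le_rfl⟩ : Set.Ici x) ≤ l₂.head := l₂.head.2
    exact le_antisymm (hm h1) h1
  let l₂' : LTSeries α := l₂.map (Subtype.val : Set.Ici x → α) (fun _ _ h => h)
  have hconn : l₁.last = l₂'.head := by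
    rw [hl₁last, LTSeries.head_map, hhead₂]
  have key := hcat.2 (l₁.smash l₂' hconn) l₃
    (by rw [RelSeries.head_smash, hhead₁, hhead₃])
    (by rw [RelSeries.last_smash, LTSeries.last_map, hl₂last, hl₃last])
    (by
      intro i
      refine Fin.addCases (fun j => ?_) (fun j => ?_) i
      · have e1 := RelSeries.smash_castAdd hconn j
        have e2 := RelSeries.smash_succ_castAdd hconn j
        convert isSat_of_length_eq_height h₁ j using 1
        · exact e1
        · exact e2
      · have e1 := RelSeries.smash_natAdd hconn j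
        have e2 := RelSeries.smash_succ_natAdd hconn j
        convert covBy_val_of_covBy_Ici x _ _ (isSat_of_length_eq_height h₂ j) using 1
        · exact e1
        · exact e2)
    (isSat_of_length_eq_height h₃)
  rw [RelSeries.smash_length] at key
  have : l₂'.length = l₂.length := by simp [l₂']
  rw [this] at key
  rw [← hn₁, ← hn₂, ← hn₃, ← hl₁len, ← hl₂len, ← hl₃len]
  exact_mod_cast key.symm

end OrderSat



section HtAdd

/-- height additivity (the inequality that can fail in non-catenary rings) -/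
def HtAdd (T : Type u) [CommRing T] : Prop :=
  ∀ (Q q : Ideal T) [Q.IsPrime] [q.IsPrime], Q ≤ q →
    q.height ≤ (q.map (Ideal.Quotient.mk Q)).height + Q.height

theorem htAdd_of_isCatenary (T : Type u) [CommRing T] [IsDomain T] [IsNoetherianRing T]
    (h : CAlg.IsCatenary T) : HtAdd T := by
  intro Q q hQ hq hQq
  have hfin : Order.height (⟨q, hq⟩ : PrimeSpectrum T) < ⊤ := by
    rw [← PrimeSpectrum.height_eq_orderHeight]
    exact Ideal.height_lt_top (Ideal.IsPrime.ne_top hq)
  have key := height_eq_add_of_catP (α := PrimeSpectrum T) h ⟨⊥, Ideal.isPrime_bot⟩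
    (fun a => (bot_le : (⊥ : Ideal T) ≤ a.asIdeal)) ⟨Q, hQ⟩ ⟨q, hq⟩ hQq hfin
  rw [← PrimeSpectrum.height_eq_orderHeight, ← PrimeSpectrum.height_eq_orderHeight] at key
  change q.height = Q.height + _ at key
  rw [key, add_comm]
  refine add_le_add ?_ le_rfl
  let f : Set.Ici (⟨Q, hQ⟩ : PrimeSpectrum T) → PrimeSpectrum (T ⧸ Q) := fun x =>
    ⟨x.1.asIdeal.map (Ideal.Quotient.mk Q), isPrime_map_mk Q x.1.asIdeal x.2⟩
  have hf : StrictMono f := by
    intro x y hxy
    refine lt_of_le_not_ge (Ideal.map_mono (show x.1.asIdeal ≤ y.1.asIdeal from hxy.le)) ?_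
    intro hle
    have h1 : (y.1.asIdeal.map (Ideal.Quotient.mk Q)).comap (Ideal.Quotient.mk Q) ≤
        (x.1.asIdeal.map (Ideal.Quotient.mk Q)).comap (Ideal.Quotient.mk Q) :=
      Ideal.comap_mono hle
    rw [comap_map_mk' Q _ y.2, comap_map_mk' Q _ x.2] at h1
    exact hxy.not_ge h1
  have h2 := Order.height_le_height_apply_of_strictMono f hf ⟨⟨q, hq⟩, hQq⟩
  rw [← PrimeSpectrum.height_eq_orderHeight] at h2
  exact h2

end HtAdd



section PolyEq

variable {R : Type u} [CommRing R] [IsNoetherianRing R]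

theorem aeval_map_mk (p : Ideal R) [hp : p.IsPrime] (P : Ideal R[X]) [hP : P.IsPrime]
    [hPp : P.LiesOver p] (f : R[X]) :
    Polynomial.aeval (R := R ⧸ p) (Ideal.Quotient.mk P X) (f.map (Ideal.Quotient.mk p)) =
      Ideal.Quotient.mk P f := by
  rw [Polynomial.aeval_def, Polynomial.eval₂_map]
  have : (algebraMap (R ⧸ p) (R[X] ⧸ P)).comp (Ideal.Quotient.mk p) =
      (Ideal.Quotient.mk P).comp C := by
    ext a
    rfl
  rw [this, ← Polynomial.hom_eval₂, Polynomial.eval₂_C_X]

theorem aeval_mk_surjective (p : Ideal R) [hp : p.IsPrime] (P : Ideal R[X]) [hP : P.IsPrime]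
    [hPp : P.LiesOver p] :
    Function.Surjective (Polynomial.aeval (R := R ⧸ p) (Ideal.Quotient.mk P X)) := by
  intro y
  obtain ⟨f, rfl⟩ := Ideal.Quotient.mk_surjective y
  exact ⟨_, aeval_map_mk p P f⟩

theorem map_C_le_of_liesOver (p : Ideal R) (P : Ideal R[X]) [hPp : P.LiesOver p] :
    p.map (C : R →+* R[X]) ≤ P := by
  rw [Ideal.map_le_iff_le_comap]
  intro a ha
  rw [Ideal.mem_comap, ← Polynomial.algebraMap_eq, ← Ideal.mem_of_liesOver P p]
  exact ha

theorem trdeg_eq_one_of_eq (p : Ideal R) [hp : p.IsPrime] (P : Ideal R[X]) [hP : P.IsPrime]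
    [hPp : P.LiesOver p] (h : P = p.map C) : Algebra.trdeg (R ⧸ p) (R[X] ⧸ P) = 1 := by
  haveI : IsDomain (R ⧸ p) := Ideal.Quotient.isDomain p
  have hinj : Function.Injective (Polynomial.aeval (R := R ⧸ p) (Ideal.Quotient.mk P X)) := by
    rw [injective_iff_map_eq_zero]
    intro g hg
    obtain ⟨f, rfl⟩ := Polynomial.map_surjective (Ideal.Quotient.mk p)
      Ideal.Quotient.mk_surjective g
    rw [aeval_map_mk p P f, Ideal.Quotient.eq_zero_iff_mem, h, Ideal.mem_map_C_iff] at hg
    ext n
    rw [coeff_map, coeff_zero, Ideal.Quotient.eq_zero_iff_mem]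
    exact hg n
  rw [← (AlgEquiv.ofBijective _ ⟨hinj, aeval_mk_surjective p P⟩).trdeg_eq,
    Polynomial.trdeg_of_isDomain]

theorem trdeg_eq_zero_of_ne (p : Ideal R) [hp : p.IsPrime] (P : Ideal R[X]) [hP : P.IsPrime]
    [hPp : P.LiesOver p] (h : P ≠ p.map C) : Algebra.trdeg (R ⧸ p) (R[X] ⧸ P) = 0 := by
  haveI : IsDomain (R ⧸ p) := Ideal.Quotient.isDomain p
  obtain ⟨f, hfP, hfp⟩ : ∃ f ∈ P, f ∉ p.map (C : R →+* R[X]) := by
    by_contra hcon
    push Not at hcon
    exact h (le_antisymm hcon (map_C_le_of_liesOver p P))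
  have hf0 : f.map (Ideal.Quotient.mk p) ≠ 0 := by
    intro h0
    apply hfp
    rw [Ideal.mem_map_C_iff]
    intro n
    have := congrArg (fun g => g.coeff n) h0
    simp only [coeff_map, coeff_zero] at this
    exact Ideal.Quotient.eq_zero_iff_mem.mp this
  have halg : IsAlgebraic (R ⧸ p) (Ideal.Quotient.mk P (X : R[X])) :=
    ⟨f.map (Ideal.Quotient.mk p), hf0, by
      rw [aeval_map_mk p P f]
      exact Ideal.Quotient.eq_zero_iff_mem.mpr hfP⟩
  have htop : Algebra.adjoin (R ⧸ p) {Ideal.Quotient.mk P (X : R[X])} = ⊤ := by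
    rw [Algebra.adjoin_singleton_eq_range_aeval, AlgHom.range_eq_top]
    exact aeval_mk_surjective p P
  haveI : Algebra.IsAlgebraic (R ⧸ p) (R[X] ⧸ P) := by
    have := Algebra.isAlgebraic_adjoin_singleton_iff.mpr halg
    rw [htop] at this
    exact ⟨fun x => this x Algebra.mem_top⟩
  exact _root_.trdeg_eq_zero

theorem height_polynomial_eq (p : Ideal R) [hp : p.IsPrime] (P : Ideal R[X]) [hP : P.IsPrime]
    [hPp : P.LiesOver p] :
    (P = p.map C → P.height = p.height) ∧ (P ≠ p.map C → P.height = p.height + 1) := by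
  have hgd := Ideal.height_eq_height_add_of_liesOver_of_hasGoingDown p P
  rw [Polynomial.algebraMap_eq] at hgd
  have hle := map_C_le_of_liesOver p P
  constructor
  · intro h
    refine le_antisymm ?_ ?_
    · rw [h]
      exact height_map_C_le p
    · rw [hgd]
      exact le_self_add
  · intro h
    refine le_antisymm (height_polynomial_le p P) ?_
    rw [hgd]
    refine add_le_add le_rfl ?_
    haveI : (p.map (C : R →+* R[X])).IsPrime := Ideal.isPrime_map_C_of_isPrime
    haveI : IsDomain (R[X] ⧸ p.map (C : R →+* R[X])) := Ideal.Quotient.isDomain _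
    rw [Order.one_le_iff_pos, pos_iff_ne_zero, Ne, Ideal.height_eq_zero_iff_eq_bot]
    intro h0
    apply h
    refine le_antisymm ?_ hle
    intro f hf
    have h1 : Ideal.Quotient.mk (p.map (C : R →+* R[X])) f ∈
        P.map (Ideal.Quotient.mk (p.map (C : R →+* R[X]))) := Ideal.mem_map_of_mem _ hf
    rw [h0, Ideal.mem_bot, Ideal.Quotient.eq_zero_iff_mem] at h1
    exact h1

theorem poly_eq (p : Ideal R) [hp : p.IsPrime] (P : Ideal R[X]) [hP : P.IsPrime]
    [hPp : P.LiesOver p] :
    (P.height : Cardinal.{u}) + Algebra.trdeg (R ⧸ p) (R[X] ⧸ P) = (p.height : Cardinal.{u}) + 1 := by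
  by_cases h : P = p.map C
  · rw [(height_polynomial_eq p P).1 h, trdeg_eq_one_of_eq p P h]
  · rw [(height_polynomial_eq p P).2 h, trdeg_eq_zero_of_ne p P h, add_zero, ofENat_add,
      ofENat_one]

end PolyEq




section OneGenEq

variable (R S : Type u) [CommRing R] [IsDomain R] [IsNoetherianRing R] [CommRing S] [IsDomain S]
  [Algebra R S] [FaithfulSMul R S]

theorem one_gen_eq (hHA : HtAdd R[X]) (a : S) (ha : Algebra.adjoin R {a} = ⊤) (p : Ideal R)
    [hp : p.IsPrime] (q : Ideal S) [hq : q.IsPrime] [hqp : q.LiesOver p] :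
    (q.height : Cardinal.{u}) + Algebra.trdeg (R ⧸ p) (S ⧸ q) =
      (p.height : Cardinal.{u}) + Algebra.trdeg R S := by
  have hφ : Function.Surjective (Polynomial.aeval (R := R) a) := by
    rw [← AlgHom.range_eq_top, ← Algebra.adjoin_singleton_eq_range_aeval]
    exact ha
  haveI hq' : (q.comap (Polynomial.aeval (R := R) a)).IsPrime := Ideal.comap_isPrime _ q
  haveI hlo : (q.comap (Polynomial.aeval (R := R) a)).LiesOver p := Ideal.comap_liesOver q p _
  have h1 := poly_eq p (q.comap (Polynomial.aeval (R := R) a))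
  have h2 : Algebra.trdeg (R ⧸ p) (R[X] ⧸ q.comap (Polynomial.aeval (R := R) a)) =
      Algebra.trdeg (R ⧸ p) (S ⧸ q) := by
    let ψ : (R[X] ⧸ q.comap (Polynomial.aeval (R := R) a)) →ₐ[R ⧸ p] (S ⧸ q) :=
      { Ideal.quotientMap q (Polynomial.aeval (R := R) a : R[X] →+* S) le_rfl with
        commutes' := by
          rintro ⟨x⟩
          exact congrArg (Ideal.Quotient.mk q) ((Polynomial.aeval (R := R) a).commutes x) }
    have hψ : Function.Bijective ψ :=
      ⟨Ideal.quotientMap_injective, Ideal.quotientMap_surjective (H := le_rfl) hφ⟩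
    exact (AlgEquiv.ofBijective ψ hψ).trdeg_eq
  rw [h2] at h1
  haveI : IsNoetherianRing S := isNoetherianRing_of_surjective R[X] S
    (Polynomial.aeval (R := R) a : R[X] →+* S) hφ
  by_cases hker : RingHom.ker (Polynomial.aeval (R := R) a : R[X] →+* S) = ⊥
  · have hinj : Function.Injective (Polynomial.aeval (R := R) a) :=
      (RingHom.injective_iff_ker_eq_bot _).mpr hker
    let e : R[X] ≃ₐ[R] S := AlgEquiv.ofBijective (Polynomial.aeval (R := R) a) ⟨hinj, hφ⟩
    have h3 : (q.comap (Polynomial.aeval (R := R) a)).height = q.height :=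
      RingEquiv.height_comap e.toRingEquiv q
    have h4 : Algebra.trdeg R S = 1 := by
      rw [← e.trdeg_eq, Polynomial.trdeg_of_isDomain]
    rw [h4, ← h3]
    exact h1
  · have h3 := height_add_one_le_comap (Polynomial.aeval (R := R) a : R[X] →+* S) hφ hker q
    have h4 : Algebra.trdeg R S = 0 := by
      obtain ⟨g, hg, hg0⟩ : ∃ g ∈ RingHom.ker (Polynomial.aeval (R := R) a : R[X] →+* S), g ≠ 0 := by
        by_contra hcon
        push Not at hcon
        exact hker ((Submodule.eq_bot_iff _).mpr hcon)
      have halg : IsAlgebraic R a := ⟨g, hg0, hg⟩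
      haveI : Algebra.IsAlgebraic R S := by
        have := Algebra.isAlgebraic_adjoin_singleton_iff.mpr halg
        rw [ha] at this
        exact ⟨fun x => this x Algebra.mem_top⟩
      exact _root_.trdeg_eq_zero
    -- the reverse inequality from height additivity
    haveI hQprime : (RingHom.ker (Polynomial.aeval (R := R) a : R[X] →+* S)).IsPrime :=
      RingHom.ker_isPrime _
    have hQle : RingHom.ker (Polynomial.aeval (R := R) a : R[X] →+* S) ≤
        q.comap (Polynomial.aeval (R := R) a) := by
      intro f hf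
      rw [Ideal.mem_comap]
      have : (Polynomial.aeval (R := R) a) f = 0 := hf
      rw [this]
      exact zero_mem _
    have h5 := hHA (RingHom.ker (Polynomial.aeval (R := R) a : R[X] →+* S))
      (q.comap (Polynomial.aeval (R := R) a)) hQle
    have h6 : (RingHom.ker (Polynomial.aeval (R := R) a : R[X] →+* S)).height ≤ 1 := by
      apply height_le_one_of_comap_C_eq_bot
      rw [eq_bot_iff]
      intro r hr
      rw [Ideal.mem_comap, RingHom.mem_ker] at hr
      have h7 : algebraMap R S r = 0 := by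
        have := hr
        simpa using this
      rw [Ideal.mem_bot]
      exact FaithfulSMul.algebraMap_injective R S (h7.trans (map_zero _).symm)
    have h8 : ((q.comap (Polynomial.aeval (R := R) a)).map (Ideal.Quotient.mk
        (RingHom.ker (Polynomial.aeval (R := R) a : R[X] →+* S)))).height = q.height := by
      have h9 : q.comap (RingHom.quotientKerEquivOfSurjective
          (f := (Polynomial.aeval (R := R) a : R[X] →+* S)) hφ) =
          (q.comap (Polynomial.aeval (R := R) a)).map (Ideal.Quotient.mk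
            (RingHom.ker (Polynomial.aeval (R := R) a : R[X] →+* S))) := by
        ext x
        obtain ⟨f, rfl⟩ := Ideal.Quotient.mk_surjective x
        rw [Ideal.mem_comap, RingHom.quotientKerEquivOfSurjective_apply_mk]
        have h10 : Ideal.Quotient.mk (RingHom.ker (Polynomial.aeval (R := R) a : R[X] →+* S)) f ∈
            (q.comap (Polynomial.aeval (R := R) a)).map (Ideal.Quotient.mk
              (RingHom.ker (Polynomial.aeval (R := R) a : R[X] →+* S))) ↔
            f ∈ q.comap (Polynomial.aeval (R := R) a) := by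
          conv_rhs => rw [← comap_map_mk' _ _ hQle]
          rfl
        rw [h10]
        rfl
      rw [← h9]
      exact RingEquiv.height_comap _ q
    rw [h8] at h5
    have h11 : (q.comap (Polynomial.aeval (R := R) a)).height = q.height + 1 :=
      le_antisymm (h5.trans (add_le_add le_rfl h6)) h3
    rw [h11, ofENat_add, ofENat_one, add_right_comm] at h1
    rw [h4, add_zero]
    exact Cardinal.add_one_inj.mp h1

end OneGenEq

section MainEq

/-- the inheritable form of the universally catenary hypothesis -/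
def UC (R : Type u) [CommRing R] : Prop :=
  ∀ (T : Type u) [CommRing T] [IsDomain T] [Algebra R T], Algebra.FiniteType R T → HtAdd T

theorem uc_of_finiteType (R R' : Type u) [CommRing R] [CommRing R'] [Algebra R R']
    [Algebra.FiniteType R R'] (h : UC R) : UC R' := by
  intro T _ _ _ hT
  letI : Algebra R T := ((algebraMap R' T).comp (algebraMap R R')).toAlgebra
  haveI : IsScalarTower R R' T := IsScalarTower.of_algebraMap_eq (fun _ => rfl)
  exact h T (Algebra.FiniteType.trans (S := R') (inferInstance : Algebra.FiniteType R R') hT)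

theorem main_eq_aux (S : Type u) [CommRing S] [IsDomain S] (s : Finset S) :
    ∀ (R : Type u) [CommRing R] [IsDomain R] [IsNoetherianRing R] [Algebra R S] [FaithfulSMul R S],
      Algebra.adjoin R (s : Set S) = ⊤ → UC R → ∀ (p : Ideal R) [p.IsPrime] (q : Ideal S)
      [q.IsPrime] [q.LiesOver p],
      (q.height : Cardinal.{u}) + Algebra.trdeg (R ⧸ p) (S ⧸ q) =
        (p.height : Cardinal.{u}) + Algebra.trdeg R S := by
  classical
  induction s using Finset.induction_on with
  | empty =>
    intro R _ _ _ _ _ hs hUC p _ q _ _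
    refine one_gen_eq R S (hUC R[X] inferInstance) 0 ?_ p q
    rw [eq_top_iff, ← hs]
    exact Algebra.adjoin_mono (by simp)
  | insert a s' ha ih =>
    intro R _ _ _ _ _ hs hUC p _ q _ _
    haveI : Algebra.FiniteType R (Algebra.adjoin R ({a} : Set S)) :=
      (Subalgebra.fg_iff_finiteType _).mp ⟨{a}, by simp⟩
    haveI : IsNoetherianRing (Algebra.adjoin R ({a} : Set S)) :=
      Algebra.FiniteType.isNoetherianRing R _
    have hs' : Algebra.adjoin (Algebra.adjoin R ({a} : Set S)) (s' : Set S) = ⊤ := by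
      have h0 := Algebra.adjoin_union_eq_adjoin_adjoin R ({a} : Set S) (s' : Set S)
      rw [← Set.insert_eq, ← Finset.coe_insert, hs] at h0
      rw [eq_top_iff]
      intro x _
      have hx : x ∈ (⊤ : Subalgebra R S) := Algebra.mem_top
      rw [h0] at hx
      exact hx
    haveI : FaithfulSMul R (Algebra.adjoin R ({a} : Set S)) :=
      (faithfulSMul_iff_algebraMap_injective R _).mpr
        (fun x y h => FaithfulSMul.algebraMap_injective R S (congrArg Subtype.val h))
    haveI : FaithfulSMul (Algebra.adjoin R ({a} : Set S)) S :=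
      (faithfulSMul_iff_algebraMap_injective _ S).mpr Subtype.val_injective
    haveI : (q.under (Algebra.adjoin R ({a} : Set S))).IsPrime := Ideal.comap_isPrime _ q
    have h1 := ih (Algebra.adjoin R ({a} : Set S)) hs'
      (uc_of_finiteType R (Algebra.adjoin R ({a} : Set S)) hUC)
      (q.under (Algebra.adjoin R ({a} : Set S))) q
    have hgen : Algebra.adjoin R
        ({(⟨a, Algebra.subset_adjoin (Set.mem_singleton a)⟩ : Algebra.adjoin R ({a} : Set S))} :
          Set (Algebra.adjoin R ({a} : Set S))) = ⊤ := by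
      have := Algebra.adjoin_adjoin_coe_preimage (R := R) (s := ({a} : Set S))
      convert this using 2
      ext ⟨x, hx⟩
      simp
    have h2 := one_gen_eq R (Algebra.adjoin R ({a} : Set S)) (hUC R[X] inferInstance)
      ⟨a, Algebra.subset_adjoin (Set.mem_singleton a)⟩ hgen p
      (q.under (Algebra.adjoin R ({a} : Set S)))
    haveI : IsScalarTower (R ⧸ p)
        (Algebra.adjoin R ({a} : Set S) ⧸ q.under (Algebra.adjoin R ({a} : Set S))) (S ⧸ q) := by
      apply IsScalarTower.of_algebraMap_eq
      rintro ⟨x⟩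
      rfl
    have h3 := trdeg_add_eq (R ⧸ p)
      (Algebra.adjoin R ({a} : Set S) ⧸ q.under (Algebra.adjoin R ({a} : Set S))) (A := S ⧸ q)
    have h4 := trdeg_add_eq R (Algebra.adjoin R ({a} : Set S)) (A := S)
    rw [← h3, ← h4]
    calc (q.height : Cardinal.{u}) + (Algebra.trdeg (R ⧸ p) _ + Algebra.trdeg _ (S ⧸ q))
        = ((q.height : Cardinal.{u}) + Algebra.trdeg _ (S ⧸ q)) + Algebra.trdeg (R ⧸ p) _ := by
          rw [add_comm (Algebra.trdeg (R ⧸ p) _), add_assoc]
      _ = ((q.under (Algebra.adjoin R ({a} : Set S))).height + Algebra.trdeg _ S) +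
            Algebra.trdeg (R ⧸ p) _ := by rw [h1]
      _ = ((q.under (Algebra.adjoin R ({a} : Set S))).height + Algebra.trdeg (R ⧸ p) _) +
            Algebra.trdeg _ S := by rw [add_right_comm]
      _ = ((p.height : Cardinal.{u}) + Algebra.trdeg R _) + Algebra.trdeg _ S := by rw [h2]
      _ = _ := by rw [add_assoc]

theorem dim_eq_of_uc (R : Type u) [CommRing R] [IsDomain R] [IsNoetherianRing R] (hUC : UC R)
    (S : Type u) [CommRing S] [IsDomain S] [Algebra R S]
    [FaithfulSMul R S] [Algebra.FiniteType R S] (p : Ideal R) [p.IsPrime] (q : Ideal S) [q.IsPrime]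
    [q.LiesOver p] :
    (q.height : Cardinal.{u}) + Algebra.trdeg (R ⧸ p) (S ⧸ q) =
      (p.height : Cardinal.{u}) + Algebra.trdeg R S := by
  obtain ⟨s, hs⟩ := (Algebra.FiniteType.out : (⊤ : Subalgebra R S).FG)
  exact main_eq_aux S s R hs hUC p q

theorem uc_of_isUniversallyCatenary (R : Type u) [CommRing R]
    (hR : CAlg.IsUniversallyCatenary R) : UC R := by
  intro T _ _ _ hT
  haveI := hR.1
  haveI : IsNoetherianRing T := Algebra.FiniteType.isNoetherianRing R T
  exact htAdd_of_isCatenary T (hR.2 T hT)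

theorem S0555_main (R : Type u) [CommRing R] [IsDomain R]
    (hR : CAlg.IsUniversallyCatenary R) (S : Type u) [CommRing S] [IsDomain S] [Algebra R S]
    [FaithfulSMul R S] [Algebra.FiniteType R S] (p : Ideal R) [p.IsPrime] (q : Ideal S) [q.IsPrime]
    [q.LiesOver p] :
    (q.height : Cardinal.{u}) + Algebra.trdeg (R ⧸ p) (S ⧸ q) =
      (p.height : Cardinal.{u}) + Algebra.trdeg R S := by
  haveI := hR.1
  exact dim_eq_of_uc R (uc_of_isUniversallyCatenary R hR) S p q

end MainEq


end Groth.Agent.Lib.Helper4.DimEq1
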