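import Mathlib
import Groth.Prelude.Def_Flat
import Groth.Agent.Lib.Helper4.GenMap3

/-!
# Local dimension is preserved by etale morphisms (helper4)
-/

set_option backward.isDefEq.respectTransparency.types false
set_option synthInstance.maxHeartbeats 400000
set_option autoImplicit false
set_option linter.unusedSectionVars false
set_option linter.style.haveILetI false
set_option linter.unusedSimpArgs false
universe u v w
open CategoryTheory CategoryTheory.Limits AlgebraicGeometry TopologicalSpace IsLocalRing

namespace Groth.Agent.Lib.Helper4.LocalDimEtale1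
open Groth.Agent.Helper4.GM

attribute [local instance] specializationOrder in
theorem topologicalKrullDim_le_of_strict {A B : Type*} [TopologicalSpace A]
    [TopologicalSpace B] [QuasiSober A] [T0Space A] [QuasiSober B] [T0Space B]
    (g : A → B) (hc : Continuous g) (hg : ∀ x x' : A, x ⤳ x' → g x = g x' → x = x') :
    topologicalKrullDim A ≤ topologicalKrullDim B := by
  rw [topologicalKrullDim_eq_krullDim_specialization, topologicalKrullDim_eq_krullDim_specialization]
  apply Order.krullDim_le_of_strictMono g
  intro x x' hlt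
  have h1 : x' ⤳ x := hlt.le
  have h2 : g x' ⤳ g x := h1.map hc
  refine lt_of_le_not_ge h2 fun hle => ?_
  have h3 : g x ⤳ g x' := hle
  have h4 : g x' = g x := (h2.antisymm h3).eq
  have := hg x' x h1 h4
  exact (ne_of_lt hlt) this.symm

/-- Unramified morphisms are locally quasi-finite. -/
theorem locallyQuasiFinite_of_unramified {X Y : Scheme.{u}} (f : X ⟶ Y) [FormallyUnramified f]
    [LocallyOfFiniteType f] : LocallyQuasiFinite f := by
  rw [HasRingHomProperty.iff_appLE (P := @LocallyQuasiFinite)]
  intro U V e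
  have h1 := (HasRingHomProperty.iff_appLE (P := @FormallyUnramified)).mp ‹_› U V e
  have h2 := (HasRingHomProperty.iff_appLE (P := @LocallyOfFiniteType)).mp ‹_› U V e
  algebraize [(f.appLE U V e).hom]
  rw [← RingHom.algebraMap_toAlgebra (f.appLE U V e).hom, RingHom.quasiFinite_algebraMap]
  infer_instance

/-- In a discrete fibre, specialization implies equality. -/
theorem eq_of_specializes_of_isDiscrete_fibre {X Y : Scheme.{u}} (f : X ⟶ Y) [LocallyQuasiFinite f]
    {x x' : X} (h : x ⤳ x') (hf : f x = f x') : x = x' := by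
  have hd := (f.isDiscrete_preimage_singleton (f x')).to_subtype
  let a : f ⁻¹' {f x'} := ⟨x, hf⟩
  let a' : f ⁻¹' {f x'} := ⟨x', rfl⟩
  have : a ⤳ a' := Topology.IsInducing.subtypeVal.specializes_iff.mp h
  have := this.eq
  exact congrArg Subtype.val this

/-- The preimage of an open set under a locally quasi-finite morphism has at most the same
dimension. -/
theorem dim_preimage_le {X Y : Scheme.{u}} (f : X ⟶ Y) [LocallyQuasiFinite f] (W : Y.Opens) :
    topologicalKrullDim ↥((f ⁻¹ᵁ W : X.Opens) : Set X) ≤ topologicalKrullDim ↥(W : Set Y) := by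
  have h1 : IsOpen ((f ⁻¹ᵁ W : X.Opens) : Set X) := (f ⁻¹ᵁ W).2
  have h2 : IsOpen (W : Set Y) := W.2
  haveI : QuasiSober ↥((f ⁻¹ᵁ W : X.Opens) : Set X) := h1.isOpenEmbedding_subtypeVal.quasiSober
  haveI : QuasiSober ↥(W : Set Y) := h2.isOpenEmbedding_subtypeVal.quasiSober
  let g : ↥((f ⁻¹ᵁ W : X.Opens) : Set X) → ↥(W : Set Y) := fun x => ⟨f x.1, x.2⟩
  apply topologicalKrullDim_le_of_strict g
  · exact (f.continuous.comp continuous_subtype_val).subtype_mk _
  · intro x x' hsp hg
    apply Subtype.ext
    apply eq_of_specializes_of_isDiscrete_fibre f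
    · exact Topology.IsInducing.subtypeVal.specializes_iff.mpr hsp
    · exact congrArg Subtype.val hg

theorem S1146_main {U V : Scheme.{u}} (f : U ⟶ V) [Etale f] (u : U) :
    FlatMor.localDim U u = FlatMor.localDim V (f.base u) := by
  haveI : LocallyQuasiFinite f := locallyQuasiFinite_of_unramified f
  have hopen : IsOpenMap f.base := f.isOpenMap
  unfold FlatMor.localDim
  apply le_antisymm
  · refine le_iInf fun W' => ?_
    refine (iInf_le _ (⟨f ⁻¹ᵁ W'.1, W'.2⟩ : {W : Opens U // u ∈ W})).trans ?_
    exact dim_preimage_le f W'.1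
  · refine le_iInf fun W => ?_
    let Wo : U.Opens := W.1
    have hop : IsOpenMap (Wo.ι ≫ f).base := by
      rw [Scheme.Hom.comp_base]
      exact hopen.comp Wo.ι.isOpenEmbedding.isOpenMap
    let W' : Opens V := ⟨Set.range (Wo.ι ≫ f).base, hop.isOpen_range⟩
    have hmem : f.base u ∈ W' := ⟨⟨u, W.2⟩, rfl⟩
    refine (iInf_le _ (⟨W', hmem⟩ : {W : Opens V // f.base u ∈ W})).trans ?_
    exact topologicalKrullDim_range_le (Wo.ι ≫ f) hop

end Groth.Agent.Lib.Helper4.LocalDimEtale1
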