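import Mathlib
import Groth.Prelude.Def_Flat
import Groth.Prelude.Def_CurvBase
import Groth.Agent.Lib.Helper4.DimFT1
import Groth.Agent.Lib.Helper4.DimFT2
import Groth.Agent.Lib.Helper4.RadBir3
import Groth.Agent.Lib.Helper4.LocalDimEtale1

/-!
# Affine charts of schemes locally of finite type over a field: finite type sections, residue fields, dimensions (helper4)
-/

set_option backward.isDefEq.respectTransparency.types false
set_option synthInstance.maxHeartbeats 400000
set_option autoImplicit false
set_option linter.unusedSectionVars false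
set_option linter.style.haveILetI false
set_option linter.unusedSimpArgs false
universe u v w
open CategoryTheory CategoryTheory.Limits AlgebraicGeometry TopologicalSpace IsLocalRing Opposite
open Groth.Agent.Lib.Helper4.DimFT1 Groth.Agent.Lib.Helper4.DimFT2
open Groth.Agent.Lib.Helper4.NormFibre2 Groth.Agent.Lib.Helper4.RadBir3
open Groth.Agent.Lib.Helper4.LocalDimEtale1

namespace Groth.Agent.Lib.Helper4.DimFT3

section Chart

variable (k : Type u) [Field k] (X : Scheme.{u}) [X.Over (Spec (CommRingCat.of k))]

/-- the structure map from the field to the sections over an open -/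
noncomputable def secMap (U : X.Opens) : k →+* Γ(X, U) :=
  (X.presheaf.map (homOfLE (le_top : U ≤ ⊤)).op).hom.comp
    (Coh.toGlobal (X ↘ Spec (CommRingCat.of k)))

/-- the algebra structure on the sections over an open -/
noncomputable abbrev secAlgebra (U : X.Opens) : Algebra k Γ(X, U) := (secMap k X U).toAlgebra

theorem secMap_eq (U : X.Opens) :
    secMap k X U = ((X ↘ Spec (CommRingCat.of k)).appLE ⊤ U le_top).hom.comp
      (Scheme.ΓSpecIso (CommRingCat.of k)).inv.hom := by
  rfl

variable [LocallyOfFiniteType (X ↘ (Spec (CommRingCat.of k)))]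

theorem finiteType_sections {U : X.Opens} (hU : IsAffineOpen U) :
    letI := secAlgebra k X U
    Algebra.FiniteType k Γ(X, U) := by
  letI := secAlgebra k X U
  have h1 : ((X ↘ Spec (CommRingCat.of k)).appLE ⊤ U le_top).hom.FiniteType :=
    LocallyOfFiniteType.finiteType_appLE (X ↘ Spec (CommRingCat.of k)) (isAffineOpen_top _) hU
      le_top
  have h2 : (Scheme.ΓSpecIso (CommRingCat.of k)).inv.hom.FiniteType := by
    apply RingHom.FiniteType.of_surjective
    exact (ConcreteCategory.bijective_of_isIso (Scheme.ΓSpecIso (CommRingCat.of k)).inv).2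
  have h3 : (secMap k X U).FiniteType := by
    rw [secMap_eq]
    exact h1.comp h2
  exact h3

/-- the residue field structure map factors through sections -/
theorem resMap_eq {U : X.Opens} (x : X) (hx : x ∈ U) :
    Curv2.resMap k X x = (rho x hx).comp (secMap k X U) := by
  unfold Curv2.resMap Curv2.stalkMap rho secMap
  rw [← TopCat.Presheaf.germ_res X.presheaf (homOfLE (le_top : U ≤ ⊤)) x hx]
  rfl

end Chart

section Res

variable (k : Type u) [Field k] (X : Scheme.{u}) [X.Over (Spec (CommRingCat.of k))]
  [LocallyOfFiniteType (X ↘ (Spec (CommRingCat.of k)))]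
  {U : X.Opens} (hU : IsAffineOpen U) (x : X) (hx : x ∈ U)

include hU in
/-- the transcendence degree of a residue field computed on an affine chart -/
theorem trdeg_residueField_eq :
    letI := secAlgebra k X U
    letI := Curv2.resAlgebra k X x
    Algebra.trdeg k (X.residueField x) =
      Algebra.trdeg k (Γ(X, U) ⧸ (hU.primeIdealOf ⟨x, hx⟩).asIdeal) := by
  letI algA := secAlgebra k X U
  letI algκ := Curv2.resAlgebra k X x
  have hker : ∀ a ∈ (hU.primeIdealOf ⟨x, hx⟩).asIdeal, rho x hx a = 0 := by
    intro a ha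
    rw [← ker_rho hU x hx] at ha
    exact ha
  letI algQ : Algebra (Γ(X, U) ⧸ (hU.primeIdealOf ⟨x, hx⟩).asIdeal) (X.residueField x) :=
    (Ideal.Quotient.lift _ (rho x hx) hker).toAlgebra
  have halg : ∀ a : Γ(X, U), algebraMap (Γ(X, U) ⧸ (hU.primeIdealOf ⟨x, hx⟩).asIdeal)
      (X.residueField x) (Ideal.Quotient.mk _ a) = rho x hx a := fun a => rfl
  haveI : IsScalarTower k (Γ(X, U) ⧸ (hU.primeIdealOf ⟨x, hx⟩).asIdeal) (X.residueField x) := by
    apply IsScalarTower.of_algebraMap_eq
    intro c
    have h1 : algebraMap k (X.residueField x) c = Curv2.resMap k X x c := rfl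
    rw [h1, resMap_eq k X x hx]
    rfl
  haveI : FaithfulSMul (Γ(X, U) ⧸ (hU.primeIdealOf ⟨x, hx⟩).asIdeal) (X.residueField x) := by
    rw [faithfulSMul_iff_algebraMap_injective, injective_iff_map_eq_zero]
    intro a ha
    obtain ⟨a, rfl⟩ := Ideal.Quotient.mk_surjective a
    rw [halg] at ha
    rw [Ideal.Quotient.eq_zero_iff_mem, ← ker_rho hU x hx]
    exact ha
  haveI : IsFractionRing (Γ(X, U) ⧸ (hU.primeIdealOf ⟨x, hx⟩).asIdeal) (X.residueField x) := by
    apply IsFractionRing.of_field
    intro z
    obtain ⟨s, a, hs, hsa⟩ := exists_frac_rho hU x hx z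
    refine ⟨Ideal.Quotient.mk _ a, Ideal.Quotient.mk _ s, ?_⟩
    rw [halg, halg]
    have hs0 : rho x hx s ≠ 0 := by
      intro h0
      apply hs
      rw [← ker_rho hU x hx]
      exact h0
    rw [eq_div_iff hs0, mul_comm]
    exact hsa
  exact trdeg_fractionRing_eq k _ (X.residueField x)

end Res



section TopChart

variable {X : Scheme.{u}} {U : X.Opens} (hU : IsAffineOpen U)

include hU in
theorem topologicalKrullDim_affineOpen :
    topologicalKrullDim ↥(U : Set X) = ringKrullDim Γ(X, U) := by
  have hemb := hU.fromSpec.isOpenEmbedding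
  have rng := hU.range_fromSpec
  let e := hemb.isEmbedding.toHomeomorph.trans (Homeomorph.setCongr rng)
  rw [← PrimeSpectrum.topologicalKrullDim_eq_ringKrullDim]
  exact (IsHomeomorph.topologicalKrullDim_eq _ e.isHomeomorph).symm

include hU in
theorem localDim_eq_spec (x : X) (hx : x ∈ U) :
    FlatMor.localDim X x =
      FlatMor.localDim (PrimeSpectrum Γ(X, U)) (hU.primeIdealOf ⟨x, hx⟩) := by
  have h := S1146_main hU.fromSpec (hU.primeIdealOf ⟨x, hx⟩)
  rw [hU.fromSpec_primeIdealOf ⟨x, hx⟩] at h
  exact h.symm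

include hU in
theorem ringKrullDim_stalk_eq_height (x : X) (hx : x ∈ U) :
    ringKrullDim (X.presheaf.stalk x) =
      ((hU.primeIdealOf ⟨x, hx⟩).asIdeal.height : WithBot ℕ∞) := by
  letI := X.presheaf.algebra_section_stalk (U := U) ⟨x, hx⟩
  haveI := hU.isLocalization_stalk ⟨x, hx⟩
  exact IsLocalization.AtPrime.ringKrullDim_eq_height (hU.primeIdealOf ⟨x, hx⟩).asIdeal
    (X.presheaf.stalk x)

end TopChart


end Groth.Agent.Lib.Helper4.DimFT3
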