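import Mathlib
import Groth.Agent.Lib.Helper4.DimIneq1
import Groth.Agent.Lib.Helper4.RadBir3
import Groth.Agent.Lib.Helper4.DimFT3
import Groth.Agent.Lib.Helper4.DimFT2

/-!
# The dimension inequality for schemes (stalk version) (helper4)
-/

set_option backward.isDefEq.respectTransparency.types false
set_option synthInstance.maxHeartbeats 400000
set_option autoImplicit false
set_option linter.unusedSectionVars false
set_option linter.style.haveILetI false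
set_option linter.unusedSimpArgs false
universe u v w
open CategoryTheory CategoryTheory.Limits AlgebraicGeometry TopologicalSpace IsLocalRing Opposite
open Cardinal
open Groth.Agent.Lib.Helper4.DimIneq1 Groth.Agent.Lib.Helper4.DimFT2
open Groth.Agent.Lib.Helper4.NormFibre2 Groth.Agent.Lib.Helper4.RadBir3

namespace Groth.Agent.Lib.Helper4.DimIneq2

section General

variable (A B : Type u) [CommRing A] [IsNoetherianRing A] [CommRing B] [Algebra A B]
  [Algebra.FiniteType A B]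

theorem liesOver_map_mk (𝔭 : Ideal A) (q P : Ideal B) [hql : q.LiesOver 𝔭] (hPq : P ≤ q) :
    (q.map (Ideal.Quotient.mk P)).LiesOver (𝔭.map (Ideal.Quotient.mk (P.under A))) := by
  have h0 : P.under A ≤ 𝔭 := by
    rw [Ideal.over_def q 𝔭]
    exact Ideal.comap_mono hPq
  constructor
  ext a
  obtain ⟨a, rfl⟩ := Ideal.Quotient.mk_surjective a
  change _ ↔ algebraMap (A ⧸ P.under A) (B ⧸ P) (Ideal.Quotient.mk (P.under A) a) ∈
    q.map (Ideal.Quotient.mk P)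
  rw [Ideal.Quotient.algebraMap_mk_of_liesOver]
  have h1 : ∀ b : B, Ideal.Quotient.mk P b ∈ q.map (Ideal.Quotient.mk P) ↔ b ∈ q := by
    intro b
    conv_rhs => rw [← comap_map_mk' P q hPq]
    rfl
  have h2 : ∀ a : A, Ideal.Quotient.mk (P.under A) a ∈ 𝔭.map (Ideal.Quotient.mk (P.under A)) ↔
      a ∈ 𝔭 := by
    intro a
    conv_rhs => rw [← comap_map_mk' (P.under A) 𝔭 h0]
    rfl
  rw [h1, h2, Ideal.mem_of_liesOver q 𝔭]

/-- the dimension inequality relative to a prime `P ≤ q` -/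
theorem dim_ineq_rel (𝔭 : Ideal A) [h𝔭 : 𝔭.IsPrime] (q : Ideal B) [hq : q.IsPrime]
    [hql : q.LiesOver 𝔭] (P : Ideal B) [hP : P.IsPrime] (hPq : P ≤ q) :
    ((q.map (Ideal.Quotient.mk P)).height : Cardinal.{u}) + Algebra.trdeg (A ⧸ 𝔭) (B ⧸ q) ≤
      ((𝔭.map (Ideal.Quotient.mk (P.under A))).height : Cardinal.{u}) +
        Algebra.trdeg (A ⧸ P.under A) (B ⧸ P) := by
  have h0 : P.under A ≤ 𝔭 := by
    rw [Ideal.over_def q 𝔭]
    exact Ideal.comap_mono hPq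
  haveI : (P.under A).IsPrime := Ideal.comap_isPrime _ P
  haveI : IsDomain (A ⧸ P.under A) := Ideal.Quotient.isDomain _
  haveI : IsDomain (B ⧸ P) := Ideal.Quotient.isDomain _
  haveI : Algebra.FiniteType A (B ⧸ P) :=
    Algebra.FiniteType.of_surjective (Ideal.Quotient.mkₐ A P) (Ideal.Quotient.mkₐ_surjective A P)
  haveI : Algebra.FiniteType (A ⧸ P.under A) (B ⧸ P) :=
    Algebra.FiniteType.of_restrictScalars_finiteType A (A ⧸ P.under A) (B ⧸ P)
  haveI := isPrime_map_mk P q hPq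
  haveI := isPrime_map_mk (P.under A) 𝔭 h0
  haveI := liesOver_map_mk A B 𝔭 q P hPq
  have key := dim_ineq (A ⧸ P.under A) (B ⧸ P) (𝔭.map (Ideal.Quotient.mk (P.under A)))
    (q.map (Ideal.Quotient.mk P))
  have htr : Algebra.trdeg ((A ⧸ P.under A) ⧸ 𝔭.map (Ideal.Quotient.mk (P.under A)))
      ((B ⧸ P) ⧸ q.map (Ideal.Quotient.mk P)) = Algebra.trdeg (A ⧸ 𝔭) (B ⧸ q) := by
    haveI : Nontrivial ((A ⧸ P.under A) ⧸ 𝔭.map (Ideal.Quotient.mk (P.under A))) :=
      Ideal.Quotient.nontrivial_iff.mpr (Ideal.IsPrime.ne_top inferInstance)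
    refine trdeg_eq_of_ringEquiv (DoubleQuot.quotQuotEquivQuotOfLE h0)
      (DoubleQuot.quotQuotEquivQuotOfLE hPq) ?_
    apply Ideal.Quotient.ringHom_ext
    apply Ideal.Quotient.ringHom_ext
    ext a
    rfl
  rw [htr] at key
  exact key

/-- choosing a minimal prime computing the height -/
theorem exists_minimalPrimes_dim_ineq (𝔭 : Ideal A) [h𝔭 : 𝔭.IsPrime] (q : Ideal B) [hq : q.IsPrime]
    [hql : q.LiesOver 𝔭] :
    ∃ P ∈ minimalPrimes B, P ≤ q ∧ ∃ _ : P.IsPrime,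
      (q.height : Cardinal.{u}) + Algebra.trdeg (A ⧸ 𝔭) (B ⧸ q) ≤
        (𝔭.height : Cardinal.{u}) + Algebra.trdeg (A ⧸ P.under A) (B ⧸ P) := by
  haveI : IsNoetherianRing B := Algebra.FiniteType.isNoetherianRing A B
  obtain ⟨P, hPmin, hPq, hht⟩ := exists_minimalPrimes_height_eq q
  haveI hP : P.IsPrime := hPmin.1.1
  refine ⟨P, hPmin, hPq, hP, ?_⟩
  have h0 : P.under A ≤ 𝔭 := by
    rw [Ideal.over_def q 𝔭]
    exact Ideal.comap_mono hPq
  have key := dim_ineq_rel A B 𝔭 q P hPq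
  rw [hht] at key
  refine key.trans (add_le_add (ofENat_le_ofENat_of_le (height_map_mk_le (P.under A) 𝔭 h0)) le_rfl)

end General



section Chart

theorem isFractionRing_quotient {Y : Scheme.{u}} {W : Y.Opens} (hW : IsAffineOpen W) (y : Y)
    (hy : y ∈ W) [Algebra (Γ(Y, W) ⧸ (hW.primeIdealOf ⟨y, hy⟩).asIdeal) (Y.residueField y)]
    (halg : ∀ a : Γ(Y, W), algebraMap (Γ(Y, W) ⧸ (hW.primeIdealOf ⟨y, hy⟩).asIdeal)
      (Y.residueField y) (Ideal.Quotient.mk _ a) = rho y hy a) :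
    IsFractionRing (Γ(Y, W) ⧸ (hW.primeIdealOf ⟨y, hy⟩).asIdeal) (Y.residueField y) := by
  haveI : FaithfulSMul (Γ(Y, W) ⧸ (hW.primeIdealOf ⟨y, hy⟩).asIdeal) (Y.residueField y) := by
    rw [faithfulSMul_iff_algebraMap_injective, injective_iff_map_eq_zero]
    intro a ha
    obtain ⟨a, rfl⟩ := Ideal.Quotient.mk_surjective a
    rw [halg] at ha
    rw [Ideal.Quotient.eq_zero_iff_mem, ← ker_rho hW y hy]
    exact ha
  apply IsFractionRing.of_field
  intro z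
  obtain ⟨s, a, hs, hsa⟩ := exists_frac_rho hW y hy z
  refine ⟨Ideal.Quotient.mk _ a, Ideal.Quotient.mk _ s, ?_⟩
  rw [halg, halg]
  have hs0 : rho y hy s ≠ 0 := by
    intro h0
    apply hs
    rw [← ker_rho hW y hy]
    exact h0
  rw [eq_div_iff hs0, mul_comm]
  exact hsa

variable {X S : Scheme.{u}} (f : X ⟶ S) {V : S.Opens} (hV : IsAffineOpen V) {U : X.Opens}
  (hU : IsAffineOpen U) (e : U ≤ f ⁻¹ᵁ V) (x : X) (hx : x ∈ U)

theorem rho_comp_appLE :
    (rho x hx).comp (f.appLE V U e).hom =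
      (f.residueFieldMap x).hom.comp (rho (f x) (e hx)) := by
  have h1 := rho_comp_app f (U := V) x (e hx)
  rw [← h1]
  ext a
  simp only [RingHom.comp_apply, rho_apply]
  congr 1
  rw [Scheme.Hom.appLE]
  simp only [CommRingCat.hom_comp, RingHom.comp_apply]
  exact TopCat.Presheaf.germ_res_apply X.presheaf (homOfLE e) x hx _

include hU hV in
theorem trdeg_residueFieldMap_eq_chart [Algebra Γ(S, V) Γ(X, U)]
    (halg : algebraMap Γ(S, V) Γ(X, U) = (f.appLE V U e).hom)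
    [hlo : (hU.primeIdealOf ⟨x, hx⟩).asIdeal.LiesOver (hV.primeIdealOf ⟨f x, e hx⟩).asIdeal] :
    @Algebra.trdeg (S.residueField (f x)) (X.residueField x) _ _
        (f.residueFieldMap x).hom.toAlgebra =
      Algebra.trdeg (Γ(S, V) ⧸ (hV.primeIdealOf ⟨f x, e hx⟩).asIdeal)
        (Γ(X, U) ⧸ (hU.primeIdealOf ⟨x, hx⟩).asIdeal) := by
  letI algK : Algebra (S.residueField (f x)) (X.residueField x) :=
    (f.residueFieldMap x).hom.toAlgebra
  have hker : ∀ a ∈ (hV.primeIdealOf ⟨f x, e hx⟩).asIdeal, rho (f x) (e hx) a = 0 := by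
    intro a ha
    rw [← ker_rho hV (f x) (e hx)] at ha
    exact ha
  have hker' : ∀ a ∈ (hU.primeIdealOf ⟨x, hx⟩).asIdeal, rho x hx a = 0 := by
    intro a ha
    rw [← ker_rho hU x hx] at ha
    exact ha
  letI algD : Algebra (Γ(S, V) ⧸ (hV.primeIdealOf ⟨f x, e hx⟩).asIdeal) (S.residueField (f x)) :=
    (Ideal.Quotient.lift _ (rho (f x) (e hx)) hker).toAlgebra
  letI algD' : Algebra (Γ(X, U) ⧸ (hU.primeIdealOf ⟨x, hx⟩).asIdeal) (X.residueField x) :=
    (Ideal.Quotient.lift _ (rho x hx) hker').toAlgebra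
  letI algDK' : Algebra (Γ(S, V) ⧸ (hV.primeIdealOf ⟨f x, e hx⟩).asIdeal) (X.residueField x) :=
    ((algebraMap (Γ(X, U) ⧸ (hU.primeIdealOf ⟨x, hx⟩).asIdeal) (X.residueField x)).comp
      (algebraMap (Γ(S, V) ⧸ (hV.primeIdealOf ⟨f x, e hx⟩).asIdeal)
        (Γ(X, U) ⧸ (hU.primeIdealOf ⟨x, hx⟩).asIdeal))).toAlgebra
  haveI : IsScalarTower (Γ(S, V) ⧸ (hV.primeIdealOf ⟨f x, e hx⟩).asIdeal)
      (Γ(X, U) ⧸ (hU.primeIdealOf ⟨x, hx⟩).asIdeal) (X.residueField x) :=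
    IsScalarTower.of_algebraMap_eq (fun _ => rfl)
  haveI : IsScalarTower (Γ(S, V) ⧸ (hV.primeIdealOf ⟨f x, e hx⟩).asIdeal)
      (S.residueField (f x)) (X.residueField x) := by
    apply IsScalarTower.of_algebraMap_eq
    intro d
    obtain ⟨a, rfl⟩ := Ideal.Quotient.mk_surjective d
    have h1 := congrArg (fun φ => φ a) (rho_comp_appLE f e x hx)
    simp only [RingHom.comp_apply] at h1
    change rho x hx (algebraMap Γ(S, V) Γ(X, U) a) = _
    rw [halg, h1]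
    rfl
  haveI := isFractionRing_quotient hV (f x) (e hx) (fun _ => rfl)
  haveI := isFractionRing_quotient hU x hx (fun _ => rfl)
  haveI : IsDomain (Γ(S, V) ⧸ (hV.primeIdealOf ⟨f x, e hx⟩).asIdeal) :=
    Ideal.Quotient.isDomain _
  haveI : IsDomain (Γ(X, U) ⧸ (hU.primeIdealOf ⟨x, hx⟩).asIdeal) :=
    Ideal.Quotient.isDomain _
  exact trdeg_fractionRing_rel (Γ(S, V) ⧸ (hV.primeIdealOf ⟨f x, e hx⟩).asIdeal)
    (Γ(X, U) ⧸ (hU.primeIdealOf ⟨x, hx⟩).asIdeal) (S.residueField (f x)) (X.residueField x)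

end Chart



section Main

theorem trdeg_quot_congr {A B : Type u} [CommRing A] [CommRing B] [Algebra A B] (𝔭 𝔭' : Ideal A)
    (q q' : Ideal B) [q.LiesOver 𝔭] [q'.LiesOver 𝔭'] (h1 : 𝔭 = 𝔭') (h2 : q = q') :
    Algebra.trdeg (A ⧸ 𝔭) (B ⧸ q) = Algebra.trdeg (A ⧸ 𝔭') (B ⧸ q') := by
  subst h1
  subst h2
  rfl

theorem liesOver_chart {X S : Scheme.{u}} (f : X ⟶ S) {V : S.Opens} (hV : IsAffineOpen V)
    {U : X.Opens} (hU : IsAffineOpen U) (e : U ≤ f ⁻¹ᵁ V) (x : X) (hx : x ∈ U)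
    [Algebra Γ(S, V) Γ(X, U)] (halg : algebraMap Γ(S, V) Γ(X, U) = (f.appLE V U e).hom) :
    (hU.primeIdealOf ⟨x, hx⟩).asIdeal.LiesOver (hV.primeIdealOf ⟨f x, e hx⟩).asIdeal := by
  constructor
  have h := IsAffineOpen.comap_primeIdealOf_appLE (f := f) V hV U hU e hx
  rw [Ideal.under, halg]
  exact (congrArg PrimeSpectrum.asIdeal h).symm

theorem S9687_main {X S : Scheme.{u}} [IsLocallyNoetherian S]
    (f : X ⟶ S) [LocallyOfFiniteType f] (x : X) (n E : ℕ)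
    (hn : letI := (f.residueFieldMap x).hom.toAlgebra
      Algebra.trdeg (S.residueField (f.base x)) (X.residueField x) = n)
    (hE : ∀ ξ : X, closure {ξ} ∈ irreducibleComponents ↥X → ξ ⤳ x →
      letI := (f.residueFieldMap ξ).hom.toAlgebra
      Algebra.trdeg (S.residueField (f.base ξ)) (X.residueField ξ) ≤ E) :
    ringKrullDim (X.presheaf.stalk x) + n ≤ ringKrullDim (S.presheaf.stalk (f.base x)) + E := by
  obtain ⟨V, hV, hsV, -⟩ := exists_isAffineOpen_mem_and_subset (U := (⊤ : S.Opens)) (x := f x)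
    trivial
  obtain ⟨U, hU, hxU, hUV⟩ := exists_isAffineOpen_mem_and_subset (U := f ⁻¹ᵁ V) (x := x) hsV
  letI alg : Algebra Γ(S, V) Γ(X, U) := (f.appLE V U hUV).hom.toAlgebra
  haveI : IsNoetherianRing Γ(S, V) := IsLocallyNoetherian.component_noetherian ⟨V, hV⟩
  haveI : Algebra.FiniteType Γ(S, V) Γ(X, U) := LocallyOfFiniteType.finiteType_appLE f hV hU hUV
  haveI hlo := liesOver_chart f hV hU hUV x hxU rfl
  obtain ⟨P, hPmin, hPq, hP, key⟩ := exists_minimalPrimes_dim_ineq Γ(S, V) Γ(X, U)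
    (hV.primeIdealOf ⟨f x, hUV hxU⟩).asIdeal (hU.primeIdealOf ⟨x, hxU⟩).asIdeal
  have hξU : hU.fromSpec ⟨P, hP⟩ ∈ U := fromSpec_mem hU _
  have hξP : hU.primeIdealOf ⟨hU.fromSpec ⟨P, hP⟩, hξU⟩ = ⟨P, hP⟩ := primeIdealOf_fromSpec hU _
  have hξgen : closure {hU.fromSpec ⟨P, hP⟩} ∈ irreducibleComponents X := by
    have := (mem_genericPoints_iff_minimalPrimes hU _ hξU).mpr (by rw [hξP]; exact hPmin)
    exact this
  have hξx : hU.fromSpec ⟨P, hP⟩ ⤳ x := by
    rw [specializes_iff_primeIdealOf_le hU ⟨_, hξU⟩ ⟨x, hxU⟩, hξP]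
    exact hPq
  have h1 := hE _ hξgen hξx
  haveI hlo' := liesOver_chart f hV hU hUV _ hξU rfl
  have h2 := trdeg_residueFieldMap_eq_chart f hV hU hUV _ hξU rfl
  have h3 := trdeg_residueFieldMap_eq_chart f hV hU hUV x hxU rfl
  have h4 : Algebra.trdeg (Γ(S, V) ⧸ (hV.primeIdealOf ⟨f (hU.fromSpec ⟨P, hP⟩), hUV hξU⟩).asIdeal)
      (Γ(X, U) ⧸ (hU.primeIdealOf ⟨hU.fromSpec ⟨P, hP⟩, hξU⟩).asIdeal) =
      Algebra.trdeg (Γ(S, V) ⧸ P.under Γ(S, V)) (Γ(X, U) ⧸ P) := by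
    apply trdeg_quot_congr
    · rw [hlo'.over, hξP]
    · rw [hξP]
  have h5 : (((hU.primeIdealOf ⟨x, hxU⟩).asIdeal.height : Cardinal.{u})) + (n : Cardinal.{u}) ≤
      ((hV.primeIdealOf ⟨f x, hUV hxU⟩).asIdeal.height : Cardinal.{u}) + (E : Cardinal.{u}) := by
    rw [← hn]
    refine le_trans ?_ (key.trans (add_le_add le_rfl ?_))
    · exact add_le_add le_rfl h3.le
    · rw [← h4, ← h2]
      exact h1
  have h6 : (hU.primeIdealOf ⟨x, hxU⟩).asIdeal.height + (n : ℕ∞) ≤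
      (hV.primeIdealOf ⟨f x, hUV hxU⟩).asIdeal.height + (E : ℕ∞) := by
    rw [← Cardinal.ofENat_le_ofENat, ofENat_add, ofENat_add, ofENat_nat, ofENat_nat]
    exact h5
  rw [Groth.Agent.Lib.Helper4.DimFT3.ringKrullDim_stalk_eq_height hU x hxU,
    Groth.Agent.Lib.Helper4.DimFT3.ringKrullDim_stalk_eq_height hV (f x) (hUV hxU)]
  exact_mod_cast h6

end Main


end Groth.Agent.Lib.Helper4.DimIneq2
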