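import Mathlib
import Groth.Prelude.Def_Found
import Groth.Prelude.Def_Cyc
import Groth.Agent.Lib.Helper4.DimEq1
import Groth.Agent.Lib.Helper4.DimIneq2

/-!
# Dimension functions on schemes locally of finite type over a universally catenary base (helper4)
-/

set_option backward.isDefEq.respectTransparency.types false
set_option synthInstance.maxHeartbeats 400000
set_option autoImplicit false
set_option linter.unusedSectionVars false
set_option linter.style.haveILetI false
set_option linter.unusedSimpArgs false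
universe u v w
open CategoryTheory CategoryTheory.Limits AlgebraicGeometry TopologicalSpace IsLocalRing Opposite
open Cardinal
open Groth.Agent.Lib.Helper4.DimIneq1 Groth.Agent.Lib.Helper4.DimFT2 Groth.Agent.Lib.Helper4.Catenary1
open Groth.Agent.Lib.Helper4.DimEq1 Groth.Agent.Lib.Helper4.DimIneq2
open Groth.Agent.Lib.Helper4.NormFibre2 Groth.Agent.Lib.Helper4.RadBir3

namespace Groth.Agent.Lib.Helper4.DimEq2

section LocalUC

/-- universally catenary transfers along ring isomorphisms -/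
theorem isUniversallyCatenary_of_ringEquiv {R R' : Type u} [CommRing R] [CommRing R'] (e : R ≃+* R')
    (h : CAlg.IsUniversallyCatenary R) : CAlg.IsUniversallyCatenary R' := by
  refine ⟨?_, ?_⟩
  · haveI := h.1
    exact isNoetherianRing_of_ringEquiv R e
  · intro T _ _ hT
    letI : Algebra R T := ((algebraMap R' T).comp (e : R →+* R')).toAlgebra
    letI : Algebra R R' := (e : R →+* R').toAlgebra
    haveI : IsScalarTower R R' T := IsScalarTower.of_algebraMap_eq (fun _ => rfl)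
    haveI : Algebra.FiniteType R R' :=
      Algebra.FiniteType.of_surjective (Algebra.ofId R R') e.surjective
    exact h.2 T (Algebra.FiniteType.trans (S := R') inferInstance hT)

/-- the order isomorphism between `Set.Iic m` in a subtype and in the ambient order -/
def iicSubtypeIso {α : Type u} [PartialOrder α] (G : α → Prop)
    (hG : ∀ a b : α, a ≤ b → G b → G a) (m : α) (hm : G m) :
    Set.Iic m ≃o Set.Iic (⟨m, hm⟩ : {a : α // G a}) where
  toFun x := ⟨⟨x.1, hG _ _ x.2 hm⟩, x.2⟩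
  invFun x := ⟨x.1.1, x.2⟩
  left_inv _ := rfl
  right_inv _ := rfl
  map_rel_iff' := Iff.rfl

variable (A T : Type u) [CommRing A] [IsNoetherianRing A] [CommRing T] [Algebra A T]
  [Algebra.FiniteType A T]

/-- if all the localizations of `A` at primes are universally catenary then every finite type
`A`-algebra is catenary -/
theorem isCatenary_of_local
    (hloc : ∀ (𝔭 : Ideal A) [𝔭.IsPrime], CAlg.IsUniversallyCatenary (Localization.AtPrime 𝔭)) :
    CAlg.IsCatenary T := by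
  change CatP (PrimeSpectrum T)
  apply catP_of_forall_Iic (Set.univ : Set (PrimeSpectrum T))
  · intro q
    exact ⟨q, Set.mem_univ _, le_rfl⟩
  · intro m _
    haveI : (m.asIdeal.under A).IsPrime := Ideal.comap_isPrime _ _
    have hft : Algebra.FiniteType (Localization.AtPrime (m.asIdeal.under A))
        (Localization (Algebra.algebraMapSubmonoid T (m.asIdeal.under A).primeCompl)) := by
      haveI : IsLocalization (Submonoid.map (algebraMap A T) (m.asIdeal.under A).primeCompl)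
          (Localization (Algebra.algebraMapSubmonoid T (m.asIdeal.under A).primeCompl)) :=
        inferInstanceAs (IsLocalization
          (Algebra.algebraMapSubmonoid T (m.asIdeal.under A).primeCompl)
          (Localization (Algebra.algebraMapSubmonoid T (m.asIdeal.under A).primeCompl)))
      exact RingHom.finiteType_localizationPreserves (algebraMap A T)
        (m.asIdeal.under A).primeCompl (Localization.AtPrime (m.asIdeal.under A))
        (Localization (Algebra.algebraMapSubmonoid T (m.asIdeal.under A).primeCompl))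
        (RingHom.finiteType_algebraMap.mpr inferInstance)
    have h1 : CatP (PrimeSpectrum
        (Localization (Algebra.algebraMapSubmonoid T (m.asIdeal.under A).primeCompl))) :=
      (hloc (m.asIdeal.under A)).2 _ hft
    have h2 : CatP {p : PrimeSpectrum T //
        Disjoint ((Algebra.algebraMapSubmonoid T (m.asIdeal.under A).primeCompl : Submonoid T) :
          Set T) (p.asIdeal : Set T)} :=
      catP_congr (IsLocalization.primeSpectrumOrderIso
        (Algebra.algebraMapSubmonoid T (m.asIdeal.under A).primeCompl)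
        (Localization (Algebra.algebraMapSubmonoid T (m.asIdeal.under A).primeCompl))).symm h1
    have hm : Disjoint ((Algebra.algebraMapSubmonoid T (m.asIdeal.under A).primeCompl :
        Submonoid T) : Set T) (m.asIdeal : Set T) := by
      rw [Set.disjoint_left]
      rintro _ ⟨a, ha, rfl⟩ ham
      exact ha ham
    exact catP_congr (iicSubtypeIso (fun p : PrimeSpectrum T =>
      Disjoint ((Algebra.algebraMapSubmonoid T (m.asIdeal.under A).primeCompl : Submonoid T) :
          Set T) (p.asIdeal : Set T)) (fun a b hab hb => Set.disjoint_of_subset_right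
      (show (a.asIdeal : Set T) ⊆ b.asIdeal from hab) hb) m hm) (catP_Iic _ h2)

/-- hence `A` satisfies the inheritable universally catenary property -/
theorem uc_of_local
    (hloc : ∀ (𝔭 : Ideal A) [𝔭.IsPrime], CAlg.IsUniversallyCatenary (Localization.AtPrime 𝔭)) :
    UC A := by
  intro T _ _ _ hT
  haveI : IsNoetherianRing T := Algebra.FiniteType.isNoetherianRing A T
  exact htAdd_of_isCatenary T (isCatenary_of_local A T hloc)

end LocalUC



section RelEq

variable (A B : Type u) [CommRing A] [IsNoetherianRing A] [CommRing B] [Algebra A B]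
  [Algebra.FiniteType A B]

/-- the dimension formula with equality, relative to a prime `P ≤ q` -/
theorem dim_eq_rel (hUC : UC A) (𝔭 : Ideal A) [h𝔭 : 𝔭.IsPrime] (q : Ideal B) [hq : q.IsPrime]
    [hql : q.LiesOver 𝔭] (P : Ideal B) [hP : P.IsPrime] (hPq : P ≤ q) :
    ((q.map (Ideal.Quotient.mk P)).height : Cardinal.{u}) + Algebra.trdeg (A ⧸ 𝔭) (B ⧸ q) =
      ((𝔭.map (Ideal.Quotient.mk (P.under A))).height : Cardinal.{u}) +
        Algebra.trdeg (A ⧸ P.under A) (B ⧸ P) := by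
  have h0 : P.under A ≤ 𝔭 := by
    rw [Ideal.over_def q 𝔭]
    exact Ideal.comap_mono hPq
  haveI : (P.under A).IsPrime := Ideal.comap_isPrime _ P
  haveI : IsDomain (A ⧸ P.under A) := Ideal.Quotient.isDomain _
  haveI : IsDomain (B ⧸ P) := Ideal.Quotient.isDomain _
  haveI : Algebra.FiniteType A (B ⧸ P) :=
    Algebra.FiniteType.of_surjective (Ideal.Quotient.mkₐ A P) (Ideal.Quotient.mkₐ_surjective A P)
  haveI : Algebra.FiniteType (A ⧸ P.under A) (B ⧸ P) :=
    Algebra.FiniteType.of_restrictScalars_finiteType A (A ⧸ P.under A) (B ⧸ P)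
  haveI := isPrime_map_mk P q hPq
  haveI := isPrime_map_mk (P.under A) 𝔭 h0
  haveI := liesOver_map_mk A B 𝔭 q P hPq
  haveI : Algebra.FiniteType A (A ⧸ P.under A) :=
    Algebra.FiniteType.of_surjective (Ideal.Quotient.mkₐ A _) (Ideal.Quotient.mkₐ_surjective A _)
  have key := dim_eq_of_uc (A ⧸ P.under A) (uc_of_finiteType A (A ⧸ P.under A) hUC) (B ⧸ P)
    (𝔭.map (Ideal.Quotient.mk (P.under A))) (q.map (Ideal.Quotient.mk P))
  have htr : Algebra.trdeg ((A ⧸ P.under A) ⧸ 𝔭.map (Ideal.Quotient.mk (P.under A)))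
      ((B ⧸ P) ⧸ q.map (Ideal.Quotient.mk P)) = Algebra.trdeg (A ⧸ 𝔭) (B ⧸ q) := by
    haveI : Nontrivial ((A ⧸ P.under A) ⧸ 𝔭.map (Ideal.Quotient.mk (P.under A))) :=
      Ideal.Quotient.nontrivial_iff.mpr (Ideal.IsPrime.ne_top inferInstance)
    refine trdeg_eq_of_ringEquiv (DoubleQuot.quotQuotEquivQuotOfLE h0)
      (DoubleQuot.quotQuotEquivQuotOfLE hPq) ?_
    apply Ideal.Quotient.ringHom_ext
    apply Ideal.Quotient.ringHom_ext
    ext a
    rfl
  rw [htr] at key
  exact key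

end RelEq



section DeltaOrder

theorem delta_sub_eq_height {α : Type u} [PartialOrder α] (δ' : α → ℤ)
    (hδ : ∀ a b : α, a < b → δ' b < δ' a ∧ (a ⋖ b → δ' a = δ' b + 1))
    (a b : α) (hab : a ≤ b) (m : ℕ) (hm : Order.height (⟨b, hab⟩ : Set.Ici a) = m) :
    δ' a - δ' b = m := by
  obtain ⟨l, hlast, hlen⟩ := Order.exists_series_of_height_eq_coe (⟨b, hab⟩ : Set.Ici a) hm
  have h : (l.length : ℕ∞) = Order.height l.last := by rw [hlast, hlen, hm]
  have hhead : l.head = ⟨a, le_rfl⟩ := by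
    have hmin := isMin_head_of_length_eq_height h
    have h1 : (⟨a, le_rfl⟩ : Set.Ici a) ≤ l.head := l.head.2
    exact le_antisymm (hmin h1) h1
  have key : ∀ i : Fin (l.length + 1), δ' a - δ' (l i).1 = (i : ℕ) := by
    intro i
    induction i using Fin.induction with
    | zero =>
      have : l 0 = ⟨a, le_rfl⟩ := hhead
      rw [this]
      simp
    | succ i ih =>
      have hcov := covBy_val_of_covBy_Ici a _ _ (isSat_of_length_eq_height h i)
      have h2 := (hδ _ _ hcov.lt).2 hcov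
      rw [h2] at ih
      rw [Fin.val_succ]
      push_cast
      have : (i.castSucc : ℕ) = (i : ℕ) := rfl
      rw [this] at ih
      linarith
  have h3 := key (Fin.last _)
  have h4 : l (Fin.last _) = ⟨b, hab⟩ := hlast
  rw [h4, Fin.val_last, hlen] at h3
  exact h3

theorem height_Ici_eq {T : Type u} [CommRing T] (Q q : Ideal T) [hQ : Q.IsPrime] [hq : q.IsPrime]
    (hQq : Q ≤ q) :
    Order.height (⟨⟨q, hq⟩, hQq⟩ : Set.Ici (⟨Q, hQ⟩ : PrimeSpectrum T)) =
      (q.map (Ideal.Quotient.mk Q)).height := by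
  haveI := isPrime_map_mk Q q hQq
  apply le_antisymm
  · let f : Set.Ici (⟨Q, hQ⟩ : PrimeSpectrum T) → PrimeSpectrum (T ⧸ Q) := fun x =>
      ⟨x.1.asIdeal.map (Ideal.Quotient.mk Q), isPrime_map_mk Q x.1.asIdeal x.2⟩
    have hf : StrictMono f := by
      intro x y hxy
      refine lt_of_le_not_ge (Ideal.map_mono (show x.1.asIdeal ≤ y.1.asIdeal from hxy.le)) ?_
      intro hle
      have h1 : (y.1.asIdeal.map (Ideal.Quotient.mk Q)).comap (Ideal.Quotient.mk Q) ≤
          (x.1.asIdeal.map (Ideal.Quotient.mk Q)).comap (Ideal.Quotient.mk Q) :=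
        Ideal.comap_mono hle
      rw [comap_map_mk' Q _ y.2, comap_map_mk' Q _ x.2] at h1
      exact hxy.not_ge h1
    have h2 := Order.height_le_height_apply_of_strictMono f hf ⟨⟨q, hq⟩, hQq⟩
    rw [← PrimeSpectrum.height_eq_orderHeight] at h2
    exact h2
  · let g : PrimeSpectrum (T ⧸ Q) → Set.Ici (⟨Q, hQ⟩ : PrimeSpectrum T) := fun x =>
      ⟨PrimeSpectrum.comap (Ideal.Quotient.mk Q) x, by
        intro a ha
        change Ideal.Quotient.mk Q a ∈ x.asIdeal
        rw [Ideal.Quotient.eq_zero_iff_mem.mpr ha]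
        exact zero_mem _⟩
    have hg : StrictMono g := fun x y hxy =>
      RingHom.strictMono_comap_of_surjective (f := Ideal.Quotient.mk Q)
        Ideal.Quotient.mk_surjective hxy
    have h2 := Order.height_le_height_apply_of_strictMono g hg
      ⟨q.map (Ideal.Quotient.mk Q), inferInstance⟩
    rw [← PrimeSpectrum.height_eq_orderHeight] at h2
    have h3 : g ⟨q.map (Ideal.Quotient.mk Q), inferInstance⟩ = ⟨⟨q, hq⟩, hQq⟩ := by
      apply Subtype.ext
      apply PrimeSpectrum.ext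
      exact comap_map_mk' Q q hQq
    rw [h3] at h2
    exact h2

theorem one_le_height_map_mk_of_ne {T : Type u} [CommRing T] (Q q : Ideal T) [hQ : Q.IsPrime]
    [hq : q.IsPrime] (hQq : Q ≤ q) (hne : Q ≠ q) : 1 ≤ (q.map (Ideal.Quotient.mk Q)).height := by
  haveI : IsDomain (T ⧸ Q) := Ideal.Quotient.isDomain Q
  rw [Order.one_le_iff_pos, pos_iff_ne_zero, Ne, Ideal.height_eq_zero_iff_eq_bot]
  intro h0
  apply hne
  refine le_antisymm hQq ?_
  intro a ha
  have h1 : Ideal.Quotient.mk Q a ∈ q.map (Ideal.Quotient.mk Q) := Ideal.mem_map_of_mem _ ha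
  rw [h0, Ideal.mem_bot, Ideal.Quotient.eq_zero_iff_mem] at h1
  exact h1

theorem height_map_mk_eq_one_of_covBy {T : Type u} [CommRing T] (Q q : Ideal T) [hQ : Q.IsPrime]
    [hq : q.IsPrime] (hcov : (⟨Q, hQ⟩ : PrimeSpectrum T) ⋖ ⟨q, hq⟩) :
    (q.map (Ideal.Quotient.mk Q)).height = 1 := by
  have hQq : Q ≤ q := hcov.lt.le
  have hne : Q ≠ q := fun h => hcov.lt.ne (PrimeSpectrum.ext h)
  rw [← height_Ici_eq Q q hQq]
  apply le_antisymm
  · apply Order.height_le
    intro p hp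
    by_contra hlen
    rw [not_le] at hlen
    have h2 : 2 ≤ p.length := by
      have : (1 : ℕ∞) < (p.length : ℕ∞) := hlen
      exact_mod_cast this
    -- three elements p 0 < p 1 < p 2 ≤ q
    have h01 : p ⟨0, by omega⟩ < p ⟨1, by omega⟩ := p.strictMono (by simp [Fin.lt_def])
    have h12 : p ⟨1, by omega⟩ < p ⟨2, by omega⟩ := p.strictMono (by simp [Fin.lt_def])
    have h2l : p ⟨2, by omega⟩ ≤ p.last := p.monotone (Fin.le_last _)
    rw [hp] at h2l
    have hQ0 : (⟨Q, hQ⟩ : PrimeSpectrum T) ≤ (p ⟨0, by omega⟩).1 := (p ⟨0, by omega⟩).2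
    have hlt1 : (⟨Q, hQ⟩ : PrimeSpectrum T) < (p ⟨1, by omega⟩).1 := lt_of_le_of_lt hQ0 h01
    have hlt2 : (p ⟨1, by omega⟩).1 < (⟨q, hq⟩ : PrimeSpectrum T) := lt_of_lt_of_le h12 h2l
    exact hcov.2 hlt1 hlt2
  · rw [height_Ici_eq Q q hQq]
    exact one_le_height_map_mk_of_ne Q q hQq hne

end DeltaOrder



section SchemeDelta

theorem nonempty_stalk_equiv {S : Scheme.{u}} {V : S.Opens} (hV : IsAffineOpen V) (z : S)
    (hz : z ∈ V) (𝔭 : Ideal Γ(S, V)) [h𝔭 : 𝔭.IsPrime]
    (h : (hV.primeIdealOf ⟨z, hz⟩).asIdeal = 𝔭) :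
    Nonempty (S.presheaf.stalk z ≃+* Localization.AtPrime 𝔭) := by
  subst h
  letI := S.presheaf.algebra_section_stalk (U := V) ⟨z, hz⟩
  haveI := hV.isLocalization_stalk ⟨z, hz⟩
  exact ⟨(IsLocalization.algEquiv (hV.primeIdealOf ⟨z, hz⟩).asIdeal.primeCompl
    (S.presheaf.stalk z) (Localization.AtPrime (hV.primeIdealOf ⟨z, hz⟩).asIdeal)).toRingEquiv⟩

theorem uc_sections {S : Scheme.{u}} [IsLocallyNoetherian S]
    (hUC : ∀ s : S, CAlg.IsUniversallyCatenary (S.presheaf.stalk s)) {V : S.Opens}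
    (hV : IsAffineOpen V) :
    haveI : IsNoetherianRing Γ(S, V) := IsLocallyNoetherian.component_noetherian ⟨V, hV⟩
    UC Γ(S, V) := by
  haveI : IsNoetherianRing Γ(S, V) := IsLocallyNoetherian.component_noetherian ⟨V, hV⟩
  apply uc_of_local
  intro 𝔭 h𝔭
  obtain ⟨e⟩ := nonempty_stalk_equiv hV (hV.fromSpec ⟨𝔭, h𝔭⟩) (fromSpec_mem hV _) 𝔭
    (congrArg PrimeSpectrum.asIdeal (primeIdealOf_fromSpec hV ⟨𝔭, h𝔭⟩))
  exact isUniversallyCatenary_of_ringEquiv e (hUC _)

/-- a dimension function on a scheme restricted to an affine chart, as a function on primes -/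
theorem delta_chart {S : Scheme.{u}} (δ : S → ℤ) (hδ : Cyc.IsDimFun S δ) {V : S.Opens}
    (hV : IsAffineOpen V) (P P' : PrimeSpectrum Γ(S, V)) (hlt : P < P') :
    δ (hV.fromSpec P') < δ (hV.fromSpec P) ∧
      (P ⋖ P' → δ (hV.fromSpec P) = δ (hV.fromSpec P') + 1) := by
  have hsp : hV.fromSpec P ⤳ hV.fromSpec P' := by
    rw [specializes_iff_primeIdealOf_le hV ⟨_, fromSpec_mem hV P⟩ ⟨_, fromSpec_mem hV P'⟩,
      primeIdealOf_fromSpec, primeIdealOf_fromSpec]
    exact hlt.le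
  have hne : hV.fromSpec P ≠ hV.fromSpec P' := fun h =>
    hlt.ne (hV.fromSpec.isOpenEmbedding.injective h)
  obtain ⟨h1, h2⟩ := hδ _ _ hsp hne
  refine ⟨h1, fun hcov => h2 ?_⟩
  intro z hz1 hz2
  have hzV : z ∈ V := hz2.mem_open V.2 (fromSpec_mem hV P')
  have hz := hV.fromSpec_primeIdealOf ⟨z, hzV⟩
  have hle1 : P ≤ hV.primeIdealOf ⟨z, hzV⟩ := by
    have := (specializes_iff_primeIdealOf_le hV ⟨_, fromSpec_mem hV P⟩ ⟨z, hzV⟩).mp hz1
    rwa [primeIdealOf_fromSpec] at this
  have hle2 : hV.primeIdealOf ⟨z, hzV⟩ ≤ P' := by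
    have := (specializes_iff_primeIdealOf_le hV ⟨z, hzV⟩ ⟨_, fromSpec_mem hV P'⟩).mp hz2
    rwa [primeIdealOf_fromSpec] at this
  rcases hcov.eq_or_eq hle1 hle2 with h | h
  · left
    exact h ▸ hz.symm
  · right
    exact h ▸ hz.symm

theorem S9684_main {X S : Scheme.{u}} (f : X ⟶ S)
    [LocallyOfFiniteType f] (δ : ↥S → ℤ) (hS : Cyc.IsSetup S δ) (δX : ↥X → ℤ)
    (hδ : Cyc.DeltaCompat f δX δ) : Cyc.IsDimFun X δX := by
  obtain ⟨hNoeth, hUCst, hdim⟩ := hS
  haveI := hNoeth
  intro x y hxy hne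
  obtain ⟨V, hV, htV, -⟩ := exists_isAffineOpen_mem_and_subset (U := (⊤ : S.Opens)) (x := f y)
    trivial
  obtain ⟨U, hU, hyU, hUV⟩ := exists_isAffineOpen_mem_and_subset (U := f ⁻¹ᵁ V) (x := y) htV
  have hxU : x ∈ U := hxy.mem_open U.2 hyU
  letI alg : Algebra Γ(S, V) Γ(X, U) := (f.appLE V U hUV).hom.toAlgebra
  haveI : IsNoetherianRing Γ(S, V) := IsLocallyNoetherian.component_noetherian ⟨V, hV⟩
  haveI : Algebra.FiniteType Γ(S, V) Γ(X, U) := LocallyOfFiniteType.finiteType_appLE f hV hU hUV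
  haveI : IsNoetherianRing Γ(X, U) := Algebra.FiniteType.isNoetherianRing Γ(S, V) Γ(X, U)
  haveI hlox := liesOver_chart f hV hU hUV x hxU rfl
  haveI hloy := liesOver_chart f hV hU hUV y hyU rfl
  have hqle : (hU.primeIdealOf ⟨x, hxU⟩).asIdeal ≤ (hU.primeIdealOf ⟨y, hyU⟩).asIdeal :=
    (specializes_iff_primeIdealOf_le hU ⟨x, hxU⟩ ⟨y, hyU⟩).mp hxy
  have hqne : (hU.primeIdealOf ⟨x, hxU⟩).asIdeal ≠ (hU.primeIdealOf ⟨y, hyU⟩).asIdeal := by
    intro h
    apply hne
    have h2 : hU.primeIdealOf ⟨x, hxU⟩ = hU.primeIdealOf ⟨y, hyU⟩ := PrimeSpectrum.ext h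
    exact congrArg Subtype.val (primeIdealOf_injective' hU h2)
  have hUCA : UC Γ(S, V) := uc_sections hUCst hV
  have key := dim_eq_rel Γ(S, V) Γ(X, U) hUCA (hV.primeIdealOf ⟨f y, hUV hyU⟩).asIdeal
    (hU.primeIdealOf ⟨y, hyU⟩).asIdeal (hU.primeIdealOf ⟨x, hxU⟩).asIdeal hqle
  obtain ⟨nx, hnx, hδx⟩ := hδ x
  obtain ⟨ny, hny, hδy⟩ := hδ y
  rw [trdeg_residueFieldMap_eq_chart f hV hU hUV x hxU rfl] at hnx
  rw [trdeg_residueFieldMap_eq_chart f hV hU hUV y hyU rfl] at hny
  have hnx' : Algebra.trdeg (Γ(S, V) ⧸ (hU.primeIdealOf ⟨x, hxU⟩).asIdeal.under Γ(S, V))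
      (Γ(X, U) ⧸ (hU.primeIdealOf ⟨x, hxU⟩).asIdeal) = nx := by
    rw [← hnx]
    exact trdeg_quot_congr _ _ _ _ hlox.over.symm rfl
  rw [hny, hnx'] at key
  -- finiteness of heights
  have h0 : (hU.primeIdealOf ⟨x, hxU⟩).asIdeal.under Γ(S, V) ≤
      (hV.primeIdealOf ⟨f y, hUV hyU⟩).asIdeal := by
    rw [Ideal.over_def (hU.primeIdealOf ⟨y, hyU⟩).asIdeal (hV.primeIdealOf ⟨f y, hUV hyU⟩).asIdeal]
    exact Ideal.comap_mono hqle
  haveI hp0prime : ((hU.primeIdealOf ⟨x, hxU⟩).asIdeal.under Γ(S, V)).IsPrime :=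
    Ideal.comap_isPrime _ _
  haveI := isPrime_map_mk _ _ hqle
  haveI := isPrime_map_mk _ _ h0
  obtain ⟨c₀, hc₀⟩ := ENat.ne_top_iff_exists.mp (Ideal.height_ne_top
    (I := (hU.primeIdealOf ⟨y, hyU⟩).asIdeal.map
      (Ideal.Quotient.mk (hU.primeIdealOf ⟨x, hxU⟩).asIdeal)) (Ideal.IsPrime.ne_top inferInstance))
  obtain ⟨m₀, hm₀⟩ := ENat.ne_top_iff_exists.mp (Ideal.height_ne_top
    (I := (hV.primeIdealOf ⟨f y, hUV hyU⟩).asIdeal.map
      (Ideal.Quotient.mk ((hU.primeIdealOf ⟨x, hxU⟩).asIdeal.under Γ(S, V))))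
    (Ideal.IsPrime.ne_top inferInstance))
  rw [← hc₀, ← hm₀] at key
  have key' : c₀ + ny = m₀ + nx := by
    have : ((c₀ + ny : ℕ) : Cardinal.{u}) = ((m₀ + nx : ℕ) : Cardinal.{u}) := by
      push_cast
      simpa using key
    exact_mod_cast this
  -- the dimension function on the base
  have hΔ := delta_sub_eq_height (α := PrimeSpectrum Γ(S, V)) (fun P => δ (hV.fromSpec P))
    (fun P P' hlt => delta_chart δ hdim hV P P' hlt)
    ⟨(hU.primeIdealOf ⟨x, hxU⟩).asIdeal.under Γ(S, V), hp0prime⟩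
    (hV.primeIdealOf ⟨f y, hUV hyU⟩) h0 m₀
    (by
      have := height_Ici_eq ((hU.primeIdealOf ⟨x, hxU⟩).asIdeal.under Γ(S, V))
        (hV.primeIdealOf ⟨f y, hUV hyU⟩).asIdeal h0
      exact this.trans hm₀.symm)
  have hfx : hV.fromSpec ⟨(hU.primeIdealOf ⟨x, hxU⟩).asIdeal.under Γ(S, V), hp0prime⟩ = f x := by
    have h1 : (⟨(hU.primeIdealOf ⟨x, hxU⟩).asIdeal.under Γ(S, V), hp0prime⟩ :
        PrimeSpectrum Γ(S, V)) = hV.primeIdealOf ⟨f x, hUV hxU⟩ :=
      PrimeSpectrum.ext hlox.over.symm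
    rw [h1]
    exact hV.fromSpec_primeIdealOf ⟨f x, hUV hxU⟩
  have hfy : hV.fromSpec (hV.primeIdealOf ⟨f y, hUV hyU⟩) = f y :=
    hV.fromSpec_primeIdealOf ⟨f y, hUV hyU⟩
  simp only [hfx, hfy] at hΔ
  have hc1 : 1 ≤ c₀ := by
    have := one_le_height_map_mk_of_ne _ _ hqle hqne
    rw [← hc₀] at this
    exact_mod_cast this
  have hdiff : δX x - δX y = c₀ := by
    rw [hδx, hδy]
    have : (c₀ : ℤ) + ny = m₀ + nx := by exact_mod_cast key'
    change δ (f x) - δ (f y) = (m₀ : ℤ) at hΔ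
    linarith
  refine ⟨by omega, fun himm => ?_⟩
  have hcov : (hU.primeIdealOf ⟨x, hxU⟩) ⋖ (hU.primeIdealOf ⟨y, hyU⟩) := by
    refine ⟨lt_of_le_of_ne hqle (fun h => hqne (congrArg PrimeSpectrum.asIdeal h)), ?_⟩
    intro P'' h1 h2
    have hzU := fromSpec_mem hU P''
    have hz1 : x ⤳ hU.fromSpec P'' := by
      rw [specializes_iff_primeIdealOf_le hU ⟨x, hxU⟩ ⟨_, hzU⟩, primeIdealOf_fromSpec]
      exact h1.le
    have hz2 : hU.fromSpec P'' ⤳ y := by
      rw [specializes_iff_primeIdealOf_le hU ⟨_, hzU⟩ ⟨y, hyU⟩, primeIdealOf_fromSpec]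
      exact h2.le
    rcases himm _ hz1 hz2 with h | h
    · have h3 := primeIdealOf_fromSpec hU P''
      have h4 : hU.primeIdealOf ⟨hU.fromSpec P'', hzU⟩ = hU.primeIdealOf ⟨x, hxU⟩ := by
        congr 1
        exact Subtype.ext h
      rw [h3] at h4
      exact h1.ne h4.symm
    · have h3 := primeIdealOf_fromSpec hU P''
      have h4 : hU.primeIdealOf ⟨hU.fromSpec P'', hzU⟩ = hU.primeIdealOf ⟨y, hyU⟩ := by
        congr 1
        exact Subtype.ext h
      rw [h3] at h4
      exact h2.ne h4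
  have hone := height_map_mk_eq_one_of_covBy (hU.primeIdealOf ⟨x, hxU⟩).asIdeal
    (hU.primeIdealOf ⟨y, hyU⟩).asIdeal hcov
  rw [← hc₀] at hone
  have : c₀ = 1 := by exact_mod_cast hone
  omega

end SchemeDelta


end Groth.Agent.Lib.Helper4.DimEq2
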