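import Mathlib
import Groth.Agent.Lib.Helper4.DimIneq2

/-!
# Transcendence degree drops along specializations in a fibre (helper4)
-/

set_option backward.isDefEq.respectTransparency.types false
set_option synthInstance.maxHeartbeats 400000
set_option autoImplicit false
set_option linter.unusedSectionVars false
set_option linter.style.haveILetI false
set_option linter.unusedSimpArgs false
universe u v w
open CategoryTheory CategoryTheory.Limits AlgebraicGeometry TopologicalSpace IsLocalRing Opposite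
open Cardinal
open Groth.Agent.Lib.Helper4.DimIneq1 Groth.Agent.Lib.Helper4.DimIneq2 Groth.Agent.Lib.Helper4.DimFT2
open Groth.Agent.Lib.Helper4.NormFibre2 Groth.Agent.Lib.Helper4.RadBir3

namespace Groth.Agent.Lib.Helper4.DimIneq3

section TrdegDrop

/-- the transcendence degree drops strictly modulo a nonzero prime contracting to zero -/
theorem trdeg_quotient_lt {D D' : Type u} [CommRing D] [IsDomain D] [CommRing D'] [IsDomain D']
    [Algebra D D'] (𝔮 : Ideal D') [h𝔮 : 𝔮.IsPrime] (h0 : 𝔮 ≠ ⊥)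
    (hD : 𝔮.comap (algebraMap D D') = ⊥) (hfin : Algebra.trdeg D D' < ℵ₀) :
    Algebra.trdeg D (D' ⧸ 𝔮) < Algebra.trdeg D D' := by
  by_contra hlt
  rw [not_lt] at hlt
  have hinj : Function.Injective (algebraMap D (D' ⧸ 𝔮)) := by
    rw [injective_iff_map_eq_zero]
    intro a ha
    have h1 : a ∈ 𝔮.comap (algebraMap D D') := by
      rw [Ideal.mem_comap, ← Ideal.Quotient.eq_zero_iff_mem]
      exact ha
    rw [hD] at h1
    exact h1
  haveI : FaithfulSMul D (D' ⧸ 𝔮) := (faithfulSMul_iff_algebraMap_injective _ _).mpr hinj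
  haveI : IsDomain (D' ⧸ 𝔮) := Ideal.Quotient.isDomain 𝔮
  obtain ⟨s, hs⟩ := exists_isTranscendenceBasis D (D' ⧸ 𝔮)
  rw [← hs.cardinalMk_eq_trdeg] at hlt
  obtain ⟨t, hts, htcard⟩ := Cardinal.le_mk_iff_exists_subset.mp hlt
  have htind : AlgebraicIndependent D ((↑) : t → D' ⧸ 𝔮) := hs.1.mono hts
  -- lift
  have hsurj : Function.Surjective (Ideal.Quotient.mk 𝔮) := Ideal.Quotient.mk_surjective
  let x : t → D' := fun i => Function.surjInv hsurj (i : D' ⧸ 𝔮)
  have hx : ∀ i, Ideal.Quotient.mk 𝔮 (x i) = (i : D' ⧸ 𝔮) := fun i =>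
    Function.surjInv_eq hsurj _
  have hxcomp : (Ideal.Quotient.mk 𝔮) ∘ x = ((↑) : t → D' ⧸ 𝔮) := funext hx
  have hxind : AlgebraicIndependent D x := by
    apply AlgebraicIndependent.of_ringHom_of_comp_eq (RingHom.id D) (Ideal.Quotient.mk 𝔮)
      (S := D) (B := D' ⧸ 𝔮)
    · rw [hxcomp]
      exact htind
    · exact Function.injective_id
    · ext a
      rfl
  have hxbasis : IsTranscendenceBasis D x :=
    hxind.isTranscendenceBasis_of_trdeg_le hfin htcard.ge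
  haveI halg : Algebra.IsAlgebraic (Algebra.adjoin D (Set.range x)) D' := hxbasis.isAlgebraic
  -- a nonzero element of 𝔮
  obtain ⟨y, hy𝔮, hy0⟩ : ∃ y ∈ 𝔮, y ≠ 0 := by
    by_contra hcon
    push Not at hcon
    exact h0 ((Submodule.eq_bot_iff _).mpr hcon)
  obtain ⟨r, hr0, hdvd⟩ := (halg.isAlgebraic y).exists_nonzero_dvd
    (mem_nonZeroDivisors_of_ne_zero hy0)
  have hr𝔮 : (r : D') ∈ 𝔮 := by
    obtain ⟨c, hc⟩ := hdvd
    change (r : D') = y * c at hc
    rw [hc]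
    exact 𝔮.mul_mem_right _ hy𝔮
  have hrmem : ∀ z ∈ Algebra.adjoin D (Set.range x), z ∈ (MvPolynomial.aeval (R := D) x).range := by
    intro z hz
    rw [Algebra.adjoin_range_eq_range_aeval] at hz
    exact hz
  have hrmem := hrmem (r : D') r.2
  obtain ⟨P, hP⟩ := hrmem
  have hP0 : P ≠ 0 := by
    rintro rfl
    apply hr0
    apply Subtype.ext
    rw [← hP]
    simp
  have h1 : MvPolynomial.aeval ((↑) : t → D' ⧸ 𝔮) P = 0 := by
    rw [← hxcomp]
    have h2 := MvPolynomial.comp_aeval_apply (f := x) (Ideal.Quotient.mkₐ D 𝔮) P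
    change _ = MvPolynomial.aeval ((Ideal.Quotient.mk 𝔮) ∘ x) P at h2
    rw [← h2]
    change Ideal.Quotient.mk 𝔮 _ = 0
    rw [Ideal.Quotient.eq_zero_iff_mem]
    have : (MvPolynomial.aeval x) P = (r : D') := hP
    rw [this]
    exact hr𝔮
  exact hP0 (htind.eq_zero_of_aeval_eq_zero P h1)

end TrdegDrop



section RingLevel

variable (A B : Type u) [CommRing A] [CommRing B] [Algebra A B] [Algebra.FiniteType A B]

theorem trdeg_lt_of_lt (𝔭 : Ideal A) [h𝔭 : 𝔭.IsPrime] (q q' : Ideal B) [hq : q.IsPrime]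
    [hq' : q'.IsPrime] [hql : q.LiesOver 𝔭] [hql' : q'.LiesOver 𝔭] (hlt : q < q') :
    Algebra.trdeg (A ⧸ 𝔭) (B ⧸ q') < Algebra.trdeg (A ⧸ 𝔭) (B ⧸ q) := by
  haveI : IsDomain (A ⧸ 𝔭) := Ideal.Quotient.isDomain _
  haveI : IsDomain (B ⧸ q) := Ideal.Quotient.isDomain _
  haveI : Algebra.FiniteType A (B ⧸ q) :=
    Algebra.FiniteType.of_surjective (Ideal.Quotient.mkₐ A q) (Ideal.Quotient.mkₐ_surjective A q)
  haveI : Algebra.FiniteType (A ⧸ 𝔭) (B ⧸ q) :=
    Algebra.FiniteType.of_restrictScalars_finiteType A (A ⧸ 𝔭) (B ⧸ q)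
  haveI := isPrime_map_mk q q' hlt.le
  have h1 : ∀ b : B, Ideal.Quotient.mk q b ∈ q'.map (Ideal.Quotient.mk q) ↔ b ∈ q' := by
    intro b
    conv_rhs => rw [← comap_map_mk' q q' hlt.le]
    rfl
  have h0 : q'.map (Ideal.Quotient.mk q) ≠ ⊥ := by
    obtain ⟨b, hbq', hbq⟩ := Set.exists_of_ssubset hlt
    intro h
    have h2 : Ideal.Quotient.mk q b ∈ q'.map (Ideal.Quotient.mk q) := (h1 b).mpr hbq'
    rw [h, Ideal.mem_bot, Ideal.Quotient.eq_zero_iff_mem] at h2
    exact hbq h2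
  have hD : (q'.map (Ideal.Quotient.mk q)).comap (algebraMap (A ⧸ 𝔭) (B ⧸ q)) = ⊥ := by
    rw [eq_bot_iff]
    intro a ha
    obtain ⟨a, rfl⟩ := Ideal.Quotient.mk_surjective a
    rw [Ideal.mem_comap, Ideal.Quotient.algebraMap_mk_of_liesOver, h1,
      ← Ideal.mem_of_liesOver q' 𝔭] at ha
    rw [Ideal.mem_bot, Ideal.Quotient.eq_zero_iff_mem]
    exact ha
  have key := trdeg_quotient_lt (D := A ⧸ 𝔭) (D' := B ⧸ q) (q'.map (Ideal.Quotient.mk q)) h0 hD
    (_root_.trdeg_lt_aleph0_of_finiteType)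
  have htr : Algebra.trdeg (A ⧸ 𝔭) ((B ⧸ q) ⧸ q'.map (Ideal.Quotient.mk q)) =
      Algebra.trdeg (A ⧸ 𝔭) (B ⧸ q') := by
    refine trdeg_eq_of_ringEquiv (RingEquiv.refl _) (DoubleQuot.quotQuotEquivQuotOfLE hlt.le) ?_
    apply Ideal.Quotient.ringHom_ext
    ext a
    rfl
  rw [htr] at key
  exact key

end RingLevel

section SchemeLevel

theorem S9381_main {X S : Scheme.{u}} (f : X ⟶ S) [LocallyOfFiniteType f] (x x' : X)
    (hsp : x ⤳ x') (hne : x ≠ x') (hfx : f.base x = f.base x') :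
    @Algebra.trdeg (S.residueField (f.base x')) (X.residueField x') _ _
        (f.residueFieldMap x').hom.toAlgebra <
      @Algebra.trdeg (S.residueField (f.base x)) (X.residueField x) _ _
        (f.residueFieldMap x).hom.toAlgebra := by
  obtain ⟨V, hV, hsV, -⟩ := exists_isAffineOpen_mem_and_subset (U := (⊤ : S.Opens)) (x := f x')
    trivial
  obtain ⟨U, hU, hx'U, hUV⟩ := exists_isAffineOpen_mem_and_subset (U := f ⁻¹ᵁ V) (x := x') hsV
  have hxU : x ∈ U := hsp.mem_open U.2 hx'U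
  letI alg : Algebra Γ(S, V) Γ(X, U) := (f.appLE V U hUV).hom.toAlgebra
  haveI : Algebra.FiniteType Γ(S, V) Γ(X, U) := LocallyOfFiniteType.finiteType_appLE f hV hU hUV
  haveI hlo := liesOver_chart f hV hU hUV x hxU rfl
  haveI hlo' := liesOver_chart f hV hU hUV x' hx'U rfl
  rw [trdeg_residueFieldMap_eq_chart f hV hU hUV x hxU rfl,
    trdeg_residueFieldMap_eq_chart f hV hU hUV x' hx'U rfl]
  have hp : (hV.primeIdealOf ⟨f x, hUV hxU⟩).asIdeal = (hV.primeIdealOf ⟨f x', hUV hx'U⟩).asIdeal := by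
    congr 3
  haveI hlo'' : (hU.primeIdealOf ⟨x, hxU⟩).asIdeal.LiesOver
      (hV.primeIdealOf ⟨f x', hUV hx'U⟩).asIdeal := hp ▸ hlo
  rw [trdeg_quot_congr (hV.primeIdealOf ⟨f x, hUV hxU⟩).asIdeal
    (hV.primeIdealOf ⟨f x', hUV hx'U⟩).asIdeal (hU.primeIdealOf ⟨x, hxU⟩).asIdeal
    (hU.primeIdealOf ⟨x, hxU⟩).asIdeal hp rfl]
  apply trdeg_lt_of_lt
  refine lt_of_le_of_ne ?_ ?_
  · exact (specializes_iff_primeIdealOf_le hU ⟨x, hxU⟩ ⟨x', hx'U⟩).mp hsp
  · intro h
    apply hne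
    have h2 : hU.primeIdealOf ⟨x, hxU⟩ = hU.primeIdealOf ⟨x', hx'U⟩ := PrimeSpectrum.ext h
    have := primeIdealOf_injective' hU h2
    exact congrArg Subtype.val this

end SchemeLevel


end Groth.Agent.Lib.Helper4.DimIneq3
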