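import Mathlib
import Groth.Agent.Lib.Helper4.DimIneq3
import Groth.Agent.Lib.Helper4.GenMap3
import Groth.Agent.Lib.Helper4.CurveTop1
import Groth.Agent.Lib.Helper4.DimFT1

/-!
# dim X ≤ dim Y + E; equality for closed dominant maps of integral schemes (helper4)
-/

set_option backward.isDefEq.respectTransparency.types false
set_option synthInstance.maxHeartbeats 400000
set_option autoImplicit false
set_option linter.unusedSectionVars false
set_option linter.style.haveILetI false
set_option linter.unusedSimpArgs false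
universe u v w
open CategoryTheory CategoryTheory.Limits AlgebraicGeometry TopologicalSpace IsLocalRing Opposite
open Cardinal
open Groth.Agent.Lib.Helper4.DimIneq1 Groth.Agent.Lib.Helper4.DimIneq2 Groth.Agent.Lib.Helper4.DimFT2
open Groth.Agent.Lib.Helper4.NormFibre2 Groth.Agent.Lib.Helper4.RadBir3
open Groth.Agent.Helper4.GM
open Groth.Agent.Lib.Helper4.DimFT1

namespace Groth.Agent.Lib.Helper4.DimIneq4

section OrderLift

theorem exists_ltSeries_lift_last {P Q : Type*} [Preorder P] [Preorder Q] (g : Q → P)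
    (hg : ∀ x p', p' < g x → ∃ x', x' < x ∧ g x' = p') (l : LTSeries P) :
    ∀ x : Q, l.last = g x → ∃ L : LTSeries Q, L.length = l.length ∧ L.last = x := by
  induction l using RelSeries.inductionOn' with
  | singleton p =>
    intro x _
    exact ⟨RelSeries.singleton _ x, rfl, rfl⟩
  | snoc l p' h ih =>
    intro x hx
    rw [RelSeries.last_snoc] at hx
    obtain ⟨x', hx', hgx'⟩ := hg x l.last (by rw [← hx]; exact h)
    obtain ⟨L, hlen, hlast⟩ := ih x' hgx'.symm
    refine ⟨L.snoc x (by rw [hlast]; exact hx'), ?_, ?_⟩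
    · simp [hlen]
    · simp

theorem height_le_height_of_lift {P Q : Type*} [Preorder P] [Preorder Q] (g : Q → P)
    (hg : ∀ x p', p' < g x → ∃ x', x' < x ∧ g x' = p') (x : Q) :
    Order.height (g x) ≤ Order.height x := by
  apply Order.height_le
  intro p hp
  obtain ⟨L, hlen, hlast⟩ := exists_ltSeries_lift_last g hg p x hp
  rw [← hlen]
  exact Order.length_le_height hlast.le

theorem height_eq_krullDim_of_forall_le {P : Type*} [Preorder P] (η : P) (h : ∀ y, y ≤ η) :
    (Order.height η : WithBot ℕ∞) = Order.krullDim P := by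
  apply le_antisymm (Order.height_le_krullDim η)
  rw [Order.krullDim_eq_iSup_height]
  refine iSup_le fun y => ?_
  exact_mod_cast Order.height_mono (h y)

theorem height_add_coheight_le_krullDim {P : Type*} [Preorder P] (x : P) :
    ((Order.height x + Order.coheight x : ℕ∞) : WithBot ℕ∞) ≤ Order.krullDim P := by
  haveI : Nonempty P := ⟨x⟩
  rw [Order.krullDim_eq_iSup_height_add_coheight_of_nonempty, WithBot.coe_le_coe]
  exact le_iSup (fun a : P => Order.height a + Order.coheight a) x

end OrderLift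



section GenericFibre

/-- relative transcendence degree along algebraic extensions of the bottom and top -/
theorem trdeg_rel' (D D' K L : Type u) [CommRing D] [Nontrivial D] [CommRing D'] [CommRing K]
    [CommRing L] [NoZeroDivisors L] [Algebra D D'] [FaithfulSMul D D'] [Algebra D K]
    [FaithfulSMul D K] [Algebra.IsAlgebraic D K] [Algebra D' L] [FaithfulSMul D' L]
    [Algebra.IsAlgebraic D' L] [Algebra K L] [FaithfulSMul K L] [Algebra D L]
    [IsScalarTower D D' L] [IsScalarTower D K L] :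
    Algebra.trdeg K L = Algebra.trdeg D D' := by
  have h1 := trdeg_add_eq D D' (A := L)
  rw [_root_.trdeg_eq_zero (R := D') (A := L), add_zero] at h1
  have h2 := trdeg_add_eq D K (A := L)
  rw [_root_.trdeg_eq_zero (R := D) (A := K), zero_add] at h2
  rw [h1, h2]

variable (A B : Type u) [CommRing A] [IsDomain A] [CommRing B] [IsDomain B] [Algebra A B]
  [FaithfulSMul A B] [Algebra.FiniteType A B]

theorem exists_prime_generic_fibre :
    ∃ (q₀ : Ideal B) (_ : q₀.IsPrime), q₀.comap (algebraMap A B) = ⊥ ∧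
      (q₀.height : Cardinal.{u}) = Algebra.trdeg A B := by
  have hinj : Function.Injective (algebraMap A B) := FaithfulSMul.algebraMap_injective A B
  have hTle : Algebra.algebraMapSubmonoid B (nonZeroDivisors A) ≤ nonZeroDivisors B := by
    rintro _ ⟨a, ha, rfl⟩
    apply mem_nonZeroDivisors_of_ne_zero
    intro h
    rw [← map_zero (algebraMap A B)] at h
    exact (nonZeroDivisors.ne_zero ha) (hinj h)
  haveI : IsDomain (Localization (Algebra.algebraMapSubmonoid B (nonZeroDivisors A))) :=
    IsLocalization.isDomain_localization hTle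
  haveI : Algebra.FiniteType (Localization (nonZeroDivisors A))
      (Localization (Algebra.algebraMapSubmonoid B (nonZeroDivisors A))) := by
    haveI : IsLocalization (Submonoid.map (algebraMap A B) (nonZeroDivisors A))
        (Localization (Algebra.algebraMapSubmonoid B (nonZeroDivisors A))) :=
      inferInstanceAs (IsLocalization (Algebra.algebraMapSubmonoid B (nonZeroDivisors A))
        (Localization (Algebra.algebraMapSubmonoid B (nonZeroDivisors A))))
    have h := RingHom.finiteType_localizationPreserves (algebraMap A B) (nonZeroDivisors A)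
      (Localization (nonZeroDivisors A))
      (Localization (Algebra.algebraMapSubmonoid B (nonZeroDivisors A)))
      (RingHom.finiteType_algebraMap.mpr inferInstance)
    exact h
  haveI : FaithfulSMul B (Localization (Algebra.algebraMapSubmonoid B (nonZeroDivisors A))) :=
    (faithfulSMul_iff_algebraMap_injective _ _).mpr (IsLocalization.injective _ hTle)
  haveI : Algebra.IsAlgebraic B (Localization (Algebra.algebraMapSubmonoid B (nonZeroDivisors A))) :=
    IsLocalization.isAlgebraic _ (Algebra.algebraMapSubmonoid B (nonZeroDivisors A))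
  haveI : FaithfulSMul A (Localization (nonZeroDivisors A)) :=
    (faithfulSMul_iff_algebraMap_injective _ _).mpr (IsLocalization.injective _ le_rfl)
  haveI : Algebra.IsAlgebraic A (Localization (nonZeroDivisors A)) :=
    IsLocalization.isAlgebraic _ (nonZeroDivisors A)
  letI : Field (Localization (nonZeroDivisors A)) :=
    inferInstanceAs (Field (FractionRing A))
  haveI : FaithfulSMul (Localization (nonZeroDivisors A))
      (Localization (Algebra.algebraMapSubmonoid B (nonZeroDivisors A))) :=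
    (faithfulSMul_iff_algebraMap_injective _ _).mpr (RingHom.injective _)
  have htr := trdeg_rel' A B (Localization (nonZeroDivisors A))
    (Localization (Algebra.algebraMapSubmonoid B (nonZeroDivisors A)))
  obtain ⟨n, hn, hdim⟩ := exists_dim_eq_trdeg (Localization (nonZeroDivisors A))
    (Localization (Algebra.algebraMapSubmonoid B (nonZeroDivisors A)))
  obtain ⟨m, hm⟩ := Ideal.exists_maximal
    (Localization (Algebra.algebraMapSubmonoid B (nonZeroDivisors A)))
  have hht := height_eq_dim_of_isMaximal (Localization (nonZeroDivisors A))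
    (Localization (Algebra.algebraMapSubmonoid B (nonZeroDivisors A))) m
  rw [hdim] at hht
  have hht' : m.height = (n : ℕ∞) := by exact_mod_cast hht
  refine ⟨m.comap (algebraMap B _), Ideal.comap_isPrime _ m, ?_, ?_⟩
  · rw [eq_bot_iff]
    intro a ha
    rw [Ideal.mem_bot]
    by_contra ha0
    rw [Ideal.mem_comap, Ideal.mem_comap] at ha
    have hunit : IsUnit (algebraMap B
        (Localization (Algebra.algebraMapSubmonoid B (nonZeroDivisors A))) (algebraMap A B a)) :=
      IsLocalization.map_units _ (⟨algebraMap A B a, ⟨a, mem_nonZeroDivisors_of_ne_zero ha0, rfl⟩⟩ :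
        Algebra.algebraMapSubmonoid B (nonZeroDivisors A))
    exact hm.ne_top (Ideal.eq_top_of_isUnit_mem _ ha hunit)
  · have h1 := IsLocalization.height_under (Algebra.algebraMapSubmonoid B (nonZeroDivisors A)) m
    change (m.comap (algebraMap B _)).height = _ at h1
    rw [h1, hht', ← htr, hn]
    simp

end GenericFibre



section Dim

theorem topologicalKrullDim_eq_krullDim (X : Scheme.{u}) :
    topologicalKrullDim X = Order.krullDim X :=
  topologicalKrullDim_eq_krullDim_specialization X

theorem topologicalKrullDim_eq_iSup_stalk (X : Scheme.{u}) :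
    topologicalKrullDim X = ⨆ x : X, ringKrullDim (X.presheaf.stalk x) := by
  rw [topologicalKrullDim_eq_krullDim, Order.krullDim_eq_iSup_coheight]
  congr 1
  ext x
  exact (AlgebraicGeometry.ringKrullDim_stalk_eq_coheight x).symm

theorem ringKrullDim_stalk_le (X : Scheme.{u}) (x : X) :
    ringKrullDim (X.presheaf.stalk x) ≤ topologicalKrullDim X := by
  rw [topologicalKrullDim_eq_iSup_stalk]
  exact le_iSup (fun x : X => ringKrullDim (X.presheaf.stalk x)) x

theorem exists_trdeg_eq_nat {X S : Scheme.{u}} (f : X ⟶ S) [LocallyOfFiniteType f] (x : X) :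
    ∃ n : ℕ, @Algebra.trdeg (S.residueField (f.base x)) (X.residueField x) _ _
        (f.residueFieldMap x).hom.toAlgebra = n := by
  obtain ⟨V, hV, hsV, -⟩ := exists_isAffineOpen_mem_and_subset (U := (⊤ : S.Opens)) (x := f x)
    trivial
  obtain ⟨U, hU, hxU, hUV⟩ := exists_isAffineOpen_mem_and_subset (U := f ⁻¹ᵁ V) (x := x) hsV
  letI alg : Algebra Γ(S, V) Γ(X, U) := (f.appLE V U hUV).hom.toAlgebra
  haveI : Algebra.FiniteType Γ(S, V) Γ(X, U) := LocallyOfFiniteType.finiteType_appLE f hV hU hUV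
  haveI hlo := liesOver_chart f hV hU hUV x hxU rfl
  rw [trdeg_residueFieldMap_eq_chart f hV hU hUV x hxU rfl]
  haveI : IsDomain (Γ(S, V) ⧸ (hV.primeIdealOf ⟨f x, hUV hxU⟩).asIdeal) :=
    Ideal.Quotient.isDomain _
  haveI : Algebra.FiniteType Γ(S, V) (Γ(X, U) ⧸ (hU.primeIdealOf ⟨x, hxU⟩).asIdeal) :=
    Algebra.FiniteType.of_surjective (Ideal.Quotient.mkₐ _ _) (Ideal.Quotient.mkₐ_surjective _ _)
  haveI : Algebra.FiniteType (Γ(S, V) ⧸ (hV.primeIdealOf ⟨f x, hUV hxU⟩).asIdeal)
      (Γ(X, U) ⧸ (hU.primeIdealOf ⟨x, hxU⟩).asIdeal) :=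
    Algebra.FiniteType.of_restrictScalars_finiteType Γ(S, V) _ _
  have h := trdeg_lt_aleph0_of_finiteType
    (R := Γ(S, V) ⧸ (hV.primeIdealOf ⟨f x, hUV hxU⟩).asIdeal)
    (S := Γ(X, U) ⧸ (hU.primeIdealOf ⟨x, hxU⟩).asIdeal)
  obtain ⟨n, hn⟩ := Cardinal.lt_aleph0.mp h
  exact ⟨n, hn⟩

theorem S9686_main {X Y : Scheme.{u}} [IsLocallyNoetherian Y]
    (f : X ⟶ Y) [LocallyOfFiniteType f] (E : ℕ)
    (hE : ∀ ξ : X, closure {ξ} ∈ irreducibleComponents ↥X →
      letI := (f.residueFieldMap ξ).hom.toAlgebra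
      Algebra.trdeg (Y.residueField (f.base ξ)) (X.residueField ξ) ≤ E) :
    topologicalKrullDim ↥X ≤ topologicalKrullDim ↥Y + E := by
  rw [topologicalKrullDim_eq_iSup_stalk X]
  refine iSup_le fun x => ?_
  obtain ⟨n, hn⟩ := exists_trdeg_eq_nat f x
  have h1 := S9687_main f x n E hn (fun ξ hξ _ => hE ξ hξ)
  have h2 := ringKrullDim_stalk_le Y (f.base x)
  calc ringKrullDim (X.presheaf.stalk x) ≤ ringKrullDim (X.presheaf.stalk x) + n :=
        le_add_of_nonneg_right (by positivity)
    _ ≤ ringKrullDim (Y.presheaf.stalk (f.base x)) + E := h1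
    _ ≤ topologicalKrullDim ↥Y + E := add_le_add h2 le_rfl

end Dim



section Main

theorem eq_genericPoint_of_closure_mem {X : Scheme.{u}} [IrreducibleSpace X] (ξ : X)
    (hξ : closure {ξ} ∈ irreducibleComponents ↥X) : ξ = genericPoint X := by
  have h1 : (Set.univ : Set X) ⊆ closure {ξ} :=
    hξ.2 (IrreducibleSpace.isIrreducible_univ X) (Set.subset_univ _)
  have h2 : IsGenericPoint ξ (Set.univ : Set X) := Set.Subset.antisymm (Set.subset_univ _) h1
  exact h2.eq (genericPoint_spec X)

theorem primeIdealOf_asIdeal_eq_bot {X : Scheme.{u}} [IsIntegral X] {U : X.Opens}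
    (hU : IsAffineOpen U) (y : X) (hy : y ∈ U) (h : y = genericPoint X) :
    (hU.primeIdealOf ⟨y, hy⟩).asIdeal = ⊥ := by
  subst h
  haveI : Nonempty U := ⟨⟨_, hy⟩⟩
  have h := hU.primeIdealOf_genericPoint
  rw [genericPoint_eq_bot_of_affine] at h
  exact congrArg PrimeSpectrum.asIdeal h

theorem eq_genericPoint_of_primeIdealOf_eq_bot {X : Scheme.{u}} [IsIntegral X] {U : X.Opens}
    (hU : IsAffineOpen U) (y : X) (hy : y ∈ U) (h : (hU.primeIdealOf ⟨y, hy⟩).asIdeal = ⊥) :
    y = genericPoint X := by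
  have hξ : genericPoint X ∈ U :=
    ((genericPoint_spec X).mem_open_set_iff U.isOpen).mpr ⟨y, Set.mem_univ _, hy⟩
  have h1 := primeIdealOf_asIdeal_eq_bot hU (genericPoint X) hξ rfl
  have h2 : hU.primeIdealOf ⟨y, hy⟩ = hU.primeIdealOf ⟨genericPoint X, hξ⟩ :=
    PrimeSpectrum.ext (h.trans h1.symm)
  exact congrArg Subtype.val (primeIdealOf_injective' hU h2)

theorem S9685_main {X Y : Scheme.{u}} [IsIntegral X] [IsIntegral Y]
    [IsLocallyNoetherian Y] (f : X ⟶ Y) [IsDominant f] [LocallyOfFiniteType f] (n : ℕ)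
    (hn : letI := (f.residueFieldMap (genericPoint ↥X)).hom.toAlgebra
      Algebra.trdeg (Y.residueField (f.base (genericPoint ↥X))) (X.residueField (genericPoint ↥X)) = n) :
    topologicalKrullDim ↥X ≤ topologicalKrullDim ↥Y + n ∧
      (IsClosedMap f.base → topologicalKrullDim ↥X = topologicalKrullDim ↥Y + n) := by
  have part1 : topologicalKrullDim ↥X ≤ topologicalKrullDim ↥Y + n := by
    apply S9686_main f n
    intro ξ hξ
    obtain rfl : ξ = genericPoint X := eq_genericPoint_of_closure_mem ξ hξ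
    exact hn.le
  refine ⟨part1, fun hcl => le_antisymm part1 ?_⟩
  have hη : f (genericPoint X) = genericPoint Y :=
    Groth.Agent.Lib.Helper4.CurveTop1.map_genericPoint_of_isDominant f
  obtain ⟨V, hV, hηV, -⟩ := exists_isAffineOpen_mem_and_subset (U := (⊤ : Y.Opens))
    (x := f (genericPoint X)) trivial
  obtain ⟨U, hU, hξU, hUV⟩ := exists_isAffineOpen_mem_and_subset (U := f ⁻¹ᵁ V)
    (x := genericPoint X) hηV
  letI alg : Algebra Γ(Y, V) Γ(X, U) := (f.appLE V U hUV).hom.toAlgebra
  haveI : Algebra.FiniteType Γ(Y, V) Γ(X, U) := LocallyOfFiniteType.finiteType_appLE f hV hU hUV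
  haveI : Nonempty U := ⟨⟨_, hξU⟩⟩
  haveI : Nonempty V := ⟨⟨_, hηV⟩⟩
  have hqξ := primeIdealOf_asIdeal_eq_bot hU (genericPoint X) hξU rfl
  have hpη := primeIdealOf_asIdeal_eq_bot hV (f (genericPoint X)) (hUV hξU) hη
  haveI hlo := liesOver_chart f hV hU hUV (genericPoint X) hξU rfl
  haveI : FaithfulSMul Γ(Y, V) Γ(X, U) := by
    rw [faithfulSMul_iff_algebraMap_injective, injective_iff_map_eq_zero]
    intro a ha
    have h1 : a ∈ (hV.primeIdealOf ⟨f (genericPoint X), hUV hξU⟩).asIdeal := by
      rw [Ideal.mem_of_liesOver (hU.primeIdealOf ⟨genericPoint X, hξU⟩).asIdeal, hqξ, ha]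
      exact zero_mem _
    rw [hpη] at h1
    exact h1
  have htr : Algebra.trdeg Γ(Y, V) Γ(X, U) = n := by
    rw [← hn, trdeg_residueFieldMap_eq_chart f hV hU hUV (genericPoint X) hξU rfl]
    haveI : (⊥ : Ideal Γ(X, U)).LiesOver (⊥ : Ideal Γ(Y, V)) := Ideal.bot_liesOver_bot _ _
    rw [trdeg_quot_congr _ ⊥ _ ⊥ hpη hqξ]
    symm
    refine trdeg_eq_of_ringEquiv (RingEquiv.quotientBot _) (RingEquiv.quotientBot _) ?_
    ext a
    rfl
  obtain ⟨q₀, hq₀, hq₀A, hq₀h⟩ := exists_prime_generic_fibre Γ(Y, V) Γ(X, U)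
  have hx₀U : hU.fromSpec ⟨q₀, hq₀⟩ ∈ U := fromSpec_mem hU _
  have hx₀q : hU.primeIdealOf ⟨hU.fromSpec ⟨q₀, hq₀⟩, hx₀U⟩ = ⟨q₀, hq₀⟩ :=
    primeIdealOf_fromSpec hU _
  have hfx₀ : f (hU.fromSpec ⟨q₀, hq₀⟩) = genericPoint Y := by
    apply eq_genericPoint_of_primeIdealOf_eq_bot hV _ (hUV hx₀U)
    have h1 := liesOver_chart f hV hU hUV _ hx₀U rfl
    rw [h1.over, hx₀q]
    exact hq₀A
  have hq₀n : q₀.height = (n : ℕ∞) := by
    rw [htr] at hq₀h
    apply Cardinal.ofENat_injective
    rw [hq₀h]
    simp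
  have hcoh : Order.coheight (hU.fromSpec ⟨q₀, hq₀⟩) = (n : ℕ∞) := by
    have h1 := AlgebraicGeometry.ringKrullDim_stalk_eq_coheight (hU.fromSpec ⟨q₀, hq₀⟩)
    rw [Groth.Agent.Lib.Helper4.DimFT3.ringKrullDim_stalk_eq_height hU _ hx₀U, hx₀q] at h1
    change ((q₀.height : ℕ∞) : WithBot ℕ∞) = _ at h1
    rw [hq₀n] at h1
    exact_mod_cast h1.symm
  have hlift : ∀ (x : X) (p' : Y), p' < f.base x → ∃ x', x' < x ∧ f.base x' = p' := by
    intro x p' hlt
    have h1 : f.base x ⤳ p' := hlt.le
    obtain ⟨x', hx', rfl⟩ := hcl.specializingMap h1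
    refine ⟨x', lt_of_le_not_ge hx' fun hle => ?_, rfl⟩
    have : f.base x' ⤳ f.base x := Specializes.map hle f.continuous
    exact hlt.not_ge this
  have h2 := height_le_height_of_lift f.base hlift (hU.fromSpec ⟨q₀, hq₀⟩)
  have h3 := height_eq_krullDim_of_forall_le (genericPoint Y)
    (fun y => (genericPoint_specializes y : genericPoint Y ⤳ y))
  have h4 := height_add_coheight_le_krullDim (hU.fromSpec ⟨q₀, hq₀⟩)
  rw [topologicalKrullDim_eq_krullDim X, topologicalKrullDim_eq_krullDim Y, ← h3]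
  refine le_trans ?_ h4
  rw [hcoh]
  change f.base (hU.fromSpec ⟨q₀, hq₀⟩) = genericPoint Y at hfx₀
  rw [hfx₀] at h2
  have h5 : Order.height (genericPoint Y) + (n : ℕ∞) ≤
      Order.height (hU.fromSpec ⟨q₀, hq₀⟩) + (n : ℕ∞) := add_le_add h2 le_rfl
  exact_mod_cast h5

end Main


end Groth.Agent.Lib.Helper4.DimIneq4
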