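import Mathlib
import Groth.Agent.Lib.Helper4.DimEq2
import Groth.Agent.Lib.Helper4.DimIneq4
import Groth.Agent.Lib.Helper4.DimIneq3
import Groth.Agent.Lib.Helper4.CurveTop1

/-!
# Dimension of fibres and the dimension formula for irreducible schemes (helper4)
-/

set_option backward.isDefEq.respectTransparency.types false
set_option synthInstance.maxHeartbeats 400000
set_option autoImplicit false
set_option linter.unusedSectionVars false
set_option linter.style.haveILetI false
set_option linter.unusedSimpArgs false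
universe u v w
open CategoryTheory CategoryTheory.Limits AlgebraicGeometry TopologicalSpace IsLocalRing Opposite
open Cardinal
open Groth.Agent.Lib.Helper4.DimIneq1 Groth.Agent.Lib.Helper4.DimFT2 Groth.Agent.Lib.Helper4.Catenary1
open Groth.Agent.Lib.Helper4.DimEq1 Groth.Agent.Lib.Helper4.DimIneq2 Groth.Agent.Lib.Helper4.DimEq2
open Groth.Agent.Lib.Helper4.DimIneq3 Groth.Agent.Lib.Helper4.DimIneq4
open Groth.Agent.Lib.Helper4.NormFibre2 Groth.Agent.Lib.Helper4.RadBir3 Groth.Agent.Lib.Helper4.DimFT3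

namespace Groth.Agent.Lib.Helper4.FibDim1

/-- "subtraction" of a natural number on `WithBot ℕ∞`, right adjoint to addition -/
noncomputable def wsub (c : ℕ) : WithBot ℕ∞ → WithBot ℕ∞
  | ⊥ => ⊥
  | (d : ℕ∞) => if (c : ℕ∞) ≤ d then ((d - c : ℕ∞) : WithBot ℕ∞) else ⊥

theorem add_le_iff_le_wsub (a D : WithBot ℕ∞) (c : ℕ) : a + c ≤ D ↔ a ≤ wsub c D := by
  induction a using WithBot.recBotCoe with
  | bot => simp
  | coe a =>
    induction D using WithBot.recBotCoe with
    | bot =>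
      simp only [wsub, le_bot_iff, WithBot.coe_ne_bot, iff_false]
      intro h
      have : ((a + c : ℕ∞) : WithBot ℕ∞) = ⊥ := by
        rw [← h]; push_cast; rfl
      exact WithBot.coe_ne_bot this
    | coe d =>
      have h0 : ((a : WithBot ℕ∞) + (c : WithBot ℕ∞)) = ((a + c : ℕ∞) : WithBot ℕ∞) := by
        push_cast; rfl
      rw [h0, WithBot.coe_le_coe]
      by_cases hc : (c : ℕ∞) ≤ d
      · have : wsub c (d : WithBot ℕ∞) = ((d - c : ℕ∞) : WithBot ℕ∞) := by
          simp only [wsub, hc, if_true]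
        rw [this, WithBot.coe_le_coe]
        constructor
        · intro h
          exact ENat.le_sub_of_add_le_right (ENat.natCast_ne_top c) h
        · intro h
          exact add_le_of_le_tsub_right_of_le hc h
      · have : wsub c (d : WithBot ℕ∞) = ⊥ := by
          simp only [wsub, hc, if_false]
        rw [this]
        simp only [le_bot_iff, WithBot.coe_ne_bot, iff_false]
        intro h
        exact hc (le_trans le_add_self h)

theorem iSup_add_natCast_le {ι : Sort*} (g : ι → WithBot ℕ∞) (c : ℕ) (D : WithBot ℕ∞)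
    (h : ∀ i, g i + c ≤ D) : (⨆ i, g i) + c ≤ D := by
  rw [add_le_iff_le_wsub]
  exact iSup_le fun i => (add_le_iff_le_wsub _ _ _).mp (h i)

theorem add_natCast_cancel (a b : WithBot ℕ∞) (c : ℕ) (h : a + c = b + c) : a = b := by
  have key : ∀ a b : WithBot ℕ∞, a + c ≤ b + c → a ≤ b := by
    intro a b hab
    induction a using WithBot.recBotCoe with
    | bot => exact bot_le
    | coe a =>
      induction b using WithBot.recBotCoe with
      | bot =>
        exfalso
        rw [WithBot.bot_add, le_bot_iff] at hab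
        have : ((a + c : ℕ∞) : WithBot ℕ∞) = ⊥ := by
          rw [← hab]; push_cast; rfl
        exact WithBot.coe_ne_bot this
      | coe b =>
        have h1 : ((a : WithBot ℕ∞) + (c : WithBot ℕ∞)) = ((a + c : ℕ∞) : WithBot ℕ∞) := by
          push_cast; rfl
        have h2 : ((b : WithBot ℕ∞) + (c : WithBot ℕ∞)) = ((b + c : ℕ∞) : WithBot ℕ∞) := by
          push_cast; rfl
        rw [h1, h2, WithBot.coe_le_coe] at hab
        rw [WithBot.coe_le_coe]
        exact (ENat.add_le_add_iff_right (ENat.natCast_ne_top c)).mp hab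
  exact le_antisymm (key a b h.le) (key b a h.ge)



section Ring

variable (A B : Type u) [CommRing A] [IsNoetherianRing A] [CommRing B] [Algebra A B]
  [Algebra.FiniteType A B]

theorem exists_closed_in_fibre (𝔭 : Ideal A) [h𝔭 : 𝔭.IsPrime] (q : Ideal B) [hq : q.IsPrime]
    [hql : q.LiesOver 𝔭] (m : ℕ) (hm : Algebra.trdeg (A ⧸ 𝔭) (B ⧸ q) = m) :
    ∃ (q' : Ideal B) (_ : q'.IsPrime) (_ : q'.LiesOver 𝔭), q ≤ q' ∧
      Algebra.trdeg (A ⧸ 𝔭) (B ⧸ q') = 0 ∧
      (m : WithBot ℕ∞) ≤ Order.krullDim {P : PrimeSpectrum B // P.asIdeal.under A = 𝔭} := by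
  haveI : IsDomain (A ⧸ 𝔭) := Ideal.Quotient.isDomain _
  haveI : IsDomain (B ⧸ q) := Ideal.Quotient.isDomain _
  haveI : Algebra.FiniteType A (B ⧸ q) :=
    Algebra.FiniteType.of_surjective (Ideal.Quotient.mkₐ A q) (Ideal.Quotient.mkₐ_surjective A q)
  haveI : Algebra.FiniteType (A ⧸ 𝔭) (B ⧸ q) :=
    Algebra.FiniteType.of_restrictScalars_finiteType A (A ⧸ 𝔭) (B ⧸ q)
  obtain ⟨q₀, hq₀, hq₀A, hq₀h⟩ := exists_prime_generic_fibre (A ⧸ 𝔭) (B ⧸ q)
  have hmem : ∀ (P : Ideal (B ⧸ q)), P ≤ q₀ → ∀ a : A,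
      algebraMap A B a ∈ P.comap (Ideal.Quotient.mk q) ↔ a ∈ 𝔭 := by
    intro P hP a
    rw [Ideal.mem_comap]
    constructor
    · intro h
      have h1 : algebraMap (A ⧸ 𝔭) (B ⧸ q) (Ideal.Quotient.mk 𝔭 a) ∈ q₀ := by
        rw [Ideal.Quotient.algebraMap_mk_of_liesOver]
        exact hP h
      have h2 : Ideal.Quotient.mk 𝔭 a ∈ q₀.comap (algebraMap (A ⧸ 𝔭) (B ⧸ q)) := h1
      rw [hq₀A, Ideal.mem_bot, Ideal.Quotient.eq_zero_iff_mem] at h2
      exact h2
    · intro h
      have h1 : Ideal.Quotient.mk q (algebraMap A B a) = 0 := by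
        rw [Ideal.Quotient.eq_zero_iff_mem, ← Ideal.mem_of_liesOver q 𝔭]
        exact h
      rw [h1]
      exact zero_mem _
  haveI hq'prime : (q₀.comap (Ideal.Quotient.mk q)).IsPrime := Ideal.comap_isPrime _ q₀
  haveI hq'lo : (q₀.comap (Ideal.Quotient.mk q)).LiesOver 𝔭 := by
    constructor
    ext a
    rw [Ideal.under, Ideal.mem_comap]
    exact (hmem q₀ le_rfl a).symm
  have hle : q ≤ q₀.comap (Ideal.Quotient.mk q) := by
    intro b hb
    rw [Ideal.mem_comap, Ideal.Quotient.eq_zero_iff_mem.mpr hb]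
    exact zero_mem _
  refine ⟨q₀.comap (Ideal.Quotient.mk q), hq'prime, hq'lo, hle, ?_, ?_⟩
  · have key := dim_ineq_rel A B 𝔭 (q₀.comap (Ideal.Quotient.mk q)) q hle
    have h1 : (q₀.comap (Ideal.Quotient.mk q)).map (Ideal.Quotient.mk q) = q₀ :=
      Ideal.map_comap_of_surjective _ Ideal.Quotient.mk_surjective q₀
    have h2 : 𝔭.map (Ideal.Quotient.mk (q.under A)) = ⊥ := by
      rw [← Ideal.over_def q 𝔭]
      exact Ideal.map_quotient_self 𝔭
    have h3 : Algebra.trdeg (A ⧸ q.under A) (B ⧸ q) = Algebra.trdeg (A ⧸ 𝔭) (B ⧸ q) := by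
      haveI : q.LiesOver (q.under A) := ⟨rfl⟩
      exact trdeg_quot_congr _ _ _ _ (Ideal.over_def q 𝔭).symm rfl
    rw [h1, h2, h3, hq₀h, hm] at key
    have h4 : (⊥ : Ideal (A ⧸ q.under A)).height = 0 := by
      haveI : (q.under A).IsPrime := Ideal.comap_isPrime _ q
      haveI : IsDomain (A ⧸ q.under A) := Ideal.Quotient.isDomain _
      rw [Ideal.height_eq_zero_iff_eq_bot]
    rw [h4] at key
    simp only [Cardinal.ofENat_zero, zero_add] at key
    have h5 : Algebra.trdeg (A ⧸ 𝔭) (B ⧸ q₀.comap (Ideal.Quotient.mk q)) + (m : Cardinal.{u}) ≤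
        0 + (m : Cardinal.{u}) := by
      rw [zero_add, add_comm]
      exact key
    rw [Cardinal.add_nat_le_add_nat_iff] at h5
    exact le_antisymm h5 zero_le
  · have hφ : ∀ P : Set.Iic (⟨q₀, hq₀⟩ : PrimeSpectrum (B ⧸ q)),
        (PrimeSpectrum.comap (Ideal.Quotient.mk q) P.1).asIdeal.under A = 𝔭 := by
      intro P
      ext a
      rw [Ideal.under, Ideal.mem_comap]
      exact hmem P.1.asIdeal P.2 a
    have hmono : StrictMono (fun P : Set.Iic (⟨q₀, hq₀⟩ : PrimeSpectrum (B ⧸ q)) =>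
        (⟨PrimeSpectrum.comap (Ideal.Quotient.mk q) P.1, hφ P⟩ :
          {P : PrimeSpectrum B // P.asIdeal.under A = 𝔭})) := fun x y hxy =>
      RingHom.strictMono_comap_of_surjective (f := Ideal.Quotient.mk q)
        Ideal.Quotient.mk_surjective hxy
    have h1 := Order.krullDim_le_of_strictMono _ hmono
    rw [← Order.height_eq_krullDim_Iic, ← PrimeSpectrum.height_eq_orderHeight] at h1
    have h2 : q₀.height = (m : ℕ∞) := by
      apply Cardinal.ofENat_injective
      rw [hq₀h, hm]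
      simp
    change ((q₀.height : ℕ∞) : WithBot ℕ∞) ≤ _ at h1
    rw [h2] at h1
    exact h1

end Ring



section Fibre

variable {X Y : Scheme.{u}} (f : X ⟶ Y)

theorem fiberι_mem (y : Y) (w : f.fiber y) : f (f.fiberι y w) = y := by
  have h : f.fiberι y w ∈ Set.range (f.fiberι y) := ⟨w, rfl⟩
  rw [f.range_fiberι y] at h
  exact h

theorem fiberι_le_iff (y : Y) (w w' : f.fiber y) :
    f.fiberι y w ≤ f.fiberι y w' ↔ w ≤ w' :=
  (f.fiberι y).isEmbedding.isInducing.specializes_iff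

theorem topologicalKrullDim_fiber_eq (y : Y) :
    topologicalKrullDim (f.fiber y) = Order.krullDim {z : X // f z = y} := by
  rw [topologicalKrullDim_eq_krullDim (f.fiber y)]
  apply le_antisymm
  · refine Order.krullDim_le_of_strictMono
      (fun w : f.fiber y => (⟨f.fiberι y w, fiberι_mem f y w⟩ : {z : X // f z = y})) ?_
    intro w w' hlt
    rw [lt_iff_le_not_ge] at hlt ⊢
    refine ⟨(fiberι_le_iff f y w w').mpr hlt.1, fun h => hlt.2 ((fiberι_le_iff f y w' w).mp h)⟩
  · refine Order.krullDim_le_of_strictMono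
      (fun z : {z : X // f z = y} => (f.fiberHomeo y).symm ⟨z.1, z.2⟩) ?_
    intro z z' hlt
    rw [lt_iff_le_not_ge] at hlt ⊢
    have h1 : ∀ z : {z : X // f z = y},
        f.fiberι y ((f.fiberHomeo y).symm ⟨z.1, z.2⟩) = z.1 := fun z =>
      f.fiberι_fiberHomeo_symm y ⟨z.1, z.2⟩
    refine ⟨?_, fun h => hlt.2 ?_⟩
    · rw [← fiberι_le_iff f y, h1, h1]
      exact hlt.1
    · rw [← fiberι_le_iff f y, h1, h1] at h
      exact h

end Fibre



section Fibre

variable {X Y : Scheme.{u}} (f : X ⟶ Y) [LocallyOfFiniteType f]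

/-- the transcendence degree of the residue field extension at `x`, as a natural number -/
noncomputable def tr (x : X) : ℕ := (exists_trdeg_eq_nat f x).choose

theorem tr_spec (x : X) :
    @Algebra.trdeg (Y.residueField (f.base x)) (X.residueField x) _ _
        (f.residueFieldMap x).hom.toAlgebra = (tr f x : Cardinal.{u}) :=
  (exists_trdeg_eq_nat f x).choose_spec

theorem tr_eq_of_trdeg_eq (x : X) (n : ℕ)
    (h : @Algebra.trdeg (Y.residueField (f.base x)) (X.residueField x) _ _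
        (f.residueFieldMap x).hom.toAlgebra = (n : Cardinal.{u})) : tr f x = n := by
  rw [tr_spec f x] at h
  exact_mod_cast h

theorem tr_lt_of_specializes (x x' : X) (hsp : x ⤳ x') (hne : x ≠ x') (hfx : f x = f x') :
    tr f x' < tr f x := by
  have h := S9381_main f x x' hsp hne hfx
  rw [tr_spec f x, tr_spec f x'] at h
  exact_mod_cast h

theorem krullDim_fibre_le (y : Y) (E : ℕ) (hE : ∀ z : X, f z = y → tr f z ≤ E) :
    Order.krullDim {z : X // f z = y} ≤ E := by
  unfold Order.krullDim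
  refine iSup_le fun p => ?_
  have key : ∀ i : Fin (p.length + 1), (i : ℕ) ≤ tr f (p i).1 := by
    intro i
    induction i using Fin.induction with
    | zero => simp
    | succ i ih =>
      have hlt : p i.castSucc < p i.succ := p.step i
      rw [lt_iff_le_not_ge] at hlt
      have hsp : (p i.succ).1 ⤳ (p i.castSucc).1 := hlt.1
      have hne : (p i.succ).1 ≠ (p i.castSucc).1 := by
        intro h
        apply hlt.2
        change (p i.castSucc).1 ⤳ (p i.succ).1
        rw [h]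
      have h1 := tr_lt_of_specializes f _ _ hsp hne ((p i.succ).2.trans (p i.castSucc).2.symm)
      rw [Fin.val_succ]
      have : (i.castSucc : ℕ) = (i : ℕ) := rfl
      omega
  have h1 := key (Fin.last _)
  have h2 := hE (p (Fin.last _)).1 (p (Fin.last _)).2
  rw [Fin.val_last] at h1
  exact_mod_cast h1.trans h2

end Fibre



theorem height_map_mk_of_forall_le {T : Type u} [CommRing T] (Q q : Ideal T) [hQ : Q.IsPrime]
    [hq : q.IsPrime] (hbot : ∀ P : PrimeSpectrum T, Q ≤ P.asIdeal) :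
    (q.map (Ideal.Quotient.mk Q)).height = q.height := by
  rw [← height_Ici_eq Q q (hbot ⟨q, hq⟩)]
  have h0 : q.height = Order.height (⟨q, hq⟩ : PrimeSpectrum T) :=
    (⟨q, hq⟩ : PrimeSpectrum T).height_eq_orderHeight
  rw [h0]
  apply le_antisymm
  · exact Order.height_le_height_apply_of_strictMono
      (fun x : Set.Ici (⟨Q, hQ⟩ : PrimeSpectrum T) => x.1) (fun _ _ h => h) _
  · exact Order.height_le_height_apply_of_strictMono
      (fun x : PrimeSpectrum T => (⟨x, hbot x⟩ : Set.Ici (⟨Q, hQ⟩ : PrimeSpectrum T)))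
      (fun _ _ h => h) ⟨q, hq⟩

theorem primeIdealOf_genericPoint_le {X : Scheme.{u}} [IrreducibleSpace X] {U : X.Opens}
    (hU : IsAffineOpen U) (hξ : genericPoint X ∈ U) (P : PrimeSpectrum Γ(X, U)) :
    (hU.primeIdealOf ⟨genericPoint X, hξ⟩).asIdeal ≤ P.asIdeal := by
  have h1 : genericPoint X ⤳ hU.fromSpec P := genericPoint_specializes _
  rw [specializes_iff_primeIdealOf_le hU ⟨_, hξ⟩ ⟨_, fromSpec_mem hU P⟩,
    primeIdealOf_fromSpec] at h1
  exact h1

theorem genericPoint_mem_of_mem {X : Scheme.{u}} [IrreducibleSpace X] (U : X.Opens) (x : X)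
    (hx : x ∈ U) : genericPoint X ∈ U :=
  ((genericPoint_spec X).mem_open_set_iff U.isOpen).mpr ⟨x, Set.mem_univ _, hx⟩



section Fibre

variable {X Y : Scheme.{u}} (f : X ⟶ Y) [LocallyOfFiniteType f]

/-- chart computation of `tr` -/
theorem tr_chart {V : Y.Opens} (hV : IsAffineOpen V) {U : X.Opens}
    (hU : IsAffineOpen U) (e : U ≤ f ⁻¹ᵁ V) (x : X) (hx : x ∈ U) [Algebra Γ(Y, V) Γ(X, U)]
    (halg : algebraMap Γ(Y, V) Γ(X, U) = (f.appLE V U e).hom)
    [hlo : (hU.primeIdealOf ⟨x, hx⟩).asIdeal.LiesOver (hV.primeIdealOf ⟨f x, e hx⟩).asIdeal] :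
    Algebra.trdeg (Γ(Y, V) ⧸ (hV.primeIdealOf ⟨f x, e hx⟩).asIdeal)
        (Γ(X, U) ⧸ (hU.primeIdealOf ⟨x, hx⟩).asIdeal) = (tr f x : Cardinal.{u}) := by
  rw [← tr_spec f x, trdeg_residueFieldMap_eq_chart f hV hU e x hx halg]

theorem exists_closed_pt [IsLocallyNoetherian Y] (x : X) :
    ∃ x' : X, x ⤳ x' ∧ f x' = f x ∧ tr f x' = 0 ∧
      ((tr f x : ℕ) : WithBot ℕ∞) ≤ Order.krullDim {z : X // f z = f x} := by
  obtain ⟨V, hV, hsV, -⟩ := exists_isAffineOpen_mem_and_subset (U := (⊤ : Y.Opens)) (x := f x)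
    trivial
  obtain ⟨U, hU, hxU, hUV⟩ := exists_isAffineOpen_mem_and_subset (U := f ⁻¹ᵁ V) (x := x) hsV
  letI alg : Algebra Γ(Y, V) Γ(X, U) := (f.appLE V U hUV).hom.toAlgebra
  haveI : IsNoetherianRing Γ(Y, V) := IsLocallyNoetherian.component_noetherian ⟨V, hV⟩
  haveI : Algebra.FiniteType Γ(Y, V) Γ(X, U) := LocallyOfFiniteType.finiteType_appLE f hV hU hUV
  haveI hlo := liesOver_chart f hV hU hUV x hxU rfl
  obtain ⟨q', hq', hq'lo, hle, htr0, hdim⟩ := exists_closed_in_fibre Γ(Y, V) Γ(X, U)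
    (hV.primeIdealOf ⟨f x, hUV hxU⟩).asIdeal (hU.primeIdealOf ⟨x, hxU⟩).asIdeal (tr f x)
    (tr_chart f hV hU hUV x hxU rfl)
  -- points of `U` over `f x`
  have hfib : ∀ P : PrimeSpectrum Γ(X, U),
      P.asIdeal.under Γ(Y, V) = (hV.primeIdealOf ⟨f x, hUV hxU⟩).asIdeal →
      f (hU.fromSpec P) = f x := by
    intro P hP
    have hzU : hU.fromSpec P ∈ U := fromSpec_mem hU P
    have h1 := liesOver_chart f hV hU hUV _ hzU rfl
    have h2 : hV.primeIdealOf ⟨f (hU.fromSpec P), hUV hzU⟩ = hV.primeIdealOf ⟨f x, hUV hxU⟩ := by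
      apply PrimeSpectrum.ext
      rw [h1.over, primeIdealOf_fromSpec hU P]
      exact hP
    exact congrArg Subtype.val (primeIdealOf_injective' hV h2)
  have hx'U : hU.fromSpec ⟨q', hq'⟩ ∈ U := fromSpec_mem hU _
  have hx'q : hU.primeIdealOf ⟨hU.fromSpec ⟨q', hq'⟩, hx'U⟩ = ⟨q', hq'⟩ :=
    primeIdealOf_fromSpec hU _
  have hfx' : f (hU.fromSpec ⟨q', hq'⟩) = f x := hfib ⟨q', hq'⟩ hq'lo.over.symm
  refine ⟨hU.fromSpec ⟨q', hq'⟩, ?_, hfx', ?_, ?_⟩
  · rw [specializes_iff_primeIdealOf_le hU ⟨x, hxU⟩ ⟨_, hx'U⟩, hx'q]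
    exact hle
  · apply tr_eq_of_trdeg_eq
    haveI hlo' := liesOver_chart f hV hU hUV _ hx'U rfl
    rw [trdeg_residueFieldMap_eq_chart f hV hU hUV _ hx'U rfl]
    refine (trdeg_quot_congr _ _ _ _ ?_ ?_).trans (htr0.trans Nat.cast_zero.symm)
    · congr 2
      exact Subtype.ext hfx'
    · rw [hx'q]
  · refine hdim.trans ?_
    rw [← Order.krullDim_orderDual (α := {z : X // f z = f x})]
    refine Order.krullDim_le_of_strictMono
      (fun P : {P : PrimeSpectrum Γ(X, U) //
          P.asIdeal.under Γ(Y, V) = (hV.primeIdealOf ⟨f x, hUV hxU⟩).asIdeal} =>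
        OrderDual.toDual (⟨hU.fromSpec P.1, hfib P.1 P.2⟩ : {z : X // f z = f x})) ?_
    intro P P' hlt
    have hiff : ∀ P₁ P₂ : PrimeSpectrum Γ(X, U), hU.fromSpec P₁ ⤳ hU.fromSpec P₂ ↔ P₁ ≤ P₂ := by
      intro P₁ P₂
      rw [specializes_iff_primeIdealOf_le hU ⟨_, fromSpec_mem hU P₁⟩ ⟨_, fromSpec_mem hU P₂⟩,
        primeIdealOf_fromSpec, primeIdealOf_fromSpec]
      rfl
    rw [lt_iff_le_not_ge] at hlt
    rw [OrderDual.toDual_lt_toDual, lt_iff_le_not_ge]
    refine ⟨(hiff P.1 P'.1).mpr hlt.1, fun h => hlt.2 ((hiff P'.1 P.1).mp h)⟩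

end Fibre



section Fibre

variable {X Y : Scheme.{u}} (f : X ⟶ Y) [LocallyOfFiniteType f]

theorem stalk_dim_eq [IsLocallyNoetherian Y] [IrreducibleSpace X] [IrreducibleSpace Y]
    (hη : f (genericPoint X) = genericPoint Y)
    (hUC : ∀ y : Y, CAlg.IsUniversallyCatenary (Y.presheaf.stalk y)) (x : X) :
    ringKrullDim (X.presheaf.stalk x) + (tr f x : WithBot ℕ∞) =
      ringKrullDim (Y.presheaf.stalk (f x)) + (tr f (genericPoint X) : WithBot ℕ∞) := by
  obtain ⟨V, hV, hsV, -⟩ := exists_isAffineOpen_mem_and_subset (U := (⊤ : Y.Opens)) (x := f x)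
    trivial
  obtain ⟨U, hU, hxU, hUV⟩ := exists_isAffineOpen_mem_and_subset (U := f ⁻¹ᵁ V) (x := x) hsV
  letI alg : Algebra Γ(Y, V) Γ(X, U) := (f.appLE V U hUV).hom.toAlgebra
  haveI : IsNoetherianRing Γ(Y, V) := IsLocallyNoetherian.component_noetherian ⟨V, hV⟩
  haveI : Algebra.FiniteType Γ(Y, V) Γ(X, U) := LocallyOfFiniteType.finiteType_appLE f hV hU hUV
  haveI : IsNoetherianRing Γ(X, U) := Algebra.FiniteType.isNoetherianRing Γ(Y, V) Γ(X, U)
  have hξU : genericPoint X ∈ U := genericPoint_mem_of_mem U x hxU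
  haveI hlo := liesOver_chart f hV hU hUV x hxU rfl
  haveI hloξ := liesOver_chart f hV hU hUV (genericPoint X) hξU rfl
  have hQq : (hU.primeIdealOf ⟨genericPoint X, hξU⟩).asIdeal ≤ (hU.primeIdealOf ⟨x, hxU⟩).asIdeal :=
    primeIdealOf_genericPoint_le hU hξU _
  have hUCA : UC Γ(Y, V) := uc_sections hUC hV
  have key := dim_eq_rel Γ(Y, V) Γ(X, U) hUCA (hV.primeIdealOf ⟨f x, hUV hxU⟩).asIdeal
    (hU.primeIdealOf ⟨x, hxU⟩).asIdeal (hU.primeIdealOf ⟨genericPoint X, hξU⟩).asIdeal hQq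
  rw [tr_chart f hV hU hUV x hxU rfl] at key
  have h1 : Algebra.trdeg
      (Γ(Y, V) ⧸ (hU.primeIdealOf ⟨genericPoint X, hξU⟩).asIdeal.under Γ(Y, V))
      (Γ(X, U) ⧸ (hU.primeIdealOf ⟨genericPoint X, hξU⟩).asIdeal) =
      (tr f (genericPoint X) : Cardinal.{u}) := by
    rw [← tr_chart f hV hU hUV (genericPoint X) hξU rfl]
    exact trdeg_quot_congr _ _ _ _ hloξ.over.symm rfl
  rw [h1, height_map_mk_of_forall_le _ _ (primeIdealOf_genericPoint_le hU hξU)] at key
  -- the base side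
  have hηV : genericPoint Y ∈ V := genericPoint_mem_of_mem V (f x) hsV
  have h2 : (hU.primeIdealOf ⟨genericPoint X, hξU⟩).asIdeal.under Γ(Y, V) =
      (hV.primeIdealOf ⟨genericPoint Y, hηV⟩).asIdeal := by
    rw [← hloξ.over]
    congr 2
    exact Subtype.ext hη
  have hbot : ∀ P : PrimeSpectrum Γ(Y, V),
      (hU.primeIdealOf ⟨genericPoint X, hξU⟩).asIdeal.under Γ(Y, V) ≤ P.asIdeal := by
    intro P
    rw [h2]
    exact primeIdealOf_genericPoint_le hV hηV P
  haveI : ((hU.primeIdealOf ⟨genericPoint X, hξU⟩).asIdeal.under Γ(Y, V)).IsPrime :=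
    Ideal.comap_isPrime _ _
  rw [height_map_mk_of_forall_le _ _ hbot] at key
  rw [ringKrullDim_stalk_eq_height hU x hxU, ringKrullDim_stalk_eq_height hV (f x) (hUV hxU)]
  obtain ⟨c₀, hc₀⟩ := ENat.ne_top_iff_exists.mp (Ideal.height_ne_top
    (I := (hU.primeIdealOf ⟨x, hxU⟩).asIdeal) (Ideal.IsPrime.ne_top inferInstance))
  obtain ⟨m₀, hm₀⟩ := ENat.ne_top_iff_exists.mp (Ideal.height_ne_top
    (I := (hV.primeIdealOf ⟨f x, hUV hxU⟩).asIdeal) (Ideal.IsPrime.ne_top inferInstance))
  rw [← hc₀, ← hm₀] at key ⊢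
  have key' : c₀ + tr f x = m₀ + tr f (genericPoint X) := by
    have : ((c₀ + tr f x : ℕ) : Cardinal.{u}) = ((m₀ + tr f (genericPoint X) : ℕ) : Cardinal.{u}) := by
      push_cast
      simpa using key
    exact_mod_cast this
  have : ((c₀ + tr f x : ℕ) : WithBot ℕ∞) = ((m₀ + tr f (genericPoint X) : ℕ) : WithBot ℕ∞) := by
    rw [key']
  push_cast at this
  exact this

end Fibre



section Fibre

variable {X Y : Scheme.{u}} (f : X ⟶ Y) [LocallyOfFiniteType f]

theorem dim_eq_iSup_add [IsLocallyNoetherian Y] [IrreducibleSpace X] [IrreducibleSpace Y]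
    (hη : f (genericPoint X) = genericPoint Y)
    (hUC : ∀ y : Y, CAlg.IsUniversallyCatenary (Y.presheaf.stalk y)) :
    topologicalKrullDim X =
      (⨆ y ∈ Set.range f.base, ringKrullDim (Y.presheaf.stalk y)) +
        (tr f (genericPoint X) : WithBot ℕ∞) := by
  rw [topologicalKrullDim_eq_iSup_stalk X]
  apply le_antisymm
  · refine iSup_le fun x => ?_
    calc ringKrullDim (X.presheaf.stalk x)
        ≤ ringKrullDim (X.presheaf.stalk x) + (tr f x : WithBot ℕ∞) :=
          le_add_of_nonneg_right (by positivity)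
      _ = ringKrullDim (Y.presheaf.stalk (f x)) + (tr f (genericPoint X) : WithBot ℕ∞) :=
          stalk_dim_eq f hη hUC x
      _ ≤ _ := add_le_add (le_iSup₂_of_le (f x) ⟨x, rfl⟩ le_rfl) le_rfl
  · apply iSup_add_natCast_le
    intro y
    apply iSup_add_natCast_le
    rintro ⟨x, rfl⟩
    obtain ⟨x', -, hfx', htr0, -⟩ := exists_closed_pt f x
    have h1 := stalk_dim_eq f hη hUC x'
    rw [htr0, hfx'] at h1
    simp only [Nat.cast_zero, add_zero] at h1
    change ringKrullDim (Y.presheaf.stalk (f x)) + _ ≤ _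
    rw [← h1]
    exact le_iSup (fun x : X => ringKrullDim (X.presheaf.stalk x)) x'

theorem dim_generic_fibre [IsLocallyNoetherian Y] [IrreducibleSpace X] (y : Y)
    (hy : f (genericPoint X) = y) :
    topologicalKrullDim (f.fiber y) = (tr f (genericPoint X) : WithBot ℕ∞) := by
  subst hy
  rw [topologicalKrullDim_fiber_eq]
  apply le_antisymm
  · apply krullDim_fibre_le
    intro z hz
    by_cases hne : genericPoint X = z
    · rw [hne]
    · exact (tr_lt_of_specializes f (genericPoint X) z (genericPoint_specializes z) hne hz.symm).le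
  · obtain ⟨-, -, -, -, h⟩ := exists_closed_pt f (genericPoint X)
    exact h

theorem dim_eq_of_surjective [IsLocallyNoetherian Y] [IrreducibleSpace X]
    (hUC : ∀ y : Y, CAlg.IsUniversallyCatenary (Y.presheaf.stalk y))
    (hsurj : Function.Surjective f.base) :
    topologicalKrullDim X = topologicalKrullDim Y + (tr f (genericPoint X) : WithBot ℕ∞) := by
  haveI : IrreducibleSpace Y := hsurj.irreducibleSpace f.continuous
  haveI : IsDominant f := ⟨hsurj.denseRange⟩
  have hη : f (genericPoint X) = genericPoint Y :=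
    Groth.Agent.Lib.Helper4.CurveTop1.map_genericPoint_of_isDominant f
  rw [dim_eq_iSup_add f hη hUC, topologicalKrullDim_eq_iSup_stalk Y]
  congr 1
  exact iSup_congr fun y => iSup_pos (hsurj y)

theorem S4690_main {X Y : Scheme.{u}} (f : X ⟶ Y) [IsLocallyNoetherian Y]
    [LocallyOfFiniteType f] [IrreducibleSpace X] [IrreducibleSpace Y] (hf : DenseRange f.base) :
    topologicalKrullDim X ≤ topologicalKrullDim Y + topologicalKrullDim (f.fiber (genericPoint Y)) ∧
      ((∀ y : Y, CAlg.IsUniversallyCatenary (Y.presheaf.stalk y)) →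
        (topologicalKrullDim X = topologicalKrullDim Y + topologicalKrullDim (f.fiber (genericPoint Y)) ↔
          topologicalKrullDim Y = ⨆ y ∈ Set.range f.base, ringKrullDim (Y.presheaf.stalk y))) := by
  haveI : IsDominant f := ⟨hf⟩
  have hη : f (genericPoint X) = genericPoint Y :=
    Groth.Agent.Lib.Helper4.CurveTop1.map_genericPoint_of_isDominant f
  rw [dim_generic_fibre f (genericPoint Y) hη]
  refine ⟨?_, fun hUC => ?_⟩
  · apply S9686_main f (tr f (genericPoint X))
    intro ξ hξ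
    obtain rfl : ξ = genericPoint X := eq_genericPoint_of_closure_mem ξ hξ
    exact (tr_spec f _).le
  · rw [dim_eq_iSup_add f hη hUC]
    constructor
    · intro h
      exact (add_natCast_cancel _ _ _ h).symm
    · intro h
      rw [← h]

theorem nonempty_fiber_of_le (y : Y) (n : ℕ)
    (h : (n : WithBot ℕ∞) ≤ topologicalKrullDim (f.fiber y)) : ∃ x : X, f x = y := by
  by_contra hne
  push Not at hne
  haveI : IsEmpty {z : X // f z = y} := ⟨fun z => hne z.1 z.2⟩
  rw [topologicalKrullDim_fiber_eq, Order.krullDim_eq_bot, le_bot_iff] at h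
  exact WithBot.natCast_ne_bot n h

theorem S4692_main {X Y : Scheme.{u}} (f : X ⟶ Y) [IsLocallyNoetherian Y]
    [LocallyOfFiniteType f] [IrreducibleSpace X]
    (hY : ∀ y : Y, CAlg.IsUniversallyCatenary (Y.presheaf.stalk y))
    (n : ℕ) :
    ((∀ y : Y, (n : WithBot ℕ∞) ≤ topologicalKrullDim (f.fiber y)) →
        topologicalKrullDim Y + n ≤ topologicalKrullDim X) ∧
      ((∀ y : Y, topologicalKrullDim (f.fiber y) = n) →
        topologicalKrullDim X = topologicalKrullDim Y + n) := by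
  constructor
  · intro h
    have hsurj : Function.Surjective f.base := fun y => nonempty_fiber_of_le f y n (h y)
    rw [dim_eq_of_surjective f hY hsurj]
    have h1 := h (f (genericPoint X))
    rw [dim_generic_fibre f _ rfl] at h1
    exact add_le_add le_rfl h1
  · intro h
    have hsurj : Function.Surjective f.base := fun y => nonempty_fiber_of_le f y n (h y).ge
    rw [dim_eq_of_surjective f hY hsurj]
    have h1 := h (f (genericPoint X))
    rw [dim_generic_fibre f _ rfl] at h1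
    rw [h1]

end Fibre


end Groth.Agent.Lib.Helper4.FibDim1
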