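import Mathlib
import Groth.Agent.Lib.Helper4.FibDim1
import Groth.Agent.Lib.Helper4.FibreStalkDim1

/-!
# The fibre as an ordered set; stalk dimension of the fibre; EGA IV 13.3.3 (a) iff (b) (helper4)
-/

set_option backward.isDefEq.respectTransparency.types false
set_option synthInstance.maxHeartbeats 400000
set_option autoImplicit false
set_option linter.unusedSectionVars false
set_option linter.style.haveILetI false
set_option linter.unusedSimpArgs false
universe u v w
open CategoryTheory CategoryTheory.Limits AlgebraicGeometry TopologicalSpace IsLocalRing Opposite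
open Cardinal
open Groth.Agent.Lib.Helper4.DimIneq4 Groth.Agent.Lib.Helper4.FibDim1

namespace Groth.Agent.Lib.Helper4.FibDim2

section OrderA

theorem coheight_add_length_le {α : Type*} [Preorder α] (p : LTSeries α) :
    Order.coheight p.last + p.length ≤ Order.coheight p.head := by
  induction p using RelSeries.inductionOn with
  | singleton x => simp
  | cons p x hx ih =>
    have h1 : Order.coheight p.head + 1 ≤ Order.coheight x := Order.coheight_add_one_le hx
    rw [RelSeries.last_cons, RelSeries.head_cons, RelSeries.cons_length]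
    push_cast
    calc Order.coheight p.last + (↑p.length + 1) = (Order.coheight p.last + ↑p.length) + 1 := by
          rw [add_assoc]
      _ ≤ Order.coheight p.head + 1 := add_le_add ih le_rfl
      _ ≤ Order.coheight x := h1

theorem exists_nat_eq_of_ne {a : WithBot ℕ∞} (h1 : a ≠ ⊥) (h2 : a ≠ ⊤) : ∃ m : ℕ, a = m := by
  induction a using WithBot.recBotCoe with
  | bot => exact absurd rfl h1
  | coe a =>
    induction a using ENat.recTopCoe with
    | top => exact absurd rfl h2
    | coe n => exact ⟨n, rfl⟩

end OrderA

section Fib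

variable {X Y : Scheme.{u}} (f : X ⟶ Y)

/-- the fibre as an ordered set is the set of points over `y` with the induced order -/
noncomputable def fibOrderIso (y : Y) : f.fiber y ≃o {z : X // f z = y} where
  toFun w := ⟨f.fiberι y w, fiberι_mem f y w⟩
  invFun z := (f.fiberHomeo y).symm ⟨z.1, z.2⟩
  left_inv w := by
    have h : (⟨f.fiberι y w, fiberι_mem f y w⟩ : f ⁻¹' {y}) = f.fiberHomeo y w := Subtype.ext rfl
    change (f.fiberHomeo y).symm ⟨f.fiberι y w, fiberι_mem f y w⟩ = w
    rw [h]
    exact (f.fiberHomeo y).symm_apply_apply w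
  right_inv z := Subtype.ext (f.fiberι_fiberHomeo_symm y ⟨z.1, z.2⟩)
  map_rel_iff' := by
    intro w w'
    exact fiberι_le_iff f y w w'

theorem fibOrderIso_asFiber (x : X) : fibOrderIso f (f x) (f.asFiber x) = ⟨x, rfl⟩ :=
  Subtype.ext (f.fiberι_asFiber x)

theorem stalk_fiber_dim (x : X) :
    ringKrullDim ((f.fiber (f x)).presheaf.stalk (f.asFiber x)) =
      (Order.coheight (⟨x, rfl⟩ : {z : X // f z = f x}) : WithBot ℕ∞) := by
  rw [AlgebraicGeometry.ringKrullDim_stalk_eq_coheight (f.asFiber x),
    ← Order.coheight_orderIso (fibOrderIso f (f x)) (f.asFiber x), fibOrderIso_asFiber]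

theorem exists_isMax_ge (F : Scheme.{u}) (w : F) : ∃ w' : F, w ≤ w' ∧ IsMax w' := by
  have hirr : IsIrreducible (irreducibleComponent w) := isIrreducible_irreducibleComponent
  have hcl : IsClosed (irreducibleComponent w) := isClosed_irreducibleComponent
  have hgen : IsGenericPoint hirr.genericPoint (irreducibleComponent w) :=
    hirr.isGenericPoint_genericPoint hcl
  refine ⟨hirr.genericPoint, ?_, ?_⟩
  · change hirr.genericPoint ⤳ w
    exact hgen.specializes mem_irreducibleComponent
  · intro b hb
    change hirr.genericPoint ⤳ b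
    have hb' : b ⤳ hirr.genericPoint := hb
    -- closure {b} is irreducible and contains the component
    have h1 : irreducibleComponent w ⊆ closure {b} := by
      rw [← hgen.def]
      exact closure_minimal (Set.singleton_subset_iff.mpr hb'.mem_closure) isClosed_closure
    have h2 : closure {b} ⊆ irreducibleComponent w :=
      (irreducibleComponent_mem_irreducibleComponents w).2
        (isIrreducible_singleton.closure) h1
    apply hgen.specializes
    exact h2 (subset_closure (Set.mem_singleton b))

theorem exists_isMax_ge_fib (y : Y) (z : {z : X // f z = y}) :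
    ∃ z' : {z : X // f z = y}, z ≤ z' ∧ IsMax z' := by
  obtain ⟨w', hw, hmax⟩ := exists_isMax_ge (f.fiber y) ((fibOrderIso f y).symm z)
  refine ⟨fibOrderIso f y w', ?_, ?_⟩
  · have := (fibOrderIso f y).monotone hw
    rwa [OrderIso.apply_symm_apply] at this
  · intro b hb
    have h1 : w' ≤ (fibOrderIso f y).symm b := by
      have := (fibOrderIso f y).symm.monotone hb
      rwa [OrderIso.symm_apply_apply] at this
    have h2 := hmax h1
    have := (fibOrderIso f y).monotone h2
    rwa [OrderIso.apply_symm_apply] at this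

end Fib



section Fib

variable {X Y : Scheme.{u}} (f : X ⟶ Y)

/-- the stalk dimension on the base is a natural number -/
theorem exists_stalk_dim_nat [IsLocallyNoetherian Y] (y : Y) :
    ∃ m : ℕ, ringKrullDim (Y.presheaf.stalk y) = m :=
  exists_nat_eq_of_ne ringKrullDim_ne_bot ringKrullDim_ne_top

/-- if the maximal points of the fibre through `x` have stalk dimension equal to that of the
base, then the fibre dimension formula holds at `x` -/
theorem stalk_dim_ge_of_max [IsLocallyNoetherian Y] [LocallyOfFiniteType f] (x : X)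
    (hb : ∀ z : X, f z = f x → IsMax (⟨z, rfl⟩ : {z' : X // f z' = f z}) →
      ringKrullDim (X.presheaf.stalk z) = ringKrullDim (Y.presheaf.stalk (f z))) :
    ringKrullDim (Y.presheaf.stalk (f x)) +
      ringKrullDim ((f.fiber (f x)).presheaf.stalk (f.asFiber x)) ≤
      ringKrullDim (X.presheaf.stalk x) := by
  obtain ⟨m, hm⟩ := exists_stalk_dim_nat (Y := Y) (f x)
  rw [stalk_fiber_dim, hm, AlgebraicGeometry.ringKrullDim_stalk_eq_coheight]
  have key : ∀ p : LTSeries {z : X // f z = f x}, p.head = ⟨x, rfl⟩ →
      (p.length : ℕ∞) + (m : ℕ∞) ≤ Order.coheight x := by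
    intro p hp
    -- extend to a maximal point of the fibre
    obtain ⟨z', hz', hmax⟩ := exists_isMax_ge_fib f (f x) p.last
    have hz'f : f z'.1 = f x := z'.2
    have hmax' : IsMax (⟨z'.1, rfl⟩ : {z'' : X // f z'' = f z'.1}) := by
      intro b hb'
      have hbf : f b.1 = f x := b.2.trans hz'f
      have h1 : z' ≤ (⟨b.1, hbf⟩ : {z : X // f z = f x}) := hb'
      exact hmax h1
    have h1 := hb z'.1 hz'f hmax'
    have e1 : ∀ a b : Y, a = b →
        ringKrullDim (Y.presheaf.stalk a) = ringKrullDim (Y.presheaf.stalk b) := by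
      intro a b h; subst h; rfl
    rw [e1 _ _ hz'f, hm, AlgebraicGeometry.ringKrullDim_stalk_eq_coheight] at h1
    have hmono : StrictMono (fun z : {z : X // f z = f x} => z.1) := fun _ _ h => h
    have h2 := coheight_add_length_le (p.map _ hmono)
    rw [LTSeries.last_map, LTSeries.head_map, hp, LTSeries.map_length] at h2
    have h3 : Order.coheight z'.1 ≤ Order.coheight p.last.1 := Order.coheight_anti hz'
    have h4 : (m : ℕ∞) = Order.coheight z'.1 := by
      have : ((m : ℕ∞) : WithBot ℕ∞) = ((Order.coheight z'.1 : ℕ∞) : WithBot ℕ∞) := h1.symm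
      exact_mod_cast this
    rw [h4, add_comm]
    exact le_trans (add_le_add h3 le_rfl) h2
  have hm0 : (m : ℕ∞) ≤ Order.coheight x := by
    have := key (RelSeries.singleton _ ⟨x, rfl⟩) rfl
    simpa using this
  have h6 : Order.coheight (⟨x, rfl⟩ : {z : X // f z = f x}) ≤ Order.coheight x - (m : ℕ∞) := by
    rw [Order.coheight_le_iff']
    intro p hp
    exact ENat.le_sub_of_add_le_right (ENat.natCast_ne_top m) (key p hp)
  have h7 : Order.coheight (⟨x, rfl⟩ : {z : X // f z = f x}) + (m : ℕ∞) ≤ Order.coheight x :=
    add_le_of_le_tsub_right_of_le hm0 h6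
  have : (((Order.coheight (⟨x, rfl⟩ : {z : X // f z = f x}) + (m : ℕ∞) : ℕ∞)) : WithBot ℕ∞) ≤
      ((Order.coheight x : ℕ∞) : WithBot ℕ∞) := WithBot.coe_le_coe.mpr h7
  rw [add_comm]
  push_cast at this
  exact this

end Fib



section Fib

variable {X Y : Scheme.{u}} (f : X ⟶ Y)

theorem stalk_fiber_dim_eq_zero_iff (x : X) :
    ringKrullDim ((f.fiber (f x)).presheaf.stalk (f.asFiber x)) = 0 ↔
      IsMax (⟨x, rfl⟩ : {z : X // f z = f x}) := by
  rw [stalk_fiber_dim, ← Order.coheight_eq_zero]
  constructor
  · intro h
    exact_mod_cast h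
  · intro h
    rw [h]
    rfl

theorem S3392_main {X Y : Scheme.{u}} [IrreducibleSpace Y] [IsLocallyNoetherian Y]
    (f : X ⟶ Y) [LocallyOfFiniteType f] [QuasiCompact f] (y : Y) :
    ((∀ x : X, f.base x = y → ringKrullDim (X.presheaf.stalk x) =
        ringKrullDim (Y.presheaf.stalk (f.base x)) + ringKrullDim ((f.fiber (f.base x)).presheaf.stalk (f.asFiber x))) →
      (∀ z : X, f.base z = y → ringKrullDim ((f.fiber (f.base z)).presheaf.stalk (f.asFiber z)) = 0 →
        ringKrullDim (X.presheaf.stalk z) = ringKrullDim (Y.presheaf.stalk (f.base z)))) ∧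
    (CAlg.IsUniversallyCatenary (Y.presheaf.stalk y) →
      (∀ z : X, f.base z = y → ringKrullDim ((f.fiber (f.base z)).presheaf.stalk (f.asFiber z)) = 0 →
        ringKrullDim (X.presheaf.stalk z) = ringKrullDim (Y.presheaf.stalk (f.base z))) →
      (∀ x : X, f.base x = y → ringKrullDim (X.presheaf.stalk x) =
        ringKrullDim (Y.presheaf.stalk (f.base x)) + ringKrullDim ((f.fiber (f.base x)).presheaf.stalk (f.asFiber x)))) := by
  constructor
  · intro ha z hz h0
    have := ha z hz
    rw [h0, add_zero] at this
    exact this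
  · intro _ hb x hx
    apply le_antisymm (Groth.Agent.Lib.Helper4.FibreStalkDim1.S3447_main f x)
    apply stalk_dim_ge_of_max f x
    intro z hz hmax
    exact hb z (hz.trans hx) ((stalk_fiber_dim_eq_zero_iff f z).mpr hmax)

end Fib


end Groth.Agent.Lib.Helper4.FibDim2
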