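import Mathlib
import Groth.Prelude.Def_Found
import Groth.Agent.Lib.Helper4.DimEq2
import Groth.Agent.Lib.Helper4.DimFT1

/-!
# The dimension formula under a universally catenary hypothesis at a single prime; fields are universally catenary (helper4)
-/

set_option backward.isDefEq.respectTransparency.types false
set_option synthInstance.maxHeartbeats 400000
set_option autoImplicit false
set_option linter.unusedSectionVars false
set_option linter.style.haveILetI false
set_option linter.unusedSimpArgs false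
universe u v w
open Polynomial Cardinal
open Groth.Agent.Lib.Helper4.DimIneq1 Groth.Agent.Lib.Helper4.DimFT2 Groth.Agent.Lib.Helper4.Catenary1
open Groth.Agent.Lib.Helper4.DimEq1 Groth.Agent.Lib.Helper4.DimEq2 Groth.Agent.Lib.Helper4.DimFT1
open Groth.Agent.Lib.Helper4.DimIneq2

namespace Groth.Agent.Lib.Helper4.LocUC1

section OneGenEq

variable (R S : Type u) [CommRing R] [IsDomain R] [IsNoetherianRing R] [CommRing S] [IsDomain S]
  [Algebra R S] [FaithfulSMul R S]

/-- the one-generator step of the dimension formula, with the height additivity hypothesis only at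
the prime concerned -/
theorem one_gen_eq_at (a : S) (ha : Algebra.adjoin R {a} = ⊤) (p : Ideal R)
    [hp : p.IsPrime] (q : Ideal S) [hq : q.IsPrime] [hqp : q.LiesOver p]
    (hHA : (q.comap (Polynomial.aeval (R := R) a)).height ≤
      ((q.comap (Polynomial.aeval (R := R) a)).map (Ideal.Quotient.mk
        (RingHom.ker (Polynomial.aeval (R := R) a : R[X] →+* S)))).height +
      (RingHom.ker (Polynomial.aeval (R := R) a : R[X] →+* S)).height) :
    (q.height : Cardinal.{u}) + Algebra.trdeg (R ⧸ p) (S ⧸ q) =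
      (p.height : Cardinal.{u}) + Algebra.trdeg R S := by
  have hφ : Function.Surjective (Polynomial.aeval (R := R) a) := by
    rw [← AlgHom.range_eq_top, ← Algebra.adjoin_singleton_eq_range_aeval]
    exact ha
  haveI hq' : (q.comap (Polynomial.aeval (R := R) a)).IsPrime := Ideal.comap_isPrime _ q
  haveI hlo : (q.comap (Polynomial.aeval (R := R) a)).LiesOver p := Ideal.comap_liesOver q p _
  have h1 := poly_eq p (q.comap (Polynomial.aeval (R := R) a))
  have h2 : Algebra.trdeg (R ⧸ p) (R[X] ⧸ q.comap (Polynomial.aeval (R := R) a)) =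
      Algebra.trdeg (R ⧸ p) (S ⧸ q) := by
    let ψ : (R[X] ⧸ q.comap (Polynomial.aeval (R := R) a)) →ₐ[R ⧸ p] (S ⧸ q) :=
      { Ideal.quotientMap q (Polynomial.aeval (R := R) a : R[X] →+* S) le_rfl with
        commutes' := by
          rintro ⟨x⟩
          exact congrArg (Ideal.Quotient.mk q) ((Polynomial.aeval (R := R) a).commutes x) }
    have hψ : Function.Bijective ψ :=
      ⟨Ideal.quotientMap_injective, Ideal.quotientMap_surjective (H := le_rfl) hφ⟩
    exact (AlgEquiv.ofBijective ψ hψ).trdeg_eq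
  rw [h2] at h1
  haveI : IsNoetherianRing S := isNoetherianRing_of_surjective R[X] S
    (Polynomial.aeval (R := R) a : R[X] →+* S) hφ
  by_cases hker : RingHom.ker (Polynomial.aeval (R := R) a : R[X] →+* S) = ⊥
  · have hinj : Function.Injective (Polynomial.aeval (R := R) a) :=
      (RingHom.injective_iff_ker_eq_bot _).mpr hker
    let e : R[X] ≃ₐ[R] S := AlgEquiv.ofBijective (Polynomial.aeval (R := R) a) ⟨hinj, hφ⟩
    have h3 : (q.comap (Polynomial.aeval (R := R) a)).height = q.height :=
      RingEquiv.height_comap e.toRingEquiv q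
    have h4 : Algebra.trdeg R S = 1 := by
      rw [← e.trdeg_eq, Polynomial.trdeg_of_isDomain]
    rw [h4, ← h3]
    exact h1
  · have h3 := height_add_one_le_comap (Polynomial.aeval (R := R) a : R[X] →+* S) hφ hker q
    have h4 : Algebra.trdeg R S = 0 := by
      obtain ⟨g, hg, hg0⟩ : ∃ g ∈ RingHom.ker (Polynomial.aeval (R := R) a : R[X] →+* S), g ≠ 0 := by
        by_contra hcon
        push Not at hcon
        exact hker ((Submodule.eq_bot_iff _).mpr hcon)
      have halg : IsAlgebraic R a := ⟨g, hg0, hg⟩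
      haveI : Algebra.IsAlgebraic R S := by
        have := Algebra.isAlgebraic_adjoin_singleton_iff.mpr halg
        rw [ha] at this
        exact ⟨fun x => this x Algebra.mem_top⟩
      exact _root_.trdeg_eq_zero
    haveI hQprime : (RingHom.ker (Polynomial.aeval (R := R) a : R[X] →+* S)).IsPrime :=
      RingHom.ker_isPrime _
    have hQle : RingHom.ker (Polynomial.aeval (R := R) a : R[X] →+* S) ≤
        q.comap (Polynomial.aeval (R := R) a) := by
      intro f hf
      rw [Ideal.mem_comap]
      have : (Polynomial.aeval (R := R) a) f = 0 := hf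
      rw [this]
      exact zero_mem _
    have h5 := hHA
    have h6 : (RingHom.ker (Polynomial.aeval (R := R) a : R[X] →+* S)).height ≤ 1 := by
      apply height_le_one_of_comap_C_eq_bot
      rw [eq_bot_iff]
      intro r hr
      rw [Ideal.mem_comap, RingHom.mem_ker] at hr
      have h7 : algebraMap R S r = 0 := by
        have := hr
        simpa using this
      rw [Ideal.mem_bot]
      exact FaithfulSMul.algebraMap_injective R S (h7.trans (map_zero _).symm)
    have h8 : ((q.comap (Polynomial.aeval (R := R) a)).map (Ideal.Quotient.mk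
        (RingHom.ker (Polynomial.aeval (R := R) a : R[X] →+* S)))).height = q.height := by
      have h9 : q.comap (RingHom.quotientKerEquivOfSurjective
          (f := (Polynomial.aeval (R := R) a : R[X] →+* S)) hφ) =
          (q.comap (Polynomial.aeval (R := R) a)).map (Ideal.Quotient.mk
            (RingHom.ker (Polynomial.aeval (R := R) a : R[X] →+* S))) := by
        ext x
        obtain ⟨f, rfl⟩ := Ideal.Quotient.mk_surjective x
        rw [Ideal.mem_comap, RingHom.quotientKerEquivOfSurjective_apply_mk]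
        have h10 : Ideal.Quotient.mk (RingHom.ker (Polynomial.aeval (R := R) a : R[X] →+* S)) f ∈
            (q.comap (Polynomial.aeval (R := R) a)).map (Ideal.Quotient.mk
              (RingHom.ker (Polynomial.aeval (R := R) a : R[X] →+* S))) ↔
            f ∈ q.comap (Polynomial.aeval (R := R) a) := by
          conv_rhs => rw [← comap_map_mk' _ _ hQle]
          rfl
        rw [h10]
        rfl
      rw [← h9]
      exact RingEquiv.height_comap _ q
    rw [h8] at h5
    have h11 : (q.comap (Polynomial.aeval (R := R) a)).height = q.height + 1 :=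
      le_antisymm (h5.trans (add_le_add le_rfl h6)) h3
    rw [h11, ofENat_add, ofENat_one, add_right_comm] at h1
    rw [h4, add_zero]
    exact Cardinal.add_one_inj.mp h1

end OneGenEq

section MainEq

/-- the hypothesis needed for the one-generator step over the base `R` (inside `S`), at the
prime `q` of `S` -/
def OneGenHyp (R S : Type u) [CommRing R] [CommRing S] [Algebra R S] (q : Ideal S) : Prop :=
  ∀ a : S,
    (q.comap (Polynomial.aeval (R := R) a)).height ≤
    ((q.comap (Polynomial.aeval (R := R) a)).map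
        (Ideal.Quotient.mk (RingHom.ker (Polynomial.aeval (R := R) a : R[X] →+* S)))).height +
    (RingHom.ker (Polynomial.aeval (R := R) a : R[X] →+* S)).height

theorem htAdd_congr {T : Type u} [CommRing T] (I I' J J' : Ideal T) (h1 : I = I') (h2 : J = J')
    (h : I.height ≤ (I.map (Ideal.Quotient.mk J)).height + J.height) :
    I'.height ≤ (I'.map (Ideal.Quotient.mk J')).height + J'.height := by
  subst h1
  subst h2
  exact h

theorem oneGenHyp_subalgebra (R S : Type u) [CommRing R] [CommRing S] [Algebra R S] (q : Ideal S)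
    (a : S) (h : OneGenHyp R S q) :
    ((q.under (Algebra.adjoin R ({a} : Set S))).comap (Polynomial.aeval (R := R)
      (⟨a, Algebra.subset_adjoin (Set.mem_singleton a)⟩ : Algebra.adjoin R ({a} : Set S)))).height ≤
    (((q.under (Algebra.adjoin R ({a} : Set S))).comap (Polynomial.aeval (R := R)
      (⟨a, Algebra.subset_adjoin (Set.mem_singleton a)⟩ : Algebra.adjoin R ({a} : Set S)))).map
        (Ideal.Quotient.mk (RingHom.ker (Polynomial.aeval (R := R)
          (⟨a, Algebra.subset_adjoin (Set.mem_singleton a)⟩ : Algebra.adjoin R ({a} : Set S)) :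
            R[X] →+* Algebra.adjoin R ({a} : Set S))))).height +
    (RingHom.ker (Polynomial.aeval (R := R)
      (⟨a, Algebra.subset_adjoin (Set.mem_singleton a)⟩ : Algebra.adjoin R ({a} : Set S)) :
        R[X] →+* Algebra.adjoin R ({a} : Set S))).height := by
  refine htAdd_congr _ _ _ _ ?_ ?_ (h a)
  · ext f
    rw [Ideal.mem_comap, Ideal.mem_comap]
    change _ ↔ ((Polynomial.aeval (R := R)
      (⟨a, Algebra.subset_adjoin (Set.mem_singleton a)⟩ : Algebra.adjoin R ({a} : Set S)) f :
        Algebra.adjoin R ({a} : Set S)) : S) ∈ q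
    rw [Polynomial.aeval_subalgebra_coe]
  · ext f
    rw [RingHom.mem_ker, RingHom.mem_ker]
    change _ ↔ (Polynomial.aeval (R := R)
      (⟨a, Algebra.subset_adjoin (Set.mem_singleton a)⟩ : Algebra.adjoin R ({a} : Set S)) f) = 0
    rw [← Subtype.coe_inj, Polynomial.aeval_subalgebra_coe]
    rfl

/-- the hypothesis for all intermediate rings of finite type -/
def OneGenHypAll (R S : Type u) [CommRing R] [CommRing S] [Algebra R S] (q : Ideal S) : Prop :=
  ∀ (R' : Type u) [CommRing R'] [IsDomain R'] [Algebra R R'] [Algebra R' S] [IsScalarTower R R' S]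
    [FaithfulSMul R' S], Algebra.FiniteType R R' → OneGenHyp R' S q

theorem oneGenHypAll_of_finiteType (R R₁ S : Type u) [CommRing R] [CommRing R₁] [CommRing S]
    [Algebra R S] [Algebra R R₁] [Algebra R₁ S] [IsScalarTower R R₁ S]
    [Algebra.FiniteType R R₁] (q : Ideal S) (h : OneGenHypAll R S q) : OneGenHypAll R₁ S q := by
  intro R' _ _ _ _ _ _ hft
  letI : Algebra R R' := ((algebraMap R₁ R').comp (algebraMap R R₁)).toAlgebra
  haveI : IsScalarTower R R₁ R' := IsScalarTower.of_algebraMap_eq (fun _ => rfl)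
  haveI : IsScalarTower R R' S := by
    apply IsScalarTower.of_algebraMap_eq
    intro x
    change algebraMap R S x = algebraMap R' S (algebraMap R₁ R' (algebraMap R R₁ x))
    rw [← IsScalarTower.algebraMap_apply R₁ R' S, ← IsScalarTower.algebraMap_apply R R₁ S]
  exact h R' (Algebra.FiniteType.trans (S := R₁) (inferInstance : Algebra.FiniteType R R₁) hft)

theorem main_eq_aux_at (S : Type u) [CommRing S] [IsDomain S] (q : Ideal S) [q.IsPrime]
    (s : Finset S) :
    ∀ (R : Type u) [CommRing R] [IsDomain R] [IsNoetherianRing R] [Algebra R S] [FaithfulSMul R S],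
      Algebra.adjoin R (s : Set S) = ⊤ → OneGenHypAll R S q → ∀ (p : Ideal R) [p.IsPrime]
      [q.LiesOver p],
      (q.height : Cardinal.{u}) + Algebra.trdeg (R ⧸ p) (S ⧸ q) =
        (p.height : Cardinal.{u}) + Algebra.trdeg R S := by
  classical
  induction s using Finset.induction_on with
  | empty =>
    intro R _ _ _ _ _ hs hUC p _ _
    refine one_gen_eq_at R S 0 ?_ p q (hUC R inferInstance 0)
    rw [eq_top_iff, ← hs]
    exact Algebra.adjoin_mono (by simp)
  | insert a s' ha ih =>
    intro R _ _ _ _ _ hs hUC p _ _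
    haveI : Algebra.FiniteType R (Algebra.adjoin R ({a} : Set S)) :=
      (Subalgebra.fg_iff_finiteType _).mp ⟨{a}, by simp⟩
    haveI : IsNoetherianRing (Algebra.adjoin R ({a} : Set S)) :=
      Algebra.FiniteType.isNoetherianRing R _
    have hs' : Algebra.adjoin (Algebra.adjoin R ({a} : Set S)) (s' : Set S) = ⊤ := by
      have h0 := Algebra.adjoin_union_eq_adjoin_adjoin R ({a} : Set S) (s' : Set S)
      rw [← Set.insert_eq, ← Finset.coe_insert, hs] at h0
      rw [eq_top_iff]
      intro x _
      have hx : x ∈ (⊤ : Subalgebra R S) := Algebra.mem_top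
      rw [h0] at hx
      exact hx
    haveI : FaithfulSMul R (Algebra.adjoin R ({a} : Set S)) :=
      (faithfulSMul_iff_algebraMap_injective R _).mpr
        (fun x y h => FaithfulSMul.algebraMap_injective R S (congrArg Subtype.val h))
    haveI : FaithfulSMul (Algebra.adjoin R ({a} : Set S)) S :=
      (faithfulSMul_iff_algebraMap_injective _ S).mpr Subtype.val_injective
    haveI : (q.under (Algebra.adjoin R ({a} : Set S))).IsPrime := Ideal.comap_isPrime _ q
    haveI : q.LiesOver (q.under (Algebra.adjoin R ({a} : Set S))) := ⟨rfl⟩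
    have h1 := ih (Algebra.adjoin R ({a} : Set S)) hs'
      (oneGenHypAll_of_finiteType R (Algebra.adjoin R ({a} : Set S)) S q hUC)
      (q.under (Algebra.adjoin R ({a} : Set S)))
    have hgen : Algebra.adjoin R
        ({(⟨a, Algebra.subset_adjoin (Set.mem_singleton a)⟩ : Algebra.adjoin R ({a} : Set S))} :
          Set (Algebra.adjoin R ({a} : Set S))) = ⊤ := by
      have := Algebra.adjoin_adjoin_coe_preimage (R := R) (s := ({a} : Set S))
      convert this using 2
      ext ⟨x, hx⟩
      simp
    haveI : (q.under (Algebra.adjoin R ({a} : Set S))).LiesOver p := by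
      constructor
      rw [Ideal.under_under]
      exact Ideal.over_def q p
    have h2 := one_gen_eq_at R (Algebra.adjoin R ({a} : Set S))
      ⟨a, Algebra.subset_adjoin (Set.mem_singleton a)⟩ hgen p
      (q.under (Algebra.adjoin R ({a} : Set S)))
      (oneGenHyp_subalgebra R S q a (hUC R inferInstance))
    haveI : IsScalarTower (R ⧸ p)
        (Algebra.adjoin R ({a} : Set S) ⧸ q.under (Algebra.adjoin R ({a} : Set S))) (S ⧸ q) := by
      apply IsScalarTower.of_algebraMap_eq
      rintro ⟨x⟩
      rfl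
    have h3 := trdeg_add_eq (R ⧸ p)
      (Algebra.adjoin R ({a} : Set S) ⧸ q.under (Algebra.adjoin R ({a} : Set S))) (A := S ⧸ q)
    have h4 := trdeg_add_eq R (Algebra.adjoin R ({a} : Set S)) (A := S)
    rw [← h3, ← h4]
    calc (q.height : Cardinal.{u}) + (Algebra.trdeg (R ⧸ p) _ + Algebra.trdeg _ (S ⧸ q))
        = ((q.height : Cardinal.{u}) + Algebra.trdeg _ (S ⧸ q)) + Algebra.trdeg (R ⧸ p) _ := by
          rw [add_comm (Algebra.trdeg (R ⧸ p) _), add_assoc]
      _ = ((q.under (Algebra.adjoin R ({a} : Set S))).height + Algebra.trdeg _ S) +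
            Algebra.trdeg (R ⧸ p) _ := by rw [h1]
      _ = ((q.under (Algebra.adjoin R ({a} : Set S))).height + Algebra.trdeg (R ⧸ p) _) +
            Algebra.trdeg _ S := by rw [add_right_comm]
      _ = ((p.height : Cardinal.{u}) + Algebra.trdeg R _) + Algebra.trdeg _ S := by rw [h2]
      _ = _ := by rw [add_assoc]

end MainEq



section UCAt

theorem dim_eq_of_oneGenHypAll (R : Type u) [CommRing R] [IsDomain R] [IsNoetherianRing R]
    (S : Type u) [CommRing S] [IsDomain S] [Algebra R S]
    [FaithfulSMul R S] [Algebra.FiniteType R S] (p : Ideal R) [p.IsPrime] (q : Ideal S) [q.IsPrime]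
    [q.LiesOver p] (h : OneGenHypAll R S q) :
    (q.height : Cardinal.{u}) + Algebra.trdeg (R ⧸ p) (S ⧸ q) =
      (p.height : Cardinal.{u}) + Algebra.trdeg R S := by
  obtain ⟨s, hs⟩ := (Algebra.FiniteType.out : (⊤ : Subalgebra R S).FG)
  exact main_eq_aux_at S q s R hs h p

/-- universal catenarity at a prime `p`, in the form of height additivity at the primes over `p`
of finite type domains -/
def UCAt (R : Type u) [CommRing R] (p : Ideal R) : Prop :=
  ∀ (T : Type u) [CommRing T] [IsDomain T] [Algebra R T], Algebra.FiniteType R T →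
    ∀ (𝔮 Q : Ideal T) [𝔮.IsPrime] [Q.IsPrime], 𝔮.under R = p → Q ≤ 𝔮 →
      𝔮.height ≤ (𝔮.map (Ideal.Quotient.mk Q)).height + Q.height

theorem oneGenHypAll_of_ucAt (R S : Type u) [CommRing R] [CommRing S] [IsDomain S] [Algebra R S]
    (p : Ideal R) (q : Ideal S) [q.IsPrime] [hqp : q.LiesOver p] (h : UCAt R p) :
    OneGenHypAll R S q := by
  intro R' _ _ _ _ _ _ hft a
  haveI : Algebra.FiniteType R R' := hft
  haveI : Algebra.FiniteType R R'[X] :=
    Algebra.FiniteType.trans (S := R') inferInstance inferInstance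
  haveI : (q.comap (Polynomial.aeval (R := R') a)).IsPrime := Ideal.comap_isPrime _ q
  haveI : (RingHom.ker (Polynomial.aeval (R := R') a : R'[X] →+* S)).IsPrime :=
    RingHom.ker_isPrime _
  refine h R'[X] inferInstance (q.comap (Polynomial.aeval (R := R') a))
    (RingHom.ker (Polynomial.aeval (R := R') a : R'[X] →+* S)) ?_ ?_
  · ext x
    rw [Ideal.under, Ideal.mem_comap, Ideal.mem_comap, Ideal.mem_of_liesOver q p]
    have : (Polynomial.aeval (R := R') a) (algebraMap R R'[X] x) = algebraMap R S x := by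
      rw [IsScalarTower.algebraMap_apply R R' R'[X], AlgHom.commutes,
        ← IsScalarTower.algebraMap_apply]
    rw [this]
  · intro f hf
    rw [Ideal.mem_comap]
    have : (Polynomial.aeval (R := R') a) f = 0 := hf
    rw [this]
    exact zero_mem _

theorem dim_eq_of_ucAt (R : Type u) [CommRing R] [IsDomain R] [IsNoetherianRing R]
    (S : Type u) [CommRing S] [IsDomain S] [Algebra R S]
    [FaithfulSMul R S] [Algebra.FiniteType R S] (p : Ideal R) [p.IsPrime] (q : Ideal S) [q.IsPrime]
    [q.LiesOver p] (h : UCAt R p) :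
    (q.height : Cardinal.{u}) + Algebra.trdeg (R ⧸ p) (S ⧸ q) =
      (p.height : Cardinal.{u}) + Algebra.trdeg R S :=
  dim_eq_of_oneGenHypAll R S p q (oneGenHypAll_of_ucAt R S p q h)

end UCAt



section OrderH

theorem height_Iic_eq {α : Type*} [Preorder α] (m : α) (a : Set.Iic m) :
    Order.height a = Order.height (a : α) := by
  refine Order.height_eq_of_strictMono (fun x : Set.Iic m => (x : α)) (fun _ _ h => h) ?_ a
  intro a b hb
  exact ⟨⟨b, hb.le.trans a.2⟩, hb, rfl⟩

theorem height_Ici_Iic_eq {α : Type*} [Preorder α] (m x y : α) (hxy : x ≤ y) (hym : y ≤ m) :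
    Order.height (⟨⟨y, hym⟩, hxy⟩ : Set.Ici (⟨x, hxy.trans hym⟩ : Set.Iic m)) =
      Order.height (⟨y, hxy⟩ : Set.Ici x) := by
  refine Order.height_eq_of_strictMono
    (fun w : Set.Ici (⟨x, hxy.trans hym⟩ : Set.Iic m) => (⟨w.1.1, w.2⟩ : Set.Ici x))
    (fun _ _ h => h) ?_ ⟨⟨y, hym⟩, hxy⟩
  intro a b hb
  exact ⟨⟨⟨b.1, (show b.1 ≤ a.1.1 from hb.le).trans a.1.2⟩, b.2⟩, hb, rfl⟩

end OrderH

section HtAddAt

theorem htAddAt_of_catP_Iic (T : Type u) [CommRing T] [IsDomain T] [IsNoetherianRing T]
    (q : Ideal T) [hq : q.IsPrime] (h : CatP (Set.Iic (⟨q, hq⟩ : PrimeSpectrum T)))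
    (Q : Ideal T) [hQ : Q.IsPrime] (hQq : Q ≤ q) :
    q.height ≤ (q.map (Ideal.Quotient.mk Q)).height + Q.height := by
  have hfin : Order.height (⟨⟨q, hq⟩, Set.mem_Iic.mpr le_rfl⟩ : Set.Iic (⟨q, hq⟩ : PrimeSpectrum T)) < ⊤ := by
    rw [height_Iic_eq, ← PrimeSpectrum.height_eq_orderHeight]
    exact Ideal.height_lt_top (Ideal.IsPrime.ne_top hq)
  have key := height_eq_add_of_catP (α := Set.Iic (⟨q, hq⟩ : PrimeSpectrum T)) h
    ⟨⟨⊥, Ideal.isPrime_bot⟩, (bot_le : (⊥ : Ideal T) ≤ q)⟩
    (fun a => (bot_le : (⊥ : Ideal T) ≤ a.1.asIdeal)) ⟨⟨Q, hQ⟩, hQq⟩ ⟨⟨q, hq⟩, Set.mem_Iic.mpr le_rfl⟩ hQq hfin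
  rw [height_Iic_eq, height_Iic_eq, height_Ici_Iic_eq (⟨q, hq⟩ : PrimeSpectrum T) ⟨Q, hQ⟩ ⟨q, hq⟩
    hQq le_rfl, height_Ici_eq Q q hQq, ← PrimeSpectrum.height_eq_orderHeight,
    ← PrimeSpectrum.height_eq_orderHeight] at key
  change q.height = Q.height + _ at key
  rw [key, add_comm]

end HtAddAt



section Loc

variable (A T : Type u) [CommRing A] [IsNoetherianRing A] [CommRing T] [Algebra A T]
  [Algebra.FiniteType A T]

theorem catP_Iic_of_local (m : PrimeSpectrum T)
    (hloc : CAlg.IsUniversallyCatenary (Localization.AtPrime (m.asIdeal.under A))) :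
    CatP (Set.Iic m) := by
  haveI : (m.asIdeal.under A).IsPrime := Ideal.comap_isPrime _ _
  have hft : Algebra.FiniteType (Localization.AtPrime (m.asIdeal.under A))
      (Localization (Algebra.algebraMapSubmonoid T (m.asIdeal.under A).primeCompl)) := by
    haveI : IsLocalization (Submonoid.map (algebraMap A T) (m.asIdeal.under A).primeCompl)
        (Localization (Algebra.algebraMapSubmonoid T (m.asIdeal.under A).primeCompl)) :=
      inferInstanceAs (IsLocalization
        (Algebra.algebraMapSubmonoid T (m.asIdeal.under A).primeCompl)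
        (Localization (Algebra.algebraMapSubmonoid T (m.asIdeal.under A).primeCompl)))
    exact RingHom.finiteType_localizationPreserves (algebraMap A T)
      (m.asIdeal.under A).primeCompl (Localization.AtPrime (m.asIdeal.under A))
      (Localization (Algebra.algebraMapSubmonoid T (m.asIdeal.under A).primeCompl))
      (RingHom.finiteType_algebraMap.mpr inferInstance)
  have h1 : CatP (PrimeSpectrum
      (Localization (Algebra.algebraMapSubmonoid T (m.asIdeal.under A).primeCompl))) :=
    hloc.2 _ hft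
  have h2 : CatP {p : PrimeSpectrum T //
      Disjoint ((Algebra.algebraMapSubmonoid T (m.asIdeal.under A).primeCompl : Submonoid T) :
        Set T) (p.asIdeal : Set T)} :=
    catP_congr (IsLocalization.primeSpectrumOrderIso
      (Algebra.algebraMapSubmonoid T (m.asIdeal.under A).primeCompl)
      (Localization (Algebra.algebraMapSubmonoid T (m.asIdeal.under A).primeCompl))).symm h1
  have hm : Disjoint ((Algebra.algebraMapSubmonoid T (m.asIdeal.under A).primeCompl :
      Submonoid T) : Set T) (m.asIdeal : Set T) := by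
    rw [Set.disjoint_left]
    rintro _ ⟨a, ha, rfl⟩ ham
    exact ha ham
  exact catP_congr (iicSubtypeIso (fun p : PrimeSpectrum T =>
    Disjoint ((Algebra.algebraMapSubmonoid T (m.asIdeal.under A).primeCompl : Submonoid T) :
        Set T) (p.asIdeal : Set T)) (fun a b hab hb => Set.disjoint_of_subset_right
    (show (a.asIdeal : Set T) ⊆ b.asIdeal from hab) hb) m hm) (catP_Iic _ h2)

theorem ucAt_of_localization (p : Ideal A) [hp : p.IsPrime]
    (hloc : CAlg.IsUniversallyCatenary (Localization.AtPrime p)) : UCAt A p := by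
  intro T _ _ _ hft 𝔮 Q h𝔮 hQ hu hQ𝔮
  haveI : Algebra.FiniteType A T := hft
  haveI : IsNoetherianRing T := Algebra.FiniteType.isNoetherianRing A T
  subst hu
  exact htAddAt_of_catP_Iic T 𝔮 (catP_Iic_of_local A T ⟨𝔮, h𝔮⟩ hloc) Q hQ𝔮

end Loc



section DimFun

variable {α : Type u} [PartialOrder α] (δ : α → ℤ)

theorem length_le_of_dimFun (h1 : ∀ a b : α, a < b → δ b < δ a) (s : LTSeries α) :
    (s.length : ℤ) ≤ δ s.head - δ s.last := by
  have key : ∀ i : Fin (s.length + 1), ((i : ℕ) : ℤ) ≤ δ s.head - δ (s i) := by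
    intro i
    induction i using Fin.induction with
    | zero =>
      change ((0 : ℕ) : ℤ) ≤ δ (s 0) - δ (s 0)
      simp
    | succ i ih =>
      have h := h1 _ _ (s.step i)
      rw [Fin.val_succ]
      have : (i.castSucc : ℕ) = (i : ℕ) := rfl
      rw [this] at ih
      push_cast
      linarith
  have := key (Fin.last _)
  rwa [Fin.val_last] at this

theorem length_eq_of_dimFun (h2 : ∀ a b : α, a ⋖ b → δ a = δ b + 1) (s : LTSeries α)
    (hs : ∀ i : Fin s.length, s (Fin.castSucc i) ⋖ s (Fin.succ i)) :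
    (s.length : ℤ) = δ s.head - δ s.last := by
  have key : ∀ i : Fin (s.length + 1), ((i : ℕ) : ℤ) = δ s.head - δ (s i) := by
    intro i
    induction i using Fin.induction with
    | zero =>
      change ((0 : ℕ) : ℤ) = δ (s 0) - δ (s 0)
      simp
    | succ i ih =>
      have h := h2 _ _ (hs i)
      rw [Fin.val_succ]
      have : (i.castSucc : ℕ) = (i : ℕ) := rfl
      rw [this] at ih
      push_cast
      linarith
  have := key (Fin.last _)
  rwa [Fin.val_last] at this

theorem catP_of_dimFun (h1 : ∀ a b : α, a < b → δ b < δ a)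
    (h2 : ∀ a b : α, a ⋖ b → δ a = δ b + 1) : CatP α := by
  constructor
  · intro p q _
    refine ⟨(δ p - δ q).toNat, fun s hs ht => ?_⟩
    have := length_le_of_dimFun δ h1 s
    rw [hs, ht] at this
    omega
  · intro s t hst hst' hs ht
    have e1 := length_eq_of_dimFun δ h2 s hs
    have e2 := length_eq_of_dimFun δ h2 t ht
    rw [hst, hst'] at e1
    omega

end DimFun

section Field

variable (k : Type u) [Field k] (B : Type u) [CommRing B] [Algebra k B] [Algebra.FiniteType k B]

include k in
theorem exists_dim_quot (P : PrimeSpectrum B) : ∃ n : ℕ, ringKrullDim (B ⧸ P.asIdeal) = n := by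
  haveI : IsDomain (B ⧸ P.asIdeal) := Ideal.Quotient.isDomain _
  haveI : Algebra.FiniteType k (B ⧸ P.asIdeal) :=
    Algebra.FiniteType.of_surjective (Ideal.Quotient.mkₐ k P.asIdeal)
      (Ideal.Quotient.mkₐ_surjective k P.asIdeal)
  obtain ⟨n, -, hn⟩ := exists_dim_eq_trdeg k (B ⧸ P.asIdeal)
  exact ⟨n, hn⟩

/-- the dimension of `B ⧸ P` as an integer -/
noncomputable def dq (P : PrimeSpectrum B) : ℤ := ((exists_dim_quot k B P).choose : ℤ)

theorem dq_spec (P : PrimeSpectrum B) (n : ℕ) (h : ringKrullDim (B ⧸ P.asIdeal) = n) :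
    dq k B P = n := by
  have h1 := (exists_dim_quot k B P).choose_spec
  have h2 : ((n : ℕ) : WithBot ℕ∞) = ((exists_dim_quot k B P).choose : ℕ) := h.symm.trans h1
  unfold dq
  have : n = (exists_dim_quot k B P).choose := by exact_mod_cast h2
  rw [← this]

theorem dim_quot_step (P P' : PrimeSpectrum B) (hlt : P < P') :
    ∃ n n' : ℕ, dq k B P = n ∧ dq k B P' = n' ∧
      (((P'.asIdeal.map (Ideal.Quotient.mk P.asIdeal)).height : ℕ∞) : WithBot ℕ∞) + n' = n := by
  haveI : IsDomain (B ⧸ P.asIdeal) := Ideal.Quotient.isDomain _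
  haveI : Algebra.FiniteType k (B ⧸ P.asIdeal) :=
    Algebra.FiniteType.of_surjective (Ideal.Quotient.mkₐ k P.asIdeal)
      (Ideal.Quotient.mkₐ_surjective k P.asIdeal)
  have hle : P.asIdeal ≤ P'.asIdeal := hlt.le
  haveI := isPrime_map_mk P.asIdeal P'.asIdeal hle
  obtain ⟨n, hn⟩ := exists_dim_quot k B P
  obtain ⟨n', hn'⟩ := exists_dim_quot k B P'
  refine ⟨n, n', dq_spec k B P n hn, dq_spec k B P' n' hn', ?_⟩
  have key := height_add_dim_quotient k (B ⧸ P.asIdeal) (P'.asIdeal.map (Ideal.Quotient.mk P.asIdeal))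
  rw [hn, ringKrullDim_eq_of_ringEquiv (DoubleQuot.quotQuotEquivQuotOfLE hle), hn'] at key
  exact key

include k in
theorem catP_of_finiteType_field : CatP (PrimeSpectrum B) := by
  apply catP_of_dimFun (dq k B)
  · intro P P' hlt
    obtain ⟨n, n', h1, h2, h3⟩ := dim_quot_step k B P P' hlt
    rw [h1, h2]
    have hne : P.asIdeal ≠ P'.asIdeal := fun h => hlt.ne (PrimeSpectrum.ext h)
    have h4 := one_le_height_map_mk_of_ne P.asIdeal P'.asIdeal hlt.le hne
    have h5 : ((1 : ℕ∞) : WithBot ℕ∞) + (n' : WithBot ℕ∞) ≤ n := by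
      rw [← h3]
      exact add_le_add (WithBot.coe_le_coe.mpr h4) le_rfl
    have h6 : ((1 + n' : ℕ) : WithBot ℕ∞) ≤ (n : WithBot ℕ∞) := by
      push_cast
      exact h5
    have h7 : 1 + n' ≤ n := by exact_mod_cast h6
    omega
  · intro P P' hcov
    obtain ⟨n, n', h1, h2, h3⟩ := dim_quot_step k B P P' hcov.lt
    rw [h1, h2]
    have h4 := height_map_mk_eq_one_of_covBy P.asIdeal P'.asIdeal hcov
    rw [h4] at h3
    have h6 : ((1 + n' : ℕ) : WithBot ℕ∞) = (n : WithBot ℕ∞) := by
      push_cast
      exact h3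
    have h7 : 1 + n' = n := by exact_mod_cast h6
    omega

theorem isUniversallyCatenary_field : CAlg.IsUniversallyCatenary k :=
  ⟨inferInstance, fun S _ _ hS => by
    haveI := hS
    exact catP_of_finiteType_field k S⟩

end Field



section Rel

theorem ucAt_of_finiteType (R R' : Type u) [CommRing R] [CommRing R'] [Algebra R R']
    [Algebra.FiniteType R R'] (p : Ideal R) (p' : Ideal R') (hp : p'.under R = p)
    (h : UCAt R p) : UCAt R' p' := by
  intro T _ _ _ hT 𝔮 Q _ _ h𝔮 hQ
  letI : Algebra R T := ((algebraMap R' T).comp (algebraMap R R')).toAlgebra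
  haveI : IsScalarTower R R' T := IsScalarTower.of_algebraMap_eq (fun _ => rfl)
  refine h T (Algebra.FiniteType.trans (S := R') (inferInstance : Algebra.FiniteType R R') hT)
    𝔮 Q ?_ hQ
  rw [← Ideal.under_under (B := R'), h𝔮, hp]

theorem ucAt_bot (R : Type u) [CommRing R] [IsDomain R] [IsNoetherianRing R] :
    UCAt R (⊥ : Ideal R) := by
  haveI : (⊥ : Ideal R).IsPrime := Ideal.isPrime_bot
  apply ucAt_of_localization
  have hf : IsField (Localization.AtPrime (⊥ : Ideal R)) := by
    rw [IsLocalRing.isField_iff_maximalIdeal_eq, ← Localization.AtPrime.map_eq_maximalIdeal,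
      Ideal.map_bot]
  letI : Field (Localization.AtPrime (⊥ : Ideal R)) := hf.toField
  exact isUniversallyCatenary_field (Localization.AtPrime (⊥ : Ideal R))

variable (A B : Type u) [CommRing A] [IsNoetherianRing A] [CommRing B] [Algebra A B]
  [Algebra.FiniteType A B]

/-- the dimension formula with equality, relative to a prime `P ≤ q`, under the universally
catenary hypothesis at the prime concerned -/
theorem dim_eq_rel_at (𝔭 : Ideal A) [h𝔭 : 𝔭.IsPrime] (q : Ideal B) [hq : q.IsPrime]
    [hql : q.LiesOver 𝔭] (P : Ideal B) [hP : P.IsPrime] (hPq : P ≤ q)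
    (hUC : UCAt (A ⧸ P.under A) (𝔭.map (Ideal.Quotient.mk (P.under A)))) :
    ((q.map (Ideal.Quotient.mk P)).height : Cardinal.{u}) + Algebra.trdeg (A ⧸ 𝔭) (B ⧸ q) =
      ((𝔭.map (Ideal.Quotient.mk (P.under A))).height : Cardinal.{u}) +
        Algebra.trdeg (A ⧸ P.under A) (B ⧸ P) := by
  have h0 : P.under A ≤ 𝔭 := by
    rw [Ideal.over_def q 𝔭]
    exact Ideal.comap_mono hPq
  haveI : (P.under A).IsPrime := Ideal.comap_isPrime _ P
  haveI : IsDomain (A ⧸ P.under A) := Ideal.Quotient.isDomain _
  haveI : IsDomain (B ⧸ P) := Ideal.Quotient.isDomain _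
  haveI : Algebra.FiniteType A (B ⧸ P) :=
    Algebra.FiniteType.of_surjective (Ideal.Quotient.mkₐ A P) (Ideal.Quotient.mkₐ_surjective A P)
  haveI : Algebra.FiniteType (A ⧸ P.under A) (B ⧸ P) :=
    Algebra.FiniteType.of_restrictScalars_finiteType A (A ⧸ P.under A) (B ⧸ P)
  haveI := isPrime_map_mk P q hPq
  haveI := isPrime_map_mk (P.under A) 𝔭 h0
  haveI := liesOver_map_mk A B 𝔭 q P hPq
  have key := dim_eq_of_ucAt (A ⧸ P.under A) (B ⧸ P)
    (𝔭.map (Ideal.Quotient.mk (P.under A))) (q.map (Ideal.Quotient.mk P)) hUC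
  have htr : Algebra.trdeg ((A ⧸ P.under A) ⧸ 𝔭.map (Ideal.Quotient.mk (P.under A)))
      ((B ⧸ P) ⧸ q.map (Ideal.Quotient.mk P)) = Algebra.trdeg (A ⧸ 𝔭) (B ⧸ q) := by
    haveI : Nontrivial ((A ⧸ P.under A) ⧸ 𝔭.map (Ideal.Quotient.mk (P.under A))) :=
      Ideal.Quotient.nontrivial_iff.mpr (Ideal.IsPrime.ne_top inferInstance)
    refine trdeg_eq_of_ringEquiv (DoubleQuot.quotQuotEquivQuotOfLE h0)
      (DoubleQuot.quotQuotEquivQuotOfLE hPq) ?_
    apply Ideal.Quotient.ringHom_ext
    apply Ideal.Quotient.ringHom_ext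
    ext a
    rfl
  rw [htr] at key
  exact key

theorem dim_eq_rel_of_local (𝔭 : Ideal A) [h𝔭 : 𝔭.IsPrime] (q : Ideal B) [hq : q.IsPrime]
    [hql : q.LiesOver 𝔭] (P : Ideal B) [hP : P.IsPrime] (hPq : P ≤ q)
    (hloc : CAlg.IsUniversallyCatenary (Localization.AtPrime 𝔭)) :
    ((q.map (Ideal.Quotient.mk P)).height : Cardinal.{u}) + Algebra.trdeg (A ⧸ 𝔭) (B ⧸ q) =
      ((𝔭.map (Ideal.Quotient.mk (P.under A))).height : Cardinal.{u}) +
        Algebra.trdeg (A ⧸ P.under A) (B ⧸ P) := by
  have h0 : P.under A ≤ 𝔭 := by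
    rw [Ideal.over_def q 𝔭]
    exact Ideal.comap_mono hPq
  apply dim_eq_rel_at A B 𝔭 q P hPq
  haveI : Algebra.FiniteType A (A ⧸ P.under A) :=
    Algebra.FiniteType.of_surjective (Ideal.Quotient.mkₐ A _) (Ideal.Quotient.mkₐ_surjective A _)
  exact ucAt_of_finiteType A (A ⧸ P.under A) 𝔭 _ (comap_map_mk' (P.under A) 𝔭 h0)
    (ucAt_of_localization A 𝔭 hloc)

theorem dim_eq_rel_fibre (𝔭 : Ideal A) [h𝔭 : 𝔭.IsPrime] (q : Ideal B) [hq : q.IsPrime]
    [hql : q.LiesOver 𝔭] (P : Ideal B) [hP : P.IsPrime] (hPq : P ≤ q) [hPl : P.LiesOver 𝔭] :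
    ((q.map (Ideal.Quotient.mk P)).height : Cardinal.{u}) + Algebra.trdeg (A ⧸ 𝔭) (B ⧸ q) =
      Algebra.trdeg (A ⧸ 𝔭) (B ⧸ P) := by
  haveI : (P.under A).IsPrime := Ideal.comap_isPrime _ P
  haveI : IsDomain (A ⧸ P.under A) := Ideal.Quotient.isDomain _
  have hbot : 𝔭.map (Ideal.Quotient.mk (P.under A)) = ⊥ := by
    rw [← Ideal.over_def P 𝔭]
    exact Ideal.map_quotient_self 𝔭
  have key := dim_eq_rel_at A B 𝔭 q P hPq (by rw [hbot]; exact ucAt_bot _)
  rw [hbot] at key
  have h4 : (⊥ : Ideal (A ⧸ P.under A)).height = 0 := by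
    rw [Ideal.height_eq_zero_iff_eq_bot]
  rw [h4] at key
  simp only [Cardinal.ofENat_zero, zero_add] at key
  rw [key]
  haveI : P.LiesOver (P.under A) := ⟨rfl⟩
  exact trdeg_quot_congr _ _ _ _ (Ideal.over_def P 𝔭).symm rfl

end Rel


end Groth.Agent.Lib.Helper4.LocUC1
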