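import Mathlib
import Groth.Agent.Lib.Helper4.FibDim2
import Groth.Agent.Lib.Helper4.LocUC1
import Groth.Prelude.Def_Flat

/-!
# Local dimension of the fibre at a point; the dimension formula with a universally catenary stalk (EGA IV 13.3.1) (helper4)
-/

set_option backward.isDefEq.respectTransparency.types false
set_option synthInstance.maxHeartbeats 400000
set_option autoImplicit false
set_option linter.unusedSectionVars false
set_option linter.style.haveILetI false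
set_option linter.unusedSimpArgs false
universe u v w
open CategoryTheory CategoryTheory.Limits AlgebraicGeometry TopologicalSpace IsLocalRing Opposite
open Cardinal
open Groth.Agent.Lib.Helper4.DimIneq1 Groth.Agent.Lib.Helper4.DimFT2 Groth.Agent.Lib.Helper4.Catenary1
open Groth.Agent.Lib.Helper4.DimEq1 Groth.Agent.Lib.Helper4.DimIneq2 Groth.Agent.Lib.Helper4.DimEq2
open Groth.Agent.Lib.Helper4.DimIneq3 Groth.Agent.Lib.Helper4.DimIneq4
open Groth.Agent.Lib.Helper4.NormFibre2 Groth.Agent.Lib.Helper4.RadBir3 Groth.Agent.Lib.Helper4.DimFT3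
open Groth.Agent.Lib.Helper4.FibDim1 Groth.Agent.Lib.Helper4.FibDim2 Groth.Agent.Lib.Helper4.LocUC1

namespace Groth.Agent.Lib.Helper4.FibDim3

section Fibre

variable {X Y : Scheme.{u}} (f : X ⟶ Y) [LocallyOfFiniteType f]

theorem krullDim_fibU_le (U : Set X) (y : Y) (E : ℕ)
    (hE : ∀ z : X, z ∈ U → f z = y → tr f z ≤ E) :
    Order.krullDim {z : X // z ∈ U ∧ f z = y} ≤ E := by
  unfold Order.krullDim
  refine iSup_le fun p => ?_
  have key : ∀ i : Fin (p.length + 1), (i : ℕ) ≤ tr f (p i).1 := by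
    intro i
    induction i using Fin.induction with
    | zero => simp
    | succ i ih =>
      have hlt : p i.castSucc < p i.succ := p.step i
      rw [lt_iff_le_not_ge] at hlt
      have hsp : (p i.succ).1 ⤳ (p i.castSucc).1 := hlt.1
      have hne : (p i.succ).1 ≠ (p i.castSucc).1 := by
        intro h
        apply hlt.2
        change (p i.castSucc).1 ⤳ (p i.succ).1
        rw [h]
      have h1 := tr_lt_of_specializes f _ _ hsp hne ((p i.succ).2.2.trans (p i.castSucc).2.2.symm)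
      rw [Fin.val_succ]
      have : (i.castSucc : ℕ) = (i : ℕ) := rfl
      omega
  have h1 := key (Fin.last _)
  have h2 := hE (p (Fin.last _)).1 (p (Fin.last _)).2.1 (p (Fin.last _)).2.2
  rw [Fin.val_last] at h1
  exact_mod_cast h1.trans h2

theorem tr_le_krullDim_fibU [IsLocallyNoetherian Y] (U : X.Opens) (x : X) (hxU₁ : x ∈ U) :
    ((tr f x : ℕ) : WithBot ℕ∞) ≤ Order.krullDim {z : X // z ∈ (U : Set X) ∧ f z = f x} := by
  obtain ⟨V, hV, hsV, -⟩ := exists_isAffineOpen_mem_and_subset (U := (⊤ : Y.Opens)) (x := f x)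
    trivial
  obtain ⟨U₀, hU, hxU, hUV'⟩ := exists_isAffineOpen_mem_and_subset (U := U ⊓ f ⁻¹ᵁ V) (x := x)
    ⟨hxU₁, hsV⟩
  have hUV : U₀ ≤ f ⁻¹ᵁ V := fun z hz => (hUV' hz).2
  have hUU : ∀ z, z ∈ U₀ → z ∈ U := fun z hz => (hUV' hz).1
  letI alg : Algebra Γ(Y, V) Γ(X, U₀) := (f.appLE V U₀ hUV).hom.toAlgebra
  haveI : IsNoetherianRing Γ(Y, V) := IsLocallyNoetherian.component_noetherian ⟨V, hV⟩
  haveI : Algebra.FiniteType Γ(Y, V) Γ(X, U₀) := LocallyOfFiniteType.finiteType_appLE f hV hU hUV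
  haveI hlo := liesOver_chart f hV hU hUV x hxU rfl
  obtain ⟨q', hq', hq'lo, hle, htr0, hdim⟩ := exists_closed_in_fibre Γ(Y, V) Γ(X, U₀)
    (hV.primeIdealOf ⟨f x, hUV hxU⟩).asIdeal (hU.primeIdealOf ⟨x, hxU⟩).asIdeal (tr f x)
    (tr_chart f hV hU hUV x hxU rfl)
  have hfib : ∀ P : PrimeSpectrum Γ(X, U₀),
      P.asIdeal.under Γ(Y, V) = (hV.primeIdealOf ⟨f x, hUV hxU⟩).asIdeal →
      f (hU.fromSpec P) = f x := by
    intro P hP
    have hzU : hU.fromSpec P ∈ U₀ := fromSpec_mem hU P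
    have h1 := liesOver_chart f hV hU hUV _ hzU rfl
    have h2 : hV.primeIdealOf ⟨f (hU.fromSpec P), hUV hzU⟩ = hV.primeIdealOf ⟨f x, hUV hxU⟩ := by
      apply PrimeSpectrum.ext
      rw [h1.over, primeIdealOf_fromSpec hU P]
      exact hP
    exact congrArg Subtype.val (primeIdealOf_injective' hV h2)
  refine hdim.trans ?_
  rw [← Order.krullDim_orderDual (α := {z : X // z ∈ (U : Set X) ∧ f z = f x})]
  refine Order.krullDim_le_of_strictMono
    (fun P : {P : PrimeSpectrum Γ(X, U₀) //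
        P.asIdeal.under Γ(Y, V) = (hV.primeIdealOf ⟨f x, hUV hxU⟩).asIdeal} =>
      OrderDual.toDual (⟨hU.fromSpec P.1, hUU _ (fromSpec_mem hU P.1), hfib P.1 P.2⟩ :
        {z : X // z ∈ (U : Set X) ∧ f z = f x})) ?_
  intro P P' hlt
  have hiff : ∀ P₁ P₂ : PrimeSpectrum Γ(X, U₀), hU.fromSpec P₁ ⤳ hU.fromSpec P₂ ↔ P₁ ≤ P₂ := by
    intro P₁ P₂
    rw [specializes_iff_primeIdealOf_le hU ⟨_, fromSpec_mem hU P₁⟩ ⟨_, fromSpec_mem hU P₂⟩,
      primeIdealOf_fromSpec, primeIdealOf_fromSpec]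
    rfl
  rw [lt_iff_le_not_ge] at hlt
  rw [OrderDual.toDual_lt_toDual, lt_iff_le_not_ge]
  refine ⟨(hiff P.1 P'.1).mpr hlt.1, fun h => hlt.2 ((hiff P'.1 P.1).mp h)⟩

end Fibre



section Fibre

variable {X Y : Scheme.{u}} (f : X ⟶ Y) [LocallyOfFiniteType f]

/-- the fibre dimension formula: for a generization `z` of `x` in the same fibre, the
transcendence degree at `z` is at most that at `x` plus the dimension of the local ring of the
fibre at `x` -/
theorem tr_le_coheight_add [IsLocallyNoetherian Y] (x z : X) (hzx : z ⤳ x) (hf : f z = f x) :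
    (tr f z : ℕ∞) ≤ Order.coheight (⟨x, rfl⟩ : {z' : X // f z' = f x}) + (tr f x : ℕ∞) := by
  obtain ⟨V, hV, hsV, -⟩ := exists_isAffineOpen_mem_and_subset (U := (⊤ : Y.Opens)) (x := f x)
    trivial
  obtain ⟨U, hU, hxU, hUV⟩ := exists_isAffineOpen_mem_and_subset (U := f ⁻¹ᵁ V) (x := x) hsV
  have hzU : z ∈ U := hzx.mem_open U.2 hxU
  letI alg : Algebra Γ(Y, V) Γ(X, U) := (f.appLE V U hUV).hom.toAlgebra
  haveI : IsNoetherianRing Γ(Y, V) := IsLocallyNoetherian.component_noetherian ⟨V, hV⟩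
  haveI : Algebra.FiniteType Γ(Y, V) Γ(X, U) := LocallyOfFiniteType.finiteType_appLE f hV hU hUV
  haveI hlo := liesOver_chart f hV hU hUV x hxU rfl
  haveI hloz := liesOver_chart f hV hU hUV z hzU rfl
  have hp : (hV.primeIdealOf ⟨f z, hUV hzU⟩).asIdeal = (hV.primeIdealOf ⟨f x, hUV hxU⟩).asIdeal := by
    congr 3
  haveI hloz' : (hU.primeIdealOf ⟨z, hzU⟩).asIdeal.LiesOver
      (hV.primeIdealOf ⟨f x, hUV hxU⟩).asIdeal := hp ▸ hloz
  have hle : (hU.primeIdealOf ⟨z, hzU⟩).asIdeal ≤ (hU.primeIdealOf ⟨x, hxU⟩).asIdeal :=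
    (specializes_iff_primeIdealOf_le hU ⟨z, hzU⟩ ⟨x, hxU⟩).mp hzx
  have key := dim_eq_rel_fibre Γ(Y, V) Γ(X, U) (hV.primeIdealOf ⟨f x, hUV hxU⟩).asIdeal
    (hU.primeIdealOf ⟨x, hxU⟩).asIdeal (hU.primeIdealOf ⟨z, hzU⟩).asIdeal hle
  rw [tr_chart f hV hU hUV x hxU rfl] at key
  have h1 : Algebra.trdeg (Γ(Y, V) ⧸ (hV.primeIdealOf ⟨f x, hUV hxU⟩).asIdeal)
      (Γ(X, U) ⧸ (hU.primeIdealOf ⟨z, hzU⟩).asIdeal) = (tr f z : Cardinal.{u}) := by
    rw [← tr_chart f hV hU hUV z hzU rfl]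
    exact trdeg_quot_congr _ _ _ _ hp.symm rfl
  rw [h1] at key
  -- the height in the quotient as a natural number
  have key' : ((hU.primeIdealOf ⟨x, hxU⟩).asIdeal.map
      (Ideal.Quotient.mk (hU.primeIdealOf ⟨z, hzU⟩).asIdeal)).height + (tr f x : ℕ∞) =
      (tr f z : ℕ∞) := by
    apply Cardinal.ofENat_injective
    rw [Cardinal.ofENat_add]
    simpa using key
  rw [← key']
  refine add_le_add ?_ le_rfl
  rw [← height_Ici_eq _ _ hle, ← WithBot.coe_le_coe, Order.height_eq_krullDim_Iic,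
    Order.coheight_eq_krullDim_Ici,
    ← Order.krullDim_orderDual (α := Set.Ici (⟨x, rfl⟩ : {z' : X // f z' = f x}))]
  -- the map on intervals
  have hfib : ∀ P : PrimeSpectrum Γ(X, U), (hU.primeIdealOf ⟨z, hzU⟩).asIdeal ≤ P.asIdeal →
      P.asIdeal ≤ (hU.primeIdealOf ⟨x, hxU⟩).asIdeal → f (hU.fromSpec P) = f x := by
    intro P hP1 hP2
    have hPU : hU.fromSpec P ∈ U := fromSpec_mem hU P
    have h1 := liesOver_chart f hV hU hUV _ hPU rfl
    have h2 : hV.primeIdealOf ⟨f (hU.fromSpec P), hUV hPU⟩ = hV.primeIdealOf ⟨f x, hUV hxU⟩ := by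
      apply PrimeSpectrum.ext
      rw [h1.over, primeIdealOf_fromSpec hU P]
      apply le_antisymm
      · rw [hlo.over]
        exact Ideal.comap_mono hP2
      · rw [hloz'.over]
        exact Ideal.comap_mono hP1
    exact congrArg Subtype.val (primeIdealOf_injective' hV h2)
  have hiff : ∀ P₁ P₂ : PrimeSpectrum Γ(X, U), hU.fromSpec P₁ ⤳ hU.fromSpec P₂ ↔ P₁ ≤ P₂ := by
    intro P₁ P₂
    rw [specializes_iff_primeIdealOf_le hU ⟨_, fromSpec_mem hU P₁⟩ ⟨_, fromSpec_mem hU P₂⟩,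
      primeIdealOf_fromSpec, primeIdealOf_fromSpec]
    rfl
  have hxspec : ∀ P : PrimeSpectrum Γ(X, U), P.asIdeal ≤ (hU.primeIdealOf ⟨x, hxU⟩).asIdeal →
      hU.fromSpec P ⤳ x := by
    intro P hP
    rw [specializes_iff_primeIdealOf_le hU ⟨_, fromSpec_mem hU P⟩ ⟨x, hxU⟩, primeIdealOf_fromSpec]
    exact hP
  refine Order.krullDim_le_of_strictMono
    (fun P : Set.Iic (⟨hU.primeIdealOf ⟨x, hxU⟩, hle⟩ :
        Set.Ici (hU.primeIdealOf ⟨z, hzU⟩)) =>
      OrderDual.toDual (⟨⟨hU.fromSpec P.1.1, hfib P.1.1 P.1.2 P.2⟩, hxspec P.1.1 P.2⟩ :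
        Set.Ici (⟨x, rfl⟩ : {z' : X // f z' = f x}))) ?_
  intro P P' hlt
  rw [lt_iff_le_not_ge] at hlt
  rw [OrderDual.toDual_lt_toDual, lt_iff_le_not_ge]
  refine ⟨(hiff P.1.1 P'.1.1).mpr hlt.1, fun h => hlt.2 ((hiff P'.1.1 P.1.1).mp h)⟩

end Fibre



section Fibre

variable {X Y : Scheme.{u}} (f : X ⟶ Y)

theorem dim_open_fiber (y : Y) (U' : Set X) (hU' : IsOpen U') :
    topologicalKrullDim ↥((f.fiberι y) ⁻¹' U') =
      Order.krullDim {z : X // z ∈ U' ∧ f z = y} := by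
  have hW : IsOpen ((f.fiberι y) ⁻¹' U') := hU'.preimage (f.fiberι y).continuous
  haveI : QuasiSober ↥((f.fiberι y) ⁻¹' U') := hW.isOpenEmbedding_subtypeVal.quasiSober
  rw [Groth.Agent.Helper4.GM.topologicalKrullDim_eq_krullDim_specialization]
  have hle : ∀ a b : ↥((f.fiberι y) ⁻¹' U'),
      (specializationOrder ↥((f.fiberι y) ⁻¹' U')).le a b ↔ f.fiberι y a.1 ≤ f.fiberι y b.1 := by
    intro a b
    change b ⤳ a ↔ f.fiberι y b.1 ⤳ f.fiberι y a.1
    rw [(f.fiberι y).isEmbedding.isInducing.specializes_iff,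
      Topology.IsInducing.subtypeVal.specializes_iff]
  apply le_antisymm
  · refine @Order.krullDim_le_of_strictMono _ _
      (specializationOrder ↥((f.fiberι y) ⁻¹' U')).toPreorder _
      (fun a : ↥((f.fiberι y) ⁻¹' U') =>
        (⟨f.fiberι y a.1, a.2, fiberι_mem f y a.1⟩ : {z : X // z ∈ U' ∧ f z = y})) ?_
    intro a b hlt
    have hlt' := (@lt_iff_le_not_ge _
      (specializationOrder ↥((f.fiberι y) ⁻¹' U')).toPreorder a b).mp hlt
    rw [lt_iff_le_not_ge]
    exact ⟨(hle a b).mp hlt'.1, fun h => hlt'.2 ((hle b a).mpr h)⟩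
  · have hι : ∀ z : {z : X // z ∈ U' ∧ f z = y},
        f.fiberι y ((fibOrderIso f y).symm ⟨z.1, z.2.2⟩) = z.1 := by
      intro z
      have := (fibOrderIso f y).apply_symm_apply ⟨z.1, z.2.2⟩
      exact congrArg Subtype.val this
    have hmem : ∀ z : {z : X // z ∈ U' ∧ f z = y},
        (fibOrderIso f y).symm ⟨z.1, z.2.2⟩ ∈ (f.fiberι y) ⁻¹' U' := by
      intro z
      change f.fiberι y _ ∈ U'
      rw [hι z]
      exact z.2.1
    refine @Order.krullDim_le_of_strictMono _ _ _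
      (specializationOrder ↥((f.fiberι y) ⁻¹' U')).toPreorder
      (fun z : {z : X // z ∈ U' ∧ f z = y} =>
        (⟨(fibOrderIso f y).symm ⟨z.1, z.2.2⟩, hmem z⟩ : ↥((f.fiberι y) ⁻¹' U'))) ?_
    intro a b hlt
    rw [lt_iff_le_not_ge] at hlt
    apply (@lt_iff_le_not_ge _ (specializationOrder ↥((f.fiberι y) ⁻¹' U')).toPreorder _ _).mpr
    constructor
    · apply (hle _ _).mpr
      change f.fiberι y ((fibOrderIso f y).symm ⟨a.1, a.2.2⟩) ≤
        f.fiberι y ((fibOrderIso f y).symm ⟨b.1, b.2.2⟩)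
      rw [hι a, hι b]
      exact hlt.1
    · intro h
      apply hlt.2
      have h' := (hle _ _).mp h
      change f.fiberι y ((fibOrderIso f y).symm ⟨b.1, b.2.2⟩) ≤
        f.fiberι y ((fibOrderIso f y).symm ⟨a.1, a.2.2⟩) at h'
      rw [hι a, hι b] at h'
      exact h'

end Fibre



section Fibre

variable {X Y : Scheme.{u}} (f : X ⟶ Y) [LocallyOfFiniteType f]

/-- a neighbourhood of `x` in which every point of the fibre through `x` has a generization in
the fibre which also generizes `x` -/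
theorem exists_good_nhd [IsLocallyNoetherian Y] (x : X) :
    ∃ U₁ : X.Opens, x ∈ U₁ ∧ ∀ z' : X, z' ∈ U₁ → f z' = f x →
      ∃ z'' : X, f z'' = f x ∧ z'' ⤳ x ∧ z'' ⤳ z' := by
  obtain ⟨V, hV, hsV, -⟩ := exists_isAffineOpen_mem_and_subset (U := (⊤ : Y.Opens)) (x := f x)
    trivial
  obtain ⟨U, hU, hxU, hUV⟩ := exists_isAffineOpen_mem_and_subset (U := f ⁻¹ᵁ V) (x := x) hsV
  letI alg : Algebra Γ(Y, V) Γ(X, U) := (f.appLE V U hUV).hom.toAlgebra
  haveI : IsNoetherianRing Γ(Y, V) := IsLocallyNoetherian.component_noetherian ⟨V, hV⟩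
  haveI : Algebra.FiniteType Γ(Y, V) Γ(X, U) := LocallyOfFiniteType.finiteType_appLE f hV hU hUV
  haveI : IsNoetherianRing Γ(X, U) := Algebra.FiniteType.isNoetherianRing Γ(Y, V) Γ(X, U)
  haveI hlo := liesOver_chart f hV hU hUV x hxU rfl
  have hfin := Ideal.finite_minimalPrimes_of_isNoetherianRing Γ(X, U)
    ((hV.primeIdealOf ⟨f x, hUV hxU⟩).asIdeal.map (algebraMap Γ(Y, V) Γ(X, U)))
  have hiff : ∀ P₁ P₂ : PrimeSpectrum Γ(X, U), hU.fromSpec P₁ ⤳ hU.fromSpec P₂ ↔ P₁ ≤ P₂ := by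
    intro P₁ P₂
    rw [specializes_iff_primeIdealOf_le hU ⟨_, fromSpec_mem hU P₁⟩ ⟨_, fromSpec_mem hU P₂⟩,
      primeIdealOf_fromSpec, primeIdealOf_fromSpec]
    rfl
  have hxeq : hU.fromSpec (hU.primeIdealOf ⟨x, hxU⟩) = x := hU.fromSpec_primeIdealOf ⟨x, hxU⟩
  -- the closed set to remove
  have hCcl : IsClosed (⋃ P ∈ {P ∈ ((hV.primeIdealOf ⟨f x, hUV hxU⟩).asIdeal.map
      (algebraMap Γ(Y, V) Γ(X, U))).minimalPrimes | ¬ P ≤ (hU.primeIdealOf ⟨x, hxU⟩).asIdeal},
      PrimeSpectrum.zeroLocus (P : Set Γ(X, U))) :=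
    Set.Finite.isClosed_biUnion (hfin.subset (fun P hP => hP.1))
      (fun P _ => PrimeSpectrum.isClosed_zeroLocus _)
  have hopen : IsOpen (hU.fromSpec '' (⋃ P ∈ {P ∈ ((hV.primeIdealOf ⟨f x, hUV hxU⟩).asIdeal.map
      (algebraMap Γ(Y, V) Γ(X, U))).minimalPrimes | ¬ P ≤ (hU.primeIdealOf ⟨x, hxU⟩).asIdeal},
      PrimeSpectrum.zeroLocus (P : Set Γ(X, U)))ᶜ) :=
    hU.fromSpec.isOpenEmbedding.isOpenMap _ hCcl.isOpen_compl
  refine ⟨⟨_, hopen⟩, ?_, ?_⟩
  · refine ⟨hU.primeIdealOf ⟨x, hxU⟩, ?_, hxeq⟩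
    intro hmem
    simp only [Set.mem_iUnion] at hmem
    obtain ⟨P, hP, hPx⟩ := hmem
    exact hP.2 hPx
  · rintro z' ⟨Q', hQ', rfl⟩ hfz
    have hzU : hU.fromSpec Q' ∈ U := fromSpec_mem hU Q'
    have hloQ := liesOver_chart f hV hU hUV _ hzU rfl
    have hQ'p : Q'.asIdeal.under Γ(Y, V) = (hV.primeIdealOf ⟨f x, hUV hxU⟩).asIdeal := by
      have h1 := hloQ.over
      rw [primeIdealOf_fromSpec hU Q'] at h1
      rw [← h1]
      congr 3
    have hIQ : (hV.primeIdealOf ⟨f x, hUV hxU⟩).asIdeal.map (algebraMap Γ(Y, V) Γ(X, U)) ≤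
        Q'.asIdeal := by
      rw [Ideal.map_le_iff_le_comap, ← hQ'p]
    obtain ⟨P, hPmin, hPQ⟩ := Ideal.exists_minimalPrimes_le hIQ
    have hPx : P ≤ (hU.primeIdealOf ⟨x, hxU⟩).asIdeal := by
      by_contra hcon
      apply hQ'
      simp only [Set.mem_iUnion]
      exact ⟨P, ⟨hPmin, hcon⟩, hPQ⟩
    haveI hPprime : P.IsPrime := hPmin.1.1
    have hPp : P.under Γ(Y, V) = (hV.primeIdealOf ⟨f x, hUV hxU⟩).asIdeal := by
      apply le_antisymm
      · rw [hlo.over]
        exact Ideal.comap_mono hPx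
      · exact Ideal.le_comap_of_map_le hPmin.1.2
    refine ⟨hU.fromSpec ⟨P, hPprime⟩, ?_, ?_, ?_⟩
    · have hPU : hU.fromSpec ⟨P, hPprime⟩ ∈ U := fromSpec_mem hU _
      have h1 := liesOver_chart f hV hU hUV _ hPU rfl
      have h2 : hV.primeIdealOf ⟨f (hU.fromSpec ⟨P, hPprime⟩), hUV hPU⟩ =
          hV.primeIdealOf ⟨f x, hUV hxU⟩ := by
        apply PrimeSpectrum.ext
        rw [h1.over, primeIdealOf_fromSpec hU ⟨P, hPprime⟩]
        exact hPp
      exact congrArg Subtype.val (primeIdealOf_injective' hV h2)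
    · have := (hiff ⟨P, hPprime⟩ (hU.primeIdealOf ⟨x, hxU⟩)).mpr hPx
      rwa [hxeq] at this
    · exact (hiff ⟨P, hPprime⟩ Q').mpr hPQ

end Fibre



section Fibre

variable {X Y : Scheme.{u}} (f : X ⟶ Y) [LocallyOfFiniteType f]

theorem tr_le_krullDim_fibU' [IsLocallyNoetherian Y] (U : X.Opens) (x : X) (hxU₁ : x ∈ U)
    (y : Y) (hy : f x = y) :
    ((tr f x : ℕ) : WithBot ℕ∞) ≤ Order.krullDim {z : X // z ∈ (U : Set X) ∧ f z = y} := by
  subst hy
  exact tr_le_krullDim_fibU f U x hxU₁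

theorem tr_le_of_specializes (x x' : X) (hsp : x ⤳ x') (hfx : f x = f x') :
    tr f x' ≤ tr f x := by
  by_cases hne : x = x'
  · rw [hne]
  · exact (tr_lt_of_specializes f x x' hsp hne hfx).le

theorem tr_add_length_le (y : Y) (p : LTSeries {z : X // f z = y}) :
    tr f p.head.1 + p.length ≤ tr f p.last.1 := by
  have key : ∀ i : Fin (p.length + 1), tr f p.head.1 + (i : ℕ) ≤ tr f (p i).1 := by
    intro i
    induction i using Fin.induction with
    | zero =>
      change tr f (p 0).1 + 0 ≤ tr f (p 0).1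
      simp
    | succ i ih =>
      have hlt : p i.castSucc < p i.succ := p.step i
      rw [lt_iff_le_not_ge] at hlt
      have hsp : (p i.succ).1 ⤳ (p i.castSucc).1 := hlt.1
      have hne : (p i.succ).1 ≠ (p i.castSucc).1 := by
        intro h
        apply hlt.2
        change (p i.castSucc).1 ⤳ (p i.succ).1
        rw [h]
      have h1 := tr_lt_of_specializes f _ _ hsp hne ((p i.succ).2.trans (p i.castSucc).2.symm)
      rw [Fin.val_succ]
      have : (i.castSucc : ℕ) = (i : ℕ) := rfl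
      omega
  have := key (Fin.last _)
  rwa [Fin.val_last] at this

theorem fibreDimAt_eq [IsLocallyNoetherian Y] (x : X) :
    FlatMor.fibreDimAt f x =
      ringKrullDim ((f.fiber (f x)).presheaf.stalk (f.asFiber x)) + (tr f x : WithBot ℕ∞) := by
  rw [stalk_fiber_dim]
  unfold FlatMor.fibreDimAt FlatMor.localDim
  apply le_antisymm
  · obtain ⟨U₁, hx1, hgood⟩ := exists_good_nhd f x
    have hmem : f.asFiber x ∈ (f.fiberι (f x)) ⁻¹ᵁ U₁ := by
      change f.fiberι (f x) (f.asFiber x) ∈ U₁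
      rw [f.fiberι_asFiber x]
      exact hx1
    refine iInf_le_of_le ⟨(f.fiberι (f x)) ⁻¹ᵁ U₁, hmem⟩ ?_
    change topologicalKrullDim ↥((f.fiberι (f x)) ⁻¹' (U₁ : Set X)) ≤ _
    rw [dim_open_fiber f (f x) (U₁ : Set X) U₁.2]
    rcases eq_or_ne (Order.coheight (⟨x, rfl⟩ : {z : X // f z = f x})) ⊤ with htop | hfin
    · rw [htop]
      exact le_of_le_of_eq le_top (by rfl)
    · obtain ⟨c₀, hc₀⟩ := ENat.ne_top_iff_exists.mp hfin
      rw [← hc₀]
      have hb : Order.krullDim {z : X // z ∈ (U₁ : Set X) ∧ f z = f x} ≤ ((c₀ + tr f x : ℕ) : WithBot ℕ∞) := by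
        apply krullDim_fibU_le
        intro z' hz'U hz'f
        obtain ⟨z'', hz''f, hz''x, hz''z'⟩ := hgood z' hz'U hz'f
        have h1 := tr_le_of_specializes f z'' z' hz''z' (hz''f.trans hz'f.symm)
        have h2 := tr_le_coheight_add f x z'' hz''x hz''f
        rw [← hc₀] at h2
        have h3 : tr f z'' ≤ c₀ + tr f x := by exact_mod_cast h2
        omega
      refine hb.trans (le_of_eq ?_)
      push_cast
      rfl
  · refine le_iInf fun W => ?_
    obtain ⟨U', hU'open, hU'W⟩ := (f.fiberι (f x)).isEmbedding.isInducing.isOpen_iff.mp W.1.2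
    have hxU' : x ∈ U' := by
      have h1 : f.asFiber x ∈ (f.fiberι (f x)) ⁻¹' U' := by
        rw [hU'W]
        exact W.2
      have h2 : f.fiberι (f x) (f.asFiber x) ∈ U' := h1
      rwa [f.fiberι_asFiber x] at h2
    have e1 : ∀ S S' : Set (f.fiber (f x)), S = S' →
        topologicalKrullDim ↥S = topologicalKrullDim ↥S' := by
      intro S S' h; subst h; rfl
    have hU'W' : (f.fiberι (f x)) ⁻¹' U' =
        ((W.1 : (f.fiber (f x)).Opens) : Set (f.fiber (f x))) := hU'W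
    rw [e1 _ _ hU'W'.symm, dim_open_fiber f (f x) U' hU'open]
    haveI : Nonempty {z : X // z ∈ U' ∧ f z = f x} := ⟨⟨x, hxU', rfl⟩⟩
    rw [Order.krullDim_eq_iSup_length]
    have key : ∀ p : LTSeries {z : X // f z = f x}, p.head = ⟨x, rfl⟩ →
        (p.length : ℕ∞) + (tr f x : ℕ∞) ≤
          ⨆ (q : LTSeries {z : X // z ∈ U' ∧ f z = f x}), (q.length : ℕ∞) := by
      intro p hp
      have h1 := tr_add_length_le f (f x) p
      rw [hp] at h1
      change tr f x + p.length ≤ tr f p.last.1 at h1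
      have hlastU : p.last.1 ∈ U' := by
        have hle : p.head ≤ p.last := p.head_le_last
        rw [hp] at hle
        have hsp : p.last.1 ⤳ x := hle
        exact hsp.mem_open hU'open hxU'
      have h2 := tr_le_krullDim_fibU' f ⟨U', hU'open⟩ p.last.1 hlastU (f x) p.last.2
      rw [Order.krullDim_eq_iSup_length] at h2
      have h3 : ((tr f p.last.1 : ℕ) : ℕ∞) ≤
          ⨆ (q : LTSeries {z : X // z ∈ U' ∧ f z = f x}), (q.length : ℕ∞) := by
        exact_mod_cast h2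
      refine le_trans ?_ h3
      have : ((p.length + tr f x : ℕ) : ℕ∞) ≤ ((tr f p.last.1 : ℕ) : ℕ∞) := by
        apply Nat.cast_le.mpr
        omega
      push_cast at this
      exact this
    have hm0 : (tr f x : ℕ∞) ≤ ⨆ (q : LTSeries {z : X // z ∈ U' ∧ f z = f x}), (q.length : ℕ∞) := by
      have := key (RelSeries.singleton _ ⟨x, rfl⟩) rfl
      simpa using this
    have h6 : Order.coheight (⟨x, rfl⟩ : {z : X // f z = f x}) ≤
        (⨆ (q : LTSeries {z : X // z ∈ U' ∧ f z = f x}), (q.length : ℕ∞)) - (tr f x : ℕ∞) := by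
      rw [Order.coheight_le_iff']
      intro p hp
      exact ENat.le_sub_of_add_le_right (ENat.natCast_ne_top _) (key p hp)
    have h7 := add_le_of_le_tsub_right_of_le hm0 h6
    have := WithBot.coe_le_coe.mpr h7
    push_cast at this
    exact this

end Fibre



section Fibre

variable {X Y : Scheme.{u}} (f : X ⟶ Y) [LocallyOfFiniteType f]

/-- the universally catenary hypothesis on a stalk, transported to a chart -/
theorem isUniversallyCatenary_chart {V : Y.Opens} (hV : IsAffineOpen V) (y : Y) (hy : y ∈ V)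
    (hcat : CAlg.IsUniversallyCatenary (Y.presheaf.stalk y)) :
    CAlg.IsUniversallyCatenary (Localization.AtPrime (hV.primeIdealOf ⟨y, hy⟩).asIdeal) := by
  obtain ⟨e⟩ := nonempty_stalk_equiv hV y hy (hV.primeIdealOf ⟨y, hy⟩).asIdeal rfl
  exact isUniversallyCatenary_of_ringEquiv e hcat

theorem stalk_dim_eq_local [IsLocallyNoetherian Y] [IrreducibleSpace X] [IrreducibleSpace Y]
    (hη : f (genericPoint X) = genericPoint Y) (x : X)
    (hcat : CAlg.IsUniversallyCatenary (Y.presheaf.stalk (f x))) :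
    ringKrullDim (X.presheaf.stalk x) + (tr f x : WithBot ℕ∞) =
      ringKrullDim (Y.presheaf.stalk (f x)) + (tr f (genericPoint X) : WithBot ℕ∞) := by
  obtain ⟨V, hV, hsV, -⟩ := exists_isAffineOpen_mem_and_subset (U := (⊤ : Y.Opens)) (x := f x)
    trivial
  obtain ⟨U, hU, hxU, hUV⟩ := exists_isAffineOpen_mem_and_subset (U := f ⁻¹ᵁ V) (x := x) hsV
  letI alg : Algebra Γ(Y, V) Γ(X, U) := (f.appLE V U hUV).hom.toAlgebra
  haveI : IsNoetherianRing Γ(Y, V) := IsLocallyNoetherian.component_noetherian ⟨V, hV⟩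
  haveI : Algebra.FiniteType Γ(Y, V) Γ(X, U) := LocallyOfFiniteType.finiteType_appLE f hV hU hUV
  haveI : IsNoetherianRing Γ(X, U) := Algebra.FiniteType.isNoetherianRing Γ(Y, V) Γ(X, U)
  have hξU : genericPoint X ∈ U := genericPoint_mem_of_mem U x hxU
  haveI hlo := liesOver_chart f hV hU hUV x hxU rfl
  haveI hloξ := liesOver_chart f hV hU hUV (genericPoint X) hξU rfl
  have hQq : (hU.primeIdealOf ⟨genericPoint X, hξU⟩).asIdeal ≤ (hU.primeIdealOf ⟨x, hxU⟩).asIdeal :=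
    primeIdealOf_genericPoint_le hU hξU _
  have hloc := isUniversallyCatenary_chart hV (f x) (hUV hxU) hcat
  have key := dim_eq_rel_of_local Γ(Y, V) Γ(X, U) (hV.primeIdealOf ⟨f x, hUV hxU⟩).asIdeal
    (hU.primeIdealOf ⟨x, hxU⟩).asIdeal (hU.primeIdealOf ⟨genericPoint X, hξU⟩).asIdeal hQq hloc
  rw [tr_chart f hV hU hUV x hxU rfl] at key
  have h1 : Algebra.trdeg
      (Γ(Y, V) ⧸ (hU.primeIdealOf ⟨genericPoint X, hξU⟩).asIdeal.under Γ(Y, V))
      (Γ(X, U) ⧸ (hU.primeIdealOf ⟨genericPoint X, hξU⟩).asIdeal) =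
      (tr f (genericPoint X) : Cardinal.{u}) := by
    rw [← tr_chart f hV hU hUV (genericPoint X) hξU rfl]
    exact trdeg_quot_congr _ _ _ _ hloξ.over.symm rfl
  rw [h1, height_map_mk_of_forall_le _ _ (primeIdealOf_genericPoint_le hU hξU)] at key
  have hηV : genericPoint Y ∈ V := genericPoint_mem_of_mem V (f x) hsV
  have h2 : (hU.primeIdealOf ⟨genericPoint X, hξU⟩).asIdeal.under Γ(Y, V) =
      (hV.primeIdealOf ⟨genericPoint Y, hηV⟩).asIdeal := by
    rw [← hloξ.over]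
    congr 2
    exact Subtype.ext hη
  have hbot : ∀ P : PrimeSpectrum Γ(Y, V),
      (hU.primeIdealOf ⟨genericPoint X, hξU⟩).asIdeal.under Γ(Y, V) ≤ P.asIdeal := by
    intro P
    rw [h2]
    exact primeIdealOf_genericPoint_le hV hηV P
  haveI : ((hU.primeIdealOf ⟨genericPoint X, hξU⟩).asIdeal.under Γ(Y, V)).IsPrime :=
    Ideal.comap_isPrime _ _
  rw [height_map_mk_of_forall_le _ _ hbot] at key
  rw [ringKrullDim_stalk_eq_height hU x hxU, ringKrullDim_stalk_eq_height hV (f x) (hUV hxU)]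
  obtain ⟨c₀, hc₀⟩ := ENat.ne_top_iff_exists.mp (Ideal.height_ne_top
    (I := (hU.primeIdealOf ⟨x, hxU⟩).asIdeal) (Ideal.IsPrime.ne_top inferInstance))
  obtain ⟨m₀, hm₀⟩ := ENat.ne_top_iff_exists.mp (Ideal.height_ne_top
    (I := (hV.primeIdealOf ⟨f x, hUV hxU⟩).asIdeal) (Ideal.IsPrime.ne_top inferInstance))
  rw [← hc₀, ← hm₀] at key ⊢
  have key' : c₀ + tr f x = m₀ + tr f (genericPoint X) := by
    have : ((c₀ + tr f x : ℕ) : Cardinal.{u}) = ((m₀ + tr f (genericPoint X) : ℕ) : Cardinal.{u}) := by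
      push_cast
      simpa using key
    exact_mod_cast this
  have : ((c₀ + tr f x : ℕ) : WithBot ℕ∞) = ((m₀ + tr f (genericPoint X) : ℕ) : WithBot ℕ∞) := by
    rw [key']
  push_cast at this
  exact this

theorem S3391_main {X Y : Scheme.{u}} [IrreducibleSpace X] [IrreducibleSpace Y]
    [IsLocallyNoetherian Y] (f : X ⟶ Y) [LocallyOfFiniteType f] [IsDominant f] (x : X)
    (hcat : CAlg.IsUniversallyCatenary (Y.presheaf.stalk (f.base x)))
    (h : FlatMor.fibreDimAt f x = topologicalKrullDim ↥(f.fiber (genericPoint Y))) :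
    ringKrullDim (X.presheaf.stalk x) =
        ringKrullDim (Y.presheaf.stalk (f.base x)) + ringKrullDim ((f.fiber (f.base x)).presheaf.stalk (f.asFiber x)) := by
  have hη : f (genericPoint X) = genericPoint Y :=
    Groth.Agent.Lib.Helper4.CurveTop1.map_genericPoint_of_isDominant f
  have h1 := stalk_dim_eq_local f hη x hcat
  have h2 := fibreDimAt_eq f x
  rw [h, dim_generic_fibre f (genericPoint Y) hη] at h2
  rw [h2, ← add_assoc] at h1
  exact add_natCast_cancel _ _ _ h1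

end Fibre


end Groth.Agent.Lib.Helper4.FibDim3
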