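import Mathlib
import Groth.Agent.Lib.Helper4.FibDim3

/-!
# Fibre dimension toolkit 4: heights in fibres, components, ring-level fibre generization lemmas (helper4)
-/

set_option backward.isDefEq.respectTransparency.types false
set_option synthInstance.maxHeartbeats 400000
set_option autoImplicit false
set_option linter.unusedSectionVars false
set_option linter.style.haveILetI false
set_option linter.unusedSimpArgs false
universe u v w
open CategoryTheory CategoryTheory.Limits AlgebraicGeometry TopologicalSpace IsLocalRing Opposite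
open Cardinal
open Groth.Agent.Lib.Helper4.DimIneq1 Groth.Agent.Lib.Helper4.DimFT2 Groth.Agent.Lib.Helper4.Catenary1
open Groth.Agent.Lib.Helper4.DimEq1 Groth.Agent.Lib.Helper4.DimIneq2 Groth.Agent.Lib.Helper4.DimEq2
open Groth.Agent.Lib.Helper4.DimIneq3 Groth.Agent.Lib.Helper4.DimIneq4
open Groth.Agent.Lib.Helper4.NormFibre2 Groth.Agent.Lib.Helper4.RadBir3 Groth.Agent.Lib.Helper4.DimFT3
open Groth.Agent.Lib.Helper4.FibDim1 Groth.Agent.Lib.Helper4.FibDim2 Groth.Agent.Lib.Helper4.LocUC1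
open Groth.Agent.Lib.Helper4.FibDim3

namespace Groth.Agent.Lib.Helper4.FibDim4

section Ring

variable (A B : Type u) [CommRing A] [IsNoetherianRing A] [CommRing B] [Algebra A B]
  [Algebra.FiniteType A B]

/-- a chain of primes of the fibre above `q` of length the transcendence degree -/
theorem trdeg_le_krullDim_above (𝔭 : Ideal A) [h𝔭 : 𝔭.IsPrime] (q : Ideal B) [hq : q.IsPrime]
    [hql : q.LiesOver 𝔭] (m : ℕ) (hm : Algebra.trdeg (A ⧸ 𝔭) (B ⧸ q) = m) :
    (m : WithBot ℕ∞) ≤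
      Order.krullDim {P : PrimeSpectrum B // q ≤ P.asIdeal ∧ P.asIdeal.under A = 𝔭} := by
  haveI : IsDomain (A ⧸ 𝔭) := Ideal.Quotient.isDomain _
  haveI : IsDomain (B ⧸ q) := Ideal.Quotient.isDomain _
  haveI : Algebra.FiniteType A (B ⧸ q) :=
    Algebra.FiniteType.of_surjective (Ideal.Quotient.mkₐ A q) (Ideal.Quotient.mkₐ_surjective A q)
  haveI : Algebra.FiniteType (A ⧸ 𝔭) (B ⧸ q) :=
    Algebra.FiniteType.of_restrictScalars_finiteType A (A ⧸ 𝔭) (B ⧸ q)
  obtain ⟨q₀, hq₀, hq₀A, hq₀h⟩ := exists_prime_generic_fibre (A ⧸ 𝔭) (B ⧸ q)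
  have hmem : ∀ (P : Ideal (B ⧸ q)), P ≤ q₀ → ∀ a : A,
      algebraMap A B a ∈ P.comap (Ideal.Quotient.mk q) ↔ a ∈ 𝔭 := by
    intro P hP a
    rw [Ideal.mem_comap]
    constructor
    · intro h
      have h1 : algebraMap (A ⧸ 𝔭) (B ⧸ q) (Ideal.Quotient.mk 𝔭 a) ∈ q₀ := by
        rw [Ideal.Quotient.algebraMap_mk_of_liesOver]
        exact hP h
      have h2 : Ideal.Quotient.mk 𝔭 a ∈ q₀.comap (algebraMap (A ⧸ 𝔭) (B ⧸ q)) := h1
      rw [hq₀A, Ideal.mem_bot, Ideal.Quotient.eq_zero_iff_mem] at h2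
      exact h2
    · intro h
      have h1 : Ideal.Quotient.mk q (algebraMap A B a) = 0 := by
        rw [Ideal.Quotient.eq_zero_iff_mem, ← Ideal.mem_of_liesOver q 𝔭]
        exact h
      rw [h1]
      exact zero_mem _
  have hφ : ∀ P : Set.Iic (⟨q₀, hq₀⟩ : PrimeSpectrum (B ⧸ q)),
      q ≤ (PrimeSpectrum.comap (Ideal.Quotient.mk q) P.1).asIdeal ∧
      (PrimeSpectrum.comap (Ideal.Quotient.mk q) P.1).asIdeal.under A = 𝔭 := by
    intro P
    constructor
    · intro b hb
      change Ideal.Quotient.mk q b ∈ P.1.asIdeal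
      rw [Ideal.Quotient.eq_zero_iff_mem.mpr hb]
      exact zero_mem _
    · ext a
      rw [Ideal.under, Ideal.mem_comap]
      exact hmem P.1.asIdeal P.2 a
  have hmono : StrictMono (fun P : Set.Iic (⟨q₀, hq₀⟩ : PrimeSpectrum (B ⧸ q)) =>
      (⟨PrimeSpectrum.comap (Ideal.Quotient.mk q) P.1, hφ P⟩ :
        {P : PrimeSpectrum B // q ≤ P.asIdeal ∧ P.asIdeal.under A = 𝔭})) := fun x y hxy =>
    RingHom.strictMono_comap_of_surjective (f := Ideal.Quotient.mk q)
      Ideal.Quotient.mk_surjective hxy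
  have h1 := Order.krullDim_le_of_strictMono _ hmono
  rw [← Order.height_eq_krullDim_Iic, ← PrimeSpectrum.height_eq_orderHeight] at h1
  have h2 : q₀.height = (m : ℕ∞) := by
    apply Cardinal.ofENat_injective
    rw [hq₀h, hm]
    simp
  change ((q₀.height : ℕ∞) : WithBot ℕ∞) ≤ _ at h1
  rw [h2] at h1
  exact h1

end Ring

section Fibre

variable {X Y : Scheme.{u}} (f : X ⟶ Y) [LocallyOfFiniteType f]

theorem tr_le_height_fib [IsLocallyNoetherian Y] (x : X) :
    (tr f x : ℕ∞) ≤ Order.height (⟨x, rfl⟩ : {z : X // f z = f x}) := by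
  obtain ⟨V, hV, hsV, -⟩ := exists_isAffineOpen_mem_and_subset (U := (⊤ : Y.Opens)) (x := f x)
    trivial
  obtain ⟨U, hU, hxU, hUV⟩ := exists_isAffineOpen_mem_and_subset (U := f ⁻¹ᵁ V) (x := x) hsV
  letI alg : Algebra Γ(Y, V) Γ(X, U) := (f.appLE V U hUV).hom.toAlgebra
  haveI : IsNoetherianRing Γ(Y, V) := IsLocallyNoetherian.component_noetherian ⟨V, hV⟩
  haveI : Algebra.FiniteType Γ(Y, V) Γ(X, U) := LocallyOfFiniteType.finiteType_appLE f hV hU hUV
  haveI hlo := liesOver_chart f hV hU hUV x hxU rfl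
  have hdim := trdeg_le_krullDim_above Γ(Y, V) Γ(X, U)
    (hV.primeIdealOf ⟨f x, hUV hxU⟩).asIdeal (hU.primeIdealOf ⟨x, hxU⟩).asIdeal (tr f x)
    (tr_chart f hV hU hUV x hxU rfl)
  have hfib : ∀ P : PrimeSpectrum Γ(X, U),
      P.asIdeal.under Γ(Y, V) = (hV.primeIdealOf ⟨f x, hUV hxU⟩).asIdeal →
      f (hU.fromSpec P) = f x := by
    intro P hP
    have hzU : hU.fromSpec P ∈ U := fromSpec_mem hU P
    have h1 := liesOver_chart f hV hU hUV _ hzU rfl
    have h2 : hV.primeIdealOf ⟨f (hU.fromSpec P), hUV hzU⟩ = hV.primeIdealOf ⟨f x, hUV hxU⟩ := by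
      apply PrimeSpectrum.ext
      rw [h1.over, primeIdealOf_fromSpec hU P]
      exact hP
    exact congrArg Subtype.val (primeIdealOf_injective' hV h2)
  have hiff : ∀ P₁ P₂ : PrimeSpectrum Γ(X, U), hU.fromSpec P₁ ⤳ hU.fromSpec P₂ ↔ P₁ ≤ P₂ := by
    intro P₁ P₂
    rw [specializes_iff_primeIdealOf_le hU ⟨_, fromSpec_mem hU P₁⟩ ⟨_, fromSpec_mem hU P₂⟩,
      primeIdealOf_fromSpec, primeIdealOf_fromSpec]
    rfl
  have hxspec : ∀ P : PrimeSpectrum Γ(X, U), (hU.primeIdealOf ⟨x, hxU⟩).asIdeal ≤ P.asIdeal →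
      x ⤳ hU.fromSpec P := by
    intro P hP
    rw [specializes_iff_primeIdealOf_le hU ⟨x, hxU⟩ ⟨_, fromSpec_mem hU P⟩, primeIdealOf_fromSpec]
    exact hP
  rw [← WithBot.coe_le_coe, Order.height_eq_krullDim_Iic,
    ← Order.krullDim_orderDual (α := Set.Iic (⟨x, rfl⟩ : {z : X // f z = f x}))]
  refine hdim.trans ?_
  refine Order.krullDim_le_of_strictMono
    (fun P : {P : PrimeSpectrum Γ(X, U) // (hU.primeIdealOf ⟨x, hxU⟩).asIdeal ≤ P.asIdeal ∧
        P.asIdeal.under Γ(Y, V) = (hV.primeIdealOf ⟨f x, hUV hxU⟩).asIdeal} =>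
      OrderDual.toDual (⟨⟨hU.fromSpec P.1, hfib P.1 P.2.2⟩, hxspec P.1 P.2.1⟩ :
        Set.Iic (⟨x, rfl⟩ : {z : X // f z = f x}))) ?_
  intro P P' hlt
  rw [lt_iff_le_not_ge] at hlt
  rw [OrderDual.toDual_lt_toDual, lt_iff_le_not_ge]
  refine ⟨(hiff P.1 P'.1).mpr hlt.1, fun h => hlt.2 ((hiff P'.1 P.1).mp h)⟩

theorem height_fib_eq [IsLocallyNoetherian Y] (x : X) :
    Order.height (⟨x, rfl⟩ : {z : X // f z = f x}) = (tr f x : ℕ∞) := by
  apply le_antisymm _ (tr_le_height_fib f x)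
  rw [Order.height_le_iff']
  intro p hp
  have h1 := tr_add_length_le f (f x) p
  rw [hp] at h1
  change tr f p.head.1 + p.length ≤ tr f x at h1
  have : p.length ≤ tr f x := by omega
  exact_mod_cast this

end Fibre



section Comp

variable (F : Scheme.{u})

theorem dim_closure_singleton (w : F) :
    topologicalKrullDim ↥(closure ({w} : Set F)) = (Order.height w : WithBot ℕ∞) := by
  haveI : QuasiSober ↥(closure ({w} : Set F)) :=
    isClosed_closure.isClosedEmbedding_subtypeVal.quasiSober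
  rw [Groth.Agent.Helper4.GM.topologicalKrullDim_eq_krullDim_specialization,
    Order.height_eq_krullDim_Iic]
  have hle : ∀ a b : ↥(closure ({w} : Set F)),
      (specializationOrder ↥(closure ({w} : Set F))).le a b ↔ a.1 ≤ b.1 := by
    intro a b
    change b ⤳ a ↔ b.1 ⤳ a.1
    rw [Topology.IsInducing.subtypeVal.specializes_iff]
  have hmem : ∀ a : F, a ∈ closure ({w} : Set F) ↔ a ≤ w := by
    intro a
    rw [← specializes_iff_mem_closure]
    rfl
  apply le_antisymm
  · refine @Order.krullDim_le_of_strictMono _ _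
      (specializationOrder ↥(closure ({w} : Set F))).toPreorder _
      (fun a : ↥(closure ({w} : Set F)) => (⟨a.1, (hmem a.1).mp a.2⟩ : Set.Iic w)) ?_
    intro a b hlt
    have hlt' := (@lt_iff_le_not_ge _
      (specializationOrder ↥(closure ({w} : Set F))).toPreorder a b).mp hlt
    rw [lt_iff_le_not_ge]
    exact ⟨(hle a b).mp hlt'.1, fun h => hlt'.2 ((hle b a).mpr h)⟩
  · refine @Order.krullDim_le_of_strictMono _ _ _
      (specializationOrder ↥(closure ({w} : Set F))).toPreorder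
      (fun a : Set.Iic w => (⟨a.1, (hmem a.1).mpr a.2⟩ : ↥(closure ({w} : Set F)))) ?_
    intro a b hlt
    rw [lt_iff_le_not_ge] at hlt
    apply (@lt_iff_le_not_ge _ (specializationOrder ↥(closure ({w} : Set F))).toPreorder _ _).mpr
    exact ⟨(hle _ _).mpr hlt.1, fun h => hlt.2 ((hle _ _).mp h)⟩

theorem exists_isMax_closure_eq (Z : Set F) (hZ : Z ∈ irreducibleComponents F) :
    ∃ w : F, IsMax w ∧ closure ({w} : Set F) = Z := by
  have hirr : IsIrreducible Z := hZ.1
  have hcl : IsClosed Z := isClosed_of_mem_irreducibleComponents Z hZ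
  have hgen : IsGenericPoint hirr.genericPoint Z := hirr.isGenericPoint_genericPoint hcl
  refine ⟨hirr.genericPoint, ?_, hgen.def⟩
  intro b hb
  change hirr.genericPoint ⤳ b
  have hb' : b ⤳ hirr.genericPoint := hb
  have h1 : Z ⊆ closure {b} := by
    rw [← hgen.def]
    exact closure_minimal (Set.singleton_subset_iff.mpr hb'.mem_closure) isClosed_closure
  have h2 : closure {b} ⊆ Z := hZ.2 (isIrreducible_singleton.closure) h1
  apply hgen.specializes
  exact h2 (subset_closure (Set.mem_singleton b))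

theorem closure_mem_irreducibleComponents_of_isMax (w : F) (hw : IsMax w) :
    closure ({w} : Set F) ∈ irreducibleComponents F := by
  refine ⟨isIrreducible_singleton.closure, ?_⟩
  intro S hS hle
  -- S is irreducible containing closure {w}; its closure has a generic point b with b ⤳ w
  have hScl : IsIrreducible (closure S) := hS.closure
  have hgen : IsGenericPoint hScl.genericPoint (closure S) :=
    hScl.isGenericPoint_genericPoint isClosed_closure
  have hwS : w ∈ closure S := subset_closure (hle (subset_closure (Set.mem_singleton w)))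
  have h1 : hScl.genericPoint ⤳ w := hgen.specializes hwS
  have h2 : w ⤳ hScl.genericPoint := hw h1
  intro a ha
  have h3 : hScl.genericPoint ⤳ a := hgen.specializes (subset_closure ha)
  exact (h2.trans h3).mem_closure

end Comp



section OrderB

theorem height_add_length_le {α : Type*} [Preorder α] (p : LTSeries α) :
    Order.height p.head + p.length ≤ Order.height p.last := by
  induction p using RelSeries.inductionOn' with
  | singleton x => simp
  | snoc p x hx ih =>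
    have h1 : Order.height p.last + 1 ≤ Order.height x := Order.height_add_one_le hx
    rw [RelSeries.last_snoc, RelSeries.head_snoc, RelSeries.snoc_length]
    push_cast
    calc Order.height p.head + (↑p.length + 1) = (Order.height p.head + ↑p.length) + 1 := by
          rw [add_assoc]
      _ ≤ Order.height p.last + 1 := add_le_add ih le_rfl
      _ ≤ Order.height x := h1

theorem height_add_height_Ici_le {α : Type*} [Preorder α] (a b : α) (hab : a ≤ b) :
    Order.height a + Order.height (⟨b, hab⟩ : Set.Ici a) ≤ Order.height b := by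
  by_cases htop : Order.height a = ⊤
  · have : Order.height b = ⊤ := top_le_iff.mp (htop ▸ Order.height_mono hab)
    rw [this]
    exact le_top
  rw [add_comm]
  apply add_le_of_le_tsub_right_of_le (Order.height_mono hab)
  rw [Order.height_le_iff']
  intro p hp
  have hmono : StrictMono (fun z : Set.Ici a => (z : α)) := fun _ _ h => h
  have h1 := height_add_length_le (p.map _ hmono)
  rw [LTSeries.last_map, LTSeries.head_map, LTSeries.map_length, hp] at h1
  have h2 : Order.height a ≤ Order.height (p.head : α) := Order.height_mono p.head.2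
  apply ENat.le_sub_of_add_le_right htop
  calc (p.length : ℕ∞) + Order.height a = Order.height a + p.length := add_comm _ _
    _ ≤ Order.height (p.head : α) + p.length := add_le_add h2 le_rfl
    _ ≤ Order.height b := h1

end OrderB

section RingB

theorem height_add_height_map_mk_le {T : Type u} [CommRing T] (P q : Ideal T) [hP : P.IsPrime]
    [hq : q.IsPrime] (hPq : P ≤ q) :
    P.height + (q.map (Ideal.Quotient.mk P)).height ≤ q.height := by
  rw [← height_Ici_eq P q hPq]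
  have h1 := PrimeSpectrum.height_eq_orderHeight (⟨P, hP⟩ : PrimeSpectrum T)
  have h2 := PrimeSpectrum.height_eq_orderHeight (⟨q, hq⟩ : PrimeSpectrum T)
  change P.height = _ at h1
  change q.height = _ at h2
  rw [h1, h2]
  exact height_add_height_Ici_le (⟨P, hP⟩ : PrimeSpectrum T) ⟨q, hq⟩ hPq

theorem height_le_of_mem_minimalPrimes_map {R S : Type*} [CommRing R] [CommRing S] [Algebra R S]
    [IsNoetherianRing R] [IsNoetherianRing S] (p : Ideal R) [p.IsPrime] (P : Ideal S) [P.IsPrime] [P.LiesOver p]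
    (hmin : P ∈ (p.map (algebraMap R S)).minimalPrimes) : P.height ≤ p.height := by
  have h1 := Ideal.height_le_height_add_of_liesOver p P
  have h2 : (P.map (Ideal.Quotient.mk (p.map (algebraMap R S)))).height = 0 := by
    rw [Ideal.minimalPrimes_eq_comap] at hmin
    obtain ⟨Q, hQ, hQP⟩ := hmin
    rw [← hQP, Ideal.map_comap_of_surjective _ Ideal.Quotient.mk_surjective]
    haveI := hQ.1.1
    exact Ideal.height_eq_zero_iff.mpr hQ
  rw [h2, add_zero] at h1
  exact h1

end RingB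


section RingC

variable (A B : Type u) [CommRing A] [IsNoetherianRing A] [CommRing B] [Algebra A B]
  [Algebra.FiniteType A B]

theorem exists_fibre_min_above (𝔭 : Ideal A) [h𝔭 : 𝔭.IsPrime] (q : Ideal B) [hq : q.IsPrime]
    [hql : q.LiesOver 𝔭] (P : Ideal B) [hP : P.IsPrime] (hPq : P ≤ q) :
    ∃ Q : Ideal B, ∃ _ : Q.IsPrime, P ≤ Q ∧ Q ≤ q ∧ Q.LiesOver 𝔭 ∧
      (Q.map (Ideal.Quotient.mk P)).height ≤
        (𝔭.map (Ideal.Quotient.mk (P.under A))).height := by
  haveI : IsNoetherianRing B := Algebra.FiniteType.isNoetherianRing A B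
  have h0 : P.under A ≤ 𝔭 := by
    rw [Ideal.over_def q 𝔭]
    exact Ideal.comap_mono hPq
  have h𝔭q : 𝔭.map (algebraMap A B) ≤ q := by
    rw [Ideal.map_le_iff_le_comap, ← Ideal.under, ← Ideal.over_def q 𝔭]
  have hIq : 𝔭.map (algebraMap A B) ⊔ P ≤ q := sup_le h𝔭q hPq
  obtain ⟨Q, hQmin, hQq⟩ := Ideal.exists_minimalPrimes_le hIq
  haveI hQp : Q.IsPrime := hQmin.1.1
  have hPQ : P ≤ Q := le_sup_right.trans hQmin.1.2
  have h𝔭Q : 𝔭.map (algebraMap A B) ≤ Q := le_sup_left.trans hQmin.1.2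
  haveI hQl : Q.LiesOver 𝔭 := by
    constructor
    apply le_antisymm
    · exact Ideal.le_comap_of_map_le h𝔭Q
    · rw [Ideal.over_def q 𝔭]
      exact Ideal.comap_mono hQq
  refine ⟨Q, hQp, hPQ, hQq, hQl, ?_⟩
  haveI : (P.under A).IsPrime := Ideal.comap_isPrime _ P
  haveI := isPrime_map_mk P Q hPQ
  haveI := isPrime_map_mk (P.under A) 𝔭 h0
  haveI := liesOver_map_mk A B 𝔭 Q P hPQ
  apply height_le_of_mem_minimalPrimes_map
  have hcomp : (algebraMap (A ⧸ P.under A) (B ⧸ P)).comp (Ideal.Quotient.mk (P.under A)) =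
      (Ideal.Quotient.mk P).comp (algebraMap A B) := by
    ext a
    simp only [RingHom.comp_apply]
    rw [Ideal.Quotient.algebraMap_mk_of_liesOver]
  rw [Ideal.map_map, hcomp, ← Ideal.map_map,
    Ideal.minimalPrimes_map_of_surjective Ideal.Quotient.mk_surjective, Ideal.mk_ker]
  exact ⟨Q, hQmin, rfl⟩


theorem exists_trdeg_nat (𝔭 : Ideal A) [h𝔭 : 𝔭.IsPrime] (q : Ideal B) [hq : q.IsPrime]
    [hql : q.LiesOver 𝔭] : ∃ n : ℕ, Algebra.trdeg (A ⧸ 𝔭) (B ⧸ q) = n := by
  haveI : IsDomain (A ⧸ 𝔭) := Ideal.Quotient.isDomain _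
  haveI : IsDomain (B ⧸ q) := Ideal.Quotient.isDomain _
  haveI : Algebra.FiniteType A (B ⧸ q) :=
    Algebra.FiniteType.of_surjective (Ideal.Quotient.mkₐ A q) (Ideal.Quotient.mkₐ_surjective A q)
  haveI : Algebra.FiniteType (A ⧸ 𝔭) (B ⧸ q) :=
    Algebra.FiniteType.of_restrictScalars_finiteType A (A ⧸ 𝔭) (B ⧸ q)
  have h := trdeg_lt_aleph0_of_finiteType (R := A ⧸ 𝔭) (S := B ⧸ q)
  obtain ⟨n, hn⟩ := Cardinal.lt_aleph0.mp h
  exact ⟨n, hn⟩

theorem exists_height_nat {T : Type u} [CommRing T] [IsNoetherianRing T] (q : Ideal T)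
    [hq : q.IsPrime] : ∃ n : ℕ, q.height = n := by
  obtain ⟨n, hn⟩ := ENat.ne_top_iff_exists.mp (Ideal.height_ne_top
    (I := q) (Ideal.IsPrime.ne_top inferInstance))
  exact ⟨n, hn.symm⟩

theorem exists_fibre_gen_of_dim_eq (𝔭 : Ideal A) [h𝔭 : 𝔭.IsPrime] (q : Ideal B) [hq : q.IsPrime]
    [hql : q.LiesOver 𝔭] (hloc : CAlg.IsUniversallyCatenary (Localization.AtPrime 𝔭)) (c : ℕ)
    (hdim : q.height = 𝔭.height + c) :
    ∃ Q : Ideal B, ∃ _ : Q.IsPrime, ∃ _ : Q.LiesOver 𝔭, Q ≤ q ∧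
      (c : Cardinal.{u}) + Algebra.trdeg (A ⧸ 𝔭) (B ⧸ q) ≤ Algebra.trdeg (A ⧸ 𝔭) (B ⧸ Q) ∧
      (𝔭.height : Cardinal.{u}) + c + Algebra.trdeg (A ⧸ 𝔭) (B ⧸ q) ≤
        (Q.height : Cardinal.{u}) + Algebra.trdeg (A ⧸ 𝔭) (B ⧸ Q) := by
  haveI : IsNoetherianRing B := Algebra.FiniteType.isNoetherianRing A B
  obtain ⟨ξ, hξmin, hξq, hξh⟩ := exists_minimalPrimes_height_eq q
  haveI hξp : ξ.IsPrime := hξmin.1.1
  obtain ⟨Q, hQp, hξQ, hQq, hQl, hQh⟩ := exists_fibre_min_above A B 𝔭 q ξ hξq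
  refine ⟨Q, hQp, hQl, hQq, ?_⟩
  have h0 : ξ.under A ≤ 𝔭 := by
    rw [Ideal.over_def q 𝔭]
    exact Ideal.comap_mono hξq
  haveI : (ξ.under A).IsPrime := Ideal.comap_isPrime _ ξ
  have key1 := dim_eq_rel_of_local A B 𝔭 q ξ hξq hloc
  have key2 := dim_eq_rel_of_local A B 𝔭 Q ξ hξQ hloc
  have h3 := height_map_mk_le (ξ.under A) 𝔭 h0
  have h4 := height_map_mk_le ξ Q hξQ
  haveI := isPrime_map_mk ξ Q hξQ
  haveI := isPrime_map_mk ξ q hξq
  haveI := isPrime_map_mk (ξ.under A) 𝔭 h0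
  obtain ⟨nq, hnq⟩ := exists_trdeg_nat A B 𝔭 q
  obtain ⟨nQ, hnQ⟩ := exists_trdeg_nat A B 𝔭 Q
  obtain ⟨t, ht⟩ := exists_trdeg_nat A B (ξ.under A) ξ
  obtain ⟨a, ha⟩ := exists_height_nat q
  obtain ⟨b, hb⟩ := exists_height_nat 𝔭
  obtain ⟨d, hd⟩ := exists_height_nat Q
  obtain ⟨e, he⟩ := exists_height_nat (𝔭.map (Ideal.Quotient.mk (ξ.under A)))
  obtain ⟨g, hg⟩ := exists_height_nat (Q.map (Ideal.Quotient.mk ξ))
  rw [hξh, ha, hnq, he, ht] at key1
  rw [hg, hnQ, he, ht] at key2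
  rw [he, hb] at h3
  rw [hg, hd] at h4
  rw [hg, he] at hQh
  rw [ha, hb] at hdim
  rw [hnq, hnQ, hb, hd]
  have k1 : a + nq = e + t := by exact_mod_cast key1
  have k2 : g + nQ = e + t := by exact_mod_cast key2
  have k3 : e ≤ b := by exact_mod_cast h3
  have k4 : g ≤ d := by exact_mod_cast h4
  have k5 : g ≤ e := by exact_mod_cast hQh
  have k6 : a = b + c := by exact_mod_cast hdim
  constructor
  · have : c + nq ≤ nQ := by omega
    exact_mod_cast this
  · have : b + c + nq ≤ d + nQ := by omega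
    exact_mod_cast this

theorem dim_ge_of_fibre_gen (𝔭 : Ideal A) [h𝔭 : 𝔭.IsPrime] (q : Ideal B) [hq : q.IsPrime]
    [hql : q.LiesOver 𝔭] (Q : Ideal B) [hQ : Q.IsPrime] (hQq : Q ≤ q) [hQl : Q.LiesOver 𝔭]
    (c : ℕ) (hh : 𝔭.height ≤ Q.height)
    (htr : Algebra.trdeg (A ⧸ 𝔭) (B ⧸ Q) = (c : Cardinal.{u}) + Algebra.trdeg (A ⧸ 𝔭) (B ⧸ q)) :
    𝔭.height + c ≤ q.height := by
  haveI : IsNoetherianRing B := Algebra.FiniteType.isNoetherianRing A B
  have key := dim_eq_rel_fibre A B 𝔭 q Q hQq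
  have h1 := height_add_height_map_mk_le Q q hQq
  haveI := isPrime_map_mk Q q hQq
  obtain ⟨nq, hnq⟩ := exists_trdeg_nat A B 𝔭 q
  obtain ⟨nQ, hnQ⟩ := exists_trdeg_nat A B 𝔭 Q
  obtain ⟨a, ha⟩ := exists_height_nat q
  obtain ⟨b, hb⟩ := exists_height_nat 𝔭
  obtain ⟨d, hd⟩ := exists_height_nat Q
  obtain ⟨g, hg⟩ := exists_height_nat (q.map (Ideal.Quotient.mk Q))
  rw [hg, hnq, hnQ] at key
  rw [hnq, hnQ] at htr
  rw [hd, hg, ha] at h1
  rw [hb, hd] at hh
  rw [hb, ha]
  have k1 : g + nq = nQ := by exact_mod_cast key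
  have k2 : nQ = c + nq := by exact_mod_cast htr
  have k3 : d + g ≤ a := by exact_mod_cast h1
  have k4 : b ≤ d := by exact_mod_cast hh
  have : b + c ≤ a := by omega
  exact_mod_cast this

end RingC


end Groth.Agent.Lib.Helper4.FibDim4
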