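import Mathlib
import Groth.Agent.Lib.Helper4.FibDim4

/-!
# Fibre dimension toolkit 5: S3448 (dimension formula iff maximal generization) (helper4)
-/

set_option backward.isDefEq.respectTransparency.types false
set_option synthInstance.maxHeartbeats 400000
set_option autoImplicit false
set_option linter.unusedSectionVars false
set_option linter.style.haveILetI false
set_option linter.unusedSimpArgs false
universe u v w
open CategoryTheory CategoryTheory.Limits AlgebraicGeometry TopologicalSpace IsLocalRing Opposite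
open Cardinal
open Groth.Agent.Lib.Helper4.DimIneq1 Groth.Agent.Lib.Helper4.DimFT2 Groth.Agent.Lib.Helper4.Catenary1
open Groth.Agent.Lib.Helper4.DimEq1 Groth.Agent.Lib.Helper4.DimIneq2 Groth.Agent.Lib.Helper4.DimEq2
open Groth.Agent.Lib.Helper4.DimIneq3 Groth.Agent.Lib.Helper4.DimIneq4
open Groth.Agent.Lib.Helper4.NormFibre2 Groth.Agent.Lib.Helper4.RadBir3 Groth.Agent.Lib.Helper4.DimFT3
open Groth.Agent.Lib.Helper4.FibDim1 Groth.Agent.Lib.Helper4.FibDim2 Groth.Agent.Lib.Helper4.LocUC1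
open Groth.Agent.Lib.Helper4.FibDim3 Groth.Agent.Lib.Helper4.FibDim4

namespace Groth.Agent.Lib.Helper4.FibDim5

section Fibre2

variable {X Y : Scheme.{u}} (f : X ⟶ Y) [LocallyOfFiniteType f]

/-- maximal points of a fibre: `IsMax` form -/
theorem isMax_fib_iff (z : X) :
    IsMax (⟨z, rfl⟩ : {w : X // f w = f z}) ↔ ∀ z' : X, f z' = f z → z' ⤳ z → z' = z := by
  constructor
  · intro h z' hz' hsp
    have h1 : (⟨z, rfl⟩ : {w : X // f w = f z}) ≤ ⟨z', hz'⟩ := hsp
    have h2 := h h1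
    have h3 : z ⤳ z' := h2
    exact (hsp.antisymm h3).eq
  · intro h b hb
    have h1 : b.1 ⤳ z := hb
    have h2 := h b.1 b.2 h1
    have : b = ⟨z, rfl⟩ := Subtype.ext h2
    rw [this]

theorem max_point_facts [IsLocallyNoetherian Y] (z : X)
    (hmax : ∀ z' : X, f z' = f z → z' ⤳ z → z' = z) :
    FlatMor.fibreDimAt f z = (tr f z : WithBot ℕ∞) ∧
      ringKrullDim (X.presheaf.stalk z) ≤ ringKrullDim (Y.presheaf.stalk (f z)) := by
  have h0 : ringKrullDim ((f.fiber (f z)).presheaf.stalk (f.asFiber z)) = 0 :=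
    (stalk_fiber_dim_eq_zero_iff f z).mpr ((isMax_fib_iff f z).mpr hmax)
  constructor
  · rw [fibreDimAt_eq f z, h0, zero_add]
  · have := Groth.Agent.Lib.Helper4.FibreStalkDim1.S3447_main f z
    rw [h0, add_zero] at this
    exact this


theorem S3448_main [IsLocallyNoetherian Y] (x : X)
    (hcat : CAlg.IsUniversallyCatenary (Y.presheaf.stalk (f.base x))) :
    ringKrullDim (X.presheaf.stalk x) =
        ringKrullDim (Y.presheaf.stalk (f.base x)) +
          ringKrullDim ((f.fiber (f.base x)).presheaf.stalk (f.asFiber x)) ↔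
      ∃ z : X, f.base z = f.base x ∧ z ⤳ x ∧
        (∀ z' : X, f.base z' = f.base x → z' ⤳ z → z' = z) ∧
        FlatMor.fibreDimAt f z = FlatMor.fibreDimAt f x ∧
        ringKrullDim (X.presheaf.stalk z) = ringKrullDim (Y.presheaf.stalk (f.base z)) := by
  obtain ⟨V, hV, hsV, -⟩ := exists_isAffineOpen_mem_and_subset (U := (⊤ : Y.Opens)) (x := f x)
    trivial
  obtain ⟨U, hU, hxU, hUV⟩ := exists_isAffineOpen_mem_and_subset (U := f ⁻¹ᵁ V) (x := x) hsV
  letI alg : Algebra Γ(Y, V) Γ(X, U) := (f.appLE V U hUV).hom.toAlgebra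
  haveI : IsNoetherianRing Γ(Y, V) := IsLocallyNoetherian.component_noetherian ⟨V, hV⟩
  haveI : Algebra.FiniteType Γ(Y, V) Γ(X, U) := LocallyOfFiniteType.finiteType_appLE f hV hU hUV
  haveI : IsNoetherianRing Γ(X, U) := Algebra.FiniteType.isNoetherianRing Γ(Y, V) Γ(X, U)
  haveI hlo := liesOver_chart f hV hU hUV x hxU rfl
  have hloc := isUniversallyCatenary_chart hV (f x) (hUV hxU) hcat
  have hdx := ringKrullDim_stalk_eq_height hU x hxU
  have hdy := ringKrullDim_stalk_eq_height hV (f x) (hUV hxU)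
  have hfx := stalk_fiber_dim f x
  have htrx := tr_chart f hV hU hUV x hxU rfl
  obtain ⟨a, ha⟩ := exists_height_nat (hU.primeIdealOf ⟨x, hxU⟩).asIdeal
  obtain ⟨b, hb⟩ := exists_height_nat (hV.primeIdealOf ⟨f x, hUV hxU⟩).asIdeal
  have e2 : ∀ y y' : Y, y = y' →
      ringKrullDim (Y.presheaf.stalk y) = ringKrullDim (Y.presheaf.stalk y') := by
    rintro y _ rfl; rfl
  -- facts about points of the fibre in the chart
  have hzfacts : ∀ (z : X) (hzU : z ∈ U) (hfz : f z = f x),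
      ∃ _ : (hU.primeIdealOf ⟨z, hzU⟩).asIdeal.LiesOver
        (hV.primeIdealOf ⟨f x, hUV hxU⟩).asIdeal,
      Algebra.trdeg (Γ(Y, V) ⧸ (hV.primeIdealOf ⟨f x, hUV hxU⟩).asIdeal)
        (Γ(X, U) ⧸ (hU.primeIdealOf ⟨z, hzU⟩).asIdeal) = (tr f z : Cardinal.{u}) := by
    intro z hzU hfz
    haveI h1 := liesOver_chart f hV hU hUV z hzU rfl
    have h2 : hV.primeIdealOf ⟨f z, hUV hzU⟩ = hV.primeIdealOf ⟨f x, hUV hxU⟩ :=
      congrArg hV.primeIdealOf (Subtype.ext hfz)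
    have h3 : (hU.primeIdealOf ⟨z, hzU⟩).asIdeal.LiesOver
        (hV.primeIdealOf ⟨f x, hUV hxU⟩).asIdeal := by
      rw [← h2]; exact h1
    refine ⟨h3, ?_⟩
    rw [← tr_chart f hV hU hUV z hzU rfl]
    exact trdeg_quot_congr _ _ _ _ (congrArg PrimeSpectrum.asIdeal h2.symm) rfl
  constructor
  · intro hdim
    rw [hdx, hdy, hfx, ha, hb] at hdim
    obtain ⟨c, hc⟩ : ∃ c : ℕ, Order.coheight (⟨x, rfl⟩ : {z : X // f z = f x}) = c := by
      generalize Order.coheight (⟨x, rfl⟩ : {z : X // f z = f x}) = c' at hdim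
      induction c' using ENat.recTopCoe with
      | top =>
        exfalso
        rw [← WithBot.coe_add, WithBot.coe_inj] at hdim
        simp at hdim
      | coe n => exact ⟨n, rfl⟩
    rw [hc] at hdim hfx
    have hdim' : (hU.primeIdealOf ⟨x, hxU⟩).asIdeal.height =
        (hV.primeIdealOf ⟨f x, hUV hxU⟩).asIdeal.height + c := by
      rw [ha, hb]
      exact_mod_cast hdim
    obtain ⟨Q, hQp, hQl, hQq, hi, hii⟩ := exists_fibre_gen_of_dim_eq Γ(Y, V) Γ(X, U)
      (hV.primeIdealOf ⟨f x, hUV hxU⟩).asIdeal (hU.primeIdealOf ⟨x, hxU⟩).asIdeal hloc c hdim'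
    have hzU : hU.fromSpec ⟨Q, hQp⟩ ∈ U := fromSpec_mem hU _
    have hprime : hU.primeIdealOf ⟨hU.fromSpec ⟨Q, hQp⟩, hzU⟩ = ⟨Q, hQp⟩ :=
      primeIdealOf_fromSpec hU _
    have hfz : f (hU.fromSpec ⟨Q, hQp⟩) = f x := by
      have h1 := liesOver_chart f hV hU hUV _ hzU rfl
      have h2 : hV.primeIdealOf ⟨f (hU.fromSpec ⟨Q, hQp⟩), hUV hzU⟩ =
          hV.primeIdealOf ⟨f x, hUV hxU⟩ := by
        apply PrimeSpectrum.ext
        rw [h1.over, hprime]
        exact hQl.over.symm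
      exact congrArg Subtype.val (primeIdealOf_injective' hV h2)
    have hzx : hU.fromSpec ⟨Q, hQp⟩ ⤳ x := by
      rw [specializes_iff_primeIdealOf_le hU ⟨_, hzU⟩ ⟨x, hxU⟩, hprime]
      exact hQq
    obtain ⟨hlz, htrz⟩ := hzfacts _ hzU hfz
    have htrz' : Algebra.trdeg (Γ(Y, V) ⧸ (hV.primeIdealOf ⟨f x, hUV hxU⟩).asIdeal)
        (Γ(X, U) ⧸ Q) = (tr f (hU.fromSpec ⟨Q, hQp⟩) : Cardinal.{u}) := by
      rw [← htrz]
      exact trdeg_quot_congr _ _ _ _ rfl (congrArg PrimeSpectrum.asIdeal hprime.symm)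
    have hdz := ringKrullDim_stalk_eq_height hU _ hzU
    rw [hprime] at hdz
    change ringKrullDim (X.presheaf.stalk (hU.fromSpec ⟨Q, hQp⟩)) = (Q.height : WithBot ℕ∞) at hdz
    obtain ⟨d, hd⟩ := exists_height_nat Q
    rw [htrx, htrz'] at hi hii
    rw [hb, hd] at hii
    have k1 : c + tr f x ≤ tr f (hU.fromSpec ⟨Q, hQp⟩) := by exact_mod_cast hi
    have k2 : b + c + tr f x ≤ d + tr f (hU.fromSpec ⟨Q, hQp⟩) := by exact_mod_cast hii
    have k3 : ∀ z' : X, z' ⤳ x → f z' = f x → tr f z' ≤ c + tr f x := by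
      intro z' hz'x hfz'
      have := tr_le_coheight_add f x z' hz'x hfz'
      rw [hc] at this
      exact_mod_cast this
    have k4 := k3 _ hzx hfz
    have hmax : ∀ z' : X, f z' = f x → z' ⤳ hU.fromSpec ⟨Q, hQp⟩ →
        z' = hU.fromSpec ⟨Q, hQp⟩ := by
      intro z' hfz' hsp
      by_contra hne
      have h1 := tr_lt_of_specializes f z' _ hsp hne (hfz'.trans hfz.symm)
      have h2 := k3 z' (hsp.trans hzx) hfz'
      omega
    have hmax' : ∀ z' : X, f z' = f (hU.fromSpec ⟨Q, hQp⟩) → z' ⤳ hU.fromSpec ⟨Q, hQp⟩ →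
        z' = hU.fromSpec ⟨Q, hQp⟩ := fun z' h1 h2 => hmax z' (h1.trans hfz) h2
    obtain ⟨hf1, hf2⟩ := max_point_facts f _ hmax'
    refine ⟨hU.fromSpec ⟨Q, hQp⟩, hfz, hzx, hmax, ?_, ?_⟩
    · rw [hf1, fibreDimAt_eq f x, hfx]
      have : tr f (hU.fromSpec ⟨Q, hQp⟩) = c + tr f x := by omega
      rw [this]
      push_cast
      rfl
    · apply le_antisymm hf2
      rw [e2 _ _ hfz, hdy, hdz, hb, hd]
      have : b ≤ d := by omega
      exact_mod_cast this
  · rintro ⟨z, hfz, hzx, hmax, hfd, hdz⟩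
    have hzU : z ∈ U := hzx.mem_open U.2 hxU
    have hmax' : ∀ z' : X, f z' = f z → z' ⤳ z → z' = z :=
      fun z' h1 h2 => hmax z' (h1.trans hfz) h2
    obtain ⟨hf1, hf2⟩ := max_point_facts f _ hmax'
    obtain ⟨hlz, htrz⟩ := hzfacts z hzU hfz
    rw [hf1, fibreDimAt_eq f x, hfx] at hfd
    obtain ⟨c, hc⟩ : ∃ c : ℕ, Order.coheight (⟨x, rfl⟩ : {z : X // f z = f x}) = c := by
      generalize Order.coheight (⟨x, rfl⟩ : {z : X // f z = f x}) = c' at hfd
      induction c' using ENat.recTopCoe with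
      | top =>
        exfalso
        have h1 : ((tr f x : ℕ) : WithBot ℕ∞) = (((tr f x : ℕ) : ℕ∞) : WithBot ℕ∞) := rfl
        have h2 : ((tr f z : ℕ) : WithBot ℕ∞) = (((tr f z : ℕ) : ℕ∞) : WithBot ℕ∞) := rfl
        rw [h1, h2, ← WithBot.coe_add, WithBot.coe_inj] at hfd
        simp at hfd
      | coe n => exact ⟨n, rfl⟩
    rw [hc] at hfd hfx
    have k1 : tr f z = c + tr f x := by exact_mod_cast hfd
    have hdz' := ringKrullDim_stalk_eq_height hU z hzU
    obtain ⟨d, hd⟩ := exists_height_nat (hU.primeIdealOf ⟨z, hzU⟩).asIdeal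
    rw [hdz', e2 _ _ hfz, hdy, hb, hd] at hdz
    have k2 : d = b := by exact_mod_cast hdz
    have hQq : (hU.primeIdealOf ⟨z, hzU⟩).asIdeal ≤ (hU.primeIdealOf ⟨x, hxU⟩).asIdeal :=
      (specializes_iff_primeIdealOf_le hU ⟨z, hzU⟩ ⟨x, hxU⟩).mp hzx
    have key := dim_ge_of_fibre_gen Γ(Y, V) Γ(X, U) (hV.primeIdealOf ⟨f x, hUV hxU⟩).asIdeal
      (hU.primeIdealOf ⟨x, hxU⟩).asIdeal (hU.primeIdealOf ⟨z, hzU⟩).asIdeal hQq c
      (by rw [hb, hd, k2]) (by rw [htrz, htrx, k1]; push_cast; rfl)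
    apply le_antisymm (Groth.Agent.Lib.Helper4.FibreStalkDim1.S3447_main f x)
    rw [hdx, hdy, hfx, ha, hb]
    rw [ha, hb] at key
    have : b + c ≤ a := by exact_mod_cast key
    exact_mod_cast this

end Fibre2

end Groth.Agent.Lib.Helper4.FibDim5
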