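import Mathlib
import Groth.Agent.Lib.Helper4.FibDim5

/-!
# Fibre dimension toolkit 6: generic points above maximal fibre points; component dimensions; S4958 (helper4)
-/

set_option backward.isDefEq.respectTransparency.types false
set_option synthInstance.maxHeartbeats 400000
set_option autoImplicit false
set_option linter.unusedSectionVars false
set_option linter.style.haveILetI false
set_option linter.unusedSimpArgs false
universe u v w
open CategoryTheory CategoryTheory.Limits AlgebraicGeometry TopologicalSpace IsLocalRing Opposite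
open Cardinal
open Groth.Agent.Lib.Helper4.DimIneq1 Groth.Agent.Lib.Helper4.DimFT2 Groth.Agent.Lib.Helper4.Catenary1
open Groth.Agent.Lib.Helper4.DimEq1 Groth.Agent.Lib.Helper4.DimIneq2 Groth.Agent.Lib.Helper4.DimEq2
open Groth.Agent.Lib.Helper4.DimIneq3 Groth.Agent.Lib.Helper4.DimIneq4
open Groth.Agent.Lib.Helper4.NormFibre2 Groth.Agent.Lib.Helper4.RadBir3 Groth.Agent.Lib.Helper4.DimFT3
open Groth.Agent.Lib.Helper4.FibDim1 Groth.Agent.Lib.Helper4.FibDim2 Groth.Agent.Lib.Helper4.LocUC1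
open Groth.Agent.Lib.Helper4.FibDim3 Groth.Agent.Lib.Helper4.FibDim4 Groth.Agent.Lib.Helper4.FibDim5

namespace Groth.Agent.Lib.Helper4.FibDim6


section RingD

variable (A B : Type u) [CommRing A] [IsNoetherianRing A] [CommRing B] [Algebra A B]
  [Algebra.FiniteType A B]

/-- a maximal point of a fibre whose local ring has the dimension of the base local ring is
dominated by a generic point of `B` lying over a minimal prime, with the same transcendence
degree (universally catenary base local ring) -/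
theorem exists_minimal_above_of_height_eq (𝔭 : Ideal A) [h𝔭 : 𝔭.IsPrime] (q : Ideal B)
    [hq : q.IsPrime] [hql : q.LiesOver 𝔭]
    (hloc : CAlg.IsUniversallyCatenary (Localization.AtPrime 𝔭))
    (hmin : ∀ Q : Ideal B, Q.IsPrime → Q ≤ q → Q.LiesOver 𝔭 → Q = q)
    (hdim : q.height = 𝔭.height) :
    ∃ ξ : Ideal B, ∃ _ : ξ.IsPrime, ξ ∈ minimalPrimes B ∧ ξ ≤ q ∧ (ξ.under A).height = 0 ∧
      Algebra.trdeg (A ⧸ ξ.under A) (B ⧸ ξ) = Algebra.trdeg (A ⧸ 𝔭) (B ⧸ q) := by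
  haveI : IsNoetherianRing B := Algebra.FiniteType.isNoetherianRing A B
  obtain ⟨ξ, hξmin, hξq, hξh⟩ := exists_minimalPrimes_height_eq q
  haveI hξp : ξ.IsPrime := hξmin.1.1
  obtain ⟨Q, hQp, hξQ, hQq, hQl, hQh⟩ := exists_fibre_min_above A B 𝔭 q ξ hξq
  have hQeq : Q = q := hmin Q hQp hQq hQl
  subst hQeq
  refine ⟨ξ, hξp, hξmin, hξq, ?_⟩
  have h0 : ξ.under A ≤ 𝔭 := by
    rw [Ideal.over_def Q 𝔭]
    exact Ideal.comap_mono hξq
  haveI : (ξ.under A).IsPrime := Ideal.comap_isPrime _ ξ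
  have key1 := dim_eq_rel_of_local A B 𝔭 Q ξ hξq hloc
  have h3 := height_add_height_map_mk_le (ξ.under A) 𝔭 h0
  haveI := isPrime_map_mk ξ Q hξq
  haveI := isPrime_map_mk (ξ.under A) 𝔭 h0
  obtain ⟨nq, hnq⟩ := exists_trdeg_nat A B 𝔭 Q
  obtain ⟨t, ht⟩ := exists_trdeg_nat A B (ξ.under A) ξ
  obtain ⟨a, ha⟩ := exists_height_nat Q
  obtain ⟨b, hb⟩ := exists_height_nat 𝔭
  obtain ⟨d, hd⟩ := exists_height_nat (ξ.under A)
  obtain ⟨e, he⟩ := exists_height_nat (𝔭.map (Ideal.Quotient.mk (ξ.under A)))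
  obtain ⟨g, hg⟩ := exists_height_nat (Q.map (Ideal.Quotient.mk ξ))
  rw [hg, hnq, he, ht] at key1
  rw [hd, he, hb] at h3
  rw [hg, he] at hQh
  rw [ha, hb] at hdim
  rw [hg, ha] at hξh
  rw [hd, ht, hnq]
  have k1 : g + nq = e + t := by exact_mod_cast key1
  have k3 : d + e ≤ b := by exact_mod_cast h3
  have k5 : g ≤ e := by exact_mod_cast hQh
  have k6 : a = b := by exact_mod_cast hdim
  have k7 : g = a := by exact_mod_cast hξh
  constructor
  · have : d = 0 := by omega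
    exact_mod_cast this
  · have : t = nq := by omega
    exact_mod_cast this

end RingD


section Fibre3

variable {X Y : Scheme.{u}} (f : X ⟶ Y) [LocallyOfFiniteType f]

theorem exists_generic_above [IsLocallyNoetherian Y] [IrreducibleSpace Y] (z : X)
    (hcat : CAlg.IsUniversallyCatenary (Y.presheaf.stalk (f z)))
    (hmax : ∀ z' : X, f z' = f z → z' ⤳ z → z' = z)
    (hdim : ringKrullDim (X.presheaf.stalk z) = ringKrullDim (Y.presheaf.stalk (f z))) :
    ∃ ξ : X, f ξ = genericPoint Y ∧ ξ ⤳ z ∧ (∀ z' : X, z' ⤳ ξ → z' = ξ) ∧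
      tr f ξ = tr f z := by
  obtain ⟨V, hV, hsV, -⟩ := exists_isAffineOpen_mem_and_subset (U := (⊤ : Y.Opens)) (x := f z)
    trivial
  obtain ⟨U, hU, hzU, hUV⟩ := exists_isAffineOpen_mem_and_subset (U := f ⁻¹ᵁ V) (x := z) hsV
  letI alg : Algebra Γ(Y, V) Γ(X, U) := (f.appLE V U hUV).hom.toAlgebra
  haveI : IsNoetherianRing Γ(Y, V) := IsLocallyNoetherian.component_noetherian ⟨V, hV⟩
  haveI : Algebra.FiniteType Γ(Y, V) Γ(X, U) := LocallyOfFiniteType.finiteType_appLE f hV hU hUV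
  haveI : IsNoetherianRing Γ(X, U) := Algebra.FiniteType.isNoetherianRing Γ(Y, V) Γ(X, U)
  haveI hlo := liesOver_chart f hV hU hUV z hzU rfl
  have hloc := isUniversallyCatenary_chart hV (f z) (hUV hzU) hcat
  have hdx := ringKrullDim_stalk_eq_height hU z hzU
  have hdy := ringKrullDim_stalk_eq_height hV (f z) (hUV hzU)
  have htrz := tr_chart f hV hU hUV z hzU rfl
  have hηV : genericPoint Y ∈ V := genericPoint_mem_of_mem V (f z) hsV
  have hmin : ∀ Q : Ideal Γ(X, U), Q.IsPrime → Q ≤ (hU.primeIdealOf ⟨z, hzU⟩).asIdeal →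
      Q.LiesOver (hV.primeIdealOf ⟨f z, hUV hzU⟩).asIdeal →
      Q = (hU.primeIdealOf ⟨z, hzU⟩).asIdeal := by
    intro Q hQp hQq hQl
    have hz'U : hU.fromSpec ⟨Q, hQp⟩ ∈ U := fromSpec_mem hU _
    have hprime : hU.primeIdealOf ⟨hU.fromSpec ⟨Q, hQp⟩, hz'U⟩ = ⟨Q, hQp⟩ :=
      primeIdealOf_fromSpec hU _
    have hfz : f (hU.fromSpec ⟨Q, hQp⟩) = f z := by
      have h1 := liesOver_chart f hV hU hUV _ hz'U rfl
      have h2 : hV.primeIdealOf ⟨f (hU.fromSpec ⟨Q, hQp⟩), hUV hz'U⟩ =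
          hV.primeIdealOf ⟨f z, hUV hzU⟩ := by
        apply PrimeSpectrum.ext
        rw [h1.over, hprime]
        exact hQl.over.symm
      exact congrArg Subtype.val (primeIdealOf_injective' hV h2)
    have hsp : hU.fromSpec ⟨Q, hQp⟩ ⤳ z := by
      rw [specializes_iff_primeIdealOf_le hU ⟨_, hz'U⟩ ⟨z, hzU⟩, hprime]
      exact hQq
    have heq := hmax _ hfz hsp
    have h3 : hU.primeIdealOf ⟨hU.fromSpec ⟨Q, hQp⟩, hz'U⟩ = hU.primeIdealOf ⟨z, hzU⟩ :=
      congrArg hU.primeIdealOf (Subtype.ext heq)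
    rw [hprime] at h3
    exact congrArg PrimeSpectrum.asIdeal h3
  have hdim' : (hU.primeIdealOf ⟨z, hzU⟩).asIdeal.height =
      (hV.primeIdealOf ⟨f z, hUV hzU⟩).asIdeal.height := by
    rw [hdx, hdy] at hdim
    exact_mod_cast hdim
  obtain ⟨ξ, hξp, hξmin, hξq, hξh, hξtr⟩ := exists_minimal_above_of_height_eq Γ(Y, V) Γ(X, U)
    (hV.primeIdealOf ⟨f z, hUV hzU⟩).asIdeal (hU.primeIdealOf ⟨z, hzU⟩).asIdeal hloc hmin hdim'
  have hξU : hU.fromSpec ⟨ξ, hξp⟩ ∈ U := fromSpec_mem hU _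
  have hprime : hU.primeIdealOf ⟨hU.fromSpec ⟨ξ, hξp⟩, hξU⟩ = ⟨ξ, hξp⟩ :=
    primeIdealOf_fromSpec hU _
  haveI : (ξ.under Γ(Y, V)).IsPrime := Ideal.comap_isPrime _ ξ
  have hunder : ξ.under Γ(Y, V) = (hV.primeIdealOf ⟨genericPoint Y, hηV⟩).asIdeal := by
    have h1 : ξ.under Γ(Y, V) ∈ minimalPrimes Γ(Y, V) := Ideal.height_eq_zero_iff.mp hξh
    have h2 := primeIdealOf_genericPoint_le hV hηV ⟨ξ.under Γ(Y, V), inferInstance⟩
    exact le_antisymm (h1.2 ⟨(hV.primeIdealOf ⟨genericPoint Y, hηV⟩).isPrime, bot_le⟩ h2) h2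
  have hlξ := liesOver_chart f hV hU hUV _ hξU rfl
  have hbase : (hV.primeIdealOf ⟨f (hU.fromSpec ⟨ξ, hξp⟩), hUV hξU⟩).asIdeal =
      ξ.under Γ(Y, V) := by
    rw [hlξ.over, hprime]
  have hfξ : f (hU.fromSpec ⟨ξ, hξp⟩) = genericPoint Y := by
    have h2 : hV.primeIdealOf ⟨f (hU.fromSpec ⟨ξ, hξp⟩), hUV hξU⟩ =
        hV.primeIdealOf ⟨genericPoint Y, hηV⟩ := by
      apply PrimeSpectrum.ext
      rw [hbase, hunder]
    exact congrArg Subtype.val (primeIdealOf_injective' hV h2)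
  refine ⟨hU.fromSpec ⟨ξ, hξp⟩, hfξ, ?_, ?_, ?_⟩
  · rw [specializes_iff_primeIdealOf_le hU ⟨_, hξU⟩ ⟨z, hzU⟩, hprime]
    exact hξq
  · intro z' hz'
    have hz'U : z' ∈ U := hz'.mem_open U.2 hξU
    have h1 := (specializes_iff_primeIdealOf_le hU ⟨z', hz'U⟩ ⟨_, hξU⟩).mp hz'
    rw [hprime] at h1
    have h2 : ξ ≤ (hU.primeIdealOf ⟨z', hz'U⟩).asIdeal :=
      hξmin.2 ⟨(hU.primeIdealOf ⟨z', hz'U⟩).isPrime, bot_le⟩ h1
    have h3 : hU.primeIdealOf ⟨z', hz'U⟩ = hU.primeIdealOf ⟨hU.fromSpec ⟨ξ, hξp⟩, hξU⟩ := by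
      rw [hprime]
      exact PrimeSpectrum.ext (le_antisymm h1 h2)
    exact congrArg Subtype.val (primeIdealOf_injective' hU h3)
  · have h1 := tr_chart f hV hU hUV _ hξU rfl
    have h2 : Algebra.trdeg
        (Γ(Y, V) ⧸ (hV.primeIdealOf ⟨f (hU.fromSpec ⟨ξ, hξp⟩), hUV hξU⟩).asIdeal)
        (Γ(X, U) ⧸ (hU.primeIdealOf ⟨hU.fromSpec ⟨ξ, hξp⟩, hξU⟩).asIdeal) =
        Algebra.trdeg (Γ(Y, V) ⧸ ξ.under Γ(Y, V)) (Γ(X, U) ⧸ ξ) :=
      trdeg_quot_congr _ _ _ _ hbase (congrArg PrimeSpectrum.asIdeal hprime)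
    rw [h2, hξtr, htrz] at h1
    exact_mod_cast h1.symm


theorem height_fib_eq' [IsLocallyNoetherian Y] (y : Y) (z : X) (hz : f z = y) :
    Order.height (⟨z, hz⟩ : {z' : X // f z' = y}) = (tr f z : ℕ∞) := by
  subst hz
  exact height_fib_eq f z

theorem krullDim_fib_congr (y y' : Y) (h : y = y') :
    Order.krullDim {z : X // f z = y} = Order.krullDim {z : X // f z = y'} := by
  subst h
  rfl

theorem mem_compDims_iff [IsLocallyNoetherian Y] (y : Y) (d : WithBot ℕ∞) :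
    d ∈ (fun Z : Set ↥(f.fiber y) => topologicalKrullDim ↥Z) ''
        irreducibleComponents ↥(f.fiber y) ↔
      ∃ z : X, f z = y ∧ (∀ z' : X, f z' = y → z' ⤳ z → z' = z) ∧
        d = (tr f z : WithBot ℕ∞) := by
  constructor
  · rintro ⟨Z, hZ, rfl⟩
    obtain ⟨w, hw, rfl⟩ := exists_isMax_closure_eq (f.fiber y) Z hZ
    refine ⟨f.fiberι y w, fiberι_mem f y w, ?_, ?_⟩
    · intro z' hz' hsp
      have h1 : fibOrderIso f y w ≤ ⟨z', hz'⟩ := hsp
      have h2 : w ≤ (fibOrderIso f y).symm ⟨z', hz'⟩ := by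
        rw [← (fibOrderIso f y).le_iff_le, OrderIso.apply_symm_apply]
        exact h1
      have h3 := hw h2
      rw [← (fibOrderIso f y).le_iff_le, OrderIso.apply_symm_apply] at h3
      have h4 : f.fiberι y w ⤳ z' := h3
      exact (hsp.antisymm h4).eq
    · change topologicalKrullDim ↥(closure ({w} : Set ↥(f.fiber y))) = _
      rw [dim_closure_singleton (f.fiber y) w, ← Order.height_orderIso (fibOrderIso f y) w]
      change ((Order.height (⟨f.fiberι y w, fiberι_mem f y w⟩ : {z' : X // f z' = y}) : ℕ∞) :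
        WithBot ℕ∞) = _
      rw [height_fib_eq' f y _ (fiberι_mem f y w)]
      rfl
  · rintro ⟨z, hz, hmax, rfl⟩
    have hw : IsMax ((fibOrderIso f y).symm ⟨z, hz⟩) := by
      intro b hb
      rw [← (fibOrderIso f y).le_iff_le, OrderIso.apply_symm_apply] at hb
      have h1 : (fibOrderIso f y b).1 ⤳ z := hb
      have h2 := hmax _ (fibOrderIso f y b).2 h1
      have h3 : fibOrderIso f y b = ⟨z, hz⟩ := Subtype.ext h2
      rw [← (fibOrderIso f y).le_iff_le, OrderIso.apply_symm_apply, h3]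
    refine ⟨closure {(fibOrderIso f y).symm ⟨z, hz⟩},
      closure_mem_irreducibleComponents_of_isMax _ _ hw, ?_⟩
    change topologicalKrullDim ↥(closure ({(fibOrderIso f y).symm ⟨z, hz⟩} :
      Set ↥(f.fiber y))) = _
    rw [dim_closure_singleton (f.fiber y) _, ← Order.height_orderIso (fibOrderIso f y),
      OrderIso.apply_symm_apply, height_fib_eq' f y z hz]
    rfl

theorem S4958_main [IrreducibleSpace Y] [IsLocallyNoetherian Y] (y : Y)
    (hcat : CAlg.IsUniversallyCatenary (Y.presheaf.stalk y))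
    (hb : ∀ z : X, f.base z = y → (∀ z' : X, f.base z' = y → z ∈ closure {z'} → z' = z) →
      ringKrullDim (X.presheaf.stalk z) = ringKrullDim (Y.presheaf.stalk y)) :
    letI E : Y → Set (WithBot ℕ∞) := fun z =>
      (fun Z : Set ↥(f.fiber z) => topologicalKrullDim ↥Z) '' irreducibleComponents ↥(f.fiber z)
    E y ⊆ E (genericPoint Y) ∧
      topologicalKrullDim ↥(f.fiber y) ≤ topologicalKrullDim ↥(f.fiber (genericPoint Y)) := by
  have hcore : ∀ z : X, f z = y → (∀ z' : X, f z' = y → z' ⤳ z → z' = z) →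
      ∃ ξ : X, f ξ = genericPoint Y ∧ ξ ⤳ z ∧ (∀ z' : X, z' ⤳ ξ → z' = ξ) ∧
        tr f ξ = tr f z := by
    intro z hz hmax
    subst hz
    apply exists_generic_above f z hcat hmax
    apply hb z rfl
    intro z' hz' hmem
    exact hmax z' hz' (specializes_iff_mem_closure.mpr hmem)
  constructor
  · intro d hd
    rw [mem_compDims_iff] at hd ⊢
    obtain ⟨z, hz, hmax, rfl⟩ := hd
    obtain ⟨ξ, hfξ, -, hξmax, htr⟩ := hcore z hz hmax
    exact ⟨ξ, hfξ, fun z' _ h => hξmax z' h, by rw [htr]⟩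
  · rw [topologicalKrullDim_fiber_eq, topologicalKrullDim_fiber_eq]
    unfold Order.krullDim
    refine iSup_le fun p => ?_
    obtain ⟨zm, hzm, hmaxm⟩ := exists_isMax_ge_fib f y p.last
    have hmax : ∀ z' : X, f z' = y → z' ⤳ zm.1 → z' = zm.1 := by
      intro z' hz' hsp
      have h1 : zm ≤ ⟨z', hz'⟩ := hsp
      have h2 : zm.1 ⤳ z' := hmaxm h1
      exact (hsp.antisymm h2).eq
    obtain ⟨ξ, hfξ, -, -, htr⟩ := hcore zm.1 zm.2 hmax
    have h1 := tr_add_length_le f y p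
    have h2 : tr f p.last.1 ≤ tr f zm.1 :=
      tr_le_of_specializes f zm.1 p.last.1 hzm (zm.2.trans p.last.2.symm)
    obtain ⟨-, -, -, -, h3⟩ := exists_closed_pt f ξ
    rw [krullDim_fib_congr f _ _ hfξ] at h3
    have h4 : p.length ≤ tr f ξ := by omega
    have h5 : ((p.length : ℕ) : WithBot ℕ∞) ≤ ((tr f ξ : ℕ) : WithBot ℕ∞) := by
      exact_mod_cast h4
    exact h5.trans h3

end Fibre3

end Groth.Agent.Lib.Helper4.FibDim6
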