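import Mathlib
import Groth.Prelude.Def_Cyc
import Groth.Agent.Lib.Helper4.FibDim6

/-!
# Fibre dimension toolkit 7: flat morphisms between irreducible schemes (equidimensional fibres); S17840 (helper4)
-/

set_option backward.isDefEq.respectTransparency.types false
set_option synthInstance.maxHeartbeats 400000
set_option autoImplicit false
set_option linter.unusedSectionVars false
set_option linter.style.haveILetI false
set_option linter.unusedSimpArgs false
universe u v w
open CategoryTheory CategoryTheory.Limits AlgebraicGeometry TopologicalSpace IsLocalRing Opposite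
open Cardinal
open Groth.Agent.Lib.Helper4.DimIneq1 Groth.Agent.Lib.Helper4.DimFT2 Groth.Agent.Lib.Helper4.Catenary1
open Groth.Agent.Lib.Helper4.DimEq1 Groth.Agent.Lib.Helper4.DimIneq2 Groth.Agent.Lib.Helper4.DimEq2
open Groth.Agent.Lib.Helper4.DimIneq3 Groth.Agent.Lib.Helper4.DimIneq4
open Groth.Agent.Lib.Helper4.NormFibre2 Groth.Agent.Lib.Helper4.RadBir3 Groth.Agent.Lib.Helper4.DimFT3
open Groth.Agent.Lib.Helper4.FibDim1 Groth.Agent.Lib.Helper4.FibDim2 Groth.Agent.Lib.Helper4.LocUC1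
open Groth.Agent.Lib.Helper4.FibDim3 Groth.Agent.Lib.Helper4.FibDim4 Groth.Agent.Lib.Helper4.FibDim6

namespace Groth.Agent.Lib.Helper4.FibDim7


section RingE

theorem height_eq_of_flat_of_minimal {R S : Type*} [CommRing R] [CommRing S] [Algebra R S]
    [IsNoetherianRing R] [IsNoetherianRing S] [Module.Flat R S] (p : Ideal R) [p.IsPrime]
    (P : Ideal S) [P.IsPrime] [P.LiesOver p]
    (hmin : P ∈ (p.map (algebraMap R S)).minimalPrimes) : P.height = p.height := by
  have h1 := Ideal.height_eq_height_add_of_liesOver_of_hasGoingDown p P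
  have h2 : (P.map (Ideal.Quotient.mk (p.map (algebraMap R S)))).height = 0 := by
    rw [Ideal.minimalPrimes_eq_comap] at hmin
    obtain ⟨Q, hQ, hQP⟩ := hmin
    rw [← hQP, Ideal.map_comap_of_surjective _ Ideal.Quotient.mk_surjective]
    haveI := hQ.1.1
    exact Ideal.height_eq_zero_iff.mpr hQ
  rw [h2, add_zero] at h1
  exact h1

end RingE

section Fibre4

variable {X Y : Scheme.{u}} (f : X ⟶ Y) [LocallyOfFiniteType f]

/-- in a chart, the prime of a maximal point of a fibre is minimal among primes over `𝔭` -/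
theorem chart_min_of_max {V : Y.Opens} (hV : IsAffineOpen V) {U : X.Opens}
    (hU : IsAffineOpen U) (hUV : U ≤ f ⁻¹ᵁ V) (z : X) (hzU : z ∈ U)
    [Algebra Γ(Y, V) Γ(X, U)] (halg : algebraMap Γ(Y, V) Γ(X, U) = (f.appLE V U hUV).hom)
    (hmax : ∀ z' : X, f z' = f z → z' ⤳ z → z' = z) :
    ∀ Q : Ideal Γ(X, U), Q.IsPrime → Q ≤ (hU.primeIdealOf ⟨z, hzU⟩).asIdeal →
      Q.LiesOver (hV.primeIdealOf ⟨f z, hUV hzU⟩).asIdeal →
      Q = (hU.primeIdealOf ⟨z, hzU⟩).asIdeal := by
  intro Q hQp hQq hQl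
  have hz'U : hU.fromSpec ⟨Q, hQp⟩ ∈ U := fromSpec_mem hU _
  have hprime : hU.primeIdealOf ⟨hU.fromSpec ⟨Q, hQp⟩, hz'U⟩ = ⟨Q, hQp⟩ :=
    primeIdealOf_fromSpec hU _
  have hfz : f (hU.fromSpec ⟨Q, hQp⟩) = f z := by
    have h1 := liesOver_chart f hV hU hUV _ hz'U halg
    have h2 : hV.primeIdealOf ⟨f (hU.fromSpec ⟨Q, hQp⟩), hUV hz'U⟩ =
        hV.primeIdealOf ⟨f z, hUV hzU⟩ := by
      apply PrimeSpectrum.ext
      rw [h1.over, hprime]
      exact hQl.over.symm
    exact congrArg Subtype.val (primeIdealOf_injective' hV h2)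
  have hsp : hU.fromSpec ⟨Q, hQp⟩ ⤳ z := by
    rw [specializes_iff_primeIdealOf_le hU ⟨_, hz'U⟩ ⟨z, hzU⟩, hprime]
    exact hQq
  have heq := hmax _ hfz hsp
  have h3 : hU.primeIdealOf ⟨hU.fromSpec ⟨Q, hQp⟩, hz'U⟩ = hU.primeIdealOf ⟨z, hzU⟩ :=
    congrArg hU.primeIdealOf (Subtype.ext heq)
  rw [hprime] at h3
  exact congrArg PrimeSpectrum.asIdeal h3

theorem stalk_dim_eq_of_flat_of_max [Flat f] [IsLocallyNoetherian Y] (z : X)
    (hmax : ∀ z' : X, f z' = f z → z' ⤳ z → z' = z) :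
    ringKrullDim (X.presheaf.stalk z) = ringKrullDim (Y.presheaf.stalk (f z)) := by
  obtain ⟨V, hV, hsV, -⟩ := exists_isAffineOpen_mem_and_subset (U := (⊤ : Y.Opens)) (x := f z)
    trivial
  obtain ⟨U, hU, hzU, hUV⟩ := exists_isAffineOpen_mem_and_subset (U := f ⁻¹ᵁ V) (x := z) hsV
  letI alg : Algebra Γ(Y, V) Γ(X, U) := (f.appLE V U hUV).hom.toAlgebra
  haveI : IsNoetherianRing Γ(Y, V) := IsLocallyNoetherian.component_noetherian ⟨V, hV⟩
  haveI : Algebra.FiniteType Γ(Y, V) Γ(X, U) := LocallyOfFiniteType.finiteType_appLE f hV hU hUV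
  haveI : IsNoetherianRing Γ(X, U) := Algebra.FiniteType.isNoetherianRing Γ(Y, V) Γ(X, U)
  haveI : Module.Flat Γ(Y, V) Γ(X, U) :=
    HasRingHomProperty.appLE (P := @Flat) f inferInstance ⟨V, hV⟩ ⟨U, hU⟩ hUV
  haveI hlo := liesOver_chart f hV hU hUV z hzU rfl
  have hmin := chart_min_of_max f hV hU hUV z hzU rfl hmax
  rw [ringKrullDim_stalk_eq_height hU z hzU, ringKrullDim_stalk_eq_height hV (f z) (hUV hzU)]
  congr 1
  apply height_eq_of_flat_of_minimal
  have h𝔭q : (hV.primeIdealOf ⟨f z, hUV hzU⟩).asIdeal.map (algebraMap Γ(Y, V) Γ(X, U)) ≤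
      (hU.primeIdealOf ⟨z, hzU⟩).asIdeal := by
    rw [Ideal.map_le_iff_le_comap, ← Ideal.under, ← hlo.over]
  refine ⟨⟨inferInstance, h𝔭q⟩, ?_⟩
  rintro Q ⟨hQp, hQ⟩ hQq
  have hQl : Q.LiesOver (hV.primeIdealOf ⟨f z, hUV hzU⟩).asIdeal := by
    constructor
    apply le_antisymm
    · exact Ideal.le_comap_of_map_le hQ
    · rw [hlo.over]
      exact Ideal.comap_mono hQq
  rw [hmin Q hQp hQq hQl]


theorem map_genericPoint_of_flat [Flat f] [IrreducibleSpace X] [IrreducibleSpace Y] :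
    f (genericPoint X) = genericPoint Y := by
  have hgen : GeneralizingMap f := Flat.generalizingMap f
  obtain ⟨x', hx', hfx'⟩ := hgen (genericPoint_specializes (f (genericPoint X)))
  have h1 : genericPoint X ⤳ x' := genericPoint_specializes x'
  have : x' = genericPoint X := (hx'.antisymm h1).eq
  rw [← this, hfx']

/-- for a flat morphism between irreducible schemes with universally catenary local rings on the
base, all maximal points of fibres have the same transcendence degree -/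
theorem tr_eq_of_flat_of_max [Flat f] [IsLocallyNoetherian Y] [IrreducibleSpace X]
    [IrreducibleSpace Y] (hcat : ∀ y : Y, CAlg.IsUniversallyCatenary (Y.presheaf.stalk y)) (z : X)
    (hmax : ∀ z' : X, f z' = f z → z' ⤳ z → z' = z) :
    tr f z = tr f (genericPoint X) := by
  obtain ⟨ξ, -, -, hξmax, htr⟩ := exists_generic_above f z (hcat _) hmax
    (stalk_dim_eq_of_flat_of_max f z hmax)
  have : genericPoint X = ξ := hξmax _ (genericPoint_specializes ξ)
  rw [this, htr]

theorem dim_fiber_eq_of_flat [Flat f] [IsLocallyNoetherian Y] [IrreducibleSpace X]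
    [IrreducibleSpace Y] (hcat : ∀ y : Y, CAlg.IsUniversallyCatenary (Y.presheaf.stalk y)) (x : X) :
    topologicalKrullDim ↥(f.fiber (f x)) = ((tr f (genericPoint X) : ℕ) : WithBot ℕ∞) := by
  rw [topologicalKrullDim_fiber_eq]
  have hm : ∀ z : {z : X // f z = f x}, ∃ zm : {z : X // f z = f x}, z ≤ zm ∧
      tr f zm.1 = tr f (genericPoint X) := by
    intro z
    obtain ⟨zm, hzm, hmaxm⟩ := exists_isMax_ge_fib f (f x) z
    refine ⟨zm, hzm, ?_⟩
    apply tr_eq_of_flat_of_max f hcat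
    intro z' hz' hsp
    have h1 : zm ≤ ⟨z', hz'.trans zm.2⟩ := hsp
    have h2 : zm.1 ⤳ z' := hmaxm h1
    exact (hsp.antisymm h2).eq
  apply le_antisymm
  · unfold Order.krullDim
    refine iSup_le fun p => ?_
    obtain ⟨zm, hzm, htr⟩ := hm p.last
    have h1 := tr_add_length_le f (f x) p
    have h2 : tr f p.last.1 ≤ tr f zm.1 :=
      tr_le_of_specializes f zm.1 p.last.1 hzm (zm.2.trans p.last.2.symm)
    have h4 : p.length ≤ tr f (genericPoint X) := by omega
    exact_mod_cast h4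
  · obtain ⟨zm, hzm, htr⟩ := hm ⟨x, rfl⟩
    obtain ⟨-, -, -, -, h3⟩ := exists_closed_pt f zm.1
    rw [krullDim_fib_congr f _ _ zm.2, htr] at h3
    exact h3

theorem S17840_main {X Y : Scheme.{u}} (f : X ⟶ Y) [Flat f] [LocallyOfFiniteType f]
    [IrreducibleSpace X] [IrreducibleSpace Y] (δX : X → ℤ) (δY : Y → ℤ) (hY : Cyc.IsSetup Y δY)
    (hδ : Cyc.DeltaCompat f δX δY) :
    0 ≤ δX (genericPoint X) - δY (genericPoint Y) ∧
      Cyc.HasRelDim f (δX (genericPoint X) - δY (genericPoint Y)).toNat ∧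
      ∀ x : X, topologicalKrullDim ↥(f.fiber (f x)) =
        ((δX (genericPoint X) - δY (genericPoint Y)).toNat : WithBot ℕ∞) := by
  haveI : IsLocallyNoetherian Y := hY.1
  have hcat := hY.2.1
  have hη : f (genericPoint X) = genericPoint Y := map_genericPoint_of_flat f
  obtain ⟨n, hn, hδn⟩ := hδ (genericPoint X)
  have hn' : tr f (genericPoint X) = n := tr_eq_of_trdeg_eq f _ n hn
  have hd : δX (genericPoint X) - δY (genericPoint Y) = (tr f (genericPoint X) : ℤ) := by
    rw [hδn, hη, hn']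
    ring
  rw [hd]
  refine ⟨Int.natCast_nonneg _, ?_, ?_⟩
  · intro y T hT
    obtain ⟨z, hz, hmax, heq⟩ := (mem_compDims_iff f y (topologicalKrullDim ↥T)).mp ⟨T, hT, rfl⟩
    subst hz
    rw [heq, tr_eq_of_flat_of_max f hcat z hmax]
    simp
  · intro x
    rw [dim_fiber_eq_of_flat f hcat x]
    simp

end Fibre4

end Groth.Agent.Lib.Helper4.FibDim7
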