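import Mathlib
import Groth.Prelude.Def_Cyc
import Groth.Agent.Lib.Helper4.FibDim7

/-!
# Dimension theory over Jacobson universally catenary equidimensional bases: S3449 (helper4)
-/

set_option backward.isDefEq.respectTransparency.types false
set_option synthInstance.maxHeartbeats 400000
set_option autoImplicit false
set_option linter.unusedSectionVars false
set_option linter.style.haveILetI false
set_option linter.unusedSimpArgs false
universe u v w
open CategoryTheory CategoryTheory.Limits AlgebraicGeometry TopologicalSpace IsLocalRing Opposite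
open Cardinal
open Groth.Agent.Lib.Helper4.DimIneq1 Groth.Agent.Lib.Helper4.DimFT2 Groth.Agent.Lib.Helper4.Catenary1
open Groth.Agent.Lib.Helper4.DimEq1 Groth.Agent.Lib.Helper4.DimIneq2 Groth.Agent.Lib.Helper4.DimEq2
open Groth.Agent.Lib.Helper4.DimIneq3 Groth.Agent.Lib.Helper4.DimIneq4
open Groth.Agent.Lib.Helper4.NormFibre2 Groth.Agent.Lib.Helper4.RadBir3 Groth.Agent.Lib.Helper4.DimFT3
open Groth.Agent.Lib.Helper4.FibDim1 Groth.Agent.Lib.Helper4.FibDim2 Groth.Agent.Lib.Helper4.LocUC1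
open Groth.Agent.Lib.Helper4.FibDim3 Groth.Agent.Lib.Helper4.FibDim4 Groth.Agent.Lib.Helper4.FibDim7

namespace Groth.Agent.Lib.Helper4.JacDim1


section OrderC

variable {α : Type u} [PartialOrder α]

lemma catP_Ici (m : α) (h : CatP α) : CatP (Set.Ici m) := by
  refine catP_of_embedding (OrderEmbedding.subtype (· ∈ Set.Ici m)) ?_ h
  intro a b hab
  refine (Set.OrdConnected.apply_covBy_apply_iff (OrderEmbedding.subtype (· ∈ Set.Ici m)) ?_).2 hab
  have : Set.range (OrderEmbedding.subtype (· ∈ Set.Ici m)) = Set.Ici m := by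
    ext x; simp
  rw [this]
  exact Set.ordConnected_Ici

/-- additivity of heights in intervals below `z` when `Iic z` is catenary -/
theorem height_interval_add (x y z : α) (hxy : x ≤ y) (hyz : y ≤ z) (h : CatP (Set.Iic z))
    (hfin : Order.height (⟨z, hxy.trans hyz⟩ : Set.Ici x) < ⊤) :
    Order.height (⟨z, hxy.trans hyz⟩ : Set.Ici x) =
      Order.height (⟨y, hxy⟩ : Set.Ici x) + Order.height (⟨z, hyz⟩ : Set.Ici y) := by
  have hβ : CatP (Set.Ici (⟨x, hxy.trans hyz⟩ : Set.Iic z)) := catP_Ici _ h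
  have e1 := height_Ici_Iic_eq z x z (hxy.trans hyz) le_rfl
  have e2 := height_Ici_Iic_eq z x y hxy hyz
  have key := height_eq_add_of_catP hβ ⟨⟨x, hxy.trans hyz⟩, le_rfl⟩ (fun a => a.2)
    ⟨⟨y, hyz⟩, hxy⟩ ⟨⟨z, le_rfl⟩, hxy.trans hyz⟩ hyz (by rw [e1]; exact hfin)
  rw [e1, e2] at key
  rw [key]
  congr 1
  refine Order.height_eq_of_strictMono
    (fun w : Set.Ici (⟨⟨y, hyz⟩, hxy⟩ : Set.Ici (⟨x, hxy.trans hyz⟩ : Set.Iic z)) =>
      (⟨w.1.1.1, w.2⟩ : Set.Ici y))
    (fun _ _ h => h) ?_ _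
  intro a b hb
  exact ⟨⟨⟨⟨b.1, (show b.1 ≤ a.1.1.1 from hb.le).trans a.1.1.2⟩, hxy.trans b.2⟩, b.2⟩, hb, rfl⟩

end OrderC

section RingF

theorem catP_Iic_of_uc {T : Type u} [CommRing T] (Q : Ideal T) [hQ : Q.IsPrime]
    (hloc : CAlg.IsUniversallyCatenary (Localization.AtPrime Q)) :
    CatP (Set.Iic (⟨Q, hQ⟩ : PrimeSpectrum T)) :=
  catP_congr (IsLocalization.AtPrime.primeSpectrumOrderIso (Localization.AtPrime Q) Q).symm
    (hloc.2 (Localization.AtPrime Q) inferInstance)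

theorem height_map_mk_add {T : Type u} [CommRing T] [IsNoetherianRing T] (P' P Q : Ideal T)
    [hP' : P'.IsPrime] [hP : P.IsPrime] [hQ : Q.IsPrime] (h1 : P' ≤ P) (h2 : P ≤ Q)
    (hcat : CatP (Set.Iic (⟨Q, hQ⟩ : PrimeSpectrum T))) :
    (Q.map (Ideal.Quotient.mk P')).height =
      (P.map (Ideal.Quotient.mk P')).height + (Q.map (Ideal.Quotient.mk P)).height := by
  rw [← height_Ici_eq P' Q (h1.trans h2), ← height_Ici_eq P' P h1, ← height_Ici_eq P Q h2]
  apply height_interval_add (⟨P', hP'⟩ : PrimeSpectrum T) ⟨P, hP⟩ ⟨Q, hQ⟩ h1 h2 hcat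
  rw [height_Ici_eq P' Q (h1.trans h2)]
  haveI := isPrime_map_mk P' Q (h1.trans h2)
  exact Ideal.height_lt_top (Ideal.IsPrime.ne_top inferInstance)

end RingF




section Gen

/-- the generizations of `s` inside a closed set form a quasi-sober space -/
theorem quasiSober_gen {X : Type*} [TopologicalSpace X] [QuasiSober X] (C : Set X)
    (hC : IsClosed C) (s : X) : QuasiSober ↥{t : X | t ∈ C ∧ t ⤳ s} := by
  constructor
  intro T hT hTc
  have hirr : IsIrreducible (closure (Subtype.val '' T)) :=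
    (hT.image _ continuous_subtype_val.continuousOn).closure
  obtain ⟨τ, hτ⟩ := QuasiSober.sober hirr isClosed_closure
  have hτmem : τ ∈ closure (Subtype.val '' T) := by
    rw [← hτ.def]
    exact subset_closure (Set.mem_singleton τ)
  have hsub : closure (Subtype.val '' T) ⊆ C := by
    apply closure_minimal _ hC
    rintro _ ⟨t, -, rfl⟩
    exact t.2.1
  obtain ⟨t, ht⟩ := hT.nonempty
  have h1 : τ ⤳ t.1 := by
    rw [specializes_iff_mem_closure, hτ.def]
    exact subset_closure ⟨t, ht, rfl⟩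
  have hτW : τ ∈ {t : X | t ∈ C ∧ t ⤳ s} := ⟨hsub hτmem, h1.trans t.2.2⟩
  refine ⟨⟨τ, hτW⟩, ?_⟩
  change closure {(⟨τ, hτW⟩ : ↥{t : X | t ∈ C ∧ t ⤳ s})} = T
  rw [Topology.IsInducing.subtypeVal.closure_eq_preimage_closure_image, Set.image_singleton,
    hτ.def, ← Topology.IsInducing.subtypeVal.closure_eq_preimage_closure_image, hTc.closure_eq]


theorem dim_genIn_eq {S : Scheme.{u}} {V : S.Opens} (hV : IsAffineOpen V) (σ s : S) (hs : s ∈ V)
    (hσ : σ ∈ V) (hσs : σ ⤳ s) :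
    topologicalKrullDim ↥{t : S | t ∈ closure ({σ} : Set S) ∧ t ⤳ s} =
      ((((hV.primeIdealOf ⟨s, hs⟩).asIdeal.map
        (Ideal.Quotient.mk (hV.primeIdealOf ⟨σ, hσ⟩).asIdeal)).height : ℕ∞) : WithBot ℕ∞) := by
  haveI : QuasiSober ↥{t : S | t ∈ closure ({σ} : Set S) ∧ t ⤳ s} :=
    quasiSober_gen _ isClosed_closure s
  have h𝔭 : (hV.primeIdealOf ⟨σ, hσ⟩).asIdeal ≤ (hV.primeIdealOf ⟨s, hs⟩).asIdeal :=
    (specializes_iff_primeIdealOf_le hV ⟨σ, hσ⟩ ⟨s, hs⟩).mp hσs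
  rw [Groth.Agent.Helper4.GM.topologicalKrullDim_eq_krullDim_specialization,
    ← height_Ici_eq _ _ h𝔭, Order.height_eq_krullDim_Iic]
  have hle : ∀ a b : ↥{t : S | t ∈ closure ({σ} : Set S) ∧ t ⤳ s},
      (specializationOrder ↥{t : S | t ∈ closure ({σ} : Set S) ∧ t ⤳ s}).le a b ↔ b.1 ⤳ a.1 := by
    intro a b
    change b ⤳ a ↔ b.1 ⤳ a.1
    rw [Topology.IsInducing.subtypeVal.specializes_iff]
  have hmemV : ∀ t : ↥{t : S | t ∈ closure ({σ} : Set S) ∧ t ⤳ s}, t.1 ∈ V :=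
    fun t => t.2.2.mem_open V.2 hs
  have h1 : ∀ t : ↥{t : S | t ∈ closure ({σ} : Set S) ∧ t ⤳ s},
      hV.primeIdealOf ⟨σ, hσ⟩ ≤ hV.primeIdealOf ⟨t.1, hmemV t⟩ := fun t =>
    (specializes_iff_primeIdealOf_le hV ⟨σ, hσ⟩ ⟨t.1, hmemV t⟩).mp
      (specializes_iff_mem_closure.mpr t.2.1)
  have h2 : ∀ t : ↥{t : S | t ∈ closure ({σ} : Set S) ∧ t ⤳ s},
      hV.primeIdealOf ⟨t.1, hmemV t⟩ ≤ hV.primeIdealOf ⟨s, hs⟩ := fun t =>
    (specializes_iff_primeIdealOf_le hV ⟨t.1, hmemV t⟩ ⟨s, hs⟩).mp t.2.2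
  rw [← Order.krullDim_orderDual (α := Set.Iic (⟨hV.primeIdealOf ⟨s, hs⟩, h𝔭⟩ :
    Set.Ici (hV.primeIdealOf ⟨σ, hσ⟩)))]
  apply le_antisymm
  · refine @Order.krullDim_le_of_strictMono _ _
      (specializationOrder ↥{t : S | t ∈ closure ({σ} : Set S) ∧ t ⤳ s}).toPreorder _
      (fun t => OrderDual.toDual (⟨⟨hV.primeIdealOf ⟨t.1, hmemV t⟩, h1 t⟩, h2 t⟩ :
        Set.Iic (⟨hV.primeIdealOf ⟨s, hs⟩, h𝔭⟩ : Set.Ici (hV.primeIdealOf ⟨σ, hσ⟩)))) ?_
    intro a b hlt
    have hlt' := (@lt_iff_le_not_ge _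
      (specializationOrder ↥{t : S | t ∈ closure ({σ} : Set S) ∧ t ⤳ s}).toPreorder a b).mp hlt
    rw [OrderDual.toDual_lt_toDual, lt_iff_le_not_ge]
    constructor
    · exact (specializes_iff_primeIdealOf_le hV ⟨b.1, hmemV b⟩ ⟨a.1, hmemV a⟩).mp
        ((hle a b).mp hlt'.1)
    · intro h
      apply hlt'.2
      rw [hle b a]
      exact (specializes_iff_primeIdealOf_le hV ⟨a.1, hmemV a⟩ ⟨b.1, hmemV b⟩).mpr h
  · have hmem : ∀ P : Set.Iic (⟨hV.primeIdealOf ⟨s, hs⟩, h𝔭⟩ :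
        Set.Ici (hV.primeIdealOf ⟨σ, hσ⟩)),
        hV.fromSpec P.1.1 ∈ {t : S | t ∈ closure ({σ} : Set S) ∧ t ⤳ s} := by
      intro P
      constructor
      · rw [← specializes_iff_mem_closure,
          specializes_iff_primeIdealOf_le hV ⟨σ, hσ⟩ ⟨_, fromSpec_mem hV P.1.1⟩,
          primeIdealOf_fromSpec]
        exact P.1.2
      · rw [specializes_iff_primeIdealOf_le hV ⟨_, fromSpec_mem hV P.1.1⟩ ⟨s, hs⟩,
          primeIdealOf_fromSpec]
        exact P.2
    refine @Order.krullDim_le_of_strictMono _ _ _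
      (specializationOrder ↥{t : S | t ∈ closure ({σ} : Set S) ∧ t ⤳ s}).toPreorder
      (fun P : (Set.Iic (⟨hV.primeIdealOf ⟨s, hs⟩, h𝔭⟩ :
        Set.Ici (hV.primeIdealOf ⟨σ, hσ⟩)))ᵒᵈ =>
        (⟨hV.fromSpec (OrderDual.ofDual P).1.1, hmem (OrderDual.ofDual P)⟩ :
          ↥{t : S | t ∈ closure ({σ} : Set S) ∧ t ⤳ s})) ?_
    intro a b hlt
    have hiff : ∀ P₁ P₂ : PrimeSpectrum Γ(S, V), hV.fromSpec P₁ ⤳ hV.fromSpec P₂ ↔ P₁ ≤ P₂ := by
      intro P₁ P₂
      rw [specializes_iff_primeIdealOf_le hV ⟨_, fromSpec_mem hV P₁⟩ ⟨_, fromSpec_mem hV P₂⟩,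
        primeIdealOf_fromSpec, primeIdealOf_fromSpec]
      rfl
    rw [← OrderDual.ofDual_lt_ofDual, lt_iff_le_not_ge] at hlt
    apply (@lt_iff_le_not_ge _
      (specializationOrder ↥{t : S | t ∈ closure ({σ} : Set S) ∧ t ⤳ s}).toPreorder _ _).mpr
    constructor
    · rw [hle]
      exact (hiff _ _).mpr hlt.1
    · intro h
      rw [hle] at h
      exact hlt.2 ((hiff _ _).mp h)

end Gen




section GenDim

theorem height_map_mk_congr {T : Type u} [CommRing T] (I J 𝔭 : Ideal T) (h : I = J) :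
    (𝔭.map (Ideal.Quotient.mk I)).height = (𝔭.map (Ideal.Quotient.mk J)).height := by
  subst h
  rfl

/-- additivity of codimensions along `σ' ⤳ σ ⤳ s` at a point with universally catenary local
ring, with natural number values -/
theorem genIn_add {S : Scheme.{u}} [IsLocallyNoetherian S] (σ' σ s : S) (h1 : σ' ⤳ σ)
    (h2 : σ ⤳ s) (hcat : CAlg.IsUniversallyCatenary (S.presheaf.stalk s)) :
    ∃ a b : ℕ, topologicalKrullDim ↥{t : S | t ∈ closure ({σ'} : Set S) ∧ t ⤳ σ} = a ∧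
      topologicalKrullDim ↥{t : S | t ∈ closure ({σ} : Set S) ∧ t ⤳ s} = b ∧
      topologicalKrullDim ↥{t : S | t ∈ closure ({σ'} : Set S) ∧ t ⤳ s} = ((a + b : ℕ) : WithBot ℕ∞) := by
  obtain ⟨V, hV, hsV, -⟩ := exists_isAffineOpen_mem_and_subset (U := (⊤ : S.Opens)) (x := s)
    trivial
  haveI : IsNoetherianRing Γ(S, V) := IsLocallyNoetherian.component_noetherian ⟨V, hV⟩
  have hσV : σ ∈ V := h2.mem_open V.2 hsV
  have hσ'V : σ' ∈ V := h1.mem_open V.2 hσV
  have hloc := isUniversallyCatenary_chart hV s hsV hcat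
  have hcatP := catP_Iic_of_uc _ hloc
  have hp1 : (hV.primeIdealOf ⟨σ', hσ'V⟩).asIdeal ≤ (hV.primeIdealOf ⟨σ, hσV⟩).asIdeal :=
    (specializes_iff_primeIdealOf_le hV ⟨σ', hσ'V⟩ ⟨σ, hσV⟩).mp h1
  have hp2 : (hV.primeIdealOf ⟨σ, hσV⟩).asIdeal ≤ (hV.primeIdealOf ⟨s, hsV⟩).asIdeal :=
    (specializes_iff_primeIdealOf_le hV ⟨σ, hσV⟩ ⟨s, hsV⟩).mp h2
  have key := height_map_mk_add _ _ _ hp1 hp2 hcatP
  haveI := isPrime_map_mk _ _ hp1
  haveI := isPrime_map_mk _ _ hp2
  haveI := isPrime_map_mk _ _ (hp1.trans hp2)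
  obtain ⟨a, ha⟩ := exists_height_nat ((hV.primeIdealOf ⟨σ, hσV⟩).asIdeal.map
    (Ideal.Quotient.mk (hV.primeIdealOf ⟨σ', hσ'V⟩).asIdeal))
  obtain ⟨b, hb⟩ := exists_height_nat ((hV.primeIdealOf ⟨s, hsV⟩).asIdeal.map
    (Ideal.Quotient.mk (hV.primeIdealOf ⟨σ, hσV⟩).asIdeal))
  refine ⟨a, b, ?_, ?_, ?_⟩
  · rw [dim_genIn_eq hV σ' σ hσV hσ'V h1, ha]
    rfl
  · rw [dim_genIn_eq hV σ s hsV hσV h2, hb]
    rfl
  · rw [dim_genIn_eq hV σ' s hsV hσ'V (h1.trans h2), key, ha, hb]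
    push_cast
    rfl

variable {Z S : Scheme.{u}} (g : Z ⟶ S) [LocallyOfFiniteType g]

/-- the general dimension formula at a point whose image has universally catenary local ring -/
theorem stalk_dim_eq_gen [IsLocallyNoetherian S] [IrreducibleSpace Z] (z : Z)
    (hcat : CAlg.IsUniversallyCatenary (S.presheaf.stalk (g z))) :
    ringKrullDim (Z.presheaf.stalk z) + (tr g z : WithBot ℕ∞) =
      topologicalKrullDim ↥{t : S | t ∈ closure ({g (genericPoint Z)} : Set S) ∧ t ⤳ g z} +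
        (tr g (genericPoint Z) : WithBot ℕ∞) := by
  obtain ⟨V, hV, hsV, -⟩ := exists_isAffineOpen_mem_and_subset (U := (⊤ : S.Opens)) (x := g z)
    trivial
  obtain ⟨U, hU, hzU, hUV⟩ := exists_isAffineOpen_mem_and_subset (U := g ⁻¹ᵁ V) (x := z) hsV
  letI alg : Algebra Γ(S, V) Γ(Z, U) := (g.appLE V U hUV).hom.toAlgebra
  haveI : IsNoetherianRing Γ(S, V) := IsLocallyNoetherian.component_noetherian ⟨V, hV⟩
  haveI : Algebra.FiniteType Γ(S, V) Γ(Z, U) := LocallyOfFiniteType.finiteType_appLE g hV hU hUV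
  haveI : IsNoetherianRing Γ(Z, U) := Algebra.FiniteType.isNoetherianRing Γ(S, V) Γ(Z, U)
  have hξU : genericPoint Z ∈ U := genericPoint_mem_of_mem U z hzU
  haveI hlo := liesOver_chart g hV hU hUV z hzU rfl
  haveI hloξ := liesOver_chart g hV hU hUV (genericPoint Z) hξU rfl
  have hQq : (hU.primeIdealOf ⟨genericPoint Z, hξU⟩).asIdeal ≤ (hU.primeIdealOf ⟨z, hzU⟩).asIdeal :=
    primeIdealOf_genericPoint_le hU hξU _
  have hloc := isUniversallyCatenary_chart hV (g z) (hUV hzU) hcat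
  have key := dim_eq_rel_of_local Γ(S, V) Γ(Z, U) (hV.primeIdealOf ⟨g z, hUV hzU⟩).asIdeal
    (hU.primeIdealOf ⟨z, hzU⟩).asIdeal (hU.primeIdealOf ⟨genericPoint Z, hξU⟩).asIdeal hQq hloc
  rw [tr_chart g hV hU hUV z hzU rfl] at key
  have h1 : Algebra.trdeg
      (Γ(S, V) ⧸ (hU.primeIdealOf ⟨genericPoint Z, hξU⟩).asIdeal.under Γ(S, V))
      (Γ(Z, U) ⧸ (hU.primeIdealOf ⟨genericPoint Z, hξU⟩).asIdeal) =
      (tr g (genericPoint Z) : Cardinal.{u}) := by
    rw [← tr_chart g hV hU hUV (genericPoint Z) hξU rfl]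
    exact trdeg_quot_congr _ _ _ _ hloξ.over.symm rfl
  rw [h1, height_map_mk_of_forall_le _ _ (primeIdealOf_genericPoint_le hU hξU),
    height_map_mk_congr _ _ _ hloξ.over.symm] at key
  have hsp : g (genericPoint Z) ⤳ g z :=
    (genericPoint_specializes z).map g.continuous
  rw [ringKrullDim_stalk_eq_height hU z hzU,
    dim_genIn_eq hV (g (genericPoint Z)) (g z) (hUV hzU) (hUV hξU) hsp]
  have hp : (hV.primeIdealOf ⟨g (genericPoint Z), hUV hξU⟩).asIdeal ≤
      (hV.primeIdealOf ⟨g z, hUV hzU⟩).asIdeal :=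
    (specializes_iff_primeIdealOf_le hV ⟨_, hUV hξU⟩ ⟨_, hUV hzU⟩).mp hsp
  haveI := isPrime_map_mk _ _ hp
  obtain ⟨c₀, hc₀⟩ := exists_height_nat (hU.primeIdealOf ⟨z, hzU⟩).asIdeal
  obtain ⟨m₀, hm₀⟩ := exists_height_nat ((hV.primeIdealOf ⟨g z, hUV hzU⟩).asIdeal.map
    (Ideal.Quotient.mk (hV.primeIdealOf ⟨g (genericPoint Z), hUV hξU⟩).asIdeal))
  rw [hc₀, hm₀] at key ⊢
  have key' : c₀ + tr g z = m₀ + tr g (genericPoint Z) := by exact_mod_cast key
  have : ((c₀ + tr g z : ℕ) : WithBot ℕ∞) = ((m₀ + tr g (genericPoint Z) : ℕ) : WithBot ℕ∞) := by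
    rw [key']
  push_cast at this
  exact this

end GenDim




section Jac

theorem genIn_congr {S : Scheme.{u}} (σ σ' s s' : S) (h : σ = σ') (h' : s = s') :
    topologicalKrullDim ↥{t : S | t ∈ closure ({σ} : Set S) ∧ t ⤳ s} =
      topologicalKrullDim ↥{t : S | t ∈ closure ({σ'} : Set S) ∧ t ⤳ s'} := by
  subst h
  subst h'
  rfl

theorem genIn_const {S : Scheme.{u}} [IsLocallyNoetherian S]
    (h2 : ∀ s : S, CAlg.IsUniversallyCatenary (S.presheaf.stalk s))
    (h3 : ∀ S' ∈ irreducibleComponents (S : Type u), ∀ s ∈ S', IsClosed ({s} : Set S) →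
      topologicalKrullDim (↥S' : Type u) = topologicalKrullDim ↥{t : S | t ∈ S' ∧ t ⤳ s})
    (σ s₁ s₂ : S) (h1 : σ ⤳ s₁) (h1' : σ ⤳ s₂) (hc1 : IsClosed ({s₁} : Set S))
    (hc2 : IsClosed ({s₂} : Set S)) :
    topologicalKrullDim ↥{t : S | t ∈ closure ({σ} : Set S) ∧ t ⤳ s₁} =
      topologicalKrullDim ↥{t : S | t ∈ closure ({σ} : Set S) ∧ t ⤳ s₂} := by
  have hirr : IsIrreducible (irreducibleComponent σ) := isIrreducible_irreducibleComponent
  have hcl : IsClosed (irreducibleComponent σ) := isClosed_irreducibleComponent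
  have hgen : IsGenericPoint hirr.genericPoint (irreducibleComponent σ) :=
    hirr.isGenericPoint_genericPoint hcl
  have hmem : closure ({hirr.genericPoint} : Set S) ∈ irreducibleComponents (S : Type u) := by
    rw [hgen.def]
    exact irreducibleComponent_mem_irreducibleComponents σ
  have hσ'σ : hirr.genericPoint ⤳ σ := by
    rw [specializes_iff_mem_closure, hgen.def]
    exact mem_irreducibleComponent
  have e1 := h3 _ hmem s₁ (hσ'σ.trans h1).mem_closure hc1
  have e2 := h3 _ hmem s₂ (hσ'σ.trans h1').mem_closure hc2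
  obtain ⟨a, b, ha, hb, hab⟩ := genIn_add hirr.genericPoint σ s₁ hσ'σ h1 (h2 s₁)
  obtain ⟨a', b', ha', hb', hab'⟩ := genIn_add hirr.genericPoint σ s₂ hσ'σ h1' (h2 s₂)
  rw [hb, hb']
  rw [ha] at ha'
  have haa : a = a' := by exact_mod_cast ha'
  rw [← e1] at hab
  rw [← e2, hab] at hab'
  have : a + b = a' + b' := by exact_mod_cast hab'
  have hbb : b = b' := by omega
  rw [hbb]

variable {Z S : Scheme.{u}} (g : Z ⟶ S) [LocallyOfFiniteType g]

theorem tr_eq_zero_of_isClosed [IsLocallyNoetherian S] (z : Z) (hz : IsClosed ({z} : Set Z)) :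
    tr g z = 0 := by
  have h := height_fib_eq g z
  have hmin : IsMin (⟨z, rfl⟩ : {w : Z // g w = g z}) := by
    intro b hb
    have h1 : z ⤳ b.1 := hb
    have h2 : b.1 ∈ ({z} : Set Z) := h1.mem_closed hz (Set.mem_singleton z)
    have h3 : b = ⟨z, rfl⟩ := Subtype.ext h2
    rw [h3]
  rw [Order.height_eq_zero.mpr hmin] at h
  exact_mod_cast h.symm

theorem dim_eq_genIn_add [IsLocallyNoetherian S] [JacobsonSpace S]
    (h2 : ∀ s : S, CAlg.IsUniversallyCatenary (S.presheaf.stalk s))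
    (h3 : ∀ S' ∈ irreducibleComponents (S : Type u), ∀ s ∈ S', IsClosed ({s} : Set S) →
      topologicalKrullDim (↥S' : Type u) = topologicalKrullDim ↥{t : S | t ∈ S' ∧ t ⤳ s})
    [IrreducibleSpace Z] (z₀ : Z) (hz₀ : IsClosed ({z₀} : Set Z)) :
    topologicalKrullDim Z =
      topologicalKrullDim ↥{t : S | t ∈ closure ({g (genericPoint Z)} : Set S) ∧ t ⤳ g z₀} +
        (tr g (genericPoint Z) : WithBot ℕ∞) := by
  haveI : JacobsonSpace Z := LocallyOfFiniteType.jacobsonSpace g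
  have hclosed : ∀ z : Z, IsClosed ({z} : Set Z) → IsClosed ({g z} : Set S) :=
    fun z hz => g.closePoints_subset_preimage_closedPoints hz
  have hformula : ∀ z : Z, IsClosed ({z} : Set Z) → ringKrullDim (Z.presheaf.stalk z) =
      topologicalKrullDim ↥{t : S | t ∈ closure ({g (genericPoint Z)} : Set S) ∧ t ⤳ g z₀} +
        (tr g (genericPoint Z) : WithBot ℕ∞) := by
    intro z hz
    have h := stalk_dim_eq_gen g z (h2 _)
    rw [tr_eq_zero_of_isClosed g z hz, Nat.cast_zero, add_zero] at h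
    rw [h, genIn_const h2 h3 (g (genericPoint Z)) (g z) (g z₀)
      ((genericPoint_specializes z).map g.continuous)
      ((genericPoint_specializes z₀).map g.continuous) (hclosed z hz) (hclosed z₀ hz₀)]
  rw [topologicalKrullDim_eq_iSup_stalk Z]
  apply le_antisymm
  · refine iSup_le fun z => ?_
    obtain ⟨z', hz'mem, hz'cl⟩ := nonempty_inter_closedPoints (Z := closure ({z} : Set Z))
      ⟨z, subset_closure (Set.mem_singleton z)⟩ isClosed_closure.isLocallyClosed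
    have hsp : z ⤳ z' := specializes_iff_mem_closure.mpr hz'mem
    rw [← hformula z' hz'cl, AlgebraicGeometry.ringKrullDim_stalk_eq_coheight,
      AlgebraicGeometry.ringKrullDim_stalk_eq_coheight]
    exact WithBot.coe_le_coe.mpr (Order.coheight_anti (show z' ≤ z from hsp))
  · rw [← hformula z₀ hz₀]
    exact le_iSup (fun z : Z => ringKrullDim (Z.presheaf.stalk z)) z₀

end Jac

section Tower

theorem tr_comp {X Y S : Scheme.{u}} (f : X ⟶ Y) (q : Y ⟶ S) [LocallyOfFiniteType f]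
    [LocallyOfFiniteType q] (x : X) : tr (f ≫ q) x = tr q (f x) + tr f x := by
  letI a1 : Algebra (S.residueField (q (f x))) (Y.residueField (f x)) :=
    (q.residueFieldMap (f x)).hom.toAlgebra
  letI a2 : Algebra (Y.residueField (f x)) (X.residueField x) :=
    (f.residueFieldMap x).hom.toAlgebra
  letI a3 : Algebra (S.residueField (q (f x))) (X.residueField x) :=
    ((f ≫ q).residueFieldMap x).hom.toAlgebra
  haveI : IsScalarTower (S.residueField (q (f x))) (Y.residueField (f x)) (X.residueField x) := by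
    refine IsScalarTower.of_algebraMap_eq (fun a => ?_)
    change ((f ≫ q).residueFieldMap x).hom a =
      (f.residueFieldMap x).hom ((q.residueFieldMap (f x)).hom a)
    rw [Scheme.residueFieldMap_comp]
    rfl
  have key := _root_.trdeg_add_eq (S.residueField (q (f x))) (Y.residueField (f x))
    (A := X.residueField x)
  have h1 := tr_spec q (f x)
  have h2 := tr_spec f x
  have h3 := tr_spec (f ≫ q) x
  have : (tr q (f x) : Cardinal.{u}) + tr f x = tr (f ≫ q) x := by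
    rw [← h1, ← h2, ← h3]
    exact key
  have : tr q (f x) + tr f x = tr (f ≫ q) x := by exact_mod_cast this
  omega

end Tower


section Main

theorem S3449_main {X Y S : Scheme.{u}} [IsLocallyNoetherian S]
    [JacobsonSpace S] (h2 : ∀ s : S, CAlg.IsUniversallyCatenary (S.presheaf.stalk s))
    (h3 : ∀ S' ∈ irreducibleComponents (S : Type u), ∀ s ∈ S', IsClosed ({s} : Set S) →
      topologicalKrullDim (↥S' : Type u) = topologicalKrullDim ↥{t : S | t ∈ S' ∧ t ⤳ s})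
    (p : X ⟶ S) (q : Y ⟶ S) [LocallyOfFiniteType p] [LocallyOfFiniteType q] (f : X ⟶ Y)
    (hf : f ≫ q = p)
    [IrreducibleSpace X] [IrreducibleSpace Y] [IsDominant f] :
    topologicalKrullDim (X : Type u) =
      topologicalKrullDim (Y : Type u) + topologicalKrullDim ↥(f.fiber (genericPoint Y)) := by
  subst hf
  haveI : LocallyOfFiniteType f := locallyOfFiniteType_of_comp f q
  haveI : IsLocallyNoetherian Y := LocallyOfFiniteType.isLocallyNoetherian q
  haveI : JacobsonSpace Y := LocallyOfFiniteType.jacobsonSpace q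
  haveI : JacobsonSpace X := LocallyOfFiniteType.jacobsonSpace (f ≫ q)
  obtain ⟨x₀, -, hx₀⟩ := nonempty_inter_closedPoints (Z := (Set.univ : Set X))
    ⟨genericPoint X, trivial⟩ isClosed_univ.isLocallyClosed
  have hy₀ : IsClosed ({f x₀} : Set Y) := f.closePoints_subset_preimage_closedPoints hx₀
  have hη : f (genericPoint X) = genericPoint Y :=
    Groth.Agent.Lib.Helper4.CurveTop1.map_genericPoint_of_isDominant f
  have eX := dim_eq_genIn_add (f ≫ q) h2 h3 x₀ hx₀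
  have eY := dim_eq_genIn_add q h2 h3 (f x₀) hy₀
  have eF := dim_generic_fibre f (genericPoint Y) hη
  have eT := tr_comp f q (genericPoint X)
  have eC : topologicalKrullDim ↥{t : S | t ∈ closure ({(f ≫ q) (genericPoint X)} : Set S) ∧
        t ⤳ (f ≫ q) x₀} =
      topologicalKrullDim ↥{t : S | t ∈ closure ({q (genericPoint Y)} : Set S) ∧
        t ⤳ q (f x₀)} :=
    genIn_congr _ _ _ _ (by rw [← hη]; rfl) rfl
  rw [eX, eY, eF, eT, eC, hη]
  push_cast
  rw [add_assoc]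

end Main


end Groth.Agent.Lib.Helper4.JacDim1
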