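import Mathlib
import Groth.Prelude.Def_Cyc
import Groth.Prelude.Def_EGA43
import Groth.Agent.Lib.Helper4.JacDim1
import Groth.Agent.Lib.Helper4.FibreStalkDim1
import Groth.Agent.Lib.Helper4.DimFT1
import Groth.Agent.Lib.Helper4.DimFT2

/-!
# Chevalley semicontinuity, ring level: quasi-finite over affine space near a point of fibre dimension n (helper4)
-/

set_option backward.isDefEq.respectTransparency.types false
set_option synthInstance.maxHeartbeats 400000
set_option autoImplicit false
set_option linter.unusedSectionVars false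
set_option linter.style.haveILetI false
set_option linter.unusedSimpArgs false
universe u v w
open CategoryTheory CategoryTheory.Limits AlgebraicGeometry TopologicalSpace IsLocalRing Opposite
open Cardinal
open Groth.Agent.Lib.Helper4.DimIneq1 Groth.Agent.Lib.Helper4.DimFT2 Groth.Agent.Lib.Helper4.Catenary1
open Groth.Agent.Lib.Helper4.DimEq1 Groth.Agent.Lib.Helper4.DimIneq2 Groth.Agent.Lib.Helper4.DimEq2
open Groth.Agent.Lib.Helper4.DimIneq3 Groth.Agent.Lib.Helper4.DimIneq4
open Groth.Agent.Lib.Helper4.NormFibre2 Groth.Agent.Lib.Helper4.RadBir3 Groth.Agent.Lib.Helper4.DimFT3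
open Groth.Agent.Lib.Helper4.FibDim1 Groth.Agent.Lib.Helper4.FibDim2 Groth.Agent.Lib.Helper4.LocUC1
open Groth.Agent.Lib.Helper4.FibDim3 Groth.Agent.Lib.Helper4.FibDim4 Groth.Agent.Lib.Helper4.FibDim5
open Groth.Agent.Lib.Helper4.FibDim6 Groth.Agent.Lib.Helper4.FibDim7 Groth.Agent.Lib.Helper4.JacDim1
open Groth.Agent.Lib.Helper4.DimFT1

namespace Groth.Agent.Lib.Helper4.Chev1

open TensorProduct

attribute [local instance] Algebra.TensorProduct.rightAlgebra in
/-- base change of a fibrewise finite map: `(κ ⊗[R] R') ⊗[R'] S'` is finite over `κ ⊗[R] R'` -/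
theorem finite_tensor_of_finite_fibre {R R' S' : Type u} [CommRing R] [CommRing R'] [CommRing S']
    [Algebra R R'] [Algebra R' S'] [Algebra R S'] [IsScalarTower R R' S']
    (κ : Type u) [CommRing κ] [Algebra R κ]
    (hfin : (Algebra.TensorProduct.map (AlgHom.id R κ)
      (IsScalarTower.toAlgHom R R' S')).toRingHom.Finite) :
    Module.Finite (κ ⊗[R] R') ((κ ⊗[R] R') ⊗[R'] S') := by
  let f : κ →ₐ[R] (κ ⊗[R] R') ⊗[R'] S' := IsScalarTower.toAlgHom R κ _
  let g : S' →ₐ[R] (κ ⊗[R] R') ⊗[R'] S' :=
    (Algebra.TensorProduct.includeRight : S' →ₐ[R'] (κ ⊗[R] R') ⊗[R'] S').restrictScalars R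
  let Ξ : κ ⊗[R] S' →ₐ[R] (κ ⊗[R] R') ⊗[R'] S' :=
    Algebra.TensorProduct.lift f g (fun _ _ => .all _ _)
  have hΞ : Function.Surjective Ξ := by
    intro m
    induction m using TensorProduct.induction_on with
    | zero => exact ⟨0, map_zero _⟩
    | add x y hx hy =>
      obtain ⟨a, rfl⟩ := hx
      obtain ⟨b, rfl⟩ := hy
      exact ⟨a + b, map_add _ _ _⟩
    | tmul x s =>
      induction x using TensorProduct.induction_on with
      | zero => exact ⟨0, by simp⟩
      | add x y hx hy =>
        obtain ⟨a, ha⟩ := hx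
        obtain ⟨b, hb⟩ := hy
        exact ⟨a + b, by rw [map_add, ha, hb, TensorProduct.add_tmul]⟩
      | tmul k r' =>
        refine ⟨k ⊗ₜ[R] (r' • s), ?_⟩
        change f k * g (r' • s) = _
        have hf : f k = (k ⊗ₜ[R] (1 : R')) ⊗ₜ[R'] (1 : S') := by
          change algebraMap κ ((κ ⊗[R] R') ⊗[R'] S') k = _
          rw [Algebra.TensorProduct.algebraMap_apply, Algebra.TensorProduct.algebraMap_apply]
          rfl
        have hg : g (r' • s) = ((1 : κ) ⊗ₜ[R] r') ⊗ₜ[R'] s := by
          change (1 : κ ⊗[R] R') ⊗ₜ[R'] (r' • s) = _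
          rw [TensorProduct.tmul_smul, TensorProduct.smul_tmul']
          congr 1
          rw [Algebra.smul_def, mul_one]
          rfl
        rw [hf, hg, Algebra.TensorProduct.tmul_mul_tmul, Algebra.TensorProduct.tmul_mul_tmul,
          mul_one, one_mul, one_mul]
  have hcomp : algebraMap (κ ⊗[R] R') ((κ ⊗[R] R') ⊗[R'] S') =
      Ξ.toRingHom.comp (Algebra.TensorProduct.map (AlgHom.id R κ)
        (IsScalarTower.toAlgHom R R' S')).toRingHom := by
    have h2 : (IsScalarTower.toAlgHom R (κ ⊗[R] R') ((κ ⊗[R] R') ⊗[R'] S')) =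
        Ξ.comp (Algebra.TensorProduct.map (AlgHom.id R κ) (IsScalarTower.toAlgHom R R' S')) := by
      apply Algebra.TensorProduct.ext'
      intro k r'
      change algebraMap (κ ⊗[R] R') ((κ ⊗[R] R') ⊗[R'] S') (k ⊗ₜ[R] r') =
        Ξ (k ⊗ₜ[R] (algebraMap R' S' r'))
      change _ = f k * g (algebraMap R' S' r')
      have hf : f k = (k ⊗ₜ[R] (1 : R')) ⊗ₜ[R'] (1 : S') := by
        change algebraMap κ ((κ ⊗[R] R') ⊗[R'] S') k = _
        rw [Algebra.TensorProduct.algebraMap_apply, Algebra.TensorProduct.algebraMap_apply]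
        rfl
      have hg : g (algebraMap R' S' r') = ((1 : κ) ⊗ₜ[R] r') ⊗ₜ[R'] (1 : S') := by
        change (1 : κ ⊗[R] R') ⊗ₜ[R'] (algebraMap R' S' r') = _
        rw [Algebra.algebraMap_eq_smul_one r', TensorProduct.tmul_smul, TensorProduct.smul_tmul']
        congr 1
        rw [Algebra.smul_def, mul_one]
        rfl
      rw [hf, hg, Algebra.TensorProduct.tmul_mul_tmul, Algebra.TensorProduct.tmul_mul_tmul,
        mul_one, one_mul, Algebra.TensorProduct.algebraMap_apply, mul_one, Algebra.algebraMap_self,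
        RingHom.id_apply]
    exact congrArg (fun φ : (κ ⊗[R] R') →ₐ[R] ((κ ⊗[R] R') ⊗[R'] S') => φ.toRingHom) h2
  rw [← RingHom.finite_algebraMap, hcomp]
  exact RingHom.Finite.comp (RingHom.Finite.of_surjective _ hΞ) hfin



open TensorProduct

attribute [local instance] Algebra.TensorProduct.rightAlgebra in
/-- if a ring map becomes finite after base change to the fibre over `p`, it is quasi-finite at
all primes over `p` -/
theorem quasiFiniteAt_of_finite_fibre {R R' S' : Type u} [CommRing R] [CommRing R'] [CommRing S']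
    [Algebra R R'] [Algebra R' S'] [Algebra R S'] [IsScalarTower R R' S']
    [Algebra.FiniteType R' S'] (p : Ideal R) [p.IsPrime]
    (hfin : (Algebra.TensorProduct.map (AlgHom.id R p.ResidueField)
      (IsScalarTower.toAlgHom R R' S')).toRingHom.Finite)
    (q' : Ideal S') [hq' : q'.IsPrime] (hq'p : q'.under R = p) :
    Algebra.QuasiFiniteAt R' q' := by
  -- the prime of R' below q'
  haveI hP' : (q'.under R').IsPrime := Ideal.comap_isPrime _ _
  have hP'p : p = (q'.under R').comap (Algebra.ofId R R').toRingHom := by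
    rw [← hq'p]
    ext x
    simp only [Ideal.mem_comap, Ideal.under]
    rw [IsScalarTower.algebraMap_apply R R' S']
    rfl
  haveI : q'.LiesOver (q'.under R') := ⟨rfl⟩
  -- it suffices that the fibre over P' is finite
  suffices hfib : Module.Finite (q'.under R').ResidueField ((q'.under R').Fiber S') by
    haveI := hfib
    let Q' := PrimeSpectrum.primesOverOrderIsoFiber R' S' (q'.under R') ⟨q', hq', inferInstance⟩
    have hQ' : Q'.asIdeal.comap Algebra.TensorProduct.includeRight.toRingHom = q' :=
      congrArg Subtype.val ((PrimeSpectrum.primesOverOrderIsoFiber R' S'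
        (q'.under R')).symm_apply_apply ⟨q', hq', inferInstance⟩)
    exact Algebra.QuasiFiniteAt.of_quasiFiniteAt_residueField (q'.under R') q' Q'.asIdeal hQ'
  let j : p.ResidueField →ₐ[R] (q'.under R').ResidueField :=
    Ideal.ResidueField.mapₐ p (q'.under R') (Algebra.ofId R R') hP'p
  let ρ : p.ResidueField ⊗[R] R' →ₐ[R] (q'.under R').ResidueField :=
    Algebra.TensorProduct.lift j (IsScalarTower.toAlgHom R R' (q'.under R').ResidueField)
      (fun _ _ => .all _ _)
  letI algK : Algebra (p.ResidueField ⊗[R] R') (q'.under R').ResidueField := ρ.toRingHom.toAlgebra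
  haveI : IsScalarTower R' (p.ResidueField ⊗[R] R') (q'.under R').ResidueField := by
    apply IsScalarTower.of_algebraMap_eq
    intro r'
    change _ = ρ ((1 : p.ResidueField) ⊗ₜ[R] r')
    change _ = j 1 * algebraMap R' (q'.under R').ResidueField r'
    rw [map_one, one_mul]
  haveI := finite_tensor_of_finite_fibre p.ResidueField hfin
  let e := Algebra.TensorProduct.cancelBaseChange R' (p.ResidueField ⊗[R] R')
    (q'.under R').ResidueField (q'.under R').ResidueField S'
  exact Module.Finite.equiv e.toLinearEquiv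



open TensorProduct

/-- ring-level openness of the quasi-finite locus -/
theorem exists_away_quasiFinite {R S : Type u} [CommRing R] [CommRing S] [Algebra R S]
    [Algebra.FiniteType R S] (q : Ideal S) [q.IsPrime] [Algebra.QuasiFiniteAt R q] :
    ∃ r : S, r ∉ q ∧ Algebra.QuasiFinite R (Localization.Away r) := by
  obtain ⟨S', hS', r, hrp, H⟩ :=
    Algebra.QuasiFiniteAt.exists_fg_and_exists_notMem_and_awayMap_bijective (R := R) q
  have : Module.Finite R S' := ⟨(Submodule.fg_top _).mpr hS'⟩
  have : Algebra.QuasiFinite R (Localization.Away r) := .trans _ S' _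
  have : Algebra.QuasiFinite R (Localization.Away r.1) :=
    .of_surjective_algHom (Localization.awayMapₐ S'.val r) H.2
  exact ⟨r.1, hrp, this⟩



open TensorProduct

/-- Noether normalization for a nontrivial finite type algebra over a field -/
theorem exists_noether'' (k : Type u) [Field k] (A : Type u) [CommRing A] [Nontrivial A]
    [Algebra k A] [Algebra.FiniteType k A] :
    ∃ (s : ℕ) (_ : Algebra (MvPolynomial (Fin s) k) A),
    IsScalarTower k (MvPolynomial (Fin s) k) A ∧ Module.Finite (MvPolynomial (Fin s) k) A ∧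
    Function.Injective (algebraMap (MvPolynomial (Fin s) k) A) ∧
    ringKrullDim A = (s : WithBot ℕ∞) := by
  obtain ⟨s, g, hinj, hfin⟩ := exists_finite_inj_algHom_of_fg k A
  letI := g.toRingHom.toAlgebra
  haveI : Module.Finite (MvPolynomial (Fin s) k) A := hfin
  haveI : Algebra.IsIntegral (MvPolynomial (Fin s) k) A := Algebra.IsIntegral.of_finite _ _
  refine ⟨s, g.toRingHom.toAlgebra, IsScalarTower.of_algebraMap_eq (fun x => (g.commutes x).symm),
    hfin, hinj, ?_⟩
  rw [ringKrullDim_eq_of_isIntegral_of_injective (MvPolynomial (Fin s) k) A hinj,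
    MvPolynomial.ringKrullDim_of_isNoetherianRing, ringKrullDim_eq_zero_of_field, zero_add,
    Nat.card_fin]

/-- a basic open neighbourhood of a prime of a finite type algebra over a field realizing the local
dimension -/
theorem exists_away_dim_eq_localDim (k : Type u) [Field k] (C : Type u) [CommRing C] [Algebra k C]
    [Algebra.FiniteType k C] (Q : PrimeSpectrum C) :
    ∃ c : C, c ∉ Q.asIdeal ∧ ∀ (Sf : Type u) [CommRing Sf] [Algebra C Sf]
      [IsLocalization.Away c Sf], ringKrullDim Sf = FlatMor.localDim (PrimeSpectrum C) Q := by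
  have h := Groth.Agent.Lib.Helper4.DimFT2.localDim_spec_eq (k := k) Q.asIdeal
  obtain ⟨c, hc, hle⟩ := Groth.Agent.Lib.Helper4.DimFT2.exists_dim_away_le k C Q.asIdeal
  refine ⟨c, hc, ?_⟩
  intro Sf _ _ _
  have h2 := Groth.Agent.Lib.Helper4.DimFT2.le_dim_away k C Q.asIdeal c hc Sf
  change FlatMor.localDim (PrimeSpectrum C) Q = _ at h
  rw [h]
  exact le_antisymm (hle Sf) h2



open TensorProduct

/-- lifting a finite map from a polynomial ring over the residue field to the fibre ring, up to
rescaling the variables -/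
theorem exists_lift_finite {R S₁ : Type u} [CommRing R] [CommRing S₁] [Algebra R S₁]
    (p : Ideal R) [p.IsPrime] (n : ℕ)
    [Algebra (MvPolynomial (Fin n) p.ResidueField) (p.ResidueField ⊗[R] S₁)]
    [IsScalarTower p.ResidueField (MvPolynomial (Fin n) p.ResidueField) (p.ResidueField ⊗[R] S₁)]
    [Module.Finite (MvPolynomial (Fin n) p.ResidueField) (p.ResidueField ⊗[R] S₁)] :
    ∃ b : Fin n → S₁, (Algebra.TensorProduct.map (AlgHom.id R p.ResidueField)
      (MvPolynomial.aeval b : MvPolynomial (Fin n) R →ₐ[R] S₁)).toRingHom.Finite := by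
  -- the images of the variables
  have hex : ∀ i : Fin n, ∃ a : R, a ∉ p ∧ ∃ s : S₁,
      a • (algebraMap (MvPolynomial (Fin n) p.ResidueField) (p.ResidueField ⊗[R] S₁)
        (MvPolynomial.X i)) = (1 : p.ResidueField) ⊗ₜ[R] s := fun i =>
    Ideal.Fiber.exists_smul_eq_one_tmul p _
  choose a ha b hb using hex
  refine ⟨b, ?_⟩
  have ha' : ∀ i, algebraMap R p.ResidueField (a i) ≠ 0 := fun i h =>
    ha i (Ideal.algebraMap_residueField_eq_zero.mp h)
  let ψ : MvPolynomial (Fin n) p.ResidueField →ₐ[p.ResidueField] p.ResidueField ⊗[R] S₁ :=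
    IsScalarTower.toAlgHom _ _ _
  let θ : MvPolynomial (Fin n) p.ResidueField →ₐ[p.ResidueField]
      MvPolynomial (Fin n) p.ResidueField :=
    MvPolynomial.aeval (fun i => MvPolynomial.C (algebraMap R p.ResidueField (a i)) *
      MvPolynomial.X i)
  let θ' : MvPolynomial (Fin n) p.ResidueField →ₐ[p.ResidueField]
      MvPolynomial (Fin n) p.ResidueField :=
    MvPolynomial.aeval (fun i => MvPolynomial.C (algebraMap R p.ResidueField (a i))⁻¹ *
      MvPolynomial.X i)
  have hθθ' : θ.comp θ' = AlgHom.id _ _ := by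
    apply MvPolynomial.algHom_ext
    intro i
    simp only [AlgHom.comp_apply, θ, θ', MvPolynomial.aeval_X, map_mul, MvPolynomial.aeval_C,
      AlgHom.id_apply]
    rw [MvPolynomial.algebraMap_eq, ← mul_assoc, ← MvPolynomial.C_mul, inv_mul_cancel₀ (ha' i),
      MvPolynomial.C_1, one_mul]
  have hθsurj : Function.Surjective θ := fun x => ⟨θ' x, by
    have := congrArg (fun f : _ →ₐ[p.ResidueField] _ => f x) hθθ'
    exact this⟩
  let e := MvPolynomial.algebraTensorAlgEquiv (σ := Fin n) R p.ResidueField
  have key : (Algebra.TensorProduct.map (AlgHom.id R p.ResidueField)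
      (MvPolynomial.aeval b : MvPolynomial (Fin n) R →ₐ[R] S₁)) =
      ((ψ.comp θ).restrictScalars R).comp (e.toAlgHom.restrictScalars R) := by
    apply Algebra.TensorProduct.ext
    · ext
    · apply MvPolynomial.algHom_ext
      intro i
      change (1 : p.ResidueField) ⊗ₜ[R] (MvPolynomial.aeval b (MvPolynomial.X i)) =
        ψ (θ (e ((1 : p.ResidueField) ⊗ₜ[R] (MvPolynomial.X i))))
      rw [MvPolynomial.aeval_X, MvPolynomial.algebraTensorAlgEquiv_tmul, one_smul,
        MvPolynomial.map_X]
      change _ = ψ (MvPolynomial.aeval (fun i => MvPolynomial.C (algebraMap R p.ResidueField (a i)) *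
        MvPolynomial.X i) (MvPolynomial.X i))
      rw [MvPolynomial.aeval_X, map_mul, ← hb i]
      change _ = algebraMap _ _ (MvPolynomial.C ((algebraMap R p.ResidueField) (a i))) *
        algebraMap _ _ (MvPolynomial.X i)
      rw [← MvPolynomial.algebraMap_eq, ← IsScalarTower.algebraMap_apply,
        ← IsScalarTower.algebraMap_apply, Algebra.smul_def]
  rw [key]
  have h1 : ψ.toRingHom.Finite := by
    change (algebraMap _ _).Finite
    rw [RingHom.finite_algebraMap]
    infer_instance
  have h2 : θ.toRingHom.Finite := RingHom.Finite.of_surjective _ hθsurj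
  have h3 : e.toAlgHom.toRingHom.Finite := RingHom.Finite.of_surjective _ e.surjective
  exact RingHom.Finite.comp (RingHom.Finite.comp h1 h2) h3



open TensorProduct

/-- the fibre ring of a localization is the localization of the fibre ring -/
theorem isLocalization_away_fibre {R S : Type u} [CommRing R] [CommRing S] [Algebra R S]
    (κ : Type u) [CommRing κ] [Algebra R κ] (g₁ : S) (S₁ : Type u) [CommRing S₁] [Algebra S S₁]
    [Algebra R S₁] [IsScalarTower R S S₁] [IsLocalization.Away g₁ S₁] :
    letI : Algebra (κ ⊗[R] S) (κ ⊗[R] S₁) :=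
      (Algebra.TensorProduct.map (AlgHom.id R κ) (IsScalarTower.toAlgHom R S S₁)).toRingHom.toAlgebra
    IsLocalization.Away ((1 : κ) ⊗ₜ[R] g₁) (κ ⊗[R] S₁) := by
  letI alg : Algebra (κ ⊗[R] S) (κ ⊗[R] S₁) :=
    (Algebra.TensorProduct.map (AlgHom.id R κ) (IsScalarTower.toAlgHom R S S₁)).toRingHom.toAlgebra
  haveI : IsScalarTower κ (κ ⊗[R] S) (κ ⊗[R] S₁) := by
    apply IsScalarTower.of_algebraMap_eq
    intro k
    change k ⊗ₜ[R] (1 : S₁) = (Algebra.TensorProduct.map (AlgHom.id R κ)
      (IsScalarTower.toAlgHom R S S₁)) (k ⊗ₜ[R] (1 : S))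
    rw [Algebra.TensorProduct.map_tmul, map_one]
    rfl
  have H : (algebraMap (κ ⊗[R] S) (κ ⊗[R] S₁)).comp
      (Algebra.TensorProduct.includeRight : S →ₐ[R] κ ⊗[R] S).toRingHom =
      (Algebra.TensorProduct.includeRight : S₁ →ₐ[R] κ ⊗[R] S₁).toRingHom.comp (algebraMap S S₁) := by
    ext s
    change (Algebra.TensorProduct.map (AlgHom.id R κ)
      (IsScalarTower.toAlgHom R S S₁)) ((1 : κ) ⊗ₜ[R] s) = (1 : κ) ⊗ₜ[R] (algebraMap S S₁ s)
    rw [Algebra.TensorProduct.map_tmul, map_one]
    rfl
  have h1 := IsLocalization.tensorProduct_tensorProduct_right R κ (Submonoid.powers g₁) S₁ H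
  rw [Submonoid.map_powers] at h1
  exact h1




open TensorProduct

/-- Step A: shrink to a principal open of `S` whose fibre ring has dimension `n`. -/
theorem exists_away_fibre_dim (R S : Type u) [CommRing R] [CommRing S]
    [Algebra R S] [Algebra.FiniteType R S] (p : Ideal R) [p.IsPrime] (q : Ideal S)
    (Q : PrimeSpectrum (p.Fiber S))
    (hQ : Q.asIdeal.comap (Algebra.TensorProduct.includeRight.toRingHom) = q) :
    ∃ g₁ : S, g₁ ∉ q ∧ ringKrullDim (p.ResidueField ⊗[R] Localization.Away g₁) =
      FlatMor.localDim (PrimeSpectrum (p.Fiber S)) Q := by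
  obtain ⟨c, hcQ, hc⟩ := exists_away_dim_eq_localDim p.ResidueField (p.Fiber S) Q
  obtain ⟨a, ha, g₁, hg₁⟩ := Ideal.Fiber.exists_smul_eq_one_tmul p c
  have ha' : algebraMap R p.ResidueField a ≠ 0 := fun h =>
    ha (Ideal.algebraMap_residueField_eq_zero.mp h)
  have hunit : IsUnit (algebraMap p.ResidueField (p.Fiber S) (algebraMap R p.ResidueField a)) :=
    (IsUnit.mk0 _ ha').map _
  have hsm : a • c = algebraMap p.ResidueField (p.Fiber S) (algebraMap R p.ResidueField a) * c := by
    rw [Algebra.smul_def, IsScalarTower.algebraMap_apply R p.ResidueField (p.Fiber S)]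
  have hassoc : Associated ((1 : p.ResidueField) ⊗ₜ[R] g₁) c := by
    rw [← hg₁, hsm]
    obtain ⟨u, hu⟩ := hunit
    rw [← hu]
    exact (associated_unit_mul_left c u u.isUnit)
  refine ⟨g₁, ?_, ?_⟩
  · intro hg
    rw [← hQ] at hg
    have h1 : (1 : p.ResidueField) ⊗ₜ[R] g₁ ∈ Q.asIdeal := hg
    rw [← hg₁, hsm] at h1
    rcases Q.isPrime.mem_or_mem h1 with h2 | h2
    · exact Q.isPrime.ne_top (Ideal.eq_top_of_isUnit_mem _ h2 hunit)
    · exact hcQ h2
  · letI alg : Algebra (p.Fiber S) (p.ResidueField ⊗[R] Localization.Away g₁) :=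
      (Algebra.TensorProduct.map (AlgHom.id R p.ResidueField)
        (IsScalarTower.toAlgHom R S (Localization.Away g₁))).toRingHom.toAlgebra
    haveI h1 : IsLocalization.Away ((1 : p.ResidueField) ⊗ₜ[R] g₁)
        (p.ResidueField ⊗[R] Localization.Away g₁) :=
      isLocalization_away_fibre p.ResidueField g₁ (Localization.Away g₁)
    haveI h2 : IsLocalization.Away c (p.ResidueField ⊗[R] Localization.Away g₁) :=
      IsLocalization.Away.of_associated hassoc
    exact hc _




open TensorProduct

/-- Step B: Noether normalization of the fibre ring lifted to `S₁`. -/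
theorem exists_finite_fibre_of_dim (R S₁ : Type u) [CommRing R] [CommRing S₁]
    [Algebra R S₁] [Algebra.FiniteType R S₁] (p : Ideal R) [p.IsPrime] (n : ℕ)
    (hdim : ringKrullDim (p.ResidueField ⊗[R] S₁) = (n : WithBot ℕ∞)) :
    ∃ b : Fin n → S₁, (Algebra.TensorProduct.map (AlgHom.id R p.ResidueField)
      (MvPolynomial.aeval b : MvPolynomial (Fin n) R →ₐ[R] S₁)).toRingHom.Finite := by
  haveI : Nontrivial (p.ResidueField ⊗[R] S₁) := by
    by_contra h
    rw [not_nontrivial_iff_subsingleton] at h
    rw [ringKrullDim_eq_bot_of_subsingleton] at hdim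
    exact WithBot.bot_ne_coe hdim
  obtain ⟨s, alg, htow, hfin, -, hs⟩ := exists_noether'' p.ResidueField (p.ResidueField ⊗[R] S₁)
  rw [hdim] at hs
  have hns : n = s := by exact_mod_cast hs
  subst hns
  exact exists_lift_finite p n




open TensorProduct

/-- Step C: fibrewise finite ⇒ quasi-finite on a principal open neighbourhood. -/
theorem exists_away_quasiFinite_of_finite_fibre (R S₁ : Type u) [CommRing R] [CommRing S₁]
    [Algebra R S₁] [Algebra.FiniteType R S₁] (p : Ideal R) [p.IsPrime] (n : ℕ)
    (b : Fin n → S₁)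
    (hfin : (Algebra.TensorProduct.map (AlgHom.id R p.ResidueField)
      (MvPolynomial.aeval b : MvPolynomial (Fin n) R →ₐ[R] S₁)).toRingHom.Finite)
    (q₁ : Ideal S₁) [q₁.IsPrime] (hq₁ : q₁.under R = p) :
    ∃ r : S₁, r ∉ q₁ ∧ ((algebraMap S₁ (Localization.Away r)).comp
      (MvPolynomial.aeval b : MvPolynomial (Fin n) R →ₐ[R] S₁).toRingHom).QuasiFinite := by
  letI alg : Algebra (MvPolynomial (Fin n) R) S₁ :=
    (MvPolynomial.aeval b : MvPolynomial (Fin n) R →ₐ[R] S₁).toRingHom.toAlgebra
  haveI tow : IsScalarTower R (MvPolynomial (Fin n) R) S₁ :=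
    IsScalarTower.of_algebraMap_eq (fun x =>
      ((MvPolynomial.aeval b : MvPolynomial (Fin n) R →ₐ[R] S₁).commutes x).symm)
  haveI ft : Algebra.FiniteType (MvPolynomial (Fin n) R) S₁ :=
    Algebra.FiniteType.of_restrictScalars_finiteType R _ _
  have heq : IsScalarTower.toAlgHom R (MvPolynomial (Fin n) R) S₁ = MvPolynomial.aeval b := by
    apply AlgHom.ext
    intro x
    rfl
  haveI qf : Algebra.QuasiFiniteAt (MvPolynomial (Fin n) R) q₁ := by
    apply quasiFiniteAt_of_finite_fibre p _ q₁ hq₁
    rw [heq]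
    exact hfin
  obtain ⟨r, hr, hqf⟩ := exists_away_quasiFinite (R := MvPolynomial (Fin n) R) q₁
  refine ⟨r, hr, ?_⟩
  have h1 : (algebraMap (MvPolynomial (Fin n) R) (Localization.Away r)).QuasiFinite :=
    RingHom.quasiFinite_algebraMap.mpr hqf
  rw [IsScalarTower.algebraMap_eq (MvPolynomial (Fin n) R) S₁ (Localization.Away r)] at h1
  exact h1




open TensorProduct

theorem S9175_main (R S : Type u) [CommRing R] [CommRing S]
    [Algebra R S] [Algebra.FiniteType R S] (p : Ideal R) [p.IsPrime] (q : Ideal S) [q.IsPrime]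
    [q.LiesOver p]
    (Q : PrimeSpectrum (p.Fiber S))
    (hQ : Q.asIdeal.comap (Algebra.TensorProduct.includeRight.toRingHom) = q) (n : ℕ)
    (hdim : FlatMor.localDim (PrimeSpectrum (p.Fiber S)) Q = (n : WithBot ℕ∞)) :
    ∃ g : S, g ∉ q ∧ ∃ φ : MvPolynomial (Fin n) R →ₐ[R] Localization.Away g,
      φ.toRingHom.FiniteType ∧ φ.toRingHom.QuasiFinite := by
  obtain ⟨g₁, hg₁, hd⟩ := exists_away_fibre_dim R S p q Q hQ
  rw [hdim] at hd
  haveI ftS₁ : Algebra.FiniteType R (Localization.Away g₁) :=
    Algebra.FiniteType.trans (inferInstanceAs (Algebra.FiniteType R S))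
      (IsLocalization.finiteType_of_monoid_fg (Submonoid.powers g₁) _)
  obtain ⟨b, hfin⟩ := exists_finite_fibre_of_dim R (Localization.Away g₁) p n hd
  -- the prime of `S₁`
  have hdisj : Disjoint (Submonoid.powers g₁ : Set S) (q : Set S) := by
    rw [Set.disjoint_left]
    rintro x ⟨k, rfl⟩ hx
    exact hg₁ (Ideal.IsPrime.mem_of_pow_mem inferInstance k hx)
  haveI hq₁ : (q.map (algebraMap S (Localization.Away g₁))).IsPrime :=
    IsLocalization.isPrime_of_isPrime_disjoint (Submonoid.powers g₁) _ q inferInstance hdisj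
  have hcomap : (q.map (algebraMap S (Localization.Away g₁))).comap
      (algebraMap S (Localization.Away g₁)) = q :=
    IsLocalization.under_map_of_isPrime_disjoint (Submonoid.powers g₁) _ inferInstance hdisj
  have hunder : (q.map (algebraMap S (Localization.Away g₁))).under R = p := by
    have h1 : p = q.under R := Ideal.LiesOver.over
    rw [h1]
    conv_rhs => rw [← hcomap]
    ext x
    simp only [Ideal.under, Ideal.mem_comap]
    rw [IsScalarTower.algebraMap_apply R S (Localization.Away g₁)]
  obtain ⟨r, hr, hqf⟩ := exists_away_quasiFinite_of_finite_fibre R (Localization.Away g₁) p n b hfin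
    (q.map (algebraMap S (Localization.Away g₁))) hunder
  -- write `r = r' / g₁ ^ k`
  obtain ⟨k, r', hr'⟩ := IsLocalization.Away.surj g₁ r
  have hunit : IsUnit (algebraMap S (Localization.Away g₁) g₁ ^ k) :=
    (IsLocalization.Away.algebraMap_isUnit g₁).pow k
  have hassoc : Associated (algebraMap S (Localization.Away g₁) r') r := by
    rw [← hr']
    obtain ⟨u, hu⟩ := hunit
    rw [← hu]
    exact (associated_mul_unit_left r u u.isUnit)
  have hr'q : r' ∉ q := by
    intro h
    have h1 : algebraMap S (Localization.Away g₁) r' ∈ q.map (algebraMap S (Localization.Away g₁)) :=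
      Ideal.mem_map_of_mem _ h
    rw [← hr'] at h1
    rcases hq₁.mem_or_mem h1 with h2 | h2
    · exact hr h2
    · exact hq₁.ne_top (Ideal.eq_top_of_isUnit_mem _ h2 hunit)
  refine ⟨g₁ * r', fun h => ?_, ?_⟩
  · rcases Ideal.IsPrime.mem_or_mem inferInstance h with h | h
    · exact hg₁ h
    · exact hr'q h
  haveI hloc : IsLocalization.Away (g₁ * r') (Localization.Away r) :=
    IsLocalization.Away.mul_of_associated g₁ r' r hassoc
  let e : Localization.Away (g₁ * r') ≃ₐ[S] Localization.Away r :=
    IsLocalization.algEquiv (Submonoid.powers (g₁ * r')) _ _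
  let φ : MvPolynomial (Fin n) R →ₐ[R] Localization.Away (g₁ * r') :=
    ((e.symm.restrictScalars R).toAlgHom.comp
      (IsScalarTower.toAlgHom R (Localization.Away g₁) (Localization.Away r))).comp
      (MvPolynomial.aeval b)
  have hφ : φ.toRingHom = (e.symm.toRingEquiv.toRingHom).comp
      ((algebraMap (Localization.Away g₁) (Localization.Away r)).comp
      (MvPolynomial.aeval b : MvPolynomial (Fin n) R →ₐ[R] Localization.Away g₁).toRingHom) := by
    ext x <;> rfl
  refine ⟨φ, ?_, ?_⟩
  · rw [hφ]
    refine RingHom.FiniteType.comp (RingHom.FiniteType.of_surjective _ e.symm.surjective)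
      (RingHom.FiniteType.comp ?_ ?_)
    · rw [RingHom.finiteType_algebraMap]
      exact IsLocalization.finiteType_of_monoid_fg (Submonoid.powers r) _
    · apply RingHom.FiniteType.of_comp_finiteType (f := algebraMap R (MvPolynomial (Fin n) R))
      have : (MvPolynomial.aeval b : MvPolynomial (Fin n) R →ₐ[R] Localization.Away g₁).toRingHom.comp
          (algebraMap R (MvPolynomial (Fin n) R)) = algebraMap R (Localization.Away g₁) := by
        ext x
        exact (MvPolynomial.aeval b : MvPolynomial (Fin n) R →ₐ[R] Localization.Away g₁).commutes x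
      rw [this, RingHom.finiteType_algebraMap]
      exact ftS₁
  · rw [hφ]
    exact RingHom.QuasiFinite.comp (RingHom.QuasiFinite.of_finite
      (RingHom.Finite.of_surjective _ e.symm.surjective)) hqf


end Groth.Agent.Lib.Helper4.Chev1
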