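import Mathlib
import Groth.Prelude.Def_Cyc
import Groth.Prelude.Def_EGA43
import Groth.Agent.Lib.Helper4.JacDim1
import Groth.Agent.Lib.Helper4.FibreStalkDim1

/-!
# Morphisms open at a point: generizations lift, dimension formula (S2559) (helper4)
-/

set_option backward.isDefEq.respectTransparency.types false
set_option synthInstance.maxHeartbeats 400000
set_option autoImplicit false
set_option linter.unusedSectionVars false
set_option linter.style.haveILetI false
set_option linter.unusedSimpArgs false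
universe u v w
open CategoryTheory CategoryTheory.Limits AlgebraicGeometry TopologicalSpace IsLocalRing Opposite
open Cardinal
open Groth.Agent.Lib.Helper4.DimIneq1 Groth.Agent.Lib.Helper4.DimFT2 Groth.Agent.Lib.Helper4.Catenary1
open Groth.Agent.Lib.Helper4.DimEq1 Groth.Agent.Lib.Helper4.DimIneq2 Groth.Agent.Lib.Helper4.DimEq2
open Groth.Agent.Lib.Helper4.DimIneq3 Groth.Agent.Lib.Helper4.DimIneq4
open Groth.Agent.Lib.Helper4.NormFibre2 Groth.Agent.Lib.Helper4.RadBir3 Groth.Agent.Lib.Helper4.DimFT3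
open Groth.Agent.Lib.Helper4.FibDim1 Groth.Agent.Lib.Helper4.FibDim2 Groth.Agent.Lib.Helper4.LocUC1
open Groth.Agent.Lib.Helper4.FibDim3 Groth.Agent.Lib.Helper4.FibDim4 Groth.Agent.Lib.Helper4.FibDim5
open Groth.Agent.Lib.Helper4.FibDim6 Groth.Agent.Lib.Helper4.FibDim7 Groth.Agent.Lib.Helper4.JacDim1

namespace Groth.Agent.Lib.Helper4.OpenAt1


open scoped Pointwise in
theorem ringKrullDim_quot_span_succ_le {R : Type*} [CommRing R] [IsNoetherianRing R] (x : R)
    (hx : ∀ p ∈ minimalPrimes R, x ∉ p) :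
    ringKrullDim (R ⧸ Ideal.span {x}) + 1 ≤ ringKrullDim R := by
  have h : Ideal.span {x} = x • (⊤ : Ideal R) := by
    simp [← Submodule.ideal_span_singleton_smul]
  rw [ringKrullDim_eq_of_ringEquiv (Ideal.quotientEquivAlgOfEq R h).toRingEquiv]
  rw [← Module.supportDim_quotient_eq_ringKrullDim, ← Module.supportDim_self_eq_ringKrullDim (R := R)]
  apply Module.supportDim_quotSMulTop_succ_le_of_notMem_minimalPrimes
  intro p hp
  apply hx p
  rw [Module.annihilator_eq_bot.mpr inferInstance] at hp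
  exact hp

open scoped Pointwise in
theorem ringKrullDim_le_quot_span_succ {R : Type*} [CommRing R] [IsNoetherianRing R]
    [IsLocalRing R] (x : R) (hx : x ∈ maximalIdeal R) :
    ringKrullDim R ≤ ringKrullDim (R ⧸ Ideal.span {x}) + 1 := by
  have h : Ideal.span {x} = x • (⊤ : Ideal R) := by
    simp [← Submodule.ideal_span_singleton_smul]
  rw [ringKrullDim_eq_of_ringEquiv (Ideal.quotientEquivAlgOfEq R h).toRingEquiv]
  exact ringKrullDim_le_ringKrullDim_quotSMulTop_succ hx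




theorem eq_maximalIdeal_of_mem_minimalPrimes {A : Type*} [CommRing A] [IsLocalRing A]
    (h : maximalIdeal A ∈ minimalPrimes A) (𝔭 : Ideal A) [h𝔭 : 𝔭.IsPrime] : 𝔭 = maximalIdeal A :=
  le_antisymm (IsLocalRing.le_maximalIdeal h𝔭.ne_top)
    (h.2 ⟨h𝔭, bot_le⟩ (IsLocalRing.le_maximalIdeal h𝔭.ne_top))

theorem ringKrullDim_le_zero_of_forall_eq {A : Type*} [CommRing A] [IsLocalRing A]
    (h : ∀ 𝔭 : Ideal A, 𝔭.IsPrime → 𝔭 = maximalIdeal A) : ringKrullDim A ≤ 0 := by
  have : Ring.KrullDimLE 0 A := Ring.KrullDimLE.mk₀ (fun I hI => by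
    rw [h I hI]
    exact maximalIdeal.isMaximal A)
  exact_mod_cast (Ring.krullDimLE_iff (n := 0) (R := A)).mp this

/-- a prime avoidance step -/
theorem exists_mem_maximalIdeal_avoiding {A B : Type u} [CommRing A] [CommRing B] [IsLocalRing A]
    [IsLocalRing B] [IsNoetherianRing A] [IsNoetherianRing B] (φ : A →+* B) [IsLocalHom φ]
    (hsurj : ∀ 𝔭 : Ideal A, 𝔭.IsPrime → ∃ q : Ideal B, q.IsPrime ∧ q.comap φ = 𝔭)
    (hfib : ringKrullDim (B ⧸ (maximalIdeal A).map φ) ≤ 0) (hdim : ¬ ringKrullDim A ≤ 0) :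
    ∃ a ∈ maximalIdeal A, (∀ 𝔭 ∈ minimalPrimes A, a ∉ 𝔭) ∧ ∀ q ∈ minimalPrimes B, φ a ∉ q := by
  classical
  have hcomap : (maximalIdeal B).comap φ = maximalIdeal A :=
    ((IsLocalRing.local_hom_TFAE φ).out 0 4 rfl rfl).mp inferInstance
  have h1 : ∀ 𝔭 ∈ minimalPrimes A, ¬ maximalIdeal A ≤ 𝔭 := by
    intro 𝔭 h𝔭 hle
    apply hdim
    have h𝔭' : 𝔭.IsPrime := h𝔭.1.1
    have e : 𝔭 = maximalIdeal A := le_antisymm (IsLocalRing.le_maximalIdeal h𝔭'.ne_top) hle
    rw [e] at h𝔭
    exact ringKrullDim_le_zero_of_forall_eq (fun 𝔭' h𝔭' =>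
      eq_maximalIdeal_of_mem_minimalPrimes h𝔭 𝔭')
  have h2 : ∀ q ∈ minimalPrimes B, ¬ maximalIdeal A ≤ q.comap φ := by
    intro q hq hle
    apply hdim
    have hq' : q.IsPrime := hq.1.1
    have hJ : (maximalIdeal A).map φ ≤ q := Ideal.map_le_iff_le_comap.mpr hle
    -- q is maximal
    have hK : Ring.KrullDimLE 0 (B ⧸ (maximalIdeal A).map φ) :=
      (Ring.krullDimLE_iff (n := 0)).mpr (by exact_mod_cast hfib)
    have hqmax : q.IsMaximal := by
      have hprime : (q.map (Ideal.Quotient.mk ((maximalIdeal A).map φ))).IsPrime :=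
        isPrime_map_mk _ _ hJ
      have hmax := Ideal.isMaximal_of_isPrime
        (q.map (Ideal.Quotient.mk ((maximalIdeal A).map φ)))
      have := Ideal.comap_isMaximal_of_surjective (Ideal.Quotient.mk ((maximalIdeal A).map φ))
        Ideal.Quotient.mk_surjective (K := q.map (Ideal.Quotient.mk ((maximalIdeal A).map φ)))
      rwa [comap_map_mk' _ _ hJ] at this
    have hqm : q = maximalIdeal B := IsLocalRing.eq_maximalIdeal hqmax
    rw [hqm] at hq
    apply ringKrullDim_le_zero_of_forall_eq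
    intro 𝔭 h𝔭
    obtain ⟨q', hq'p, hq'c⟩ := hsurj 𝔭 h𝔭
    rw [← hq'c, eq_maximalIdeal_of_mem_minimalPrimes hq q', hcomap]
  -- prime avoidance
  have hfinA := minimalPrimes.finite_of_isNoetherianRing A
  have hfinB := minimalPrimes.finite_of_isNoetherianRing B
  let S : Finset (Ideal A) := hfinA.toFinset ∪ (hfinB.toFinset.image (fun q => q.comap φ))
  have hS : ∀ i ∈ S, i.IsPrime := by
    intro i hi
    rcases Finset.mem_union.mp hi with hi | hi
    · exact ((Set.Finite.mem_toFinset hfinA).mp hi).1.1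
    · obtain ⟨q, hq, rfl⟩ := Finset.mem_image.mp hi
      haveI : q.IsPrime := ((Set.Finite.mem_toFinset hfinB).mp hq).1.1
      exact Ideal.comap_isPrime φ q
  have hnot : ¬ ((maximalIdeal A : Set A) ⊆ ⋃ i ∈ (↑S : Set (Ideal A)), (i : Set A)) := by
    intro hsub
    obtain ⟨i, hi, hle⟩ := (Ideal.subset_union_prime (f := fun i : Ideal A => i) ⊥ ⊥
      (fun i hi _ _ => hS i hi)).mp hsub
    rcases Finset.mem_union.mp hi with hi | hi
    · exact h1 i ((Set.Finite.mem_toFinset hfinA).mp hi) hle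
    · obtain ⟨q, hq, rfl⟩ := Finset.mem_image.mp hi
      exact h2 q ((Set.Finite.mem_toFinset hfinB).mp hq) hle
  rw [Set.not_subset] at hnot
  obtain ⟨a, ha, hna⟩ := hnot
  simp only [Set.mem_iUnion, not_exists] at hna
  refine ⟨a, ha, ?_, ?_⟩
  · intro 𝔭 h𝔭 ha𝔭
    exact hna 𝔭 (Finset.mem_coe.mpr (Finset.mem_union_left _
      ((Set.Finite.mem_toFinset hfinA).mpr h𝔭))) ha𝔭
  · intro q hq haq
    exact hna (q.comap φ) (Finset.mem_coe.mpr (Finset.mem_union_right _
      (Finset.mem_image.mpr ⟨q, (Set.Finite.mem_toFinset hfinB).mpr hq, rfl⟩))) haq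




theorem dim_le_of_surj_spec : ∀ (n : ℕ) (A B : Type u) [CommRing A] [CommRing B] [IsLocalRing A]
    [IsLocalRing B] [IsNoetherianRing A] [IsNoetherianRing B] (φ : A →+* B) [IsLocalHom φ],
    (∀ 𝔭 : Ideal A, 𝔭.IsPrime → ∃ q : Ideal B, q.IsPrime ∧ q.comap φ = 𝔭) →
    ringKrullDim (B ⧸ (maximalIdeal A).map φ) ≤ 0 → ringKrullDim A = n →
    (n : WithBot ℕ∞) ≤ ringKrullDim B := by
  intro n
  induction n with
  | zero =>
    intro A B _ _ _ _ _ _ φ _ _ _ _
    exact_mod_cast ringKrullDim_nonneg_of_nontrivial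
  | succ n ih =>
    intro A B _ _ _ _ _ _ φ _ hsurj hfib hdim
    have hdim0 : ¬ ringKrullDim A ≤ 0 := by
      rw [hdim]
      intro h
      have : (n + 1 : ℕ) ≤ 0 := by exact_mod_cast h
      omega
    obtain ⟨a, ham, haA, haB⟩ := exists_mem_maximalIdeal_avoiding φ hsurj hfib hdim0
    have hφam : φ a ∈ maximalIdeal B := by
      have hcomap : (maximalIdeal B).comap φ = maximalIdeal A :=
        ((IsLocalRing.local_hom_TFAE φ).out 0 4 rfl rfl).mp inferInstance
      rw [← hcomap] at ham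
      exact ham
    -- the quotients
    have hIa : Ideal.span {a} ≤ maximalIdeal A := (Ideal.span_singleton_le_iff_mem _).mpr ham
    have hIb : Ideal.span {φ a} ≤ maximalIdeal B := (Ideal.span_singleton_le_iff_mem _).mpr hφam
    haveI : Nontrivial (A ⧸ Ideal.span {a}) := Ideal.Quotient.nontrivial_iff.mpr
      (fun h => (maximalIdeal.isMaximal A).ne_top (top_le_iff.mp (h ▸ hIa)))
    haveI : Nontrivial (B ⧸ Ideal.span {φ a}) := Ideal.Quotient.nontrivial_iff.mpr
      (fun h => (maximalIdeal.isMaximal B).ne_top (top_le_iff.mp (h ▸ hIb)))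
    haveI : IsLocalRing (A ⧸ Ideal.span {a}) :=
      IsLocalRing.of_surjective' (Ideal.Quotient.mk _) Ideal.Quotient.mk_surjective
    haveI : IsLocalRing (B ⧸ Ideal.span {φ a}) :=
      IsLocalRing.of_surjective' (Ideal.Quotient.mk _) Ideal.Quotient.mk_surjective
    have hle : Ideal.span {a} ≤ (Ideal.span {φ a}).comap φ := by
      rw [Ideal.span_singleton_le_iff_mem, Ideal.mem_comap]
      exact Ideal.mem_span_singleton_self _
    let φ' : A ⧸ Ideal.span {a} →+* B ⧸ Ideal.span {φ a} := Ideal.quotientMap _ φ hle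
    have hφ' : ∀ x : A, φ' (Ideal.Quotient.mk _ x) = Ideal.Quotient.mk _ (φ x) := fun x => rfl
    haveI : IsLocalHom φ' := by
      constructor
      intro x hx
      obtain ⟨x, rfl⟩ := Ideal.Quotient.mk_surjective x
      rw [hφ'] at hx
      have h1 : IsUnit (φ x) := by
        by_contra hnu
        have h2 : φ x ∈ maximalIdeal B := (IsLocalRing.mem_maximalIdeal _).mpr hnu
        have h3 : Ideal.Quotient.mk (Ideal.span {φ a}) (φ x) ∈
            maximalIdeal (B ⧸ Ideal.span {φ a}) := by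
          rw [← Groth.Agent.Lib.Helper4.FibreStalkDim1.map_mk_maximalIdeal]
          exact Ideal.mem_map_of_mem _ h2
        exact (IsLocalRing.mem_maximalIdeal _).mp h3 hx
      exact (isUnit_of_map_unit φ x h1).map _
    -- surjectivity on spectra
    have hsurj' : ∀ 𝔭 : Ideal (A ⧸ Ideal.span {a}), 𝔭.IsPrime →
        ∃ q : Ideal (B ⧸ Ideal.span {φ a}), q.IsPrime ∧ q.comap φ' = 𝔭 := by
      intro 𝔭 h𝔭
      haveI := h𝔭
      obtain ⟨q, hq, hqc⟩ := hsurj (𝔭.comap (Ideal.Quotient.mk _)) (Ideal.comap_isPrime _ _)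
      haveI := hq
      have haq : Ideal.span {φ a} ≤ q := by
        rw [Ideal.span_singleton_le_iff_mem]
        have : a ∈ q.comap φ := by
          rw [hqc, Ideal.mem_comap, Ideal.Quotient.eq_zero_iff_mem.mpr
            (Ideal.mem_span_singleton_self a)]
          exact zero_mem _
        exact this
      refine ⟨q.map (Ideal.Quotient.mk _), isPrime_map_mk _ _ haq, ?_⟩
      apply Ideal.comap_injective_of_surjective (Ideal.Quotient.mk (Ideal.span {a}))
        Ideal.Quotient.mk_surjective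
      rw [← hqc, Ideal.comap_comap]
      have : φ'.comp (Ideal.Quotient.mk (Ideal.span {a})) =
          (Ideal.Quotient.mk (Ideal.span {φ a})).comp φ := by
        ext x
        rfl
      rw [this, ← Ideal.comap_comap, comap_map_mk' _ _ haq]
    -- fibre
    have hfib' : ringKrullDim ((B ⧸ Ideal.span {φ a}) ⧸
        (maximalIdeal (A ⧸ Ideal.span {a})).map φ') ≤ 0 := by
      refine le_trans ?_ hfib
      have hJ : (maximalIdeal A).map φ ≤ ((maximalIdeal (A ⧸ Ideal.span {a})).map φ').comap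
          (Ideal.Quotient.mk (Ideal.span {φ a})) := by
        rw [Ideal.map_le_iff_le_comap]
        intro x hx
        rw [Ideal.mem_comap, Ideal.mem_comap, ← hφ']
        apply Ideal.mem_map_of_mem
        rw [← Groth.Agent.Lib.Helper4.FibreStalkDim1.map_mk_maximalIdeal]
        exact Ideal.mem_map_of_mem _ hx
      exact ringKrullDim_le_of_surjective
        (Ideal.quotientMap _ (Ideal.Quotient.mk (Ideal.span {φ a})) hJ)
        (Ideal.quotientMap_surjective Ideal.Quotient.mk_surjective)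
    -- dimension of the quotient of A
    have hdimA : ringKrullDim (A ⧸ Ideal.span {a}) = n := by
      have h1 := ringKrullDim_quot_span_succ_le a haA
      have h2 := ringKrullDim_le_quot_span_succ a ham
      rw [hdim] at h1 h2
      have h3 : ringKrullDim (A ⧸ Ideal.span {a}) + ((1 : ℕ) : WithBot ℕ∞) =
          (n : WithBot ℕ∞) + ((1 : ℕ) : WithBot ℕ∞) := by
        apply le_antisymm
        · exact_mod_cast h1
        · exact_mod_cast h2
      exact add_natCast_cancel _ _ 1 h3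
    have key := ih (A ⧸ Ideal.span {a}) (B ⧸ Ideal.span {φ a}) φ' hsurj' hfib' hdimA
    have h4 := ringKrullDim_quot_span_succ_le (φ a) haB
    refine le_trans ?_ h4
    have := add_le_add_left key (1 : WithBot ℕ∞)
    exact_mod_cast this




/-- ring form of "open at a point implies generizations lift" -/
theorem exists_prime_le_comap_eq {A B : Type*} [CommRing A] [CommRing B] (φ : A →+* B)
    (q : Ideal B) [hq : q.IsPrime] (𝔭' : Ideal A) [h𝔭' : 𝔭'.IsPrime]
    (h : ∀ b : B, b ∉ q → ∃ Q : Ideal B, Q.IsPrime ∧ b ∉ Q ∧ Q.comap φ = 𝔭') :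
    ∃ q' : Ideal B, q'.IsPrime ∧ q' ≤ q ∧ q'.comap φ = 𝔭' := by
  have hdisj : Disjoint ((𝔭'.map φ : Ideal B) : Set B)
      ((q.primeCompl ⊔ 𝔭'.primeCompl.map φ : Submonoid B) : Set B) := by
    rw [Set.disjoint_left]
    intro x hxI hxT
    obtain ⟨s, hs, t, ht, rfl⟩ := Submonoid.mem_sup.mp hxT
    obtain ⟨a, ha, rfl⟩ := ht
    obtain ⟨Q, hQ, hsQ, hQc⟩ := h s hs
    have h1 : 𝔭'.map φ ≤ Q := by
      rw [Ideal.map_le_iff_le_comap, hQc]
    have h2 : s * φ a ∈ Q := h1 hxI
    have h3 : φ a ∈ Q := (hQ.mem_or_mem h2).resolve_left hsQ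
    have h4 : a ∈ Q.comap φ := h3
    rw [hQc] at h4
    exact ha h4
  obtain ⟨q', hq', hIq', hdq'⟩ := Ideal.exists_le_prime_disjoint (𝔭'.map φ) _ hdisj
  refine ⟨q', hq', ?_, ?_⟩
  · intro x hx
    by_contra hxq
    rw [Set.disjoint_left] at hdq'
    exact hdq' hx (Submonoid.mem_sup_left (show x ∈ q.primeCompl from hxq))
  · apply le_antisymm
    · intro a ha
      by_contra ha'
      rw [Set.disjoint_left] at hdq'
      exact hdq' (show φ a ∈ q' from ha) (Submonoid.mem_sup_right ⟨a, ha', rfl⟩)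
    · rw [← Ideal.map_le_iff_le_comap]
      exact hIq'




theorem mem_primeIdealOf_iff {X : Scheme.{u}} {U : X.Opens} (hU : IsAffineOpen U) (x : X)
    (hx : x ∈ U) (b : Γ(X, U)) :
    b ∈ (hU.primeIdealOf ⟨x, hx⟩).asIdeal ↔ x ∉ X.basicOpen b := by
  have h1 : hU.fromSpec (hU.primeIdealOf ⟨x, hx⟩) = x := hU.fromSpec_primeIdealOf ⟨x, hx⟩
  have h2 : hU.primeIdealOf ⟨x, hx⟩ ∈ hU.fromSpec ⁻¹ᵁ X.basicOpen b ↔ x ∈ X.basicOpen b := by
    change hU.fromSpec (hU.primeIdealOf ⟨x, hx⟩) ∈ X.basicOpen b ↔ _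
    rw [h1]
  rw [← h2, hU.fromSpec_preimage_basicOpen]
  change _ ↔ ¬ (b ∉ (hU.primeIdealOf ⟨x, hx⟩).asIdeal)
  rw [not_not]

/-- a morphism open at a point lifts generizations of the image of the point -/
theorem exists_generization_of_isOpenAt {X Y : Scheme.{u}} (f : X ⟶ Y) (z : X)
    (hop : EGA43.IsOpenAt f.base z) (y' : Y) (hy' : y' ⤳ f z) : ∃ x' : X, x' ⤳ z ∧ f x' = y' := by
  obtain ⟨V, hV, hzV, -⟩ := exists_isAffineOpen_mem_and_subset (U := (⊤ : Y.Opens)) (x := f z)
    trivial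
  obtain ⟨U, hU, hzU, hUV⟩ := exists_isAffineOpen_mem_and_subset (U := f ⁻¹ᵁ V) (x := z) hzV
  have hy'V : y' ∈ V := hy'.mem_open V.2 hzV
  letI alg : Algebra Γ(Y, V) Γ(X, U) := (f.appLE V U hUV).hom.toAlgebra
  have key := exists_prime_le_comap_eq (f.appLE V U hUV).hom
    (hU.primeIdealOf ⟨z, hzU⟩).asIdeal (hV.primeIdealOf ⟨y', hy'V⟩).asIdeal ?_
  · obtain ⟨q', hq', hq'le, hq'c⟩ := key
    refine ⟨hU.fromSpec ⟨q', hq'⟩, ?_, ?_⟩
    · rw [specializes_iff_primeIdealOf_le hU ⟨_, fromSpec_mem hU _⟩ ⟨z, hzU⟩, primeIdealOf_fromSpec]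
      exact hq'le
    · have hmem : hU.fromSpec ⟨q', hq'⟩ ∈ U := fromSpec_mem hU _
      have h1 := liesOver_chart f hV hU hUV _ hmem rfl
      have h2 : hV.primeIdealOf ⟨f (hU.fromSpec ⟨q', hq'⟩), hUV hmem⟩ =
          hV.primeIdealOf ⟨y', hy'V⟩ := by
        apply PrimeSpectrum.ext
        rw [h1.over, primeIdealOf_fromSpec hU ⟨q', hq'⟩]
        exact hq'c
      exact congrArg Subtype.val (primeIdealOf_injective' hV h2)
  · intro b hb
    rw [mem_primeIdealOf_iff hU z hzU b, not_not] at hb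
    have hnhds : f.base '' (X.basicOpen b : Set X) ∈ nhds (f z) :=
      hop _ ((X.basicOpen b).2.mem_nhds hb)
    have hmem : y' ∈ f.base '' (X.basicOpen b : Set X) := mem_of_mem_nhds (hy' hnhds)
    obtain ⟨xb, hxb, hfxb⟩ := hmem
    have hxbU : xb ∈ U := X.basicOpen_le b hxb
    refine ⟨(hU.primeIdealOf ⟨xb, hxbU⟩).asIdeal, inferInstance, ?_, ?_⟩
    · rw [mem_primeIdealOf_iff hU xb hxbU b, not_not]
      exact hxb
    · have h1 := liesOver_chart f hV hU hUV xb hxbU rfl
      have h2 : hV.primeIdealOf ⟨f xb, hUV hxbU⟩ = hV.primeIdealOf ⟨y', hy'V⟩ := by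
        congr 1
        exact Subtype.ext hfxb
      rw [← h2]
      exact h1.over.symm




theorem stalkMap_comap_surjective_of_isOpenAt {X Y : Scheme.{u}} (f : X ⟶ Y) (z : X)
    (hop : EGA43.IsOpenAt f.base z) (𝔭 : Ideal (Y.presheaf.stalk (f z))) (h𝔭 : 𝔭.IsPrime) :
    ∃ q : Ideal (X.presheaf.stalk z), q.IsPrime ∧ q.comap (f.stalkMap z).hom = 𝔭 := by
  have hy' : (Y.fromSpecStalk (f z)) ⟨𝔭, h𝔭⟩ ⤳ f z := by
    have : (Y.fromSpecStalk (f z)) ⟨𝔭, h𝔭⟩ ∈ Set.range (Y.fromSpecStalk (f z)) := ⟨_, rfl⟩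
    rw [Scheme.range_fromSpecStalk] at this
    exact this
  obtain ⟨x', hx'z, hfx'⟩ := exists_generization_of_isOpenAt f z hop _ hy'
  have hx'r : x' ∈ Set.range (X.fromSpecStalk z) := by
    rw [Scheme.range_fromSpecStalk]
    exact hx'z
  obtain ⟨q, rfl⟩ := hx'r
  refine ⟨q.asIdeal, q.isPrime, ?_⟩
  have h1 := congr($(Scheme.SpecMap_stalkMap_fromSpecStalk (f := f) (x := z)) q)
  rw [Scheme.Hom.comp_apply, Scheme.Hom.comp_apply, hfx'] at h1
  have h2 := (Y.fromSpecStalk (f z)).isEmbedding.injective h1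
  exact congrArg PrimeSpectrum.asIdeal h2




theorem stalk_dim_ge_of_max' {X Y : Scheme.{u}} (f : X ⟶ Y) [IsLocallyNoetherian Y] (x : X)
    (hb : ∀ z : X, f z = f x → z ⤳ x → IsMax (⟨z, rfl⟩ : {z' : X // f z' = f z}) →
      ringKrullDim (Y.presheaf.stalk (f z)) ≤ ringKrullDim (X.presheaf.stalk z)) :
    ringKrullDim (Y.presheaf.stalk (f x)) +
      ringKrullDim ((f.fiber (f x)).presheaf.stalk (f.asFiber x)) ≤
      ringKrullDim (X.presheaf.stalk x) := by
  obtain ⟨m, hm⟩ := exists_stalk_dim_nat (Y := Y) (f x)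
  rw [stalk_fiber_dim, hm, AlgebraicGeometry.ringKrullDim_stalk_eq_coheight]
  have key : ∀ p : LTSeries {z : X // f z = f x}, p.head = ⟨x, rfl⟩ →
      (p.length : ℕ∞) + (m : ℕ∞) ≤ Order.coheight x := by
    intro p hp
    -- extend to a maximal point of the fibre
    obtain ⟨z', hz', hmax⟩ := exists_isMax_ge_fib f (f x) p.last
    have hz'f : f z'.1 = f x := z'.2
    have hmax' : IsMax (⟨z'.1, rfl⟩ : {z'' : X // f z'' = f z'.1}) := by
      intro b hb'
      have hbf : f b.1 = f x := b.2.trans hz'f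
      have h1 : z' ≤ (⟨b.1, hbf⟩ : {z : X // f z = f x}) := hb'
      exact hmax h1
    have hz'x : z'.1 ⤳ x := by
      have h1 : p.head ≤ p.last := p.head_le_last
      rw [hp] at h1
      have h2 : (⟨x, rfl⟩ : {z : X // f z = f x}) ≤ z' := h1.trans hz'
      exact h2
    have h1 := hb z'.1 hz'f hz'x hmax'
    have e1 : ∀ a b : Y, a = b →
        ringKrullDim (Y.presheaf.stalk a) = ringKrullDim (Y.presheaf.stalk b) := by
      intro a b h; subst h; rfl
    rw [e1 _ _ hz'f, hm, AlgebraicGeometry.ringKrullDim_stalk_eq_coheight] at h1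
    have hmono : StrictMono (fun z : {z : X // f z = f x} => z.1) := fun _ _ h => h
    have h2 := coheight_add_length_le (p.map _ hmono)
    rw [LTSeries.last_map, LTSeries.head_map, hp, LTSeries.map_length] at h2
    have h3 : Order.coheight z'.1 ≤ Order.coheight p.last.1 := Order.coheight_anti hz'
    have h4 : (m : ℕ∞) ≤ Order.coheight z'.1 := by
      exact_mod_cast h1
    rw [add_comm]
    exact le_trans (add_le_add (h4.trans h3) le_rfl) h2
  have hm0 : (m : ℕ∞) ≤ Order.coheight x := by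
    have := key (RelSeries.singleton _ ⟨x, rfl⟩) rfl
    simpa using this
  have h6 : Order.coheight (⟨x, rfl⟩ : {z : X // f z = f x}) ≤ Order.coheight x - (m : ℕ∞) := by
    rw [Order.coheight_le_iff']
    intro p hp
    exact ENat.le_sub_of_add_le_right (ENat.natCast_ne_top m) (key p hp)
  have h7 : Order.coheight (⟨x, rfl⟩ : {z : X // f z = f x}) + (m : ℕ∞) ≤ Order.coheight x :=
    add_le_of_le_tsub_right_of_le hm0 h6
  have : (((Order.coheight (⟨x, rfl⟩ : {z : X // f z = f x}) + (m : ℕ∞) : ℕ∞)) : WithBot ℕ∞) ≤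
      ((Order.coheight x : ℕ∞) : WithBot ℕ∞) := WithBot.coe_le_coe.mpr h7
  rw [add_comm]
  push_cast at this
  exact this




theorem stalk_dim_le_of_isOpenAt_aux {X Y : Scheme.{u}} [IsLocallyNoetherian X]
    [IsLocallyNoetherian Y] (f : X ⟶ Y) (y : Y) (x' : f.fiber y)
    (h0 : ringKrullDim ((f.fiber y).presheaf.stalk x') = 0)
    (hop : EGA43.IsOpenAt f.base (f.fiberι y x')) :
    ringKrullDim (Y.presheaf.stalk (f (f.fiberι y x'))) ≤
      ringKrullDim (X.presheaf.stalk (f.fiberι y x')) := by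
  obtain ⟨n, hn⟩ := exists_stalk_dim_nat (Y := Y) (f (f.fiberι y x'))
  rw [hn]
  refine dim_le_of_surj_spec n _ _ (f.stalkMap (f.fiberι y x')).hom
    (stalkMap_comap_surjective_of_isOpenAt f _ hop) ?_ hn
  have hσ := (f.fiberι y).stalkMap_surjective x'
  have hker := Groth.Agent.Lib.Helper4.FibreStalkDim1.ker_stalkMap_fiberι_le f y x'
  rw [← h0, ← ringKrullDim_eq_of_ringEquiv (RingHom.quotientKerEquivOfSurjective hσ)]
  exact ringKrullDim_le_of_surjective (Ideal.Quotient.factor hker)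
    (Ideal.Quotient.factor_surjective hker)

theorem stalk_dim_le_of_isOpenAt {X Y : Scheme.{u}} [IsLocallyNoetherian X]
    [IsLocallyNoetherian Y] (f : X ⟶ Y) (z : X)
    (hmax : IsMax (⟨z, rfl⟩ : {z' : X // f z' = f z})) (hop : EGA43.IsOpenAt f.base z) :
    ringKrullDim (Y.presheaf.stalk (f z)) ≤ ringKrullDim (X.presheaf.stalk z) := by
  have h0 := (stalk_fiber_dim_eq_zero_iff f z).mpr hmax
  have hz : f.fiberι (f z) (f.asFiber z) = z := f.fiberι_asFiber z
  have key : ∀ z' : X, z' = z → EGA43.IsOpenAt f.base z' →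
      ringKrullDim (Y.presheaf.stalk (f z')) ≤ ringKrullDim (X.presheaf.stalk z') →
      ringKrullDim (Y.presheaf.stalk (f z)) ≤ ringKrullDim (X.presheaf.stalk z) := by
    rintro z' rfl _ h
    exact h
  have hop' : EGA43.IsOpenAt f.base (f.fiberι (f z) (f.asFiber z)) := by
    rw [hz]
    exact hop
  exact key _ hz hop' (stalk_dim_le_of_isOpenAt_aux f (f z) (f.asFiber z) h0 hop')




theorem dim_stalk_le' {X Y : Scheme.{u}} (f : X ⟶ Y) [IsLocallyNoetherian Y]
    [IsLocallyNoetherian X] (x : X) :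
    ringKrullDim (X.presheaf.stalk x) ≤
      ringKrullDim (Y.presheaf.stalk (f.base x)) +
        ringKrullDim ((f.fiber (f.base x)).presheaf.stalk (f.asFiber x)) := by
  have key := Groth.Agent.Lib.Helper4.FibreStalkDim1.dim_le_of_local
    (f.stalkMap (f.fiberι (f x) (f.asFiber x))).hom
    ((f.fiberι (f x)).stalkMap (f.asFiber x)).hom
    ((f.fiberι (f x)).stalkMap_surjective (f.asFiber x))
    (Groth.Agent.Lib.Helper4.FibreStalkDim1.ker_stalkMap_fiberι_le f (f x) (f.asFiber x))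
  have hx : f.fiberι (f x) (f.asFiber x) = x := f.fiberι_asFiber x
  have e1 : ∀ a b : X, a = b →
      ringKrullDim (X.presheaf.stalk a) = ringKrullDim (X.presheaf.stalk b) := by
    rintro a _ rfl; rfl
  have e2 : ∀ a b : X, a = b →
      ringKrullDim (Y.presheaf.stalk (f a)) = ringKrullDim (Y.presheaf.stalk (f b)) := by
    rintro a _ rfl; rfl
  rw [e1 _ _ hx, e2 _ _ hx] at key
  exact key

theorem S2559_main {X Y : Scheme.{u}} [IsLocallyNoetherian X] [IsLocallyNoetherian Y]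
    (f : X ⟶ Y) (x : X)
    (h : ∀ z : ↥(f.fiber (f.base x)), f.asFiber x ∈ closure {z} →
      (∀ z' : ↥(f.fiber (f.base x)), z ∈ closure {z'} → z' = z) →
      EGA43.IsOpenAt f.base ((f.fiberι (f.base x)).base z)) :
    ringKrullDim (X.presheaf.stalk x) =
      ringKrullDim (Y.presheaf.stalk (f.base x)) +
        ringKrullDim ((f.fiber (f.base x)).presheaf.stalk (f.asFiber x)) := by
  apply le_antisymm (dim_stalk_le' f x)
  apply stalk_dim_ge_of_max' f x
  intro z hfz hzx hmax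
  apply stalk_dim_le_of_isOpenAt f z hmax
  -- the point of the fibre corresponding to z
  have hι : f.fiberι (f x) ((fibOrderIso f (f x)).symm ⟨z, hfz⟩) = z :=
    congrArg Subtype.val ((fibOrderIso f (f x)).apply_symm_apply ⟨z, hfz⟩)
  have hop := h ((fibOrderIso f (f x)).symm ⟨z, hfz⟩) ?_ ?_
  · have hop' : EGA43.IsOpenAt f.base (f.fiberι (f x) ((fibOrderIso f (f x)).symm ⟨z, hfz⟩)) := hop
    rw [hι] at hop'
    exact hop'
  · rw [← specializes_iff_mem_closure]
    have : f.asFiber x ≤ (fibOrderIso f (f x)).symm ⟨z, hfz⟩ := by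
      rw [← fiberι_le_iff f (f x), hι, f.fiberι_asFiber x]
      exact hzx
    exact this
  · intro z' hz'
    rw [← specializes_iff_mem_closure] at hz'
    have h1 : (fibOrderIso f (f x)).symm ⟨z, hfz⟩ ≤ z' := hz'
    rw [← fiberι_le_iff f (f x), hι] at h1
    have hfz' : f (f.fiberι (f x) z') = f z := (fiberι_mem f (f x) z').trans hfz.symm
    have h2 : (⟨z, rfl⟩ : {z'' : X // f z'' = f z}) ≤ ⟨f.fiberι (f x) z', hfz'⟩ := h1
    have h3 := hmax h2
    have h4 : f.fiberι (f x) z' ≤ z := h3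
    have h5 : f.fiberι (f x) z' = z := (Specializes.antisymm h1 h4).eq
    apply (f.fiberι (f x)).isEmbedding.injective
    rw [h5, hι]


end Groth.Agent.Lib.Helper4.OpenAt1
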