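import Mathlib
import Groth.Prelude.Def_Cyc
import Groth.Prelude.Def_EGA43
import Groth.Agent.Lib.Helper4.JacDim1
import Groth.Agent.Lib.Helper4.FibreStalkDim1
import Groth.Agent.Lib.Helper4.DimFT1
import Groth.Agent.Lib.Helper4.DimFT2
import Groth.Agent.Lib.Helper4.OpenAt1
import Groth.Agent.Lib.Helper4.Chev1

/-!
# Chevalley semicontinuity of fibre dimension on the source (helper4)
-/

set_option backward.isDefEq.respectTransparency.types false
set_option synthInstance.maxHeartbeats 400000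
set_option autoImplicit false
set_option linter.unusedSectionVars false
set_option linter.style.haveILetI false
set_option linter.unusedSimpArgs false
universe u v w
open CategoryTheory CategoryTheory.Limits AlgebraicGeometry TopologicalSpace IsLocalRing Opposite
open Cardinal
open Groth.Agent.Lib.Helper4.DimIneq1 Groth.Agent.Lib.Helper4.DimFT2 Groth.Agent.Lib.Helper4.Catenary1
open Groth.Agent.Lib.Helper4.DimEq1 Groth.Agent.Lib.Helper4.DimIneq2 Groth.Agent.Lib.Helper4.DimEq2
open Groth.Agent.Lib.Helper4.DimIneq3 Groth.Agent.Lib.Helper4.DimIneq4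
open Groth.Agent.Lib.Helper4.NormFibre2 Groth.Agent.Lib.Helper4.RadBir3 Groth.Agent.Lib.Helper4.DimFT3
open Groth.Agent.Lib.Helper4.FibDim1 Groth.Agent.Lib.Helper4.FibDim2 Groth.Agent.Lib.Helper4.LocUC1
open Groth.Agent.Lib.Helper4.FibDim3 Groth.Agent.Lib.Helper4.FibDim4 Groth.Agent.Lib.Helper4.FibDim5
open Groth.Agent.Lib.Helper4.FibDim6 Groth.Agent.Lib.Helper4.FibDim7 Groth.Agent.Lib.Helper4.JacDim1
open Groth.Agent.Lib.Helper4.DimFT1
open Groth.Agent.Lib.Helper4.Chev1

namespace Groth.Agent.Lib.Helper4.Chev2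


/-- local dimension is invariant under open embeddings -/
theorem localDim_openEmbedding {α β : Type*} [TopologicalSpace α] [TopologicalSpace β]
    (j : α → β) (hj : Topology.IsOpenEmbedding j) (a : α) :
    FlatMor.localDim α a = FlatMor.localDim β (j a) := by
  unfold FlatMor.localDim
  apply le_antisymm
  · refine le_iInf fun W => ?_
    let W' : Opens α := ⟨j ⁻¹' W.1.1, W.1.2.preimage hj.continuous⟩
    have hmem : a ∈ W' := W.2
    refine (iInf_le _ (⟨W', hmem⟩ : {W : Opens α // a ∈ W})).trans ?_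
    let g : ↥(W' : Set α) → ↥(W.1 : Set β) := fun x => ⟨j x.1, x.2⟩
    have hg : Topology.IsInducing g := by
      have h1 : Topology.IsInducing (Subtype.val ∘ g) :=
        hj.isInducing.comp Topology.IsInducing.subtypeVal
      exact Topology.IsInducing.of_comp (hj.continuous.comp continuous_subtype_val |>.subtype_mk _)
        continuous_subtype_val h1
    exact hg.topologicalKrullDim_le
  · refine le_iInf fun W' => ?_
    let W : Opens β := ⟨j '' W'.1.1, hj.isOpenMap _ W'.1.2⟩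
    have hmem : j a ∈ W := ⟨a, W'.2, rfl⟩
    refine (iInf_le _ (⟨W, hmem⟩ : {W : Opens β // j a ∈ W})).trans ?_
    let g : ↥(W'.1 : Set α) → ↥(W : Set β) := fun x => ⟨j x.1, ⟨x.1, x.2, rfl⟩⟩
    have hgi : Topology.IsInducing g := by
      have h1 : Topology.IsInducing (Subtype.val ∘ g) :=
        hj.isInducing.comp Topology.IsInducing.subtypeVal
      exact Topology.IsInducing.of_comp (hj.continuous.comp continuous_subtype_val |>.subtype_mk _)
        continuous_subtype_val h1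
    have hgb : Function.Bijective g := by
      constructor
      · intro x y h
        exact Subtype.ext (hj.injective (congrArg Subtype.val h))
      · rintro ⟨_, x, hx, rfl⟩
        exact ⟨⟨x, hx⟩, rfl⟩
    have hgh : IsHomeomorph g := by
      rw [isHomeomorph_iff_isEmbedding_surjective]
      exact ⟨⟨hgi, hgb.1⟩, hgb.2⟩
    exact (IsHomeomorph.topologicalKrullDim_eq g hgh).symm.le

theorem localDim_homeomorph {α β : Type*} [TopologicalSpace α] [TopologicalSpace β]
    (j : α ≃ₜ β) (a : α) :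
    FlatMor.localDim α a = FlatMor.localDim β (j a) :=
  localDim_openEmbedding j j.isOpenEmbedding a




/-- the local dimension of the fibre through `x` computed on affine charts by the fibre ring -/
theorem fibreDimAt_eq_localDim_fiberRing {X S : Scheme.{u}} (f : X ⟶ S) (x : X)
    {U : X.Opens} (hU : IsAffineOpen U) {V : S.Opens} (hV : IsAffineOpen V) (e : U ≤ f ⁻¹ᵁ V)
    (hx : x ∈ U) :
    letI := (f.appLE V U e).hom.toAlgebra
    ∀ Q : PrimeSpectrum ((hV.primeIdealOf ⟨f x, e hx⟩).asIdeal.Fiber Γ(X, U)),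
      Q.asIdeal.comap Algebra.TensorProduct.includeRight.toRingHom =
        (hU.primeIdealOf ⟨x, hx⟩).asIdeal →
      FlatMor.fibreDimAt f x =
        FlatMor.localDim (PrimeSpectrum ((hV.primeIdealOf ⟨f x, e hx⟩).asIdeal.Fiber Γ(X, U))) Q := by
  letI alg := (f.appLE V U e).hom.toAlgebra
  intro Q hQ
  -- step 1: pass to the topological fibre
  have h1 : FlatMor.fibreDimAt f x = FlatMor.localDim (f ⁻¹' {f x}) ⟨x, rfl⟩ := by
    unfold FlatMor.fibreDimAt
    rw [localDim_homeomorph (f.fiberHomeo (f x)) (f.asFiber x)]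
    congr 1
    exact (f.fiberHomeo (f x)).apply_symm_apply _
  rw [h1]
  -- the set equality
  have hset : PrimeSpectrum.comap (algebraMap Γ(S, V) Γ(X, U)) ⁻¹' {hV.primeIdealOf ⟨f x, e hx⟩} =
      hU.fromSpec ⁻¹' (f ⁻¹' {f x}) := by
    ext q'
    change PrimeSpectrum.comap (algebraMap Γ(S, V) Γ(X, U)) q' = hV.primeIdealOf ⟨f x, e hx⟩ ↔
      f (hU.fromSpec q') = f x
    have hcomm := IsAffineOpen.SpecMap_appLE_fromSpec f hV hU e
    have h2 : f (hU.fromSpec q') = hV.fromSpec (Spec.map (f.appLE V U e) q') := by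
      rw [← Scheme.Hom.comp_apply, ← Scheme.Hom.comp_apply, hcomm]
    have h3 : f x = hV.fromSpec (hV.primeIdealOf ⟨f x, e hx⟩) :=
      (hV.fromSpec_primeIdealOf ⟨f x, e hx⟩).symm
    rw [h2]
    constructor
    · intro h
      rw [h3]
      exact congrArg _ h
    · intro h
      rw [h3] at h
      exact hV.fromSpec.isOpenEmbedding.injective h
  let Ψ₁ := (PrimeSpectrum.preimageHomeomorphFiber Γ(S, V) Γ(X, U)
    (hV.primeIdealOf ⟨f x, e hx⟩)).symm
  let Ψ₂ := Homeomorph.setCongr hset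
  let Ψ₃ := (f ⁻¹' {f x}).restrictPreimage hU.fromSpec
  have hΨ₃ : Topology.IsOpenEmbedding Ψ₃ :=
    Topology.IsOpenEmbedding.restrictPreimage _ hU.fromSpec.isOpenEmbedding
  have hΨ : Topology.IsOpenEmbedding (Ψ₃ ∘ Ψ₂ ∘ Ψ₁) :=
    hΨ₃.comp (Ψ₂.isOpenEmbedding.comp Ψ₁.isOpenEmbedding)
  rw [localDim_openEmbedding _ hΨ Q]
  congr 1
  apply Subtype.ext
  symm
  change hU.fromSpec (Ψ₁ Q).1 = x
  have h4 : (Ψ₁ Q).1 = hU.primeIdealOf ⟨x, hx⟩ := by
    apply PrimeSpectrum.ext
    exact hQ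
  rw [h4]
  exact hU.fromSpec_primeIdealOf ⟨x, hx⟩




open TensorProduct

/-- quasi-finite over a polynomial ring in `d` variables: all fibre rings have dimension `≤ d` -/
theorem ringKrullDim_fiber_le_of_quasiFinite (R S' : Type u) [CommRing R] [CommRing S']
    [Algebra R S'] (d : ℕ) (φ : MvPolynomial (Fin d) R →ₐ[R] S') (hφ : φ.toRingHom.QuasiFinite)
    (p' : Ideal R) [p'.IsPrime] :
    ringKrullDim (p'.Fiber S') ≤ (d : WithBot ℕ∞) := by
  letI alg : Algebra (MvPolynomial (Fin d) R) S' := φ.toRingHom.toAlgebra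
  haveI qf : Algebra.QuasiFinite (MvPolynomial (Fin d) R) S' := hφ
  have hdimT : ringKrullDim (p'.ResidueField ⊗[R] MvPolynomial (Fin d) R) = (d : WithBot ℕ∞) := by
    rw [ringKrullDim_eq_of_ringEquiv
      (MvPolynomial.algebraTensorAlgEquiv (σ := Fin d) R p'.ResidueField).toRingEquiv,
      MvPolynomial.ringKrullDim_of_isNoetherianRing, ringKrullDim_eq_zero_of_field, zero_add,
      Nat.card_fin]
  rw [← hdimT, ← PrimeSpectrum.topologicalKrullDim_eq_ringKrullDim,
    ← PrimeSpectrum.topologicalKrullDim_eq_ringKrullDim]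
  let Φ : p'.ResidueField ⊗[R] MvPolynomial (Fin d) R →ₐ[R] p'.ResidueField ⊗[R] S' :=
    Algebra.TensorProduct.map (AlgHom.id R p'.ResidueField) φ
  apply Groth.Agent.Lib.Helper4.LocalDimEtale1.topologicalKrullDim_le_of_strict
    (PrimeSpectrum.comap Φ.toRingHom) (PrimeSpectrum.continuous_comap _)
  intro P P' hsp hg
  rw [← PrimeSpectrum.le_iff_specializes] at hsp
  -- the contractions to `S'`
  let e := PrimeSpectrum.preimageEquivFiber R S' ⟨p', inferInstance⟩
  apply e.symm.injective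
  apply Subtype.ext
  change PrimeSpectrum.comap (Algebra.TensorProduct.includeRight : S' →ₐ[R] _).toRingHom P =
    PrimeSpectrum.comap (Algebra.TensorProduct.includeRight : S' →ₐ[R] _).toRingHom P'
  set 𝔮 := PrimeSpectrum.comap (Algebra.TensorProduct.includeRight :
    S' →ₐ[R] p'.ResidueField ⊗[R] S').toRingHom P with h𝔮
  set 𝔮' := PrimeSpectrum.comap (Algebra.TensorProduct.includeRight :
    S' →ₐ[R] p'.ResidueField ⊗[R] S').toRingHom P' with h𝔮'
  have hle : 𝔮 ≤ 𝔮' := fun s hs => hsp hs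
  have hcomm : Φ.toRingHom.comp (Algebra.TensorProduct.includeRight :
      MvPolynomial (Fin d) R →ₐ[R] p'.ResidueField ⊗[R] MvPolynomial (Fin d) R).toRingHom =
      (Algebra.TensorProduct.includeRight : S' →ₐ[R] p'.ResidueField ⊗[R] S').toRingHom.comp
        (algebraMap (MvPolynomial (Fin d) R) S') := by
    refine RingHom.ext fun x => ?_
    change Φ ((1 : p'.ResidueField) ⊗ₜ[R] x) = (1 : p'.ResidueField) ⊗ₜ[R] (φ x)
    rw [Algebra.TensorProduct.map_tmul]
    rfl
  have hsame : PrimeSpectrum.comap (algebraMap (MvPolynomial (Fin d) R) S') 𝔮 =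
      PrimeSpectrum.comap (algebraMap (MvPolynomial (Fin d) R) S') 𝔮' := by
    rw [h𝔮, h𝔮', ← PrimeSpectrum.comap_comp_apply, ← PrimeSpectrum.comap_comp_apply, ← hcomm,
      PrimeSpectrum.comap_comp_apply, PrimeSpectrum.comap_comp_apply, hg]
  have hd := (Algebra.QuasiFinite.isDiscrete_comap_preimage_singleton (R := MvPolynomial (Fin d) R)
    (S := S') (PrimeSpectrum.comap (algebraMap (MvPolynomial (Fin d) R) S') 𝔮')).to_subtype
  let a : PrimeSpectrum.comap (algebraMap (MvPolynomial (Fin d) R) S') ⁻¹'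
    {PrimeSpectrum.comap (algebraMap (MvPolynomial (Fin d) R) S') 𝔮'} := ⟨𝔮, hsame⟩
  let a' : PrimeSpectrum.comap (algebraMap (MvPolynomial (Fin d) R) S') ⁻¹'
    {PrimeSpectrum.comap (algebraMap (MvPolynomial (Fin d) R) S') 𝔮'} := ⟨𝔮', rfl⟩
  have hsp' : a ⤳ a' := by
    rw [← Topology.IsInducing.subtypeVal.specializes_iff, ← PrimeSpectrum.le_iff_specializes]
    exact hle
  exact congrArg Subtype.val hsp'.eq




open TensorProduct

theorem localDim_le_topologicalKrullDim {α : Type*} [TopologicalSpace α] (a : α) :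
    FlatMor.localDim α a ≤ topologicalKrullDim α := by
  unfold FlatMor.localDim
  refine (iInf_le _ (⟨⊤, trivial⟩ : {W : Opens α // a ∈ W})).trans ?_
  exact topologicalKrullDim_subspace_le α _

/-- the local dimension of the spectrum of a finite type algebra over a field is a natural number -/
theorem exists_nat_localDim_eq (k : Type u) [Field k] (C : Type u) [CommRing C] [Algebra k C]
    [Algebra.FiniteType k C] (Q : PrimeSpectrum C) :
    ∃ d : ℕ, FlatMor.localDim (PrimeSpectrum C) Q = (d : WithBot ℕ∞) := by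
  obtain ⟨c, hc, h⟩ := exists_away_dim_eq_localDim k C Q
  haveI : Nontrivial (Localization.Away c) := by
    rw [← not_subsingleton_iff_nontrivial,
      IsLocalization.subsingleton_iff (M := Submonoid.powers c)]
    rintro ⟨m, hm⟩
    apply hc
    have h0 : c ^ m ∈ Q.asIdeal := by
      change (fun x => c ^ x) m = 0 at hm
      simp only at hm
      rw [hm]
      exact Q.asIdeal.zero_mem
    exact Q.isPrime.mem_of_pow_mem m h0
  haveI : Algebra.FiniteType k (Localization.Away c) :=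
    Algebra.FiniteType.trans (inferInstanceAs (Algebra.FiniteType k C))
      (IsLocalization.finiteType_of_monoid_fg (Submonoid.powers c) _)
  obtain ⟨s, -, -, -, -, hs⟩ := exists_noether'' k (Localization.Away c)
  exact ⟨s, by rw [← h (Localization.Away c), hs]⟩




open TensorProduct

/-- existence of a point of the fibre ring over a given prime -/
theorem exists_fiber_point {X S : Scheme.{u}} (f : X ⟶ S) (x : X)
    {U : X.Opens} (hU : IsAffineOpen U) {V : S.Opens} (hV : IsAffineOpen V) (e : U ≤ f ⁻¹ᵁ V)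
    (hx : x ∈ U) :
    letI := (f.appLE V U e).hom.toAlgebra
    ∃ Q : PrimeSpectrum ((hV.primeIdealOf ⟨f x, e hx⟩).asIdeal.Fiber Γ(X, U)),
      Q.asIdeal.comap Algebra.TensorProduct.includeRight.toRingHom =
        (hU.primeIdealOf ⟨x, hx⟩).asIdeal := by
  letI alg := (f.appLE V U e).hom.toAlgebra
  have hqp : (hU.primeIdealOf ⟨x, hx⟩).comap (algebraMap Γ(S, V) Γ(X, U)) =
      hV.primeIdealOf ⟨f x, e hx⟩ := IsAffineOpen.comap_primeIdealOf_appLE V hV U hU e hx
  let E := PrimeSpectrum.preimageEquivFiber Γ(S, V) Γ(X, U) (hV.primeIdealOf ⟨f x, e hx⟩)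
  refine ⟨E ⟨hU.primeIdealOf ⟨x, hx⟩, hqp⟩, ?_⟩
  have := E.symm_apply_apply ⟨hU.primeIdealOf ⟨x, hx⟩, hqp⟩
  exact congrArg (fun z => z.1.asIdeal) this




open TensorProduct

/-- on an affine chart quasi-finite over `𝔸^d`, all fibre local dimensions are `≤ d` -/
theorem fibreDimAt_le_of_quasiFinite_chart {X S : Scheme.{u}} (f : X ⟶ S) (x' : X)
    {U : X.Opens} (hU : IsAffineOpen U) {V : S.Opens} (hV : IsAffineOpen V) (e : U ≤ f ⁻¹ᵁ V)
    (hx' : x' ∈ U) (d : ℕ) :
    letI := (f.appLE V U e).hom.toAlgebra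
    ∀ (ψ : MvPolynomial (Fin d) Γ(S, V) →ₐ[Γ(S, V)] Γ(X, U)), ψ.toRingHom.QuasiFinite →
      FlatMor.fibreDimAt f x' ≤ (d : WithBot ℕ∞) := by
  letI alg := (f.appLE V U e).hom.toAlgebra
  intro ψ hψ
  obtain ⟨Q', hQ'⟩ := exists_fiber_point f x' hU hV e hx'
  rw [fibreDimAt_eq_localDim_fiberRing f x' hU hV e hx' Q' hQ']
  refine (localDim_le_topologicalKrullDim Q').trans ?_
  rw [PrimeSpectrum.topologicalKrullDim_eq_ringKrullDim]
  exact ringKrullDim_fiber_le_of_quasiFinite Γ(S, V) Γ(X, U) d ψ hψ _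




open TensorProduct

/-- Chevalley: near a point where the fibre has local dimension `d`, a chart quasi-finite over
`𝔸^d`. -/
theorem exists_quasiFinite_chart {X S : Scheme.{u}} (f : X ⟶ S) [LocallyOfFiniteType f] (x : X)
    {V : S.Opens} (hV : IsAffineOpen V) (hxV : f x ∈ V) :
    ∃ d : ℕ, FlatMor.fibreDimAt f x = (d : WithBot ℕ∞) ∧
      ∃ (U : X.Opens) (hU : IsAffineOpen U) (e : U ≤ f ⁻¹ᵁ V), x ∈ U ∧
        letI := (f.appLE V U e).hom.toAlgebra
        ∃ ψ : MvPolynomial (Fin d) Γ(S, V) →ₐ[Γ(S, V)] Γ(X, U),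
          ψ.toRingHom.FiniteType ∧ ψ.toRingHom.QuasiFinite := by
  obtain ⟨U, hU, hx, e⟩ := exists_isAffineOpen_mem_and_subset (U := f ⁻¹ᵁ V) (x := x) hxV
  letI alg := (f.appLE V U e).hom.toAlgebra
  haveI ft : Algebra.FiniteType Γ(S, V) Γ(X, U) :=
    LocallyOfFiniteType.finiteType_appLE f hV hU e
  have hqp : (hU.primeIdealOf ⟨x, hx⟩).comap (algebraMap Γ(S, V) Γ(X, U)) =
      hV.primeIdealOf ⟨f x, e hx⟩ := IsAffineOpen.comap_primeIdealOf_appLE V hV U hU e hx
  haveI lo : (hU.primeIdealOf ⟨x, hx⟩).asIdeal.LiesOver (hV.primeIdealOf ⟨f x, e hx⟩).asIdeal :=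
    ⟨congrArg PrimeSpectrum.asIdeal hqp.symm⟩
  obtain ⟨Q, hQ⟩ := exists_fiber_point f x hU hV e hx
  obtain ⟨d, hd⟩ := exists_nat_localDim_eq (hV.primeIdealOf ⟨f x, e hx⟩).asIdeal.ResidueField
    ((hV.primeIdealOf ⟨f x, e hx⟩).asIdeal.Fiber Γ(X, U)) Q
  have hlink := fibreDimAt_eq_localDim_fiberRing f x hU hV e hx Q hQ
  refine ⟨d, hlink.trans hd, ?_⟩
  obtain ⟨g, hg, φ, hφft, hφqf⟩ := S9175_main Γ(S, V) Γ(X, U)
    (hV.primeIdealOf ⟨f x, e hx⟩).asIdeal (hU.primeIdealOf ⟨x, hx⟩).asIdeal Q hQ d hd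
  have e' : X.basicOpen g ≤ f ⁻¹ᵁ V := (X.basicOpen_le g).trans e
  have hxg : x ∈ X.basicOpen g := by
    by_contra h
    exact hg ((Groth.Agent.Lib.Helper4.OpenAt1.mem_primeIdealOf_iff hU x hx g).mpr h)
  refine ⟨X.basicOpen g, hU.basicOpen g, e', hxg, ?_⟩
  letI alg' := (f.appLE V (X.basicOpen g) e').hom.toAlgebra
  haveI hloc : IsLocalization.Away g Γ(X, X.basicOpen g) := hU.isLocalization_basicOpen g
  haveI tow : IsScalarTower Γ(S, V) Γ(X, U) Γ(X, X.basicOpen g) := by
    apply IsScalarTower.of_algebraMap_eq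
    intro r
    have := Scheme.Hom.appLE_map f e (homOfLE (X.basicOpen_le g)).op
    exact (congrArg (fun (h : Γ(S, V) ⟶ Γ(X, X.basicOpen g)) => h.hom r) this).symm
  let iso : Localization.Away g ≃ₐ[Γ(X, U)] Γ(X, X.basicOpen g) :=
    IsLocalization.algEquiv (Submonoid.powers g) _ _
  let ψ : MvPolynomial (Fin d) Γ(S, V) →ₐ[Γ(S, V)] Γ(X, X.basicOpen g) :=
    (iso.restrictScalars Γ(S, V)).toAlgHom.comp φ
  have hψ : ψ.toRingHom = iso.toRingEquiv.toRingHom.comp φ.toRingHom := by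
    ext x <;> rfl
  refine ⟨ψ, ?_, ?_⟩
  · rw [hψ]
    exact RingHom.FiniteType.comp (RingHom.FiniteType.of_surjective _ iso.surjective) hφft
  · rw [hψ]
    exact RingHom.QuasiFinite.comp (RingHom.QuasiFinite.of_finite
      (RingHom.Finite.of_surjective _ iso.surjective)) hφqf




open TensorProduct

/-- Chevalley's upper semicontinuity, pointwise form -/
theorem exists_open_fibreDimAt_le {X S : Scheme.{u}} (f : X ⟶ S) [LocallyOfFiniteType f] (x : X) :
    ∃ d : ℕ, FlatMor.fibreDimAt f x = (d : WithBot ℕ∞) ∧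
      ∃ O : X.Opens, x ∈ O ∧ ∀ x' ∈ O, FlatMor.fibreDimAt f x' ≤ (d : WithBot ℕ∞) := by
  obtain ⟨V, hV, hxV, -⟩ := exists_isAffineOpen_mem_and_subset (U := (⊤ : S.Opens)) (x := f x)
    trivial
  obtain ⟨d, hd, U, hU, e, hxU, ψ, -, hψ⟩ := exists_quasiFinite_chart f x hV hxV
  refine ⟨d, hd, U, hxU, ?_⟩
  intro x' hx'
  exact fibreDimAt_le_of_quasiFinite_chart f x' hU hV e hx' d ψ hψ

theorem S0402_main {X S : Scheme.{u}} (f : X ⟶ S) [LocallyOfFiniteType f] (n : ℕ) :
    IsOpen {x : X | FlatMor.fibreDimAt f x ≤ n} := by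
  rw [isOpen_iff_forall_mem_open]
  intro x hx
  obtain ⟨d, hd, O, hxO, hO⟩ := exists_open_fibreDimAt_le f x
  refine ⟨O, ?_, O.2, hxO⟩
  intro x' hx'
  have hdn : (d : WithBot ℕ∞) ≤ n := hd ▸ hx
  exact (hO x' hx').trans hdn


end Groth.Agent.Lib.Helper4.Chev2
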