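import Mathlib
import Groth.Prelude.Def_Flat
import Groth.Prelude.Def_CurvBase
import Groth.Agent.Lib.Helper4.DimFT1
import Groth.Agent.Lib.Helper4.DimFT2
import Groth.Agent.Lib.Helper4.DimFT3
import Groth.Agent.Lib.Helper4.RadBir3

/-!
# Dimension theory of schemes locally of finite type over a field (helper4)
-/

set_option backward.isDefEq.respectTransparency.types false
set_option synthInstance.maxHeartbeats 400000
set_option autoImplicit false
set_option linter.unusedSectionVars false
set_option linter.style.haveILetI false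
set_option linter.unusedSimpArgs false
universe u v w
open CategoryTheory CategoryTheory.Limits AlgebraicGeometry TopologicalSpace IsLocalRing Opposite
open Groth.Agent.Lib.Helper4.DimFT1 Groth.Agent.Lib.Helper4.DimFT2 Groth.Agent.Lib.Helper4.DimFT3
open Groth.Agent.Lib.Helper4.NormFibre2 Groth.Agent.Lib.Helper4.RadBir3

namespace Groth.Agent.Lib.Helper4.DimFT4

attribute [local instance] Curv2.stalkAlgebra Curv2.resAlgebra

section LocalDim

variable (k : Type u) [Field k] (X : Scheme.{u}) [X.Over (Spec (CommRingCat.of k))]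
  [LocallyOfFiniteType (X ↘ (Spec (CommRingCat.of k)))]

include k in
/-- the local dimension on an affine chart -/
theorem localDim_eq_chart {U : X.Opens} (hU : IsAffineOpen U) (x : X) (hx : x ∈ U) :
    FlatMor.localDim X x = ((hU.primeIdealOf ⟨x, hx⟩).asIdeal.height : WithBot ℕ∞) +
      ringKrullDim (Γ(X, U) ⧸ (hU.primeIdealOf ⟨x, hx⟩).asIdeal) := by
  letI := secAlgebra k X U
  haveI := finiteType_sections k X hU
  rw [localDim_eq_spec hU x hx]
  exact localDim_spec_eq (k := k) (hU.primeIdealOf ⟨x, hx⟩).asIdeal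

/-- the dimension of the quotient by the prime of a point is the transcendence degree of its
residue field -/
theorem exists_dim_quotient_eq_trdeg {U : X.Opens} (hU : IsAffineOpen U) (x : X) (hx : x ∈ U) :
    ∃ n : ℕ, Algebra.trdeg k (X.residueField x) = n ∧
      ringKrullDim (Γ(X, U) ⧸ (hU.primeIdealOf ⟨x, hx⟩).asIdeal) = n := by
  letI := secAlgebra k X U
  haveI := finiteType_sections k X hU
  haveI : Algebra.FiniteType k (Γ(X, U) ⧸ (hU.primeIdealOf ⟨x, hx⟩).asIdeal) :=
    Algebra.FiniteType.of_surjective (Ideal.Quotient.mkₐ k _) (Ideal.Quotient.mkₐ_surjective k _)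
  obtain ⟨n, h1, h2⟩ := exists_dim_eq_trdeg k (Γ(X, U) ⧸ (hU.primeIdealOf ⟨x, hx⟩).asIdeal)
  refine ⟨n, ?_, h2⟩
  rw [← h1]
  exact trdeg_residueField_eq k X hU x hx

theorem S1621_main (x : X) (a b : ℕ)
    (ha : Algebra.trdeg k (X.residueField x) = a) (hb : ringKrullDim (X.presheaf.stalk x) = b) :
    FlatMor.localDim X x = (a + b : ℕ) := by
  obtain ⟨U, hU, hx, -⟩ := exists_isAffineOpen_mem_and_subset (U := (⊤ : X.Opens)) (x := x)
    (by simp)
  obtain ⟨n, h1, h2⟩ := exists_dim_quotient_eq_trdeg k X hU x hx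
  rw [localDim_eq_chart k X hU x hx, h2, ← ringKrullDim_stalk_eq_height hU x hx, hb]
  have : n = a := by
    rw [h1] at ha
    exact_mod_cast ha
  rw [this]
  push_cast
  exact add_comm _ _

include k in
theorem S1617_main (x : X) (hx : IsClosed ({x} : Set X)) :
    FlatMor.localDim X x = ringKrullDim (X.presheaf.stalk x) := by
  obtain ⟨U, hU, hxU, -⟩ := exists_isAffineOpen_mem_and_subset (U := (⊤ : X.Opens)) (x := x)
    (by simp)
  rw [localDim_eq_chart k X hU x hxU, ← ringKrullDim_stalk_eq_height hU x hxU]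
  haveI := hU.primeIdealOf_isMaximal_of_isClosed ⟨x, hxU⟩ hx
  letI := Ideal.Quotient.field (hU.primeIdealOf ⟨x, hxU⟩).asIdeal
  rw [ringKrullDim_eq_zero_of_field, add_zero]

end LocalDim




section OpenCover

theorem topologicalKrullDim_le_of_forall_open {X : Type*} [TopologicalSpace X] (B : WithBot ℕ∞)
    (h : ∀ x : X, ∃ U : Set X, IsOpen U ∧ x ∈ U ∧ topologicalKrullDim ↥U ≤ B) :
    topologicalKrullDim X ≤ B := by
  unfold topologicalKrullDim Order.krullDim
  apply iSup_le
  intro l
  obtain ⟨x, hx⟩ := l.head.isIrreducible.nonempty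
  obtain ⟨U, hUo, hxU, hUB⟩ := h x
  let e := TopologicalSpace.IrreducibleCloseds.orderIsoOfIsOpenEmbedding (Subtype.val : U → X)
    hUo.isOpenEmbedding_subtypeVal
  have hmem : ∀ i, l i ∈ {V : IrreducibleCloseds X | ((Subtype.val : U → X) ⁻¹' V).Nonempty} := by
    intro i
    refine ⟨⟨x, hxU⟩, ?_⟩
    exact (l.head_le i) hx
  let l' : LTSeries {V : IrreducibleCloseds X | ((Subtype.val : U → X) ⁻¹' V).Nonempty} :=
    LTSeries.mk l.length (fun i => ⟨l i, hmem i⟩) (fun i j hij => l.strictMono hij)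
  let l'' : LTSeries (IrreducibleCloseds U) := l'.map e.symm e.symm.strictMono
  have h1 : (l''.length : WithBot ℕ∞) ≤ topologicalKrullDim ↥U :=
    Order.LTSeries.length_le_krullDim l''
  exact le_trans h1 hUB

end OpenCover

section Irreducible

variable (k : Type u) [Field k] (X : Scheme.{u}) [X.Over (Spec (CommRingCat.of k))]
  [LocallyOfFiniteType (X ↘ (Spec (CommRingCat.of k)))] [IrreducibleSpace X]

/-- in an irreducible scheme, the prime of the generic point is below every prime of a chart -/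
theorem primeIdealOf_genericPoint_le {U : X.Opens} (hU : IsAffineOpen U)
    (hξ : genericPoint X ∈ U) (q : PrimeSpectrum Γ(X, U)) :
    (hU.primeIdealOf ⟨genericPoint X, hξ⟩).asIdeal ≤ q.asIdeal := by
  have h1 : genericPoint X ⤳ hU.fromSpec q := (genericPoint_spec X).specializes (Set.mem_univ _)
  have h2 := (specializes_iff_primeIdealOf_le hU ⟨genericPoint X, hξ⟩
    ⟨hU.fromSpec q, fromSpec_mem hU q⟩).mp h1
  rwa [primeIdealOf_fromSpec] at h2

include k in
/-- the dimension of an affine chart of an irreducible scheme -/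
theorem exists_dim_affineOpen_eq_trdeg {U : X.Opens} (hU : IsAffineOpen U)
    (hξ : genericPoint X ∈ U) :
    ∃ n : ℕ, Algebra.trdeg k (X.residueField (genericPoint X)) = n ∧
      topologicalKrullDim ↥(U : Set X) = n := by
  obtain ⟨n, h1, h2⟩ := exists_dim_quotient_eq_trdeg k X hU (genericPoint X) hξ
  refine ⟨n, h1, ?_⟩
  rw [topologicalKrullDim_affineOpen hU, ← h2]
  letI := secAlgebra k X U
  haveI := finiteType_sections k X hU
  haveI : IsNoetherianRing Γ(X, U) := Algebra.FiniteType.isNoetherianRing k Γ(X, U)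
  apply le_antisymm
  · rw [ringKrullDim_le_iff_height_le]
    intro q hq
    obtain ⟨P, hPmin, hPq, hPh⟩ := exists_minimalPrimes_height_eq q
    haveI := hPmin.1.1
    have hP : P = (hU.primeIdealOf ⟨genericPoint X, hξ⟩).asIdeal := by
      apply le_antisymm
      · exact hPmin.2 ⟨(hU.primeIdealOf ⟨genericPoint X, hξ⟩).2, bot_le⟩
          (primeIdealOf_genericPoint_le X hU hξ ⟨P, hPmin.1.1⟩)
      · exact primeIdealOf_genericPoint_le X hU hξ ⟨P, hPmin.1.1⟩
    haveI := isPrime_map_mk P q hPq
    rw [← hPh, ← hP]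
    exact Ideal.height_le_ringKrullDim_of_isPrime
  · exact ringKrullDim_quotient_le _

theorem mem_of_nonempty_open (U : Set X) (hU : IsOpen U) (hne : U.Nonempty) :
    genericPoint X ∈ U := by
  rw [(genericPoint_spec X).mem_open_set_iff hU]
  simpa using hne

theorem S1619_main (n : ℕ) (hn : Algebra.trdeg k (X.residueField (genericPoint X)) = n) :
    topologicalKrullDim X = n := by
  have key : ∀ (U : X.Opens) (hU : IsAffineOpen U), (U : Set X).Nonempty →
      topologicalKrullDim ↥(U : Set X) = n := by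
    intro U hU hne
    obtain ⟨n', h1, h2⟩ := exists_dim_affineOpen_eq_trdeg k X hU
      (mem_of_nonempty_open X U U.2 hne)
    rw [h2]
    have : n' = n := by
      rw [h1] at hn
      exact_mod_cast hn
    rw [this]
  apply le_antisymm
  · apply topologicalKrullDim_le_of_forall_open
    intro x
    obtain ⟨U, hU, hx, -⟩ := exists_isAffineOpen_mem_and_subset (U := (⊤ : X.Opens)) (x := x)
      (by simp)
    exact ⟨U, U.2, hx, (key U hU ⟨x, hx⟩).le⟩
  · obtain ⟨U, hU, hx, -⟩ := exists_isAffineOpen_mem_and_subset (U := (⊤ : X.Opens))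
      (x := genericPoint X) (by simp)
    rw [← key U hU ⟨_, hx⟩]
    exact topologicalKrullDim_subspace_le X U

include k in
theorem S1618_main (U : X.Opens) (hU : (U : Set X).Nonempty) :
    topologicalKrullDim U = topologicalKrullDim X := by
  obtain ⟨W, hW, hξW, hWU⟩ := exists_isAffineOpen_mem_and_subset (U := U)
    (x := genericPoint X) (mem_of_nonempty_open X U U.2 hU)
  obtain ⟨n, h1, h2⟩ := exists_dim_affineOpen_eq_trdeg k X hW hξW
  rw [S1619_main k X n h1]
  apply le_antisymm
  · rw [← S1619_main k X n h1]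
    exact topologicalKrullDim_subspace_le X U
  · rw [← h2]
    exact topologicalKrullDim_mono hWU

end Irreducible




section Immediate

variable (k : Type u) [Field k] (X : Scheme.{u}) [X.Over (Spec (CommRingCat.of k))]
  [LocallyOfFiniteType (X ↘ (Spec (CommRingCat.of k)))]

/-- ring level: a covering pair of primes in a finite type algebra over a field -/
theorem dim_quotient_covBy (A : Type u) [CommRing A] [Algebra k A] [Algebra.FiniteType k A]
    (p p' : Ideal A) [hp : p.IsPrime] [hp' : p'.IsPrime] (hle : p ≤ p') (hne : p ≠ p')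
    (hcov : ∀ Q : Ideal A, Q.IsPrime → p ≤ Q → Q ≤ p' → Q = p ∨ Q = p') :
    ringKrullDim (A ⧸ p') + 1 = ringKrullDim (A ⧸ p) := by
  haveI hq := isPrime_map_mk p p' hle
  have hmk : Function.Surjective (Ideal.Quotient.mk p) := Ideal.Quotient.mk_surjective
  have hq1 : (p'.map (Ideal.Quotient.mk p)).height = 1 := by
    apply le_antisymm
    · have hh : (p'.map (Ideal.Quotient.mk p)).height ≤ ((1 : ℕ) : ℕ∞) := by
        rw [Ideal.height_le_iff]
        intro Q hQ hQlt
        haveI := hQ
        have hQ' : (Q.comap (Ideal.Quotient.mk p)).IsPrime := Ideal.comap_isPrime _ Q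
        have h1 : p ≤ Q.comap (Ideal.Quotient.mk p) := by
          intro a ha
          rw [Ideal.mem_comap, Ideal.Quotient.eq_zero_iff_mem.mpr ha]
          exact zero_mem _
        have h2 : Q.comap (Ideal.Quotient.mk p) ≤ p' := by
          have := Ideal.comap_mono (f := Ideal.Quotient.mk p) hQlt.le
          rwa [comap_map_mk' p p' hle] at this
        rcases hcov _ hQ' h1 h2 with h | h
        · have hQbot : Q = ⊥ := by
            rw [← Ideal.map_comap_of_surjective _ hmk Q, h, Ideal.map_quotient_self]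
          rw [hQbot, Ideal.height_bot]
          norm_num
        · exfalso
          have : Q = p'.map (Ideal.Quotient.mk p) := by
            rw [← Ideal.map_comap_of_surjective _ hmk Q, h]
          exact hQlt.ne this
      exact_mod_cast hh
    · rw [Order.one_le_iff_ne_zero, Ne, Ideal.height_eq_zero_iff_eq_bot]
      intro h0
      rw [Ideal.map_eq_bot_iff_le_ker, Ideal.mk_ker] at h0
      exact hne (le_antisymm hle h0)
  have hKL := dim_quotient_of_height_eq_one k (A ⧸ p) (p'.map (Ideal.Quotient.mk p)) hq1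
  rwa [ringKrullDim_eq_of_ringEquiv (DoubleQuot.quotQuotEquivQuotOfLE hle)] at hKL

theorem S1620_main (x x' : X) (hne : x ≠ x') (hsp : x ⤳ x')
    (himm : ∀ y : X, x ⤳ y → y ⤳ x' → y = x ∨ y = x')
    (n : ℕ) (hn : Algebra.trdeg k (X.residueField x') = n) :
    Algebra.trdeg k (X.residueField x) = n + 1 := by
  obtain ⟨U, hU, hx', -⟩ := exists_isAffineOpen_mem_and_subset (U := (⊤ : X.Opens)) (x := x')
    (by simp)
  have hx : x ∈ U := hsp.mem_open U.2 hx'
  letI := secAlgebra k X U
  haveI := finiteType_sections k X hU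
  have hle := (specializes_iff_primeIdealOf_le hU ⟨x, hx⟩ ⟨x', hx'⟩).mp hsp
  have hne' : (hU.primeIdealOf ⟨x, hx⟩).asIdeal ≠ (hU.primeIdealOf ⟨x', hx'⟩).asIdeal := by
    intro h
    have := primeIdealOf_injective' hU (PrimeSpectrum.ext h)
    exact hne (congrArg Subtype.val this)
  have hcov : ∀ Q : Ideal Γ(X, U), Q.IsPrime → (hU.primeIdealOf ⟨x, hx⟩).asIdeal ≤ Q →
      Q ≤ (hU.primeIdealOf ⟨x', hx'⟩).asIdeal →
      Q = (hU.primeIdealOf ⟨x, hx⟩).asIdeal ∨ Q = (hU.primeIdealOf ⟨x', hx'⟩).asIdeal := by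
    intro Q hQ h1 h2
    have hy := fromSpec_mem hU ⟨Q, hQ⟩
    have e1 : x ⤳ hU.fromSpec ⟨Q, hQ⟩ := by
      rw [specializes_iff_primeIdealOf_le hU ⟨x, hx⟩ ⟨_, hy⟩, primeIdealOf_fromSpec]
      exact h1
    have e2 : hU.fromSpec ⟨Q, hQ⟩ ⤳ x' := by
      rw [specializes_iff_primeIdealOf_le hU ⟨_, hy⟩ ⟨x', hx'⟩, primeIdealOf_fromSpec]
      exact h2
    have e3 := primeIdealOf_fromSpec hU ⟨Q, hQ⟩
    rcases himm _ e1 e2 with h | h
    · left
      have : hU.primeIdealOf ⟨hU.fromSpec ⟨Q, hQ⟩, hy⟩ = hU.primeIdealOf ⟨x, hx⟩ := by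
        congr 1
        exact Subtype.ext h
      rw [e3] at this
      exact congrArg PrimeSpectrum.asIdeal this
    · right
      have : hU.primeIdealOf ⟨hU.fromSpec ⟨Q, hQ⟩, hy⟩ = hU.primeIdealOf ⟨x', hx'⟩ := by
        congr 1
        exact Subtype.ext h
      rw [e3] at this
      exact congrArg PrimeSpectrum.asIdeal this
  have hdim := dim_quotient_covBy k Γ(X, U) _ _ hle hne' hcov
  obtain ⟨m, h1, h2⟩ := exists_dim_quotient_eq_trdeg k X hU x hx
  obtain ⟨m', h1', h2'⟩ := exists_dim_quotient_eq_trdeg k X hU x' hx'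
  rw [h2, h2'] at hdim
  have e1 : m' + 1 = m := by exact_mod_cast hdim
  have e2 : m' = n := by
    rw [h1'] at hn
    exact_mod_cast hn
  rw [h1, ← e1, e2]
  push_cast
  rfl

end Immediate


end Groth.Agent.Lib.Helper4.DimFT4
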