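import Mathlib
import Groth.Prelude.Def_Cyc
import Groth.Prelude.Def_EGA43
import Groth.Agent.Lib.Helper4.JacDim1
import Groth.Agent.Lib.Helper4.FibreStalkDim1
import Groth.Agent.Lib.Helper4.DimFT1
import Groth.Agent.Lib.Helper4.DimFT2
import Groth.Agent.Lib.Helper4.DimFT4
import Groth.Agent.Lib.Helper4.Chev2

/-!
# Consequences of Chevalley semicontinuity: fibre dimension on the target (helper4)
-/

set_option backward.isDefEq.respectTransparency.types false
set_option synthInstance.maxHeartbeats 400000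
set_option autoImplicit false
set_option linter.unusedSectionVars false
set_option linter.style.haveILetI false
set_option linter.unusedSimpArgs false
universe u v w
open CategoryTheory CategoryTheory.Limits AlgebraicGeometry TopologicalSpace IsLocalRing Opposite
open Cardinal
open Groth.Agent.Lib.Helper4.DimIneq1 Groth.Agent.Lib.Helper4.DimFT2 Groth.Agent.Lib.Helper4.Catenary1
open Groth.Agent.Lib.Helper4.DimEq1 Groth.Agent.Lib.Helper4.DimIneq2 Groth.Agent.Lib.Helper4.DimEq2
open Groth.Agent.Lib.Helper4.DimIneq3 Groth.Agent.Lib.Helper4.DimIneq4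
open Groth.Agent.Lib.Helper4.NormFibre2 Groth.Agent.Lib.Helper4.RadBir3 Groth.Agent.Lib.Helper4.DimFT3
open Groth.Agent.Lib.Helper4.FibDim1 Groth.Agent.Lib.Helper4.FibDim2 Groth.Agent.Lib.Helper4.LocUC1
open Groth.Agent.Lib.Helper4.FibDim3 Groth.Agent.Lib.Helper4.FibDim4 Groth.Agent.Lib.Helper4.FibDim5
open Groth.Agent.Lib.Helper4.FibDim6 Groth.Agent.Lib.Helper4.FibDim7 Groth.Agent.Lib.Helper4.JacDim1
open Groth.Agent.Lib.Helper4.DimFT1
open Groth.Agent.Lib.Helper4.Chev2

namespace Groth.Agent.Lib.Helper4.Chev3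


/-- the open neighbourhood realizing the local dimension -/
theorem exists_open_dim_eq_localDim {α : Type*} [TopologicalSpace α] (a : α) :
    ∃ W : Opens α, a ∈ W ∧ topologicalKrullDim ↥(W : Set α) = FlatMor.localDim α a := by
  have : Nonempty {U : Opens α // a ∈ U} := ⟨⟨⊤, trivial⟩⟩
  obtain ⟨⟨W, hW⟩, h⟩ := ciInf_mem (fun U : {U : Opens α // a ∈ U} =>
    topologicalKrullDim (U.1 : Set α))
  exact ⟨W, hW, h⟩

/-- the dimension is bounded by a bound on all local dimensions -/
theorem topologicalKrullDim_le_of_forall_localDim_le {α : Type*} [TopologicalSpace α]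
    (B : WithBot ℕ∞) (h : ∀ a : α, FlatMor.localDim α a ≤ B) : topologicalKrullDim α ≤ B := by
  apply Groth.Agent.Lib.Helper4.DimFT4.topologicalKrullDim_le_of_forall_open
  intro a
  obtain ⟨W, haW, hW⟩ := exists_open_dim_eq_localDim a
  exact ⟨W, W.2, haW, hW.le.trans (h a)⟩

theorem withBot_lt_natCast_succ {a : WithBot ℕ∞} {m : ℕ} (h : a < ((m + 1 : ℕ) : WithBot ℕ∞)) :
    a ≤ (m : WithBot ℕ∞) := by
  induction a using WithBot.recBotCoe with
  | bot => exact bot_le
  | coe e =>
    have h1 : e < ((m + 1 : ℕ) : ℕ∞) := by exact_mod_cast h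
    have h2 : e ≤ (m : ℕ∞) := by
      push_cast at h1
      exact (ENat.lt_add_one_iff (ENat.natCast_ne_top m)).mp h1
    exact_mod_cast h2

theorem withBot_lt_zero {a : WithBot ℕ∞} (h : a < ((0 : ℕ) : WithBot ℕ∞)) : a = ⊥ := by
  induction a using WithBot.recBotCoe with
  | bot => rfl
  | coe e =>
    exfalso
    have h1 : e < ((0 : ℕ) : ℕ∞) := by exact_mod_cast h
    simp at h1

/-- a point where the local dimension is at least `n` if the dimension is at least `n` -/
theorem exists_le_localDim_of_le_dim {α : Type*} [TopologicalSpace α] (n : ℕ)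
    (h : (n : WithBot ℕ∞) ≤ topologicalKrullDim α) :
    ∃ a : α, (n : WithBot ℕ∞) ≤ FlatMor.localDim α a := by
  by_contra hcon
  push Not at hcon
  cases n with
  | zero =>
    have h1 : topologicalKrullDim α ≤ ⊥ :=
      topologicalKrullDim_le_of_forall_localDim_le ⊥ fun a => (withBot_lt_zero (hcon a)).le
    have h2 := h.trans h1
    simp at h2
  | succ m =>
    have h1 : topologicalKrullDim α ≤ (m : WithBot ℕ∞) :=
      topologicalKrullDim_le_of_forall_localDim_le _ fun a => withBot_lt_natCast_succ (hcon a)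
    have h2 := h.trans h1
    have h3 : (m + 1 : ℕ) ≤ m := by exact_mod_cast h2
    omega

/-- local dimension of a fibre at a point in terms of `fibreDimAt` -/
theorem localDim_fiber_eq {X Y : Scheme.{u}} (f : X ⟶ Y) (y : Y) (t : f.fiber y) :
    FlatMor.localDim (f.fiber y) t = FlatMor.fibreDimAt f (f.fiberι y t) := by
  have hy : f (f.fiberι y t) = y := (f.fiberHomeo y t).2
  unfold FlatMor.fibreDimAt
  rw [localDim_homeomorph (f.fiberHomeo y) t,
    localDim_homeomorph (f.fiberHomeo (f (f.fiberι y t))) (f.asFiber (f.fiberι y t))]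
  have hset : f ⁻¹' {y} = f ⁻¹' {f (f.fiberι y t)} := by rw [hy]
  rw [localDim_homeomorph (Homeomorph.setCongr hset)]
  congr 1
  apply Subtype.ext
  change f.fiberι y t = ((f.fiberHomeo (f (f.fiberι y t))) (f.asFiber (f.fiberι y t))).1
  rw [Scheme.Hom.fiberHomeo_apply, Scheme.Hom.fiberι_asFiber]

/-- `fibreDimAt` is bounded by the dimension of the fibre -/
theorem fibreDimAt_le_dim_fiber {X Y : Scheme.{u}} (f : X ⟶ Y) (x : X) :
    FlatMor.fibreDimAt f x ≤ topologicalKrullDim (f.fiber (f x)) :=
  localDim_le_topologicalKrullDim _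




theorem isClosed_setOf_le_fibreDimAt {X S : Scheme.{u}} (f : X ⟶ S) [LocallyOfFiniteType f]
    (c : WithBot ℕ∞) : IsClosed {x : X | c ≤ FlatMor.fibreDimAt f x} := by
  rw [← isOpen_compl_iff, isOpen_iff_forall_mem_open]
  intro x hx
  have hx' : FlatMor.fibreDimAt f x < c := not_le.mp hx
  obtain ⟨d, hd, O, hxO, hO⟩ := exists_open_fibreDimAt_le f x
  refine ⟨O, fun x'' hx'' => not_le.mpr ((hO x'' hx'').trans_lt (hd ▸ hx')), O.2, hxO⟩

theorem setOf_le_dim_fiber_eq {X Y : Scheme.{u}} (f : X ⟶ Y) (n : ℕ) :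
    {y : Y | (n : WithBot ℕ∞) ≤ topologicalKrullDim ↥(f.fiber y)} =
      f '' {x : X | (n : WithBot ℕ∞) ≤ FlatMor.fibreDimAt f x} := by
  ext y
  constructor
  · intro h
    obtain ⟨t, ht⟩ := exists_le_localDim_of_le_dim n h
    refine ⟨f.fiberι y t, ?_, (f.fiberHomeo y t).2⟩
    rwa [localDim_fiber_eq] at ht
  · rintro ⟨x, hx, rfl⟩
    exact le_trans hx (fibreDimAt_le_dim_fiber f x)

theorem S3387_main {X Y : Scheme.{u}} (f : X ⟶ Y) [LocallyOfFiniteType f]
    (hf : IsClosedMap f.base) (n : ℕ) :
    IsClosed {y : Y | (n : WithBot ℕ∞) ≤ topologicalKrullDim ↥(f.fiber y)} := by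
  rw [setOf_le_dim_fiber_eq]
  exact hf _ (isClosed_setOf_le_fibreDimAt f _)

theorem S0403_main {X S : Scheme.{u}} (f : X ⟶ S) [IsProper f] (c : WithBot ℕ∞) :
    IsOpen {s : S | topologicalKrullDim (f.fiber s) ≤ c} := by
  have hcl : IsClosedMap f.base := f.isClosedMap
  induction c using WithBot.recBotCoe with
  | bot =>
    rw [← isClosed_compl_iff]
    convert S3387_main f hcl 0 using 1
    ext s
    simp only [Set.mem_compl_iff, Set.mem_setOf_eq]
    constructor
    · intro h
      by_contra h2
      exact h (withBot_lt_zero (not_le.mp h2)).le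
    · intro h h2
      have := h.trans h2
      simp at this
  | coe e =>
    induction e using ENat.recTopCoe with
    | top =>
      convert isOpen_univ
      ext s
      simp only [Set.mem_setOf_eq, Set.mem_univ, iff_true]
      exact le_top
    | coe m =>
      rw [← isClosed_compl_iff]
      convert S3387_main f hcl (m + 1) using 1
      ext s
      simp only [Set.mem_compl_iff, Set.mem_setOf_eq]
      constructor
      · intro h
        by_contra h2
        exact h (withBot_lt_natCast_succ (not_le.mp h2))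
      · intro h h2
        have h3 := h.trans h2
        have h4 : (m + 1 : ℕ) ≤ m := by exact_mod_cast h3
        omega

theorem S3389_main {X Y : Scheme.{u}} [CompactSpace Y] (f : X ⟶ Y)
    [LocallyOfFiniteType f] [QuasiCompact f] :
    ∃ n : ℕ, ∀ y : Y, topologicalKrullDim ↥(f.fiber y) ≤ n := by
  haveI : CompactSpace X := QuasiCompact.compactSpace_of_compactSpace f
  have hopen : ∀ n : ℕ, IsOpen {x : X | FlatMor.fibreDimAt f x ≤ (n : WithBot ℕ∞)} := by
    intro n
    rw [isOpen_iff_forall_mem_open]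
    intro x hx
    obtain ⟨d, hd, O, hxO, hO⟩ := exists_open_fibreDimAt_le f x
    refine ⟨O, ?_, O.2, hxO⟩
    intro x' hx'
    have hdn : (d : WithBot ℕ∞) ≤ n := hd ▸ hx
    exact (hO x' hx').trans hdn
  have hcover : (Set.univ : Set X) ⊆ ⋃ n : ℕ, {x : X | FlatMor.fibreDimAt f x ≤ (n : WithBot ℕ∞)} := by
    intro x _
    obtain ⟨d, hd, -⟩ := exists_open_fibreDimAt_le f x
    exact Set.mem_iUnion.mpr ⟨d, hd.le⟩
  obtain ⟨t, ht⟩ := isCompact_univ.elim_finite_subcover _ hopen hcover
  refine ⟨t.sup id, fun y => ?_⟩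
  apply topologicalKrullDim_le_of_forall_localDim_le
  intro a
  rw [localDim_fiber_eq]
  have hmem := ht (Set.mem_univ (f.fiberι y a))
  simp only [Set.mem_iUnion, Set.mem_setOf_eq] at hmem
  obtain ⟨n, hn, hx⟩ := hmem
  refine hx.trans ?_
  have : n ≤ t.sup id := Finset.le_sup (f := id) hn
  exact_mod_cast this




/-- the image of the generic point under a dominant map -/
theorem map_genericPoint_of_isDominant {X Y : Scheme.{u}} [IrreducibleSpace X] [IrreducibleSpace Y]
    (f : X ⟶ Y) [IsDominant f] : f (genericPoint X) = genericPoint Y := by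
  apply ((genericPoint_spec Y).eq _).symm
  have h := (genericPoint_spec X).image f.continuous
  rw [Set.image_univ, f.denseRange.closure_range] at h
  exact h

/-- a fibre through the generic point of an irreducible scheme is irreducible -/
theorem irreducibleSpace_fiber_of_generic {X Y : Scheme.{u}} [IrreducibleSpace X] (f : X ⟶ Y)
    (y : Y) (hy : f (genericPoint X) = y) : IrreducibleSpace ↥(f.fiber y) := by
  let ξ' : f.fiber y := (f.fiberHomeo y).symm ⟨genericPoint X, hy⟩
  have hξ' : f.fiberι y ξ' = genericPoint X := f.fiberι_fiberHomeo_symm y ⟨genericPoint X, hy⟩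
  have hcl : closure ({ξ'} : Set (f.fiber y)) = Set.univ := by
    rw [Set.eq_univ_iff_forall]
    intro t
    rw [← specializes_iff_mem_closure,
      ← (f.fiberι y).isEmbedding.isInducing.specializes_iff, hξ']
    exact (genericPoint_spec X).specializes (Set.mem_univ _)
  rw [irreducibleSpace_def]
  change IsIrreducible (Set.univ : Set (f.fiber y))
  rw [← hcl]
  exact isIrreducible_singleton.closure

theorem S3388_main {X Y : Scheme.{u}} [IrreducibleSpace X] [IrreducibleSpace Y]
    (f : X ⟶ Y) [LocallyOfFiniteType f] [IsDominant f] (x : X) :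
    topologicalKrullDim ↥(f.fiber (genericPoint Y)) ≤ FlatMor.fibreDimAt f x := by
  have hgen := map_genericPoint_of_isDominant f
  obtain ⟨d, hd, O, hxO, hO⟩ := exists_open_fibreDimAt_le f x
  have hξO : genericPoint X ∈ O :=
    ((genericPoint_spec X).mem_open_set_iff O.2).mpr ⟨x, Set.mem_univ _, hxO⟩
  have h1 := hO _ hξO
  rw [hd]
  refine le_trans ?_ h1
  -- the generic fibre
  haveI hirr : IrreducibleSpace ↥(f.fiber (genericPoint Y)) :=
    irreducibleSpace_fiber_of_generic f _ hgen
  let ξ' : f.fiber (genericPoint Y) := (f.fiberHomeo _).symm ⟨genericPoint X, hgen⟩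
  have hξ' : f.fiberι _ ξ' = genericPoint X := f.fiberι_fiberHomeo_symm _ ⟨genericPoint X, hgen⟩
  rw [← hξ', ← localDim_fiber_eq]
  unfold FlatMor.localDim
  refine le_iInf fun W => ?_
  letI ov : (f.fiber (genericPoint Y)).Over (Spec (CommRingCat.of
      (Y.residueField (genericPoint Y)))) := ⟨f.fiberToSpecResidueField (genericPoint Y)⟩
  haveI : LocallyOfFiniteType (f.fiber (genericPoint Y) ↘ Spec (CommRingCat.of
      (Y.residueField (genericPoint Y)))) := by
    change LocallyOfFiniteType (f.fiberToSpecResidueField (genericPoint Y))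
    exact MorphismProperty.pullback_snd _ _ inferInstance
  exact (Groth.Agent.Lib.Helper4.DimFT4.S1618_main (Y.residueField (genericPoint Y))
    (f.fiber (genericPoint Y)) W.1 ⟨ξ', W.2⟩).ge


end Groth.Agent.Lib.Helper4.Chev3
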