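import Mathlib
import Groth.Prelude.Def_Cyc
import Groth.Prelude.Def_EGA43
import Groth.Agent.Lib.Helper4.JacDim1
import Groth.Agent.Lib.Helper4.FibreStalkDim1
import Groth.Agent.Lib.Helper4.DimFT1
import Groth.Agent.Lib.Helper4.DimFT2
import Groth.Agent.Lib.Helper4.FibDim7
import Groth.Agent.Lib.Helper4.Chev3

/-!
# Equidimensionality criterion: dimension inequality on stalks and S3390 (helper4)
-/

set_option backward.isDefEq.respectTransparency.types false
set_option synthInstance.maxHeartbeats 400000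
set_option autoImplicit false
set_option linter.unusedSectionVars false
set_option linter.style.haveILetI false
set_option linter.unusedSimpArgs false
universe u v w
open CategoryTheory CategoryTheory.Limits AlgebraicGeometry TopologicalSpace IsLocalRing Opposite
open Cardinal
open Groth.Agent.Lib.Helper4.DimIneq1 Groth.Agent.Lib.Helper4.DimFT2 Groth.Agent.Lib.Helper4.Catenary1
open Groth.Agent.Lib.Helper4.DimEq1 Groth.Agent.Lib.Helper4.DimIneq2 Groth.Agent.Lib.Helper4.DimEq2
open Groth.Agent.Lib.Helper4.DimIneq3 Groth.Agent.Lib.Helper4.DimIneq4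
open Groth.Agent.Lib.Helper4.NormFibre2 Groth.Agent.Lib.Helper4.RadBir3 Groth.Agent.Lib.Helper4.DimFT3
open Groth.Agent.Lib.Helper4.FibDim1 Groth.Agent.Lib.Helper4.FibDim2 Groth.Agent.Lib.Helper4.LocUC1
open Groth.Agent.Lib.Helper4.FibDim3 Groth.Agent.Lib.Helper4.FibDim4 Groth.Agent.Lib.Helper4.FibDim5
open Groth.Agent.Lib.Helper4.FibDim6 Groth.Agent.Lib.Helper4.FibDim7 Groth.Agent.Lib.Helper4.JacDim1
open Groth.Agent.Lib.Helper4.DimFT1

namespace Groth.Agent.Lib.Helper4.Chev4


section Fibre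

variable {X Y : Scheme.{u}} (f : X ⟶ Y) [LocallyOfFiniteType f]

/-- the dimension inequality at the level of stalks, for a dominant morphism of irreducible
schemes -/
theorem stalk_dim_le_local [IsLocallyNoetherian Y] [IrreducibleSpace X] [IrreducibleSpace Y]
    (hη : f (genericPoint X) = genericPoint Y) (x : X) :
    ringKrullDim (X.presheaf.stalk x) + (tr f x : WithBot ℕ∞) ≤
      ringKrullDim (Y.presheaf.stalk (f x)) + (tr f (genericPoint X) : WithBot ℕ∞) := by
  obtain ⟨V, hV, hsV, -⟩ := exists_isAffineOpen_mem_and_subset (U := (⊤ : Y.Opens)) (x := f x)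
    trivial
  obtain ⟨U, hU, hxU, hUV⟩ := exists_isAffineOpen_mem_and_subset (U := f ⁻¹ᵁ V) (x := x) hsV
  letI alg : Algebra Γ(Y, V) Γ(X, U) := (f.appLE V U hUV).hom.toAlgebra
  haveI : IsNoetherianRing Γ(Y, V) := IsLocallyNoetherian.component_noetherian ⟨V, hV⟩
  haveI : Algebra.FiniteType Γ(Y, V) Γ(X, U) := LocallyOfFiniteType.finiteType_appLE f hV hU hUV
  haveI : IsNoetherianRing Γ(X, U) := Algebra.FiniteType.isNoetherianRing Γ(Y, V) Γ(X, U)
  have hξU : genericPoint X ∈ U := genericPoint_mem_of_mem U x hxU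
  haveI hlo := liesOver_chart f hV hU hUV x hxU rfl
  haveI hloξ := liesOver_chart f hV hU hUV (genericPoint X) hξU rfl
  have hQq : (hU.primeIdealOf ⟨genericPoint X, hξU⟩).asIdeal ≤ (hU.primeIdealOf ⟨x, hxU⟩).asIdeal :=
    primeIdealOf_genericPoint_le hU hξU _
  have key := dim_ineq_rel Γ(Y, V) Γ(X, U) (hV.primeIdealOf ⟨f x, hUV hxU⟩).asIdeal
    (hU.primeIdealOf ⟨x, hxU⟩).asIdeal (hU.primeIdealOf ⟨genericPoint X, hξU⟩).asIdeal hQq
  rw [tr_chart f hV hU hUV x hxU rfl] at key
  have h1 : Algebra.trdeg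
      (Γ(Y, V) ⧸ (hU.primeIdealOf ⟨genericPoint X, hξU⟩).asIdeal.under Γ(Y, V))
      (Γ(X, U) ⧸ (hU.primeIdealOf ⟨genericPoint X, hξU⟩).asIdeal) =
      (tr f (genericPoint X) : Cardinal.{u}) := by
    rw [← tr_chart f hV hU hUV (genericPoint X) hξU rfl]
    exact trdeg_quot_congr _ _ _ _ hloξ.over.symm rfl
  rw [h1, height_map_mk_of_forall_le _ _ (primeIdealOf_genericPoint_le hU hξU)] at key
  have hηV : genericPoint Y ∈ V := genericPoint_mem_of_mem V (f x) hsV
  have h2 : (hU.primeIdealOf ⟨genericPoint X, hξU⟩).asIdeal.under Γ(Y, V) =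
      (hV.primeIdealOf ⟨genericPoint Y, hηV⟩).asIdeal := by
    rw [← hloξ.over]
    congr 2
    exact Subtype.ext hη
  have hbot : ∀ P : PrimeSpectrum Γ(Y, V),
      (hU.primeIdealOf ⟨genericPoint X, hξU⟩).asIdeal.under Γ(Y, V) ≤ P.asIdeal := by
    intro P
    rw [h2]
    exact primeIdealOf_genericPoint_le hV hηV P
  haveI : ((hU.primeIdealOf ⟨genericPoint X, hξU⟩).asIdeal.under Γ(Y, V)).IsPrime :=
    Ideal.comap_isPrime _ _
  rw [height_map_mk_of_forall_le _ _ hbot] at key
  rw [ringKrullDim_stalk_eq_height hU x hxU, ringKrullDim_stalk_eq_height hV (f x) (hUV hxU)]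
  obtain ⟨c₀, hc₀⟩ := ENat.ne_top_iff_exists.mp (Ideal.height_ne_top
    (I := (hU.primeIdealOf ⟨x, hxU⟩).asIdeal) (Ideal.IsPrime.ne_top inferInstance))
  obtain ⟨m₀, hm₀⟩ := ENat.ne_top_iff_exists.mp (Ideal.height_ne_top
    (I := (hV.primeIdealOf ⟨f x, hUV hxU⟩).asIdeal) (Ideal.IsPrime.ne_top inferInstance))
  rw [← hc₀, ← hm₀] at key ⊢
  have key' : c₀ + tr f x ≤ m₀ + tr f (genericPoint X) := by
    have : ((c₀ + tr f x : ℕ) : Cardinal.{u}) ≤ ((m₀ + tr f (genericPoint X) : ℕ) : Cardinal.{u}) := by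
      push_cast
      simpa using key
    exact_mod_cast this
  have : ((c₀ + tr f x : ℕ) : WithBot ℕ∞) ≤ ((m₀ + tr f (genericPoint X) : ℕ) : WithBot ℕ∞) := by
    exact_mod_cast key'
  push_cast at this
  exact this

end Fibre

theorem S3390_main {X Y : Scheme.{u}} [IrreducibleSpace X] [IrreducibleSpace Y]
    [IsLocallyNoetherian Y] (f : X ⟶ Y) [LocallyOfFiniteType f] [IsDominant f] (x : X)
    (h : ringKrullDim (X.presheaf.stalk x) =
        ringKrullDim (Y.presheaf.stalk (f.base x)) +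
          ringKrullDim ((f.fiber (f.base x)).presheaf.stalk (f.asFiber x))) :
    FlatMor.fibreDimAt f x = topologicalKrullDim ↥(f.fiber (genericPoint Y)) := by
  have hη : f (genericPoint X) = genericPoint Y :=
    Groth.Agent.Lib.Helper4.CurveTop1.map_genericPoint_of_isDominant f
  apply le_antisymm _ (Groth.Agent.Lib.Helper4.Chev3.S3388_main f x)
  have h1 := stalk_dim_le_local f hη x
  have h2 := fibreDimAt_eq f x
  rw [dim_generic_fibre f (genericPoint Y) hη, h2]
  rw [h, add_assoc] at h1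
  obtain ⟨m, hm⟩ := exists_stalk_dim_nat (Y := Y) (f x)
  change ringKrullDim (Y.presheaf.stalk (f x)) = _ at hm
  rw [hm] at h1
  -- cancel the natural number m
  generalize ringKrullDim ((f.fiber (f x)).presheaf.stalk (f.asFiber x)) + (tr f x : WithBot ℕ∞) = a
    at h1 ⊢
  induction a using WithBot.recBotCoe with
  | bot => exact bot_le
  | coe e =>
    have h3 : (m : ℕ∞) + e ≤ (m : ℕ∞) + (tr f (genericPoint X) : ℕ∞) := by exact_mod_cast h1
    have h4 : e ≤ (tr f (genericPoint X) : ℕ∞) :=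
      (ENat.add_le_add_iff_left (ENat.natCast_ne_top m)).mp h3
    exact_mod_cast h4

end Groth.Agent.Lib.Helper4.Chev4
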