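import Mathlib
import Groth.Prelude.Def_Cyc
import Groth.Prelude.Def_EGA43
import Groth.Agent.Lib.Helper4.JacDim1
import Groth.Agent.Lib.Helper4.FibreStalkDim1
import Groth.Agent.Lib.Helper4.DimFT1
import Groth.Agent.Lib.Helper4.DimFT2
import Groth.Agent.Lib.Helper4.FibDim7
import Groth.Agent.Lib.Helper4.Chev4

/-!
# Generic points above maximal points of fibres where the morphism is open (EGA IV 14.2) (helper4)
-/

set_option backward.isDefEq.respectTransparency.types false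
set_option synthInstance.maxHeartbeats 400000
set_option autoImplicit false
set_option linter.unusedSectionVars false
set_option linter.style.haveILetI false
set_option linter.unusedSimpArgs false
universe u v w
open CategoryTheory CategoryTheory.Limits AlgebraicGeometry TopologicalSpace IsLocalRing Opposite
open Cardinal
open Groth.Agent.Lib.Helper4.DimIneq1 Groth.Agent.Lib.Helper4.DimFT2 Groth.Agent.Lib.Helper4.Catenary1
open Groth.Agent.Lib.Helper4.DimEq1 Groth.Agent.Lib.Helper4.DimIneq2 Groth.Agent.Lib.Helper4.DimEq2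
open Groth.Agent.Lib.Helper4.DimIneq3 Groth.Agent.Lib.Helper4.DimIneq4
open Groth.Agent.Lib.Helper4.NormFibre2 Groth.Agent.Lib.Helper4.RadBir3 Groth.Agent.Lib.Helper4.DimFT3
open Groth.Agent.Lib.Helper4.FibDim1 Groth.Agent.Lib.Helper4.FibDim2 Groth.Agent.Lib.Helper4.LocUC1
open Groth.Agent.Lib.Helper4.FibDim3 Groth.Agent.Lib.Helper4.FibDim4 Groth.Agent.Lib.Helper4.FibDim5
open Groth.Agent.Lib.Helper4.FibDim6 Groth.Agent.Lib.Helper4.FibDim7 Groth.Agent.Lib.Helper4.JacDim1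
open Groth.Agent.Lib.Helper4.DimFT1

namespace Groth.Agent.Lib.Helper4.Chev5


section RingD

variable (A B : Type u) [CommRing A] [IsNoetherianRing A] [CommRing B] [Algebra A B]
  [Algebra.FiniteType A B]

/-- a prime whose local ring has the dimension of the base local ring and at which the residual
transcendence degree is maximal among generizations is dominated by a minimal prime lying over a
minimal prime of the base, with the same transcendence degree -/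
theorem exists_minimal_above_of_height_eq' (𝔭 : Ideal A) [h𝔭 : 𝔭.IsPrime] (q : Ideal B)
    [hq : q.IsPrime] [hql : q.LiesOver 𝔭]
    (hsc : ∀ ξ : Ideal B, ∀ _ : ξ.IsPrime, ξ ≤ q →
      Algebra.trdeg (A ⧸ ξ.under A) (B ⧸ ξ) ≤ Algebra.trdeg (A ⧸ 𝔭) (B ⧸ q))
    (hdim : q.height = 𝔭.height) :
    ∃ ξ : Ideal B, ∃ _ : ξ.IsPrime, ξ ∈ minimalPrimes B ∧ ξ ≤ q ∧ (ξ.under A).height = 0 ∧
      Algebra.trdeg (A ⧸ ξ.under A) (B ⧸ ξ) = Algebra.trdeg (A ⧸ 𝔭) (B ⧸ q) := by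
  haveI : IsNoetherianRing B := Algebra.FiniteType.isNoetherianRing A B
  obtain ⟨ξ, hξmin, hξq, hξh⟩ := exists_minimalPrimes_height_eq q
  haveI hξp : ξ.IsPrime := hξmin.1.1
  refine ⟨ξ, hξp, hξmin, hξq, ?_⟩
  have h0 : ξ.under A ≤ 𝔭 := by
    rw [Ideal.over_def q 𝔭]
    exact Ideal.comap_mono hξq
  haveI : (ξ.under A).IsPrime := Ideal.comap_isPrime _ ξ
  have key1 := dim_ineq_rel A B 𝔭 q ξ hξq
  have key2 := hsc ξ hξp hξq
  have h3 := height_add_height_map_mk_le (ξ.under A) 𝔭 h0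
  haveI := isPrime_map_mk ξ q hξq
  haveI := isPrime_map_mk (ξ.under A) 𝔭 h0
  obtain ⟨nq, hnq⟩ := exists_trdeg_nat A B 𝔭 q
  obtain ⟨t, ht⟩ := exists_trdeg_nat A B (ξ.under A) ξ
  obtain ⟨a, ha⟩ := exists_height_nat q
  obtain ⟨b, hb⟩ := exists_height_nat 𝔭
  obtain ⟨d, hd⟩ := exists_height_nat (ξ.under A)
  obtain ⟨e, he⟩ := exists_height_nat (𝔭.map (Ideal.Quotient.mk (ξ.under A)))
  obtain ⟨g, hg⟩ := exists_height_nat (q.map (Ideal.Quotient.mk ξ))
  rw [hg, hnq, he, ht] at key1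
  rw [ht, hnq] at key2
  rw [hd, he, hb] at h3
  rw [ha, hb] at hdim
  rw [hg, ha] at hξh
  rw [hd, ht, hnq]
  have k1 : g + nq ≤ e + t := by exact_mod_cast key1
  have k2 : t ≤ nq := by exact_mod_cast key2
  have k3 : d + e ≤ b := by exact_mod_cast h3
  have k6 : a = b := by exact_mod_cast hdim
  have k7 : g = a := by exact_mod_cast hξh
  constructor
  · have : d = 0 := by omega
    exact_mod_cast this
  · have : t = nq := by omega
    exact_mod_cast this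

end RingD




section RingD

variable (A B : Type u) [CommRing A] [IsNoetherianRing A] [CommRing B] [Algebra A B]
  [Algebra.FiniteType A B]

end RingD

section Fibre3

variable {X Y : Scheme.{u}} (f : X ⟶ Y) [LocallyOfFiniteType f]

/-- Chevalley: the residual transcendence degree of a generization is bounded by the local
dimension of the fibre -/
theorem tr_le_fibreDimAt_of_specializes [IsLocallyNoetherian Y] (z ξ : X) (hsp : ξ ⤳ z) :
    ((tr f ξ : ℕ) : WithBot ℕ∞) ≤ FlatMor.fibreDimAt f z := by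
  obtain ⟨d, hd, O, hzO, hO⟩ := Groth.Agent.Lib.Helper4.Chev2.exists_open_fibreDimAt_le f z
  have hξO : ξ ∈ O := hsp.mem_open O.2 hzO
  have h1 := hO ξ hξO
  rw [hd]
  refine le_trans ?_ h1
  rw [fibreDimAt_eq f ξ]
  have h0 : (0 : WithBot ℕ∞) ≤ ringKrullDim ((f.fiber (f ξ)).presheaf.stalk (f.asFiber ξ)) :=
    ringKrullDim_nonneg_of_nontrivial
  calc ((tr f ξ : ℕ) : WithBot ℕ∞) = 0 + ((tr f ξ : ℕ) : WithBot ℕ∞) := (zero_add _).symm
    _ ≤ _ := add_le_add_left h0 _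

theorem tr_le_tr_of_specializes_of_max [IsLocallyNoetherian Y] (z ξ : X) (hsp : ξ ⤳ z)
    (hmax : ∀ z' : X, f z' = f z → z' ⤳ z → z' = z) : tr f ξ ≤ tr f z := by
  have h1 := tr_le_fibreDimAt_of_specializes f z ξ hsp
  rw [(max_point_facts f z hmax).1] at h1
  exact_mod_cast h1

theorem exists_generic_above' [IsLocallyNoetherian Y] [IrreducibleSpace Y] (z : X)
    (hmax : ∀ z' : X, f z' = f z → z' ⤳ z → z' = z)
    (hdim : ringKrullDim (X.presheaf.stalk z) = ringKrullDim (Y.presheaf.stalk (f z))) :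
    ∃ ξ : X, f ξ = genericPoint Y ∧ ξ ⤳ z ∧ (∀ z' : X, z' ⤳ ξ → z' = ξ) ∧
      tr f ξ = tr f z := by
  obtain ⟨V, hV, hsV, -⟩ := exists_isAffineOpen_mem_and_subset (U := (⊤ : Y.Opens)) (x := f z)
    trivial
  obtain ⟨U, hU, hzU, hUV⟩ := exists_isAffineOpen_mem_and_subset (U := f ⁻¹ᵁ V) (x := z) hsV
  letI alg : Algebra Γ(Y, V) Γ(X, U) := (f.appLE V U hUV).hom.toAlgebra
  haveI : IsNoetherianRing Γ(Y, V) := IsLocallyNoetherian.component_noetherian ⟨V, hV⟩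
  haveI : Algebra.FiniteType Γ(Y, V) Γ(X, U) := LocallyOfFiniteType.finiteType_appLE f hV hU hUV
  haveI : IsNoetherianRing Γ(X, U) := Algebra.FiniteType.isNoetherianRing Γ(Y, V) Γ(X, U)
  haveI hlo := liesOver_chart f hV hU hUV z hzU rfl
  have hdx := ringKrullDim_stalk_eq_height hU z hzU
  have hdy := ringKrullDim_stalk_eq_height hV (f z) (hUV hzU)
  have htrz := tr_chart f hV hU hUV z hzU rfl
  have hηV : genericPoint Y ∈ V := genericPoint_mem_of_mem V (f z) hsV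
  -- transcendence degree at an arbitrary prime of the chart
  have htrξ : ∀ (ξ : Ideal Γ(X, U)) (hξp : ξ.IsPrime),
      Algebra.trdeg (Γ(Y, V) ⧸ ξ.under Γ(Y, V)) (Γ(X, U) ⧸ ξ) =
        ((tr f (hU.fromSpec ⟨ξ, hξp⟩) : ℕ) : Cardinal.{u}) := by
    intro ξ hξp
    have hξU : hU.fromSpec ⟨ξ, hξp⟩ ∈ U := fromSpec_mem hU _
    have hprime : hU.primeIdealOf ⟨hU.fromSpec ⟨ξ, hξp⟩, hξU⟩ = ⟨ξ, hξp⟩ :=
      primeIdealOf_fromSpec hU _
    have hlξ := liesOver_chart f hV hU hUV _ hξU rfl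
    have hbase : (hV.primeIdealOf ⟨f (hU.fromSpec ⟨ξ, hξp⟩), hUV hξU⟩).asIdeal =
        ξ.under Γ(Y, V) := by
      rw [hlξ.over, hprime]
    have h1 := tr_chart f hV hU hUV _ hξU rfl
    have h2 : Algebra.trdeg
        (Γ(Y, V) ⧸ (hV.primeIdealOf ⟨f (hU.fromSpec ⟨ξ, hξp⟩), hUV hξU⟩).asIdeal)
        (Γ(X, U) ⧸ (hU.primeIdealOf ⟨hU.fromSpec ⟨ξ, hξp⟩, hξU⟩).asIdeal) =
        Algebra.trdeg (Γ(Y, V) ⧸ ξ.under Γ(Y, V)) (Γ(X, U) ⧸ ξ) :=
      trdeg_quot_congr _ _ _ _ hbase (congrArg PrimeSpectrum.asIdeal hprime)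
    rw [← h2, h1]
  have hsc : ∀ ξ : Ideal Γ(X, U), ∀ _ : ξ.IsPrime, ξ ≤ (hU.primeIdealOf ⟨z, hzU⟩).asIdeal →
      Algebra.trdeg (Γ(Y, V) ⧸ ξ.under Γ(Y, V)) (Γ(X, U) ⧸ ξ) ≤
        Algebra.trdeg (Γ(Y, V) ⧸ (hV.primeIdealOf ⟨f z, hUV hzU⟩).asIdeal)
          (Γ(X, U) ⧸ (hU.primeIdealOf ⟨z, hzU⟩).asIdeal) := by
    intro ξ hξp hξq
    have hξU : hU.fromSpec ⟨ξ, hξp⟩ ∈ U := fromSpec_mem hU _
    have hprime : hU.primeIdealOf ⟨hU.fromSpec ⟨ξ, hξp⟩, hξU⟩ = ⟨ξ, hξp⟩ :=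
      primeIdealOf_fromSpec hU _
    have hsp : hU.fromSpec ⟨ξ, hξp⟩ ⤳ z := by
      rw [specializes_iff_primeIdealOf_le hU ⟨_, hξU⟩ ⟨z, hzU⟩, hprime]
      exact hξq
    rw [htrξ ξ hξp, htrz]
    exact_mod_cast tr_le_tr_of_specializes_of_max f z _ hsp hmax
  have hdim' : (hU.primeIdealOf ⟨z, hzU⟩).asIdeal.height =
      (hV.primeIdealOf ⟨f z, hUV hzU⟩).asIdeal.height := by
    rw [hdx, hdy] at hdim
    exact_mod_cast hdim
  obtain ⟨ξ, hξp, hξmin, hξq, hξh, hξtr⟩ := exists_minimal_above_of_height_eq' Γ(Y, V) Γ(X, U)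
    (hV.primeIdealOf ⟨f z, hUV hzU⟩).asIdeal (hU.primeIdealOf ⟨z, hzU⟩).asIdeal hsc hdim'
  have hξU : hU.fromSpec ⟨ξ, hξp⟩ ∈ U := fromSpec_mem hU _
  have hprime : hU.primeIdealOf ⟨hU.fromSpec ⟨ξ, hξp⟩, hξU⟩ = ⟨ξ, hξp⟩ :=
    primeIdealOf_fromSpec hU _
  haveI : (ξ.under Γ(Y, V)).IsPrime := Ideal.comap_isPrime _ ξ
  have hunder : ξ.under Γ(Y, V) = (hV.primeIdealOf ⟨genericPoint Y, hηV⟩).asIdeal := by
    have h1 : ξ.under Γ(Y, V) ∈ minimalPrimes Γ(Y, V) := Ideal.height_eq_zero_iff.mp hξh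
    have h2 := primeIdealOf_genericPoint_le hV hηV ⟨ξ.under Γ(Y, V), inferInstance⟩
    exact le_antisymm (h1.2 ⟨(hV.primeIdealOf ⟨genericPoint Y, hηV⟩).isPrime, bot_le⟩ h2) h2
  have hlξ := liesOver_chart f hV hU hUV _ hξU rfl
  have hbase : (hV.primeIdealOf ⟨f (hU.fromSpec ⟨ξ, hξp⟩), hUV hξU⟩).asIdeal =
      ξ.under Γ(Y, V) := by
    rw [hlξ.over, hprime]
  have hfξ : f (hU.fromSpec ⟨ξ, hξp⟩) = genericPoint Y := by
    have h2 : hV.primeIdealOf ⟨f (hU.fromSpec ⟨ξ, hξp⟩), hUV hξU⟩ =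
        hV.primeIdealOf ⟨genericPoint Y, hηV⟩ := by
      apply PrimeSpectrum.ext
      rw [hbase, hunder]
    exact congrArg Subtype.val (primeIdealOf_injective' hV h2)
  refine ⟨hU.fromSpec ⟨ξ, hξp⟩, hfξ, ?_, ?_, ?_⟩
  · rw [specializes_iff_primeIdealOf_le hU ⟨_, hξU⟩ ⟨z, hzU⟩, hprime]
    exact hξq
  · intro z' hz'
    have hz'U : z' ∈ U := hz'.mem_open U.2 hξU
    have h1 := (specializes_iff_primeIdealOf_le hU ⟨z', hz'U⟩ ⟨_, hξU⟩).mp hz'
    rw [hprime] at h1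
    have h2 : ξ ≤ (hU.primeIdealOf ⟨z', hz'U⟩).asIdeal :=
      hξmin.2 ⟨(hU.primeIdealOf ⟨z', hz'U⟩).isPrime, bot_le⟩ h1
    have h3 : hU.primeIdealOf ⟨z', hz'U⟩ = hU.primeIdealOf ⟨hU.fromSpec ⟨ξ, hξp⟩, hξU⟩ := by
      rw [hprime]
      exact PrimeSpectrum.ext (le_antisymm h1 h2)
    exact congrArg Subtype.val (primeIdealOf_injective' hU h3)
  · have h1 := htrξ ξ hξp
    rw [hξtr, htrz] at h1
    exact_mod_cast h1.symm

end Fibre3




section Fibre4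

variable {X Y : Scheme.{u}} (f : X ⟶ Y) [LocallyOfFiniteType f]

/-- at a maximal point of a fibre where `f` is open, the local rings have the same dimension -/
theorem stalk_dim_eq_of_isOpenAt_of_max [IsLocallyNoetherian Y] (z : X)
    (hmax : ∀ z' : X, f z' = f z → z' ⤳ z → z' = z) (hop : EGA43.IsOpenAt f.base z) :
    ringKrullDim (X.presheaf.stalk z) = ringKrullDim (Y.presheaf.stalk (f z)) := by
  haveI : IsLocallyNoetherian X := LocallyOfFiniteType.isLocallyNoetherian f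
  apply le_antisymm (max_point_facts f z hmax).2
  exact Groth.Agent.Lib.Helper4.OpenAt1.stalk_dim_le_of_isOpenAt f z
    ((isMax_fib_iff f z).mpr hmax) hop

theorem exists_generic_above_of_isOpenAt [IsLocallyNoetherian Y] [IrreducibleSpace Y] (z : X)
    (hmax : ∀ z' : X, f z' = f z → z' ⤳ z → z' = z) (hop : EGA43.IsOpenAt f.base z) :
    ∃ ξ : X, f ξ = genericPoint Y ∧ ξ ⤳ z ∧ (∀ z' : X, z' ⤳ ξ → z' = ξ) ∧
      tr f ξ = tr f z :=
  exists_generic_above' f z hmax (stalk_dim_eq_of_isOpenAt_of_max f z hmax hop)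

theorem S4920_main [IrreducibleSpace Y] [IsLocallyNoetherian Y] (y : Y)
    (h : ∀ x : X, f.base x = y → EGA43.IsOpenAt f.base x) :
    letI E : Y → Set (WithBot ℕ∞) := fun z =>
      (fun Z : Set ↥(f.fiber z) => topologicalKrullDim ↥Z) '' irreducibleComponents ↥(f.fiber z)
    E y ⊆ E (genericPoint Y) ∧
      topologicalKrullDim ↥(f.fiber y) ≤ topologicalKrullDim ↥(f.fiber (genericPoint Y)) := by
  have hcore : ∀ z : X, f z = y → (∀ z' : X, f z' = y → z' ⤳ z → z' = z) →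
      ∃ ξ : X, f ξ = genericPoint Y ∧ ξ ⤳ z ∧ (∀ z' : X, z' ⤳ ξ → z' = ξ) ∧
        tr f ξ = tr f z := by
    intro z hz hmax
    subst hz
    exact exists_generic_above_of_isOpenAt f z hmax (h z rfl)
  constructor
  · intro d hd
    rw [mem_compDims_iff] at hd ⊢
    obtain ⟨z, hz, hmax, rfl⟩ := hd
    obtain ⟨ξ, hfξ, -, hξmax, htr⟩ := hcore z hz hmax
    exact ⟨ξ, hfξ, fun z' _ h => hξmax z' h, by rw [htr]⟩
  · rw [topologicalKrullDim_fiber_eq, topologicalKrullDim_fiber_eq]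
    unfold Order.krullDim
    refine iSup_le fun p => ?_
    obtain ⟨zm, hzm, hmaxm⟩ := exists_isMax_ge_fib f y p.last
    have hmax : ∀ z' : X, f z' = y → z' ⤳ zm.1 → z' = zm.1 := by
      intro z' hz' hsp
      have h1 : zm ≤ ⟨z', hz'⟩ := hsp
      have h2 : zm.1 ⤳ z' := hmaxm h1
      exact (hsp.antisymm h2).eq
    obtain ⟨ξ, hfξ, -, -, htr⟩ := hcore zm.1 zm.2 hmax
    have h1 := tr_add_length_le f y p
    have h2 : tr f p.last.1 ≤ tr f zm.1 :=
      tr_le_of_specializes f zm.1 p.last.1 hzm (zm.2.trans p.last.2.symm)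
    obtain ⟨-, -, -, -, h3⟩ := exists_closed_pt f ξ
    rw [krullDim_fib_congr f _ _ hfξ] at h3
    have h4 : p.length ≤ tr f ξ := by omega
    have h5 : ((p.length : ℕ) : WithBot ℕ∞) ≤ ((tr f ξ : ℕ) : WithBot ℕ∞) := by
      exact_mod_cast h4
    exact h5.trans h3

end Fibre4


end Groth.Agent.Lib.Helper4.Chev5
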