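import Mathlib
import Groth.Prelude.Def_BlowUp2
import Groth.Prelude.Def_Flat
import Groth.Agent.Lib.Helper4.EffCartier

/-!
# local dimension drops on an effective Cartier divisor (S1686) (helper4)
-/

set_option backward.isDefEq.respectTransparency.types false
set_option synthInstance.maxHeartbeats 400000
set_option autoImplicit false
set_option linter.unusedSectionVars false
set_option linter.style.haveILetI false
set_option linter.unusedSimpArgs false
universe u v w
open CategoryTheory CategoryTheory.Limits AlgebraicGeometry TopologicalSpace IsLocalRing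

namespace Groth.Agent.Lib.Helper4.EffCartierDim1

theorem dim_image_eq {A B : Type*} [TopologicalSpace A] [TopologicalSpace B] {e : A → B}
    (he : Topology.IsEmbedding e) (s : Set A) :
    topologicalKrullDim s = topologicalKrullDim (e '' s) :=
  IsHomeomorph.topologicalKrullDim_eq _ (he.homeomorphImage s).isHomeomorph

theorem dim_range_eq {A B : Type*} [TopologicalSpace A] [TopologicalSpace B] {e : A → B}
    (he : Topology.IsEmbedding e) :
    topologicalKrullDim A = topologicalKrullDim (Set.range e) :=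
  IsHomeomorph.topologicalKrullDim_eq _ he.toHomeomorph.isHomeomorph

theorem dim_mono {A : Type*} [TopologicalSpace A] {s t : Set A} (h : s ⊆ t) :
    topologicalKrullDim s ≤ topologicalKrullDim t :=
  (Topology.IsEmbedding.inclusion h).isInducing.topologicalKrullDim_le

theorem dim_zeroLocus {R : Type*} [CommRing R] (I : Ideal R) :
    topologicalKrullDim (PrimeSpectrum.zeroLocus (I : Set R)) = ringKrullDim (R ⧸ I) := by
  rw [← PrimeSpectrum.topologicalKrullDim_eq_ringKrullDim]
  have he : Topology.IsClosedEmbedding (PrimeSpectrum.comap (Ideal.Quotient.mk I)) :=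
    PrimeSpectrum.isClosedEmbedding_comap_of_surjective _ _ Ideal.Quotient.mk_surjective
  rw [dim_range_eq he.isEmbedding, range_comap_of_surjective _ _ Ideal.Quotient.mk_surjective,
    Ideal.mk_ker]

theorem arith (m n : WithBot ℕ∞) (hn : n ≠ ⊤) (h : m + 1 ≤ n) (h0 : 0 ≤ n) : m < n := by
  induction m with
  | bot => exact lt_of_lt_of_le (WithBot.bot_lt_coe 0) h0
  | coe a =>
    induction n with
    | bot => simp at h0
    | coe b =>
      have hb : b ≠ ⊤ := fun hb => hn (by rw [hb]; rfl)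
      have h' : a + 1 ≤ b := by exact_mod_cast h
      have ha : a ≠ ⊤ := by
        rintro rfl
        simp at h'
        exact hb h'
      exact_mod_cast (ENat.add_one_le_iff ha).mp h'

theorem S1686_main (S : Scheme.{u}) (𝓘 : S.IdealSheafData) (h𝓘 : BlowUp.IsEffCartierIdeal 𝓘)
    (d : ↥𝓘.subscheme)
    (hfin : FlatMor.localDim ↥S (𝓘.subschemeι d) ≠ ⊤) :
    FlatMor.localDim ↥𝓘.subscheme d < FlatMor.localDim ↥S (𝓘.subschemeι d) := by
  set x := 𝓘.subschemeι d with hx
  obtain ⟨⟨W, hxW⟩, hW⟩ : ∃ W : {U : Opens S // x ∈ U},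
      topologicalKrullDim (W.1 : Set S) = FlatMor.localDim S x := by
    have : Nonempty {U : Opens S // x ∈ U} := ⟨⟨⊤, trivial⟩⟩
    exact ciInf_mem (fun U : {U : Opens S // x ∈ U} => topologicalKrullDim (U.1 : Set S))
  obtain ⟨U, hxU, hUW, f, hf, hI⟩ := Groth.Agent.Helper4.EffCartier.shrink h𝓘 x W hxW
  have hdimU : topologicalKrullDim (U.1 : Set S) = FlatMor.localDim S x := by
    apply le_antisymm
    · rw [← hW]; exact dim_mono hUW
    · exact iInf_le (fun U : {U : Opens S // x ∈ U} => topologicalKrullDim (U.1 : Set S)) ⟨U.1, hxU⟩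
  have h1 : topologicalKrullDim (U.1 : Set S) = ringKrullDim Γ(S, U.1) := by
    rw [← PrimeSpectrum.topologicalKrullDim_eq_ringKrullDim, ← U.2.range_fromSpec]
    exact (dim_range_eq U.2.fromSpec.isOpenEmbedding.isEmbedding).symm
  have h2 : topologicalKrullDim ((𝓘.subschemeι ⁻¹ᵁ U.1 : Opens 𝓘.subscheme) : Set 𝓘.subscheme) =
      ringKrullDim (Γ(S, U.1) ⧸ 𝓘.ideal U) := by
    rw [dim_image_eq 𝓘.subschemeι.isEmbedding, ← dim_zeroLocus]
    have e1 := dim_image_eq U.2.fromSpec.isOpenEmbedding.isEmbedding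
        (PrimeSpectrum.zeroLocus ((𝓘.ideal U : Ideal Γ(S, U.1)) : Set Γ(S, U.1)))
    refine Eq.trans ?_ e1.symm
    rw [U.2.fromSpec_image_zeroLocus, ← 𝓘.coe_support_inter U]
    have hset : 𝓘.subschemeι '' ((𝓘.subschemeι ⁻¹ᵁ U.1 : Opens 𝓘.subscheme) : Set 𝓘.subscheme) =
        (𝓘.support : Set S) ∩ U.1 := by
      rw [Scheme.Hom.coe_preimage, Set.image_preimage_eq_inter_range, 𝓘.range_subschemeι,
        Set.inter_comm]
    rw [hset]
  have h3 : ringKrullDim (Γ(S, U.1) ⧸ 𝓘.ideal U) + 1 ≤ ringKrullDim Γ(S, U.1) := by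
    rw [hI]
    exact ringKrullDim_quotient_succ_le_of_nonZeroDivisor hf
  have h4 : FlatMor.localDim 𝓘.subscheme d ≤ ringKrullDim (Γ(S, U.1) ⧸ 𝓘.ideal U) := by
    rw [← h2]
    exact iInf_le (fun V : {V : Opens 𝓘.subscheme // d ∈ V} => topologicalKrullDim (V.1 : Set 𝓘.subscheme))
      ⟨𝓘.subschemeι ⁻¹ᵁ U.1, hxU⟩
  have h5 : (0 : WithBot ℕ∞) ≤ ringKrullDim Γ(S, U.1) := by
    haveI : Nonempty U.1 := ⟨⟨x, hxU⟩⟩
    haveI : Nontrivial Γ(S, U.1) := Scheme.component_nontrivial S U.1
    exact ringKrullDim_nonneg_of_nontrivial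
  rw [← hdimU, h1]
  rw [← hdimU, h1] at hfin
  refine lt_of_le_of_lt h4 ?_
  exact arith _ _ hfin h3 h5

end Groth.Agent.Lib.Helper4.EffCartierDim1
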