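import Mathlib
import Groth.Prelude.Def_Cyc
import Groth.Prelude.Def_EGA43
import Groth.Agent.Lib.Helper4.JacDim1
import Groth.Agent.Lib.Helper4.FibreStalkDim1
import Groth.Agent.Lib.Helper4.DimFT1
import Groth.Agent.Lib.Helper4.DimFT2
import Groth.Agent.Lib.Helper4.FibDim7
import Groth.Agent.Lib.Helper4.EffCartierDim1
import Groth.Agent.Lib.Helper4.Chev5

/-!
# Irreducible components dominating the base through maximal points of fibres (EGA IV 14.2, S3393) (helper4)
-/

set_option backward.isDefEq.respectTransparency.types false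
set_option synthInstance.maxHeartbeats 400000
set_option autoImplicit false
set_option linter.unusedSectionVars false
set_option linter.style.haveILetI false
set_option linter.unusedSimpArgs false
universe u v w
open CategoryTheory CategoryTheory.Limits AlgebraicGeometry TopologicalSpace IsLocalRing Opposite
open Cardinal
open Groth.Agent.Lib.Helper4.DimIneq1 Groth.Agent.Lib.Helper4.DimFT2 Groth.Agent.Lib.Helper4.Catenary1
open Groth.Agent.Lib.Helper4.DimEq1 Groth.Agent.Lib.Helper4.DimIneq2 Groth.Agent.Lib.Helper4.DimEq2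
open Groth.Agent.Lib.Helper4.DimIneq3 Groth.Agent.Lib.Helper4.DimIneq4
open Groth.Agent.Lib.Helper4.NormFibre2 Groth.Agent.Lib.Helper4.RadBir3 Groth.Agent.Lib.Helper4.DimFT3
open Groth.Agent.Lib.Helper4.FibDim1 Groth.Agent.Lib.Helper4.FibDim2 Groth.Agent.Lib.Helper4.LocUC1
open Groth.Agent.Lib.Helper4.FibDim3 Groth.Agent.Lib.Helper4.FibDim4 Groth.Agent.Lib.Helper4.FibDim5
open Groth.Agent.Lib.Helper4.FibDim6 Groth.Agent.Lib.Helper4.FibDim7 Groth.Agent.Lib.Helper4.JacDim1
open Groth.Agent.Lib.Helper4.DimFT1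
open Groth.Agent.Lib.Helper4.Chev5

namespace Groth.Agent.Lib.Helper4.Chev6


section Fibre5

variable {X Y : Scheme.{u}} (f : X ⟶ Y) [LocallyOfFiniteType f]

/-- the dimension of the part of the closure of a point lying in its fibre -/
theorem dim_closure_inter_fiber [IsLocallyNoetherian Y] (ξ : X) (y' : Y) (hξ : f ξ = y') :
    topologicalKrullDim ↥(closure ({ξ} : Set X) ∩ f.base ⁻¹' {y'}) =
      ((tr f ξ : ℕ) : WithBot ℕ∞) := by
  let w : f.fiber y' := (fibOrderIso f y').symm ⟨ξ, hξ⟩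
  have hw : f.fiberι y' w = ξ := congrArg Subtype.val ((fibOrderIso f y').apply_symm_apply ⟨ξ, hξ⟩)
  have hemb : Topology.IsEmbedding (f.fiberι y') := (f.fiberι y').isEmbedding
  have himg : closure ({ξ} : Set X) ∩ f.base ⁻¹' {y'} = f.fiberι y' '' closure ({w} : Set _) := by
    ext x'
    constructor
    · rintro ⟨hx'1, hx'2⟩
      refine ⟨(fibOrderIso f y').symm ⟨x', hx'2⟩, ?_, ?_⟩
      · rw [hemb.closure_eq_preimage_closure_image, Set.image_singleton, hw]
        change f.fiberι y' ((fibOrderIso f y').symm ⟨x', hx'2⟩) ∈ closure {ξ}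
        have : f.fiberι y' ((fibOrderIso f y').symm ⟨x', hx'2⟩) = x' :=
          congrArg Subtype.val ((fibOrderIso f y').apply_symm_apply ⟨x', hx'2⟩)
        rw [this]
        exact hx'1
      · exact congrArg Subtype.val ((fibOrderIso f y').apply_symm_apply ⟨x', hx'2⟩)
    · rintro ⟨a, ha, rfl⟩
      refine ⟨?_, fiberι_mem f y' a⟩
      rw [hemb.closure_eq_preimage_closure_image, Set.image_singleton, hw] at ha
      exact ha
  rw [himg, ← Groth.Agent.Lib.Helper4.EffCartierDim1.dim_image_eq hemb,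
    dim_closure_singleton (f.fiber y') w, ← Order.height_orderIso (fibOrderIso f y') w]
  have : (fibOrderIso f y') w = ⟨ξ, hξ⟩ := (fibOrderIso f y').apply_symm_apply _
  rw [this, height_fib_eq' f y' ξ hξ]
  rfl

/-- the closure of a maximal point is an irreducible component -/
theorem closure_mem_irreducibleComponents_of_max (ξ : X) (hmax : ∀ z' : X, z' ⤳ ξ → z' = ξ) :
    closure ({ξ} : Set X) ∈ irreducibleComponents X := by
  apply closure_mem_irreducibleComponents_of_isMax X ξ
  intro b hb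
  have hb' : b ⤳ ξ := hb
  rw [hmax b hb']

end Fibre5




section Fibre6

variable {X Y : Scheme.{u}} (f : X ⟶ Y) [LocallyOfFiniteType f]

/-- universally catenary base local ring: a generization over the generic point with the same
residual transcendence degree forces the stalk dimension to be at least that of the base -/
theorem stalk_dim_ge_of_tr_eq [IsLocallyNoetherian Y] [IrreducibleSpace Y] (z ξ : X)
    (hsp : ξ ⤳ z) (hη : f ξ = genericPoint Y) (htr : tr f ξ = tr f z)
    (hcat : CAlg.IsUniversallyCatenary (Y.presheaf.stalk (f z))) :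
    ringKrullDim (Y.presheaf.stalk (f z)) ≤ ringKrullDim (X.presheaf.stalk z) := by
  obtain ⟨V, hV, hsV, -⟩ := exists_isAffineOpen_mem_and_subset (U := (⊤ : Y.Opens)) (x := f z)
    trivial
  obtain ⟨U, hU, hzU, hUV⟩ := exists_isAffineOpen_mem_and_subset (U := f ⁻¹ᵁ V) (x := z) hsV
  letI alg : Algebra Γ(Y, V) Γ(X, U) := (f.appLE V U hUV).hom.toAlgebra
  haveI : IsNoetherianRing Γ(Y, V) := IsLocallyNoetherian.component_noetherian ⟨V, hV⟩
  haveI : Algebra.FiniteType Γ(Y, V) Γ(X, U) := LocallyOfFiniteType.finiteType_appLE f hV hU hUV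
  haveI : IsNoetherianRing Γ(X, U) := Algebra.FiniteType.isNoetherianRing Γ(Y, V) Γ(X, U)
  have hξU : ξ ∈ U := hsp.mem_open U.2 hzU
  haveI hlo := liesOver_chart f hV hU hUV z hzU rfl
  haveI hloξ := liesOver_chart f hV hU hUV ξ hξU rfl
  have hQq : (hU.primeIdealOf ⟨ξ, hξU⟩).asIdeal ≤ (hU.primeIdealOf ⟨z, hzU⟩).asIdeal :=
    (specializes_iff_primeIdealOf_le hU ⟨ξ, hξU⟩ ⟨z, hzU⟩).mp hsp
  have hloc := isUniversallyCatenary_chart hV (f z) (hUV hzU) hcat
  have key := dim_eq_rel_of_local Γ(Y, V) Γ(X, U) (hV.primeIdealOf ⟨f z, hUV hzU⟩).asIdeal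
    (hU.primeIdealOf ⟨z, hzU⟩).asIdeal (hU.primeIdealOf ⟨ξ, hξU⟩).asIdeal hQq hloc
  rw [tr_chart f hV hU hUV z hzU rfl] at key
  have h1 : Algebra.trdeg
      (Γ(Y, V) ⧸ (hU.primeIdealOf ⟨ξ, hξU⟩).asIdeal.under Γ(Y, V))
      (Γ(X, U) ⧸ (hU.primeIdealOf ⟨ξ, hξU⟩).asIdeal) =
      (tr f ξ : Cardinal.{u}) := by
    rw [← tr_chart f hV hU hUV ξ hξU rfl]
    exact trdeg_quot_congr _ _ _ _ hloξ.over.symm rfl
  rw [h1] at key
  have hηV : genericPoint Y ∈ V := genericPoint_mem_of_mem V (f z) hsV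
  have h2 : (hU.primeIdealOf ⟨ξ, hξU⟩).asIdeal.under Γ(Y, V) =
      (hV.primeIdealOf ⟨genericPoint Y, hηV⟩).asIdeal := by
    rw [← hloξ.over]
    congr 2
    exact Subtype.ext hη
  have hbot : ∀ P : PrimeSpectrum Γ(Y, V),
      (hU.primeIdealOf ⟨ξ, hξU⟩).asIdeal.under Γ(Y, V) ≤ P.asIdeal := by
    intro P
    rw [h2]
    exact primeIdealOf_genericPoint_le hV hηV P
  haveI : ((hU.primeIdealOf ⟨ξ, hξU⟩).asIdeal.under Γ(Y, V)).IsPrime :=
    Ideal.comap_isPrime _ _
  rw [height_map_mk_of_forall_le _ _ hbot] at key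
  have h3 := height_map_mk_le (hU.primeIdealOf ⟨ξ, hξU⟩).asIdeal
    (hU.primeIdealOf ⟨z, hzU⟩).asIdeal hQq
  rw [ringKrullDim_stalk_eq_height hU z hzU, ringKrullDim_stalk_eq_height hV (f z) (hUV hzU)]
  haveI := isPrime_map_mk (hU.primeIdealOf ⟨ξ, hξU⟩).asIdeal (hU.primeIdealOf ⟨z, hzU⟩).asIdeal hQq
  obtain ⟨c₀, hc₀⟩ := ENat.ne_top_iff_exists.mp (Ideal.height_ne_top
    (I := (hU.primeIdealOf ⟨z, hzU⟩).asIdeal) (Ideal.IsPrime.ne_top inferInstance))
  obtain ⟨m₀, hm₀⟩ := ENat.ne_top_iff_exists.mp (Ideal.height_ne_top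
    (I := (hV.primeIdealOf ⟨f z, hUV hzU⟩).asIdeal) (Ideal.IsPrime.ne_top inferInstance))
  obtain ⟨g₀, hg₀⟩ := exists_height_nat ((hU.primeIdealOf ⟨z, hzU⟩).asIdeal.map
    (Ideal.Quotient.mk (hU.primeIdealOf ⟨ξ, hξU⟩).asIdeal))
  rw [hg₀, ← hm₀] at key
  rw [hg₀, ← hc₀] at h3
  rw [← hc₀, ← hm₀]
  have k1 : g₀ + tr f z = m₀ + tr f ξ := by
    have : ((g₀ + tr f z : ℕ) : Cardinal.{u}) = ((m₀ + tr f ξ : ℕ) : Cardinal.{u}) := by
      push_cast
      simpa using key
    exact_mod_cast this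
  have k2 : g₀ ≤ c₀ := by exact_mod_cast h3
  have : m₀ ≤ c₀ := by omega
  exact_mod_cast this

end Fibre6




section Fibre7

variable {X Y : Scheme.{u}} (f : X ⟶ Y) [LocallyOfFiniteType f]

theorem max_of_stalk_fiber_dim_zero (z : X)
    (h0 : ringKrullDim ((f.fiber (f.base z)).presheaf.stalk (f.asFiber z)) = 0) :
    ∀ z' : X, f z' = f z → z' ⤳ z → z' = z :=
  (isMax_fib_iff f z).mp ((stalk_fiber_dim_eq_zero_iff f z).mp h0)

theorem S3393_main [IrreducibleSpace Y] [IsLocallyNoetherian Y] (y : Y) :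
    ((∀ z : X, f.base z = y → ringKrullDim ((f.fiber (f.base z)).presheaf.stalk (f.asFiber z)) = 0 →
        ringKrullDim (X.presheaf.stalk z) = ringKrullDim (Y.presheaf.stalk (f.base z))) →
      (∀ z : X, f.base z = y → ringKrullDim ((f.fiber (f.base z)).presheaf.stalk (f.asFiber z)) = 0 →
        ∃ X' ∈ irreducibleComponents (X : Type u), z ∈ X' ∧
          topologicalKrullDim ↥(X' ∩ f.base ⁻¹' {genericPoint Y}) = FlatMor.fibreDimAt f z)) ∧
    (CAlg.IsUniversallyCatenary (Y.presheaf.stalk y) →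
      (∀ z : X, f.base z = y → ringKrullDim ((f.fiber (f.base z)).presheaf.stalk (f.asFiber z)) = 0 →
        ∃ X' ∈ irreducibleComponents (X : Type u), z ∈ X' ∧
          topologicalKrullDim ↥(X' ∩ f.base ⁻¹' {genericPoint Y}) = FlatMor.fibreDimAt f z) →
      (∀ z : X, f.base z = y → ringKrullDim ((f.fiber (f.base z)).presheaf.stalk (f.asFiber z)) = 0 →
        ringKrullDim (X.presheaf.stalk z) = ringKrullDim (Y.presheaf.stalk (f.base z)))) := by
  constructor
  · intro hb z hz h0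
    have hmax := max_of_stalk_fiber_dim_zero f z h0
    obtain ⟨ξ, hfξ, hsp, hξmax, htr⟩ := exists_generic_above' f z hmax (hb z hz h0)
    refine ⟨closure {ξ}, closure_mem_irreducibleComponents_of_max ξ hξmax, hsp.mem_closure, ?_⟩
    rw [dim_closure_inter_fiber f ξ (genericPoint Y) hfξ, (max_point_facts f z hmax).1, htr]
  · intro hcat hc z hz h0
    have hmax := max_of_stalk_fiber_dim_zero f z h0
    obtain ⟨X', hX', hzX', hdimX'⟩ := hc z hz h0
    rw [(max_point_facts f z hmax).1] at hdimX'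
    have hirr : IsIrreducible X' := hX'.1
    have hcl : IsClosed X' := isClosed_of_mem_irreducibleComponents X' hX'
    have hgen : IsGenericPoint hirr.genericPoint X' := hirr.isGenericPoint_genericPoint hcl
    have hsp : hirr.genericPoint ⤳ z := hgen.specializes hzX'
    -- the generic fibre of X' is nonempty
    have hne : (0 : WithBot ℕ∞) ≤ topologicalKrullDim ↥(X' ∩ f.base ⁻¹' {genericPoint Y}) := by
      rw [hdimX']
      exact_mod_cast Nat.zero_le _
    obtain ⟨⟨w, hwX', hwη⟩, -⟩ := Groth.Agent.Lib.Helper4.Chev3.exists_le_localDim_of_le_dim 0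
      (by exact_mod_cast hne)
    have hfξ : f hirr.genericPoint = genericPoint Y := by
      have h1 : hirr.genericPoint ⤳ w := hgen.specializes hwX'
      have h2 : f hirr.genericPoint ⤳ f w := h1.map f.continuous
      have hwη' : f w = genericPoint Y := hwη
      rw [hwη'] at h2
      have h3 : genericPoint Y ⤳ f hirr.genericPoint :=
        (genericPoint_spec Y).specializes (Set.mem_univ _)
      exact (h2.antisymm h3).eq
    have hd := dim_closure_inter_fiber f hirr.genericPoint (genericPoint Y) hfξ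
    rw [hgen.def, hdimX'] at hd
    have htr : tr f hirr.genericPoint = tr f z := by exact_mod_cast hd.symm
    apply le_antisymm (max_point_facts f z hmax).2
    apply stalk_dim_ge_of_tr_eq f z hirr.genericPoint hsp hfξ htr
    have hz' : f z = y := hz
    rw [hz']
    exact hcat

end Fibre7


end Groth.Agent.Lib.Helper4.Chev6
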