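import Mathlib
import Groth.Prelude.Def_Cyc
import Groth.Prelude.Def_EGA43
import Groth.Agent.Lib.Helper4.JacDim1
import Groth.Agent.Lib.Helper4.FibreStalkDim1
import Groth.Agent.Lib.Helper4.DimFT1
import Groth.Agent.Lib.Helper4.DimFT2
import Groth.Agent.Lib.Helper4.FibDim7
import Groth.Agent.Lib.Helper4.EffCartierDim1
import Groth.Agent.Lib.Helper4.Chev6

/-!
# Equidimensionality at a point of an irreducible scheme from openness at the generic points of the fibre components (S4917) (helper4)
-/

set_option backward.isDefEq.respectTransparency.types false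
set_option synthInstance.maxHeartbeats 400000
set_option autoImplicit false
set_option linter.unusedSectionVars false
set_option linter.style.haveILetI false
set_option linter.unusedSimpArgs false
universe u v w
open CategoryTheory CategoryTheory.Limits AlgebraicGeometry TopologicalSpace IsLocalRing Opposite
open Cardinal
open Groth.Agent.Lib.Helper4.DimIneq1 Groth.Agent.Lib.Helper4.DimFT2 Groth.Agent.Lib.Helper4.Catenary1
open Groth.Agent.Lib.Helper4.DimEq1 Groth.Agent.Lib.Helper4.DimIneq2 Groth.Agent.Lib.Helper4.DimEq2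
open Groth.Agent.Lib.Helper4.DimIneq3 Groth.Agent.Lib.Helper4.DimIneq4
open Groth.Agent.Lib.Helper4.NormFibre2 Groth.Agent.Lib.Helper4.RadBir3 Groth.Agent.Lib.Helper4.DimFT3
open Groth.Agent.Lib.Helper4.FibDim1 Groth.Agent.Lib.Helper4.FibDim2 Groth.Agent.Lib.Helper4.LocUC1
open Groth.Agent.Lib.Helper4.FibDim3 Groth.Agent.Lib.Helper4.FibDim4 Groth.Agent.Lib.Helper4.FibDim5
open Groth.Agent.Lib.Helper4.FibDim6 Groth.Agent.Lib.Helper4.FibDim7 Groth.Agent.Lib.Helper4.JacDim1
open Groth.Agent.Lib.Helper4.DimFT1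
open Groth.Agent.Lib.Helper4.Chev5 Groth.Agent.Lib.Helper4.Chev6

namespace Groth.Agent.Lib.Helper4.Chev8


section Fibre8

variable {X Y : Scheme.{u}} (f : X ⟶ Y) [LocallyOfFiniteType f]

/-- the residual transcendence degree of an open immersion vanishes -/
theorem tr_openImmersion {U X : Scheme.{u}} (j : U ⟶ X) [IsOpenImmersion j] (z : U) :
    tr j z = 0 := by
  apply tr_eq_of_trdeg_eq j z 0
  letI alg : Algebra (X.residueField (j.base z)) (U.residueField z) :=
    (j.residueFieldMap z).hom.toAlgebra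
  have hbij : Function.Bijective (algebraMap (X.residueField (j.base z)) (U.residueField z)) :=
    ConcreteCategory.bijective_of_isIso (j.residueFieldMap z)
  haveI : Algebra.IsAlgebraic (X.residueField (j.base z)) (U.residueField z) :=
    ⟨fun a => by
      obtain ⟨r, rfl⟩ := hbij.2 a
      exact isAlgebraic_algebraMap r⟩
  rw [trdeg_eq_zero]
  simp

/-- the residual transcendence degree is unchanged by restriction to an open subscheme -/
theorem tr_restrict (U : X.Opens) (z : ↥U) : tr (U.ι ≫ f) z = tr f (U.ι.base z) := by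
  rw [tr_comp U.ι f z, tr_openImmersion U.ι z, add_zero]

end Fibre8




section Fibre9

variable {X Y : Scheme.{u}} (f : X ⟶ Y) [LocallyOfFiniteType f]

/-- the local dimension of the fibre is bounded by the residual transcendence degrees of the
maximal points of the fibre generizing the point -/
theorem fibreDimAt_le_of_max_tr_le [IsLocallyNoetherian Y] (x : X) (E : ℕ)
    (h : ∀ z : X, f z = f x → z ⤳ x → (∀ z' : X, f z' = f z → z' ⤳ z → z' = z) → tr f z ≤ E) :
    FlatMor.fibreDimAt f x ≤ (E : WithBot ℕ∞) := by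
  rw [fibreDimAt_eq f x, stalk_fiber_dim]
  have key : ∀ p : LTSeries {z : X // f z = f x}, p.head = ⟨x, rfl⟩ →
      p.length + tr f x ≤ E := by
    intro p hp
    obtain ⟨zm, hzm, hmaxm⟩ := exists_isMax_ge_fib f (f x) p.last
    have hmax : ∀ z' : X, f z' = f zm.1 → z' ⤳ zm.1 → z' = zm.1 := by
      intro z' hz' hsp
      have h1 : zm ≤ ⟨z', hz'.trans zm.2⟩ := hsp
      have h2 : zm.1 ⤳ z' := hmaxm h1
      exact (hsp.antisymm h2).eq
    have h1 := tr_add_length_le f (f x) p
    rw [hp] at h1
    change tr f x + p.length ≤ tr f p.last.1 at h1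
    have h2 : tr f p.last.1 ≤ tr f zm.1 :=
      tr_le_of_specializes f zm.1 p.last.1 hzm (zm.2.trans p.last.2.symm)
    have hle : (⟨x, rfl⟩ : {z : X // f z = f x}) ≤ zm := by
      rw [← hp]
      exact p.head_le_last.trans hzm
    have hsp : zm.1 ⤳ x := hle
    have h3 := h zm.1 zm.2 hsp hmax
    omega
  have h6 : Order.coheight (⟨x, rfl⟩ : {z : X // f z = f x}) ≤ ((E - tr f x : ℕ) : ℕ∞) := by
    rw [Order.coheight_le_iff']
    intro p hp
    have := key p hp
    have h7 : p.length ≤ E - tr f x := by omega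
    exact_mod_cast h7
  have h0 := key (RelSeries.singleton _ ⟨x, rfl⟩) rfl
  have h8 : tr f x ≤ E := by
    change 0 + tr f x ≤ E at h0
    omega
  have h9 : (Order.coheight (⟨x, rfl⟩ : {z : X // f z = f x}) : ℕ∞) + (tr f x : ℕ∞) ≤ (E : ℕ∞) := by
    calc (Order.coheight (⟨x, rfl⟩ : {z : X // f z = f x}) : ℕ∞) + (tr f x : ℕ∞)
        ≤ ((E - tr f x : ℕ) : ℕ∞) + (tr f x : ℕ∞) := add_le_add_left h6 _
      _ = (E : ℕ∞) := by
          have : E - tr f x + tr f x = E := by omega
          exact_mod_cast this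
  have := WithBot.coe_le_coe.mpr h9
  push_cast at this
  exact this

/-- the target of a dominant morphism from an irreducible scheme is irreducible -/
theorem irreducibleSpace_of_isDominant {X Y : Scheme.{u}} [IrreducibleSpace X] (f : X ⟶ Y)
    [IsDominant f] : IrreducibleSpace Y := by
  rw [irreducibleSpace_def]
  have h1 : IsIrreducible (Set.range f.base) := by
    rw [← Set.image_univ]
    exact (IrreducibleSpace.isIrreducible_univ X).image f.base f.continuous.continuousOn
  have h2 := h1.closure
  rw [f.denseRange.closure_range] at h2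
  exact h2

end Fibre9




section Fibre10

variable {X Y : Scheme.{u}} (f : X ⟶ Y) [LocallyOfFiniteType f]

/-- reformulation of the openness hypothesis at the generic points of the irreducible components
of the fibre through `x` -/
theorem isOpenAt_of_fiber_hyp (x : X)
    (h : ∀ z : ↥(f.fiber (f.base x)), f.asFiber x ∈ closure {z} →
      (∀ z' : ↥(f.fiber (f.base x)), z ∈ closure {z'} → z' = z) →
      EGA43.IsOpenAt f.base ((f.fiberι (f.base x)).base z))
    (z₁ : X) (hz₁ : f z₁ = f x) (hsp : z₁ ⤳ x)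
    (hmax : ∀ z' : X, f z' = f z₁ → z' ⤳ z₁ → z' = z₁) : EGA43.IsOpenAt f.base z₁ := by
  let z : f.fiber (f x) := (fibOrderIso f (f x)).symm ⟨z₁, hz₁⟩
  have hz : f.fiberι (f x) z = z₁ :=
    congrArg Subtype.val ((fibOrderIso f (f x)).apply_symm_apply ⟨z₁, hz₁⟩)
  have hind := (f.fiberι (f x)).isEmbedding.isInducing
  have h1 : f.asFiber x ∈ closure ({z} : Set _) := by
    rw [← specializes_iff_mem_closure, ← hind.specializes_iff, hz, f.fiberι_asFiber]
    exact hsp
  have h2 : ∀ z' : ↥(f.fiber (f.base x)), z ∈ closure {z'} → z' = z := by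
    intro z' hz'
    rw [← specializes_iff_mem_closure, ← hind.specializes_iff, hz] at hz'
    have h3 : f (f.fiberι (f x) z') = f z₁ := (fiberι_mem f (f x) z').trans hz₁.symm
    have h4 := hmax _ h3 hz'
    apply (f.fiberι (f x)).isEmbedding.injective
    rw [h4, hz]
  have := h z h1 h2
  rw [hz] at this
  exact this

theorem S4917_main [IsLocallyNoetherian Y] [IrreducibleSpace X] [IsDominant f] (x : X)
    (h : ∀ z : ↥(f.fiber (f.base x)), f.asFiber x ∈ closure {z} →
      (∀ z' : ↥(f.fiber (f.base x)), z ∈ closure {z'} → z' = z) →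
      EGA43.IsOpenAt f.base ((f.fiberι (f.base x)).base z)) :
    EGA43.IsEquidimAt f x := by
  haveI : IrreducibleSpace Y := irreducibleSpace_of_isDominant f
  have hη : f (genericPoint X) = genericPoint Y :=
    Groth.Agent.Lib.Helper4.CurveTop1.map_genericPoint_of_isDominant f
  have hgen : ∀ x' : X, genericPoint X ⤳ x' := fun x' =>
    (genericPoint_spec X).specializes (Set.mem_univ _)
  -- all maximal points of the fibre above x have residual transcendence degree e
  have hle : FlatMor.fibreDimAt f x ≤ ((tr f (genericPoint X) : ℕ) : WithBot ℕ∞) := by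
    apply fibreDimAt_le_of_max_tr_le
    intro z₁ hz₁ hsp hmax
    have hop := isOpenAt_of_fiber_hyp f x h z₁ hz₁ hsp hmax
    obtain ⟨ξ', -, -, hξ'max, htr⟩ := exists_generic_above_of_isOpenAt f z₁ hmax hop
    have : genericPoint X = ξ' := hξ'max _ (hgen ξ')
    rw [← htr, this]
  let U : X.Opens := ⟨{x' : X | FlatMor.fibreDimAt f x' ≤ ((tr f (genericPoint X) : ℕ) : WithBot ℕ∞)},
    Groth.Agent.Lib.Helper4.Chev2.S0402_main f _⟩
  have hxU : x ∈ U := hle
  have hξU : genericPoint X ∈ U :=
    ((genericPoint_spec X).mem_open_set_iff U.2).mpr ⟨x, Set.mem_univ _, hxU⟩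
  haveI : Nonempty ↥(U : Scheme.{u}) := ⟨⟨x, hxU⟩⟩
  haveI hirrU : IrreducibleSpace ↥(U : Scheme.{u}) := U.ι.isOpenEmbedding.irreducibleSpace
  haveI hirrU' : IrreducibleSpace (↥U : Type u) := hirrU
  refine ⟨tr f (genericPoint X), U, hxU, ?_, ?_⟩
  · intro Z hZ
    rw [irreducibleComponents_eq_singleton, Set.mem_singleton_iff] at hZ
    refine ⟨Set.univ, ?_, Set.mem_univ _, ?_⟩
    · rw [irreducibleComponents_eq_singleton]
      exact Set.mem_singleton _
    · rw [Set.eq_univ_iff_forall]
      intro y
      let ξU : ↥(U : Scheme.{u}) := ⟨genericPoint X, hξU⟩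
      have h1 : (U.ι ≫ f).base ξU ∈ (U.ι ≫ f).base '' Z := by
        rw [hZ]
        exact Set.mem_image_of_mem _ (Set.mem_univ _)
      have h2 : (U.ι ≫ f).base ξU = genericPoint Y := hη
      rw [h2] at h1
      have h3 : y ∈ closure ({genericPoint Y} : Set Y) := by
        rw [(genericPoint_spec Y).def]
        exact Set.mem_univ _
      exact closure_mono (Set.singleton_subset_iff.mpr h1) h3
  · intro x' Z hZ
    have hmem : topologicalKrullDim ↥Z ∈
        (fun Z : Set ↥((U.ι ≫ f).fiber ((U.ι ≫ f).base x')) => topologicalKrullDim ↥Z) ''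
          irreducibleComponents ↥((U.ι ≫ f).fiber ((U.ι ≫ f).base x')) := ⟨Z, hZ, rfl⟩
    rw [mem_compDims_iff] at hmem
    obtain ⟨z', hz', hmax', hd⟩ := hmem
    rw [hd, tr_restrict f U z']
    -- z'.1 is maximal in its f-fibre
    have hmaxf : ∀ w : X, f w = f z'.1 → w ⤳ z'.1 → w = z'.1 := by
      intro w hw hsp
      have hwU : w ∈ U := hsp.mem_open U.2 z'.2
      let w' : ↥(U : Scheme.{u}) := ⟨w, hwU⟩
      have h1 : w' ⤳ z' := by
        rw [← U.ι.isOpenEmbedding.isInducing.specializes_iff]
        exact hsp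
      have h2 : (U.ι ≫ f) w' = (U.ι ≫ f) x' := by
        change f w = _
        rw [hw, ← hz']
        rfl
      have h3 := hmax' w' h2 h1
      exact congrArg Subtype.val h3
    have h4 := (max_point_facts f z'.1 hmaxf).1
    have h5 : FlatMor.fibreDimAt f z'.1 ≤ ((tr f (genericPoint X) : ℕ) : WithBot ℕ∞) := z'.2
    have h6 := tr_le_fibreDimAt_of_specializes f z'.1 (genericPoint X) (hgen _)
    rw [h4] at h5 h6
    have : tr f z'.1 = tr f (genericPoint X) := by
      apply le_antisymm
      · exact_mod_cast h5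
      · exact_mod_cast h6
    change ((tr f z'.1 : ℕ) : WithBot ℕ∞) = _
    rw [this]

end Fibre10


end Groth.Agent.Lib.Helper4.Chev8
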