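import Mathlib
import Groth.Prelude.Def_Cyc
import Groth.Agent.Lib.Helper4.JacDim1

/-!
# Jacobson schemes with dimension function: delta = dim closure (S6462) (helper4)
-/

set_option backward.isDefEq.respectTransparency.types false
set_option synthInstance.maxHeartbeats 400000
set_option autoImplicit false
set_option linter.unusedSectionVars false
set_option linter.style.haveILetI false
set_option linter.unusedSimpArgs false
universe u v w
open CategoryTheory CategoryTheory.Limits AlgebraicGeometry TopologicalSpace IsLocalRing Opposite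
open Cardinal
open Groth.Agent.Lib.Helper4.DimIneq1 Groth.Agent.Lib.Helper4.DimFT2 Groth.Agent.Lib.Helper4.Catenary1
open Groth.Agent.Lib.Helper4.DimEq1 Groth.Agent.Lib.Helper4.DimIneq2 Groth.Agent.Lib.Helper4.DimEq2
open Groth.Agent.Lib.Helper4.DimIneq3 Groth.Agent.Lib.Helper4.DimIneq4
open Groth.Agent.Lib.Helper4.NormFibre2 Groth.Agent.Lib.Helper4.RadBir3 Groth.Agent.Lib.Helper4.DimFT3
open Groth.Agent.Lib.Helper4.FibDim1 Groth.Agent.Lib.Helper4.FibDim2 Groth.Agent.Lib.Helper4.LocUC1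
open Groth.Agent.Lib.Helper4.FibDim3 Groth.Agent.Lib.Helper4.FibDim4 Groth.Agent.Lib.Helper4.FibDim5
open Groth.Agent.Lib.Helper4.FibDim6 Groth.Agent.Lib.Helper4.FibDim7 Groth.Agent.Lib.Helper4.JacDim1

namespace Groth.Agent.Lib.Helper4.CycJac1


theorem exists_closed_specializes {X : Type*} [TopologicalSpace X] [JacobsonSpace X] (x : X) :
    ∃ z : X, IsClosed ({z} : Set X) ∧ x ⤳ z := by
  have h := JacobsonSpace.closure_inter_closedPoints (X := X) (Z := closure {x}) isClosed_closure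
  have hne : (closure ({x} : Set X) ∩ closedPoints X).Nonempty := by
    by_contra hcon
    rw [Set.not_nonempty_iff_eq_empty] at hcon
    rw [hcon, closure_empty] at h
    have : x ∈ closure ({x} : Set X) := subset_closure rfl
    rw [← h] at this
    exact this
  obtain ⟨z, hz1, hz2⟩ := hne
  exact ⟨z, hz2, specializes_iff_mem_closure.mpr hz1⟩

theorem length_le_delta {X : Scheme.{u}} (δ : X → ℤ) (hδ : Cyc.IsDimFun X δ) (p : LTSeries X) :
    (p.length : ℤ) ≤ δ p.last - δ p.head := by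
  have key : ∀ i : Fin (p.length + 1), ((i : ℕ) : ℤ) ≤ δ (p i) - δ p.head := by
    intro i
    induction i using Fin.induction with
    | zero =>
      change ((0 : ℕ) : ℤ) ≤ δ (p 0) - δ (p 0)
      simp
    | succ i ih =>
      have hlt : p i.castSucc < p i.succ := p.step i
      have hsp : p i.succ ⤳ p i.castSucc := hlt.le
      have hne : p i.succ ≠ p i.castSucc := fun h => by
        rw [h] at hlt
        exact lt_irrefl _ hlt
      have h := (hδ _ _ hsp hne).1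
      rw [Fin.val_succ]
      have : (i.castSucc : ℕ) = (i : ℕ) := rfl
      rw [this] at ih
      push_cast
      linarith
  have := key (Fin.last _)
  rwa [Fin.val_last] at this

theorem delta_nonneg {X : Scheme.{u}} [JacobsonSpace X] (δ : X → ℤ) (hδ : Cyc.IsDimFun X δ)
    (h0 : ∀ x : X, IsClosed ({x} : Set X) → δ x = 0) (x : X) : 0 ≤ δ x := by
  obtain ⟨z, hz, hxz⟩ := exists_closed_specializes x
  by_cases hne : x = z
  · rw [hne, h0 z hz]
  · have := (hδ x z hxz hne).1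
    rw [h0 z hz] at this
    exact this.le

theorem height_le_delta {X : Scheme.{u}} [JacobsonSpace X] (δ : X → ℤ) (hδ : Cyc.IsDimFun X δ)
    (h0 : ∀ x : X, IsClosed ({x} : Set X) → δ x = 0) (ξ : X) :
    Order.height ξ ≤ ((δ ξ).toNat : ℕ∞) := by
  apply Order.height_le
  intro p hp
  have h1 := length_le_delta δ hδ p
  have h2 := delta_nonneg δ hδ h0 p.head
  rw [hp] at h1
  have : p.length ≤ (δ ξ).toNat := by omega
  exact_mod_cast this




theorem height_Ici_orderIso {α β : Type*} [Preorder α] [Preorder β] (e : α ≃o β) (a b : α)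
    (hab : a ≤ b) :
    Order.height (⟨b, hab⟩ : Set.Ici a) =
      Order.height (⟨e b, e.monotone hab⟩ : Set.Ici (e a)) := by
  refine Order.height_eq_of_strictMono
    (fun w : Set.Ici a => (⟨e w.1, e.monotone w.2⟩ : Set.Ici (e a)))
    (fun x y h => e.strictMono h) ?_ ⟨b, hab⟩
  intro x y hy
  refine ⟨⟨e.symm y.1, ?_⟩, ?_, ?_⟩
  · have : e a ≤ y.1 := y.2
    have h2 := e.symm.monotone this
    rwa [OrderIso.symm_apply_apply] at h2
  · have : y.1 < e x.1 := hy
    have h2 := e.symm.strictMono this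
    rw [OrderIso.symm_apply_apply] at h2
    exact h2
  · apply Subtype.ext
    simp

theorem height_Ici_congr {α : Type*} [Preorder α] (a a' b b' : α) (hab : a ≤ b) (ha : a = a')
    (hb : b = b') :
    Order.height (⟨b, hab⟩ : Set.Ici a) = Order.height (⟨b', ha ▸ hb ▸ hab⟩ : Set.Ici a') := by
  subst ha
  subst hb
  rfl

/-- ring lemma: dimension of a quotient of a localisation at a prime -/
theorem ringKrullDim_quot_atPrime {R A : Type u} [CommRing R] [CommRing A] [Algebra R A]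
    (𝔭 : Ideal R) [h𝔭 : 𝔭.IsPrime] [IsLocalization.AtPrime A 𝔭] (𝔮 : Ideal A) [h𝔮 : 𝔮.IsPrime] :
    ringKrullDim (A ⧸ 𝔮) =
      (((𝔭.map (Ideal.Quotient.mk (𝔮.comap (algebraMap R A)))).height : ℕ∞) : WithBot ℕ∞) := by
  haveI : IsLocalRing A := IsLocalization.AtPrime.isLocalRing A 𝔭
  haveI hcp : (𝔮.comap (algebraMap R A)).IsPrime := Ideal.comap_isPrime _ _
  have hle : 𝔮 ≤ maximalIdeal A := IsLocalRing.le_maximalIdeal h𝔮.ne_top
  have hle' : 𝔮.comap (algebraMap R A) ≤ 𝔭 := by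
    have := Ideal.comap_mono (f := algebraMap R A) hle
    have h2 : (maximalIdeal A).comap (algebraMap R A) = 𝔭 :=
      IsLocalization.AtPrime.under_maximalIdeal A 𝔭
    rwa [h2] at this
  haveI : Nontrivial (A ⧸ 𝔮) := Ideal.Quotient.nontrivial_iff.mpr h𝔮.ne_top
  haveI : IsLocalRing (A ⧸ 𝔮) :=
    IsLocalRing.of_surjective' (Ideal.Quotient.mk 𝔮) Ideal.Quotient.mk_surjective
  have hmax : maximalIdeal (A ⧸ 𝔮) = (maximalIdeal A).map (Ideal.Quotient.mk 𝔮) := by
    have hm : ((maximalIdeal A).map (Ideal.Quotient.mk 𝔮)).IsMaximal := by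
      refine Ideal.IsMaximal.map_of_surjective_of_ker_le Ideal.Quotient.mk_surjective ?_
      rw [Ideal.mk_ker]
      exact hle
    exact (IsLocalRing.eq_maximalIdeal hm).symm
  rw [← IsLocalRing.maximalIdeal_height_eq_ringKrullDim, hmax,
    ← height_Ici_eq 𝔮 (maximalIdeal A) hle, ← height_Ici_eq _ 𝔭 hle']
  congr 1
  rw [height_Ici_orderIso (IsLocalization.AtPrime.primeSpectrumOrderIso A 𝔭) ⟨𝔮, h𝔮⟩
    ⟨maximalIdeal A, inferInstance⟩ hle]
  have e1 : (IsLocalization.AtPrime.primeSpectrumOrderIso A 𝔭) ⟨𝔮, h𝔮⟩ =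
      ⟨⟨𝔮.comap (algebraMap R A), hcp⟩, hle'⟩ := rfl
  have e2 : (IsLocalization.AtPrime.primeSpectrumOrderIso A 𝔭) ⟨maximalIdeal A, inferInstance⟩ =
      ⟨⟨𝔭, h𝔭⟩, Set.mem_Iic.mpr le_rfl⟩ := by
    apply Subtype.ext
    apply PrimeSpectrum.ext
    exact IsLocalization.AtPrime.under_maximalIdeal A 𝔭
  rw [height_Ici_congr _ _ _ _ _ e1 e2]
  exact height_Ici_Iic_eq (⟨𝔭, h𝔭⟩ : PrimeSpectrum R) ⟨𝔮.comap (algebraMap R A), hcp⟩ ⟨𝔭, h𝔭⟩
    hle' le_rfl




theorem comap_ker_specMap {X : Scheme.{u}} {V : X.Opens} (hV : IsAffineOpen V) (z ξ : X)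
    (h : ξ ⤳ z) (hz : z ∈ V) (hξ : ξ ∈ V) :
    (RingHom.ker (Cyc.specMap z ξ h)).comap (X.presheaf.germ V z hz).hom =
      (hV.primeIdealOf ⟨ξ, hξ⟩).asIdeal := by
  rw [hV.primeIdealOf_eq_map_closedPoint ⟨ξ, hξ⟩]
  ext a
  rw [Ideal.mem_comap, RingHom.mem_ker]
  change (X.presheaf.stalkSpecializes h ≫ X.residue ξ).hom ((X.presheaf.germ V z hz).hom a) = 0 ↔
    (X.presheaf.germ V ξ hξ).hom a ∈ maximalIdeal (X.presheaf.stalk ξ)
  have e : (X.presheaf.stalkSpecializes h ≫ X.residue ξ).hom ((X.presheaf.germ V z hz).hom a) =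
      (X.residue ξ).hom ((X.presheaf.germ V ξ hξ).hom a) := by
    rw [← TopCat.Presheaf.germ_stalkSpecializes (F := X.presheaf) (U := V) hz h]
    rfl
  rw [e]
  exact IsLocalRing.residue_eq_zero_iff _




/-- chart computation: δ ξ - δ z is the height of 𝔭_z / 𝔭_ξ -/
theorem delta_sub_eq {X : Scheme.{u}} [IsLocallyNoetherian X] (δ : X → ℤ) (hδ : Cyc.IsDimFun X δ)
    {V : X.Opens} (hV : IsAffineOpen V) (z ξ : X) (h : ξ ⤳ z) (hz : z ∈ V) (hξ : ξ ∈ V) :
    ∃ m : ℕ, ((hV.primeIdealOf ⟨z, hz⟩).asIdeal.map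
        (Ideal.Quotient.mk (hV.primeIdealOf ⟨ξ, hξ⟩).asIdeal)).height = (m : ℕ∞) ∧
      δ ξ - δ z = m := by
  haveI : IsNoetherianRing Γ(X, V) := IsLocallyNoetherian.component_noetherian ⟨V, hV⟩
  have hle : hV.primeIdealOf ⟨ξ, hξ⟩ ≤ hV.primeIdealOf ⟨z, hz⟩ :=
    (specializes_iff_primeIdealOf_le hV ⟨ξ, hξ⟩ ⟨z, hz⟩).mp h
  haveI : ((hV.primeIdealOf ⟨z, hz⟩).asIdeal.map
        (Ideal.Quotient.mk (hV.primeIdealOf ⟨ξ, hξ⟩).asIdeal)).IsPrime :=
    isPrime_map_mk _ _ hle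
  obtain ⟨m, hm⟩ := exists_height_nat ((hV.primeIdealOf ⟨z, hz⟩).asIdeal.map
        (Ideal.Quotient.mk (hV.primeIdealOf ⟨ξ, hξ⟩).asIdeal))
  refine ⟨m, hm, ?_⟩
  have key := delta_sub_eq_height (fun P : PrimeSpectrum Γ(X, V) => δ (hV.fromSpec P))
    (fun a b hab => delta_chart δ hδ hV a b hab) (hV.primeIdealOf ⟨ξ, hξ⟩)
    (hV.primeIdealOf ⟨z, hz⟩) hle m (by
      rw [← hm]
      exact height_Ici_eq _ _ hle)
  simp only [hV.fromSpec_primeIdealOf] at key
  exact key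




theorem S6462_main (X : Scheme.{u}) [JacobsonSpace X] (δ : X → ℤ) (hX : Cyc.IsSetup X δ)
    (h0 : ∀ x : X, IsClosed ({x} : Set X) → δ x = 0) (ξ : X) :
    (topologicalKrullDim ↥(closure ({ξ} : Set X)) = ((δ ξ).toNat : WithBot ℕ∞) ∧ 0 ≤ δ ξ) ∧
      ∀ (z : X) (h : ξ ⤳ z), IsClosed ({z} : Set X) →
        ringKrullDim (Cyc.LocQuot z ξ h) = ((δ ξ).toNat : WithBot ℕ∞) := by
  obtain ⟨hN, hUC, hδ⟩ := hX
  haveI := hN
  have key : ∀ (z : X) (h : ξ ⤳ z), IsClosed ({z} : Set X) → ∀ (V : X.Opens)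
      (hV : IsAffineOpen V) (hz : z ∈ V) (hξ : ξ ∈ V),
      ((hV.primeIdealOf ⟨z, hz⟩).asIdeal.map
        (Ideal.Quotient.mk (hV.primeIdealOf ⟨ξ, hξ⟩).asIdeal)).height = ((δ ξ).toNat : ℕ∞) := by
    intro z h hzc V hV hz hξ
    obtain ⟨m, hm1, hm2⟩ := delta_sub_eq δ hδ hV z ξ h hz hξ
    rw [h0 z hzc] at hm2
    rw [hm1]
    have : (δ ξ).toNat = m := by omega
    rw [this]
  refine ⟨⟨?_, delta_nonneg δ hδ h0 ξ⟩, ?_⟩
  · rw [dim_closure_singleton X ξ]
    apply le_antisymm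
    · exact_mod_cast height_le_delta δ hδ h0 ξ
    · obtain ⟨z, hzc, h⟩ := exists_closed_specializes ξ
      obtain ⟨V, hV, hzV, -⟩ := exists_isAffineOpen_mem_and_subset (U := (⊤ : X.Opens)) (x := z)
        trivial
      have hξV : ξ ∈ V := h.mem_open V.2 hzV
      have h1 := dim_genIn_eq hV ξ z hzV hξV h
      rw [key z h hzc V hV hzV hξV] at h1
      rw [← dim_closure_singleton X ξ]
      have h3 : ((δ ξ).toNat : WithBot ℕ∞) = (((δ ξ).toNat : ℕ∞) : WithBot ℕ∞) := rfl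
      rw [h3, ← h1]
      exact Groth.Agent.Lib.Helper4.DimFT2.topologicalKrullDim_mono (fun t ht => ht.1)
  · intro z h hzc
    obtain ⟨V, hV, hzV, -⟩ := exists_isAffineOpen_mem_and_subset (U := (⊤ : X.Opens)) (x := z)
      trivial
    have hξV : ξ ∈ V := h.mem_open V.2 hzV
    letI := X.presheaf.algebra_section_stalk (U := V) ⟨z, hzV⟩
    haveI := hV.isLocalization_stalk ⟨z, hzV⟩
    haveI : (RingHom.ker (Cyc.specMap z ξ h)).IsPrime := RingHom.ker_isPrime _
    have h1 := ringKrullDim_quot_atPrime (R := Γ(X, V)) (A := X.presheaf.stalk z)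
      (hV.primeIdealOf ⟨z, hzV⟩).asIdeal (RingHom.ker (Cyc.specMap z ξ h))
    have h2 : (RingHom.ker (Cyc.specMap z ξ h)).comap
        (algebraMap Γ(X, V) (X.presheaf.stalk z)) = (hV.primeIdealOf ⟨ξ, hξV⟩).asIdeal :=
      comap_ker_specMap hV z ξ h hzV hξV
    rw [height_map_mk_congr _ _ _ h2, key z h hzc V hV hzV hξV] at h1
    exact h1


end Groth.Agent.Lib.Helper4.CycJac1
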