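import Mathlib
import Groth.Prelude.Def_Cyc
import Groth.Agent.Lib.Helper4.JacDim1
import Groth.Agent.Lib.Helper4.CycJac1

/-!
# Local dimension of closed subsets of Jacobson universally catenary equidimensional schemes (S4888) (helper4)
-/

set_option backward.isDefEq.respectTransparency.types false
set_option synthInstance.maxHeartbeats 400000
set_option autoImplicit false
set_option linter.unusedSectionVars false
set_option linter.style.haveILetI false
set_option linter.unusedSimpArgs false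
universe u v w
open CategoryTheory CategoryTheory.Limits AlgebraicGeometry TopologicalSpace IsLocalRing Opposite
open Cardinal
open Groth.Agent.Lib.Helper4.DimIneq1 Groth.Agent.Lib.Helper4.DimFT2 Groth.Agent.Lib.Helper4.Catenary1
open Groth.Agent.Lib.Helper4.DimEq1 Groth.Agent.Lib.Helper4.DimIneq2 Groth.Agent.Lib.Helper4.DimEq2
open Groth.Agent.Lib.Helper4.DimIneq3 Groth.Agent.Lib.Helper4.DimIneq4
open Groth.Agent.Lib.Helper4.NormFibre2 Groth.Agent.Lib.Helper4.RadBir3 Groth.Agent.Lib.Helper4.DimFT3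
open Groth.Agent.Lib.Helper4.FibDim1 Groth.Agent.Lib.Helper4.FibDim2 Groth.Agent.Lib.Helper4.LocUC1
open Groth.Agent.Lib.Helper4.FibDim3 Groth.Agent.Lib.Helper4.FibDim4 Groth.Agent.Lib.Helper4.FibDim5
open Groth.Agent.Lib.Helper4.FibDim6 Groth.Agent.Lib.Helper4.FibDim7 Groth.Agent.Lib.Helper4.JacDim1
open Groth.Agent.Lib.Helper4.CycJac1

namespace Groth.Agent.Lib.Helper4.JacDim4


/-- for a quasi-sober subspace of a scheme, the topological Krull dimension is the Krull dimension
of the specialization preorder restricted to the subspace -/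
theorem tdim_eq_krullDim {X : Scheme.{u}} (S : Set X) [QuasiSober ↥S] :
    topologicalKrullDim ↥S = Order.krullDim ↥S := by
  rw [Groth.Agent.Helper4.GM.topologicalKrullDim_eq_krullDim_specialization]
  have e : @OrderIso ↥S ↥S (specializationOrder ↥S).toPreorder.toLE inferInstance :=
    ⟨Equiv.refl _, by
      intro a b
      change a.1 ≤ b.1 ↔ b ⤳ a
      rw [← Topology.IsInducing.subtypeVal.specializes_iff]
      rfl⟩
  exact @Order.krullDim_eq_of_orderIso _ _ (specializationOrder ↥S).toPreorder _ e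

/-- bounding the dimension of a quasi-sober subspace by the dimensions of closures of points -/
theorem tdim_le_of_forall {X : Scheme.{u}} (S : Set X) [QuasiSober ↥S] (D : WithBot ℕ∞)
    (h : ∀ t ∈ S, ∃ σ : X, σ ⤳ t ∧ topologicalKrullDim ↥(closure ({σ} : Set X)) ≤ D) :
    topologicalKrullDim ↥S ≤ D := by
  rw [tdim_eq_krullDim]
  unfold Order.krullDim
  apply iSup_le
  intro p
  obtain ⟨σ, hσ, hD⟩ := h p.last.1 p.last.2
  refine le_trans ?_ hD
  rw [dim_closure_singleton X σ]
  have h1 : Order.height p.last.1 ≤ Order.height σ := Order.height_mono (show p.last.1 ≤ σ from hσ)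
  have h2 : (p.length : ℕ∞) ≤ Order.height p.last.1 := by
    have := Order.length_le_height_last (p := p.map (fun a : ↥S => a.1) (fun a b hab => hab))
    simpa using this
  exact_mod_cast h2.trans h1




/-- lifting a chain of points to a subset containing all its members -/
theorem length_le_krullDim_of_mem {α : Type*} [Preorder α] (S : Set α) (p : LTSeries α)
    (h : ∀ i, p i ∈ S) : (p.length : WithBot ℕ∞) ≤ Order.krullDim ↥S := by
  let q : LTSeries ↥S := ⟨p.length, fun i => ⟨p i, h i⟩, fun i => p.step i⟩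
  exact Order.LTSeries.length_le_krullDim q

/-- K1: in a Jacobson equidimensional universally catenary scheme, the dimension of the closure of a
point equals the codimension of any of its closed points -/
theorem dim_closure_eq_genIn {S : Scheme.{u}} [IsLocallyNoetherian S] [JacobsonSpace S]
    (h2 : ∀ s : S, CAlg.IsUniversallyCatenary (S.presheaf.stalk s))
    (h3 : ∀ S' ∈ irreducibleComponents (S : Type u), ∀ s ∈ S', IsClosed ({s} : Set S) →
      topologicalKrullDim (↥S' : Type u) = topologicalKrullDim ↥{t : S | t ∈ S' ∧ t ⤳ s})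
    (σ s₀ : S) (h : σ ⤳ s₀) (hc : IsClosed ({s₀} : Set S)) :
    topologicalKrullDim ↥(closure ({σ} : Set S)) =
      topologicalKrullDim ↥{t : S | t ∈ closure ({σ} : Set S) ∧ t ⤳ s₀} := by
  apply le_antisymm
  · rw [dim_closure_singleton S σ]
    obtain ⟨a, b, -, hb, -⟩ := genIn_add σ σ s₀ specializes_rfl h (h2 s₀)
    rw [hb]
    have key : Order.height σ ≤ (b : ℕ∞) := by
      apply Order.height_le
      intro p hp
      obtain ⟨z, hzc, hz⟩ := exists_closed_specializes p.head
      have hσz : σ ⤳ z := by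
        have : p.head ≤ p.last := p.head_le_last
        rw [hp] at this
        exact Specializes.trans this hz
      have e := genIn_const h2 h3 σ z s₀ hσz h hzc hc
      rw [hb] at e
      haveI : QuasiSober ↥{t : S | t ∈ closure ({σ} : Set S) ∧ t ⤳ z} :=
        quasiSober_gen _ isClosed_closure z
      rw [tdim_eq_krullDim] at e
      have h4 : (p.length : WithBot ℕ∞) ≤
          Order.krullDim ↥{t : S | t ∈ closure ({σ} : Set S) ∧ t ⤳ z} := by
        apply length_le_krullDim_of_mem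
        intro i
        constructor
        · have : p i ≤ p.last := p.monotone (Fin.le_last i)
          rw [hp] at this
          exact Specializes.mem_closure this
        · have : p.head ≤ p i := p.monotone (Fin.zero_le i)
          exact Specializes.trans this hz
      rw [e] at h4
      exact_mod_cast h4
    exact_mod_cast key
  · exact Groth.Agent.Lib.Helper4.DimFT2.topologicalKrullDim_mono (fun t ht => ht.1)




section K

variable {S : Scheme.{u}} [IsLocallyNoetherian S] [JacobsonSpace S]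
    (h2 : ∀ s : S, CAlg.IsUniversallyCatenary (S.presheaf.stalk s))
    (h3 : ∀ S' ∈ irreducibleComponents (S : Type u), ∀ s ∈ S', IsClosed ({s} : Set S) →
      topologicalKrullDim (↥S' : Type u) = topologicalKrullDim ↥{t : S | t ∈ S' ∧ t ⤳ s})

include h2 h3

/-- K2 -/
theorem dim_closure_add (σ x : S) (h : σ ⤳ x) :
    ∃ a b : ℕ, topologicalKrullDim ↥(closure ({x} : Set S)) = a ∧
      topologicalKrullDim ↥{t : S | t ∈ closure ({σ} : Set S) ∧ t ⤳ x} = b ∧
      topologicalKrullDim ↥(closure ({σ} : Set S)) = ((b + a : ℕ) : WithBot ℕ∞) := by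
  obtain ⟨s₀, hc, hx⟩ := exists_closed_specializes x
  obtain ⟨a, b, ha, hb, hab⟩ := genIn_add σ x s₀ h hx (h2 s₀)
  refine ⟨b, a, ?_, ha, ?_⟩
  · rw [dim_closure_eq_genIn h2 h3 x s₀ hx hc, hb]
  · rw [dim_closure_eq_genIn h2 h3 σ s₀ (h.trans hx) hc, hab]

/-- K3 -/
theorem dim_inter_closure (W : Set S) (hW : IsOpen W) (σ x : S) (h : σ ⤳ x) (hx : x ∈ W) :
    topologicalKrullDim ↥(W ∩ closure ({σ} : Set S)) =
      topologicalKrullDim ↥(closure ({σ} : Set S)) := by
  apply le_antisymm
  · exact Groth.Agent.Lib.Helper4.DimFT2.topologicalKrullDim_mono Set.inter_subset_right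
  · obtain ⟨s₀, hs₀mem, hs₀c⟩ := nonempty_inter_closedPoints (Z := W ∩ closure ({x} : Set S))
      ⟨x, hx, subset_closure (Set.mem_singleton x)⟩
      (hW.isLocallyClosed.inter isClosed_closure.isLocallyClosed)
    have hxs : x ⤳ s₀ := specializes_iff_mem_closure.mpr hs₀mem.2
    rw [dim_closure_eq_genIn h2 h3 σ s₀ (h.trans hxs) hs₀c]
    apply Groth.Agent.Lib.Helper4.DimFT2.topologicalKrullDim_mono
    intro t ht
    exact ⟨ht.2.mem_open hW hs₀mem.1, ht.1⟩

end K




/-- local finiteness of irreducible components: a point of a closed subset of a locally Noetherian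
scheme has a neighbourhood all of whose points (in the closed subset) have a common generization
with the point -/
theorem exists_nhd_common_gen (X : Scheme.{u}) [IsLocallyNoetherian X] (Y : Set X)
    (hY : IsClosed Y) (x : X) (hx : x ∈ Y) :
    ∃ W : Set X, IsOpen W ∧ x ∈ W ∧ ∀ t ∈ W ∩ Y, ∃ σ ∈ Y, σ ⤳ t ∧ σ ⤳ x := by
  obtain ⟨W₀, hW₀, hxW₀, -⟩ := exists_isAffineOpen_mem_and_subset (U := (⊤ : X.Opens)) (x := x)
    trivial
  haveI : IsNoetherianRing Γ(X, W₀) := IsLocallyNoetherian.component_noetherian ⟨W₀, hW₀⟩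
  haveI : NoetherianSpace ↥(W₀ : Set X) := noetherianSpace_of_isAffineOpen W₀ hW₀
  haveI : NoetherianSpace ↥((W₀ : Set X) ∩ Y) :=
    Topology.IsInducing.noetherianSpace
      (Topology.IsEmbedding.inclusion (Set.inter_subset_left : (W₀ : Set X) ∩ Y ⊆ W₀)).isInducing
  haveI : QuasiSober ↥(W₀ : Set X) := W₀.2.isOpenEmbedding_subtypeVal.quasiSober
  haveI : QuasiSober ↥((W₀ : Set X) ∩ Y) :=
    QuasiSober.inter_of_isClosed_of_quasiSober_left (W₀ : Set X) hY
  have hfin : (irreducibleComponents ↥((W₀ : Set X) ∩ Y)).Finite :=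
    TopologicalSpace.NoetherianSpace.finite_irreducibleComponents
  have hFc : IsClosed (⋃ C ∈ {C ∈ irreducibleComponents ↥((W₀ : Set X) ∩ Y) |
      (⟨x, hxW₀, hx⟩ : ↥((W₀ : Set X) ∩ Y)) ∉ C}, C) := by
    apply Set.Finite.isClosed_biUnion (hfin.subset (fun C hC => hC.1))
    intro C hC
    exact isClosed_of_mem_irreducibleComponents C hC.1
  obtain ⟨F', hF'c, hF'⟩ := isClosed_induced_iff.mp hFc
  refine ⟨(W₀ : Set X) ∩ F'ᶜ, W₀.2.inter hF'c.isOpen_compl, ⟨hxW₀, ?_⟩, ?_⟩
  · intro hxF'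
    have : (⟨x, hxW₀, hx⟩ : ↥((W₀ : Set X) ∩ Y)) ∈ Subtype.val ⁻¹' F' := hxF'
    rw [hF'] at this
    simp only [Set.mem_iUnion, Set.mem_ofPred_eq] at this
    obtain ⟨C, hC, hxC⟩ := this
    exact hC.2 hxC
  · rintro t ⟨⟨htW₀, htF'⟩, htY⟩
    have hmem : (⟨x, hxW₀, hx⟩ : ↥((W₀ : Set X) ∩ Y)) ∈
        irreducibleComponent (⟨t, htW₀, htY⟩ : ↥((W₀ : Set X) ∩ Y)) := by
      by_contra hcon
      apply htF'
      have : (⟨t, htW₀, htY⟩ : ↥((W₀ : Set X) ∩ Y)) ∈ Subtype.val ⁻¹' F' := by
        rw [hF']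
        simp only [Set.mem_iUnion, Set.mem_ofPred_eq]
        exact ⟨_, ⟨irreducibleComponent_mem_irreducibleComponents _, hcon⟩, mem_irreducibleComponent⟩
      exact this
    have hirr : IsIrreducible (irreducibleComponent (⟨t, htW₀, htY⟩ : ↥((W₀ : Set X) ∩ Y))) :=
      isIrreducible_irreducibleComponent
    have hgen := hirr.isGenericPoint_genericPoint isClosed_irreducibleComponent
    refine ⟨hirr.genericPoint.1, hirr.genericPoint.2.2, ?_, ?_⟩
    · have : hirr.genericPoint ⤳ (⟨t, htW₀, htY⟩ : ↥((W₀ : Set X) ∩ Y)) :=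
        hgen.specializes mem_irreducibleComponent
      exact this.map continuous_subtype_val
    · have : hirr.genericPoint ⤳ (⟨x, hxW₀, hx⟩ : ↥((W₀ : Set X) ∩ Y)) :=
        hgen.specializes hmem
      exact this.map continuous_subtype_val




/-- a subset of a subspace has the same dimension as its image -/
theorem tdim_image_val {X : Type*} [TopologicalSpace X] (Y : Set X) (S' : Set ↥Y) :
    topologicalKrullDim ↥S' = topologicalKrullDim ↥(Subtype.val '' S' : Set X) := by
  have hemb : Topology.IsEmbedding (fun a : ↥S' => (a.1.1 : X)) :=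
    Topology.IsEmbedding.subtypeVal.comp Topology.IsEmbedding.subtypeVal
  have hrange : Set.range (fun a : ↥S' => (a.1.1 : X)) = Subtype.val '' S' := by
    ext t
    constructor
    · rintro ⟨a, rfl⟩
      exact ⟨a.1, a.2, rfl⟩
    · rintro ⟨b, hb, rfl⟩
      exact ⟨⟨b, hb⟩, rfl⟩
  have e1 := IsHomeomorph.topologicalKrullDim_eq _ hemb.toHomeomorph.isHomeomorph
  rw [e1]
  have e2 := IsHomeomorph.topologicalKrullDim_eq _ (Homeomorph.setCongr hrange).isHomeomorph
  exact e2




theorem nat_add_krullDim_le {α : Type*} [Preorder α] [Nonempty α] (a : ℕ) (D : WithBot ℕ∞)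
    (h : ∀ p : LTSeries α, ((a + p.length : ℕ) : WithBot ℕ∞) ≤ D) :
    (a : WithBot ℕ∞) + Order.krullDim α ≤ D := by
  rw [Order.krullDim_eq_iSup_length]
  induction D using WithBot.recBotCoe with
  | bot =>
    exfalso
    have h1 := h (RelSeries.singleton _ (Classical.arbitrary α))
    rw [le_bot_iff] at h1
    exact WithBot.coe_ne_bot h1
  | coe D' =>
    have : (a : ℕ∞) + ⨆ (p : LTSeries α), (p.length : ℕ∞) ≤ D' := by
      rw [ENat.add_iSup]
      apply iSup_le
      intro p
      have := h p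
      exact_mod_cast this
    exact_mod_cast this




section K

variable {S : Scheme.{u}} [IsLocallyNoetherian S] [JacobsonSpace S]
    (h2 : ∀ s : S, CAlg.IsUniversallyCatenary (S.presheaf.stalk s))
    (h3 : ∀ S' ∈ irreducibleComponents (S : Type u), ∀ s ∈ S', IsClosed ({s} : Set S) →
      topologicalKrullDim (↥S' : Type u) = topologicalKrullDim ↥{t : S | t ∈ S' ∧ t ⤳ s})

end K

section Main

variable {X : Scheme.{u}} [IsLocallyNoetherian X] [JacobsonSpace X]
    (h2 : ∀ s : X, CAlg.IsUniversallyCatenary (X.presheaf.stalk s))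
    (h3 : ∀ S' ∈ irreducibleComponents (X : Type u), ∀ s ∈ S', IsClosed ({s} : Set X) →
      topologicalKrullDim (↥S' : Type u) = topologicalKrullDim ↥{t : X | t ∈ S' ∧ t ⤳ s})
    (Y : Set X) (hY : IsClosed Y) (x : X) (hx : x ∈ Y)

include h2 h3 hY in
theorem DD_le_inter (W : Set X) (hW : IsOpen W) (hxW : x ∈ W) :
    (⨆ σ : {σ : X // σ ∈ Y ∧ σ ⤳ x}, topologicalKrullDim ↥(closure ({σ.1} : Set X))) ≤
      topologicalKrullDim ↥(W ∩ Y) := by
  apply iSup_le
  rintro ⟨σ, hσY, hσx⟩
  rw [← dim_inter_closure h2 h3 W hW σ x hσx hxW]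
  apply Groth.Agent.Lib.Helper4.DimFT2.topologicalKrullDim_mono
  exact Set.inter_subset_inter_right W
    (closure_minimal (Set.singleton_subset_iff.mpr hσY) hY)

theorem le_DD (S : Set X) [QuasiSober ↥S] (h : ∀ t ∈ S, ∃ σ ∈ Y, σ ⤳ t ∧ σ ⤳ x) :
    topologicalKrullDim ↥S ≤
      ⨆ σ : {σ : X // σ ∈ Y ∧ σ ⤳ x}, topologicalKrullDim ↥(closure ({σ.1} : Set X)) := by
  apply tdim_le_of_forall
  intro t ht
  obtain ⟨σ, hσY, hσt, hσx⟩ := h t ht
  exact ⟨σ, hσt, le_iSup (fun σ : {σ : X // σ ∈ Y ∧ σ ⤳ x} =>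
    topologicalKrullDim ↥(closure ({σ.1} : Set X))) ⟨σ, hσY, hσx⟩⟩

include h2 h3 hY hx in
theorem DD_eq :
    (⨆ σ : {σ : X // σ ∈ Y ∧ σ ⤳ x}, topologicalKrullDim ↥(closure ({σ.1} : Set X))) =
      topologicalKrullDim ↥(closure ({x} : Set X)) +
        topologicalKrullDim ↥{t : X | t ∈ Y ∧ t ⤳ x} := by
  apply le_antisymm
  · apply iSup_le
    rintro ⟨σ, hσY, hσx⟩
    obtain ⟨a, b, ha, hb, hab⟩ := dim_closure_add h2 h3 σ x hσx
    rw [hab, ha]
    have hle : topologicalKrullDim ↥{t : X | t ∈ closure ({σ} : Set X) ∧ t ⤳ x} ≤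
        topologicalKrullDim ↥{t : X | t ∈ Y ∧ t ⤳ x} :=
      Groth.Agent.Lib.Helper4.DimFT2.topologicalKrullDim_mono (fun t ht =>
        ⟨closure_minimal (Set.singleton_subset_iff.mpr hσY) hY ht.1, ht.2⟩)
    rw [hb] at hle
    have : ((b + a : ℕ) : WithBot ℕ∞) = (a : WithBot ℕ∞) + (b : WithBot ℕ∞) := by
      push_cast
      rw [add_comm]
    rw [this]
    exact add_le_add_right hle _
  · obtain ⟨a, -, ha, -, -⟩ := dim_closure_add h2 h3 x x specializes_rfl
    rw [ha]
    haveI : QuasiSober ↥{t : X | t ∈ Y ∧ t ⤳ x} := quasiSober_gen Y hY x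
    rw [tdim_eq_krullDim]
    haveI : Nonempty ↥{t : X | t ∈ Y ∧ t ⤳ x} := ⟨⟨x, hx, specializes_rfl⟩⟩
    apply nat_add_krullDim_le
    intro p
    -- the top of the chain
    have hσY : p.last.1 ∈ Y := p.last.2.1
    have hσx : p.last.1 ⤳ x := p.last.2.2
    obtain ⟨a', b, ha', hb, hab⟩ := dim_closure_add h2 h3 p.last.1 x hσx
    rw [ha] at ha'
    have haa : a = a' := by exact_mod_cast ha'
    have hlen : (p.length : WithBot ℕ∞) ≤ (b : WithBot ℕ∞) := by
      rw [← hb]
      haveI : QuasiSober ↥{t : X | t ∈ closure ({p.last.1} : Set X) ∧ t ⤳ x} :=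
        quasiSober_gen _ isClosed_closure x
      rw [tdim_eq_krullDim]
      apply length_le_krullDim_of_mem _ (p.map (fun a => a.1) (fun a b hab => hab))
      intro i
      constructor
      · have : p i ≤ p.last := p.monotone (Fin.le_last i)
        exact Specializes.mem_closure this
      · exact (p i).2.2
    have hlen' : p.length ≤ b := by exact_mod_cast hlen
    refine le_trans ?_ (le_iSup (fun σ : {σ : X // σ ∈ Y ∧ σ ⤳ x} =>
      topologicalKrullDim ↥(closure ({σ.1} : Set X))) ⟨p.last.1, hσY, hσx⟩)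
    rw [hab]
    have : a + p.length ≤ b + a' := by omega
    exact_mod_cast this

end Main




section Main

variable {X : Scheme.{u}} [IsLocallyNoetherian X] [JacobsonSpace X]
    (h2 : ∀ s : X, CAlg.IsUniversallyCatenary (X.presheaf.stalk s))
    (h3 : ∀ S' ∈ irreducibleComponents (X : Type u), ∀ s ∈ S', IsClosed ({s} : Set X) →
      topologicalKrullDim (↥S' : Type u) = topologicalKrullDim ↥{t : X | t ∈ S' ∧ t ⤳ s})
    (Y : Set X) (hY : IsClosed Y) (x : X) (hx : x ∈ Y)

include hY in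
theorem exists_gen_of_mem_irreducible (C : Set ↥Y) (hC : IsIrreducible C) (hCc : IsClosed C)
    (hxC : (⟨x, hx⟩ : ↥Y) ∈ C) (c : ↥Y) (hc : c ∈ C) : ∃ σ ∈ Y, σ ⤳ c.1 ∧ σ ⤳ x := by
  haveI : QuasiSober ↥Y := hY.isClosedEmbedding_subtypeVal.quasiSober
  have hgen := hC.isGenericPoint_genericPoint hCc
  refine ⟨hC.genericPoint.1, hC.genericPoint.2, ?_, ?_⟩
  · exact (hgen.specializes hc).map continuous_subtype_val
  · exact (hgen.specializes hxC).map continuous_subtype_val

include h2 h3 hY in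
theorem localDim_eq_DD :
    FlatMor.localDim ↥Y ⟨x, hx⟩ =
      ⨆ σ : {σ : X // σ ∈ Y ∧ σ ⤳ x}, topologicalKrullDim ↥(closure ({σ.1} : Set X)) := by
  unfold FlatMor.localDim
  apply le_antisymm
  · obtain ⟨W, hW, hxW, hWgen⟩ := exists_nhd_common_gen X Y hY x hx
    refine iInf_le_of_le ⟨⟨Subtype.val ⁻¹' W, hW.preimage continuous_subtype_val⟩, hxW⟩ ?_
    change topologicalKrullDim ↥(Subtype.val ⁻¹' W : Set ↥Y) ≤ _
    rw [tdim_image_val, Subtype.image_preimage_coe, Set.inter_comm]
    haveI : QuasiSober ↥W := hW.isOpenEmbedding_subtypeVal.quasiSober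
    haveI : QuasiSober ↥(W ∩ Y) := QuasiSober.inter_of_isClosed_of_quasiSober_left W hY
    exact le_DD Y x (W ∩ Y) hWgen
  · apply le_iInf
    rintro ⟨U', hxU'⟩
    obtain ⟨W, hW, hWU'⟩ := isOpen_induced_iff.mp U'.2
    have hxW : x ∈ W := by
      have : (⟨x, hx⟩ : ↥Y) ∈ Subtype.val ⁻¹' W := by
        rw [hWU']
        exact hxU'
      exact this
    change _ ≤ topologicalKrullDim ↥(U'.1 : Set ↥Y)
    have e : (U'.1 : Set ↥Y) = Subtype.val ⁻¹' W := hWU'.symm
    rw [tdim_image_val, e, Subtype.image_preimage_coe, Set.inter_comm]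
    exact DD_le_inter h2 h3 Y hY x W hW hxW

end Main




theorem S4888_main (X : Scheme.{u}) [IsLocallyNoetherian X] [JacobsonSpace X]
    (h2 : ∀ x : X, CAlg.IsUniversallyCatenary (X.presheaf.stalk x))
    (h3 : ∀ X' ∈ irreducibleComponents (X : Type u), ∀ x ∈ X', IsClosed ({x} : Set X) →
      topologicalKrullDim (↥X' : Type u) = topologicalKrullDim ↥{t : X | t ∈ X' ∧ t ⤳ x})
    (Y : Set X) (hY : IsClosed Y) (x : X) (hx : x ∈ Y) :
    FlatMor.localDim ↥Y ⟨x, hx⟩ =
        topologicalKrullDim ↥(closure ({x} : Set X)) + topologicalKrullDim ↥{t : X | t ∈ Y ∧ t ⤳ x} ∧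
      FlatMor.localDim ↥Y ⟨x, hx⟩ =
        ⨆ C ∈ {C : Set ↥Y | C ∈ irreducibleComponents ↥Y ∧ (⟨x, hx⟩ : ↥Y) ∈ C}, topologicalKrullDim ↥C ∧
      ∀ U : Set X, IsOpen U → x ∈ U →
        (∀ C ∈ irreducibleComponents ↥Y, (⟨x, hx⟩ : ↥Y) ∉ C → Disjoint (Subtype.val ⁻¹' U) C) →
        topologicalKrullDim ↥(U ∩ Y) = FlatMor.localDim ↥Y ⟨x, hx⟩ := by
  rw [localDim_eq_DD h2 h3 Y hY x hx]
  refine ⟨DD_eq h2 h3 Y hY x hx, ?_, ?_⟩
  · apply le_antisymm
    · apply iSup_le
      rintro ⟨σ, hσY, hσx⟩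
      have hxC : (⟨x, hx⟩ : ↥Y) ∈ irreducibleComponent (⟨σ, hσY⟩ : ↥Y) := by
        have hsp : (⟨σ, hσY⟩ : ↥Y) ⤳ ⟨x, hx⟩ :=
          Topology.IsInducing.subtypeVal.specializes_iff.mp hσx
        exact hsp.mem_closed isClosed_irreducibleComponent mem_irreducibleComponent
      refine le_iSup₂_of_le (irreducibleComponent (⟨σ, hσY⟩ : ↥Y))
        ⟨irreducibleComponent_mem_irreducibleComponents _, hxC⟩ ?_
      rw [tdim_image_val]
      apply Groth.Agent.Lib.Helper4.DimFT2.topologicalKrullDim_mono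
      apply closure_minimal
      · rw [Set.singleton_subset_iff]
        exact ⟨⟨σ, hσY⟩, mem_irreducibleComponent, rfl⟩
      · exact hY.isClosedEmbedding_subtypeVal.isClosedMap _ isClosed_irreducibleComponent
    · apply iSup₂_le
      rintro C ⟨hC, hxC⟩
      have hCc : IsClosed C := isClosed_of_mem_irreducibleComponents C hC
      have hCX : IsClosed (Subtype.val '' C : Set X) :=
        hY.isClosedEmbedding_subtypeVal.isClosedMap _ hCc
      rw [tdim_image_val]
      haveI : QuasiSober ↥(Subtype.val '' C : Set X) :=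
        hCX.isClosedEmbedding_subtypeVal.quasiSober
      apply le_DD Y x
      rintro _ ⟨c, hc, rfl⟩
      exact exists_gen_of_mem_irreducible Y hY x hx C hC.1 hCc hxC c hc
  · intro U hU hxU hdisj
    apply le_antisymm
    · haveI : QuasiSober ↥U := hU.isOpenEmbedding_subtypeVal.quasiSober
      haveI : QuasiSober ↥(U ∩ Y) := QuasiSober.inter_of_isClosed_of_quasiSober_left U hY
      apply le_DD Y x
      rintro t ⟨htU, htY⟩
      have hxC : (⟨x, hx⟩ : ↥Y) ∈ irreducibleComponent (⟨t, htY⟩ : ↥Y) := by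
        by_contra hcon
        have := hdisj _ (irreducibleComponent_mem_irreducibleComponents _) hcon
        rw [Set.disjoint_left] at this
        exact this (show (⟨t, htY⟩ : ↥Y) ∈ Subtype.val ⁻¹' U from htU) mem_irreducibleComponent
      exact exists_gen_of_mem_irreducible Y hY x hx _ isIrreducible_irreducibleComponent
        isClosed_irreducibleComponent hxC ⟨t, htY⟩ mem_irreducibleComponent
    · exact DD_le_inter h2 h3 Y hY x U hU hxU


end Groth.Agent.Lib.Helper4.JacDim4
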