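import Mathlib
import Groth.Prelude.Def_Cyc
import Groth.Prelude.Def_EGA43
import Groth.Agent.Lib.Helper4.Chev8
import Groth.Agent.Lib.Helper4.FibDim7
import Groth.Agent.Lib.Helper4.EffCartierDim1
import Groth.Agent.Lib.Helper4.JacDim4

/-!
# Irreducible components of fibres where f is open at the generic point (EGA IV 14.2.5-ish) (helper4)
-/

set_option backward.isDefEq.respectTransparency.types false
set_option synthInstance.maxHeartbeats 400000
set_option autoImplicit false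
set_option linter.unusedSectionVars false
set_option linter.style.haveILetI false
set_option linter.unusedSimpArgs false
universe u v w
open CategoryTheory CategoryTheory.Limits AlgebraicGeometry TopologicalSpace IsLocalRing Opposite
open Cardinal
open Groth.Agent.Lib.Helper4.DimIneq1 Groth.Agent.Lib.Helper4.DimFT2 Groth.Agent.Lib.Helper4.Catenary1
open Groth.Agent.Lib.Helper4.DimEq1 Groth.Agent.Lib.Helper4.DimIneq2 Groth.Agent.Lib.Helper4.DimEq2
open Groth.Agent.Lib.Helper4.DimIneq3 Groth.Agent.Lib.Helper4.DimIneq4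
open Groth.Agent.Lib.Helper4.NormFibre2 Groth.Agent.Lib.Helper4.RadBir3 Groth.Agent.Lib.Helper4.DimFT3
open Groth.Agent.Lib.Helper4.FibDim1 Groth.Agent.Lib.Helper4.FibDim2 Groth.Agent.Lib.Helper4.LocUC1
open Groth.Agent.Lib.Helper4.FibDim3 Groth.Agent.Lib.Helper4.FibDim4 Groth.Agent.Lib.Helper4.FibDim5
open Groth.Agent.Lib.Helper4.FibDim6 Groth.Agent.Lib.Helper4.FibDim7 Groth.Agent.Lib.Helper4.JacDim1
open Groth.Agent.Lib.Helper4.DimFT1
open Groth.Agent.Lib.Helper4.Chev2 Groth.Agent.Lib.Helper4.Chev5 Groth.Agent.Lib.Helper4.Chev6 Groth.Agent.Lib.Helper4.Chev8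
open Groth.Agent.Lib.Helper4.JacDim4 Groth.Agent.Lib.Helper4.EffCartierDim1

namespace Groth.Agent.Lib.Helper4.Chev9


/-- a strictly monotone (for specialization) family of points gives a lower bound for the
topological dimension -/
theorem krullDim_le_topologicalKrullDim_of_map {α : Type*} [Preorder α] {A : Type*}
    [TopologicalSpace A] (g : α → A) (hg : ∀ a b : α, a < b → g a ⤳ g b ∧ ¬ g b ⤳ g a) :
    Order.krullDim α ≤ topologicalKrullDim A := by
  rw [← Order.krullDim_orderDual (α := α)]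
  unfold topologicalKrullDim
  refine Order.krullDim_le_of_strictMono
    (fun a : αᵒᵈ => (⟨closure {g (OrderDual.ofDual a)}, isIrreducible_singleton.closure,
      isClosed_closure⟩ : IrreducibleCloseds A)) ?_
  intro a b hab
  have hab' : OrderDual.ofDual b < OrderDual.ofDual a := hab
  obtain ⟨h1, h2⟩ := hg _ _ hab'
  rw [lt_iff_le_not_ge]
  constructor
  · change closure {g (OrderDual.ofDual a)} ⊆ closure {g (OrderDual.ofDual b)}
    exact closure_minimal (Set.singleton_subset_iff.mpr h1.mem_closure) isClosed_closure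
  · intro hle
    have hle' : closure {g (OrderDual.ofDual b)} ⊆ closure {g (OrderDual.ofDual a)} := hle
    apply h2
    rw [specializes_iff_mem_closure]
    exact hle' (subset_closure (Set.mem_singleton _))

section Fibre11

variable {X Y : Scheme.{u}} (f : X ⟶ Y) [LocallyOfFiniteType f]

/-- chains of specializations of `x` inside an open neighbourhood and inside the fibre -/
theorem tr_le_dim_open_above [IsLocallyNoetherian Y] (x : X) (U' : Set X) (hU' : IsOpen U')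
    (hxU' : x ∈ U') :
    ((tr f x : ℕ) : WithBot ℕ∞) ≤
      topologicalKrullDim ↥(U' ∩ closure ({x} : Set X) ∩ f.base ⁻¹' {f.base x}) := by
  obtain ⟨V, hV, hsV, -⟩ := exists_isAffineOpen_mem_and_subset (U := (⊤ : Y.Opens)) (x := f x)
    trivial
  obtain ⟨U₀, hU, hxU, hUV'⟩ := exists_isAffineOpen_mem_and_subset
    (U := (⟨U', hU'⟩ : X.Opens) ⊓ f ⁻¹ᵁ V) (x := x) ⟨hxU', hsV⟩
  have hUV : U₀ ≤ f ⁻¹ᵁ V := fun z hz => (hUV' hz).2
  have hUU : ∀ z, z ∈ U₀ → z ∈ U' := fun z hz => (hUV' hz).1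
  letI alg : Algebra Γ(Y, V) Γ(X, U₀) := (f.appLE V U₀ hUV).hom.toAlgebra
  haveI : IsNoetherianRing Γ(Y, V) := IsLocallyNoetherian.component_noetherian ⟨V, hV⟩
  haveI : Algebra.FiniteType Γ(Y, V) Γ(X, U₀) := LocallyOfFiniteType.finiteType_appLE f hV hU hUV
  haveI hlo := liesOver_chart f hV hU hUV x hxU rfl
  have hdim := trdeg_le_krullDim_above Γ(Y, V) Γ(X, U₀)
    (hV.primeIdealOf ⟨f x, hUV hxU⟩).asIdeal (hU.primeIdealOf ⟨x, hxU⟩).asIdeal (tr f x)
    (tr_chart f hV hU hUV x hxU rfl)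
  have hfib : ∀ P : PrimeSpectrum Γ(X, U₀),
      P.asIdeal.under Γ(Y, V) = (hV.primeIdealOf ⟨f x, hUV hxU⟩).asIdeal →
      f (hU.fromSpec P) = f x := by
    intro P hP
    have hzU : hU.fromSpec P ∈ U₀ := fromSpec_mem hU P
    have h1 := liesOver_chart f hV hU hUV _ hzU rfl
    have h2 : hV.primeIdealOf ⟨f (hU.fromSpec P), hUV hzU⟩ = hV.primeIdealOf ⟨f x, hUV hxU⟩ := by
      apply PrimeSpectrum.ext
      rw [h1.over, primeIdealOf_fromSpec hU P]
      exact hP
    exact congrArg Subtype.val (primeIdealOf_injective' hV h2)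
  have hiff : ∀ P₁ P₂ : PrimeSpectrum Γ(X, U₀), hU.fromSpec P₁ ⤳ hU.fromSpec P₂ ↔ P₁ ≤ P₂ := by
    intro P₁ P₂
    rw [specializes_iff_primeIdealOf_le hU ⟨_, fromSpec_mem hU P₁⟩ ⟨_, fromSpec_mem hU P₂⟩,
      primeIdealOf_fromSpec, primeIdealOf_fromSpec]
    rfl
  have habove : ∀ P : PrimeSpectrum Γ(X, U₀), (hU.primeIdealOf ⟨x, hxU⟩).asIdeal ≤ P.asIdeal →
      hU.fromSpec P ∈ closure ({x} : Set X) := by
    intro P hP
    rw [← specializes_iff_mem_closure]
    have h1 : hU.fromSpec (hU.primeIdealOf ⟨x, hxU⟩) ⤳ hU.fromSpec P :=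
      (hiff _ _).mpr hP
    rwa [hU.fromSpec_primeIdealOf ⟨x, hxU⟩] at h1
  refine hdim.trans ?_
  apply krullDim_le_topologicalKrullDim_of_map
    (fun P : {P : PrimeSpectrum Γ(X, U₀) // (hU.primeIdealOf ⟨x, hxU⟩).asIdeal ≤ P.asIdeal ∧
        P.asIdeal.under Γ(Y, V) = (hV.primeIdealOf ⟨f x, hUV hxU⟩).asIdeal} =>
      (⟨hU.fromSpec P.1, ⟨hUU _ (fromSpec_mem hU P.1), habove P.1 P.2.1⟩, hfib P.1 P.2.2⟩ :
        ↥(U' ∩ closure ({x} : Set X) ∩ f.base ⁻¹' {f.base x})))
  intro P P' hlt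
  rw [lt_iff_le_not_ge] at hlt
  constructor
  · rw [← Topology.IsInducing.subtypeVal.specializes_iff]
    exact (hiff P.1 P'.1).mpr hlt.1
  · intro h
    rw [← Topology.IsInducing.subtypeVal.specializes_iff] at h
    exact hlt.2 ((hiff P'.1 P.1).mp h)

end Fibre11




theorem isPreirreducible_of_image {F A : Type*} [TopologicalSpace F] [TopologicalSpace A]
    (e : F → A) (he : Topology.IsInducing e) (S : Set F) (h : IsPreirreducible (e '' S)) :
    IsPreirreducible S := by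
  intro U V hU hV hSU hSV
  obtain ⟨U', hU', rfl⟩ := he.isOpen_iff.mp hU
  obtain ⟨V', hV', rfl⟩ := he.isOpen_iff.mp hV
  obtain ⟨a, haS, haU⟩ := hSU
  obtain ⟨b, hbS, hbV⟩ := hSV
  obtain ⟨_, ⟨c, hcS, rfl⟩, hcU, hcV⟩ := h U' V' hU' hV' ⟨e a, ⟨a, haS, rfl⟩, haU⟩
    ⟨e b, ⟨b, hbS, rfl⟩, hbV⟩
  exact ⟨c, hcS, hcU, hcV⟩

/-- local dimension is monotone along inducing maps -/
theorem localDim_le_of_isInducing {α β : Type*} [TopologicalSpace α] [TopologicalSpace β]
    (j : α → β) (hj : Topology.IsInducing j) (a : α) :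
    FlatMor.localDim α a ≤ FlatMor.localDim β (j a) := by
  unfold FlatMor.localDim
  refine le_iInf fun W => ?_
  let W' : Opens α := ⟨j ⁻¹' W.1.1, W.1.2.preimage hj.continuous⟩
  have hmem : a ∈ W' := W.2
  refine (iInf_le _ (⟨W', hmem⟩ : {W : Opens α // a ∈ W})).trans ?_
  let g : ↥(W' : Set α) → ↥(W.1 : Set β) := fun x => ⟨j x.1, x.2⟩
  have hg : Topology.IsInducing g := by
    have h1 : Topology.IsInducing (Subtype.val ∘ g) :=
      hj.comp Topology.IsInducing.subtypeVal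
    exact Topology.IsInducing.of_comp (hj.continuous.comp continuous_subtype_val |>.subtype_mk _)
      continuous_subtype_val h1
  exact hg.topologicalKrullDim_le

section Fibre12

variable {X Y : Scheme.{u}} (f : X ⟶ Y) [LocallyOfFiniteType f]

theorem fibreDimAt_eq_localDim_preimage (x : X) (y : Y) (hy : f x = y) :
    FlatMor.fibreDimAt f x = FlatMor.localDim ↥(f.base ⁻¹' {y}) ⟨x, hy⟩ := by
  subst hy
  unfold FlatMor.fibreDimAt
  rw [localDim_homeomorph (f.fiberHomeo (f x)) (f.asFiber x)]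
  congr 1
  exact (f.fiberHomeo (f x)).apply_symm_apply _

end Fibre12




section Fibre13

variable {X Y : Scheme.{u}} (f : X ⟶ Y) [LocallyOfFiniteType f]

/-- a maximal irreducible subset of a fibre has a generic point, maximal in the fibre -/
theorem exists_generic_of_max_irreducible_fiber (y : Y) (Z : Set X)
    (hZy : Z ⊆ f.base ⁻¹' {y}) (hZ : IsIrreducible Z)
    (hZmax : ∀ Z' : Set X, IsIrreducible Z' → Z' ⊆ f.base ⁻¹' {y} → Z ⊆ Z' → Z' = Z) :
    ∃ ζ₀ : X, f ζ₀ = y ∧ ζ₀ ∈ Z ∧ Z = closure ({ζ₀} : Set X) ∩ f.base ⁻¹' {y} ∧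
      ∀ z' : X, f z' = f ζ₀ → z' ⤳ ζ₀ → z' = ζ₀ := by
  have hemb : Topology.IsEmbedding (f.fiberι y) := (f.fiberι y).isEmbedding
  have himg : f.fiberι y '' (f.fiberι y ⁻¹' Z) = Z := by
    rw [Set.image_preimage_eq_inter_range, f.range_fiberι y]
    exact Set.inter_eq_left.mpr hZy
  have hZ₀irr : IsIrreducible (f.fiberι y ⁻¹' Z) := by
    refine ⟨?_, isPreirreducible_of_image _ hemb.isInducing _ (himg.symm ▸ hZ.2)⟩
    obtain ⟨a, ha⟩ := hZ.1
    rw [← himg] at ha
    obtain ⟨b, hb, -⟩ := ha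
    exact ⟨b, hb⟩
  have hZ₀ : (f.fiberι y ⁻¹' Z) ∈ irreducibleComponents ↥(f.fiber y) := by
    refine ⟨hZ₀irr, ?_⟩
    intro S hS hle
    have h1 : IsIrreducible (f.fiberι y '' S) := hS.image _ (f.fiberι y).continuous.continuousOn
    have h2 : f.fiberι y '' S ⊆ f.base ⁻¹' {y} := by
      rintro _ ⟨a, _, rfl⟩
      exact fiberι_mem f y a
    have h3 : Z ⊆ f.fiberι y '' S := by
      rw [← himg]
      exact Set.image_mono hle
    have h4 := hZmax _ h1 h2 h3
    intro a ha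
    change f.fiberι y a ∈ Z
    rw [← h4]
    exact ⟨a, ha, rfl⟩
  obtain ⟨w, hw, hwZ₀⟩ := exists_isMax_closure_eq (f.fiber y) _ hZ₀
  have hζ₀y : f (f.fiberι y w) = y := fiberι_mem f y w
  have hwmem : w ∈ f.fiberι y ⁻¹' Z := by
    rw [← hwZ₀]
    exact subset_closure (Set.mem_singleton w)
  refine ⟨f.fiberι y w, hζ₀y, hwmem, ?_, ?_⟩
  · ext a
    constructor
    · intro ha
      refine ⟨?_, hZy ha⟩
      rw [← himg] at ha
      obtain ⟨b, hb, rfl⟩ := ha
      have hb' : b ∈ closure ({w} : Set ↥(f.fiber y)) := by rw [hwZ₀]; exact hb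
      have hb2 : b ∈ f.fiberι y ⁻¹' closure (f.fiberι y '' ({w} : Set ↥(f.fiber y))) := by
        rw [← hemb.closure_eq_preimage_closure_image]; exact hb'
      rw [Set.image_singleton] at hb2
      exact hb2
    · rintro ⟨ha1, ha2⟩
      have hb : (fibOrderIso f y).symm ⟨a, ha2⟩ ∈ closure ({w} : Set ↥(f.fiber y)) := by
        rw [hemb.closure_eq_preimage_closure_image, Set.image_singleton]
        change f.fiberι y ((fibOrderIso f y).symm ⟨a, ha2⟩) ∈ closure ({f.fiberι y w} : Set X)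
        have : f.fiberι y ((fibOrderIso f y).symm ⟨a, ha2⟩) = a :=
          congrArg Subtype.val ((fibOrderIso f y).apply_symm_apply ⟨a, ha2⟩)
        rw [this]
        exact ha1
      rw [hwZ₀] at hb
      have hb' : f.fiberι y ((fibOrderIso f y).symm ⟨a, ha2⟩) ∈ Z := hb
      have : f.fiberι y ((fibOrderIso f y).symm ⟨a, ha2⟩) = a :=
        congrArg Subtype.val ((fibOrderIso f y).apply_symm_apply ⟨a, ha2⟩)
      rwa [this] at hb'
  · intro z' hz' hsp
    have hz'y : f z' = y := hz'.trans hζ₀y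
    have h1 : fibOrderIso f y w ≤ ⟨z', hz'y⟩ := hsp
    have h2 : w ≤ (fibOrderIso f y).symm ⟨z', hz'y⟩ := by
      rw [← (fibOrderIso f y).le_iff_le, OrderIso.apply_symm_apply]
      exact h1
    have h3 := hw h2
    rw [← (fibOrderIso f y).le_iff_le, OrderIso.apply_symm_apply] at h3
    have h4 : f.fiberι y w ⤳ z' := h3
    exact (hsp.antisymm h4).eq

end Fibre13




section Fibre14

variable {X Y : Scheme.{u}} (f : X ⟶ Y) [LocallyOfFiniteType f]

theorem S4919_main [IrreducibleSpace Y] [IsLocallyNoetherian Y] (y : Y) (Z : Set X)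
    (hZy : Z ⊆ f.base ⁻¹' {y}) (hZ : IsIrreducible Z)
    (hZmax : ∀ Z' : Set X, IsIrreducible Z' → Z' ⊆ f.base ⁻¹' {y} → Z ⊆ Z' → Z' = Z)
    (hopen : ∀ ζ ∈ Z, Z ⊆ closure {ζ} → EGA43.IsOpenAt f.base ζ) :
    ∃ X' ∈ irreducibleComponents (X : Type u), Z ⊆ X' ∧ Dense (f.base '' X') ∧
      (∀ ζ ∈ Z, Z ⊆ closure {ζ} → ∀ hζ : ζ ∈ X' ∩ f.base ⁻¹' {y},
        FlatMor.localDim ↥(X' ∩ f.base ⁻¹' {y}) ⟨ζ, hζ⟩ = topologicalKrullDim ↥Z) ∧
      topologicalKrullDim ↥Z = topologicalKrullDim ↥(X' ∩ f.base ⁻¹' {genericPoint Y}) := by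
  obtain ⟨ζ₀, hζ₀y, hζ₀Z, hZeq, hmax⟩ :=
    exists_generic_of_max_irreducible_fiber f y Z hZy hZ hZmax
  have hZsub : Z ⊆ closure ({ζ₀} : Set X) := by
    intro a ha
    rw [hZeq] at ha
    exact ha.1
  have hop := hopen ζ₀ hζ₀Z hZsub
  obtain ⟨ξ, hξη, hξsp, hξmax, htr⟩ := exists_generic_above_of_isOpenAt f ζ₀ hmax hop
  have hdimZ : topologicalKrullDim ↥Z = ((tr f ζ₀ : ℕ) : WithBot ℕ∞) := by
    have h := dim_closure_inter_fiber f ζ₀ y hζ₀y
    rw [← hZeq] at h
    exact h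
  refine ⟨closure ({ξ} : Set X), closure_mem_irreducibleComponents_of_max ξ hξmax, ?_, ?_, ?_, ?_⟩
  · intro a ha
    have h1 : ζ₀ ⤳ a := specializes_iff_mem_closure.mpr (hZsub ha)
    exact specializes_iff_mem_closure.mp (hξsp.trans h1)
  · rw [dense_iff_closure_eq]
    apply Set.eq_univ_of_univ_subset
    rw [← (genericPoint_spec Y).def]
    apply closure_mono
    rw [Set.singleton_subset_iff]
    exact ⟨ξ, subset_closure (Set.mem_singleton ξ), hξη⟩
  · intro ζ hζZ hζsub hζ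
    have hζeq : ζ = ζ₀ := by
      have h1 : ζ ⤳ ζ₀ := specializes_iff_mem_closure.mpr (hζsub hζ₀Z)
      have h2 : ζ₀ ⤳ ζ := specializes_iff_mem_closure.mpr (hZsub hζZ)
      exact (h1.antisymm h2).eq
    subst hζeq
    apply le_antisymm
    · have h1 := localDim_le_of_isInducing
        (Set.inclusion (Set.inter_subset_right :
          closure ({ξ} : Set X) ∩ f.base ⁻¹' {y} ⊆ f.base ⁻¹' {y}))
        (Topology.IsEmbedding.inclusion _).isInducing ⟨ζ, hζ⟩
      refine h1.trans ?_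
      have h2 := fibreDimAt_eq_localDim_preimage f ζ y hζ₀y
      have h3 := (max_point_facts f ζ hmax).1
      rw [hdimZ, ← h3, h2]
    · rw [hdimZ]
      unfold FlatMor.localDim
      apply le_iInf
      rintro ⟨W, hW⟩
      obtain ⟨U', hU', hU'W⟩ := isOpen_induced_iff.mp W.2
      have hζU' : ζ ∈ U' := by
        have : (⟨ζ, hζ⟩ : ↥(closure ({ξ} : Set X) ∩ f.base ⁻¹' {y})) ∈ Subtype.val ⁻¹' U' := by
          rw [hU'W]; exact hW
        exact this
      refine (tr_le_dim_open_above f ζ U' hU' hζU').trans ?_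
      rw [tdim_image_val (closure ({ξ} : Set X) ∩ f.base ⁻¹' {y}) (W : Set _)]
      apply dim_mono
      rintro a ⟨⟨ha1, ha2⟩, ha3⟩
      have haT : a ∈ closure ({ξ} : Set X) ∩ f.base ⁻¹' {y} := by
        refine ⟨?_, ?_⟩
        · have h1 : ζ ⤳ a := specializes_iff_mem_closure.mpr ha2
          exact specializes_iff_mem_closure.mp (hξsp.trans h1)
        · have : f a = f ζ := ha3
          exact this.trans hζ₀y
      refine ⟨⟨a, haT⟩, ?_, rfl⟩
      have : (⟨a, haT⟩ : ↥(closure ({ξ} : Set X) ∩ f.base ⁻¹' {y})) ∈ Subtype.val ⁻¹' U' := ha1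
      rw [hU'W] at this
      exact this
  · rw [hdimZ, ← htr, ← dim_closure_inter_fiber f ξ (genericPoint Y) hξη]

end Fibre14


end Groth.Agent.Lib.Helper4.Chev9
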