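import Mathlib
import Groth.Prelude.Def_Cyc
import Groth.Prelude.Def_EGA43
import Groth.Agent.Lib.Helper4.Chev8
import Groth.Agent.Lib.Helper4.FibDim7
import Groth.Agent.Lib.Helper4.EffCartierDim1
import Groth.Agent.Lib.Helper4.JacDim4
import Groth.Agent.Lib.Helper4.Chev9

/-!
# Dimension formula for an irreducible closed subset relative to the closure of its image (EGA IV 13.3.6-ish) (helper4)
-/

set_option backward.isDefEq.respectTransparency.types false
set_option synthInstance.maxHeartbeats 400000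
set_option autoImplicit false
set_option linter.unusedSectionVars false
set_option linter.style.haveILetI false
set_option linter.unusedSimpArgs false
universe u v w
open CategoryTheory CategoryTheory.Limits AlgebraicGeometry TopologicalSpace IsLocalRing Opposite
open Cardinal
open Groth.Agent.Lib.Helper4.DimIneq1 Groth.Agent.Lib.Helper4.DimFT2 Groth.Agent.Lib.Helper4.Catenary1
open Groth.Agent.Lib.Helper4.DimEq1 Groth.Agent.Lib.Helper4.DimIneq2 Groth.Agent.Lib.Helper4.DimEq2
open Groth.Agent.Lib.Helper4.DimIneq3 Groth.Agent.Lib.Helper4.DimIneq4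
open Groth.Agent.Lib.Helper4.NormFibre2 Groth.Agent.Lib.Helper4.RadBir3 Groth.Agent.Lib.Helper4.DimFT3
open Groth.Agent.Lib.Helper4.FibDim1 Groth.Agent.Lib.Helper4.FibDim2 Groth.Agent.Lib.Helper4.LocUC1
open Groth.Agent.Lib.Helper4.FibDim3 Groth.Agent.Lib.Helper4.FibDim4 Groth.Agent.Lib.Helper4.FibDim5
open Groth.Agent.Lib.Helper4.FibDim6 Groth.Agent.Lib.Helper4.FibDim7 Groth.Agent.Lib.Helper4.JacDim1
open Groth.Agent.Lib.Helper4.DimFT1
open Groth.Agent.Lib.Helper4.Chev2 Groth.Agent.Lib.Helper4.Chev5 Groth.Agent.Lib.Helper4.Chev6 Groth.Agent.Lib.Helper4.Chev8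
open Groth.Agent.Lib.Helper4.JacDim4 Groth.Agent.Lib.Helper4.EffCartierDim1
open Groth.Agent.Lib.Helper4.Chev9 Groth.Agent.Lib.Helper4.Chev4

namespace Groth.Agent.Lib.Helper4.Chev10

theorem residueFieldMap_surjective_of_surjectiveOnStalks {Z X : Scheme.{u}} (j : Z ⟶ X)
    [SurjectiveOnStalks j] (z : Z) : Function.Surjective (j.residueFieldMap z).hom := by
  intro t
  obtain ⟨s, rfl⟩ := IsLocalRing.residue_surjective (R := Z.presheaf.stalk z) t
  obtain ⟨r, rfl⟩ := j.stalkMap_surjective z s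
  refine ⟨IsLocalRing.residue _ r, ?_⟩
  have h1 := congr($(Scheme.residue_residueFieldMap j z).hom r)
  simp only [CommRingCat.hom_comp, RingHom.coe_comp, Function.comp_apply] at h1
  exact h1

theorem tr_of_surjectiveOnStalks {Z X : Scheme.{u}} (j : Z ⟶ X) [LocallyOfFiniteType j]
    [SurjectiveOnStalks j] (z : Z) : tr j z = 0 := by
  apply tr_eq_of_trdeg_eq j z 0
  letI alg : Algebra (X.residueField (j.base z)) (Z.residueField z) :=
    (j.residueFieldMap z).hom.toAlgebra
  have hsurj : Function.Surjective (algebraMap (X.residueField (j.base z)) (Z.residueField z)) :=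
    residueFieldMap_surjective_of_surjectiveOnStalks j z
  haveI : Algebra.IsAlgebraic (X.residueField (j.base z)) (Z.residueField z) :=
    ⟨fun a => by
      obtain ⟨r, rfl⟩ := hsurj a
      exact isAlgebraic_algebraMap r⟩
  rw [trdeg_eq_zero]
  simp

theorem scheme_lt_iff {W : Scheme.{u}} (a b : W) : a < b ↔ b ⤳ a ∧ ¬ a ⤳ b := by
  rw [lt_iff_le_not_ge]
  rfl

theorem strictMono_of_isEmbedding {W X : Scheme.{u}} (ι : W ⟶ X) (hι : Topology.IsEmbedding ι) :
    StrictMono (fun a : W => ι a) := by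
  intro a b hab
  rw [scheme_lt_iff] at hab ⊢
  rw [hι.isInducing.specializes_iff, hι.isInducing.specializes_iff]
  exact hab

/-- the local ring of the fibre of a subscheme is of smaller dimension -/
theorem stalk_fiber_dim_le_of_embedding {W X Y : Scheme.{u}} (ι : W ⟶ X)
    (hι : Topology.IsEmbedding ι) (f : X ⟶ Y) (w : W) :
    ringKrullDim (((ι ≫ f).fiber ((ι ≫ f) w)).presheaf.stalk ((ι ≫ f).asFiber w)) ≤
      ringKrullDim ((f.fiber (f (ι w))).presheaf.stalk (f.asFiber (ι w))) := by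
  rw [stalk_fiber_dim (ι ≫ f) w, stalk_fiber_dim f (ι w)]
  have h := Order.coheight_le_coheight_apply_of_strictMono
    (fun z : {z : W // (ι ≫ f) z = (ι ≫ f) w} => (⟨ι z.1, z.2⟩ : {z : X // f z = f (ι w)})) ?_
    ⟨w, rfl⟩
  · exact_mod_cast h
  · intro a b hab
    exact strictMono_of_isEmbedding ι hι hab

theorem stalk_dim_le_of_surjectiveOnStalks {W Y : Scheme.{u}} (ι : W ⟶ Y) [SurjectiveOnStalks ι]
    (v : W) : ringKrullDim (W.presheaf.stalk v) ≤ ringKrullDim (Y.presheaf.stalk (ι v)) :=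
  ringKrullDim_le_of_surjective _ (ι.stalkMap_surjective v)



section GenDim2

variable {Z S : Scheme.{u}} (g : Z ⟶ S) [LocallyOfFiniteType g]

/-- the general dimension inequality, relative to the closure of the image of the generic
point -/
theorem stalk_dim_le_gen [IsLocallyNoetherian S] [IrreducibleSpace Z] (z : Z) :
    ringKrullDim (Z.presheaf.stalk z) + (tr g z : WithBot ℕ∞) ≤
      topologicalKrullDim ↥{t : S | t ∈ closure ({g (genericPoint Z)} : Set S) ∧ t ⤳ g z} +
        (tr g (genericPoint Z) : WithBot ℕ∞) := by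
  obtain ⟨V, hV, hsV, -⟩ := exists_isAffineOpen_mem_and_subset (U := (⊤ : S.Opens)) (x := g z)
    trivial
  obtain ⟨U, hU, hzU, hUV⟩ := exists_isAffineOpen_mem_and_subset (U := g ⁻¹ᵁ V) (x := z) hsV
  letI alg : Algebra Γ(S, V) Γ(Z, U) := (g.appLE V U hUV).hom.toAlgebra
  haveI : IsNoetherianRing Γ(S, V) := IsLocallyNoetherian.component_noetherian ⟨V, hV⟩
  haveI : Algebra.FiniteType Γ(S, V) Γ(Z, U) := LocallyOfFiniteType.finiteType_appLE g hV hU hUV
  haveI : IsNoetherianRing Γ(Z, U) := Algebra.FiniteType.isNoetherianRing Γ(S, V) Γ(Z, U)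
  have hξU : genericPoint Z ∈ U := genericPoint_mem_of_mem U z hzU
  haveI hlo := liesOver_chart g hV hU hUV z hzU rfl
  haveI hloξ := liesOver_chart g hV hU hUV (genericPoint Z) hξU rfl
  have hQq : (hU.primeIdealOf ⟨genericPoint Z, hξU⟩).asIdeal ≤ (hU.primeIdealOf ⟨z, hzU⟩).asIdeal :=
    primeIdealOf_genericPoint_le hU hξU _
  have key := dim_ineq_rel Γ(S, V) Γ(Z, U) (hV.primeIdealOf ⟨g z, hUV hzU⟩).asIdeal
    (hU.primeIdealOf ⟨z, hzU⟩).asIdeal (hU.primeIdealOf ⟨genericPoint Z, hξU⟩).asIdeal hQq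
  rw [tr_chart g hV hU hUV z hzU rfl] at key
  have h1 : Algebra.trdeg
      (Γ(S, V) ⧸ (hU.primeIdealOf ⟨genericPoint Z, hξU⟩).asIdeal.under Γ(S, V))
      (Γ(Z, U) ⧸ (hU.primeIdealOf ⟨genericPoint Z, hξU⟩).asIdeal) =
      (tr g (genericPoint Z) : Cardinal.{u}) := by
    rw [← tr_chart g hV hU hUV (genericPoint Z) hξU rfl]
    exact trdeg_quot_congr _ _ _ _ hloξ.over.symm rfl
  rw [h1, height_map_mk_of_forall_le _ _ (primeIdealOf_genericPoint_le hU hξU),
    height_map_mk_congr _ _ _ hloξ.over.symm] at key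
  have hsp : g (genericPoint Z) ⤳ g z :=
    (genericPoint_specializes z).map g.continuous
  rw [ringKrullDim_stalk_eq_height hU z hzU,
    dim_genIn_eq hV (g (genericPoint Z)) (g z) (hUV hzU) (hUV hξU) hsp]
  have hp : (hV.primeIdealOf ⟨g (genericPoint Z), hUV hξU⟩).asIdeal ≤
      (hV.primeIdealOf ⟨g z, hUV hzU⟩).asIdeal :=
    (specializes_iff_primeIdealOf_le hV ⟨_, hUV hξU⟩ ⟨_, hUV hzU⟩).mp hsp
  haveI := isPrime_map_mk _ _ hp
  obtain ⟨c₀, hc₀⟩ := exists_height_nat (hU.primeIdealOf ⟨z, hzU⟩).asIdeal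
  obtain ⟨m₀, hm₀⟩ := exists_height_nat ((hV.primeIdealOf ⟨g z, hUV hzU⟩).asIdeal.map
    (Ideal.Quotient.mk (hV.primeIdealOf ⟨g (genericPoint Z), hUV hξU⟩).asIdeal))
  rw [hc₀, hm₀] at key ⊢
  have key' : c₀ + tr g z ≤ m₀ + tr g (genericPoint Z) := by exact_mod_cast key
  have : ((c₀ + tr g z : ℕ) : WithBot ℕ∞) ≤ ((m₀ + tr g (genericPoint Z) : ℕ) : WithBot ℕ∞) := by
    exact_mod_cast key'
  push_cast at this
  exact this

end GenDim2



/-- generizations inside the image of an embedding lift to generizations in the source -/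
theorem genIn_le_stalk_dim {W Y : Scheme.{u}} (ι : W ⟶ Y) (hι : Topology.IsEmbedding ι) (η' : Y)
    (hrange : closure ({η'} : Set Y) ⊆ Set.range ι) (v : W) :
    topologicalKrullDim ↥{t : Y | t ∈ closure ({η'} : Set Y) ∧ t ⤳ ι v} ≤
      ringKrullDim (W.presheaf.stalk v) := by
  haveI : QuasiSober ↥{t : Y | t ∈ closure ({η'} : Set Y) ∧ t ⤳ ι v} :=
    quasiSober_gen _ isClosed_closure (ι v)
  rw [Groth.Agent.Helper4.GM.topologicalKrullDim_eq_krullDim_specialization,
    AlgebraicGeometry.ringKrullDim_stalk_eq_coheight, Order.coheight_eq_krullDim_Ici]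
  have hpre : ∀ t : ↥{t : Y | t ∈ closure ({η'} : Set Y) ∧ t ⤳ ι v}, ∃ t' : W, ι t' = t.1 :=
    fun t => hrange t.2.1
  choose φ hφ using hpre
  have hφv : ∀ t, v ≤ φ t := by
    intro t
    change φ t ⤳ v
    rw [← hι.isInducing.specializes_iff, hφ]
    exact t.2.2
  have hle : ∀ a b : ↥{t : Y | t ∈ closure ({η'} : Set Y) ∧ t ⤳ ι v},
      (specializationOrder ↥{t : Y | t ∈ closure ({η'} : Set Y) ∧ t ⤳ ι v}).le a b ↔
        b.1 ⤳ a.1 := by
    intro a b
    change b ⤳ a ↔ b.1 ⤳ a.1
    rw [Topology.IsInducing.subtypeVal.specializes_iff]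
  refine @Order.krullDim_le_of_strictMono _ _
    (specializationOrder ↥{t : Y | t ∈ closure ({η'} : Set Y) ∧ t ⤳ ι v}).toPreorder _
    (fun t => (⟨φ t, hφv t⟩ : Set.Ici v)) ?_
  intro a b hlt
  have hlt' := (@lt_iff_le_not_ge _
    (specializationOrder ↥{t : Y | t ∈ closure ({η'} : Set Y) ∧ t ⤳ ι v}).toPreorder a b).mp hlt
  change φ a < φ b
  rw [scheme_lt_iff, ← hι.isInducing.specializes_iff, ← hι.isInducing.specializes_iff (x := φ a),
    hφ, hφ]
  exact ⟨(hle a b).mp hlt'.1, fun h => hlt'.2 ((hle b a).mpr h)⟩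



theorem arith_S4985 (A' B' Bk' : WithBot ℕ∞) (a b t E : ℕ) (h1 : A' ≤ a) (h2 : Bk' ≤ b)
    (h3 : B' + t ≤ A' + E) (h4 : (E : WithBot ℕ∞) ≤ Bk' + t) :
    B' = a + b ↔ (A' = a ∧ Bk' = b ∧ Bk' + t = E ∧ B' = A' + Bk') := by
  constructor
  · intro hB
    subst hB
    induction A' using WithBot.recBotCoe with
    | bot =>
      exfalso
      rw [WithBot.bot_add, le_bot_iff] at h3
      have : ((a + b + t : ℕ) : WithBot ℕ∞) = ⊥ := by push_cast; exact h3
      exact WithBot.coe_ne_bot (a := ((a + b + t : ℕ) : ℕ∞)) (by exact_mod_cast this)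
    | coe A' =>
      induction A' using ENat.recTopCoe with
      | top =>
        exfalso
        have : ((⊤ : ℕ∞) : WithBot ℕ∞) ≤ ((a : ℕ∞) : WithBot ℕ∞) := h1
        rw [WithBot.coe_le_coe, top_le_iff] at this
        exact ENat.natCast_ne_top a this
      | coe a' =>
        induction Bk' using WithBot.recBotCoe with
        | bot =>
          exfalso
          rw [WithBot.bot_add, le_bot_iff] at h4
          exact WithBot.coe_ne_bot (a := ((E : ℕ) : ℕ∞)) (by exact_mod_cast h4)
        | coe Bk' =>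
          induction Bk' using ENat.recTopCoe with
          | top =>
            exfalso
            have : ((⊤ : ℕ∞) : WithBot ℕ∞) ≤ ((b : ℕ∞) : WithBot ℕ∞) := h2
            rw [WithBot.coe_le_coe, top_le_iff] at this
            exact ENat.natCast_ne_top b this
          | coe b' =>
            have g1 : a' ≤ a := by exact_mod_cast h1
            have g2 : b' ≤ b := by exact_mod_cast h2
            have g3 : a + b + t ≤ a' + E := by exact_mod_cast h3
            have g4 : E ≤ b' + t := by exact_mod_cast h4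
            have e1 : a' = a := by omega
            have e2 : b' = b := by omega
            have e3 : b' + t = E := by omega
            subst e1 e2
            refine ⟨rfl, rfl, ?_, rfl⟩
            exact_mod_cast e3
  · rintro ⟨rfl, rfl, -, h⟩
    exact h



theorem stalk_dim_congr {Y : Scheme.{u}} (y y' : Y) (h : y = y') :
    ringKrullDim (Y.presheaf.stalk y) = ringKrullDim (Y.presheaf.stalk y') := by
  subst h
  rfl

theorem exists_fiber_stalk_dim_nat {X Y : Scheme.{u}} (f : X ⟶ Y) [LocallyOfFiniteType f] (x : X) :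
    ∃ b : ℕ, ringKrullDim ((f.fiber (f x)).presheaf.stalk (f.asFiber x)) = b := by
  haveI : LocallyOfFiniteType (f.fiberToSpecResidueField (f x)) :=
    MorphismProperty.pullback_snd _ _ inferInstance
  haveI : IsLocallyNoetherian (f.fiber (f x)) :=
    LocallyOfFiniteType.isLocallyNoetherian (f.fiberToSpecResidueField (f x))
  exact exists_stalk_dim_nat (Y := f.fiber (f x)) (f.asFiber x)

theorem S4985_core {X Y W₁ W₂ : Scheme.{u}} [IsLocallyNoetherian Y] (f : X ⟶ Y)
    [LocallyOfFiniteType f] (ιX : W₁ ⟶ X) [IsClosedImmersion ιX] (ιY : W₂ ⟶ Y)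
    [IsClosedImmersion ιY] (X' : Set X) (hirr : IsIrreducible X') (hcl : IsClosed X')
    (hrX : Set.range ιX = X') (η' : Y) (hrY : Set.range ιY = closure ({η'} : Set Y))
    (hη' : closure ({η'} : Set Y) = closure (f '' X')) (w : W₁) (v : W₂)
    (hv : ιY v = f (ιX w)) :
    (ringKrullDim (W₁.presheaf.stalk w) =
        ringKrullDim (Y.presheaf.stalk (f (ιX w))) +
          ringKrullDim ((f.fiber (f (ιX w))).presheaf.stalk (f.asFiber (ιX w))) ↔
      (ringKrullDim (W₂.presheaf.stalk v) = ringKrullDim (Y.presheaf.stalk (f (ιX w))) ∧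
        ringKrullDim (((ιX ≫ f).fiber ((ιX ≫ f) w)).presheaf.stalk ((ιX ≫ f).asFiber w)) =
          ringKrullDim ((f.fiber (f (ιX w))).presheaf.stalk (f.asFiber (ιX w))) ∧
        FlatMor.fibreDimAt (ιX ≫ f) w = topologicalKrullDim ↥(X' ∩ f.base ⁻¹' {η'}) ∧
        ringKrullDim (W₁.presheaf.stalk w) = ringKrullDim (W₂.presheaf.stalk v) +
          ringKrullDim (((ιX ≫ f).fiber ((ιX ≫ f) w)).presheaf.stalk
            ((ιX ≫ f).asFiber w)))) := by
  have hembX : Topology.IsEmbedding ιX := ιX.isEmbedding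
  haveI : IrreducibleSpace W₁ := by
    have h1 : IsPreirreducible (Set.univ : Set W₁) :=
      isPreirreducible_of_image ιX hembX.isInducing _ (by
        rw [Set.image_univ, hrX]; exact hirr.2)
    exact { isPreirreducible_univ := h1, toNonempty := ⟨w⟩ }
  have hξ'cl : closure ({ιX (genericPoint W₁)} : Set X) = X' := by
    have h1 : closure ({genericPoint W₁} : Set W₁) = Set.univ := (genericPoint_spec W₁).def
    rw [← Set.image_singleton, ← closure_image_closure ιX.continuous, h1, Set.image_univ, hrX,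
      hcl.closure_eq]
  have hξ'η' : f (ιX (genericPoint W₁)) = η' := by
    have h1 : IsGenericPoint (f (ιX (genericPoint W₁))) (closure (f '' X')) := by
      change closure {f (ιX (genericPoint W₁))} = _
      rw [← hξ'cl, closure_image_closure f.continuous, Set.image_singleton]
    have h2 : IsGenericPoint η' (closure (f '' X')) := hη'
    exact h1.eq h2
  have htrξ : tr (ιX ≫ f) (genericPoint W₁) = tr f (ιX (genericPoint W₁)) := by
    rw [tr_comp ιX f, tr_of_surjectiveOnStalks ιX, add_zero]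
  have he' : topologicalKrullDim ↥(X' ∩ f.base ⁻¹' {η'}) =
      ((tr (ιX ≫ f) (genericPoint W₁) : ℕ) : WithBot ℕ∞) := by
    rw [htrξ, ← dim_closure_inter_fiber f _ η' hξ'η', hξ'cl]
  have I1 := stalk_dim_le_gen (ιX ≫ f) w
  have hgen := genIn_le_stalk_dim ιY ιY.isEmbedding η' hrY.ge v
  have hcongr := genIn_congr ((ιX ≫ f) (genericPoint W₁)) η' ((ιX ≫ f) w) (ιY v) hξ'η' hv.symm
  rw [hcongr] at I1
  have I1' : ringKrullDim (W₁.presheaf.stalk w) + (tr (ιX ≫ f) w : WithBot ℕ∞) ≤
      ringKrullDim (W₂.presheaf.stalk v) + (tr (ιX ≫ f) (genericPoint W₁) : WithBot ℕ∞) :=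
    I1.trans (add_le_add_left hgen _)
  have I2 : ringKrullDim (W₂.presheaf.stalk v) ≤ ringKrullDim (Y.presheaf.stalk (f (ιX w))) := by
    have h := stalk_dim_le_of_surjectiveOnStalks ιY v
    rw [stalk_dim_congr _ _ hv] at h
    exact h
  have I3 := stalk_fiber_dim_le_of_embedding ιX hembX f w
  have I4 := tr_le_fibreDimAt_of_specializes (ιX ≫ f) w (genericPoint W₁)
    (genericPoint_specializes w)
  rw [fibreDimAt_eq (ιX ≫ f) w] at I4 ⊢
  obtain ⟨a, ha⟩ := exists_stalk_dim_nat (Y := Y) (f (ιX w))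
  obtain ⟨b, hb⟩ := exists_fiber_stalk_dim_nat f (ιX w)
  rw [he']
  change ringKrullDim (Y.presheaf.stalk (f (ιX w))) = _ at ha
  rw [ha] at I2
  rw [hb] at I3
  rw [ha, hb]
  exact arith_S4985 _ _ _ a b (tr (ιX ≫ f) w) (tr (ιX ≫ f) (genericPoint W₁)) I2 I3 I1' I4



theorem S4985_main {X Y : Scheme.{u}} [IsLocallyNoetherian Y] (f : X ⟶ Y)
    [LocallyOfFiniteType f] [QuasiCompact f] (x : X) (X' : TopologicalSpace.Closeds X) (hirr : IsIrreducible (X' : Set X))
    (hx : x ∈ X') (w : ↥(Scheme.IdealSheafData.vanishingIdeal X').subscheme)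
    (hw : (Scheme.IdealSheafData.vanishingIdeal X').subschemeι.base w = x)
    (v : ↥(Scheme.IdealSheafData.vanishingIdeal
      (⟨closure (f.base '' (X' : Set X)), isClosed_closure⟩ : TopologicalSpace.Closeds Y)).subscheme)
    (hv : (Scheme.IdealSheafData.vanishingIdeal
      (⟨closure (f.base '' (X' : Set X)), isClosed_closure⟩ : TopologicalSpace.Closeds Y)).subschemeι.base v = f.base x)
    (η' : Y) (hη' : closure ({η'} : Set Y) = closure (f.base '' (X' : Set X))) :
    letI ιX := (Scheme.IdealSheafData.vanishingIdeal X').subschemeι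
    letI dA := ringKrullDim (Y.presheaf.stalk (f.base x))
    letI dB := ringKrullDim (X.presheaf.stalk x)
    letI dA' := ringKrullDim ((Scheme.IdealSheafData.vanishingIdeal
      (⟨closure (f.base '' (X' : Set X)), isClosed_closure⟩ : TopologicalSpace.Closeds Y)).subscheme.presheaf.stalk v)
    letI dB' := ringKrullDim ((Scheme.IdealSheafData.vanishingIdeal X').subscheme.presheaf.stalk w)
    letI dBk := ringKrullDim ((f.fiber (f.base x)).presheaf.stalk (f.asFiber x))
    letI dB'k := ringKrullDim (((ιX ≫ f).fiber ((ιX ≫ f).base w)).presheaf.stalk ((ιX ≫ f).asFiber w))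
    letI e' := topologicalKrullDim ↥((X' : Set X) ∩ f.base ⁻¹' {η'})
    (dB' = dA + dBk ↔
      (dA' = dA ∧ dB'k = dBk ∧ FlatMor.fibreDimAt (ιX ≫ f) w = e' ∧ dB' = dA' + dB'k)) := by
  subst hw
  have hrX : Set.range (Scheme.IdealSheafData.vanishingIdeal X').subschemeι = (X' : Set X) := by
    rw [Scheme.IdealSheafData.range_subschemeι, Scheme.IdealSheafData.coe_support_vanishingIdeal]
  have hrY : Set.range (Scheme.IdealSheafData.vanishingIdeal
      (⟨closure (f.base '' (X' : Set X)), isClosed_closure⟩ :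
        TopologicalSpace.Closeds Y)).subschemeι = closure ({η'} : Set Y) := by
    rw [Scheme.IdealSheafData.range_subschemeι, Scheme.IdealSheafData.coe_support_vanishingIdeal,
      hη']
    rfl
  exact S4985_core f (Scheme.IdealSheafData.vanishingIdeal X').subschemeι
    (Scheme.IdealSheafData.vanishingIdeal
      (⟨closure (f.base '' (X' : Set X)), isClosed_closure⟩ :
        TopologicalSpace.Closeds Y)).subschemeι (X' : Set X) hirr X'.2 hrX η' hrY hη' w v hv


end Groth.Agent.Lib.Helper4.Chev10
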