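import Mathlib
import Groth.Prelude.Def_Cyc
import Groth.Prelude.Def_EGA43
import Groth.Agent.Lib.Helper4.Chev8
import Groth.Agent.Lib.Helper4.FibDim7
import Groth.Agent.Lib.Helper4.EffCartierDim1
import Groth.Agent.Lib.Helper4.JacDim4
import Groth.Agent.Lib.Helper4.Chev9
import Groth.Agent.Lib.Helper4.Chev10

/-!
# Dimension formula for an irreducible closed subset, second form (EGA IV 13.3.7-ish) (helper4)
-/

set_option backward.isDefEq.respectTransparency.types false
set_option synthInstance.maxHeartbeats 400000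
set_option autoImplicit false
set_option linter.unusedSectionVars false
set_option linter.style.haveILetI false
set_option linter.unusedSimpArgs false
universe u v w
open CategoryTheory CategoryTheory.Limits AlgebraicGeometry TopologicalSpace IsLocalRing Opposite
open Cardinal
open Groth.Agent.Lib.Helper4.DimIneq1 Groth.Agent.Lib.Helper4.DimFT2 Groth.Agent.Lib.Helper4.Catenary1
open Groth.Agent.Lib.Helper4.DimEq1 Groth.Agent.Lib.Helper4.DimIneq2 Groth.Agent.Lib.Helper4.DimEq2
open Groth.Agent.Lib.Helper4.DimIneq3 Groth.Agent.Lib.Helper4.DimIneq4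
open Groth.Agent.Lib.Helper4.NormFibre2 Groth.Agent.Lib.Helper4.RadBir3 Groth.Agent.Lib.Helper4.DimFT3
open Groth.Agent.Lib.Helper4.FibDim1 Groth.Agent.Lib.Helper4.FibDim2 Groth.Agent.Lib.Helper4.LocUC1
open Groth.Agent.Lib.Helper4.FibDim3 Groth.Agent.Lib.Helper4.FibDim4 Groth.Agent.Lib.Helper4.FibDim5
open Groth.Agent.Lib.Helper4.FibDim6 Groth.Agent.Lib.Helper4.FibDim7 Groth.Agent.Lib.Helper4.JacDim1
open Groth.Agent.Lib.Helper4.DimFT1
open Groth.Agent.Lib.Helper4.Chev2 Groth.Agent.Lib.Helper4.Chev5 Groth.Agent.Lib.Helper4.Chev6 Groth.Agent.Lib.Helper4.Chev8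
open Groth.Agent.Lib.Helper4.JacDim4 Groth.Agent.Lib.Helper4.EffCartierDim1
open Groth.Agent.Lib.Helper4.Chev9 Groth.Agent.Lib.Helper4.Chev4
open Groth.Agent.Lib.Helper4.Chev10

namespace Groth.Agent.Lib.Helper4.Chev11

/-- the local dimension of the fibre of a closed subscheme, computed inside the ambient scheme -/
theorem fibreDimAt_comp_eq_localDim {X Y W : Scheme.{u}} (f : X ⟶ Y) [LocallyOfFiniteType f]
    (ι : W ⟶ X) [LocallyOfFiniteType ι] (hι : Topology.IsEmbedding ι) (X' : Set X)
    (hr : Set.range ι = X') (w : W) (hw : ι w ∈ X' ∩ f.base ⁻¹' {f (ι w)}) :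
    FlatMor.fibreDimAt (ι ≫ f) w = FlatMor.localDim ↥(X' ∩ f.base ⁻¹' {f (ι w)}) ⟨ι w, hw⟩ := by
  rw [fibreDimAt_eq_localDim_preimage (ι ≫ f) w (f (ι w)) rfl]
  have hemb : Topology.IsEmbedding
      (fun a : ↥((ι ≫ f).base ⁻¹' {f (ι w)}) => ι a.1) :=
    hι.comp Topology.IsEmbedding.subtypeVal
  have hrange : Set.range (fun a : ↥((ι ≫ f).base ⁻¹' {f (ι w)}) => ι a.1) =
      X' ∩ f.base ⁻¹' {f (ι w)} := by
    ext t
    constructor
    · rintro ⟨a, rfl⟩
      refine ⟨?_, a.2⟩
      rw [← hr]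
      exact ⟨a.1, rfl⟩
    · rintro ⟨ht1, ht2⟩
      rw [← hr] at ht1
      obtain ⟨a, rfl⟩ := ht1
      exact ⟨⟨a, ht2⟩, rfl⟩
  exact localDim_homeomorph (hemb.toHomeomorph.trans (Homeomorph.setCongr hrange)) ⟨w, rfl⟩



theorem S4986_main {X Y : Scheme.{u}} [IsLocallyNoetherian Y] (f : X ⟶ Y)
    [LocallyOfFiniteType f] [QuasiCompact f] (x : X) (X' : TopologicalSpace.Closeds X) (hirr : IsIrreducible (X' : Set X))
    (hx : x ∈ X') (w : ↥(Scheme.IdealSheafData.vanishingIdeal X').subscheme)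
    (hw : (Scheme.IdealSheafData.vanishingIdeal X').subschemeι.base w = x)
    (v : ↥(Scheme.IdealSheafData.vanishingIdeal
      (⟨closure (f.base '' (X' : Set X)), isClosed_closure⟩ : TopologicalSpace.Closeds Y)).subscheme)
    (hv : (Scheme.IdealSheafData.vanishingIdeal
      (⟨closure (f.base '' (X' : Set X)), isClosed_closure⟩ : TopologicalSpace.Closeds Y)).subschemeι.base v = f.base x)
    (η' : Y) (hη' : closure ({η'} : Set Y) = closure (f.base '' (X' : Set X))) :
    letI ιX := (Scheme.IdealSheafData.vanishingIdeal X').subschemeι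
    letI dA := ringKrullDim (Y.presheaf.stalk (f.base x))
    letI dB := ringKrullDim (X.presheaf.stalk x)
    letI dA' := ringKrullDim ((Scheme.IdealSheafData.vanishingIdeal
      (⟨closure (f.base '' (X' : Set X)), isClosed_closure⟩ : TopologicalSpace.Closeds Y)).subscheme.presheaf.stalk v)
    letI dB' := ringKrullDim ((Scheme.IdealSheafData.vanishingIdeal X').subscheme.presheaf.stalk w)
    letI dBk := ringKrullDim ((f.fiber (f.base x)).presheaf.stalk (f.asFiber x))
    letI dB'k := ringKrullDim (((ιX ≫ f).fiber ((ιX ≫ f).base w)).presheaf.stalk ((ιX ≫ f).asFiber w))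
    letI e' := topologicalKrullDim ↥((X' : Set X) ∩ f.base ⁻¹' {η'})
    dB = dA + dBk →
      ((dA' = dA ∧ FlatMor.localDim ↥((X' : Set X) ∩ f.base ⁻¹' {f.base x}) ⟨x, ⟨hx, rfl⟩⟩ = FlatMor.fibreDimAt f x ∧
        FlatMor.fibreDimAt (ιX ≫ f) w = e' ∧ dB' = dA' + dB'k) ↔ dB' = dB) := by
  subst hw
  intro hB
  have h85 := S4985_main f _ X' hirr hx w rfl v hv η' hη'
  have hrX : Set.range (Scheme.IdealSheafData.vanishingIdeal X').subschemeι = (X' : Set X) := by
    rw [Scheme.IdealSheafData.range_subschemeι, Scheme.IdealSheafData.coe_support_vanishingIdeal]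
  have hloc := fibreDimAt_comp_eq_localDim f (Scheme.IdealSheafData.vanishingIdeal X').subschemeι
    (Scheme.IdealSheafData.vanishingIdeal X').subschemeι.isEmbedding (X' : Set X) hrX w ⟨hx, rfl⟩
  have htr : tr ((Scheme.IdealSheafData.vanishingIdeal X').subschemeι ≫ f) w =
      tr f ((Scheme.IdealSheafData.vanishingIdeal X').subschemeι w) := by
    rw [tr_comp (Scheme.IdealSheafData.vanishingIdeal X').subschemeι f,
      tr_of_surjectiveOnStalks (Scheme.IdealSheafData.vanishingIdeal X').subschemeι, add_zero]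
  have hii : (FlatMor.localDim ↥((X' : Set X) ∩ f.base ⁻¹'
        {f.base ((Scheme.IdealSheafData.vanishingIdeal X').subschemeι w)})
        ⟨(Scheme.IdealSheafData.vanishingIdeal X').subschemeι w, ⟨hx, rfl⟩⟩ =
        FlatMor.fibreDimAt f ((Scheme.IdealSheafData.vanishingIdeal X').subschemeι w)) ↔
      ringKrullDim ((((Scheme.IdealSheafData.vanishingIdeal X').subschemeι ≫ f).fiber
        (((Scheme.IdealSheafData.vanishingIdeal X').subschemeι ≫ f).base w)).presheaf.stalk
        (((Scheme.IdealSheafData.vanishingIdeal X').subschemeι ≫ f).asFiber w)) =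
      ringKrullDim ((f.fiber (f.base ((Scheme.IdealSheafData.vanishingIdeal X').subschemeι w))).presheaf.stalk
        (f.asFiber ((Scheme.IdealSheafData.vanishingIdeal X').subschemeι w))) := by
    rw [← hloc, fibreDimAt_eq ((Scheme.IdealSheafData.vanishingIdeal X').subschemeι ≫ f) w,
      fibreDimAt_eq f ((Scheme.IdealSheafData.vanishingIdeal X').subschemeι w), htr]
    constructor
    · intro h
      exact add_natCast_cancel _ _ _ h
    · intro h
      rw [h]
  rw [hii, hB]
  exact h85.symm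


end Groth.Agent.Lib.Helper4.Chev11
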