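import Mathlib
import Groth.Prelude.Def_Cyc
import Groth.Prelude.Def_EGA43
import Groth.Agent.Lib.Helper4.Chev8
import Groth.Agent.Lib.Helper4.FibDim7
import Groth.Agent.Lib.Helper4.EffCartierDim1
import Groth.Agent.Lib.Helper4.JacDim4
import Groth.Agent.Lib.Helper4.Chev9
import Groth.Agent.Lib.Helper4.Chev10
import Groth.Agent.Lib.Helper4.Chev11

/-!
# Equidimensional morphisms: dimension formulas at a point (EGA IV 13.3.x) (helper4)
-/

set_option backward.isDefEq.respectTransparency.types false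
set_option synthInstance.maxHeartbeats 400000
set_option autoImplicit false
set_option linter.unusedSectionVars false
set_option linter.style.haveILetI false
set_option linter.unusedSimpArgs false
universe u v w
open CategoryTheory CategoryTheory.Limits AlgebraicGeometry TopologicalSpace IsLocalRing Opposite
open Cardinal
open Groth.Agent.Lib.Helper4.DimIneq1 Groth.Agent.Lib.Helper4.DimFT2 Groth.Agent.Lib.Helper4.Catenary1
open Groth.Agent.Lib.Helper4.DimEq1 Groth.Agent.Lib.Helper4.DimIneq2 Groth.Agent.Lib.Helper4.DimEq2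
open Groth.Agent.Lib.Helper4.DimIneq3 Groth.Agent.Lib.Helper4.DimIneq4
open Groth.Agent.Lib.Helper4.NormFibre2 Groth.Agent.Lib.Helper4.RadBir3 Groth.Agent.Lib.Helper4.DimFT3
open Groth.Agent.Lib.Helper4.FibDim1 Groth.Agent.Lib.Helper4.FibDim2 Groth.Agent.Lib.Helper4.LocUC1
open Groth.Agent.Lib.Helper4.FibDim3 Groth.Agent.Lib.Helper4.FibDim4 Groth.Agent.Lib.Helper4.FibDim5
open Groth.Agent.Lib.Helper4.FibDim6 Groth.Agent.Lib.Helper4.FibDim7 Groth.Agent.Lib.Helper4.JacDim1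
open Groth.Agent.Lib.Helper4.DimFT1
open Groth.Agent.Lib.Helper4.Chev2 Groth.Agent.Lib.Helper4.Chev5 Groth.Agent.Lib.Helper4.Chev6 Groth.Agent.Lib.Helper4.Chev8
open Groth.Agent.Lib.Helper4.JacDim4 Groth.Agent.Lib.Helper4.EffCartierDim1
open Groth.Agent.Lib.Helper4.Chev9 Groth.Agent.Lib.Helper4.Chev4
open Groth.Agent.Lib.Helper4.Chev10 Groth.Agent.Lib.Helper4.Chev11 Groth.Agent.Lib.Helper4.Chev3

namespace Groth.Agent.Lib.Helper4.Equi1

section Equi

variable {X Y : Scheme.{u}} (f : X ⟶ Y) [LocallyOfFiniteType f]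

/-- what equidimensionality at a point says about maximal points -/
theorem isEquidimAt_facts [IsLocallyNoetherian Y] (x : X) (h : EGA43.IsEquidimAt f x) :
    ∃ (e : ℕ) (U : X.Opens), x ∈ U ∧
      (∀ ξ : X, ξ ∈ U → (∀ ξ' : X, ξ' ⤳ ξ → ξ' = ξ) →
        closure ({f ξ} : Set Y) ∈ irreducibleComponents Y ∧ f ξ ⤳ f x) ∧
      (∀ z : X, z ∈ U → (∀ z' : X, f z' = f z → z' ⤳ z → z' = z) → tr f z = e) := by
  obtain ⟨e, U, hxU, h1, h2⟩ := h
  refine ⟨e, U, hxU, ?_, ?_⟩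
  · intro ξ hξU hmax
    let ξU : ↥(U : Scheme.{u}) := ⟨ξ, hξU⟩
    have hmaxU : ∀ z' : ↥(U : Scheme.{u}), z' ⤳ ξU → z' = ξU := by
      intro z' hsp
      have h3 : U.ι z' ⤳ U.ι ξU := hsp.map U.ι.continuous
      exact Subtype.ext (hmax _ h3)
    have hZ := closure_mem_irreducibleComponents_of_max (X := (U : Scheme.{u})) ξU hmaxU
    obtain ⟨W, hW, hxW, hcl⟩ := h1 _ hZ
    have hW' : closure ({f ξ} : Set Y) = W := by
      rw [← hcl, closure_image_closure (U.ι ≫ f).continuous, Set.image_singleton]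
      rfl
    refine ⟨hW' ▸ hW, ?_⟩
    rw [specializes_iff_mem_closure, hW']
    exact hxW
  · intro z hzU hmax
    let zU : ↥(U : Scheme.{u}) := ⟨z, hzU⟩
    have hmaxU : ∀ z' : ↥(U : Scheme.{u}), (U.ι ≫ f) z' = (U.ι ≫ f) zU → z' ⤳ zU → z' = zU := by
      intro z' hz' hsp
      have h3 : U.ι z' ⤳ U.ι zU := hsp.map U.ι.continuous
      exact Subtype.ext (hmax _ hz' h3)
    have hmem := (mem_compDims_iff (U.ι ≫ f) ((U.ι ≫ f) zU)
      ((tr (U.ι ≫ f) zU : ℕ) : WithBot ℕ∞)).mpr ⟨zU, rfl, hmaxU, rfl⟩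
    obtain ⟨Z, hZ, hd⟩ := hmem
    have h4 := h2 zU Z hZ
    have h5 : ((tr (U.ι ≫ f) zU : ℕ) : WithBot ℕ∞) = (e : WithBot ℕ∞) := hd.symm.trans h4
    rw [tr_restrict f U zU] at h5
    exact_mod_cast h5

end Equi



/-- the dimension of the quotient of a local ring of a scheme by a prime, in topological terms -/
theorem dim_stalk_quot_eq_genIn {X : Scheme.{u}} (x : X) (𝔭 : Ideal (X.presheaf.stalk x))
    [h𝔭 : 𝔭.IsPrime] :
    ringKrullDim (X.presheaf.stalk x ⧸ 𝔭) =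
      topologicalKrullDim ↥{t : X | t ∈ closure ({X.fromSpecStalk x ⟨𝔭, h𝔭⟩} : Set X) ∧ t ⤳ x} := by
  haveI : QuasiSober ↥{t : X | t ∈ closure ({X.fromSpecStalk x ⟨𝔭, h𝔭⟩} : Set X) ∧ t ⤳ x} :=
    quasiSober_gen _ isClosed_closure x
  have hemb : Topology.IsEmbedding (X.fromSpecStalk x) := (X.fromSpecStalk x).isEmbedding
  rw [Groth.Agent.Helper4.GM.topologicalKrullDim_eq_krullDim_specialization, ringKrullDim,
    Order.krullDim_eq_of_orderIso 𝔭.primeSpectrumQuotientOrderIsoZeroLocus,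
    ← Order.krullDim_orderDual (α := ↥(PrimeSpectrum.zeroLocus (𝔭 : Set (X.presheaf.stalk x))))]
  have hle : ∀ a b : ↥{t : X | t ∈ closure ({X.fromSpecStalk x ⟨𝔭, h𝔭⟩} : Set X) ∧ t ⤳ x},
      (specializationOrder ↥{t : X | t ∈ closure ({X.fromSpecStalk x ⟨𝔭, h𝔭⟩} : Set X) ∧
        t ⤳ x}).le a b ↔ b.1 ⤳ a.1 := by
    intro a b
    change b ⤳ a ↔ b.1 ⤳ a.1
    rw [Topology.IsInducing.subtypeVal.specializes_iff]
  have hiff : ∀ P₁ P₂ : PrimeSpectrum (X.presheaf.stalk x),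
      X.fromSpecStalk x P₁ ⤳ X.fromSpecStalk x P₂ ↔ P₁ ≤ P₂ := by
    intro P₁ P₂
    rw [hemb.isInducing.specializes_iff, PrimeSpectrum.le_iff_specializes]
    exact Iff.rfl
  have hmem : ∀ P : ↥(PrimeSpectrum.zeroLocus (𝔭 : Set (X.presheaf.stalk x))),
      X.fromSpecStalk x P.1 ∈
        {t : X | t ∈ closure ({X.fromSpecStalk x ⟨𝔭, h𝔭⟩} : Set X) ∧ t ⤳ x} := by
    intro P
    constructor
    · rw [← specializes_iff_mem_closure, hiff]
      exact P.2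
    · have : X.fromSpecStalk x P.1 ∈ Set.range (X.fromSpecStalk x) := ⟨_, rfl⟩
      rw [Scheme.range_fromSpecStalk] at this
      exact this
  apply le_antisymm
  · refine @Order.krullDim_le_of_strictMono _ _ _
      (specializationOrder ↥{t : X | t ∈ closure ({X.fromSpecStalk x ⟨𝔭, h𝔭⟩} : Set X) ∧
        t ⤳ x}).toPreorder
      (fun P : (↥(PrimeSpectrum.zeroLocus (𝔭 : Set (X.presheaf.stalk x))))ᵒᵈ =>
        (⟨X.fromSpecStalk x (OrderDual.ofDual P).1, hmem (OrderDual.ofDual P)⟩ :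
          ↥{t : X | t ∈ closure ({X.fromSpecStalk x ⟨𝔭, h𝔭⟩} : Set X) ∧ t ⤳ x})) ?_
    intro a b hlt
    rw [← OrderDual.ofDual_lt_ofDual, lt_iff_le_not_ge] at hlt
    apply (@lt_iff_le_not_ge _
      (specializationOrder ↥{t : X | t ∈ closure ({X.fromSpecStalk x ⟨𝔭, h𝔭⟩} : Set X) ∧
        t ⤳ x}).toPreorder _ _).mpr
    constructor
    · rw [hle]
      exact (hiff _ _).mpr hlt.1
    · intro h
      rw [hle] at h
      exact hlt.2 ((hiff _ _).mp h)
  · have hpre : ∀ t : ↥{t : X | t ∈ closure ({X.fromSpecStalk x ⟨𝔭, h𝔭⟩} : Set X) ∧ t ⤳ x},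
        ∃ P : PrimeSpectrum (X.presheaf.stalk x), X.fromSpecStalk x P = t.1 := by
      intro t
      have : t.1 ∈ Set.range (X.fromSpecStalk x) := by
        rw [Scheme.range_fromSpecStalk]
        exact t.2.2
      exact this
    choose φ hφ using hpre
    have hφmem : ∀ t, φ t ∈ PrimeSpectrum.zeroLocus (𝔭 : Set (X.presheaf.stalk x)) := by
      intro t
      have h1 : X.fromSpecStalk x ⟨𝔭, h𝔭⟩ ⤳ X.fromSpecStalk x (φ t) := by
        rw [hφ, specializes_iff_mem_closure]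
        exact t.2.1
      exact (hiff _ _).mp h1
    refine @Order.krullDim_le_of_strictMono _ _
      (specializationOrder ↥{t : X | t ∈ closure ({X.fromSpecStalk x ⟨𝔭, h𝔭⟩} : Set X) ∧
        t ⤳ x}).toPreorder _
      (fun t => OrderDual.toDual (⟨φ t, hφmem t⟩ :
        ↥(PrimeSpectrum.zeroLocus (𝔭 : Set (X.presheaf.stalk x))))) ?_
    intro a b hlt
    have hlt' := (@lt_iff_le_not_ge _
      (specializationOrder ↥{t : X | t ∈ closure ({X.fromSpecStalk x ⟨𝔭, h𝔭⟩} : Set X) ∧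
        t ⤳ x}).toPreorder a b).mp hlt
    rw [OrderDual.toDual_lt_toDual, lt_iff_le_not_ge]
    constructor
    · change φ b ≤ φ a
      rw [← hiff, hφ, hφ]
      exact (hle a b).mp hlt'.1
    · intro h
      apply hlt'.2
      rw [hle b a, ← hφ, ← hφ, hiff]
      exact h



section GenDim3

variable {X Y : Scheme.{u}} (f : X ⟶ Y) [LocallyOfFiniteType f]

/-- the relative dimension formula between a point and a generization of it, at a point whose
image has universally catenary local ring -/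
theorem genIn_eq_of_uc [IsLocallyNoetherian Y] (ξ x : X) (hsp : ξ ⤳ x)
    (hcat : CAlg.IsUniversallyCatenary (Y.presheaf.stalk (f x))) :
    topologicalKrullDim ↥{t : X | t ∈ closure ({ξ} : Set X) ∧ t ⤳ x} + (tr f x : WithBot ℕ∞) =
      topologicalKrullDim ↥{t : Y | t ∈ closure ({f ξ} : Set Y) ∧ t ⤳ f x} +
        (tr f ξ : WithBot ℕ∞) := by
  obtain ⟨V, hV, hsV, -⟩ := exists_isAffineOpen_mem_and_subset (U := (⊤ : Y.Opens)) (x := f x)
    trivial
  obtain ⟨U, hU, hxU, hUV⟩ := exists_isAffineOpen_mem_and_subset (U := f ⁻¹ᵁ V) (x := x) hsV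
  letI alg : Algebra Γ(Y, V) Γ(X, U) := (f.appLE V U hUV).hom.toAlgebra
  haveI : IsNoetherianRing Γ(Y, V) := IsLocallyNoetherian.component_noetherian ⟨V, hV⟩
  haveI : Algebra.FiniteType Γ(Y, V) Γ(X, U) := LocallyOfFiniteType.finiteType_appLE f hV hU hUV
  haveI : IsNoetherianRing Γ(X, U) := Algebra.FiniteType.isNoetherianRing Γ(Y, V) Γ(X, U)
  have hξU : ξ ∈ U := hsp.mem_open U.2 hxU
  haveI hlo := liesOver_chart f hV hU hUV x hxU rfl
  haveI hloξ := liesOver_chart f hV hU hUV ξ hξU rfl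
  have hQq : (hU.primeIdealOf ⟨ξ, hξU⟩).asIdeal ≤ (hU.primeIdealOf ⟨x, hxU⟩).asIdeal :=
    (specializes_iff_primeIdealOf_le hU ⟨ξ, hξU⟩ ⟨x, hxU⟩).mp hsp
  have hloc := isUniversallyCatenary_chart hV (f x) (hUV hxU) hcat
  have key := dim_eq_rel_of_local Γ(Y, V) Γ(X, U) (hV.primeIdealOf ⟨f x, hUV hxU⟩).asIdeal
    (hU.primeIdealOf ⟨x, hxU⟩).asIdeal (hU.primeIdealOf ⟨ξ, hξU⟩).asIdeal hQq hloc
  rw [tr_chart f hV hU hUV x hxU rfl] at key
  have h1 : Algebra.trdeg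
      (Γ(Y, V) ⧸ (hU.primeIdealOf ⟨ξ, hξU⟩).asIdeal.under Γ(Y, V))
      (Γ(X, U) ⧸ (hU.primeIdealOf ⟨ξ, hξU⟩).asIdeal) =
      (tr f ξ : Cardinal.{u}) := by
    rw [← tr_chart f hV hU hUV ξ hξU rfl]
    exact trdeg_quot_congr _ _ _ _ hloξ.over.symm rfl
  rw [h1, height_map_mk_congr _ _ _ hloξ.over.symm] at key
  have hsp' : f ξ ⤳ f x := hsp.map f.continuous
  rw [dim_genIn_eq hU ξ x hxU hξU hsp, dim_genIn_eq hV (f ξ) (f x) (hUV hxU) (hUV hξU) hsp']
  have hp : (hV.primeIdealOf ⟨f ξ, hUV hξU⟩).asIdeal ≤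
      (hV.primeIdealOf ⟨f x, hUV hxU⟩).asIdeal :=
    (specializes_iff_primeIdealOf_le hV ⟨_, hUV hξU⟩ ⟨_, hUV hxU⟩).mp hsp'
  haveI := isPrime_map_mk _ _ hp
  haveI := isPrime_map_mk _ _ hQq
  obtain ⟨c₀, hc₀⟩ := exists_height_nat ((hU.primeIdealOf ⟨x, hxU⟩).asIdeal.map
    (Ideal.Quotient.mk (hU.primeIdealOf ⟨ξ, hξU⟩).asIdeal))
  obtain ⟨m₀, hm₀⟩ := exists_height_nat ((hV.primeIdealOf ⟨f x, hUV hxU⟩).asIdeal.map
    (Ideal.Quotient.mk (hV.primeIdealOf ⟨f ξ, hUV hξU⟩).asIdeal))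
  rw [hc₀, hm₀] at key ⊢
  have key' : c₀ + tr f x = m₀ + tr f ξ := by exact_mod_cast key
  have : ((c₀ + tr f x : ℕ) : WithBot ℕ∞) = ((m₀ + tr f ξ : ℕ) : WithBot ℕ∞) := by
    rw [key']
  push_cast at this
  exact this

end GenDim3



section Equi2

variable {X Y : Scheme.{u}} (f : X ⟶ Y) [LocallyOfFiniteType f]

theorem fibreDimAt_eq_of_facts [IsLocallyNoetherian Y] (x : X) (e : ℕ) (U : X.Opens) (hxU : x ∈ U)
    (h2 : ∀ z : X, z ∈ U → (∀ z' : X, f z' = f z → z' ⤳ z → z' = z) → tr f z = e) :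
    FlatMor.fibreDimAt f x = (e : WithBot ℕ∞) := by
  apply le_antisymm
  · apply fibreDimAt_le_of_max_tr_le
    intro z hz hsp hmax
    exact (h2 z (hsp.mem_open U.2 hxU) hmax).le
  · obtain ⟨zm, hzm, hmaxm⟩ := exists_isMax_ge_fib f (f x) ⟨x, rfl⟩
    have hmax : ∀ z' : X, f z' = f zm.1 → z' ⤳ zm.1 → z' = zm.1 := by
      intro z' hz' hsp
      have h1 : zm ≤ ⟨z', hz'.trans zm.2⟩ := hsp
      have h2 : zm.1 ⤳ z' := hmaxm h1
      exact (hsp.antisymm h2).eq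
    have hsp : zm.1 ⤳ x := hzm
    rw [← h2 zm.1 (hsp.mem_open U.2 hxU) hmax]
    exact tr_le_fibreDimAt_of_specializes f x zm.1 hsp

end Equi2



section Equi3

variable {X Y : Scheme.{u}} (f : X ⟶ Y) [LocallyOfFiniteType f]

theorem fromSpecStalk_specializes {X : Scheme.{u}} (x : X) (P : PrimeSpectrum (X.presheaf.stalk x)) :
    X.fromSpecStalk x P ⤳ x := by
  have : X.fromSpecStalk x P ∈ Set.range (X.fromSpecStalk x) := ⟨_, rfl⟩
  rw [Scheme.range_fromSpecStalk] at this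
  exact this

theorem fromSpecStalk_specializes_iff {X : Scheme.{u}} (x : X)
    (P₁ P₂ : PrimeSpectrum (X.presheaf.stalk x)) :
    X.fromSpecStalk x P₁ ⤳ X.fromSpecStalk x P₂ ↔ P₁ ≤ P₂ := by
  rw [(X.fromSpecStalk x).isEmbedding.isInducing.specializes_iff, PrimeSpectrum.le_iff_specializes]
  exact Iff.rfl

/-- a minimal prime of a local ring of a scheme gives a maximal point -/
theorem fromSpecStalk_max_of_minimal {X : Scheme.{u}} (x : X) (𝔭 : Ideal (X.presheaf.stalk x))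
    (h𝔭 : 𝔭 ∈ minimalPrimes (X.presheaf.stalk x)) (ξ' : X)
    (hsp : ξ' ⤳ X.fromSpecStalk x ⟨𝔭, h𝔭.1.1⟩) : ξ' = X.fromSpecStalk x ⟨𝔭, h𝔭.1.1⟩ := by
  have hmem : ξ' ∈ Set.range (X.fromSpecStalk x) := by
    rw [Scheme.range_fromSpecStalk]
    exact hsp.trans (fromSpecStalk_specializes x _)
  obtain ⟨P', rfl⟩ := hmem
  have hle : PrimeSpectrum.asIdeal P' ≤ 𝔭 :=
    (fromSpecStalk_specializes_iff x P' ⟨𝔭, h𝔭.1.1⟩).mp hsp
  have heq : PrimeSpectrum.asIdeal P' = 𝔭 :=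
    le_antisymm hle (h𝔭.2 ⟨PrimeSpectrum.isPrime P', bot_le⟩ hle)
  have : P' = (⟨𝔭, h𝔭.1.1⟩ : PrimeSpectrum (X.presheaf.stalk x)) := PrimeSpectrum.ext heq
  rw [this]

theorem map_fromSpecStalk (x : X) (P : PrimeSpectrum (X.presheaf.stalk x)) :
    f (X.fromSpecStalk x P) =
      Y.fromSpecStalk (f x) ⟨P.asIdeal.comap (f.stalkMap x).hom, Ideal.comap_isPrime _ _⟩ := by
  have h1 := congr($(Scheme.SpecMap_stalkMap_fromSpecStalk (f := f) (x := x)) P)
  rw [Scheme.Hom.comp_apply, Scheme.Hom.comp_apply] at h1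
  rw [← h1]
  rfl

theorem S3457_main [IsLocallyNoetherian Y] (x : X) (h : EGA43.IsEquidimAt f x)
    (hcat : CAlg.IsUniversallyCatenary (Y.presheaf.stalk (f.base x))) :
    letI : Algebra (Y.residueField (f.base x)) (X.residueField x) := (f.residueFieldMap x).hom.toAlgebra
    ∀ 𝔭 ∈ minimalPrimes (X.presheaf.stalk x),
      ringKrullDim (X.presheaf.stalk x ⧸ 𝔭) +
          (Cardinal.toNat (Algebra.trdeg (Y.residueField (f.base x)) (X.residueField x)) : WithBot ℕ∞) =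
        ringKrullDim (Y.presheaf.stalk (f.base x) ⧸ 𝔭.comap (f.stalkMap x).hom) + FlatMor.fibreDimAt f x := by
  intro 𝔭 h𝔭
  obtain ⟨e, U, hxU, h1, h2⟩ := isEquidimAt_facts f x h
  haveI hp : 𝔭.IsPrime := h𝔭.1.1
  haveI hpc : (𝔭.comap (f.stalkMap x).hom).IsPrime := Ideal.comap_isPrime _ _
  have hξx : X.fromSpecStalk x ⟨𝔭, hp⟩ ⤳ x := fromSpecStalk_specializes x _
  have hξU : X.fromSpecStalk x ⟨𝔭, hp⟩ ∈ U := hξx.mem_open U.2 hxU
  have hξmax : ∀ ξ' : X, ξ' ⤳ X.fromSpecStalk x ⟨𝔭, hp⟩ → ξ' = X.fromSpecStalk x ⟨𝔭, hp⟩ :=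
    fun ξ' hsp => fromSpecStalk_max_of_minimal x 𝔭 h𝔭 ξ' hsp
  have htrξ : tr f (X.fromSpecStalk x ⟨𝔭, hp⟩) = e :=
    h2 _ hξU (fun z' _ hsp => hξmax z' hsp)
  have hfd := fibreDimAt_eq_of_facts f x e U hxU h2
  have hfξ := map_fromSpecStalk f x ⟨𝔭, hp⟩
  rw [dim_stalk_quot_eq_genIn x 𝔭, dim_stalk_quot_eq_genIn (f x) (𝔭.comap (f.stalkMap x).hom),
    ← hfξ, hfd, ← htrξ, tr_spec f x, Cardinal.toNat_natCast]
  exact genIn_eq_of_uc f _ x hξx hcat

end Equi3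



section Equi4

variable {X Y : Scheme.{u}} (f : X ⟶ Y) [LocallyOfFiniteType f]

/-- a prime of a local ring of a scheme whose point is the generic point of an irreducible
component is minimal -/
theorem minimal_of_closure_mem_irreducibleComponents {Y : Scheme.{u}} (y : Y)
    (P : PrimeSpectrum (Y.presheaf.stalk y))
    (h : closure ({Y.fromSpecStalk y P} : Set Y) ∈ irreducibleComponents Y) :
    P.asIdeal ∈ minimalPrimes (Y.presheaf.stalk y) := by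
  refine ⟨⟨P.isPrime, bot_le⟩, ?_⟩
  rintro q ⟨hq, -⟩ hle
  have hle' : (⟨q, hq⟩ : PrimeSpectrum (Y.presheaf.stalk y)) ≤ P := hle
  have h1 : Y.fromSpecStalk y ⟨q, hq⟩ ⤳ Y.fromSpecStalk y P :=
    (fromSpecStalk_specializes_iff y _ _).mpr hle'
  have h2 : closure ({Y.fromSpecStalk y P} : Set Y) ⊆ closure ({Y.fromSpecStalk y ⟨q, hq⟩} : Set Y) :=
    closure_minimal (Set.singleton_subset_iff.mpr (specializes_iff_mem_closure.mp h1))
      isClosed_closure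
  have h3 := h.2 isIrreducible_singleton.closure h2
  have h4 : Y.fromSpecStalk y P ⤳ Y.fromSpecStalk y ⟨q, hq⟩ := by
    rw [specializes_iff_mem_closure]
    exact h3 (subset_closure (Set.mem_singleton _))
  exact (fromSpecStalk_specializes_iff y _ _).mp h4

theorem S3438_main [IsLocallyNoetherian Y] (x : X)
    (hY : EGA4.IsEquidim (Y.presheaf.stalk (f.base x)))
    (hcat : CAlg.IsUniversallyCatenary (Y.presheaf.stalk (f.base x))) (h : EGA43.IsEquidimAt f x) :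
    ringKrullDim (X.presheaf.stalk x) =
        ringKrullDim (Y.presheaf.stalk (f.base x)) + ringKrullDim ((f.fiber (f.base x)).presheaf.stalk (f.asFiber x)) := by
  apply le_antisymm (Groth.Agent.Lib.Helper4.FibreStalkDim1.S3447_main f x)
  obtain ⟨𝔭, h𝔭, -⟩ := Ideal.exists_minimalPrimes_le (I := (⊥ : Ideal (X.presheaf.stalk x)))
    (J := IsLocalRing.maximalIdeal (X.presheaf.stalk x)) bot_le
  have h𝔭' : 𝔭 ∈ minimalPrimes (X.presheaf.stalk x) := h𝔭
  haveI hp : 𝔭.IsPrime := h𝔭.1.1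
  obtain ⟨e, U, hxU, h1, h2⟩ := isEquidimAt_facts f x h
  have hξx : X.fromSpecStalk x ⟨𝔭, hp⟩ ⤳ x := fromSpecStalk_specializes x _
  have hξU : X.fromSpecStalk x ⟨𝔭, hp⟩ ∈ U := hξx.mem_open U.2 hxU
  have hξmax : ∀ ξ' : X, ξ' ⤳ X.fromSpecStalk x ⟨𝔭, hp⟩ → ξ' = X.fromSpecStalk x ⟨𝔭, hp⟩ :=
    fun ξ' hsp => fromSpecStalk_max_of_minimal x 𝔭 h𝔭' ξ' hsp
  have hcomp := (h1 _ hξU hξmax).1
  rw [map_fromSpecStalk f x ⟨𝔭, hp⟩] at hcomp
  have hmin := minimal_of_closure_mem_irreducibleComponents (f x) _ hcomp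
  have hdimY := hY _ hmin
  have key := S3457_main f x h hcat 𝔭 h𝔭'
  rw [tr_spec f x, Cardinal.toNat_natCast, fibreDimAt_eq f x] at key
  change ringKrullDim (X.presheaf.stalk x ⧸ 𝔭) + _ =
    ringKrullDim (Y.presheaf.stalk (f x) ⧸ 𝔭.comap (f.stalkMap x).hom) + _ at key
  change ringKrullDim (Y.presheaf.stalk (f x) ⧸ 𝔭.comap (f.stalkMap x).hom) = _ at hdimY
  rw [hdimY, ← add_assoc] at key
  have key' := add_natCast_cancel _ _ _ key
  rw [← key']
  exact ringKrullDim_quotient_le 𝔭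

end Equi4


end Groth.Agent.Lib.Helper4.Equi1
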