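import Mathlib
import Groth.Prelude.Def_Cyc
import Groth.Prelude.Def_EGA43
import Groth.Agent.Lib.Helper4.Chev8
import Groth.Agent.Lib.Helper4.FibDim7
import Groth.Agent.Lib.Helper4.EffCartierDim1
import Groth.Agent.Lib.Helper4.JacDim4
import Groth.Agent.Lib.Helper4.Chev9
import Groth.Agent.Lib.Helper4.Chev10
import Groth.Agent.Lib.Helper4.Chev11
import Groth.Agent.Lib.Helper4.Equi1

/-!
# Equidimensional morphisms: irreducible closed subsets of the expected codimension (EGA IV 13.3.x) (helper4)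
-/

set_option backward.isDefEq.respectTransparency.types false
set_option synthInstance.maxHeartbeats 400000
set_option autoImplicit false
set_option linter.unusedSectionVars false
set_option linter.style.haveILetI false
set_option linter.unusedSimpArgs false
universe u v w
open CategoryTheory CategoryTheory.Limits AlgebraicGeometry TopologicalSpace IsLocalRing Opposite
open Cardinal
open Groth.Agent.Lib.Helper4.DimIneq1 Groth.Agent.Lib.Helper4.DimFT2 Groth.Agent.Lib.Helper4.Catenary1
open Groth.Agent.Lib.Helper4.DimEq1 Groth.Agent.Lib.Helper4.DimIneq2 Groth.Agent.Lib.Helper4.DimEq2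
open Groth.Agent.Lib.Helper4.DimIneq3 Groth.Agent.Lib.Helper4.DimIneq4
open Groth.Agent.Lib.Helper4.NormFibre2 Groth.Agent.Lib.Helper4.RadBir3 Groth.Agent.Lib.Helper4.DimFT3
open Groth.Agent.Lib.Helper4.FibDim1 Groth.Agent.Lib.Helper4.FibDim2 Groth.Agent.Lib.Helper4.LocUC1
open Groth.Agent.Lib.Helper4.FibDim3 Groth.Agent.Lib.Helper4.FibDim4 Groth.Agent.Lib.Helper4.FibDim5
open Groth.Agent.Lib.Helper4.FibDim6 Groth.Agent.Lib.Helper4.FibDim7 Groth.Agent.Lib.Helper4.JacDim1
open Groth.Agent.Lib.Helper4.DimFT1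
open Groth.Agent.Lib.Helper4.Chev2 Groth.Agent.Lib.Helper4.Chev5 Groth.Agent.Lib.Helper4.Chev6 Groth.Agent.Lib.Helper4.Chev8
open Groth.Agent.Lib.Helper4.JacDim4 Groth.Agent.Lib.Helper4.EffCartierDim1
open Groth.Agent.Lib.Helper4.Chev9 Groth.Agent.Lib.Helper4.Chev4
open Groth.Agent.Lib.Helper4.Chev10 Groth.Agent.Lib.Helper4.Chev11 Groth.Agent.Lib.Helper4.Chev3 Groth.Agent.Lib.Helper4.Equi1

namespace Groth.Agent.Lib.Helper4.Equi2

section EquiIrr

variable {X Y : Scheme.{u}} (f : X ⟶ Y) [LocallyOfFiniteType f]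

/-- a dominant morphism of irreducible schemes is equidimensional at a point where the local
dimension of the fibre is at most the dimension of the generic fibre -/
theorem isEquidimAt_of_irreducible [IsLocallyNoetherian Y] [IrreducibleSpace X] [IrreducibleSpace Y]
    (hη : f (genericPoint X) = genericPoint Y) (x : X)
    (hle : FlatMor.fibreDimAt f x ≤ ((tr f (genericPoint X) : ℕ) : WithBot ℕ∞)) :
    EGA43.IsEquidimAt f x := by
  have hgen : ∀ x' : X, genericPoint X ⤳ x' := fun x' =>
    (genericPoint_spec X).specializes (Set.mem_univ _)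
  let U : X.Opens := ⟨{x' : X | FlatMor.fibreDimAt f x' ≤ ((tr f (genericPoint X) : ℕ) : WithBot ℕ∞)},
    Groth.Agent.Lib.Helper4.Chev2.S0402_main f _⟩
  have hxU : x ∈ U := hle
  have hξU : genericPoint X ∈ U :=
    ((genericPoint_spec X).mem_open_set_iff U.2).mpr ⟨x, Set.mem_univ _, hxU⟩
  haveI : Nonempty ↥(U : Scheme.{u}) := ⟨⟨x, hxU⟩⟩
  haveI hirrU : IrreducibleSpace ↥(U : Scheme.{u}) := U.ι.isOpenEmbedding.irreducibleSpace
  haveI hirrU' : IrreducibleSpace (↥U : Type u) := hirrU
  refine ⟨tr f (genericPoint X), U, hxU, ?_, ?_⟩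
  · intro Z hZ
    rw [irreducibleComponents_eq_singleton, Set.mem_singleton_iff] at hZ
    refine ⟨Set.univ, ?_, Set.mem_univ _, ?_⟩
    · rw [irreducibleComponents_eq_singleton]
      exact Set.mem_singleton _
    · rw [Set.eq_univ_iff_forall]
      intro y
      let ξU : ↥(U : Scheme.{u}) := ⟨genericPoint X, hξU⟩
      have h1 : (U.ι ≫ f).base ξU ∈ (U.ι ≫ f).base '' Z := by
        rw [hZ]
        exact Set.mem_image_of_mem _ (Set.mem_univ _)
      have h2 : (U.ι ≫ f).base ξU = genericPoint Y := hη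
      rw [h2] at h1
      have h3 : y ∈ closure ({genericPoint Y} : Set Y) := by
        rw [(genericPoint_spec Y).def]
        exact Set.mem_univ _
      exact closure_mono (Set.singleton_subset_iff.mpr h1) h3
  · intro x' Z hZ
    have hmem : topologicalKrullDim ↥Z ∈
        (fun Z : Set ↥((U.ι ≫ f).fiber ((U.ι ≫ f).base x')) => topologicalKrullDim ↥Z) ''
          irreducibleComponents ↥((U.ι ≫ f).fiber ((U.ι ≫ f).base x')) := ⟨Z, hZ, rfl⟩
    rw [mem_compDims_iff] at hmem
    obtain ⟨z', hz', hmax', hd⟩ := hmem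
    rw [hd, tr_restrict f U z']
    have hmaxf : ∀ w : X, f w = f z'.1 → w ⤳ z'.1 → w = z'.1 := by
      intro w hw hsp
      have hwU : w ∈ U := hsp.mem_open U.2 z'.2
      let w' : ↥(U : Scheme.{u}) := ⟨w, hwU⟩
      have h1 : w' ⤳ z' := by
        rw [← U.ι.isOpenEmbedding.isInducing.specializes_iff]
        exact hsp
      have h2 : (U.ι ≫ f) w' = (U.ι ≫ f) x' := by
        change f w = _
        rw [hw, ← hz']
        rfl
      have h3 := hmax' w' h2 h1
      exact congrArg Subtype.val h3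
    have h4 := (max_point_facts f z'.1 hmaxf).1
    have h5 : FlatMor.fibreDimAt f z'.1 ≤ ((tr f (genericPoint X) : ℕ) : WithBot ℕ∞) := z'.2
    have h6 := tr_le_fibreDimAt_of_specializes f z'.1 (genericPoint X) (hgen _)
    rw [h4] at h5 h6
    have : tr f z'.1 = tr f (genericPoint X) := by
      apply le_antisymm
      · exact_mod_cast h5
      · exact_mod_cast h6
    change ((tr f z'.1 : ℕ) : WithBot ℕ∞) = _
    rw [this]

/-- if no point of the fibre generizing `x'` is a maximal point of `X`, the local ring of `X` at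
`x'` has larger dimension than that of the fibre -/
theorem stalk_dim_ge_fiber_succ (x' : X)
    (hnm : ∀ t : X, f t = f x' → t ⤳ x' → ∃ ξ : X, ξ ⤳ t ∧ ξ ≠ t) :
    ringKrullDim ((f.fiber (f x')).presheaf.stalk (f.asFiber x')) + 1 ≤
      ringKrullDim (X.presheaf.stalk x') := by
  obtain ⟨m, hm⟩ := exists_fiber_stalk_dim_nat f x'
  rw [hm, AlgebraicGeometry.ringKrullDim_stalk_eq_coheight]
  rw [stalk_fiber_dim f x'] at hm
  have hm' : Order.coheight (⟨x', rfl⟩ : {z : X // f z = f x'}) = (m : ℕ∞) := by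
    exact_mod_cast hm
  obtain ⟨p, hp, hlen⟩ := Order.exists_series_of_coheight_eq_coe _ hm'
  have hval : StrictMono (fun z : {z : X // f z = f x'} => z.1) := fun a b hab => hab
  obtain ⟨ξ, hξ, hne⟩ := hnm p.last.1 p.last.2 (by
    have h1 : p.head ≤ p.last := p.head_le_last
    rw [hp] at h1
    exact h1)
  have hlt : (p.map _ hval).last < ξ := by
    rw [LTSeries.last_map, scheme_lt_iff]
    exact ⟨hξ, fun h => hne (hξ.antisymm h).eq⟩
  have h2 := Order.length_le_coheight_head (p := (p.map _ hval).snoc ξ hlt)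
  rw [RelSeries.head_snoc, LTSeries.head_map, hp, RelSeries.snoc_length, LTSeries.map_length,
    hlen] at h2
  have h3 : ((m + 1 : ℕ) : ℕ∞) ≤ Order.coheight x' := by exact_mod_cast h2
  have h4 := WithBot.coe_le_coe.mpr h3
  push_cast at h4
  exact h4

end EquiIrr



theorem arith1_S4943 (D Dfib L : WithBot ℕ∞) (n e e'' : ℕ) (ha : D ≤ n) (hb : L + n ≤ e)
    (hc : (e'' : WithBot ℕ∞) ≤ L) (hd1 : (e : WithBot ℕ∞) ≤ Dfib + e'') (hd2 : Dfib ≤ D) :
    D = n ∧ L + n = e ∧ L = e'' := by
  induction L using WithBot.recBotCoe with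
  | bot =>
    exfalso
    rw [le_bot_iff] at hc
    exact WithBot.coe_ne_bot (a := ((e'' : ℕ) : ℕ∞)) (by exact_mod_cast hc)
  | coe L =>
    induction L using ENat.recTopCoe with
    | top =>
      exfalso
      have h1 : ((⊤ : ℕ∞) : WithBot ℕ∞) + ((n : ℕ∞) : WithBot ℕ∞) ≤ ((e : ℕ∞) : WithBot ℕ∞) := hb
      rw [← WithBot.coe_add, WithBot.coe_le_coe, top_add, top_le_iff] at h1
      exact ENat.natCast_ne_top e h1
    | coe l =>
      induction Dfib using WithBot.recBotCoe with
      | bot =>
        exfalso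
        rw [WithBot.bot_add, le_bot_iff] at hd1
        exact WithBot.coe_ne_bot (a := ((e : ℕ) : ℕ∞)) (by exact_mod_cast hd1)
      | coe Dfib =>
        induction D using WithBot.recBotCoe with
        | bot =>
          exfalso
          rw [le_bot_iff] at hd2
          exact WithBot.coe_ne_bot hd2
        | coe D =>
          induction D using ENat.recTopCoe with
          | top =>
            exfalso
            have h1 : ((⊤ : ℕ∞) : WithBot ℕ∞) ≤ ((n : ℕ∞) : WithBot ℕ∞) := ha
            rw [WithBot.coe_le_coe, top_le_iff] at h1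
            exact ENat.natCast_ne_top n h1
          | coe d =>
            have hd2' : Dfib ≤ (d : ℕ∞) := by exact_mod_cast hd2
            obtain ⟨df, rfl⟩ := ENat.ne_top_iff_exists.mp
              (ne_top_of_le_ne_top (ENat.natCast_ne_top d) hd2')
            have g1 : d ≤ n := by exact_mod_cast ha
            have g2 : l + n ≤ e := by exact_mod_cast hb
            have g3 : e'' ≤ l := by exact_mod_cast hc
            have g4 : e ≤ df + e'' := by exact_mod_cast hd1
            have g5 : df ≤ d := by exact_mod_cast hd2'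
            have e1 : d = n := by omega
            have e2 : l + n = e := by omega
            have e3 : l = e'' := by omega
            refine ⟨?_, ?_, ?_⟩
            · exact_mod_cast e1
            · exact_mod_cast e2
            · exact_mod_cast e3

theorem arith2_S4943 (D Dfib L : WithBot ℕ∞) (n e e'' : ℕ) (ha : D ≤ n) (hb : L + n ≤ e)
    (hc : (e'' : WithBot ℕ∞) ≤ L) (hd1 : (e : WithBot ℕ∞) ≤ Dfib + e'') (hd2 : Dfib + 1 ≤ D) :
    False := by
  have hd2' : Dfib ≤ D := le_trans (le_add_of_nonneg_right zero_le_one) hd2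
  obtain ⟨h1, h2, h3⟩ := arith1_S4943 D Dfib L n e e'' ha hb hc hd1 hd2'
  subst h1 h3
  induction Dfib using WithBot.recBotCoe with
  | bot =>
    rw [WithBot.bot_add, le_bot_iff] at hd1
    exact WithBot.coe_ne_bot (a := ((e : ℕ) : ℕ∞)) (by exact_mod_cast hd1)
  | coe Dfib =>
    have hd2'' : Dfib ≤ (n : ℕ∞) := by exact_mod_cast hd2'
    obtain ⟨df, rfl⟩ := ENat.ne_top_iff_exists.mp
      (ne_top_of_le_ne_top (ENat.natCast_ne_top n) hd2'')
    have g2 : e'' + n = e := by exact_mod_cast h2
    have g4 : e ≤ df + e'' := by exact_mod_cast hd1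
    have g5 : df + 1 ≤ n := by exact_mod_cast hd2
    omega



section EquiIrr2

variable {X Y : Scheme.{u}} (f : X ⟶ Y) [LocallyOfFiniteType f]

theorem S4943_core {W : Scheme.{u}} [IrreducibleSpace Y] [IsLocallyNoetherian Y]
    (ι : W ⟶ X) [IsClosedImmersion ι] (x : X) (hf : EGA43.IsEquidimAt f x) (X' : Set X) (x' : X)
    (hx' : closure ({x'} : Set X) = X') (hr : Set.range ι = X') (hx : x ∈ X') (n : ℕ)
    (hcodim : ringKrullDim (X.presheaf.stalk x') ≤ n)
    (hdim : FlatMor.localDim ↥(X' ∩ f.base ⁻¹' {f.base x}) ⟨x, ⟨hx, rfl⟩⟩ + n ≤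
      FlatMor.fibreDimAt f x) :
    ringKrullDim (X.presheaf.stalk x') = n ∧
      FlatMor.localDim ↥(X' ∩ f.base ⁻¹' {f.base x}) ⟨x, ⟨hx, rfl⟩⟩ + n =
        FlatMor.fibreDimAt f x ∧
      ∀ w : W, ι w = x → EGA43.IsEquidimAt (ι ≫ f) w := by
  obtain ⟨e, U, hxU, h1, h2⟩ := isEquidimAt_facts f x hf
  have hfd := fibreDimAt_eq_of_facts f x e U hxU h2
  have hembX : Topology.IsEmbedding ι := ι.isEmbedding
  have hxr : x ∈ Set.range ι := by rw [hr]; exact hx
  obtain ⟨w₀, rfl⟩ := hxr
  have hirr : IsIrreducible X' := by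
    rw [← hx']
    exact isIrreducible_singleton.closure
  have hcl : IsClosed X' := by
    rw [← hx']
    exact isClosed_closure
  haveI : IrreducibleSpace W := by
    have h3 : IsPreirreducible (Set.univ : Set W) :=
      isPreirreducible_of_image ι hembX.isInducing _ (by
        rw [Set.image_univ, hr]; exact hirr.2)
    exact { isPreirreducible_univ := h3, toNonempty := ⟨w₀⟩ }
  have hξ'cl : closure ({ι (genericPoint W)} : Set X) = X' := by
    have h3 : closure ({genericPoint W} : Set W) = Set.univ := (genericPoint_spec W).def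
    rw [← Set.image_singleton, ← closure_image_closure ι.continuous, h3, Set.image_univ, hr,
      hcl.closure_eq]
  have hξx' : ι (genericPoint W) = x' := by
    have h3 : IsGenericPoint (ι (genericPoint W)) X' := hξ'cl
    have h4 : IsGenericPoint x' X' := hx'
    exact h3.eq h4
  have hx'x : x' ⤳ ι w₀ := by
    rw [specializes_iff_mem_closure, hx']
    exact hx
  have hx'U : x' ∈ U := hx'x.mem_open U.2 hxU
  have hL := fibreDimAt_comp_eq_localDim f ι hembX X' hr w₀ ⟨hx, rfl⟩
  rw [← hL, hfd] at hdim ⊢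
  have htrξ : tr (ι ≫ f) (genericPoint W) = tr f x' := by
    rw [tr_comp ι f, tr_of_surjectiveOnStalks ι, add_zero, hξx']
  have hc := tr_le_fibreDimAt_of_specializes (ι ≫ f) w₀ (genericPoint W)
    (genericPoint_specializes w₀)
  rw [htrξ] at hc
  obtain ⟨zm, hzm, hmaxm⟩ := exists_isMax_ge_fib f (f x') ⟨x', rfl⟩
  have hmax : ∀ z' : X, f z' = f zm.1 → z' ⤳ zm.1 → z' = zm.1 := by
    intro z' hz' hsp
    have h3 : zm ≤ ⟨z', hz'.trans zm.2⟩ := hsp
    have h4 : zm.1 ⤳ z' := hmaxm h3
    exact (hsp.antisymm h4).eq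
  have hzsp : zm.1 ⤳ x' := hzm
  have htrz : tr f zm.1 = e := h2 zm.1 (hzsp.mem_open U.2 hx'U) hmax
  have hd1 := tr_le_fibreDimAt_of_specializes f x' zm.1 hzsp
  rw [htrz, fibreDimAt_eq f x'] at hd1
  have hd2 : ringKrullDim ((f.fiber (f x')).presheaf.stalk (f.asFiber x')) ≤
      ringKrullDim (X.presheaf.stalk x') := by
    have h3 := stalk_dim_le_of_surjectiveOnStalks (f.fiberι (f x')) (f.asFiber x')
    rw [stalk_dim_congr _ _ (f.fiberι_asFiber x')] at h3
    exact h3
  obtain ⟨r1, r2, r3⟩ := arith1_S4943 _ _ _ n e (tr f x') hcodim hdim hc hd1 hd2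
  refine ⟨r1, r2, ?_⟩
  -- the generic point of X' lies over the generic point of Y
  have hfx' : f x' = genericPoint Y := by
    by_contra hne
    apply arith2_S4943 _ _ _ n e (tr f x') hcodim hdim hc hd1
    apply stalk_dim_ge_fiber_succ f x'
    intro t ht htsp
    by_contra hcon
    push Not at hcon
    have htmax : ∀ ξ' : X, ξ' ⤳ t → ξ' = t := hcon
    have h3 := (h1 t (htsp.mem_open U.2 hx'U) htmax).1
    rw [irreducibleComponents_eq_singleton, Set.mem_singleton_iff] at h3
    have h4 : IsGenericPoint (f t) (Set.univ : Set Y) := h3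
    have h5 : f t = genericPoint Y := h4.eq (genericPoint_spec Y)
    exact hne (ht.symm.trans h5)
  have hη : (ι ≫ f) (genericPoint W) = genericPoint Y := by
    change f (ι (genericPoint W)) = _
    rw [hξx', hfx']
  intro w hw
  have hww : w = w₀ := hembX.injective hw
  subst hww
  apply isEquidimAt_of_irreducible (ι ≫ f) hη w
  rw [r3, htrξ]

end EquiIrr2



section EquiIrr3

variable {X Y : Scheme.{u}} (f : X ⟶ Y) [LocallyOfFiniteType f]

theorem S4943_main [IrreducibleSpace Y]
    [IsLocallyNoetherian Y] (x : X) (hf : EGA43.IsEquidimAt f x)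
    (X' : TopologicalSpace.Closeds X) (x' : X) (hx' : closure ({x'} : Set X) = (X' : Set X)) (hx : x ∈ X') (n : ℕ)
    (hcodim : ringKrullDim (X.presheaf.stalk x') ≤ n)
    (hdim : FlatMor.localDim ↥((X' : Set X) ∩ f.base ⁻¹' {f.base x}) ⟨x, ⟨hx, rfl⟩⟩ + n ≤ FlatMor.fibreDimAt f x) :
    ringKrullDim (X.presheaf.stalk x') = n ∧
      FlatMor.localDim ↥((X' : Set X) ∩ f.base ⁻¹' {f.base x}) ⟨x, ⟨hx, rfl⟩⟩ + n = FlatMor.fibreDimAt f x ∧
      ∀ w : ↥(Scheme.IdealSheafData.vanishingIdeal X').subscheme,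
        (Scheme.IdealSheafData.vanishingIdeal X').subschemeι.base w = x →
        EGA43.IsEquidimAt ((Scheme.IdealSheafData.vanishingIdeal X').subschemeι ≫ f) w := by
  have hrX : Set.range (Scheme.IdealSheafData.vanishingIdeal X').subschemeι = (X' : Set X) := by
    rw [Scheme.IdealSheafData.range_subschemeι, Scheme.IdealSheafData.coe_support_vanishingIdeal]
  exact S4943_core f (Scheme.IdealSheafData.vanishingIdeal X').subschemeι x hf (X' : Set X) x' hx'
    hrX hx n hcodim hdim

end EquiIrr3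


end Groth.Agent.Lib.Helper4.Equi2
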