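import Mathlib
import Groth.Prelude.Def_Cyc
import Groth.Prelude.Def_EGA43
import Groth.Agent.Lib.Helper4.Chev8
import Groth.Agent.Lib.Helper4.FibDim7
import Groth.Agent.Lib.Helper4.EffCartierDim1
import Groth.Agent.Lib.Helper4.JacDim4
import Groth.Agent.Lib.Helper4.Chev9
import Groth.Agent.Lib.Helper4.Chev10
import Groth.Agent.Lib.Helper4.Chev11
import Groth.Agent.Lib.Helper4.Equi1
import Groth.Agent.Lib.Helper4.Equi2

/-!
# Equidimensional morphisms: hypersurface sections (EGA IV 13.3.x) (helper4)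
-/

set_option backward.isDefEq.respectTransparency.types false
set_option synthInstance.maxHeartbeats 400000
set_option autoImplicit false
set_option linter.unusedSectionVars false
set_option linter.style.haveILetI false
set_option linter.unusedSimpArgs false
universe u v w
open CategoryTheory CategoryTheory.Limits AlgebraicGeometry TopologicalSpace IsLocalRing Opposite
open Cardinal
open Groth.Agent.Lib.Helper4.DimIneq1 Groth.Agent.Lib.Helper4.DimFT2 Groth.Agent.Lib.Helper4.Catenary1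
open Groth.Agent.Lib.Helper4.DimEq1 Groth.Agent.Lib.Helper4.DimIneq2 Groth.Agent.Lib.Helper4.DimEq2
open Groth.Agent.Lib.Helper4.DimIneq3 Groth.Agent.Lib.Helper4.DimIneq4
open Groth.Agent.Lib.Helper4.NormFibre2 Groth.Agent.Lib.Helper4.RadBir3 Groth.Agent.Lib.Helper4.DimFT3
open Groth.Agent.Lib.Helper4.FibDim1 Groth.Agent.Lib.Helper4.FibDim2 Groth.Agent.Lib.Helper4.LocUC1
open Groth.Agent.Lib.Helper4.FibDim3 Groth.Agent.Lib.Helper4.FibDim4 Groth.Agent.Lib.Helper4.FibDim5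
open Groth.Agent.Lib.Helper4.FibDim6 Groth.Agent.Lib.Helper4.FibDim7 Groth.Agent.Lib.Helper4.JacDim1
open Groth.Agent.Lib.Helper4.DimFT1
open Groth.Agent.Lib.Helper4.Chev2 Groth.Agent.Lib.Helper4.Chev5 Groth.Agent.Lib.Helper4.Chev6 Groth.Agent.Lib.Helper4.Chev8
open Groth.Agent.Lib.Helper4.JacDim4 Groth.Agent.Lib.Helper4.EffCartierDim1
open Groth.Agent.Lib.Helper4.Chev9 Groth.Agent.Lib.Helper4.Chev4
open Groth.Agent.Lib.Helper4.Chev10 Groth.Agent.Lib.Helper4.Chev11 Groth.Agent.Lib.Helper4.Chev3 Groth.Agent.Lib.Helper4.Equi1 Groth.Agent.Lib.Helper4.Equi2 Groth.Agent.Lib.Helper4.OpenAt1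

namespace Groth.Agent.Lib.Helper4.Equi3

/-- Krull's principal ideal theorem at a maximal point of the zero locus of a global section -/
theorem stalk_dim_le_one_of_max_zeroLocus {X : Scheme.{u}} [IsLocallyNoetherian X] (g : Γ(X, ⊤))
    (z : X) (hz : z ∈ X.zeroLocus ({g} : Set Γ(X, ⊤)))
    (hmax : ∀ t : X, t ∈ X.zeroLocus ({g} : Set Γ(X, ⊤)) → t ⤳ z → t = z) :
    ringKrullDim (X.presheaf.stalk z) ≤ 1 := by
  obtain ⟨U, hU, hzU, -⟩ := exists_isAffineOpen_mem_and_subset (U := (⊤ : X.Opens)) (x := z)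
    trivial
  haveI : IsNoetherianRing Γ(X, U) := IsLocallyNoetherian.component_noetherian ⟨U, hU⟩
  rw [ringKrullDim_stalk_eq_height hU z hzU]
  have hb : ∀ (t : X) (ht : t ∈ U),
      X.presheaf.map (homOfLE (le_top : U ≤ ⊤)).op g ∈ (hU.primeIdealOf ⟨t, ht⟩).asIdeal ↔
        t ∈ X.zeroLocus ({g} : Set Γ(X, ⊤)) := by
    intro t ht
    rw [mem_primeIdealOf_iff hU t ht, Scheme.basicOpen_res, Scheme.mem_zeroLocus_iff]
    constructor
    · intro h a ha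
      rw [Set.mem_singleton_iff] at ha
      subst ha
      exact fun h' => h ⟨ht, h'⟩
    · intro h h'
      exact h g (Set.mem_singleton g) h'.2
  have hmin : (hU.primeIdealOf ⟨z, hzU⟩).asIdeal ∈
      (Ideal.span {X.presheaf.map (homOfLE (le_top : U ≤ ⊤)).op g}).minimalPrimes := by
    refine ⟨⟨inferInstance, (Ideal.span_singleton_le_iff_mem _).mpr ((hb z hzU).mpr hz)⟩, ?_⟩
    rintro q ⟨hq, hbq⟩ hle
    have ht : hU.fromSpec ⟨q, hq⟩ ∈ U := fromSpec_mem hU _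
    have h1 : hU.fromSpec ⟨q, hq⟩ ⤳ z := by
      rw [specializes_iff_primeIdealOf_le hU ⟨_, ht⟩ ⟨z, hzU⟩, primeIdealOf_fromSpec]
      exact hle
    have h2 : hU.fromSpec ⟨q, hq⟩ ∈ X.zeroLocus ({g} : Set Γ(X, ⊤)) := by
      rw [← hb _ ht, primeIdealOf_fromSpec]
      exact (Ideal.span_singleton_le_iff_mem _).mp hbq
    have h3 := hmax _ h2 h1
    have h4 : hU.primeIdealOf ⟨z, hzU⟩ = ⟨q, hq⟩ := by
      have h5 := primeIdealOf_fromSpec hU ⟨q, hq⟩
      rw [← h5]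
      congr 1
      exact Subtype.ext h3.symm
    rw [h4]
  have h6 := Ideal.height_le_one_of_isPrincipal_of_mem_minimalPrimes _ _ hmin
  exact_mod_cast h6



theorem mem_zeroLocus_appTop_iff {F X : Scheme.{u}} (j : F ⟶ X) (g : Γ(X, ⊤)) (t : F) :
    t ∈ F.zeroLocus ({j.appTop g} : Set Γ(F, ⊤)) ↔ j t ∈ X.zeroLocus ({g} : Set Γ(X, ⊤)) := by
  rw [Scheme.zeroLocus_singleton, Scheme.zeroLocus_singleton, Set.mem_compl_iff, Set.mem_compl_iff,
    ← Scheme.preimage_basicOpen_top]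
  rfl

section KrullFib

variable {X Y : Scheme.{u}} (f : X ⟶ Y) [LocallyOfFiniteType f]

/-- Krull's principal ideal theorem in a fibre -/
theorem stalk_fiber_dim_le_one_of_max_zeroLocus (g : Γ(X, ⊤)) (z : X)
    (hz : z ∈ X.zeroLocus ({g} : Set Γ(X, ⊤)))
    (hmax : ∀ t : X, t ∈ X.zeroLocus ({g} : Set Γ(X, ⊤)) → f t = f z → t ⤳ z → t = z) :
    ringKrullDim ((f.fiber (f z)).presheaf.stalk (f.asFiber z)) ≤ 1 := by
  haveI : LocallyOfFiniteType (f.fiberToSpecResidueField (f z)) :=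
    MorphismProperty.pullback_snd _ _ inferInstance
  haveI : IsLocallyNoetherian (f.fiber (f z)) :=
    LocallyOfFiniteType.isLocallyNoetherian (f.fiberToSpecResidueField (f z))
  apply stalk_dim_le_one_of_max_zeroLocus ((f.fiberι (f z)).appTop g) (f.asFiber z)
  · rw [mem_zeroLocus_appTop_iff, f.fiberι_asFiber z]
    exact hz
  · intro t ht hsp
    rw [mem_zeroLocus_appTop_iff] at ht
    have h1 : f.fiberι (f z) t ⤳ f.fiberι (f z) (f.asFiber z) := hsp.map (f.fiberι (f z)).continuous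
    rw [f.fiberι_asFiber z] at h1
    have h2 := hmax _ ht (fiberι_mem f (f z) t) h1
    apply (f.fiberι (f z)).isEmbedding.injective
    rw [h2, f.fiberι_asFiber z]

end KrullFib



section EquiBack

variable {X Y : Scheme.{u}} (f : X ⟶ Y) [LocallyOfFiniteType f]

/-- a criterion for equidimensionality at a point in terms of maximal points -/
theorem isEquidimAt_of_facts [IsLocallyNoetherian Y] (x : X) (e : ℕ) (U : X.Opens) (hxU : x ∈ U)
    (H1 : ∀ ξ : X, ξ ∈ U → (∀ ξ' : X, ξ' ⤳ ξ → ξ' = ξ) →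
      closure ({f ξ} : Set Y) ∈ irreducibleComponents Y ∧ f ξ ⤳ f x)
    (H2 : ∀ z : X, z ∈ U → (∀ z' : X, f z' = f z → z' ⤳ z → z' = z) → tr f z = e) :
    EGA43.IsEquidimAt f x := by
  refine ⟨e, U, hxU, ?_, ?_⟩
  · intro Z hZ
    obtain ⟨ξU, hξU, hZeq⟩ := exists_isMax_closure_eq (U : Scheme.{u}) Z hZ
    have hξmax : ∀ ξ' : X, ξ' ⤳ ξU.1 → ξ' = ξU.1 := by
      intro ξ' hsp
      have hξ'U : ξ' ∈ U := hsp.mem_open U.2 ξU.2
      let ξ'U : ↥(U : Scheme.{u}) := ⟨ξ', hξ'U⟩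
      have h1 : ξ'U ⤳ ξU := by
        rw [← U.ι.isOpenEmbedding.isInducing.specializes_iff]
        exact hsp
      have h2 : ξU ⤳ ξ'U := hξU h1
      have h3 : ξ'U = ξU := (h1.antisymm h2).eq
      exact congrArg Subtype.val h3
    obtain ⟨hcomp, hsp⟩ := H1 ξU.1 ξU.2 hξmax
    refine ⟨closure ({f ξU.1} : Set Y), hcomp, specializes_iff_mem_closure.mp hsp, ?_⟩
    rw [← hZeq, closure_image_closure (U.ι ≫ f).continuous, Set.image_singleton]
    rfl
  · intro x' Z hZ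
    have hmem : topologicalKrullDim ↥Z ∈
        (fun Z : Set ↥((U.ι ≫ f).fiber ((U.ι ≫ f).base x')) => topologicalKrullDim ↥Z) ''
          irreducibleComponents ↥((U.ι ≫ f).fiber ((U.ι ≫ f).base x')) := ⟨Z, hZ, rfl⟩
    rw [mem_compDims_iff] at hmem
    obtain ⟨z', hz', hmax', hd⟩ := hmem
    rw [hd, tr_restrict f U z']
    have hmaxf : ∀ w : X, f w = f z'.1 → w ⤳ z'.1 → w = z'.1 := by
      intro w hw hsp
      have hwU : w ∈ U := hsp.mem_open U.2 z'.2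
      let w' : ↥(U : Scheme.{u}) := ⟨w, hwU⟩
      have h1 : w' ⤳ z' := by
        rw [← U.ι.isOpenEmbedding.isInducing.specializes_iff]
        exact hsp
      have h2 : (U.ι ≫ f) w' = (U.ι ≫ f) x' := by
        change f w = _
        rw [hw, ← hz']
        rfl
      have h3 := hmax' w' h2 h1
      exact congrArg Subtype.val h3
    have h4 := H2 z'.1 z'.2 hmaxf
    change ((tr f z'.1 : ℕ) : WithBot ℕ∞) = _
    rw [h4]

end EquiBack



section LemA

variable {X Y : Scheme.{u}} (f : X ⟶ Y) [LocallyOfFiniteType f]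

/-- at a maximal point of the zero locus of `g` in a fibre which is not a maximal point of the
fibre, the local ring of the fibre has dimension one -/
theorem stalk_fiber_dim_eq_one (g : Γ(X, ⊤)) (z : X)
    (hz : z ∈ X.zeroLocus ({g} : Set Γ(X, ⊤)))
    (hmax : ∀ t : X, t ∈ X.zeroLocus ({g} : Set Γ(X, ⊤)) → f t = f z → t ⤳ z → t = z)
    (hnm : ¬ ∀ z' : X, f z' = f z → z' ⤳ z → z' = z) :
    ringKrullDim ((f.fiber (f z)).presheaf.stalk (f.asFiber z)) = 1 := by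
  apply le_antisymm (stalk_fiber_dim_le_one_of_max_zeroLocus f g z hz hmax)
  rw [stalk_fiber_dim f z]
  have h1 : ¬ IsMax (⟨z, rfl⟩ : {w : X // f w = f z}) := fun h => hnm ((isMax_fib_iff f z).mp h)
  rw [← Order.coheight_pos, ← Order.one_le_iff_pos] at h1
  exact_mod_cast h1

theorem tr_add_one_eq [IsLocallyNoetherian Y] (g : Γ(X, ⊤)) (z : X) (e : ℕ)
    (hfd : FlatMor.fibreDimAt f z = (e : WithBot ℕ∞))
    (hz : z ∈ X.zeroLocus ({g} : Set Γ(X, ⊤)))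
    (hmax : ∀ t : X, t ∈ X.zeroLocus ({g} : Set Γ(X, ⊤)) → f t = f z → t ⤳ z → t = z)
    (hnm : ¬ ∀ z' : X, f z' = f z → z' ⤳ z → z' = z) :
    tr f z + 1 = e := by
  have h1 := stalk_fiber_dim_eq_one f g z hz hmax hnm
  rw [fibreDimAt_eq f z, h1] at hfd
  have h2 : ((1 + tr f z : ℕ) : WithBot ℕ∞) = (e : WithBot ℕ∞) := by
    push_cast
    exact hfd
  have h3 : 1 + tr f z = e := by exact_mod_cast h2
  omega

end LemA



section LemM

variable {X Y : Scheme.{u}} (f : X ⟶ Y) [LocallyOfFiniteType f]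

theorem exists_max_fib_between_aux {W : Scheme.{u}} [IsLocallyNoetherian Y] (ι : W ⟶ X)
    [IsClosedImmersion ι] (ξ x : X) (hr : Set.range ι = closure ({ξ} : Set X)) (hsp : ξ ⤳ x)
    (hE : ∀ z' : X, f z' = f x → z' ⤳ x →
      (∀ z'' : X, f z'' = f z' → z'' ⤳ z' → z'' = z') → tr f z' ≤ tr f ξ) :
    ∃ z : X, f z = f x ∧ (∀ z'' : X, f z'' = f z → z'' ⤳ z → z'' = z) ∧ ξ ⤳ z ∧ z ⤳ x := by
  have hembX : Topology.IsEmbedding ι := ι.isEmbedding
  have hxr : x ∈ Set.range ι := by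
    rw [hr]
    exact specializes_iff_mem_closure.mp hsp
  obtain ⟨w₀, rfl⟩ := hxr
  haveI : IrreducibleSpace W := by
    have h3 : IsPreirreducible (Set.univ : Set W) :=
      isPreirreducible_of_image ι hembX.isInducing _ (by
        rw [Set.image_univ, hr]; exact isIrreducible_singleton.closure.2)
    exact { isPreirreducible_univ := h3, toNonempty := ⟨w₀⟩ }
  have hξ'cl : closure ({ι (genericPoint W)} : Set X) = closure ({ξ} : Set X) := by
    have h3 : closure ({genericPoint W} : Set W) = Set.univ := (genericPoint_spec W).def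
    rw [← Set.image_singleton, ← closure_image_closure ι.continuous, h3, Set.image_univ, hr,
      closure_closure]
  have hξx' : ι (genericPoint W) = ξ := by
    have h3 : IsGenericPoint (ι (genericPoint W)) (closure ({ξ} : Set X)) := hξ'cl
    have h4 : IsGenericPoint ξ (closure ({ξ} : Set X)) := rfl
    exact h3.eq h4
  have htrξ : tr (ι ≫ f) (genericPoint W) = tr f ξ := by
    rw [tr_comp ι f, tr_of_surjectiveOnStalks ι, add_zero, hξx']
  obtain ⟨zm, hzm, hmaxm⟩ := exists_isMax_ge_fib (ι ≫ f) ((ι ≫ f) w₀) ⟨w₀, rfl⟩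
  have hmax : ∀ z' : W, (ι ≫ f) z' = (ι ≫ f) zm.1 → z' ⤳ zm.1 → z' = zm.1 := by
    intro z' hz' hsp'
    have h3 : zm ≤ ⟨z', hz'.trans zm.2⟩ := hsp'
    have h4 : zm.1 ⤳ z' := hmaxm h3
    exact (hsp'.antisymm h4).eq
  have hzsp : zm.1 ⤳ w₀ := hzm
  have h5 := (max_point_facts (ι ≫ f) zm.1 hmax).1
  have h6 := tr_le_fibreDimAt_of_specializes (ι ≫ f) zm.1 (genericPoint W)
    (genericPoint_specializes zm.1)
  rw [h5, htrξ] at h6
  have h7 : tr f ξ ≤ tr (ι ≫ f) zm.1 := by exact_mod_cast h6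
  have htrz : tr (ι ≫ f) zm.1 = tr f (ι zm.1) := by
    rw [tr_comp ι f, tr_of_surjectiveOnStalks ι, add_zero]
  have hfz : f (ι zm.1) = f (ι w₀) := zm.2
  have hzx : ι zm.1 ⤳ ι w₀ := hzsp.map ι.continuous
  have hξz : ξ ⤳ ι zm.1 := by
    rw [specializes_iff_mem_closure, ← hr]
    exact ⟨zm.1, rfl⟩
  refine ⟨ι zm.1, hfz, ?_, hξz, hzx⟩
  obtain ⟨z', hz', hmax'⟩ := exists_isMax_ge_fib f (f (ι zm.1)) ⟨ι zm.1, rfl⟩
  have hmaxz' : ∀ z'' : X, f z'' = f z'.1 → z'' ⤳ z'.1 → z'' = z'.1 := by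
    intro z'' hz'' hsp'
    have h3 : z' ≤ ⟨z'', hz''.trans z'.2⟩ := hsp'
    have h4 : z'.1 ⤳ z'' := hmax' h3
    exact (hsp'.antisymm h4).eq
  have hz'sp : z'.1 ⤳ ι zm.1 := hz'
  have h8 := hE z'.1 (z'.2.trans hfz) (hz'sp.trans hzx) hmaxz'
  have heq : z'.1 = ι zm.1 := by
    by_contra hne
    have h9 := tr_lt_of_specializes f z'.1 (ι zm.1) hz'sp hne z'.2
    omega
  rw [← heq]
  exact hmaxz'

theorem exists_max_fib_between [IsLocallyNoetherian Y] (ξ x : X) (hsp : ξ ⤳ x)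
    (hE : ∀ z' : X, f z' = f x → z' ⤳ x →
      (∀ z'' : X, f z'' = f z' → z'' ⤳ z' → z'' = z') → tr f z' ≤ tr f ξ) :
    ∃ z : X, f z = f x ∧ (∀ z'' : X, f z'' = f z → z'' ⤳ z → z'' = z) ∧ ξ ⤳ z ∧ z ⤳ x := by
  have hr : Set.range (Scheme.IdealSheafData.vanishingIdeal
      (⟨closure ({ξ} : Set X), isClosed_closure⟩ : TopologicalSpace.Closeds X)).subschemeι =
      closure ({ξ} : Set X) := by
    rw [Scheme.IdealSheafData.range_subschemeι, Scheme.IdealSheafData.coe_support_vanishingIdeal]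
    rfl
  exact exists_max_fib_between_aux f _ ξ x hr hsp hE

end LemM



section Core

variable {X Y : Scheme.{u}} (f : X ⟶ Y) [LocallyOfFiniteType f]

theorem S5925_core {W : Scheme.{u}} [IrreducibleSpace Y] [IsLocallyNoetherian Y] (ι : W ⟶ X)
    [IsClosedImmersion ι] (x : X) (hf : EGA43.IsEquidimAt f x) (g : Γ(X, ⊤))
    (hr : Set.range ι = X.zeroLocus ({g} : Set Γ(X, ⊤)))
    (hgx : x ∈ X.zeroLocus ({g} : Set Γ(X, ⊤)))
    (hmax : ∀ z : X, f.base z = f.base x →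
      (∀ z' : X, f.base z' = f.base x → z ∈ closure ({z'} : Set X) → z' = z) →
      z ∉ X.zeroLocus ({g} : Set Γ(X, ⊤))) :
    (∀ w : W, ι w = x → EGA43.IsEquidimAt (ι ≫ f) w) ∧
      FlatMor.localDim ↥(X.zeroLocus ({g} : Set Γ(X, ⊤)) ∩ f.base ⁻¹' {f.base x})
        ⟨x, ⟨hgx, rfl⟩⟩ + 1 = FlatMor.fibreDimAt f x ∧
      (∀ ξ : X, ξ ∈ X.zeroLocus ({g} : Set Γ(X, ⊤)) →
        (∀ t : X, t ∈ X.zeroLocus ({g} : Set Γ(X, ⊤)) → t ⤳ ξ → t = ξ) → ξ ⤳ x →
        ringKrullDim (X.presheaf.stalk ξ) = 1) := by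
  obtain ⟨e, U, hxU, h1, h2⟩ := isEquidimAt_facts f x hf
  have hfdU : ∀ t : X, t ∈ U → FlatMor.fibreDimAt f t = (e : WithBot ℕ∞) :=
    fun t ht => fibreDimAt_eq_of_facts f t e U ht h2
  have hgenU : ∀ t : X, t ∈ U → (∀ ξ' : X, ξ' ⤳ t → ξ' = t) → f t = genericPoint Y := by
    intro t ht htmax
    have h3 := (h1 t ht htmax).1
    rw [irreducibleComponents_eq_singleton, Set.mem_singleton_iff] at h3
    have h4 : IsGenericPoint (f t) (Set.univ : Set Y) := h3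
    exact h4.eq (genericPoint_spec Y)
  haveI : IsLocallyNoetherian X := LocallyOfFiniteType.isLocallyNoetherian f
  have hembX : Topology.IsEmbedding ι := ι.isEmbedding
  have hxr : x ∈ Set.range ι := by rw [hr]; exact hgx
  obtain ⟨w₀, rfl⟩ := hxr
  have hV : ∀ w : W, ι w ∈ X.zeroLocus ({g} : Set Γ(X, ⊤)) := by
    intro w
    rw [← hr]
    exact ⟨w, rfl⟩
  have hmax' : ∀ z : X, f z = f (ι w₀) → (∀ z' : X, f z' = f z → z' ⤳ z → z' = z) →
      z ∉ X.zeroLocus ({g} : Set Γ(X, ⊤)) := by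
    intro z hz hm
    apply hmax z hz
    intro z' hz' hcl
    exact hm z' (hz'.trans hz.symm) (specializes_iff_mem_closure.mpr hcl)
  have hkey : ∀ z₁ : W, (∀ z' : W, (ι ≫ f) z' = (ι ≫ f) z₁ → z' ⤳ z₁ → z' = z₁) →
      ∀ t : X, t ∈ X.zeroLocus ({g} : Set Γ(X, ⊤)) → f t = f (ι z₁) → t ⤳ ι z₁ → t = ι z₁ := by
    intro z₁ hm t ht hft hsp
    rw [← hr] at ht
    obtain ⟨t₁, rfl⟩ := ht
    have h3 := hm t₁ hft (hembX.isInducing.specializes_iff.mp hsp)
    rw [h3]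
  have htrW : ∀ z₁ : W, tr (ι ≫ f) z₁ = tr f (ι z₁) := by
    intro z₁
    rw [tr_comp ι f, tr_of_surjectiveOnStalks ι, add_zero]
  have hB1 : ∀ z₁ : W, (ι ≫ f) z₁ = (ι ≫ f) w₀ → z₁ ⤳ w₀ →
      (∀ z' : W, (ι ≫ f) z' = (ι ≫ f) z₁ → z' ⤳ z₁ → z' = z₁) → tr (ι ≫ f) z₁ + 1 = e := by
    intro z₁ hz₁ hsp hm
    rw [htrW]
    have hzU : ι z₁ ∈ U := (hsp.map ι.continuous).mem_open U.2 hxU
    apply tr_add_one_eq f g (ι z₁) e (hfdU _ hzU) (hV z₁) (hkey z₁ hm)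
    intro hcon
    exact hmax' (ι z₁) hz₁ hcon (hV z₁)
  obtain ⟨zm, hzm, hmaxm⟩ := exists_isMax_ge_fib (ι ≫ f) ((ι ≫ f) w₀) ⟨w₀, rfl⟩
  have hmaxzm : ∀ z' : W, (ι ≫ f) z' = (ι ≫ f) zm.1 → z' ⤳ zm.1 → z' = zm.1 := by
    intro z' hz' hsp'
    have h3 : zm ≤ ⟨z', hz'.trans zm.2⟩ := hsp'
    have h4 : zm.1 ⤳ z' := hmaxm h3
    exact (hsp'.antisymm h4).eq
  have hzmsp : zm.1 ⤳ w₀ := hzm
  have he1 : tr (ι ≫ f) zm.1 + 1 = e := hB1 zm.1 zm.2 hzmsp hmaxzm
  have hBle : FlatMor.fibreDimAt (ι ≫ f) w₀ ≤ ((e - 1 : ℕ) : WithBot ℕ∞) := by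
    apply fibreDimAt_le_of_max_tr_le
    intro z₁ hz₁ hsp hm
    have := hB1 z₁ hz₁ hsp hm
    omega
  have hBge : ((e - 1 : ℕ) : WithBot ℕ∞) ≤ FlatMor.fibreDimAt (ι ≫ f) w₀ := by
    have h3 := tr_le_fibreDimAt_of_specializes (ι ≫ f) w₀ zm.1 hzmsp
    have h4 : tr (ι ≫ f) zm.1 = e - 1 := by omega
    rw [h4] at h3
    exact h3
  have hB : FlatMor.fibreDimAt (ι ≫ f) w₀ = ((e - 1 : ℕ) : WithBot ℕ∞) := le_antisymm hBle hBge
  have hL := fibreDimAt_comp_eq_localDim f ι hembX (X.zeroLocus ({g} : Set Γ(X, ⊤))) hr w₀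
    ⟨hgx, rfl⟩
  refine ⟨?_, ?_, ?_⟩
  · intro w hw
    have hww : w = w₀ := hembX.injective hw
    subst hww
    let U₁ : W.Opens := ⟨{w' : W | FlatMor.fibreDimAt (ι ≫ f) w' ≤ ((e - 1 : ℕ) : WithBot ℕ∞)},
      Groth.Agent.Lib.Helper4.Chev2.S0402_main (ι ≫ f) _⟩ ⊓ ι ⁻¹ᵁ U
    have hwU₁ : w ∈ U₁ := ⟨hB.le, hxU⟩
    apply isEquidimAt_of_facts (ι ≫ f) w (e - 1) U₁ hwU₁
    · intro ξ₁ hξ₁U hξ₁max
      have hη : (ι ≫ f) ξ₁ = genericPoint Y := by
        by_contra hne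
        have hξVmax : ∀ t : X, t ∈ X.zeroLocus ({g} : Set Γ(X, ⊤)) → t ⤳ ι ξ₁ → t = ι ξ₁ := by
          intro t ht hsp
          rw [← hr] at ht
          obtain ⟨t₁, rfl⟩ := ht
          rw [hξ₁max t₁ (hembX.isInducing.specializes_iff.mp hsp)]
        have hK1 := stalk_dim_le_one_of_max_zeroLocus g (ι ξ₁) (hV ξ₁) hξVmax
        have hξ₁fib : ∀ z' : W, (ι ≫ f) z' = (ι ≫ f) ξ₁ → z' ⤳ ξ₁ → z' = ξ₁ :=
          fun z' _ hsp => hξ₁max z' hsp
        have h3 := (max_point_facts (ι ≫ f) ξ₁ hξ₁fib).1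
        have h4 : FlatMor.fibreDimAt (ι ≫ f) ξ₁ ≤ ((e - 1 : ℕ) : WithBot ℕ∞) := hξ₁U.1
        have hξU : ι ξ₁ ∈ U := hξ₁U.2
        rw [h3, htrW] at h4
        have h4' : tr f (ι ξ₁) ≤ e - 1 := by exact_mod_cast h4
        by_cases hcase : ∀ z' : X, f z' = f (ι ξ₁) → z' ⤳ ι ξ₁ → z' = ι ξ₁
        · have h5 := h2 (ι ξ₁) hξU hcase
          omega
        · have hD := stalk_fiber_dim_eq_one f g (ι ξ₁) (hV ξ₁)
            (fun t ht _ hsp => hξVmax t ht hsp) hcase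
          have hS := stalk_dim_ge_fiber_succ f (ι ξ₁) (by
            intro t ht htsp
            by_contra hcon
            push Not at hcon
            have htmax : ∀ ξ' : X, ξ' ⤳ t → ξ' = t := hcon
            have h5 := hgenU t (htsp.mem_open U.2 hξU) htmax
            exact hne (ht.symm.trans h5))
          rw [hD] at hS
          have h6 := hS.trans hK1
          norm_num at h6
      rw [hη]
      refine ⟨?_, (genericPoint_spec Y).specializes (Set.mem_univ _)⟩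
      rw [(genericPoint_spec Y).def, irreducibleComponents_eq_singleton]
      exact Set.mem_singleton _
    · intro z₁ hz₁U hm
      have h3 := (max_point_facts (ι ≫ f) z₁ hm).1
      have h4 : FlatMor.fibreDimAt (ι ≫ f) z₁ ≤ ((e - 1 : ℕ) : WithBot ℕ∞) := hz₁U.1
      have hzU : ι z₁ ∈ U := hz₁U.2
      rw [h3, htrW] at h4
      have h4' : tr f (ι z₁) ≤ e - 1 := by exact_mod_cast h4
      have hnm : ¬ ∀ z' : X, f z' = f (ι z₁) → z' ⤳ ι z₁ → z' = ι z₁ := by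
        intro hcase
        have h5 := h2 (ι z₁) hzU hcase
        omega
      have h6 := tr_add_one_eq f g (ι z₁) e (hfdU _ hzU) (hV z₁) (hkey z₁ hm) hnm
      rw [htrW]
      omega
  · rw [← hL, hB, hfdU _ hxU]
    have : e - 1 + 1 = e := by omega
    exact_mod_cast this
  · intro ξ hξV hξmax hξx
    have hξU : ξ ∈ U := hξx.mem_open U.2 hxU
    apply le_antisymm (stalk_dim_le_one_of_max_zeroLocus g ξ hξV hξmax)
    rw [AlgebraicGeometry.ringKrullDim_stalk_eq_coheight]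
    have hnm : ¬ IsMax ξ := by
      intro hM
      have hξmaxX : ∀ ξ' : X, ξ' ⤳ ξ → ξ' = ξ := by
        intro ξ' hsp
        have h3 : ξ ≤ ξ' := hsp
        have h4 : ξ ⤳ ξ' := hM h3
        exact (hsp.antisymm h4).eq
      have htrξ : tr f ξ = e := h2 ξ hξU (fun z' _ hsp => hξmaxX z' hsp)
      obtain ⟨z, hz, hzmax, hξz, hzx⟩ := exists_max_fib_between f ξ (ι w₀) hξx (by
        intro z' hz' hsp hm
        rw [htrξ]
        exact (h2 z' (hsp.mem_open U.2 hxU) hm).le)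
      have hzV : z ∈ X.zeroLocus ({g} : Set Γ(X, ⊤)) :=
        (X.zeroLocus_isClosed _).closure_subset_iff.mpr (Set.singleton_subset_iff.mpr hξV)
          hξz.mem_closure
      exact hmax' z hz hzmax hzV
    rw [← Order.coheight_pos, ← Order.one_le_iff_pos] at hnm
    exact_mod_cast hnm

end Core



section Main5925

variable {X Y : Scheme.{u}} (f : X ⟶ Y) [LocallyOfFiniteType f]

theorem S5925_main [IrreducibleSpace Y]
    [IsLocallyNoetherian Y] (x : X) (hf : EGA43.IsEquidimAt f x)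
    (g : Γ(X, ⊤)) (hgx : x ∈ X.zeroLocus ({g} : Set Γ(X, ⊤)))
    (hmax : ∀ z : X, f.base z = f.base x → (∀ z' : X, f.base z' = f.base x → z ∈ closure ({z'} : Set X) → z' = z) →
      z ∉ X.zeroLocus ({g} : Set Γ(X, ⊤))) :
    (∀ w : ↥(Scheme.IdealSheafData.vanishingIdeal ⟨X.zeroLocus ({g} : Set Γ(X, ⊤)), X.zeroLocus_isClosed _⟩).subscheme,
        (Scheme.IdealSheafData.vanishingIdeal ⟨X.zeroLocus ({g} : Set Γ(X, ⊤)), X.zeroLocus_isClosed _⟩).subschemeι.base w = x →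
        EGA43.IsEquidimAt ((Scheme.IdealSheafData.vanishingIdeal ⟨X.zeroLocus ({g} : Set Γ(X, ⊤)), X.zeroLocus_isClosed _⟩).subschemeι ≫ f) w) ∧
      FlatMor.localDim ↥(X.zeroLocus ({g} : Set Γ(X, ⊤)) ∩ f.base ⁻¹' {f.base x}) ⟨x, ⟨hgx, rfl⟩⟩ + 1 = FlatMor.fibreDimAt f x ∧
      ∀ Z ∈ irreducibleComponents ↥(X.zeroLocus ({g} : Set Γ(X, ⊤))), (⟨x, hgx⟩ : ↥(X.zeroLocus ({g} : Set Γ(X, ⊤)))) ∈ Z →
        ∀ ξ : ↥(X.zeroLocus ({g} : Set Γ(X, ⊤))), closure ({ξ} : Set ↥(X.zeroLocus ({g} : Set Γ(X, ⊤)))) = Z →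
          ringKrullDim (X.presheaf.stalk (ξ : X)) = 1 := by
  have hr : Set.range (Scheme.IdealSheafData.vanishingIdeal
      ⟨X.zeroLocus ({g} : Set Γ(X, ⊤)), X.zeroLocus_isClosed _⟩).subschemeι =
      X.zeroLocus ({g} : Set Γ(X, ⊤)) := by
    rw [Scheme.IdealSheafData.range_subschemeι, Scheme.IdealSheafData.coe_support_vanishingIdeal]
    rfl
  obtain ⟨c1, c2, c3⟩ := S5925_core f (Scheme.IdealSheafData.vanishingIdeal
      ⟨X.zeroLocus ({g} : Set Γ(X, ⊤)), X.zeroLocus_isClosed _⟩).subschemeι x hf g hr hgx hmax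
  refine ⟨c1, c2, ?_⟩
  intro Z hZ hxZ ξ hξZ
  apply c3 ξ.1 ξ.2
  · intro t ht hsp
    have h1 : (⟨t, ht⟩ : ↥(X.zeroLocus ({g} : Set Γ(X, ⊤)))) ⤳ ξ := by
      rw [← Topology.IsInducing.subtypeVal.specializes_iff]
      exact hsp
    have h2 : Z ⊆ closure ({(⟨t, ht⟩ : ↥(X.zeroLocus ({g} : Set Γ(X, ⊤))))} : Set _) := by
      rw [← hξZ]
      exact closure_minimal (Set.singleton_subset_iff.mpr h1.mem_closure) isClosed_closure
    have h3 := hZ.2 isIrreducible_singleton.closure h2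
    have h4 : ξ ⤳ (⟨t, ht⟩ : ↥(X.zeroLocus ({g} : Set Γ(X, ⊤)))) := by
      rw [specializes_iff_mem_closure, hξZ]
      exact h3 (subset_closure (Set.mem_singleton _))
    exact congrArg Subtype.val (h1.antisymm h4).eq
  · have h1 : ξ ⤳ (⟨x, hgx⟩ : ↥(X.zeroLocus ({g} : Set Γ(X, ⊤)))) := by
      rw [specializes_iff_mem_closure, hξZ]
      exact hxZ
    exact (Topology.IsInducing.subtypeVal.specializes_iff).mpr h1

end Main5925


end Groth.Agent.Lib.Helper4.Equi3
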