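import Mathlib
import Groth.Prelude.Def_Cyc
import Groth.Prelude.Def_EGA43
import Groth.Agent.Lib.Helper4.Chev8
import Groth.Agent.Lib.Helper4.FibDim7
import Groth.Agent.Lib.Helper4.EffCartierDim1
import Groth.Agent.Lib.Helper4.JacDim4
import Groth.Agent.Lib.Helper4.Chev9
import Groth.Agent.Lib.Helper4.Chev10
import Groth.Agent.Lib.Helper4.Chev11
import Groth.Agent.Lib.Helper4.Equi1
import Groth.Agent.Lib.Helper4.Equi2

/-!
# Equidimensional morphisms: equidimensionality of the local ring upstairs (helper4)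
-/

set_option backward.isDefEq.respectTransparency.types false
set_option synthInstance.maxHeartbeats 400000
set_option autoImplicit false
set_option linter.unusedSectionVars false
set_option linter.style.haveILetI false
set_option linter.unusedSimpArgs false
universe u v w
open CategoryTheory CategoryTheory.Limits AlgebraicGeometry TopologicalSpace IsLocalRing Opposite
open Cardinal
open Groth.Agent.Lib.Helper4.DimIneq1 Groth.Agent.Lib.Helper4.DimFT2 Groth.Agent.Lib.Helper4.Catenary1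
open Groth.Agent.Lib.Helper4.DimEq1 Groth.Agent.Lib.Helper4.DimIneq2 Groth.Agent.Lib.Helper4.DimEq2
open Groth.Agent.Lib.Helper4.DimIneq3 Groth.Agent.Lib.Helper4.DimIneq4
open Groth.Agent.Lib.Helper4.NormFibre2 Groth.Agent.Lib.Helper4.RadBir3 Groth.Agent.Lib.Helper4.DimFT3
open Groth.Agent.Lib.Helper4.FibDim1 Groth.Agent.Lib.Helper4.FibDim2 Groth.Agent.Lib.Helper4.LocUC1
open Groth.Agent.Lib.Helper4.FibDim3 Groth.Agent.Lib.Helper4.FibDim4 Groth.Agent.Lib.Helper4.FibDim5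
open Groth.Agent.Lib.Helper4.FibDim6 Groth.Agent.Lib.Helper4.FibDim7 Groth.Agent.Lib.Helper4.JacDim1
open Groth.Agent.Lib.Helper4.DimFT1
open Groth.Agent.Lib.Helper4.Chev2 Groth.Agent.Lib.Helper4.Chev5 Groth.Agent.Lib.Helper4.Chev6 Groth.Agent.Lib.Helper4.Chev8
open Groth.Agent.Lib.Helper4.JacDim4 Groth.Agent.Lib.Helper4.EffCartierDim1
open Groth.Agent.Lib.Helper4.Chev9 Groth.Agent.Lib.Helper4.Chev4
open Groth.Agent.Lib.Helper4.Chev10 Groth.Agent.Lib.Helper4.Chev11 Groth.Agent.Lib.Helper4.Chev3 Groth.Agent.Lib.Helper4.Equi1 Groth.Agent.Lib.Helper4.Equi2 Groth.Agent.Lib.Helper4.OpenAt1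

namespace Groth.Agent.Lib.Helper4.Equi4

section Equi5

variable {X Y : Scheme.{u}} (f : X ⟶ Y) [LocallyOfFiniteType f]

theorem S3396_main [IsLocallyNoetherian Y] (x : X) (h : EGA43.IsEquidimAt f x)
    (hcat : CAlg.IsUniversallyCatenary (Y.presheaf.stalk (f.base x)))
    (hY : EGA4.IsEquidim (Y.presheaf.stalk (f.base x))) :
    EGA4.IsEquidim (X.presheaf.stalk x) := by
  intro 𝔭 h𝔭
  haveI hp : 𝔭.IsPrime := h𝔭.1.1
  obtain ⟨e, U, hxU, h1, h2⟩ := isEquidimAt_facts f x h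
  have hξx : X.fromSpecStalk x ⟨𝔭, hp⟩ ⤳ x := fromSpecStalk_specializes x _
  have hξU : X.fromSpecStalk x ⟨𝔭, hp⟩ ∈ U := hξx.mem_open U.2 hxU
  have hξmax : ∀ ξ' : X, ξ' ⤳ X.fromSpecStalk x ⟨𝔭, hp⟩ → ξ' = X.fromSpecStalk x ⟨𝔭, hp⟩ :=
    fun ξ' hsp => fromSpecStalk_max_of_minimal x 𝔭 h𝔭 ξ' hsp
  have hcomp := (h1 _ hξU hξmax).1
  rw [map_fromSpecStalk f x ⟨𝔭, hp⟩] at hcomp
  have hmin := minimal_of_closure_mem_irreducibleComponents (f x) _ hcomp
  have hdimY := hY _ hmin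
  have key := S3457_main f x h hcat 𝔭 h𝔭
  rw [tr_spec f x, Cardinal.toNat_natCast, fibreDimAt_eq f x] at key
  change ringKrullDim (X.presheaf.stalk x ⧸ 𝔭) + _ =
    ringKrullDim (Y.presheaf.stalk (f x) ⧸ 𝔭.comap (f.stalkMap x).hom) + _ at key
  change ringKrullDim (Y.presheaf.stalk (f x) ⧸ 𝔭.comap (f.stalkMap x).hom) = _ at hdimY
  rw [hdimY, ← add_assoc] at key
  have key' := add_natCast_cancel _ _ _ key
  rw [key']
  exact (S3438_main f x hY hcat h).symm

end Equi5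

end Groth.Agent.Lib.Helper4.Equi4
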