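import Mathlib
import Groth.Prelude.Def_Cyc
import Groth.Prelude.Def_EGA43
import Groth.Agent.Lib.Helper4.Chev8
import Groth.Agent.Lib.Helper4.FibDim7
import Groth.Agent.Lib.Helper4.EffCartierDim1
import Groth.Agent.Lib.Helper4.JacDim4
import Groth.Agent.Lib.Helper4.Chev9
import Groth.Agent.Lib.Helper4.Chev10
import Groth.Agent.Lib.Helper4.Chev11
import Groth.Agent.Lib.Helper4.Equi1
import Groth.Agent.Lib.Helper4.Equi2
import Groth.Agent.Lib.Helper4.Equi3
import Groth.Agent.Lib.Helper4.Equi4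

/-!
# Equidimensional morphisms: criteria via the dimension formula and openness; prime avoidance in a fibre (helper4)
-/

set_option backward.isDefEq.respectTransparency.types false
set_option synthInstance.maxHeartbeats 400000
set_option autoImplicit false
set_option linter.unusedSectionVars false
set_option linter.style.haveILetI false
set_option linter.unusedSimpArgs false
universe u v w
open CategoryTheory CategoryTheory.Limits AlgebraicGeometry TopologicalSpace IsLocalRing Opposite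
open Cardinal
open Groth.Agent.Lib.Helper4.DimIneq1 Groth.Agent.Lib.Helper4.DimFT2 Groth.Agent.Lib.Helper4.Catenary1
open Groth.Agent.Lib.Helper4.DimEq1 Groth.Agent.Lib.Helper4.DimIneq2 Groth.Agent.Lib.Helper4.DimEq2
open Groth.Agent.Lib.Helper4.DimIneq3 Groth.Agent.Lib.Helper4.DimIneq4
open Groth.Agent.Lib.Helper4.NormFibre2 Groth.Agent.Lib.Helper4.RadBir3 Groth.Agent.Lib.Helper4.DimFT3
open Groth.Agent.Lib.Helper4.FibDim1 Groth.Agent.Lib.Helper4.FibDim2 Groth.Agent.Lib.Helper4.LocUC1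
open Groth.Agent.Lib.Helper4.FibDim3 Groth.Agent.Lib.Helper4.FibDim4 Groth.Agent.Lib.Helper4.FibDim5
open Groth.Agent.Lib.Helper4.FibDim6 Groth.Agent.Lib.Helper4.FibDim7 Groth.Agent.Lib.Helper4.JacDim1
open Groth.Agent.Lib.Helper4.DimFT1
open Groth.Agent.Lib.Helper4.Chev2 Groth.Agent.Lib.Helper4.Chev5 Groth.Agent.Lib.Helper4.Chev6 Groth.Agent.Lib.Helper4.Chev8
open Groth.Agent.Lib.Helper4.JacDim4 Groth.Agent.Lib.Helper4.EffCartierDim1
open Groth.Agent.Lib.Helper4.Chev9 Groth.Agent.Lib.Helper4.Chev4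
open Groth.Agent.Lib.Helper4.Chev10 Groth.Agent.Lib.Helper4.Chev11 Groth.Agent.Lib.Helper4.Chev3 Groth.Agent.Lib.Helper4.Equi1 Groth.Agent.Lib.Helper4.Equi2 Groth.Agent.Lib.Helper4.OpenAt1 Groth.Agent.Lib.Helper4.Equi3 Groth.Agent.Lib.Helper4.Equi4

namespace Groth.Agent.Lib.Helper4.Equi5

section GenDim4

variable {X Y : Scheme.{u}} (f : X ⟶ Y) [LocallyOfFiniteType f]

/-- the relative dimension inequality between a point and a generization of it -/
theorem genIn_le [IsLocallyNoetherian Y] (ξ x : X) (hsp : ξ ⤳ x) :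
    topologicalKrullDim ↥{t : X | t ∈ closure ({ξ} : Set X) ∧ t ⤳ x} + (tr f x : WithBot ℕ∞) ≤
      topologicalKrullDim ↥{t : Y | t ∈ closure ({f ξ} : Set Y) ∧ t ⤳ f x} +
        (tr f ξ : WithBot ℕ∞) := by
  obtain ⟨V, hV, hsV, -⟩ := exists_isAffineOpen_mem_and_subset (U := (⊤ : Y.Opens)) (x := f x)
    trivial
  obtain ⟨U, hU, hxU, hUV⟩ := exists_isAffineOpen_mem_and_subset (U := f ⁻¹ᵁ V) (x := x) hsV
  letI alg : Algebra Γ(Y, V) Γ(X, U) := (f.appLE V U hUV).hom.toAlgebra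
  haveI : IsNoetherianRing Γ(Y, V) := IsLocallyNoetherian.component_noetherian ⟨V, hV⟩
  haveI : Algebra.FiniteType Γ(Y, V) Γ(X, U) := LocallyOfFiniteType.finiteType_appLE f hV hU hUV
  haveI : IsNoetherianRing Γ(X, U) := Algebra.FiniteType.isNoetherianRing Γ(Y, V) Γ(X, U)
  have hξU : ξ ∈ U := hsp.mem_open U.2 hxU
  haveI hlo := liesOver_chart f hV hU hUV x hxU rfl
  haveI hloξ := liesOver_chart f hV hU hUV ξ hξU rfl
  have hQq : (hU.primeIdealOf ⟨ξ, hξU⟩).asIdeal ≤ (hU.primeIdealOf ⟨x, hxU⟩).asIdeal :=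
    (specializes_iff_primeIdealOf_le hU ⟨ξ, hξU⟩ ⟨x, hxU⟩).mp hsp
  have key := dim_ineq_rel Γ(Y, V) Γ(X, U) (hV.primeIdealOf ⟨f x, hUV hxU⟩).asIdeal
    (hU.primeIdealOf ⟨x, hxU⟩).asIdeal (hU.primeIdealOf ⟨ξ, hξU⟩).asIdeal hQq
  rw [tr_chart f hV hU hUV x hxU rfl] at key
  have h1 : Algebra.trdeg
      (Γ(Y, V) ⧸ (hU.primeIdealOf ⟨ξ, hξU⟩).asIdeal.under Γ(Y, V))
      (Γ(X, U) ⧸ (hU.primeIdealOf ⟨ξ, hξU⟩).asIdeal) =
      (tr f ξ : Cardinal.{u}) := by
    rw [← tr_chart f hV hU hUV ξ hξU rfl]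
    exact trdeg_quot_congr _ _ _ _ hloξ.over.symm rfl
  rw [h1, height_map_mk_congr _ _ _ hloξ.over.symm] at key
  have hsp' : f ξ ⤳ f x := hsp.map f.continuous
  rw [dim_genIn_eq hU ξ x hxU hξU hsp, dim_genIn_eq hV (f ξ) (f x) (hUV hxU) (hUV hξU) hsp']
  have hp : (hV.primeIdealOf ⟨f ξ, hUV hξU⟩).asIdeal ≤
      (hV.primeIdealOf ⟨f x, hUV hxU⟩).asIdeal :=
    (specializes_iff_primeIdealOf_le hV ⟨_, hUV hξU⟩ ⟨_, hUV hxU⟩).mp hsp'
  haveI := isPrime_map_mk _ _ hp
  haveI := isPrime_map_mk _ _ hQq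
  obtain ⟨c₀, hc₀⟩ := exists_height_nat ((hU.primeIdealOf ⟨x, hxU⟩).asIdeal.map
    (Ideal.Quotient.mk (hU.primeIdealOf ⟨ξ, hξU⟩).asIdeal))
  obtain ⟨m₀, hm₀⟩ := exists_height_nat ((hV.primeIdealOf ⟨f x, hUV hxU⟩).asIdeal.map
    (Ideal.Quotient.mk (hV.primeIdealOf ⟨f ξ, hUV hξU⟩).asIdeal))
  rw [hc₀, hm₀] at key ⊢
  have key' : c₀ + tr f x ≤ m₀ + tr f ξ := by exact_mod_cast key
  have : ((c₀ + tr f x : ℕ) : WithBot ℕ∞) ≤ ((m₀ + tr f ξ : ℕ) : WithBot ℕ∞) := by
    exact_mod_cast key'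
  push_cast at this
  exact this

end GenDim4

/-- a prime whose quotient has the (finite) dimension of the ring is minimal -/
theorem minimal_of_dim_quot_eq (R : Type*) [CommRing R] (𝔮 : Ideal R) [h𝔮 : 𝔮.IsPrime] (n : ℕ)
    (hR : ringKrullDim R = n) (h : ringKrullDim (R ⧸ 𝔮) = n) : 𝔮 ∈ minimalPrimes R := by
  rw [ringKrullDim, Order.krullDim_eq_of_orderIso 𝔮.primeSpectrumQuotientOrderIsoZeroLocus] at h
  refine ⟨⟨h𝔮, bot_le⟩, ?_⟩
  rintro 𝔮' ⟨h𝔮', -⟩ hle
  by_contra hne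
  have hlt : (⟨𝔮', h𝔮'⟩ : PrimeSpectrum R) < ⟨𝔮, h𝔮⟩ := lt_of_le_not_ge hle hne
  obtain ⟨p, hp⟩ := (Order.le_krullDim_iff (α := ↥(PrimeSpectrum.zeroLocus (𝔮 : Set R)))
    (n := n)).mp h.ge
  have hval : StrictMono (fun P : ↥(PrimeSpectrum.zeroLocus (𝔮 : Set R)) => P.1) :=
    fun a b hab => hab
  have hhead : (⟨𝔮', h𝔮'⟩ : PrimeSpectrum R) < (p.map _ hval).head := by
    rw [LTSeries.head_map]
    have h1 : (⟨𝔮, h𝔮⟩ : PrimeSpectrum R) ≤ p.head.1 := p.head.2
    exact lt_of_lt_of_le hlt h1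
  have h2 := Order.LTSeries.length_le_krullDim ((p.map _ hval).cons ⟨𝔮', h𝔮'⟩ hhead)
  rw [RelSeries.cons_length, LTSeries.map_length, hp] at h2
  change _ ≤ ringKrullDim R at h2
  rw [hR] at h2
  have h3 : (n + 1 : ℕ) ≤ n := by exact_mod_cast h2
  omega



theorem arith3 (G : WithBot ℕ∞) (a b t τ : ℕ)
    (h1 : ((a : WithBot ℕ∞) + b) + t ≤ G + τ) (h2 : G ≤ a) (h3 : τ ≤ b + t) :
    G = a ∧ τ = b + t := by
  induction G using WithBot.recBotCoe with
  | bot =>
    exfalso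
    rw [WithBot.bot_add, le_bot_iff] at h1
    exact WithBot.coe_ne_bot (a := ((a + b + t : ℕ) : ℕ∞)) (by exact_mod_cast h1)
  | coe G =>
    have h2' : G ≤ (a : ℕ∞) := by exact_mod_cast h2
    obtain ⟨g, rfl⟩ := ENat.ne_top_iff_exists.mp (ne_top_of_le_ne_top (ENat.natCast_ne_top a) h2')
    have g1 : a + b + t ≤ g + τ := by exact_mod_cast h1
    have g2 : g ≤ a := by exact_mod_cast h2'
    constructor
    · have : g = a := by omega
      exact_mod_cast this
    · omega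

section Equi6

variable {X Y : Scheme.{u}} (f : X ⟶ Y) [LocallyOfFiniteType f]

/-- under the dimension formula with equidimensional local ring upstairs, the maximal points
above `x` lie over maximal points and have the residual transcendence degree of the fibre -/
theorem equi_claim [IsLocallyNoetherian Y] (x : X)
    (hX : EGA4.IsEquidim (X.presheaf.stalk x))
    (h : ringKrullDim (X.presheaf.stalk x) =
        ringKrullDim (Y.presheaf.stalk (f.base x)) +
          ringKrullDim ((f.fiber (f.base x)).presheaf.stalk (f.asFiber x)))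
    (ξ : X) (hξmax : ∀ ξ' : X, ξ' ⤳ ξ → ξ' = ξ) (hξx : ξ ⤳ x) :
    closure ({f ξ} : Set Y) ∈ irreducibleComponents Y ∧
      ((tr f ξ : ℕ) : WithBot ℕ∞) = FlatMor.fibreDimAt f x := by
  have hmem : ξ ∈ Set.range (X.fromSpecStalk x) := by
    rw [Scheme.range_fromSpecStalk]
    exact hξx
  obtain ⟨P, rfl⟩ := hmem
  have hPmin : PrimeSpectrum.asIdeal P ∈ minimalPrimes (X.presheaf.stalk x) :=
    minimal_of_closure_mem_irreducibleComponents x P
      (closure_mem_irreducibleComponents_of_max _ hξmax)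
  obtain ⟨a, ha⟩ := exists_stalk_dim_nat (Y := Y) (f x)
  obtain ⟨b, hb⟩ := exists_fiber_stalk_dim_nat f x
  change ringKrullDim (Y.presheaf.stalk (f x)) = _ at ha
  have hdX := hX _ hPmin
  haveI : (PrimeSpectrum.asIdeal P).IsPrime := PrimeSpectrum.isPrime P
  haveI hpc : ((PrimeSpectrum.asIdeal P).comap (f.stalkMap x).hom).IsPrime :=
    Ideal.comap_isPrime _ _
  have h1 := genIn_le f _ x hξx
  have hP : (⟨PrimeSpectrum.asIdeal P, PrimeSpectrum.isPrime P⟩ :
    PrimeSpectrum (X.presheaf.stalk x)) = P := rfl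
  rw [map_fromSpecStalk f x P, ← dim_stalk_quot_eq_genIn (f x)
    ((PrimeSpectrum.asIdeal P).comap (f.stalkMap x).hom)] at h1
  have h1' : ringKrullDim (X.presheaf.stalk x ⧸ PrimeSpectrum.asIdeal P) +
      (tr f x : WithBot ℕ∞) ≤
      ringKrullDim (Y.presheaf.stalk (f x) ⧸ (PrimeSpectrum.asIdeal P).comap (f.stalkMap x).hom) +
        (tr f (X.fromSpecStalk x P) : WithBot ℕ∞) := by
    rw [dim_stalk_quot_eq_genIn x (PrimeSpectrum.asIdeal P)]
    exact h1
  change ringKrullDim (X.presheaf.stalk x) =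
    ringKrullDim (Y.presheaf.stalk (f x)) + _ at h
  rw [hdX, h, ha, hb] at h1'
  have h2 : ringKrullDim (Y.presheaf.stalk (f x) ⧸
      (PrimeSpectrum.asIdeal P).comap (f.stalkMap x).hom) ≤ (a : WithBot ℕ∞) := by
    rw [← ha]
    exact ringKrullDim_quotient_le _
  have h3 := tr_le_fibreDimAt_of_specializes f x _ hξx
  rw [fibreDimAt_eq f x, hb] at h3 ⊢
  have h3' : tr f (X.fromSpecStalk x P) ≤ b + tr f x := by exact_mod_cast h3
  obtain ⟨r1, r2⟩ := arith3 _ a b (tr f x) (tr f (X.fromSpecStalk x P)) h1' h2 h3'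
  constructor
  · have hmin := minimal_of_dim_quot_eq (Y.presheaf.stalk (f x))
      ((PrimeSpectrum.asIdeal P).comap (f.stalkMap x).hom) a ha r1
    rw [map_fromSpecStalk f x P]
    exact closure_mem_irreducibleComponents_of_max _
      (fun ξ' hsp => fromSpecStalk_max_of_minimal (f x) _ hmin ξ' hsp)
  · rw [r2]
    push_cast
    rfl

theorem S3397_main [IsLocallyNoetherian Y] (x : X)
    (hY : EGA4.IsEquidim (Y.presheaf.stalk (f.base x)))
    (hX : EGA4.IsEquidim (X.presheaf.stalk x))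
    (h : ringKrullDim (X.presheaf.stalk x) =
        ringKrullDim (Y.presheaf.stalk (f.base x)) + ringKrullDim ((f.fiber (f.base x)).presheaf.stalk (f.asFiber x))) :
    EGA43.IsEquidimAt f x := by
  haveI : IsLocallyNoetherian X := LocallyOfFiniteType.isLocallyNoetherian f
  obtain ⟨b, hb⟩ := exists_fiber_stalk_dim_nat f x
  have hfd : FlatMor.fibreDimAt f x = ((b + tr f x : ℕ) : WithBot ℕ∞) := by
    rw [fibreDimAt_eq f x, hb]
    push_cast
    rfl
  obtain ⟨W, hW, hxW, hWgen⟩ := exists_nhd_common_gen X Set.univ isClosed_univ x trivial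
  let U : X.Opens := ⟨{t : X | FlatMor.fibreDimAt f t ≤ ((b + tr f x : ℕ) : WithBot ℕ∞)},
    Groth.Agent.Lib.Helper4.Chev2.S0402_main f _⟩ ⊓ ⟨W, hW⟩
  have hxU : x ∈ U := ⟨hfd.le, hxW⟩
  have hspx : ∀ ξ : X, ξ ∈ U → (∀ ξ' : X, ξ' ⤳ ξ → ξ' = ξ) → ξ ⤳ x := by
    intro ξ hξU hξmax
    obtain ⟨σ, -, hσξ, hσx⟩ := hWgen ξ ⟨hξU.2, trivial⟩
    rw [← hξmax σ hσξ]
    exact hσx
  apply isEquidimAt_of_facts f x (b + tr f x) U hxU
  · intro ξ hξU hξmax
    have hξx := hspx ξ hξU hξmax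
    exact ⟨(equi_claim f x hX h ξ hξmax hξx).1, hξx.map f.continuous⟩
  · intro z hzU hzmax
    have h3 := (max_point_facts f z hzmax).1
    have h4 : FlatMor.fibreDimAt f z ≤ ((b + tr f x : ℕ) : WithBot ℕ∞) := hzU.1
    rw [h3] at h4
    have h4' : tr f z ≤ b + tr f x := by exact_mod_cast h4
    obtain ⟨ξ, hzξ, hξM⟩ := exists_isMax_ge X z
    have hξz : ξ ⤳ z := hzξ
    have hξmax : ∀ ξ' : X, ξ' ⤳ ξ → ξ' = ξ := by
      intro ξ' hsp
      have h5 : ξ ≤ ξ' := hsp
      have h6 : ξ ⤳ ξ' := hξM h5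
      exact (hsp.antisymm h6).eq
    have hξU : ξ ∈ U := hξz.mem_open U.2 hzU
    have hξx := hspx ξ hξU hξmax
    have h7 := (equi_claim f x hX h ξ hξmax hξx).2
    rw [hfd] at h7
    have h7' : tr f ξ = b + tr f x := by exact_mod_cast h7
    have h8 := tr_le_fibreDimAt_of_specializes f z ξ hξz
    rw [h3] at h8
    have h8' : tr f ξ ≤ tr f z := by exact_mod_cast h8
    omega

end Equi6



section Equi7

variable {X Y : Scheme.{u}} (f : X ⟶ Y) [LocallyOfFiniteType f]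

/-- if `f` is open at the maximal points of the fibre generizing `x`, the dimension formula holds
at `x` -/
theorem dim_formula_of_isOpenAt [IsLocallyNoetherian Y] (x : X)
    (h : ∀ z : ↥(f.fiber (f.base x)), f.asFiber x ∈ closure {z} →
      (∀ z' : ↥(f.fiber (f.base x)), z ∈ closure {z'} → z' = z) →
      EGA43.IsOpenAt f.base ((f.fiberι (f.base x)).base z)) :
    ringKrullDim (X.presheaf.stalk x) =
        ringKrullDim (Y.presheaf.stalk (f.base x)) +
          ringKrullDim ((f.fiber (f.base x)).presheaf.stalk (f.asFiber x)) := by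
  haveI : IsLocallyNoetherian X := LocallyOfFiniteType.isLocallyNoetherian f
  apply le_antisymm (Groth.Agent.Lib.Helper4.FibreStalkDim1.S3447_main f x)
  obtain ⟨b, hb⟩ := exists_fiber_stalk_dim_nat f x
  change ringKrullDim (Y.presheaf.stalk (f x)) + ringKrullDim ((f.fiber (f x)).presheaf.stalk
    (f.asFiber x)) ≤ _
  rw [hb]
  rw [stalk_fiber_dim f x] at hb
  have hb' : Order.coheight (⟨x, rfl⟩ : {z : X // f z = f x}) = (b : ℕ∞) := by
    exact_mod_cast hb
  obtain ⟨p, hp, hlen⟩ := Order.exists_series_of_coheight_eq_coe _ hb'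
  have h1 := coheight_add_length_le p
  rw [hp, hb', hlen] at h1
  have h0 : Order.coheight p.last = 0 := by
    have hne : Order.coheight p.last ≠ ⊤ := by
      intro htop
      rw [htop, top_add, top_le_iff] at h1
      exact ENat.natCast_ne_top b h1
    obtain ⟨c, hc⟩ := ENat.ne_top_iff_exists.mp hne
    rw [← hc] at h1 ⊢
    have : c + b ≤ b := by exact_mod_cast h1
    have : c = 0 := by omega
    exact_mod_cast this
  have hM : IsMax p.last := Order.coheight_eq_zero.mp h0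
  have hmax : ∀ z' : X, f z' = f p.last.1 → z' ⤳ p.last.1 → z' = p.last.1 := by
    intro z' hz' hsp
    have h3 : p.last ≤ ⟨z', hz'.trans p.last.2⟩ := hsp
    have h4 : p.last.1 ⤳ z' := hM h3
    exact (hsp.antisymm h4).eq
  have hsp : p.last.1 ⤳ x := by
    have h3 : p.head ≤ p.last := p.head_le_last
    rw [hp] at h3
    exact h3
  have hop := isOpenAt_of_fiber_hyp f x h p.last.1 p.last.2 hsp hmax
  have hd := stalk_dim_le_of_isOpenAt f p.last.1 ((isMax_fib_iff f p.last.1).mpr hmax) hop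
  rw [stalk_dim_congr _ _ p.last.2] at hd
  have hval : StrictMono (fun z : {z : X // f z = f x} => z.1) := fun a b hab => hab
  have h5 := coheight_add_length_le (p.map _ hval)
  rw [LTSeries.last_map, LTSeries.head_map, hp, LTSeries.map_length, hlen] at h5
  rw [AlgebraicGeometry.ringKrullDim_stalk_eq_coheight x]
  rw [AlgebraicGeometry.ringKrullDim_stalk_eq_coheight p.last.1] at hd
  have h6 := WithBot.coe_le_coe.mpr h5
  push_cast at h6
  exact (add_le_add_left hd _).trans h6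

theorem S4918_main [IsLocallyNoetherian Y] (x : X) (hX : EGA4.IsEquidim (X.presheaf.stalk x))
    (hY : EGA4.IsEquidim (Y.presheaf.stalk (f.base x)))
    (h : ∀ z : ↥(f.fiber (f.base x)), f.asFiber x ∈ closure {z} →
      (∀ z' : ↥(f.fiber (f.base x)), z ∈ closure {z'} → z' = z) →
      EGA43.IsOpenAt f.base ((f.fiberι (f.base x)).base z)) :
    EGA43.IsEquidimAt f x :=
  S3397_main f x hY hX (dim_formula_of_isOpenAt f x h)

end Equi7



section Avoid

variable {X Y : Scheme.{u}} (f : X ⟶ Y) [LocallyOfFiniteType f]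

theorem S5924_main [IsLocallyNoetherian Y] (x : X)
    (hx : ∃ x' : X, f.base x' = f.base x ∧ x' ≠ x ∧ x ∈ closure ({x'} : Set X)) :
    ∃ U : X.Opens, IsAffineOpen U ∧ x ∈ U ∧ ∃ g : Γ(X, U), x ∉ X.basicOpen g ∧
      ∀ z : X, f.base z = f.base x → (∀ z' : X, f.base z' = f.base x → z ∈ closure ({z'} : Set X) → z' = z) →
        z ∈ U → z ∈ X.basicOpen g := by
  classical
  obtain ⟨V, hV, hsV, -⟩ := exists_isAffineOpen_mem_and_subset (U := (⊤ : Y.Opens)) (x := f x)
    trivial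
  obtain ⟨U, hU, hxU, hUV⟩ := exists_isAffineOpen_mem_and_subset (U := f ⁻¹ᵁ V) (x := x) hsV
  letI alg : Algebra Γ(Y, V) Γ(X, U) := (f.appLE V U hUV).hom.toAlgebra
  haveI : IsNoetherianRing Γ(Y, V) := IsLocallyNoetherian.component_noetherian ⟨V, hV⟩
  haveI : Algebra.FiniteType Γ(Y, V) Γ(X, U) := LocallyOfFiniteType.finiteType_appLE f hV hU hUV
  haveI : IsNoetherianRing Γ(X, U) := Algebra.FiniteType.isNoetherianRing Γ(Y, V) Γ(X, U)
  refine ⟨U, hU, hxU, ?_⟩
  have hfin := Ideal.finite_minimalPrimes_of_isNoetherianRing Γ(X, U)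
    ((hV.primeIdealOf ⟨f x, hUV hxU⟩).asIdeal.map (algebraMap Γ(Y, V) Γ(X, U)))
  have hfib : ∀ P : PrimeSpectrum Γ(X, U),
      P.asIdeal.under Γ(Y, V) = (hV.primeIdealOf ⟨f x, hUV hxU⟩).asIdeal →
      f (hU.fromSpec P) = f x := by
    intro P hP
    have hzU : hU.fromSpec P ∈ U := fromSpec_mem hU P
    have h1 := liesOver_chart f hV hU hUV _ hzU rfl
    have h2 : hV.primeIdealOf ⟨f (hU.fromSpec P), hUV hzU⟩ = hV.primeIdealOf ⟨f x, hUV hxU⟩ := by
      apply PrimeSpectrum.ext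
      rw [h1.over, primeIdealOf_fromSpec hU P]
      exact hP
    exact congrArg Subtype.val (primeIdealOf_injective' hV h2)
  -- the primes of the maximal points of the fibre are minimal over the extended ideal
  have hmem : ∀ z : X, ∀ hzU : z ∈ U, f z = f x →
      (∀ z' : X, f z' = f x → z ∈ closure ({z'} : Set X) → z' = z) →
      (hU.primeIdealOf ⟨z, hzU⟩).asIdeal ∈ ((hV.primeIdealOf ⟨f x, hUV hxU⟩).asIdeal.map
        (algebraMap Γ(Y, V) Γ(X, U))).minimalPrimes := by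
    intro z hzU hz hzmax
    have hlo := liesOver_chart f hV hU hUV z hzU rfl
    have hpz : hV.primeIdealOf ⟨f z, hUV hzU⟩ = hV.primeIdealOf ⟨f x, hUV hxU⟩ := by
      congr 1
      exact Subtype.ext hz
    have hover : (hU.primeIdealOf ⟨z, hzU⟩).asIdeal.under Γ(Y, V) =
        (hV.primeIdealOf ⟨f x, hUV hxU⟩).asIdeal := by
      rw [← hpz]
      exact hlo.over.symm
    refine ⟨⟨inferInstance, ?_⟩, ?_⟩
    · rw [Ideal.map_le_iff_le_comap, ← hover]
    · rintro q ⟨hq, hIq⟩ hle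
      have hqunder : q.under Γ(Y, V) = (hV.primeIdealOf ⟨f x, hUV hxU⟩).asIdeal := by
        apply le_antisymm
        · rw [← hover]
          exact Ideal.comap_mono hle
        · exact Ideal.map_le_iff_le_comap.mp hIq
      have ht := hfib ⟨q, hq⟩ hqunder
      have htU : hU.fromSpec ⟨q, hq⟩ ∈ U := fromSpec_mem hU _
      have hsp : hU.fromSpec ⟨q, hq⟩ ⤳ z := by
        rw [specializes_iff_primeIdealOf_le hU ⟨_, htU⟩ ⟨z, hzU⟩, primeIdealOf_fromSpec]
        exact hle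
      have h3 := hzmax _ ht (specializes_iff_mem_closure.mp hsp)
      have h4 : hU.primeIdealOf ⟨z, hzU⟩ = ⟨q, hq⟩ := by
        have h5 := primeIdealOf_fromSpec hU ⟨q, hq⟩
        rw [← h5]
        congr 1
        exact Subtype.ext h3.symm
      rw [h4]
  -- prime avoidance
  have hnot : ¬ (((hU.primeIdealOf ⟨x, hxU⟩).asIdeal : Set Γ(X, U)) ⊆
      ⋃ q ∈ (↑(hfin.toFinset.filter (fun q => ∃ z : X, ∃ hzU : z ∈ U, f z = f x ∧
        (∀ z' : X, f z' = f x → z ∈ closure ({z'} : Set X) → z' = z) ∧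
        q = (hU.primeIdealOf ⟨z, hzU⟩).asIdeal)) : Set (Ideal Γ(X, U))), (q : Set Γ(X, U))) := by
    intro hsub
    rw [Ideal.subset_union_prime (f := fun q : Ideal Γ(X, U) => q) ⊥ ⊥] at hsub
    · obtain ⟨q, hq, hle⟩ := hsub
      rw [Finset.mem_filter] at hq
      obtain ⟨-, z, hzU, hz, hzmax, rfl⟩ := hq
      have hsp : x ⤳ z := (specializes_iff_primeIdealOf_le hU ⟨x, hxU⟩ ⟨z, hzU⟩).mpr hle
      have hxz := hzmax x rfl (specializes_iff_mem_closure.mp hsp)
      subst hxz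
      obtain ⟨x', hx'1, hx'2, hx'3⟩ := hx
      exact hx'2 (hzmax x' hx'1 hx'3)
    · intro q hq _ _
      rw [Finset.mem_filter] at hq
      obtain ⟨-, z, hzU, -, -, rfl⟩ := hq
      infer_instance
  rw [Set.not_subset] at hnot
  obtain ⟨g, hgx, hgS⟩ := hnot
  refine ⟨g, ?_, ?_⟩
  · rw [← mem_primeIdealOf_iff hU x hxU g]
    exact hgx
  · intro z hz hzmax hzU
    by_contra hcon
    rw [← mem_primeIdealOf_iff hU z hzU g] at hcon
    apply hgS
    simp only [Set.mem_iUnion]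
    refine ⟨(hU.primeIdealOf ⟨z, hzU⟩).asIdeal, ?_, hcon⟩
    rw [Finset.mem_coe, Finset.mem_filter]
    exact ⟨(Set.Finite.mem_toFinset hfin).mpr (hmem z hzU hz hzmax), z, hzU, hz, hzmax, rfl⟩

end Avoid


end Groth.Agent.Lib.Helper4.Equi5
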