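import Mathlib
import Groth.Prelude.Def_Cyc
import Groth.Prelude.Def_EGA43
import Groth.Agent.Lib.Helper4.Chev8
import Groth.Agent.Lib.Helper4.FibDim7
import Groth.Agent.Lib.Helper4.EffCartierDim1
import Groth.Agent.Lib.Helper4.JacDim4
import Groth.Agent.Lib.Helper4.Chev9
import Groth.Agent.Lib.Helper4.Chev10
import Groth.Agent.Lib.Helper4.Chev11
import Groth.Agent.Lib.Helper4.Equi1
import Groth.Agent.Lib.Helper4.Equi2
import Groth.Agent.Lib.Helper4.Equi3
import Groth.Agent.Lib.Helper4.Equi4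
import Groth.Agent.Lib.Helper4.Equi5

/-!
# Equidimensional morphisms: criterion via the irreducible components through the point (EGA IV 13.3.1-ish) (helper4)
-/

set_option backward.isDefEq.respectTransparency.types false
set_option synthInstance.maxHeartbeats 400000
set_option autoImplicit false
set_option linter.unusedSectionVars false
set_option linter.style.haveILetI false
set_option linter.unusedSimpArgs false
universe u v w
open CategoryTheory CategoryTheory.Limits AlgebraicGeometry TopologicalSpace IsLocalRing Opposite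
open Cardinal
open Groth.Agent.Lib.Helper4.DimIneq1 Groth.Agent.Lib.Helper4.DimFT2 Groth.Agent.Lib.Helper4.Catenary1
open Groth.Agent.Lib.Helper4.DimEq1 Groth.Agent.Lib.Helper4.DimIneq2 Groth.Agent.Lib.Helper4.DimEq2
open Groth.Agent.Lib.Helper4.DimIneq3 Groth.Agent.Lib.Helper4.DimIneq4
open Groth.Agent.Lib.Helper4.NormFibre2 Groth.Agent.Lib.Helper4.RadBir3 Groth.Agent.Lib.Helper4.DimFT3
open Groth.Agent.Lib.Helper4.FibDim1 Groth.Agent.Lib.Helper4.FibDim2 Groth.Agent.Lib.Helper4.LocUC1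
open Groth.Agent.Lib.Helper4.FibDim3 Groth.Agent.Lib.Helper4.FibDim4 Groth.Agent.Lib.Helper4.FibDim5
open Groth.Agent.Lib.Helper4.FibDim6 Groth.Agent.Lib.Helper4.FibDim7 Groth.Agent.Lib.Helper4.JacDim1
open Groth.Agent.Lib.Helper4.DimFT1
open Groth.Agent.Lib.Helper4.Chev2 Groth.Agent.Lib.Helper4.Chev5 Groth.Agent.Lib.Helper4.Chev6 Groth.Agent.Lib.Helper4.Chev8
open Groth.Agent.Lib.Helper4.JacDim4 Groth.Agent.Lib.Helper4.EffCartierDim1
open Groth.Agent.Lib.Helper4.Chev9 Groth.Agent.Lib.Helper4.Chev4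
open Groth.Agent.Lib.Helper4.Chev10 Groth.Agent.Lib.Helper4.Chev11 Groth.Agent.Lib.Helper4.Chev3 Groth.Agent.Lib.Helper4.Equi1 Groth.Agent.Lib.Helper4.Equi2 Groth.Agent.Lib.Helper4.OpenAt1 Groth.Agent.Lib.Helper4.Equi3 Groth.Agent.Lib.Helper4.Equi4 Groth.Agent.Lib.Helper4.Equi5

namespace Groth.Agent.Lib.Helper4.Equi6

section LemP

variable {X Y : Scheme.{u}} (f : X ⟶ Y) [LocallyOfFiniteType f]

theorem localDim_closure_fiber_facts_aux {W : Scheme.{u}} [IsLocallyNoetherian Y] (ι : W ⟶ X)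
    [IsClosedImmersion ι] (ξ x : X) (hr : Set.range ι = closure ({ξ} : Set X)) (hsp : ξ ⤳ x) :
    ((tr f ξ : ℕ) : WithBot ℕ∞) ≤ FlatMor.localDim ↥(closure ({ξ} : Set X) ∩ f.base ⁻¹' {f.base x})
        ⟨x, ⟨specializes_iff_mem_closure.mp hsp, rfl⟩⟩ ∧
      ∀ z : X, f z = f x → ξ ⤳ z → z ⤳ x →
        ((tr f z : ℕ) : WithBot ℕ∞) ≤
          FlatMor.localDim ↥(closure ({ξ} : Set X) ∩ f.base ⁻¹' {f.base x})
            ⟨x, ⟨specializes_iff_mem_closure.mp hsp, rfl⟩⟩ := by
  have hembX : Topology.IsEmbedding ι := ι.isEmbedding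
  have hxr : x ∈ Set.range ι := by
    rw [hr]
    exact specializes_iff_mem_closure.mp hsp
  obtain ⟨w₀, rfl⟩ := hxr
  haveI : IrreducibleSpace W := by
    have h3 : IsPreirreducible (Set.univ : Set W) :=
      isPreirreducible_of_image ι hembX.isInducing _ (by
        rw [Set.image_univ, hr]; exact isIrreducible_singleton.closure.2)
    exact { isPreirreducible_univ := h3, toNonempty := ⟨w₀⟩ }
  have hξ'cl : closure ({ι (genericPoint W)} : Set X) = closure ({ξ} : Set X) := by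
    have h3 : closure ({genericPoint W} : Set W) = Set.univ := (genericPoint_spec W).def
    rw [← Set.image_singleton, ← closure_image_closure ι.continuous, h3, Set.image_univ, hr,
      closure_closure]
  have hξx' : ι (genericPoint W) = ξ := by
    have h3 : IsGenericPoint (ι (genericPoint W)) (closure ({ξ} : Set X)) := hξ'cl
    have h4 : IsGenericPoint ξ (closure ({ξ} : Set X)) := rfl
    exact h3.eq h4
  have htrW : ∀ z₁ : W, tr (ι ≫ f) z₁ = tr f (ι z₁) := by
    intro z₁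
    rw [tr_comp ι f, tr_of_surjectiveOnStalks ι, add_zero]
  have hL := fibreDimAt_comp_eq_localDim f ι hembX (closure ({ξ} : Set X)) hr w₀
    ⟨specializes_iff_mem_closure.mp hsp, rfl⟩
  rw [← hL]
  constructor
  · have h3 := tr_le_fibreDimAt_of_specializes (ι ≫ f) w₀ (genericPoint W)
      (genericPoint_specializes w₀)
    rw [htrW, hξx'] at h3
    exact h3
  · intro z hz hξz hzx
    have hzr : z ∈ Set.range ι := by
      rw [hr]
      exact specializes_iff_mem_closure.mp hξz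
    obtain ⟨z₁, rfl⟩ := hzr
    have h3 := tr_le_fibreDimAt_of_specializes (ι ≫ f) w₀ z₁
      (hembX.isInducing.specializes_iff.mp hzx)
    rw [htrW] at h3
    exact h3

theorem localDim_closure_fiber_facts [IsLocallyNoetherian Y] (ξ x : X) (hsp : ξ ⤳ x) :
    ((tr f ξ : ℕ) : WithBot ℕ∞) ≤ FlatMor.localDim ↥(closure ({ξ} : Set X) ∩ f.base ⁻¹' {f.base x})
        ⟨x, ⟨specializes_iff_mem_closure.mp hsp, rfl⟩⟩ ∧
      ∀ z : X, f z = f x → ξ ⤳ z → z ⤳ x →
        ((tr f z : ℕ) : WithBot ℕ∞) ≤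
          FlatMor.localDim ↥(closure ({ξ} : Set X) ∩ f.base ⁻¹' {f.base x})
            ⟨x, ⟨specializes_iff_mem_closure.mp hsp, rfl⟩⟩ := by
  have hr : Set.range (Scheme.IdealSheafData.vanishingIdeal
      (⟨closure ({ξ} : Set X), isClosed_closure⟩ : TopologicalSpace.Closeds X)).subschemeι =
      closure ({ξ} : Set X) := by
    rw [Scheme.IdealSheafData.range_subschemeι, Scheme.IdealSheafData.coe_support_vanishingIdeal]
    rfl
  exact localDim_closure_fiber_facts_aux f _ ξ x hr hsp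

theorem localDim_closure_fiber_le [IsLocallyNoetherian Y] (ξ x : X) (hsp : ξ ⤳ x) :
    FlatMor.localDim ↥(closure ({ξ} : Set X) ∩ f.base ⁻¹' {f.base x})
        ⟨x, ⟨specializes_iff_mem_closure.mp hsp, rfl⟩⟩ ≤ FlatMor.fibreDimAt f x := by
  have h1 := localDim_le_of_isInducing
    (Set.inclusion (Set.inter_subset_right :
      closure ({ξ} : Set X) ∩ f.base ⁻¹' {f.base x} ⊆ f.base ⁻¹' {f.base x}))
    (Topology.IsEmbedding.inclusion _).isInducing
    ⟨x, ⟨specializes_iff_mem_closure.mp hsp, rfl⟩⟩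
  rw [fibreDimAt_eq_localDim_preimage f x (f x) rfl]
  exact h1

end LemP



section Main3456

variable {X Y : Scheme.{u}} (f : X ⟶ Y) [LocallyOfFiniteType f]

theorem max_of_isMax {X : Scheme.{u}} (ξ : X) (h : IsMax ξ) : ∀ ξ' : X, ξ' ⤳ ξ → ξ' = ξ := by
  intro ξ' hsp
  have h5 : ξ ≤ ξ' := hsp
  have h6 : ξ ⤳ ξ' := h h5
  exact (hsp.antisymm h6).eq

theorem S3456_main [IsLocallyNoetherian Y] (x : X) :
    EGA43.IsEquidimAt f x ↔
      ∃ e : ℕ, ∀ Xj ∈ irreducibleComponents (X : Type u), ∀ hx : x ∈ Xj,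
        closure (f.base '' Xj) ∈ irreducibleComponents (Y : Type u) ∧
        (∀ η : Y, closure ({η} : Set Y) = closure (f.base '' Xj) →
          topologicalKrullDim ↥(Xj ∩ f.base ⁻¹' {η}) = e) ∧
        FlatMor.localDim ↥(Xj ∩ f.base ⁻¹' {f.base x}) ⟨x, ⟨hx, Set.mem_singleton (f.base x)⟩⟩ = e := by
  have hclim : ∀ ξ : X, closure (f.base '' closure ({ξ} : Set X)) = closure ({f ξ} : Set Y) := by
    intro ξ
    rw [closure_image_closure f.continuous, Set.image_singleton]
  constructor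
  · intro h
    obtain ⟨e, U, hxU, h1, h2⟩ := isEquidimAt_facts f x h
    have hfd := fibreDimAt_eq_of_facts f x e U hxU h2
    refine ⟨e, ?_⟩
    intro Xj hXj hx
    obtain ⟨ξ, hξM, rfl⟩ := exists_isMax_closure_eq X Xj hXj
    have hξmax := max_of_isMax ξ hξM
    have hξx : ξ ⤳ x := specializes_iff_mem_closure.mpr hx
    have hξU : ξ ∈ U := hξx.mem_open U.2 hxU
    have htr : tr f ξ = e := h2 ξ hξU (fun z' _ hsp => hξmax z' hsp)
    refine ⟨?_, ?_, ?_⟩
    · rw [hclim]
      exact (h1 ξ hξU hξmax).1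
    · intro η hη
      rw [hclim] at hη
      have h3 : IsGenericPoint η (closure ({f ξ} : Set Y)) := hη
      have h4 : IsGenericPoint (f ξ) (closure ({f ξ} : Set Y)) := rfl
      rw [h3.eq h4, dim_closure_inter_fiber f ξ (f ξ) rfl, htr]
    · apply le_antisymm
      · exact (localDim_closure_fiber_le f ξ x hξx).trans hfd.le
      · rw [← htr]
        exact (localDim_closure_fiber_facts f ξ x hξx).1
  · rintro ⟨e, he⟩
    haveI : IsLocallyNoetherian X := LocallyOfFiniteType.isLocallyNoetherian f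
    obtain ⟨W, hW, hxW, hWgen⟩ := exists_nhd_common_gen X Set.univ isClosed_univ x trivial
    have hkey : ∀ ξ : X, (∀ ξ' : X, ξ' ⤳ ξ → ξ' = ξ) → ∀ hξx : ξ ⤳ x,
        closure ({f ξ} : Set Y) ∈ irreducibleComponents Y ∧ tr f ξ = e ∧
        FlatMor.localDim ↥(closure ({ξ} : Set X) ∩ f.base ⁻¹' {f.base x})
          ⟨x, ⟨specializes_iff_mem_closure.mp hξx, rfl⟩⟩ = (e : WithBot ℕ∞) := by
      intro ξ hξmax hξx
      obtain ⟨c1, c2, c3⟩ := he (closure {ξ}) (closure_mem_irreducibleComponents_of_max ξ hξmax)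
        (specializes_iff_mem_closure.mp hξx)
      rw [hclim] at c1
      refine ⟨c1, ?_, c3⟩
      have h3 := c2 (f ξ) (hclim ξ).symm
      rw [dim_closure_inter_fiber f ξ (f ξ) rfl] at h3
      exact_mod_cast h3
    have hfdx : FlatMor.fibreDimAt f x ≤ (e : WithBot ℕ∞) := by
      apply fibreDimAt_le_of_max_tr_le
      intro z hz hzx hzmax
      obtain ⟨ξ, hzξ, hξM⟩ := exists_isMax_ge X z
      have hξz : ξ ⤳ z := hzξ
      have hξmax := max_of_isMax ξ hξM
      obtain ⟨-, -, c3⟩ := hkey ξ hξmax (hξz.trans hzx)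
      have h3 := (localDim_closure_fiber_facts f ξ x (hξz.trans hzx)).2 z hz hξz hzx
      rw [c3] at h3
      exact_mod_cast h3
    let U : X.Opens := ⟨{t : X | FlatMor.fibreDimAt f t ≤ ((e : ℕ) : WithBot ℕ∞)},
      Groth.Agent.Lib.Helper4.Chev2.S0402_main f _⟩ ⊓ ⟨W, hW⟩
    have hxU : x ∈ U := ⟨hfdx, hxW⟩
    have hspx : ∀ ξ : X, ξ ∈ U → (∀ ξ' : X, ξ' ⤳ ξ → ξ' = ξ) → ξ ⤳ x := by
      intro ξ hξU hξmax
      obtain ⟨σ, -, hσξ, hσx⟩ := hWgen ξ ⟨hξU.2, trivial⟩
      rw [← hξmax σ hσξ]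
      exact hσx
    apply isEquidimAt_of_facts f x e U hxU
    · intro ξ hξU hξmax
      have hξx := hspx ξ hξU hξmax
      exact ⟨(hkey ξ hξmax hξx).1, hξx.map f.continuous⟩
    · intro z hzU hzmax
      have h3 := (max_point_facts f z hzmax).1
      have h4 : FlatMor.fibreDimAt f z ≤ ((e : ℕ) : WithBot ℕ∞) := hzU.1
      rw [h3] at h4
      have h4' : tr f z ≤ e := by exact_mod_cast h4
      obtain ⟨ξ, hzξ, hξM⟩ := exists_isMax_ge X z
      have hξz : ξ ⤳ z := hzξ
      have hξmax := max_of_isMax ξ hξM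
      have hξU : ξ ∈ U := hξz.mem_open U.2 hzU
      have hξx := hspx ξ hξU hξmax
      have h7 := (hkey ξ hξmax hξx).2.1
      have h8 := tr_le_fibreDimAt_of_specializes f z ξ hξz
      rw [h3] at h8
      have h8' : tr f ξ ≤ tr f z := by exact_mod_cast h8
      omega

end Main3456


end Groth.Agent.Lib.Helper4.Equi6
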