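import Mathlib
import Groth.Prelude.Def_Cyc
import Groth.Agent.Lib.Helper4.JacDim1
import Groth.Prelude.Def_EGA43
import Groth.Agent.Lib.Helper4.FibreStalkDim1
import Groth.Agent.Lib.Helper4.DimFT1
import Groth.Agent.Lib.Helper4.DimFT2
import Groth.Agent.Lib.Helper4.Chev8
import Groth.Agent.Lib.Helper4.FibDim7
import Groth.Agent.Lib.Helper4.EffCartierDim1
import Groth.Agent.Lib.Helper4.JacDim4
import Groth.Agent.Lib.Helper4.Chev9
import Groth.Agent.Lib.Helper4.Chev10
import Groth.Agent.Lib.Helper4.Chev11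
import Groth.Agent.Lib.Helper4.Equi1
import Groth.Agent.Lib.Helper4.Equi2
import Groth.Agent.Lib.Helper4.Equi3
import Groth.Agent.Lib.Helper4.Equi4
import Groth.Agent.Lib.Helper4.Equi5
import Groth.Agent.Lib.Helper4.Equi6

/-!
# Quasi-finite dominant quasi-sections at equidimensional points (EGA IV 14.5.3-type) (helper4)
-/

set_option backward.isDefEq.respectTransparency.types false
set_option synthInstance.maxHeartbeats 400000
set_option autoImplicit false
set_option linter.unusedSectionVars false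
set_option linter.style.haveILetI false
set_option linter.unusedSimpArgs false
universe u v w
open CategoryTheory CategoryTheory.Limits AlgebraicGeometry TopologicalSpace IsLocalRing Opposite
open Cardinal
open Groth.Agent.Lib.Helper4.DimIneq1 Groth.Agent.Lib.Helper4.DimFT2 Groth.Agent.Lib.Helper4.Catenary1
open Groth.Agent.Lib.Helper4.DimEq1 Groth.Agent.Lib.Helper4.DimIneq2 Groth.Agent.Lib.Helper4.DimEq2
open Groth.Agent.Lib.Helper4.DimIneq3 Groth.Agent.Lib.Helper4.DimIneq4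
open Groth.Agent.Lib.Helper4.NormFibre2 Groth.Agent.Lib.Helper4.RadBir3 Groth.Agent.Lib.Helper4.DimFT3
open Groth.Agent.Lib.Helper4.FibDim1 Groth.Agent.Lib.Helper4.FibDim2 Groth.Agent.Lib.Helper4.LocUC1
open Groth.Agent.Lib.Helper4.FibDim3 Groth.Agent.Lib.Helper4.FibDim4 Groth.Agent.Lib.Helper4.FibDim5
open Groth.Agent.Lib.Helper4.FibDim6 Groth.Agent.Lib.Helper4.FibDim7 Groth.Agent.Lib.Helper4.JacDim1
open Groth.Agent.Lib.Helper4.DimFT1
open Groth.Agent.Lib.Helper4.Chev2 Groth.Agent.Lib.Helper4.Chev5 Groth.Agent.Lib.Helper4.Chev6 Groth.Agent.Lib.Helper4.Chev8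
open Groth.Agent.Lib.Helper4.JacDim4 Groth.Agent.Lib.Helper4.EffCartierDim1
open Groth.Agent.Lib.Helper4.Chev9 Groth.Agent.Lib.Helper4.Chev4
open Groth.Agent.Lib.Helper4.Chev10 Groth.Agent.Lib.Helper4.Chev11 Groth.Agent.Lib.Helper4.Chev3 Groth.Agent.Lib.Helper4.Equi1 Groth.Agent.Lib.Helper4.Equi2 Groth.Agent.Lib.Helper4.OpenAt1 Groth.Agent.Lib.Helper4.Equi3 Groth.Agent.Lib.Helper4.Equi4 Groth.Agent.Lib.Helper4.Equi5 Groth.Agent.Lib.Helper4.Equi6

namespace Groth.Agent.Lib.Helper4.Equi7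

theorem isReduced_vanishingIdeal_subscheme {X : Scheme.{u}} (Z : TopologicalSpace.Closeds X) :
    IsReduced (Scheme.IdealSheafData.vanishingIdeal Z).subscheme := by
  haveI : ∀ i, IsReduced ((Scheme.IdealSheafData.vanishingIdeal Z).subschemeCover.openCover.X i) := by
    intro U
    change IsReduced (Spec (.of (Γ(X, U.1) ⧸ (Scheme.IdealSheafData.vanishingIdeal Z).ideal U)))
    haveI : _root_.IsReduced (Γ(X, U.1) ⧸ (Scheme.IdealSheafData.vanishingIdeal Z).ideal U) := by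
      rw [← Ideal.isRadical_iff_quotient_reduced, Scheme.IdealSheafData.vanishingIdeal_ideal]
      exact PrimeSpectrum.isRadical_vanishingIdeal _
    infer_instance
  exact IsReduced.of_openCover _ (Scheme.IdealSheafData.vanishingIdeal Z).subschemeCover.openCover



theorem irreducibleSpace_vanishingIdeal_subscheme {X : Scheme.{u}} (Z : TopologicalSpace.Closeds X)
    (hZ : IsIrreducible (Z : Set X)) :
    IrreducibleSpace ↥(Scheme.IdealSheafData.vanishingIdeal Z).subscheme := by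
  have h : IsIrreducible ((Scheme.IdealSheafData.vanishingIdeal Z).support : Set X) := by
    rw [Scheme.IdealSheafData.coe_support_vanishingIdeal]
    exact hZ
  exact Subtype.irreducibleSpace h



section Base
variable {X Y : Scheme.{u}} (f : X ⟶ Y) [LocallyOfFiniteType f]

theorem exists_lqf_nhd [IsLocallyNoetherian Y] (x : X) (h0 : FlatMor.fibreDimAt f x = 0) :
    ∃ U : X.Opens, IsAffineOpen U ∧ x ∈ U ∧ LocallyQuasiFinite (U.ι ≫ f) := by
  obtain ⟨V, hV, hxV, -⟩ := exists_isAffineOpen_mem_and_subset (U := (⊤ : Y.Opens)) (x := f x)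
    trivial
  obtain ⟨d, hd, U, hU, e, hxU, ψ, hψft, hψqf⟩ := exists_quasiFinite_chart f x hV hxV
  have hd0 : d = 0 := by
    rw [h0] at hd
    exact_mod_cast hd.symm
  subst hd0
  refine ⟨U, hU, hxU, ?_⟩
  letI := (f.appLE V U e).hom.toAlgebra
  have hqf : (f.appLE V U e).hom.QuasiFinite := by
    have h1 : (f.appLE V U e).hom = ψ.toRingHom.comp (MvPolynomial.C) := by
      ext a
      exact (ψ.commutes a).symm
    rw [h1]
    apply RingHom.QuasiFinite.comp hψqf
    apply RingHom.QuasiFinite.of_finite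
    exact RingHom.Finite.of_surjective _ (MvPolynomial.C_surjective _)
  haveI : IsAffine (U : Scheme.{u}) := hU
  haveI : IsAffine (V : Scheme.{u}) := hV
  haveI : LocallyQuasiFinite (f.resLE V U e) := by
    rw [HasRingHomProperty.iff_of_isAffine (P := @LocallyQuasiFinite)]
    have h2 : (f.resLE V U e).appTop = V.topIso.hom ≫ f.appLE V U e ≫ U.topIso.inv :=
      Scheme.Hom.resLE_app_top ..
    rw [h2]
    simp only [CommRingCat.hom_comp]
    apply RingHom.QuasiFinite.comp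
    · apply RingHom.QuasiFinite.comp
      · exact RingHom.QuasiFinite.of_finite (RingHom.Finite.of_surjective _
          (ConcreteCategory.bijective_of_isIso U.topIso.inv).2)
      · exact hqf
    · exact RingHom.QuasiFinite.of_finite (RingHom.Finite.of_surjective _
          (ConcreteCategory.bijective_of_isIso V.topIso.hom).2)
  rw [← Scheme.Hom.resLE_comp_ι f e]
  infer_instance

end Base


theorem quasiCompact_of_noetherianSpace {T Y : Scheme.{u}} [NoetherianSpace ↥T] (g : T ⟶ Y) :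
    QuasiCompact g :=
  ⟨fun _ _ _ => NoetherianSpace.isCompact _⟩

section Base
variable {X Y : Scheme.{u}} (f : X ⟶ Y) [LocallyOfFiniteType f]

theorem base_case [IrreducibleSpace Y] [IsLocallyNoetherian Y] (x : X)
    (hf : EGA43.IsEquidimAt f x) (h0 : FlatMor.fibreDimAt f x = 0) :
    ∃ (T : Scheme.{u}) (i : T ⟶ X), IsImmersion i ∧ IrreducibleSpace ↥T ∧ IsReduced T ∧
      x ∈ Set.range i.base ∧
        LocallyOfFiniteType (i ≫ f) ∧ LocallyQuasiFinite (i ≫ f) ∧ QuasiCompact (i ≫ f) ∧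
        IsDominant (i ≫ f) := by
  obtain ⟨U, hU, hxU, hlqf⟩ := exists_lqf_nhd f x h0
  obtain ⟨e, U₀, hxU₀, H1, H2⟩ := isEquidimAt_facts f x hf
  let xU : ↥(U : Scheme.{u}) := ⟨x, hxU⟩
  obtain ⟨ξ, hξx, hξmax⟩ := exists_isMax_ge (U : Scheme.{u}) xU
  have hξsp : ξ ⤳ xU := hξx
  let Z : TopologicalSpace.Closeds ↥(U : Scheme.{u}) := ⟨closure {ξ}, isClosed_closure⟩
  have hZirr : IsIrreducible (Z : Set ↥(U : Scheme.{u})) := isIrreducible_singleton.closure
  haveI hTirr := irreducibleSpace_vanishingIdeal_subscheme Z hZirr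
  haveI hTred := isReduced_vanishingIdeal_subscheme Z
  have hr : Set.range (Scheme.IdealSheafData.vanishingIdeal Z).subschemeι = closure {ξ} := by
    rw [Scheme.IdealSheafData.range_subschemeι, Scheme.IdealSheafData.coe_support_vanishingIdeal]
    rfl
  refine ⟨(Scheme.IdealSheafData.vanishingIdeal Z).subscheme,
    (Scheme.IdealSheafData.vanishingIdeal Z).subschemeι ≫ U.ι, inferInstance, hTirr, hTred,
    ?_, ?_, ?_, ?_, ?_⟩
  · have hxZ : xU ∈ Set.range (Scheme.IdealSheafData.vanishingIdeal Z).subschemeι := by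
      rw [hr]
      exact hξsp.mem_closure
    obtain ⟨t, ht⟩ := hxZ
    refine ⟨t, ?_⟩
    rw [Scheme.Hom.comp_apply, ht]
    rfl
  · infer_instance
  · rw [Category.assoc]
    infer_instance
  · haveI : IsAffine (U : Scheme.{u}) := hU
    haveI : IsAffine (Scheme.IdealSheafData.vanishingIdeal Z).subscheme :=
      isAffine_of_isAffineHom (Scheme.IdealSheafData.vanishingIdeal Z).subschemeι
    haveI : IsLocallyNoetherian (Scheme.IdealSheafData.vanishingIdeal Z).subscheme :=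
      LocallyOfFiniteType.isLocallyNoetherian
        (((Scheme.IdealSheafData.vanishingIdeal Z).subschemeι ≫ U.ι) ≫ f)
    haveI : IsNoetherian (Scheme.IdealSheafData.vanishingIdeal Z).subscheme := {}
    exact quasiCompact_of_noetherianSpace _
  · constructor
    have hξZ : ξ ∈ Set.range (Scheme.IdealSheafData.vanishingIdeal Z).subschemeι := by
      rw [hr]
      exact subset_closure rfl
    obtain ⟨t, ht⟩ := hξZ
    have hξmaxX : ∀ ξ' : X, ξ' ⤳ ξ.1 → ξ' = ξ.1 := by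
      intro ξ' hsp
      have hξ'U : ξ' ∈ U := hsp.mem_open U.2 ξ.2
      let ξ'U : ↥(U : Scheme.{u}) := ⟨ξ', hξ'U⟩
      have h1 : ξ'U ⤳ ξ := by
        rw [← U.ι.isOpenEmbedding.isInducing.specializes_iff]
        exact hsp
      have h2 : ξ ⤳ ξ'U := hξmax h1
      exact congrArg Subtype.val (h1.antisymm h2).eq
    have hξU₀ : ξ.1 ∈ U₀ := by
      have h3 : U.ι ξ ⤳ U.ι xU := hξsp.map U.ι.continuous
      exact h3.mem_open U₀.2 hxU₀
    have hcomp := (H1 ξ.1 hξU₀ hξmaxX).1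
    rw [irreducibleComponents_eq_singleton, Set.mem_singleton_iff] at hcomp
    have hdense : Dense ({f ξ.1} : Set Y) := dense_iff_closure_eq.mpr hcomp
    apply hdense.mono
    rintro _ rfl
    refine ⟨t, ?_⟩
    rw [Scheme.Hom.comp_apply, Scheme.Hom.comp_apply, ht]
    rfl

end Base


section R
variable {X Y : Scheme.{u}} (f : X ⟶ Y) [LocallyOfFiniteType f]

theorem isEquidimAt_restrict [IsLocallyNoetherian Y] (x : X) (h : EGA43.IsEquidimAt f x)
    (U : X.Opens) (hxU : x ∈ U) :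
    EGA43.IsEquidimAt (U.ι ≫ f) (⟨x, hxU⟩ : ↥(U : Scheme.{u})) ∧
      FlatMor.fibreDimAt (U.ι ≫ f) (⟨x, hxU⟩ : ↥(U : Scheme.{u})) = FlatMor.fibreDimAt f x := by
  obtain ⟨e, U₀, hxU₀, H1, H2⟩ := isEquidimAt_facts f x h
  have hH1 : ∀ ξ : ↥(U : Scheme.{u}), ξ ∈ U.ι ⁻¹ᵁ U₀ →
      (∀ ξ' : ↥(U : Scheme.{u}), ξ' ⤳ ξ → ξ' = ξ) →
      closure ({(U.ι ≫ f) ξ} : Set Y) ∈ irreducibleComponents Y ∧
        (U.ι ≫ f) ξ ⤳ (U.ι ≫ f) (⟨x, hxU⟩ : ↥(U : Scheme.{u})) := by
    intro ξ hξ hmax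
    have hmaxX : ∀ ξ' : X, ξ' ⤳ ξ.1 → ξ' = ξ.1 := by
      intro ξ' hsp
      have hξ'U : ξ' ∈ U := hsp.mem_open U.2 ξ.2
      let ξ'U : ↥(U : Scheme.{u}) := ⟨ξ', hξ'U⟩
      have h1 : ξ'U ⤳ ξ := by
        rw [← U.ι.isOpenEmbedding.isInducing.specializes_iff]
        exact hsp
      exact congrArg Subtype.val (hmax _ h1)
    exact H1 ξ.1 hξ hmaxX
  have hH2 : ∀ z : ↥(U : Scheme.{u}), z ∈ U.ι ⁻¹ᵁ U₀ →
      (∀ z' : ↥(U : Scheme.{u}), (U.ι ≫ f) z' = (U.ι ≫ f) z → z' ⤳ z → z' = z) →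
      tr (U.ι ≫ f) z = e := by
    intro z hz hmax
    rw [tr_restrict]
    apply H2 z.1 hz
    intro z' hfz' hsp
    have hz'U : z' ∈ U := hsp.mem_open U.2 z.2
    let z'U : ↥(U : Scheme.{u}) := ⟨z', hz'U⟩
    have h1 : z'U ⤳ z := by
      rw [← U.ι.isOpenEmbedding.isInducing.specializes_iff]
      exact hsp
    exact congrArg Subtype.val (hmax z'U hfz' h1)
  refine ⟨isEquidimAt_of_facts (U.ι ≫ f) _ e (U.ι ⁻¹ᵁ U₀) hxU₀ hH1 hH2, ?_⟩
  rw [fibreDimAt_eq_of_facts (U.ι ≫ f) _ e (U.ι ⁻¹ᵁ U₀) hxU₀ hH2,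
    fibreDimAt_eq_of_facts f x e U₀ hxU₀ H2]

end R


theorem mem_basicOpen_topIso_inv_iff {X : Scheme.{u}} (U : X.Opens) (g : Γ(X, U))
    (z : ↥(U : Scheme.{u})) :
    z ∈ (U : Scheme.{u}).basicOpen (U.topIso.inv g) ↔ z.1 ∈ X.basicOpen g := by
  have h := Scheme.Opens.ι_image_basicOpen_topIso_inv U g
  constructor
  · intro hz
    rw [← h]
    exact Set.mem_image_of_mem _ hz
  · intro hz
    rw [← h] at hz
    obtain ⟨z', hz', hh⟩ := hz
    have : z' = z := U.ι.isOpenEmbedding.injective hh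
    rwa [← this]

theorem fibreDimAt_comp_eq_localDim' {X Y W : Scheme.{u}} (f : X ⟶ Y) [LocallyOfFiniteType f]
    (ι : W ⟶ X) [LocallyOfFiniteType ι] (hι : Topology.IsEmbedding ι) (X' : Set X)
    (hr : Set.range ι = X') (w : W) (x : X) (hx : ι w = x)
    (hmem : x ∈ X' ∩ f.base ⁻¹' {f.base x}) :
    FlatMor.fibreDimAt (ι ≫ f) w = FlatMor.localDim ↥(X' ∩ f.base ⁻¹' {f.base x}) ⟨x, hmem⟩ := by
  subst hx
  exact fibreDimAt_comp_eq_localDim f ι hι X' hr w hmem

section Step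
variable {Y : Scheme.{u}}

theorem not_max_of_pos {X : Scheme.{u}} (f : X ⟶ Y) [LocallyOfFiniteType f]
    [IsLocallyNoetherian Y] (x : X)
    (hcl : ∀ x' : X, f.base x' = f.base x → x ⤳ x' → x' = x) (n : ℕ)
    (hn : FlatMor.fibreDimAt f x = ((n + 1 : ℕ) : WithBot ℕ∞)) :
    ∃ x' : X, f.base x' = f.base x ∧ x' ≠ x ∧ x ∈ closure ({x'} : Set X) := by
  by_contra hcon
  push Not at hcon
  have hmax : ∀ z' : X, f z' = f x → z' ⤳ x → z' = x := by
    intro z' hz' hsp
    by_contra hne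
    exact hcon z' hz' hne hsp.mem_closure
  have h1 := (stalk_fiber_dim_eq_zero_iff f x).mpr ((isMax_fib_iff f x).mpr hmax)
  obtain ⟨x', hsp, hfx', htr0, -⟩ := exists_closed_pt f x
  have hx'x : x' = x := hcl x' hfx' hsp
  rw [hx'x] at htr0
  rw [fibreDimAt_eq f x, h1, htr0] at hn
  have h2 : ((0 : ℕ) : WithBot ℕ∞) = ((n + 1 : ℕ) : WithBot ℕ∞) := by
    rw [← hn]
    simp
  have h3 : (0 : ℕ) = n + 1 := by exact_mod_cast h2
  omega

theorem exists_section_aux [IrreducibleSpace Y] [IsLocallyNoetherian Y] (n : ℕ) :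
    ∀ {X : Scheme.{u}} (f : X ⟶ Y) [LocallyOfFiniteType f] (x : X), EGA43.IsEquidimAt f x →
      (∀ x' : X, f.base x' = f.base x → x ⤳ x' → x' = x) →
      FlatMor.fibreDimAt f x = (n : WithBot ℕ∞) →
      ∃ (T : Scheme.{u}) (i : T ⟶ X), IsImmersion i ∧ IrreducibleSpace ↥T ∧ IsReduced T ∧
        x ∈ Set.range i.base ∧
        LocallyOfFiniteType (i ≫ f) ∧ LocallyQuasiFinite (i ≫ f) ∧ QuasiCompact (i ≫ f) ∧
        IsDominant (i ≫ f) := by
  induction n with
  | zero =>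
    intro X f _ x hf hcl h0
    exact base_case f x hf (by simpa using h0)
  | succ n ih =>
    intro X f _ x hf hcl hn
    obtain ⟨U, hU, hxU, g, hgx, hgmax⟩ := S5924_main f x (not_max_of_pos f x hcl n hn)
    obtain ⟨hfU, hdimU⟩ := isEquidimAt_restrict f x hf U hxU
    have hgx' : (⟨x, hxU⟩ : ↥(U : Scheme.{u})) ∈
        (U : Scheme.{u}).zeroLocus ({U.topIso.inv g} : Set Γ((U : Scheme.{u}), ⊤)) := by
      rw [Scheme.zeroLocus_singleton]
      intro h
      exact hgx ((mem_basicOpen_topIso_inv_iff U g _).mp h)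
    have hmax' : ∀ z : ↥(U : Scheme.{u}),
        (U.ι ≫ f).base z = (U.ι ≫ f).base (⟨x, hxU⟩ : ↥(U : Scheme.{u})) →
        (∀ z' : ↥(U : Scheme.{u}),
          (U.ι ≫ f).base z' = (U.ι ≫ f).base (⟨x, hxU⟩ : ↥(U : Scheme.{u})) →
          z ∈ closure ({z'} : Set ↥(U : Scheme.{u})) → z' = z) →
        z ∉ (U : Scheme.{u}).zeroLocus ({U.topIso.inv g} : Set Γ((U : Scheme.{u}), ⊤)) := by
      intro z hfz hzmax
      rw [Scheme.zeroLocus_singleton, Set.mem_compl_iff, not_not]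
      apply (mem_basicOpen_topIso_inv_iff U g z).mpr
      apply hgmax z.1 hfz _ z.2
      intro z'' hfz'' hcl''
      have hsp : z'' ⤳ z.1 := specializes_iff_mem_closure.mpr hcl''
      have hz''U : z'' ∈ U := hsp.mem_open U.2 z.2
      let z''U : ↥(U : Scheme.{u}) := ⟨z'', hz''U⟩
      have h1 : z''U ⤳ z := by
        rw [← U.ι.isOpenEmbedding.isInducing.specializes_iff]
        exact hsp
      exact congrArg Subtype.val (hzmax z''U hfz'' h1.mem_closure)
    have hr : Set.range (Scheme.IdealSheafData.vanishingIdeal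
        ⟨(U : Scheme.{u}).zeroLocus ({U.topIso.inv g} : Set Γ((U : Scheme.{u}), ⊤)),
          (U : Scheme.{u}).zeroLocus_isClosed _⟩).subschemeι =
        (U : Scheme.{u}).zeroLocus ({U.topIso.inv g} : Set Γ((U : Scheme.{u}), ⊤)) := by
      rw [Scheme.IdealSheafData.range_subschemeι, Scheme.IdealSheafData.coe_support_vanishingIdeal]
      rfl
    obtain ⟨c1, c2, -⟩ := S5925_core (U.ι ≫ f) (Scheme.IdealSheafData.vanishingIdeal
        ⟨(U : Scheme.{u}).zeroLocus ({U.topIso.inv g} : Set Γ((U : Scheme.{u}), ⊤)),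
          (U : Scheme.{u}).zeroLocus_isClosed _⟩).subschemeι
        (⟨x, hxU⟩ : ↥(U : Scheme.{u})) hfU (U.topIso.inv g) hr hgx' hmax'
    have hxr : (⟨x, hxU⟩ : ↥(U : Scheme.{u})) ∈ Set.range (Scheme.IdealSheafData.vanishingIdeal
        ⟨(U : Scheme.{u}).zeroLocus ({U.topIso.inv g} : Set Γ((U : Scheme.{u}), ⊤)),
          (U : Scheme.{u}).zeroLocus_isClosed _⟩).subschemeι := by
      rw [hr]
      exact hgx'
    obtain ⟨w, hw⟩ := hxr
    have hdimw := fibreDimAt_comp_eq_localDim' (U.ι ≫ f) (Scheme.IdealSheafData.vanishingIdeal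
        ⟨(U : Scheme.{u}).zeroLocus ({U.topIso.inv g} : Set Γ((U : Scheme.{u}), ⊤)),
          (U : Scheme.{u}).zeroLocus_isClosed _⟩).subschemeι
        (Scheme.Hom.isEmbedding _) _ hr w _ hw ⟨hgx', rfl⟩
    have hdimn : FlatMor.fibreDimAt ((Scheme.IdealSheafData.vanishingIdeal
        ⟨(U : Scheme.{u}).zeroLocus ({U.topIso.inv g} : Set Γ((U : Scheme.{u}), ⊤)),
          (U : Scheme.{u}).zeroLocus_isClosed _⟩).subschemeι ≫ (U.ι ≫ f)) w =
        (n : WithBot ℕ∞) := by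
      apply add_natCast_cancel _ _ 1
      rw [hdimw]
      have : ((1 : ℕ) : WithBot ℕ∞) = 1 := rfl
      rw [this, c2, hdimU, hn]
      push_cast
      rfl
    have hclw : ∀ w' : ↥(Scheme.IdealSheafData.vanishingIdeal
        ⟨(U : Scheme.{u}).zeroLocus ({U.topIso.inv g} : Set Γ((U : Scheme.{u}), ⊤)),
          (U : Scheme.{u}).zeroLocus_isClosed _⟩).subscheme,
        ((Scheme.IdealSheafData.vanishingIdeal
        ⟨(U : Scheme.{u}).zeroLocus ({U.topIso.inv g} : Set Γ((U : Scheme.{u}), ⊤)),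
          (U : Scheme.{u}).zeroLocus_isClosed _⟩).subschemeι ≫ (U.ι ≫ f)).base w' =
        ((Scheme.IdealSheafData.vanishingIdeal
        ⟨(U : Scheme.{u}).zeroLocus ({U.topIso.inv g} : Set Γ((U : Scheme.{u}), ⊤)),
          (U : Scheme.{u}).zeroLocus_isClosed _⟩).subschemeι ≫ (U.ι ≫ f)).base w →
        w ⤳ w' → w' = w := by
      intro w' hfw' hsp
      have h1 := (hsp.map (Scheme.IdealSheafData.vanishingIdeal
        ⟨(U : Scheme.{u}).zeroLocus ({U.topIso.inv g} : Set Γ((U : Scheme.{u}), ⊤)),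
          (U : Scheme.{u}).zeroLocus_isClosed _⟩).subschemeι.continuous).map U.ι.continuous
      rw [hw] at h1
      have h2 := hcl _ (by
        have := hfw'
        simp only [Scheme.Hom.comp_apply] at this
        rw [hw] at this
        exact this) h1
      apply (Scheme.Hom.isEmbedding (Scheme.IdealSheafData.vanishingIdeal
        ⟨(U : Scheme.{u}).zeroLocus ({U.topIso.inv g} : Set Γ((U : Scheme.{u}), ⊤)),
          (U : Scheme.{u}).zeroLocus_isClosed _⟩).subschemeι).injective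
      rw [hw]
      exact Subtype.ext h2
    obtain ⟨T, i, hi1, hi2, hi3, hi4, hi5, hi6, hi7, hi8⟩ :=
      ih ((Scheme.IdealSheafData.vanishingIdeal
        ⟨(U : Scheme.{u}).zeroLocus ({U.topIso.inv g} : Set Γ((U : Scheme.{u}), ⊤)),
          (U : Scheme.{u}).zeroLocus_isClosed _⟩).subschemeι ≫ (U.ι ≫ f)) w (c1 w hw) hclw hdimn
    have e : (i ≫ (Scheme.IdealSheafData.vanishingIdeal
        ⟨(U : Scheme.{u}).zeroLocus ({U.topIso.inv g} : Set Γ((U : Scheme.{u}), ⊤)),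
          (U : Scheme.{u}).zeroLocus_isClosed _⟩).subschemeι ≫ U.ι) ≫ f =
        i ≫ ((Scheme.IdealSheafData.vanishingIdeal
        ⟨(U : Scheme.{u}).zeroLocus ({U.topIso.inv g} : Set Γ((U : Scheme.{u}), ⊤)),
          (U : Scheme.{u}).zeroLocus_isClosed _⟩).subschemeι ≫ (U.ι ≫ f)) := by
      simp only [Category.assoc]
    refine ⟨T, i ≫ (Scheme.IdealSheafData.vanishingIdeal
        ⟨(U : Scheme.{u}).zeroLocus ({U.topIso.inv g} : Set Γ((U : Scheme.{u}), ⊤)),
          (U : Scheme.{u}).zeroLocus_isClosed _⟩).subschemeι ≫ U.ι, inferInstance, hi2, hi3,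
        ?_, ?_, ?_, ?_, ?_⟩
    · obtain ⟨t, ht⟩ := hi4
      refine ⟨t, ?_⟩
      rw [Scheme.Hom.comp_apply, Scheme.Hom.comp_apply, ht, hw]
      rfl
    · rw [e]; exact hi5
    · rw [e]; exact hi6
    · rw [e]; exact hi7
    · rw [e]; exact hi8

end Step


theorem S4944_main {X Y : Scheme.{u}} [IrreducibleSpace Y]
    [IsLocallyNoetherian Y] (f : X ⟶ Y) [LocallyOfFiniteType f] (x : X) (hf : EGA43.IsEquidimAt f x)
    (hcl : ∀ x' : X, f.base x' = f.base x → x ⤳ x' → x' = x) :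
    ∃ (T : Scheme.{u}) (i : T ⟶ X), IsImmersion i ∧ IrreducibleSpace ↥T ∧ IsReduced T ∧ x ∈ Set.range i.base ∧
        LocallyOfFiniteType (i ≫ f) ∧ LocallyQuasiFinite (i ≫ f) ∧ QuasiCompact (i ≫ f) ∧ IsDominant (i ≫ f) := by
  obtain ⟨e, U, hxU, H1, H2⟩ := isEquidimAt_facts f x hf
  exact exists_section_aux e f x hf hcl (fibreDimAt_eq_of_facts f x e U hxU H2)


end Groth.Agent.Lib.Helper4.Equi7
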