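import Mathlib
import Groth.Prelude.Def_Cyc
import Groth.Agent.Lib.Helper4.JacDim1
import Groth.Prelude.Def_EGA43
import Groth.Agent.Lib.Helper4.FibreStalkDim1
import Groth.Agent.Lib.Helper4.DimFT1
import Groth.Agent.Lib.Helper4.DimFT2
import Groth.Agent.Lib.Helper4.Chev8
import Groth.Agent.Lib.Helper4.FibDim7
import Groth.Agent.Lib.Helper4.EffCartierDim1
import Groth.Agent.Lib.Helper4.JacDim4
import Groth.Agent.Lib.Helper4.Chev9
import Groth.Agent.Lib.Helper4.Chev10
import Groth.Agent.Lib.Helper4.Chev11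
import Groth.Agent.Lib.Helper4.Equi1
import Groth.Agent.Lib.Helper4.Equi2
import Groth.Agent.Lib.Helper4.Equi3
import Groth.Agent.Lib.Helper4.Equi4
import Groth.Agent.Lib.Helper4.Equi5
import Groth.Agent.Lib.Helper4.Equi6
import Groth.Agent.Lib.Helper4.Equi7

/-!
# Quasi-finite charts to affine space over the base (helper4)
-/

set_option backward.isDefEq.respectTransparency.types false
set_option synthInstance.maxHeartbeats 400000
set_option autoImplicit false
set_option linter.unusedSectionVars false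
set_option linter.style.haveILetI false
set_option linter.unusedSimpArgs false
universe u v w
open CategoryTheory CategoryTheory.Limits AlgebraicGeometry TopologicalSpace IsLocalRing Opposite
open Cardinal AffineSpace MvPolynomial
open Groth.Agent.Lib.Helper4.DimIneq1 Groth.Agent.Lib.Helper4.DimFT2 Groth.Agent.Lib.Helper4.Catenary1
open Groth.Agent.Lib.Helper4.DimEq1 Groth.Agent.Lib.Helper4.DimIneq2 Groth.Agent.Lib.Helper4.DimEq2
open Groth.Agent.Lib.Helper4.DimIneq3 Groth.Agent.Lib.Helper4.DimIneq4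
open Groth.Agent.Lib.Helper4.NormFibre2 Groth.Agent.Lib.Helper4.RadBir3 Groth.Agent.Lib.Helper4.DimFT3
open Groth.Agent.Lib.Helper4.FibDim1 Groth.Agent.Lib.Helper4.FibDim2 Groth.Agent.Lib.Helper4.LocUC1
open Groth.Agent.Lib.Helper4.FibDim3 Groth.Agent.Lib.Helper4.FibDim4 Groth.Agent.Lib.Helper4.FibDim5
open Groth.Agent.Lib.Helper4.FibDim6 Groth.Agent.Lib.Helper4.FibDim7 Groth.Agent.Lib.Helper4.JacDim1
open Groth.Agent.Lib.Helper4.DimFT1
open Groth.Agent.Lib.Helper4.Chev2 Groth.Agent.Lib.Helper4.Chev5 Groth.Agent.Lib.Helper4.Chev6 Groth.Agent.Lib.Helper4.Chev8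
open Groth.Agent.Lib.Helper4.JacDim4 Groth.Agent.Lib.Helper4.EffCartierDim1
open Groth.Agent.Lib.Helper4.Chev9 Groth.Agent.Lib.Helper4.Chev4
open Groth.Agent.Lib.Helper4.Chev10 Groth.Agent.Lib.Helper4.Chev11 Groth.Agent.Lib.Helper4.Chev3 Groth.Agent.Lib.Helper4.Equi1 Groth.Agent.Lib.Helper4.Equi2 Groth.Agent.Lib.Helper4.OpenAt1 Groth.Agent.Lib.Helper4.Equi3 Groth.Agent.Lib.Helper4.Equi4 Groth.Agent.Lib.Helper4.Equi5 Groth.Agent.Lib.Helper4.Equi6 Groth.Agent.Lib.Helper4.Equi7

namespace Groth.Agent.Lib.Helper4.Aff1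

section L1

/-- the natural map from the polynomial ring to the global sections of affine space -/
noncomputable def theta (n : Type u) (S : Scheme.{u}) : MvPolynomial n Γ(S, ⊤) →+* Γ(𝔸(n; S), ⊤) :=
  eval₂Hom ((𝔸(n; S) ↘ S).appTop).hom (coord S)

theorem homOfVector_appTop_comp_theta {n : Type u} {S U : Scheme.{u}} (h : U ⟶ S)
    (v : n → Γ(U, ⊤)) :
    ((homOfVector h v).appTop).hom.comp (theta n S) = eval₂Hom h.appTop.hom v := by
  apply MvPolynomial.ringHom_ext
  · intro a
    simp only [theta, RingHom.comp_apply, coe_eval₂Hom, eval₂_C]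
    rw [← CommRingCat.comp_apply, ← Scheme.Hom.comp_appTop, homOfVector_over]
  · intro i
    simp only [theta, RingHom.comp_apply, coe_eval₂Hom, eval₂_X]
    exact homOfVector_appTop_coord h v i

theorem locallyQuasiFinite_homOfVector {n : Type u} {S U : Scheme.{u}} [IsAffine S] [IsAffine U]
    (h : U ⟶ S) (v : n → Γ(U, ⊤))
    (hqf : (eval₂Hom h.appTop.hom v : MvPolynomial n Γ(S, ⊤) →+* Γ(U, ⊤)).QuasiFinite) :
    LocallyQuasiFinite (homOfVector h v) := by
  rw [HasRingHomProperty.iff_of_isAffine (P := @LocallyQuasiFinite)]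
  rw [← homOfVector_appTop_comp_theta h v] at hqf
  exact RingHom.QuasiFinite.of_comp hqf

end L1


/-- transport of coefficients along a surjection and of variables along `ULift.down` -/
theorem surjective_eval₂Hom_ulift {A' A : Type u} [CommRing A'] [CommRing A] (α : A' →+* A)
    (hα : Function.Surjective α) (d : ℕ) :
    Function.Surjective (eval₂Hom ((C : A →+* MvPolynomial (Fin d) A).comp α)
      (fun i : ULift.{u} (Fin d) => (X i.down : MvPolynomial (Fin d) A))) := by
  intro p
  induction p using MvPolynomial.induction_on with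
  | C a =>
    obtain ⟨a', rfl⟩ := hα a
    exact ⟨C a', by simp⟩
  | add p q hp hq =>
    obtain ⟨p', rfl⟩ := hp
    obtain ⟨q', rfl⟩ := hq
    exact ⟨p' + q', map_add _ _ _⟩
  | mul_X p j hp =>
    obtain ⟨p', rfl⟩ := hp
    exact ⟨p' * X ⟨j⟩, by simp⟩

theorem S7625_main {X S : Scheme.{u}} (f : X ⟶ S) [LocallyOfFiniteType f] (x : ↥X)
    (V : S.Opens) (hV : IsAffineOpen V) (hxV : f x ∈ V) (d : ℕ) (hd : FlatMor.fibreDimAt f x = d) :
    ∃ (U : X.Opens), IsAffineOpen U ∧ x ∈ U ∧
      ∃ (g : (U : Scheme.{u}) ⟶ (V : Scheme.{u})) (π : (U : Scheme.{u}) ⟶ 𝔸(ULift.{u} (Fin d); (V : Scheme.{u}))),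
        g ≫ V.ι = U.ι ≫ f ∧ π ≫ (𝔸(ULift.{u} (Fin d); (V : Scheme.{u})) ↘ (V : Scheme.{u})) = g ∧
          LocallyQuasiFinite π ∧ LocallyOfFiniteType π := by
  obtain ⟨d', hd', U, hU, e, hxU, ψ, hψft, hψqf⟩ := exists_quasiFinite_chart f x hV hxV
  have hdd : d' = d := by
    rw [hd] at hd'
    exact_mod_cast hd'.symm
  subst hdd
  haveI : IsAffine (U : Scheme.{u}) := hU
  haveI : IsAffine (V : Scheme.{u}) := hV
  letI := (f.appLE V U e).hom.toAlgebra
  have hqf : LocallyQuasiFinite (homOfVector (f.resLE V U e)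
      (fun i : ULift.{u} (Fin d') => U.topIso.inv (ψ (MvPolynomial.X i.down)))) := by
    apply locallyQuasiFinite_homOfVector
    have h2 : (f.resLE V U e).appTop = V.topIso.hom ≫ f.appLE V U e ≫ U.topIso.inv :=
      Scheme.Hom.resLE_app_top ..
    have hfac : (eval₂Hom (f.resLE V U e).appTop.hom
        (fun i : ULift.{u} (Fin d') => U.topIso.inv (ψ (MvPolynomial.X i.down))) :
          MvPolynomial (ULift.{u} (Fin d')) Γ((V : Scheme.{u}), ⊤) →+* Γ((U : Scheme.{u}), ⊤)) =
        (U.topIso.inv.hom.comp ψ.toRingHom).comp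
          (eval₂Hom ((C : Γ(S, V) →+* MvPolynomial (Fin d') Γ(S, V)).comp V.topIso.hom.hom)
            (fun i : ULift.{u} (Fin d') => (MvPolynomial.X i.down : MvPolynomial (Fin d') Γ(S, V)))) := by
      apply MvPolynomial.ringHom_ext
      · intro a
        simp only [RingHom.comp_apply, coe_eval₂Hom, eval₂_C]
        rw [h2]
        simp only [CommRingCat.hom_comp, RingHom.comp_apply]
        congr 1
        exact (ψ.commutes _).symm
      · intro i
        simp only [RingHom.comp_apply, coe_eval₂Hom, eval₂_X]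
        rfl
    rw [hfac]
    apply RingHom.QuasiFinite.comp
    · apply RingHom.QuasiFinite.comp _ hψqf
      exact RingHom.QuasiFinite.of_finite (RingHom.Finite.of_surjective _
          (ConcreteCategory.bijective_of_isIso U.topIso.inv).2)
    · apply RingHom.QuasiFinite.of_finite
      apply RingHom.Finite.of_surjective
      exact surjective_eval₂Hom_ulift _ (ConcreteCategory.bijective_of_isIso V.topIso.hom).2 d'
  refine ⟨U, hU, hxU, f.resLE V U e, homOfVector (f.resLE V U e)
      (fun i : ULift.{u} (Fin d') => U.topIso.inv (ψ (MvPolynomial.X i.down))),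
      Scheme.Hom.resLE_comp_ι f e, homOfVector_over _ _, hqf, ?_⟩
  haveI : LocallyOfFiniteType (f.resLE V U e) := inferInstance
  haveI : LocallyOfFiniteType (homOfVector (f.resLE V U e)
      (fun i : ULift.{u} (Fin d') => U.topIso.inv (ψ (MvPolynomial.X i.down))) ≫
        (𝔸(ULift.{u} (Fin d'); (V : Scheme.{u})) ↘ (V : Scheme.{u}))) := by
    rw [homOfVector_over]
    infer_instance
  exact locallyOfFiniteType_of_comp _ (𝔸(ULift.{u} (Fin d'); (V : Scheme.{u})) ↘ (V : Scheme.{u}))


end Groth.Agent.Lib.Helper4.Aff1
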