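import Mathlib
import Groth.Prelude.Def_Cyc
import Groth.Agent.Lib.Helper4.JacDim1
import Groth.Prelude.Def_EGA43
import Groth.Agent.Lib.Helper4.FibreStalkDim1
import Groth.Agent.Lib.Helper4.DimFT1
import Groth.Agent.Lib.Helper4.DimFT2
import Groth.Agent.Lib.Helper4.Chev8
import Groth.Agent.Lib.Helper4.FibDim7
import Groth.Agent.Lib.Helper4.EffCartierDim1
import Groth.Agent.Lib.Helper4.JacDim4
import Groth.Agent.Lib.Helper4.Chev9
import Groth.Agent.Lib.Helper4.Chev10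
import Groth.Agent.Lib.Helper4.Chev11
import Groth.Agent.Lib.Helper4.Equi1
import Groth.Agent.Lib.Helper4.Equi2
import Groth.Agent.Lib.Helper4.Equi3
import Groth.Agent.Lib.Helper4.Equi4
import Groth.Agent.Lib.Helper4.Equi5
import Groth.Agent.Lib.Helper4.Equi6
import Groth.Agent.Lib.Helper4.Equi7
import Groth.Agent.Lib.Helper4.Aff1

/-!
# Equidimensional morphisms and quasi-finite maps to affine space (EGA IV 13.3.1) (helper4)
-/

set_option backward.isDefEq.respectTransparency.types false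
set_option synthInstance.maxHeartbeats 400000
set_option autoImplicit false
set_option linter.unusedSectionVars false
set_option linter.style.haveILetI false
set_option linter.unusedSimpArgs false
universe u v w
open CategoryTheory CategoryTheory.Limits AlgebraicGeometry TopologicalSpace IsLocalRing Opposite
open Cardinal AffineSpace MvPolynomial
open Groth.Agent.Lib.Helper4.DimIneq1 Groth.Agent.Lib.Helper4.DimFT2 Groth.Agent.Lib.Helper4.Catenary1
open Groth.Agent.Lib.Helper4.DimEq1 Groth.Agent.Lib.Helper4.DimIneq2 Groth.Agent.Lib.Helper4.DimEq2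
open Groth.Agent.Lib.Helper4.DimIneq3 Groth.Agent.Lib.Helper4.DimIneq4
open Groth.Agent.Lib.Helper4.NormFibre2 Groth.Agent.Lib.Helper4.RadBir3 Groth.Agent.Lib.Helper4.DimFT3
open Groth.Agent.Lib.Helper4.FibDim1 Groth.Agent.Lib.Helper4.FibDim2 Groth.Agent.Lib.Helper4.LocUC1
open Groth.Agent.Lib.Helper4.FibDim3 Groth.Agent.Lib.Helper4.FibDim4 Groth.Agent.Lib.Helper4.FibDim5
open Groth.Agent.Lib.Helper4.FibDim6 Groth.Agent.Lib.Helper4.FibDim7 Groth.Agent.Lib.Helper4.JacDim1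
open Groth.Agent.Lib.Helper4.DimFT1
open Groth.Agent.Lib.Helper4.Chev2 Groth.Agent.Lib.Helper4.Chev5 Groth.Agent.Lib.Helper4.Chev6 Groth.Agent.Lib.Helper4.Chev8
open Groth.Agent.Lib.Helper4.JacDim4 Groth.Agent.Lib.Helper4.EffCartierDim1
open Groth.Agent.Lib.Helper4.Chev9 Groth.Agent.Lib.Helper4.Chev4
open Groth.Agent.Lib.Helper4.Chev10 Groth.Agent.Lib.Helper4.Chev11 Groth.Agent.Lib.Helper4.Chev3 Groth.Agent.Lib.Helper4.Equi1 Groth.Agent.Lib.Helper4.Equi2 Groth.Agent.Lib.Helper4.OpenAt1 Groth.Agent.Lib.Helper4.Equi3 Groth.Agent.Lib.Helper4.Equi4 Groth.Agent.Lib.Helper4.Equi5 Groth.Agent.Lib.Helper4.Equi6 Groth.Agent.Lib.Helper4.Equi7 Groth.Agent.Lib.Helper4.Aff1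

namespace Groth.Agent.Lib.Helper4.Aff2

theorem theta_bijective (n : Type u) (S : Scheme.{u}) [IsAffine S] :
    Function.Bijective (theta n S) := by
  have h1 := isoOfIsAffine_hom_appTop (n := n) (S := S)
  have h2 : IsIso ((Scheme.ΓSpecIso (.of (MvPolynomial n Γ(S, ⊤)))).hom ≫ CommRingCat.ofHom
        (eval₂Hom ((𝔸(n; S) ↘ S).appTop).hom (coord S))) := by
    rw [← h1]
    change IsIso ((isoOfIsAffine n S).hom.app ⊤)
    infer_instance
  have h3 : IsIso (CommRingCat.ofHom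
        (eval₂Hom ((𝔸(n; S) ↘ S).appTop).hom (coord S))) :=
    IsIso.of_isIso_comp_left (Scheme.ΓSpecIso (.of (MvPolynomial n Γ(S, ⊤)))).hom _
  exact ConcreteCategory.bijective_of_isIso (CommRingCat.ofHom
        (eval₂Hom ((𝔸(n; S) ↘ S).appTop).hom (coord S)))



section RingQ

theorem isPrime_map_C_mv {σ : Type*} {R : Type*} [CommRing R] (P : Ideal R) [P.IsPrime] :
    (P.map (C : R →+* MvPolynomial σ R)).IsPrime := by
  rw [← Ideal.Quotient.isDomain_iff_prime]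
  haveI : IsDomain (R ⧸ P) := Ideal.Quotient.isDomain P
  exact (MvPolynomial.quotientEquivQuotientMvPolynomial (σ := σ) P).symm.toMulEquiv.isDomain
    (MvPolynomial σ (R ⧸ P))

variable {A B : Type u} [CommRing A] [CommRing B] [Algebra A B] {n : Type u}
  (c : n → B)

/-- the comparison map `(A/𝔭)[n] → B/𝔮` -/
noncomputable def quotAeval (𝔭 : Ideal A) (𝔮 : Ideal B) [𝔮.LiesOver 𝔭] :
    MvPolynomial n (A ⧸ 𝔭) →ₐ[A ⧸ 𝔭] (B ⧸ 𝔮) :=
  aeval (fun i => Ideal.Quotient.mk 𝔮 (c i))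

theorem quotAeval_map (𝔭 : Ideal A) (𝔮 : Ideal B) [𝔮.LiesOver 𝔭] (p : MvPolynomial n A) :
    quotAeval c 𝔭 𝔮 (MvPolynomial.map (Ideal.Quotient.mk 𝔭) p) =
      Ideal.Quotient.mk 𝔮 (eval₂Hom (algebraMap A B) c p) := by
  have h : (quotAeval c 𝔭 𝔮).toRingHom.comp (MvPolynomial.map (Ideal.Quotient.mk 𝔭)) =
      (Ideal.Quotient.mk 𝔮).comp (eval₂Hom (algebraMap A B) c) := by
    apply MvPolynomial.ringHom_ext
    · intro a
      simp only [quotAeval, RingHom.comp_apply, MvPolynomial.map_C, coe_eval₂Hom, eval₂_C,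
        AlgHom.toRingHom_eq_coe, RingHom.coe_coe, aeval_C]
      rw [Ideal.Quotient.algebraMap_mk_of_liesOver]
    · intro i
      simp [quotAeval]
  exact congrArg (fun φ => φ p) h

theorem quotAeval_surjective (hsurj : Function.Surjective (eval₂Hom (algebraMap A B) c))
    (𝔭 : Ideal A) (𝔮 : Ideal B) [𝔮.LiesOver 𝔭] :
    Function.Surjective (quotAeval c 𝔭 𝔮) := by
  intro b
  obtain ⟨b, rfl⟩ := Ideal.Quotient.mk_surjective b
  obtain ⟨p, rfl⟩ := hsurj b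
  exact ⟨_, quotAeval_map c 𝔭 𝔮 p⟩

theorem trdeg_quot_le (hsurj : Function.Surjective (eval₂Hom (algebraMap A B) c))
    (𝔭 : Ideal A) [𝔭.IsPrime] (𝔮 : Ideal B) [𝔮.LiesOver 𝔭] :
    Algebra.trdeg (A ⧸ 𝔭) (B ⧸ 𝔮) ≤ #n := by
  haveI : IsDomain (A ⧸ 𝔭) := Ideal.Quotient.isDomain 𝔭
  have h := _root_.trdeg_le_of_surjective (quotAeval c 𝔭 𝔮) (quotAeval_surjective c hsurj 𝔭 𝔮)
  rw [MvPolynomial.trdeg_of_isDomain, Cardinal.lift_id] at h
  exact h

theorem map_algebraMap_eq (𝔭 : Ideal A) :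
    𝔭.map (algebraMap A B) =
      (𝔭.map (C : A →+* MvPolynomial n A)).map (eval₂Hom (algebraMap A B) c) := by
  rw [Ideal.map_map]
  congr 1
  ext a
  simp

theorem mem_map_C_of_mem (hbij : Function.Bijective (eval₂Hom (algebraMap A B) c))
    (𝔭 : Ideal A) (p : MvPolynomial n A)
    (hp : eval₂Hom (algebraMap A B) c p ∈ 𝔭.map (algebraMap A B)) :
    p ∈ 𝔭.map (C : A →+* MvPolynomial n A) := by
  rw [map_algebraMap_eq c 𝔭, Ideal.mem_map_iff_of_surjective _ hbij.2] at hp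
  obtain ⟨p', hp', h⟩ := hp
  rwa [← hbij.1 h]

theorem quotAeval_injective (hbij : Function.Bijective (eval₂Hom (algebraMap A B) c))
    (𝔭 : Ideal A) (𝔮 : Ideal B) [𝔮.LiesOver 𝔭] (h𝔮 : 𝔮 = 𝔭.map (algebraMap A B)) :
    Function.Injective (quotAeval c 𝔭 𝔮) := by
  rw [injective_iff_map_eq_zero]
  intro P hP
  obtain ⟨p, rfl⟩ := MvPolynomial.map_surjective (Ideal.Quotient.mk 𝔭) Ideal.Quotient.mk_surjective P
  rw [quotAeval_map, Ideal.Quotient.eq_zero_iff_mem, h𝔮] at hP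
  have h1 := mem_map_C_of_mem c hbij 𝔭 p hP
  have h2 : p ∈ RingHom.ker (MvPolynomial.map (Ideal.Quotient.mk 𝔭) :
      MvPolynomial n A →+* MvPolynomial n (A ⧸ 𝔭)) := by
    rw [MvPolynomial.ker_map, Ideal.mk_ker]
    exact h1
  exact h2

theorem trdeg_quot_eq (hbij : Function.Bijective (eval₂Hom (algebraMap A B) c))
    (𝔭 : Ideal A) [𝔭.IsPrime] (𝔮 : Ideal B) [𝔮.LiesOver 𝔭] (h𝔮 : 𝔮 = 𝔭.map (algebraMap A B)) :
    Algebra.trdeg (A ⧸ 𝔭) (B ⧸ 𝔮) = #n := by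
  haveI : IsDomain (A ⧸ 𝔭) := Ideal.Quotient.isDomain 𝔭
  apply le_antisymm (trdeg_quot_le c hbij.2 𝔭 𝔮)
  have h := _root_.trdeg_le_of_injective (quotAeval c 𝔭 𝔮) (quotAeval_injective c hbij 𝔭 𝔮 h𝔮)
  rw [MvPolynomial.trdeg_of_isDomain, Cardinal.lift_id] at h
  exact h

theorem isPrime_map_algebraMap (hbij : Function.Bijective (eval₂Hom (algebraMap A B) c))
    (𝔭 : Ideal A) [𝔭.IsPrime] : (𝔭.map (algebraMap A B)).IsPrime := by
  rw [map_algebraMap_eq c 𝔭]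
  haveI := isPrime_map_C_mv (σ := n) 𝔭
  apply Ideal.map_isPrime_of_surjective hbij.2
  intro p hp
  rw [RingHom.mem_ker] at hp
  have : p = 0 := hbij.1 (by rw [hp, map_zero])
  rw [this]
  exact Ideal.zero_mem _

theorem comap_map_algebraMap (hbij : Function.Bijective (eval₂Hom (algebraMap A B) c))
    (𝔭 : Ideal A) : (𝔭.map (algebraMap A B)).comap (algebraMap A B) = 𝔭 := by
  apply le_antisymm
  · intro a ha
    rw [Ideal.mem_comap] at ha
    have h1 : eval₂Hom (algebraMap A B) c (C a) ∈ 𝔭.map (algebraMap A B) := by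
      simpa using ha
    have h2 := mem_map_C_of_mem c hbij 𝔭 (C a) h1
    rw [MvPolynomial.mem_map_C_iff] at h2
    have := h2 0
    simpa using this
  · exact Ideal.le_comap_map

end RingQ


section RingQax
variable {A B : Type u} [CommRing A] [CommRing B] [Algebra A B] {n : Type u}
  (c : n → B)

end RingQax

section AffBase
variable (n : Type u) [Finite n] (S : Scheme.{u}) [IsAffine S]

theorem tr_affineSpace_affine (ζ : 𝔸(n; S)) :
    (tr (𝔸(n; S) ↘ S) ζ : Cardinal.{u}) ≤ #n ∧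
      ((∀ ζ' : 𝔸(n; S), (𝔸(n; S) ↘ S) ζ' = (𝔸(n; S) ↘ S) ζ → ζ' ⤳ ζ → ζ' = ζ) →
        (tr (𝔸(n; S) ↘ S) ζ : Cardinal.{u}) = #n) := by
  have hV : IsAffineOpen (⊤ : S.Opens) := isAffineOpen_top S
  have hU : IsAffineOpen (⊤ : 𝔸(n; S).Opens) := isAffineOpen_top _
  have e₀ : (⊤ : 𝔸(n; S).Opens) ≤ (𝔸(n; S) ↘ S) ⁻¹ᵁ ⊤ := le_of_eq rfl
  letI alg : Algebra Γ(S, ⊤) Γ(𝔸(n; S), ⊤) := ((𝔸(n; S) ↘ S).appLE ⊤ ⊤ e₀).hom.toAlgebra
  have halg : algebraMap Γ(S, ⊤) Γ(𝔸(n; S), ⊤) = ((𝔸(n; S) ↘ S).appLE ⊤ ⊤ e₀).hom := rfl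
  have happ : ((𝔸(n; S) ↘ S).appLE ⊤ ⊤ e₀) = (𝔸(n; S) ↘ S).appTop := by
    simp [Scheme.Hom.appLE]
  have hθ : (eval₂Hom (algebraMap Γ(S, ⊤) Γ(𝔸(n; S), ⊤)) (coord S) :
      MvPolynomial n Γ(S, ⊤) →+* Γ(𝔸(n; S), ⊤)) = theta n S := by
    rw [halg, happ]
    rfl
  have hbij : Function.Bijective (eval₂Hom (algebraMap Γ(S, ⊤) Γ(𝔸(n; S), ⊤)) (coord S) :
      MvPolynomial n Γ(S, ⊤) →+* Γ(𝔸(n; S), ⊤)) := by
    rw [hθ]
    exact theta_bijective n S
  have hζU : ζ ∈ (⊤ : 𝔸(n; S).Opens) := trivial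
  haveI hlo := liesOver_chart (𝔸(n; S) ↘ S) hV hU e₀ ζ hζU halg
  have htr := tr_chart (𝔸(n; S) ↘ S) hV hU e₀ ζ hζU halg
  constructor
  · rw [← htr]
    exact trdeg_quot_le (coord S) hbij.2 _ _
  · intro hmax
    rw [← htr]
    apply trdeg_quot_eq (coord S) hbij
    -- the prime of ζ is the extension of the prime of its image
    haveI hP := isPrime_map_algebraMap (coord S) hbij
      (hV.primeIdealOf ⟨(𝔸(n; S) ↘ S) ζ, e₀ hζU⟩).asIdeal
    let ζ' : 𝔸(n; S) := hU.fromSpec ⟨_, hP⟩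
    have hζ'U : ζ' ∈ (⊤ : 𝔸(n; S).Opens) := trivial
    have hprime' : hU.primeIdealOf ⟨ζ', hζ'U⟩ = ⟨_, hP⟩ := primeIdealOf_fromSpec hU _
    have hle : (hV.primeIdealOf ⟨(𝔸(n; S) ↘ S) ζ, e₀ hζU⟩).asIdeal.map
        (algebraMap Γ(S, ⊤) Γ(𝔸(n; S), ⊤)) ≤ (hU.primeIdealOf ⟨ζ, hζU⟩).asIdeal := by
      rw [Ideal.map_le_iff_le_comap]
      exact le_of_eq hlo.over
    have hsp : ζ' ⤳ ζ := by
      have := (specializes_iff_primeIdealOf_le hU ⟨ζ', hζ'U⟩ ⟨ζ, hζU⟩).mpr (by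
        rw [hprime']
        exact hle)
      exact this
    have hq : (𝔸(n; S) ↘ S) ζ' = (𝔸(n; S) ↘ S) ζ := by
      have h1 := IsAffineOpen.comap_primeIdealOf_appLE (f := (𝔸(n; S) ↘ S)) ⊤ hV ⊤ hU e₀ hζ'U
      have h2 : (hV.primeIdealOf ⟨(𝔸(n; S) ↘ S) ζ', e₀ hζ'U⟩) =
          (hV.primeIdealOf ⟨(𝔸(n; S) ↘ S) ζ, e₀ hζU⟩) := by
        rw [← h1, hprime']
        apply PrimeSpectrum.ext
        exact comap_map_algebraMap (coord S) hbij _
      have h3 := congrArg hV.fromSpec h2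
      rw [hV.fromSpec_primeIdealOf, hV.fromSpec_primeIdealOf] at h3
      exact h3
    have heq : ζ' = ζ := hmax ζ' hq hsp
    have h4 : hU.primeIdealOf ⟨ζ, hζU⟩ = ⟨_, hP⟩ := by
      rw [← hprime']
      congr 1
      exact Subtype.ext heq.symm
    exact congrArg PrimeSpectrum.asIdeal h4

end AffBase


theorem tr_congr_hom {X Y : Scheme.{u}} (f f' : X ⟶ Y) [LocallyOfFiniteType f]
    [LocallyOfFiniteType f'] (h : f = f') (x : X) : tr f x = tr f' x := by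
  subst h
  rfl

theorem exists_preimage_of_isPullback {P X Y Z : Scheme.{u}} {fst : P ⟶ X} {snd : P ⟶ Y}
    {f : X ⟶ Z} {g : Y ⟶ Z} (h : IsPullback fst snd f g) (x : X) (y : Y) (hxy : f x = g y) :
    ∃ p : P, fst p = x ∧ snd p = y := by
  obtain ⟨z, hz1, hz2⟩ := Scheme.Pullback.exists_preimage_pullback x y hxy
  refine ⟨h.isoPullback.inv z, ?_, ?_⟩
  · rw [← Scheme.Hom.comp_apply, h.isoPullback_inv_fst, hz1]
  · rw [← Scheme.Hom.comp_apply, h.isoPullback_inv_snd, hz2]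

section GenBase
variable (n : Type u) [Finite n] (Y : Scheme.{u})

theorem isOpenImmersion_map_ι (V : Y.Opens) : IsOpenImmersion (map n V.ι) :=
  MorphismProperty.of_isPullback (P := @IsOpenImmersion) (isPullback_map (n := n) V.ι).flip
    inferInstance

theorem tr_affineSpace (ζ : 𝔸(n; Y)) :
    (tr (𝔸(n; Y) ↘ Y) ζ : Cardinal.{u}) ≤ #n ∧
      ((∀ ζ' : 𝔸(n; Y), (𝔸(n; Y) ↘ Y) ζ' = (𝔸(n; Y) ↘ Y) ζ → ζ' ⤳ ζ → ζ' = ζ) →
        (tr (𝔸(n; Y) ↘ Y) ζ : Cardinal.{u}) = #n) := by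
  obtain ⟨V, hV, hζV, -⟩ := exists_isAffineOpen_mem_and_subset (U := (⊤ : Y.Opens))
    (x := (𝔸(n; Y) ↘ Y) ζ) trivial
  haveI : IsAffine (V : Scheme.{u}) := hV
  haveI hj : IsOpenImmersion (map n V.ι) := isOpenImmersion_map_ι n Y V
  obtain ⟨ζ₀, hζ₀, hζ₀V⟩ := exists_preimage_of_isPullback (isPullback_map (n := n) V.ι) ζ
    (⟨_, hζV⟩ : ↥(V : Scheme.{u})) rfl
  have htr : tr (𝔸(n; Y) ↘ Y) ζ = tr (𝔸(n; (V : Scheme.{u})) ↘ (V : Scheme.{u})) ζ₀ := by
    have h1 := tr_comp (map n V.ι) (𝔸(n; Y) ↘ Y) ζ₀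
    rw [tr_openImmersion (map n V.ι) ζ₀, add_zero, hζ₀] at h1
    have h2 := tr_comp (𝔸(n; (V : Scheme.{u})) ↘ (V : Scheme.{u})) V.ι ζ₀
    rw [tr_openImmersion V.ι _, zero_add] at h2
    rw [← h1, ← h2]
    exact tr_congr_hom _ _ (map_over (n := n) V.ι) ζ₀
  obtain ⟨a1, a2⟩ := tr_affineSpace_affine n (V : Scheme.{u}) ζ₀
  rw [htr]
  refine ⟨a1, fun hmax => a2 ?_⟩
  intro ζ₀' hq hsp
  apply (map n V.ι).isOpenEmbedding.injective
  rw [hζ₀]
  apply hmax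
  · rw [← hζ₀, ← Scheme.Hom.comp_apply, ← Scheme.Hom.comp_apply, map_over,
      Scheme.Hom.comp_apply, Scheme.Hom.comp_apply, hq]
  · rw [← hζ₀]
    exact hsp.map (map n V.ι).continuous

end GenBase


section GenBase2
variable (n : Type u) [Finite n] (Y : Scheme.{u})

theorem isMax_affineSpace_of_tr_eq (ζ : 𝔸(n; Y))
    (hη : ∀ η' : Y, η' ⤳ (𝔸(n; Y) ↘ Y) ζ → η' = (𝔸(n; Y) ↘ Y) ζ)
    (htr : (tr (𝔸(n; Y) ↘ Y) ζ : Cardinal.{u}) = #n) :
    ∀ ζ' : 𝔸(n; Y), ζ' ⤳ ζ → ζ' = ζ := by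
  intro ζ' hsp
  have h1 : (𝔸(n; Y) ↘ Y) ζ' = (𝔸(n; Y) ↘ Y) ζ := hη _ (hsp.map (𝔸(n; Y) ↘ Y).continuous)
  by_contra hne
  have h2 := tr_lt_of_specializes (𝔸(n; Y) ↘ Y) ζ' ζ hsp hne h1
  have h3 := (tr_affineSpace n Y ζ').1
  have h4 : (tr (𝔸(n; Y) ↘ Y) ζ : Cardinal.{u}) < (tr (𝔸(n; Y) ↘ Y) ζ' : Cardinal.{u}) := by
    exact_mod_cast h2
  rw [htr] at h4
  exact absurd (h4.trans_le h3) (lt_irrefl _)

theorem map_isMax_affineSpace (ζ : 𝔸(n; Y)) (hmax : ∀ ζ' : 𝔸(n; Y), ζ' ⤳ ζ → ζ' = ζ) :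
    ∀ η' : Y, η' ⤳ (𝔸(n; Y) ↘ Y) ζ → η' = (𝔸(n; Y) ↘ Y) ζ := by
  intro η' hsp
  have hop : EGA43.IsOpenAt (𝔸(n; Y) ↘ Y).base ζ :=
    fun U hU => (isOpenMap_over (n := n) Y).image_mem_nhds hU
  obtain ⟨ζ', hsp', hq'⟩ := exists_generization_of_isOpenAt (𝔸(n; Y) ↘ Y) ζ hop η' hsp
  rw [← hq', hmax ζ' hsp']

theorem tr_eq_of_isMax_affineSpace (ζ : 𝔸(n; Y)) (hmax : ∀ ζ' : 𝔸(n; Y), ζ' ⤳ ζ → ζ' = ζ) :
    (tr (𝔸(n; Y) ↘ Y) ζ : Cardinal.{u}) = #n :=
  (tr_affineSpace n Y ζ).2 (fun ζ' _ hsp => hmax ζ' hsp)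

end GenBase2


section TrFib

/-- transcendence degree of the residue field extension of an arbitrary morphism -/
noncomputable def trc {W Y : Scheme.{u}} (g : W ⟶ Y) (w : W) : Cardinal.{u} :=
  @Algebra.trdeg (Y.residueField (g w)) (W.residueField w) _ _ (g.residueFieldMap w).hom.toAlgebra

theorem trc_eq_tr {X Y : Scheme.{u}} (f : X ⟶ Y) [LocallyOfFiniteType f] (x : X) :
    trc f x = (tr f x : Cardinal.{u}) := tr_spec f x

theorem trc_comp_left {W X Y : Scheme.{u}} (a : W ⟶ X) (f : X ⟶ Y) (w : W)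
    (ha : Function.Bijective (a.residueFieldMap w).hom) :
    trc (a ≫ f) w = trc f (a w) := by
  letI a1 : Algebra (Y.residueField (f (a w))) (X.residueField (a w)) :=
    (f.residueFieldMap (a w)).hom.toAlgebra
  letI a3 : Algebra (Y.residueField (f (a w))) (W.residueField w) :=
    ((a ≫ f).residueFieldMap w).hom.toAlgebra
  symm
  apply trdeg_eq_of_ringEquiv (RingEquiv.refl _) (RingEquiv.ofBijective _ ha)
  ext t
  change ((a ≫ f).residueFieldMap w).hom t = (a.residueFieldMap w).hom ((f.residueFieldMap (a w)).hom t)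
  rw [Scheme.residueFieldMap_comp]
  rfl

theorem trc_comp_right {W Z Y : Scheme.{u}} (φ : W ⟶ Z) (c : Z ⟶ Y) (w : W)
    (hc : Function.Bijective (c.residueFieldMap (φ w)).hom) :
    trc (φ ≫ c) w = trc φ w := by
  letI a1 : Algebra (Z.residueField (φ w)) (W.residueField w) :=
    (φ.residueFieldMap w).hom.toAlgebra
  letI a3 : Algebra (Y.residueField (c (φ w))) (W.residueField w) :=
    ((φ ≫ c).residueFieldMap w).hom.toAlgebra
  apply trdeg_eq_of_ringEquiv (RingEquiv.ofBijective _ hc) (RingEquiv.refl _)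
  ext t
  change (φ.residueFieldMap w).hom ((c.residueFieldMap (φ w)).hom t) = ((φ ≫ c).residueFieldMap w).hom t
  rw [Scheme.residueFieldMap_comp]
  rfl

theorem residueFieldMap_bijective_of_surjectiveOnStalks {Z X : Scheme.{u}} (j : Z ⟶ X)
    [SurjectiveOnStalks j] (z : Z) : Function.Bijective (j.residueFieldMap z).hom :=
  ⟨(j.residueFieldMap z).hom.injective, residueFieldMap_surjective_of_surjectiveOnStalks j z⟩

theorem tr_eq_of_square {W X Y Z : Scheme.{u}} (a : W ⟶ X) (f : X ⟶ Y) (φ : W ⟶ Z) (c : Z ⟶ Y)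
    [LocallyOfFiniteType f] [LocallyOfFiniteType φ] [SurjectiveOnStalks a] [SurjectiveOnStalks c]
    (h : a ≫ f = φ ≫ c) (w : W) : tr φ w = tr f (a w) := by
  have h1 := trc_comp_left a f w (residueFieldMap_bijective_of_surjectiveOnStalks a w)
  have h2 := trc_comp_right φ c w (residueFieldMap_bijective_of_surjectiveOnStalks c (φ w))
  rw [h, h2, trc_eq_tr, trc_eq_tr] at h1
  exact_mod_cast h1

instance locallyOfFiniteType_fiberToSpecResidueField {X Y : Scheme.{u}} (f : X ⟶ Y)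
    [LocallyOfFiniteType f] (y : Y) : LocallyOfFiniteType (f.fiberToSpecResidueField y) :=
  MorphismProperty.pullback_snd (P := @LocallyOfFiniteType) f _ inferInstance

theorem tr_fiber {X Y : Scheme.{u}} (f : X ⟶ Y) [LocallyOfFiniteType f] (y : Y) (w : f.fiber y) :
    tr (f.fiberToSpecResidueField y) w = tr f (f.fiberι y w) :=
  tr_eq_of_square (f.fiberι y) f (f.fiberToSpecResidueField y) (Y.fromSpecResidueField y)
    (pullback.condition) w

end TrFib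



theorem tr_eq_zero_of_locallyQuasiFinite {X Y : Scheme.{u}} (g : X ⟶ Y) [LocallyOfFiniteType g]
    [LocallyQuasiFinite g] (z : X) : tr g z = 0 := by
  have h1 := tr_fiber g (g z) (g.asFiber z)
  rw [g.fiberι_asFiber z] at h1
  rw [← h1]
  obtain ⟨w', hsp, -, htr0, -⟩ := exists_closed_pt (g.fiberToSpecResidueField (g z)) (g.asFiber z)
  haveI : DiscreteTopology ↥(g.fiber (g z)) := inferInstance
  have : g.asFiber z = w' := hsp.eq
  rw [this]
  exact htr0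




section Transfer
variable {X Y : Scheme.{u}} (f : X ⟶ Y) [LocallyOfFiniteType f]

/-- the local dimension of the fibre of the structure map of a fibre is that of the fibre -/
theorem fibreDimAt_fiber (y : Y) (w : f.fiber y) :
    FlatMor.fibreDimAt (f.fiberToSpecResidueField y) w = FlatMor.fibreDimAt f (f.fiberι y w) := by
  rw [fibreDimAt_eq_localDim_preimage (f.fiberToSpecResidueField y) w _ rfl,
    fibreDimAt_eq_localDim_preimage f (f.fiberι y w) y (fiberι_mem f y w)]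
  have huniv : ((f.fiberToSpecResidueField y).base ⁻¹' {(f.fiberToSpecResidueField y) w}) =
      Set.univ := by
    ext a
    simp only [Set.mem_preimage, Set.mem_singleton_iff, Set.mem_univ, iff_true]
    rw [Scheme.Hom.fiberToSpecResidueField_apply, Scheme.Hom.fiberToSpecResidueField_apply]
  have hopen : IsOpen ((f.fiberToSpecResidueField y).base ⁻¹'
      {(f.fiberToSpecResidueField y) w}) := by
    rw [huniv]
    exact isOpen_univ
  rw [localDim_openEmbedding _ hopen.isOpenEmbedding_subtypeVal,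
    localDim_homeomorph (f.fiberHomeo y) w]
  rfl

/-- restriction to an open subscheme does not change the local dimension of the fibre -/
theorem fibreDimAt_restrict (U : X.Opens) (z : ↥(U : Scheme.{u})) :
    FlatMor.fibreDimAt (U.ι ≫ f) z = FlatMor.fibreDimAt f (U.ι z) := by
  rw [fibreDimAt_eq_localDim_preimage (U.ι ≫ f) z (f (U.ι z)) rfl,
    fibreDimAt_eq_localDim_preimage f (U.ι z) _ rfl]
  have hΨ : Topology.IsOpenEmbedding ((f.base ⁻¹' {f (U.ι z)}).restrictPreimage U.ι) :=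
    Topology.IsOpenEmbedding.restrictPreimage _ U.ι.isOpenEmbedding
  exact localDim_openEmbedding _ hΨ ⟨z, rfl⟩

end Transfer



section NonNoeth
variable {X Y : Scheme.{u}} (f : X ⟶ Y) [LocallyOfFiniteType f]

/-- in a fibre all of whose irreducible components have dimension `e`, the maximal points have
residual transcendence degree `e` -/
theorem tr_fiber_of_isMax (y : Y) (e : ℕ)
    (h2 : ∀ Z ∈ irreducibleComponents (↥(f.fiber y) : Type u), topologicalKrullDim (↥Z : Type u) = e)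
    (w : f.fiber y) (hw : IsMax w) : tr (f.fiberToSpecResidueField y) w = e := by
  have hZ := closure_mem_irreducibleComponents_of_isMax (f.fiber y) w hw
  have h3 := h2 _ hZ
  rw [dim_closure_singleton (f.fiber y) w] at h3
  have hall : ∀ w' : f.fiber y, (f.fiberToSpecResidueField y) w' = (f.fiberToSpecResidueField y) w := by
    intro w'
    rw [Scheme.Hom.fiberToSpecResidueField_apply, Scheme.Hom.fiberToSpecResidueField_apply]
  let ψ : ↥(f.fiber y) ≃o {w' : ↥(f.fiber y) // (f.fiberToSpecResidueField y) w' =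
      (f.fiberToSpecResidueField y) w} :=
    { toFun := fun w' => ⟨w', hall w'⟩
      invFun := fun w' => w'.1
      left_inv := fun _ => rfl
      right_inv := fun _ => rfl
      map_rel_iff' := Iff.rfl }
  have h4 := height_fib_eq' (f.fiberToSpecResidueField y) ((f.fiberToSpecResidueField y) w) w rfl
  have h5 : Order.height w = Order.height (ψ w) := (Order.height_orderIso ψ w).symm
  rw [h5] at h3
  have h6 : ψ w = ⟨w, rfl⟩ := rfl
  rw [h6, h4] at h3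
  exact_mod_cast h3

theorem isEquidimAt_facts' (x : X) (h : EGA43.IsEquidimAt f x) :
    ∃ (e : ℕ) (U : X.Opens), x ∈ U ∧
      (∀ ξ : X, ξ ∈ U → (∀ ξ' : X, ξ' ⤳ ξ → ξ' = ξ) →
        closure ({f ξ} : Set Y) ∈ irreducibleComponents Y ∧ f ξ ⤳ f x) ∧
      (∀ z : X, z ∈ U → (∀ z' : X, f z' = f z → z' ⤳ z → z' = z) → tr f z = e) ∧
      FlatMor.fibreDimAt f x = (e : WithBot ℕ∞) := by
  obtain ⟨e, U, hxU, h1, h2⟩ := h
  refine ⟨e, U, hxU, ?_, ?_, ?_⟩
  · intro ξ hξU hmax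
    let ξU : ↥(U : Scheme.{u}) := ⟨ξ, hξU⟩
    have hmaxU : ∀ z' : ↥(U : Scheme.{u}), z' ⤳ ξU → z' = ξU := by
      intro z' hsp
      have h3 : U.ι z' ⤳ U.ι ξU := hsp.map U.ι.continuous
      exact Subtype.ext (hmax _ h3)
    have hZ := closure_mem_irreducibleComponents_of_max (X := (U : Scheme.{u})) ξU hmaxU
    obtain ⟨W, hW, hxW, hcl⟩ := h1 _ hZ
    have hW' : closure ({f ξ} : Set Y) = W := by
      rw [← hcl, closure_image_closure (U.ι ≫ f).continuous, Set.image_singleton]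
      rfl
    refine ⟨hW' ▸ hW, ?_⟩
    rw [specializes_iff_mem_closure, hW']
    exact hxW
  · intro z hzU hmax
    let zU : ↥(U : Scheme.{u}) := ⟨z, hzU⟩
    have hw : IsMax ((U.ι ≫ f).asFiber zU) := by
      intro b hb
      have hb' : b ⤳ (U.ι ≫ f).asFiber zU := hb
      have h3 := hb'.map ((U.ι ≫ f).fiberι _).continuous
      rw [(U.ι ≫ f).fiberι_asFiber zU] at h3
      have h4 : U.ι ((U.ι ≫ f).fiberι _ b) ⤳ U.ι zU := h3.map U.ι.continuous
      have h5 : f (U.ι ((U.ι ≫ f).fiberι _ b)) = f z := fiberι_mem (U.ι ≫ f) _ b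
      have h6 := hmax _ h5 h4
      have h7 : (U.ι ≫ f).fiberι _ b = zU := Subtype.ext h6
      have h8 : b = (U.ι ≫ f).asFiber zU := by
        apply ((U.ι ≫ f).fiberι _).isEmbedding.injective
        rw [h7, (U.ι ≫ f).fiberι_asFiber zU]
      rw [h8]
    have h3 := tr_fiber_of_isMax (U.ι ≫ f) _ e (h2 zU) _ hw
    rw [tr_fiber, (U.ι ≫ f).fiberι_asFiber zU, tr_restrict] at h3
    exact h3
  · let xU : ↥(U : Scheme.{u}) := ⟨x, hxU⟩
    have h3 := fibreDimAt_restrict f U xU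
    have h4 := fibreDimAt_fiber (U.ι ≫ f) _ ((U.ι ≫ f).asFiber xU)
    rw [(U.ι ≫ f).fiberι_asFiber xU] at h4
    have h5 : FlatMor.fibreDimAt f x = FlatMor.fibreDimAt f (U.ι xU) := rfl
    rw [h5, ← h3, ← h4]
    apply fibreDimAt_eq_of_facts _ _ e ⊤ trivial
    intro w _ hwmax
    apply tr_fiber_of_isMax (U.ι ≫ f) _ e (h2 xU) w
    intro b hb
    have hb' : b ⤳ w := hb
    have hbw : b = w := hwmax b (by
      rw [Scheme.Hom.fiberToSpecResidueField_apply, Scheme.Hom.fiberToSpecResidueField_apply]) hb'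
    rw [hbw]

end NonNoeth


theorem max_of_closure_mem_irreducibleComponents {T : Type*} [TopologicalSpace T] [T0Space T]
    (ζ : T) (h : closure ({ζ} : Set T) ∈ irreducibleComponents T) :
    ∀ ζ' : T, ζ' ⤳ ζ → ζ' = ζ := by
  intro ζ' hsp
  have h1 : closure ({ζ} : Set T) ⊆ closure ({ζ'} : Set T) :=
    closure_minimal (Set.singleton_subset_iff.mpr hsp.mem_closure) isClosed_closure
  have h2 : closure ({ζ'} : Set T) ⊆ closure ({ζ} : Set T) :=
    h.2 isIrreducible_singleton.closure h1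
  have h3 : ζ ⤳ ζ' := specializes_iff_mem_closure.mpr (h2 (subset_closure rfl))
  exact (hsp.antisymm h3).eq

theorem card_ulift_fin (e : ℕ) : #(ULift.{u} (Fin e)) = (e : Cardinal.{u}) := by
  simp

section AB
variable {X Y : Scheme.{u}} (f : X ⟶ Y) [LocallyOfFiniteType f]

theorem S3386_ab (x : X) (h : EGA43.IsEquidimAt f x) :
    ∃ (e : ℕ) (U : X.Opens) (g : (U : Scheme.{u}) ⟶ 𝔸(ULift.{u} (Fin e); Y)),
        x ∈ U ∧ g ≫ (𝔸(ULift.{u} (Fin e); Y) ↘ Y) = U.ι ≫ f ∧ LocallyQuasiFinite g ∧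
        ∀ Z ∈ irreducibleComponents (↥U : Type u),
          closure (g.base '' Z) ∈ irreducibleComponents (↥𝔸(ULift.{u} (Fin e); Y) : Type u) := by
  obtain ⟨e, U₀, hxU₀, H1, H2, hfd⟩ := isEquidimAt_facts' f x h
  obtain ⟨V, hV, hxV, -⟩ := exists_isAffineOpen_mem_and_subset (U := (⊤ : Y.Opens)) (x := f x)
    trivial
  obtain ⟨U₁, hU₁, hxU₁, g₁, π, hg₁, hπ, hπqf, hπft⟩ := S7625_main f x V hV hxV e hfd
  haveI := hπqf
  haveI := hπft
  haveI := isOpenImmersion_map_ι (ULift.{u} (Fin e)) Y V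
  have hle : U₁ ⊓ U₀ ≤ U₁ := inf_le_left
  have hG : (X.homOfLE hle ≫ π ≫ map (ULift.{u} (Fin e)) V.ι) ≫ (𝔸(ULift.{u} (Fin e); Y) ↘ Y) =
      (U₁ ⊓ U₀).ι ≫ f := by
    simp only [Category.assoc]
    rw [map_over, reassoc_of% hπ, hg₁, Scheme.homOfLE_ι_assoc]
  haveI hGlft : LocallyOfFiniteType (X.homOfLE hle ≫ π ≫ map (ULift.{u} (Fin e)) V.ι) := by
    haveI : LocallyOfFiniteType ((X.homOfLE hle ≫ π ≫ map (ULift.{u} (Fin e)) V.ι) ≫
        (𝔸(ULift.{u} (Fin e); Y) ↘ Y)) := by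
      rw [hG]
      infer_instance
    exact locallyOfFiniteType_of_comp _ (𝔸(ULift.{u} (Fin e); Y) ↘ Y)
  haveI hGqf : LocallyQuasiFinite (X.homOfLE hle ≫ π ≫ map (ULift.{u} (Fin e)) V.ι) :=
    inferInstance
  refine ⟨e, U₁ ⊓ U₀, X.homOfLE hle ≫ π ≫ map (ULift.{u} (Fin e)) V.ι, ⟨hxU₁, hxU₀⟩, hG, hGqf, ?_⟩
  intro Z hZ
  obtain ⟨ξU, hξmax, rfl⟩ := exists_isMax_closure_eq ((U₁ ⊓ U₀ : X.Opens) : Scheme.{u}) Z hZ
  rw [closure_image_closure (Scheme.Hom.continuous _), Set.image_singleton]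
  apply closure_mem_irreducibleComponents_of_max
  have hξmaxX : ∀ ξ' : X, ξ' ⤳ ξU.1 → ξ' = ξU.1 := by
    intro ξ' hsp
    have hξ'U : ξ' ∈ U₁ ⊓ U₀ := hsp.mem_open (U₁ ⊓ U₀).2 ξU.2
    let ξ'U : ↥((U₁ ⊓ U₀ : X.Opens) : Scheme.{u}) := ⟨ξ', hξ'U⟩
    have h1 : ξ'U ⤳ ξU := by
      rw [← (U₁ ⊓ U₀).ι.isOpenEmbedding.isInducing.specializes_iff]
      exact hsp
    have h2 : ξU ⤳ ξ'U := hξmax h1
    exact congrArg Subtype.val (h1.antisymm h2).eq
  have hqG : (𝔸(ULift.{u} (Fin e); Y) ↘ Y) ((X.homOfLE hle ≫ π ≫ map (ULift.{u} (Fin e)) V.ι) ξU) =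
      f ξU.1 := by
    rw [← Scheme.Hom.comp_apply, hG]
    rfl
  apply isMax_affineSpace_of_tr_eq
  · rw [hqG]
    exact max_of_closure_mem_irreducibleComponents _ (H1 ξU.1 ξU.2.2 hξmaxX).1
  · have h3 := tr_comp (X.homOfLE hle ≫ π ≫ map (ULift.{u} (Fin e)) V.ι)
      (𝔸(ULift.{u} (Fin e); Y) ↘ Y) ξU
    rw [tr_eq_zero_of_locallyQuasiFinite (X.homOfLE hle ≫ π ≫ map (ULift.{u} (Fin e)) V.ι) ξU,
      add_zero, tr_congr_hom _ _ hG ξU, tr_restrict] at h3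
    have h4 : tr f ((U₁ ⊓ U₀).ι ξU) = e :=
      H2 ξU.1 ξU.2.2 (fun z' _ hsp => hξmaxX z' hsp)
    rw [h4] at h3
    rw [← h3, card_ulift_fin]

end AB


section BA
variable {X Y : Scheme.{u}} (f : X ⟶ Y) [LocallyOfFiniteType f]

theorem S3386_ba [IsLocallyNoetherian Y] (x : X) (e : ℕ) (U : X.Opens)
    (g : (U : Scheme.{u}) ⟶ 𝔸(ULift.{u} (Fin e); Y)) (hxU : x ∈ U)
    (hg : g ≫ (𝔸(ULift.{u} (Fin e); Y) ↘ Y) = U.ι ≫ f) (hqf : LocallyQuasiFinite g)
    (hcomp : ∀ Z ∈ irreducibleComponents (↥U : Type u),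
      closure (g.base '' Z) ∈ irreducibleComponents (↥𝔸(ULift.{u} (Fin e); Y) : Type u)) :
    EGA43.IsEquidimAt f x := by
  haveI : IsLocallyNoetherian X := LocallyOfFiniteType.isLocallyNoetherian f
  haveI hglft : LocallyOfFiniteType g := by
    haveI : LocallyOfFiniteType (g ≫ (𝔸(ULift.{u} (Fin e); Y) ↘ Y)) := by
      rw [hg]
      infer_instance
    exact locallyOfFiniteType_of_comp _ (𝔸(ULift.{u} (Fin e); Y) ↘ Y)
  obtain ⟨W, hW, hxW, hWgen⟩ := exists_nhd_common_gen X Set.univ isClosed_univ x trivial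
  -- maximal points of X in U go to maximal points of affine space
  have key : ∀ ξ : X, ∀ hξU : ξ ∈ U, (∀ ξ' : X, ξ' ⤳ ξ → ξ' = ξ) →
      ∀ ζ' : 𝔸(ULift.{u} (Fin e); Y), ζ' ⤳ g (⟨ξ, hξU⟩ : ↥(U : Scheme.{u})) →
        ζ' = g (⟨ξ, hξU⟩ : ↥(U : Scheme.{u})) := by
    intro ξ hξU hmax
    let ξU : ↥(U : Scheme.{u}) := ⟨ξ, hξU⟩
    have hmaxU : ∀ z' : ↥(U : Scheme.{u}), z' ⤳ ξU → z' = ξU := by
      intro z' hsp
      have h3 : U.ι z' ⤳ U.ι ξU := hsp.map U.ι.continuous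
      exact Subtype.ext (hmax _ h3)
    have hZ := closure_mem_irreducibleComponents_of_max (X := (U : Scheme.{u})) ξU hmaxU
    have h1 := hcomp _ hZ
    rw [closure_image_closure (Scheme.Hom.continuous _), Set.image_singleton] at h1
    exact max_of_closure_mem_irreducibleComponents _ h1
  have hqg : ∀ zU : ↥(U : Scheme.{u}), (𝔸(ULift.{u} (Fin e); Y) ↘ Y) (g zU) = f zU.1 := by
    intro zU
    rw [← Scheme.Hom.comp_apply, hg]
    rfl
  have htrg : ∀ zU : ↥(U : Scheme.{u}),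
      tr f zU.1 = tr (𝔸(ULift.{u} (Fin e); Y) ↘ Y) (g zU) := by
    intro zU
    have h3 := tr_comp g (𝔸(ULift.{u} (Fin e); Y) ↘ Y) zU
    rw [tr_eq_zero_of_locallyQuasiFinite g zU, add_zero, tr_congr_hom _ _ hg zU, tr_restrict] at h3
    exact h3
  have htrmax : ∀ ξ : X, ∀ hξU : ξ ∈ U, (∀ ξ' : X, ξ' ⤳ ξ → ξ' = ξ) → tr f ξ = e := by
    intro ξ hξU hmax
    have h1 := tr_eq_of_isMax_affineSpace (ULift.{u} (Fin e)) Y _ (key ξ hξU hmax)
    rw [card_ulift_fin, ← htrg ⟨ξ, hξU⟩] at h1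
    exact_mod_cast h1
  apply isEquidimAt_of_facts f x e (U ⊓ ⟨W, hW⟩) ⟨hxU, hxW⟩
  · intro ξ hξ hmax
    obtain ⟨σ, -, hσξ, hσx⟩ := hWgen ξ ⟨hξ.2, trivial⟩
    have hσ : σ = ξ := hmax σ hσξ
    rw [hσ] at hσx
    refine ⟨?_, hσx.map f.continuous⟩
    apply closure_mem_irreducibleComponents_of_max
    have h2 := map_isMax_affineSpace (ULift.{u} (Fin e)) Y _ (key ξ hξ.1 hmax)
    rw [hqg ⟨ξ, hξ.1⟩] at h2
    exact h2
  · intro z hz hmax
    apply le_antisymm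
    · have h1 := (tr_affineSpace (ULift.{u} (Fin e)) Y (g ⟨z, hz.1⟩)).1
      rw [card_ulift_fin, ← htrg ⟨z, hz.1⟩] at h1
      exact_mod_cast h1
    · obtain ⟨ξ, hξz, hξmax⟩ := exists_isMax_ge X z
      have hsp : ξ ⤳ z := hξz
      have hξU : ξ ∈ U := hsp.mem_open U.2 hz.1
      have h1 := htrmax ξ hξU (max_of_isMax ξ hξmax)
      have h2 := tr_le_fibreDimAt_of_specializes f z ξ hsp
      rw [(max_point_facts f z hmax).1, h1] at h2
      exact_mod_cast h2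

end BA


theorem S3386_main {X Y : Scheme.{u}}
    (f : X ⟶ Y) [LocallyOfFiniteType f] (x : X) :
    (EGA43.IsEquidimAt f x → (∃ (e : ℕ) (U : X.Opens) (g : (U : Scheme.{u}) ⟶ 𝔸(ULift.{u} (Fin e); Y)),
        x ∈ U ∧ g ≫ (𝔸(ULift.{u} (Fin e); Y) ↘ Y) = U.ι ≫ f ∧ LocallyQuasiFinite g ∧
        ∀ Z ∈ irreducibleComponents (↥U : Type u),
          closure (g.base '' Z) ∈ irreducibleComponents (↥𝔸(ULift.{u} (Fin e); Y) : Type u))) ∧
    (IsLocallyNoetherian Y → (∃ (e : ℕ) (U : X.Opens) (g : (U : Scheme.{u}) ⟶ 𝔸(ULift.{u} (Fin e); Y)),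
        x ∈ U ∧ g ≫ (𝔸(ULift.{u} (Fin e); Y) ↘ Y) = U.ι ≫ f ∧ LocallyQuasiFinite g ∧
        ∀ Z ∈ irreducibleComponents (↥U : Type u),
          closure (g.base '' Z) ∈ irreducibleComponents (↥𝔸(ULift.{u} (Fin e); Y) : Type u)) → EGA43.IsEquidimAt f x) := by
  refine ⟨S3386_ab f x, ?_⟩
  intro hY
  rintro ⟨e, U, g, hxU, hg, hqf, hcomp⟩
  exact S3386_ba f x e U g hxU hg hqf hcomp


end Groth.Agent.Lib.Helper4.Aff2
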