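import Mathlib
import Groth.Prelude.Def_Cyc
import Groth.Agent.Lib.Helper4.JacDim1
import Groth.Prelude.Def_EGA43
import Groth.Agent.Lib.Helper4.FibreStalkDim1
import Groth.Agent.Lib.Helper4.DimFT1
import Groth.Agent.Lib.Helper4.DimFT2
import Groth.Agent.Lib.Helper4.Chev8
import Groth.Agent.Lib.Helper4.FibDim7
import Groth.Agent.Lib.Helper4.EffCartierDim1
import Groth.Agent.Lib.Helper4.JacDim4
import Groth.Agent.Lib.Helper4.Chev9
import Groth.Agent.Lib.Helper4.Chev10
import Groth.Agent.Lib.Helper4.Chev11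
import Groth.Agent.Lib.Helper4.Equi1
import Groth.Agent.Lib.Helper4.Equi2
import Groth.Agent.Lib.Helper4.Equi3
import Groth.Agent.Lib.Helper4.Equi4
import Groth.Agent.Lib.Helper4.Equi5
import Groth.Agent.Lib.Helper4.Equi6
import Groth.Agent.Lib.Helper4.Equi7
import Groth.Agent.Lib.Helper4.Aff1
import Groth.Agent.Lib.Helper4.Aff2

/-!
# Equidimensional morphisms without Noetherian hypotheses; irreducible components equidimensional over the base (helper4)
-/

set_option backward.isDefEq.respectTransparency.types false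
set_option synthInstance.maxHeartbeats 400000
set_option autoImplicit false
set_option linter.unusedSectionVars false
set_option linter.style.haveILetI false
set_option linter.unusedSimpArgs false
universe u v w
open CategoryTheory CategoryTheory.Limits AlgebraicGeometry TopologicalSpace IsLocalRing Opposite
open Cardinal AffineSpace MvPolynomial
open Groth.Agent.Lib.Helper4.DimIneq1 Groth.Agent.Lib.Helper4.DimFT2 Groth.Agent.Lib.Helper4.Catenary1
open Groth.Agent.Lib.Helper4.DimEq1 Groth.Agent.Lib.Helper4.DimIneq2 Groth.Agent.Lib.Helper4.DimEq2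
open Groth.Agent.Lib.Helper4.DimIneq3 Groth.Agent.Lib.Helper4.DimIneq4
open Groth.Agent.Lib.Helper4.NormFibre2 Groth.Agent.Lib.Helper4.RadBir3 Groth.Agent.Lib.Helper4.DimFT3
open Groth.Agent.Lib.Helper4.FibDim1 Groth.Agent.Lib.Helper4.FibDim2 Groth.Agent.Lib.Helper4.LocUC1
open Groth.Agent.Lib.Helper4.FibDim3 Groth.Agent.Lib.Helper4.FibDim4 Groth.Agent.Lib.Helper4.FibDim5
open Groth.Agent.Lib.Helper4.FibDim6 Groth.Agent.Lib.Helper4.FibDim7 Groth.Agent.Lib.Helper4.JacDim1
open Groth.Agent.Lib.Helper4.DimFT1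
open Groth.Agent.Lib.Helper4.Chev2 Groth.Agent.Lib.Helper4.Chev5 Groth.Agent.Lib.Helper4.Chev6 Groth.Agent.Lib.Helper4.Chev8
open Groth.Agent.Lib.Helper4.JacDim4 Groth.Agent.Lib.Helper4.EffCartierDim1
open Groth.Agent.Lib.Helper4.Chev9 Groth.Agent.Lib.Helper4.Chev4
open Groth.Agent.Lib.Helper4.Chev10 Groth.Agent.Lib.Helper4.Chev11 Groth.Agent.Lib.Helper4.Chev3 Groth.Agent.Lib.Helper4.Equi1 Groth.Agent.Lib.Helper4.Equi2 Groth.Agent.Lib.Helper4.OpenAt1 Groth.Agent.Lib.Helper4.Equi3 Groth.Agent.Lib.Helper4.Equi4 Groth.Agent.Lib.Helper4.Equi5 Groth.Agent.Lib.Helper4.Equi6 Groth.Agent.Lib.Helper4.Equi7 Groth.Agent.Lib.Helper4.Aff1 Groth.Agent.Lib.Helper4.Aff2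

namespace Groth.Agent.Lib.Helper4.Equi10

section NN1
variable {X Y : Scheme.{u}} (f : X ⟶ Y) [LocallyOfFiniteType f]

/-- height in the fibre poset equals residual transcendence degree (no Noetherian hypothesis) -/
theorem height_fib_nn (y : Y) (z : X) (hz : f z = y) :
    Order.height (⟨z, hz⟩ : {z' : X // f z' = y}) = (tr f z : ℕ∞) := by
  have hall : ∀ w w' : f.fiber y,
      (f.fiberToSpecResidueField y) w' = (f.fiberToSpecResidueField y) w := by
    intro w w'
    rw [Scheme.Hom.fiberToSpecResidueField_apply, Scheme.Hom.fiberToSpecResidueField_apply]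
  let w : f.fiber y := (fibOrderIso f y).symm ⟨z, hz⟩
  let ψ : ↥(f.fiber y) ≃o {w' : ↥(f.fiber y) // (f.fiberToSpecResidueField y) w' =
      (f.fiberToSpecResidueField y) w} :=
    { toFun := fun w' => ⟨w', hall w w'⟩
      invFun := fun w' => w'.1
      left_inv := fun _ => rfl
      right_inv := fun _ => rfl
      map_rel_iff' := Iff.rfl }
  have h4 := height_fib_eq' (f.fiberToSpecResidueField y) ((f.fiberToSpecResidueField y) w) w rfl
  have h5 : Order.height w = Order.height (ψ w) := (Order.height_orderIso ψ w).symm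
  have h6 : ψ w = ⟨w, rfl⟩ := rfl
  have h7 : Order.height (fibOrderIso f y w) = Order.height w := Order.height_orderIso _ w
  have h8 : fibOrderIso f y w = ⟨z, hz⟩ := (fibOrderIso f y).apply_symm_apply _
  have h9 : f.fiberι y w = z := congrArg Subtype.val h8
  rw [← h8, h7, h5, h6, h4, tr_fiber, h9]

theorem mem_compDims_iff_nn (y : Y) (d : WithBot ℕ∞) :
    d ∈ (fun Z : Set ↥(f.fiber y) => topologicalKrullDim ↥Z) ''
        irreducibleComponents ↥(f.fiber y) ↔
      ∃ z : X, f z = y ∧ (∀ z' : X, f z' = y → z' ⤳ z → z' = z) ∧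
        d = (tr f z : WithBot ℕ∞) := by
  constructor
  · rintro ⟨Z, hZ, rfl⟩
    obtain ⟨w, hw, rfl⟩ := exists_isMax_closure_eq (f.fiber y) Z hZ
    refine ⟨f.fiberι y w, fiberι_mem f y w, ?_, ?_⟩
    · intro z' hz' hsp
      have h1 : fibOrderIso f y w ≤ ⟨z', hz'⟩ := hsp
      have h2 : w ≤ (fibOrderIso f y).symm ⟨z', hz'⟩ := by
        rw [← (fibOrderIso f y).le_iff_le, OrderIso.apply_symm_apply]
        exact h1
      have h3 := hw h2
      rw [← (fibOrderIso f y).le_iff_le, OrderIso.apply_symm_apply] at h3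
      have h4 : f.fiberι y w ⤳ z' := h3
      exact (hsp.antisymm h4).eq
    · change topologicalKrullDim ↥(closure ({w} : Set ↥(f.fiber y))) = _
      rw [dim_closure_singleton (f.fiber y) w, ← Order.height_orderIso (fibOrderIso f y) w]
      change ((Order.height (⟨f.fiberι y w, fiberι_mem f y w⟩ : {z' : X // f z' = y}) : ℕ∞) :
        WithBot ℕ∞) = _
      rw [height_fib_nn f y _ (fiberι_mem f y w)]
      rfl
  · rintro ⟨z, hz, hmax, rfl⟩
    have hw : IsMax ((fibOrderIso f y).symm ⟨z, hz⟩) := by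
      intro b hb
      rw [← (fibOrderIso f y).le_iff_le, OrderIso.apply_symm_apply] at hb
      have h1 : (fibOrderIso f y b).1 ⤳ z := hb
      have h2 := hmax _ (fibOrderIso f y b).2 h1
      have h3 : fibOrderIso f y b = ⟨z, hz⟩ := Subtype.ext h2
      rw [← (fibOrderIso f y).le_iff_le, OrderIso.apply_symm_apply, h3]
    refine ⟨closure {(fibOrderIso f y).symm ⟨z, hz⟩},
      closure_mem_irreducibleComponents_of_isMax _ _ hw, ?_⟩
    change topologicalKrullDim ↥(closure ({(fibOrderIso f y).symm ⟨z, hz⟩} :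
      Set ↥(f.fiber y))) = _
    rw [dim_closure_singleton (f.fiber y) _, ← Order.height_orderIso (fibOrderIso f y),
      OrderIso.apply_symm_apply, height_fib_nn f y z hz]
    rfl

/-- a criterion for equidimensionality at a point in terms of maximal points, no Noetherian
hypothesis -/
theorem isEquidimAt_of_facts_nn (x : X) (e : ℕ) (U : X.Opens) (hxU : x ∈ U)
    (H1 : ∀ ξ : X, ξ ∈ U → (∀ ξ' : X, ξ' ⤳ ξ → ξ' = ξ) →
      closure ({f ξ} : Set Y) ∈ irreducibleComponents Y ∧ f ξ ⤳ f x)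
    (H2 : ∀ z : X, z ∈ U → (∀ z' : X, f z' = f z → z' ⤳ z → z' = z) → tr f z = e) :
    EGA43.IsEquidimAt f x := by
  refine ⟨e, U, hxU, ?_, ?_⟩
  · intro Z hZ
    obtain ⟨ξU, hξU, hZeq⟩ := exists_isMax_closure_eq (U : Scheme.{u}) Z hZ
    have hξmax : ∀ ξ' : X, ξ' ⤳ ξU.1 → ξ' = ξU.1 := by
      intro ξ' hsp
      have hξ'U : ξ' ∈ U := hsp.mem_open U.2 ξU.2
      let ξ'U : ↥(U : Scheme.{u}) := ⟨ξ', hξ'U⟩
      have h1 : ξ'U ⤳ ξU := by
        rw [← U.ι.isOpenEmbedding.isInducing.specializes_iff]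
        exact hsp
      have h2 : ξU ⤳ ξ'U := hξU h1
      have h3 : ξ'U = ξU := (h1.antisymm h2).eq
      exact congrArg Subtype.val h3
    obtain ⟨hcomp, hsp⟩ := H1 ξU.1 ξU.2 hξmax
    refine ⟨closure ({f ξU.1} : Set Y), hcomp, specializes_iff_mem_closure.mp hsp, ?_⟩
    rw [← hZeq, closure_image_closure (U.ι ≫ f).continuous, Set.image_singleton]
    rfl
  · intro x' Z hZ
    have hmem : topologicalKrullDim ↥Z ∈
        (fun Z : Set ↥((U.ι ≫ f).fiber ((U.ι ≫ f).base x')) => topologicalKrullDim ↥Z) ''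
          irreducibleComponents ↥((U.ι ≫ f).fiber ((U.ι ≫ f).base x')) := ⟨Z, hZ, rfl⟩
    rw [mem_compDims_iff_nn] at hmem
    obtain ⟨z', hz', hmax', hd⟩ := hmem
    rw [hd, tr_restrict f U z']
    have hmaxf : ∀ w : X, f w = f z'.1 → w ⤳ z'.1 → w = z'.1 := by
      intro w hw hsp
      have hwU : w ∈ U := hsp.mem_open U.2 z'.2
      let w' : ↥(U : Scheme.{u}) := ⟨w, hwU⟩
      have h1 : w' ⤳ z' := by
        rw [← U.ι.isOpenEmbedding.isInducing.specializes_iff]
        exact hsp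
      have h2 : (U.ι ≫ f) w' = (U.ι ≫ f) x' := by
        change f w = _
        rw [hw, ← hz']
        rfl
      have h3 := hmax' w' h2 h1
      exact congrArg Subtype.val h3
    have h4 := H2 z'.1 z'.2 hmaxf
    change ((tr f z'.1 : ℕ) : WithBot ℕ∞) = _
    rw [h4]

end NN1



section NN2
variable {X Y : Scheme.{u}} (f : X ⟶ Y) [LocallyOfFiniteType f]

theorem fiberToSpec_const (y : Y) (w w' : f.fiber y) :
    (f.fiberToSpecResidueField y) w' = (f.fiberToSpecResidueField y) w := by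
  rw [Scheme.Hom.fiberToSpecResidueField_apply, Scheme.Hom.fiberToSpecResidueField_apply]

/-- the residual transcendence degree is bounded by the local dimension of the fibre -/
theorem tr_le_fibreDimAt_nn (z : X) : ((tr f z : ℕ) : WithBot ℕ∞) ≤ FlatMor.fibreDimAt f z := by
  have h1 := fibreDimAt_fiber f (f z) (f.asFiber z)
  have h2 := tr_fiber f (f z) (f.asFiber z)
  rw [f.fiberι_asFiber z] at h1 h2
  rw [← h1, ← h2, fibreDimAt_eq (f.fiberToSpecResidueField (f z)) (f.asFiber z)]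
  have h0 : (0 : WithBot ℕ∞) ≤ ringKrullDim (((f.fiberToSpecResidueField (f z)).fiber
      ((f.fiberToSpecResidueField (f z)) (f.asFiber z))).presheaf.stalk
        ((f.fiberToSpecResidueField (f z)).asFiber (f.asFiber z))) :=
    ringKrullDim_nonneg_of_nontrivial
  calc ((tr (f.fiberToSpecResidueField (f z)) (f.asFiber z) : ℕ) : WithBot ℕ∞)
      = 0 + ((tr (f.fiberToSpecResidueField (f z)) (f.asFiber z) : ℕ) : WithBot ℕ∞) :=
        (zero_add _).symm
    _ ≤ _ := add_le_add_left h0 _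

/-- Chevalley: the residual transcendence degree of a generization is bounded by the local
dimension of the fibre (no Noetherian hypothesis) -/
theorem tr_le_fibreDimAt_of_specializes_nn (z ξ : X) (hsp : ξ ⤳ z) :
    ((tr f ξ : ℕ) : WithBot ℕ∞) ≤ FlatMor.fibreDimAt f z := by
  obtain ⟨d, hd, O, hzO, hO⟩ := Groth.Agent.Lib.Helper4.Chev2.exists_open_fibreDimAt_le f z
  have hξO : ξ ∈ O := hsp.mem_open O.2 hzO
  have h1 := hO ξ hξO
  rw [hd]
  exact le_trans (tr_le_fibreDimAt_nn f ξ) h1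

/-- the local dimension of the fibre is bounded by the residual transcendence degrees of the
maximal points of the fibre generizing the point (no Noetherian hypothesis) -/
theorem fibreDimAt_le_of_max_tr_le_nn (x : X) (E : ℕ)
    (h : ∀ z : X, f z = f x → z ⤳ x → (∀ z' : X, f z' = f z → z' ⤳ z → z' = z) → tr f z ≤ E) :
    FlatMor.fibreDimAt f x ≤ (E : WithBot ℕ∞) := by
  have h1 := fibreDimAt_fiber f (f x) (f.asFiber x)
  rw [f.fiberι_asFiber x] at h1
  rw [← h1]
  apply fibreDimAt_le_of_max_tr_le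
  intro w _ hsp hmax
  rw [tr_fiber]
  apply h _ (fiberι_mem f (f x) w)
  · have h2 := hsp.map (f.fiberι (f x)).continuous
    rwa [f.fiberι_asFiber x] at h2
  · intro z' hz' hsp'
    have hz'y : f z' = f x := hz'.trans (fiberι_mem f (f x) w)
    have h3 : fibOrderIso f (f x) ((fibOrderIso f (f x)).symm ⟨z', hz'y⟩) = ⟨z', hz'y⟩ :=
      (fibOrderIso f (f x)).apply_symm_apply _
    have h4 : f.fiberι (f x) ((fibOrderIso f (f x)).symm ⟨z', hz'y⟩) = z' :=
      congrArg Subtype.val h3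
    have h5 : (fibOrderIso f (f x)).symm ⟨z', hz'y⟩ ⤳ w := by
      rw [← (f.fiberι (f x)).isEmbedding.isInducing.specializes_iff, h4]
      exact hsp'
    have h6 := hmax _ (fiberToSpec_const f (f x) _ _) h5
    rw [← h4, h6]

/-- at a maximal point of a fibre the local dimension of the fibre is the residual
transcendence degree -/
theorem fibreDimAt_eq_tr_of_max_nn (z : X) (hmax : ∀ z' : X, f z' = f z → z' ⤳ z → z' = z) :
    FlatMor.fibreDimAt f z = ((tr f z : ℕ) : WithBot ℕ∞) := by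
  apply le_antisymm _ (tr_le_fibreDimAt_nn f z)
  apply fibreDimAt_le_of_max_tr_le_nn
  intro z' hz' hsp _
  rw [hmax z' hz' hsp]

end NN2



section NN2
variable {X Y : Scheme.{u}} (f : X ⟶ Y) [LocallyOfFiniteType f]

end NN2

section Core
variable {X Y : Scheme.{u}} (f : X ⟶ Y) [LocallyOfFiniteType f]

theorem tr_comp_closedImmersion {W : Scheme.{u}} (ι : W ⟶ X) [IsClosedImmersion ι] (z : W) :
    tr (ι ≫ f) z = tr f (ι z) := by
  rw [tr_comp ι f z, tr_of_surjectiveOnStalks ι z, add_zero]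

theorem map_genericPoint_of_range {W : Scheme.{u}} (ι : W ⟶ X) [IsClosedImmersion ι]
    [IrreducibleSpace W] (ξ : X) (hr : Set.range ι = closure ({ξ} : Set X)) :
    ι (genericPoint W) = ξ := by
  have h3 : closure ({genericPoint W} : Set W) = Set.univ := (genericPoint_spec W).def
  have h4 : closure ({ι (genericPoint W)} : Set X) = closure ({ξ} : Set X) := by
    rw [← Set.image_singleton, ← closure_image_closure ι.continuous, h3, Set.image_univ, hr,
      closure_closure]
  exact (inseparable_iff_closure_eq.mpr h4).eq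

theorem S14076_core {W : Scheme.{u}} (ι : W ⟶ X) [IsClosedImmersion ι] [IrreducibleSpace W]
    (ξ : X) (hξ : ∀ ξ' : X, ξ' ⤳ ξ → ξ' = ξ) (hr : Set.range ι = closure ({ξ} : Set X))
    (h : ∀ x : X, EGA43.IsEquidimAt f x) (w : W) : EGA43.IsEquidimAt (ι ≫ f) w := by
  obtain ⟨e, U, hxU, H1, H2, -⟩ := isEquidimAt_facts' f (ι w) (h (ι w))
  have hgen : ι (genericPoint W) = ξ := map_genericPoint_of_range ι ξ hr
  have hξx : ξ ⤳ ι w := by
    rw [specializes_iff_mem_closure, ← hr]
    exact ⟨w, rfl⟩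
  have hξU : ξ ∈ U := hξx.mem_open U.2 hxU
  have htrξ : tr f ξ = e := H2 ξ hξU (fun z' _ hsp => hξ z' hsp)
  apply isEquidimAt_of_facts_nn (ι ≫ f) w e (ι ⁻¹ᵁ U) hxU
  · intro ξ' _ hmax
    have h1 : genericPoint W ⤳ ξ' := genericPoint_specializes ξ'
    have h2 := hmax _ h1
    have h3 : (ι ≫ f) ξ' = f ξ := by
      rw [← h2, ← hgen]
      rfl
    rw [h3]
    exact H1 ξ hξU hξ
  · intro z hzU hmax
    rw [tr_comp_closedImmersion]
    apply le_antisymm
    · obtain ⟨z₁, hz₁, hmax₁⟩ := exists_isMax_ge_fib f (f (ι z)) ⟨ι z, rfl⟩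
      have hsp : z₁.1 ⤳ ι z := hz₁
      have hmax' : ∀ z' : X, f z' = f z₁.1 → z' ⤳ z₁.1 → z' = z₁.1 := by
        intro z' hz' hsp'
        have h1 : z₁ ≤ ⟨z', hz'.trans z₁.2⟩ := hsp'
        have h2 : z₁.1 ⤳ z' := hmax₁ h1
        exact (hsp'.antisymm h2).eq
      have h1 := H2 z₁.1 (hsp.mem_open U.2 hzU) hmax'
      rw [← h1]
      exact tr_le_of_specializes f z₁.1 (ι z) hsp z₁.2
    · have h1 := tr_le_fibreDimAt_of_specializes_nn (ι ≫ f) z (genericPoint W)
        (genericPoint_specializes z)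
      rw [fibreDimAt_eq_tr_of_max_nn (ι ≫ f) z hmax, tr_comp_closedImmersion,
        tr_comp_closedImmersion, hgen, htrξ] at h1
      exact_mod_cast h1

end Core



section Core
variable {X Y : Scheme.{u}} (f : X ⟶ Y) [LocallyOfFiniteType f]

end Core

theorem S14076_main {X S : Scheme.{u}} (f : X ⟶ S) [LocallyOfFiniteType f]
    (h : ∀ x : X, EGA43.IsEquidimAt f x) (x : X) :
    ∃ W : TopologicalSpace.Closeds X, (W : Set X) ∈ irreducibleComponents (X : Type u) ∧
      ∃ w : ↥((Scheme.IdealSheafData.vanishingIdeal W).subscheme),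
        (Scheme.IdealSheafData.vanishingIdeal W).subschemeι.base w = x ∧
        EGA43.IsEquidimAt ((Scheme.IdealSheafData.vanishingIdeal W).subschemeι ≫ f) w := by
  obtain ⟨ξ, hle, hmax⟩ := exists_isMax_ge X x
  have hsp : ξ ⤳ x := hle
  have hξ : ∀ ξ' : X, ξ' ⤳ ξ → ξ' = ξ := by
    intro ξ' hsp'
    have h1 : ξ ≤ ξ' := hsp'
    have h2 : ξ ⤳ ξ' := hmax h1
    exact (hsp'.antisymm h2).eq
  have hcomp : closure ({ξ} : Set X) ∈ irreducibleComponents (X : Type u) :=
    closure_mem_irreducibleComponents_of_isMax X ξ hmax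
  refine ⟨⟨closure ({ξ} : Set X), isClosed_closure⟩, hcomp, ?_⟩
  have hr : Set.range (Scheme.IdealSheafData.vanishingIdeal
      (⟨closure ({ξ} : Set X), isClosed_closure⟩ : TopologicalSpace.Closeds X)).subschemeι =
      closure ({ξ} : Set X) := by
    rw [Scheme.IdealSheafData.range_subschemeι, Scheme.IdealSheafData.coe_support_vanishingIdeal]
    rfl
  have hx : x ∈ Set.range (Scheme.IdealSheafData.vanishingIdeal
      (⟨closure ({ξ} : Set X), isClosed_closure⟩ : TopologicalSpace.Closeds X)).subschemeι := by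
    rw [hr]
    exact specializes_iff_mem_closure.mp hsp
  obtain ⟨w, hw⟩ := hx
  refine ⟨w, hw, ?_⟩
  haveI : IrreducibleSpace ↥(Scheme.IdealSheafData.vanishingIdeal
      (⟨closure ({ξ} : Set X), isClosed_closure⟩ : TopologicalSpace.Closeds X)).subscheme :=
    irreducibleSpace_vanishingIdeal_subscheme _ hcomp.1
  exact S14076_core f _ ξ hξ hr h w



section NN2
variable {X Y : Scheme.{u}} (f : X ⟶ Y) [LocallyOfFiniteType f]

end NN2

section Core
variable {X Y : Scheme.{u}} (f : X ⟶ Y) [LocallyOfFiniteType f]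

theorem S14079_core {W : Scheme.{u}} (ι : W ⟶ X) [IsClosedImmersion ι] [IrreducibleSpace W]
    (w wx : W) (hequi : EGA43.IsEquidimAt (ι ≫ f) w) (hfib : f (ι w) = f (ι wx))
    (hmax : ∀ z' : X, f z' = f (ι w) → z' ⤳ ι w → z' = ι w)
    (htr : ((tr f (ι w) : ℕ) : WithBot ℕ∞) = FlatMor.fibreDimAt f (ι wx)) :
    EGA43.IsEquidimAt (ι ≫ f) wx := by
  obtain ⟨e, U', hwU', H1', H2', -⟩ := isEquidimAt_facts' (ι ≫ f) w hequi
  have hmaxg : ∀ z' : W, (ι ≫ f) z' = (ι ≫ f) w → z' ⤳ w → z' = w := by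
    intro z' hz' hsp
    exact ι.isEmbedding.injective (hmax (ι z') hz' (hsp.map ι.continuous))
  have hgenU : genericPoint W ∈ U' := (genericPoint_specializes w).mem_open U'.2 hwU'
  have hgenmax : ∀ ξ' : W, ξ' ⤳ genericPoint W → ξ' = genericPoint W := by
    intro ξ' hsp
    exact (hsp.antisymm (genericPoint_specializes ξ')).eq
  have he : tr (ι ≫ f) w = e := H2' w hwU' hmaxg
  have hegen : tr (ι ≫ f) (genericPoint W) = e :=
    H2' _ hgenU (fun z' _ hsp => hgenmax z' hsp)
  obtain ⟨d', hd', O, hwxO, hO⟩ := exists_open_fibreDimAt_le (ι ≫ f) wx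
  have hd'e : d' ≤ e := by
    have h1 : FlatMor.fibreDimAt (ι ≫ f) wx ≤ (e : WithBot ℕ∞) := by
      apply fibreDimAt_le_of_max_tr_le_nn
      intro z'' hz'' hsp _
      rw [tr_comp_closedImmersion]
      have h2 := tr_le_fibreDimAt_of_specializes_nn f (ι wx) (ι z'') (hsp.map ι.continuous)
      rw [← htr, ← tr_comp_closedImmersion f ι w, he] at h2
      exact_mod_cast h2
    rw [hd'] at h1
    exact_mod_cast h1
  apply isEquidimAt_of_facts_nn (ι ≫ f) wx e O hwxO
  · intro ξ' _ hmaxξ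
    have h1 : genericPoint W ⤳ ξ' := genericPoint_specializes ξ'
    have h2 := hmaxξ _ h1
    rw [← h2]
    have h3 := H1' _ hgenU hgenmax
    refine ⟨h3.1, ?_⟩
    have h4 : (ι ≫ f) wx = (ι ≫ f) w := hfib.symm
    rw [h4]
    exact h3.2
  · intro z' hz'O hmaxz'
    have h1 := fibreDimAt_eq_tr_of_max_nn (ι ≫ f) z' hmaxz'
    apply le_antisymm
    · have h2 := hO z' hz'O
      rw [h1] at h2
      have h3 : tr (ι ≫ f) z' ≤ d' := by exact_mod_cast h2
      omega
    · have h2 := tr_le_fibreDimAt_of_specializes_nn (ι ≫ f) z' (genericPoint W)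
        (genericPoint_specializes z')
      rw [h1, hegen] at h2
      exact_mod_cast h2

end Core



section NN2
variable {X Y : Scheme.{u}} (f : X ⟶ Y) [LocallyOfFiniteType f]

end NN2

section Main
variable {X Y : Scheme.{u}} (f : X ⟶ Y) [LocallyOfFiniteType f]

/-- there is a maximal point of the fibre generizing `x` whose residual transcendence degree is
the local dimension of the fibre at `x` -/
theorem exists_max_tr_eq_fibreDimAt (x : X) :
    ∃ z : X, f z = f x ∧ z ⤳ x ∧ (∀ z' : X, f z' = f z → z' ⤳ z → z' = z) ∧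
      ((tr f z : ℕ) : WithBot ℕ∞) = FlatMor.fibreDimAt f x := by
  obtain ⟨d, hd, -⟩ := exists_open_fibreDimAt_le f x
  by_contra hcon
  push Not at hcon
  have hlt : ∀ z : X, f z = f x → z ⤳ x → (∀ z' : X, f z' = f z → z' ⤳ z → z' = z) →
      tr f z < d := by
    intro z hz hsp hmax
    have h1 := tr_le_fibreDimAt_of_specializes_nn f x z hsp
    have h2 := hcon z hz hsp hmax
    rw [hd] at h1 h2
    have h3 : tr f z ≤ d := by exact_mod_cast h1
    have h4 : tr f z ≠ d := fun h => h2 (by rw [h])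
    omega
  obtain ⟨z₀, hz₀, hmax₀⟩ := exists_isMax_ge_fib f (f x) ⟨x, rfl⟩
  have hmax' : ∀ z' : X, f z' = f z₀.1 → z' ⤳ z₀.1 → z' = z₀.1 := by
    intro z' hz' hsp'
    have h1 : z₀ ≤ ⟨z', hz'.trans z₀.2⟩ := hsp'
    have h2 : z₀.1 ⤳ z' := hmax₀ h1
    exact (hsp'.antisymm h2).eq
  have hd1 : 1 ≤ d := by
    have := hlt z₀.1 z₀.2 hz₀ hmax'
    omega
  have h5 : FlatMor.fibreDimAt f x ≤ ((d - 1 : ℕ) : WithBot ℕ∞) := by
    apply fibreDimAt_le_of_max_tr_le_nn
    intro z hz hsp hmax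
    have := hlt z hz hsp hmax
    omega
  rw [hd] at h5
  have h6 : d ≤ d - 1 := by exact_mod_cast h5
  omega

theorem S14079_main {X S : Scheme.{u}} (f : X ⟶ S) [LocallyOfFiniteType f]
    (h : ∀ x : X, (∀ x' : X, f.base x' = f.base x → x ∈ closure ({x'} : Set X) → x' = x) →
      ∃ W : TopologicalSpace.Closeds X, (W : Set X) ∈ irreducibleComponents (X : Type u) ∧
      ∃ w : ↥((Scheme.IdealSheafData.vanishingIdeal W).subscheme),
        (Scheme.IdealSheafData.vanishingIdeal W).subschemeι.base w = x ∧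
        EGA43.IsEquidimAt ((Scheme.IdealSheafData.vanishingIdeal W).subschemeι ≫ f) w)
    (x : X) :
    ∃ W : TopologicalSpace.Closeds X, (W : Set X) ∈ irreducibleComponents (X : Type u) ∧
      ∃ w : ↥((Scheme.IdealSheafData.vanishingIdeal W).subscheme),
        (Scheme.IdealSheafData.vanishingIdeal W).subschemeι.base w = x ∧
        EGA43.IsEquidimAt ((Scheme.IdealSheafData.vanishingIdeal W).subschemeι ≫ f) w := by
  obtain ⟨z, hz, hsp, hmax, htr⟩ := exists_max_tr_eq_fibreDimAt f x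
  obtain ⟨W, hW, w, hw, hequi⟩ := h z (fun x' hx' hmem =>
    hmax x' hx' (specializes_iff_mem_closure.mpr hmem))
  refine ⟨W, hW, ?_⟩
  have hr : Set.range (Scheme.IdealSheafData.vanishingIdeal W).subschemeι = (W : Set X) := by
    rw [Scheme.IdealSheafData.range_subschemeι, Scheme.IdealSheafData.coe_support_vanishingIdeal]
  have hzW : z ∈ (W : Set X) := by
    rw [← hr]
    exact ⟨w, hw⟩
  have hxW : x ∈ Set.range (Scheme.IdealSheafData.vanishingIdeal W).subschemeι := by
    rw [hr]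
    exact hsp.mem_closed W.2 hzW
  obtain ⟨wx, hwx⟩ := hxW
  refine ⟨wx, hwx, ?_⟩
  haveI : IrreducibleSpace ↥(Scheme.IdealSheafData.vanishingIdeal W).subscheme :=
    irreducibleSpace_vanishingIdeal_subscheme W hW.1
  have hw' : (Scheme.IdealSheafData.vanishingIdeal W).subschemeι w = z := hw
  have hwx' : (Scheme.IdealSheafData.vanishingIdeal W).subschemeι wx = x := hwx
  apply S14079_core f _ w wx hequi
  · rw [hw', hwx', hz]
  · rw [hw']
    exact hmax
  · rw [hw', hwx']
    exact htr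

end Main


end Groth.Agent.Lib.Helper4.Equi10
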