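import Mathlib
import Groth.Prelude.Def_Cyc
import Groth.Agent.Lib.Helper4.JacDim1
import Groth.Prelude.Def_EGA43
import Groth.Agent.Lib.Helper4.FibreStalkDim1
import Groth.Agent.Lib.Helper4.DimFT1
import Groth.Agent.Lib.Helper4.DimFT2
import Groth.Agent.Lib.Helper4.Chev8
import Groth.Agent.Lib.Helper4.FibDim7
import Groth.Agent.Lib.Helper4.EffCartierDim1
import Groth.Agent.Lib.Helper4.JacDim4
import Groth.Agent.Lib.Helper4.Chev9
import Groth.Agent.Lib.Helper4.Chev10
import Groth.Agent.Lib.Helper4.Chev11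
import Groth.Agent.Lib.Helper4.Equi1
import Groth.Agent.Lib.Helper4.Equi2
import Groth.Agent.Lib.Helper4.Equi3
import Groth.Agent.Lib.Helper4.Equi4
import Groth.Agent.Lib.Helper4.Equi5
import Groth.Agent.Lib.Helper4.Equi6
import Groth.Agent.Lib.Helper4.Equi7
import Groth.Agent.Lib.Helper4.Aff1
import Groth.Agent.Lib.Helper4.Aff2
import Groth.Agent.Lib.Helper4.Equi10

/-!
# Residual transcendence degrees under base change: points of fibre products via field-valued points (helper4)
-/

set_option backward.isDefEq.respectTransparency.types false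
set_option synthInstance.maxHeartbeats 400000
set_option autoImplicit false
set_option linter.unusedSectionVars false
set_option linter.style.haveILetI false
set_option linter.unusedSimpArgs false
universe u v w
open CategoryTheory CategoryTheory.Limits AlgebraicGeometry TopologicalSpace IsLocalRing Opposite
open Cardinal AffineSpace MvPolynomial
open Groth.Agent.Lib.Helper4.DimIneq1 Groth.Agent.Lib.Helper4.DimFT2 Groth.Agent.Lib.Helper4.Catenary1
open Groth.Agent.Lib.Helper4.DimEq1 Groth.Agent.Lib.Helper4.DimIneq2 Groth.Agent.Lib.Helper4.DimEq2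
open Groth.Agent.Lib.Helper4.DimIneq3 Groth.Agent.Lib.Helper4.DimIneq4
open Groth.Agent.Lib.Helper4.NormFibre2 Groth.Agent.Lib.Helper4.RadBir3 Groth.Agent.Lib.Helper4.DimFT3
open Groth.Agent.Lib.Helper4.FibDim1 Groth.Agent.Lib.Helper4.FibDim2 Groth.Agent.Lib.Helper4.LocUC1
open Groth.Agent.Lib.Helper4.FibDim3 Groth.Agent.Lib.Helper4.FibDim4 Groth.Agent.Lib.Helper4.FibDim5
open Groth.Agent.Lib.Helper4.FibDim6 Groth.Agent.Lib.Helper4.FibDim7 Groth.Agent.Lib.Helper4.JacDim1
open Groth.Agent.Lib.Helper4.DimFT1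
open Groth.Agent.Lib.Helper4.Chev2 Groth.Agent.Lib.Helper4.Chev5 Groth.Agent.Lib.Helper4.Chev6 Groth.Agent.Lib.Helper4.Chev8
open Groth.Agent.Lib.Helper4.JacDim4 Groth.Agent.Lib.Helper4.EffCartierDim1
open Groth.Agent.Lib.Helper4.Chev9 Groth.Agent.Lib.Helper4.Chev4
open Groth.Agent.Lib.Helper4.Chev10 Groth.Agent.Lib.Helper4.Chev11 Groth.Agent.Lib.Helper4.Chev3 Groth.Agent.Lib.Helper4.Equi1 Groth.Agent.Lib.Helper4.Equi2 Groth.Agent.Lib.Helper4.OpenAt1 Groth.Agent.Lib.Helper4.Equi3 Groth.Agent.Lib.Helper4.Equi4 Groth.Agent.Lib.Helper4.Equi5 Groth.Agent.Lib.Helper4.Equi6 Groth.Agent.Lib.Helper4.Equi7 Groth.Agent.Lib.Helper4.Aff1 Groth.Agent.Lib.Helper4.Aff2 Groth.Agent.Lib.Helper4.Equi10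

namespace Groth.Agent.Lib.Helper4.BaseChg1

section CoreL
open TensorProduct

/-- algebraically independent elements stay algebraically independent after tensoring with a
field extension -/
theorem algebraicIndependent_one_tmul {k K₁ K₂ : Type u} [Field k] [Field K₁] [Field K₂]
    [Algebra k K₁] [Algebra k K₂] {ι : Type u} (t : ι → K₁) (ht : AlgebraicIndependent k t) :
    AlgebraicIndependent K₂ (fun i => ((1 : K₂) ⊗ₜ[k] t i : K₂ ⊗[k] K₁)) := by
  rw [algebraicIndependent_iff_injective_aeval]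
  have hcomp : (MvPolynomial.aeval (fun i => ((1 : K₂) ⊗ₜ[k] t i : K₂ ⊗[k] K₁)) :
      MvPolynomial ι K₂ →ₐ[K₂] K₂ ⊗[k] K₁) =
      (Algebra.TensorProduct.map (AlgHom.id K₂ K₂)
        (MvPolynomial.aeval t : MvPolynomial ι k →ₐ[k] K₁)).comp
        (MvPolynomial.algebraTensorAlgEquiv k K₂).symm.toAlgHom := by
    apply MvPolynomial.algHom_ext
    intro i
    simp
  rw [hcomp]
  have hinj : Function.Injective (Algebra.TensorProduct.map (AlgHom.id K₂ K₂)
      (MvPolynomial.aeval t : MvPolynomial ι k →ₐ[k] K₁)) := by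
    have h1 : Function.Injective ((MvPolynomial.aeval t : MvPolynomial ι k →ₐ[k] K₁).toLinearMap) :=
      (algebraicIndependent_iff_injective_aeval.mp ht)
    have h2 := Module.Flat.lTensor_preserves_injective_linearMap (M := K₂)
      ((MvPolynomial.aeval t : MvPolynomial ι k →ₐ[k] K₁).toLinearMap) h1
    intro a b hab
    apply h2
    exact hab
  intro a b hab
  have := hinj hab
  exact (MvPolynomial.algebraTensorAlgEquiv k K₂).symm.injective this

/-- a compositum of two field extensions in which given algebraically independent elements of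
the first stay algebraically independent over the second -/
theorem exists_field_compositum_algIndep {k K₁ K₂ : Type u} [Field k] [Field K₁] [Field K₂]
    [Algebra k K₁] [Algebra k K₂] {ι : Type u} (t : ι → K₁) (ht : AlgebraicIndependent k t) :
    ∃ (Ω : Type u) (_ : Field Ω) (a₁ : K₁ →+* Ω) (a₂ : K₂ →+* Ω),
      a₁.comp (algebraMap k K₁) = a₂.comp (algebraMap k K₂) ∧
      (letI := a₂.toAlgebra; AlgebraicIndependent K₂ (fun i => a₁ (t i))) := by
  have hind := algebraicIndependent_one_tmul (K₂ := K₂) t ht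
  have hinj : Function.Injective (MvPolynomial.aeval
      (fun i => ((1 : K₂) ⊗ₜ[k] t i : K₂ ⊗[k] K₁)) : MvPolynomial ι K₂ →ₐ[K₂] K₂ ⊗[k] K₁) :=
    algebraicIndependent_iff_injective_aeval.mp hind
  have hmin : (⊥ : Ideal (MvPolynomial ι K₂)) ∈ minimalPrimes (MvPolynomial ι K₂) := by
    rw [IsDomain.minimalPrimes_eq_singleton_bot]
    rfl
  obtain ⟨P, hP, hPc⟩ := Ideal.exists_comap_eq_of_mem_minimalPrimes_of_injective
    (f := (MvPolynomial.aeval (fun i => ((1 : K₂) ⊗ₜ[k] t i : K₂ ⊗[k] K₁)) :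
      MvPolynomial ι K₂ →ₐ[K₂] K₂ ⊗[k] K₁).toRingHom) hinj ⊥ hmin
  let q : K₂ ⊗[k] K₁ →+* FractionRing ((K₂ ⊗[k] K₁) ⧸ P) :=
    (algebraMap ((K₂ ⊗[k] K₁) ⧸ P) (FractionRing ((K₂ ⊗[k] K₁) ⧸ P))).comp (Ideal.Quotient.mk P)
  have hqker : ∀ z : K₂ ⊗[k] K₁, q z = 0 → z ∈ P := by
    intro z hz
    have h1 : Ideal.Quotient.mk P z = 0 :=
      (IsFractionRing.injective ((K₂ ⊗[k] K₁) ⧸ P) (FractionRing ((K₂ ⊗[k] K₁) ⧸ P)))
        (by rw [map_zero]; exact hz)
    exact Ideal.Quotient.eq_zero_iff_mem.mp h1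
  refine ⟨FractionRing ((K₂ ⊗[k] K₁) ⧸ P), inferInstance,
    q.comp (Algebra.TensorProduct.includeRight : K₁ →ₐ[k] K₂ ⊗[k] K₁).toRingHom,
    q.comp (Algebra.TensorProduct.includeLeftRingHom : K₂ →+* K₂ ⊗[k] K₁), ?_, ?_⟩
  · ext c
    simp only [RingHom.comp_apply, AlgHom.toRingHom_eq_coe, RingHom.coe_coe,
      Algebra.TensorProduct.includeRight_apply, Algebra.TensorProduct.includeLeftRingHom_apply]
    congr 1
    rw [Algebra.algebraMap_eq_smul_one, Algebra.algebraMap_eq_smul_one, TensorProduct.tmul_smul,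
      TensorProduct.smul_tmul']
  · letI alg : Algebra K₂ (FractionRing ((K₂ ⊗[k] K₁) ⧸ P)) :=
      (q.comp (Algebra.TensorProduct.includeLeftRingHom : K₂ →+* K₂ ⊗[k] K₁)).toAlgebra
    rw [algebraicIndependent_iff]
    intro F hF
    have hhom : ((MvPolynomial.aeval (fun i => (q.comp (Algebra.TensorProduct.includeRight :
        K₁ →ₐ[k] K₂ ⊗[k] K₁).toRingHom) (t i)) :
        MvPolynomial ι K₂ →ₐ[K₂] FractionRing ((K₂ ⊗[k] K₁) ⧸ P)) : MvPolynomial ι K₂ →+* _) =
        q.comp ((MvPolynomial.aeval (fun i => ((1 : K₂) ⊗ₜ[k] t i : K₂ ⊗[k] K₁)) :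
          MvPolynomial ι K₂ →ₐ[K₂] K₂ ⊗[k] K₁) : MvPolynomial ι K₂ →+* _) := by
      apply MvPolynomial.ringHom_ext
      · intro c
        simp only [RingHom.coe_coe, MvPolynomial.algHom_C, RingHom.comp_apply]
        rfl
      · intro i
        simp
    have h1 : q ((MvPolynomial.aeval (fun i => ((1 : K₂) ⊗ₜ[k] t i : K₂ ⊗[k] K₁)) :
        MvPolynomial ι K₂ →ₐ[K₂] K₂ ⊗[k] K₁) F) = 0 := by
      rw [← hF]
      exact (congrArg (fun φ : MvPolynomial ι K₂ →+* _ => φ F) hhom).symm
    have h2 := hqker _ h1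
    have h3 : F ∈ P.comap ((MvPolynomial.aeval (fun i => ((1 : K₂) ⊗ₜ[k] t i : K₂ ⊗[k] K₁)) :
      MvPolynomial ι K₂ →ₐ[K₂] K₂ ⊗[k] K₁).toRingHom) := h2
    rw [hPc] at h3
    exact h3

end CoreL



section CoreU

/-- if a field is generated by the images of two subfields, its transcendence degree over the
second is at most the transcendence degree of the first over a common subfield -/
theorem trdeg_le_of_generated {k K₁ K₂ Ω : Type u} [Field k] [Field K₁] [Field K₂] [Field Ω]
    [Algebra k K₁] (a₁ : K₁ →+* Ω) (a₂ : K₂ →+* Ω) (c₂ : k →+* K₂)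
    (hcomp : a₁.comp (algebraMap k K₁) = a₂.comp c₂)
    (hgen : ∀ F : Subfield Ω, Set.range a₁ ⊆ F → Set.range a₂ ⊆ F → F = ⊤) :
    @Algebra.trdeg K₂ Ω _ _ a₂.toAlgebra ≤ Algebra.trdeg k K₁ := by
  letI : Algebra K₂ Ω := a₂.toAlgebra
  obtain ⟨s, hs⟩ := exists_isTranscendenceBasis k K₁
  have hA₀ := hs.isAlgebraic
  have hmem : ∀ x : K₁, x ∈ Algebra.adjoin k (Set.range ((↑) : s → K₁)) →
      a₁ x ∈ Algebra.adjoin K₂ (a₁ '' s) := by
    intro x hx
    induction hx using Algebra.adjoin_induction with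
    | mem x hx =>
      obtain ⟨i, rfl⟩ := hx
      exact Algebra.subset_adjoin ⟨i, i.2, rfl⟩
    | algebraMap r =>
      have h1 : a₁ (algebraMap k K₁ r) = algebraMap K₂ Ω (c₂ r) :=
        congrArg (fun ρ : k →+* Ω => ρ r) hcomp
      rw [h1]
      exact Subalgebra.algebraMap_mem _ _
    | add x y _ _ hx hy => rw [map_add]; exact Subalgebra.add_mem _ hx hy
    | mul x y _ _ hx hy => rw [map_mul]; exact Subalgebra.mul_mem _ hx hy
  let ρ : Algebra.adjoin k (Set.range ((↑) : s → K₁)) →+* Algebra.adjoin K₂ (a₁ '' s) :=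
    { toFun := fun x => ⟨a₁ x.1, hmem x.1 x.2⟩
      map_one' := Subtype.ext (map_one a₁)
      map_mul' := fun x y => Subtype.ext (map_mul a₁ x.1 y.1)
      map_zero' := Subtype.ext (map_zero a₁)
      map_add' := fun x y => Subtype.ext (map_add a₁ x.1 y.1) }
  have hρ : Function.Injective ρ := by
    intro x y hxy
    have h1 : a₁ x.1 = a₁ y.1 := congrArg Subtype.val hxy
    exact Subtype.ext (a₁.injective h1)
  have halg1 : ∀ z : K₁, IsAlgebraic (Algebra.adjoin K₂ (a₁ '' s)) (a₁ z) := by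
    intro z
    have h1 : IsAlgebraic (Algebra.adjoin k (Set.range ((↑) : s → K₁))) z :=
      Algebra.IsAlgebraic.isAlgebraic z
    exact h1.ringHom_of_comp_eq ρ a₁ hρ (by ext x; rfl)
  let F : Subfield Ω :=
    { carrier := {z | IsAlgebraic (Algebra.adjoin K₂ (a₁ '' s)) z}
      mul_mem' := fun ha hb => ha.mul hb
      one_mem' := isAlgebraic_one
      add_mem' := fun ha hb => ha.add hb
      zero_mem' := isAlgebraic_zero
      neg_mem' := fun ha => ha.neg
      inv_mem' := fun _ ha => ha.inv }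
  have hF := hgen F (by rintro _ ⟨z, rfl⟩; exact halg1 z) (by
    rintro _ ⟨c, rfl⟩
    change IsAlgebraic (Algebra.adjoin K₂ (a₁ '' s)) (a₂ c)
    have : a₂ c = algebraMap (Algebra.adjoin K₂ (a₁ '' s)) Ω (algebraMap K₂ _ c) := rfl
    rw [this]
    exact isAlgebraic_algebraMap _)
  haveI : Algebra.IsAlgebraic (Algebra.adjoin K₂ (a₁ '' s)) Ω := by
    constructor
    intro z
    have : z ∈ F := by rw [hF]; trivial
    exact this
  calc Algebra.trdeg K₂ Ω ≤ #(a₁ '' s : Set Ω) := Algebra.IsAlgebraic.trdeg_le_cardinalMk K₂ _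
    _ ≤ #s := Cardinal.mk_image_le
    _ = Algebra.trdeg k K₁ := hs.cardinalMk_eq_trdeg

end CoreU



section FieldPts
variable {Ω : Type u} [Field Ω] {Z S : Scheme.{u}}

/-- the embedding of the residue field of the image point induced by a morphism from the spectrum
of a field -/
noncomputable def emb (φ : Spec (.of Ω) ⟶ Z) : Z.residueField (φ (closedPoint Ω)) ⟶ .of Ω :=
  Z.descResidueField (Scheme.stalkClosedPointTo φ)

theorem emb_comp (φ : Spec (.of Ω) ⟶ Z) (ψ : Z ⟶ S) :
    emb (φ ≫ ψ) = ψ.residueFieldMap (φ (closedPoint Ω)) ≫ emb φ :=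
  Scheme.descResidueField_stalkClosedPointTo_comp ψ φ

theorem emb_mk (z : Z) (a : Z.residueField z ⟶ .of Ω) :
    ∃ e : (Spec.map a ≫ Z.fromSpecResidueField z) (closedPoint Ω) = z,
      emb (Spec.map a ≫ Z.fromSpecResidueField z) = (Z.residueFieldCongr e).hom ≫ a := by
  have h := (Scheme.SpecToEquivOfField Ω Z).right_inv ⟨z, a⟩
  exact Scheme.SpecToEquivOfField_eq_iff.mp h

theorem emb_injective (φ : Spec (.of Ω) ⟶ Z) : Function.Injective (emb φ).hom :=
  (emb φ).hom.injective

end FieldPts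



section FieldPts
variable {Ω : Type u} [Field Ω] {Z S : Scheme.{u}}


theorem range_emb_congr {φ₁ φ₂ : Spec (.of Ω) ⟶ Z} (h : φ₁ = φ₂) :
    Set.range (emb φ₁).hom = Set.range (emb φ₂).hom := by
  subst h
  rfl

theorem range_emb_mk (z : Z) (a : Z.residueField z ⟶ .of Ω) :
    Set.range (emb (Spec.map a ≫ Z.fromSpecResidueField z)).hom = Set.range a.hom := by
  obtain ⟨e, he⟩ := emb_mk z a
  rw [he]
  ext c
  constructor
  · rintro ⟨r, rfl⟩
    exact ⟨_, rfl⟩
  · rintro ⟨r, rfl⟩
    refine ⟨(Z.residueFieldCongr e).inv.hom r, ?_⟩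
    change a.hom ((Z.residueFieldCongr e).hom.hom ((Z.residueFieldCongr e).inv.hom r)) = _
    have : (Z.residueFieldCongr e).hom.hom ((Z.residueFieldCongr e).inv.hom r) = r := by
      change ((Z.residueFieldCongr e).inv ≫ (Z.residueFieldCongr e).hom).hom r = r
      rw [Iso.inv_hom_id]
      rfl
    rw [this]

theorem range_emb_comp_subset (φ : Spec (.of Ω) ⟶ Z) (ψ : Z ⟶ S) :
    Set.range (emb (φ ≫ ψ)).hom ⊆ Set.range (emb φ).hom := by
  rw [emb_comp]
  rintro _ ⟨r, rfl⟩
  exact ⟨_, rfl⟩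

theorem algIndep_emb_congr {φ₁ φ₂ : Spec (.of Ω) ⟶ Z} (h : φ₁ = φ₂) {ι : Type u} (v : ι → Ω)
    (h1 : @AlgebraicIndependent ι (Z.residueField (φ₁ (closedPoint Ω))) Ω v _ _
      (emb φ₁).hom.toAlgebra) :
    @AlgebraicIndependent ι (Z.residueField (φ₂ (closedPoint Ω))) Ω v _ _
      (emb φ₂).hom.toAlgebra := by
  subst h
  exact h1

theorem algIndep_emb_mk (z : Z) (a : Z.residueField z ⟶ .of Ω) {ι : Type u} (v : ι → Ω)
    (h1 : @AlgebraicIndependent ι (Z.residueField z) Ω v _ _ a.hom.toAlgebra) :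
    @AlgebraicIndependent ι (Z.residueField ((Spec.map a ≫ Z.fromSpecResidueField z)
      (closedPoint Ω))) Ω v _ _ (emb (Spec.map a ≫ Z.fromSpecResidueField z)).hom.toAlgebra := by
  obtain ⟨e, he⟩ := emb_mk z a
  letI a1 : Algebra (Z.residueField z) Ω := a.hom.toAlgebra
  letI a2 : Algebra (Z.residueField ((Spec.map a ≫ Z.fromSpecResidueField z)
      (closedPoint Ω))) Ω := (emb (Spec.map a ≫ Z.fromSpecResidueField z)).hom.toAlgebra
  refine AlgebraicIndependent.of_ringHom_of_comp_eq (S := Z.residueField z) (B := Ω)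
    (f := (Z.residueFieldCongr e).hom.hom) (g := RingHom.id Ω) h1
    (Z.residueFieldCongr e).hom.hom.injective ?_
  ext r
  change a.hom ((Z.residueFieldCongr e).hom.hom r) =
    (emb (Spec.map a ≫ Z.fromSpecResidueField z)).hom r
  rw [he]
  rfl

/-- lower bound for the residual transcendence degree at the image of a field-valued point -/
theorem le_trc_of_fieldPoint (ψ : Z ⟶ S) (φ : Spec (.of Ω) ⟶ Z) {ι : Type u} (v : ι → Ω)
    (hv : ∀ i, v i ∈ Set.range (emb φ).hom)
    (hind : @AlgebraicIndependent ι (S.residueField ((φ ≫ ψ) (closedPoint Ω))) Ω v _ _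
      (emb (φ ≫ ψ)).hom.toAlgebra) :
    #ι ≤ trc ψ (φ (closedPoint Ω)) := by
  choose u hu using hv
  rw [emb_comp] at hind
  letI a1 : Algebra (S.residueField (ψ (φ (closedPoint Ω)))) (Z.residueField (φ (closedPoint Ω))) :=
    (ψ.residueFieldMap (φ (closedPoint Ω))).hom.toAlgebra
  letI a2 : Algebra (S.residueField (ψ (φ (closedPoint Ω)))) Ω :=
    (ψ.residueFieldMap (φ (closedPoint Ω)) ≫ emb φ).hom.toAlgebra
  have hind' : AlgebraicIndependent (S.residueField (ψ (φ (closedPoint Ω)))) u := by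
    refine AlgebraicIndependent.of_ringHom_of_comp_eq
      (S := S.residueField (ψ (φ (closedPoint Ω)))) (B := Ω)
      (f := RingHom.id _) (g := (emb φ).hom) ?_ Function.injective_id ?_
    · have : (emb φ).hom ∘ u = v := funext hu
      rw [this]
      exact hind
    · rfl
  exact hind'.cardinalMk_le_trdeg

end FieldPts



section FieldPts
variable {Ω : Type u} [Field Ω] {Z S : Scheme.{u}}


theorem emb_spec (φ : Spec (.of Ω) ⟶ Z) :
    Spec.map (emb φ) ≫ Z.fromSpecResidueField (φ (closedPoint Ω)) = φ :=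
  Scheme.descResidueField_stalkClosedPointTo_fromSpecResidueField Ω Z φ

/-- two pairs (point, embedding of its residue field) inducing the same morphism coincide -/
theorem eq_of_specMap_fromSpecResidueField_eq {z₁ z₂ : Z} (a₁ : Z.residueField z₁ ⟶ .of Ω)
    (a₂ : Z.residueField z₂ ⟶ .of Ω)
    (h : Spec.map a₁ ≫ Z.fromSpecResidueField z₁ = Spec.map a₂ ≫ Z.fromSpecResidueField z₂) :
    ∃ e : z₁ = z₂, a₁ = (Z.residueFieldCongr e).hom ≫ a₂ := by
  have h1 : (Scheme.SpecToEquivOfField Ω Z).symm ⟨z₁, a₁⟩ =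
      (Scheme.SpecToEquivOfField Ω Z).symm ⟨z₂, a₂⟩ := h
  have h2 := (Scheme.SpecToEquivOfField Ω Z).symm.injective h1
  exact Scheme.SpecToEquivOfField_eq_iff.mp h2

end FieldPts

section Gen
variable {X Y Y' : Scheme.{u}} (f : X ⟶ Y) (g : Y' ⟶ Y)

theorem residueFieldMap_pullback_condition (w : ↥(pullback f g)) :
    ∃ e : f (pullback.fst f g w) = g (pullback.snd f g w),
      f.residueFieldMap (pullback.fst f g w) ≫ (pullback.fst f g).residueFieldMap w =
        (Y.residueFieldCongr e).hom ≫ g.residueFieldMap (pullback.snd f g w) ≫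
          (pullback.snd f g).residueFieldMap w := by
  have e : f (pullback.fst f g w) = g (pullback.snd f g w) := by
    rw [← Scheme.Hom.comp_apply, ← Scheme.Hom.comp_apply, pullback.condition]
  refine ⟨e, ?_⟩
  rw [← Scheme.residueFieldMap_comp, ← Scheme.residueFieldMap_comp,
    Scheme.Hom.residueFieldMap_congr (pullback.condition (f := f) (g := g)) w]
  rfl

end Gen



section CoreL
end CoreL

section FieldPts
variable {Ω : Type u} [Field Ω] {Z S : Scheme.{u}}


end FieldPts

section BCL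
variable {X Y Y' : Scheme.{u}} (f : X ⟶ Y) [LocallyOfFiniteType f] (g : Y' ⟶ Y)

/-- base change, lower bound: over a pair of points with the same image there is a point of the
fibre product whose residual transcendence degree over the second factor is at least that of the
first point -/
theorem exists_tr_snd_ge (x : X) (y' : Y') (h : f x = g y') :
    ∃ w : ↥(pullback f g), pullback.fst f g w = x ∧ pullback.snd f g w = y' ∧
      tr f x ≤ tr (pullback.snd f g) w := by
  letI alg1 : Algebra (Y.residueField (f x)) (X.residueField x) :=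
    (f.residueFieldMap x).hom.toAlgebra
  letI alg2 : Algebra (Y.residueField (f x)) (Y'.residueField y') :=
    ((Y.residueFieldCongr h).hom ≫ g.residueFieldMap y').hom.toAlgebra
  obtain ⟨s, hs⟩ := exists_isTranscendenceBasis (Y.residueField (f x)) (X.residueField x)
  have hcard : #s = (tr f x : Cardinal.{u}) := by
    rw [hs.cardinalMk_eq_trdeg]
    exact tr_spec f x
  obtain ⟨Ω, _, a₁, a₂, hcomp, hind⟩ := exists_field_compositum_algIndep
    (k := Y.residueField (f x)) (K₁ := X.residueField x) (K₂ := Y'.residueField y')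
    (fun i : s => (i : X.residueField x)) hs.1
  obtain ⟨a, ha⟩ : ∃ a : Spec (.of Ω) ⟶ X,
      a = Spec.map (CommRingCat.ofHom a₁) ≫ X.fromSpecResidueField x := ⟨_, rfl⟩
  obtain ⟨b, hb⟩ : ∃ b : Spec (.of Ω) ⟶ Y',
      b = Spec.map (CommRingCat.ofHom a₂) ≫ Y'.fromSpecResidueField y' := ⟨_, rfl⟩
  have hab : a ≫ f = b ≫ g := by
    rw [ha, hb, Category.assoc, Category.assoc,
      ← Scheme.Hom.SpecMap_residueFieldMap_fromSpecResidueField,
      ← Scheme.Hom.SpecMap_residueFieldMap_fromSpecResidueField,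
      ← Scheme.residueFieldCongr_fromSpecResidueField h, ← Spec.map_comp_assoc,
      ← Spec.map_comp_assoc, ← Spec.map_comp_assoc]
    congr 2
    ext r
    exact congrArg (fun ρ : Y.residueField (f x) →+* Ω => ρ r) hcomp
  obtain ⟨φ, hφ1, hφ2⟩ : ∃ φ : Spec (.of Ω) ⟶ pullback f g,
      φ ≫ pullback.fst f g = a ∧ φ ≫ pullback.snd f g = b :=
    ⟨pullback.lift a b hab, pullback.lift_fst _ _ _, pullback.lift_snd _ _ _⟩
  have hax : a (closedPoint Ω) = x := by
    rw [ha, Scheme.Hom.comp_apply]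
    exact Scheme.fromSpecResidueField_apply _ _
  have hby : b (closedPoint Ω) = y' := by
    rw [hb, Scheme.Hom.comp_apply]
    exact Scheme.fromSpecResidueField_apply _ _
  have hr1 : Set.range (emb a).hom = Set.range a₁ := by
    rw [ha]
    exact range_emb_mk x (CommRingCat.ofHom a₁)
  have hr2 : Set.range (emb (φ ≫ pullback.fst f g)).hom = Set.range (emb a).hom :=
    range_emb_congr hφ1
  have hr3 := range_emb_comp_subset φ (pullback.fst f g)
  have hi1 : @AlgebraicIndependent s (Y'.residueField (b (closedPoint Ω))) Ω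
      (fun i : s => a₁ (i : X.residueField x)) _ _ (emb b).hom.toAlgebra := by
    rw [hb]
    exact algIndep_emb_mk y' (CommRingCat.ofHom a₂) _ hind
  have hi2 := algIndep_emb_congr hφ2.symm _ hi1
  refine ⟨φ (closedPoint Ω), ?_, ?_, ?_⟩
  · rw [← Scheme.Hom.comp_apply, hφ1]
    exact hax
  · rw [← Scheme.Hom.comp_apply, hφ2]
    exact hby
  · have key := le_trc_of_fieldPoint (pullback.snd f g) φ (fun i : s => a₁ (i : X.residueField x))
      (by
        intro i
        apply hr3
        rw [hr2, hr1]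
        exact ⟨_, rfl⟩) hi2
    rw [hcard, trc_eq_tr] at key
    exact_mod_cast key

end BCL



section FieldPts
variable {Ω : Type u} [Field Ω] {Z S : Scheme.{u}}


end FieldPts

section Gen
variable {X Y Y' : Scheme.{u}} (f : X ⟶ Y) (g : Y' ⟶ Y)

/-- the residue field of a point of a fibre product is generated by the residue fields of its
two projections -/
theorem residueField_pullback_generated (w : ↥(pullback f g))
    (F : Subfield ((pullback f g).residueField w))
    (h1 : Set.range ((pullback.fst f g).residueFieldMap w).hom ⊆ F)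
    (h2 : Set.range ((pullback.snd f g).residueFieldMap w).hom ⊆ F) : F = ⊤ := by
  obtain ⟨e, he⟩ := residueFieldMap_pullback_condition f g w
  let α₁ : X.residueField (pullback.fst f g w) →+* F :=
    ((pullback.fst f g).residueFieldMap w).hom.codRestrict F (fun r => h1 ⟨r, rfl⟩)
  let α₂ : Y'.residueField (pullback.snd f g w) →+* F :=
    ((pullback.snd f g).residueFieldMap w).hom.codRestrict F (fun r => h2 ⟨r, rfl⟩)
  have hι1 : CommRingCat.ofHom α₁ ≫ CommRingCat.ofHom F.subtype =
      (pullback.fst f g).residueFieldMap w := rfl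
  have hι2 : CommRingCat.ofHom α₂ ≫ CommRingCat.ofHom F.subtype =
      (pullback.snd f g).residueFieldMap w := rfl
  obtain ⟨a, ha⟩ : ∃ a : Spec (.of F) ⟶ X,
      a = Spec.map (CommRingCat.ofHom α₁) ≫ X.fromSpecResidueField _ := ⟨_, rfl⟩
  obtain ⟨b, hb⟩ : ∃ b : Spec (.of F) ⟶ Y',
      b = Spec.map (CommRingCat.ofHom α₂) ≫ Y'.fromSpecResidueField _ := ⟨_, rfl⟩
  have hab : a ≫ f = b ≫ g := by
    rw [ha, hb, Category.assoc, Category.assoc,
      ← Scheme.Hom.SpecMap_residueFieldMap_fromSpecResidueField,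
      ← Scheme.Hom.SpecMap_residueFieldMap_fromSpecResidueField,
      ← Scheme.residueFieldCongr_fromSpecResidueField e, ← Spec.map_comp_assoc,
      ← Spec.map_comp_assoc, ← Spec.map_comp_assoc]
    congr 2
    ext r
    have h3 := congrArg (fun ρ => ρ.hom r) he
    exact h3
  obtain ⟨χ, hχ1, hχ2⟩ : ∃ χ : Spec (.of F) ⟶ pullback f g,
      χ ≫ pullback.fst f g = a ∧ χ ≫ pullback.snd f g = b :=
    ⟨pullback.lift a b hab, pullback.lift_fst _ _ _, pullback.lift_snd _ _ _⟩
  have hχ : Spec.map (CommRingCat.ofHom F.subtype) ≫ χ =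
      (pullback f g).fromSpecResidueField w := by
    apply pullback.hom_ext
    · rw [Category.assoc, hχ1, ha, ← Spec.map_comp_assoc, hι1,
        Scheme.Hom.SpecMap_residueFieldMap_fromSpecResidueField]
    · rw [Category.assoc, hχ2, hb, ← Spec.map_comp_assoc, hι2,
        Scheme.Hom.SpecMap_residueFieldMap_fromSpecResidueField]
  have h3 : Spec.map (𝟙 ((pullback f g).residueField w)) ≫ (pullback f g).fromSpecResidueField w =
      Spec.map (emb χ ≫ CommRingCat.ofHom F.subtype) ≫
        (pullback f g).fromSpecResidueField (χ (closedPoint F)) := by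
    rw [Spec.map_id, Category.id_comp, Spec.map_comp, Category.assoc, emb_spec, hχ]
  obtain ⟨e', he'⟩ := eq_of_specMap_fromSpecResidueField_eq _ _ h3
  rw [eq_top_iff]
  intro z _
  have h4 := congrArg (fun ρ => ρ.hom z) he'
  change z = F.subtype ((emb χ).hom (((pullback f g).residueFieldCongr e').hom.hom z)) at h4
  rw [h4]
  exact Subtype.property _

end Gen



section CoreU
end CoreU

section Gen
variable {X Y Y' : Scheme.{u}} (f : X ⟶ Y) (g : Y' ⟶ Y)

end Gen

section BCU
variable {X Y Y' : Scheme.{u}} (f : X ⟶ Y) [LocallyOfFiniteType f] (g : Y' ⟶ Y)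

/-- base change does not increase the residual transcendence degree -/
theorem tr_snd_le (w : ↥(pullback f g)) :
    tr (pullback.snd f g) w ≤ tr f (pullback.fst f g w) := by
  obtain ⟨e, he⟩ := residueFieldMap_pullback_condition f g w
  letI alg1 : Algebra (Y.residueField (f (pullback.fst f g w)))
      (X.residueField (pullback.fst f g w)) := (f.residueFieldMap _).hom.toAlgebra
  have key := trdeg_le_of_generated (k := Y.residueField (f (pullback.fst f g w)))
    (K₁ := X.residueField (pullback.fst f g w)) (K₂ := Y'.residueField (pullback.snd f g w))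
    (Ω := (pullback f g).residueField w)
    ((pullback.fst f g).residueFieldMap w).hom ((pullback.snd f g).residueFieldMap w).hom
    ((Y.residueFieldCongr e).hom ≫ g.residueFieldMap (pullback.snd f g w)).hom
    (by
      ext r
      exact congrArg (fun ρ => ρ.hom r) he)
    (fun F h1 h2 => residueField_pullback_generated f g w F h1 h2)
  have h1 := tr_spec (pullback.snd f g) w
  have h2 := tr_spec f (pullback.fst f g w)
  rw [h2] at key
  have h3 : (tr (pullback.snd f g) w : Cardinal.{u}) ≤ (tr f (pullback.fst f g w) : Cardinal.{u}) := by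
    rw [← h1]
    exact key
  exact_mod_cast h3

end BCU


end Groth.Agent.Lib.Helper4.BaseChg1
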