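import Mathlib
import Groth.Prelude.Def_CAlg2

set_option backward.isDefEq.respectTransparency.types false
set_option synthInstance.maxHeartbeats 400000
set_option linter.unusedSectionVars false
set_option linter.style.haveILetI false

universe u
namespace Groth.Agent.Lib.Helper4.Unibranch

open IsLocalRing

theorem main {R : Type u} [CommRing R] [IsDomain R] [IsLocalRing R]
    (K : Type u) [Field K] [Algebra R K] [IsFractionRing R K]
    (hloc : IsLocalRing (integralClosure R K))
    {B : Type u} [CommRing B] [IsDomain B] [Algebra R B]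
    (hinj : Function.Injective (algebraMap R B)) [Algebra.IsIntegral R B]
    (n : Ideal B) [n.IsPrime] (hn : n.comap (algebraMap R B) = maximalIdeal R)
    (p : Ideal R) [p.IsPrime] :
    ∃ q : Ideal B, q.IsPrime ∧ q ≤ n ∧ q.comap (algebraMap R B) = p := by
  classical
  let L := FractionRing B
  have hRL : Function.Injective (algebraMap R L) := by
    rw [IsScalarTower.algebraMap_eq R B L]
    exact (IsFractionRing.injective B L).comp hinj
  let κ : K →+* L := IsFractionRing.lift hRL
  letI : Algebra K L := κ.toAlgebra
  haveI : IsScalarTower R K L := IsScalarTower.of_algebraMap_eq' (by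
    ext r
    simp [RingHom.algebraMap_toAlgebra, κ])
  let R' := integralClosure R K
  let C := integralClosure R L
  let φ : R' →ₐ[R] C :=
    AlgHom.codRestrict ((IsScalarTower.toAlgHom R K L).comp R'.val) C
      (fun x => IsIntegral.map (IsScalarTower.toAlgHom R K L) x.2)
  let ψ : B →ₐ[R] C :=
    AlgHom.codRestrict (IsScalarTower.toAlgHom R B L) C
      (fun b => (Algebra.IsIntegral.isIntegral b).map (IsScalarTower.toAlgHom R B L))
  have hφ : Function.Injective φ := by
    intro x y hxy
    have h1 : algebraMap K L (x : K) = algebraMap K L (y : K) := congrArg Subtype.val hxy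
    exact Subtype.ext ((algebraMap K L).injective h1)
  have hψ : Function.Injective ψ := by
    intro x y hxy
    have h1 : algebraMap B L x = algebraMap B L y := congrArg Subtype.val hxy
    exact IsFractionRing.injective B L h1
  letI : Algebra R' C := φ.toRingHom.toAlgebra
  letI : Algebra B C := ψ.toRingHom.toAlgebra
  haveI : IsScalarTower R R' C := IsScalarTower.of_algebraMap_eq'
    (RingHom.ext fun r => (φ.commutes r).symm)
  haveI : IsScalarTower R B C := IsScalarTower.of_algebraMap_eq'
    (RingHom.ext fun r => (ψ.commutes r).symm)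
  haveI : Algebra.IsIntegral R C := inferInstance
  haveI : Algebra.IsIntegral B C := Algebra.IsIntegral.tower_top (R := R)
  haveI : Algebra.IsIntegral R' C := Algebra.IsIntegral.tower_top (R := R)
  haveI : FaithfulSMul R' C := (faithfulSMul_iff_algebraMap_injective R' C).mpr hφ
  haveI : IsIntegrallyClosed R' := integralClosure.isIntegrallyClosedOfFiniteExtension K (L := K)
  haveI : Algebra.HasGoingDown R' C := inferInstance
  -- prime of C over n
  obtain ⟨n', hn'prime, hn'⟩ := Ideal.exists_ideal_over_prime_of_isIntegral_of_isDomain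
    (S := C) n (by
      have hψ' : Function.Injective (algebraMap B C) := hψ
      rw [(RingHom.injective_iff_ker_eq_bot _).mp hψ']; exact bot_le)
  -- m'' := n' ∩ R' is the maximal ideal of R'
  have hcomp1 : (algebraMap R' C).comp (algebraMap R R') = algebraMap R C :=
    (IsScalarTower.algebraMap_eq R R' C).symm
  have hcomp2 : (algebraMap B C).comp (algebraMap R B) = algebraMap R C :=
    (IsScalarTower.algebraMap_eq R B C).symm
  have hm'' : (n'.comap (algebraMap R' C)).comap (algebraMap R R') = maximalIdeal R := by
    rw [Ideal.comap_comap, hcomp1, ← hcomp2, ← Ideal.comap_comap, hn', hn]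
  haveI : (n'.comap (algebraMap R' C)).IsPrime := Ideal.comap_isPrime _ _
  haveI hmax : (n'.comap (algebraMap R' C)).IsMaximal :=
    Ideal.isMaximal_of_isIntegral_of_isMaximal_comap (R := R) _
      (by rw [hm'']; exact maximalIdeal.isMaximal R)
  have hmeq : n'.comap (algebraMap R' C) = maximalIdeal R' := IsLocalRing.eq_maximalIdeal hmax
  -- prime of R' over p
  obtain ⟨p', hp'prime, hp'⟩ := Ideal.exists_ideal_over_prime_of_isIntegral_of_isDomain
    (S := R') p (by
      rw [(RingHom.injective_iff_ker_eq_bot _).mp
        (FaithfulSMul.algebraMap_injective R R')]; exact bot_le)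
  have hle : p' ≤ n'.comap (algebraMap R' C) := by
    rw [hmeq]; exact IsLocalRing.le_maximalIdeal hp'prime.ne_top
  haveI : n'.LiesOver (n'.comap (algebraMap R' C)) := ⟨rfl⟩
  obtain ⟨q', hq'le, hq'prime, hq'over⟩ :=
    Ideal.exists_ideal_le_liesOver_of_le (p := p') (q := n'.comap (algebraMap R' C)) n' hle
  refine ⟨q'.comap (algebraMap B C), Ideal.comap_isPrime _ _, ?_, ?_⟩
  · rw [← hn']; exact Ideal.comap_mono hq'le
  · rw [Ideal.comap_comap, hcomp2, ← hcomp1, ← Ideal.comap_comap, ← hp']
    congr 1
    exact (hq'over.over).symm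

theorem S4935_main {A B : Type u} [CommRing A] [IsDomain A]
    [IsLocalRing A] (hA : CAlg2.IsUnibranch A) [CommRing B] [IsDomain B] [Algebra A B]
    (hinj : Function.Injective (algebraMap A B)) [Algebra.IsIntegral A B] (n : Ideal B) [n.IsPrime]
    (hn : n.comap (algebraMap A B) = IsLocalRing.maximalIdeal A) (p : Ideal A) [p.IsPrime] :
    ∃ q : Ideal B, q.IsPrime ∧ q ≤ n ∧ q.comap (algebraMap A B) = p := by
  have hnil : nilradical A = ⊥ := nilradical_eq_zero A
  let π : A →+* CAlg2.red A := Ideal.Quotient.mk (nilradical A)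
  have hπs : Function.Surjective π := Ideal.Quotient.mk_surjective
  have hπi : Function.Injective π := by
    rw [RingHom.injective_iff_ker_eq_bot, Ideal.mk_ker, hnil]
  haveI := hA.1
  haveI : IsLocalRing (CAlg2.red A) := IsLocalRing.of_surjective' π hπs
  haveI : IsLocalHom π := IsLocalHom.of_surjective π hπs
  let g : CAlg2.red A →+* B := Ideal.Quotient.lift (nilradical A) (algebraMap A B) (by
    intro a ha
    rw [hnil] at ha
    simp [Ideal.mem_bot.mp ha])
  have hg : g.comp π = algebraMap A B := Ideal.Quotient.lift_comp_mk _ _ _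
  letI : Algebra (CAlg2.red A) B := g.toAlgebra
  haveI : IsScalarTower A (CAlg2.red A) B := IsScalarTower.of_algebraMap_eq' hg.symm
  have hginj : Function.Injective (algebraMap (CAlg2.red A) B) := by
    intro x y hxy
    obtain ⟨a, rfl⟩ := hπs x
    obtain ⟨b, rfl⟩ := hπs y
    have : algebraMap A B a = algebraMap A B b := by
      rw [← hg]; exact hxy
    rw [hinj this]
  haveI : Algebra.IsIntegral (CAlg2.red A) B := Algebra.IsIntegral.tower_top (R := A)
  let e : A ≃+* CAlg2.red A := RingEquiv.ofBijective π ⟨hπi, hπs⟩
  haveI : (p.comap (e.symm : CAlg2.red A →+* A)).IsPrime := Ideal.comap_isPrime _ _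
  have hn' : n.comap (algebraMap (CAlg2.red A) B) = IsLocalRing.maximalIdeal (CAlg2.red A) := by
    apply Ideal.comap_injective_of_surjective π hπs
    rw [IsLocalRing.maximalIdeal_comap, Ideal.comap_comap]
    rw [show (algebraMap (CAlg2.red A) B).comp π = algebraMap A B from hg, hn]
  obtain ⟨q, hq, hqn, hqp⟩ := main (FractionRing (CAlg2.red A)) hA.2 hginj n hn'
    (p.comap (e.symm : CAlg2.red A →+* A))
  refine ⟨q, hq, hqn, ?_⟩
  rw [← hg, ← Ideal.comap_comap]
  rw [show Ideal.comap g q = Ideal.comap (algebraMap (CAlg2.red A) B) q from rfl, hqp,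
    Ideal.comap_comap]
  have : (e.symm : CAlg2.red A →+* A).comp π = RingHom.id A := by
    ext a
    exact e.symm_apply_apply a
  rw [this, Ideal.comap_id]

end Groth.Agent.Lib.Helper4.Unibranch

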