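import Mathlib
import Groth.Agent.Lib.Helper4.KrullAkizuki

/-!
# Discrete valuation rings dominating a Noetherian local domain
-/

set_option autoImplicit false
set_option linter.unusedSectionVars false
set_option linter.style.haveILetI false

namespace Groth.Agent.Lib.Helper4.DomDVR

universe u

section dimone
variable (R : Type u) [CommRing R] [IsDomain R] [IsNoetherianRing R] [IsLocalRing R]
variable (K : Type u) [Field K] [Algebra R K] [IsFractionRing R K]

/-- A finite-type subalgebra `S` of `K` over `R` and a height-one prime `q` of `S` containing the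
image of the maximal ideal of `R`. -/
theorem exists_blowup_prime (hR : ¬ IsField R) :
    ∃ (S : Subalgebra R K) (q : Ideal S), Algebra.FiniteType R S ∧ q.IsPrime ∧ q.height = 1 ∧
      (IsLocalRing.maximalIdeal R).map (algebraMap R S) ≤ q := by
  classical
  have hinj : Function.Injective (algebraMap R K) := IsFractionRing.injective R K
  obtain ⟨V, hV, hloc⟩ := IsLocalRing.exists_factor_valuationRing (algebraMap R K)
  obtain ⟨s, hs⟩ := (IsNoetherian.noetherian (IsLocalRing.maximalIdeal R))
  have hm0 : IsLocalRing.maximalIdeal R ≠ ⊥ := by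
    intro h
    exact hR (IsLocalRing.isField_iff_maximalIdeal_eq.2 h)
  -- valuation of elements of the maximal ideal
  have hvlt : ∀ a ∈ IsLocalRing.maximalIdeal R, V.valuation (algebraMap R K a) < 1 := by
    intro a ha
    have hnu : ¬ IsUnit ((algebraMap R K).codRestrict V.toSubring hV a) := by
      intro hu
      exact ha (hloc.map_nonunit a hu)
    have hmem : ((algebraMap R K).codRestrict V.toSubring hV a) ∈ IsLocalRing.maximalIdeal V := hnu
    exact (V.valuation_lt_one_iff _).1 hmem
  have hsne : s.Nonempty := by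
    rw [Finset.nonempty_iff_ne_empty]
    rintro rfl
    apply hm0
    rw [← hs]
    simp
  obtain ⟨x0, hx0s, hx0max⟩ := Finset.exists_max_image s (fun x => V.valuation (algebraMap R K x)) hsne
  have hx0m : x0 ∈ IsLocalRing.maximalIdeal R := by
    rw [← hs]; exact Submodule.subset_span hx0s
  have hx0 : x0 ≠ 0 := by
    intro h0
    apply hm0
    rw [← hs, eq_bot_iff, Ideal.span_le]
    intro x hx
    have h1 := hx0max x hx
    rw [h0, map_zero, map_zero] at h1
    have h2 : V.valuation (algebraMap R K x) = 0 := le_antisymm h1 zero_le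
    rw [map_eq_zero, map_eq_zero_iff _ hinj] at h2
    rw [h2]; exact Submodule.zero_mem _
  have hx0K : algebraMap R K x0 ≠ 0 := (map_ne_zero_iff _ hinj).2 hx0
  set gen : Set K := (fun x => algebraMap R K x / algebraMap R K x0) '' (s : Set R) with hgen
  set S : Subalgebra R K := Algebra.adjoin R gen with hS
  have hSV : ∀ z ∈ S, z ∈ V := by
    intro z hz
    induction hz using Algebra.adjoin_induction with
    | mem z hz =>
      obtain ⟨x, hx, rfl⟩ := hz
      rw [← V.valuation_le_one_iff, map_div₀]
      have hpos : 0 < V.valuation (algebraMap R K x0) := by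
        rw [Valuation.pos_iff]; exact hx0K
      rw [div_le_one₀ hpos]
      exact hx0max x hx
    | algebraMap r => exact hV r
    | add x y _ _ hx hy => exact V.add_mem _ _ hx hy
    | mul x y _ _ hx hy => exact V.mul_mem _ _ hx hy
  have hfin : gen.Finite := (Finset.finite_toSet s).image _
  have hFT : Algebra.FiniteType R S := by
    rw [← Subalgebra.fg_iff_finiteType]
    exact ⟨hfin.toFinset, by rw [Set.Finite.coe_toFinset]⟩
  set x0' : S := algebraMap R S x0 with hx0'
  have hx0'ne : x0' ≠ 0 := by
    intro h
    apply hx0K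
    have := congrArg Subtype.val h
    exact this
  set I : Ideal S := Ideal.span {x0'} with hI
  have hItop : I ≠ ⊤ := by
    intro h
    rw [hI, Ideal.span_singleton_eq_top] at h
    obtain ⟨u, hu⟩ := h.exists_right_inv
    have h1 : algebraMap R K x0 * (u : K) = 1 := by
      have := congrArg Subtype.val hu
      exact this
    have h2 := congrArg V.valuation h1
    rw [map_mul, map_one] at h2
    have h3 : V.valuation (u : K) ≤ 1 := (V.valuation_le_one_iff _).2 (hSV _ u.2)
    have h4 := hvlt x0 hx0m
    have : V.valuation (algebraMap R K x0) * V.valuation (u : K) < 1 := by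
      calc V.valuation (algebraMap R K x0) * V.valuation (u : K)
          ≤ V.valuation (algebraMap R K x0) * 1 := by gcongr
        _ = V.valuation (algebraMap R K x0) := mul_one _
        _ < 1 := h4
    rw [h2] at this
    exact lt_irrefl _ this
  obtain ⟨⟨q, hq⟩⟩ := Ideal.nonempty_minimalPrimes hItop
  have hqp : q.IsPrime := hq.1.1
  have hIq : I ≤ q := hq.1.2
  have hN : IsNoetherianRing S := Algebra.FiniteType.isNoetherianRing R S
  have hle : q.height ≤ 1 := Ideal.height_le_one_of_isPrincipal_of_mem_minimalPrimes I q hq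
  have hq0 : q ≠ ⊥ := by
    intro h
    apply hx0'ne
    have : x0' ∈ q := hIq (Ideal.mem_span_singleton_self x0')
    rw [h] at this
    exact this
  have hge : 1 ≤ q.height := by
    rw [Order.one_le_iff_pos, pos_iff_ne_zero, Ne, Ideal.height_eq_zero_iff_eq_bot]
    exact hq0
  refine ⟨S, q, hFT, hqp, le_antisymm hle hge, ?_⟩
  refine le_trans ?_ hIq
  rw [Ideal.map_le_iff_le_comap, ← hs, Ideal.span_le]
  intro x hx
  change algebraMap R S x ∈ I
  rw [hI, Ideal.mem_span_singleton']
  refine ⟨⟨algebraMap R K x / algebraMap R K x0, Algebra.subset_adjoin ⟨x, hx, rfl⟩⟩, ?_⟩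
  apply Subtype.ext
  change algebraMap R K x / algebraMap R K x0 * algebraMap R K x0 = algebraMap R K x
  exact div_mul_cancel₀ _ hx0K

theorem exists_dim_one (hR : ¬ IsField R) :
    ∃ R' : Subalgebra R K, ∃ _ : IsLocalRing R',
      IsNoetherianRing R' ∧ ringKrullDim R' = 1 ∧ IsLocalHom (algebraMap R R') ∧
        Algebra.EssFiniteType R R' := by
  classical
  obtain ⟨S, q, hFT, hqp, hht, hmq⟩ := exists_blowup_prime R K hR
  have hN : IsNoetherianRing S := Algebra.FiniteType.isNoetherianRing R S
  have hS : q.primeCompl ≤ nonZeroDivisors S := Ideal.primeCompl_le_nonZeroDivisors q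
  set T : Subalgebra S K := Localization.subalgebra.ofField K q.primeCompl hS with hT
  have hloc : IsLocalization.AtPrime T q := Localization.subalgebra.isLocalization_ofField K q.primeCompl hS
  have hTloc : IsLocalRing T := IsLocalization.AtPrime.isLocalRing T q
  have hTN : IsNoetherianRing T := IsLocalization.isNoetherianRing q.primeCompl T hN
  have hTdim : ringKrullDim T = 1 := by
    rw [IsLocalization.AtPrime.ringKrullDim_eq_height q T, hht]; rfl
  have hTess : Algebra.EssFiniteType S T := Algebra.EssFiniteType.of_isLocalization T q.primeCompl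
  refine ⟨T.restrictScalars R, hTloc, hTN, hTdim, ?_, ?_⟩
  · constructor
    intro a ha
    by_contra hna
    have ham : a ∈ IsLocalRing.maximalIdeal R := hna
    have h1 : algebraMap R S a ∈ q := hmq (Ideal.mem_map_of_mem _ ham)
    have h2 : algebraMap S T (algebraMap R S a) ∈ IsLocalRing.maximalIdeal T :=
      (IsLocalization.AtPrime.to_map_mem_maximal_iff T q _).2 h1
    exact h2 ha
  · exact Algebra.EssFiniteType.comp R S T

open IsDedekindDomain in
theorem exists_dvr_finite (hR : ¬ IsField R) (L : Type u) [Field L] [Algebra K L]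
    [FiniteDimensional K L] [Algebra R L] [IsScalarTower R K L] :
    ∃ W : ValuationSubring L, IsDiscreteValuationRing W ∧ (∀ a : R, algebraMap R L a ∈ W) ∧
      ∀ a ∈ IsLocalRing.maximalIdeal R, W.valuation (algebraMap R L a) < 1 := by
  classical
  obtain ⟨R', hloc, hN, hdim, hlh, -⟩ := exists_dim_one R K hR
  set B := integralClosure R' L with hB
  obtain ⟨hded, -, -, -⟩ := KA.dedekind_main R' K L B hdim
  haveI : IsFractionRing B L := IsIntegralClosure.isFractionRing_of_finite_extension R' K L B
  have hint : Algebra.IsIntegral R' B := inferInstance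
  have hinjR'B : Function.Injective (algebraMap R' B) := by
    intro a b hab
    have h1 := congrArg (algebraMap B L) hab
    rw [← IsScalarTower.algebraMap_apply, ← IsScalarTower.algebraMap_apply,
      IsScalarTower.algebraMap_apply R' K L, IsScalarTower.algebraMap_apply R' K L] at h1
    exact Subtype.ext ((algebraMap K L).injective h1)
  have hnfR' : ¬ IsField R' := by
    intro hf
    have := ringKrullDim_eq_zero_of_isField hf
    rw [hdim] at this
    exact one_ne_zero this
  have hnfB : ¬ IsField B := fun hf => hnfR' (isField_of_isIntegral_of_isField hinjR'B hf)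
  obtain ⟨n, hn⟩ := Ideal.exists_maximal B
  have hn0 : n ≠ ⊥ := Ring.ne_bot_of_isMaximal_of_not_isField hn hnfB
  let v : HeightOneSpectrum B := ⟨n, hn.isPrime, hn0⟩
  refine ⟨(v.valuation L).valuationSubring, inferInstance, ?_, ?_⟩
  · intro a
    have hmem : algebraMap R L a ∈ B := by
      have : algebraMap R L a = algebraMap R' L (algebraMap R R' a) := by
        rw [IsScalarTower.algebraMap_apply R K L]
        rfl
      rw [this]
      exact B.algebraMap_mem _
    exact v.valuation_le_one (⟨_, hmem⟩ : B)
  · intro a ha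
    have hmem : algebraMap R L a ∈ B := by
      have : algebraMap R L a = algebraMap R' L (algebraMap R R' a) := by
        rw [IsScalarTower.algebraMap_apply R K L]
        rfl
      rw [this]
      exact B.algebraMap_mem _
    have hcomap : n.comap (algebraMap R' B) = IsLocalRing.maximalIdeal R' := by
      have hmax : (n.comap (algebraMap R' B)).IsMaximal :=
        Ideal.isMaximal_comap_of_isIntegral_of_isMaximal (R := R') n
      exact IsLocalRing.eq_maximalIdeal hmax
    have h1 : algebraMap R R' a ∈ IsLocalRing.maximalIdeal R' := by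
      intro hu
      exact ha (hlh.map_nonunit a hu)
    rw [← hcomap, Ideal.mem_comap] at h1
    have h2 : (⟨algebraMap R L a, hmem⟩ : B) ∈ v.asIdeal := by
      have : (⟨algebraMap R L a, hmem⟩ : B) = algebraMap R' B (algebraMap R R' a) := by
        apply Subtype.ext
        change algebraMap R L a = algebraMap R' L (algebraMap R R' a)
        rw [IsScalarTower.algebraMap_apply R K L]
        rfl
      rw [this]
      exact h1
    have h3 : v.valuation L (algebraMap B L ⟨algebraMap R L a, hmem⟩) < 1 :=
      (v.valuation_lt_one_iff_mem _).2 h2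
    have h4 : v.valuation L (algebraMap R L a) < 1 := h3
    exact ((Valuation.isEquiv_valuation_valuationSubring (v.valuation L)).lt_one_iff_lt_one).1 h4

end dimone

section fg
variable (A : Type u) [CommRing A] [IsDomain A] [IsNoetherianRing A] [IsLocalRing A]
variable (K : Type u) [Field K] [Algebra A K] [IsFractionRing A K]
variable (L : Type u) [Field L] [Algebra K L] [Algebra A L] [IsScalarTower A K L]

theorem isPrime_map_C {ι : Type*} (m : Ideal A) [m.IsMaximal] :
    (Ideal.map (MvPolynomial.C : A →+* MvPolynomial ι A) m).IsPrime := by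
  have e := MvPolynomial.quotientEquivQuotientMvPolynomial (σ := ι) m
  letI : Field (A ⧸ m) := Ideal.Quotient.field m
  have hdom : IsDomain (MvPolynomial ι (A ⧸ m)) := inferInstance
  have : IsDomain (MvPolynomial ι A ⧸ Ideal.map (MvPolynomial.C : A →+* MvPolynomial ι A) m) :=
    e.toRingEquiv.toMulEquiv.isDomain_iff.1 hdom
  exact (Ideal.Quotient.isDomain_iff_prime _).1 this

theorem exists_dvr_fg (hA : ¬ IsField A) (hfg : (⊤ : IntermediateField K L).FG) :
    ∃ W : ValuationSubring L, IsDiscreteValuationRing W ∧ (∀ a : A, algebraMap A L a ∈ W) ∧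
      ∀ a ∈ IsLocalRing.maximalIdeal A, W.valuation (algebraMap A L a) < 1 := by
  classical
  have hinjAK : Function.Injective (algebraMap A K) := IsFractionRing.injective A K
  haveI : Algebra.EssFiniteType K L := IntermediateField.fg_top_iff.1 hfg
  obtain ⟨s, hs⟩ := exists_finset_isTranscendenceBasis K L
  set x : s → L := fun i => (i : L) with hx
  set E : IntermediateField K L := IntermediateField.adjoin K (Set.range x) with hE
  haveI : Algebra.IsAlgebraic E L := hs.isAlgebraic_field
  haveI : Algebra.EssFiniteType E L := Algebra.EssFiniteType.of_comp K E L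
  haveI : FiniteDimensional E L := Algebra.finite_of_essFiniteType_of_isAlgebraic
  have hxE : ∀ i, x i ∈ E := fun i => IntermediateField.subset_adjoin K _ (Set.mem_range_self i)
  have hAI : AlgebraicIndependent A x := hs.1.restrictScalars hinjAK
  haveI : IsScalarTower A E L := IsScalarTower.of_algebraMap_eq (fun a => by
    rw [IsScalarTower.algebraMap_apply A K L, IsScalarTower.algebraMap_apply A K E]
    rfl)
  set ψ : MvPolynomial s A →ₐ[A] E := MvPolynomial.aeval (fun i => (⟨x i, hxE i⟩ : E)) with hψ
  have hψφ : ∀ p, ((ψ p : E) : L) = MvPolynomial.aeval x p := by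
    intro p
    have : (IsScalarTower.toAlgHom A E L).comp ψ = MvPolynomial.aeval x := by
      apply MvPolynomial.algHom_ext
      intro i
      simp [hψ]
    exact congrArg (fun f : MvPolynomial s A →ₐ[A] L => f p) this
  have hψinj : Function.Injective ψ := by
    intro p q hpq
    apply hAI
    rw [← hψφ, ← hψφ, hpq]
  letI : Algebra (MvPolynomial s A) E := ψ.toRingHom.toAlgebra
  haveI : IsScalarTower A (MvPolynomial s A) E :=
    IsScalarTower.of_algebraMap_eq (fun a => (ψ.commutes a).symm)
  have hmapP : ∀ p : MvPolynomial s A, algebraMap (MvPolynomial s A) E p = ψ p := fun p => rfl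
  haveI : FaithfulSMul (MvPolynomial s A) E :=
    (faithfulSMul_iff_algebraMap_injective _ _).2 hψinj
  -- every element of E is a fraction
  have hfrac : ∀ l ∈ E, ∃ a b : MvPolynomial s A, MvPolynomial.aeval x b ≠ 0 ∧
      l = MvPolynomial.aeval x a / MvPolynomial.aeval x b := by
    intro l hl
    induction hl using IntermediateField.adjoin_induction with
    | mem l hl =>
      obtain ⟨i, rfl⟩ := hl
      exact ⟨MvPolynomial.X i, 1, by simp, by simp⟩
    | algebraMap k =>
      obtain ⟨a', b', hb', rfl⟩ := IsFractionRing.div_surjective (A := A) k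
      have hb'0 : b' ≠ 0 := nonZeroDivisors.ne_zero hb'
      refine ⟨MvPolynomial.C a', MvPolynomial.C b', ?_, ?_⟩
      · rw [MvPolynomial.aeval_C, IsScalarTower.algebraMap_apply A K L]
        exact (map_ne_zero_iff _ (algebraMap K L).injective).2 ((map_ne_zero_iff _ hinjAK).2 hb'0)
      · rw [MvPolynomial.aeval_C, MvPolynomial.aeval_C, map_div₀,
          ← IsScalarTower.algebraMap_apply A K L, ← IsScalarTower.algebraMap_apply A K L]
    | add l1 l2 _ _ h1 h2 =>
      obtain ⟨a, b, hb, rfl⟩ := h1
      obtain ⟨c, d, hd, rfl⟩ := h2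
      refine ⟨a * d + c * b, b * d, by rw [map_mul]; exact mul_ne_zero hb hd, ?_⟩
      rw [map_add, map_mul, map_mul, map_mul]
      field_simp
    | inv l _ h1 =>
      obtain ⟨a, b, hb, rfl⟩ := h1
      by_cases ha : MvPolynomial.aeval x a = 0
      · exact ⟨0, 1, by simp, by simp [ha]⟩
      · exact ⟨b, a, ha, by rw [inv_div]⟩
    | mul l1 l2 _ _ h1 h2 =>
      obtain ⟨a, b, hb, rfl⟩ := h1
      obtain ⟨c, d, hd, rfl⟩ := h2
      refine ⟨a * c, b * d, by rw [map_mul]; exact mul_ne_zero hb hd, ?_⟩
      rw [map_mul, map_mul]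
      field_simp
  haveI : IsFractionRing (MvPolynomial s A) E := by
    apply IsFractionRing.of_field
    intro z
    obtain ⟨a, b, hb, hz⟩ := hfrac z z.2
    refine ⟨a, b, ?_⟩
    apply Subtype.ext
    rw [hmapP, hmapP, IntermediateField.coe_div, hψφ, hψφ]
    exact hz
  set 𝔭 : Ideal (MvPolynomial s A) :=
    Ideal.map (MvPolynomial.C : A →+* MvPolynomial s A) (IsLocalRing.maximalIdeal A) with h𝔭
  haveI h𝔭p : 𝔭.IsPrime := isPrime_map_C A (IsLocalRing.maximalIdeal A)
  have hS : 𝔭.primeCompl ≤ nonZeroDivisors (MvPolynomial s A) := Ideal.primeCompl_le_nonZeroDivisors 𝔭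
  set R1 : Subalgebra (MvPolynomial s A) E := Localization.subalgebra.ofField E 𝔭.primeCompl hS with hR1
  haveI hloc : IsLocalization.AtPrime R1 𝔭 :=
    Localization.subalgebra.isLocalization_ofField E 𝔭.primeCompl hS
  haveI hR1loc : IsLocalRing R1 := IsLocalization.AtPrime.isLocalRing R1 𝔭
  haveI hR1N : IsNoetherianRing R1 := IsLocalization.isNoetherianRing 𝔭.primeCompl R1 inferInstance
  have hm0 : IsLocalRing.maximalIdeal A ≠ ⊥ := by
    intro h
    exact hA (IsLocalRing.isField_iff_maximalIdeal_eq.2 h)
  obtain ⟨a0, ha0m, ha00⟩ := Submodule.exists_mem_ne_zero_of_ne_bot hm0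
  have hinjPR1 : Function.Injective (algebraMap (MvPolynomial s A) R1) :=
    IsLocalization.injective R1 hS
  have hmemmax : ∀ a ∈ IsLocalRing.maximalIdeal A,
      algebraMap (MvPolynomial s A) R1 (MvPolynomial.C a) ∈ IsLocalRing.maximalIdeal R1 := by
    intro a ha
    exact (IsLocalization.AtPrime.to_map_mem_maximal_iff R1 𝔭 _).2 (Ideal.mem_map_of_mem _ ha)
  have hR1nf : ¬ IsField R1 := by
    intro hf
    have h1 := hmemmax a0 ha0m
    rw [IsLocalRing.isField_iff_maximalIdeal_eq.1 hf, Ideal.mem_bot] at h1
    have h2 : MvPolynomial.C a0 = (0 : MvPolynomial s A) := hinjPR1 (by rw [h1, map_zero])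
    exact ha00 (MvPolynomial.C_injective _ _ (by rw [h2, map_zero]))
  obtain ⟨W, hW, hmem, hlt⟩ := exists_dvr_finite R1 E hR1nf L
  have hkey : ∀ a : A, algebraMap A L a =
      algebraMap R1 L (algebraMap (MvPolynomial s A) R1 (MvPolynomial.C a)) := by
    intro a
    have h1 : algebraMap R1 L (algebraMap (MvPolynomial s A) R1 (MvPolynomial.C a)) =
        ((ψ (MvPolynomial.C a) : E) : L) := rfl
    rw [h1, hψφ, MvPolynomial.aeval_C]
  refine ⟨W, hW, ?_, ?_⟩
  · intro a
    rw [hkey]
    exact hmem _
  · intro a ha
    rw [hkey]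
    exact hlt _ (hmemmax a ha)

end fg

end Groth.Agent.Lib.Helper4.DomDVR
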