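import Mathlib
import Groth.Agent.Lib.Helper4.DomDVR

/-!
# Integral closure as intersection of DVRs (EGA II 7.1.7 corollaries)
-/

set_option autoImplicit false
set_option linter.unusedSectionVars false
set_option linter.style.haveILetI false

namespace Groth.Agent.Lib.Helper4.DomDVR

universe u

/-- abstract form: `g : B → L` injective from a Noetherian local domain (not a field), with `L`
finitely generated as a field over the image. -/
theorem exists_dvr_of_closure (B : Type u) [CommRing B] [IsDomain B] [IsNoetherianRing B]
    [IsLocalRing B] (hB : ¬ IsField B) (L : Type u) [Field L] (g : B →+* L)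
    (hg : Function.Injective g) (S : Finset L)
    (hS : Subfield.closure (Set.range g ∪ (S : Set L)) = ⊤) :
    ∃ W : ValuationSubring L, IsDiscreteValuationRing W ∧ (∀ b : B, g b ∈ W) ∧
      ∀ b ∈ IsLocalRing.maximalIdeal B, W.valuation (g b) < 1 := by
  classical
  letI : Algebra B L := g.toAlgebra
  letI : Algebra (FractionRing B) L := (IsFractionRing.lift (A := B) (K := FractionRing B) hg).toAlgebra
  haveI : IsScalarTower B (FractionRing B) L := IsScalarTower.of_algebraMap_eq (fun b => by
    change g b = IsFractionRing.lift hg (algebraMap B (FractionRing B) b)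
    rw [IsFractionRing.lift_algebraMap])
  have hfg : (⊤ : IntermediateField (FractionRing B) L).FG := by
    refine ⟨S, ?_⟩
    rw [eq_top_iff]
    intro l _
    have h1 : l ∈ (IntermediateField.adjoin (FractionRing B) (S : Set L)).toSubfield := by
      rw [IntermediateField.adjoin_toSubfield]
      have hle : Subfield.closure (Set.range g ∪ (S : Set L)) ≤
          Subfield.closure (Set.range (algebraMap (FractionRing B) L) ∪ (S : Set L)) := by
        apply Subfield.closure_mono
        apply Set.union_subset_union_left
        rintro _ ⟨b, rfl⟩
        exact ⟨algebraMap B (FractionRing B) b, (IsScalarTower.algebraMap_apply B (FractionRing B) L b).symm⟩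
      apply hle
      rw [hS]
      exact Subfield.mem_top l
    exact h1
  exact exists_dvr_fg B (FractionRing B) L hB hfg

section intclosure
variable (A : Type u) [CommRing A] [IsDomain A] [IsNoetherianRing A]
variable (K : Type u) [Field K] [Algebra A K] [IsFractionRing A K]
variable (L : Type u) [Field L] [Algebra K L] [Algebra A L] [IsScalarTower A K L]

theorem mem_of_isIntegral (x : L) (hx : IsIntegral A x) (W : ValuationSubring L)
    (hW : ∀ a : A, algebraMap A L a ∈ W) : x ∈ W := by
  obtain ⟨p, hp, hpx⟩ := hx
  set f : A →+* W := (algebraMap A L).codRestrict W.toSubring hW with hf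
  have hint : IsIntegral W x := by
    refine ⟨p.map f, hp.map f, ?_⟩
    rw [Polynomial.eval₂_map]
    exact hpx
  obtain ⟨w, hw⟩ := IsIntegrallyClosed.isIntegral_iff.1 hint
  rw [← hw]
  exact w.2

theorem S4434_main (hfg : (⊤ : IntermediateField K L).FG) (x : L) :
    IsIntegral A x ↔ ∀ R : ValuationSubring L, IsDiscreteValuationRing R →
      (∀ a : A, algebraMap A L a ∈ R) → x ∈ R := by
  classical
  constructor
  · intro hx R _ hR
    exact mem_of_isIntegral A L x hx R hR
  · intro h
    by_contra hni
    have hx0 : x ≠ 0 := by
      rintro rfl
      exact hni isIntegral_zero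
    set y : L := x⁻¹ with hy
    have hy0 : y ≠ 0 := inv_ne_zero hx0
    set A1 : Subalgebra A L := Algebra.adjoin A {y} with hA1
    have hyA1 : y ∈ A1 := Algebra.subset_adjoin rfl
    set y' : A1 := ⟨y, hyA1⟩ with hy'
    -- y' is not a unit
    have hnu : ¬ IsUnit y' := by
      intro hu
      obtain ⟨z, hz⟩ := hu.exists_right_inv
      have hzx : (z : L) = x := by
        have h1 : y * (z : L) = 1 := congrArg Subtype.val hz
        rw [hy] at h1
        field_simp at h1
        exact h1
      have hxA1 : x ∈ A1 := hzx ▸ z.2
      -- x ∈ A[x⁻¹] implies x integral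
      apply hni
      rw [hA1, Algebra.adjoin_singleton_eq_range_aeval] at hxA1
      obtain ⟨p, hp⟩ := hxA1
      have hp' : Polynomial.aeval y p = x := hp
      -- x^(n+1) = sum a_i x^(n-i)
      set n := p.natDegree with hn
      have hrel : x ^ (n + 1) = ∑ i ∈ Finset.range (n + 1), algebraMap A L (p.coeff i) * x ^ (n - i) := by
        rw [Polynomial.aeval_eq_sum_range] at hp'
        have h2 := congrArg (fun t => t * x ^ n) hp'
        simp only [Finset.sum_mul] at h2
        rw [pow_succ', ← h2]
        apply Finset.sum_congr rfl
        intro i hi
        have hi' : i ≤ n := Nat.lt_succ_iff.1 (Finset.mem_range.1 hi)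
        rw [Algebra.smul_def, mul_assoc]
        congr 1
        rw [hy, inv_pow, pow_sub₀ x hx0 hi', mul_comm]
      set r : Polynomial A := ∑ i ∈ Finset.range (n + 1),
        Polynomial.C (p.coeff i) * Polynomial.X ^ (n - i) with hr
      have hrdeg : r.degree ≤ n := by
        rw [hr]
        apply le_trans (Polynomial.degree_sum_le _ _)
        rw [Finset.sup_le_iff]
        intro i _
        apply le_trans (Polynomial.degree_C_mul_X_pow_le _ _)
        exact_mod_cast Nat.sub_le n i
      refine ⟨Polynomial.X ^ (n + 1) - r, Polynomial.monic_X_pow_sub (lt_of_le_of_lt hrdeg (by exact_mod_cast Nat.lt_succ_self n)), ?_⟩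
      rw [← Polynomial.aeval_def, map_sub, map_pow, Polynomial.aeval_X, hrel, hr, map_sum]
      rw [sub_eq_zero]
      apply Finset.sum_congr rfl
      intro i _
      rw [map_mul, Polynomial.aeval_C, map_pow, Polynomial.aeval_X]
    obtain ⟨n, hnmax, hyn⟩ := exists_max_ideal_of_mem_nonunits (show y' ∈ nonunits A1 from hnu)
    haveI := hnmax
    haveI : Algebra.FiniteType A A1 := by
      rw [← Subalgebra.fg_iff_finiteType]
      exact ⟨{y}, by rw [Finset.coe_singleton]⟩
    haveI hA1N : IsNoetherianRing A1 := Algebra.FiniteType.isNoetherianRing A A1
    set B := Localization.AtPrime n with hB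
    have hunits : ∀ t : n.primeCompl, IsUnit (A1.val.toRingHom (t : A1)) := by
      intro t
      apply IsUnit.mk0
      intro h0
      have : (t : A1) = 0 := Subtype.ext h0
      exact t.2 (this ▸ n.zero_mem)
    set g : B →+* L := IsLocalization.lift (M := n.primeCompl) (S := B) hunits with hg
    have hgalg : ∀ a : A1, g (algebraMap A1 B a) = (a : L) := fun a => IsLocalization.lift_eq hunits a
    have hginj : Function.Injective g := by
      rw [hg, IsLocalization.lift_injective_iff]
      intro a b
      constructor
      · intro hab
        exact congrArg _ (IsLocalization.injective B (Ideal.primeCompl_le_nonZeroDivisors n) hab)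
      · intro hab
        have : a = b := Subtype.ext hab
        rw [this]
    haveI hBN : IsNoetherianRing B := IsLocalization.isNoetherianRing n.primeCompl B hA1N
    have hy'0 : y' ≠ 0 := by
      intro h0
      exact hy0 (congrArg Subtype.val h0)
    have hymax : algebraMap A1 B y' ∈ IsLocalRing.maximalIdeal B :=
      (IsLocalization.AtPrime.to_map_mem_maximal_iff B n y').2 hyn
    have hBnf : ¬ IsField B := by
      intro hf
      have h1 := hymax
      rw [IsLocalRing.isField_iff_maximalIdeal_eq.1 hf, Ideal.mem_bot] at h1
      have h2 : g (algebraMap A1 B y') = 0 := by rw [h1, map_zero]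
      rw [hgalg] at h2
      exact hy0 h2
    obtain ⟨S, hS⟩ := hfg
    have hclosure : Subfield.closure (Set.range g ∪ (S : Set L)) = ⊤ := by
      rw [eq_top_iff]
      intro l _
      have h1 : l ∈ (IntermediateField.adjoin K (S : Set L)).toSubfield := by
        rw [hS]; trivial
      rw [IntermediateField.adjoin_toSubfield] at h1
      have hle : Subfield.closure (Set.range (algebraMap K L) ∪ (S : Set L)) ≤
          Subfield.closure (Set.range g ∪ (S : Set L)) := by
        rw [Subfield.closure_le]
        rintro l (⟨k, rfl⟩ | hl)
        · obtain ⟨a, b, _, rfl⟩ := IsFractionRing.div_surjective (A := A) k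
          rw [map_div₀, ← IsScalarTower.algebraMap_apply A K L, ← IsScalarTower.algebraMap_apply A K L]
          have hmemA : ∀ a : A, algebraMap A L a ∈ Subfield.closure (Set.range g ∪ (S : Set L)) := by
            intro a
            apply Subfield.subset_closure
            left
            exact ⟨algebraMap A1 B (algebraMap A A1 a), by rw [hgalg]; rfl⟩
          exact div_mem (hmemA a) (hmemA b)
        · exact Subfield.subset_closure (Or.inr hl)
      exact hle h1
    obtain ⟨W, hW, hmem, hlt⟩ := exists_dvr_of_closure B hBnf L g hginj S hclosure
    have hxW : x ∈ W := by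
      apply h W hW
      intro a
      have := hmem (algebraMap A1 B (algebraMap A A1 a))
      rw [hgalg] at this
      exact this
    have hylt : W.valuation y < 1 := by
      have := hlt _ hymax
      rw [hgalg] at this
      exact this
    have hxle : W.valuation x ≤ 1 := (W.valuation_le_one_iff x).2 hxW
    have hone : W.valuation y * W.valuation x = 1 := by
      rw [← map_mul, hy, inv_mul_cancel₀ hx0, map_one]
    have : W.valuation y * W.valuation x < 1 := by
      calc W.valuation y * W.valuation x ≤ W.valuation y * 1 := by gcongr
        _ = W.valuation y := mul_one _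
        _ < 1 := hylt
    rw [hone] at this
    exact lt_irrefl _ this

end intclosure

end Groth.Agent.Lib.Helper4.DomDVR
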