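import Mathlib
import Groth.Agent.Lib.Helper4.DomDVR2

/-!
# DVRs through specializations (EGA II 7.1.9) and the DVR criterion of separatedness
-/
set_option autoImplicit false
set_option linter.unusedSectionVars false
set_option linter.style.haveILetI false

namespace Groth.Agent.Lib.Helper4.DomDVR

universe u
open CategoryTheory CategoryTheory.Limits AlgebraicGeometry IsLocalRing

/-- closure of adjoin -/
theorem adjoin_le_closure {R L : Type*} [CommRing R] [Field L] [Algebra R L] (S : Set L) (z : L)
    (hz : z ∈ Algebra.adjoin R S) : z ∈ Subfield.closure (Set.range (algebraMap R L) ∪ S) := by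
  induction hz using Algebra.adjoin_induction with
  | mem z hz => exact Subfield.subset_closure (Or.inr hz)
  | algebraMap r => exact Subfield.subset_closure (Or.inl ⟨r, rfl⟩)
  | add x y _ _ hx hy => exact add_mem hx hy
  | mul x y _ _ hx hy => exact mul_mem hx hy

/-- field generated over an essentially finite type ring map -/
theorem exists_finset_closure_of_essFiniteType {R L : Type*} [CommRing R] [Field L] (f : R →+* L)
    (hf : f.EssFiniteType) : ∃ S : Finset L, Subfield.closure (Set.range f ∪ (S : Set L)) = ⊤ := by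
  letI := f.toAlgebra
  have h1 : Algebra.EssFiniteType R L := hf
  obtain ⟨S, hS⟩ := (Algebra.essFiniteType_iff R L).1 h1
  refine ⟨S, ?_⟩
  rw [eq_top_iff]
  intro l _
  obtain ⟨t, ht, htu, hlt⟩ := hS l
  have ht0 : t ≠ 0 := htu.ne_zero
  have e : l = l * t / t := by field_simp
  rw [e]
  exact div_mem (adjoin_le_closure (R := R) _ _ hlt) (adjoin_le_closure (R := R) _ _ ht)


theorem S4450_main {X Y : Scheme.{u}} [IsLocallyNoetherian Y]
    (p : X ⟶ Y) [LocallyOfFiniteType p] (x : X) (y' : Y) (hsp : p.base x ⤳ y') (hne : y' ≠ p.base x) :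
    ∃ (A : ValuationSubring (X.residueField x)) (h : Spec (CommRingCat.of A) ⟶ Y), IsDiscreteValuationRing A ∧
      h.base (IsLocalRing.closedPoint A) = y' ∧
      Spec.map (CommRingCat.ofHom A.subtype) ≫ h = X.fromSpecResidueField x ≫ p := by
  classical
  -- the map O_{Y,y'} → κ(x)
  let ρ : Y.presheaf.stalk (p.base x) ⟶ X.residueField x := p.stalkMap x ≫ X.residue x
  let φc : Y.presheaf.stalk y' ⟶ X.residueField x := Y.presheaf.stalkSpecializes hsp ≫ ρ
  set φ : Y.presheaf.stalk y' →+* X.residueField x := φc.hom with hφ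
  -- ρ is essentially of finite type
  have hρ : ρ.hom.EssFiniteType := by
    have h1 := LocallyOfFiniteType.stalkMap (f := p) x
    have h2 : (X.residue x).hom.EssFiniteType :=
      (RingHom.FiniteType.of_surjective _ (X.residue_surjective x)).essFiniteType
    exact h1.comp h2
  obtain ⟨S, hS⟩ := exists_finset_closure_of_essFiniteType ρ.hom hρ
  -- range ρ is in the closure of range φ
  have hρφ : ∀ a, ρ.hom a ∈ Subfield.closure (Set.range φ ∪ (S : Set (X.residueField x))) := by
    intro a
    obtain ⟨_, ⟨V, hV, rfl⟩, hy'V, -⟩ :=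
      Y.isBasis_affineOpens.exists_subset_of_mem_open (Set.mem_univ y') isOpen_univ
    have hyV : p.base x ∈ V := hsp.mem_open V.2 hy'V
    letI := Y.presheaf.algebra_section_stalk ⟨p.base x, hyV⟩
    haveI hloc := hV.isLocalization_stalk ⟨p.base x, hyV⟩
    obtain ⟨⟨c, s⟩, hcs⟩ := IsLocalization.surj (hV.primeIdealOf ⟨p.base x, hyV⟩).asIdeal.primeCompl a
    have hunit : IsUnit (algebraMap Γ(Y, V) (Y.presheaf.stalk (p.base x)) s) :=
      IsLocalization.map_units _ s
    have hgerm : ∀ t : Γ(Y, V), algebraMap Γ(Y, V) (Y.presheaf.stalk (p.base x)) t =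
        (Y.presheaf.stalkSpecializes hsp).hom ((Y.presheaf.germ V y' hy'V).hom t) := by
      intro t
      have := TopCat.Presheaf.germ_stalkSpecializes Y.presheaf (U := V) hy'V hsp
      rw [← CommRingCat.comp_apply, this]
      rfl
    have h1 := congrArg ρ.hom hcs
    rw [map_mul, hgerm, hgerm] at h1
    have hne0 : ρ.hom ((Y.presheaf.stalkSpecializes hsp).hom ((Y.presheaf.germ V y' hy'V).hom s)) ≠ 0 := by
      rw [← hgerm]
      exact (hunit.map ρ.hom).ne_zero
    have e : ρ.hom a = ρ.hom ((Y.presheaf.stalkSpecializes hsp).hom ((Y.presheaf.germ V y' hy'V).hom c)) /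
        ρ.hom ((Y.presheaf.stalkSpecializes hsp).hom ((Y.presheaf.germ V y' hy'V).hom s)) := by
      rw [eq_div_iff hne0]
      exact h1
    rw [e]
    exact div_mem (Subfield.subset_closure (Or.inl ⟨(Y.presheaf.germ V y' hy'V).hom c, rfl⟩))
      (Subfield.subset_closure (Or.inl ⟨(Y.presheaf.germ V y' hy'V).hom s, rfl⟩))
  have hclosure : Subfield.closure (Set.range φ ∪ (S : Set (X.residueField x))) = ⊤ := by
    rw [eq_top_iff, ← hS, Subfield.closure_le]
    rintro l (⟨a, rfl⟩ | hl)
    · exact hρφ a
    · exact Subfield.subset_closure (Or.inr hl)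
  -- the quotient by the kernel
  set 𝔭 : Ideal (Y.presheaf.stalk y') := RingHom.ker φ with h𝔭
  haveI h𝔭p : 𝔭.IsPrime := RingHom.ker_isPrime φ
  set g : (Y.presheaf.stalk y') ⧸ 𝔭 →+* X.residueField x := RingHom.kerLift φ with hg
  have hginj : Function.Injective g := RingHom.kerLift_injective φ
  have hgmk : ∀ b, g (Ideal.Quotient.mk 𝔭 b) = φ b := fun b => RingHom.kerLift_mk φ b
  have hrange : Set.range g = Set.range φ := by
    ext l
    constructor
    · rintro ⟨b, rfl⟩
      obtain ⟨b, rfl⟩ := Ideal.Quotient.mk_surjective b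
      exact ⟨b, (hgmk b).symm⟩
    · rintro ⟨b, rfl⟩
      exact ⟨Ideal.Quotient.mk 𝔭 b, hgmk b⟩
  haveI : IsLocalRing ((Y.presheaf.stalk y') ⧸ 𝔭) :=
    IsLocalRing.of_surjective' (Ideal.Quotient.mk 𝔭) Ideal.Quotient.mk_surjective
  -- not a field
  have hnf : ¬ IsField ((Y.presheaf.stalk y') ⧸ 𝔭) := by
    intro hf
    have hmax : 𝔭.IsMaximal := Ideal.Quotient.maximal_of_isField 𝔭 hf
    have h𝔭m : 𝔭 = maximalIdeal (Y.presheaf.stalk y') := IsLocalRing.eq_maximalIdeal hmax
    apply hne
    have h1 : (Spec.map (Y.presheaf.stalkSpecializes hsp)).base (closedPoint (Y.presheaf.stalk (p.base x))) =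
        closedPoint (Y.presheaf.stalk y') := by
      apply PrimeSpectrum.ext
      change Ideal.comap (Y.presheaf.stalkSpecializes hsp).hom (maximalIdeal (Y.presheaf.stalk (p.base x))) =
        maximalIdeal (Y.presheaf.stalk y')
      rw [← h𝔭m]
      ext b
      rw [Ideal.mem_comap, h𝔭, RingHom.mem_ker]
      constructor
      · intro hb
        have h2 : (Y.residue (p.base x)).hom ((Y.presheaf.stalkSpecializes hsp).hom b) = 0 := by
          exact (IsLocalRing.residue_eq_zero_iff _).2 hb
        have h3 : ρ.hom ((Y.presheaf.stalkSpecializes hsp).hom b) = 0 := by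
          have h4 : ρ = Y.residue (p.base x) ≫ p.residueFieldMap x :=
            (Scheme.residue_residueFieldMap p x).symm
          rw [h4, CommRingCat.comp_apply, h2, map_zero]
        exact h3
      · intro hb
        by_contra hnot
        have hu : IsUnit ((Y.presheaf.stalkSpecializes hsp).hom b) := by
          by_contra hnu
          exact hnot hnu
        have : IsUnit (φ b) := hu.map ρ.hom
        rw [hb] at this
        exact not_isUnit_zero this
    have h2 := Scheme.SpecMap_stalkSpecializes_fromSpecStalk (X := Y) hsp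
    have h3 : (Y.fromSpecStalk (p.base x)).base (closedPoint _) = p.base x := Scheme.fromSpecStalk_closedPoint
    rw [← h2, Scheme.Hom.comp_base, TopCat.comp_app, h1] at h3
    rw [← h3]
    exact Scheme.fromSpecStalk_closedPoint.symm
  obtain ⟨W, hW, hmem, hlt⟩ := exists_dvr_of_closure ((Y.presheaf.stalk y') ⧸ 𝔭) hnf (X.residueField x) g hginj S
    (by rw [hrange]; exact hclosure)
  have hφW : ∀ b, φ b ∈ W.toSubring := by
    intro b
    rw [← hgmk]
    exact hmem _
  set ψ : Y.presheaf.stalk y' →+* W := φ.codRestrict W.toSubring hφW with hψ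
  haveI hloc : IsLocalHom ψ := by
    constructor
    intro b hb
    by_contra hnu
    have hbm : b ∈ maximalIdeal (Y.presheaf.stalk y') := hnu
    have h1 : Ideal.Quotient.mk 𝔭 b ∈ maximalIdeal ((Y.presheaf.stalk y') ⧸ 𝔭) := by
      intro hu
      have hlh : IsLocalHom (Ideal.Quotient.mk 𝔭) :=
        IsLocalHom.of_surjective _ Ideal.Quotient.mk_surjective
      exact hnu (hlh.map_nonunit b hu)
    have h2 := hlt _ h1
    rw [hgmk] at h2
    have h3 : ψ b ∈ maximalIdeal W := (W.valuation_lt_one_iff (ψ b)).2 h2
    exact h3 hb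
  let ψc : Y.presheaf.stalk y' ⟶ CommRingCat.of W := CommRingCat.ofHom ψ
  refine ⟨W, Spec.map ψc ≫ Y.fromSpecStalk y', hW, ?_, ?_⟩
  · rw [Scheme.Hom.comp_base, TopCat.comp_app]
    have : (Spec.map ψc).base (closedPoint W) = closedPoint (Y.presheaf.stalk y') :=
      comap_closedPoint (S := W) ψ
    rw [this, Scheme.fromSpecStalk_closedPoint]
  · rw [Scheme.fromSpecResidueField, Category.assoc, ← Scheme.SpecMap_stalkMap_fromSpecStalk,
      ← Scheme.SpecMap_stalkSpecializes_fromSpecStalk hsp]
    simp_rw [← Spec.map_comp_assoc]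
    rfl

theorem S2334_main {X Y : Scheme.{u}} [IsLocallyNoetherian Y] (f : X ⟶ Y) [LocallyOfFiniteType f] :
    IsSeparated f ↔ ∀ (A : Type u) [CommRing A] [IsDomain A] [IsDiscreteValuationRing A] (g₁ g₂ : (Spec (CommRingCat.of A)) ⟶ X),
      g₁ ≫ f = g₂ ≫ f → (Spec.map (CommRingCat.ofHom (algebraMap A (FractionRing A)))) ≫ g₁ = (Spec.map (CommRingCat.ofHom (algebraMap A (FractionRing A)))) ≫ g₂ → g₁ = g₂ := by
  constructor
  · intro hsep A _ _ _ g₁ g₂ h1 h2
    have huniq := IsSeparated.valuativeCriterion f
    let Sq : ValuativeCommSq f :=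
      { R := A
        K := FractionRing A
        i₁ := Spec.map (CommRingCat.ofHom (algebraMap A (FractionRing A))) ≫ g₁
        i₂ := g₁ ≫ f
        commSq := ⟨by rw [Category.assoc]⟩ }
    have hsub := huniq Sq
    let l₁ : Sq.commSq.LiftStruct := ⟨g₁, rfl, rfl⟩
    let l₂ : Sq.commSq.LiftStruct := ⟨g₂, h2.symm, h1.symm⟩
    have := hsub.elim l₁ l₂
    exact congrArg CommSq.LiftStruct.l this
  · intro H
    haveI hXN : IsLocallyNoetherian X := LocallyOfFiniteType.isLocallyNoetherian f
    haveI hPft : LocallyOfFiniteType (pullback.fst f f) := MorphismProperty.pullback_fst _ _ inferInstance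
    haveI hPN : IsLocallyNoetherian (pullback f f) := LocallyOfFiniteType.isLocallyNoetherian (pullback.fst f f)
    haveI hΔft : LocallyOfFiniteType (pullback.diagonal f) := by
      have : LocallyOfFiniteType (pullback.diagonal f ≫ pullback.fst f f) := by
        rw [pullback.diagonal_fst]; infer_instance
      exact locallyOfFiniteType_of_comp (pullback.diagonal f) (pullback.fst f f)
    haveI hQS : QuasiSeparated f := inferInstance
    haveI hQC : QuasiCompact (pullback.diagonal f) := inferInstance
    have hspec : SpecializingMap (pullback.diagonal f).base := by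
      intro x z' hz
      by_cases hne : z' = (pullback.diagonal f).base x
      · exact ⟨x, specializes_rfl, hne.symm⟩
      obtain ⟨A, h, hA, hcl, hgen⟩ := S4450_main (pullback.diagonal f) x z' hz hne
      set g₁ := h ≫ pullback.fst f f with hg₁
      set g₂ := h ≫ pullback.snd f f with hg₂
      have hcond : g₁ ≫ f = g₂ ≫ f := by
        rw [hg₁, hg₂, Category.assoc, Category.assoc, pullback.condition]
      -- the fraction field
      let e : FractionRing A ≃ₐ[A] X.residueField x := FractionRing.algEquiv A (X.residueField x)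
      have he : (CommRingCat.ofHom (algebraMap A (FractionRing A))) =
          CommRingCat.ofHom A.subtype ≫ CommRingCat.ofHom (e.symm : X.residueField x →+* FractionRing A) := by
        ext a
        change algebraMap A (FractionRing A) a = e.symm (algebraMap A (X.residueField x) a)
        rw [e.symm.commutes]
      have hι : ∀ q : pullback f f ⟶ X, pullback.diagonal f ≫ q = 𝟙 X →
          Spec.map (CommRingCat.ofHom (algebraMap A (FractionRing A))) ≫ h ≫ q =
            Spec.map (CommRingCat.ofHom (e.symm : X.residueField x →+* FractionRing A)) ≫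
              X.fromSpecResidueField x := by
        intro q hq
        rw [he, Spec.map_comp, Category.assoc, ← Category.assoc (Spec.map (CommRingCat.ofHom A.subtype)),
          hgen, Category.assoc, hq, Category.comp_id]
      have hagree : Spec.map (CommRingCat.ofHom (algebraMap A (FractionRing A))) ≫ g₁ =
          Spec.map (CommRingCat.ofHom (algebraMap A (FractionRing A))) ≫ g₂ := by
        rw [hg₁, hg₂, hι _ (pullback.diagonal_fst f), hι _ (pullback.diagonal_snd f)]
      have hg12 : g₁ = g₂ := H A g₁ g₂ hcond hagree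
      have hh : h = g₁ ≫ pullback.diagonal f := by
        apply pullback.hom_ext
        · rw [Category.assoc, pullback.diagonal_fst, Category.comp_id]
        · rw [Category.assoc, pullback.diagonal_snd, Category.comp_id, hg12]
      refine ⟨g₁.base (closedPoint A), ?_, ?_⟩
      · have h1 : (Spec.map (CommRingCat.ofHom A.subtype) ≫ g₁).base (closedPoint (X.residueField x)) = x := by
          rw [hg₁, ← Category.assoc, hgen, Category.assoc, pullback.diagonal_fst, Category.comp_id]
          exact Scheme.fromSpecResidueField_apply x _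
        rw [Scheme.Hom.comp_base, TopCat.comp_app] at h1
        have h2 : g₁.base ((Spec.map (CommRingCat.ofHom A.subtype)).base (closedPoint (X.residueField x))) ⤳
            g₁.base (closedPoint A) :=
          (specializes_closedPoint (R := A) _).map g₁.base.hom.continuous
        exact (specializes_of_eq h1.symm).trans h2
      · have h3 : (pullback.diagonal f).base (g₁.base (closedPoint A)) = h.base (closedPoint A) := by
          conv_rhs => rw [hh]
          rfl
        rw [h3, hcl]
    have hclosed : IsClosed (Set.range (pullback.diagonal f).base) :=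
      ((isClosedMap_iff_specializingMap (pullback.diagonal f)).2 hspec).isClosed_range
    exact ⟨IsClosedImmersion.of_isPreimmersion _ hclosed⟩

end Groth.Agent.Lib.Helper4.DomDVR
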