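import Mathlib

/-!
# Universally closed morphisms via base change to affine spaces (EGA IV 8.11-style criterion)
-/
set_option autoImplicit false
set_option linter.unusedSectionVars false
set_option linter.style.haveILetI false

namespace Groth.Agent.Lib.Helper4.UC

universe u
open CategoryTheory CategoryTheory.Limits AlgebraicGeometry AffineSpace MvPolynomial


section ring
variable {R C : Type*} [CommRing R] [CommRing C] (φ : R →+* C) {I : Type*}

/-- a polynomial only involves finitely many variables -/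
theorem exists_rename_of_vars_subset {A : Type*} [CommRing A] (P : MvPolynomial I A) (s : Finset I)
    (hs : P.vars ⊆ s) : ∃ P' : MvPolynomial s A, rename (Subtype.val : s → I) P' = P := by
  classical
  have h1 : P ∈ supported A (s : Set I) := by
    rw [mem_supported]
    exact_mod_cast hs
  rw [supported_eq_range_rename] at h1
  obtain ⟨P', hP'⟩ := h1
  exact ⟨P', hP'⟩

theorem exists_finset_of_mem_map (p : Ideal (MvPolynomial I R)) (β : MvPolynomial I C)
    (hβ : β ∈ Ideal.map (MvPolynomial.map φ) p) :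
    ∃ s₀ : Finset I, ∀ s : Finset I, s₀ ⊆ s →
      ∃ β' : MvPolynomial s C, rename (Subtype.val : s → I) β' = β ∧
        β' ∈ Ideal.map (MvPolynomial.map φ) (p.comap (rename (Subtype.val : s → I)).toRingHom) := by
  classical
  induction hβ using Submodule.span_induction with
  | mem β hβ =>
    obtain ⟨π, hπ, rfl⟩ := hβ
    refine ⟨π.vars, fun s hs => ?_⟩
    obtain ⟨π', hπ'⟩ := exists_rename_of_vars_subset π s hs
    refine ⟨MvPolynomial.map φ π', ?_, ?_⟩
    · rw [← MvPolynomial.map_rename, hπ']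
    · apply Ideal.mem_map_of_mem
      rw [Ideal.mem_comap]
      change rename _ π' ∈ p
      rw [hπ']
      exact hπ
  | zero => exact ⟨∅, fun s _ => ⟨0, by simp, Submodule.zero_mem _⟩⟩
  | add x y _ _ hx hy =>
    obtain ⟨s₁, h₁⟩ := hx
    obtain ⟨s₂, h₂⟩ := hy
    refine ⟨s₁ ∪ s₂, fun s hs => ?_⟩
    obtain ⟨x', hx', hx''⟩ := h₁ s (Finset.union_subset_left hs)
    obtain ⟨y', hy', hy''⟩ := h₂ s (Finset.union_subset_right hs)
    exact ⟨x' + y', by rw [map_add, hx', hy'], Ideal.add_mem _ hx'' hy''⟩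
  | smul c x _ hx =>
    obtain ⟨s₁, h₁⟩ := hx
    refine ⟨c.vars ∪ s₁, fun s hs => ?_⟩
    obtain ⟨x', hx', hx''⟩ := h₁ s (Finset.union_subset_right hs)
    obtain ⟨c', hc'⟩ := exists_rename_of_vars_subset c s (Finset.union_subset_left hs)
    exact ⟨c' * x', by rw [map_mul, hx', hc', smul_eq_mul], Ideal.mul_mem_left _ _ hx''⟩

/-- the core finiteness lemma -/
theorem core (a : Ideal (MvPolynomial I C)) (p : PrimeSpectrum (MvPolynomial I R))
    (hp : p ∉ PrimeSpectrum.comap (MvPolynomial.map φ) '' PrimeSpectrum.zeroLocus (a : Set (MvPolynomial I C))) :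
    ∃ s₀ : Finset I, ∀ s : Finset I, s₀ ⊆ s →
      ∃ α : MvPolynomial s C, rename (Subtype.val : s → I) α ∈ a ∧
        ∀ q' : PrimeSpectrum (MvPolynomial s C), α ∈ q'.asIdeal →
          PrimeSpectrum.comap (MvPolynomial.map φ) q' ≠
            PrimeSpectrum.comap (rename (Subtype.val : s → I)).toRingHom p := by
  classical
  -- there is an element of the complement of p in a + p^e
  have h1 : ¬ Disjoint ((a ⊔ Ideal.map (MvPolynomial.map φ) p.asIdeal : Ideal (MvPolynomial I C)) : Set (MvPolynomial I C))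
      (p.asIdeal.primeCompl.map (MvPolynomial.map φ) : Submonoid (MvPolynomial I C)) := by
    intro hdisj
    obtain ⟨q, hqp, hle, hqd⟩ := Ideal.exists_le_prime_disjoint _ _ hdisj
    apply hp
    refine ⟨⟨q, hqp⟩, ?_, ?_⟩
    · rw [PrimeSpectrum.mem_zeroLocus]
      exact (le_trans le_sup_left hle : a ≤ q)
    · apply PrimeSpectrum.ext
      change q.comap (MvPolynomial.map φ) = p.asIdeal
      apply le_antisymm
      · intro x hx
        by_contra hxp
        exact Set.disjoint_left.1 hqd hx ⟨x, hxp, rfl⟩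
      · rw [← Ideal.map_le_iff_le_comap]
        exact le_trans le_sup_right hle
  rw [Set.not_disjoint_iff] at h1
  obtain ⟨_, hJ, ⟨σ, hσp, rfl⟩⟩ := h1
  rw [SetLike.mem_coe, Submodule.mem_sup] at hJ
  obtain ⟨α, hα, β, hβ, hαβ⟩ := hJ
  obtain ⟨s₁, h₁⟩ := exists_finset_of_mem_map φ p.asIdeal β hβ
  refine ⟨σ.vars ∪ α.vars ∪ s₁, fun s hs => ?_⟩
  obtain ⟨β', hβ', hβ''⟩ := h₁ s (Finset.union_subset_right hs)
  obtain ⟨σ', hσ'⟩ := exists_rename_of_vars_subset σ s
    (Finset.union_subset_left (Finset.union_subset_left hs))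
  obtain ⟨α', hα'⟩ := exists_rename_of_vars_subset α s
    (Finset.union_subset_right (Finset.union_subset_left hs))
  refine ⟨α', by rw [hα']; exact hα, ?_⟩
  intro q' hαq' heq
  have hinj : Function.Injective (rename (Subtype.val : s → I) : MvPolynomial s C → MvPolynomial I C) :=
    rename_injective _ Subtype.val_injective
  have hid : α' + β' = MvPolynomial.map φ σ' := by
    apply hinj
    rw [map_add, hα', hβ', hαβ, ← hσ', MvPolynomial.map_rename]
  have h2 : Ideal.map (MvPolynomial.map φ) (p.asIdeal.comap (rename (Subtype.val : s → I)).toRingHom) ≤ q'.asIdeal := by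
    rw [Ideal.map_le_iff_le_comap]
    have := congrArg PrimeSpectrum.asIdeal heq
    exact this.symm.le
  have h3 : MvPolynomial.map φ σ' ∈ q'.asIdeal := by
    rw [← hid]
    exact Ideal.add_mem _ hαq' (h2 hβ'')
  have h4 : σ' ∈ (PrimeSpectrum.comap (MvPolynomial.map φ) q').asIdeal := h3
  rw [heq] at h4
  have h5 : rename (Subtype.val : s → I) σ' ∈ p.asIdeal := h4
  rw [hσ'] at h5
  exact hσp h5

end ring


theorem isPullback_range_fst {P X Y S : Scheme.{u}} {fst : P ⟶ X} {snd : P ⟶ Y} {f : X ⟶ S}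
    {g : Y ⟶ S} (h : IsPullback fst snd f g) :
    Set.range fst.base = f.base ⁻¹' Set.range g.base := by
  rw [← Scheme.Pullback.range_fst f g, ← h.isoPullback_hom_fst, Scheme.Hom.comp_base,
    TopCat.coe_comp, Set.range_comp]
  have hsurj : Function.Surjective h.isoPullback.hom.base := by
    intro y
    refine ⟨h.isoPullback.inv.base y, ?_⟩
    rw [← TopCat.comp_app, ← Scheme.Hom.comp_base, Iso.inv_hom_id]
    rfl
  rw [hsurj.range_eq, Set.image_univ]

theorem range_map (I : Type u) {U T : Scheme.{u}} (j : U ⟶ T) :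
    Set.range (map I j).base = (𝔸(I; T) ↘ T).base ⁻¹' Set.range j.base :=
  isPullback_range_fst (isPullback_map (n := I) j)

instance isOpenImmersion_map (I : Type u) {U T : Scheme.{u}} (j : U ⟶ T) [IsOpenImmersion j] :
    IsOpenImmersion (map I j) :=
  MorphismProperty.of_isPullback (P := @IsOpenImmersion) (isPullback_map (n := I) j).flip inferInstance

instance isClosedImmersion_map (I : Type u) {U T : Scheme.{u}} (j : U ⟶ T) [IsClosedImmersion j] :
    IsClosedImmersion (map I j) :=
  MorphismProperty.of_isPullback (P := @IsClosedImmersion) (isPullback_map (n := I) j).flip inferInstance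

/-- charts -/
noncomputable def chart (I : Type u) {T : Scheme.{u}} (C : CommRingCat.{u}) (j : Spec C ⟶ T) :
    Spec (.of (MvPolynomial I C)) ⟶ 𝔸(I; T) := (SpecIso I C).inv ≫ map I j

instance (I : Type u) {T : Scheme.{u}} (C : CommRingCat.{u}) (j : Spec C ⟶ T) [IsOpenImmersion j] :
    IsOpenImmersion (chart I C j) := by
  unfold chart; infer_instance

theorem range_chart (I : Type u) {T : Scheme.{u}} (C : CommRingCat.{u}) (j : Spec C ⟶ T) :
    Set.range (chart I C j).base = (𝔸(I; T) ↘ T).base ⁻¹' Set.range j.base := by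
  rw [← range_map, chart, Scheme.Hom.comp_base, TopCat.coe_comp, Set.range_comp]
  have hsurj : Function.Surjective (SpecIso I C).inv.base := by
    intro y
    refine ⟨(SpecIso I C).hom.base y, ?_⟩
    rw [← TopCat.comp_app, ← Scheme.Hom.comp_base, Iso.hom_inv_id]
    rfl
  rw [hsurj.range_eq, Set.image_univ]

theorem chart_map (I : Type u) {X S : Scheme.{u}} (f : X ⟶ S) (C R : CommRingCat.{u})
    (jX : Spec C ⟶ X) (jS : Spec R ⟶ S) (φ : R ⟶ C) (h : jX ≫ f = Spec.map φ ≫ jS) :
    chart I C jX ≫ map I f =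
      Spec.map (CommRingCat.ofHom (MvPolynomial.map (σ := I) φ.hom)) ≫ chart I R jS := by
  unfold chart
  rw [Category.assoc, ← map_comp, h, map_comp, map_SpecMap]
  simp

theorem reindex_SpecIso {I I' : Type u} (ι : I' → I) (C : CommRingCat.{u}) :
    reindex ι (Spec C) = (SpecIso I C).hom ≫
      Spec.map (CommRingCat.ofHom (rename ι : MvPolynomial I' C →ₐ[C] MvPolynomial I C).toRingHom) ≫
        (SpecIso I' C).inv := by
  rw [← Iso.inv_comp_eq]
  ext1
  · simp only [reindex_over, Category.assoc, SpecIso_inv_over,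
      ← Spec.map_comp, ← CommRingCat.ofHom_comp]
    congr 2
    ext x
    simp
  · rename_i i
    simp only [TopologicalSpace.Opens.map_top, Scheme.Hom.comp_app, CommRingCat.comp_apply]
    conv_lhs => enter [2]; tactic => exact reindex_appTop_coord _ _ _
    conv_rhs => enter [2]; tactic => exact SpecIso_inv_appTop_coord _ _
    rw [SpecIso_inv_appTop_coord, ← CommRingCat.comp_apply, ← Scheme.ΓSpecIso_inv_naturality,
        CommRingCat.comp_apply, ConcreteCategory.hom_ofHom]
    congr 1
    exact (rename_X _ _).symm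


theorem chart_reindex {I I' : Type u} (ι : I' → I) {T : Scheme.{u}} (C : CommRingCat.{u})
    (j : Spec C ⟶ T) :
    chart I C j ≫ reindex ι T =
      Spec.map (CommRingCat.ofHom (rename ι : MvPolynomial I' C →ₐ[C] MvPolynomial I C).toRingHom) ≫
        chart I' C j := by
  unfold chart
  rw [Category.assoc, map_reindex, reindex_SpecIso]
  simp

theorem reindex_comp' {n₁ n₂ n₃ : Type u} (i : n₁ → n₂) (j : n₂ → n₃) (S : Scheme.{u}) :
    reindex (j ∘ i) S = reindex j S ≫ reindex i S := by
  ext k <;> simp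

/-- closedness for finite index types -/
theorem isClosedMap_map_of_finite {X S : Scheme.{u}} (f : X ⟶ S)
    (H : ∀ n : ℕ, IsClosedMap (map (ULift.{u} (Fin n)) f).base) (I' : Type u) [Finite I'] :
    IsClosedMap (map I' f).base := by
  obtain ⟨n, ⟨e⟩⟩ := Finite.exists_equiv_fin I'
  let e' : I' ≃ ULift.{u} (Fin n) := e.trans Equiv.ulift.symm
  -- reindex along e' is an isomorphism
  have hiso : ∀ T : Scheme.{u}, IsIso (reindex (e' : I' → ULift.{u} (Fin n)) T) := by
    intro T
    refine ⟨reindex (e'.symm : ULift.{u} (Fin n) → I') T, ?_, ?_⟩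
    · rw [← reindex_comp']
      have h2 : ((e' : I' → ULift.{u} (Fin n)) ∘ (e'.symm : ULift.{u} (Fin n) → I')) = id := by
        funext x; simp
      rw [h2, reindex_id]
    · rw [← reindex_comp']
      have h2 : ((e'.symm : ULift.{u} (Fin n) → I') ∘ (e' : I' → ULift.{u} (Fin n))) = id := by
        funext x; simp
      rw [h2, reindex_id]
  haveI := hiso X
  haveI := hiso S
  -- map I' f = inv (reindex e' X) ≫ map n f ≫ reindex e' S
  have hcomm : map (ULift.{u} (Fin n)) f ≫ reindex (e' : I' → ULift.{u} (Fin n)) S =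
      reindex (e' : I' → ULift.{u} (Fin n)) X ≫ map I' f := map_reindex _ f
  have heq : map I' f = inv (reindex (e' : I' → ULift.{u} (Fin n)) X) ≫
      map (ULift.{u} (Fin n)) f ≫ reindex (e' : I' → ULift.{u} (Fin n)) S := by
    rw [hcomm, IsIso.inv_hom_id_assoc]
  rw [heq]
  have h1 : IsClosedMap (inv (reindex (e' : I' → ULift.{u} (Fin n)) X)).base :=
    (Scheme.Hom.homeomorph (inv (reindex (e' : I' → ULift.{u} (Fin n)) X))).isClosedMap
  have h3 : IsClosedMap (reindex (e' : I' → ULift.{u} (Fin n)) S).base :=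
    (Scheme.Hom.homeomorph (reindex (e' : I' → ULift.{u} (Fin n)) S)).isClosedMap
  exact h3.comp ((H n).comp h1)


section KL
variable {X S : Scheme.{u}} (f : X ⟶ S)

/-- one chart: the core lemma in chart form -/
theorem chart_core (I : Type u) {C R : CommRingCat.{u}} (jX : Spec C ⟶ X) (jS : Spec R ⟶ S)
    [IsOpenImmersion jX] [IsOpenImmersion jS]
    (φ : R ⟶ C) (hφ : jX ≫ f = Spec.map φ ≫ jS) (Z : Set 𝔸(I; X)) (hZ : IsClosed Z)
    (tV : Spec (.of (MvPolynomial I R)))
    (ht : (chart I R jS).base tV ∉ (map I f).base '' Z) :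
    ∃ s₀ : Finset I, ∀ s : Finset I, s₀ ⊆ s →
      ∀ z' ∈ closure ((reindex (Subtype.val : s → I) X).base '' Z),
        z' ∈ Set.range (chart s C jX).base →
        (map s f).base z' ≠ (reindex (Subtype.val : s → I) S).base ((chart I R jS).base tV) := by
  classical
  have hcl : IsClosed ((chart I C jX).base ⁻¹' Z) := hZ.preimage (chart I C jX).base.hom.continuous
  obtain ⟨a, ha⟩ := (PrimeSpectrum.isClosed_iff_zeroLocus_ideal _).1 hcl
  have hp : tV ∉ PrimeSpectrum.comap (MvPolynomial.map φ.hom) ''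
      PrimeSpectrum.zeroLocus (a : Set (MvPolynomial I C)) := by
    rintro ⟨q, hq, hqt⟩
    apply ht
    rw [← ha] at hq
    refine ⟨(chart I C jX).base q, hq, ?_⟩
    have h1 := chart_map I f C R jX jS φ hφ
    have h2 := congrArg (fun g => g.base q) h1
    simp only [Scheme.Hom.comp_base, TopCat.comp_app] at h2
    rw [h2]
    congr 1
  obtain ⟨s₀, hs₀⟩ := core φ.hom a tV hp
  refine ⟨s₀, fun s hs => ?_⟩
  obtain ⟨α, hαa, hα⟩ := hs₀ s hs
  intro z' hz' hz'r heq
  obtain ⟨w', rfl⟩ := hz'r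
  set e := (chart s C jX).base with he
  have hemb : Topology.IsOpenEmbedding e := (chart s C jX).isOpenEmbedding
  set F : Set (Spec (.of (MvPolynomial s C))) := PrimeSpectrum.zeroLocus {α} with hF
  have hFcl : IsClosed F := PrimeSpectrum.isClosed_zeroLocus _
  -- w' ∈ F
  have hw'F : w' ∈ F := by
    rw [← hFcl.closure_eq, hemb.isEmbedding.closure_eq_preimage_closure_image, Set.mem_preimage,
      mem_closure_iff]
    intro N hN hw'N
    have hNO : IsOpen (N ∩ Set.range e) := hN.inter hemb.isOpen_range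
    obtain ⟨y, ⟨hyN, hyO⟩, hyZ⟩ := (mem_closure_iff.1 hz') _ hNO ⟨hw'N, Set.mem_range_self w'⟩
    obtain ⟨z, hzZ, rfl⟩ := hyZ
    refine ⟨_, hyN, ?_⟩
    -- z is in the chart
    have hzr : z ∈ Set.range (chart I C jX).base := by
      rw [range_chart]
      rw [he, range_chart] at hyO
      have h1 : (𝔸(s; X) ↘ X).base ((reindex (Subtype.val : s → I) X).base z) =
          (𝔸(I; X) ↘ X).base z := by
        rw [← TopCat.comp_app, ← Scheme.Hom.comp_base, reindex_over]
      rw [Set.mem_preimage, h1] at hyO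
      exact hyO
    obtain ⟨w, rfl⟩ := hzr
    have hwa : w ∈ PrimeSpectrum.zeroLocus (a : Set (MvPolynomial I C)) := by
      rw [← ha]; exact hzZ
    have h1 := chart_reindex (Subtype.val : s → I) C jX
    have h2 := congrArg (fun g => g.base w) h1
    simp only [Scheme.Hom.comp_base, TopCat.comp_app] at h2
    rw [h2]
    refine ⟨_, ?_, rfl⟩
    have h5 : rename (Subtype.val : s → I) α ∈ w.asIdeal := hwa hαa
    exact (PrimeSpectrum.mem_zeroLocus _ _).2 (Set.singleton_subset_iff.2 h5)
  have hαw' : α ∈ w'.asIdeal := Set.singleton_subset_iff.1 ((PrimeSpectrum.mem_zeroLocus _ _).1 hw'F)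
  apply hα w' hαw'
  -- compare images under the open immersion chart s R jS
  have hinj : Function.Injective (chart s R jS).base := (chart s R jS).isOpenEmbedding.injective
  apply hinj
  have h1 := chart_map s f C R jX jS φ hφ
  have h2 := congrArg (fun g => g.base w') h1
  simp only [Scheme.Hom.comp_base, TopCat.comp_app] at h2
  have h3 := chart_reindex (Subtype.val : s → I) R jS
  have h4 := congrArg (fun g => g.base tV) h3
  simp only [Scheme.Hom.comp_base, TopCat.comp_app] at h4
  calc (chart s R jS).base (PrimeSpectrum.comap (MvPolynomial.map φ.hom) w')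
      = (map s f).base (e w') := h2.symm
    _ = (reindex (Subtype.val : s → I) S).base ((chart I R jS).base tV) := heq
    _ = (chart s R jS).base (PrimeSpectrum.comap (rename (Subtype.val : s → I)).toRingHom tV) := h4

theorem isClosedMap_map_of_forall_finite [QuasiCompact f]
    (H : ∀ (I' : Type u) [Finite I'], IsClosedMap (map I' f).base) (I : Type u) :
    IsClosedMap (map I f).base := by
  classical
  intro Z hZ
  rw [← isOpen_compl_iff, isOpen_iff_forall_mem_open]
  intro t ht
  obtain ⟨_, ⟨V, hV, rfl⟩, hsV, -⟩ := S.isBasis_affineOpens.exists_subset_of_mem_open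
    (Set.mem_univ ((𝔸(I; S) ↘ S).base t)) isOpen_univ
  have hV' : IsAffineOpen V := hV
  set R : CommRingCat := Γ(S, V) with hR
  set jS : Spec R ⟶ S := hV'.fromSpec with hjS
  have hrS : Set.range jS.base = V := hV'.range_fromSpec
  have htr : t ∈ Set.range (chart I R jS).base := by
    rw [range_chart, hrS]; exact hsV
  obtain ⟨tV, rfl⟩ := htr
  have hcomp : IsCompact ((f ⁻¹ᵁ V : X.Opens) : Set X) :=
    QuasiCompact.isCompact_preimage _ V.2 hV'.isCompact
  obtain ⟨𝒰, h𝒰fin, h𝒰⟩ := isCompact_iff_finite_and_eq_biUnion_affineOpens.1 hcomp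
  haveI := h𝒰fin.fintype
  have hUle : ∀ U : 𝒰, (U.1 : X.Opens) ≤ f ⁻¹ᵁ V := by
    intro U
    rw [h𝒰]
    exact le_iSup₂ (f := fun (i : X.affineOpens) (_ : i ∈ 𝒰) => (i : X.Opens)) U.1 U.2
  have hex : ∀ U : 𝒰, ∃ s₀ : Finset I, ∀ s : Finset I, s₀ ⊆ s →
      ∀ z' ∈ closure ((reindex (Subtype.val : s → I) X).base '' Z),
        z' ∈ Set.range (chart s Γ(X, U.1) (U.1.2.fromSpec)).base →
        (map s f).base z' ≠ (reindex (Subtype.val : s → I) S).base ((chart I R jS).base tV) := by
    intro U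
    exact chart_core f I (U.1.2.fromSpec) jS (f.appLE V U.1 (hUle U))
      (IsAffineOpen.SpecMap_appLE_fromSpec f hV' U.1.2 (hUle U)).symm Z hZ tV ht
  choose s₀ hs₀ using hex
  set s₁ : Finset I := Finset.univ.biUnion s₀ with hs₁
  have hg' : IsClosedMap (map s₁ f).base := H _
  set Z' := closure ((reindex (Subtype.val : s₁ → I) X).base '' Z) with hZ'
  set t' := (reindex (Subtype.val : s₁ → I) S).base ((chart I R jS).base tV) with ht'
  have ht'n : t' ∉ (map s₁ f).base '' Z' := by
    rintro ⟨z', hz', hz't'⟩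
    have hx' : (𝔸(s₁; X) ↘ X).base z' ∈ ((f ⁻¹ᵁ V : X.Opens) : Set X) := by
      change f.base ((𝔸(s₁; X) ↘ X).base z') ∈ (V : Set S)
      have h1 : f.base ((𝔸(s₁; X) ↘ X).base z') = (𝔸(s₁; S) ↘ S).base ((map s₁ f).base z') := by
        rw [← TopCat.comp_app, ← Scheme.Hom.comp_base, ← TopCat.comp_app, ← Scheme.Hom.comp_base,
          map_over]
      rw [h1, hz't', ht', ← TopCat.comp_app, ← Scheme.Hom.comp_base, reindex_over]
      exact hsV
    rw [h𝒰] at hx'
    simp only [TopologicalSpace.Opens.coe_iSup, Set.mem_iUnion] at hx'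
    obtain ⟨U, hU𝒰, hxU⟩ := hx'
    have hz'r : z' ∈ Set.range (chart s₁ Γ(X, U) (U.2.fromSpec)).base := by
      rw [range_chart, IsAffineOpen.range_fromSpec]
      exact hxU
    exact hs₀ ⟨U, hU𝒰⟩ s₁ (Finset.subset_biUnion_of_mem s₀ (Finset.mem_univ _)) z' hz' hz'r hz't'
  refine ⟨(reindex (Subtype.val : s₁ → I) S).base ⁻¹' ((map s₁ f).base '' Z')ᶜ, ?_, ?_, ht'n⟩
  · intro y hy hyZ
    obtain ⟨z, hz, rfl⟩ := hyZ
    apply hy
    refine ⟨(reindex (Subtype.val : s₁ → I) X).base z, subset_closure ⟨z, hz, rfl⟩, ?_⟩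
    rw [← TopCat.comp_app, ← Scheme.Hom.comp_base, ← map_reindex, Scheme.Hom.comp_base,
      TopCat.comp_app]
  · exact (hg' Z' isClosed_closure).isOpen_compl.preimage
      (reindex (Subtype.val : s₁ → I) S).base.hom.continuous

end KL


/-- base change of a closed map along an immersion is closed -/
theorem isClosedMap_of_isPullback_of_isImmersion {X'' T' A B : Scheme.{u}} {f'' : X'' ⟶ T'}
    {k' : X'' ⟶ A} {k : T' ⟶ B} {g : A ⟶ B} (h : IsPullback f'' k' k g) [IsImmersion k]
    (hg : IsClosedMap g.base) : IsClosedMap f''.base := by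
  haveI hk' : IsImmersion k' := MorphismProperty.of_isPullback (P := @IsImmersion) h inferInstance
  have hemb : Topology.IsEmbedding k'.base := k'.isEmbedding
  have hkinj : Function.Injective k.base := k.isEmbedding.injective
  have hcomm : ∀ x, k.base (f''.base x) = g.base (k'.base x) := by
    intro x
    rw [← TopCat.comp_app, ← Scheme.Hom.comp_base, h.w, Scheme.Hom.comp_base, TopCat.comp_app]
  intro Z hZ
  have heq : f''.base '' Z = k.base ⁻¹' (g.base '' closure (k'.base '' Z)) := by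
    ext t'
    constructor
    · rintro ⟨z, hz, rfl⟩
      exact ⟨k'.base z, subset_closure ⟨z, hz, rfl⟩, (hcomm z).symm⟩
    · rintro ⟨a, ha, hat⟩
      have har : a ∈ Set.range k'.base := by
        rw [isPullback_range_fst h.flip, Set.mem_preimage, hat]
        exact Set.mem_range_self t'
      obtain ⟨x'', rfl⟩ := har
      have hx''Z : x'' ∈ Z := by
        rw [← hZ.closure_eq, hemb.closure_eq_preimage_closure_image]
        exact ha
      refine ⟨x'', hx''Z, hkinj ?_⟩
      rw [hcomm, hat]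
  rw [heq]
  exact (hg _ isClosed_closure).preimage k.base.hom.continuous

section assembly
variable {X S : Scheme.{u}} (f : X ⟶ S)

/-- an affine scheme mapping into an affine open is an immersion into an affine space over `S` -/
theorem exists_immersion_affineSpace {B : CommRingCat.{u}} (h : Spec B ⟶ S) (V : S.Opens)
    (hV : IsAffineOpen V) (hhV : Set.range h.base ⊆ V) :
    ∃ (I : Type u) (k : Spec B ⟶ 𝔸(I; S)), IsImmersion k ∧ k ≫ (𝔸(I; S) ↘ S) = h := by
  set R : CommRingCat := Γ(S, V) with hR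
  set jS : Spec R ⟶ S := hV.fromSpec with hjS
  have hrS : Set.range jS.base = V := hV.range_fromSpec
  let l : Spec B ⟶ Spec R := IsOpenImmersion.lift jS h (by rw [hrS]; exact hhV)
  have hl : l ≫ jS = h := IsOpenImmersion.lift_fac _ _ _
  let φ : R ⟶ B := Spec.preimage l
  have hφ : Spec.map φ = l := Spec.map_preimage l
  -- surjection R[B] → B
  let ψ : MvPolynomial B R →+* B := (MvPolynomial.eval₂Hom φ.hom id)
  have hψsurj : Function.Surjective ψ := fun b => ⟨MvPolynomial.X b, by simp [ψ]⟩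
  haveI : IsClosedImmersion (Spec.map (CommRingCat.ofHom ψ)) :=
    IsClosedImmersion.spec_of_surjective (CommRingCat.ofHom ψ) hψsurj
  refine ⟨B, Spec.map (CommRingCat.ofHom ψ) ≫ chart B R jS, ?_, ?_⟩
  · infer_instance
  · unfold chart
    rw [Category.assoc, Category.assoc, map_over, SpecIso_inv_over_assoc, ← Spec.map_comp_assoc, ← hl, ← hφ]
    congr 2
    ext r
    simp [ψ]

end assembly

section assembly2
variable {X S : Scheme.{u}} (f : X ⟶ S)

theorem isClosedMap_map_of_snd (n : Type u)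
    (h : IsClosedMap (pullback.snd f (𝔸(n; S) ↘ S)).base) : IsClosedMap (map n f).base := by
  have hp : IsPullback (𝔸(n; X) ↘ X) (map n f) f (𝔸(n; S) ↘ S) := (isPullback_map f).flip
  have h1 : hp.isoPullback.hom ≫ pullback.snd f (𝔸(n; S) ↘ S) = map n f := hp.isoPullback_hom_snd
  rw [← h1, Scheme.Hom.comp_base]
  exact h.comp (hp.isoPullback.hom.homeomorph).isClosedMap

theorem exists_immersion_affineSpace' {Y : Scheme.{u}} [IsAffine Y] (h : Y ⟶ S) (V : S.Opens)
    (hV : IsAffineOpen V) (hhV : Set.range h.base ⊆ V) :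
    ∃ (I : Type u) (k : Y ⟶ 𝔸(I; S)), IsImmersion k ∧ k ≫ (𝔸(I; S) ↘ S) = h := by
  obtain ⟨I, k, hk, hkh⟩ := exists_immersion_affineSpace (Y.isoSpec.inv ≫ h) V hV (by
    rintro _ ⟨y, rfl⟩
    rw [Scheme.Hom.comp_base, TopCat.comp_app]
    exact hhV ⟨_, rfl⟩)
  exact ⟨I, Y.isoSpec.hom ≫ k, inferInstance, by rw [Category.assoc, hkh, Iso.hom_inv_id_assoc]⟩

theorem universallyClosed_of_affineSpace [QuasiCompact f]
    (H : ∀ n : ℕ, IsClosedMap (map (ULift.{u} (Fin n)) f).base) : UniversallyClosed f := by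
  have KL : ∀ I : Type u, IsClosedMap (map I f).base :=
    isClosedMap_map_of_forall_finite f (fun I' _ => isClosedMap_map_of_finite f H I')
  rw [universallyClosed_eq]
  intro X' S' i₁ i₂ f' hsq
  have hex : ∀ t' : S', ∃ V' : S'.Opens, IsAffineOpen V' ∧ t' ∈ V' ∧
      ∃ V : S.Opens, IsAffineOpen V ∧ V' ≤ i₂ ⁻¹ᵁ V := by
    intro t'
    obtain ⟨_, ⟨V, hV, rfl⟩, hsV, -⟩ := S.isBasis_affineOpens.exists_subset_of_mem_open
      (Set.mem_univ (i₂.base t')) isOpen_univ
    obtain ⟨_, ⟨V', hV', rfl⟩, hsV', hle⟩ := S'.isBasis_affineOpens.exists_subset_of_mem_open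
      (show t' ∈ ((i₂ ⁻¹ᵁ V : S'.Opens) : Set S') from hsV) (i₂ ⁻¹ᵁ V).2
    exact ⟨V', hV', hsV', V, hV, hle⟩
  choose V' hV'aff hV'mem V hVaff hle using hex
  have hsup : iSup V' = ⊤ := by
    rw [eq_top_iff]
    intro t' _
    exact TopologicalSpace.Opens.mem_iSup.2 ⟨t', hV'mem t'⟩
  rw [IsZariskiLocalAtTarget.iff_of_iSup_eq_top (P := topologically @IsClosedMap) V' hsup]
  intro t'
  have hbig : IsPullback (f' ∣_ V' t') ((f' ⁻¹ᵁ V' t').ι ≫ i₁) ((V' t').ι ≫ i₂) f :=
    (isPullback_morphismRestrict f' (V' t')).paste_vert hsq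
  haveI : IsAffine ↑(V' t') := hV'aff t'
  obtain ⟨I, k, hk, hkh⟩ := exists_immersion_affineSpace' ((V' t').ι ≫ i₂) (V t') (hVaff t') (by
    rintro _ ⟨y, rfl⟩
    rw [Scheme.Hom.comp_base, TopCat.comp_app]
    exact hle t' y.2)
  let k'' : ↑(f' ⁻¹ᵁ V' t') ⟶ 𝔸(I; X) :=
    (isPullback_map f).lift ((f' ∣_ V' t') ≫ k) ((f' ⁻¹ᵁ V' t').ι ≫ i₁)
      (by rw [Category.assoc, hkh, hbig.w])
  have hk1 : k'' ≫ map I f = (f' ∣_ V' t') ≫ k := (isPullback_map f).lift_fst _ _ _
  have hk2 : k'' ≫ (𝔸(I; X) ↘ X) = (f' ⁻¹ᵁ V' t').ι ≫ i₁ := (isPullback_map f).lift_snd _ _ _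
  have hsq2 : IsPullback (f' ∣_ V' t') k'' k (map I f) := by
    refine IsPullback.of_bot ?_ hk1.symm (isPullback_map f)
    rw [hk2, hkh]
    exact hbig
  exact isClosedMap_of_isPullback_of_isImmersion hsq2 (KL I)

theorem S9205_main [QuasiCompact f] :
    (UniversallyClosed f ↔ ∀ (S' : Scheme.{u}) (g : S' ⟶ S), LocallyOfFinitePresentation g →
        IsClosedMap (pullback.snd f g).base) ∧
      (UniversallyClosed f ↔ ∀ n : ℕ,
        IsClosedMap (pullback.snd f (𝔸(ULift.{u} (Fin n); S) ↘ S)).base) := by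
  have h2 : (∀ n : ℕ, IsClosedMap (pullback.snd f (𝔸(ULift.{u} (Fin n); S) ↘ S)).base) →
      UniversallyClosed f := fun H =>
    universallyClosed_of_affineSpace f (fun n => isClosedMap_map_of_snd f _ (H n))
  have h1 : UniversallyClosed f → ∀ (S' : Scheme.{u}) (g : S' ⟶ S),
      IsClosedMap (pullback.snd f g).base := by
    intro hf S' g
    exact (pullback.snd f g).isClosedMap
  refine ⟨⟨fun hf S' g _ => h1 hf S' g, fun H => h2 fun n => H _ _ inferInstance⟩,
    ⟨fun hf n => h1 hf _ _, h2⟩⟩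

end assembly2

end Groth.Agent.Lib.Helper4.UC
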