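import Mathlib
import Groth.Prelude.Def_EGA43

/-!
# Universal openness at a point: formal properties (EGA IV 14.3)
-/
set_option autoImplicit false
set_option linter.unusedSectionVars false
set_option linter.style.haveILetI false

namespace Groth.Agent.Lib.Helper4.UO

universe u
open CategoryTheory CategoryTheory.Limits AlgebraicGeometry EGA43

section top
variable {α β γ : Type*} [TopologicalSpace α] [TopologicalSpace β] [TopologicalSpace γ]

theorem isOpenAt_comp {a : α → β} {b : β → γ} {x : α} (ha : IsOpenAt a x) (hb : IsOpenAt b (a x)) :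
    IsOpenAt (b ∘ a) x := by
  intro U hU
  rw [Set.image_comp]
  exact hb _ (ha U hU)

theorem isOpenAt_of_comp {a : α → β} {b : β → γ} {x : α} (hca : Continuous a)
    (h : IsOpenAt (b ∘ a) x) : IsOpenAt b (a x) := by
  intro U hU
  have h1 : a ⁻¹' U ∈ nhds x := hca.continuousAt hU
  have h2 := h _ h1
  refine Filter.mem_of_superset h2 ?_
  rw [Set.image_comp]
  exact Set.image_mono (Set.image_preimage_subset _ _)

theorem isOpenAt_of_homeomorph_comp {a : α → β} {b : β → γ} {x : α} (e : α ≃ₜ β) (hae : a = e)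
    (hb : IsOpenAt b (a x)) : IsOpenAt (b ∘ a) x := by
  apply isOpenAt_comp _ hb
  intro U hU
  subst hae
  exact e.isOpenMap.image_mem_nhds hU

end top

section sch
variable {X Y : Scheme.{u}}

/-- universal openness at a point can be tested on arbitrary pullback squares -/
theorem isOpenAt_of_isPullback {f : X ⟶ Y} {x : X} (hf : IsUnivOpenAt f x) {P Y' : Scheme.{u}}
    {fst : P ⟶ X} {snd : P ⟶ Y'} {g : Y' ⟶ Y} (h : IsPullback fst snd f g) (p : P)
    (hp : fst.base p = x) : IsOpenAt snd.base p := by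
  have h1 : h.isoPullback.hom ≫ pullback.snd f g = snd := h.isoPullback_hom_snd
  have h2 : h.isoPullback.hom ≫ pullback.fst f g = fst := h.isoPullback_hom_fst
  have h3 := hf Y' g (h.isoPullback.hom.base p) (by
    rw [← TopCat.comp_app, ← Scheme.Hom.comp_base, h2, hp])
  have h4 : (snd.base : P → Y') = (pullback.snd f g).base ∘ h.isoPullback.hom.base :=
    congrArg (fun m : P ⟶ Y' => (m.base : P → Y')) h1.symm
  rw [h4]
  exact isOpenAt_of_homeomorph_comp (h.isoPullback.hom.homeomorph) rfl h3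

/-- universal openness at a point is stable under base change -/
theorem isUnivOpenAt_of_isPullback {f : X ⟶ Y} {x : X} (hf : IsUnivOpenAt f x) {P Y' : Scheme.{u}}
    {fst : P ⟶ X} {snd : P ⟶ Y'} {g : Y' ⟶ Y} (h : IsPullback fst snd f g) (p : P)
    (hp : fst.base p = x) : IsUnivOpenAt snd p := by
  intro Y'' g' p' hp'
  have hpaste : IsPullback (pullback.fst snd g' ≫ fst) (pullback.snd snd g') f (g' ≫ g) :=
    (IsPullback.of_hasPullback snd g').paste_horiz h
  exact isOpenAt_of_isPullback hf hpaste p' (by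
    rw [Scheme.Hom.comp_base, TopCat.comp_app, hp', hp])

end sch


section three
variable {X Y Z : Scheme.{u}}

/-- the comparison `X ×_Z Z' ⟶ Y ×_Z Z'` and its pullback square -/
theorem isPullback_lift (f : X ⟶ Y) (g : Y ⟶ Z) {Z' : Scheme.{u}} (h : Z' ⟶ Z) :
    ∃ a : pullback (f ≫ g) h ⟶ pullback g h,
      a ≫ pullback.fst g h = pullback.fst (f ≫ g) h ≫ f ∧
      a ≫ pullback.snd g h = pullback.snd (f ≫ g) h ∧
      IsPullback (pullback.fst (f ≫ g) h) a f (pullback.fst g h) := by
  let a : pullback (f ≫ g) h ⟶ pullback g h :=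
    pullback.lift (pullback.fst (f ≫ g) h ≫ f) (pullback.snd (f ≫ g) h)
      (by rw [Category.assoc, pullback.condition])
  have ha1 : a ≫ pullback.fst g h = pullback.fst (f ≫ g) h ≫ f := pullback.lift_fst _ _ _
  have ha2 : a ≫ pullback.snd g h = pullback.snd (f ≫ g) h := pullback.lift_snd _ _ _
  refine ⟨a, ha1, ha2, ?_⟩
  have houter : IsPullback (a ≫ pullback.snd g h) (pullback.fst (f ≫ g) h) h (f ≫ g) := by
    rw [ha2]
    exact (IsPullback.of_hasPullback (f ≫ g) h).flip
  exact (IsPullback.of_right houter ha1 (IsPullback.of_hasPullback g h).flip).flip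

theorem S4925_main (f : X ⟶ Y) (g : Y ⟶ Z) (x : X)
    (hf : IsUnivOpenAt f x) (hg : IsUnivOpenAt g (f.base x)) : IsUnivOpenAt (f ≫ g) x := by
  intro Z' h x' hx'
  obtain ⟨a, ha1, ha2, hleft⟩ := isPullback_lift f g h
  have h1 : IsOpenAt a.base x' := isOpenAt_of_isPullback hf hleft x' hx'
  have h2 : IsOpenAt (pullback.snd g h).base (a.base x') := by
    apply hg Z' h
    rw [← TopCat.comp_app, ← Scheme.Hom.comp_base, ha1, Scheme.Hom.comp_base, TopCat.comp_app, hx']
  have h3 : ((pullback.snd (f ≫ g) h).base : ↥(pullback (f ≫ g) h) → Z') =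
      (pullback.snd g h).base ∘ a.base :=
    congrArg (fun m : pullback (f ≫ g) h ⟶ Z' => (m.base : ↥(pullback (f ≫ g) h) → Z')) ha2.symm
  rw [h3]
  exact isOpenAt_comp h1 h2

theorem S4926_main (f : X ⟶ Y) (g : Y ⟶ Z) (x : X)
    (h : IsUnivOpenAt (f ≫ g) x) : IsUnivOpenAt g (f.base x) := by
  intro Z' k y' hy'
  obtain ⟨a, ha1, ha2, hleft⟩ := isPullback_lift f g k
  obtain ⟨x', hx'1, hx'2⟩ := Scheme.exists_preimage_of_isPullback hleft x y' hy'.symm
  have h1 := h Z' k x' hx'1
  have h3 : ((pullback.snd (f ≫ g) k).base : ↥(pullback (f ≫ g) k) → Z') =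
      (pullback.snd g k).base ∘ a.base :=
    congrArg (fun m : pullback (f ≫ g) k ⟶ Z' => (m.base : ↥(pullback (f ≫ g) k) → Z')) ha2.symm
  rw [h3] at h1
  have := isOpenAt_of_comp a.base.hom.continuous h1
  rwa [hx'2] at this

theorem S4927_main {X Y S S' : Scheme.{u}} (p : X ⟶ S) (q : Y ⟶ S) (f : X ⟶ Y)
    (g : S' ⟶ S) (e₁ : p ≫ 𝟙 S = f ≫ q) (e₂ : g ≫ 𝟙 S = 𝟙 S' ≫ g) (x : X) (h : IsUnivOpenAt f x)
    (x' : ↥(pullback p g)) (hx' : (pullback.fst p g).base x' = x) :
    IsUnivOpenAt (pullback.map p g q g f (𝟙 S') (𝟙 S) e₁ e₂) x' := by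
  set m := pullback.map p g q g f (𝟙 S') (𝟙 S) e₁ e₂ with hm
  have hm1 : m ≫ pullback.fst q g = pullback.fst p g ≫ f := pullback.lift_fst _ _ _
  have hm2 : m ≫ pullback.snd q g = pullback.snd p g := by
    rw [hm, pullback.map]
    rw [pullback.lift_snd, Category.comp_id]
  have hpfq : p = f ≫ q := by rw [← e₁, Category.comp_id]
  have houter : IsPullback (m ≫ pullback.snd q g) (pullback.fst p g) g (f ≫ q) := by
    rw [hm2, ← hpfq]
    exact (IsPullback.of_hasPullback p g).flip
  have hsq : IsPullback (pullback.fst p g) m f (pullback.fst q g) :=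
    (IsPullback.of_right houter hm1 (IsPullback.of_hasPullback q g).flip).flip
  exact isUnivOpenAt_of_isPullback h hsq x' hx'

end three


section descent
variable {X Y Y₁ : Scheme.{u}}

theorem S4941_main (v : Y₁ ⟶ Y)
    (hv : IsClosedMap v.base) [Surjective v] (f : X ⟶ Y) (x : X)
    (h : ∀ x₁ : ↥(pullback f v), (pullback.fst f v).base x₁ = x →
      IsOpenAt (pullback.snd f v).base x₁) :
    IsOpenAt f.base x := by
  intro U hU
  have key : (pullback.snd f v).base '' ((pullback.fst f v).base ⁻¹' U) =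
      v.base ⁻¹' (f.base '' U) :=
    Scheme.image_preimage_eq_of_isPullback (IsPullback.of_hasPullback f v) U
  have hn : ∀ y₁, v.base y₁ = f.base x → v.base ⁻¹' (f.base '' U) ∈ nhds y₁ := by
    intro y₁ hy₁
    obtain ⟨x₁, hx₁1, hx₁2⟩ := Scheme.Pullback.exists_preimage_pullback x y₁ hy₁.symm
    have := h x₁ hx₁1 ((pullback.fst f v).base ⁻¹' U)
      ((pullback.fst f v).base.hom.continuous.continuousAt (by rwa [hx₁1]))
    rw [key, hx₁2] at this
    exact this
  set W := interior (v.base ⁻¹' (f.base '' U)) with hWdef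
  have hW : ∀ y₁, v.base y₁ = f.base x → y₁ ∈ W :=
    fun y₁ hy₁ => mem_interior_iff_mem_nhds.2 (hn y₁ hy₁)
  have hNopen : IsOpen (v.base '' Wᶜ)ᶜ := (hv _ isOpen_interior.isClosed_compl).isOpen_compl
  have hxN : f.base x ∈ (v.base '' Wᶜ)ᶜ := by
    rintro ⟨y₁, hy₁W, hy₁⟩
    exact hy₁W (hW y₁ hy₁)
  have hNsub : (v.base '' Wᶜ)ᶜ ⊆ f.base '' U := by
    intro z hz
    obtain ⟨z₁, rfl⟩ := v.surjective z
    have : z₁ ∈ W := by
      by_contra hc
      exact hz ⟨z₁, hc, rfl⟩
    have h2 : z₁ ∈ v.base ⁻¹' (f.base '' U) := interior_subset this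
    exact h2
  exact Filter.mem_of_superset (hNopen.mem_nhds hxN) hNsub

/-- pasting: `(X ×_Y Y') ×_{Y'} (Y₁ ×_Y Y') ⟶ Y₁ ×_Y Y'` is a base change of `X ×_Y Y₁ ⟶ Y₁` -/
theorem isPullback_paste3 (f : X ⟶ Y) (v : Y₁ ⟶ Y) {Y' : Scheme.{u}} (k : Y' ⟶ Y) :
    ∃ b : pullback (pullback.snd f k) (pullback.snd v k) ⟶ pullback f v,
      b ≫ pullback.fst f v = pullback.fst (pullback.snd f k) (pullback.snd v k) ≫ pullback.fst f k ∧
      IsPullback b (pullback.snd (pullback.snd f k) (pullback.snd v k)) (pullback.snd f v)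
        (pullback.fst v k) := by
  have hcomm : (pullback.fst (pullback.snd f k) (pullback.snd v k) ≫ pullback.fst f k) ≫ f =
      (pullback.snd (pullback.snd f k) (pullback.snd v k) ≫ pullback.fst v k) ≫ v := by
    rw [Category.assoc, pullback.condition, ← Category.assoc, pullback.condition, Category.assoc,
      Category.assoc, pullback.condition]
  let b : pullback (pullback.snd f k) (pullback.snd v k) ⟶ pullback f v :=
    pullback.lift _ _ hcomm
  have hb1 : b ≫ pullback.fst f v =
      pullback.fst (pullback.snd f k) (pullback.snd v k) ≫ pullback.fst f k :=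
    pullback.lift_fst _ _ _
  have hb2 : b ≫ pullback.snd f v =
      pullback.snd (pullback.snd f k) (pullback.snd v k) ≫ pullback.fst v k :=
    pullback.lift_snd _ _ _
  refine ⟨b, hb1, ?_⟩
  have houter : IsPullback (b ≫ pullback.fst f v)
      (pullback.snd (pullback.snd f k) (pullback.snd v k)) f (pullback.fst v k ≫ v) := by
    rw [hb1, pullback.condition (f := v) (g := k)]
    exact (IsPullback.of_hasPullback (pullback.snd f k) (pullback.snd v k)).paste_horiz
      (IsPullback.of_hasPullback f k)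
  exact IsPullback.of_right houter hb2 (IsPullback.of_hasPullback f v)

theorem isOpenAt_paste3 (f : X ⟶ Y) (v : Y₁ ⟶ Y) (x : X)
    (h : ∀ x₁ : ↥(pullback f v), (pullback.fst f v).base x₁ = x →
      IsUnivOpenAt (pullback.snd f v) x₁)
    {Y' : Scheme.{u}} (k : Y' ⟶ Y) (x' : ↥(pullback f k)) (hx' : (pullback.fst f k).base x' = x)
    (q : ↥(pullback (pullback.snd f k) (pullback.snd v k)))
    (hq : (pullback.fst (pullback.snd f k) (pullback.snd v k)).base q = x') :
    IsOpenAt (pullback.snd (pullback.snd f k) (pullback.snd v k)).base q := by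
  obtain ⟨b, hb1, hsq⟩ := isPullback_paste3 f v k
  have hbq : (pullback.fst f v).base (b.base q) = x := by
    rw [← TopCat.comp_app, ← Scheme.Hom.comp_base, hb1, Scheme.Hom.comp_base, TopCat.comp_app, hq,
      hx']
  exact isOpenAt_of_isPullback (h _ hbq) hsq q rfl

theorem S4942_main (v : Y₁ ⟶ Y)
    [UniversallyClosed v] [Surjective v] (f : X ⟶ Y) (x : X)
    (h : ∀ x₁ : ↥(pullback f v), (pullback.fst f v).base x₁ = x →
      IsUnivOpenAt (pullback.snd f v) x₁) :
    IsUnivOpenAt f x := by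
  intro Y' k x' hx'
  apply S4941_main (pullback.snd v k) (pullback.snd v k).isClosedMap (pullback.snd f k) x'
  intro q hq
  exact isOpenAt_paste3 f v x h k x' hx' q hq

theorem isOpenAt_of_finite_closed_cover {α β : Type*} [TopologicalSpace α] [TopologicalSpace β]
    {ι : Type*} [Finite ι] (φ : α → β) (a : α) (C : ι → Set β) (hC : ∀ i, IsClosed (C i))
    (hcov : ⋃ i, C i = Set.univ)
    (h : ∀ i, φ a ∈ C i → ∀ U ∈ nhds a, ∃ V ∈ nhds (φ a), V ∩ C i ⊆ φ '' U) : IsOpenAt φ a := by
  classical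
  intro U hU
  have hex : ∀ i, ∃ V ∈ nhds (φ a), V ∩ C i ⊆ φ '' U := by
    intro i
    by_cases hi : φ a ∈ C i
    · exact h i hi U hU
    · refine ⟨(C i)ᶜ, (hC i).isOpen_compl.mem_nhds hi, ?_⟩
      rintro z ⟨hz1, hz2⟩
      exact absurd hz2 hz1
  choose V hV hVsub using hex
  have hN : (⋂ i, V i) ∈ nhds (φ a) := (Filter.iInter_mem).2 hV
  refine Filter.mem_of_superset hN ?_
  intro z hz
  have hzu : z ∈ ⋃ i, C i := by rw [hcov]; trivial
  obtain ⟨i, hi⟩ := Set.mem_iUnion.1 hzu
  exact hVsub i ⟨Set.mem_iInter.1 hz i, hi⟩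

theorem S4929_main (f : X ⟶ Y) (x : X) {ι : Type*}
    [Finite ι] (T : ι → Scheme.{u}) (g : ∀ i, T i ⟶ Y) [∀ i, IsClosedImmersion (g i)]
    (hcov : ⋃ i, Set.range (g i).base = Set.univ)
    (h : ∀ i, ∀ x' : ↥(pullback f (g i)), (pullback.fst f (g i)).base x' = x →
      IsUnivOpenAt (pullback.snd f (g i)) x') :
    IsUnivOpenAt f x := by
  intro Y' k x' hx'
  apply isOpenAt_of_finite_closed_cover (pullback.snd f k).base x'
    (fun i => Set.range (pullback.snd (g i) k).base)
  · intro i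
    exact (pullback.snd (g i) k).isClosedEmbedding.isClosed_range
  · rw [Set.eq_univ_iff_forall]
    intro y'
    have : k.base y' ∈ ⋃ i, Set.range (g i).base := by rw [hcov]; trivial
    obtain ⟨i, t, ht⟩ := Set.mem_iUnion.1 this
    obtain ⟨z, -, hz⟩ := Scheme.Pullback.exists_preimage_pullback (f := g i) (g := k) t y' ht
    exact Set.mem_iUnion.2 ⟨i, z, hz⟩
  · rintro i ⟨t, ht⟩ U hU
    obtain ⟨q, hq1, hq2⟩ := Scheme.Pullback.exists_preimage_pullback
      (f := pullback.snd f k) (g := pullback.snd (g i) k) x' t ht.symm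
    have hopen := isOpenAt_paste3 f (g i) x (h i) k x' hx' q hq1
    have hpre : (pullback.fst (pullback.snd f k) (pullback.snd (g i) k)).base ⁻¹' U ∈ nhds q :=
      (pullback.fst (pullback.snd f k) (pullback.snd (g i) k)).base.hom.continuous.continuousAt
        (by rwa [hq1])
    have h1 := hopen _ hpre
    rw [Scheme.image_preimage_eq_of_isPullback
      (IsPullback.of_hasPullback (pullback.snd f k) (pullback.snd (g i) k)) U, hq2] at h1
    -- use that the closed immersion is inducing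
    have hind := (pullback.snd (g i) k).isClosedEmbedding.isInducing
    rw [hind.nhds_eq_comap, Filter.mem_comap] at h1
    obtain ⟨V, hV, hVsub⟩ := h1
    rw [ht] at hV
    refine ⟨V, hV, ?_⟩
    rintro z ⟨hzV, s, rfl⟩
    exact hVsub hzV

end descent

end Groth.Agent.Lib.Helper4.UO
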