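import Mathlib
import Groth.Agent.Lib.Helper4.UnivClosed
import Groth.Agent.Lib.Helper4.UnivOpenAt

set_option backward.isDefEq.respectTransparency.types false
set_option synthInstance.maxHeartbeats 400000
set_option autoImplicit false
set_option linter.unusedSectionVars false
set_option linter.style.haveILetI false

namespace Groth.Agent.Lib.Helper4.UOp

universe u
open CategoryTheory CategoryTheory.Limits AlgebraicGeometry AffineSpace MvPolynomial EGA43
open Groth.Agent.Lib.Helper4.UC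
open scoped Topology

theorem isOpenMap_iff_isOpenAt {α β : Type*} [TopologicalSpace α] [TopologicalSpace β] (f : α → β) :
    IsOpenMap f ↔ ∀ x, IsOpenAt f x := by
  rw [isOpenMap_iff_nhds_le]
  exact forall_congr' fun x => Filter.le_map_iff

/-- key pullback lemma for openness at a point -/
theorem image_mem_nhds_of_isPullback {P X Y S : Scheme.{u}} {fst : P ⟶ X} {snd : P ⟶ Y}
    {f : X ⟶ S} {g : Y ⟶ S} (h : IsPullback fst snd f g) (p : P)
    (hf : IsOpenAt f.base (fst.base p)) (U : Set P) (W₁ : Set X) (hW₁ : W₁ ∈ 𝓝 (fst.base p))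
    (hU : fst.base ⁻¹' W₁ ⊆ U) : snd.base '' U ∈ 𝓝 (snd.base p) := by
  have h1 : f.base '' W₁ ∈ 𝓝 (f.base (fst.base p)) := hf W₁ hW₁
  have hcomm : f.base (fst.base p) = g.base (snd.base p) := by
    rw [← TopCat.comp_app, ← Scheme.Hom.comp_base, h.w, Scheme.Hom.comp_base, TopCat.comp_app]
  rw [hcomm] at h1
  have h2 : g.base ⁻¹' (f.base '' W₁) ∈ 𝓝 (snd.base p) :=
    g.base.hom.continuous.continuousAt h1
  refine Filter.mem_of_superset h2 ?_
  rintro y ⟨a, ha, hay⟩
  obtain ⟨q, hq1, hq2⟩ := Scheme.exists_preimage_of_isPullback h a y hay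
  exact ⟨q, hU (by rw [Set.mem_preimage, hq1]; exact ha), hq2⟩

theorem isOpenAt_of_isPullback_of_isInducing {P X Y S : Scheme.{u}} {fst : P ⟶ X} {snd : P ⟶ Y}
    {f : X ⟶ S} {g : Y ⟶ S} (h : IsPullback fst snd f g) (hind : Topology.IsInducing fst.base)
    (p : P) (hf : IsOpenAt f.base (fst.base p)) : IsOpenAt snd.base p := by
  intro U hU
  rw [hind.nhds_eq_comap] at hU
  obtain ⟨W₁, hW₁, hW₁U⟩ := hU
  exact image_mem_nhds_of_isPullback h p hf U W₁ hW₁ hW₁U

theorem isPullback_reindex_map {I I' : Type u} (ι : I' → I) {X S : Scheme.{u}} (f : X ⟶ S) :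
    IsPullback (reindex ι X) (map I f) (map I' f) (reindex ι S) := by
  refine IsPullback.of_right ?_ (map_reindex ι f).symm (isPullback_map (n := I') f).flip
  rw [reindex_over, reindex_over]
  exact (isPullback_map (n := I) f).flip

section KL
variable {X S : Scheme.{u}} (f : X ⟶ S)

theorem isOpenAt_map_of_finite (x : X)
    (H : ∀ (n : ℕ) (z : 𝔸(ULift.{u} (Fin n); X)), (𝔸(ULift.{u} (Fin n); X) ↘ X).base z = x →
      IsOpenAt (map (ULift.{u} (Fin n)) f).base z) (I' : Type u) [Finite I']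
    (z : 𝔸(I'; X)) (hz : (𝔸(I'; X) ↘ X).base z = x) : IsOpenAt (map I' f).base z := by
  obtain ⟨n, ⟨e⟩⟩ := Finite.exists_equiv_fin I'
  let e' : I' ≃ ULift.{u} (Fin n) := e.trans Equiv.ulift.symm
  have hiso : IsIso (reindex (e'.symm : ULift.{u} (Fin n) → I') X) := by
    refine ⟨reindex (e' : I' → ULift.{u} (Fin n)) X, ?_, ?_⟩
    · rw [← reindex_comp']
      have h2 : ((e'.symm : ULift.{u} (Fin n) → I') ∘ (e' : I' → ULift.{u} (Fin n))) = id := by
        funext x; simp
      rw [h2, reindex_id]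
    · rw [← reindex_comp']
      have h2 : ((e' : I' → ULift.{u} (Fin n)) ∘ (e'.symm : ULift.{u} (Fin n) → I')) = id := by
        funext x; simp
      rw [h2, reindex_id]
  have hind : Topology.IsInducing (reindex (e'.symm : ULift.{u} (Fin n) → I') X).base :=
    (Scheme.Hom.homeomorph (reindex (e'.symm : ULift.{u} (Fin n) → I') X)).isInducing
  apply isOpenAt_of_isPullback_of_isInducing (isPullback_reindex_map (e'.symm : ULift.{u} (Fin n) → I') f)
    hind z
  apply H n
  rw [← TopCat.comp_app, ← Scheme.Hom.comp_base, reindex_over]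
  exact hz

theorem isOpenAt_map_of_forall_finite (x : X)
    (H : ∀ (I' : Type u) [Finite I'] (z : 𝔸(I'; X)), (𝔸(I'; X) ↘ X).base z = x →
      IsOpenAt (map I' f).base z) (I : Type u)
    (z : 𝔸(I; X)) (hz : (𝔸(I; X) ↘ X).base z = x) : IsOpenAt (map I f).base z := by
  classical
  intro U hU
  obtain ⟨_, ⟨U₀, hU₀, rfl⟩, hxU₀, -⟩ := X.isBasis_affineOpens.exists_subset_of_mem_open
    (Set.mem_univ x) isOpen_univ
  have hU₀' : IsAffineOpen U₀ := hU₀
  set C : CommRingCat := Γ(X, U₀) with hC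
  set jX : Spec C ⟶ X := hU₀'.fromSpec with hjX
  have hrX : Set.range jX.base = U₀ := hU₀'.range_fromSpec
  have hzr : z ∈ Set.range (chart I C jX).base := by
    rw [range_chart, hrX, Set.mem_preimage, hz]; exact hxU₀
  obtain ⟨w, rfl⟩ := hzr
  have hpre : (chart I C jX).base ⁻¹' U ∈ 𝓝 w :=
    (chart I C jX).base.hom.continuous.continuousAt hU
  obtain ⟨_, ⟨h, rfl⟩, hwh, hhU⟩ :=
    (PrimeSpectrum.isTopologicalBasis_basic_opens (R := MvPolynomial I C)).mem_nhds_iff.1 hpre
  obtain ⟨s, hs⟩ : ∃ s : Finset I, h.vars ⊆ s := ⟨h.vars, Finset.Subset.refl _⟩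
  obtain ⟨h', hh'⟩ := exists_rename_of_vars_subset h s hs
  -- the neighbourhood downstairs
  set D' : Set (Spec (.of (MvPolynomial s C))) := {v | h' ∉ v.asIdeal} with hD'
  have hD'open : IsOpen D' := (PrimeSpectrum.basicOpen h').2
  set W₁ : Set 𝔸(s; X) := (chart s C jX).base '' D' with hW₁
  have hemb : Topology.IsOpenEmbedding (chart s C jX).base := (chart s C jX).isOpenEmbedding
  have hW₁open : IsOpen W₁ := hemb.isOpenMap _ hD'open
  have hre : ∀ w' : Spec (.of (MvPolynomial I C)),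
      (reindex (Subtype.val : s → I) X).base ((chart I C jX).base w') =
        (chart s C jX).base (PrimeSpectrum.comap (rename (Subtype.val : s → I)).toRingHom w') := by
    intro w'
    have h1 := chart_reindex (Subtype.val : s → I) C jX
    have h2 := congrArg (fun g => g.base w') h1
    simp only [Scheme.Hom.comp_base, TopCat.comp_app] at h2
    exact h2
  have hmem : ∀ w' : Spec (.of (MvPolynomial I C)),
      PrimeSpectrum.comap (rename (Subtype.val : s → I)).toRingHom w' ∈ D' ↔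
        h ∉ w'.asIdeal := by
    intro w'
    have : (rename (Subtype.val : s → I) h' ∈ w'.asIdeal) ↔ (h ∈ w'.asIdeal) := by rw [hh']
    exact not_congr this
  have hW₁mem : W₁ ∈ 𝓝 ((reindex (Subtype.val : s → I) X).base ((chart I C jX).base w)) := by
    apply hW₁open.mem_nhds
    rw [hre]
    exact ⟨_, (hmem w).2 hwh, rfl⟩
  have hsub : (reindex (Subtype.val : s → I) X).base ⁻¹' W₁ ⊆ U := by
    rintro z' ⟨v, hv, hvz'⟩
    have hz'r : z' ∈ Set.range (chart I C jX).base := by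
      rw [range_chart]
      have h1 : (𝔸(s; X) ↘ X).base ((reindex (Subtype.val : s → I) X).base z') =
          (𝔸(I; X) ↘ X).base z' := by
        rw [← TopCat.comp_app, ← Scheme.Hom.comp_base, reindex_over]
      rw [Set.mem_preimage, ← h1, ← hvz']
      have : (chart s C jX).base v ∈ Set.range (chart s C jX).base := ⟨v, rfl⟩
      rw [range_chart] at this
      exact this
    obtain ⟨w', rfl⟩ := hz'r
    rw [hre] at hvz'
    have hvw' := hemb.injective hvz'
    rw [hvw'] at hv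
    exact hhU ((hmem w').1 hv)
  apply image_mem_nhds_of_isPullback (isPullback_reindex_map (Subtype.val : s → I) f)
    ((chart I C jX).base w) _ U W₁ hW₁mem hsub
  apply H s
  rw [← TopCat.comp_app, ← Scheme.Hom.comp_base, reindex_over]
  exact hz

end KL

section assembly
variable {X S : Scheme.{u}} (f : X ⟶ S)

theorem isUnivOpenAt_of_affineSpace (x : X)
    (H : ∀ (n : ℕ) (z : 𝔸(ULift.{u} (Fin n); X)), (𝔸(ULift.{u} (Fin n); X) ↘ X).base z = x →
      IsOpenAt (map (ULift.{u} (Fin n)) f).base z) : IsUnivOpenAt f x := by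
  have KL : ∀ (I : Type u) (z : 𝔸(I; X)), (𝔸(I; X) ↘ X).base z = x →
      IsOpenAt (map I f).base z :=
    isOpenAt_map_of_forall_finite f x (fun I' _ => isOpenAt_map_of_finite f x H I')
  intro S' g x' hx'
  set f' := pullback.snd f g with hf'
  set i₁ := pullback.fst f g with hi₁
  have hsq : IsPullback f' i₁ g f := (IsPullback.of_hasPullback f g).flip
  set t' := f'.base x' with ht'
  obtain ⟨V', hV', hsV', V, hV, hle⟩ : ∃ V' : S'.Opens, IsAffineOpen V' ∧ t' ∈ V' ∧
      ∃ V : S.Opens, IsAffineOpen V ∧ V' ≤ g ⁻¹ᵁ V := by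
    obtain ⟨_, ⟨V, hV, rfl⟩, hsV, -⟩ := S.isBasis_affineOpens.exists_subset_of_mem_open
      (Set.mem_univ (g.base t')) isOpen_univ
    obtain ⟨_, ⟨V', hV', rfl⟩, hsV', hle⟩ := S'.isBasis_affineOpens.exists_subset_of_mem_open
      (show t' ∈ ((g ⁻¹ᵁ V : S'.Opens) : Set S') from hsV) (g ⁻¹ᵁ V).2
    exact ⟨V', hV', hsV', V, hV, hle⟩
  have hbig : IsPullback (f' ∣_ V') ((f' ⁻¹ᵁ V').ι ≫ i₁) (V'.ι ≫ g) f :=
    (isPullback_morphismRestrict f' V').paste_vert hsq
  haveI : IsAffine ↑V' := hV'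
  obtain ⟨I, k, hk, hkh⟩ := exists_immersion_affineSpace' (V'.ι ≫ g) V hV (by
    rintro _ ⟨y, rfl⟩
    rw [Scheme.Hom.comp_base, TopCat.comp_app]
    exact hle y.2)
  let k'' : ↑(f' ⁻¹ᵁ V') ⟶ 𝔸(I; X) :=
    (isPullback_map f).lift ((f' ∣_ V') ≫ k) ((f' ⁻¹ᵁ V').ι ≫ i₁)
      (by rw [Category.assoc, hkh, hbig.w])
  have hk1 : k'' ≫ map I f = (f' ∣_ V') ≫ k := (isPullback_map f).lift_fst _ _ _
  have hk2 : k'' ≫ (𝔸(I; X) ↘ X) = (f' ⁻¹ᵁ V').ι ≫ i₁ := (isPullback_map f).lift_snd _ _ _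
  have hsq2 : IsPullback (f' ∣_ V') k'' k (map I f) := by
    refine IsPullback.of_bot ?_ hk1.symm (isPullback_map f)
    rw [hk2, hkh]
    exact hbig
  haveI hk'' : IsImmersion k'' :=
    MorphismProperty.of_isPullback (P := @IsImmersion) hsq2 inferInstance
  have hind : Topology.IsInducing k''.base := k''.isEmbedding.isInducing
  let p' : ↑(f' ⁻¹ᵁ V') := ⟨x', hsV'⟩
  have hp'x : (𝔸(I; X) ↘ X).base (k''.base p') = x := by
    rw [← TopCat.comp_app, ← Scheme.Hom.comp_base, hk2, Scheme.Hom.comp_base, TopCat.comp_app]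
    exact hx'
  have hopen : IsOpenAt (f' ∣_ V').base p' :=
    isOpenAt_of_isPullback_of_isInducing hsq2.flip hind p' (KL I _ hp'x)
  intro U hU
  have h1 : (f' ⁻¹ᵁ V').ι.base ⁻¹' U ∈ 𝓝 p' :=
    (f' ⁻¹ᵁ V').ι.base.hom.continuous.continuousAt hU
  have h2 := hopen _ h1
  have h3 : V'.ι.base '' ((f' ∣_ V').base '' ((f' ⁻¹ᵁ V').ι.base ⁻¹' U)) ∈
      𝓝 (V'.ι.base ((f' ∣_ V').base p')) :=
    V'.ι.isOpenEmbedding.isOpenMap.image_mem_nhds h2
  have hcomm : ∀ q : ↑(f' ⁻¹ᵁ V'), V'.ι.base ((f' ∣_ V').base q) = f'.base ((f' ⁻¹ᵁ V').ι.base q) := by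
    intro q
    rw [← TopCat.comp_app, ← Scheme.Hom.comp_base, morphismRestrict_ι, Scheme.Hom.comp_base,
      TopCat.comp_app]
  rw [hcomm p'] at h3
  refine Filter.mem_of_superset h3 ?_
  rintro _ ⟨_, ⟨q, hq, rfl⟩, rfl⟩
  rw [hcomm q]
  exact ⟨_, hq, rfl⟩

theorem universallyOpen_of_forall_isUnivOpenAt (h : ∀ x : X, IsUnivOpenAt f x) :
    UniversallyOpen f := by
  rw [UniversallyOpen.eq]
  intro X' S' i₁ i₂ f' hsq
  exact (isOpenMap_iff_isOpenAt _).2 fun p => UO.isOpenAt_of_isPullback (h (i₁.base p)) hsq.flip p rfl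

theorem isUnivOpenAt_of_universallyOpen [UniversallyOpen f] (x : X) : IsUnivOpenAt f x := by
  intro Y' g x' _
  exact (isOpenMap_iff_isOpenAt _).1 (pullback.snd f g).isOpenMap x'

theorem universallyOpen_of_affineSpace
    (H : ∀ n : ℕ, IsOpenMap (map (ULift.{u} (Fin n)) f).base) : UniversallyOpen f :=
  universallyOpen_of_forall_isUnivOpenAt f fun x =>
    isUnivOpenAt_of_affineSpace f x fun n z _ => (isOpenMap_iff_isOpenAt _).1 (H n) z

theorem S1373_main :
    UniversallyOpen f ↔ ∀ n : ℕ, IsOpenMap (map (ULift.{u} (Fin n)) f).base := by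
  refine ⟨fun hf n => ?_, universallyOpen_of_affineSpace f⟩
  haveI : UniversallyOpen (map (ULift.{u} (Fin n)) f) :=
    MorphismProperty.of_isPullback (P := @UniversallyOpen) (isPullback_map f).flip hf
  exact (map (ULift.{u} (Fin n)) f).isOpenMap

theorem isOpenMap_of_isPullback_of_section {P X Y S : Scheme.{u}} {fst : P ⟶ X} {snd : P ⟶ Y}
    {f : X ⟶ S} {g : Y ⟶ S} (h : IsPullback fst snd f g) (σ : S ⟶ Y) (hσ : σ ≫ g = 𝟙 S)
    (hsnd : IsOpenMap snd.base) : IsOpenMap f.base := by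
  intro W hW
  have hσ' : ∀ t, g.base (σ.base t) = t := by
    intro t
    rw [← TopCat.comp_app, ← Scheme.Hom.comp_base, hσ]
    rfl
  have hcomm : ∀ q, f.base (fst.base q) = g.base (snd.base q) := by
    intro q
    rw [← TopCat.comp_app, ← Scheme.Hom.comp_base, h.w, Scheme.Hom.comp_base, TopCat.comp_app]
  have heq : f.base '' W = σ.base ⁻¹' (snd.base '' (fst.base ⁻¹' W)) := by
    ext t
    constructor
    · rintro ⟨a, ha, rfl⟩
      obtain ⟨q, hq1, hq2⟩ := Scheme.exists_preimage_of_isPullback h a (σ.base (f.base a))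
        (hσ' _).symm
      exact ⟨q, by rw [Set.mem_preimage, hq1]; exact ha, hq2⟩
    · rintro ⟨q, hq, hqt⟩
      refine ⟨fst.base q, hq, ?_⟩
      rw [hcomm, hqt, hσ']
  rw [heq]
  exact (hsnd _ (hW.preimage fst.base.hom.continuous)).preimage σ.base.hom.continuous

theorem isOpenMap_map_zero (H : IsOpenMap (map (ULift.{u} (Fin 1)) f).base) :
    IsOpenMap (map (ULift.{u} (Fin 0)) f).base := by
  let ι : ULift.{u} (Fin 0) → ULift.{u} (Fin 1) := fun i => i.down.elim0
  let σ : 𝔸(ULift.{u} (Fin 0); S) ⟶ 𝔸(ULift.{u} (Fin 1); S) :=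
    homOfVector (𝔸(ULift.{u} (Fin 0); S) ↘ S) (fun _ => 0)
  have hσ : σ ≫ reindex ι S = 𝟙 _ := by
    apply hom_ext
    · rw [Category.assoc, reindex_over, homOfVector_over, Category.id_comp]
    · intro i
      exact i.down.elim0
  exact isOpenMap_of_isPullback_of_section (isPullback_reindex_map ι f) σ hσ H

theorem isOpenMap_map_of_snd (n : Type u)
    (h : IsOpenMap (pullback.snd f (𝔸(n; S) ↘ S)).base) : IsOpenMap (map n f).base := by
  have hp : IsPullback (𝔸(n; X) ↘ X) (map n f) f (𝔸(n; S) ↘ S) := (isPullback_map f).flip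
  have h1 : hp.isoPullback.hom ≫ pullback.snd f (𝔸(n; S) ↘ S) = map n f := hp.isoPullback_hom_snd
  rw [← h1, Scheme.Hom.comp_base]
  exact h.comp (hp.isoPullback.hom.homeomorph).isOpenMap

theorem S4780_main
    (h : ∀ n : ℕ, 0 < n →
      IsOpenMap (pullback.snd f (𝔸(ULift.{u} (Fin n); S) ↘ S)).base) :
    UniversallyOpen f := by
  apply universallyOpen_of_affineSpace
  have H : ∀ n : ℕ, 0 < n → IsOpenMap (map (ULift.{u} (Fin n)) f).base :=
    fun n hn => isOpenMap_map_of_snd f _ (h n hn)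
  intro n
  rcases Nat.eq_zero_or_pos n with rfl | hn
  · exact isOpenMap_map_zero f (H 1 Nat.one_pos)
  · exact H n hn

end assembly

end Groth.Agent.Lib.Helper4.UOp

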