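import Mathlib
import Groth.Agent.Lib.Helper4.UnivOpen
import Groth.Agent.Lib.Helper4.DomDVR3

set_option backward.isDefEq.respectTransparency.types false
set_option synthInstance.maxHeartbeats 400000
set_option autoImplicit false
set_option linter.unusedSectionVars false
set_option linter.style.haveILetI false

namespace Groth.Agent.Lib.Helper4.UOp

universe u
open CategoryTheory CategoryTheory.Limits AlgebraicGeometry AffineSpace MvPolynomial EGA43
open Groth.Agent.Lib.Helper4.UC
open scoped Topology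
open Topology

/-- ring-theoretic core of "open implies generalizing" -/
theorem ring_core {R B : Type*} [CommRing R] [CommRing B] (φ : R →+* B) (q : PrimeSpectrum B)
    (p' : PrimeSpectrum R)
    (hopen : ∀ g : B, g ∉ q.asIdeal →
      ∃ q'' : PrimeSpectrum B, g ∉ q''.asIdeal ∧ q''.asIdeal.comap φ = p'.asIdeal) :
    ∃ q' : PrimeSpectrum B, q'.asIdeal ≤ q.asIdeal ∧ q'.asIdeal.comap φ = p'.asIdeal := by
  classical
  set M : Submonoid B := p'.asIdeal.primeCompl.map φ ⊔ q.asIdeal.primeCompl with hM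
  set J : Ideal B := p'.asIdeal.map φ with hJ
  have hdisj : Disjoint (J : Set B) (M : Set B) := by
    rw [Set.disjoint_left]
    intro s hsJ hsM
    rw [SetLike.mem_coe, hM, Submonoid.mem_sup] at hsM
    obtain ⟨a, ⟨r, hr, rfl⟩, g, hg, rfl⟩ := hsM
    obtain ⟨q'', hgq'', hq''⟩ := hopen g hg
    have hJq'' : J ≤ q''.asIdeal := by
      rw [hJ, Ideal.map_le_iff_le_comap, hq'']
    have h1 : φ r * g ∈ q''.asIdeal := hJq'' hsJ
    rcases q''.isPrime.mem_or_mem h1 with h2 | h2
    · have : r ∈ q''.asIdeal.comap φ := h2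
      rw [hq''] at this
      exact hr this
    · exact hgq'' h2
  obtain ⟨P, hP, hJP, hPM⟩ := Ideal.exists_le_prime_disjoint J M hdisj
  refine ⟨⟨P, hP⟩, ?_, ?_⟩
  · intro b hb
    by_contra hbq
    have : b ∈ M := by
      rw [hM]
      exact Submonoid.mem_sup_right hbq
    exact Set.disjoint_left.1 hPM hb this
  · apply le_antisymm
    · intro r hr
      by_contra hrp
      have : φ r ∈ M := by
        rw [hM]
        exact Submonoid.mem_sup_left ⟨r, hrp, rfl⟩
      exact Set.disjoint_left.1 hPM hr this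
    · rw [← Ideal.map_le_iff_le_comap]
      exact hJP

/-- affine charts around a point and its image -/
theorem exists_affine_charts {X Y : Scheme.{u}} (f : X ⟶ Y) (x : X) :
    ∃ (V : Y.Opens) (U : X.Opens), IsAffineOpen V ∧ IsAffineOpen U ∧ U ≤ f ⁻¹ᵁ V ∧
      x ∈ U ∧ f.base x ∈ V := by
  obtain ⟨_, ⟨V, hV, rfl⟩, hsV, -⟩ := Y.isBasis_affineOpens.exists_subset_of_mem_open
    (Set.mem_univ (f.base x)) isOpen_univ
  obtain ⟨_, ⟨U, hU, rfl⟩, hsU, hle⟩ := X.isBasis_affineOpens.exists_subset_of_mem_open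
    (show x ∈ ((f ⁻¹ᵁ V : X.Opens) : Set X) from hsV) (f ⁻¹ᵁ V).2
  exact ⟨V, U, hV, hU, hle, hsU, hsV⟩

/-- (P2) a morphism open at `x` lifts generizations of `f x` to generizations of `x` -/
theorem exists_generization_of_isOpenAt {X Y : Scheme.{u}} (f : X ⟶ Y) (x : X)
    (hf : IsOpenAt f.base x) (y' : Y) (hy' : y' ⤳ f.base x) :
    ∃ x' : X, x' ⤳ x ∧ f.base x' = y' := by
  obtain ⟨V, U, hV, hU, e, hxU, hxV⟩ := exists_affine_charts f x
  set φ := f.appLE V U e with hφ
  have hsq : Spec.map φ ≫ hV.fromSpec = hU.fromSpec ≫ f :=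
    IsAffineOpen.SpecMap_appLE_fromSpec f hV hU e
  have hsq' : ∀ q : Spec Γ(X, U), hV.fromSpec.base ((Spec.map φ).base q) = f.base (hU.fromSpec.base q) := by
    intro q
    rw [← TopCat.comp_app, ← Scheme.Hom.comp_base, hsq, Scheme.Hom.comp_base, TopCat.comp_app]
  have hy'V : y' ∈ (V : Set Y) := hy'.mem_open V.2 hxV
  obtain ⟨q, rfl⟩ : x ∈ Set.range hU.fromSpec.base := by rw [hU.range_fromSpec]; exact hxU
  obtain ⟨p', rfl⟩ : y' ∈ Set.range hV.fromSpec.base := by rw [hV.range_fromSpec]; exact hy'V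
  have hVemb : Topology.IsOpenEmbedding hV.fromSpec.base := hV.fromSpec.isOpenEmbedding
  have hUemb : Topology.IsOpenEmbedding hU.fromSpec.base := hU.fromSpec.isOpenEmbedding
  obtain ⟨q', hq'q, hq'p'⟩ := ring_core φ.hom q p' (by
    intro g hg
    have hDopen : IsOpen {v : Spec Γ(X, U) | g ∉ v.asIdeal} := (PrimeSpectrum.basicOpen g).2
    have h1 : hU.fromSpec.base '' {v : Spec Γ(X, U) | g ∉ v.asIdeal} ∈ 𝓝 (hU.fromSpec.base q) :=
      (hUemb.isOpenMap _ hDopen).mem_nhds ⟨q, hg, rfl⟩
    have h2 := hf _ h1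
    have h3 := hy'.mem_open isOpen_interior (mem_interior_iff_mem_nhds.2 h2)
    obtain ⟨_, ⟨q'', hq'', rfl⟩, hq''y⟩ := interior_subset h3
    refine ⟨q'', hq'', ?_⟩
    rw [← hsq'] at hq''y
    have := hVemb.injective hq''y
    exact congrArg PrimeSpectrum.asIdeal this)
  refine ⟨hU.fromSpec.base q', ?_, ?_⟩
  · apply Specializes.map _ hU.fromSpec.base.hom.continuous
    exact (PrimeSpectrum.le_iff_specializes q' q).1 hq'q
  · rw [← hsq']
    congr 1
    exact PrimeSpectrum.ext hq'p'

/-- a constructible set containing all generizations of a point is a neighbourhood of it -/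
theorem mem_nhds_of_isConstructible {R : Type u} [CommRing R] {E : Set (PrimeSpectrum R)}
    (hE : IsConstructible E) (p : PrimeSpectrum R) (hp : ∀ p₁ : PrimeSpectrum R, p₁ ⤳ p → p₁ ∈ E) :
    E ∈ 𝓝 p := by
  obtain ⟨S', _, ψ, hψ⟩ := PrimeSpectrum.exists_range_eq_of_isConstructible hE.compl
  have hcl : closure Eᶜ = PrimeSpectrum.zeroLocus (RingHom.ker ψ : Set R) := by
    rw [← hψ, PrimeSpectrum.closure_range_comap]
  rw [← mem_interior_iff_mem_nhds, ← compl_compl E, interior_compl, Set.mem_compl_iff, hcl]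
  intro hpz
  rw [PrimeSpectrum.mem_zeroLocus] at hpz
  have hle : RingHom.ker ψ ≤ p.asIdeal := hpz
  obtain ⟨p₀, hp₀min, hp₀le⟩ := Ideal.exists_minimalPrimes_le hle
  obtain ⟨q₀, hq₀prime, -, hq₀⟩ := Ideal.exists_comap_eq_of_mem_minimalPrimes (I := ⊥) ψ p₀ (by
    rw [← RingHom.ker_eq_comap_bot]; exact hp₀min)
  have hp₀prime : p₀.IsPrime := hp₀min.1.1
  have h1 : (⟨p₀, hp₀prime⟩ : PrimeSpectrum R) ∈ E :=
    hp _ ((PrimeSpectrum.le_iff_specializes _ _).1 hp₀le)
  have h2 : (⟨p₀, hp₀prime⟩ : PrimeSpectrum R) ∈ Eᶜ := by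
    rw [← hψ]
    exact ⟨⟨q₀, hq₀prime⟩, PrimeSpectrum.ext hq₀⟩
  exact h2 h1

/-- (P3) for a morphism locally of finite presentation, lifting of generizations at `x` implies
openness at `x` -/
theorem isOpenAt_of_forall_generization {X Y : Scheme.{u}} (f : X ⟶ Y)
    [LocallyOfFinitePresentation f] (x : X)
    (h : ∀ y' : Y, y' ⤳ f.base x → ∃ x' : X, x' ⤳ x ∧ f.base x' = y') :
    IsOpenAt f.base x := by
  obtain ⟨V, U, hV, hU, e, hxU, hxV⟩ := exists_affine_charts f x
  set φ := f.appLE V U e with hφ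
  have hφfp : φ.hom.FinitePresentation :=
    HasRingHomProperty.appLE (P := @LocallyOfFinitePresentation) f inferInstance ⟨V, hV⟩ ⟨U, hU⟩ e
  have hsq : Spec.map φ ≫ hV.fromSpec = hU.fromSpec ≫ f :=
    IsAffineOpen.SpecMap_appLE_fromSpec f hV hU e
  have hsq' : ∀ q : Spec Γ(X, U), hV.fromSpec.base ((Spec.map φ).base q) = f.base (hU.fromSpec.base q) := by
    intro q
    rw [← TopCat.comp_app, ← Scheme.Hom.comp_base, hsq, Scheme.Hom.comp_base, TopCat.comp_app]
  have hVemb : Topology.IsOpenEmbedding hV.fromSpec.base := hV.fromSpec.isOpenEmbedding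
  have hUemb : Topology.IsOpenEmbedding hU.fromSpec.base := hU.fromSpec.isOpenEmbedding
  obtain ⟨q, rfl⟩ : x ∈ Set.range hU.fromSpec.base := by rw [hU.range_fromSpec]; exact hxU
  intro U₁ hU₁
  have hpre : hU.fromSpec.base ⁻¹' U₁ ∈ 𝓝 q := hU.fromSpec.base.hom.continuous.continuousAt hU₁
  obtain ⟨_, ⟨g, rfl⟩, hqg, hgU₁⟩ :=
    (PrimeSpectrum.isTopologicalBasis_basic_opens (R := Γ(X, U))).mem_nhds_iff.1 hpre
  set E : Set (PrimeSpectrum Γ(Y, V)) :=
    PrimeSpectrum.comap φ.hom '' (PrimeSpectrum.basicOpen g : Set (PrimeSpectrum Γ(X, U))) with hE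
  have hEcons : IsConstructible E :=
    PrimeSpectrum.isConstructible_comap_image hφfp PrimeSpectrum.isConstructible_basicOpen
  have hEnhds : E ∈ 𝓝 (PrimeSpectrum.comap φ.hom q) := by
    apply mem_nhds_of_isConstructible hEcons
    intro p₁ hp₁
    have h1 : hV.fromSpec.base p₁ ⤳ f.base (hU.fromSpec.base q) := by
      rw [← hsq']
      exact Specializes.map hp₁ hV.fromSpec.base.hom.continuous
    obtain ⟨x', hx'x, hx'⟩ := h _ h1
    have hx'U : x' ∈ (U : Set X) := hx'x.mem_open U.2 (by rw [← hU.range_fromSpec]; exact ⟨q, rfl⟩)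
    obtain ⟨q', rfl⟩ : x' ∈ Set.range hU.fromSpec.base := by rw [hU.range_fromSpec]; exact hx'U
    have hq'q : q' ⤳ q := (hUemb.isInducing.specializes_iff).1 hx'x
    have hq'g : q' ∈ (PrimeSpectrum.basicOpen g : Set (PrimeSpectrum Γ(X, U))) :=
      hq'q.mem_open (PrimeSpectrum.basicOpen g).2 hqg
    refine ⟨q', hq'g, ?_⟩
    rw [← hsq'] at hx'
    exact hVemb.injective hx'
  have h3 : hV.fromSpec.base '' E ∈ 𝓝 (hV.fromSpec.base (PrimeSpectrum.comap φ.hom q)) :=
    hVemb.isOpenMap.image_mem_nhds hEnhds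
  have h4 : hV.fromSpec.base (PrimeSpectrum.comap φ.hom q) = f.base (hU.fromSpec.base q) := hsq' q
  rw [h4] at h3
  refine Filter.mem_of_superset h3 ?_
  rintro _ ⟨_, ⟨q', hq', rfl⟩, rfl⟩
  refine ⟨hU.fromSpec.base q', hgU₁ hq', ?_⟩
  exact (hsq' q').symm

/-- Lemma G: lifting the generic point through dominating irreducible components -/
theorem exists_generization_of_components_dense {P X' T Y' : Scheme.{u}} {fst : P ⟶ X'}
    {snd : P ⟶ T} {f' : X' ⟶ Y'} {h : T ⟶ Y'} (hP : IsPullback fst snd f' h)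
    (hdense : ∀ Z ∈ irreducibleComponents (↥P : Type u), Dense (snd.base '' Z))
    (t₁ t₀ : T) (ht₁ : closure ({t₁} : Set T) = Set.univ)
    (x : X') (hx : f'.base x = h.base t₀) : ∃ x₁ : X', x₁ ⤳ x ∧ f'.base x₁ = h.base t₁ := by
  obtain ⟨p, hp1, hp2⟩ := Scheme.exists_preimage_of_isPullback hP x t₀ hx
  set Z := irreducibleComponent p with hZ
  have hZmem : Z ∈ irreducibleComponents (↥P : Type u) :=
    irreducibleComponent_mem_irreducibleComponents p
  have hZirr : IsIrreducible Z := isIrreducible_irreducibleComponent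
  have hZcl : IsClosed Z := isClosed_irreducibleComponent
  set ξ := hZirr.genericPoint with hξ
  have hξgen : IsGenericPoint ξ Z := hZirr.isGenericPoint_genericPoint hZcl
  have hsub : snd.base '' Z ⊆ closure {snd.base ξ} := by
    rw [← hξgen.def]
    refine (image_closure_subset_closure_image snd.base.hom.continuous).trans ?_
    rw [Set.image_singleton]
  have hgen : closure ({snd.base ξ} : Set T) = Set.univ := by
    rw [Set.eq_univ_iff_forall]
    intro t
    have h1 : t ∈ closure (snd.base '' Z) := (hdense Z hZmem) t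
    exact closure_minimal hsub isClosed_closure h1
  have heq : snd.base ξ = t₁ := IsGenericPoint.eq (S := Set.univ) hgen ht₁
  refine ⟨fst.base ξ, ?_, ?_⟩
  · rw [← hp1]
    exact Specializes.map (hξgen.specializes mem_irreducibleComponent) fst.base.hom.continuous
  · rw [← heq, ← TopCat.comp_app, ← Scheme.Hom.comp_base, hP.w]
    rfl

theorem exists_isPullback_affineSpace {X S T : Scheme.{u}} (f : X ⟶ S) (n : Type u)
    (h : T ⟶ 𝔸(n; S)) :
    ∃ a : pullback f (h ≫ (𝔸(n; S) ↘ S)) ⟶ 𝔸(n; X),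
      a ≫ (𝔸(n; X) ↘ X) = pullback.fst f (h ≫ (𝔸(n; S) ↘ S)) ∧
      IsPullback a (pullback.snd f (h ≫ (𝔸(n; S) ↘ S))) (map n f) h := by
  let a : pullback f (h ≫ (𝔸(n; S) ↘ S)) ⟶ 𝔸(n; X) :=
    (isPullback_map f).lift (pullback.snd f (h ≫ (𝔸(n; S) ↘ S)) ≫ h)
      (pullback.fst f (h ≫ (𝔸(n; S) ↘ S))) (by rw [Category.assoc, ← pullback.condition])
  have ha1 : a ≫ map n f = pullback.snd f (h ≫ (𝔸(n; S) ↘ S)) ≫ h :=
    (isPullback_map f).lift_fst _ _ _
  have ha2 : a ≫ (𝔸(n; X) ↘ X) = pullback.fst f (h ≫ (𝔸(n; S) ↘ S)) :=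
    (isPullback_map f).lift_snd _ _ _
  refine ⟨a, ha2, ?_⟩
  refine IsPullback.of_right ?_ ha1 (isPullback_map (n := n) f).flip
  rw [ha2]
  exact IsPullback.of_hasPullback f (h ≫ (𝔸(n; S) ↘ S))

/-- a DVR through a specialization in a locally Noetherian scheme -/
theorem exists_dvr_of_specializes {T : Scheme.{u}} [IsLocallyNoetherian T] (t' t : T)
    (hsp : t' ⤳ t) (hne : t' ≠ t) :
    ∃ (A : Type u) (_ : CommRing A) (_ : IsDomain A) (_ : IsDiscreteValuationRing A)
      (h : Spec (CommRingCat.of A) ⟶ T),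
      h.base (IsLocalRing.closedPoint A) = t ∧ h.base (⟨⊥, Ideal.isPrime_bot⟩ : PrimeSpectrum A) = t' := by
  obtain ⟨A, h, hA, hcl, hgen⟩ := DomDVR.S4450_main (𝟙 T) t' t (by simpa using hsp) (by simpa using hne.symm)
  refine ⟨A, inferInstance, inferInstance, hA, h, hcl, ?_⟩
  obtain ⟨a⟩ : Nonempty (Spec (T.residueField t')) := inferInstance
  have h1 := congrArg (fun g => g.base a) hgen
  simp only [Scheme.Hom.comp_base, TopCat.comp_app, Category.comp_id] at h1
  have h1' : h.base ((Spec.map (CommRingCat.ofHom A.subtype)).base a) = t' := by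
    rw [h1]
    exact Scheme.fromSpecResidueField_apply _ _
  refine Eq.trans (congrArg h.base ?_) h1'
  apply PrimeSpectrum.ext
  symm
  have hinj : Function.Injective (A.subtype : A →+* T.residueField t') := Subtype.val_injective
  change Ideal.comap A.subtype a.asIdeal = ⊥
  rw [eq_bot_iff]
  intro r hr
  have h2 : a.asIdeal = ⊥ := by
    haveI := a.isPrime
    exact (Ideal.eq_bot_or_top a.asIdeal).resolve_right (Ideal.IsPrime.ne_top')
  rw [Ideal.mem_comap, h2, Ideal.mem_bot] at hr
  rw [Ideal.mem_bot]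
  exact hinj (by rw [hr, map_zero])

/-- Lemma G' : every point is a specialization of a point mapping to the generic point -/
theorem exists_generization_dense {P T : Scheme.{u}} (snd : P ⟶ T)
    (hdense : ∀ Z ∈ irreducibleComponents (↥P : Type u), Dense (snd.base '' Z)) (p : P) :
    ∃ ξ : P, ξ ⤳ p ∧ closure ({snd.base ξ} : Set T) = Set.univ := by
  set Z := irreducibleComponent p with hZ
  have hZmem : Z ∈ irreducibleComponents (↥P : Type u) :=
    irreducibleComponent_mem_irreducibleComponents p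
  have hZirr : IsIrreducible Z := isIrreducible_irreducibleComponent
  have hZcl : IsClosed Z := isClosed_irreducibleComponent
  set ξ := hZirr.genericPoint with hξ
  have hξgen : IsGenericPoint ξ Z := hZirr.isGenericPoint_genericPoint hZcl
  have hsub : snd.base '' Z ⊆ closure {snd.base ξ} := by
    rw [← hξgen.def]
    refine (image_closure_subset_closure_image snd.base.hom.continuous).trans ?_
    rw [Set.image_singleton]
  refine ⟨ξ, hξgen.specializes mem_irreducibleComponent, ?_⟩
  rw [Set.eq_univ_iff_forall]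
  intro t
  have h1 : t ∈ closure (snd.base '' Z) := (hdense Z hZmem) t
  exact closure_minimal hsub isClosed_closure h1

section dvrpoints
variable (A : Type u) [CommRing A] [IsDomain A] [IsDiscreteValuationRing A]

theorem dvr_eq_bot_of_ne_closedPoint (q : PrimeSpectrum A) (hq : q ≠ IsLocalRing.closedPoint A) :
    q = ⟨⊥, Ideal.isPrime_bot⟩ := by
  apply PrimeSpectrum.ext
  by_contra hne
  change q.asIdeal ≠ ⊥ at hne
  have hmax : q.asIdeal.IsMaximal := Ring.DimensionLEOne.maximalOfPrime hne q.isPrime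
  apply hq
  apply PrimeSpectrum.ext
  exact IsLocalRing.eq_maximalIdeal hmax

theorem dvr_bot_ne_closedPoint :
    (⟨⊥, Ideal.isPrime_bot⟩ : PrimeSpectrum A) ≠ IsLocalRing.closedPoint A := by
  intro h
  have h1 : (⊥ : Ideal A) = IsLocalRing.maximalIdeal A := congrArg PrimeSpectrum.asIdeal h
  exact IsDiscreteValuationRing.not_a_field A h1.symm

theorem dvr_closure_bot :
    closure ({(⟨⊥, Ideal.isPrime_bot⟩ : PrimeSpectrum A)} : Set (PrimeSpectrum A)) = Set.univ := by
  rw [PrimeSpectrum.closure_singleton]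
  simp

theorem dvr_bot_specializes (q : PrimeSpectrum A) :
    (⟨⊥, Ideal.isPrime_bot⟩ : PrimeSpectrum A) ⤳ q :=
  (PrimeSpectrum.le_iff_specializes _ _).1 bot_le

end dvrpoints

section mains
variable {X Y : Scheme.{u}} (f : X ⟶ Y)

theorem isUnivOpenAt_of_lifting [LocallyOfFinitePresentation f] (x : X)
    (H : ∀ (n : ℕ) (z : 𝔸(ULift.{u} (Fin n); X)), (𝔸(ULift.{u} (Fin n); X) ↘ X).base z = x →
      ∀ t' : 𝔸(ULift.{u} (Fin n); Y), t' ⤳ (map (ULift.{u} (Fin n)) f).base z →
        t' ≠ (map (ULift.{u} (Fin n)) f).base z →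
        ∃ z' : 𝔸(ULift.{u} (Fin n); X), z' ⤳ z ∧ (map (ULift.{u} (Fin n)) f).base z' = t') :
    IsUnivOpenAt f x := by
  apply isUnivOpenAt_of_affineSpace
  intro n z hz
  haveI : LocallyOfFinitePresentation (map (ULift.{u} (Fin n)) f) :=
    MorphismProperty.of_isPullback (P := @LocallyOfFinitePresentation) (isPullback_map f).flip
      inferInstance
  apply isOpenAt_of_forall_generization
  intro t' ht'
  by_cases hne : t' = (map (ULift.{u} (Fin n)) f).base z
  · exact ⟨z, specializes_rfl, hne.symm⟩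
  · exact H n z hz t' ht' hne

/-- S2587, direction ⇒ -/
theorem dvr_lifting_of_isUnivOpenAt (x : X) (hf : IsUnivOpenAt f x)
    (A : Type u) [CommRing A] [IsDomain A] [IsDiscreteValuationRing A]
    (g : Spec (CommRingCat.of A) ⟶ Y)
    (x' : ↥(pullback f g)) (hx' : (pullback.fst f g).base x' = x) :
    ∃ z' : ↥(pullback f g), z' ⤳ x' ∧
      (pullback.snd f g).base z' = (⟨⊥, Ideal.isPrime_bot⟩ : PrimeSpectrum A) := by
  have hopen : IsOpenAt (pullback.snd f g).base x' := hf _ g x' hx'
  exact exists_generization_of_isOpenAt (pullback.snd f g) x' hopen _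
    (dvr_bot_specializes A _)

/-- S2587, direction ⇐ -/
theorem isUnivOpenAt_of_dvr [IsLocallyNoetherian Y] [LocallyOfFiniteType f] (x : X)
    (H : ∀ (A : Type u) [CommRing A] [IsDomain A] [IsDiscreteValuationRing A]
      (g : Spec (CommRingCat.of A) ⟶ Y), g.base (IsLocalRing.closedPoint A) = f.base x →
      ∀ x' : ↥(pullback f g), (pullback.fst f g).base x' = x →
        (pullback.snd f g).base x' = IsLocalRing.closedPoint A →
        ∃ z' : ↥(pullback f g), z' ⤳ x' ∧ (pullback.snd f g).base z' ≠ IsLocalRing.closedPoint A) :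
    IsUnivOpenAt f x := by
  haveI : LocallyOfFinitePresentation f :=
    LocallyOfFinitePresentation.iff_locallyOfFiniteType.2 inferInstance
  apply isUnivOpenAt_of_lifting
  intro n z hz t' ht' hne
  haveI : IsLocallyNoetherian 𝔸(ULift.{u} (Fin n); Y) :=
    LocallyOfFiniteType.isLocallyNoetherian (𝔸(ULift.{u} (Fin n); Y) ↘ Y)
  obtain ⟨A, _, _, _, h, hcl, hgen⟩ := exists_dvr_of_specializes t' _ ht' hne
  obtain ⟨a, ha, hsq⟩ := exists_isPullback_affineSpace f (ULift.{u} (Fin n)) h
  have hgcl : (h ≫ (𝔸(ULift.{u} (Fin n); Y) ↘ Y)).base (IsLocalRing.closedPoint A) = f.base x := by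
    rw [Scheme.Hom.comp_base, TopCat.comp_app, hcl, ← hz, ← TopCat.comp_app,
      ← Scheme.Hom.comp_base, map_over, Scheme.Hom.comp_base, TopCat.comp_app]
  obtain ⟨p, hp1, hp2⟩ := Scheme.exists_preimage_of_isPullback hsq z (IsLocalRing.closedPoint A)
    hcl.symm
  have hpx : (pullback.fst f (h ≫ (𝔸(ULift.{u} (Fin n); Y) ↘ Y))).base p = x := by
    rw [← ha, Scheme.Hom.comp_base, TopCat.comp_app, hp1, hz]
  obtain ⟨z'', hz''p, hz''⟩ := H A _ hgcl p hpx hp2
  have hz''bot := dvr_eq_bot_of_ne_closedPoint A _ hz''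
  refine ⟨a.base z'', ?_, ?_⟩
  · rw [← hp1]
    exact Specializes.map hz''p a.base.hom.continuous
  · rw [← TopCat.comp_app, ← Scheme.Hom.comp_base, hsq.w, Scheme.Hom.comp_base, TopCat.comp_app]
    rw [← hgen]
    congr 1

theorem S2587_main [IsLocallyNoetherian Y] [LocallyOfFiniteType f] (x : X) :
    IsUnivOpenAt f x ↔
      ∀ (A : Type u) [CommRing A] [IsDomain A] [IsDiscreteValuationRing A]
        (g : Spec (CommRingCat.of A) ⟶ Y), g.base (IsLocalRing.closedPoint A) = f.base x →
        ∀ x' : ↥(pullback f g), (pullback.fst f g).base x' = x →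
          (pullback.snd f g).base x' = IsLocalRing.closedPoint A →
          ∃ z' : ↥(pullback f g), z' ⤳ x' ∧ (pullback.snd f g).base z' ≠ IsLocalRing.closedPoint A := by
  constructor
  · intro hf A _ _ _ g _ x' hx' _
    obtain ⟨z', hz', hz'bot⟩ := dvr_lifting_of_isUnivOpenAt f x hf A g x' hx'
    refine ⟨z', hz', ?_⟩
    rw [hz'bot]
    exact dvr_bot_ne_closedPoint A
  · exact isUnivOpenAt_of_dvr f x

/-- density of the image of an irreducible component from universal openness at its generic point -/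
theorem dense_image_component (A : Type u) [CommRing A] [IsDomain A] [IsDiscreteValuationRing A]
    (g : Spec (CommRingCat.of A) ⟶ Y) (Z : Set ↥(pullback f g))
    (hZ : Z ∈ irreducibleComponents (↥(pullback f g) : Type u))
    (hf : ∀ ξ : ↥(pullback f g), (pullback.snd f g).base ξ = IsLocalRing.closedPoint A →
      IsUnivOpenAt f ((pullback.fst f g).base ξ)) :
    Dense ((pullback.snd f g).base '' Z) := by
  have hZirr : IsIrreducible Z := hZ.1
  have hZcl : IsClosed Z := isClosed_of_mem_irreducibleComponents Z hZ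
  set ξ := hZirr.genericPoint with hξ
  have hξgen : IsGenericPoint ξ Z := hZirr.isGenericPoint_genericPoint hZcl
  have key : (⟨⊥, Ideal.isPrime_bot⟩ : PrimeSpectrum A) ∈ (pullback.snd f g).base '' Z := by
    by_cases hc : (pullback.snd f g).base ξ = IsLocalRing.closedPoint A
    · obtain ⟨z', hz', hz'bot⟩ := dvr_lifting_of_isUnivOpenAt f _ (hf ξ hc) A g ξ rfl
      refine ⟨z', ?_, hz'bot⟩
      have h1 : Z ⊆ closure {z'} := by
        rw [← hξgen.def]
        exact closure_minimal (Set.singleton_subset_iff.2 hz'.mem_closure) isClosed_closure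
      have h2 : closure {z'} ⊆ Z := hZ.2 (isIrreducible_singleton.closure) h1
      exact h2 (subset_closure rfl)
    · exact ⟨ξ, hξgen.mem, dvr_eq_bot_of_ne_closedPoint A _ hc⟩
  intro t
  have h1 : t ∈ closure ({(⟨⊥, Ideal.isPrime_bot⟩ : PrimeSpectrum A)} : Set (PrimeSpectrum A)) := by
    rw [dvr_closure_bot]; trivial
  exact closure_mono (Set.singleton_subset_iff.2 key) h1

/-- points over the closed point are specializations of points not over it, given dominance -/
theorem exists_generization_ne_closedPoint (A : Type u) [CommRing A] [IsDomain A]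
    [IsDiscreteValuationRing A] (g : Spec (CommRingCat.of A) ⟶ Y)
    (hdense : ∀ Z ∈ irreducibleComponents (↥(pullback f g) : Type u),
      Dense ((pullback.snd f g).base '' Z)) (x' : ↥(pullback f g)) :
    ∃ z' : ↥(pullback f g), z' ⤳ x' ∧ (pullback.snd f g).base z' ≠ IsLocalRing.closedPoint A := by
  obtain ⟨ξ, hξ, hξgen⟩ := exists_generization_dense (pullback.snd f g) hdense x'
  refine ⟨ξ, hξ, ?_⟩
  intro hc
  have h1 : ((⟨⊥, Ideal.isPrime_bot⟩ : PrimeSpectrum A) : ↥(Spec (CommRingCat.of A))) ∈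
      closure ({(pullback.snd f g).base ξ} : Set ↥(Spec (CommRingCat.of A))) := by
    rw [hξgen]; exact Set.mem_univ _
  rw [hc] at h1
  have h2 := (IsLocalRing.isClosed_singleton_closedPoint A).closure_subset h1
  exact dvr_bot_ne_closedPoint A h2

theorem S4931_main [IsLocallyNoetherian Y] [LocallyOfFiniteType f] :
    UniversallyOpen f ↔
      ∀ (A : Type u) [CommRing A] [IsDomain A] [IsDiscreteValuationRing A]
        (g : Spec (CommRingCat.of A) ⟶ Y),
        ∀ Z ∈ irreducibleComponents (↥(pullback f g) : Type u),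
          Dense ((pullback.snd f g).base '' Z) := by
  constructor
  · intro hf A _ _ _ g Z hZ
    exact dense_image_component f A g Z hZ fun ξ _ => isUnivOpenAt_of_universallyOpen f _
  · intro H
    apply universallyOpen_of_forall_isUnivOpenAt
    intro x
    apply isUnivOpenAt_of_dvr
    intro A _ _ _ g _ x' _ _
    exact exists_generization_ne_closedPoint f A g (H A g) x'

theorem S4930_main [IsLocallyNoetherian Y] [LocallyOfFiniteType f] (y : Y) :
    (∀ x : X, f.base x = y → IsUnivOpenAt f x) ↔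
      ∀ (A : Type u) [CommRing A] [IsDomain A] [IsDiscreteValuationRing A]
        (g : Spec (CommRingCat.of A) ⟶ Y),
        g.base (IsLocalRing.closedPoint A) = y →
        ∀ Z ∈ irreducibleComponents (↥(pullback f g) : Type u),
          Dense ((pullback.snd f g).base '' Z) := by
  constructor
  · intro hf A _ _ _ g hg Z hZ
    apply dense_image_component f A g Z hZ
    intro ξ hξ
    apply hf
    rw [← TopCat.comp_app, ← Scheme.Hom.comp_base, pullback.condition, Scheme.Hom.comp_base,
      TopCat.comp_app, hξ, hg]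
  · intro H x hx
    apply isUnivOpenAt_of_dvr
    intro A _ _ _ g hg x' _ _
    exact exists_generization_ne_closedPoint f A g (H A g (by rw [hg, hx])) x'

end mains

end Groth.Agent.Lib.Helper4.UOp

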