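import Mathlib
import Groth.Prelude.Def_Brnch
import Groth.Prelude.Def_EGA43
import Groth.Agent.Lib.Helper4.RadBir2
import Groth.Agent.Lib.Helper4.GeomUnibranchIC1
import Groth.Agent.Lib.Helper4.Unibranch
import Groth.Agent.Lib.Helper4.UnivOpen2

/-!
# S4937: quasi-finite dominant morphisms are open at unibranch points (going-down via ZMT) (helper4)
-/

set_option backward.isDefEq.respectTransparency.types false
set_option synthInstance.maxHeartbeats 400000
set_option autoImplicit false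
set_option linter.unusedSectionVars false
set_option linter.style.haveILetI false
set_option linter.unusedSimpArgs false
universe u v w
open CategoryTheory CategoryTheory.Limits AlgebraicGeometry TopologicalSpace IsLocalRing Opposite
open Groth.Agent.Lib.Helper4.GeomBranch1 Groth.Agent.Lib.Helper4.GeomBranch2
open Groth.Agent.Lib.Helper4.BranchCount1
open Groth.Agent.Lib.Helper4.BranchSum1 Groth.Agent.Lib.Helper4.BranchSum2
open Groth.Agent.Lib.Helper4.NormFibre1 Groth.Agent.Lib.Helper4.NormFibre2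
open Groth.Agent.Lib.Helper4.NormFibre3 Groth.Agent.Lib.Helper4.RadBir1 Groth.Agent.Lib.Helper4.RadBir2
open Groth.Agent.Lib.Helper4.GeomUnibranchIC1

namespace Groth.Agent.Lib.Helper4.ChevCrit1
theorem goingDown_of_unique {R : Type u} [CommRing R] [IsDomain R]
    (K : Type u) [Field K] [Algebra R K] [IsFractionRing R K]
    (p₁ : Ideal R) [p₁.IsPrime]
    (huniq : ∀ Q₁ Q₂ : Ideal (integralClosure R K), Q₁.IsPrime → Q₂.IsPrime →
      Q₁.comap (algebraMap R (integralClosure R K)) = p₁ →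
      Q₂.comap (algebraMap R (integralClosure R K)) = p₁ → Q₁ = Q₂)
    {B : Type u} [CommRing B] [IsDomain B] [Algebra R B]
    (hinj : Function.Injective (algebraMap R B)) [Algebra.IsIntegral R B]
    (n : Ideal B) [n.IsPrime] (hn : n.comap (algebraMap R B) = p₁)
    (p : Ideal R) [p.IsPrime] (hp : p ≤ p₁) :
    ∃ q : Ideal B, q.IsPrime ∧ q ≤ n ∧ q.comap (algebraMap R B) = p := by
  classical
  let L := FractionRing B
  have hRL : Function.Injective (algebraMap R L) := by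
    rw [IsScalarTower.algebraMap_eq R B L]
    exact (IsFractionRing.injective B L).comp hinj
  let κ : K →+* L := IsFractionRing.lift hRL
  letI : Algebra K L := κ.toAlgebra
  haveI : IsScalarTower R K L := IsScalarTower.of_algebraMap_eq' (by
    ext r
    simp [RingHom.algebraMap_toAlgebra, κ])
  let R' := integralClosure R K
  let C := integralClosure R L
  let φ : R' →ₐ[R] C :=
    AlgHom.codRestrict ((IsScalarTower.toAlgHom R K L).comp R'.val) C
      (fun x => IsIntegral.map (IsScalarTower.toAlgHom R K L) x.2)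
  let ψ : B →ₐ[R] C :=
    AlgHom.codRestrict (IsScalarTower.toAlgHom R B L) C
      (fun b => (Algebra.IsIntegral.isIntegral b).map (IsScalarTower.toAlgHom R B L))
  have hφ : Function.Injective φ := by
    intro x y hxy
    have h1 : algebraMap K L (x : K) = algebraMap K L (y : K) := congrArg Subtype.val hxy
    exact Subtype.ext ((algebraMap K L).injective h1)
  have hψ : Function.Injective ψ := by
    intro x y hxy
    have h1 : algebraMap B L x = algebraMap B L y := congrArg Subtype.val hxy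
    exact IsFractionRing.injective B L h1
  letI : Algebra R' C := φ.toRingHom.toAlgebra
  letI : Algebra B C := ψ.toRingHom.toAlgebra
  haveI : IsScalarTower R R' C := IsScalarTower.of_algebraMap_eq'
    (RingHom.ext fun r => (φ.commutes r).symm)
  haveI : IsScalarTower R B C := IsScalarTower.of_algebraMap_eq'
    (RingHom.ext fun r => (ψ.commutes r).symm)
  haveI : Algebra.IsIntegral R C := inferInstance
  haveI : Algebra.IsIntegral B C := Algebra.IsIntegral.tower_top (R := R)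
  haveI : Algebra.IsIntegral R' C := Algebra.IsIntegral.tower_top (R := R)
  haveI : FaithfulSMul R' C := (faithfulSMul_iff_algebraMap_injective R' C).mpr hφ
  haveI : IsIntegrallyClosed R' := integralClosure.isIntegrallyClosedOfFiniteExtension K (L := K)
  haveI : Algebra.HasGoingDown R' C := inferInstance
  -- prime of C over n
  obtain ⟨n', hn'prime, hn'⟩ := Ideal.exists_ideal_over_prime_of_isIntegral_of_isDomain
    (S := C) n (by
      have hψ' : Function.Injective (algebraMap B C) := hψ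
      rw [(RingHom.injective_iff_ker_eq_bot _).mp hψ']; exact bot_le)
  have hcomp1 : (algebraMap R' C).comp (algebraMap R R') = algebraMap R C :=
    (IsScalarTower.algebraMap_eq R R' C).symm
  have hcomp2 : (algebraMap B C).comp (algebraMap R B) = algebraMap R C :=
    (IsScalarTower.algebraMap_eq R B C).symm
  have hm'' : (n'.comap (algebraMap R' C)).comap (algebraMap R R') = p₁ := by
    rw [Ideal.comap_comap, hcomp1, ← hcomp2, ← Ideal.comap_comap, hn', hn]
  haveI : (n'.comap (algebraMap R' C)).IsPrime := Ideal.comap_isPrime _ _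
  -- prime of R' over p
  obtain ⟨p', hp'prime, hp'⟩ := Ideal.exists_ideal_over_prime_of_isIntegral_of_isDomain
    (S := R') p (by
      rw [(RingHom.injective_iff_ker_eq_bot _).mp
        (FaithfulSMul.algebraMap_injective R R')]; exact bot_le)
  -- going up: a prime above p' over p₁
  obtain ⟨P', hp'P', hP'prime, hP'⟩ :=
    Ideal.exists_ideal_over_prime_of_isIntegral_of_isPrime (S := R') p₁ p' (by rw [hp']; exact hp)
  have hPeq : P' = n'.comap (algebraMap R' C) := huniq _ _ hP'prime inferInstance hP' hm''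
  have hle : p' ≤ n'.comap (algebraMap R' C) := hPeq ▸ hp'P'
  haveI : n'.LiesOver (n'.comap (algebraMap R' C)) := ⟨rfl⟩
  obtain ⟨q', hq'le, hq'prime, hq'over⟩ :=
    Ideal.exists_ideal_le_liesOver_of_le (p := p') (q := n'.comap (algebraMap R' C)) n' hle
  refine ⟨q'.comap (algebraMap B C), Ideal.comap_isPrime _ _, ?_, ?_⟩
  · rw [← hn']; exact Ideal.comap_mono hq'le
  · rw [Ideal.comap_comap, hcomp2, ← hcomp1, ← Ideal.comap_comap, ← hp']
    congr 1
    exact (hq'over.over).symm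


section Lift
variable {A₀ S₀ : Type u} [CommRing A₀] [CommRing S₀] [Algebra A₀ S₀]

/-- the ideal of `S₀` obtained from an ideal of the integral closure by saturating at `r` -/
def satIdeal (r : S₀) (hr : IsIntegral A₀ r) (H : ∀ x : S₀, ∃ m : ℕ, IsIntegral A₀ (r ^ m * x))
    (I : Ideal (integralClosure A₀ S₀)) : Ideal S₀ where
  carrier := {s | ∃ m : ℕ, ∃ h : IsIntegral A₀ (r ^ m * s),
    (⟨r ^ m * s, h⟩ : integralClosure A₀ S₀) ∈ I}
  zero_mem' := ⟨0, by simp [isIntegral_zero], by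
    have : (⟨r ^ 0 * 0, by simp [isIntegral_zero]⟩ : integralClosure A₀ S₀) = 0 :=
      Subtype.ext (by simp)
    rw [this]; exact I.zero_mem⟩
  add_mem' := by
    rintro s t ⟨m, hm, hms⟩ ⟨k, hk, hkt⟩
    have hrk : IsIntegral A₀ (r ^ k) := hr.pow k
    have hrm : IsIntegral A₀ (r ^ m) := hr.pow m
    have e : r ^ (m + k) * (s + t) = r ^ k * (r ^ m * s) + r ^ m * (r ^ k * t) := by ring
    refine ⟨m + k, e ▸ (hrk.mul hm).add (hrm.mul hk), ?_⟩
    have : (⟨r ^ (m + k) * (s + t), e ▸ (hrk.mul hm).add (hrm.mul hk)⟩ : integralClosure A₀ S₀) =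
        ⟨r ^ k, hrk⟩ * ⟨r ^ m * s, hm⟩ + ⟨r ^ m, hrm⟩ * ⟨r ^ k * t, hk⟩ := Subtype.ext e
    rw [this]
    exact I.add_mem (I.mul_mem_left _ hms) (I.mul_mem_left _ hkt)
  smul_mem' := by
    rintro a s ⟨m, hm, hms⟩
    obtain ⟨j, hj⟩ := H a
    have e : r ^ (j + m) * (a • s) = (r ^ j * a) * (r ^ m * s) := by
      rw [smul_eq_mul]; ring
    refine ⟨j + m, e ▸ hj.mul hm, ?_⟩
    have : (⟨r ^ (j + m) * (a • s), e ▸ hj.mul hm⟩ : integralClosure A₀ S₀) =
        ⟨r ^ j * a, hj⟩ * ⟨r ^ m * s, hm⟩ := Subtype.ext e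
    rw [this]
    exact I.mul_mem_left _ hms

theorem mem_satIdeal (r : S₀) (hr : IsIntegral A₀ r)
    (H : ∀ x : S₀, ∃ m : ℕ, IsIntegral A₀ (r ^ m * x)) (I : Ideal (integralClosure A₀ S₀)) (s : S₀) :
    s ∈ satIdeal r hr H I ↔ ∃ m : ℕ, ∃ h : IsIntegral A₀ (r ^ m * s),
      (⟨r ^ m * s, h⟩ : integralClosure A₀ S₀) ∈ I := Iff.rfl

theorem satIdeal_isPrime (r : S₀) (hr : IsIntegral A₀ r)
    (H : ∀ x : S₀, ∃ m : ℕ, IsIntegral A₀ (r ^ m * x)) (I : Ideal (integralClosure A₀ S₀))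
    [hI : I.IsPrime] (hrI : (⟨r, hr⟩ : integralClosure A₀ S₀) ∉ I) :
    (satIdeal r hr H I).IsPrime := by
  have hpow : ∀ m : ℕ, (⟨r ^ m, hr.pow m⟩ : integralClosure A₀ S₀) ∉ I := by
    intro m hm
    have : (⟨r ^ m, hr.pow m⟩ : integralClosure A₀ S₀) = ⟨r, hr⟩ ^ m := Subtype.ext (by simp)
    rw [this] at hm
    exact hrI (hI.mem_of_pow_mem m hm)
  refine ⟨?_, ?_⟩
  · intro htop
    have h1 : (1 : S₀) ∈ satIdeal r hr H I := by rw [htop]; trivial
    obtain ⟨m, hm, hmem⟩ := h1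
    have : (⟨r ^ m * 1, hm⟩ : integralClosure A₀ S₀) = ⟨r ^ m, hr.pow m⟩ := Subtype.ext (by simp)
    rw [this] at hmem
    exact hpow m hmem
  · intro s t hst
    obtain ⟨m, hm, hmem⟩ := hst
    obtain ⟨j, hj⟩ := H s
    obtain ⟨k, hk⟩ := H t
    have e : (⟨r ^ j * s, hj⟩ : integralClosure A₀ S₀) * ⟨r ^ k * t, hk⟩ * ⟨r ^ m, hr.pow m⟩ =
        ⟨r ^ j, hr.pow j⟩ * ⟨r ^ k, hr.pow k⟩ * ⟨r ^ m * (s * t), hm⟩ := by
      apply Subtype.ext
      change (r ^ j * s) * (r ^ k * t) * r ^ m = r ^ j * r ^ k * (r ^ m * (s * t))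
      ring
    have h2 : (⟨r ^ j * s, hj⟩ : integralClosure A₀ S₀) * ⟨r ^ k * t, hk⟩ * ⟨r ^ m, hr.pow m⟩ ∈ I := by
      rw [e]; exact I.mul_mem_left _ hmem
    rcases hI.mem_or_mem h2 with h3 | h3
    · rcases hI.mem_or_mem h3 with h4 | h4
      · exact Or.inl ⟨j, hj, h4⟩
      · exact Or.inr ⟨k, hk, h4⟩
    · exact absurd h3 (hpow m)

theorem satIdeal_comap (r : S₀) (hr : IsIntegral A₀ r)
    (H : ∀ x : S₀, ∃ m : ℕ, IsIntegral A₀ (r ^ m * x)) (I : Ideal (integralClosure A₀ S₀))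
    [hI : I.IsPrime] (hrI : (⟨r, hr⟩ : integralClosure A₀ S₀) ∉ I) :
    (satIdeal r hr H I).comap (algebraMap (integralClosure A₀ S₀) S₀) = I := by
  have hpow : ∀ m : ℕ, (⟨r ^ m, hr.pow m⟩ : integralClosure A₀ S₀) ∉ I := by
    intro m hm
    have : (⟨r ^ m, hr.pow m⟩ : integralClosure A₀ S₀) = ⟨r, hr⟩ ^ m := Subtype.ext (by simp)
    rw [this] at hm
    exact hrI (hI.mem_of_pow_mem m hm)
  ext s
  rw [Ideal.mem_comap]
  constructor
  · rintro ⟨m, hm, hmem⟩
    have : (⟨r ^ m * algebraMap (integralClosure A₀ S₀) S₀ s, hm⟩ : integralClosure A₀ S₀) =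
        ⟨r ^ m, hr.pow m⟩ * s := Subtype.ext rfl
    rw [this] at hmem
    exact (hI.mem_or_mem hmem).resolve_left (hpow m)
  · intro hs
    have h0 : IsIntegral A₀ (r ^ 0 * algebraMap (integralClosure A₀ S₀) S₀ s) := by
      rw [pow_zero, one_mul]; exact s.2
    refine ⟨0, h0, ?_⟩
    have : (⟨r ^ 0 * algebraMap (integralClosure A₀ S₀) S₀ s, h0⟩ :
        integralClosure A₀ S₀) = s := by
      apply Subtype.ext
      change r ^ 0 * (s : S₀) = s
      rw [pow_zero, one_mul]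
    rw [this]; exact hs

theorem satIdeal_le (r : S₀) (hr : IsIntegral A₀ r)
    (H : ∀ x : S₀, ∃ m : ℕ, IsIntegral A₀ (r ^ m * x)) (I : Ideal (integralClosure A₀ S₀))
    (q : Ideal S₀) [hq : q.IsPrime] (hrq : r ∉ q)
    (hIq : I ≤ q.comap (algebraMap (integralClosure A₀ S₀) S₀)) : satIdeal r hr H I ≤ q := by
  rintro s ⟨m, hm, hmem⟩
  have h1 : r ^ m * s ∈ q := hIq hmem
  rcases hq.mem_or_mem h1 with h2 | h2
  · exact absurd (hq.mem_of_pow_mem m h2) hrq
  · exact h2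

end Lift


section Lift
variable {A₀ S₀ : Type u} [CommRing A₀] [CommRing S₀] [Algebra A₀ S₀]

end Lift

theorem exists_prime_le_of_unibranch {A₀ S₀ : Type u} [CommRing A₀] [CommRing S₀] [Algebra A₀ S₀]
    [Algebra.FiniteType A₀ S₀] (q : Ideal S₀) [q.IsPrime] [Algebra.QuasiFiniteAt A₀ q]
    (p : Ideal A₀) [p.IsPrime] (hqp : q.comap (algebraMap A₀ S₀) = p)
    (A : Type u) [CommRing A] [IsLocalRing A] [Algebra A₀ A] [IsLocalization.AtPrime A p]
    (hA : CAlg2.IsUnibranch A)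
    (q₀ : Ideal S₀) [q₀.IsPrime] (hq₀ : q₀ ≤ q)
    (hmin : ∀ P : Ideal A₀, P.IsPrime → P ≤ p → q₀.comap (algebraMap A₀ S₀) ≤ P)
    (p' : Ideal A₀) [p'.IsPrime] (hp' : p' ≤ p) :
    ∃ q' : Ideal S₀, q'.IsPrime ∧ q' ≤ q ∧ q'.comap (algebraMap A₀ S₀) = p' := by
  classical
  obtain ⟨P₀, hP₀def⟩ : ∃ P₀ : Ideal A₀, P₀ = q₀.comap (algebraMap A₀ S₀) := ⟨_, rfl⟩
  haveI hP₀ : P₀.IsPrime := hP₀def ▸ Ideal.comap_isPrime _ _
  have hP₀p : P₀ ≤ p := by
    rw [hP₀def, ← hqp]; exact Ideal.comap_mono hq₀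
  have hmin' : ∀ P : Ideal A₀, P.IsPrime → P ≤ p → P₀ ≤ P := by
    rw [hP₀def]; exact hmin
  have hP₀p' : P₀ ≤ p' := hmin' p' inferInstance hp'
  -- ZMT
  obtain ⟨r, hrq, hr, H⟩ := Algebra.zariskisMainProperty_iff.mp
    (Algebra.ZariskisMainProperty.of_finiteType (R := A₀) q)
  -- primes of the integral closure
  obtain ⟨n, hndef⟩ : ∃ n : Ideal (integralClosure A₀ S₀),
      n = q.comap (algebraMap (integralClosure A₀ S₀) S₀) := ⟨_, rfl⟩
  obtain ⟨n₀, hn₀def⟩ : ∃ n₀ : Ideal (integralClosure A₀ S₀),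
      n₀ = q₀.comap (algebraMap (integralClosure A₀ S₀) S₀) := ⟨_, rfl⟩
  haveI hn : n.IsPrime := hndef ▸ Ideal.comap_isPrime _ _
  haveI hn₀ : n₀.IsPrime := hn₀def ▸ Ideal.comap_isPrime _ _
  have hn₀n : n₀ ≤ n := by rw [hndef, hn₀def]; exact Ideal.comap_mono hq₀
  have htower : (algebraMap (integralClosure A₀ S₀) S₀).comp
      (algebraMap A₀ (integralClosure A₀ S₀)) = algebraMap A₀ S₀ :=
    (IsScalarTower.algebraMap_eq A₀ (integralClosure A₀ S₀) S₀).symm
  have hn₀P₀ : n₀.comap (algebraMap A₀ (integralClosure A₀ S₀)) = P₀ := by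
    rw [hn₀def, Ideal.comap_comap, htower, hP₀def]
  have hnp : n.comap (algebraMap A₀ (integralClosure A₀ S₀)) = p := by
    rw [hndef, Ideal.comap_comap, htower, hqp]
  haveI : n₀.LiesOver P₀ := ⟨hn₀P₀.symm⟩
  -- the domains
  haveI : IsDomain (A₀ ⧸ P₀) := Ideal.Quotient.isDomain _
  haveI : IsDomain (integralClosure A₀ S₀ ⧸ n₀) := Ideal.Quotient.isDomain _
  have hinj : Function.Injective (algebraMap (A₀ ⧸ P₀) (integralClosure A₀ S₀ ⧸ n₀)) :=
    FaithfulSMul.algebraMap_injective _ _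
  haveI : Algebra.IsIntegral (A₀ ⧸ P₀) (integralClosure A₀ S₀ ⧸ n₀) :=
    Ideal.Quotient.algebra_isIntegral_of_liesOver n₀ P₀
  -- uniqueness from unibranch
  have hnb : Brnch.numBranches A = 1 := (S9235_main A).mpr hA
  rw [numBranches_gen p P₀ hP₀p hmin' A (K := FractionRing (A₀ ⧸ P₀))
    (N := integralClosure (A₀ ⧸ P₀) (FractionRing (A₀ ⧸ P₀)))
    Subtype.val_injective (fun z hz => ⟨⟨z, hz⟩, rfl⟩)] at hnb
  have hsub := (ENat.card_le_one_iff_subsingleton _).mp hnb.le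
  haveI hp₁ : (p.map (Ideal.Quotient.mk P₀)).IsPrime := isPrime_map_mk p P₀ hP₀p
  have huniq : ∀ Q₁ Q₂ : Ideal (integralClosure (A₀ ⧸ P₀) (FractionRing (A₀ ⧸ P₀))),
      Q₁.IsPrime → Q₂.IsPrime →
      Q₁.comap (algebraMap (A₀ ⧸ P₀) _) = p.map (Ideal.Quotient.mk P₀) →
      Q₂.comap (algebraMap (A₀ ⧸ P₀) _) = p.map (Ideal.Quotient.mk P₀) → Q₁ = Q₂ := by
    intro Q₁ Q₂ hQ₁ hQ₂ h₁ h₂
    have e1 : Q₁.comap ((algebraMap (A₀ ⧸ P₀) _).comp (Ideal.Quotient.mk P₀)) = p := by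
      rw [← Ideal.comap_comap, h₁, comap_map_mk p P₀ hP₀p]
    have e2 : Q₂.comap ((algebraMap (A₀ ⧸ P₀) _).comp (Ideal.Quotient.mk P₀)) = p := by
      rw [← Ideal.comap_comap, h₂, comap_map_mk p P₀ hP₀p]
    exact congrArg Subtype.val (hsub.elim ⟨Q₁, hQ₁, e1⟩ ⟨Q₂, hQ₂, e2⟩)
  -- the prime `n̄`
  haveI hnbar : (n.map (Ideal.Quotient.mk n₀)).IsPrime :=
    Ideal.map_isPrime_of_surjective Ideal.Quotient.mk_surjective (by rw [Ideal.mk_ker]; exact hn₀n)
  have hsq : (algebraMap (A₀ ⧸ P₀) (integralClosure A₀ S₀ ⧸ n₀)).comp (Ideal.Quotient.mk P₀) =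
      (Ideal.Quotient.mk n₀).comp (algebraMap A₀ (integralClosure A₀ S₀)) := by
    ext a
    rfl
  have hcm : (n.map (Ideal.Quotient.mk n₀)).comap (Ideal.Quotient.mk n₀) = n := by
    rw [Ideal.comap_map_of_surjective _ Ideal.Quotient.mk_surjective, ← RingHom.ker_eq_comap_bot,
      Ideal.mk_ker]
    exact sup_eq_left.mpr hn₀n
  have hnbar_comap : (n.map (Ideal.Quotient.mk n₀)).comap
      (algebraMap (A₀ ⧸ P₀) (integralClosure A₀ S₀ ⧸ n₀)) = p.map (Ideal.Quotient.mk P₀) := by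
    apply Ideal.comap_injective_of_surjective (Ideal.Quotient.mk P₀) Ideal.Quotient.mk_surjective
    rw [Ideal.comap_comap, hsq, ← Ideal.comap_comap, hcm, hnp, comap_map_mk p P₀ hP₀p]
  haveI hp'bar : (p'.map (Ideal.Quotient.mk P₀)).IsPrime := isPrime_map_mk p' P₀ hP₀p'
  obtain ⟨qb, hqb, hqbn, hqbp⟩ := goingDown_of_unique (R := A₀ ⧸ P₀) (FractionRing (A₀ ⧸ P₀))
    (p.map (Ideal.Quotient.mk P₀)) huniq hinj (n.map (Ideal.Quotient.mk n₀)) hnbar_comap
    (p'.map (Ideal.Quotient.mk P₀)) (Ideal.map_mono hp')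
  -- back to the integral closure
  obtain ⟨q'', hq''def⟩ : ∃ q'' : Ideal (integralClosure A₀ S₀),
      q'' = qb.comap (Ideal.Quotient.mk n₀) := ⟨_, rfl⟩
  haveI hq'' : q''.IsPrime := hq''def ▸ Ideal.comap_isPrime _ _
  have hq''n : q'' ≤ n := by
    rw [hq''def, ← hcm]; exact Ideal.comap_mono hqbn
  have hq''p' : q''.comap (algebraMap A₀ (integralClosure A₀ S₀)) = p' := by
    rw [hq''def, Ideal.comap_comap, ← hsq, ← Ideal.comap_comap, hqbp, comap_map_mk p' P₀ hP₀p']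
  have hrq'' : (⟨r, hr⟩ : integralClosure A₀ S₀) ∉ q'' := by
    intro h
    have h1 := hq''n h
    rw [hndef] at h1
    exact hrq h1
  refine ⟨satIdeal r hr H q'', satIdeal_isPrime r hr H q'' hrq'', ?_, ?_⟩
  · apply satIdeal_le r hr H q'' q hrq
    rw [← hndef]; exact hq''n
  · rw [← htower, ← Ideal.comap_comap, satIdeal_comap r hr H q'' hrq'', hq''p']


open Groth.Agent.Lib.Helper4.UOp in
/-- lifting generizations along a morphism quasi-finite at `x` over a unibranch point -/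
theorem exists_generization_of_quasiFiniteAt {X Y : Scheme.{u}} (f : X ⟶ Y) [LocallyOfFiniteType f]
    (x : X) (hqf : f.QuasiFiniteAt x) (hy : CAlg2.IsUnibranch (Y.presheaf.stalk (f.base x)))
    (ζ : X) (hζ : ζ ⤳ x) (hgen : ∀ t : Y, t ⤳ f.base x → f.base ζ ⤳ t)
    (y' : Y) (hy' : y' ⤳ f.base x) : ∃ x' : X, x' ⤳ x ∧ f.base x' = y' := by
  obtain ⟨V, U, hV, hU, e, hxU, hxV⟩ := exists_affine_charts f x
  obtain ⟨φ, hφ⟩ : ∃ φ : Γ(Y, V) ⟶ Γ(X, U), φ = f.appLE V U e := ⟨_, rfl⟩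
  have hsq : Spec.map φ ≫ hV.fromSpec = hU.fromSpec ≫ f := by
    rw [hφ]; exact IsAffineOpen.SpecMap_appLE_fromSpec f hV hU e
  have hsq' : ∀ q : Spec Γ(X, U), hV.fromSpec.base ((Spec.map φ).base q) = f.base (hU.fromSpec.base q) := by
    intro q
    rw [← TopCat.comp_app, ← Scheme.Hom.comp_base, hsq, Scheme.Hom.comp_base, TopCat.comp_app]
  have hVemb : Topology.IsOpenEmbedding hV.fromSpec.base := hV.fromSpec.isOpenEmbedding
  have hUemb : Topology.IsOpenEmbedding hU.fromSpec.base := hU.fromSpec.isOpenEmbedding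
  -- points
  have hζU : ζ ∈ (U : Set X) := hζ.mem_open U.2 hxU
  have hy'V : y' ∈ (V : Set Y) := hy'.mem_open V.2 hxV
  obtain ⟨q₀, hq₀⟩ : ζ ∈ Set.range hU.fromSpec.base := by rw [hU.range_fromSpec]; exact hζU
  obtain ⟨p', hp'⟩ : y' ∈ Set.range hV.fromSpec.base := by rw [hV.range_fromSpec]; exact hy'V
  obtain ⟨q, hqdef⟩ : ∃ q : Spec Γ(X, U), q = hU.primeIdealOf ⟨x, hxU⟩ := ⟨_, rfl⟩
  have hqx : hU.fromSpec.base q = x := by rw [hqdef]; exact hU.fromSpec_primeIdealOf ⟨x, hxU⟩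
  obtain ⟨p, hpdef⟩ : ∃ p : Spec Γ(Y, V), p = hV.primeIdealOf ⟨f.base x, e hxU⟩ := ⟨_, rfl⟩
  have hpx : hV.fromSpec.base p = f.base x := by
    rw [hpdef]; exact hV.fromSpec_primeIdealOf ⟨f.base x, e hxU⟩
  have hqp : (Spec.map φ).base q = p := by
    apply hVemb.injective
    rw [hsq', hqx, hpx]
  -- algebra structures
  letI alg : Algebra Γ(Y, V) Γ(X, U) := φ.hom.toAlgebra
  haveI ft : Algebra.FiniteType Γ(Y, V) Γ(X, U) := by
    have := LocallyOfFiniteType.finiteType_appLE f hV hU e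
    rw [← hφ] at this
    exact this
  haveI : Algebra.QuasiFiniteAt Γ(Y, V) q.asIdeal := by
    have := hqf.quasiFiniteAt hU hV e hxU
    rw [← hφ, ← hqdef] at this
    exact this
  letI algst : Algebra Γ(Y, V) (Y.presheaf.stalk (f.base x)) :=
    TopCat.Presheaf.algebra_section_stalk Y.presheaf ⟨f.base x, e hxU⟩
  haveI hloc : IsLocalization.AtPrime (Y.presheaf.stalk (f.base x)) p.asIdeal := by
    rw [hpdef]
    exact hV.isLocalization_stalk ⟨f.base x, e hxU⟩
  have hq₀q : q₀.asIdeal ≤ q.asIdeal := by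
    have h : q₀ ⤳ q := hUemb.isInducing.specializes_iff.1 (by rw [hq₀, hqx]; exact hζ)
    exact (PrimeSpectrum.le_iff_specializes q₀ q).2 h
  have hp'p : p'.asIdeal ≤ p.asIdeal := by
    have h : p' ⤳ p := hVemb.isInducing.specializes_iff.1 (by rw [hp', hpx]; exact hy')
    exact (PrimeSpectrum.le_iff_specializes p' p).2 h
  have hmin : ∀ P : Ideal Γ(Y, V), P.IsPrime → P ≤ p.asIdeal →
      q₀.asIdeal.comap (algebraMap Γ(Y, V) Γ(X, U)) ≤ P := by
    intro P hP hPp
    have h1 : (⟨P, hP⟩ : Spec Γ(Y, V)) ⤳ p :=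
      (PrimeSpectrum.le_iff_specializes (⟨P, hP⟩ : PrimeSpectrum Γ(Y, V)) p).1 hPp
    have h2 : hV.fromSpec.base ⟨P, hP⟩ ⤳ f.base x := by
      rw [← hpx]; exact h1.map hV.fromSpec.base.hom.continuous
    have h3 := hgen _ h2
    rw [← hq₀, ← hsq'] at h3
    have h4 : (Spec.map φ).base q₀ ⤳ (⟨P, hP⟩ : Spec Γ(Y, V)) :=
      hVemb.isInducing.specializes_iff.1 h3
    exact (PrimeSpectrum.le_iff_specializes ((Spec.map φ).base q₀) (⟨P, hP⟩ : PrimeSpectrum Γ(Y, V))).2 h4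
  obtain ⟨q', hq'prime, hq'q, hq'p'⟩ := exists_prime_le_of_unibranch (A₀ := Γ(Y, V))
    (S₀ := Γ(X, U)) q.asIdeal p.asIdeal (congrArg PrimeSpectrum.asIdeal hqp)
    (Y.presheaf.stalk (f.base x)) hy q₀.asIdeal hq₀q hmin p'.asIdeal hp'p
  refine ⟨hU.fromSpec.base ⟨q', hq'prime⟩, ?_, ?_⟩
  · rw [← hqx]
    apply Specializes.map _ hU.fromSpec.base.hom.continuous
    exact (PrimeSpectrum.le_iff_specializes _ _).1 hq'q
  · rw [← hsq', ← hp']
    congr 1
    exact PrimeSpectrum.ext hq'p'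


theorem map_genericPoint_specializes {X Y : Scheme.{u}} [IrreducibleSpace X] (f : X ⟶ Y)
    [IsDominant f] (t : Y) : f.base (genericPoint X) ⤳ t := by
  rw [specializes_iff_mem_closure]
  have h3 : closure ({genericPoint X} : Set X) = Set.univ := (genericPoint_spec X).def
  have h4 : closure ({f.base (genericPoint X)} : Set Y) = Set.univ := by
    rw [← Set.image_singleton, ← closure_image_closure f.continuous, h3, Set.image_univ]
    exact f.denseRange.closure_eq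
  rw [h4]; trivial

theorem S4937_main {X Y : Scheme.{u}} [IrreducibleSpace X]
    [IrreducibleSpace Y] (f : X ⟶ Y) [LocallyOfFinitePresentation f] [LocallyQuasiFinite f]
    [IsDominant f] (x : X) (hy : CAlg2.IsUnibranch (Y.presheaf.stalk (f.base x))) :
    EGA43.IsOpenAt f.base x := by
  apply Groth.Agent.Lib.Helper4.UOp.isOpenAt_of_forall_generization
  intro y' hy'
  exact exists_generization_of_quasiFiniteAt f x (f.quasiFiniteAt x) hy (genericPoint X)
    (genericPoint_specializes x) (fun t _ => map_genericPoint_specializes f t) y' hy'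


end Groth.Agent.Lib.Helper4.ChevCrit1
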