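import Mathlib
import Groth.Prelude.Def_Brnch
import Groth.Prelude.Def_EGA43
import Groth.Agent.Lib.Helper4.RadBir2
import Groth.Agent.Lib.Helper4.GeomUnibranchIC1
import Groth.Agent.Lib.Helper4.Unibranch
import Groth.Agent.Lib.Helper4.UnivOpen2

/-!
# Geometric unibranchness passes to polynomial rings (ring-level S4936); universal-injectivity criterion for geometric unibranchness (helper4)
-/

set_option backward.isDefEq.respectTransparency.types false
set_option synthInstance.maxHeartbeats 400000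
set_option autoImplicit false
set_option linter.unusedSectionVars false
set_option linter.style.haveILetI false
set_option linter.unusedSimpArgs false
universe u v w
open CategoryTheory CategoryTheory.Limits AlgebraicGeometry TopologicalSpace IsLocalRing Opposite
open Groth.Agent.Lib.Helper4.GeomBranch1 Groth.Agent.Lib.Helper4.GeomBranch2
open Groth.Agent.Lib.Helper4.BranchCount1
open Groth.Agent.Lib.Helper4.BranchSum1 Groth.Agent.Lib.Helper4.BranchSum2
open Groth.Agent.Lib.Helper4.NormFibre1 Groth.Agent.Lib.Helper4.NormFibre2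
open Groth.Agent.Lib.Helper4.NormFibre3 Groth.Agent.Lib.Helper4.RadBir1 Groth.Agent.Lib.Helper4.RadBir2
open Groth.Agent.Lib.Helper4.GeomUnibranchIC1

namespace Groth.Agent.Lib.Helper4.ChevCrit2
section GU

variable {A₀ : Type u} [CommRing A₀] (p : Ideal A₀) [hp : p.IsPrime] (P₀ : Ideal A₀) [hP₀ : P₀.IsPrime]
  (hP₀p : P₀ ≤ p) (hmin : ∀ P : Ideal A₀, P.IsPrime → P ≤ p → P₀ ≤ P)
  (A : Type u) [CommRing A] [Algebra A₀ A] [hA : IsLocalization.AtPrime A p]
  [IsLocalRing A] {K N : Type u} [Field K] [Algebra (A₀ ⧸ P₀) K] [IsFractionRing (A₀ ⧸ P₀) K]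
  [CommRing N] [Algebra (A₀ ⧸ P₀) N] [Algebra N K] [IsScalarTower (A₀ ⧸ P₀) N K]
  [Algebra.IsIntegral (A₀ ⧸ P₀) N]
  (hinj : Function.Injective (algebraMap N K))
  (hic : ∀ z : K, IsIntegral (A₀ ⧸ P₀) z → ∃ n : N, algebraMap N K n = z)

theorem ker_toClosure_comp : RingHom.ker ((Brnch.toClosure A).comp (algebraMap A₀ A)) = p := by
  have h1 : RingHom.ker (Brnch.toClosure A) = maximalIdeal A := by
    ext a
    rw [RingHom.mem_ker]
    unfold Brnch.toClosure
    rw [RingHom.comp_apply, map_eq_zero_iff _ (RingHom.injective _), ← RingHom.mem_ker,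
      IsLocalRing.ker_residue]
  rw [← RingHom.comap_ker, h1]
  exact IsLocalization.AtPrime.comap_maximalIdeal A p

include hP₀p hmin hinj hic in
theorem isGeomUnibranch_iff_gen :
    CAlg2.IsGeomUnibranch A ↔
      ∀ (Ω : Type u) [Field Ω] (τ₁ τ₂ : N →+* Ω),
        τ₁.comp ((algebraMap (A₀ ⧸ P₀) N).comp (Ideal.Quotient.mk P₀)) =
          τ₂.comp ((algebraMap (A₀ ⧸ P₀) N).comp (Ideal.Quotient.mk P₀)) →
        RingHom.ker (τ₁.comp ((algebraMap (A₀ ⧸ P₀) N).comp (Ideal.Quotient.mk P₀))) = p →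
        τ₁ = τ₂ := by
  rw [← S9236_main, numGeomBranches_gen p P₀ hP₀p hmin A hinj hic]
  constructor
  · intro h Ω _ τ₁ τ₂ heq hker
    have hsub := (ENat.card_le_one_iff_subsingleton _).mp h.le
    letI : Algebra A₀ N := ((algebraMap (A₀ ⧸ P₀) N).comp (Ideal.Quotient.mk P₀)).toAlgebra
    haveI : IsScalarTower A₀ (A₀ ⧸ P₀) N := IsScalarTower.of_algebraMap_eq' rfl
    haveI : Algebra.IsIntegral A₀ (A₀ ⧸ P₀) :=
      Algebra.isIntegral_of_surjective Ideal.Quotient.mk_surjective
    haveI : Algebra.IsIntegral A₀ N := Algebra.IsIntegral.trans (A₀ ⧸ P₀)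
    exact eq_of_subsingleton (B := A₀) (B' := N) (Ap := A)
      (τ₁.comp ((algebraMap (A₀ ⧸ P₀) N).comp (Ideal.Quotient.mk P₀))) p hker hsub τ₁ τ₂ rfl heq.symm
  · intro h
    apply le_antisymm
    · rw [ENat.card_le_one_iff_subsingleton]
      refine ⟨fun a b => Subtype.ext ?_⟩
      apply h _ a.1 b.1 (a.2.trans b.2.symm)
      rw [a.2]
      exact ker_toClosure_comp p A
    · rw [← numGeomBranches_gen p P₀ hP₀p hmin A hinj hic]
      exact one_le_numGeomBranches A

end GU


theorem isIntegralElem_comp_of_surjective {A B C : Type*} [CommRing A] [CommRing B] [CommRing C]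
    (h : A →+* B) (hs : Function.Surjective h) (f : B →+* C) (x : C) (hx : f.IsIntegralElem x) :
    (f.comp h).IsIntegralElem x := by
  obtain ⟨p, hp, hpx⟩ := hx
  have hl : p ∈ Polynomial.lifts h := by
    rw [Polynomial.lifts_iff_coeff_lifts]
    intro n
    exact hs _
  obtain ⟨q, hq, -, hqm⟩ := Polynomial.lifts_and_natDegree_eq_and_monic hl hp
  refine ⟨q, hqm, ?_⟩
  rw [← hq, Polynomial.eval₂_map] at hpx
  exact hpx

section Poly
open MvPolynomial

variable {R : Type u} [CommRing R] (σ : Type u) (P₀ : Ideal R) [hP₀ : P₀.IsPrime]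
  (K N : Type u) [Field K] [Algebra (R ⧸ P₀) K] [IsFractionRing (R ⧸ P₀) K]
  [CommRing N] [Algebra (R ⧸ P₀) N] [Algebra N K] [IsScalarTower (R ⧸ P₀) N K]
  [Algebra.IsIntegral (R ⧸ P₀) N]
  (hinj : Function.Injective (algebraMap N K))
  (hic : ∀ z : K, IsIntegral (R ⧸ P₀) z → ∃ n : N, algebraMap N K n = z)

/-- the map `R → N`, `N` the normalization of `R ⧸ P₀` -/
noncomputable def iota : R →+* N := (algebraMap (R ⧸ P₀) N).comp (Ideal.Quotient.mk P₀)

include hinj in
theorem algebraMap_N_injective : Function.Injective (algebraMap (R ⧸ P₀) N) := by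
  have h : Function.Injective (algebraMap (R ⧸ P₀) K) := IsFractionRing.injective _ _
  rw [IsScalarTower.algebraMap_eq (R ⧸ P₀) N K, RingHom.coe_comp] at h
  exact Function.Injective.of_comp h

include hinj in
theorem ker_iota : RingHom.ker (iota P₀ N) = P₀ := by
  ext a
  unfold iota
  rw [RingHom.mem_ker, RingHom.comp_apply,
    map_eq_zero_iff _ (algebraMap_N_injective P₀ K N hinj), Ideal.Quotient.eq_zero_iff_mem]

include hinj in
theorem ker_map_iota : RingHom.ker (MvPolynomial.map (σ := σ) (iota P₀ N)) = P₀.map C := by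
  rw [MvPolynomial.ker_map, ker_iota P₀ K N hinj]

include hinj in
theorem isPrime_map_C : (P₀.map (C : R →+* MvPolynomial σ R)).IsPrime := by
  haveI : IsDomain N := by
    have := hinj.isDomain (algebraMap N K)
    exact this
  rw [← ker_map_iota σ P₀ K N hinj]
  exact RingHom.ker_isPrime _

/-- `R[σ] ⧸ P₀[σ] → N[σ]` -/
noncomputable def polyQuot : MvPolynomial σ R ⧸ P₀.map (C : R →+* MvPolynomial σ R) →+*
    MvPolynomial σ N :=
  Ideal.Quotient.lift _ (MvPolynomial.map (iota P₀ N)) (fun a ha => by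
    have h : P₀.map (C : R →+* MvPolynomial σ R) ≤ RingHom.ker (MvPolynomial.map (σ := σ) (iota P₀ N)) := by
      rw [Ideal.map_le_iff_le_comap]
      intro r hr
      rw [Ideal.mem_comap, RingHom.mem_ker, MvPolynomial.map_C]
      have : iota P₀ N r = 0 := by
        unfold iota
        rw [RingHom.comp_apply, Ideal.Quotient.eq_zero_iff_mem.mpr hr, map_zero]
      rw [this, C_0]
    exact h ha)

theorem polyQuot_mk (a : MvPolynomial σ R) :
    polyQuot σ P₀ N (Ideal.Quotient.mk _ a) = MvPolynomial.map (iota P₀ N) a := rfl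

include hinj in
theorem polyQuot_injective : Function.Injective (polyQuot σ P₀ N) := by
  unfold polyQuot
  rw [Ideal.injective_lift_iff]
  exact ker_map_iota σ P₀ K N hinj

/-- `N[σ] → Frac(K[σ])` -/
noncomputable def polyToFrac : MvPolynomial σ N →+* FractionRing (MvPolynomial σ K) :=
  (algebraMap (MvPolynomial σ K) _).comp (MvPolynomial.map (algebraMap N K))

include hinj in
theorem polyToFrac_injective : Function.Injective (polyToFrac σ K N) := by
  unfold polyToFrac
  rw [RingHom.coe_comp]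
  exact (IsFractionRing.injective _ _).comp (MvPolynomial.map_injective _ hinj)

theorem map_iota_eq : (MvPolynomial.map (σ := σ) (iota P₀ N)) =
    (MvPolynomial.map (algebraMap (R ⧸ P₀) N)).comp (MvPolynomial.map (Ideal.Quotient.mk P₀)) := by
  refine RingHom.ext fun a => ?_
  rw [RingHom.comp_apply, MvPolynomial.map_map]
  rfl

theorem polyQuot_comp_mk : (polyQuot σ P₀ N).comp (Ideal.Quotient.mk _) =
    MvPolynomial.map (σ := σ) (iota P₀ N) :=
  RingHom.ext fun a => polyQuot_mk σ P₀ N a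

attribute [local instance] MvPolynomial.algebraMvPolynomial in
theorem polyQuot_isIntegral : (polyQuot σ P₀ N).IsIntegral := by
  apply RingHom.IsIntegral.tower_top (Ideal.Quotient.mk _) (polyQuot σ P₀ N)
  rw [polyQuot_comp_mk, map_iota_eq]
  apply RingHom.IsIntegral.trans
  · exact RingHom.isIntegral_of_surjective _
      (MvPolynomial.map_surjective _ Ideal.Quotient.mk_surjective)
  · intro f
    have : IsIntegral (MvPolynomial σ (R ⧸ P₀)) f := by
      rw [MvPolynomial.isIntegral_iff_isIntegral_coeff]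
      intro n
      exact Algebra.IsIntegral.isIntegral _
    exact this

end Poly


section Poly
open MvPolynomial

variable {R : Type u} [CommRing R] (σ : Type u) (P₀ : Ideal R) [hP₀ : P₀.IsPrime]
  (K N : Type u) [Field K] [Algebra (R ⧸ P₀) K] [IsFractionRing (R ⧸ P₀) K]
  [CommRing N] [Algebra (R ⧸ P₀) N] [Algebra N K] [IsScalarTower (R ⧸ P₀) N K]
  [Algebra.IsIntegral (R ⧸ P₀) N]
  (hinj : Function.Injective (algebraMap N K))
  (hic : ∀ z : K, IsIntegral (R ⧸ P₀) z → ∃ n : N, algebraMap N K n = z)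



/-- the composite `R[σ]/P₀[σ] → Frac(K[σ])` on classes -/
theorem toFrac_mk (x : MvPolynomial σ R) :
    polyToFrac σ K N (polyQuot σ P₀ N (Ideal.Quotient.mk _ x)) =
      algebraMap (MvPolynomial σ K) (FractionRing (MvPolynomial σ K))
        (MvPolynomial.map (algebraMap (R ⧸ P₀) K) (MvPolynomial.map (Ideal.Quotient.mk P₀) x)) := by
  rw [polyQuot_mk, map_iota_eq]
  unfold polyToFrac
  rw [RingHom.comp_apply, RingHom.comp_apply, MvPolynomial.map_map,
    ← IsScalarTower.algebraMap_eq (R ⧸ P₀) N K]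

attribute [local instance] MvPolynomial.algebraMvPolynomial in
theorem exists_den (a : MvPolynomial σ K) :
    ∃ (d : R ⧸ P₀) (a₀ : MvPolynomial σ (R ⧸ P₀)), d ≠ 0 ∧
      a * C (algebraMap (R ⧸ P₀) K d) = MvPolynomial.map (algebraMap (R ⧸ P₀) K) a₀ := by
  haveI : IsDomain (R ⧸ P₀) := Ideal.Quotient.isDomain _
  obtain ⟨⟨a₀, ⟨s, hs⟩⟩, h⟩ := IsLocalization.surj
    ((nonZeroDivisors (R ⧸ P₀)).map (C : (R ⧸ P₀) →+* MvPolynomial σ (R ⧸ P₀))) a
  obtain ⟨d, hd, rfl⟩ := hs
  refine ⟨d, a₀, nonZeroDivisors.ne_zero hd, ?_⟩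
  have h' : a * MvPolynomial.map (algebraMap (R ⧸ P₀) K) (C d) =
      MvPolynomial.map (algebraMap (R ⧸ P₀) K) a₀ := h
  rw [MvPolynomial.map_C] at h'
  exact h'

include hinj in
theorem isFractionRing_poly :
    letI : Algebra (MvPolynomial σ R ⧸ P₀.map (C : R →+* MvPolynomial σ R))
        (FractionRing (MvPolynomial σ K)) := ((polyToFrac σ K N).comp (polyQuot σ P₀ N)).toAlgebra
    IsFractionRing (MvPolynomial σ R ⧸ P₀.map (C : R →+* MvPolynomial σ R))
      (FractionRing (MvPolynomial σ K)) := by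
  letI : Algebra (MvPolynomial σ R ⧸ P₀.map (C : R →+* MvPolynomial σ R))
      (FractionRing (MvPolynomial σ K)) := ((polyToFrac σ K N).comp (polyQuot σ P₀ N)).toAlgebra
  haveI : FaithfulSMul (MvPolynomial σ R ⧸ P₀.map (C : R →+* MvPolynomial σ R))
      (FractionRing (MvPolynomial σ K)) := by
    rw [faithfulSMul_iff_algebraMap_injective]
    exact (polyToFrac_injective σ K N hinj).comp (polyQuot_injective σ P₀ K N hinj)
  apply IsFractionRing.of_field
  intro z
  obtain ⟨a, b, hb, rfl⟩ := IsFractionRing.div_surjective (A := MvPolynomial σ K) z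
  obtain ⟨da, a₀, hda, ha⟩ := exists_den σ P₀ K a
  obtain ⟨db, b₀, hdb, hb'⟩ := exists_den σ P₀ K b
  obtain ⟨x₁, hx₁⟩ := MvPolynomial.map_surjective (σ := σ) (Ideal.Quotient.mk P₀)
    Ideal.Quotient.mk_surjective (a₀ * C db)
  obtain ⟨y₁, hy₁⟩ := MvPolynomial.map_surjective (σ := σ) (Ideal.Quotient.mk P₀)
    Ideal.Quotient.mk_surjective (b₀ * C da)
  refine ⟨Ideal.Quotient.mk _ x₁, Ideal.Quotient.mk _ y₁, ?_⟩
  have e1 : algebraMap (MvPolynomial σ R ⧸ P₀.map (C : R →+* MvPolynomial σ R))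
      (FractionRing (MvPolynomial σ K)) (Ideal.Quotient.mk _ x₁) =
      polyToFrac σ K N (polyQuot σ P₀ N (Ideal.Quotient.mk _ x₁)) := rfl
  have e2 : algebraMap (MvPolynomial σ R ⧸ P₀.map (C : R →+* MvPolynomial σ R))
      (FractionRing (MvPolynomial σ K)) (Ideal.Quotient.mk _ y₁) =
      polyToFrac σ K N (polyQuot σ P₀ N (Ideal.Quotient.mk _ y₁)) := rfl
  rw [e1, e2, toFrac_mk, toFrac_mk, hx₁, hy₁]
  simp only [map_mul, MvPolynomial.map_C]
  rw [← ha, ← hb']
  simp only [map_mul]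
  have hinjK : Function.Injective (algebraMap (R ⧸ P₀) K) := IsFractionRing.injective _ _
  have hinjF : Function.Injective (algebraMap (MvPolynomial σ K) (FractionRing (MvPolynomial σ K))) :=
    IsFractionRing.injective _ _
  have h1 : algebraMap (MvPolynomial σ K) (FractionRing (MvPolynomial σ K))
      (C (algebraMap (R ⧸ P₀) K da)) ≠ 0 := by
    rw [Ne, map_eq_zero_iff _ hinjF, ← C_0, (C_injective σ K).eq_iff, map_eq_zero_iff _ hinjK]
    exact hda
  have h2 : algebraMap (MvPolynomial σ K) (FractionRing (MvPolynomial σ K))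
      (C (algebraMap (R ⧸ P₀) K db)) ≠ 0 := by
    rw [Ne, map_eq_zero_iff _ hinjF, ← C_0, (C_injective σ K).eq_iff, map_eq_zero_iff _ hinjK]
    exact hdb
  have h3 : algebraMap (MvPolynomial σ K) (FractionRing (MvPolynomial σ K)) b ≠ 0 := by
    rw [Ne, map_eq_zero_iff _ hinjF]
    exact nonZeroDivisors.ne_zero hb
  field_simp

end Poly


section Poly
open MvPolynomial

variable {R : Type u} [CommRing R] (σ : Type u) (P₀ : Ideal R) [hP₀ : P₀.IsPrime]
  (K N : Type u) [Field K] [Algebra (R ⧸ P₀) K] [IsFractionRing (R ⧸ P₀) K]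
  [CommRing N] [Algebra (R ⧸ P₀) N] [Algebra N K] [IsScalarTower (R ⧸ P₀) N K]
  [Algebra.IsIntegral (R ⧸ P₀) N]
  (hinj : Function.Injective (algebraMap N K))
  (hic : ∀ z : K, IsIntegral (R ⧸ P₀) z → ∃ n : N, algebraMap N K n = z)



attribute [local instance] MvPolynomial.algebraMvPolynomial in
include hic in
theorem poly_hic :
    letI : Algebra (MvPolynomial σ R ⧸ P₀.map (C : R →+* MvPolynomial σ R))
        (FractionRing (MvPolynomial σ K)) := ((polyToFrac σ K N).comp (polyQuot σ P₀ N)).toAlgebra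
    ∀ z : FractionRing (MvPolynomial σ K),
      IsIntegral (MvPolynomial σ R ⧸ P₀.map (C : R →+* MvPolynomial σ R)) z →
        ∃ n' : MvPolynomial σ N, polyToFrac σ K N n' = z := by
  intro z hz
  have hz' : ((polyToFrac σ K N).comp (polyQuot σ P₀ N)).IsIntegralElem z := hz
  have hF_inj : Function.Injective
      (algebraMap (MvPolynomial σ K) (FractionRing (MvPolynomial σ K))) :=
    IsFractionRing.injective _ _
  have e0 : (polyToFrac σ K N).comp (polyQuot σ P₀ N) =
      (algebraMap (MvPolynomial σ K) (FractionRing (MvPolynomial σ K))).comp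
        ((MvPolynomial.map (algebraMap N K)).comp (polyQuot σ P₀ N)) := by
    unfold polyToFrac
    rw [RingHom.comp_assoc]
  rw [e0] at hz'
  have h1 : IsIntegral (MvPolynomial σ K) z := RingHom.IsIntegralElem.of_comp hz'
  haveI : IsIntegrallyClosed (MvPolynomial σ K) := UniqueFactorizationMonoid.instIsIntegrallyClosed
  obtain ⟨a, rfl⟩ := (IsIntegrallyClosed.isIntegral_iff (R := MvPolynomial σ K)).mp h1
  have h2 : ((MvPolynomial.map (algebraMap N K)).comp (polyQuot σ P₀ N)).IsIntegralElem a :=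
    RingHom.IsIntegralElem.of_map hF_inj hz'
  have h3 := isIntegralElem_comp_of_surjective (Ideal.Quotient.mk _) Ideal.Quotient.mk_surjective _ a h2
  rw [RingHom.comp_assoc, polyQuot_comp_mk, map_iota_eq, ← RingHom.comp_assoc] at h3
  have h4 : ((MvPolynomial.map (σ := σ) (algebraMap N K)).comp
      (MvPolynomial.map (algebraMap (R ⧸ P₀) N))).IsIntegralElem a := RingHom.IsIntegralElem.of_comp h3
  have e1 : (MvPolynomial.map (σ := σ) (algebraMap N K)).comp
      (MvPolynomial.map (algebraMap (R ⧸ P₀) N)) = MvPolynomial.map (algebraMap (R ⧸ P₀) K) := by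
    refine RingHom.ext fun b => ?_
    rw [RingHom.comp_apply, MvPolynomial.map_map, ← IsScalarTower.algebraMap_eq]
  rw [e1] at h4
  have h5 : IsIntegral (MvPolynomial σ (R ⧸ P₀)) a := h4
  rw [MvPolynomial.isIntegral_iff_isIntegral_coeff] at h5
  have h6 : a ∈ Set.range (MvPolynomial.map (σ := σ) (algebraMap N K)) := by
    rw [mem_range_map_iff_coeffs_subset]
    intro c hc
    obtain ⟨m, -, rfl⟩ := mem_coeffs_iff.mp hc
    obtain ⟨n, hn⟩ := hic _ (h5 m)
    exact ⟨n, hn⟩
  obtain ⟨n', rfl⟩ := h6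
  exact ⟨n', rfl⟩

end Poly



section Poly
open MvPolynomial

variable {R : Type u} [CommRing R] (σ : Type u) (P₀ : Ideal R) [hP₀ : P₀.IsPrime]
  (K N : Type u) [Field K] [Algebra (R ⧸ P₀) K] [IsFractionRing (R ⧸ P₀) K]
  [CommRing N] [Algebra (R ⧸ P₀) N] [Algebra N K] [IsScalarTower (R ⧸ P₀) N K]
  [Algebra.IsIntegral (R ⧸ P₀) N]
  (hinj : Function.Injective (algebraMap N K))
  (hic : ∀ z : K, IsIntegral (R ⧸ P₀) z → ∃ n : N, algebraMap N K n = z)



/-- transfer of the universal-injectivity property to polynomial rings -/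
theorem poly_transfer (p' : Ideal (MvPolynomial σ R)) (p : Ideal R)
    (hp : p'.comap (C : R →+* MvPolynomial σ R) = p)
    (hU : ∀ (Ω : Type u) [Field Ω] (τ₁ τ₂ : N →+* Ω),
        τ₁.comp (iota P₀ N) = τ₂.comp (iota P₀ N) →
        RingHom.ker (τ₁.comp (iota P₀ N)) = p → τ₁ = τ₂)
    (Ω : Type u) [Field Ω] (τ₁ τ₂ : MvPolynomial σ N →+* Ω)
    (heq : τ₁.comp (MvPolynomial.map (iota P₀ N)) = τ₂.comp (MvPolynomial.map (iota P₀ N)))
    (hker : RingHom.ker (τ₁.comp (MvPolynomial.map (σ := σ) (iota P₀ N))) = p') : τ₁ = τ₂ := by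
  have hC : ∀ τ : MvPolynomial σ N →+* Ω, (τ.comp C).comp (iota P₀ N) =
      (τ.comp (MvPolynomial.map (σ := σ) (iota P₀ N))).comp C := by
    intro τ
    refine RingHom.ext fun r => ?_
    simp only [RingHom.comp_apply, MvPolynomial.map_C]
  have h1 : τ₁.comp C = τ₂.comp C := by
    apply hU Ω
    · rw [hC, hC, heq]
    · rw [hC, ← RingHom.comap_ker, hker, hp]
  apply MvPolynomial.ringHom_ext
  · intro n
    exact RingHom.congr_fun h1 n
  · intro i
    have := RingHom.congr_fun heq (X i)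
    simpa only [RingHom.comp_apply, MvPolynomial.map_X] using this

include hinj hic in
theorem isGeomUnibranch_poly_aux (p' : Ideal (MvPolynomial σ R)) [p'.IsPrime] (p : Ideal R) [p.IsPrime]
    (hp : p'.comap (C : R →+* MvPolynomial σ R) = p)
    (hP₀p : P₀ ≤ p) (hmin : ∀ P : Ideal R, P.IsPrime → P ≤ p → P₀ ≤ P)
    (A : Type u) [CommRing A] [IsLocalRing A] [Algebra R A] [IsLocalization.AtPrime A p]
    (hA : CAlg2.IsGeomUnibranch A)
    (A' : Type u) [CommRing A'] [IsLocalRing A'] [Algebra (MvPolynomial σ R) A']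
    [IsLocalization.AtPrime A' p'] : CAlg2.IsGeomUnibranch A' := by
  have hU := (isGeomUnibranch_iff_gen p P₀ hP₀p hmin A hinj hic).mp hA
  haveI hP₀' : (P₀.map (C : R →+* MvPolynomial σ R)).IsPrime := isPrime_map_C σ P₀ K N hinj
  have hP₀'p' : P₀.map (C : R →+* MvPolynomial σ R) ≤ p' := by
    rw [Ideal.map_le_iff_le_comap, hp]; exact hP₀p
  have hmin' : ∀ P' : Ideal (MvPolynomial σ R), P'.IsPrime → P' ≤ p' →
      P₀.map (C : R →+* MvPolynomial σ R) ≤ P' := by
    intro P' hP' hP'p'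
    rw [Ideal.map_le_iff_le_comap]
    apply hmin _ (Ideal.comap_isPrime _ _)
    rw [← hp]; exact Ideal.comap_mono hP'p'
  letI a1 : Algebra (MvPolynomial σ R ⧸ P₀.map (C : R →+* MvPolynomial σ R)) (MvPolynomial σ N) :=
    (polyQuot σ P₀ N).toAlgebra
  letI a2 : Algebra (MvPolynomial σ N) (FractionRing (MvPolynomial σ K)) :=
    (polyToFrac σ K N).toAlgebra
  letI a3 : Algebra (MvPolynomial σ R ⧸ P₀.map (C : R →+* MvPolynomial σ R))
      (FractionRing (MvPolynomial σ K)) :=
    ((polyToFrac σ K N).comp (polyQuot σ P₀ N)).toAlgebra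
  haveI : IsScalarTower (MvPolynomial σ R ⧸ P₀.map (C : R →+* MvPolynomial σ R))
      (MvPolynomial σ N) (FractionRing (MvPolynomial σ K)) := IsScalarTower.of_algebraMap_eq' rfl
  haveI : IsFractionRing (MvPolynomial σ R ⧸ P₀.map (C : R →+* MvPolynomial σ R))
      (FractionRing (MvPolynomial σ K)) := isFractionRing_poly σ P₀ K N hinj
  haveI : Algebra.IsIntegral (MvPolynomial σ R ⧸ P₀.map (C : R →+* MvPolynomial σ R))
      (MvPolynomial σ N) := ⟨polyQuot_isIntegral σ P₀ N⟩
  have hinj' := polyToFrac_injective σ K N hinj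
  have hic' := poly_hic σ P₀ K N hic
  rw [isGeomUnibranch_iff_gen p' (P₀.map (C : R →+* MvPolynomial σ R)) hP₀'p' hmin' A'
    (K := FractionRing (MvPolynomial σ K)) (N := MvPolynomial σ N) hinj' hic']
  intro Ω _ τ₁ τ₂ heq hker
  have e : (algebraMap (MvPolynomial σ R ⧸ P₀.map (C : R →+* MvPolynomial σ R))
      (MvPolynomial σ N)).comp (Ideal.Quotient.mk _) = MvPolynomial.map (σ := σ) (iota P₀ N) :=
    polyQuot_comp_mk σ P₀ N
  rw [e] at heq hker
  exact poly_transfer σ P₀ N p' p hp hU Ω τ₁ τ₂ heq hker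

end Poly

section Main
open MvPolynomial

theorem isGeomUnibranch_mvPolynomial {R : Type u} [CommRing R] (σ : Type u)
    (p' : Ideal (MvPolynomial σ R)) [p'.IsPrime] (p : Ideal R) [p.IsPrime]
    (hp : p'.comap (C : R →+* MvPolynomial σ R) = p)
    (A : Type u) [CommRing A] [IsLocalRing A] [Algebra R A] [IsLocalization.AtPrime A p]
    (hA : CAlg2.IsGeomUnibranch A)
    (A' : Type u) [CommRing A'] [IsLocalRing A'] [Algebra (MvPolynomial σ R) A']
    [IsLocalization.AtPrime A' p'] : CAlg2.IsGeomUnibranch A' := by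
  obtain ⟨P₀, hP₀, hP₀p, hmin⟩ := exists_min_of_isDomain_red p A hA.1.1
  haveI := hP₀
  exact isGeomUnibranch_poly_aux σ P₀ (FractionRing (R ⧸ P₀))
    (integralClosure (R ⧸ P₀) (FractionRing (R ⧸ P₀))) Subtype.val_injective
    (fun z hz => ⟨⟨z, hz⟩, rfl⟩) p' p hp hP₀p hmin A hA A'

end Main


end Groth.Agent.Lib.Helper4.ChevCrit2
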