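import Mathlib
import Groth.Prelude.Def_Brnch
import Groth.Prelude.Def_EGA43
import Groth.Agent.Lib.Helper4.ChevCrit1
import Groth.Agent.Lib.Helper4.ChevCrit2
import Groth.Agent.Lib.Helper4.UnivClosed

/-!
# S4936: affine space over a geometrically unibranch point is geometrically unibranch (helper4)
-/

set_option backward.isDefEq.respectTransparency.types false
set_option synthInstance.maxHeartbeats 400000
set_option autoImplicit false
set_option linter.unusedSectionVars false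
set_option linter.style.haveILetI false
set_option linter.unusedSimpArgs false
universe u v w
open CategoryTheory CategoryTheory.Limits AlgebraicGeometry TopologicalSpace IsLocalRing Opposite
open AffineSpace
open Groth.Agent.Lib.Helper4.ChevCrit1 Groth.Agent.Lib.Helper4.ChevCrit2 Groth.Agent.Lib.Helper4.UC

namespace Groth.Agent.Lib.Helper4.ChevCrit3
theorem chart_over (I : Type u) {T : Scheme.{u}} (C : CommRingCat.{u}) (j : Spec C ⟶ T) :
    chart I C j ≫ (𝔸(I; T) ↘ T) = Spec.map (CommRingCat.ofHom (MvPolynomial.C (σ := I))) ≫ j := by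
  unfold chart
  rw [Category.assoc, map_over, ← Category.assoc, SpecIso_inv_over]

theorem S4936_main {Y : Scheme.{u}} (n : ℕ) (y' : ↥𝔸(ULift.{u} (Fin n); Y))
    (hy : CAlg2.IsGeomUnibranch (Y.presheaf.stalk ((𝔸(ULift.{u} (Fin n); Y) ↘ Y).base y'))) :
    CAlg2.IsGeomUnibranch ((𝔸(ULift.{u} (Fin n); Y)).presheaf.stalk y') := by
  obtain ⟨_, ⟨V, hV, rfl⟩, hyV, -⟩ := Y.isBasis_affineOpens.exists_subset_of_mem_open
    (Set.mem_univ ((𝔸(ULift.{u} (Fin n); Y) ↘ Y).base y')) isOpen_univ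
  have hV' : IsAffineOpen V := hV
  have hy'r : y' ∈ Set.range (chart (ULift.{u} (Fin n)) Γ(Y, V) hV'.fromSpec).base := by
    rw [range_chart, hV'.range_fromSpec]; exact hyV
  obtain ⟨w, rfl⟩ := hy'r
  obtain ⟨c, hc⟩ : ∃ c, c = chart (ULift.{u} (Fin n)) Γ(Y, V) hV'.fromSpec := ⟨_, rfl⟩
  rw [← hc] at hy hyV ⊢
  haveI : IsOpenImmersion c := by rw [hc]; infer_instance
  -- the stalk of affine space as a localization of the polynomial ring
  let h : (Spec (.of (MvPolynomial (ULift.{u} (Fin n)) Γ(Y, V)))).presheaf.stalk w ≃+*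
      (𝔸(ULift.{u} (Fin n); Y)).presheaf.stalk (c.base w) :=
    (asIso (c.stalkMap w)).symm.commRingCatIsoToRingEquiv
  letI alg0 : Algebra (MvPolynomial (ULift.{u} (Fin n)) Γ(Y, V))
      ((Spec (.of (MvPolynomial (ULift.{u} (Fin n)) Γ(Y, V)))).presheaf.stalk w) :=
    StructureSheaf.stalkAlgebra (R := MvPolynomial (ULift.{u} (Fin n)) Γ(Y, V)) w
  haveI loc0 : IsLocalization.AtPrime
      ((Spec (.of (MvPolynomial (ULift.{u} (Fin n)) Γ(Y, V)))).presheaf.stalk w) w.asIdeal :=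
    StructureSheaf.IsLocalization.to_stalk (MvPolynomial (ULift.{u} (Fin n)) Γ(Y, V)) w
  letI algA' : Algebra (MvPolynomial (ULift.{u} (Fin n)) Γ(Y, V))
      ((𝔸(ULift.{u} (Fin n); Y)).presheaf.stalk (c.base w)) :=
    (h.toRingHom.comp (algebraMap (MvPolynomial (ULift.{u} (Fin n)) Γ(Y, V))
      ((Spec (.of (MvPolynomial (ULift.{u} (Fin n)) Γ(Y, V)))).presheaf.stalk w))).toAlgebra
  haveI : IsLocalization.AtPrime ((𝔸(ULift.{u} (Fin n); Y)).presheaf.stalk (c.base w)) w.asIdeal :=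
    (IsLocalization.isLocalization_iff_of_ringEquiv w.asIdeal.primeCompl h).mp loc0
  letI algA : Algebra Γ(Y, V)
      (Y.presheaf.stalk ((𝔸(ULift.{u} (Fin n); Y) ↘ Y).base (c.base w))) :=
    TopCat.Presheaf.algebra_section_stalk Y.presheaf ⟨_, hyV⟩
  haveI := hV'.isLocalization_stalk ⟨_, hyV⟩
  have hp : w.asIdeal.comap (MvPolynomial.C (σ := ULift.{u} (Fin n))) =
      (hV'.primeIdealOf ⟨_, hyV⟩).asIdeal := by
    have h1 : hV'.fromSpec.base ((Spec.map (CommRingCat.ofHom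
        (MvPolynomial.C (σ := ULift.{u} (Fin n)) (R := Γ(Y, V))))).base w) =
        (𝔸(ULift.{u} (Fin n); Y) ↘ Y).base (c.base w) := by
      rw [← TopCat.comp_app, ← Scheme.Hom.comp_base, ← TopCat.comp_app, ← Scheme.Hom.comp_base, hc,
        chart_over]
    have h2 : hV'.fromSpec.base (hV'.primeIdealOf ⟨_, hyV⟩) =
        (𝔸(ULift.{u} (Fin n); Y) ↘ Y).base (c.base w) := hV'.fromSpec_primeIdealOf ⟨_, hyV⟩
    have h3 := hV'.fromSpec.isOpenEmbedding.injective (h1.trans h2.symm)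
    exact congrArg PrimeSpectrum.asIdeal h3
  exact isGeomUnibranch_mvPolynomial (ULift.{u} (Fin n)) w.asIdeal
    (hV'.primeIdealOf ⟨_, hyV⟩).asIdeal hp
    (Y.presheaf.stalk ((𝔸(ULift.{u} (Fin n); Y) ↘ Y).base (c.base w))) hy
    ((𝔸(ULift.{u} (Fin n); Y)).presheaf.stalk (c.base w))

end Groth.Agent.Lib.Helper4.ChevCrit3
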