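import Mathlib
import Groth.Prelude.Def_Cyc
import Groth.Agent.Lib.Helper4.JacDim1
import Groth.Prelude.Def_EGA43
import Groth.Agent.Lib.Helper4.FibreStalkDim1
import Groth.Agent.Lib.Helper4.DimFT1
import Groth.Agent.Lib.Helper4.DimFT2
import Groth.Agent.Lib.Helper4.Chev8
import Groth.Agent.Lib.Helper4.FibDim7
import Groth.Agent.Lib.Helper4.EffCartierDim1
import Groth.Agent.Lib.Helper4.JacDim4
import Groth.Agent.Lib.Helper4.Chev9
import Groth.Agent.Lib.Helper4.Chev10
import Groth.Agent.Lib.Helper4.Chev11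
import Groth.Agent.Lib.Helper4.Equi1
import Groth.Agent.Lib.Helper4.Equi2
import Groth.Agent.Lib.Helper4.Equi3
import Groth.Agent.Lib.Helper4.Equi4
import Groth.Agent.Lib.Helper4.Equi5
import Groth.Agent.Lib.Helper4.Equi6
import Groth.Agent.Lib.Helper4.Equi7
import Groth.Agent.Lib.Helper4.Aff1
import Groth.Agent.Lib.Helper4.Aff2
import Groth.Agent.Lib.Helper4.Equi10

/-!
# Residual transcendence degrees over valuation rings; dimension of fibres over a valuation ring (helper4)
-/

set_option backward.isDefEq.respectTransparency.types false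
set_option synthInstance.maxHeartbeats 400000
set_option autoImplicit false
set_option linter.unusedSectionVars false
set_option linter.style.haveILetI false
set_option linter.unusedSimpArgs false
universe u v w
open CategoryTheory CategoryTheory.Limits AlgebraicGeometry TopologicalSpace IsLocalRing Opposite
open Cardinal AffineSpace MvPolynomial
open Groth.Agent.Lib.Helper4.DimIneq1 Groth.Agent.Lib.Helper4.DimFT2 Groth.Agent.Lib.Helper4.Catenary1
open Groth.Agent.Lib.Helper4.DimEq1 Groth.Agent.Lib.Helper4.DimIneq2 Groth.Agent.Lib.Helper4.DimEq2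
open Groth.Agent.Lib.Helper4.DimIneq3 Groth.Agent.Lib.Helper4.DimIneq4
open Groth.Agent.Lib.Helper4.NormFibre2 Groth.Agent.Lib.Helper4.RadBir3 Groth.Agent.Lib.Helper4.DimFT3
open Groth.Agent.Lib.Helper4.FibDim1 Groth.Agent.Lib.Helper4.FibDim2 Groth.Agent.Lib.Helper4.LocUC1
open Groth.Agent.Lib.Helper4.FibDim3 Groth.Agent.Lib.Helper4.FibDim4 Groth.Agent.Lib.Helper4.FibDim5
open Groth.Agent.Lib.Helper4.FibDim6 Groth.Agent.Lib.Helper4.FibDim7 Groth.Agent.Lib.Helper4.JacDim1
open Groth.Agent.Lib.Helper4.DimFT1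
open Groth.Agent.Lib.Helper4.Chev2 Groth.Agent.Lib.Helper4.Chev5 Groth.Agent.Lib.Helper4.Chev6 Groth.Agent.Lib.Helper4.Chev8
open Groth.Agent.Lib.Helper4.JacDim4 Groth.Agent.Lib.Helper4.EffCartierDim1
open Groth.Agent.Lib.Helper4.Chev9 Groth.Agent.Lib.Helper4.Chev4
open Groth.Agent.Lib.Helper4.Chev10 Groth.Agent.Lib.Helper4.Chev11 Groth.Agent.Lib.Helper4.Chev3 Groth.Agent.Lib.Helper4.Equi1 Groth.Agent.Lib.Helper4.Equi2 Groth.Agent.Lib.Helper4.OpenAt1 Groth.Agent.Lib.Helper4.Equi3 Groth.Agent.Lib.Helper4.Equi4 Groth.Agent.Lib.Helper4.Equi5 Groth.Agent.Lib.Helper4.Equi6 Groth.Agent.Lib.Helper4.Equi7 Groth.Agent.Lib.Helper4.Aff1 Groth.Agent.Lib.Helper4.Aff2 Groth.Agent.Lib.Helper4.Equi10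

namespace Groth.Agent.Lib.Helper4.Val1

section ValAlg

theorem exists_dvd_all {R ι : Type*} [CommRing R] (hdiv : ∀ a b : R, a ∣ b ∨ b ∣ a)
    (t : Finset ι) (ht : t.Nonempty) (g : ι → R) : ∃ i ∈ t, ∀ j ∈ t, g i ∣ g j := by
  classical
  induction ht using Finset.Nonempty.cons_induction with
  | singleton a => exact ⟨a, Finset.mem_singleton_self a, fun j hj => by
      rw [Finset.mem_singleton] at hj; rw [hj]⟩
  | cons a s ha hs ih =>
    obtain ⟨i, hi, hall⟩ := ih
    rcases hdiv (g a) (g i) with h | h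
    · refine ⟨a, Finset.mem_cons_self a s, fun j hj => ?_⟩
      rw [Finset.mem_cons] at hj
      rcases hj with rfl | hj
      · exact dvd_rfl
      · exact h.trans (hall j hj)
    · refine ⟨i, Finset.mem_cons.mpr (Or.inr hi), fun j hj => ?_⟩
      rw [Finset.mem_cons] at hj
      rcases hj with rfl | hj
      · exact h
      · exact hall j hj

/-- over a ring with total divisibility a nonzero polynomial is a nonzero constant times a
polynomial having a coefficient equal to one -/
theorem exists_eq_C_mul_of_dvd_total {R σ : Type*} [CommRing R] [IsDomain R]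
    (hdiv : ∀ a b : R, a ∣ b ∨ b ∣ a) (F : MvPolynomial σ R) (hF : F ≠ 0) :
    ∃ (c : R) (G : MvPolynomial σ R) (m₀ : σ →₀ ℕ), c ≠ 0 ∧ F = MvPolynomial.C c * G ∧
      MvPolynomial.coeff m₀ G = 1 := by
  classical
  have hne : F.support.Nonempty := by
    rw [Finset.nonempty_iff_ne_empty]
    intro h
    exact hF (MvPolynomial.support_eq_empty.mp h)
  obtain ⟨m₀, hm₀, hall⟩ := exists_dvd_all hdiv F.support hne (fun m => MvPolynomial.coeff m F)
  have hc : MvPolynomial.coeff m₀ F ≠ 0 := MvPolynomial.mem_support_iff.mp hm₀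
  have hq : ∀ m : σ →₀ ℕ, ∃ r : R, m ∈ F.support →
      MvPolynomial.coeff m F = MvPolynomial.coeff m₀ F * r := by
    intro m
    by_cases hm : m ∈ F.support
    · obtain ⟨r, hr⟩ := hall m hm
      exact ⟨r, fun _ => hr⟩
    · exact ⟨0, fun h => absurd h hm⟩
  choose q hq using hq
  have hFG : F = MvPolynomial.C (MvPolynomial.coeff m₀ F) *
      ∑ m ∈ F.support, MvPolynomial.monomial m (q m) := by
    rw [Finset.mul_sum]
    conv_lhs => rw [← MvPolynomial.support_sum_monomial_coeff F]
    apply Finset.sum_congr rfl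
    intro m hm
    rw [MvPolynomial.C_mul_monomial, ← hq m hm]
  refine ⟨MvPolynomial.coeff m₀ F, ∑ m ∈ F.support, MvPolynomial.monomial m (q m), m₀, hc, hFG, ?_⟩
  have h1 := congrArg (MvPolynomial.coeff m₀) hFG
  rw [MvPolynomial.coeff_C_mul] at h1
  have h2 : MvPolynomial.coeff m₀ F * 1 = MvPolynomial.coeff m₀ F *
      MvPolynomial.coeff m₀ (∑ m ∈ F.support, MvPolynomial.monomial m (q m)) := by
    rw [mul_one]
    exact h1
  exact (mul_left_cancel₀ hc h2).symm

/-- the key lemma: algebraically independent elements of a quotient lift to algebraically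
independent elements, over a valuation ring -/
theorem algebraicIndependent_lift_of_dvd_total {R R' S S' ι : Type*} [CommRing R] [IsDomain R]
    [CommRing R'] [Nontrivial R'] [CommRing S] [IsDomain S] [CommRing S'] [Algebra R S]
    [Algebra R' S']
    (hdiv : ∀ a b : R, a ∣ b ∨ b ∣ a) (hinj : Function.Injective (algebraMap R S))
    (π : R →+* R') (ρ : S →+* S')
    (hcomm : ∀ r : R, ρ (algebraMap R S r) = algebraMap R' S' (π r))
    (b : ι → S) (hb : AlgebraicIndependent R' (fun i => ρ (b i))) :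
    AlgebraicIndependent R b := by
  rw [algebraicIndependent_iff]
  intro F hF0
  by_contra hF
  obtain ⟨c, G, m₀, hc, hFG, hG1⟩ := exists_eq_C_mul_of_dvd_total hdiv F hF
  rw [hFG, map_mul, MvPolynomial.aeval_C] at hF0
  have hc' : algebraMap R S c ≠ 0 := by
    intro h
    exact hc (hinj (by rw [h, map_zero]))
  have hG0 : MvPolynomial.aeval b G = 0 := by
    rcases mul_eq_zero.mp hF0 with h | h
    · exact absurd h hc'
    · exact h
  have hhom : ρ.comp (MvPolynomial.aeval b : MvPolynomial ι R →ₐ[R] S).toRingHom =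
      ((MvPolynomial.aeval (fun i => ρ (b i)) : MvPolynomial ι R' →ₐ[R'] S').toRingHom).comp
        (MvPolynomial.map π) := by
    apply MvPolynomial.ringHom_ext
    · intro r
      simp [hcomm]
    · intro i
      simp
  have h3 : MvPolynomial.aeval (fun i => ρ (b i)) (MvPolynomial.map π G) = 0 := by
    have h4 := congrArg (fun φ => φ G) hhom
    simp only [RingHom.comp_apply, AlgHom.toRingHom_eq_coe, RingHom.coe_coe] at h4
    rw [← h4, hG0, map_zero]
  rw [algebraicIndependent_iff] at hb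
  have h5 := hb _ h3
  have h6 := congrArg (MvPolynomial.coeff m₀) h5
  rw [MvPolynomial.coeff_map, hG1, map_one, MvPolynomial.coeff_zero] at h6
  exact one_ne_zero h6

theorem trdeg_le_of_dvd_total {R R' : Type*} {S S' : Type v} [CommRing R] [IsDomain R]
    [CommRing R'] [Nontrivial R'] [CommRing S] [IsDomain S] [CommRing S'] [Algebra R S]
    [Algebra R' S']
    (hdiv : ∀ a b : R, a ∣ b ∨ b ∣ a) (hinj : Function.Injective (algebraMap R S))
    (π : R →+* R') (ρ : S →+* S') (hρ : Function.Surjective ρ)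
    (hcomm : ∀ r : R, ρ (algebraMap R S r) = algebraMap R' S' (π r)) :
    Algebra.trdeg R' S' ≤ Algebra.trdeg R S := by
  unfold Algebra.trdeg
  refine ciSup_le' fun s => ?_
  have hs : AlgebraicIndependent R' (fun i : s.1 => (i : S')) := s.2
  have hb : AlgebraicIndependent R (fun i : s.1 => (Function.invFun ρ (i : S'))) := by
    apply algebraicIndependent_lift_of_dvd_total hdiv hinj π ρ hcomm
    have : (fun i : s.1 => ρ (Function.invFun ρ (i : S'))) = fun i : s.1 => (i : S') := by
      funext i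
      exact Function.invFun_eq (hρ _)
    rw [this]
    exact hs
  exact hb.cardinalMk_le_trdeg

end ValAlg



section ValAlg

end ValAlg

section ValSch
variable {X Y : Scheme.{u}} (f : X ⟶ Y) [LocallyOfFiniteType f]

/-- over a base which is affine with totally ordered divisibility (a valuation ring), the residual
transcendence degree does not increase under specialization -/
theorem tr_le_tr_of_dvd_total {V : Y.Opens} (hV : IsAffineOpen V)
    (hdiv : ∀ a b : Γ(Y, V), a ∣ b ∨ b ∣ a)
    (ξ z : X) (hsp : ξ ⤳ z) (hzV : f z ∈ V) : tr f z ≤ tr f ξ := by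
  obtain ⟨U, hU, hzU, hUV⟩ := exists_isAffineOpen_mem_and_subset (U := f ⁻¹ᵁ V) (x := z) hzV
  have hξU : ξ ∈ U := hsp.mem_open U.2 hzU
  letI alg : Algebra Γ(Y, V) Γ(X, U) := (f.appLE V U hUV).hom.toAlgebra
  haveI lo1 := liesOver_chart f hV hU hUV z hzU rfl
  haveI lo2 := liesOver_chart f hV hU hUV ξ hξU rfl
  have h1 := tr_chart f hV hU hUV z hzU rfl
  have h2 := tr_chart f hV hU hUV ξ hξU rfl
  have hP : (hU.primeIdealOf ⟨ξ, hξU⟩).asIdeal ≤ (hU.primeIdealOf ⟨z, hzU⟩).asIdeal :=
    (specializes_iff_primeIdealOf_le hU ⟨ξ, hξU⟩ ⟨z, hzU⟩).mp hsp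
  have hp : (hV.primeIdealOf ⟨f ξ, hUV hξU⟩).asIdeal ≤ (hV.primeIdealOf ⟨f z, hUV hzU⟩).asIdeal :=
    (specializes_iff_primeIdealOf_le hV ⟨f ξ, hUV hξU⟩ ⟨f z, hUV hzU⟩).mp
      (hsp.map f.continuous)
  have hdiv' : ∀ a b : Γ(Y, V) ⧸ (hV.primeIdealOf ⟨f ξ, hUV hξU⟩).asIdeal, a ∣ b ∨ b ∣ a := by
    intro a b
    obtain ⟨a, rfl⟩ := Ideal.Quotient.mk_surjective a
    obtain ⟨b, rfl⟩ := Ideal.Quotient.mk_surjective b
    rcases hdiv a b with h | h
    · exact Or.inl (map_dvd _ h)
    · exact Or.inr (map_dvd _ h)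
  have key := trdeg_le_of_dvd_total
    (R := Γ(Y, V) ⧸ (hV.primeIdealOf ⟨f ξ, hUV hξU⟩).asIdeal)
    (R' := Γ(Y, V) ⧸ (hV.primeIdealOf ⟨f z, hUV hzU⟩).asIdeal)
    (S := Γ(X, U) ⧸ (hU.primeIdealOf ⟨ξ, hξU⟩).asIdeal)
    (S' := Γ(X, U) ⧸ (hU.primeIdealOf ⟨z, hzU⟩).asIdeal) hdiv'
    (FaithfulSMul.algebraMap_injective _ _) (Ideal.Quotient.factor hp) (Ideal.Quotient.factor hP)
    (Ideal.Quotient.factor_surjective hP) (by
      intro r
      obtain ⟨r, rfl⟩ := Ideal.Quotient.mk_surjective r
      rfl)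
  rw [h1, h2] at key
  exact_mod_cast key

end ValSch



section ValSch
variable {X Y : Scheme.{u}} (f : X ⟶ Y) [LocallyOfFiniteType f]

/-- the dimension of a fibre all of whose points have residual transcendence degree at most `e`,
one of them having exactly `e`, is `e` -/
theorem dim_fiber_eq_of_tr (y : Y) (e : ℕ) (hle : ∀ z : X, f z = y → tr f z ≤ e)
    (z₀ : X) (hz₀ : f z₀ = y) (he : tr f z₀ = e) :
    topologicalKrullDim ↥(f.fiber y) = (e : WithBot ℕ∞) := by
  rw [topologicalKrullDim_fiber_eq]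
  apply le_antisymm (krullDim_fibre_le f y e hle)
  have h1 := height_fib_nn f y z₀ hz₀
  have h2 : ((Order.height (⟨z₀, hz₀⟩ : {z' : X // f z' = y}) : ℕ∞) : WithBot ℕ∞) ≤
      Order.krullDim {z' : X // f z' = y} := Order.height_le_krullDim _
  rw [h1, he] at h2
  exact h2

end ValSch

theorem S4932_main {A : Type u} [CommRing A] [IsDomain A]
    [ValuationRing A] {X : Scheme.{u}} [IrreducibleSpace X] (f : X ⟶ Spec (CommRingCat.of A))
    [LocallyOfFiniteType f] [QuasiCompact f] [IsDominant f]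
    (h0 : Nonempty ↥(f.fiber (IsLocalRing.closedPoint A))) :
    topologicalKrullDim ↥(f.fiber (IsLocalRing.closedPoint A)) =
      topologicalKrullDim ↥(f.fiber (genericPoint (Spec (CommRingCat.of A)))) := by
  have hV : IsAffineOpen (⊤ : (Spec (CommRingCat.of A)).Opens) := isAffineOpen_top _
  have hdiv : ∀ a b : Γ(Spec (CommRingCat.of A), ⊤), a ∣ b ∨ b ∣ a := by
    intro a b
    let e : Γ(Spec (CommRingCat.of A), ⊤) ≃+* A :=
      (Scheme.ΓSpecIso (CommRingCat.of A)).commRingCatIsoToRingEquiv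
    rcases ValuationRing.dvd_total (e a) (e b) with h | h
    · left
      have := map_dvd e.symm h
      simpa using this
    · right
      have := map_dvd e.symm h
      simpa using this
  have hle : ∀ z : X, tr f z ≤ tr f (genericPoint X) := fun z =>
    tr_le_tr_of_dvd_total f hV hdiv (genericPoint X) z (genericPoint_specializes z) trivial
  have hgen : f (genericPoint X) = genericPoint (Spec (CommRingCat.of A)) := by
    have h1 : IsGenericPoint (f (genericPoint X)) (closure (f '' Set.univ)) :=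
      (genericPoint_spec X).image f.continuous
    rw [Set.image_univ, f.denseRange.closure_range] at h1
    exact ((genericPoint_spec _).eq h1).symm
  obtain ⟨w⟩ := h0
  have hz : f (f.fiberι _ w) = IsLocalRing.closedPoint A := fiberι_mem f _ w
  obtain ⟨z', hz', -, -, htr⟩ := exists_max_tr_eq_fibreDimAt f (f.fiberι _ w)
  have h2 := tr_le_fibreDimAt_of_specializes_nn f (f.fiberι _ w) (genericPoint X)
    (genericPoint_specializes _)
  rw [← htr] at h2
  have h3 : tr f (genericPoint X) ≤ tr f z' := by exact_mod_cast h2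
  rw [dim_fiber_eq_of_tr f _ (tr f (genericPoint X)) (fun z _ => hle z) z' (hz'.trans hz)
    (le_antisymm (hle z') h3),
    dim_fiber_eq_of_tr f _ (tr f (genericPoint X)) (fun z _ => hle z) (genericPoint X) hgen rfl]


end Groth.Agent.Lib.Helper4.Val1
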