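import Mathlib
import Groth.Prelude.Def_Cyc
import Groth.Agent.Lib.Helper4.JacDim1
import Groth.Prelude.Def_EGA43
import Groth.Agent.Lib.Helper4.FibreStalkDim1
import Groth.Agent.Lib.Helper4.DimFT1
import Groth.Agent.Lib.Helper4.DimFT2
import Groth.Agent.Lib.Helper4.Chev8
import Groth.Agent.Lib.Helper4.FibDim7
import Groth.Agent.Lib.Helper4.EffCartierDim1
import Groth.Agent.Lib.Helper4.JacDim4
import Groth.Agent.Lib.Helper4.Chev9
import Groth.Agent.Lib.Helper4.Chev10
import Groth.Agent.Lib.Helper4.Chev11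
import Groth.Agent.Lib.Helper4.Equi1
import Groth.Agent.Lib.Helper4.Equi2
import Groth.Agent.Lib.Helper4.Equi3
import Groth.Agent.Lib.Helper4.Equi4
import Groth.Agent.Lib.Helper4.Equi5
import Groth.Agent.Lib.Helper4.Equi6
import Groth.Agent.Lib.Helper4.Equi7
import Groth.Agent.Lib.Helper4.Aff1
import Groth.Agent.Lib.Helper4.Aff2
import Groth.Agent.Lib.Helper4.Equi10
import Groth.Agent.Lib.Helper4.Val1
import Groth.Agent.Lib.Helper4.BaseChg1
import Groth.Agent.Lib.Helper4.UnivOpen1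

/-!
# Closures of images of universally open families in fibres (EGA IV 14.3.x, S4972) (helper4)
-/

set_option backward.isDefEq.respectTransparency.types false
set_option synthInstance.maxHeartbeats 400000
set_option autoImplicit false
set_option linter.unusedSectionVars false
set_option linter.style.haveILetI false
set_option linter.unusedSimpArgs false
universe u v w
open CategoryTheory CategoryTheory.Limits AlgebraicGeometry TopologicalSpace IsLocalRing Opposite
open Cardinal AffineSpace MvPolynomial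
open Groth.Agent.Lib.Helper4.DimIneq1 Groth.Agent.Lib.Helper4.DimFT2 Groth.Agent.Lib.Helper4.Catenary1
open Groth.Agent.Lib.Helper4.DimEq1 Groth.Agent.Lib.Helper4.DimIneq2 Groth.Agent.Lib.Helper4.DimEq2
open Groth.Agent.Lib.Helper4.DimIneq3 Groth.Agent.Lib.Helper4.DimIneq4
open Groth.Agent.Lib.Helper4.NormFibre2 Groth.Agent.Lib.Helper4.RadBir3 Groth.Agent.Lib.Helper4.DimFT3
open Groth.Agent.Lib.Helper4.FibDim1 Groth.Agent.Lib.Helper4.FibDim2 Groth.Agent.Lib.Helper4.LocUC1
open Groth.Agent.Lib.Helper4.FibDim3 Groth.Agent.Lib.Helper4.FibDim4 Groth.Agent.Lib.Helper4.FibDim5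
open Groth.Agent.Lib.Helper4.FibDim6 Groth.Agent.Lib.Helper4.FibDim7 Groth.Agent.Lib.Helper4.JacDim1
open Groth.Agent.Lib.Helper4.DimFT1
open Groth.Agent.Lib.Helper4.Chev2 Groth.Agent.Lib.Helper4.Chev5 Groth.Agent.Lib.Helper4.Chev6 Groth.Agent.Lib.Helper4.Chev8
open Groth.Agent.Lib.Helper4.JacDim4 Groth.Agent.Lib.Helper4.EffCartierDim1
open Groth.Agent.Lib.Helper4.Chev9 Groth.Agent.Lib.Helper4.Chev4
open Groth.Agent.Lib.Helper4.Chev10 Groth.Agent.Lib.Helper4.Chev11 Groth.Agent.Lib.Helper4.Chev3 Groth.Agent.Lib.Helper4.Equi1 Groth.Agent.Lib.Helper4.Equi2 Groth.Agent.Lib.Helper4.OpenAt1 Groth.Agent.Lib.Helper4.Equi3 Groth.Agent.Lib.Helper4.Equi4 Groth.Agent.Lib.Helper4.Equi5 Groth.Agent.Lib.Helper4.Equi6 Groth.Agent.Lib.Helper4.Equi7 Groth.Agent.Lib.Helper4.Aff1 Groth.Agent.Lib.Helper4.Aff2 Groth.Agent.Lib.Helper4.Equi10 Groth.Agent.Lib.Helper4.Val1 Groth.Agent.Lib.Helper4.BaseChg1 Groth.Agent.Lib.Helper4.UnivOpen1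

namespace Groth.Agent.Lib.Helper4.FibClosure1

section FibBC
variable {X Y Y' : Scheme.{u}} (f : X ⟶ Y) (g : Y' ⟶ Y)

/-- the morphism from the fibre of a base change to the fibre of the original morphism -/
noncomputable def fibreMap (y' : Y') : (pullback.snd f g).fiber y' ⟶ f.fiber (g y') :=
  pullback.map _ _ _ _ (pullback.fst f g) (Spec.map (g.residueFieldMap y')) g
    (IsPullback.of_hasPullback f g).w.symm (by simp)

theorem fibreMap_fiberι (y' : Y') :
    fibreMap f g y' ≫ f.fiberι (g y') = (pullback.snd f g).fiberι y' ≫ pullback.fst f g := by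
  unfold fibreMap Scheme.Hom.fiberι
  exact pullback.lift_fst _ _ _

theorem isPullback_fibreMap (y' : Y') :
    IsPullback (fibreMap f g y') ((pullback.snd f g).fiberToSpecResidueField y')
      (f.fiberToSpecResidueField (g y')) (Spec.map (g.residueFieldMap y')) :=
  isPullback_fiberToSpecResidueField_of_isPullback (IsPullback.of_hasPullback f g) y'

instance universallyOpen_fibreMap (y' : Y') : UniversallyOpen (fibreMap f g y') :=
  MorphismProperty.of_isPullback (P := @UniversallyOpen) (isPullback_fibreMap f g y').flip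
    inferInstance

end FibBC



section FibBC
variable {X Y Y' : Scheme.{u}} (f : X ⟶ Y) (g : Y' ⟶ Y)

/-- closures in fibres pull back along base change: the projection between fibres is open -/
theorem mem_closure_fibre_of_fst_mem_closure (R : Set X) (w : ↥(pullback f g)) (y' : Y')
    (hw : pullback.snd f g w = y')
    (hcl : pullback.fst f g w ∈ closure (R ∩ f.base ⁻¹' {g y'})) :
    w ∈ closure {w' : ↥(pullback f g) | pullback.snd f g w' = y' ∧ pullback.fst f g w' ∈ R} := by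
  haveI := universallyOpen_fibreMap f g y'
  rw [mem_closure_iff]
  intro N hN hwN
  -- the point of the fibre scheme
  let w₀ : ↥((pullback.snd f g).fiber y') :=
    ((pullback.snd f g).fiberHomeo y').symm ⟨w, hw⟩
  have hw₀ : (pullback.snd f g).fiberι y' w₀ = w :=
    (pullback.snd f g).fiberι_fiberHomeo_symm y' ⟨w, hw⟩
  have hN₀ : IsOpen (((pullback.snd f g).fiberι y') ⁻¹' N) :=
    hN.preimage ((pullback.snd f g).fiberι y').continuous
  have hopen : IsOpen ((fibreMap f g y') '' (((pullback.snd f g).fiberι y') ⁻¹' N)) :=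
    (fibreMap f g y').isOpenMap _ hN₀
  have hcomm : ∀ a : ↥((pullback.snd f g).fiber y'),
      f.fiberι (g y') (fibreMap f g y' a) = pullback.fst f g ((pullback.snd f g).fiberι y' a) := by
    intro a
    rw [← Scheme.Hom.comp_apply, ← Scheme.Hom.comp_apply, fibreMap_fiberι]
  have hx₀ : fibreMap f g y' w₀ ∈ closure ((f.fiberι (g y')) ⁻¹' R) := by
    rw [(f.fiberι (g y')).isEmbedding.isInducing.closure_eq_preimage_closure_image]
    change f.fiberι (g y') (fibreMap f g y' w₀) ∈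
      closure ((f.fiberι (g y')) '' ((f.fiberι (g y')) ⁻¹' R))
    rw [hcomm, hw₀, Set.image_preimage_eq_inter_range, f.range_fiberι]
    exact hcl
  rw [mem_closure_iff] at hx₀
  obtain ⟨x₁, ⟨w₁, hw₁N, rfl⟩, hx₁R⟩ := hx₀ _ hopen ⟨w₀, (by
    change (pullback.snd f g).fiberι y' w₀ ∈ N
    rw [hw₀]
    exact hwN), rfl⟩
  refine ⟨(pullback.snd f g).fiberι y' w₁, hw₁N, fiberι_mem (pullback.snd f g) y' w₁, ?_⟩
  rw [← hcomm]
  exact hx₁R

end FibBC



section Fact1
variable {X S S' : Scheme.{u}} (f : X ⟶ S) (g : S' ⟶ S)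

/-- generizations lift along the base change of a universally open morphism factoring through
`X`, staying in the image -/
theorem exists_generization_in_range {Yi : Scheme.{u}} (gi : Yi ⟶ S) [UniversallyOpen gi]
    (vi : Yi ⟶ X) (hv : vi ≫ f = gi) (w : ↥(pullback f g))
    (hw : pullback.fst f g w ∈ Set.range vi.base) (η' : S') (hη' : η' ⤳ pullback.snd f g w) :
    ∃ w' : ↥(pullback f g), w' ⤳ w ∧ pullback.snd f g w' = η' ∧
      pullback.fst f g w' ∈ Set.range vi.base := by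
  obtain ⟨u, hu⟩ := hw
  have hcond : (pullback.fst gi g ≫ vi) ≫ f = pullback.snd gi g ≫ g := by
    rw [Category.assoc, hv, pullback.condition]
  obtain ⟨vi', hvi'1, hvi'2⟩ : ∃ vi' : pullback gi g ⟶ pullback f g,
      vi' ≫ pullback.fst f g = pullback.fst gi g ≫ vi ∧
      vi' ≫ pullback.snd f g = pullback.snd gi g :=
    ⟨pullback.lift _ _ hcond, pullback.lift_fst _ _ _, pullback.lift_snd _ _ _⟩
  have hsq : IsPullback vi' (pullback.fst gi g) (pullback.fst f g) vi := by
    refine IsPullback.of_right (h₁₂ := pullback.snd f g) (h₂₂ := f) (v₁₃ := g) ?_ hvi'1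
      (IsPullback.of_hasPullback f g).flip
    rw [hvi'2, hv]
    exact (IsPullback.of_hasPullback gi g).flip
  obtain ⟨u', hu'1, hu'2⟩ := exists_preimage_of_isPullback hsq w u hu.symm
  have hop : EGA43.IsOpenAt (pullback.snd gi g).base u' :=
    fun U hU => (pullback.snd gi g).isOpenMap.image_mem_nhds hU
  have hsnd : pullback.snd gi g u' = pullback.snd f g w := by
    rw [← hu'1, ← Scheme.Hom.comp_apply, hvi'2]
  obtain ⟨u'', hu''sp, hu''η⟩ := exists_generization_of_isOpenAt (pullback.snd gi g) u' hop η'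
    (hsnd ▸ hη')
  refine ⟨vi' u'', ?_, ?_, ?_⟩
  · rw [← hu'1]
    exact hu''sp.map vi'.continuous
  · rw [← Scheme.Hom.comp_apply, hvi'2, hu''η]
  · rw [← Scheme.Hom.comp_apply, hvi'1, Scheme.Hom.comp_apply]
    exact ⟨_, rfl⟩

end Fact1



section Fact3
variable {X Y : Scheme.{u}} (f : X ⟶ Y) [LocallyOfFiniteType f]

/-- a point in the closure of a subset of a fibre of a morphism locally of finite type has a
generization in the closure of that subset lying in the same fibre -/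
theorem exists_generization_in_closure_fibre (E : Set X) (η : Y) (hE : ∀ e ∈ E, f e = η)
    (ζ : X) (hζ : ζ ∈ closure E) : ∃ ξ' : X, ξ' ∈ closure E ∧ f ξ' = η ∧ ξ' ⤳ ζ := by
  obtain ⟨ι, hι⟩ : ∃ ι : (Scheme.IdealSheafData.vanishingIdeal
      (⟨closure E, isClosed_closure⟩ : TopologicalSpace.Closeds X)).subscheme ⟶ X,
      ι = (Scheme.IdealSheafData.vanishingIdeal
      (⟨closure E, isClosed_closure⟩ : TopologicalSpace.Closeds X)).subschemeι :=
    ⟨_, rfl⟩
  have hr : Set.range ι = closure E := by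
    rw [hι, Scheme.IdealSheafData.range_subschemeι, Scheme.IdealSheafData.coe_support_vanishingIdeal]
    rfl
  haveI : IsClosedImmersion ι := by rw [hι]; infer_instance
  have hζr : ζ ∈ Set.range ι := by rw [hr]; exact hζ
  obtain ⟨ζK, hζK⟩ := hζr
  obtain ⟨U, hζU, hU⟩ := exists_nhd_fibre_max_gen (ι ≫ f) ζK η
  obtain ⟨N, hN, hNU⟩ := ι.isEmbedding.isInducing.isOpen_iff.mp U.2
  have hζN : ζ ∈ N := by
    have : ζK ∈ ι ⁻¹' N := by rw [hNU]; exact hζU
    rw [← hζK]
    exact this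
  obtain ⟨e, heN, heE⟩ := mem_closure_iff.mp hζ N hN hζN
  have her : e ∈ Set.range ι := by rw [hr]; exact subset_closure heE
  obtain ⟨t, ht⟩ := her
  have htU : t ∈ U := by
    have : t ∈ ι ⁻¹' N := by
      change ι t ∈ N
      rw [ht]
      exact heN
    rw [hNU] at this
    exact this
  have hgt : (ι ≫ f) t = η := by
    change f (ι t) = η
    rw [ht]
    exact hE e heE
  obtain ⟨σ, hgσ, -, hσζ, -⟩ := hU t htU hgt
  refine ⟨ι σ, ?_, hgσ, ?_⟩
  · have : ι σ ∈ Set.range ι := ⟨σ, rfl⟩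
    rwa [hr] at this
  · rw [← hζK]
    exact hσζ.map ι.continuous

/-- the dimension of the trace of a closed subset on a fibre is bounded by the residual
transcendence degrees of its points -/
theorem dim_closed_fibre_le (C : Set X) (hC : IsClosed C) (t : Y) (B : WithBot ℕ∞)
    (h : ∀ ζ ∈ C, f ζ = t → ((tr f ζ : ℕ) : WithBot ℕ∞) ≤ B) :
    topologicalKrullDim ↥(f.base ⁻¹' {t} ∩ C) ≤ B := by
  obtain ⟨ι, hι⟩ : ∃ ι : (Scheme.IdealSheafData.vanishingIdeal
      (⟨C, hC⟩ : TopologicalSpace.Closeds X)).subscheme ⟶ X,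
      ι = (Scheme.IdealSheafData.vanishingIdeal
      (⟨C, hC⟩ : TopologicalSpace.Closeds X)).subschemeι :=
    ⟨_, rfl⟩
  have hr : Set.range ι = C := by
    rw [hι, Scheme.IdealSheafData.range_subschemeι, Scheme.IdealSheafData.coe_support_vanishingIdeal]
    rfl
  haveI : IsClosedImmersion ι := by rw [hι]; infer_instance
  rw [Set.inter_comm, dim_inter_fibre_eq f ι ι.isEmbedding C hr t, topologicalKrullDim_fiber_eq,
    Order.krullDim_eq_iSup_height]
  refine iSup_le fun z => ?_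
  rw [height_fib_nn (ι ≫ f) t z.1 z.2, tr_comp_closedImmersion]
  apply h
  · have : ι z.1 ∈ Set.range ι := ⟨z.1, rfl⟩
    rwa [hr] at this
  · exact z.2

theorem tr_le_dim_closed_fibre (C : Set X) (hC : IsClosed C) (t : Y) (ζ : X) (hζ : ζ ∈ C)
    (hfζ : f ζ = t) :
    ((tr f ζ : ℕ) : WithBot ℕ∞) ≤ topologicalKrullDim ↥(f.base ⁻¹' {t} ∩ C) := by
  obtain ⟨ι, hι⟩ : ∃ ι : (Scheme.IdealSheafData.vanishingIdeal
      (⟨C, hC⟩ : TopologicalSpace.Closeds X)).subscheme ⟶ X,
      ι = (Scheme.IdealSheafData.vanishingIdeal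
      (⟨C, hC⟩ : TopologicalSpace.Closeds X)).subschemeι :=
    ⟨_, rfl⟩
  have hr : Set.range ι = C := by
    rw [hι, Scheme.IdealSheafData.range_subschemeι, Scheme.IdealSheafData.coe_support_vanishingIdeal]
    rfl
  haveI : IsClosedImmersion ι := by rw [hι]; infer_instance
  have hζr : ζ ∈ Set.range ι := by rw [hr]; exact hζ
  obtain ⟨z, hz⟩ := hζr
  have hgz : (ι ≫ f) z = t := by
    change f (ι z) = t
    rw [hz, hfζ]
  rw [Set.inter_comm, dim_inter_fibre_eq f ι ι.isEmbedding C hr t, topologicalKrullDim_fiber_eq]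
  have h1 := height_fib_nn (ι ≫ f) t z hgz
  rw [tr_comp_closedImmersion, hz] at h1
  have h2 : ((Order.height (⟨z, hgz⟩ : {z' // (ι ≫ f) z' = t}) : ℕ∞) : WithBot ℕ∞) ≤
      Order.krullDim {z' // (ι ≫ f) z' = t} := Order.height_le_krullDim _
  rw [h1] at h2
  exact h2

end Fact3



section Stubs
variable {X Y Y' : Scheme.{u}} (f : X ⟶ Y) (g : Y' ⟶ Y)

end Stubs

section Stubs2
variable {X Y : Scheme.{u}} (f : X ⟶ Y) [LocallyOfFiniteType f]

end Stubs2

section Main
variable {X S : Scheme.{u}} (f : X ⟶ S) [LocallyOfFiniteType f]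

theorem S4972_point {ι : Type u} (Y : ι → Scheme.{u}) (g : ∀ i, Y i ⟶ S)
    [∀ i, UniversallyOpen (g i)] (v : ∀ i, Y i ⟶ X) (hv : ∀ i, v i ≫ f = g i) (s s' : S)
    (hs : s' ⤳ s) (ζ : X) (hfζ : f ζ = s)
    (hζ : ζ ∈ closure ((⋃ i, Set.range (v i).base) ∩ f.base ⁻¹' {s})) :
    ∃ ζ' : X, f ζ' = s' ∧ ζ' ∈ closure ((⋃ i, Set.range (v i).base) ∩ f.base ⁻¹' {s'}) ∧
      tr f ζ ≤ tr f ζ' := by
  obtain ⟨A, _, _, _, c, hcs, hcη⟩ := exists_valuationRing_of_specializes s s' hs
  obtain ⟨ζA, hζA1, hζA2, hζA3⟩ := exists_tr_snd_ge f c ζ (IsLocalRing.closedPoint A)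
    (hfζ.trans hcs.symm)
  -- Fact 2
  have h2 : ζA ∈ closure {w' : ↥(pullback f c) | pullback.snd f c w' = IsLocalRing.closedPoint A ∧
      pullback.fst f c w' ∈ ⋃ i, Set.range (v i).base} := by
    apply mem_closure_fibre_of_fst_mem_closure f c _ ζA _ hζA2
    rw [hζA1, hcs]
    exact hζ
  -- Fact 1
  have h1 : {w' : ↥(pullback f c) | pullback.snd f c w' = IsLocalRing.closedPoint A ∧
      pullback.fst f c w' ∈ ⋃ i, Set.range (v i).base} ⊆
      closure {w' : ↥(pullback f c) | pullback.snd f c w' = (⊥ : PrimeSpectrum A) ∧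
        pullback.fst f c w' ∈ ⋃ i, Set.range (v i).base} := by
    rintro w' ⟨hw'1, hw'2⟩
    simp only [Set.mem_iUnion] at hw'2
    obtain ⟨i, hi⟩ := hw'2
    have hsp : (⊥ : PrimeSpectrum A) ⤳ pullback.snd f c w' := by
      rw [hw'1, ← PrimeSpectrum.le_iff_specializes]
      exact bot_le
    obtain ⟨w'', hw''sp, hw''1, hw''2⟩ := exists_generization_in_range f c (g i) (v i) (hv i) w' hi
      _ hsp
    have hmem : w'' ∈ {w' : ↥(pullback f c) | pullback.snd f c w' = (⊥ : PrimeSpectrum A) ∧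
        pullback.fst f c w' ∈ ⋃ i, Set.range (v i).base} :=
      ⟨hw''1, Set.mem_iUnion.mpr ⟨i, hw''2⟩⟩
    exact closure_mono (Set.singleton_subset_iff.mpr hmem) (specializes_iff_mem_closure.mp hw''sp)
  have h3 : ζA ∈ closure {w' : ↥(pullback f c) | pullback.snd f c w' = (⊥ : PrimeSpectrum A) ∧
      pullback.fst f c w' ∈ ⋃ i, Set.range (v i).base} :=
    closure_minimal h1 isClosed_closure h2
  -- Fact 3
  obtain ⟨ξ', hξ'cl, hξ'η, hξ'sp⟩ := exists_generization_in_closure_fibre (pullback.snd f c) _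
    (⊥ : PrimeSpectrum A) (fun e he => he.1) ζA h3
  have h4 : tr (pullback.snd f c) ζA ≤ tr (pullback.snd f c) ξ' :=
    tr_le_tr_of_dvd_total (pullback.snd f c) (isAffineOpen_top _) (dvd_total_Γ_Spec A) ξ' ζA hξ'sp
      trivial
  have h5 := tr_snd_le f c ξ'
  have hfξ' : f (pullback.fst f c ξ') = s' := by
    rw [← Scheme.Hom.comp_apply, pullback.condition, Scheme.Hom.comp_apply, hξ'η, hcη]
  refine ⟨pullback.fst f c ξ', hfξ', ?_, by omega⟩
  have h6 : pullback.fst f c ξ' ∈ closure ((pullback.fst f c) ''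
      {w' : ↥(pullback f c) | pullback.snd f c w' = (⊥ : PrimeSpectrum A) ∧
        pullback.fst f c w' ∈ ⋃ i, Set.range (v i).base}) :=
    image_closure_subset_closure_image (pullback.fst f c).continuous ⟨ξ', hξ'cl, rfl⟩
  refine closure_mono ?_ h6
  rintro _ ⟨w', ⟨hw'1, hw'2⟩, rfl⟩
  refine ⟨hw'2, ?_⟩
  change f (pullback.fst f c w') = s'
  rw [← Scheme.Hom.comp_apply, pullback.condition, Scheme.Hom.comp_apply, hw'1, hcη]

theorem S4972_main [QuasiCompact f] {ι : Type u} (Y : ι → Scheme.{u}) (g : ∀ i, Y i ⟶ S)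
    [∀ i, UniversallyOpen (g i)]
    (v : ∀ i, Y i ⟶ X) (hv : ∀ i, v i ≫ f = g i) (s s' : S) (hs : s' ⤳ s) :
    letI d : S → WithBot ℕ∞ := fun t =>
      topologicalKrullDim ↥(f.base ⁻¹' {t} ∩ closure ((⋃ i, Set.range (v i).base) ∩ f.base ⁻¹' {t}))
    d s ≤ d s' := by
  show topologicalKrullDim ↥(f.base ⁻¹' {s} ∩ closure ((⋃ i, Set.range (v i).base) ∩ f.base ⁻¹' {s})) ≤
    topologicalKrullDim ↥(f.base ⁻¹' {s'} ∩ closure ((⋃ i, Set.range (v i).base) ∩ f.base ⁻¹' {s'}))
  apply dim_closed_fibre_le f _ isClosed_closure s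
  intro ζ hζ hfζ
  obtain ⟨ζ', hfζ', hζ', htr⟩ := S4972_point f Y g v hv s s' hs ζ hfζ hζ
  refine le_trans ?_ (tr_le_dim_closed_fibre f _ isClosed_closure s' ζ' hζ' hfζ')
  exact_mod_cast htr

end Main


end Groth.Agent.Lib.Helper4.FibClosure1
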