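import Mathlib

/-!
# Irreducible components of a Noetherian scheme with domain stalks (helper4)
-/

set_option backward.isDefEq.respectTransparency.types false
set_option synthInstance.maxHeartbeats 400000
set_option autoImplicit false
set_option linter.unusedSectionVars false
set_option linter.style.haveILetI false
set_option linter.unusedSimpArgs false
universe u v w
open AlgebraicGeometry TopologicalSpace

namespace Groth.Agent.Lib.Helper4.IrrCompDomain1

open AlgebraicGeometry TopologicalSpace

/-- the "most generic" generization of a point whose local ring is a domain -/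
theorem exists_generic_generization (X : Scheme.{u}) (x : X) [IsDomain (X.presheaf.stalk x)] :
    ∃ η : X, ∀ y : X, y ⤳ x → η ⤳ y := by
  let ξ : Spec (X.presheaf.stalk x) := ⟨⊥, Ideal.isPrime_bot⟩
  refine ⟨X.fromSpecStalk x ξ, fun y hy => ?_⟩
  have : y ∈ Set.range (X.fromSpecStalk x) := by
    rw [Scheme.range_fromSpecStalk]; exact hy
  obtain ⟨q, rfl⟩ := this
  have hξq : ξ ⤳ q :=
    (PrimeSpectrum.le_iff_specializes (R := X.presheaf.stalk x) ξ q).mp
      (bot_le : (⊥ : Ideal _) ≤ q.asIdeal)
  exact hξq.map (X.fromSpecStalk x).continuous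

theorem eq_closure_of_mem (X : Scheme.{u}) (x : X) (η : X) (hη : ∀ y : X, y ⤳ x → η ⤳ y)
    (Z : Set X) (hZ : Z ∈ irreducibleComponents (X : Type u)) (hx : x ∈ Z) :
    Z = closure {η} := by
  have hZc : IsClosed Z := isClosed_of_mem_irreducibleComponents Z hZ
  obtain ⟨ζ, hζ⟩ := QuasiSober.sober hZ.1 hZc
  have h1 : ζ ⤳ x := by
    rw [specializes_iff_mem_closure, hζ.def]
    exact hx
  have h2 : η ⤳ ζ := hη ζ h1
  have h3 : Z ⊆ closure {η} := by
    rw [← hζ.def]
    exact closure_minimal (Set.singleton_subset_iff.mpr (specializes_iff_mem_closure.mp h2))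
      isClosed_closure
  exact le_antisymm h3 (hZ.2 isIrreducible_singleton.closure h3)

theorem main (X : Scheme.{u}) [AlgebraicGeometry.IsNoetherian X]
    (hX : ∀ x : X, IsDomain (X.presheaf.stalk x)) :
    (∀ Z ∈ irreducibleComponents (X : Type u), IsOpen Z) ∧
      ∀ x : X, ∃! Z, Z ∈ irreducibleComponents (X : Type u) ∧ x ∈ Z := by
  have huniq : ∀ x : X, ∀ Z Z', Z ∈ irreducibleComponents (X : Type u) → x ∈ Z →
      Z' ∈ irreducibleComponents (X : Type u) → x ∈ Z' → Z = Z' := by
    intro x Z Z' hZ hxZ hZ' hxZ'
    haveI := hX x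
    obtain ⟨η, hη⟩ := exists_generic_generization X x
    rw [eq_closure_of_mem X x η hη Z hZ hxZ, eq_closure_of_mem X x η hη Z' hZ' hxZ']
  refine ⟨fun Z hZ => ?_, fun x => ?_⟩
  · have hfin : (irreducibleComponents (X : Type u)).Finite :=
      NoetherianSpace.finite_irreducibleComponents
    let W : Set X := ⋃₀ ((irreducibleComponents (X : Type u)) \ {Z})
    have hWc : IsClosed W := by
      change IsClosed (⋃₀ ((irreducibleComponents (X : Type u)) \ {Z}))
      rw [Set.sUnion_eq_biUnion]
      apply Set.Finite.isClosed_biUnion (hfin.subset Set.sdiff_subset)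
      intro Z' hZ'
      exact isClosed_of_mem_irreducibleComponents Z' hZ'.1
    have hZW : Z = Wᶜ := by
      ext x
      constructor
      · rintro hx ⟨Z', ⟨hZ', hne⟩, hxZ'⟩
        exact hne (huniq x Z' Z hZ' hxZ' hZ hx)
      · intro hx
        by_contra hxZ
        apply hx
        refine ⟨irreducibleComponent x, ⟨irreducibleComponent_mem_irreducibleComponents x, ?_⟩,
          mem_irreducibleComponent⟩
        intro h
        rw [Set.mem_singleton_iff] at h
        exact hxZ (h ▸ mem_irreducibleComponent)
    rw [hZW]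
    exact hWc.isOpen_compl
  · refine ⟨irreducibleComponent x, ⟨irreducibleComponent_mem_irreducibleComponents x,
      mem_irreducibleComponent⟩, ?_⟩
    rintro Z' ⟨hZ', hxZ'⟩
    exact huniq x Z' _ hZ' hxZ' (irreducibleComponent_mem_irreducibleComponents x)
      mem_irreducibleComponent

end Groth.Agent.Lib.Helper4.IrrCompDomain1
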