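import Mathlib

/-!
# Irreducible components of subsets of locally Noetherian schemes are locally finite (helper4)
-/

set_option backward.isDefEq.respectTransparency.types false
set_option synthInstance.maxHeartbeats 400000
set_option autoImplicit false
set_option linter.unusedSectionVars false
set_option linter.style.haveILetI false
set_option linter.unusedSimpArgs false
universe u v w

namespace Groth.Agent.Lib.Helper4.LocFinComp1
open AlgebraicGeometry TopologicalSpace

/-- topological core: if every point has a Noetherian open neighbourhood, the irreducible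
components of a closed subset form a locally finite family. -/
theorem locallyFinite_irreducibleComponents {X : Type*} [TopologicalSpace X]
    (hX : ∀ x : X, ∃ W : Set X, IsOpen W ∧ x ∈ W ∧ NoetherianSpace ↥W) (Z : Set X) :
    LocallyFinite (fun T : ↥(irreducibleComponents ↥Z) => ((↑) '' (T.1 : Set ↥Z) : Set X)) := by
  intro x
  obtain ⟨W, hWo, hxW, hWn⟩ := hX x
  refine ⟨W, hWo.mem_nhds hxW, ?_⟩
  -- the open subset `V = Z ∩ W` of `Z`
  let V : Set ↥Z := {z | z.1 ∈ W}
  have hVo : IsOpen V := hWo.preimage continuous_subtype_val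
  let ι : ↥V → ↥Z := Subtype.val
  have hι : Topology.IsOpenEmbedding ι := hVo.isOpenEmbedding_subtypeVal
  -- `V` is a Noetherian space
  let j : ↥V → ↥W := fun v => ⟨v.1.1, v.2⟩
  have hj : Topology.IsInducing j := by
    have h1 : Topology.IsInducing (fun v : ↥V => (v.1.1 : X)) :=
      Topology.IsInducing.subtypeVal.comp Topology.IsInducing.subtypeVal
    have h2 : (fun v : ↥V => (v.1.1 : X)) = Subtype.val ∘ j := rfl
    rw [h2] at h1
    have hjc : Continuous j :=
      (continuous_subtype_val.comp continuous_subtype_val).subtype_mk (fun v : ↥V => v.2)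
    exact Topology.IsInducing.of_comp hjc continuous_subtype_val h1
  haveI : NoetherianSpace ↥V := hj.noetherianSpace
  haveI : Finite ↥(irreducibleComponents ↥V) :=
    (NoetherianSpace.finite_irreducibleComponents (α := ↥V)).to_subtype
  -- the map `T ↦ ι ⁻¹' T`
  have key : ∀ T : ↥(irreducibleComponents ↥Z), (((↑) '' (T.1 : Set ↥Z) : Set X) ∩ W).Nonempty →
      ((T.1 : Set ↥Z) ∩ Set.range ι).Nonempty := by
    rintro T ⟨_, ⟨z, hzT, rfl⟩, hzW⟩
    exact ⟨z, hzT, ⟨⟨z, hzW⟩, rfl⟩⟩
  let g : ↥{T : ↥(irreducibleComponents ↥Z) |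
      (((↑) '' (T.1 : Set ↥Z) : Set X) ∩ W).Nonempty} → ↥(irreducibleComponents ↥V) :=
    fun T => ⟨ι ⁻¹' T.1.1, preimage_mem_irreducibleComponents T.1.2 hι (key T.1 T.2)⟩
  have hg : Function.Injective g := by
    intro T T' hTT'
    have h0 : ι ⁻¹' T.1.1 = ι ⁻¹' T'.1.1 := congrArg Subtype.val hTT'
    have e1 := closure_image_preimage_of_isPreirreducible ι hι.isOpenMap T.1.1
      (by obtain ⟨z, hz, v, rfl⟩ := key T.1 T.2; exact ⟨v, hz⟩) T.1.2.1.2
      (isClosed_of_mem_irreducibleComponents _ T.1.2)
    have e2 := closure_image_preimage_of_isPreirreducible ι hι.isOpenMap T'.1.1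
      (by obtain ⟨z, hz, v, rfl⟩ := key T'.1 T'.2; exact ⟨v, hz⟩) T'.1.2.1.2
      (isClosed_of_mem_irreducibleComponents _ T'.1.2)
    apply Subtype.ext
    apply Subtype.ext
    rw [← e1, ← e2, h0]
  exact Set.finite_coe_iff.mp (Finite.of_injective g hg)

/-- S1693 -/
theorem main (X : Scheme.{u}) [IsLocallyNoetherian X] (Z : Set ↥X) :
    LocallyFinite (fun T : ↥(irreducibleComponents ↥Z) => ((↑) '' (T.1 : Set ↥Z) : Set ↥X)) := by
  refine locallyFinite_irreducibleComponents (fun x => ?_) Z
  obtain ⟨W, hW, hxW, -⟩ := exists_isAffineOpen_mem_and_subset (x := x) (U := ⊤) trivial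
  haveI : IsNoetherianRing Γ(X, W) := IsLocallyNoetherian.component_noetherian ⟨W, hW⟩
  exact ⟨W, W.isOpen, hxW, noetherianSpace_of_isAffineOpen W hW⟩

end Groth.Agent.Lib.Helper4.LocFinComp1
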