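import Mathlib
import Groth.Prelude.Def_Cyc
import Groth.Agent.Lib.Helper4.JacDim1
import Groth.Prelude.Def_EGA43
import Groth.Agent.Lib.Helper4.FibreStalkDim1
import Groth.Agent.Lib.Helper4.DimFT1
import Groth.Agent.Lib.Helper4.DimFT2
import Groth.Agent.Lib.Helper4.Chev8
import Groth.Agent.Lib.Helper4.FibDim7
import Groth.Agent.Lib.Helper4.EffCartierDim1
import Groth.Agent.Lib.Helper4.JacDim4
import Groth.Agent.Lib.Helper4.Chev9
import Groth.Agent.Lib.Helper4.Chev10
import Groth.Agent.Lib.Helper4.Chev11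
import Groth.Agent.Lib.Helper4.Equi1
import Groth.Agent.Lib.Helper4.Equi2
import Groth.Agent.Lib.Helper4.Equi3
import Groth.Agent.Lib.Helper4.Equi4
import Groth.Agent.Lib.Helper4.Equi5
import Groth.Agent.Lib.Helper4.Equi6
import Groth.Agent.Lib.Helper4.Equi7
import Groth.Agent.Lib.Helper4.Aff1
import Groth.Agent.Lib.Helper4.Aff2
import Groth.Agent.Lib.Helper4.Equi10
import Groth.Agent.Lib.Helper4.Val1
import Groth.Agent.Lib.Helper4.BaseChg1
import Groth.Agent.Lib.Helper4.UnivOpen1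

/-!
# Open morphisms over locally Noetherian bases: fibre dimension locally constant (S4921 S4922 S4924) (helper4)
-/

set_option backward.isDefEq.respectTransparency.types false
set_option synthInstance.maxHeartbeats 400000
set_option autoImplicit false
set_option linter.unusedSectionVars false
set_option linter.style.haveILetI false
set_option linter.unusedSimpArgs false
universe u v w
open CategoryTheory CategoryTheory.Limits AlgebraicGeometry TopologicalSpace IsLocalRing Opposite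
open Cardinal AffineSpace MvPolynomial
open Groth.Agent.Lib.Helper4.DimIneq1 Groth.Agent.Lib.Helper4.DimFT2 Groth.Agent.Lib.Helper4.Catenary1
open Groth.Agent.Lib.Helper4.DimEq1 Groth.Agent.Lib.Helper4.DimIneq2 Groth.Agent.Lib.Helper4.DimEq2
open Groth.Agent.Lib.Helper4.DimIneq3 Groth.Agent.Lib.Helper4.DimIneq4
open Groth.Agent.Lib.Helper4.NormFibre2 Groth.Agent.Lib.Helper4.RadBir3 Groth.Agent.Lib.Helper4.DimFT3
open Groth.Agent.Lib.Helper4.FibDim1 Groth.Agent.Lib.Helper4.FibDim2 Groth.Agent.Lib.Helper4.LocUC1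
open Groth.Agent.Lib.Helper4.FibDim3 Groth.Agent.Lib.Helper4.FibDim4 Groth.Agent.Lib.Helper4.FibDim5
open Groth.Agent.Lib.Helper4.FibDim6 Groth.Agent.Lib.Helper4.FibDim7 Groth.Agent.Lib.Helper4.JacDim1
open Groth.Agent.Lib.Helper4.DimFT1
open Groth.Agent.Lib.Helper4.Chev2 Groth.Agent.Lib.Helper4.Chev5 Groth.Agent.Lib.Helper4.Chev6 Groth.Agent.Lib.Helper4.Chev8
open Groth.Agent.Lib.Helper4.JacDim4 Groth.Agent.Lib.Helper4.EffCartierDim1
open Groth.Agent.Lib.Helper4.Chev9 Groth.Agent.Lib.Helper4.Chev4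
open Groth.Agent.Lib.Helper4.Chev10 Groth.Agent.Lib.Helper4.Chev11 Groth.Agent.Lib.Helper4.Chev3 Groth.Agent.Lib.Helper4.Equi1 Groth.Agent.Lib.Helper4.Equi2 Groth.Agent.Lib.Helper4.OpenAt1 Groth.Agent.Lib.Helper4.Equi3 Groth.Agent.Lib.Helper4.Equi4 Groth.Agent.Lib.Helper4.Equi5 Groth.Agent.Lib.Helper4.Equi6 Groth.Agent.Lib.Helper4.Equi7 Groth.Agent.Lib.Helper4.Aff1 Groth.Agent.Lib.Helper4.Aff2 Groth.Agent.Lib.Helper4.Equi10 Groth.Agent.Lib.Helper4.Val1 Groth.Agent.Lib.Helper4.BaseChg1 Groth.Agent.Lib.Helper4.UnivOpen1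

namespace Groth.Agent.Lib.Helper4.OpenNoeth1
open Topology

/-- A constructible subset of a prime spectrum containing all generizations of a point is a
neighbourhood of that point. -/
theorem PrimeSpectrum.mem_nhds_of_isConstructible {R : Type u} [CommRing R]
    (S : Set (PrimeSpectrum R)) (hS : IsConstructible S) (p : PrimeSpectrum R)
    (h : ∀ q : PrimeSpectrum R, q ⤳ p → q ∈ S) : S ∈ nhds p := by
  obtain ⟨B, _, φ, hφ⟩ := PrimeSpectrum.exists_range_eq_of_isConstructible hS.compl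
  -- the image of the complement of `p` in `B` contains zero
  have h0 : (0 : B) ∈ Submonoid.map φ p.asIdeal.primeCompl := by
    by_contra hcon
    have hdisj : Disjoint ((⊥ : Ideal B) : Set B) (Submonoid.map φ p.asIdeal.primeCompl) := by
      rw [Set.disjoint_left]
      intro b hb hb2
      have : b = 0 := hb
      rw [this] at hb2
      exact hcon hb2
    obtain ⟨q, hq, -, hqd⟩ := Ideal.exists_le_prime_disjoint (⊥ : Ideal B) _ hdisj
    have hmem : PrimeSpectrum.comap φ ⟨q, hq⟩ ∈ Sᶜ := by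
      rw [← hφ]; exact ⟨_, rfl⟩
    apply hmem
    apply h
    rw [← PrimeSpectrum.le_iff_specializes]
    intro r hr
    by_contra hrp
    have h1 : φ r ∈ (q : Set B) := hr
    have h2 : φ r ∈ ((Submonoid.map φ p.asIdeal.primeCompl : Submonoid B) : Set B) :=
      ⟨r, hrp, rfl⟩
    exact Set.disjoint_left.mp hqd h1 h2
  obtain ⟨r, hr, hr0⟩ := h0
  have hopen : IsOpen ((PrimeSpectrum.basicOpen r : TopologicalSpace.Opens (PrimeSpectrum R)) :
      Set (PrimeSpectrum R)) := (PrimeSpectrum.basicOpen r).2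
  refine Filter.mem_of_superset (hopen.mem_nhds hr) ?_
  intro q hq
  by_contra hqS
  have hqS' : q ∈ Sᶜ := hqS
  rw [← hφ] at hqS'
  obtain ⟨q', rfl⟩ := hqS'
  apply hq
  change φ r ∈ q'.asIdeal
  rw [hr0]
  exact zero_mem _

/-- locally closed subsets of locally Noetherian schemes are locally constructible -/
theorem isLocallyConstructible_of_isOpen_inter_isClosed {X : Scheme.{u}} [IsLocallyNoetherian X]
    (U W : Set X) (hU : IsOpen U) (hW : IsClosed W) : IsLocallyConstructible (U ∩ W) := by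
  intro x
  obtain ⟨_, ⟨O, hO : IsAffineOpen O, rfl⟩, hxO, -⟩ :=
    X.isBasis_affineOpens.exists_subset_of_mem_open (Set.mem_univ x) isOpen_univ
  refine ⟨O, O.2.mem_nhds hxO, O.2, ?_⟩
  haveI : IsNoetherianRing Γ(X, O) := IsLocallyNoetherian.component_noetherian ⟨O, hO⟩
  haveI : NoetherianSpace ↥O := noetherianSpace_of_isAffineOpen O hO
  have hopen : ∀ A : Set ↥O, IsOpen A → IsConstructible A := by
    intro A hA
    have h1 : IsRetrocompact A := fun _ _ _ => NoetherianSpace.isCompact _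
    exact h1.isConstructible hA
  have h1 : IsConstructible ((Subtype.val : ↥O → X) ⁻¹' U) :=
    hopen _ (hU.preimage continuous_subtype_val)
  have h2 : IsConstructible ((Subtype.val : ↥O → X) ⁻¹' W) := by
    have := hopen ((Subtype.val : ↥O → X) ⁻¹' W)ᶜ
      (hW.preimage continuous_subtype_val).isOpen_compl
    exact this.of_compl
  exact h1.inter h2

/-- a locally constructible subset of a locally Noetherian scheme containing all generizations of a
point is a neighbourhood of that point -/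
theorem mem_nhds_of_isLocallyConstructible {Y : Scheme.{u}} (S : Set Y)
    (hS : IsLocallyConstructible S) (y : Y) (h : ∀ y' : Y, y' ⤳ y → y' ∈ S) : S ∈ nhds y := by
  obtain ⟨_, ⟨V, hV : IsAffineOpen V, rfl⟩, hyV, -⟩ :=
    Y.isBasis_affineOpens.exists_subset_of_mem_open (Set.mem_univ y) isOpen_univ
  obtain ⟨φ, hφ⟩ : ∃ φ : Spec Γ(Y, V) ⟶ Y, φ = hV.fromSpec := ⟨_, rfl⟩
  haveI : IsOpenImmersion φ := by rw [hφ]; infer_instance
  have hrange : Set.range φ = (V : Set Y) := by rw [hφ]; exact hV.range_fromSpec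
  have h1 : IsConstructible (φ ⁻¹' S) :=
    (hS.preimage_of_isOpenEmbedding φ.isOpenEmbedding).isConstructible
  obtain ⟨p, hp⟩ : y ∈ Set.range φ := by rw [hrange]; exact hyV
  have h2 : φ ⁻¹' S ∈ nhds p := by
    apply PrimeSpectrum.mem_nhds_of_isConstructible _ h1
    intro q hq
    apply h
    rw [← hp]
    exact hq.map φ.continuous
  have h3 : φ '' (φ ⁻¹' S) ∈ nhds (φ p) := φ.isOpenEmbedding.isOpenMap.image_mem_nhds h2
  rw [hp] at h3
  exact Filter.mem_of_superset h3 (Set.image_preimage_subset _ _)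

theorem isLocallyConstructible_compl {T : Type*} [TopologicalSpace T] {S : Set T}
    (hS : IsLocallyConstructible S) : IsLocallyConstructible Sᶜ := by
  intro x
  obtain ⟨U, hU1, hU2, hU3⟩ := hS x
  exact ⟨U, hU1, hU2, hU3.compl⟩



section LemmaG
variable {X Y : Scheme.{u}} (f : X ⟶ Y) [LocallyOfFiniteType f]

/-- base change along a closed immersion does not change `tr` -/
theorem tr_snd_closedImmersion {Y'' : Scheme.{u}} (ι : Y'' ⟶ Y) [IsClosedImmersion ι]
    (t : ↥(pullback f ι)) : tr (pullback.snd f ι) t = tr f (pullback.fst f ι t) := by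
  apply le_antisymm (tr_snd_le f ι t)
  have hcond : f (pullback.fst f ι t) = ι (pullback.snd f ι t) := by
    rw [← Scheme.Hom.comp_apply, pullback.condition, Scheme.Hom.comp_apply]
  obtain ⟨w₂, h1, h2, h3⟩ := exists_tr_snd_ge f ι (pullback.fst f ι t) (pullback.snd f ι t) hcond
  have : w₂ = t := (pullback.fst f ι).isClosedEmbedding.injective h1
  rwa [this] at h3

theorem exists_generization_tr_eq_of_isOpenAt [IsLocallyNoetherian Y] (z : X)
    (hmax : ∀ z' : X, f z' = f z → z' ⤳ z → z' = z) (hop : EGA43.IsOpenAt f.base z)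
    (y' : Y) (hy' : y' ⤳ f z) :
    ∃ ξ : X, f ξ = y' ∧ ξ ⤳ z ∧ (∀ ξ' : X, f ξ' = f ξ → ξ' ⤳ ξ → ξ' = ξ) ∧ tr f ξ = tr f z := by
  obtain ⟨ι, hι⟩ : ∃ ι : (Scheme.IdealSheafData.vanishingIdeal
      (⟨closure {y'}, isClosed_closure⟩ : TopologicalSpace.Closeds Y)).subscheme ⟶ Y,
      ι = (Scheme.IdealSheafData.vanishingIdeal
      (⟨closure {y'}, isClosed_closure⟩ : TopologicalSpace.Closeds Y)).subschemeι := ⟨_, rfl⟩
  have hr : Set.range ι = closure ({y'} : Set Y) := by
    rw [hι, Scheme.IdealSheafData.range_subschemeι]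
    simp
  haveI : IsClosedImmersion ι := by rw [hι]; infer_instance
  clear hι
  generalize (Scheme.IdealSheafData.vanishingIdeal
      (⟨closure {y'}, isClosed_closure⟩ : TopologicalSpace.Closeds Y)).subscheme = Y'' at ι hr
  haveI : IsLocallyNoetherian Y'' := LocallyOfFiniteType.isLocallyNoetherian ι
  haveI : IrreducibleSpace Y'' := by
    have h1 : IsPreirreducible (Set.univ : Set Y'') := by
      apply isPreirreducible_of_image ι ι.isEmbedding.isInducing
      rw [Set.image_univ, hr]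
      exact isIrreducible_singleton.closure.isPreirreducible
    haveI : PreirreducibleSpace Y'' := ⟨h1⟩
    have hne : Nonempty Y'' := by
      have : y' ∈ Set.range ι := by rw [hr]; exact subset_closure rfl
      obtain ⟨a, -⟩ := this
      exact ⟨a⟩
    exact ⟨hne⟩
  obtain ⟨y'', hy''⟩ : f z ∈ Set.range ι := by
    rw [hr]; exact hy'.mem_closure
  obtain ⟨w, hw1, hw2⟩ := Scheme.Pullback.exists_preimage_pullback (f := f) (g := ι) z y'' hy''.symm
  have hpinj : Function.Injective (pullback.fst f ι) :=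
    (pullback.fst f ι).isClosedEmbedding.injective
  have hcond : ∀ t : ↥(pullback f ι), f (pullback.fst f ι t) = ι (pullback.snd f ι t) := by
    intro t
    rw [← Scheme.Hom.comp_apply, pullback.condition, Scheme.Hom.comp_apply]
  have hmax'' : ∀ w' : ↥(pullback f ι), pullback.snd f ι w' = pullback.snd f ι w → w' ⤳ w →
      w' = w := by
    intro w' h1 h2
    apply hpinj
    rw [hw1]
    apply hmax
    · rw [hcond, h1, ← hcond, hw1]
    · have := h2.map (pullback.fst f ι).continuous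
      rwa [hw1] at this
  have hop'' : EGA43.IsOpenAt (pullback.snd f ι).base w := by
    intro U'' hU''
    obtain ⟨O, hOU, hO, hwO⟩ := mem_nhds_iff.mp hU''
    obtain ⟨U, hU, rfl⟩ := (pullback.fst f ι).isEmbedding.isInducing.isOpen_iff.mp hO
    have hzU : z ∈ U := by
      have : pullback.fst f ι w ∈ U := hwO
      rwa [hw1] at this
    have h1 : f.base '' U ∈ nhds (f z) := hop U (hU.mem_nhds hzU)
    have h2 : ι ⁻¹' (f.base '' U) ∈ nhds y'' := by
      apply ι.continuous.continuousAt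
      rw [hy'']
      exact h1
    have h3 : (pullback.snd f ι).base w = y'' := hw2
    rw [h3]
    refine Filter.mem_of_superset h2 ?_
    rintro t ⟨x, hxU, hxt⟩
    obtain ⟨w₁, hw₁1, hw₁2⟩ := Scheme.Pullback.exists_preimage_pullback (f := f) (g := ι) x t hxt
    refine ⟨w₁, hOU ?_, hw₁2⟩
    change pullback.fst f ι w₁ ∈ U
    rw [hw₁1]
    exact hxU
  obtain ⟨ξ'', hξ1, hξ2, hξ3, hξ4⟩ :=
    exists_generic_above_of_isOpenAt (pullback.snd f ι) w hmax'' hop''
  have hfξ : f (pullback.fst f ι ξ'') = y' := by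
    rw [hcond, hξ1]
    exact map_genericPoint_of_range ι y' hr
  refine ⟨pullback.fst f ι ξ'', hfξ, ?_, ?_, ?_⟩
  · have := hξ2.map (pullback.fst f ι).continuous
    rwa [hw1] at this
  · intro ξ' h1 h2
    have hmem : ξ' ∈ Set.range (pullback.fst f ι) := by
      rw [Scheme.Pullback.range_fst]
      change f ξ' ∈ Set.range ι
      rw [h1, hfξ, hr]
      exact subset_closure rfl
    obtain ⟨t, rfl⟩ := hmem
    have h3 : t ⤳ ξ'' :=
      (pullback.fst f ι).isEmbedding.isInducing.specializes_iff.mp h2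
    rw [hξ3 t h3]
  · rw [← tr_snd_closedImmersion f ι ξ'', hξ4, tr_snd_closedImmersion f ι w, hw1]

end LemmaG


open Topology

section Stubs
variable {X Y : Scheme.{u}} (f : X ⟶ Y) [LocallyOfFiniteType f]

end Stubs

theorem tdim_eq_bot_of_isEmpty (T : Type*) [TopologicalSpace T] [IsEmpty T] :
    topologicalKrullDim T = ⊥ := by
  unfold topologicalKrullDim
  haveI : IsEmpty (IrreducibleCloseds T) := by
    constructor
    intro Z
    obtain ⟨a, -⟩ := Z.2.nonempty
    exact isEmptyElim a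
  exact Order.krullDim_eq_bot

section Main
variable {X Y : Scheme.{u}} (f : X ⟶ Y) [LocallyOfFiniteType f]

/-- on a nonempty quasi-compact fibre the residual transcendence degree attains a maximum, at a
maximal point of the fibre -/
theorem exists_max_tr_on_fibre [QuasiCompact f] (y : Y) (hne : (f.base ⁻¹' {y}).Nonempty) :
    ∃ (e : ℕ) (z₀ : X), (∀ ξ : X, f ξ = y → tr f ξ ≤ e) ∧ f z₀ = y ∧ tr f z₀ = e ∧
      (∀ z' : X, f z' = f z₀ → z' ⤳ z₀ → z' = z₀) := by
  choose d hd O hxO hO using fun x => exists_open_fibreDimAt_le f x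
  have hcomp : IsCompact (f.base ⁻¹' {y}) := by
    rw [← Scheme.Hom.range_fiberι]
    exact isCompact_range (f.fiberι y).continuous
  obtain ⟨t, -, ht⟩ := hcomp.elim_nhds_subcover (fun x => (O x : Set X))
    (fun x _ => (O x).2.mem_nhds (hxO x))
  have hbound : ∀ ξ : X, f ξ = y → tr f ξ ≤ t.sup d := by
    intro ξ hξ
    have hmem : ξ ∈ ⋃ x ∈ t, (O x : Set X) := ht hξ
    simp only [Set.mem_iUnion] at hmem
    obtain ⟨x, hxt, hξO⟩ := hmem
    have h1 := hO x ξ hξO
    have h2 := tr_le_fibreDimAt_nn f ξ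
    have h3 : ((tr f ξ : ℕ) : WithBot ℕ∞) ≤ ((d x : ℕ) : WithBot ℕ∞) := h2.trans h1
    have h4 : tr f ξ ≤ d x := by exact_mod_cast h3
    exact h4.trans (Finset.le_sup hxt)
  -- the set of values
  let S : Set ℕ := {n | ∃ ξ : X, f ξ = y ∧ tr f ξ = n}
  have hSne : S.Nonempty := by
    obtain ⟨x, hx⟩ := hne
    exact ⟨tr f x, x, hx, rfl⟩
  have hSbdd : BddAbove S := ⟨t.sup d, by rintro n ⟨ξ, hξ, rfl⟩; exact hbound ξ hξ⟩
  obtain ⟨z₁, hz₁, hz₁e⟩ := Nat.sSup_mem hSne hSbdd
  have hle : ∀ ξ : X, f ξ = y → tr f ξ ≤ sSup S := fun ξ hξ => le_csSup hSbdd ⟨ξ, hξ, rfl⟩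
  obtain ⟨z₀, h1, h2, h3, h4⟩ := exists_max_tr_eq_fibreDimAt f z₁
  refine ⟨sSup S, z₀, hle, h1.trans hz₁, ?_, h3⟩
  apply le_antisymm (hle z₀ (h1.trans hz₁))
  have h5 := tr_le_fibreDimAt_nn f z₁
  rw [← h4] at h5
  rw [← hz₁e]
  exact_mod_cast h5

/-- key: images of the locus of large fibre dimension are neighbourhoods, for open maps -/
theorem image_mem_nhds_of_isOpenAt [IsLocallyNoetherian Y] [QuasiCompact f] (U : X.Opens)
    (z₀ : X) (hz₀U : z₀ ∈ U) (hmax : ∀ z' : X, f z' = f z₀ → z' ⤳ z₀ → z' = z₀)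
    (hop : EGA43.IsOpenAt f.base z₀) :
    f.base '' ((U : Set X) ∩ {x | ((tr f z₀ : ℕ) : WithBot ℕ∞) ≤ FlatMor.fibreDimAt f x}) ∈
      nhds (f z₀) := by
  haveI : IsLocallyNoetherian X := LocallyOfFiniteType.isLocallyNoetherian f
  apply mem_nhds_of_isLocallyConstructible
  · apply f.isLocallyConstructible_image
    exact isLocallyConstructible_of_isOpen_inter_isClosed _ _ U.2
      (isClosed_setOf_le_fibreDimAt f _)
  · intro y' hy'
    obtain ⟨ξ, h1, h2, h3, h4⟩ := exists_generization_tr_eq_of_isOpenAt f z₀ hmax hop y' hy'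
    refine ⟨ξ, ⟨h2.mem_open U.2 hz₀U, ?_⟩, h1⟩
    change ((tr f z₀ : ℕ) : WithBot ℕ∞) ≤ FlatMor.fibreDimAt f ξ
    rw [← h4]
    exact tr_le_fibreDimAt_nn f ξ

theorem S4924_main [IsLocallyNoetherian Y] [QuasiCompact f] (hf : IsOpenMap f.base) (y : Y) :
    ∃ U : X.Opens, f.base ⁻¹' {y} ⊆ (U : Set X) ∧ ∃ V ∈ nhds y, ∀ z ∈ V,
      topologicalKrullDim ↥((U : Set X) ∩ f.base ⁻¹' {z}) =
        topologicalKrullDim ↥((U : Set X) ∩ f.base ⁻¹' {y}) := by
  by_cases hne : (f.base ⁻¹' {y}).Nonempty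
  · obtain ⟨e, z₀, hle, hz₀, he, hmax⟩ := exists_max_tr_on_fibre f y hne
    obtain ⟨U, hU⟩ : ∃ U : X.Opens, (U : Set X) = {x | FlatMor.fibreDimAt f x ≤ (e : WithBot ℕ∞)} :=
      ⟨⟨_, S0402_main f e⟩, rfl⟩
    have hmemU : ∀ x : X, x ∈ U ↔ FlatMor.fibreDimAt f x ≤ (e : WithBot ℕ∞) := by
      intro x
      change x ∈ (U : Set X) ↔ _
      rw [hU]; rfl
    have hfibU : f.base ⁻¹' {y} ⊆ (U : Set X) := by
      intro x hx
      change x ∈ U
      rw [hmemU]
      apply fibreDimAt_le_of_max_tr_le_nn f x e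
      intro z hz _ _
      exact hle z (hz.trans hx)
    have hupper : ∀ z : Y, topologicalKrullDim ↥((U : Set X) ∩ f.base ⁻¹' {z}) ≤
        (e : WithBot ℕ∞) := by
      intro z
      apply dim_open_fibre_le f U z e
      intro ξ hξU _
      have h1 := (hmemU ξ).mp hξU
      have h2 := (tr_le_fibreDimAt_nn f ξ).trans h1
      exact_mod_cast h2
    have hz₀U : z₀ ∈ U := hfibU hz₀
    have hnh := image_mem_nhds_of_isOpenAt f U z₀ hz₀U hmax
      (fun W hW => by
        obtain ⟨O, hOW, hO, hzO⟩ := mem_nhds_iff.mp hW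
        exact Filter.mem_of_superset ((hf O hO).mem_nhds ⟨z₀, hzO, rfl⟩) (Set.image_mono hOW))
    rw [hz₀] at hnh
    refine ⟨U, hfibU, _, hnh, ?_⟩
    have hlower : ∀ z ∈ f.base '' ((U : Set X) ∩
        {x | ((tr f z₀ : ℕ) : WithBot ℕ∞) ≤ FlatMor.fibreDimAt f x}),
        (e : WithBot ℕ∞) ≤ topologicalKrullDim ↥((U : Set X) ∩ f.base ⁻¹' {z}) := by
      rintro z ⟨x, ⟨hxU, hxW⟩, hxz⟩
      obtain ⟨z', h1, h2, h3, h4⟩ := exists_max_tr_eq_fibreDimAt f x
      have hz'U : z' ∈ U := h2.mem_open U.2 hxU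
      have h5 := tr_le_dim_open_fibre f U z' hz'U z (h1.trans hxz)
      refine le_trans ?_ h5
      rw [h4, ← he]
      exact hxW
    intro z hz
    rw [le_antisymm (hupper z) (hlower z hz)]
    symm
    apply le_antisymm (hupper y)
    have := tr_le_dim_open_fibre f U z₀ hz₀U y hz₀
    rwa [he] at this
  · refine ⟨⊥, ?_, Set.univ, Filter.univ_mem, ?_⟩
    · intro x hx
      exact (hne ⟨x, hx⟩).elim
    · intro z _
      have h1 : ∀ t : Y, IsEmpty ↥(((⊥ : X.Opens) : Set X) ∩ f.base ⁻¹' {t}) := by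
        intro t
        constructor
        rintro ⟨a, ha, -⟩
        exact ha
      haveI := h1 z
      haveI := h1 y
      rw [tdim_eq_bot_of_isEmpty, tdim_eq_bot_of_isEmpty]

end Main


open Topology

section Stubs
variable {X Y : Scheme.{u}} (f : X ⟶ Y) [LocallyOfFiniteType f]

end Stubs

theorem le_of_not_succ_le (d : WithBot ℕ∞) (e : ℕ) (h : ¬ (((e + 1 : ℕ) : WithBot ℕ∞) ≤ d)) :
    d ≤ (e : WithBot ℕ∞) := by
  induction d using WithBot.recBotCoe with
  | bot => exact bot_le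
  | coe m =>
    induction m using ENat.recTopCoe with
    | top => exact (h le_top).elim
    | coe m =>
      have h1 : ¬ (e + 1 ≤ m) := by
        intro h2
        apply h
        exact_mod_cast h2
      have h3 : m ≤ e := by omega
      exact_mod_cast h3

theorem exists_generic_of_mem {Y : Scheme.{u}} (y' : Y) :
    ∃ η : Y, y' ∈ closure ({η} : Set Y) ∧ closure ({η} : Set Y) ∈ irreducibleComponents Y := by
  obtain ⟨C, hC, hsub⟩ := exists_mem_irreducibleComponents_subset_of_isIrreducible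
    (closure ({y'} : Set Y)) isIrreducible_singleton.closure
  have hCcl : IsClosed C := isClosed_of_mem_irreducibleComponents C hC
  obtain ⟨η, hη⟩ := QuasiSober.sober hC.1 hCcl
  refine ⟨η, ?_, ?_⟩
  · rw [hη.def]
    exact hsub (subset_closure rfl)
  · rw [hη.def]
    exact hC

section Main
variable {X Y : Scheme.{u}} (f : X ⟶ Y) [LocallyOfFiniteType f]

theorem isEmpty_fiber_of_not_mem_range (z : Y) (hz : z ∉ Set.range f.base) :
    IsEmpty ↥(f.fiber z) := by
  constructor
  intro w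
  apply hz
  refine ⟨f.fiberι z w, ?_⟩
  have : f.fiberι z w ∈ Set.range (f.fiberι z) := ⟨w, rfl⟩
  rw [Scheme.Hom.range_fiberι] at this
  exact this

theorem tr_le_dim_fiber (ξ : X) (z : Y) (hξ : f ξ = z) :
    ((tr f ξ : ℕ) : WithBot ℕ∞) ≤ topologicalKrullDim ↥(f.fiber z) := by
  subst hξ
  exact (tr_le_fibreDimAt_nn f ξ).trans (fibreDimAt_le_dim_fiber f ξ)

theorem le_dim_fiber_iff (n : ℕ) (z : Y) :
    (n : WithBot ℕ∞) ≤ topologicalKrullDim ↥(f.fiber z) ↔
      z ∈ f.base '' ((Set.univ : Set X) ∩ {x | (n : WithBot ℕ∞) ≤ FlatMor.fibreDimAt f x}) := by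
  have h := setOf_le_dim_fiber_eq f n
  rw [Set.univ_inter]
  constructor
  · intro h1
    have : z ∈ {y : Y | (n : WithBot ℕ∞) ≤ topologicalKrullDim ↥(f.fiber y)} := h1
    rw [h] at this
    exact this
  · intro h1
    have : z ∈ {y : Y | (n : WithBot ℕ∞) ≤ topologicalKrullDim ↥(f.fiber y)} := by
      rw [h]; exact h1
    exact this

theorem S4922_main [IsLocallyNoetherian Y] [QuasiCompact f] (hf : IsOpenMap f.base) (y : Y)
    (h : ∀ η : Y, y ∈ closure {η} → closure {η} ∈ irreducibleComponents (Y : Type u) →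
      topologicalKrullDim ↥(f.fiber y) = topologicalKrullDim ↥(f.fiber η)) :
    ∃ V ∈ nhds y, ∀ z ∈ V,
      topologicalKrullDim ↥(f.fiber z) = topologicalKrullDim ↥(f.fiber y) := by
  haveI : IsLocallyNoetherian X := LocallyOfFiniteType.isLocallyNoetherian f
  have hopAt : ∀ x : X, EGA43.IsOpenAt f.base x := by
    intro x W hW
    obtain ⟨O, hOW, hO, hzO⟩ := mem_nhds_iff.mp hW
    exact Filter.mem_of_superset ((hf O hO).mem_nhds ⟨x, hzO, rfl⟩) (Set.image_mono hOW)
  by_cases hne : (f.base ⁻¹' {y}).Nonempty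
  · obtain ⟨e, z₀, hle, hz₀, he, hmax⟩ := exists_max_tr_on_fibre f y hne
    have hdimy : topologicalKrullDim ↥(f.fiber y) = (e : WithBot ℕ∞) :=
      dim_fiber_eq_of_tr f y e hle z₀ hz₀ he
    have hS₂ := image_mem_nhds_of_isOpenAt f ⊤ z₀ trivial hmax (hopAt z₀)
    rw [hz₀, he] at hS₂
    have hS₁ : (f.base '' ((Set.univ : Set X) ∩
        {x | ((e + 1 : ℕ) : WithBot ℕ∞) ≤ FlatMor.fibreDimAt f x}))ᶜ ∈ nhds y := by
      apply mem_nhds_of_isLocallyConstructible
      · apply isLocallyConstructible_compl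
        apply f.isLocallyConstructible_image
        exact isLocallyConstructible_of_isOpen_inter_isClosed _ _ isOpen_univ
          (isClosed_setOf_le_fibreDimAt f _)
      · rintro y' hy' ⟨x, ⟨-, hx⟩, hxy'⟩
        obtain ⟨z', h1, h2, h3, h4⟩ := exists_max_tr_eq_fibreDimAt f x
        obtain ⟨η, hη1, hη2⟩ := exists_generic_of_mem y'
        have hηy : y ∈ closure ({η} : Set Y) :=
          hy'.mem_closed isClosed_closure hη1
        have hηz' : η ⤳ f z' := by
          rw [h1, hxy']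
          exact specializes_iff_mem_closure.mpr hη1
        obtain ⟨ξ, hξ1, -, -, hξ4⟩ :=
          exists_generization_tr_eq_of_isOpenAt f z' h3 (hopAt z') η hηz'
        have h5 := tr_le_dim_fiber f ξ η hξ1
        rw [← h η hηy hη2, hdimy, hξ4, h4] at h5
        have h6 : (((e + 1 : ℕ)) : WithBot ℕ∞) ≤ (e : WithBot ℕ∞) := hx.trans h5
        have h7 : e + 1 ≤ e := by exact_mod_cast h6
        omega
    refine ⟨_, Filter.inter_mem hS₁ hS₂, ?_⟩
    rintro z ⟨hz1, hz2⟩
    rw [hdimy]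
    apply le_antisymm
    · apply le_of_not_succ_le
      intro h1
      exact hz1 ((le_dim_fiber_iff f (e + 1) z).mp h1)
    · rw [le_dim_fiber_iff f e z]
      rw [Set.univ_inter]
      obtain ⟨x, ⟨-, hx⟩, hxz⟩ := hz2
      exact ⟨x, hx, hxz⟩
  · have hy_empty : IsEmpty ↥(f.fiber y) := by
      apply isEmpty_fiber_of_not_mem_range
      rintro ⟨x, hx⟩
      exact hne ⟨x, hx⟩
    have hS : (Set.range f.base)ᶜ ∈ nhds y := by
      apply mem_nhds_of_isLocallyConstructible
      · apply isLocallyConstructible_compl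
        rw [← Set.image_univ]
        apply f.isLocallyConstructible_image
        exact IsLocallyConstructible.univ
      · rintro y' hy' hy'r
        obtain ⟨η, hη1, hη2⟩ := exists_generic_of_mem y'
        have hηy : y ∈ closure ({η} : Set Y) :=
          hy'.mem_closed isClosed_closure hη1
        have hηr : η ∈ Set.range f.base := by
          have hsp : η ⤳ y' := specializes_iff_mem_closure.mpr hη1
          exact hsp.mem_open hf.isOpen_range hy'r
        obtain ⟨x, hx⟩ := hηr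
        have h5 := tr_le_dim_fiber f x η hx
        rw [← h η hηy hη2, tdim_eq_bot_of_isEmpty] at h5
        exact absurd h5 (by simp)
    refine ⟨_, hS, ?_⟩
    intro z hz
    haveI := isEmpty_fiber_of_not_mem_range f z hz
    rw [tdim_eq_bot_of_isEmpty, tdim_eq_bot_of_isEmpty]

theorem S4921_main [IsLocallyNoetherian Y] [IsProper f] (y : Y)
    (h : ∀ x : X, f.base x = y → EGA43.IsOpenAt f.base x) :
    ∃ V ∈ nhds y, ∀ z ∈ V,
      topologicalKrullDim ↥(f.fiber z) = topologicalKrullDim ↥(f.fiber y) := by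
  by_cases hne : (f.base ⁻¹' {y}).Nonempty
  · obtain ⟨e, z₀, hle, hz₀, he, hmax⟩ := exists_max_tr_on_fibre f y hne
    have hdimy : topologicalKrullDim ↥(f.fiber y) = (e : WithBot ℕ∞) :=
      dim_fiber_eq_of_tr f y e hle z₀ hz₀ he
    have hS₂ := image_mem_nhds_of_isOpenAt f ⊤ z₀ trivial hmax (h z₀ hz₀)
    rw [hz₀, he] at hS₂
    have hS₁ : {s : Y | topologicalKrullDim ↥(f.fiber s) ≤ (e : WithBot ℕ∞)} ∈ nhds y :=
      (S0403_main f (e : WithBot ℕ∞)).mem_nhds (le_of_eq hdimy)
    refine ⟨_, Filter.inter_mem hS₁ hS₂, ?_⟩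
    rintro z ⟨hz1, hz2⟩
    rw [hdimy]
    apply le_antisymm hz1
    rw [le_dim_fiber_iff f e z]
    exact hz2
  · have hy_empty : IsEmpty ↥(f.fiber y) := by
      apply isEmpty_fiber_of_not_mem_range
      rintro ⟨x, hx⟩
      exact hne ⟨x, hx⟩
    have hS : (Set.range f.base)ᶜ ∈ nhds y := by
      apply IsOpen.mem_nhds
      · exact f.isClosedMap.isClosed_range.isOpen_compl
      · rintro ⟨x, hx⟩
        exact hne ⟨x, hx⟩
    refine ⟨_, hS, ?_⟩
    intro z hz
    haveI := isEmpty_fiber_of_not_mem_range f z hz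
    rw [tdim_eq_bot_of_isEmpty, tdim_eq_bot_of_isEmpty]

end Main


end Groth.Agent.Lib.Helper4.OpenNoeth1
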