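import Mathlib
import Groth.Prelude.Def_Cyc
import Groth.Agent.Lib.Helper4.JacDim1
import Groth.Prelude.Def_EGA43
import Groth.Agent.Lib.Helper4.FibreStalkDim1
import Groth.Agent.Lib.Helper4.DimFT1
import Groth.Agent.Lib.Helper4.DimFT2
import Groth.Agent.Lib.Helper4.Chev8
import Groth.Agent.Lib.Helper4.FibDim7
import Groth.Agent.Lib.Helper4.EffCartierDim1
import Groth.Agent.Lib.Helper4.JacDim4
import Groth.Agent.Lib.Helper4.Chev9
import Groth.Agent.Lib.Helper4.Chev10
import Groth.Agent.Lib.Helper4.Chev11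
import Groth.Agent.Lib.Helper4.Equi1
import Groth.Agent.Lib.Helper4.Equi2
import Groth.Agent.Lib.Helper4.Equi3
import Groth.Agent.Lib.Helper4.Equi4
import Groth.Agent.Lib.Helper4.Equi5
import Groth.Agent.Lib.Helper4.Equi6
import Groth.Agent.Lib.Helper4.Equi7
import Groth.Agent.Lib.Helper4.Aff1
import Groth.Agent.Lib.Helper4.Aff2
import Groth.Agent.Lib.Helper4.Equi10
import Groth.Agent.Lib.Helper4.Val1
import Groth.Agent.Lib.Helper4.BaseChg1
import Groth.Agent.Lib.Helper4.UnivOpen1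

/-!
# Connected components of fibres along a section under generization (S4952) (helper4)
-/

set_option backward.isDefEq.respectTransparency.types false
set_option synthInstance.maxHeartbeats 400000
set_option autoImplicit false
set_option linter.unusedSectionVars false
set_option linter.style.haveILetI false
set_option linter.unusedSimpArgs false
universe u v w
open CategoryTheory CategoryTheory.Limits AlgebraicGeometry TopologicalSpace IsLocalRing Opposite
open Cardinal AffineSpace MvPolynomial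
open Groth.Agent.Lib.Helper4.DimIneq1 Groth.Agent.Lib.Helper4.DimFT2 Groth.Agent.Lib.Helper4.Catenary1
open Groth.Agent.Lib.Helper4.DimEq1 Groth.Agent.Lib.Helper4.DimIneq2 Groth.Agent.Lib.Helper4.DimEq2
open Groth.Agent.Lib.Helper4.DimIneq3 Groth.Agent.Lib.Helper4.DimIneq4
open Groth.Agent.Lib.Helper4.NormFibre2 Groth.Agent.Lib.Helper4.RadBir3 Groth.Agent.Lib.Helper4.DimFT3
open Groth.Agent.Lib.Helper4.FibDim1 Groth.Agent.Lib.Helper4.FibDim2 Groth.Agent.Lib.Helper4.LocUC1
open Groth.Agent.Lib.Helper4.FibDim3 Groth.Agent.Lib.Helper4.FibDim4 Groth.Agent.Lib.Helper4.FibDim5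
open Groth.Agent.Lib.Helper4.FibDim6 Groth.Agent.Lib.Helper4.FibDim7 Groth.Agent.Lib.Helper4.JacDim1
open Groth.Agent.Lib.Helper4.DimFT1
open Groth.Agent.Lib.Helper4.Chev2 Groth.Agent.Lib.Helper4.Chev5 Groth.Agent.Lib.Helper4.Chev6 Groth.Agent.Lib.Helper4.Chev8
open Groth.Agent.Lib.Helper4.JacDim4 Groth.Agent.Lib.Helper4.EffCartierDim1
open Groth.Agent.Lib.Helper4.Chev9 Groth.Agent.Lib.Helper4.Chev4
open Groth.Agent.Lib.Helper4.Chev10 Groth.Agent.Lib.Helper4.Chev11 Groth.Agent.Lib.Helper4.Chev3 Groth.Agent.Lib.Helper4.Equi1 Groth.Agent.Lib.Helper4.Equi2 Groth.Agent.Lib.Helper4.OpenAt1 Groth.Agent.Lib.Helper4.Equi3 Groth.Agent.Lib.Helper4.Equi4 Groth.Agent.Lib.Helper4.Equi5 Groth.Agent.Lib.Helper4.Equi6 Groth.Agent.Lib.Helper4.Equi7 Groth.Agent.Lib.Helper4.Aff1 Groth.Agent.Lib.Helper4.Aff2 Groth.Agent.Lib.Helper4.Equi10 Groth.Agent.Lib.Helper4.Val1 Groth.Agent.Lib.Helper4.BaseChg1 Groth.Agent.Lib.Helper4.UnivOpen1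

namespace Groth.Agent.Lib.Helper4.SecComp1
open Topology

section Main
variable {X Y : Scheme.{u}} (f : X ⟶ Y) [LocallyOfFiniteType f]

theorem isPreconnected_closure_inter {T : Type*} [TopologicalSpace T] (x : T) (F : Set T)
    (hx : x ∈ F) : IsPreconnected (closure ({x} : Set T) ∩ F) := by
  apply IsPreirreducible.isPreconnected
  rintro U V hU hV ⟨a, ⟨ha1, -⟩, haU⟩ ⟨b, ⟨hb1, -⟩, hbV⟩
  have hxU : x ∈ U := (specializes_iff_mem_closure.mpr ha1).mem_open hU haU
  have hxV : x ∈ V := (specializes_iff_mem_closure.mpr hb1).mem_open hV hbV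
  exact ⟨x, ⟨subset_closure rfl, hx⟩, hxU, hxV⟩

theorem S4952_main [IsLocallyNoetherian Y] (g : Y ⟶ X) (hg : g ≫ f = 𝟙 Y) (y y' : Y)
    (hy : y' ⤳ y)
    (hZ : ∃ Z : Set X, Z ⊆ f.base ⁻¹' {y'} ∧ IsIrreducible Z ∧
      (∀ Z' : Set X, IsIrreducible Z' → Z' ⊆ f.base ⁻¹' {y'} → Z ⊆ Z' → Z' = Z) ∧ g.base y' ∈ Z ∧
      topologicalKrullDim ↥Z =
        topologicalKrullDim ↥(connectedComponentIn (f.base ⁻¹' {y'}) (g.base y'))) :
    topologicalKrullDim ↥(connectedComponentIn (f.base ⁻¹' {y'}) (g.base y')) ≤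
        topologicalKrullDim ↥(connectedComponentIn (f.base ⁻¹' {y}) (g.base y)) ∧
      (IsIrreducible (connectedComponentIn (f.base ⁻¹' {y}) (g.base y)) →
        topologicalKrullDim ↥(connectedComponentIn (f.base ⁻¹' {y}) (g.base y)) =
          topologicalKrullDim ↥(connectedComponentIn (f.base ⁻¹' {y'}) (g.base y')) →
        connectedComponentIn (f.base ⁻¹' {y}) (g.base y) ⊆
          closure (connectedComponentIn (f.base ⁻¹' {y'}) (g.base y'))) := by
  have hfg : ∀ t : Y, f (g t) = t := by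
    intro t
    rw [← Scheme.Hom.comp_apply, hg]
    rfl
  obtain ⟨Z, hZy, hZirr, hZmax, hgZ, hdimZ⟩ := hZ
  obtain ⟨ζ, hζy', hζZ, hZeq, hζmax⟩ := exists_generic_of_max_irreducible_fiber f y' Z hZy hZirr hZmax
  have hdimZ' : topologicalKrullDim ↥Z = ((tr f ζ : ℕ) : WithBot ℕ∞) := by
    have h := dim_closure_inter_fiber f ζ y' hζy'
    rw [← hZeq] at h
    exact h
  have hζgy' : ζ ⤳ g y' := by
    have : g.base y' ∈ closure ({ζ} : Set X) ∩ f.base ⁻¹' {y'} := by rw [← hZeq]; exact hgZ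
    exact specializes_iff_mem_closure.mpr this.1
  have hζgy : ζ ⤳ g y := hζgy'.trans (hy.map g.continuous)
  -- the closed subscheme on the closure of ζ
  obtain ⟨ι, hι⟩ : ∃ ι : (Scheme.IdealSheafData.vanishingIdeal
      (⟨closure {ζ}, isClosed_closure⟩ : TopologicalSpace.Closeds X)).subscheme ⟶ X,
      ι = (Scheme.IdealSheafData.vanishingIdeal
      (⟨closure {ζ}, isClosed_closure⟩ : TopologicalSpace.Closeds X)).subschemeι := ⟨_, rfl⟩
  have hr : Set.range ι = closure ({ζ} : Set X) := by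
    rw [hι, Scheme.IdealSheafData.range_subschemeι]
    simp
  haveI : IsClosedImmersion ι := by rw [hι]; infer_instance
  clear hι
  generalize (Scheme.IdealSheafData.vanishingIdeal
      (⟨closure {ζ}, isClosed_closure⟩ : TopologicalSpace.Closeds X)).subscheme = W at ι hr
  obtain ⟨ζW, hζW⟩ : ζ ∈ Set.range ι := by rw [hr]; exact subset_closure rfl
  obtain ⟨w, hw⟩ : g y ∈ Set.range ι := by rw [hr]; exact hζgy.mem_closure
  have hspW : ζW ⤳ w := by
    apply ι.isEmbedding.isInducing.specializes_iff.mp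
    rw [hζW, hw]
    exact hζgy
  have h1 := tr_le_fibreDimAt_of_specializes_nn (ι ≫ f) w ζW hspW
  obtain ⟨w', hw'1, hw'2, hw'3, hw'4⟩ := exists_max_tr_eq_fibreDimAt (ι ≫ f) w
  rw [← hw'4, tr_comp_closedImmersion f ι ζW, tr_comp_closedImmersion f ι w', hζW] at h1
  have hn : tr f ζ ≤ tr f (ι w') := by exact_mod_cast h1
  have hx'y : f (ι w') = y := by
    have : (ι ≫ f) w' = (ι ≫ f) w := hw'1
    rw [Scheme.Hom.comp_apply, Scheme.Hom.comp_apply, hw, hfg] at this
    exact this
  have hx'gy : ι w' ⤳ g y := by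
    have := hw'2.map ι.continuous
    rwa [hw] at this
  have hx'ζ : ι w' ∈ closure ({ζ} : Set X) := by
    rw [← hr]; exact ⟨w', rfl⟩
  have hTsub : closure ({ι w'} : Set X) ∩ f.base ⁻¹' {y} ⊆
      connectedComponentIn (f.base ⁻¹' {y}) (g.base y) := by
    apply IsPreconnected.subset_connectedComponentIn
    · exact isPreconnected_closure_inter (ι w') _ hx'y
    · exact ⟨hx'gy.mem_closure, hfg y⟩
    · exact Set.inter_subset_right
  have hdimT := dim_closure_inter_fiber f (ι w') y hx'y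
  have hZsub : Z ⊆ connectedComponentIn (f.base ⁻¹' {y'}) (g.base y') :=
    hZirr.isPreirreducible.isPreconnected.subset_connectedComponentIn hgZ hZy
  constructor
  · rw [← hdimZ, hdimZ']
    calc ((tr f ζ : ℕ) : WithBot ℕ∞) ≤ ((tr f (ι w') : ℕ) : WithBot ℕ∞) := by exact_mod_cast hn
      _ = topologicalKrullDim ↥(closure ({ι w'} : Set X) ∩ f.base ⁻¹' {y}) := hdimT.symm
      _ ≤ _ := dim_mono hTsub
  · intro hirr hdim
    have hCy : connectedComponentIn (f.base ⁻¹' {y}) (g.base y) ⊆ f.base ⁻¹' {y} :=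
      connectedComponentIn_subset _ _
    have hCmax : ∀ Z' : Set X, IsIrreducible Z' → Z' ⊆ f.base ⁻¹' {y} →
        connectedComponentIn (f.base ⁻¹' {y}) (g.base y) ⊆ Z' →
        Z' = connectedComponentIn (f.base ⁻¹' {y}) (g.base y) := by
      intro Z' hZ'irr hZ'y hsub
      apply subset_antisymm _ hsub
      apply hZ'irr.isPreirreducible.isPreconnected.subset_connectedComponentIn _ hZ'y
      exact hsub (mem_connectedComponentIn (hfg y))
    obtain ⟨ω, hωy, hωC, hCeq, hωmax⟩ :=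
      exists_generic_of_max_irreducible_fiber f y _ hCy hirr hCmax
    have hωx' : ω ⤳ ι w' := by
      have : ι w' ∈ closure ({ω} : Set X) ∩ f.base ⁻¹' {y} := by
        rw [← hCeq]
        exact hTsub ⟨subset_closure rfl, hx'y⟩
      exact specializes_iff_mem_closure.mpr this.1
    have hdimC : topologicalKrullDim ↥(connectedComponentIn (f.base ⁻¹' {y}) (g.base y)) =
        ((tr f ω : ℕ) : WithBot ℕ∞) := by
      have h := dim_closure_inter_fiber f ω y hωy
      rw [← hCeq] at h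
      exact h
    have hωeq : ω = ι w' := by
      by_contra hne
      have hlt := tr_lt_of_specializes f ω (ι w') hωx' hne (hωy.trans hx'y.symm)
      rw [hdimC, ← hdimZ, hdimZ'] at hdim
      have : tr f ω = tr f ζ := by exact_mod_cast hdim
      omega
    intro a ha
    rw [hCeq, hωeq] at ha
    have h2 : a ∈ closure ({ζ} : Set X) :=
      (closure_minimal (Set.singleton_subset_iff.mpr hx'ζ) isClosed_closure) ha.1
    exact closure_mono (Set.singleton_subset_iff.mpr (hZsub hζZ)) h2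

end Main

end Groth.Agent.Lib.Helper4.SecComp1
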