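import Mathlib
import Groth.Prelude.Def_Cyc
import Groth.Agent.Lib.Helper4.JacDim1
import Groth.Prelude.Def_EGA43
import Groth.Agent.Lib.Helper4.FibreStalkDim1
import Groth.Agent.Lib.Helper4.DimFT1
import Groth.Agent.Lib.Helper4.DimFT2
import Groth.Agent.Lib.Helper4.Chev8
import Groth.Agent.Lib.Helper4.FibDim7
import Groth.Agent.Lib.Helper4.EffCartierDim1
import Groth.Agent.Lib.Helper4.JacDim4
import Groth.Agent.Lib.Helper4.Chev9
import Groth.Agent.Lib.Helper4.Chev10
import Groth.Agent.Lib.Helper4.Chev11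
import Groth.Agent.Lib.Helper4.Equi1
import Groth.Agent.Lib.Helper4.Equi2
import Groth.Agent.Lib.Helper4.Equi3
import Groth.Agent.Lib.Helper4.Equi4
import Groth.Agent.Lib.Helper4.Equi5
import Groth.Agent.Lib.Helper4.Equi6
import Groth.Agent.Lib.Helper4.Equi7
import Groth.Agent.Lib.Helper4.Aff1
import Groth.Agent.Lib.Helper4.Aff2
import Groth.Agent.Lib.Helper4.Equi10
import Groth.Agent.Lib.Helper4.Val1
import Groth.Agent.Lib.Helper4.BaseChg1

/-!
# Universally open morphisms: lifting generizations without dropping the residual transcendence degree (valuation rings, base change) (helper4)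
-/

set_option backward.isDefEq.respectTransparency.types false
set_option synthInstance.maxHeartbeats 400000
set_option autoImplicit false
set_option linter.unusedSectionVars false
set_option linter.style.haveILetI false
set_option linter.unusedSimpArgs false
universe u v w
open CategoryTheory CategoryTheory.Limits AlgebraicGeometry TopologicalSpace IsLocalRing Opposite
open Cardinal AffineSpace MvPolynomial
open Groth.Agent.Lib.Helper4.DimIneq1 Groth.Agent.Lib.Helper4.DimFT2 Groth.Agent.Lib.Helper4.Catenary1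
open Groth.Agent.Lib.Helper4.DimEq1 Groth.Agent.Lib.Helper4.DimIneq2 Groth.Agent.Lib.Helper4.DimEq2
open Groth.Agent.Lib.Helper4.DimIneq3 Groth.Agent.Lib.Helper4.DimIneq4
open Groth.Agent.Lib.Helper4.NormFibre2 Groth.Agent.Lib.Helper4.RadBir3 Groth.Agent.Lib.Helper4.DimFT3
open Groth.Agent.Lib.Helper4.FibDim1 Groth.Agent.Lib.Helper4.FibDim2 Groth.Agent.Lib.Helper4.LocUC1
open Groth.Agent.Lib.Helper4.FibDim3 Groth.Agent.Lib.Helper4.FibDim4 Groth.Agent.Lib.Helper4.FibDim5
open Groth.Agent.Lib.Helper4.FibDim6 Groth.Agent.Lib.Helper4.FibDim7 Groth.Agent.Lib.Helper4.JacDim1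
open Groth.Agent.Lib.Helper4.DimFT1
open Groth.Agent.Lib.Helper4.Chev2 Groth.Agent.Lib.Helper4.Chev5 Groth.Agent.Lib.Helper4.Chev6 Groth.Agent.Lib.Helper4.Chev8
open Groth.Agent.Lib.Helper4.JacDim4 Groth.Agent.Lib.Helper4.EffCartierDim1
open Groth.Agent.Lib.Helper4.Chev9 Groth.Agent.Lib.Helper4.Chev4
open Groth.Agent.Lib.Helper4.Chev10 Groth.Agent.Lib.Helper4.Chev11 Groth.Agent.Lib.Helper4.Chev3 Groth.Agent.Lib.Helper4.Equi1 Groth.Agent.Lib.Helper4.Equi2 Groth.Agent.Lib.Helper4.OpenAt1 Groth.Agent.Lib.Helper4.Equi3 Groth.Agent.Lib.Helper4.Equi4 Groth.Agent.Lib.Helper4.Equi5 Groth.Agent.Lib.Helper4.Equi6 Groth.Agent.Lib.Helper4.Equi7 Groth.Agent.Lib.Helper4.Aff1 Groth.Agent.Lib.Helper4.Aff2 Groth.Agent.Lib.Helper4.Equi10 Groth.Agent.Lib.Helper4.Val1 Groth.Agent.Lib.Helper4.BaseChg1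

namespace Groth.Agent.Lib.Helper4.UnivOpen1

section DimOpenFibre
variable {X Y : Scheme.{u}} (f : X ⟶ Y) [LocallyOfFiniteType f]

/-- the residual transcendence degree of a point of an open subset bounds the dimension of the
trace of its fibre on the open subset (no Noetherian hypothesis) -/
theorem tr_le_dim_open_fibre (U : X.Opens) (ξ : X) (hξ : ξ ∈ U) (y' : Y) (hy : f ξ = y') :
    ((tr f ξ : ℕ) : WithBot ℕ∞) ≤ topologicalKrullDim ↥((U : Set X) ∩ f.base ⁻¹' {y'}) := by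
  let ξU : ↥(U : Scheme.{u}) := ⟨ξ, hξ⟩
  have hy' : (U.ι ≫ f) ξU = y' := hy
  have h1 := height_fib_nn (U.ι ≫ f) y' ξU hy'
  rw [tr_restrict f U ξU] at h1
  have h2 : ((Order.height (⟨ξU, hy'⟩ : {z : ↥(U : Scheme.{u}) // (U.ι ≫ f) z = y'}) : ℕ∞) :
      WithBot ℕ∞) ≤ Order.krullDim {z : ↥(U : Scheme.{u}) // (U.ι ≫ f) z = y'} :=
    Order.height_le_krullDim _
  rw [h1] at h2
  refine h2.trans ?_
  rw [← Order.krullDim_orderDual]
  apply krullDim_le_topologicalKrullDim_of_map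
    (fun z : {z : ↥(U : Scheme.{u}) // (U.ι ≫ f) z = y'}ᵒᵈ =>
      (⟨(OrderDual.ofDual z).1.1, (OrderDual.ofDual z).1.2, (OrderDual.ofDual z).2⟩ :
        ↥((U : Set X) ∩ f.base ⁻¹' {y'})))
  intro a b hab
  have hab' : OrderDual.ofDual b < OrderDual.ofDual a := hab
  rw [lt_iff_le_not_ge] at hab'
  have hiff : ∀ p q : {z : ↥(U : Scheme.{u}) // (U.ι ≫ f) z = y'}, p ≤ q ↔ q.1.1 ⤳ p.1.1 := by
    intro p q
    change q.1 ⤳ p.1 ↔ _
    rw [← U.ι.isOpenEmbedding.isInducing.specializes_iff]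
    rfl
  constructor
  · rw [← Topology.IsInducing.subtypeVal.specializes_iff]
    exact (hiff _ _).mp hab'.1
  · intro h
    rw [← Topology.IsInducing.subtypeVal.specializes_iff] at h
    exact hab'.2 ((hiff _ _).mpr h)

end DimOpenFibre



section ValRing

/-- a specialization is realized by a morphism from the spectrum of a valuation ring -/
theorem exists_valuationRing_of_specializes {Y : Scheme.{u}} (y y' : Y) (h : y' ⤳ y) :
    ∃ (A : Type u) (_ : CommRing A) (_ : IsDomain A) (_ : ValuationRing A)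
      (c : Spec (CommRingCat.of A) ⟶ Y),
      c (IsLocalRing.closedPoint A) = y ∧ c (⊥ : PrimeSpectrum A) = y' := by
  let ρ : Y.presheaf.stalk y ⟶ Y.residueField y' :=
    Y.presheaf.stalkSpecializes h ≫ Y.residue y'
  obtain ⟨A, hA, hloc⟩ := IsLocalRing.exists_factor_valuationRing ρ.hom
  let ρA : Y.presheaf.stalk y ⟶ .of A := CommRingCat.ofHom (ρ.hom.codRestrict _ hA)
  refine ⟨A, inferInstance, inferInstance, inferInstance, Spec.map ρA ≫ Y.fromSpecStalk y, ?_, ?_⟩
  · rw [Scheme.Hom.comp_apply]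
    have : Spec.map ρA (closedPoint A) = closedPoint (Y.presheaf.stalk y) :=
      comap_closedPoint (S := A) (ρ.hom.codRestrict A.toSubring hA)
    rw [this, Y.fromSpecStalk_closedPoint]
  · have w : Spec.map (CommRingCat.ofHom (algebraMap A (Y.residueField y'))) ≫
        Spec.map ρA ≫ Y.fromSpecStalk y = Y.fromSpecResidueField y' := by
      rw [Scheme.fromSpecResidueField, ← Scheme.SpecMap_stalkSpecializes_fromSpecStalk h,
        ← Spec.map_comp_assoc, ← Spec.map_comp_assoc]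
      rfl
    have h1 := congrArg (fun φ : Spec (Y.residueField y') ⟶ Y =>
      φ (closedPoint (Y.residueField y'))) w
    simp only at h1
    rw [Scheme.fromSpecResidueField_apply, Scheme.Hom.comp_apply] at h1
    have h2 : Spec.map (CommRingCat.ofHom (algebraMap A (Y.residueField y')))
        (closedPoint (Y.residueField y')) = (⊥ : PrimeSpectrum A) := by
      apply PrimeSpectrum.ext
      change Ideal.comap (algebraMap A (Y.residueField y'))
        (closedPoint (Y.residueField y')).asIdeal = ⊥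
      have h3 : (closedPoint (Y.residueField y')).asIdeal = ⊥ := by
        rw [IsLocalRing.closedPoint]
        exact IsLocalRing.maximalIdeal_eq_bot
      rw [h3]
      exact Ideal.comap_bot_of_injective _ (FaithfulSMul.algebraMap_injective _ _)
    rw [h2] at h1
    exact h1

end ValRing



section ValRing

end ValRing

section UO
variable {X Y : Scheme.{u}} (f : X ⟶ Y) [LocallyOfFiniteType f]

theorem dvd_total_Γ_Spec (A : Type u) [CommRing A] [IsDomain A] [ValuationRing A] :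
    ∀ a b : Γ(Spec (CommRingCat.of A), ⊤), a ∣ b ∨ b ∣ a := by
  intro a b
  let e : Γ(Spec (CommRingCat.of A), ⊤) ≃+* A :=
    (Scheme.ΓSpecIso (CommRingCat.of A)).commRingCatIsoToRingEquiv
  rcases ValuationRing.dvd_total (e a) (e b) with h | h
  · left
    have := map_dvd e.symm h
    simpa using this
  · right
    have := map_dvd e.symm h
    simpa using this

/-- universal openness at a point: generizations of the image lift to generizations whose
residual transcendence degree does not drop -/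
theorem exists_generization_tr_ge (x : X) (hU : EGA43.IsUnivOpenAt f x) (y' : Y)
    (hy' : y' ⤳ f x) : ∃ ξ : X, ξ ⤳ x ∧ f ξ = y' ∧ tr f x ≤ tr f ξ := by
  obtain ⟨A, _, _, _, c, hcs, hcη⟩ := exists_valuationRing_of_specializes (f x) y' hy'
  obtain ⟨w, hw1, hw2, hw3⟩ := exists_tr_snd_ge f c x (IsLocalRing.closedPoint A) hcs.symm
  have hop : EGA43.IsOpenAt (pullback.snd f c).base w := hU _ c w hw1
  have hsp : (⊥ : PrimeSpectrum A) ⤳ (pullback.snd f c) w := by
    rw [hw2, ← PrimeSpectrum.le_iff_specializes]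
    exact bot_le
  obtain ⟨ξ', hξ'sp, hξ'η⟩ := exists_generization_of_isOpenAt (pullback.snd f c) w hop _ hsp
  have h1 : tr (pullback.snd f c) w ≤ tr (pullback.snd f c) ξ' :=
    tr_le_tr_of_dvd_total (pullback.snd f c) (isAffineOpen_top _) (dvd_total_Γ_Spec A) ξ' w hξ'sp
      trivial
  have h2 := tr_snd_le f c ξ'
  refine ⟨pullback.fst f c ξ', ?_, ?_, ?_⟩
  · rw [← hw1]
    exact hξ'sp.map (pullback.fst f c).continuous
  · rw [← Scheme.Hom.comp_apply, pullback.condition, Scheme.Hom.comp_apply, hξ'η, hcη]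
  · omega

end UO



section FinGen

/-- a continuous map from a Noetherian scheme: near a point of the target, every point of the
source has a maximal generization whose image specializes to the given point -/
theorem exists_nhd_max_gen (W : Scheme.{u}) [NoetherianSpace ↥W] {T : Type*} [TopologicalSpace T]
    (j : ↥W → T) (hj : Continuous j) (x : T) :
    ∃ U : Set T, IsOpen U ∧ x ∈ U ∧ ∀ w : ↥W, j w ∈ U →
      ∃ σ : ↥W, σ ⤳ w ∧ j σ ⤳ x ∧ IsMax σ := by
  have hfin : (irreducibleComponents ↥W).Finite :=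
    TopologicalSpace.NoetherianSpace.finite_irreducibleComponents
  let Bad : Set (Set ↥W) := {C ∈ irreducibleComponents ↥W | ∀ σ : ↥W, closure {σ} = C → ¬ j σ ⤳ x}
  have hK : IsClosed (⋃ C ∈ Bad, closure (j '' C)) := by
    apply Set.Finite.isClosed_biUnion (hfin.subset (fun C hC => hC.1))
    intro C _
    exact isClosed_closure
  refine ⟨(⋃ C ∈ Bad, closure (j '' C))ᶜ, hK.isOpen_compl, ?_, ?_⟩
  · intro hx
    simp only [Set.mem_iUnion] at hx
    obtain ⟨C, hC, hxC⟩ := hx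
    obtain ⟨σ, -, hσ⟩ := exists_isMax_closure_eq W C hC.1
    apply hC.2 σ hσ
    rw [specializes_iff_mem_closure]
    rw [← hσ, closure_image_closure hj, Set.image_singleton] at hxC
    exact hxC
  · intro w hw
    have hC : irreducibleComponent w ∈ irreducibleComponents ↥W :=
      irreducibleComponent_mem_irreducibleComponents w
    obtain ⟨σ, hσmax, hσ⟩ := exists_isMax_closure_eq W _ hC
    have hσw : σ ⤳ w := by
      rw [specializes_iff_mem_closure, hσ]
      exact mem_irreducibleComponent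
    refine ⟨σ, hσw, ?_, hσmax⟩
    by_contra hcon
    apply hw
    simp only [Set.mem_iUnion]
    refine ⟨irreducibleComponent w, ⟨hC, ?_⟩, subset_closure ⟨w, mem_irreducibleComponent, rfl⟩⟩
    intro σ' hσ'
    have : σ' = σ := by
      have h1 : closure ({σ'} : Set ↥W) = closure {σ} := hσ'.trans hσ.symm
      exact (inseparable_iff_closure_eq.mpr h1).eq
    rw [this]
    exact hcon

end FinGen



section FinGen

variable {X Y : Scheme.{u}} (f : X ⟶ Y) [LocallyOfFiniteType f]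

theorem noetherianSpace_fiber_of_isAffine [IsAffine X] (η : Y) : NoetherianSpace ↥(f.fiber η) := by
  haveI : QuasiCompact (Y.fromSpecResidueField η) :=
    quasiCompact_of_noetherianSpace (Y.fromSpecResidueField η)
  haveI : CompactSpace ↥(f.fiber η) :=
    inferInstanceAs (CompactSpace ↥(pullback f (Y.fromSpecResidueField η)))
  haveI : IsLocallyNoetherian (f.fiber η) :=
    LocallyOfFiniteType.isLocallyNoetherian (f.fiberToSpecResidueField η)
  haveI : IsNoetherian (f.fiber η) := {}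
  infer_instance

/-- near a point `x`, the points of the fibre over `η` have maximal generizations in that fibre
which specialize to `x` (finiteness of the set of irreducible components of the fibre of an
affine neighbourhood) -/
theorem exists_nhd_fibre_max_gen (x : X) (η : Y) :
    ∃ U : X.Opens, x ∈ U ∧ ∀ t : X, t ∈ U → f t = η →
      ∃ σ : X, f σ = η ∧ σ ⤳ t ∧ σ ⤳ x ∧ (∀ z' : X, f z' = f σ → z' ⤳ σ → z' = σ) := by
  obtain ⟨U₀, hU₀, hxU₀, -⟩ := exists_isAffineOpen_mem_and_subset (U := (⊤ : X.Opens)) (x := x)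
    trivial
  haveI : IsAffine (U₀ : Scheme.{u}) := hU₀
  haveI := noetherianSpace_fiber_of_isAffine (U₀.ι ≫ f) η
  have hjc : Continuous (fun w : ↥((U₀.ι ≫ f).fiber η) => U₀.ι (((U₀.ι ≫ f).fiberι η) w)) :=
    U₀.ι.continuous.comp ((U₀.ι ≫ f).fiberι η).continuous
  obtain ⟨U', hU'o, hxU', hU'⟩ := exists_nhd_max_gen ((U₀.ι ≫ f).fiber η)
    (fun w => U₀.ι (((U₀.ι ≫ f).fiberι η) w)) hjc x
  refine ⟨U₀ ⊓ ⟨U', hU'o⟩, ⟨hxU₀, hxU'⟩, ?_⟩
  intro t ht hft
  let tU : ↥(U₀ : Scheme.{u}) := ⟨t, ht.1⟩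
  have htU : (U₀.ι ≫ f) tU = η := hft
  have hw : fibOrderIso (U₀.ι ≫ f) η ((fibOrderIso (U₀.ι ≫ f) η).symm ⟨tU, htU⟩) = ⟨tU, htU⟩ :=
    (fibOrderIso (U₀.ι ≫ f) η).apply_symm_apply _
  have hw' : ((U₀.ι ≫ f).fiberι η) ((fibOrderIso (U₀.ι ≫ f) η).symm ⟨tU, htU⟩) = tU :=
    congrArg Subtype.val hw
  have hjw : U₀.ι (((U₀.ι ≫ f).fiberι η) ((fibOrderIso (U₀.ι ≫ f) η).symm ⟨tU, htU⟩)) = t := by
    rw [hw']
    rfl
  obtain ⟨σw, hσw, hσx, hσmax⟩ := hU' ((fibOrderIso (U₀.ι ≫ f) η).symm ⟨tU, htU⟩) (by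

    rw [hjw]
    exact ht.2)
  have hfσ : f (U₀.ι (((U₀.ι ≫ f).fiberι η) σw)) = η := fiberι_mem (U₀.ι ≫ f) η σw
  refine ⟨U₀.ι (((U₀.ι ≫ f).fiberι η) σw), hfσ, ?_, hσx, ?_⟩
  · have := hσw.map hjc
    rw [hjw] at this
    exact this
  · intro z' hz' hsp
    have hz'U : z' ∈ U₀ := hsp.mem_open U₀.2 (((U₀.ι ≫ f).fiberι η) σw).2
    let z'U : ↥(U₀ : Scheme.{u}) := ⟨z', hz'U⟩
    have hz'η : (U₀.ι ≫ f) z'U = η := hz'.trans hfσ
    have hw2 : ((U₀.ι ≫ f).fiberι η) ((fibOrderIso (U₀.ι ≫ f) η).symm ⟨z'U, hz'η⟩) = z'U :=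
      congrArg Subtype.val ((fibOrderIso (U₀.ι ≫ f) η).apply_symm_apply _)
    have hsp' : (fibOrderIso (U₀.ι ≫ f) η).symm ⟨z'U, hz'η⟩ ⤳ σw := by
      rw [← ((U₀.ι ≫ f).fiberι η).isEmbedding.isInducing.specializes_iff, hw2,
        ← U₀.ι.isOpenEmbedding.isInducing.specializes_iff]
      exact hsp
    have h1 : σw ≤ (fibOrderIso (U₀.ι ≫ f) η).symm ⟨z'U, hz'η⟩ := hsp'
    have h2 : σw ⤳ (fibOrderIso (U₀.ι ≫ f) η).symm ⟨z'U, hz'η⟩ := hσmax h1
    have h3 : (fibOrderIso (U₀.ι ≫ f) η).symm ⟨z'U, hz'η⟩ = σw := (hsp'.antisymm h2).eq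
    rw [← h3, hw2]
    rfl

end FinGen



section DimOpenFibre
variable {X Y : Scheme.{u}} (f : X ⟶ Y) [LocallyOfFiniteType f]

/-- the dimension of the trace of a fibre on an open subset is bounded by the residual
transcendence degrees of its points -/
theorem dim_open_fibre_le (U : X.Opens) (y : Y) (E : ℕ)
    (h : ∀ z : X, z ∈ U → f z = y → tr f z ≤ E) :
    topologicalKrullDim ↥((U : Set X) ∩ f.base ⁻¹' {y}) ≤ (E : WithBot ℕ∞) := by
  have h1 : topologicalKrullDim ↥((U.ι ≫ f).fiber y) ≤ (E : WithBot ℕ∞) := by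
    rw [topologicalKrullDim_fiber_eq]
    apply krullDim_fibre_le
    intro z hz
    rw [tr_restrict f U z]
    exact h _ z.2 hz
  refine le_trans ?_ h1
  have hind : Topology.IsInducing
      (fun z : ↥((U : Set X) ∩ f.base ⁻¹' {y}) =>
        ((U.ι ≫ f).fiberHomeo y).symm
          (⟨(⟨z.1, z.2.1⟩ : ↥(U : Scheme.{u})), z.2.2⟩ : ↥((U.ι ≫ f).base ⁻¹' {y}))) := by
    apply ((U.ι ≫ f).fiberHomeo y).symm.isInducing.comp
    rw [Topology.isInducing_iff_nhds]
    intro z
    have e1 : Topology.IsInducing (fun a : ↥((U.ι ≫ f).base ⁻¹' {y}) => U.ι a.1) :=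
      U.ι.isOpenEmbedding.isInducing.comp Topology.IsInducing.subtypeVal
    rw [e1.nhds_eq_comap, Filter.comap_comap]
    exact Topology.IsInducing.subtypeVal.nhds_eq_comap z
  exact hind.topologicalKrullDim_le

end DimOpenFibre



section StepA
variable {X Y : Scheme.{u}} (f : X ⟶ Y) [LocallyOfFiniteType f]

theorem nonempty_of_topologicalKrullDim_nonneg {T : Type*} [TopologicalSpace T]
    (h : (0 : WithBot ℕ∞) ≤ topologicalKrullDim T) : Nonempty T := by
  unfold topologicalKrullDim at h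
  rw [Order.krullDim_nonneg_iff] at h
  obtain ⟨C⟩ := h
  have hne : (C : Set T).Nonempty := C.2.1
  exact ⟨hne.some⟩

/-- if all neighbourhoods of `x` meet the fibre over `η₀` in dimension at least the local
dimension of the fibre at `x`, some maximal point of the fibre over `η₀` with that residual
transcendence degree specializes to `x` -/
theorem exists_max_gen_of_dim_ge (x : X) (η₀ : Y) (d : ℕ)
    (hd : FlatMor.fibreDimAt f x = (d : WithBot ℕ∞))
    (hb : ∀ U : X.Opens, x ∈ U →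
      (d : WithBot ℕ∞) ≤ topologicalKrullDim ↥((U : Set X) ∩ f.base ⁻¹' {η₀})) :
    ∃ ξ : X, ξ ⤳ x ∧ f ξ = η₀ ∧ tr f ξ = d ∧ (∀ z' : X, f z' = f ξ → z' ⤳ ξ → z' = ξ) := by
  obtain ⟨d', hd', O, hxO, hO⟩ := exists_open_fibreDimAt_le f x
  have hdd : d' = d := by
    rw [hd] at hd'
    exact_mod_cast hd'.symm
  subst hdd
  obtain ⟨U, hxU, hU⟩ := exists_nhd_fibre_max_gen f x η₀
  have hb1 := hb (U ⊓ O) ⟨hxU, hxO⟩
  have hex : ∃ t : X, t ∈ U ⊓ O ∧ f t = η₀ ∧ d' ≤ tr f t := by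
    by_cases hd0 : d' = 0
    · subst hd0
      obtain ⟨t⟩ := nonempty_of_topologicalKrullDim_nonneg (by exact_mod_cast hb1)
      exact ⟨t.1, t.2.1, t.2.2, Nat.zero_le _⟩
    · by_contra hcon
      push Not at hcon
      have h1 := dim_open_fibre_le f (U ⊓ O) η₀ (d' - 1) (fun z hz hfz => by
        have := hcon z hz hfz
        omega)
      have h2 := hb1.trans h1
      have h3 : d' ≤ d' - 1 := by exact_mod_cast h2
      omega
  obtain ⟨t, ht, hft, htr⟩ := hex
  obtain ⟨σ, hfσ, hσt, hσx, hσmax⟩ := hU t ht.1 hft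
  have h1 : tr f t ≤ tr f σ := tr_le_of_specializes f σ t hσt (hfσ.trans hft.symm)
  have hσO : σ ∈ O := hσx.mem_open O.2 hxO
  have h2 := (tr_le_fibreDimAt_nn f σ).trans (hO σ hσO)
  have h3 : tr f σ ≤ d' := by exact_mod_cast h2
  exact ⟨σ, hσx, hfσ, by omega, hσmax⟩

end StepA



section StepB
variable {X Y : Scheme.{u}} (f : X ⟶ Y) [LocallyOfFiniteType f]

/-- the dimension of the trace of a fibre on a closed subset, computed on the closed subscheme -/
theorem dim_inter_fibre_eq {W : Scheme.{u}} (ι : W ⟶ X) (hι : Topology.IsEmbedding ι)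
    (X' : Set X) (hr : Set.range ι = X') (η : Y) :
    topologicalKrullDim ↥(X' ∩ f.base ⁻¹' {η}) = topologicalKrullDim ↥((ι ≫ f).fiber η) := by
  have hemb : Topology.IsEmbedding
      (fun a : ↥((ι ≫ f).base ⁻¹' {η}) => ι a.1) :=
    hι.comp Topology.IsEmbedding.subtypeVal
  have hrange : Set.range (fun a : ↥((ι ≫ f).base ⁻¹' {η}) => ι a.1) =
      X' ∩ f.base ⁻¹' {η} := by
    ext t
    constructor
    · rintro ⟨a, rfl⟩
      refine ⟨?_, a.2⟩
      rw [← hr]
      exact ⟨a.1, rfl⟩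
    · rintro ⟨ht1, ht2⟩
      rw [← hr] at ht1
      obtain ⟨a, rfl⟩ := ht1
      exact ⟨⟨a, ht2⟩, rfl⟩
  have e := ((ι ≫ f).fiberHomeo η).trans
    (hemb.toHomeomorph.trans (Homeomorph.setCongr hrange))
  exact (IsHomeomorph.topologicalKrullDim_eq e e.isHomeomorph).symm

theorem S4933_b (x : X)
    (hb : ∀ U : X.Opens, x ∈ U → ∀ y' : Y, y' ⤳ f.base x →
      FlatMor.fibreDimAt f x ≤ topologicalKrullDim ↥((U : Set X) ∩ f.base ⁻¹' {y'})) :
    ∀ Y₀ ∈ irreducibleComponents (Y : Type u), f.base x ∈ Y₀ →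
      ∃ Z ∈ irreducibleComponents (X : Type u), ∃ hx : x ∈ Z, closure (f.base '' Z) = Y₀ ∧
        ∀ η : Y, closure ({η} : Set Y) = Y₀ →
          FlatMor.fibreDimAt f x = FlatMor.localDim ↥(Z ∩ f.base ⁻¹' {f.base x}) ⟨x, ⟨hx, rfl⟩⟩ ∧
          FlatMor.localDim ↥(Z ∩ f.base ⁻¹' {f.base x}) ⟨x, ⟨hx, rfl⟩⟩ =
            topologicalKrullDim ↥(Z ∩ f.base ⁻¹' {η}) := by
  obtain ⟨d, hd, -⟩ := exists_open_fibreDimAt_le f x
  intro Y₀ hY₀ hxY₀
  obtain ⟨η₀, hη₀max, hη₀⟩ := exists_isMax_closure_eq Y Y₀ hY₀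
  have hsp : η₀ ⤳ f x := by
    rw [specializes_iff_mem_closure, hη₀]
    exact hxY₀
  obtain ⟨ξ, hξx, hfξ, htrξ, hξmaxfib⟩ := exists_max_gen_of_dim_ge f x η₀ d hd
    (fun U hxU => hd ▸ hb U hxU η₀ hsp)
  have hξmax : ∀ ξ' : X, ξ' ⤳ ξ → ξ' = ξ := by
    intro ξ' hsp'
    have h1 : f ξ' ⤳ η₀ := hfξ ▸ hsp'.map f.continuous
    have h2 : η₀ ≤ f ξ' := h1
    have h3 : η₀ ⤳ f ξ' := hη₀max h2
    have h4 : f ξ' = η₀ := (h1.antisymm h3).eq
    exact hξmaxfib ξ' (h4.trans hfξ.symm) hsp'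
  have hZ : closure ({ξ} : Set X) ∈ irreducibleComponents (X : Type u) :=
    closure_mem_irreducibleComponents_of_max ξ hξmax
  have hx : x ∈ closure ({ξ} : Set X) := specializes_iff_mem_closure.mp hξx
  refine ⟨closure ({ξ} : Set X), hZ, hx, ?_, ?_⟩
  · rw [closure_image_closure f.continuous, Set.image_singleton]

    rw [hfξ, hη₀]
  intro η hη
  have hηη : η = η₀ := (inseparable_iff_closure_eq.mpr (hη.trans hη₀.symm)).eq
  subst hηη
  have hr : Set.range (Scheme.IdealSheafData.vanishingIdeal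
      (⟨closure ({ξ} : Set X), isClosed_closure⟩ : TopologicalSpace.Closeds X)).subschemeι =
      closure ({ξ} : Set X) := by
    rw [Scheme.IdealSheafData.range_subschemeι, Scheme.IdealSheafData.coe_support_vanishingIdeal]
    rfl
  haveI : IrreducibleSpace ↥(Scheme.IdealSheafData.vanishingIdeal
      (⟨closure ({ξ} : Set X), isClosed_closure⟩ : TopologicalSpace.Closeds X)).subscheme :=
    irreducibleSpace_vanishingIdeal_subscheme _ hZ.1
  obtain ⟨ι, hι⟩ : ∃ ι : (Scheme.IdealSheafData.vanishingIdeal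
      (⟨closure ({ξ} : Set X), isClosed_closure⟩ : TopologicalSpace.Closeds X)).subscheme ⟶ X,
      ι = (Scheme.IdealSheafData.vanishingIdeal
      (⟨closure ({ξ} : Set X), isClosed_closure⟩ : TopologicalSpace.Closeds X)).subschemeι :=
    ⟨_, rfl⟩
  haveI : IsClosedImmersion ι := by rw [hι]; infer_instance
  rw [← hι] at hr
  have hxr : x ∈ Set.range ι := by rw [hr]; exact hx
  obtain ⟨wx, hwx⟩ := hxr
  have hgen : ι (genericPoint _) = ξ := map_genericPoint_of_range ι ξ hr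
  have hmem : x ∈ closure ({ξ} : Set X) ∩ f.base ⁻¹' {f.base x} := ⟨hx, rfl⟩
  have h1 := fibreDimAt_comp_eq_localDim' f ι ι.isEmbedding _ hr wx x hwx hmem
  have htrgen : tr (ι ≫ f) (genericPoint _) = d := by
    rw [tr_comp_closedImmersion, hgen, htrξ]
  have h2 : FlatMor.fibreDimAt (ι ≫ f) wx ≤ (d : WithBot ℕ∞) := by
    apply fibreDimAt_le_of_max_tr_le_nn
    intro z'' _ hsp'' _
    rw [tr_comp_closedImmersion]
    have h3 := tr_le_fibreDimAt_of_specializes_nn f (ι wx) (ι z'') (hsp''.map ι.continuous)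
    rw [hwx, hd] at h3
    exact_mod_cast h3
  have h3 : (d : WithBot ℕ∞) ≤ FlatMor.fibreDimAt (ι ≫ f) wx := by
    have := tr_le_fibreDimAt_of_specializes_nn (ι ≫ f) wx (genericPoint _)
      (genericPoint_specializes wx)
    rw [htrgen] at this
    exact this
  have h4 : FlatMor.fibreDimAt (ι ≫ f) wx = (d : WithBot ℕ∞) := le_antisymm h2 h3
  constructor
  · rw [hd, ← h1, h4]
  · rw [← h1, h4, dim_inter_fibre_eq f ι ι.isEmbedding _ hr η]
    symm
    have hgη : (ι ≫ f) (genericPoint _) = η := by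
      change f (ι (genericPoint _)) = η
      rw [hgen, hfξ]
    apply dim_fiber_eq_of_tr (ι ≫ f) η d _ (genericPoint _) hgη htrgen
    intro z hz
    rw [← htrgen]
    exact tr_le_of_specializes (ι ≫ f) (genericPoint _) z (genericPoint_specializes z)
      (hgη.trans hz.symm)

end StepB



section Main
variable {X Y : Scheme.{u}} (f : X ⟶ Y) [LocallyOfFiniteType f]

theorem S4933_a (x : X) (hmax : ∀ x' : X, f.base x' = f.base x → x ∈ closure {x'} → x' = x)
    (hU : EGA43.IsUnivOpenAt f x) :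
    ∀ U : X.Opens, x ∈ U → ∀ y' : Y, y' ⤳ f.base x →
      FlatMor.fibreDimAt f x ≤ topologicalKrullDim ↥((U : Set X) ∩ f.base ⁻¹' {y'}) := by
  intro U hxU y' hy'
  rw [fibreDimAt_eq_tr_of_max_nn f x (fun z' hz' hsp =>
    hmax z' hz' (specializes_iff_mem_closure.mp hsp))]
  obtain ⟨ξ, hξx, hfξ, htr⟩ := exists_generization_tr_ge f x hU y' hy'
  have hξU : ξ ∈ U := hξx.mem_open U.2 hxU
  refine le_trans ?_ (tr_le_dim_open_fibre f U ξ hξU y' hfξ)
  exact_mod_cast htr

theorem S4933_main (x : X) (hmax : ∀ x' : X, f.base x' = f.base x → x ∈ closure {x'} → x' = x) :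
    (EGA43.IsUnivOpenAt f x → (∀ U : X.Opens, x ∈ U → ∀ y' : Y, y' ⤳ f.base x →
        FlatMor.fibreDimAt f x ≤ topologicalKrullDim ↥((U : Set X) ∩ f.base ⁻¹' {y'}))) ∧
    ((∀ U : X.Opens, x ∈ U → ∀ y' : Y, y' ⤳ f.base x →
        FlatMor.fibreDimAt f x ≤ topologicalKrullDim ↥((U : Set X) ∩ f.base ⁻¹' {y'})) →
      (∀ Y₀ ∈ irreducibleComponents (Y : Type u), f.base x ∈ Y₀ →
        ∃ Z ∈ irreducibleComponents (X : Type u), ∃ hx : x ∈ Z, closure (f.base '' Z) = Y₀ ∧
          ∀ η : Y, closure ({η} : Set Y) = Y₀ →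
            FlatMor.fibreDimAt f x = FlatMor.localDim ↥(Z ∩ f.base ⁻¹' {f.base x}) ⟨x, ⟨hx, rfl⟩⟩ ∧
            FlatMor.localDim ↥(Z ∩ f.base ⁻¹' {f.base x}) ⟨x, ⟨hx, rfl⟩⟩ =
              topologicalKrullDim ↥(Z ∩ f.base ⁻¹' {η}))) :=
  ⟨S4933_a f x hmax, S4933_b f x⟩

end Main


end Groth.Agent.Lib.Helper4.UnivOpen1
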