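import Mathlib
import Groth.Prelude.Def_Cyc
import Groth.Agent.Lib.Helper4.JacDim1
import Groth.Prelude.Def_EGA43
import Groth.Agent.Lib.Helper4.FibreStalkDim1
import Groth.Agent.Lib.Helper4.DimFT1
import Groth.Agent.Lib.Helper4.DimFT2
import Groth.Agent.Lib.Helper4.Chev8
import Groth.Agent.Lib.Helper4.FibDim7
import Groth.Agent.Lib.Helper4.EffCartierDim1
import Groth.Agent.Lib.Helper4.JacDim4
import Groth.Agent.Lib.Helper4.Chev9
import Groth.Agent.Lib.Helper4.Chev10
import Groth.Agent.Lib.Helper4.Chev11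
import Groth.Agent.Lib.Helper4.Equi1
import Groth.Agent.Lib.Helper4.Equi2
import Groth.Agent.Lib.Helper4.Equi3
import Groth.Agent.Lib.Helper4.Equi4
import Groth.Agent.Lib.Helper4.Equi5
import Groth.Agent.Lib.Helper4.Equi6
import Groth.Agent.Lib.Helper4.Equi7
import Groth.Agent.Lib.Helper4.Aff1
import Groth.Agent.Lib.Helper4.Aff2
import Groth.Agent.Lib.Helper4.Equi10
import Groth.Agent.Lib.Helper4.Val1
import Groth.Agent.Lib.Helper4.BaseChg1
import Groth.Agent.Lib.Helper4.UnivOpen1
import Groth.Agent.Lib.Helper4.FibClosure1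
import Groth.Agent.Lib.Helper4.OpenNoeth1
import Groth.Agent.Lib.Helper4.SecComp1
import Groth.Prelude.Def_FDesc
import Groth.Prelude.Def_MoreMor

/-!
# Dimension of section components is upper semicontinuous (S4954) (helper4)
-/

set_option backward.isDefEq.respectTransparency.types false
set_option synthInstance.maxHeartbeats 400000
set_option autoImplicit false
set_option linter.unusedSectionVars false
set_option linter.style.haveILetI false
set_option linter.unusedSimpArgs false
universe u v w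
open CategoryTheory CategoryTheory.Limits AlgebraicGeometry TopologicalSpace IsLocalRing Opposite
open Cardinal AffineSpace MvPolynomial
open Groth.Agent.Lib.Helper4.DimIneq1 Groth.Agent.Lib.Helper4.DimFT2 Groth.Agent.Lib.Helper4.Catenary1
open Groth.Agent.Lib.Helper4.DimEq1 Groth.Agent.Lib.Helper4.DimIneq2 Groth.Agent.Lib.Helper4.DimEq2
open Groth.Agent.Lib.Helper4.DimIneq3 Groth.Agent.Lib.Helper4.DimIneq4
open Groth.Agent.Lib.Helper4.NormFibre2 Groth.Agent.Lib.Helper4.RadBir3 Groth.Agent.Lib.Helper4.DimFT3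
open Groth.Agent.Lib.Helper4.FibDim1 Groth.Agent.Lib.Helper4.FibDim2 Groth.Agent.Lib.Helper4.LocUC1
open Groth.Agent.Lib.Helper4.FibDim3 Groth.Agent.Lib.Helper4.FibDim4 Groth.Agent.Lib.Helper4.FibDim5
open Groth.Agent.Lib.Helper4.FibDim6 Groth.Agent.Lib.Helper4.FibDim7 Groth.Agent.Lib.Helper4.JacDim1
open Groth.Agent.Lib.Helper4.DimFT1
open Groth.Agent.Lib.Helper4.Chev2 Groth.Agent.Lib.Helper4.Chev5 Groth.Agent.Lib.Helper4.Chev6 Groth.Agent.Lib.Helper4.Chev8
open Groth.Agent.Lib.Helper4.JacDim4 Groth.Agent.Lib.Helper4.EffCartierDim1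
open Groth.Agent.Lib.Helper4.Chev9 Groth.Agent.Lib.Helper4.Chev4
open Groth.Agent.Lib.Helper4.Chev10 Groth.Agent.Lib.Helper4.Chev11 Groth.Agent.Lib.Helper4.Chev3 Groth.Agent.Lib.Helper4.Equi1 Groth.Agent.Lib.Helper4.Equi2 Groth.Agent.Lib.Helper4.OpenAt1 Groth.Agent.Lib.Helper4.Equi3 Groth.Agent.Lib.Helper4.Equi4 Groth.Agent.Lib.Helper4.Equi5 Groth.Agent.Lib.Helper4.Equi6 Groth.Agent.Lib.Helper4.Equi7 Groth.Agent.Lib.Helper4.Aff1 Groth.Agent.Lib.Helper4.Aff2 Groth.Agent.Lib.Helper4.Equi10 Groth.Agent.Lib.Helper4.Val1 Groth.Agent.Lib.Helper4.BaseChg1 Groth.Agent.Lib.Helper4.UnivOpen1 Groth.Agent.Lib.Helper4.FibClosure1 Groth.Agent.Lib.Helper4.OpenNoeth1 Groth.Agent.Lib.Helper4.SecComp1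

namespace Groth.Agent.Lib.Helper4.SecComp2
open Topology

section Main
variable {X Y : Scheme.{u}} (f : X ⟶ Y) [LocallyOfFiniteType f]

/-- if the connected component of the fibre through the section is irreducible, its dimension is
the local dimension of the fibre at the section -/
theorem dim_sectionComponent_eq_fibreDimAt (g : Y ⟶ X) (hg : g ≫ f = 𝟙 Y) (y : Y)
    (hirr : IsIrreducible (connectedComponentIn (f.base ⁻¹' {y}) (g.base y))) :
    topologicalKrullDim ↥(connectedComponentIn (f.base ⁻¹' {y}) (g.base y)) =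
      FlatMor.fibreDimAt f (g y) := by
  have hfg : ∀ t : Y, f (g t) = t := by
    intro t
    rw [← Scheme.Hom.comp_apply, hg]
    rfl
  have hCy : connectedComponentIn (f.base ⁻¹' {y}) (g.base y) ⊆ f.base ⁻¹' {y} :=
    connectedComponentIn_subset _ _
  have hCmax : ∀ Z' : Set X, IsIrreducible Z' → Z' ⊆ f.base ⁻¹' {y} →
      connectedComponentIn (f.base ⁻¹' {y}) (g.base y) ⊆ Z' →
      Z' = connectedComponentIn (f.base ⁻¹' {y}) (g.base y) := by
    intro Z' hZ'irr hZ'y hsub
    apply subset_antisymm _ hsub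
    apply hZ'irr.isPreirreducible.isPreconnected.subset_connectedComponentIn _ hZ'y
    exact hsub (mem_connectedComponentIn (hfg y))
  obtain ⟨ω, hωy, hωC, hCeq, hωmax⟩ :=
    exists_generic_of_max_irreducible_fiber f y _ hCy hirr hCmax
  obtain ⟨z, hz1, hz2, hz3, hz4⟩ := exists_max_tr_eq_fibreDimAt f (g y)
  have hzy : f z = y := hz1.trans (hfg y)
  have hzC : z ∈ connectedComponentIn (f.base ⁻¹' {y}) (g.base y) := by
    have hsub : closure ({z} : Set X) ∩ f.base ⁻¹' {y} ⊆
        connectedComponentIn (f.base ⁻¹' {y}) (g.base y) := by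
      apply IsPreconnected.subset_connectedComponentIn
      · exact isPreconnected_closure_inter z _ hzy
      · exact ⟨hz2.mem_closure, hfg y⟩
      · exact Set.inter_subset_right
    exact hsub ⟨subset_closure rfl, hzy⟩
  have hωz : ω ⤳ z := by
    rw [hCeq] at hzC
    exact specializes_iff_mem_closure.mpr hzC.1
  have hzω : ω = z := hz3 ω (hωy.trans hzy.symm) hωz
  rw [← hz4, ← hzω]
  have hset : connectedComponentIn (f.base ⁻¹' {y}) (g.base y) =
      f.base ⁻¹' {y} ∩ closure ({ω} : Set X) := by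
    rw [Set.inter_comm]; exact hCeq
  rw [hset]
  apply le_antisymm
  · apply dim_closed_fibre_le f _ isClosed_closure y
    intro ζ hζ hζy
    have h1 : ω ⤳ ζ := specializes_iff_mem_closure.mpr hζ
    have h2 := tr_le_of_specializes f ω ζ h1 (hωy.trans hζy.symm)
    exact_mod_cast h2
  · exact tr_le_dim_closed_fibre f _ isClosed_closure y ω (subset_closure rfl) hωy

theorem upperSemicontinuous_fibreDimAt_comp (g : Y ⟶ X) :
    UpperSemicontinuous (fun y : Y => FlatMor.fibreDimAt f (g y)) := by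
  intro y c hc
  have hopen : IsOpen {z : Y | FlatMor.fibreDimAt f (g z) < c} := by
    have h1 : IsClosed {x : X | c ≤ FlatMor.fibreDimAt f x} := isClosed_setOf_le_fibreDimAt f c
    have h2 : IsOpen (g.base ⁻¹' {x : X | c ≤ FlatMor.fibreDimAt f x}ᶜ) :=
      h1.isOpen_compl.preimage g.continuous
    convert h2 using 1
    ext z
    simp only [Set.mem_ofPred_eq, Set.mem_preimage, Set.mem_compl_iff, not_le]
  exact hopen.mem_nhds hc

end Main

section Geom

theorem bcπ_surjective {k : Type u} [Field k] {X : Scheme.{u}}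
    (f : X ⟶ Spec (CommRingCat.of k)) (K : Type u) [Field K] [Algebra k K] :
    Function.Surjective (FBase.bcπ f K).base := by
  intro x
  obtain ⟨z, hz, -⟩ := Scheme.Pullback.exists_preimage_pullback (f := f)
    (g := Spec.map (CommRingCat.ofHom (algebraMap k K))) x (⊥ : PrimeSpectrum K)
    (Subsingleton.elim (α := PrimeSpectrum k) _ _)
  exact ⟨z, hz⟩

variable {X Y : Scheme.{u}} (f : X ⟶ Y)

/-- the case `K = κ(y)` of geometric irreducibility gives irreducibility -/
theorem isIrreducible_of_geom (y : Y) (C : Set X) (hC : C ⊆ f.base ⁻¹' {y})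
    (h : ∀ (K : Type u) [Field K] [Algebra (IsLocalRing.ResidueField (Y.presheaf.stalk y)) K],
      IsIrreducible ((FBase.bcπ (f.fiberToSpecResidueField y) K ≫ f.fiberι y).base ⁻¹' C)) :
    IsIrreducible C := by
  have h1 := h (IsLocalRing.ResidueField (Y.presheaf.stalk y))
  have hsurj : Function.Surjective (FBase.bcπ (f.fiberToSpecResidueField y)
      (IsLocalRing.ResidueField (Y.presheaf.stalk y))).base :=
    bcπ_surjective (k := IsLocalRing.ResidueField (Y.presheaf.stalk y))
      (f.fiberToSpecResidueField y) (IsLocalRing.ResidueField (Y.presheaf.stalk y))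
  have h2 := h1.image _ ((FBase.bcπ (f.fiberToSpecResidueField y)
      (IsLocalRing.ResidueField (Y.presheaf.stalk y)) ≫ f.fiberι y).continuous.continuousOn)
  rw [Set.image_preimage_eq_inter_range] at h2
  have hrange : Set.range (FBase.bcπ (f.fiberToSpecResidueField y)
      (IsLocalRing.ResidueField (Y.presheaf.stalk y)) ≫ f.fiberι y).base = f.base ⁻¹' {y} := by
    ext x
    constructor
    · rintro ⟨w, rfl⟩
      have : f.fiberι y ((FBase.bcπ (f.fiberToSpecResidueField y)
          (IsLocalRing.ResidueField (Y.presheaf.stalk y))) w) ∈ Set.range (f.fiberι y) := ⟨_, rfl⟩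
      rw [Scheme.Hom.range_fiberι] at this
      exact this
    · intro hx
      rw [← Scheme.Hom.range_fiberι] at hx
      obtain ⟨t, rfl⟩ := hx
      obtain ⟨w, rfl⟩ := hsurj t
      exact ⟨w, rfl⟩
  rw [hrange, Set.inter_eq_left.mpr hC] at h2
  exact h2

end Geom

theorem S4954_main {X Y : Scheme.{u}} (f : X ⟶ Y)
    [LocallyOfFinitePresentation f] [QuasiCompact f] [QuasiSeparated f] (g : Y ⟶ X)
    (hg : g ≫ f = 𝟙 Y)
    (hirr : ∀ y : Y, (∀ (K : Type u) [Field K]
        [Algebra (IsLocalRing.ResidueField (Y.presheaf.stalk y)) K],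
        IsIrreducible ((FBase.bcπ (f.fiberToSpecResidueField y) K ≫ f.fiberι y).base ⁻¹'
          connectedComponentIn (f.base ⁻¹' {y}) (g.base y)))) :
    UpperSemicontinuous (fun y : Y =>
      topologicalKrullDim ↥(connectedComponentIn (f.base ⁻¹' {y}) (g.base y))) := by
  have heq : (fun y : Y =>
      topologicalKrullDim ↥(connectedComponentIn (f.base ⁻¹' {y}) (g.base y))) =
      fun y : Y => FlatMor.fibreDimAt f (g y) := by
    funext y
    apply dim_sectionComponent_eq_fibreDimAt f g hg y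
    exact isIrreducible_of_geom f y _ (connectedComponentIn_subset _ _) (hirr y)
  rw [heq]
  exact upperSemicontinuous_fibreDimAt_comp f g

end Groth.Agent.Lib.Helper4.SecComp2
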