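import Mathlib
import Groth.Prelude.Def_Cyc
import Groth.Agent.Lib.Helper4.JacDim1
import Groth.Prelude.Def_EGA43
import Groth.Agent.Lib.Helper4.FibreStalkDim1
import Groth.Agent.Lib.Helper4.DimFT1
import Groth.Agent.Lib.Helper4.DimFT2
import Groth.Agent.Lib.Helper4.Chev8
import Groth.Agent.Lib.Helper4.FibDim7
import Groth.Agent.Lib.Helper4.EffCartierDim1
import Groth.Agent.Lib.Helper4.JacDim4
import Groth.Agent.Lib.Helper4.Chev9
import Groth.Agent.Lib.Helper4.Chev10
import Groth.Agent.Lib.Helper4.Chev11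
import Groth.Agent.Lib.Helper4.Equi1
import Groth.Agent.Lib.Helper4.Equi2
import Groth.Agent.Lib.Helper4.Equi3
import Groth.Agent.Lib.Helper4.Equi4
import Groth.Agent.Lib.Helper4.Equi5
import Groth.Agent.Lib.Helper4.Equi6
import Groth.Agent.Lib.Helper4.Equi7
import Groth.Agent.Lib.Helper4.Aff1
import Groth.Agent.Lib.Helper4.Aff2
import Groth.Agent.Lib.Helper4.Equi10
import Groth.Agent.Lib.Helper4.Val1
import Groth.Agent.Lib.Helper4.BaseChg1
import Groth.Agent.Lib.Helper4.UnivOpen1
import Groth.Agent.Lib.Helper4.FibClosure1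
import Groth.Agent.Lib.Helper4.OpenNoeth1
import Groth.Agent.Lib.Helper4.SecComp1
import Groth.Agent.Lib.Helper4.SecComp2
import Groth.Agent.Lib.Helper4.UnivOpen2
import Groth.Prelude.Def_FDesc
import Groth.Prelude.Def_MoreMor

/-!
# Constant dimension of section components implies universally open (S3458) (helper4)
-/

set_option backward.isDefEq.respectTransparency.types false
set_option synthInstance.maxHeartbeats 400000
set_option autoImplicit false
set_option linter.unusedSectionVars false
set_option linter.style.haveILetI false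
set_option linter.unusedSimpArgs false
universe u v w
open CategoryTheory CategoryTheory.Limits AlgebraicGeometry TopologicalSpace IsLocalRing Opposite
open Cardinal AffineSpace MvPolynomial
open Groth.Agent.Lib.Helper4.DimIneq1 Groth.Agent.Lib.Helper4.DimFT2 Groth.Agent.Lib.Helper4.Catenary1
open Groth.Agent.Lib.Helper4.DimEq1 Groth.Agent.Lib.Helper4.DimIneq2 Groth.Agent.Lib.Helper4.DimEq2
open Groth.Agent.Lib.Helper4.DimIneq3 Groth.Agent.Lib.Helper4.DimIneq4
open Groth.Agent.Lib.Helper4.NormFibre2 Groth.Agent.Lib.Helper4.RadBir3 Groth.Agent.Lib.Helper4.DimFT3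
open Groth.Agent.Lib.Helper4.FibDim1 Groth.Agent.Lib.Helper4.FibDim2 Groth.Agent.Lib.Helper4.LocUC1
open Groth.Agent.Lib.Helper4.FibDim3 Groth.Agent.Lib.Helper4.FibDim4 Groth.Agent.Lib.Helper4.FibDim5
open Groth.Agent.Lib.Helper4.FibDim6 Groth.Agent.Lib.Helper4.FibDim7 Groth.Agent.Lib.Helper4.JacDim1
open Groth.Agent.Lib.Helper4.DimFT1
open Groth.Agent.Lib.Helper4.Chev2 Groth.Agent.Lib.Helper4.Chev5 Groth.Agent.Lib.Helper4.Chev6 Groth.Agent.Lib.Helper4.Chev8
open Groth.Agent.Lib.Helper4.JacDim4 Groth.Agent.Lib.Helper4.EffCartierDim1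
open Groth.Agent.Lib.Helper4.Chev9 Groth.Agent.Lib.Helper4.Chev4
open Groth.Agent.Lib.Helper4.Chev10 Groth.Agent.Lib.Helper4.Chev11 Groth.Agent.Lib.Helper4.Chev3 Groth.Agent.Lib.Helper4.Equi1 Groth.Agent.Lib.Helper4.Equi2 Groth.Agent.Lib.Helper4.OpenAt1 Groth.Agent.Lib.Helper4.Equi3 Groth.Agent.Lib.Helper4.Equi4 Groth.Agent.Lib.Helper4.Equi5 Groth.Agent.Lib.Helper4.Equi6 Groth.Agent.Lib.Helper4.Equi7 Groth.Agent.Lib.Helper4.Aff1 Groth.Agent.Lib.Helper4.Aff2 Groth.Agent.Lib.Helper4.Equi10 Groth.Agent.Lib.Helper4.Val1 Groth.Agent.Lib.Helper4.BaseChg1 Groth.Agent.Lib.Helper4.UnivOpen1 Groth.Agent.Lib.Helper4.FibClosure1 Groth.Agent.Lib.Helper4.OpenNoeth1 Groth.Agent.Lib.Helper4.SecComp1 Groth.Agent.Lib.Helper4.SecComp2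

namespace Groth.Agent.Lib.Helper4.SecComp3
open Topology

section BC
variable {X Y Y' : Scheme.{u}} (f : X ⟶ Y) (c : Y' ⟶ Y)

/-- geometric irreducibility passes to the fibres of a base change -/
theorem isIrreducible_preimage_of_bc' (t : Y') (C : Set X)
    (h : IsIrreducible ((pullback.fst (f.fiberToSpecResidueField (c t))
      (Spec.map (c.residueFieldMap t)) ≫ f.fiberι (c t)).base ⁻¹' C)) :
    IsIrreducible ((pullback.fst f c).base ⁻¹' C ∩ (pullback.snd f c).base ⁻¹' {t}) := by
  have hpb := isPullback_fibreMap f c t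
  obtain ⟨e, he⟩ : ∃ e : (pullback.snd f c).fiber t ≅ pullback (f.fiberToSpecResidueField (c t))
      (Spec.map (c.residueFieldMap t)), e = hpb.isoPullback := ⟨_, rfl⟩
  have he1 : e.inv ≫ fibreMap f c t = pullback.fst (f.fiberToSpecResidueField (c t))
      (Spec.map (c.residueFieldMap t)) := by
    rw [he]; exact hpb.isoPullback_inv_fst
  obtain ⟨θ, hθ⟩ : ∃ θ : pullback (f.fiberToSpecResidueField (c t))
      (Spec.map (c.residueFieldMap t)) ⟶ pullback f c,
      θ = e.inv ≫ (pullback.snd f c).fiberι t := ⟨_, rfl⟩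
  have hθfst : θ ≫ pullback.fst f c = pullback.fst (f.fiberToSpecResidueField (c t))
      (Spec.map (c.residueFieldMap t)) ≫ f.fiberι (c t) := by
    rw [hθ, Category.assoc, ← fibreMap_fiberι, ← Category.assoc, he1]
  have hθsnd : ∀ w, pullback.snd f c (θ w) = t := by
    intro w
    have : θ w ∈ Set.range ((pullback.snd f c).fiberι t) := by
      rw [hθ, Scheme.Hom.comp_apply]; exact ⟨_, rfl⟩
    rw [Scheme.Hom.range_fiberι] at this
    exact this
  have himg : (pullback.fst f c).base ⁻¹' C ∩ (pullback.snd f c).base ⁻¹' {t} =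
      θ.base '' ((pullback.fst (f.fiberToSpecResidueField (c t))
      (Spec.map (c.residueFieldMap t)) ≫ f.fiberι (c t)).base ⁻¹' C) := by
    ext x'
    constructor
    · rintro ⟨h1, h2⟩
      have h3 : x' ∈ Set.range ((pullback.snd f c).fiberι t) := by
        rw [Scheme.Hom.range_fiberι]; exact h2
      obtain ⟨u, rfl⟩ := h3
      refine ⟨e.hom u, ?_, ?_⟩
      · change (pullback.fst (f.fiberToSpecResidueField (c t))
          (Spec.map (c.residueFieldMap t)) ≫ f.fiberι (c t)) (e.hom u) ∈ C
        rw [← hθfst, hθ, Scheme.Hom.comp_apply, Scheme.Hom.comp_apply, ← Scheme.Hom.comp_apply e.hom,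
          e.hom_inv_id]
        exact h1
      · rw [hθ, Scheme.Hom.comp_apply, ← Scheme.Hom.comp_apply e.hom, e.hom_inv_id]
        rfl
    · rintro ⟨w, hw, rfl⟩
      refine ⟨?_, hθsnd w⟩
      change pullback.fst f c (θ w) ∈ C
      rw [← Scheme.Hom.comp_apply, hθfst]
      exact hw
  rw [himg]
  exact h.image _ θ.continuous.continuousOn

theorem isIrreducible_preimage_of_bc (t : Y') (C : Set X)
    (φ : Y.residueField (c t) ⟶ Y'.residueField t) (hφ : φ = c.residueFieldMap t)
    (h : IsIrreducible ((pullback.fst (f.fiberToSpecResidueField (c t))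
      (Spec.map φ) ≫ f.fiberι (c t)).base ⁻¹' C)) :
    IsIrreducible ((pullback.fst f c).base ⁻¹' C ∩ (pullback.snd f c).base ⁻¹' {t}) := by
  subst hφ
  exact isIrreducible_preimage_of_bc' f c t C h

end BC


open Topology

section Stub
variable {X Y Y' : Scheme.{u}} (f : X ⟶ Y) (c : Y' ⟶ Y)

end Stub

section Gen
variable {X Y : Scheme.{u}} (f : X ⟶ Y) [LocallyOfFiniteType f]

/-- generic point of an irreducible section component -/
theorem exists_generic_sectionComp (g : Y ⟶ X) (hg : g ≫ f = 𝟙 Y) (y : Y)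
    (hirr : IsIrreducible (connectedComponentIn (f.base ⁻¹' {y}) (g.base y))) :
    ∃ ω : X, f ω = y ∧ ω ∈ connectedComponentIn (f.base ⁻¹' {y}) (g.base y) ∧
      connectedComponentIn (f.base ⁻¹' {y}) (g.base y) = closure ({ω} : Set X) ∩ f.base ⁻¹' {y} ∧
      topologicalKrullDim ↥(connectedComponentIn (f.base ⁻¹' {y}) (g.base y)) =
        ((tr f ω : ℕ) : WithBot ℕ∞) := by
  have hfg : ∀ t : Y, f (g t) = t := by
    intro t
    rw [← Scheme.Hom.comp_apply, hg]
    rfl
  have hCy : connectedComponentIn (f.base ⁻¹' {y}) (g.base y) ⊆ f.base ⁻¹' {y} :=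
    connectedComponentIn_subset _ _
  have hCmax : ∀ Z' : Set X, IsIrreducible Z' → Z' ⊆ f.base ⁻¹' {y} →
      connectedComponentIn (f.base ⁻¹' {y}) (g.base y) ⊆ Z' →
      Z' = connectedComponentIn (f.base ⁻¹' {y}) (g.base y) := by
    intro Z' hZ'irr hZ'y hsub
    apply subset_antisymm _ hsub
    apply hZ'irr.isPreirreducible.isPreconnected.subset_connectedComponentIn _ hZ'y
    exact hsub (mem_connectedComponentIn (hfg y))
  obtain ⟨ω, hωy, hωC, hCeq, hωmax⟩ :=
    exists_generic_of_max_irreducible_fiber f y _ hCy hirr hCmax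
  refine ⟨ω, hωy, hωC, hCeq, ?_⟩
  have hset : connectedComponentIn (f.base ⁻¹' {y}) (g.base y) =
      f.base ⁻¹' {y} ∩ closure ({ω} : Set X) := by
    rw [Set.inter_comm]; exact hCeq
  rw [hset]
  apply le_antisymm
  · apply dim_closed_fibre_le f _ isClosed_closure y
    intro ζ hζ hζy
    have h1 : ω ⤳ ζ := specializes_iff_mem_closure.mpr hζ
    have h2 := tr_le_of_specializes f ω ζ h1 (hωy.trans hζy.symm)
    exact_mod_cast h2
  · exact tr_le_dim_closed_fibre f _ isClosed_closure y ω (subset_closure rfl) hωy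

end Gen

section BC2
variable {X Y Y' : Scheme.{u}} (f : X ⟶ Y) [LocallyOfFiniteType f] (c : Y' ⟶ Y)
  (g : Y ⟶ X) (hg : g ≫ f = 𝟙 Y)

/-- the induced section of the base change -/
noncomputable def bcSection : Y' ⟶ pullback f c :=
  pullback.lift (c ≫ g) (𝟙 Y') (by rw [Category.assoc, hg, Category.comp_id, Category.id_comp])

theorem bcSection_snd : bcSection f c g hg ≫ pullback.snd f c = 𝟙 Y' :=
  pullback.lift_snd _ _ _

theorem bcSection_fst : bcSection f c g hg ≫ pullback.fst f c = c ≫ g :=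
  pullback.lift_fst _ _ _

theorem sectionComp_bc_eq (t : Y')
    (hirr : IsIrreducible ((pullback.fst f c).base ⁻¹'
      (connectedComponentIn (f.base ⁻¹' {c t}) (g.base (c t))) ∩
      (pullback.snd f c).base ⁻¹' {t})) :
    connectedComponentIn ((pullback.snd f c).base ⁻¹' {t}) ((bcSection f c g hg).base t) =
      (pullback.fst f c).base ⁻¹' (connectedComponentIn (f.base ⁻¹' {c t}) (g.base (c t))) ∩
        (pullback.snd f c).base ⁻¹' {t} := by
  have hfg : ∀ s : Y, f (g s) = s := by
    intro s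
    rw [← Scheme.Hom.comp_apply, hg]
    rfl
  have h1 : pullback.fst f c (bcSection f c g hg t) = g (c t) := by
    rw [← Scheme.Hom.comp_apply, bcSection_fst, Scheme.Hom.comp_apply]
  have h2 : pullback.snd f c (bcSection f c g hg t) = t := by
    rw [← Scheme.Hom.comp_apply, bcSection_snd]
    rfl
  have hcond : ∀ a : ↥(pullback f c), f (pullback.fst f c a) = c (pullback.snd f c a) := by
    intro a
    rw [← Scheme.Hom.comp_apply, pullback.condition, Scheme.Hom.comp_apply]
  apply subset_antisymm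
  · intro a ha
    have hat : a ∈ (pullback.snd f c).base ⁻¹' {t} := connectedComponentIn_subset _ _ ha
    refine ⟨?_, hat⟩
    have hpre : _root_.IsPreconnected ((pullback.fst f c).base ''
        connectedComponentIn ((pullback.snd f c).base ⁻¹' {t}) ((bcSection f c g hg).base t)) :=
      isPreconnected_connectedComponentIn.image _ (pullback.fst f c).continuous.continuousOn
    have hsub := hpre.subset_connectedComponentIn (x := g.base (c t)) (F := f.base ⁻¹' {c t})
      ⟨_, mem_connectedComponentIn h2, h1⟩ (by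
        rintro _ ⟨b, hb, rfl⟩
        have hbt : b ∈ (pullback.snd f c).base ⁻¹' {t} := connectedComponentIn_subset _ _ hb
        have hbt' : pullback.snd f c b = t := hbt
        change f (pullback.fst f c b) = c t
        rw [hcond, hbt'])
    exact hsub ⟨a, ha, rfl⟩
  · apply hirr.isPreirreducible.isPreconnected.subset_connectedComponentIn
    · refine ⟨?_, h2⟩
      show pullback.fst f c (bcSection f c g hg t) ∈
        connectedComponentIn (f.base ⁻¹' {c t}) (g.base (c t))
      rw [h1]
      exact mem_connectedComponentIn (hfg (c t))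
    · exact Set.inter_subset_right

theorem dim_sectionComp_bc_eq (t : Y')
    (hirr : IsIrreducible (connectedComponentIn (f.base ⁻¹' {c t}) (g.base (c t))))
    (hirr' : IsIrreducible ((pullback.fst f c).base ⁻¹'
      (connectedComponentIn (f.base ⁻¹' {c t}) (g.base (c t))) ∩
      (pullback.snd f c).base ⁻¹' {t})) :
    topologicalKrullDim ↥(connectedComponentIn ((pullback.snd f c).base ⁻¹' {t})
      ((bcSection f c g hg).base t)) =
    topologicalKrullDim ↥(connectedComponentIn (f.base ⁻¹' {c t}) (g.base (c t))) := by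
  have heq := sectionComp_bc_eq f c g hg t hirr'
  have hirr'' : IsIrreducible (connectedComponentIn ((pullback.snd f c).base ⁻¹' {t})
      ((bcSection f c g hg).base t)) := by rw [heq]; exact hirr'
  obtain ⟨ω, hω1, hω2, hω3, hω4⟩ := exists_generic_sectionComp f g hg (c t) hirr
  obtain ⟨ω', hω'1, hω'2, hω'3, hω'4⟩ := exists_generic_sectionComp (pullback.snd f c)
    (bcSection f c g hg) (bcSection_snd f c g hg) t hirr''
  rw [hω4, hω'4]
  have hcond : ∀ a : ↥(pullback f c), f (pullback.fst f c a) = c (pullback.snd f c a) := by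
    intro a
    rw [← Scheme.Hom.comp_apply, pullback.condition, Scheme.Hom.comp_apply]
  have hle : tr (pullback.snd f c) ω' ≤ tr f ω := by
    refine (tr_snd_le f c ω').trans ?_
    have hmem : pullback.fst f c ω' ∈ connectedComponentIn (f.base ⁻¹' {c t}) (g.base (c t)) := by
      rw [heq] at hω'2
      exact hω'2.1
    rw [hω3] at hmem
    have hsp : ω ⤳ pullback.fst f c ω' := specializes_iff_mem_closure.mpr hmem.1
    exact tr_le_of_specializes f ω _ hsp (hω1.trans hmem.2.symm)
  have hge : tr f ω ≤ tr (pullback.snd f c) ω' := by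
    obtain ⟨w, hw1, hw2, hw3⟩ := exists_tr_snd_ge f c ω t hω1
    refine hw3.trans ?_
    have hmem : w ∈ connectedComponentIn ((pullback.snd f c).base ⁻¹' {t})
        ((bcSection f c g hg).base t) := by
      rw [heq]
      refine ⟨?_, hw2⟩
      show pullback.fst f c w ∈ connectedComponentIn (f.base ⁻¹' {c t}) (g.base (c t))
      rw [hw1]
      exact hω2
    rw [hω'3] at hmem
    have hsp : ω' ⤳ w := specializes_iff_mem_closure.mpr hmem.1
    exact tr_le_of_specializes (pullback.snd f c) ω' w hsp (hω'1.trans hw2.symm)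
  have : tr (pullback.snd f c) ω' = tr f ω := le_antisymm hle hge
  rw [this]

end BC2


open Topology

section Stub
variable {X Y Y' : Scheme.{u}} (f : X ⟶ Y) (c : Y' ⟶ Y)

end Stub

section Gen
variable {X Y : Scheme.{u}} (f : X ⟶ Y) [LocallyOfFiniteType f]

end Gen

section BC2
variable {X Y Y' : Scheme.{u}} (f : X ⟶ Y) [LocallyOfFiniteType f] (c : Y' ⟶ Y)
  (g : Y ⟶ X) (hg : g ≫ f = 𝟙 Y)

end BC2

theorem S3458_main {X Y : Scheme.{u}} [IsLocallyNoetherian Y]
    (f : X ⟶ Y) [LocallyOfFiniteType f] (g : Y ⟶ X) (hg : g ≫ f = 𝟙 Y)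
    (hgi : ∀ (y : Y) (K : Type u) [Field K]
      [Algebra (IsLocalRing.ResidueField (Y.presheaf.stalk y)) K],
      IsIrreducible ((FBase.bcπ (f.fiberToSpecResidueField y) K ≫ f.fiberι y).base ⁻¹'
        (connectedComponentIn (f.base ⁻¹' {y}) (g.base y))))
    (y : Y)
    (hc : ∃ V ∈ nhds y, ∀ z ∈ V,
      topologicalKrullDim ↥(connectedComponentIn (f.base ⁻¹' {z}) (g.base z)) =
        topologicalKrullDim ↥(connectedComponentIn (f.base ⁻¹' {y}) (g.base y))) :
    ∀ x ∈ connectedComponentIn (f.base ⁻¹' {y}) (g.base y), EGA43.IsUnivOpenAt f x := by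
  have hirrY : ∀ y : Y, IsIrreducible (connectedComponentIn (f.base ⁻¹' {y}) (g.base y)) :=
    fun y => isIrreducible_of_geom f y _ (connectedComponentIn_subset _ _) (hgi y)
  have hirrBC : ∀ (Y' : Scheme.{u}) (c : Y' ⟶ Y) (t : Y'),
      IsIrreducible ((pullback.fst f c).base ⁻¹'
        (connectedComponentIn (f.base ⁻¹' {c t}) (g.base (c t))) ∩
        (pullback.snd f c).base ⁻¹' {t}) := by
    intro Y' c t
    letI alg : Algebra (IsLocalRing.ResidueField (Y.presheaf.stalk (c t))) (Y'.residueField t) :=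
      (c.residueFieldMap t).hom.toAlgebra
    have h := hgi (c t) (Y'.residueField t)
    unfold FBase.bcπ at h
    have e1 : CommRingCat.ofHom (algebraMap (IsLocalRing.ResidueField (Y.presheaf.stalk (c t)))
        (Y'.residueField t)) = c.residueFieldMap t := rfl
    exact isIrreducible_preimage_of_bc f c t _ _ e1 h
  intro x hx
  have hxy' : x ∈ f.base ⁻¹' {y} := connectedComponentIn_subset _ _ hx
  have hxy : f.base x = y := hxy'
  clear hxy'
  subst hxy
  apply Groth.Agent.Lib.Helper4.UOp.isUnivOpenAt_of_dvr f x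
  intro A _ _ _ c hcs x' hx' hx's
  obtain ⟨V, hV, hVd⟩ := hc
  obtain ⟨s, hs⟩ : ∃ s : ↥(Spec (CommRingCat.of A)), s = IsLocalRing.closedPoint A := ⟨_, rfl⟩
  obtain ⟨η, hη⟩ : ∃ η : ↥(Spec (CommRingCat.of A)),
      η = (⟨⊥, Ideal.isPrime_bot⟩ : PrimeSpectrum A) := ⟨_, rfl⟩
  have hηs : η ⤳ s := by
    rw [hη]; exact Groth.Agent.Lib.Helper4.UOp.dvr_bot_specializes A s
  have hηne : η ≠ IsLocalRing.closedPoint A := by
    rw [hη]; exact Groth.Agent.Lib.Helper4.UOp.dvr_bot_ne_closedPoint A
  rw [← hs] at hcs hx's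
  have hcηV : c η ∈ V := by
    obtain ⟨O, hOV, hO, hyO⟩ := mem_nhds_iff.mp hV
    apply hOV
    have hsp : c η ⤳ c s := hηs.map c.continuous
    rw [hcs] at hsp
    exact hsp.mem_open hO hyO
  have hds := dim_sectionComp_bc_eq f c g hg s (hirrY (c s)) (hirrBC _ c s)
  have hdη := dim_sectionComp_bc_eq f c g hg η (hirrY (c η)) (hirrBC _ c η)
  have heqs := sectionComp_bc_eq f c g hg s (hirrBC _ c s)
  have heqη := sectionComp_bc_eq f c g hg η (hirrBC _ c η)
  have hirr's : IsIrreducible (connectedComponentIn ((pullback.snd f c).base ⁻¹' {s})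
      ((bcSection f c g hg).base s)) := by rw [heqs]; exact hirrBC _ c s
  have hirr'η : IsIrreducible (connectedComponentIn ((pullback.snd f c).base ⁻¹' {η})
      ((bcSection f c g hg).base η)) := by rw [heqη]; exact hirrBC _ c η
  have hg'η : pullback.snd f c (bcSection f c g hg η) = η := by
    rw [← Scheme.Hom.comp_apply, bcSection_snd]
    rfl
  have hdim : topologicalKrullDim ↥(connectedComponentIn ((pullback.snd f c).base ⁻¹' {s})
      ((bcSection f c g hg).base s)) =
      topologicalKrullDim ↥(connectedComponentIn ((pullback.snd f c).base ⁻¹' {η})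
      ((bcSection f c g hg).base η)) := by
    rw [hds, hdη, hVd (c η) hcηV, hcs]
  have hZ : ∃ Z : Set ↥(pullback f c), Z ⊆ (pullback.snd f c).base ⁻¹' {η} ∧ IsIrreducible Z ∧
      (∀ Z' : Set ↥(pullback f c), IsIrreducible Z' → Z' ⊆ (pullback.snd f c).base ⁻¹' {η} →
        Z ⊆ Z' → Z' = Z) ∧ (bcSection f c g hg).base η ∈ Z ∧
      topologicalKrullDim ↥Z = topologicalKrullDim ↥(connectedComponentIn
        ((pullback.snd f c).base ⁻¹' {η}) ((bcSection f c g hg).base η)) := by
    refine ⟨_, connectedComponentIn_subset _ _, hirr'η, ?_, mem_connectedComponentIn hg'η, rfl⟩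
    intro Z' hZ'irr hZ'y hsub
    apply subset_antisymm _ hsub
    apply hZ'irr.isPreirreducible.isPreconnected.subset_connectedComponentIn _ hZ'y
    exact hsub (mem_connectedComponentIn hg'η)
  have hmain := (S4952_main (pullback.snd f c) (bcSection f c g hg) (bcSection_snd f c g hg)
    s η hηs hZ).2 hirr's hdim
  have hx'mem : x' ∈ connectedComponentIn ((pullback.snd f c).base ⁻¹' {s})
      ((bcSection f c g hg).base s) := by
    rw [heqs]
    refine ⟨?_, hx's⟩
    show pullback.fst f c x' ∈ connectedComponentIn (f.base ⁻¹' {c s}) (g.base (c s))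
    rw [hx', hcs]
    exact hx
  obtain ⟨ω', hω'1, hω'2, hω'3, -⟩ := exists_generic_sectionComp (pullback.snd f c)
    (bcSection f c g hg) (bcSection_snd f c g hg) η hirr'η
  refine ⟨ω', ?_, ?_⟩
  · apply specializes_iff_mem_closure.mpr
    have h1 := hmain hx'mem
    rw [hω'3] at h1
    exact (closure_minimal Set.inter_subset_left isClosed_closure) h1
  · rw [hω'1]
    exact hηne


end Groth.Agent.Lib.Helper4.SecComp3
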