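import Mathlib
import Groth.Prelude.Def_Cyc
import Groth.Agent.Lib.Helper4.JacDim1
import Groth.Prelude.Def_EGA43
import Groth.Agent.Lib.Helper4.FibreStalkDim1
import Groth.Agent.Lib.Helper4.DimFT1
import Groth.Agent.Lib.Helper4.DimFT2
import Groth.Agent.Lib.Helper4.Chev8
import Groth.Agent.Lib.Helper4.FibDim7
import Groth.Agent.Lib.Helper4.EffCartierDim1
import Groth.Agent.Lib.Helper4.JacDim4
import Groth.Agent.Lib.Helper4.Chev9
import Groth.Agent.Lib.Helper4.Chev10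
import Groth.Agent.Lib.Helper4.Chev11
import Groth.Agent.Lib.Helper4.Equi1
import Groth.Agent.Lib.Helper4.Equi2
import Groth.Agent.Lib.Helper4.Equi3
import Groth.Agent.Lib.Helper4.Equi4
import Groth.Agent.Lib.Helper4.Equi5
import Groth.Agent.Lib.Helper4.Equi6
import Groth.Agent.Lib.Helper4.Equi7
import Groth.Agent.Lib.Helper4.Aff1
import Groth.Agent.Lib.Helper4.Aff2
import Groth.Agent.Lib.Helper4.Equi10
import Groth.Agent.Lib.Helper4.Val1
import Groth.Agent.Lib.Helper4.BaseChg1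
import Groth.Agent.Lib.Helper4.UnivOpen1
import Groth.Agent.Lib.Helper4.FibClosure1
import Groth.Agent.Lib.Helper4.OpenNoeth1
import Groth.Agent.Lib.Helper4.SecComp1
import Groth.Agent.Lib.Helper4.SecComp2
import Groth.Agent.Lib.Helper4.UnivOpen2
import Groth.Agent.Lib.Helper4.UnivOpenAt
import Groth.Agent.Lib.Helper4.RegularLocalCopy
import Groth.Agent.Lib.Helper4.ZMTNormalPt1
import Groth.Agent.Lib.Helper4.LocFinComp1
import Groth.Agent.Lib.Helper4.SecComp3
import Groth.Agent.Lib.Helper4.PropDim1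
import Groth.Prelude.Def_FDesc
import Groth.Prelude.Def_MoreMor
import Groth.Agent.Lib.Helper4.ChevCrit1
import Groth.Agent.Lib.Helper4.ChevCrit2
import Groth.Agent.Lib.Helper4.ChevCrit3
import Groth.Agent.Lib.Helper4.IrrCompDomain1

/-!
# Chevalley's criterion for universal openness at a point over a geometrically unibranch point (S4934) (helper4)
-/

set_option backward.isDefEq.respectTransparency.types false
set_option synthInstance.maxHeartbeats 400000
set_option autoImplicit false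
set_option linter.unusedSectionVars false
set_option linter.style.haveILetI false
set_option linter.unusedSimpArgs false
universe u v w
open CategoryTheory CategoryTheory.Limits AlgebraicGeometry TopologicalSpace IsLocalRing Opposite
open Cardinal AffineSpace MvPolynomial
open Groth.Agent.Lib.Helper4.DimIneq1 Groth.Agent.Lib.Helper4.DimFT2 Groth.Agent.Lib.Helper4.Catenary1
open Groth.Agent.Lib.Helper4.DimEq1 Groth.Agent.Lib.Helper4.DimIneq2 Groth.Agent.Lib.Helper4.DimEq2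
open Groth.Agent.Lib.Helper4.DimIneq3 Groth.Agent.Lib.Helper4.DimIneq4
open Groth.Agent.Lib.Helper4.NormFibre2 Groth.Agent.Lib.Helper4.RadBir3 Groth.Agent.Lib.Helper4.DimFT3
open Groth.Agent.Lib.Helper4.FibDim1 Groth.Agent.Lib.Helper4.FibDim2 Groth.Agent.Lib.Helper4.LocUC1
open Groth.Agent.Lib.Helper4.FibDim3 Groth.Agent.Lib.Helper4.FibDim4 Groth.Agent.Lib.Helper4.FibDim5
open Groth.Agent.Lib.Helper4.FibDim6 Groth.Agent.Lib.Helper4.FibDim7 Groth.Agent.Lib.Helper4.JacDim1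
open Groth.Agent.Lib.Helper4.DimFT1
open Groth.Agent.Lib.Helper4.Chev2 Groth.Agent.Lib.Helper4.Chev5 Groth.Agent.Lib.Helper4.Chev6 Groth.Agent.Lib.Helper4.Chev8
open Groth.Agent.Lib.Helper4.JacDim4 Groth.Agent.Lib.Helper4.EffCartierDim1
open Groth.Agent.Lib.Helper4.Chev9 Groth.Agent.Lib.Helper4.Chev4
open Groth.Agent.Lib.Helper4.Chev10 Groth.Agent.Lib.Helper4.Chev11 Groth.Agent.Lib.Helper4.Chev3 Groth.Agent.Lib.Helper4.Equi1 Groth.Agent.Lib.Helper4.Equi2 Groth.Agent.Lib.Helper4.OpenAt1 Groth.Agent.Lib.Helper4.Equi3 Groth.Agent.Lib.Helper4.Equi4 Groth.Agent.Lib.Helper4.Equi5 Groth.Agent.Lib.Helper4.Equi6 Groth.Agent.Lib.Helper4.Equi7 Groth.Agent.Lib.Helper4.Aff1 Groth.Agent.Lib.Helper4.Aff2 Groth.Agent.Lib.Helper4.Equi10 Groth.Agent.Lib.Helper4.Val1 Groth.Agent.Lib.Helper4.BaseChg1 Groth.Agent.Lib.Helper4.UnivOpen1 Groth.Agent.Lib.Helper4.FibClosure1 Groth.Agent.Lib.Helper4.OpenNoeth1 Groth.Agent.Lib.Helper4.SecComp1 Groth.Agent.Lib.Helper4.SecComp2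
open Groth.Agent.Lib.Helper4.SecComp3 Groth.Agent.Lib.Helper4.PropDim1 Groth.Agent.Lib.Helper4.ZMTNormalPt1 Groth.Agent.Lib.Helper4.UO Groth.Agent.Lib.Helper4.UOp
open Groth.Agent.Lib.Helper4.ChevCrit1 Groth.Agent.Lib.Helper4.ChevCrit2 Groth.Agent.Lib.Helper4.ChevCrit3
open Groth.Agent.Lib.Helper4.IrrCompDomain1 Groth.Agent.Lib.Helper4.RadBir1

namespace Groth.Agent.Lib.Helper4.ChevCrit4

open Groth.Agent.Lib.Helper4.RadBir1 in
theorem isGeomUnibranch_of_ringEquiv {A A' : Type u} [CommRing A] [CommRing A'] [IsLocalRing A]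
    [IsLocalRing A'] (e : A ≃+* A') (h : CAlg2.IsGeomUnibranch A) : CAlg2.IsGeomUnibranch A' := by
  have hdom : IsDomain (CAlg2.red A) := h.1.1
  haveI : IsLocalization.AtPrime A (maximalIdeal A) := by
    have : (maximalIdeal A).primeCompl ≤ IsUnit.submonoid A := by
      intro a ha
      exact (IsLocalRing.notMem_maximalIdeal.mp ha)
    exact IsLocalization.of_le_isUnit this
  letI : Algebra A A' := e.toRingHom.toAlgebra
  haveI : IsLocalization.AtPrime A' (maximalIdeal A) :=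
    IsLocalization.isLocalization_of_algEquiv (maximalIdeal A).primeCompl
      ({ e with commutes' := fun _ => rfl } : A ≃ₐ[A] A')
  obtain ⟨P₀, hP₀, hP₀p, hmin⟩ := exists_min_of_isDomain_red (maximalIdeal A) A hdom
  haveI := hP₀
  have h1 := isGeomUnibranch_iff_gen (maximalIdeal A) P₀ hP₀p hmin A
    (K := FractionRing (A ⧸ P₀)) (N := integralClosure (A ⧸ P₀) (FractionRing (A ⧸ P₀)))
    Subtype.val_injective (fun z hz => ⟨⟨z, hz⟩, rfl⟩)
  have h2 := isGeomUnibranch_iff_gen (maximalIdeal A) P₀ hP₀p hmin A'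
    (K := FractionRing (A ⧸ P₀)) (N := integralClosure (A ⧸ P₀) (FractionRing (A ⧸ P₀)))
    Subtype.val_injective (fun z hz => ⟨⟨z, hz⟩, rfl⟩)
  exact h2.2 (h1.1 h)



/-- Lemma (G): a point of affine space over `S` of maximal transcendence degree over its image is
the generic point of the preimage of the closure of its image. -/
theorem specializes_of_tr_eq_affineSpace (n : Type u) [Finite n] (S : Scheme.{u}) (ξ : 𝔸(n; S))
    (htr : (tr (𝔸(n; S) ↘ S) ξ : Cardinal.{u}) = #n) (t : 𝔸(n; S))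
    (ht : (𝔸(n; S) ↘ S).base ξ ⤳ (𝔸(n; S) ↘ S).base t) : ξ ⤳ t := by
  have hopen : IsOpenMap (𝔸(n; S) ↘ S).base := isOpenMap_over S
  have hirr : IsIrreducible ((𝔸(n; S) ↘ S).base ⁻¹' closure {(𝔸(n; S) ↘ S).base ξ}) :=
    (𝔸(n; S) ↘ S).isIrreducible_preimage hopen isIrreducible_singleton.closure
  have hcl : IsClosed ((𝔸(n; S) ↘ S).base ⁻¹' closure {(𝔸(n; S) ↘ S).base ξ}) :=
    isClosed_closure.preimage (𝔸(n; S) ↘ S).continuous
  obtain ⟨ξ', hξ'⟩ := QuasiSober.sober hirr hcl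
  have hξmem : ξ ∈ (𝔸(n; S) ↘ S).base ⁻¹' closure {(𝔸(n; S) ↘ S).base ξ} := subset_closure rfl
  have hsp : ξ' ⤳ ξ := by
    rw [specializes_iff_mem_closure, hξ'.def]; exact hξmem
  have hξ'mem : ξ' ∈ (𝔸(n; S) ↘ S).base ⁻¹' closure {(𝔸(n; S) ↘ S).base ξ} := hξ'.mem
  have hq' : (𝔸(n; S) ↘ S).base ξ' = (𝔸(n; S) ↘ S).base ξ := by
    apply ((hsp.map (𝔸(n; S) ↘ S).continuous).antisymm ?_).eq
    rw [specializes_iff_mem_closure]; exact hξ'mem
  have heq : ξ' = ξ := by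
    by_contra hne
    have h2 := tr_lt_of_specializes (𝔸(n; S) ↘ S) ξ' ξ hsp hne hq'
    have h3 : (tr (𝔸(n; S) ↘ S) ξ' : Cardinal.{u}) ≤ #n := (tr_affineSpace n S ξ').1
    have h4 : (tr (𝔸(n; S) ↘ S) ξ : Cardinal.{u}) < (tr (𝔸(n; S) ↘ S) ξ' : Cardinal.{u}) := by
      exact_mod_cast h2
    rw [htr] at h4
    exact absurd (h4.trans_le h3) (lt_irrefl _)
  rw [← heq, specializes_iff_mem_closure, hξ'.def]
  show (𝔸(n; S) ↘ S).base t ∈ closure {(𝔸(n; S) ↘ S).base ξ}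
  rw [← specializes_iff_mem_closure]; exact ht


open AffineSpace
theorem universallyOpen_affineSpace_over (n : Type u) (S : Scheme.{u}) :
    UniversallyOpen (𝔸(n; S) ↘ S) := by
  constructor
  intro X' Y' i₁ i₂ f' hpb
  have h2 := (isPullback_map (n := n) i₂).flip
  have he : (hpb.isoIsPullback _ _ h2).hom ≫ (𝔸(n; Y') ↘ Y') = f' :=
    IsPullback.isoIsPullback_hom_fst _ _ hpb h2
  rw [← he]
  change IsOpenMap _
  rw [Scheme.Hom.comp_base, TopCat.coe_comp]
  exact (isOpenMap_over (n := n) Y').comp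
    (Scheme.homeoOfIso (hpb.isoIsPullback _ _ h2)).isOpenMap


theorem isUnivOpenAt_of_chart {U V : Scheme.{u}} [IsIntegral U] [IsLocallyNoetherian V] (d : ℕ)
    (π : U ⟶ 𝔸(ULift.{u} (Fin d); V)) [LocallyOfFiniteType π] [LocallyQuasiFinite π]
    (w : U)
    (H1 : ∀ s : V, s ⤳ (𝔸(ULift.{u} (Fin d); V) ↘ V).base (π.base w) →
      (𝔸(ULift.{u} (Fin d); V) ↘ V).base (π.base (genericPoint U)) ⤳ s)
    (H2 : tr (π ≫ (𝔸(ULift.{u} (Fin d); V) ↘ V)) (genericPoint U) = d)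
    (H3 : CAlg2.IsGeomUnibranch
      (V.presheaf.stalk ((𝔸(ULift.{u} (Fin d); V) ↘ V).base (π.base w)))) :
    EGA43.IsUnivOpenAt π w := by
  haveI : IsLocallyNoetherian 𝔸(ULift.{u} (Fin d); V) :=
    LocallyOfFiniteType.isLocallyNoetherian (𝔸(ULift.{u} (Fin d); V) ↘ V)
  haveI : LocallyOfFinitePresentation π := inferInstance
  -- level 0: π η_U is the most generic generization of π w
  have htr0 : (tr (𝔸(ULift.{u} (Fin d); V) ↘ V) (π.base (genericPoint U)) : Cardinal.{u}) =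
      #(ULift.{u} (Fin d)) := by
    have h1 := Groth.Agent.Lib.Helper4.PropDim1.tr_comp π (𝔸(ULift.{u} (Fin d); V) ↘ V) (genericPoint U)
    rw [tr_eq_zero_of_locallyQuasiFinite π, add_zero, H2] at h1
    rw [← h1, card_ulift_fin]
  have hgen0 : ∀ s : 𝔸(ULift.{u} (Fin d); V), s ⤳ π.base w → π.base (genericPoint U) ⤳ s := by
    intro s hs
    apply specializes_of_tr_eq_affineSpace _ _ _ htr0
    exact H1 _ (hs.map (𝔸(ULift.{u} (Fin d); V) ↘ V).continuous)
  have hgu0 : CAlg2.IsGeomUnibranch ((𝔸(ULift.{u} (Fin d); V)).presheaf.stalk (π.base w)) :=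
    S4936_main d (π.base w) H3
  apply isUnivOpenAt_of_lifting
  intro n z hz t' ht' _
  haveI : LocallyOfFiniteType (map (ULift.{u} (Fin n)) π) :=
    MorphismProperty.of_isPullback (P := @LocallyOfFiniteType) (isPullback_map π).flip inferInstance
  haveI : LocallyQuasiFinite (map (ULift.{u} (Fin n)) π) :=
    MorphismProperty.of_isPullback (P := @LocallyQuasiFinite) (isPullback_map π).flip inferInstance
  have hsq : map (ULift.{u} (Fin n)) π ≫ (𝔸(ULift.{u} (Fin n); 𝔸(ULift.{u} (Fin d); V)) ↘ 𝔸(ULift.{u} (Fin d); V)) =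
      (𝔸(ULift.{u} (Fin n); U) ↘ U) ≫ π := map_over π
  have hsq' : ∀ a, (𝔸(ULift.{u} (Fin n); 𝔸(ULift.{u} (Fin d); V)) ↘ 𝔸(ULift.{u} (Fin d); V)).base
      ((map (ULift.{u} (Fin n)) π).base a) = π.base ((𝔸(ULift.{u} (Fin n); U) ↘ U).base a) := by
    intro a
    rw [← Scheme.Hom.comp_apply, hsq, Scheme.Hom.comp_apply]
  have hzw : (𝔸(ULift.{u} (Fin n); 𝔸(ULift.{u} (Fin d); V)) ↘ 𝔸(ULift.{u} (Fin d); V)).base
      ((map (ULift.{u} (Fin n)) π).base z) = π.base w := by rw [hsq', hz]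
  have hgu1 : CAlg2.IsGeomUnibranch ((𝔸(ULift.{u} (Fin n); 𝔸(ULift.{u} (Fin d); V))).presheaf.stalk
      ((map (ULift.{u} (Fin n)) π).base z)) := by
    apply S4936_main
    rw [hzw]; exact hgu0
  obtain ⟨ζ, hζ⟩ : ∃ ζ, ζ = genericPoint 𝔸(ULift.{u} (Fin n); U) := ⟨_, rfl⟩
  have hζmax : ∀ ζ' : 𝔸(ULift.{u} (Fin n); U), ζ' ⤳ ζ → ζ' = ζ := by
    intro ζ' h
    rw [hζ] at h ⊢
    exact (h.antisymm (genericPoint_specializes ζ')).eq
  have htrζ := tr_eq_of_isMax_affineSpace (ULift.{u} (Fin n)) U ζ hζmax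
  have htr1 : (tr (𝔸(ULift.{u} (Fin n); 𝔸(ULift.{u} (Fin d); V)) ↘ 𝔸(ULift.{u} (Fin d); V))
      ((map (ULift.{u} (Fin n)) π).base ζ) : Cardinal.{u}) = #(ULift.{u} (Fin n)) := by
    have h1 := Groth.Agent.Lib.Helper4.PropDim1.tr_comp (map (ULift.{u} (Fin n)) π)
      (𝔸(ULift.{u} (Fin n); 𝔸(ULift.{u} (Fin d); V)) ↘ 𝔸(ULift.{u} (Fin d); V)) ζ
    rw [tr_eq_zero_of_locallyQuasiFinite (map (ULift.{u} (Fin n)) π), add_zero] at h1
    have h2 := Groth.Agent.Lib.Helper4.PropDim1.tr_comp (𝔸(ULift.{u} (Fin n); U) ↘ U) π ζ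
    rw [tr_eq_zero_of_locallyQuasiFinite π, zero_add] at h2
    have h3 := tr_congr_hom _ _ hsq ζ
    rw [← h1, h3, h2]; exact htrζ
  refine exists_generization_of_quasiFiniteAt (map (ULift.{u} (Fin n)) π) z
    (Scheme.Hom.quasiFiniteAt _ z) hgu1.1 ζ (by rw [hζ]; exact genericPoint_specializes z) ?_ t' ht'
  intro t ht
  apply specializes_of_tr_eq_affineSpace _ _ _ htr1
  rw [hsq']
  have h5 : (𝔸(ULift.{u} (Fin n); U) ↘ U).base ζ ⤳ genericPoint U := by
    rw [hζ]; exact map_genericPoint_specializes _ _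
  refine (h5.map π.continuous).trans (hgen0 _ ?_)
  rw [← hzw]
  exact ht.map (𝔸(ULift.{u} (Fin n); 𝔸(ULift.{u} (Fin d); V)) ↘ 𝔸(ULift.{u} (Fin d); V)).continuous



theorem isGeomUnibranch_of_isOpenImmersion {V Y : Scheme.{u}} (j : V ⟶ Y) [IsOpenImmersion j]
    (v : V) (y : Y) (hvy : j.base v = y) (h : CAlg2.IsGeomUnibranch (Y.presheaf.stalk y)) :
    CAlg2.IsGeomUnibranch (V.presheaf.stalk v) := by
  subst hvy
  exact isGeomUnibranch_of_ringEquiv (asIso (j.stalkMap v)).commRingCatIsoToRingEquiv h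

theorem isUnivOpenAt_of_integral {W Y : Scheme.{u}} [IsIntegral W] [IsLocallyNoetherian Y]
    (h : W ⟶ Y) [LocallyOfFiniteType h] (w : W)
    (H1 : ∀ s : Y, s ⤳ h.base w → h.base (genericPoint W) ⤳ s)
    (H2 : FlatMor.fibreDimAt h w = ((tr h (genericPoint W) : ℕ) : WithBot ℕ∞))
    (H3 : CAlg2.IsGeomUnibranch (Y.presheaf.stalk (h.base w))) :
    EGA43.IsUnivOpenAt h w := by
  obtain ⟨V, hV', hwV, -⟩ := exists_isAffineOpen_mem_and_subset (U := (⊤ : Y.Opens))
    (x := h.base w) trivial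
  obtain ⟨U, hU, hwU, g, π, hg, hπ, hqf, hft⟩ :=
    S7625_main h w V hV' hwV (tr h (genericPoint W)) H2
  haveI := hqf
  haveI := hft
  haveI : Nonempty ↥U := ⟨⟨w, hwU⟩⟩
  haveI : Nonempty ↥(U : Scheme.{u}) := ⟨⟨w, hwU⟩⟩
  haveI : IsIntegral (U : Scheme.{u}) := isIntegral_of_isOpenImmersion U.ι
  haveI : IsLocallyNoetherian (V : Scheme.{u}) := inferInstance
  obtain ⟨w', hw'⟩ : ∃ w' : ↥(U : Scheme.{u}), w' = ⟨w, hwU⟩ := ⟨_, rfl⟩
  have hUw : U.ι.base w' = w := by rw [hw']; rfl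
  have hpt : ∀ u : ↥(U : Scheme.{u}), V.ι.base (g.base u) = h.base (U.ι.base u) := by
    intro u
    rw [← Scheme.Hom.comp_apply, hg, Scheme.Hom.comp_apply]
  have hpt2 : ∀ u : ↥(U : Scheme.{u}),
      (𝔸(ULift.{u} (Fin (tr h (genericPoint W))); (V : Scheme.{u})) ↘ (V : Scheme.{u})).base
        (π.base u) = g.base u := by
    intro u
    rw [← Scheme.Hom.comp_apply, hπ]
  have hgenU : U.ι.base (genericPoint ↥(U : Scheme.{u})) = genericPoint W :=
    genericPoint_eq_of_isOpenImmersion U.ι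
  haveI : LocallyOfFiniteType g := by rw [← hπ]; infer_instance
  have hcore : EGA43.IsUnivOpenAt π w' := by
    apply isUnivOpenAt_of_chart
    · intro s hs
      rw [hpt2] at hs ⊢
      rw [← V.ι.isEmbedding.isInducing.specializes_iff, hpt, hgenU]
      apply H1
      have := hs.map V.ι.continuous
      rwa [hpt, hUw] at this
    · rw [tr_congr_hom _ g hπ]
      have h1 := Groth.Agent.Lib.Helper4.PropDim1.tr_comp g V.ι (genericPoint ↥(U : Scheme.{u}))
      rw [tr_openImmersion V.ι, zero_add] at h1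
      have h2 := tr_restrict h U (genericPoint ↥(U : Scheme.{u}))
      rw [hgenU] at h2
      rw [← h1, ← h2]
      exact tr_congr_hom _ _ hg _
    · rw [hpt2]
      apply isGeomUnibranch_of_isOpenImmersion V.ι (g.base w') (h.base w) _ H3
      rw [hpt, hUw]
  haveI := universallyOpen_affineSpace_over (ULift.{u} (Fin (tr h (genericPoint W)))) (V : Scheme.{u})
  have h1 : EGA43.IsUnivOpenAt (π ≫ (𝔸(ULift.{u} (Fin (tr h (genericPoint W))); (V : Scheme.{u})) ↘
      (V : Scheme.{u}))) w' :=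
    S4925_main _ _ w' hcore (isUnivOpenAt_of_universallyOpen _ _)
  rw [hπ] at h1
  have h2 : EGA43.IsUnivOpenAt (g ≫ V.ι) w' :=
    S4925_main _ _ w' h1 (isUnivOpenAt_of_universallyOpen _ _)
  rw [hg] at h2
  have h3 := S4926_main U.ι h w' h2
  rwa [hUw] at h3



/-- the "most generic" generization of a point whose local ring has a prime nilradical -/
theorem exists_generic_generization' (X : Scheme.{u}) (x : X)
    (hdom : IsDomain (CAlg2.red (X.presheaf.stalk x))) :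
    ∃ η : X, ∀ y : X, y ⤳ x → η ⤳ y := by
  have hprime : (nilradical (X.presheaf.stalk x)).IsPrime :=
    (Ideal.Quotient.isDomain_iff_prime _).mp hdom
  let ξ : Spec (X.presheaf.stalk x) := ⟨nilradical (X.presheaf.stalk x), hprime⟩
  refine ⟨X.fromSpecStalk x ξ, fun y hy => ?_⟩
  have : y ∈ Set.range (X.fromSpecStalk x) := by
    rw [Scheme.range_fromSpecStalk]; exact hy
  obtain ⟨q, rfl⟩ := this
  have hξq : ξ ⤳ q :=
    (PrimeSpectrum.le_iff_specializes (R := X.presheaf.stalk x) ξ q).mp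
      (nilradical_le_prime q.asIdeal)
  exact hξq.map (X.fromSpecStalk x).continuous

theorem S4934_ba_aux {X Y W : Scheme.{u}} [IsLocallyNoetherian Y] (f : X ⟶ Y)
    [LocallyOfFiniteType f] (ι : W ⟶ X) [IsClosedImmersion ι] [IsIntegral W] (x : X)
    (hy : CAlg2.IsGeomUnibranch (Y.presheaf.stalk (f.base x)))
    (η₀ : Y) (hη₀ : ∀ y : Y, y ⤳ f.base x → η₀ ⤳ y)
    (Z : Set X) (hZc : IsClosed Z) (hr : Set.range ι.base = Z) (hx : x ∈ Z)
    (hdom : closure (f.base '' Z) = closure {η₀})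
    (hdim : ∀ η : Y, closure ({η} : Set Y) = closure {η₀} →
            FlatMor.localDim ↥(Z ∩ f.base ⁻¹' {f.base x}) ⟨x, ⟨hx, rfl⟩⟩ =
              topologicalKrullDim ↥(Z ∩ f.base ⁻¹' {η})) :
    EGA43.IsUnivOpenAt f x := by
  have hxr : x ∈ Set.range ι.base := by rw [hr]; exact hx
  obtain ⟨wx, hwx⟩ := hxr
  -- the generic point of Z
  obtain ⟨ξ, hξ⟩ : ∃ ξ, ξ = ι.base (genericPoint W) := ⟨_, rfl⟩
  have hξZ : closure ({ξ} : Set X) = Z := by
    have h3 : closure ({genericPoint W} : Set W) = Set.univ := (genericPoint_spec _).def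
    apply le_antisymm
    · apply closure_minimal _ hZc
      rw [Set.singleton_subset_iff, hξ, ← hr]; exact ⟨_, rfl⟩
    · rw [← hr, ← Set.image_univ, ← h3, hξ, ← Set.image_singleton]
      exact image_closure_subset_closure_image ι.continuous
  have hfξ : closure ({f.base ξ} : Set Y) = closure {η₀} := by
    rw [← hdom, ← hξZ, closure_image_closure f.continuous, Set.image_singleton]
  have hfξη : f.base ξ = η₀ := (inseparable_iff_closure_eq.mpr hfξ).eq
  have hmem : x ∈ Z ∩ f.base ⁻¹' {f.base x} := ⟨hx, rfl⟩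
  have h1 := fibreDimAt_comp_eq_localDim' f ι ι.isEmbedding _ hr wx x hwx hmem
  have h2 := hdim (f.base ξ) hfξ
  have hgη : (ι ≫ f).base (genericPoint W) = f.base ξ := by
    rw [hξ]; rfl
  have h3 : topologicalKrullDim ↥((ι ≫ f).fiber (f.base ξ)) =
      ((tr (ι ≫ f) (genericPoint W) : ℕ) : WithBot ℕ∞) := by
    apply dim_fiber_eq_of_tr (ι ≫ f) (f.base ξ) _ _ (genericPoint W) hgη rfl
    intro z hz
    exact tr_le_of_specializes (ι ≫ f) (genericPoint W) z (genericPoint_specializes z)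
      (hgη.trans hz.symm)
  have h4 := dim_inter_fibre_eq f ι ι.isEmbedding _ hr (f.base ξ)
  have hw : (ι ≫ f).base wx = f.base x := by
    rw [← hwx]; rfl
  have hres : EGA43.IsUnivOpenAt (ι ≫ f) wx := by
    apply isUnivOpenAt_of_integral
    · intro s hs
      rw [hgη, hfξη]
      apply hη₀
      rwa [hw] at hs
    · rw [h1, h2, h4, h3]
    · rw [hw]; exact hy
  have := S4926_main ι f wx hres
  rwa [hwx] at this

theorem S4934_ba {X Y : Scheme.{u}} [IsLocallyNoetherian Y] (f : X ⟶ Y)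
    [LocallyOfFiniteType f] (x : X)
    (hy : CAlg2.IsGeomUnibranch (Y.presheaf.stalk (f.base x)))
    (hb : ∀ Y₀ ∈ irreducibleComponents (Y : Type u), f.base x ∈ Y₀ →
        ∃ Z ∈ irreducibleComponents (X : Type u), ∃ hx : x ∈ Z, closure (f.base '' Z) = Y₀ ∧
          ∀ η : Y, closure ({η} : Set Y) = Y₀ →
            FlatMor.localDim ↥(Z ∩ f.base ⁻¹' {f.base x}) ⟨x, ⟨hx, rfl⟩⟩ =
              topologicalKrullDim ↥(Z ∩ f.base ⁻¹' {η})) :
    EGA43.IsUnivOpenAt f x := by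
  obtain ⟨η₀, hη₀⟩ := exists_generic_generization' Y (f.base x) hy.1.1
  have hY₀ : irreducibleComponent (f.base x) ∈ irreducibleComponents (Y : Type u) :=
    irreducibleComponent_mem_irreducibleComponents _
  obtain ⟨Z, hZ, hx, hdom, hdim⟩ := hb _ hY₀ mem_irreducibleComponent
  have hY₀eq : irreducibleComponent (f.base x) = closure {η₀} :=
    eq_closure_of_mem Y (f.base x) η₀ hη₀ _ hY₀ mem_irreducibleComponent
  rw [hY₀eq] at hdom hdim
  have hZc : IsClosed Z := isClosed_of_mem_irreducibleComponents Z hZ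
  have hr : Set.range (Scheme.IdealSheafData.vanishingIdeal
      (⟨Z, hZc⟩ : TopologicalSpace.Closeds X)).subschemeι = Z := by
    rw [Scheme.IdealSheafData.range_subschemeι, Scheme.IdealSheafData.coe_support_vanishingIdeal]
    rfl
  haveI : IrreducibleSpace ↥(Scheme.IdealSheafData.vanishingIdeal
      (⟨Z, hZc⟩ : TopologicalSpace.Closeds X)).subscheme :=
    irreducibleSpace_vanishingIdeal_subscheme _ hZ.1
  haveI : IsReduced (Scheme.IdealSheafData.vanishingIdeal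
      (⟨Z, hZc⟩ : TopologicalSpace.Closeds X)).subscheme :=
    isReduced_vanishingIdeal_subscheme _
  haveI : IsIntegral (Scheme.IdealSheafData.vanishingIdeal
      (⟨Z, hZc⟩ : TopologicalSpace.Closeds X)).subscheme :=
    isIntegral_of_irreducibleSpace_of_isReduced _
  exact S4934_ba_aux f (Scheme.IdealSheafData.vanishingIdeal
      (⟨Z, hZc⟩ : TopologicalSpace.Closeds X)).subschemeι x hy η₀ hη₀ Z hZc hr hx hdom hdim



theorem isOpenAt_of_isUnivOpenAt {X Y : Scheme.{u}} (f : X ⟶ Y) (x : X)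
    (h : EGA43.IsUnivOpenAt f x) : EGA43.IsOpenAt f.base x :=
  isOpenAt_of_isPullback h (IsPullback.of_id_fst : IsPullback (𝟙 X) f f (𝟙 Y)) x rfl

/-- c ⇒ b' -/
theorem S4934_cb' {X Y : Scheme.{u}} [IsLocallyNoetherian Y] (f : X ⟶ Y)
    [LocallyOfFiniteType f] (x : X)
    (hmax : ∀ x' : X, f.base x' = f.base x → x ∈ closure {x'} → x' = x)
    (hop : EGA43.IsOpenAt f.base x) :
    ∀ U : X.Opens, x ∈ U → ∀ y' : Y, y' ⤳ f.base x →
        FlatMor.fibreDimAt f x ≤ topologicalKrullDim ↥((U : Set X) ∩ f.base ⁻¹' {y'}) := by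
  intro U hxU y' hy'
  have hmax' : ∀ z' : X, f.base z' = f.base x → z' ⤳ x → z' = x :=
    fun z' hz' hsp => hmax z' hz' (specializes_iff_mem_closure.mp hsp)
  rw [fibreDimAt_eq_tr_of_max_nn f x hmax']
  obtain ⟨ξ, hfξ, hξx, -, htr⟩ := exists_generization_tr_eq_of_isOpenAt f x hmax' hop y' hy'
  have hξU : ξ ∈ U := hξx.mem_open U.2 hxU
  rw [← htr]
  exact tr_le_dim_open_fibre f U ξ hξU y' hfξ

theorem S4934_main {X Y : Scheme.{u}} [IsLocallyNoetherian Y] (f : X ⟶ Y)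
    [LocallyOfFiniteType f] (x : X) (hmax : ∀ x' : X, f.base x' = f.base x → x ∈ closure {x'} → x' = x)
    (hy : CAlg2.IsGeomUnibranch (Y.presheaf.stalk (f.base x))) :
    List.TFAE [EGA43.IsUnivOpenAt f x,
      (∀ Y₀ ∈ irreducibleComponents (Y : Type u), f.base x ∈ Y₀ →
        ∃ Z ∈ irreducibleComponents (X : Type u), ∃ hx : x ∈ Z, closure (f.base '' Z) = Y₀ ∧
          ∀ η : Y, closure ({η} : Set Y) = Y₀ →
            FlatMor.localDim ↥(Z ∩ f.base ⁻¹' {f.base x}) ⟨x, ⟨hx, rfl⟩⟩ =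
              topologicalKrullDim ↥(Z ∩ f.base ⁻¹' {η})),
      (∀ U : X.Opens, x ∈ U → ∀ y' : Y, y' ⤳ f.base x →
        FlatMor.fibreDimAt f x ≤ topologicalKrullDim ↥((U : Set X) ∩ f.base ⁻¹' {y'})),
      EGA43.IsOpenAt f.base x] := by
  tfae_have 1 → 3 := S4933_a f x hmax
  tfae_have 3 → 2 := by
    intro hb' Y₀ hY₀ hxY₀
    obtain ⟨Z, hZ, hx, hdom, hdim⟩ := S4933_b f x hb' Y₀ hY₀ hxY₀
    exact ⟨Z, hZ, hx, hdom, fun η hη => (hdim η hη).2⟩
  tfae_have 2 → 1 := S4934_ba f x hy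
  tfae_have 1 → 4 := isOpenAt_of_isUnivOpenAt f x
  tfae_have 4 → 3 := S4934_cb' f x hmax
  tfae_finish


end Groth.Agent.Lib.Helper4.ChevCrit4
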