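import Mathlib

namespace Groth.Agent.Helper4.TD

open TopologicalSpace Order

universe u

theorem withBot_enat_lt_of_add_one_le {a b : WithBot ℕ∞} (h : a + 1 ≤ b) (hb : b ≠ ⊤)
    (hb0 : ⊥ < b) : a < b := by
  induction a using WithBot.recBotCoe with
  | bot => exact hb0
  | coe a =>
    induction b using WithBot.recBotCoe with
    | bot => exact absurd hb0 (lt_irrefl _)
    | coe b =>
      have hb' : b ≠ ⊤ := fun h => hb (by rw [h]; rfl)
      have h' : a + 1 ≤ b := by exact_mod_cast h
      have : a < b := by
        by_contra hlt
        push Not at hlt
        have : b + 1 ≤ b := (add_le_add_left hlt 1).trans h'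
        exact absurd this (by
          rw [ENat.add_one_le_iff hb']
          exact lt_irrefl _)
      exact_mod_cast this

/-- S10830 -/
theorem topologicalKrullDim_lt_of_isClosed_ne_univ (X : Type u) [TopologicalSpace X]
    [IrreducibleSpace X] (hfin : topologicalKrullDim X ≠ ⊤) (Y : Set X) (hY : IsClosed Y)
    (hYX : Y ≠ Set.univ) :
    topologicalKrullDim ↥Y < topologicalKrullDim X := by
  let top : IrreducibleCloseds X :=
    ⟨Set.univ, IrreducibleSpace.isIrreducible_univ X, isClosed_univ⟩
  have hpos : ⊥ < topologicalKrullDim X := by
    have : Nonempty (IrreducibleCloseds X) := ⟨top⟩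
    exact lt_of_lt_of_le (WithBot.bot_lt_coe _) (krullDim_nonneg (α := IrreducibleCloseds X))
  by_cases hne : Nonempty (IrreducibleCloseds ↥Y)
  · apply withBot_enat_lt_of_add_one_le _ hfin hpos
    let g : WithTop (IrreducibleCloseds ↥Y) → IrreducibleCloseds X := fun a =>
      WithTop.recTopCoe top (IrreducibleCloseds.map Subtype.val continuous_subtype_val) a
    have hlt : ∀ a : IrreducibleCloseds ↥Y,
        IrreducibleCloseds.map Subtype.val continuous_subtype_val a < top := by
      intro a
      refine lt_of_le_of_ne (fun x _ => Set.mem_univ x) fun heq => hYX ?_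
      have h1 : (IrreducibleCloseds.map Subtype.val continuous_subtype_val a : Set X) ⊆ Y := by
        rw [IrreducibleCloseds.coe_map]
        refine closure_minimal ?_ hY
        rintro _ ⟨y, _, rfl⟩
        exact y.2
      have h2 : (IrreducibleCloseds.map Subtype.val continuous_subtype_val a : Set X) =
          Set.univ := congrArg (fun s : IrreducibleCloseds X => (s : Set X)) heq
      rw [h2] at h1
      exact Set.eq_univ_of_univ_subset h1
    have hg : StrictMono g := by
      intro a b hab
      induction a using WithTop.recTopCoe with
      | top => exact absurd hab (not_top_lt)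
      | coe a =>
        induction b using WithTop.recTopCoe with
        | top => exact hlt a
        | coe b =>
          exact IrreducibleCloseds.map_strictMono_of_isInducing Topology.IsInducing.subtypeVal
            (WithTop.coe_lt_coe.mp hab)
    have := krullDim_le_of_strictMono g hg
    rwa [krullDim_WithTop] at this
  · have : IsEmpty (IrreducibleCloseds ↥Y) := not_nonempty_iff.mp hne
    have h0 : topologicalKrullDim ↥Y = ⊥ := krullDim_eq_bot
    rw [h0]
    exact hpos

end Groth.Agent.Helper4.TD
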