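import Mathlib
import Groth.Prelude.Def_Cyc
import Groth.Agent.Lib.Helper4.JacDim1
import Groth.Prelude.Def_EGA43
import Groth.Agent.Lib.Helper4.FibreStalkDim1
import Groth.Agent.Lib.Helper4.DimFT1
import Groth.Agent.Lib.Helper4.DimFT2
import Groth.Agent.Lib.Helper4.Chev8
import Groth.Agent.Lib.Helper4.FibDim7
import Groth.Agent.Lib.Helper4.EffCartierDim1
import Groth.Agent.Lib.Helper4.JacDim4
import Groth.Agent.Lib.Helper4.Chev9
import Groth.Agent.Lib.Helper4.Chev10
import Groth.Agent.Lib.Helper4.Chev11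
import Groth.Agent.Lib.Helper4.Equi1
import Groth.Agent.Lib.Helper4.Equi2
import Groth.Agent.Lib.Helper4.Equi3
import Groth.Agent.Lib.Helper4.Equi4
import Groth.Agent.Lib.Helper4.Equi5
import Groth.Agent.Lib.Helper4.Equi6
import Groth.Agent.Lib.Helper4.Equi7
import Groth.Agent.Lib.Helper4.Aff1
import Groth.Agent.Lib.Helper4.Aff2
import Groth.Agent.Lib.Helper4.Equi10
import Groth.Agent.Lib.Helper4.Val1
import Groth.Agent.Lib.Helper4.BaseChg1
import Groth.Agent.Lib.Helper4.UnivOpen1
import Groth.Agent.Lib.Helper4.FibClosure1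
import Groth.Agent.Lib.Helper4.OpenNoeth1
import Groth.Agent.Lib.Helper4.SecComp1
import Groth.Agent.Lib.Helper4.TopDim1
import Groth.Agent.Lib.Helper4.SecComp2
import Groth.Agent.Lib.Helper4.UnivOpen2
import Groth.Prelude.Def_FDesc
import Groth.Prelude.Def_MoreMor

/-!
# Proper morphism with a zero-dimensional fibre is surjective (S7798); tr of composites (helper4)
-/

set_option backward.isDefEq.respectTransparency.types false
set_option synthInstance.maxHeartbeats 400000
set_option autoImplicit false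
set_option linter.unusedSectionVars false
set_option linter.style.haveILetI false
set_option linter.unusedSimpArgs false
universe u v w
open CategoryTheory CategoryTheory.Limits AlgebraicGeometry TopologicalSpace IsLocalRing Opposite
open Cardinal AffineSpace MvPolynomial
open Groth.Agent.Lib.Helper4.DimIneq1 Groth.Agent.Lib.Helper4.DimFT2 Groth.Agent.Lib.Helper4.Catenary1
open Groth.Agent.Lib.Helper4.DimEq1 Groth.Agent.Lib.Helper4.DimIneq2 Groth.Agent.Lib.Helper4.DimEq2
open Groth.Agent.Lib.Helper4.DimIneq3 Groth.Agent.Lib.Helper4.DimIneq4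
open Groth.Agent.Lib.Helper4.NormFibre2 Groth.Agent.Lib.Helper4.RadBir3 Groth.Agent.Lib.Helper4.DimFT3
open Groth.Agent.Lib.Helper4.FibDim1 Groth.Agent.Lib.Helper4.FibDim2 Groth.Agent.Lib.Helper4.LocUC1
open Groth.Agent.Lib.Helper4.FibDim3 Groth.Agent.Lib.Helper4.FibDim4 Groth.Agent.Lib.Helper4.FibDim5
open Groth.Agent.Lib.Helper4.FibDim6 Groth.Agent.Lib.Helper4.FibDim7 Groth.Agent.Lib.Helper4.JacDim1
open Groth.Agent.Lib.Helper4.DimFT1
open Groth.Agent.Lib.Helper4.Chev2 Groth.Agent.Lib.Helper4.Chev5 Groth.Agent.Lib.Helper4.Chev6 Groth.Agent.Lib.Helper4.Chev8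
open Groth.Agent.Lib.Helper4.JacDim4 Groth.Agent.Lib.Helper4.EffCartierDim1
open Groth.Agent.Lib.Helper4.Chev9 Groth.Agent.Lib.Helper4.Chev4
open Groth.Agent.Lib.Helper4.Chev10 Groth.Agent.Lib.Helper4.Chev11 Groth.Agent.Lib.Helper4.Chev3 Groth.Agent.Lib.Helper4.Equi1 Groth.Agent.Lib.Helper4.Equi2 Groth.Agent.Lib.Helper4.OpenAt1 Groth.Agent.Lib.Helper4.Equi3 Groth.Agent.Lib.Helper4.Equi4 Groth.Agent.Lib.Helper4.Equi5 Groth.Agent.Lib.Helper4.Equi6 Groth.Agent.Lib.Helper4.Equi7 Groth.Agent.Lib.Helper4.Aff1 Groth.Agent.Lib.Helper4.Aff2 Groth.Agent.Lib.Helper4.Equi10 Groth.Agent.Lib.Helper4.Val1 Groth.Agent.Lib.Helper4.BaseChg1 Groth.Agent.Lib.Helper4.UnivOpen1 Groth.Agent.Lib.Helper4.FibClosure1 Groth.Agent.Lib.Helper4.OpenNoeth1 Groth.Agent.Lib.Helper4.SecComp1 Groth.Agent.Lib.Helper4.SecComp2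

namespace Groth.Agent.Lib.Helper4.PropDim1
open Topology

theorem trc_comp {X Y Z : Scheme.{u}} (f : X ⟶ Y) (q : Y ⟶ Z) (ξ : X) :
    trc (f ≫ q) ξ = trc q (f ξ) + trc f ξ := by
  letI a01 : Algebra (Z.residueField (q (f ξ))) (Y.residueField (f ξ)) :=
    (q.residueFieldMap (f ξ)).hom.toAlgebra
  letI a12 : Algebra (Y.residueField (f ξ)) (X.residueField ξ) :=
    (f.residueFieldMap ξ).hom.toAlgebra
  letI a02 : Algebra (Z.residueField (q (f ξ))) (X.residueField ξ) :=
    ((f ≫ q).residueFieldMap ξ).hom.toAlgebra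
  haveI : IsScalarTower (Z.residueField (q (f ξ))) (Y.residueField (f ξ)) (X.residueField ξ) := by
    apply IsScalarTower.of_algebraMap_eq
    intro t
    change ((f ≫ q).residueFieldMap ξ).hom t =
      (f.residueFieldMap ξ).hom ((q.residueFieldMap (f ξ)).hom t)
    rw [Scheme.residueFieldMap_comp]
    rfl
  have h := _root_.trdeg_add_eq (Z.residueField (q (f ξ))) (Y.residueField (f ξ))
    (A := X.residueField ξ)
  exact h.symm

theorem tr_comp {X Y Z : Scheme.{u}} (f : X ⟶ Y) (q : Y ⟶ Z) [LocallyOfFiniteType f]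
    [LocallyOfFiniteType q] (ξ : X) : tr (f ≫ q) ξ = tr q (f ξ) + tr f ξ := by
  have h := trc_comp f q ξ
  rw [trc_eq_tr, trc_eq_tr, trc_eq_tr] at h
  exact_mod_cast h

theorem tdim_univ (T : Type*) [TopologicalSpace T] :
    topologicalKrullDim ↥(Set.univ : Set T) = topologicalKrullDim T :=
  (Homeomorph.Set.univ T).isHomeomorph.topologicalKrullDim_eq

/-- dimension of the closure of a point of a scheme locally of finite type over a field -/
theorem dim_closure_of_field (k : Type u) [Field k] {Y : Scheme.{u}}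
    (q : Y ⟶ Spec (CommRingCat.of k)) [LocallyOfFiniteType q] (η : Y) :
    topologicalKrullDim ↥(closure ({η} : Set Y)) = ((tr q η : ℕ) : WithBot ℕ∞) := by
  have h := dim_closure_inter_fiber q η (q η) rfl
  have hset : closure ({η} : Set Y) ∩ q.base ⁻¹' {q η} = closure ({η} : Set Y) := by
    apply Set.inter_eq_left.mpr
    intro a _
    exact Subsingleton.elim (α := PrimeSpectrum k) _ _
  rw [hset] at h
  exact h

theorem S7798_main (k : Type u) [Field k] {X Y : Scheme.{u}}
    (p : X ⟶ Spec (CommRingCat.of k)) (q : Y ⟶ Spec (CommRingCat.of k)) [IsProper p]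
    [IsSeparated q] [LocallyOfFiniteType q] [QuasiCompact q]
    [IrreducibleSpace X] [IrreducibleSpace Y]
    (hdim : topologicalKrullDim Y ≤ topologicalKrullDim X)
    (f : X ⟶ Y) (hf : f ≫ q = p) (y : Y) (hy : topologicalKrullDim ↥(f.fiber y) = 0) :
    Surjective f ∧ topologicalKrullDim X = topologicalKrullDim Y := by
  haveI : IsProper (f ≫ q) := by rw [hf]; infer_instance
  haveI : IsProper f := IsProper.of_comp f q
  haveI : LocallyOfFiniteType f := inferInstance
  obtain ⟨w₀⟩ : Nonempty ↥(f.fiber y) :=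
    nonempty_of_topologicalKrullDim_nonneg (by rw [hy])
  obtain ⟨x₀, hx₀⟩ : ∃ x₀ : X, f x₀ = y := by
    refine ⟨f.fiberι y w₀, ?_⟩
    have : f.fiberι y w₀ ∈ Set.range (f.fiberι y) := ⟨w₀, rfl⟩
    rw [Scheme.Hom.range_fiberι] at this
    exact this
  have htr0 : tr f (genericPoint X) = 0 := by
    have h1 := tr_le_fibreDimAt_of_specializes_nn f x₀ (genericPoint X)
      (genericPoint_specializes x₀)
    have h2 := fibreDimAt_le_dim_fiber f x₀
    rw [hx₀, hy] at h2
    have h3 : ((tr f (genericPoint X) : ℕ) : WithBot ℕ∞) ≤ 0 := h1.trans h2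
    have h4 : tr f (genericPoint X) ≤ 0 := by exact_mod_cast h3
    omega
  have hdimX : topologicalKrullDim X = ((tr p (genericPoint X) : ℕ) : WithBot ℕ∞) := by
    have h := dim_closure_of_field k p (genericPoint X)
    rw [genericPoint_closure, tdim_univ] at h
    exact h
  have hdimη := dim_closure_of_field k q (f (genericPoint X))
  have htrp : tr p (genericPoint X) = tr q (f (genericPoint X)) := by
    have h := tr_comp f q (genericPoint X)
    rw [htr0, add_zero] at h
    rw [← h]
    congr 1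
    exact hf.symm
  have hcl : closure ({f (genericPoint X)} : Set Y) = Set.univ := by
    by_contra hne
    have hfin : topologicalKrullDim Y ≠ ⊤ := by
      intro htop
      rw [htop, hdimX, top_le_iff] at hdim
      have h1 : ((tr p (genericPoint X) : ℕ) : WithBot ℕ∞) = ((tr p (genericPoint X) : ℕ∞) : WithBot ℕ∞) := rfl
      rw [h1] at hdim
      have h2 : ((tr p (genericPoint X) : ℕ) : ℕ∞) = ⊤ := WithBot.coe_injective hdim
      exact absurd h2 (ENat.natCast_ne_top _)
    have hlt := Groth.Agent.Helper4.TD.topologicalKrullDim_lt_of_isClosed_ne_univ Y hfin _ isClosed_closure hne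
    rw [hdimη, ← htrp, ← hdimX] at hlt
    exact absurd hdim (not_le.mpr hlt)
  constructor
  · rw [surjective_iff, ← Set.range_eq_univ]
    apply Set.eq_univ_of_univ_subset
    rw [← hcl]
    exact closure_minimal (Set.singleton_subset_iff.mpr ⟨_, rfl⟩) f.isClosedMap.isClosed_range
  · rw [hdimX, htrp, ← hdimη, hcl, tdim_univ]

end Groth.Agent.Lib.Helper4.PropDim1
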