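import Mathlib
import Groth.Prelude.Def_Cyc
import Groth.Agent.Lib.Helper4.JacDim1
import Groth.Prelude.Def_EGA43
import Groth.Agent.Lib.Helper4.FibreStalkDim1
import Groth.Agent.Lib.Helper4.DimFT1
import Groth.Agent.Lib.Helper4.DimFT2
import Groth.Agent.Lib.Helper4.Chev8
import Groth.Agent.Lib.Helper4.FibDim7
import Groth.Agent.Lib.Helper4.EffCartierDim1
import Groth.Agent.Lib.Helper4.JacDim4
import Groth.Agent.Lib.Helper4.Chev9
import Groth.Agent.Lib.Helper4.Chev10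
import Groth.Agent.Lib.Helper4.Chev11
import Groth.Agent.Lib.Helper4.Equi1
import Groth.Agent.Lib.Helper4.Equi2
import Groth.Agent.Lib.Helper4.Equi3
import Groth.Agent.Lib.Helper4.Equi4
import Groth.Agent.Lib.Helper4.Equi5
import Groth.Agent.Lib.Helper4.Equi6
import Groth.Agent.Lib.Helper4.Equi7
import Groth.Agent.Lib.Helper4.Aff1
import Groth.Agent.Lib.Helper4.Aff2
import Groth.Agent.Lib.Helper4.Equi10
import Groth.Agent.Lib.Helper4.Val1
import Groth.Agent.Lib.Helper4.BaseChg1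
import Groth.Agent.Lib.Helper4.UnivOpen1
import Groth.Agent.Lib.Helper4.FibClosure1
import Groth.Agent.Lib.Helper4.OpenNoeth1
import Groth.Agent.Lib.Helper4.SecComp1
import Groth.Agent.Lib.Helper4.SecComp2
import Groth.Agent.Lib.Helper4.UnivOpen2
import Groth.Agent.Lib.Helper4.UnivOpenAt
import Groth.Agent.Lib.Helper4.RegularLocalCopy
import Groth.Agent.Lib.Helper4.ZMTNormalPt1
import Groth.Agent.Lib.Helper4.LocFinComp1
import Groth.Agent.Lib.Helper4.SecComp3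
import Groth.Agent.Lib.Helper4.PropDim1
import Groth.Prelude.Def_FDesc
import Groth.Prelude.Def_MoreMor
import Groth.Agent.Lib.Helper4.ChevCrit1
import Groth.Agent.Lib.Helper4.ChevCrit2
import Groth.Agent.Lib.Helper4.ChevCrit3
import Groth.Agent.Lib.Helper4.IrrCompDomain1
import Groth.Agent.Lib.Helper4.ChevCrit4

/-!
# Chevalley's criterion for universal openness along a fibre over a geometrically unibranch point (S4938) (helper4)
-/

set_option backward.isDefEq.respectTransparency.types false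
set_option synthInstance.maxHeartbeats 400000
set_option autoImplicit false
set_option linter.unusedSectionVars false
set_option linter.style.haveILetI false
set_option linter.unusedSimpArgs false
universe u v w
open CategoryTheory CategoryTheory.Limits AlgebraicGeometry TopologicalSpace IsLocalRing Opposite
open Cardinal AffineSpace MvPolynomial
open Groth.Agent.Lib.Helper4.DimIneq1 Groth.Agent.Lib.Helper4.DimFT2 Groth.Agent.Lib.Helper4.Catenary1
open Groth.Agent.Lib.Helper4.DimEq1 Groth.Agent.Lib.Helper4.DimIneq2 Groth.Agent.Lib.Helper4.DimEq2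
open Groth.Agent.Lib.Helper4.DimIneq3 Groth.Agent.Lib.Helper4.DimIneq4
open Groth.Agent.Lib.Helper4.NormFibre2 Groth.Agent.Lib.Helper4.RadBir3 Groth.Agent.Lib.Helper4.DimFT3
open Groth.Agent.Lib.Helper4.FibDim1 Groth.Agent.Lib.Helper4.FibDim2 Groth.Agent.Lib.Helper4.LocUC1
open Groth.Agent.Lib.Helper4.FibDim3 Groth.Agent.Lib.Helper4.FibDim4 Groth.Agent.Lib.Helper4.FibDim5
open Groth.Agent.Lib.Helper4.FibDim6 Groth.Agent.Lib.Helper4.FibDim7 Groth.Agent.Lib.Helper4.JacDim1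
open Groth.Agent.Lib.Helper4.DimFT1
open Groth.Agent.Lib.Helper4.Chev2 Groth.Agent.Lib.Helper4.Chev5 Groth.Agent.Lib.Helper4.Chev6 Groth.Agent.Lib.Helper4.Chev8
open Groth.Agent.Lib.Helper4.JacDim4 Groth.Agent.Lib.Helper4.EffCartierDim1
open Groth.Agent.Lib.Helper4.Chev9 Groth.Agent.Lib.Helper4.Chev4
open Groth.Agent.Lib.Helper4.Chev10 Groth.Agent.Lib.Helper4.Chev11 Groth.Agent.Lib.Helper4.Chev3 Groth.Agent.Lib.Helper4.Equi1 Groth.Agent.Lib.Helper4.Equi2 Groth.Agent.Lib.Helper4.OpenAt1 Groth.Agent.Lib.Helper4.Equi3 Groth.Agent.Lib.Helper4.Equi4 Groth.Agent.Lib.Helper4.Equi5 Groth.Agent.Lib.Helper4.Equi6 Groth.Agent.Lib.Helper4.Equi7 Groth.Agent.Lib.Helper4.Aff1 Groth.Agent.Lib.Helper4.Aff2 Groth.Agent.Lib.Helper4.Equi10 Groth.Agent.Lib.Helper4.Val1 Groth.Agent.Lib.Helper4.BaseChg1 Groth.Agent.Lib.Helper4.UnivOpen1 Groth.Agent.Lib.Helper4.FibClosure1 Groth.Agent.Lib.Helper4.OpenNoeth1 Groth.Agent.Lib.Helper4.SecComp1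 Groth.Agent.Lib.Helper4.SecComp2
open Groth.Agent.Lib.Helper4.SecComp3 Groth.Agent.Lib.Helper4.PropDim1 Groth.Agent.Lib.Helper4.ZMTNormalPt1 Groth.Agent.Lib.Helper4.UO Groth.Agent.Lib.Helper4.UOp
open Groth.Agent.Lib.Helper4.ChevCrit1 Groth.Agent.Lib.Helper4.ChevCrit2 Groth.Agent.Lib.Helper4.ChevCrit3
open Groth.Agent.Lib.Helper4.IrrCompDomain1 Groth.Agent.Lib.Helper4.RadBir1
open Groth.Agent.Lib.Helper4.ChevCrit4

namespace Groth.Agent.Lib.Helper4.ChevCrit5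

section
variable {X Y : Scheme.{u}} (f : X ⟶ Y) [LocallyOfFiniteType f]

/-- a maximal point of the fibre generizing `x` whose residual transcendence degree is the local
dimension of the fibre at `x` -/
theorem exists_max_gen_tr_eq (x : X) (d : ℕ) (hd : FlatMor.fibreDimAt f x = (d : WithBot ℕ∞)) :
    ∃ ξ : X, ξ ⤳ x ∧ f.base ξ = f.base x ∧ tr f ξ = d ∧
      (∀ z' : X, f.base z' = f.base ξ → z' ⤳ ξ → z' = ξ) := by
  have hle : ∀ ξ : X, ξ ⤳ x → tr f ξ ≤ d := by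
    intro ξ hsp
    have := tr_le_fibreDimAt_of_specializes_nn f x ξ hsp
    rw [hd] at this
    exact_mod_cast this
  by_contra hcon
  push Not at hcon
  have hlt : ∀ z : X, f.base z = f.base x → z ⤳ x →
      (∀ z' : X, f.base z' = f.base z → z' ⤳ z → z' = z) → tr f z < d := by
    intro z hz hsp hmax
    refine lt_of_le_of_ne (hle z hsp) (fun h => ?_)
    obtain ⟨z', h1, h2, h3⟩ := hcon z hsp hz h
    exact h3 (hmax z' h1 h2)
  by_cases hd0 : d = 0
  · subst hd0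
    obtain ⟨U, hxU, hU⟩ := exists_nhd_fibre_max_gen f x (f.base x)
    obtain ⟨σ, hfσ, -, hσx, hσmax⟩ := hU x hxU rfl
    exact absurd (hlt σ hfσ hσx hσmax) (Nat.not_lt_zero _)
  · have h1 := fibreDimAt_le_of_max_tr_le_nn f x (d - 1) (fun z hz hsp hmax => by
      have := hlt z hz hsp hmax
      omega)
    rw [hd] at h1
    have h2 : d ≤ d - 1 := by exact_mod_cast h1
    omega

theorem fibreDimAt_le_dim_open_fibre (x : X) (U : X.Opens) (hxU : x ∈ U) :
    FlatMor.fibreDimAt f x ≤ topologicalKrullDim ↥((U : Set X) ∩ f.base ⁻¹' {f.base x}) := by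
  obtain ⟨d, hd, -⟩ := exists_open_fibreDimAt_le f x
  obtain ⟨ξ, hξx, hfξ, htr, -⟩ := exists_max_gen_tr_eq f x d hd
  rw [hd, ← htr]
  exact tr_le_dim_open_fibre f U ξ (hξx.mem_open U.2 hxU) _ hfξ

/-- bounding the dimension of the trace of a fibre on an open subset by bounding the residual
transcendence degrees, with an arbitrary bound -/
theorem dim_open_fibre_le' (U : X.Opens) (y : Y) (D : WithBot ℕ∞)
    (h : ∀ z : X, z ∈ U → f.base z = y → ((tr f z : ℕ) : WithBot ℕ∞) ≤ D) :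
    topologicalKrullDim ↥((U : Set X) ∩ f.base ⁻¹' {y}) ≤ D := by
  induction D using WithBot.recBotCoe with
  | bot =>
    haveI : IsEmpty ↥((U : Set X) ∩ f.base ⁻¹' {y}) := by
      constructor
      rintro ⟨z, hzU, hz⟩
      have := h z hzU hz
      simp at this
    rw [tdim_eq_bot_of_isEmpty]
  | coe m =>
    induction m using ENat.recTopCoe with
    | top => exact le_top
    | coe m =>
      apply dim_open_fibre_le f U y m
      intro z hzU hz
      have := h z hzU hz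
      exact_mod_cast this

end



section
variable {X Y : Scheme.{u}} (f : X ⟶ Y) [LocallyOfFiniteType f]

theorem S4933_b_comp (x : X) (Y₀ : Set Y) (hY₀ : Y₀ ∈ irreducibleComponents (Y : Type u))
    (hxY₀ : f.base x ∈ Y₀)
    (hb : ∀ U : X.Opens, x ∈ U → ∀ y' : Y, closure ({y'} : Set Y) = Y₀ →
      FlatMor.fibreDimAt f x ≤ topologicalKrullDim ↥((U : Set X) ∩ f.base ⁻¹' {y'})) :
      ∃ Z ∈ irreducibleComponents (X : Type u), ∃ hx : x ∈ Z, closure (f.base '' Z) = Y₀ ∧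
        ∀ η : Y, closure ({η} : Set Y) = Y₀ →
          FlatMor.fibreDimAt f x = FlatMor.localDim ↥(Z ∩ f.base ⁻¹' {f.base x}) ⟨x, ⟨hx, rfl⟩⟩ ∧
          FlatMor.localDim ↥(Z ∩ f.base ⁻¹' {f.base x}) ⟨x, ⟨hx, rfl⟩⟩ =
            topologicalKrullDim ↥(Z ∩ f.base ⁻¹' {η}) := by
  obtain ⟨d, hd, -⟩ := exists_open_fibreDimAt_le f x
  obtain ⟨η₀, hη₀max, hη₀⟩ := exists_isMax_closure_eq Y Y₀ hY₀
  have hsp : η₀ ⤳ f x := by
    rw [specializes_iff_mem_closure, hη₀]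
    exact hxY₀
  obtain ⟨ξ, hξx, hfξ, htrξ, hξmaxfib⟩ := exists_max_gen_of_dim_ge f x η₀ d hd
    (fun U hxU => hd ▸ hb U hxU η₀ hη₀)
  have hξmax : ∀ ξ' : X, ξ' ⤳ ξ → ξ' = ξ := by
    intro ξ' hsp'
    have h1 : f ξ' ⤳ η₀ := hfξ ▸ hsp'.map f.continuous
    have h2 : η₀ ≤ f ξ' := h1
    have h3 : η₀ ⤳ f ξ' := hη₀max h2
    have h4 : f ξ' = η₀ := (h1.antisymm h3).eq
    exact hξmaxfib ξ' (h4.trans hfξ.symm) hsp'
  have hZ : closure ({ξ} : Set X) ∈ irreducibleComponents (X : Type u) :=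
    closure_mem_irreducibleComponents_of_max ξ hξmax
  have hx : x ∈ closure ({ξ} : Set X) := specializes_iff_mem_closure.mp hξx
  refine ⟨closure ({ξ} : Set X), hZ, hx, ?_, ?_⟩
  · rw [closure_image_closure f.continuous, Set.image_singleton]

    rw [hfξ, hη₀]
  intro η hη
  have hηη : η = η₀ := (inseparable_iff_closure_eq.mpr (hη.trans hη₀.symm)).eq
  subst hηη
  have hr : Set.range (Scheme.IdealSheafData.vanishingIdeal
      (⟨closure ({ξ} : Set X), isClosed_closure⟩ : TopologicalSpace.Closeds X)).subschemeι =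
      closure ({ξ} : Set X) := by
    rw [Scheme.IdealSheafData.range_subschemeι, Scheme.IdealSheafData.coe_support_vanishingIdeal]
    rfl
  haveI : IrreducibleSpace ↥(Scheme.IdealSheafData.vanishingIdeal
      (⟨closure ({ξ} : Set X), isClosed_closure⟩ : TopologicalSpace.Closeds X)).subscheme :=
    irreducibleSpace_vanishingIdeal_subscheme _ hZ.1
  obtain ⟨ι, hι⟩ : ∃ ι : (Scheme.IdealSheafData.vanishingIdeal
      (⟨closure ({ξ} : Set X), isClosed_closure⟩ : TopologicalSpace.Closeds X)).subscheme ⟶ X,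
      ι = (Scheme.IdealSheafData.vanishingIdeal
      (⟨closure ({ξ} : Set X), isClosed_closure⟩ : TopologicalSpace.Closeds X)).subschemeι :=
    ⟨_, rfl⟩
  haveI : IsClosedImmersion ι := by rw [hι]; infer_instance
  rw [← hι] at hr
  have hxr : x ∈ Set.range ι := by rw [hr]; exact hx
  obtain ⟨wx, hwx⟩ := hxr
  have hgen : ι (genericPoint _) = ξ := map_genericPoint_of_range ι ξ hr
  have hmem : x ∈ closure ({ξ} : Set X) ∩ f.base ⁻¹' {f.base x} := ⟨hx, rfl⟩
  have h1 := fibreDimAt_comp_eq_localDim' f ι ι.isEmbedding _ hr wx x hwx hmem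
  have htrgen : tr (ι ≫ f) (genericPoint _) = d := by
    rw [tr_comp_closedImmersion, hgen, htrξ]
  have h2 : FlatMor.fibreDimAt (ι ≫ f) wx ≤ (d : WithBot ℕ∞) := by
    apply fibreDimAt_le_of_max_tr_le_nn
    intro z'' _ hsp'' _
    rw [tr_comp_closedImmersion]
    have h3 := tr_le_fibreDimAt_of_specializes_nn f (ι wx) (ι z'') (hsp''.map ι.continuous)
    rw [hwx, hd] at h3
    exact_mod_cast h3
  have h3 : (d : WithBot ℕ∞) ≤ FlatMor.fibreDimAt (ι ≫ f) wx := by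
    have := tr_le_fibreDimAt_of_specializes_nn (ι ≫ f) wx (genericPoint _)
      (genericPoint_specializes wx)
    rw [htrgen] at this
    exact this
  have h4 : FlatMor.fibreDimAt (ι ≫ f) wx = (d : WithBot ℕ∞) := le_antisymm h2 h3
  constructor
  · rw [hd, ← h1, h4]
  · rw [← h1, h4, dim_inter_fibre_eq f ι ι.isEmbedding _ hr η]
    symm
    have hgη : (ι ≫ f) (genericPoint _) = η := by
      change f (ι (genericPoint _)) = η
      rw [hgen, hfξ]
    apply dim_fiber_eq_of_tr (ι ≫ f) η d _ (genericPoint _) hgη htrgen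
    intro z hz
    rw [← htrgen]
    exact tr_le_of_specializes (ι ≫ f) (genericPoint _) z (genericPoint_specializes z)
      (hgη.trans hz.symm)

end



section
variable {X Y : Scheme.{u}} (f : X ⟶ Y) [LocallyOfFiniteType f]

theorem localDim_eq_of_max_gen {W : Scheme.{u}} (ι : W ⟶ X) [IsClosedImmersion ι] (Z : Set X)
    (hr : Set.range ι.base = Z) (x ξ : X) (hxZ : x ∈ Z) (hξZ : ξ ∈ Z) (hsp : ξ ⤳ x)
    (hmax : ∀ z' : X, f.base z' = f.base ξ → z' ⤳ ξ → z' = ξ) (d : ℕ)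
    (hd : FlatMor.fibreDimAt f x = (d : WithBot ℕ∞)) (htr : tr f ξ = d) :
    FlatMor.localDim ↥(Z ∩ f.base ⁻¹' {f.base x}) ⟨x, ⟨hxZ, rfl⟩⟩ = (d : WithBot ℕ∞) ∧
    FlatMor.localDim ↥(Z ∩ f.base ⁻¹' {f.base ξ}) ⟨ξ, ⟨hξZ, rfl⟩⟩ = (d : WithBot ℕ∞) := by
  obtain ⟨wx, hwx⟩ : x ∈ Set.range ι.base := by rw [hr]; exact hxZ
  obtain ⟨wξ, hwξ⟩ : ξ ∈ Set.range ι.base := by rw [hr]; exact hξZ
  have h1x := fibreDimAt_comp_eq_localDim' f ι ι.isEmbedding _ hr wx x hwx ⟨hxZ, rfl⟩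
  have h1ξ := fibreDimAt_comp_eq_localDim' f ι ι.isEmbedding _ hr wξ ξ hwξ ⟨hξZ, rfl⟩
  have hspw : wξ ⤳ wx := by
    rw [← ι.isEmbedding.isInducing.specializes_iff, hwx, hwξ]; exact hsp
  have hmaxw : ∀ z' : W, (ι ≫ f).base z' = (ι ≫ f).base wξ → z' ⤳ wξ → z' = wξ := by
    intro z' hz' hspz
    apply ι.isEmbedding.injective
    rw [hwξ]
    apply hmax
    · have : f.base (ι.base z') = f.base (ι.base wξ) := hz'
      rw [this, hwξ]
    · rw [← hwξ]; exact hspz.map ι.continuous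
  have h2ξ : FlatMor.fibreDimAt (ι ≫ f) wξ = (d : WithBot ℕ∞) := by
    rw [fibreDimAt_eq_tr_of_max_nn (ι ≫ f) wξ hmaxw, tr_comp_closedImmersion, hwξ, htr]
  have h2 : FlatMor.fibreDimAt (ι ≫ f) wx ≤ (d : WithBot ℕ∞) := by
    apply fibreDimAt_le_of_max_tr_le_nn
    intro z'' _ hsp'' _
    rw [tr_comp_closedImmersion]
    have h3 := tr_le_fibreDimAt_of_specializes_nn f (ι wx) (ι z'') (hsp''.map ι.continuous)
    rw [hwx, hd] at h3
    exact_mod_cast h3
  have h3 : (d : WithBot ℕ∞) ≤ FlatMor.fibreDimAt (ι ≫ f) wx := by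
    have := tr_le_fibreDimAt_of_specializes_nn (ι ≫ f) wx wξ hspw
    rw [tr_comp_closedImmersion, hwξ, htr] at this
    exact this
  exact ⟨by rw [← h1x]; exact le_antisymm h2 h3, by rw [← h1ξ]; exact h2ξ⟩

end



section
variable {X Y : Scheme.{u}} (f : X ⟶ Y) [LocallyOfFiniteType f]

/-- a ⇒ b'' -/
theorem S4938_ab'' (y : Y)
    (ha : ∀ x : X, f.base x = y → EGA43.IsUnivOpenAt f x) (U : X.Opens) (η : Y) (hη : η ⤳ y) :
    topologicalKrullDim ↥((U : Set X) ∩ f.base ⁻¹' {y}) ≤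
      topologicalKrullDim ↥((U : Set X) ∩ f.base ⁻¹' {η}) := by
  apply dim_open_fibre_le'
  intro z hzU hz
  obtain ⟨d, hd, -⟩ := exists_open_fibreDimAt_le f z
  obtain ⟨ξ, hξz, hfξ, htr, hmax⟩ := exists_max_gen_tr_eq f z d hd
  have hξU : ξ ∈ U := hξz.mem_open U.2 hzU
  have h1 : tr f z ≤ tr f ξ := tr_le_of_specializes f ξ z hξz hfξ
  have h2 := S4933_a f ξ (fun x' hx' hcl => hmax x' hx' (specializes_iff_mem_closure.mpr hcl))
    (ha ξ (hfξ.trans hz)) U hξU η (by rw [hfξ, hz]; exact hη)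
  rw [fibreDimAt_eq_tr_of_max_nn f ξ hmax] at h2
  refine le_trans ?_ h2
  exact_mod_cast h1

/-- c ⇒ b at an arbitrary point of the fibre -/
theorem S4938_cb [IsLocallyNoetherian Y] (x : X)
    (hy : CAlg2.IsGeomUnibranch (Y.presheaf.stalk (f.base x)))
    (hc : ∀ x' : X, f.base x' = f.base x → EGA43.IsOpenAt f.base x')
    (Y₀ : Set Y) (hY₀ : Y₀ ∈ irreducibleComponents (Y : Type u)) (hxY₀ : f.base x ∈ Y₀) :
    ∃ Z ∈ irreducibleComponents (X : Type u), ∃ hx : x ∈ Z, closure (f.base '' Z) = Y₀ ∧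
      ∀ η : Y, closure ({η} : Set Y) = Y₀ →
        FlatMor.localDim ↥(Z ∩ f.base ⁻¹' {f.base x}) ⟨x, ⟨hx, rfl⟩⟩ =
          topologicalKrullDim ↥(Z ∩ f.base ⁻¹' {η}) := by
  obtain ⟨d, hd, -⟩ := exists_open_fibreDimAt_le f x
  obtain ⟨ξ, hξx, hfξ, htr, hmax⟩ := exists_max_gen_tr_eq f x d hd
  have hyξ : CAlg2.IsGeomUnibranch (Y.presheaf.stalk (f.base ξ)) := by rw [hfξ]; exact hy
  have htfae := S4934_main f ξ
    (fun x' hx' hcl => hmax x' hx' (specializes_iff_mem_closure.mpr hcl)) hyξ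
  have hbξ := (htfae.out 3 1).mp (hc ξ hfξ)
  obtain ⟨Z, hZ, hξZ, hdom, hdim⟩ := hbξ Y₀ hY₀ (by rw [hfξ]; exact hxY₀)
  have hZc : IsClosed Z := isClosed_of_mem_irreducibleComponents Z hZ
  have hxZ : x ∈ Z := hZc.closure_subset_iff.mpr (Set.singleton_subset_iff.mpr hξZ)
    (specializes_iff_mem_closure.mp hξx)
  refine ⟨Z, hZ, hxZ, hdom, fun η hη => ?_⟩
  have hr : Set.range (Scheme.IdealSheafData.vanishingIdeal
      (⟨Z, hZc⟩ : TopologicalSpace.Closeds X)).subschemeι = Z := by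
    rw [Scheme.IdealSheafData.range_subschemeι, Scheme.IdealSheafData.coe_support_vanishingIdeal]
    rfl
  obtain ⟨e1, e2⟩ := localDim_eq_of_max_gen f (Scheme.IdealSheafData.vanishingIdeal
      (⟨Z, hZc⟩ : TopologicalSpace.Closeds X)).subschemeι Z hr x ξ hxZ hξZ hξx hmax d hd htr
  rw [e1, ← e2]
  exact hdim η hη

theorem S4938_main [IsLocallyNoetherian Y] (y : Y)
    (hy : CAlg2.IsGeomUnibranch (Y.presheaf.stalk y)) :
    List.TFAE [∀ x : X, f.base x = y → EGA43.IsUnivOpenAt f x,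
      ∀ x : X, f.base x = y → ∀ Y₀ ∈ irreducibleComponents (Y : Type u), y ∈ Y₀ →
        ∃ Z ∈ irreducibleComponents (X : Type u), ∃ hx : x ∈ Z, closure (f.base '' Z) = Y₀ ∧
          ∀ η : Y, closure ({η} : Set Y) = Y₀ →
            FlatMor.localDim ↥(Z ∩ f.base ⁻¹' {f.base x}) ⟨x, ⟨hx, rfl⟩⟩ = topologicalKrullDim ↥(Z ∩ f.base ⁻¹' {η}),
      ∀ U : X.Opens, ∀ Y₀ ∈ irreducibleComponents (Y : Type u), y ∈ Y₀ → ∀ η : Y, closure ({η} : Set Y) = Y₀ →
        topologicalKrullDim ↥((U : Set X) ∩ f.base ⁻¹' {y}) ≤ topologicalKrullDim ↥((U : Set X) ∩ f.base ⁻¹' {η}),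
      ∀ x : X, f.base x = y → EGA43.IsOpenAt f.base x] := by
  tfae_have 1 → 4 := fun h x hx => isOpenAt_of_isUnivOpenAt f x (h x hx)
  tfae_have 2 → 1 := by
    intro h x hx
    subst hx
    exact S4934_ba f x hy (h x rfl)
  tfae_have 3 → 2 := by
    intro h x hx Y₀ hY₀ hyY₀
    subst hx
    obtain ⟨Z, hZ, hxZ, hdom, hdim⟩ := S4933_b_comp f x Y₀ hY₀ hyY₀ (fun U hxU y' hy' =>
      (fibreDimAt_le_dim_open_fibre f x U hxU).trans (h U Y₀ hY₀ hyY₀ y' hy'))
    exact ⟨Z, hZ, hxZ, hdom, fun η hη => (hdim η hη).2⟩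
  tfae_have 1 → 3 := by
    intro h U Y₀ hY₀ hyY₀ η hη
    apply S4938_ab'' f y h U η
    rw [specializes_iff_mem_closure, hη]; exact hyY₀
  tfae_have 4 → 2 := by
    intro h x hx Y₀ hY₀ hyY₀
    subst hx
    exact S4938_cb f x hy (fun x' hx' => h x' hx') Y₀ hY₀ hyY₀
  tfae_finish

end


end Groth.Agent.Lib.Helper4.ChevCrit5
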