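import Mathlib
import Groth.Prelude.Def_Cyc
import Groth.Agent.Lib.Helper4.JacDim1
import Groth.Prelude.Def_EGA43
import Groth.Agent.Lib.Helper4.FibreStalkDim1
import Groth.Agent.Lib.Helper4.DimFT1
import Groth.Agent.Lib.Helper4.DimFT2
import Groth.Agent.Lib.Helper4.Chev8
import Groth.Agent.Lib.Helper4.FibDim7
import Groth.Agent.Lib.Helper4.EffCartierDim1
import Groth.Agent.Lib.Helper4.JacDim4
import Groth.Agent.Lib.Helper4.Chev9
import Groth.Agent.Lib.Helper4.Chev10
import Groth.Agent.Lib.Helper4.Chev11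
import Groth.Agent.Lib.Helper4.Equi1
import Groth.Agent.Lib.Helper4.Equi2
import Groth.Agent.Lib.Helper4.Equi3
import Groth.Agent.Lib.Helper4.Equi4
import Groth.Agent.Lib.Helper4.Equi5
import Groth.Agent.Lib.Helper4.Equi6
import Groth.Agent.Lib.Helper4.Equi7
import Groth.Agent.Lib.Helper4.Aff1
import Groth.Agent.Lib.Helper4.Aff2
import Groth.Agent.Lib.Helper4.Equi10
import Groth.Agent.Lib.Helper4.Val1
import Groth.Agent.Lib.Helper4.BaseChg1
import Groth.Agent.Lib.Helper4.UnivOpen1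
import Groth.Agent.Lib.Helper4.FibClosure1
import Groth.Agent.Lib.Helper4.OpenNoeth1
import Groth.Agent.Lib.Helper4.SecComp1
import Groth.Agent.Lib.Helper4.SecComp2
import Groth.Agent.Lib.Helper4.UnivOpen2
import Groth.Agent.Lib.Helper4.UnivOpenAt
import Groth.Agent.Lib.Helper4.RegularLocalCopy
import Groth.Agent.Lib.Helper4.ZMTNormalPt1
import Groth.Agent.Lib.Helper4.LocFinComp1
import Groth.Agent.Lib.Helper4.SecComp3
import Groth.Agent.Lib.Helper4.PropDim1
import Groth.Prelude.Def_FDesc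
import Groth.Prelude.Def_MoreMor
import Groth.Agent.Lib.Helper4.ChevCrit1
import Groth.Agent.Lib.Helper4.ChevCrit2
import Groth.Agent.Lib.Helper4.ChevCrit3
import Groth.Agent.Lib.Helper4.IrrCompDomain1
import Groth.Agent.Lib.Helper4.ChevCrit4
import Groth.Agent.Lib.Helper4.ChevCrit5

/-!
# Universally open = open over a geometrically unibranch locally Noetherian base (S2556) (helper4)
-/

set_option backward.isDefEq.respectTransparency.types false
set_option synthInstance.maxHeartbeats 400000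
set_option autoImplicit false
set_option linter.unusedSectionVars false
set_option linter.style.haveILetI false
set_option linter.unusedSimpArgs false
universe u v w
open CategoryTheory CategoryTheory.Limits AlgebraicGeometry TopologicalSpace IsLocalRing Opposite
open Cardinal AffineSpace MvPolynomial
open Groth.Agent.Lib.Helper4.DimIneq1 Groth.Agent.Lib.Helper4.DimFT2 Groth.Agent.Lib.Helper4.Catenary1
open Groth.Agent.Lib.Helper4.DimEq1 Groth.Agent.Lib.Helper4.DimIneq2 Groth.Agent.Lib.Helper4.DimEq2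
open Groth.Agent.Lib.Helper4.DimIneq3 Groth.Agent.Lib.Helper4.DimIneq4
open Groth.Agent.Lib.Helper4.NormFibre2 Groth.Agent.Lib.Helper4.RadBir3 Groth.Agent.Lib.Helper4.DimFT3
open Groth.Agent.Lib.Helper4.FibDim1 Groth.Agent.Lib.Helper4.FibDim2 Groth.Agent.Lib.Helper4.LocUC1
open Groth.Agent.Lib.Helper4.FibDim3 Groth.Agent.Lib.Helper4.FibDim4 Groth.Agent.Lib.Helper4.FibDim5
open Groth.Agent.Lib.Helper4.FibDim6 Groth.Agent.Lib.Helper4.FibDim7 Groth.Agent.Lib.Helper4.JacDim1
open Groth.Agent.Lib.Helper4.DimFT1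
open Groth.Agent.Lib.Helper4.Chev2 Groth.Agent.Lib.Helper4.Chev5 Groth.Agent.Lib.Helper4.Chev6 Groth.Agent.Lib.Helper4.Chev8
open Groth.Agent.Lib.Helper4.JacDim4 Groth.Agent.Lib.Helper4.EffCartierDim1
open Groth.Agent.Lib.Helper4.Chev9 Groth.Agent.Lib.Helper4.Chev4
open Groth.Agent.Lib.Helper4.Chev10 Groth.Agent.Lib.Helper4.Chev11 Groth.Agent.Lib.Helper4.Chev3 Groth.Agent.Lib.Helper4.Equi1 Groth.Agent.Lib.Helper4.Equi2 Groth.Agent.Lib.Helper4.OpenAt1 Groth.Agent.Lib.Helper4.Equi3 Groth.Agent.Lib.Helper4.Equi4 Groth.Agent.Lib.Helper4.Equi5 Groth.Agent.Lib.Helper4.Equi6 Groth.Agent.Lib.Helper4.Equi7 Groth.Agent.Lib.Helper4.Aff1 Groth.Agent.Lib.Helper4.Aff2 Groth.Agent.Lib.Helper4.Equi10 Groth.Agent.Lib.Helper4.Val1 Groth.Agent.Lib.Helper4.BaseChg1 Groth.Agent.Lib.Helper4.UnivOpen1 Groth.Agent.Lib.Helper4.FibClosure1 Groth.Agent.Lib.Helper4.OpenNoeth1 Groth.Agent.Lib.Helper4.SecComp1 Groth.Agent.Lib.Helper4.SecComp2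
open Groth.Agent.Lib.Helper4.SecComp3 Groth.Agent.Lib.Helper4.PropDim1 Groth.Agent.Lib.Helper4.ZMTNormalPt1 Groth.Agent.Lib.Helper4.UO Groth.Agent.Lib.Helper4.UOp
open Groth.Agent.Lib.Helper4.ChevCrit1 Groth.Agent.Lib.Helper4.ChevCrit2 Groth.Agent.Lib.Helper4.ChevCrit3
open Groth.Agent.Lib.Helper4.IrrCompDomain1 Groth.Agent.Lib.Helper4.RadBir1
open Groth.Agent.Lib.Helper4.ChevCrit4
open Groth.Agent.Lib.Helper4.ChevCrit5

namespace Groth.Agent.Lib.Helper4.ChevCrit6

theorem S2556_main {X Y : Scheme.{u}} [IsLocallyNoetherian Y]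
    (hY : ∀ y : Y, CAlg2.IsGeomUnibranch (Y.presheaf.stalk y)) (f : X ⟶ Y) [LocallyOfFiniteType f] :
    UniversallyOpen f ↔ IsOpenMap f.base := by
  constructor
  · intro h
    exact f.isOpenMap
  · intro h
    apply universallyOpen_of_forall_isUnivOpenAt
    intro x
    have htfae := S4938_main f (f.base x) (hY _)
    have h2 := (htfae.out 3 0).mp (fun x' _ => (isOpenMap_iff_isOpenAt _).1 h x')
    exact h2 x rfl

end Groth.Agent.Lib.Helper4.ChevCrit6
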