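import Mathlib
import Groth.Prelude.Def_Cyc
import Groth.Agent.Lib.Helper4.JacDim1
import Groth.Prelude.Def_EGA43
import Groth.Agent.Lib.Helper4.FibreStalkDim1
import Groth.Agent.Lib.Helper4.DimFT1
import Groth.Agent.Lib.Helper4.DimFT2
import Groth.Agent.Lib.Helper4.Chev8
import Groth.Agent.Lib.Helper4.FibDim7
import Groth.Agent.Lib.Helper4.EffCartierDim1
import Groth.Agent.Lib.Helper4.JacDim4
import Groth.Agent.Lib.Helper4.Chev9
import Groth.Agent.Lib.Helper4.Chev10
import Groth.Agent.Lib.Helper4.Chev11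
import Groth.Agent.Lib.Helper4.Equi1
import Groth.Agent.Lib.Helper4.Equi2
import Groth.Agent.Lib.Helper4.Equi3
import Groth.Agent.Lib.Helper4.Equi4
import Groth.Agent.Lib.Helper4.Equi5
import Groth.Agent.Lib.Helper4.Equi6
import Groth.Agent.Lib.Helper4.Equi7
import Groth.Agent.Lib.Helper4.Aff1
import Groth.Agent.Lib.Helper4.Aff2
import Groth.Agent.Lib.Helper4.Equi10
import Groth.Agent.Lib.Helper4.Val1
import Groth.Agent.Lib.Helper4.BaseChg1
import Groth.Agent.Lib.Helper4.UnivOpen1
import Groth.Agent.Lib.Helper4.FibClosure1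
import Groth.Agent.Lib.Helper4.OpenNoeth1
import Groth.Agent.Lib.Helper4.SecComp1
import Groth.Agent.Lib.Helper4.SecComp2
import Groth.Agent.Lib.Helper4.UnivOpen2
import Groth.Agent.Lib.Helper4.UnivOpenAt
import Groth.Agent.Lib.Helper4.RegularLocalCopy
import Groth.Agent.Lib.Helper4.ZMTNormalPt1
import Groth.Agent.Lib.Helper4.LocFinComp1
import Groth.Agent.Lib.Helper4.SecComp3
import Groth.Agent.Lib.Helper4.PropDim1
import Groth.Prelude.Def_FDesc
import Groth.Prelude.Def_MoreMor

/-!
# S2572: universally open neighbourhood of a fibre over a Dedekind-like base (helper4)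
-/

set_option backward.isDefEq.respectTransparency.types false
set_option synthInstance.maxHeartbeats 400000
set_option autoImplicit false
set_option linter.unusedSectionVars false
set_option linter.style.haveILetI false
set_option linter.unusedSimpArgs false
universe u v w
open CategoryTheory CategoryTheory.Limits AlgebraicGeometry TopologicalSpace IsLocalRing Opposite
open Cardinal AffineSpace MvPolynomial
open Groth.Agent.Lib.Helper4.DimIneq1 Groth.Agent.Lib.Helper4.DimFT2 Groth.Agent.Lib.Helper4.Catenary1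
open Groth.Agent.Lib.Helper4.DimEq1 Groth.Agent.Lib.Helper4.DimIneq2 Groth.Agent.Lib.Helper4.DimEq2
open Groth.Agent.Lib.Helper4.DimIneq3 Groth.Agent.Lib.Helper4.DimIneq4
open Groth.Agent.Lib.Helper4.NormFibre2 Groth.Agent.Lib.Helper4.RadBir3 Groth.Agent.Lib.Helper4.DimFT3
open Groth.Agent.Lib.Helper4.FibDim1 Groth.Agent.Lib.Helper4.FibDim2 Groth.Agent.Lib.Helper4.LocUC1
open Groth.Agent.Lib.Helper4.FibDim3 Groth.Agent.Lib.Helper4.FibDim4 Groth.Agent.Lib.Helper4.FibDim5
open Groth.Agent.Lib.Helper4.FibDim6 Groth.Agent.Lib.Helper4.FibDim7 Groth.Agent.Lib.Helper4.JacDim1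
open Groth.Agent.Lib.Helper4.DimFT1
open Groth.Agent.Lib.Helper4.Chev2 Groth.Agent.Lib.Helper4.Chev5 Groth.Agent.Lib.Helper4.Chev6 Groth.Agent.Lib.Helper4.Chev8
open Groth.Agent.Lib.Helper4.JacDim4 Groth.Agent.Lib.Helper4.EffCartierDim1
open Groth.Agent.Lib.Helper4.Chev9 Groth.Agent.Lib.Helper4.Chev4
open Groth.Agent.Lib.Helper4.Chev10 Groth.Agent.Lib.Helper4.Chev11 Groth.Agent.Lib.Helper4.Chev3 Groth.Agent.Lib.Helper4.Equi1 Groth.Agent.Lib.Helper4.Equi2 Groth.Agent.Lib.Helper4.OpenAt1 Groth.Agent.Lib.Helper4.Equi3 Groth.Agent.Lib.Helper4.Equi4 Groth.Agent.Lib.Helper4.Equi5 Groth.Agent.Lib.Helper4.Equi6 Groth.Agent.Lib.Helper4.Equi7 Groth.Agent.Lib.Helper4.Aff1 Groth.Agent.Lib.Helper4.Aff2 Groth.Agent.Lib.Helper4.Equi10 Groth.Agent.Lib.Helper4.Val1 Groth.Agent.Lib.Helper4.BaseChg1 Groth.Agent.Lib.Helper4.UnivOpen1 Groth.Agent.Lib.Helper4.FibClosure1 Groth.Agent.Lib.Helper4.OpenNoeth1 Groth.Agent.Lib.Helper4.SecComp1 Groth.Agent.Lib.Helper4.SecComp2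
open Groth.Agent.Lib.Helper4.SecComp3 Groth.Agent.Lib.Helper4.PropDim1 Groth.Agent.Lib.Helper4.ZMTNormalPt1 Groth.Agent.Lib.Helper4.UO Groth.Agent.Lib.Helper4.UOp

namespace Groth.Agent.Lib.Helper4.DedekindOpen1
theorem isDedekindDomain_of_regular (R : Type u) [CommRing R] [IsRegularLocalRing R]
    (h : ringKrullDim R ≤ 1) : IsDomain R ∧ IsDedekindDomain R := by
  haveI : IsDomain R := Groth.Agent.Lib.Helper4.RegularLocalCopy.isDomain R
  refine ⟨inferInstance, ?_⟩
  have h1 : (Module.finrank (ResidueField R) (CotangentSpace R) : WithBot ℕ∞) = ringKrullDim R :=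
    (IsRegularLocalRing.iff_finrank_cotangentSpace R).1 inferInstance
  have h2 : Module.finrank (ResidueField R) (CotangentSpace R) ≤ 1 := by
    have : (Module.finrank (ResidueField R) (CotangentSpace R) : WithBot ℕ∞) ≤ 1 := h1 ▸ h
    exact_mod_cast this
  exact ((tfae_of_isNoetherianRing_of_isLocalRing_of_isDomain (R := R)).out 5 2).1 h2


theorem flat_of_injective_dedekind {R B : Type u} [CommRing R] [CommRing B]
    [IsDedekindDomain R] [IsDomain B] (φ : R →+* B) (hφ : Function.Injective φ) : φ.Flat := by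
  letI := φ.toAlgebra
  change Module.Flat R B
  haveI : Module.IsTorsionFree R B := by
    refine ⟨fun r hr m₁ m₂ h => ?_⟩
    have hr0 : r ≠ 0 := hr.ne_zero
    have h1 : φ r * m₁ = φ r * m₂ := h
    have h2 : φ r ≠ 0 := fun h0 => hr0 (hφ (by rw [h0, map_zero]))
    exact mul_left_cancel₀ h2 h1
  infer_instance

theorem stalkMap_injective_of_dominant {Z Y : Scheme.{u}} [IsIntegral Z] [IsIntegral Y]
    (g : Z ⟶ Y) (hdom : g.base (genericPoint Z) = genericPoint Y) (z : Z) :
    Function.Injective (g.stalkMap z).hom := by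
  have hsp : genericPoint Z ⤳ z := genericPoint_specializes z
  have hsq := Scheme.Hom.stalkSpecializes_stalkMap g (genericPoint Z) z hsp
  -- the composite `O_{Y,g z} → O_{Y, g η} → O_{Z,η}` is injective
  have h1 : Function.Injective
      (Y.presheaf.stalkSpecializes (g.base.hom.map_specializes hsp)).hom := by
    have hsp' : genericPoint Y ⤳ g.base z := genericPoint_specializes _
    have := stalkSpecializes_injective (g.base z) hsp'
    have hgen : ∀ (y₀ : Y) (hy₀ : y₀ = genericPoint Y) (h : y₀ ⤳ g.base z),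
        Function.Injective (Y.presheaf.stalkSpecializes h).hom := by
      intro y₀ hy₀ h
      subst hy₀
      exact stalkSpecializes_injective (g.base z) h
    exact hgen _ hdom _
  have h2 : Function.Injective (g.stalkMap (genericPoint Z)).hom := by
    have hF : IsField (Y.presheaf.stalk (g.base (genericPoint Z))) := by
      rw [hdom]
      exact Field.toIsField Y.functionField
    rw [injective_iff_map_eq_zero]
    intro a ha
    by_contra hne
    obtain ⟨b, hb⟩ := hF.mul_inv_cancel hne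
    have : (g.stalkMap (genericPoint Z)).hom (a * b) = 1 := by rw [hb, map_one]
    rw [map_mul, ha, zero_mul] at this
    exact zero_ne_one this
  have h3 : Function.Injective
      ((Y.presheaf.stalkSpecializes (g.base.hom.map_specializes hsp)) ≫
        g.stalkMap (genericPoint Z)).hom := by
    rw [CommRingCat.hom_comp, RingHom.coe_comp]
    exact h2.comp h1
  rw [hsq, CommRingCat.hom_comp, RingHom.coe_comp] at h3
  exact Function.Injective.of_comp h3

theorem flat_of_dominant_dedekind {Z Y : Scheme.{u}} [IsIntegral Z] [IsIntegral Y] (g : Z ⟶ Y)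
    (hdom : g.base (genericPoint Z) = genericPoint Y)
    (hY : ∀ y : Y, IsDedekindDomain (Y.presheaf.stalk y)) : Flat g := by
  rw [Flat.iff_flat_stalkMap]
  intro z
  haveI := hY (g.base z)
  exact flat_of_injective_dedekind _ (stalkMap_injective_of_dominant g hdom z)


theorem locallyFinite_irreducibleComponents_univ {X : Type*} [TopologicalSpace X]
    (hX : ∀ x : X, ∃ W : Set X, IsOpen W ∧ x ∈ W ∧ NoetherianSpace ↥W) :
    LocallyFinite (fun T : ↥(irreducibleComponents X) => (T.1 : Set X)) := by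
  intro x
  obtain ⟨W, hWo, hxW, hWn⟩ := hX x
  refine ⟨W, hWo.mem_nhds hxW, ?_⟩
  let ι : ↥W → X := Subtype.val
  have hι : Topology.IsOpenEmbedding ι := hWo.isOpenEmbedding_subtypeVal
  haveI : Finite ↥(irreducibleComponents ↥W) :=
    (NoetherianSpace.finite_irreducibleComponents (α := ↥W)).to_subtype
  have key : ∀ T : ↥(irreducibleComponents X), ((T.1 : Set X) ∩ W).Nonempty →
      ((T.1 : Set X) ∩ Set.range ι).Nonempty := by
    rintro T ⟨z, hzT, hzW⟩
    exact ⟨z, hzT, ⟨⟨z, hzW⟩, rfl⟩⟩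
  let g : ↥{T : ↥(irreducibleComponents X) | ((T.1 : Set X) ∩ W).Nonempty} →
      ↥(irreducibleComponents ↥W) :=
    fun T => ⟨ι ⁻¹' T.1.1, preimage_mem_irreducibleComponents T.1.2 hι (key T.1 T.2)⟩
  have hg : Function.Injective g := by
    intro T T' hTT'
    have h0 : ι ⁻¹' T.1.1 = ι ⁻¹' T'.1.1 := congrArg Subtype.val hTT'
    have e1 := closure_image_preimage_of_isPreirreducible ι hι.isOpenMap T.1.1
      (by obtain ⟨z, hz, v, rfl⟩ := key T.1 T.2; exact ⟨v, hz⟩) T.1.2.1.2
      (isClosed_of_mem_irreducibleComponents _ T.1.2)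
    have e2 := closure_image_preimage_of_isPreirreducible ι hι.isOpenMap T'.1.1
      (by obtain ⟨z, hz, v, rfl⟩ := key T'.1 T'.2; exact ⟨v, hz⟩) T'.1.2.1.2
      (isClosed_of_mem_irreducibleComponents _ T'.1.2)
    apply Subtype.ext
    apply Subtype.ext
    rw [← e1, ← e2, h0]
  exact Set.finite_coe_iff.mp (Finite.of_injective g hg)

/-- in a locally Noetherian scheme, the union of any family of irreducible components is closed -/
theorem isClosed_sUnion_irreducibleComponents (X : Scheme.{u}) [IsLocallyNoetherian X]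
    (S : Set (Set ↥X)) (hS : S ⊆ irreducibleComponents (↥X : Type u)) : IsClosed (⋃₀ S) := by
  have hlf : LocallyFinite (fun T : ↥(irreducibleComponents (↥X : Type u)) => (T.1 : Set ↥X)) := by
    refine locallyFinite_irreducibleComponents_univ (fun x => ?_)
    obtain ⟨W, hW, hxW, -⟩ := exists_isAffineOpen_mem_and_subset (x := x) (U := ⊤) trivial
    haveI : IsNoetherianRing Γ(X, W) := IsLocallyNoetherian.component_noetherian ⟨W, hW⟩
    exact ⟨W, W.isOpen, hxW, noetherianSpace_of_isAffineOpen W hW⟩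
  let j : ↥S → ↥(irreducibleComponents (↥X : Type u)) := fun T => ⟨T.1, hS T.2⟩
  have hj : Function.Injective j := by
    intro a b hab
    have : (j a).1 = (j b).1 := congrArg Subtype.val hab
    exact Subtype.ext this
  have hlf' := hlf.comp_injective hj
  have hcl := hlf'.isClosed_iUnion (fun T => isClosed_of_mem_irreducibleComponents _ (hS T.2))
  have : ⋃₀ S = ⋃ T : ↥S, (T.1 : Set ↥X) := Set.sUnion_eq_iUnion
  rw [this]
  exact hcl


theorem isUnivOpenAt_of_closedImmersion_flat {X Y W : Scheme.{u}} [IsLocallyNoetherian Y]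
    [IsIntegral Y] (hY : ∀ y : Y, IsDedekindDomain (Y.presheaf.stalk y))
    (f : X ⟶ Y) [LocallyOfFiniteType f] (ι : W ⟶ X) [IsClosedImmersion ι] [IsIntegral W]
    (hdense : Dense (f.base '' Set.range ι)) (w : W) : EGA43.IsUnivOpenAt f (ι w) := by
  have hgen : (ι ≫ f).base (genericPoint W) = genericPoint Y := by
    have h3 : closure ({genericPoint W} : Set W) = Set.univ := (genericPoint_spec W).def
    have h4 : closure ({(ι ≫ f).base (genericPoint W)} : Set Y) = Set.univ := by
      rw [← Set.image_singleton, ← closure_image_closure (ι ≫ f).continuous, h3, Set.image_univ]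
      have : Set.range (ι ≫ f).base = f.base '' Set.range ι := by
        rw [Scheme.Hom.comp_base, TopCat.coe_comp, Set.range_comp]
      rw [this]
      exact hdense.closure_eq
    have h5 : closure ({genericPoint Y} : Set Y) = Set.univ := (genericPoint_spec Y).def
    exact (inseparable_iff_closure_eq.mpr (h4.trans h5.symm)).eq
  haveI : Flat (ι ≫ f) := flat_of_dominant_dedekind (ι ≫ f) hgen hY
  haveI : LocallyOfFiniteType (ι ≫ f) := inferInstance
  haveI : LocallyOfFinitePresentation (ι ≫ f) := inferInstance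
  haveI : UniversallyOpen (ι ≫ f) := inferInstance
  have h1 : EGA43.IsUnivOpenAt (ι ≫ f) w :=
    Groth.Agent.Lib.Helper4.UOp.isUnivOpenAt_of_universallyOpen (ι ≫ f) w
  exact Groth.Agent.Lib.Helper4.UO.S4926_main ι f w h1

theorem isUnivOpenAt_of_mem_dominating_component {X Y : Scheme.{u}} [IsLocallyNoetherian Y]
    [IsIntegral Y] (hY : ∀ y : Y, IsDedekindDomain (Y.presheaf.stalk y))
    (f : X ⟶ Y) [LocallyOfFiniteType f] (Z : Set X)
    (hZ : Z ∈ irreducibleComponents (↥X : Type u))
    (hdense : Dense (f.base '' Z)) (x : X) (hx : x ∈ Z) : EGA43.IsUnivOpenAt f x := by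
  have hZcl : IsClosed Z := isClosed_of_mem_irreducibleComponents _ hZ
  obtain ⟨Zc, hZc⟩ : ∃ Zc : TopologicalSpace.Closeds X, Zc = ⟨Z, hZcl⟩ := ⟨_, rfl⟩
  have hZc' : (Zc : Set X) = Z := by rw [hZc]; rfl
  have hr : Set.range (Scheme.IdealSheafData.vanishingIdeal Zc).subschemeι = Z := by
    rw [Scheme.IdealSheafData.range_subschemeι, Scheme.IdealSheafData.coe_support_vanishingIdeal,
      hZc']
  haveI : IrreducibleSpace ↥(Scheme.IdealSheafData.vanishingIdeal Zc).subscheme :=
    irreducibleSpace_vanishingIdeal_subscheme Zc (by rw [hZc']; exact hZ.1)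
  haveI : IsReduced (Scheme.IdealSheafData.vanishingIdeal Zc).subscheme :=
    isReduced_vanishingIdeal_subscheme Zc
  haveI : IsIntegral (Scheme.IdealSheafData.vanishingIdeal Zc).subscheme :=
    isIntegral_of_irreducibleSpace_of_isReduced _
  obtain ⟨w, hw⟩ : x ∈ Set.range (Scheme.IdealSheafData.vanishingIdeal Zc).subschemeι := by
    rw [hr]; exact hx
  have := isUnivOpenAt_of_closedImmersion_flat hY f
    (Scheme.IdealSheafData.vanishingIdeal Zc).subschemeι (by rw [hr]; exact hdense) w
  rwa [hw] at this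


theorem S2572_main {X Y : Scheme.{u}} [IsLocallyNoetherian Y] [IrreducibleSpace Y]
    (hY : ∀ y : Y, IsRegularLocalRing (Y.presheaf.stalk y) ∧ ringKrullDim (Y.presheaf.stalk y) ≤ 1)
    (f : X ⟶ Y) [LocallyOfFiniteType f] (y : Y)
    (h : ∀ Z ∈ irreducibleComponents (X : Type u), (Z ∩ f.base ⁻¹' {y}).Nonempty →
      Dense (f.base '' Z)) :
    ∃ U : X.Opens, f.base ⁻¹' {y} ⊆ (U : Set X) ∧ UniversallyOpen (U.ι ≫ f) := by
  have hD : ∀ y : Y, IsDomain (Y.presheaf.stalk y) ∧ IsDedekindDomain (Y.presheaf.stalk y) := by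
    intro y
    haveI := (hY y).1
    exact isDedekindDomain_of_regular _ (hY y).2
  haveI : ∀ y : Y, _root_.IsReduced (Y.presheaf.stalk y) := by
    intro y
    haveI := (hD y).1
    infer_instance
  haveI : IsReduced Y := isReduced_of_isReduced_stalk Y
  haveI : IsIntegral Y := isIntegral_of_irreducibleSpace_of_isReduced Y
  haveI : IsLocallyNoetherian X := LocallyOfFiniteType.isLocallyNoetherian f
  obtain ⟨S, hS⟩ : ∃ S : Set (Set ↥X), S =
      {Z | Z ∈ irreducibleComponents (↥X : Type u) ∧ ¬ Dense (f.base '' Z)} := ⟨_, rfl⟩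
  have hSsub : S ⊆ irreducibleComponents (↥X : Type u) := by
    rw [hS]; exact fun Z hZ => hZ.1
  have hcl : IsClosed (⋃₀ S) := isClosed_sUnion_irreducibleComponents X S hSsub
  refine ⟨⟨(⋃₀ S)ᶜ, hcl.isOpen_compl⟩, ?_, ?_⟩
  · intro x hx
    change x ∈ (⋃₀ S)ᶜ
    rintro ⟨Z, hZS, hxZ⟩
    rw [hS] at hZS
    exact hZS.2 (h Z hZS.1 ⟨x, hxZ, hx⟩)
  · apply Groth.Agent.Lib.Helper4.UOp.universallyOpen_of_forall_isUnivOpenAt
    intro u
    apply Groth.Agent.Lib.Helper4.UO.S4925_main
    · exact Groth.Agent.Lib.Helper4.UOp.isUnivOpenAt_of_universallyOpen _ u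
    · have hu : (Scheme.Opens.ι _ u : X) ∉ ⋃₀ S := u.2
      refine isUnivOpenAt_of_mem_dominating_component (fun y => (hD y).2) f
        (irreducibleComponent (Scheme.Opens.ι _ u : X))
        (irreducibleComponent_mem_irreducibleComponents _) ?_ _ mem_irreducibleComponent
      by_contra hnd
      apply hu
      refine ⟨irreducibleComponent (Scheme.Opens.ι _ u : X), ?_, mem_irreducibleComponent⟩
      have hmem : ∀ Z : Set ↥X, Z ∈ irreducibleComponents (↥X : Type u) → ¬ Dense (f.base '' Z) →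
          Z ∈ S := by
        intro Z h1 h2
        rw [hS]
        exact ⟨h1, h2⟩
      exact hmem _ (irreducibleComponent_mem_irreducibleComponents _) hnd


end Groth.Agent.Lib.Helper4.DedekindOpen1
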