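import Mathlib
import Groth.Prelude.Def_Cyc
import Groth.Agent.Lib.Helper4.JacDim1
import Groth.Prelude.Def_EGA43
import Groth.Agent.Lib.Helper4.FibreStalkDim1
import Groth.Agent.Lib.Helper4.DimFT1
import Groth.Agent.Lib.Helper4.DimFT2
import Groth.Agent.Lib.Helper4.Chev8
import Groth.Agent.Lib.Helper4.FibDim7
import Groth.Agent.Lib.Helper4.EffCartierDim1
import Groth.Agent.Lib.Helper4.JacDim4
import Groth.Agent.Lib.Helper4.Chev9
import Groth.Agent.Lib.Helper4.Chev10
import Groth.Agent.Lib.Helper4.Chev11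
import Groth.Agent.Lib.Helper4.Equi1
import Groth.Agent.Lib.Helper4.Equi2
import Groth.Agent.Lib.Helper4.Equi3
import Groth.Agent.Lib.Helper4.Equi4
import Groth.Agent.Lib.Helper4.Equi5
import Groth.Agent.Lib.Helper4.Equi6
import Groth.Agent.Lib.Helper4.Equi7
import Groth.Agent.Lib.Helper4.Aff1
import Groth.Agent.Lib.Helper4.Aff2
import Groth.Agent.Lib.Helper4.Equi10
import Groth.Agent.Lib.Helper4.Val1
import Groth.Agent.Lib.Helper4.BaseChg1
import Groth.Agent.Lib.Helper4.UnivOpen1

/-!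
# Universally open morphisms satisfy condition (T): every point lies on an irreducible component equidimensional over the base (helper4)
-/

set_option backward.isDefEq.respectTransparency.types false
set_option synthInstance.maxHeartbeats 400000
set_option autoImplicit false
set_option linter.unusedSectionVars false
set_option linter.style.haveILetI false
set_option linter.unusedSimpArgs false
universe u v w
open CategoryTheory CategoryTheory.Limits AlgebraicGeometry TopologicalSpace IsLocalRing Opposite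
open Cardinal AffineSpace MvPolynomial
open Groth.Agent.Lib.Helper4.DimIneq1 Groth.Agent.Lib.Helper4.DimFT2 Groth.Agent.Lib.Helper4.Catenary1
open Groth.Agent.Lib.Helper4.DimEq1 Groth.Agent.Lib.Helper4.DimIneq2 Groth.Agent.Lib.Helper4.DimEq2
open Groth.Agent.Lib.Helper4.DimIneq3 Groth.Agent.Lib.Helper4.DimIneq4
open Groth.Agent.Lib.Helper4.NormFibre2 Groth.Agent.Lib.Helper4.RadBir3 Groth.Agent.Lib.Helper4.DimFT3
open Groth.Agent.Lib.Helper4.FibDim1 Groth.Agent.Lib.Helper4.FibDim2 Groth.Agent.Lib.Helper4.LocUC1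
open Groth.Agent.Lib.Helper4.FibDim3 Groth.Agent.Lib.Helper4.FibDim4 Groth.Agent.Lib.Helper4.FibDim5
open Groth.Agent.Lib.Helper4.FibDim6 Groth.Agent.Lib.Helper4.FibDim7 Groth.Agent.Lib.Helper4.JacDim1
open Groth.Agent.Lib.Helper4.DimFT1
open Groth.Agent.Lib.Helper4.Chev2 Groth.Agent.Lib.Helper4.Chev5 Groth.Agent.Lib.Helper4.Chev6 Groth.Agent.Lib.Helper4.Chev8
open Groth.Agent.Lib.Helper4.JacDim4 Groth.Agent.Lib.Helper4.EffCartierDim1
open Groth.Agent.Lib.Helper4.Chev9 Groth.Agent.Lib.Helper4.Chev4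
open Groth.Agent.Lib.Helper4.Chev10 Groth.Agent.Lib.Helper4.Chev11 Groth.Agent.Lib.Helper4.Chev3 Groth.Agent.Lib.Helper4.Equi1 Groth.Agent.Lib.Helper4.Equi2 Groth.Agent.Lib.Helper4.OpenAt1 Groth.Agent.Lib.Helper4.Equi3 Groth.Agent.Lib.Helper4.Equi4 Groth.Agent.Lib.Helper4.Equi5 Groth.Agent.Lib.Helper4.Equi6 Groth.Agent.Lib.Helper4.Equi7 Groth.Agent.Lib.Helper4.Aff1 Groth.Agent.Lib.Helper4.Aff2 Groth.Agent.Lib.Helper4.Equi10 Groth.Agent.Lib.Helper4.Val1 Groth.Agent.Lib.Helper4.BaseChg1 Groth.Agent.Lib.Helper4.UnivOpen1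

namespace Groth.Agent.Lib.Helper4.UnivOpenT1

section EQ
variable {W S : Scheme.{u}} (g : W ⟶ S) [LocallyOfFiniteType g]

/-- a morphism locally of finite type from an irreducible scheme whose generic point maps to a
maximal point of the target is equidimensional at a point as soon as the local dimension of the
fibre there is at most the residual transcendence degree of the generic point -/
theorem isEquidimAt_of_irreducible_nn [IrreducibleSpace W] (wx : W)
    (ha : closure ({g (genericPoint W)} : Set S) ∈ irreducibleComponents (S : Type u))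
    (hb : FlatMor.fibreDimAt g wx ≤ ((tr g (genericPoint W) : ℕ) : WithBot ℕ∞)) :
    EGA43.IsEquidimAt g wx := by
  obtain ⟨d', hd', O, hwxO, hO⟩ := exists_open_fibreDimAt_le g wx
  have h1 := tr_le_fibreDimAt_of_specializes_nn g wx (genericPoint W) (genericPoint_specializes wx)
  have hd'e : d' = tr g (genericPoint W) := by
    rw [hd'] at hb h1
    have a1 : d' ≤ tr g (genericPoint W) := by exact_mod_cast hb
    have a2 : tr g (genericPoint W) ≤ d' := by exact_mod_cast h1
    omega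
  apply isEquidimAt_of_facts_nn g wx (tr g (genericPoint W)) O hwxO
  · intro ξ' _ hmaxξ
    have h2 := hmaxξ _ (genericPoint_specializes ξ')
    rw [← h2]
    exact ⟨ha, (genericPoint_specializes wx).map g.continuous⟩
  · intro z' hz'O hmaxz'
    have h2 := fibreDimAt_eq_tr_of_max_nn g z' hmaxz'
    apply le_antisymm
    · have h3 := hO z' hz'O
      rw [h2, hd'e] at h3
      exact_mod_cast h3
    · have h3 := tr_le_fibreDimAt_of_specializes_nn g z' (genericPoint W)
        (genericPoint_specializes z')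
      rw [h2] at h3
      exact_mod_cast h3

end EQ

section T1
variable {X S : Scheme.{u}} (f : X ⟶ S) [LocallyOfFiniteType f]

theorem isUnivOpenAt_of_universallyOpen [UniversallyOpen f] (x : X) : EGA43.IsUnivOpenAt f x := by
  intro Y' g x' _ U hU
  exact (pullback.snd f g).isOpenMap.image_mem_nhds hU

theorem S14075_main [UniversallyOpen f] (x : X) :
    ∃ W : TopologicalSpace.Closeds X, (W : Set X) ∈ irreducibleComponents (X : Type u) ∧
      ∃ w : ↥((Scheme.IdealSheafData.vanishingIdeal W).subscheme),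
        (Scheme.IdealSheafData.vanishingIdeal W).subschemeι.base w = x ∧
        EGA43.IsEquidimAt ((Scheme.IdealSheafData.vanishingIdeal W).subschemeι ≫ f) w := by
  obtain ⟨d, hd, -⟩ := exists_open_fibreDimAt_le f x
  obtain ⟨z, hfz, hzx, -, htrz⟩ := exists_max_tr_eq_fibreDimAt f x
  obtain ⟨η₀, hη₀le, hη₀max⟩ := exists_isMax_ge S (f z)
  have hη₀sp : η₀ ⤳ f z := hη₀le
  have hη₀max' : ∀ η' : S, η' ⤳ η₀ → η' = η₀ := by
    intro η' hsp
    have h1 : η₀ ≤ η' := hsp
    exact (hsp.antisymm (hη₀max h1)).eq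
  obtain ⟨ξ, hξz, hfξ, htrξ⟩ := exists_generization_tr_ge f z (isUnivOpenAt_of_universallyOpen f z)
    η₀ hη₀sp
  obtain ⟨ξ₁, hξ₁le, hξ₁max⟩ := exists_isMax_ge X ξ
  have hξ₁ξ : ξ₁ ⤳ ξ := hξ₁le
  have hξ₁max' : ∀ ξ' : X, ξ' ⤳ ξ₁ → ξ' = ξ₁ := by
    intro ξ' hsp
    have h1 : ξ₁ ≤ ξ' := hsp
    exact (hsp.antisymm (hξ₁max h1)).eq
  have hfξ₁ : f ξ₁ = η₀ := hη₀max' _ (hfξ ▸ hξ₁ξ.map f.continuous)
  have hξ₁x : ξ₁ ⤳ x := (hξ₁ξ.trans hξz).trans hzx
  have htr1 : tr f ξ ≤ tr f ξ₁ := tr_le_of_specializes f ξ₁ ξ hξ₁ξ (hfξ₁.trans hfξ.symm)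
  have htr2 := tr_le_fibreDimAt_of_specializes_nn f x ξ₁ hξ₁x
  rw [hd] at htr2 htrz
  have htr3 : tr f ξ₁ ≤ d := by exact_mod_cast htr2
  have htr4 : tr f z = d := by exact_mod_cast htrz
  have htrξ₁ : tr f ξ₁ = d := by omega
  have hcomp : closure ({ξ₁} : Set X) ∈ irreducibleComponents (X : Type u) :=
    closure_mem_irreducibleComponents_of_isMax X ξ₁ hξ₁max
  refine ⟨⟨closure ({ξ₁} : Set X), isClosed_closure⟩, hcomp, ?_⟩
  have hr : Set.range (Scheme.IdealSheafData.vanishingIdeal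
      (⟨closure ({ξ₁} : Set X), isClosed_closure⟩ : TopologicalSpace.Closeds X)).subschemeι =
      closure ({ξ₁} : Set X) := by
    rw [Scheme.IdealSheafData.range_subschemeι, Scheme.IdealSheafData.coe_support_vanishingIdeal]
    rfl
  haveI : IrreducibleSpace ↥(Scheme.IdealSheafData.vanishingIdeal
      (⟨closure ({ξ₁} : Set X), isClosed_closure⟩ : TopologicalSpace.Closeds X)).subscheme :=
    irreducibleSpace_vanishingIdeal_subscheme _ hcomp.1
  obtain ⟨ι, hι⟩ : ∃ ι : (Scheme.IdealSheafData.vanishingIdeal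
      (⟨closure ({ξ₁} : Set X), isClosed_closure⟩ : TopologicalSpace.Closeds X)).subscheme ⟶ X,
      ι = (Scheme.IdealSheafData.vanishingIdeal
      (⟨closure ({ξ₁} : Set X), isClosed_closure⟩ : TopologicalSpace.Closeds X)).subschemeι :=
    ⟨_, rfl⟩
  haveI : IsClosedImmersion ι := by rw [hι]; infer_instance
  rw [← hι] at hr ⊢
  have hxr : x ∈ Set.range ι := by
    rw [hr]
    exact specializes_iff_mem_closure.mp hξ₁x
  obtain ⟨wx, hwx⟩ := hxr
  refine ⟨wx, hwx, ?_⟩
  have hgen : ι (genericPoint _) = ξ₁ := map_genericPoint_of_range ι ξ₁ hr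
  have htrgen : tr (ι ≫ f) (genericPoint _) = d := by
    rw [tr_comp_closedImmersion, hgen, htrξ₁]
  apply isEquidimAt_of_irreducible_nn (ι ≫ f) wx
  · have : (ι ≫ f) (genericPoint _) = η₀ := by
      change f (ι (genericPoint _)) = η₀
      rw [hgen, hfξ₁]
    rw [this]
    exact closure_mem_irreducibleComponents_of_isMax S η₀ hη₀max
  · rw [htrgen]
    apply fibreDimAt_le_of_max_tr_le_nn
    intro z'' _ hsp'' _
    rw [tr_comp_closedImmersion]
    have h3 := tr_le_fibreDimAt_of_specializes_nn f (ι wx) (ι z'') (hsp''.map ι.continuous)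
    rw [hwx, hd] at h3
    exact_mod_cast h3

end T1

end Groth.Agent.Lib.Helper4.UnivOpenT1
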