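import Mathlib
import Groth.Prelude.Def_Cyc
import Groth.Agent.Lib.Helper4.JacDim1
import Groth.Prelude.Def_EGA43
import Groth.Agent.Lib.Helper4.FibreStalkDim1
import Groth.Agent.Lib.Helper4.DimFT1
import Groth.Agent.Lib.Helper4.DimFT2
import Groth.Agent.Lib.Helper4.Chev8
import Groth.Agent.Lib.Helper4.FibDim7
import Groth.Agent.Lib.Helper4.EffCartierDim1
import Groth.Agent.Lib.Helper4.JacDim4
import Groth.Agent.Lib.Helper4.Chev9
import Groth.Agent.Lib.Helper4.Chev10
import Groth.Agent.Lib.Helper4.Chev11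
import Groth.Agent.Lib.Helper4.Equi1
import Groth.Agent.Lib.Helper4.Equi2
import Groth.Agent.Lib.Helper4.Equi3
import Groth.Agent.Lib.Helper4.Equi4
import Groth.Agent.Lib.Helper4.Equi5
import Groth.Agent.Lib.Helper4.Equi6
import Groth.Agent.Lib.Helper4.Equi7
import Groth.Agent.Lib.Helper4.Aff1
import Groth.Agent.Lib.Helper4.Aff2
import Groth.Agent.Lib.Helper4.Equi10
import Groth.Agent.Lib.Helper4.Val1
import Groth.Agent.Lib.Helper4.BaseChg1
import Groth.Agent.Lib.Helper4.UnivOpen1
import Groth.Agent.Lib.Helper4.FibClosure1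
import Groth.Agent.Lib.Helper4.OpenNoeth1
import Groth.Agent.Lib.Helper4.SecComp1
import Groth.Agent.Lib.Helper4.SecComp2
import Groth.Agent.Lib.Helper4.UnivOpen2
import Groth.Agent.Lib.Helper4.UnivOpenAt
import Groth.Agent.Lib.Helper4.RegularLocalCopy
import Groth.Agent.Lib.Helper4.ZMTNormalPt1
import Groth.Agent.Lib.Helper4.LocFinComp1
import Groth.Agent.Lib.Helper4.SecComp3
import Groth.Agent.Lib.Helper4.PropDim1
import Groth.Prelude.Def_FDesc
import Groth.Prelude.Def_MoreMor
import Groth.Agent.Lib.Helper4.ChevCrit1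
import Groth.Agent.Lib.Helper4.ChevCrit2
import Groth.Agent.Lib.Helper4.ChevCrit3
import Groth.Agent.Lib.Helper4.IrrCompDomain1
import Groth.Agent.Lib.Helper4.ChevCrit4
import Groth.Agent.Lib.Helper4.ChevCrit5
import Groth.Agent.Lib.Helper4.ChevCrit6
import Groth.Agent.Lib.Helper4.DedekindOpen1
import Groth.Agent.Lib.Helper4.UnivOpenT1

/-!
# Chevalley's criterion with quasi-sections over an irreducible base (S4945); density criterion for universal openness along a fibre (helper4)
-/

set_option backward.isDefEq.respectTransparency.types false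
set_option synthInstance.maxHeartbeats 400000
set_option autoImplicit false
set_option linter.unusedSectionVars false
set_option linter.style.haveILetI false
set_option linter.unusedSimpArgs false
universe u v w
open CategoryTheory CategoryTheory.Limits AlgebraicGeometry TopologicalSpace IsLocalRing Opposite
open Cardinal AffineSpace MvPolynomial
open Groth.Agent.Lib.Helper4.DimIneq1 Groth.Agent.Lib.Helper4.DimFT2 Groth.Agent.Lib.Helper4.Catenary1
open Groth.Agent.Lib.Helper4.DimEq1 Groth.Agent.Lib.Helper4.DimIneq2 Groth.Agent.Lib.Helper4.DimEq2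
open Groth.Agent.Lib.Helper4.DimIneq3 Groth.Agent.Lib.Helper4.DimIneq4
open Groth.Agent.Lib.Helper4.NormFibre2 Groth.Agent.Lib.Helper4.RadBir3 Groth.Agent.Lib.Helper4.DimFT3
open Groth.Agent.Lib.Helper4.FibDim1 Groth.Agent.Lib.Helper4.FibDim2 Groth.Agent.Lib.Helper4.LocUC1
open Groth.Agent.Lib.Helper4.FibDim3 Groth.Agent.Lib.Helper4.FibDim4 Groth.Agent.Lib.Helper4.FibDim5
open Groth.Agent.Lib.Helper4.FibDim6 Groth.Agent.Lib.Helper4.FibDim7 Groth.Agent.Lib.Helper4.JacDim1
open Groth.Agent.Lib.Helper4.DimFT1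
open Groth.Agent.Lib.Helper4.Chev2 Groth.Agent.Lib.Helper4.Chev5 Groth.Agent.Lib.Helper4.Chev6 Groth.Agent.Lib.Helper4.Chev8
open Groth.Agent.Lib.Helper4.JacDim4 Groth.Agent.Lib.Helper4.EffCartierDim1
open Groth.Agent.Lib.Helper4.Chev9 Groth.Agent.Lib.Helper4.Chev4
open Groth.Agent.Lib.Helper4.Chev10 Groth.Agent.Lib.Helper4.Chev11 Groth.Agent.Lib.Helper4.Chev3 Groth.Agent.Lib.Helper4.Equi1 Groth.Agent.Lib.Helper4.Equi2 Groth.Agent.Lib.Helper4.OpenAt1 Groth.Agent.Lib.Helper4.Equi3 Groth.Agent.Lib.Helper4.Equi4 Groth.Agent.Lib.Helper4.Equi5 Groth.Agent.Lib.Helper4.Equi6 Groth.Agent.Lib.Helper4.Equi7 Groth.Agent.Lib.Helper4.Aff1 Groth.Agent.Lib.Helper4.Aff2 Groth.Agent.Lib.Helper4.Equi10 Groth.Agent.Lib.Helper4.Val1 Groth.Agent.Lib.Helper4.BaseChg1 Groth.Agent.Lib.Helper4.UnivOpen1 Groth.Agent.Lib.Helper4.FibClosure1 Groth.Agent.Lib.Helper4.OpenNoeth1 Groth.Agent.Lib.Helper4.SecComp1 Groth.Agent.Lib.Helper4.SecComp2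
open Groth.Agent.Lib.Helper4.SecComp3 Groth.Agent.Lib.Helper4.PropDim1 Groth.Agent.Lib.Helper4.ZMTNormalPt1 Groth.Agent.Lib.Helper4.UO Groth.Agent.Lib.Helper4.UOp
open Groth.Agent.Lib.Helper4.ChevCrit1 Groth.Agent.Lib.Helper4.ChevCrit2 Groth.Agent.Lib.Helper4.ChevCrit3
open Groth.Agent.Lib.Helper4.IrrCompDomain1 Groth.Agent.Lib.Helper4.RadBir1
open Groth.Agent.Lib.Helper4.ChevCrit4
open Groth.Agent.Lib.Helper4.ChevCrit5
open Groth.Agent.Lib.Helper4.DedekindOpen1 Groth.Agent.Lib.Helper4.UnivOpenT1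

namespace Groth.Agent.Lib.Helper4.ChevCrit7

section
variable {X Y : Scheme.{u}} (f : X ⟶ Y)

/-- universal openness along a fibre can be tested on a dense set of points of the fibre -/
theorem isUnivOpenAt_of_dense [IsLocallyNoetherian Y] [LocallyOfFiniteType f] (y : Y) (D : Set X)
    (hD : ∀ x ∈ D, EGA43.IsUnivOpenAt f x)
    (hdense : f.base ⁻¹' {y} ⊆ closure (D ∩ f.base ⁻¹' {y})) :
    ∀ x : X, f.base x = y → EGA43.IsUnivOpenAt f x := by
  rw [S4930_main f y]
  intro A _ _ _ g hg Z hZ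
  haveI : IsLocallyNoetherian (pullback f g) :=
    LocallyOfFiniteType.isLocallyNoetherian (pullback.snd f g)
  have hZirr : IsIrreducible Z := hZ.1
  have hZcl : IsClosed Z := isClosed_of_mem_irreducibleComponents Z hZ
  obtain ⟨ξ, hξgen⟩ := QuasiSober.sober hZirr hZcl
  have key : (⟨⊥, Ideal.isPrime_bot⟩ : PrimeSpectrum A) ∈ (pullback.snd f g).base '' Z := by
    by_cases hc : (pullback.snd f g).base ξ = IsLocalRing.closedPoint A
    · exfalso
      have hfy : f.base ((pullback.fst f g).base ξ) = y := by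
        rw [← Scheme.Hom.comp_apply, pullback.condition, Scheme.Hom.comp_apply, hc, hg]
      have hcl : (pullback.fst f g).base ξ ∈
          closure (D ∩ f.base ⁻¹' {g.base (IsLocalRing.closedPoint A)}) := by
        rw [hg]; exact hdense hfy
      have h1 := mem_closure_fibre_of_fst_mem_closure f g D ξ _ hc hcl
      -- the open neighbourhood of `ξ` avoiding the other components
      have hScl : IsClosed (⋃₀ (irreducibleComponents (↥(pullback f g) : Type u) \ {Z})) :=
        isClosed_sUnion_irreducibleComponents _ _ Set.sdiff_subset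
      have hξN : ξ ∈ (⋃₀ (irreducibleComponents (↥(pullback f g) : Type u) \ {Z}))ᶜ := by
        rintro ⟨Z', ⟨hZ', hne⟩, hξZ'⟩
        apply hne
        have hZ'cl : IsClosed Z' := isClosed_of_mem_irreducibleComponents Z' hZ'
        have hsub : Z ⊆ Z' := by
          rw [← hξgen.def]
          exact closure_minimal (Set.singleton_subset_iff.mpr hξZ') hZ'cl
        exact (hsub.antisymm (hZ.2 hZ'.1 hsub)).symm
      rw [mem_closure_iff] at h1
      obtain ⟨w', hw'N, hw's, hw'D⟩ := h1 _ hScl.isOpen_compl hξN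
      obtain ⟨z'', hz''w', hz''bot⟩ := dvr_lifting_of_isUnivOpenAt f _ (hD _ hw'D) A g w' rfl
      have hZ'' : irreducibleComponent z'' ∈ irreducibleComponents (↥(pullback f g) : Type u) :=
        irreducibleComponent_mem_irreducibleComponents z''
      have hw'Z'' : w' ∈ irreducibleComponent z'' :=
        isClosed_irreducibleComponent.closure_subset_iff.mpr
          (Set.singleton_subset_iff.mpr mem_irreducibleComponent) hz''w'.mem_closure
      have hZeq : irreducibleComponent z'' = Z := by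
        by_contra hne
        exact hw'N ⟨_, ⟨hZ'', hne⟩, hw'Z''⟩
      have hz''Z : z'' ∈ Z := hZeq ▸ mem_irreducibleComponent
      have hZsub : Z ⊆ (pullback.snd f g).base ⁻¹' {IsLocalRing.closedPoint A} := by
        rw [← hξgen.def]
        refine closure_minimal ?_ ((IsLocalRing.isClosed_singleton_closedPoint A).preimage
          (pullback.snd f g).continuous)
        rw [Set.singleton_subset_iff]
        exact hc
      have : (pullback.snd f g).base z'' = IsLocalRing.closedPoint A := hZsub hz''Z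
      rw [hz''bot] at this
      exact dvr_bot_ne_closedPoint A this
    · exact ⟨ξ, hξgen.mem, dvr_eq_bot_of_ne_closedPoint A _ hc⟩
  intro t
  have h1 : t ∈ closure ({(⟨⊥, Ideal.isPrime_bot⟩ : PrimeSpectrum A)} : Set (PrimeSpectrum A)) := by
    rw [dvr_closure_bot]; trivial
  exact closure_mono (Set.singleton_subset_iff.2 key) h1

end



section
variable {X Y : Scheme.{u}} (f : X ⟶ Y) [LocallyOfFiniteType f]

/-- the maximal points of a fibre are dense in it -/
theorem dense_max_points_fibre (y : Y) :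
    f.base ⁻¹' {y} ⊆ closure ({z : X | f.base z = y ∧
      ∀ z' : X, f.base z' = y → z ∈ closure {z'} → z' = z} ∩ f.base ⁻¹' {y}) := by
  intro x hx
  have hx' : f.base x = y := hx
  obtain ⟨d, hd, -⟩ := exists_open_fibreDimAt_le f x
  obtain ⟨ξ, hξx, hfξ, -, hmax⟩ := exists_max_gen_tr_eq f x d hd
  have hξy : f.base ξ = y := hfξ.trans hx'
  have hmem : ξ ∈ {z : X | f.base z = y ∧
      ∀ z' : X, f.base z' = y → z ∈ closure {z'} → z' = z} ∩ f.base ⁻¹' {y} := by
    refine ⟨⟨hξy, fun z' hz' hcl => ?_⟩, hξy⟩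
    exact hmax z' (hz'.trans hξy.symm) (specializes_iff_mem_closure.mpr hcl)
  exact closure_mono (Set.singleton_subset_iff.mpr hmem) hξx.mem_closure

/-- the points closed in a fibre are dense in it -/
theorem dense_closed_points_fibre (y : Y) :
    f.base ⁻¹' {y} ⊆ closure ({x : X | f.base x = y ∧
      ∀ x' : X, f.base x' = y → x ⤳ x' → x' = x} ∩ f.base ⁻¹' {y}) := by
  intro x₀ hx₀
  rw [mem_closure_iff]
  intro N hN hx₀N
  obtain ⟨w₀, hw₀⟩ : x₀ ∈ Set.range (f.fiberι y).base := by rw [f.range_fiberι y]; exact hx₀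
  have hopen : IsOpen ((f.fiberι y).base ⁻¹' N) := hN.preimage (f.fiberι y).continuous
  have hne : ((f.fiberι y).base ⁻¹' N).Nonempty := ⟨w₀, by
    change (f.fiberι y).base w₀ ∈ N
    rw [hw₀]; exact hx₀N⟩
  have hdense : Dense (closedPoints ↥(f.fiber y)) := by
    rw [dense_iff_closure_eq]; exact closure_closedPoints
  obtain ⟨w, hwN, hwcl⟩ := hdense.inter_open_nonempty _ hopen hne
  have hwy : f.base ((f.fiberι y).base w) = y := fiberι_mem f y w
  refine ⟨(f.fiberι y).base w, hwN, ⟨hwy, fun x' hx' hsp => ?_⟩, hwy⟩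
  obtain ⟨w', hw'⟩ : x' ∈ Set.range (f.fiberι y).base := by rw [f.range_fiberι y]; exact hx'
  have hsp' : w ⤳ w' := by
    rw [← (f.fiberι y).isEmbedding.isInducing.specializes_iff, hw']; exact hsp
  have hcl : IsClosed ({w} : Set ↥(f.fiber y)) := hwcl
  have : w' ∈ ({w} : Set ↥(f.fiber y)) := by
    have := hsp'.mem_closure
    rwa [hcl.closure_eq] at this
  rw [← hw', this]

end



section
variable {X Y : Scheme.{u}} (f : X ⟶ Y) [LocallyOfFiniteType f]

theorem fibreDimAt_eq_zero_of_locallyQuasiFinite [LocallyQuasiFinite f] (x : X) :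
    FlatMor.fibreDimAt f x = ((0 : ℕ) : WithBot ℕ∞) := by
  apply le_antisymm
  · apply fibreDimAt_le_of_max_tr_le_nn
    intro z _ _ _
    rw [tr_eq_zero_of_locallyQuasiFinite]
  · have := tr_le_fibreDimAt_nn f x
    rwa [tr_eq_zero_of_locallyQuasiFinite] at this

/-- universal openness at a point through which a quasi-section passes -/
theorem isUnivOpenAt_of_quasiSection [IsLocallyNoetherian Y] (x : X)
    (hy : CAlg2.IsGeomUnibranch (Y.presheaf.stalk (f.base x))) {T : Scheme.{u}} (i : T ⟶ X)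
    [IsIntegral T] (hx : x ∈ Set.range i.base) [LocallyOfFiniteType (i ≫ f)]
    [LocallyQuasiFinite (i ≫ f)] [IsDominant (i ≫ f)] : EGA43.IsUnivOpenAt f x := by
  obtain ⟨t, ht⟩ := hx
  have ht' : (i ≫ f).base t = f.base x := by rw [← ht]; rfl
  have h1 : EGA43.IsUnivOpenAt (i ≫ f) t := by
    apply isUnivOpenAt_of_integral
    · intro s _
      exact map_genericPoint_specializes (i ≫ f) s
    · rw [fibreDimAt_eq_zero_of_locallyQuasiFinite, tr_eq_zero_of_locallyQuasiFinite]
    · rw [ht']; exact hy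
  have := S4926_main i f t h1
  rwa [ht] at this

end



section
variable {X Y : Scheme.{u}} (f : X ⟶ Y) [LocallyOfFiniteType f]

/-- a quasi-section through a point closed in its fibre, from an irreducible component through it
dominating the base with the right fibre dimension -/
theorem exists_quasiSection_of_component [IrreducibleSpace Y] [IsLocallyNoetherian Y] (x : X)
    (hcl : ∀ x' : X, f.base x' = f.base x → x ⤳ x' → x' = x)
    {W : Scheme.{u}} (ι : W ⟶ X) [IsClosedImmersion ι] [IsIntegral W] (Z : Set X)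
    (hr : Set.range ι.base = Z) (hx : x ∈ Z) (hdom : closure (f.base '' Z) = Set.univ)
    (hdim : FlatMor.localDim ↥(Z ∩ f.base ⁻¹' {f.base x}) ⟨x, ⟨hx, rfl⟩⟩ =
              topologicalKrullDim ↥(Z ∩ f.base ⁻¹' {genericPoint Y})) :
    ∃ (T : Scheme.{u}) (i : T ⟶ X), IsImmersion i ∧ IrreducibleSpace ↥T ∧ IsReduced T ∧
      x ∈ Set.range i.base ∧ LocallyOfFiniteType (i ≫ f) ∧ LocallyQuasiFinite (i ≫ f) ∧
      QuasiCompact (i ≫ f) ∧ IsDominant (i ≫ f) := by
  obtain ⟨wx, hwx⟩ : x ∈ Set.range ι.base := by rw [hr]; exact hx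
  have hZc : IsClosed Z := by rw [← hr]; exact ι.isClosedEmbedding.isClosed_range
  obtain ⟨ξ, hξ⟩ : ∃ ξ, ξ = ι.base (genericPoint W) := ⟨_, rfl⟩
  have hξZ : closure ({ξ} : Set X) = Z := by
    have h3 : closure ({genericPoint W} : Set W) = Set.univ := (genericPoint_spec _).def
    apply le_antisymm
    · apply closure_minimal _ hZc
      rw [Set.singleton_subset_iff, hξ, ← hr]; exact ⟨_, rfl⟩
    · rw [← hr, ← Set.image_univ, ← h3, hξ, ← Set.image_singleton]
      exact image_closure_subset_closure_image ι.continuous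
  have hfξ : closure ({f.base ξ} : Set Y) = Set.univ := by
    rw [← hdom, ← hξZ, closure_image_closure f.continuous, Set.image_singleton]
  have hfξη : f.base ξ = genericPoint Y :=
    (inseparable_iff_closure_eq.mpr (hfξ.trans (genericPoint_spec Y).def.symm)).eq
  have h1 := fibreDimAt_comp_eq_localDim' f ι ι.isEmbedding _ hr wx x hwx ⟨hx, rfl⟩
  have hgη : (ι ≫ f).base (genericPoint W) = f.base ξ := by
    rw [hξ]; rfl
  have h3 : topologicalKrullDim ↥((ι ≫ f).fiber (f.base ξ)) =
      ((tr (ι ≫ f) (genericPoint W) : ℕ) : WithBot ℕ∞) := by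
    apply dim_fiber_eq_of_tr (ι ≫ f) (f.base ξ) _ _ (genericPoint W) hgη rfl
    intro z hz
    exact tr_le_of_specializes (ι ≫ f) (genericPoint W) z (genericPoint_specializes z)
      (hgη.trans hz.symm)
  have h4 := dim_inter_fibre_eq f ι ι.isEmbedding _ hr (f.base ξ)
  have hequi : EGA43.IsEquidimAt (ι ≫ f) wx := by
    apply isEquidimAt_of_irreducible_nn
    · rw [hgη, hfξ, irreducibleComponents_eq_singleton]; rfl
    · rw [h1, hdim, ← hfξη, h4, h3]
  have hcl' : ∀ w' : W, (ι ≫ f).base w' = (ι ≫ f).base wx → wx ⤳ w' → w' = wx := by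
    intro w' hw' hsp
    apply ι.isEmbedding.injective
    rw [hwx]
    apply hcl
    · have : f.base (ι.base w') = f.base (ι.base wx) := hw'
      rw [this, hwx]
    · rw [← hwx]; exact hsp.map ι.continuous
  obtain ⟨T, i, hi, hirr, hred, hxT, hft, hqf, hqc, hdomT⟩ := S4944_main (ι ≫ f) wx hequi hcl'
  haveI := hi
  refine ⟨T, i ≫ ι, inferInstance, hirr, hred, ?_, ?_, ?_, ?_, ?_⟩
  · obtain ⟨t, ht⟩ := hxT
    exact ⟨t, by rw [Scheme.Hom.comp_apply, ht, hwx]⟩
  · rw [Category.assoc]; exact hft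
  · rw [Category.assoc]; exact hqf
  · rw [Category.assoc]; exact hqc
  · rw [Category.assoc]; exact hdomT

theorem S4945_main [IrreducibleSpace Y] [IsLocallyNoetherian Y] (y : Y)
    (hy : CAlg2.IsGeomUnibranch (Y.presheaf.stalk y)) :
    List.TFAE [∀ x : X, f.base x = y → EGA43.IsUnivOpenAt f x,
      ∀ x : X, f.base x = y → EGA43.IsOpenAt f.base x,
      ∀ z : X, ∀ hzy : f.base z = y, (∀ z' : X, f.base z' = y → z ∈ closure {z'} → z' = z) →
        ∃ Z ∈ irreducibleComponents (X : Type u), ∃ hz : z ∈ Z, Dense (f.base '' Z) ∧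
          FlatMor.localDim ↥(Z ∩ f.base ⁻¹' {y}) ⟨z, ⟨hz, hzy⟩⟩ = topologicalKrullDim ↥(Z ∩ f.base ⁻¹' {genericPoint Y}),
      ∀ x : X, f.base x = y → (∀ x' : X, f.base x' = y → x ⤳ x' → x' = x) →
        ∃ (T : Scheme.{u}) (i : T ⟶ X), IsImmersion i ∧ IrreducibleSpace ↥T ∧ IsReduced T ∧ x ∈ Set.range i.base ∧
        LocallyOfFiniteType (i ≫ f) ∧ LocallyQuasiFinite (i ≫ f) ∧ QuasiCompact (i ≫ f) ∧ IsDominant (i ≫ f)] := by
  have h38 := S4938_main f y hy
  have huniv : ∀ Y₀ ∈ irreducibleComponents (Y : Type u), Y₀ = Set.univ := by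
    intro Y₀ hY₀
    rw [irreducibleComponents_eq_singleton] at hY₀
    exact hY₀
  have hunivmem : (Set.univ : Set Y) ∈ irreducibleComponents (Y : Type u) := by
    rw [irreducibleComponents_eq_singleton]; rfl
  tfae_have 1 ↔ 2 := h38.out 0 3
  tfae_have 2 → 3 := by
    intro h z hzy hmax
    subst hzy
    have h34 := S4934_main f z hmax hy
    have hb34 := (h34.out 3 1).mp (h z rfl)
    obtain ⟨Z, hZ, hz, hdom, hdim⟩ := hb34 Set.univ hunivmem trivial
    exact ⟨Z, hZ, hz, dense_iff_closure_eq.mpr hdom,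
      hdim (genericPoint Y) (genericPoint_spec Y).def⟩
  tfae_have 3 → 1 := by
    intro h
    apply isUnivOpenAt_of_dense f y _ _ (dense_max_points_fibre f y)
    rintro z ⟨hzy, hmax⟩
    obtain ⟨Z, hZ, hz, hdense, hdim⟩ := h z hzy hmax
    subst hzy
    apply S4934_ba f z hy
    intro Y₀ hY₀ _
    rw [huniv Y₀ hY₀]
    refine ⟨Z, hZ, hz, hdense.closure_eq, fun η hη => ?_⟩
    have : η = genericPoint Y :=
      (inseparable_iff_closure_eq.mpr (hη.trans (genericPoint_spec Y).def.symm)).eq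
    rw [this]; exact hdim
  tfae_have 4 → 1 := by
    intro h
    apply isUnivOpenAt_of_dense f y _ _ (dense_closed_points_fibre f y)
    rintro x ⟨hxy, hcl⟩
    obtain ⟨T, i, -, hirr, hred, hxT, hft, hqf, -, hdomT⟩ := h x hxy hcl
    haveI := hirr
    haveI := hred
    haveI : IsIntegral T := isIntegral_of_irreducibleSpace_of_isReduced T
    haveI := hft
    haveI := hqf
    haveI := hdomT
    subst hxy
    exact isUnivOpenAt_of_quasiSection f x hy i hxT
  tfae_have 1 → 4 := by
    intro h x hxy hcl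
    have hb38 := (h38.out 0 1).mp h
    obtain ⟨Z, hZ, hxZ, hdom, hdim⟩ := hb38 x hxy Set.univ hunivmem trivial
    subst hxy
    have hZc : IsClosed Z := isClosed_of_mem_irreducibleComponents Z hZ
    have hr : Set.range (Scheme.IdealSheafData.vanishingIdeal
        (⟨Z, hZc⟩ : TopologicalSpace.Closeds X)).subschemeι = Z := by
      rw [Scheme.IdealSheafData.range_subschemeι, Scheme.IdealSheafData.coe_support_vanishingIdeal]
      rfl
    haveI : IrreducibleSpace ↥(Scheme.IdealSheafData.vanishingIdeal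
        (⟨Z, hZc⟩ : TopologicalSpace.Closeds X)).subscheme :=
      irreducibleSpace_vanishingIdeal_subscheme _ hZ.1
    haveI : IsReduced (Scheme.IdealSheafData.vanishingIdeal
        (⟨Z, hZc⟩ : TopologicalSpace.Closeds X)).subscheme :=
      isReduced_vanishingIdeal_subscheme _
    haveI : IsIntegral (Scheme.IdealSheafData.vanishingIdeal
        (⟨Z, hZc⟩ : TopologicalSpace.Closeds X)).subscheme :=
      isIntegral_of_irreducibleSpace_of_isReduced _
    exact exists_quasiSection_of_component f x hcl (Scheme.IdealSheafData.vanishingIdeal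
        (⟨Z, hZc⟩ : TopologicalSpace.Closeds X)).subschemeι Z hr hxZ hdom
        (hdim (genericPoint Y) (genericPoint_spec Y).def)
  tfae_finish

end


end Groth.Agent.Lib.Helper4.ChevCrit7
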