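import Mathlib
import Groth.Prelude.Def_Cyc
import Groth.Agent.Lib.Helper4.JacDim1
import Groth.Prelude.Def_EGA43
import Groth.Agent.Lib.Helper4.FibreStalkDim1
import Groth.Agent.Lib.Helper4.DimFT1
import Groth.Agent.Lib.Helper4.DimFT2
import Groth.Agent.Lib.Helper4.Chev8
import Groth.Agent.Lib.Helper4.FibDim7
import Groth.Agent.Lib.Helper4.EffCartierDim1
import Groth.Agent.Lib.Helper4.JacDim4
import Groth.Agent.Lib.Helper4.Chev9
import Groth.Agent.Lib.Helper4.Chev10
import Groth.Agent.Lib.Helper4.Chev11
import Groth.Agent.Lib.Helper4.Equi1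
import Groth.Agent.Lib.Helper4.Equi2
import Groth.Agent.Lib.Helper4.Equi3
import Groth.Agent.Lib.Helper4.Equi4
import Groth.Agent.Lib.Helper4.Equi5
import Groth.Agent.Lib.Helper4.Equi6
import Groth.Agent.Lib.Helper4.Equi7
import Groth.Agent.Lib.Helper4.Aff1
import Groth.Agent.Lib.Helper4.Aff2
import Groth.Agent.Lib.Helper4.Equi10
import Groth.Agent.Lib.Helper4.Val1
import Groth.Agent.Lib.Helper4.BaseChg1
import Groth.Agent.Lib.Helper4.UnivOpen1
import Groth.Agent.Lib.Helper4.FibClosure1
import Groth.Agent.Lib.Helper4.OpenNoeth1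
import Groth.Agent.Lib.Helper4.SecComp1
import Groth.Agent.Lib.Helper4.SecComp2
import Groth.Agent.Lib.Helper4.UnivOpen2
import Groth.Agent.Lib.Helper4.UnivOpenAt
import Groth.Agent.Lib.Helper4.RegularLocalCopy
import Groth.Agent.Lib.Helper4.ZMTNormalPt1
import Groth.Agent.Lib.Helper4.LocFinComp1
import Groth.Agent.Lib.Helper4.SecComp3
import Groth.Agent.Lib.Helper4.PropDim1
import Groth.Prelude.Def_FDesc
import Groth.Prelude.Def_MoreMor
import Groth.Agent.Lib.Helper4.ChevCrit1
import Groth.Agent.Lib.Helper4.ChevCrit2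
import Groth.Agent.Lib.Helper4.ChevCrit3
import Groth.Agent.Lib.Helper4.IrrCompDomain1
import Groth.Agent.Lib.Helper4.ChevCrit4
import Groth.Agent.Lib.Helper4.ChevCrit5
import Groth.Agent.Lib.Helper4.ChevCrit6
import Groth.Agent.Lib.Helper4.ChevCrit7
import Groth.Agent.Lib.Helper4.DedekindOpen1
import Groth.Agent.Lib.Helper4.UnivOpenT1

/-!
# base change: tr f (fst w) ≤ tr (snd) w at fibre-maximal points (helper4)
-/

set_option backward.isDefEq.respectTransparency.types false
set_option synthInstance.maxHeartbeats 400000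
set_option autoImplicit false
set_option linter.unusedSectionVars false
set_option linter.style.haveILetI false
set_option linter.unusedSimpArgs false
universe u v w
open CategoryTheory CategoryTheory.Limits AlgebraicGeometry TopologicalSpace IsLocalRing Opposite
open Cardinal AffineSpace MvPolynomial
open Groth.Agent.Lib.Helper4.DimIneq1 Groth.Agent.Lib.Helper4.DimFT2 Groth.Agent.Lib.Helper4.Catenary1
open Groth.Agent.Lib.Helper4.DimEq1 Groth.Agent.Lib.Helper4.DimIneq2 Groth.Agent.Lib.Helper4.DimEq2
open Groth.Agent.Lib.Helper4.DimIneq3 Groth.Agent.Lib.Helper4.DimIneq4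
open Groth.Agent.Lib.Helper4.NormFibre2 Groth.Agent.Lib.Helper4.RadBir3 Groth.Agent.Lib.Helper4.DimFT3
open Groth.Agent.Lib.Helper4.FibDim1 Groth.Agent.Lib.Helper4.FibDim2 Groth.Agent.Lib.Helper4.LocUC1
open Groth.Agent.Lib.Helper4.FibDim3 Groth.Agent.Lib.Helper4.FibDim4 Groth.Agent.Lib.Helper4.FibDim5
open Groth.Agent.Lib.Helper4.FibDim6 Groth.Agent.Lib.Helper4.FibDim7 Groth.Agent.Lib.Helper4.JacDim1
open Groth.Agent.Lib.Helper4.DimFT1
open Groth.Agent.Lib.Helper4.Chev2 Groth.Agent.Lib.Helper4.Chev5 Groth.Agent.Lib.Helper4.Chev6 Groth.Agent.Lib.Helper4.Chev8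
open Groth.Agent.Lib.Helper4.JacDim4 Groth.Agent.Lib.Helper4.EffCartierDim1
open Groth.Agent.Lib.Helper4.Chev9 Groth.Agent.Lib.Helper4.Chev4
open Groth.Agent.Lib.Helper4.Chev10 Groth.Agent.Lib.Helper4.Chev11 Groth.Agent.Lib.Helper4.Chev3 Groth.Agent.Lib.Helper4.Equi1 Groth.Agent.Lib.Helper4.Equi2 Groth.Agent.Lib.Helper4.OpenAt1 Groth.Agent.Lib.Helper4.Equi3 Groth.Agent.Lib.Helper4.Equi4 Groth.Agent.Lib.Helper4.Equi5 Groth.Agent.Lib.Helper4.Equi6 Groth.Agent.Lib.Helper4.Equi7 Groth.Agent.Lib.Helper4.Aff1 Groth.Agent.Lib.Helper4.Aff2 Groth.Agent.Lib.Helper4.Equi10 Groth.Agent.Lib.Helper4.Val1 Groth.Agent.Lib.Helper4.BaseChg1 Groth.Agent.Lib.Helper4.UnivOpen1 Groth.Agent.Lib.Helper4.FibClosure1 Groth.Agent.Lib.Helper4.OpenNoeth1 Groth.Agent.Lib.Helper4.SecComp1 Groth.Agent.Lib.Helper4.SecComp2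
open Groth.Agent.Lib.Helper4.SecComp3 Groth.Agent.Lib.Helper4.PropDim1 Groth.Agent.Lib.Helper4.ZMTNormalPt1 Groth.Agent.Lib.Helper4.UO Groth.Agent.Lib.Helper4.UOp
open Groth.Agent.Lib.Helper4.ChevCrit1 Groth.Agent.Lib.Helper4.ChevCrit2 Groth.Agent.Lib.Helper4.ChevCrit3
open Groth.Agent.Lib.Helper4.IrrCompDomain1 Groth.Agent.Lib.Helper4.RadBir1
open Groth.Agent.Lib.Helper4.ChevCrit4
open Groth.Agent.Lib.Helper4.ChevCrit5
open Groth.Agent.Lib.Helper4.DedekindOpen1 Groth.Agent.Lib.Helper4.UnivOpenT1
open Groth.Agent.Lib.Helper4.ChevCrit7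

namespace Groth.Agent.Lib.Helper4.BaseChgMax1
open TensorProduct AlgebraicGeometry.Scheme.Pullback


section ALG
variable {k K L : Type u} [Field k] [Field K] [Field L] [Algebra k K] [Algebra k L]
  {ι : Type u} (t : ι → K)

/-- the ring hom `L[T] → K ⊗ L`, `T_i ↦ t_i ⊗ 1` -/
noncomputable def evalTensor : MvPolynomial ι L →+* K ⊗[k] L :=
  MvPolynomial.eval₂Hom (Algebra.TensorProduct.includeRight (R := k) (A := K) (B := L)).toRingHom
    (fun i => (t i) ⊗ₜ[k] (1 : L))

/-- a field containing a domain is flat over it -/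
theorem flat_of_injective_field {S : Type u} [CommRing S] [IsDomain S] [Algebra S K]
    (hinj : Function.Injective (algebraMap S K)) : Module.Flat S K := by
  letI : Algebra (FractionRing S) K := (IsFractionRing.lift hinj).toAlgebra
  haveI : IsScalarTower S (FractionRing S) K := by
    apply IsScalarTower.of_algebraMap_eq
    intro s
    exact (IsFractionRing.lift_algebraMap hinj s).symm
  haveI : Module.Flat S (FractionRing S) := IsLocalization.flat _ (nonZeroDivisors S)
  exact Module.Flat.trans S (FractionRing S) K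

theorem evalTensor_mem_nonZeroDivisors (ht : AlgebraicIndependent k t) (F : MvPolynomial ι L)
    (hF : F ≠ 0) : evalTensor (k := k) t F ∈ nonZeroDivisors (K ⊗[k] L) := by
  classical
  letI algS : Algebra (MvPolynomial ι k) K := (MvPolynomial.aeval t : MvPolynomial ι k →ₐ[k] K).toRingHom.toAlgebra
  haveI : IsScalarTower k (MvPolynomial ι k) K := by
    apply IsScalarTower.of_algebraMap_eq
    intro c
    change algebraMap k K c = (MvPolynomial.aeval t) (MvPolynomial.C c)
    rw [MvPolynomial.aeval_C]
  have hinj : Function.Injective (algebraMap (MvPolynomial ι k) K) :=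
    (algebraicIndependent_iff_injective_aeval.mp ht)
  haveI : Module.Flat (MvPolynomial ι k) K := flat_of_injective_field hinj
  -- the ring `S ⊗ L` is a domain
  let e1 : L ⊗[k] MvPolynomial ι k ≃ₐ[L] MvPolynomial ι L := MvPolynomial.algebraTensorAlgEquiv k L
  let e2 : MvPolynomial ι k ⊗[k] L ≃ₐ[k] L ⊗[k] MvPolynomial ι k := Algebra.TensorProduct.comm k _ _
  let e : MvPolynomial ι k ⊗[k] L ≃+* MvPolynomial ι L :=
    e2.toRingEquiv.trans e1.toRingEquiv
  haveI : IsDomain (MvPolynomial ι k ⊗[k] L) := e.toMulEquiv.isDomain _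
  -- the map Ψ
  let Ψ : MvPolynomial ι k ⊗[k] L →ₐ[k] K ⊗[k] L :=
    Algebra.TensorProduct.map (MvPolynomial.aeval t) (AlgHom.id k L)
  have hΨ : ∀ G : MvPolynomial ι L, Ψ (e.symm G) = evalTensor (k := k) t G := by
    intro G
    have : (Ψ.toRingHom.comp e.symm.toRingHom) = evalTensor (k := k) t := by
      apply MvPolynomial.ringHom_ext
      · intro l
        have h1 : (MvPolynomial.algebraTensorAlgEquiv (σ := ι) k L).symm (MvPolynomial.C l) =
            l ⊗ₜ[k] (1 : MvPolynomial ι k) := by
          rw [← MvPolynomial.algebraMap_eq, AlgEquiv.commutes]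
          rfl
        simp [Ψ, e, e1, e2, evalTensor, h1]
      · intro i
        simp [Ψ, e, e1, e2, evalTensor]
    exact congrArg (fun φ : MvPolynomial ι L →+* K ⊗[k] L => φ G) this
  obtain ⟨F', hF'⟩ : ∃ F' : MvPolynomial ι k ⊗[k] L, F' = e.symm F := ⟨_, rfl⟩
  have hF'0 : F' ≠ 0 := by
    rw [hF']
    intro h
    exact hF ((map_eq_zero_iff e.symm e.symm.injective).mp h)
  have hb : evalTensor (k := k) t F = Ψ F' := by rw [hF', hΨ]
  -- multiplication by F' is injective
  let μ : MvPolynomial ι k ⊗[k] L →ₗ[MvPolynomial ι k] MvPolynomial ι k ⊗[k] L :=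
    LinearMap.mulLeft (MvPolynomial ι k) F'
  have hμ : Function.Injective μ := by
    intro a b hab
    have : F' * a = F' * b := hab
    exact mul_left_cancel₀ hF'0 this
  have hμK : Function.Injective (LinearMap.lTensor K μ) :=
    Module.Flat.lTensor_preserves_injective_linearMap μ hμ
  let Φ := TensorProduct.AlgebraTensorModule.cancelBaseChange k (MvPolynomial ι k)
    (MvPolynomial ι k) K L
  have hΦ : ∀ (x : K) (n : MvPolynomial ι k ⊗[k] L), Φ (x ⊗ₜ n) = (x ⊗ₜ[k] (1 : L)) * Ψ n := by
    intro x n
    induction n using TensorProduct.induction_on with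
    | zero => simp
    | tmul s l =>
      simp only [Φ, TensorProduct.AlgebraTensorModule.cancelBaseChange_tmul, Ψ,
        Algebra.TensorProduct.map_tmul, AlgHom.coe_id, id_eq, Algebra.TensorProduct.tmul_mul_tmul,
        one_mul]
      congr 1
      rw [Algebra.smul_def, mul_comm]
      rfl
    | add a b ha hb =>
      rw [TensorProduct.tmul_add, map_add, ha, hb, map_add, mul_add]
  have hkey : ∀ z : K ⊗[MvPolynomial ι k] (MvPolynomial ι k ⊗[k] L),
      Φ (LinearMap.lTensor K μ z) = Ψ F' * Φ z := by
    intro z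
    induction z using TensorProduct.induction_on with
    | zero => simp
    | tmul x n =>
      rw [LinearMap.lTensor_tmul, hΦ, hΦ]
      change (x ⊗ₜ[k] (1 : L)) * Ψ (F' * n) = _
      rw [map_mul]
      ring
    | add a b ha hb =>
      rw [map_add, map_add, ha, hb, map_add, mul_add]
  rw [hb, mem_nonZeroDivisors_iff_right]
  intro y hy
  obtain ⟨z, rfl⟩ := Φ.surjective y
  rw [mul_comm, ← hkey] at hy
  have h1 : LinearMap.lTensor K μ z = 0 := by
    have := (map_eq_zero_iff Φ Φ.injective).mp hy
    exact this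
  have h2 : z = 0 := by
    apply hμK
    rw [h1, map_zero]
  rw [h2, map_zero]

/-- the key algebraic lemma: modulo a minimal prime of `K ⊗ L`, an algebraically independent
family of `K` stays algebraically independent over `L` -/
theorem evalTensor_injective_mod_minimalPrime (ht : AlgebraicIndependent k t)
    (𝔮 : Ideal (K ⊗[k] L)) (h𝔮 : 𝔮 ∈ minimalPrimes (K ⊗[k] L)) (F : MvPolynomial ι L)
    (hF : evalTensor (k := k) t F ∈ 𝔮) : F = 0 := by
  by_contra hF0
  have h1 := evalTensor_mem_nonZeroDivisors t ht F hF0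
  have h2 := Ideal.disjoint_nonZeroDivisors_of_mem_minimalPrimes h𝔮
  exact Set.disjoint_left.mp h2 hF h1

end ALG


section TRGE
variable {X Y Y' : Scheme.{u}} (f : X ⟶ Y) (g : Y' ⟶ Y)

theorem specOfPoint_minimal (w : ↥(pullback f g))
    (hmax : ∀ w' : ↥(pullback f g), w' ⤳ w →
      pullback.snd f g w' = pullback.snd f g w → w' = w) :
    (SpecOfPoint w).asIdeal ∈ minimalPrimes (Triplet.ofPoint w).tensor := by
  refine ⟨⟨(SpecOfPoint w).isPrime, bot_le⟩, ?_⟩
  rintro J ⟨hJ, -⟩ hle
  have hsp : (⟨J, hJ⟩ : Spec (Triplet.ofPoint w).tensor) ⤳ SpecOfPoint w :=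
    (PrimeSpectrum.le_iff_specializes _ _).mp hle
  have h1 := hsp.map (Triplet.ofPoint w).SpecTensorTo.continuous
  rw [SpecTensorTo_SpecOfPoint] at h1
  have h2 : pullback.snd f g ((Triplet.ofPoint w).SpecTensorTo ⟨J, hJ⟩) = pullback.snd f g w :=
    Triplet.snd_SpecTensorTo_apply _ _
  have h3 := hmax _ h1 h2
  have h4 : carrierEquiv.symm ⟨Triplet.ofPoint w, ⟨J, hJ⟩⟩ =
      carrierEquiv.symm ⟨Triplet.ofPoint w, SpecOfPoint w⟩ := by
    change (Triplet.ofPoint w).SpecTensorTo ⟨J, hJ⟩ =
      (Triplet.ofPoint w).SpecTensorTo (SpecOfPoint w)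
    rw [h3, SpecTensorTo_SpecOfPoint]
  have h5 := carrierEquiv.symm.injective h4
  have h6 : (⟨J, hJ⟩ : Spec (Triplet.ofPoint w).tensor) = SpecOfPoint w :=
    eq_of_heq (Sigma.mk.inj h5).2
  have h7 : J = (SpecOfPoint w).asIdeal := congrArg PrimeSpectrum.asIdeal h6
  rw [h7]


theorem minimalPrimes_comap_ringEquiv {R R' : Type u} [CommRing R] [CommRing R'] (e : R ≃+* R')
    (p : Ideal R) (hp : p ∈ minimalPrimes R) : p.comap e.symm.toRingHom ∈ minimalPrimes R' := by
  haveI := hp.1.1
  refine ⟨⟨Ideal.comap_isPrime _ _, bot_le⟩, ?_⟩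
  rintro J ⟨hJ, -⟩ hle
  have h1 : J.comap e.toRingHom ≤ p := by
    intro a ha
    have := hle ha
    rw [Ideal.mem_comap] at this
    simpa using this
  have h2 := hp.2 ⟨Ideal.comap_isPrime _ _, bot_le⟩ h1
  intro a ha
  rw [Ideal.mem_comap] at ha
  have := h2 ha
  rw [Ideal.mem_comap] at this
  simpa using this

variable [LocallyOfFiniteType f]

/-- base change, lower bound at maximal points of the fibres: at a point of the fibre product which
is maximal in its fibre over the second factor, the residual transcendence degree is at least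
that of its first projection -/
theorem tr_le_tr_snd_of_max (w : ↥(pullback f g))
    (hmax : ∀ w' : ↥(pullback f g), w' ⤳ w →
      pullback.snd f g w' = pullback.snd f g w → w' = w) :
    tr f (pullback.fst f g w) ≤ tr (pullback.snd f g) w := by
  have e : f (pullback.fst f g w) = g (pullback.snd f g w) := by
    rw [← Scheme.Hom.comp_apply, ← Scheme.Hom.comp_apply, pullback.condition]
  letI algK : Algebra (Y.residueField (f (pullback.fst f g w)))
      (X.residueField (pullback.fst f g w)) :=
    (f.residueFieldMap (pullback.fst f g w)).hom.toAlgebra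
  letI algL : Algebra (Y.residueField (f (pullback.fst f g w)))
      (Y'.residueField (pullback.snd f g w)) :=
    ((Y.residueFieldCongr e).hom ≫ g.residueFieldMap (pullback.snd f g w)).hom.toAlgebra
  letI algW : Algebra (Y'.residueField (pullback.snd f g w)) ((pullback f g).residueField w) :=
    ((pullback.snd f g).residueFieldMap w).hom.toAlgebra
  -- the two pushouts
  have hpo1 := CommRingCat.isPushout_tensorProduct (Y.residueField (f (pullback.fst f g w)))
    (X.residueField (pullback.fst f g w)) (Y'.residueField (pullback.snd f g w))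
  have hpo2 : IsPushout (CommRingCat.ofHom (algebraMap (Y.residueField (f (pullback.fst f g w)))
      (X.residueField (pullback.fst f g w))))
      (CommRingCat.ofHom (algebraMap (Y.residueField (f (pullback.fst f g w)))
      (Y'.residueField (pullback.snd f g w))))
      (Triplet.ofPoint w).tensorInl (Triplet.ofPoint w).tensorInr := by
    have h0 : IsPushout
        ((Y.residueFieldCongr (Triplet.ofPoint w).hx).inv ≫ f.residueFieldMap (Triplet.ofPoint w).x)
        ((Y.residueFieldCongr (Triplet.ofPoint w).hy).inv ≫ g.residueFieldMap (Triplet.ofPoint w).y)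
        (Triplet.ofPoint w).tensorInl (Triplet.ofPoint w).tensorInr := IsPushout.of_hasPushout _ _
    have e1 : (Y.residueFieldCongr (Triplet.ofPoint w).hx).inv ≫
        f.residueFieldMap (Triplet.ofPoint w).x =
        CommRingCat.ofHom (algebraMap (Y.residueField (f (pullback.fst f g w)))
          (X.residueField (pullback.fst f g w))) := by
      change (Iso.refl _).inv ≫ f.residueFieldMap (pullback.fst f g w) = _
      rw [Iso.refl_inv, Category.id_comp]
      rfl
    have e2 : (Y.residueFieldCongr (Triplet.ofPoint w).hy).inv ≫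
        g.residueFieldMap (Triplet.ofPoint w).y =
        CommRingCat.ofHom (algebraMap (Y.residueField (f (pullback.fst f g w)))
          (Y'.residueField (pullback.snd f g w))) := rfl
    rw [e1, e2] at h0
    exact h0
  obtain ⟨E, hEdef⟩ : ∃ E : (Triplet.ofPoint w).tensor ≅ CommRingCat.of
      (X.residueField (pullback.fst f g w) ⊗[Y.residueField (f (pullback.fst f g w))]
        Y'.residueField (pullback.snd f g w)), E = hpo2.isoIsPushout _ _ hpo1 := ⟨_, rfl⟩
  have hEl : CommRingCat.ofHom Algebra.TensorProduct.includeLeftRingHom ≫ E.inv =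
      (Triplet.ofPoint w).tensorInl := by rw [hEdef]; exact IsPushout.inl_isoIsPushout_inv _ _ hpo2 hpo1
  have hEr : CommRingCat.ofHom Algebra.TensorProduct.includeRight.toRingHom ≫ E.inv =
      (Triplet.ofPoint w).tensorInr := by rw [hEdef]; exact IsPushout.inr_isoIsPushout_inv _ _ hpo2 hpo1
  -- the minimal prime
  have hmin := specOfPoint_minimal f g w hmax
  have hmin' := minimalPrimes_comap_ringEquiv E.commRingCatIsoToRingEquiv _ hmin
  -- the kernel of the map to the residue field
  have hker : ∀ r : (Triplet.ofPoint w).tensor,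
      (ofPointTensor w).hom r = 0 → r ∈ (SpecOfPoint w).asIdeal := by
    intro r hr
    change r ∈ Ideal.comap (ofPointTensor w).hom (⊥ : Ideal _)
    rw [Ideal.mem_comap, Ideal.mem_bot]
    exact hr
  -- a transcendence basis
  obtain ⟨s, hs⟩ := exists_isTranscendenceBasis (Y.residueField (f (pullback.fst f g w)))
    (X.residueField (pullback.fst f g w))
  have hcard : #s = (tr f (pullback.fst f g w) : Cardinal.{u}) := by
    rw [hs.cardinalMk_eq_trdeg]
    exact tr_spec f _
  have hind : AlgebraicIndependent (Y'.residueField (pullback.snd f g w))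
      (fun i : s => ((pullback.fst f g).residueFieldMap w).hom (i : X.residueField _)) := by
    rw [algebraicIndependent_iff_injective_aeval, injective_iff_map_eq_zero]
    intro F hF
    have hcomp : ((MvPolynomial.aeval (R := Y'.residueField (pullback.snd f g w))
        (fun i : s => ((pullback.fst f g).residueFieldMap w).hom (i : X.residueField _))) :
        MvPolynomial s (Y'.residueField (pullback.snd f g w)) →ₐ[_] _).toRingHom =
        ((ofPointTensor w).hom.comp E.inv.hom).comp
          (evalTensor (k := Y.residueField (f (pullback.fst f g w)))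
            (fun i : s => (i : X.residueField (pullback.fst f g w)))) := by
      apply MvPolynomial.ringHom_ext
      · intro l
        have h1 : (ofPointTensor w).hom (E.inv.hom ((1 : X.residueField _) ⊗ₜ l)) =
            ((pullback.snd f g).residueFieldMap w).hom l := by
          have := congr($(hEr).hom l)
          change E.inv.hom ((1 : X.residueField _) ⊗ₜ l) = _ at this
          rw [this]
          exact congr($(pushout.inr_desc _ _ (residueFieldCongr_inv_residueFieldMap_ofPoint w)).hom l)
        simp only [evalTensor, AlgHom.toRingHom_eq_coe, RingHom.coe_coe, MvPolynomial.aeval_C,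
          RingHom.coe_comp, Function.comp_apply, MvPolynomial.coe_eval₂Hom, MvPolynomial.eval₂_C]
        rw [show (Algebra.TensorProduct.includeRight (R := Y.residueField (f (pullback.fst f g w)))
          (A := X.residueField (pullback.fst f g w))) l = (1 : X.residueField _) ⊗ₜ l from rfl, h1]
        rfl
      · intro i
        have h1 : (ofPointTensor w).hom (E.inv.hom ((i : X.residueField _) ⊗ₜ (1 : Y'.residueField _))) =
            ((pullback.fst f g).residueFieldMap w).hom (i : X.residueField _) := by
          have := congr($(hEl).hom i.1)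
          change E.inv.hom ((i : X.residueField _) ⊗ₜ (1 : Y'.residueField _)) = _ at this
          rw [this]
          have hdesc : (Triplet.ofPoint w).tensorInl ≫ ofPointTensor w =
              (pullback.fst f g).residueFieldMap w :=
            pushout.inl_desc _ _ (residueFieldCongr_inv_residueFieldMap_ofPoint w)
          exact congr($(hdesc).hom i.1)
        simp only [evalTensor, AlgHom.toRingHom_eq_coe, RingHom.coe_coe, MvPolynomial.aeval_X,
          RingHom.coe_comp, Function.comp_apply, MvPolynomial.coe_eval₂Hom, MvPolynomial.eval₂_X]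
        rw [h1]
    have hF' := congrArg (fun φ : MvPolynomial s (Y'.residueField (pullback.snd f g w)) →+*
      (pullback f g).residueField w => φ F) hcomp
    simp only [AlgHom.toRingHom_eq_coe, RingHom.coe_coe, RingHom.coe_comp,
      Function.comp_apply] at hF'
    rw [hF] at hF'
    have h2 := hker _ hF'.symm
    apply evalTensor_injective_mod_minimalPrime
      (k := Y.residueField (f (pullback.fst f g w)))
      (fun i : s => (i : X.residueField (pullback.fst f g w))) hs.1 _ hmin' F
    rw [Ideal.mem_comap]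
    exact h2
  have key := hind.cardinalMk_le_trdeg
  rw [hcard] at key
  have h3 : Algebra.trdeg (Y'.residueField (pullback.snd f g w)) ((pullback f g).residueField w) =
      (tr (pullback.snd f g) w : Cardinal.{u}) := tr_spec (pullback.snd f g) w
  rw [h3] at key
  exact_mod_cast key

end TRGE


end Groth.Agent.Lib.Helper4.BaseChgMax1
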