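import Mathlib
import Groth.Prelude.Def_Cyc
import Groth.Agent.Lib.Helper4.JacDim1
import Groth.Prelude.Def_EGA43
import Groth.Agent.Lib.Helper4.FibreStalkDim1
import Groth.Agent.Lib.Helper4.DimFT1
import Groth.Agent.Lib.Helper4.DimFT2
import Groth.Agent.Lib.Helper4.Chev8
import Groth.Agent.Lib.Helper4.FibDim7
import Groth.Agent.Lib.Helper4.EffCartierDim1
import Groth.Agent.Lib.Helper4.JacDim4
import Groth.Agent.Lib.Helper4.Chev9
import Groth.Agent.Lib.Helper4.Chev10
import Groth.Agent.Lib.Helper4.Chev11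
import Groth.Agent.Lib.Helper4.Equi1
import Groth.Agent.Lib.Helper4.Equi2
import Groth.Agent.Lib.Helper4.Equi3
import Groth.Agent.Lib.Helper4.Equi4
import Groth.Agent.Lib.Helper4.Equi5
import Groth.Agent.Lib.Helper4.Equi6
import Groth.Agent.Lib.Helper4.Equi7
import Groth.Agent.Lib.Helper4.Aff1
import Groth.Agent.Lib.Helper4.Aff2
import Groth.Agent.Lib.Helper4.Equi10
import Groth.Agent.Lib.Helper4.Val1
import Groth.Agent.Lib.Helper4.BaseChg1
import Groth.Agent.Lib.Helper4.UnivOpen1
import Groth.Agent.Lib.Helper4.FibClosure1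
import Groth.Agent.Lib.Helper4.OpenNoeth1
import Groth.Agent.Lib.Helper4.SecComp1
import Groth.Agent.Lib.Helper4.SecComp2
import Groth.Agent.Lib.Helper4.UnivOpen2
import Groth.Agent.Lib.Helper4.UnivOpenAt
import Groth.Agent.Lib.Helper4.RegularLocalCopy
import Groth.Agent.Lib.Helper4.ZMTNormalPt1
import Groth.Agent.Lib.Helper4.LocFinComp1
import Groth.Agent.Lib.Helper4.SecComp3
import Groth.Agent.Lib.Helper4.PropDim1
import Groth.Prelude.Def_FDesc
import Groth.Prelude.Def_MoreMor
import Groth.Agent.Lib.Helper4.ChevCrit1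
import Groth.Agent.Lib.Helper4.ChevCrit2
import Groth.Agent.Lib.Helper4.ChevCrit3
import Groth.Agent.Lib.Helper4.IrrCompDomain1
import Groth.Agent.Lib.Helper4.ChevCrit4
import Groth.Agent.Lib.Helper4.ChevCrit5
import Groth.Agent.Lib.Helper4.ChevCrit6
import Groth.Agent.Lib.Helper4.ChevCrit7
import Groth.Agent.Lib.Helper4.DedekindOpen1
import Groth.Agent.Lib.Helper4.UnivOpenT1

/-!
# flatness over a DVR from openness at generic points of the reduced special fibre (S4948) (helper4)
-/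

set_option backward.isDefEq.respectTransparency.types false
set_option synthInstance.maxHeartbeats 400000
set_option autoImplicit false
set_option linter.unusedSectionVars false
set_option linter.style.haveILetI false
set_option linter.unusedSimpArgs false
universe u v w
open CategoryTheory CategoryTheory.Limits AlgebraicGeometry TopologicalSpace IsLocalRing Opposite
open Cardinal AffineSpace MvPolynomial
open Groth.Agent.Lib.Helper4.DimIneq1 Groth.Agent.Lib.Helper4.DimFT2 Groth.Agent.Lib.Helper4.Catenary1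
open Groth.Agent.Lib.Helper4.DimEq1 Groth.Agent.Lib.Helper4.DimIneq2 Groth.Agent.Lib.Helper4.DimEq2
open Groth.Agent.Lib.Helper4.DimIneq3 Groth.Agent.Lib.Helper4.DimIneq4
open Groth.Agent.Lib.Helper4.NormFibre2 Groth.Agent.Lib.Helper4.RadBir3 Groth.Agent.Lib.Helper4.DimFT3
open Groth.Agent.Lib.Helper4.FibDim1 Groth.Agent.Lib.Helper4.FibDim2 Groth.Agent.Lib.Helper4.LocUC1
open Groth.Agent.Lib.Helper4.FibDim3 Groth.Agent.Lib.Helper4.FibDim4 Groth.Agent.Lib.Helper4.FibDim5
open Groth.Agent.Lib.Helper4.FibDim6 Groth.Agent.Lib.Helper4.FibDim7 Groth.Agent.Lib.Helper4.JacDim1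
open Groth.Agent.Lib.Helper4.DimFT1
open Groth.Agent.Lib.Helper4.Chev2 Groth.Agent.Lib.Helper4.Chev5 Groth.Agent.Lib.Helper4.Chev6 Groth.Agent.Lib.Helper4.Chev8
open Groth.Agent.Lib.Helper4.JacDim4 Groth.Agent.Lib.Helper4.EffCartierDim1
open Groth.Agent.Lib.Helper4.Chev9 Groth.Agent.Lib.Helper4.Chev4
open Groth.Agent.Lib.Helper4.Chev10 Groth.Agent.Lib.Helper4.Chev11 Groth.Agent.Lib.Helper4.Chev3 Groth.Agent.Lib.Helper4.Equi1 Groth.Agent.Lib.Helper4.Equi2 Groth.Agent.Lib.Helper4.OpenAt1 Groth.Agent.Lib.Helper4.Equi3 Groth.Agent.Lib.Helper4.Equi4 Groth.Agent.Lib.Helper4.Equi5 Groth.Agent.Lib.Helper4.Equi6 Groth.Agent.Lib.Helper4.Equi7 Groth.Agent.Lib.Helper4.Aff1 Groth.Agent.Lib.Helper4.Aff2 Groth.Agent.Lib.Helper4.Equi10 Groth.Agent.Lib.Helper4.Val1 Groth.Agent.Lib.Helper4.BaseChg1 Groth.Agent.Lib.Helper4.UnivOpen1 Groth.Agent.Lib.Helper4.FibClosure1 Groth.Agent.Lib.Helper4.OpenNoeth1 Groth.Agent.Lib.Helper4.SecComp1 Groth.Agent.Lib.Helper4.SecComp2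
open Groth.Agent.Lib.Helper4.SecComp3 Groth.Agent.Lib.Helper4.PropDim1 Groth.Agent.Lib.Helper4.ZMTNormalPt1 Groth.Agent.Lib.Helper4.UO Groth.Agent.Lib.Helper4.UOp
open Groth.Agent.Lib.Helper4.ChevCrit1 Groth.Agent.Lib.Helper4.ChevCrit2 Groth.Agent.Lib.Helper4.ChevCrit3
open Groth.Agent.Lib.Helper4.IrrCompDomain1 Groth.Agent.Lib.Helper4.RadBir1
open Groth.Agent.Lib.Helper4.ChevCrit4
open Groth.Agent.Lib.Helper4.ChevCrit5
open Groth.Agent.Lib.Helper4.DedekindOpen1 Groth.Agent.Lib.Helper4.UnivOpenT1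
open Groth.Agent.Lib.Helper4.ChevCrit7

namespace Groth.Agent.Lib.Helper4.DvrFlat1

/-- over a Noetherian local ring, an element `π` of the maximal ideal generating a radical ideal
and such that every minimal prime over it contains a prime avoiding `π` is a nonzerodivisor -/
theorem nzd_of_radical_of_generizations {B : Type u} [CommRing B] [IsNoetherianRing B]
    [IsLocalRing B] (π : B) (hπ : π ∈ maximalIdeal B) (hrad : (Ideal.span {π}).IsRadical)
    (hgen : ∀ q ∈ (Ideal.span {π}).minimalPrimes, ∃ q' : Ideal B, q'.IsPrime ∧ q' ≤ q ∧ π ∉ q')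
    (b : B) (n : ℕ) (hb : π ^ n * b = 0) : b = 0 := by
  -- the torsion ideal
  let T : Ideal B :=
    { carrier := {b | ∃ n : ℕ, π ^ n * b = 0}
      zero_mem' := ⟨0, by simp⟩
      add_mem' := by
        rintro a b ⟨m, hm⟩ ⟨k, hk⟩
        refine ⟨m + k, ?_⟩
        rw [mul_add, pow_add]
        have e1 : π ^ m * π ^ k * a = π ^ k * (π ^ m * a) := by ring
        have e2 : π ^ m * π ^ k * b = π ^ m * (π ^ k * b) := by ring
        rw [e1, e2, hm, hk]; simp
      smul_mem' := by
        rintro c a ⟨m, hm⟩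
        refine ⟨m, ?_⟩
        rw [smul_eq_mul]
        have : π ^ m * (c * a) = c * (π ^ m * a) := by ring
        rw [this, hm, mul_zero] }
  have hTmem : ∀ a : B, a ∈ T ↔ ∃ n : ℕ, π ^ n * a = 0 := fun a => Iff.rfl
  have hTle : T ≤ Ideal.span {π} := by
    intro a ha
    obtain ⟨m, hm⟩ := (hTmem a).mp ha
    rw [← hrad.radical, ← Ideal.sInf_minimalPrimes, Ideal.mem_sInf]
    intro q hq
    obtain ⟨q', hq'prime, hq'q, hπq'⟩ := hgen q hq
    have h0 : π ^ m * a ∈ q' := by rw [hm]; exact q'.zero_mem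
    rcases hq'prime.mem_or_mem h0 with h1 | h1
    · exact absurd (hq'prime.mem_of_pow_mem m h1) hπq'
    · exact hq'q h1
  have hTsmul : T ≤ maximalIdeal B • T := by
    intro a ha
    obtain ⟨m, hm⟩ := (hTmem a).mp ha
    obtain ⟨c, hc⟩ := Ideal.mem_span_singleton'.mp (hTle ha)
    have hcT : c ∈ T := by
      rw [hTmem]
      refine ⟨m + 1, ?_⟩
      rw [pow_succ, mul_assoc, mul_comm π c, hc, hm]
    rw [← hc, mul_comm]
    exact Ideal.mul_mem_mul hπ hcT
  have hT0 : T = ⊥ := by
    apply Submodule.eq_bot_of_le_smul_of_le_jacobson_bot (maximalIdeal B) T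
      (IsNoetherian.noetherian T) hTsmul
    rw [IsLocalRing.jacobson_eq_maximalIdeal ⊥ bot_ne_top]
  have : b ∈ T := (hTmem b).mpr ⟨n, hb⟩
  rw [hT0] at this
  exact this



/-- flatness over (a localization of) a discrete valuation ring from torsion-freeness w.r.t. a
uniformizer -/
theorem flat_of_nzd_dvr {A R B : Type u} [CommRing A] [IsDomain A] [IsDiscreteValuationRing A]
    [CommRing R] [Algebra A R] (p : Submonoid A) [IsLocalization p R] [CommRing B]
    (φ : R →+* B) (ϖ : A) (hϖ : Irreducible ϖ)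
    (hnzd : ∀ (b : B) (n : ℕ), (φ (algebraMap A R ϖ)) ^ n * b = 0 → b = 0) : φ.Flat := by
  letI := φ.toAlgebra
  letI : Algebra A B := (φ.comp (algebraMap A R)).toAlgebra
  haveI : IsScalarTower A R B := IsScalarTower.of_algebraMap_eq fun a => rfl
  change Module.Flat R B
  rw [Module.flat_iff_of_isLocalization R p B]
  haveI : Module.IsTorsionFree A B := by
    refine ⟨fun r hr m₁ m₂ h => ?_⟩
    have hr0 : r ≠ 0 := hr.ne_zero
    obtain ⟨n, hn⟩ := IsDiscreteValuationRing.associated_pow_irreducible hr0 hϖ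
    obtain ⟨u, hu⟩ := hn.symm
    have h1 : φ (algebraMap A R r) * (m₁ - m₂) = 0 := by
      have h' : φ (algebraMap A R r) * m₁ = φ (algebraMap A R r) * m₂ := h
      rw [mul_sub, h', sub_self]
    rw [← hu, map_mul, map_mul, map_pow, map_pow, mul_assoc] at h1
    have hunit : IsUnit (φ (algebraMap A R (u : A))) := (u.isUnit.map (algebraMap A R)).map φ
    have h2 : (φ (algebraMap A R ϖ)) ^ n * (φ (algebraMap A R (u : A)) * (m₁ - m₂)) = 0 := h1
    have h3 := hnzd _ _ h2
    have h4 : m₁ - m₂ = 0 := by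
      obtain ⟨v, hv⟩ := hunit
      rw [← hv] at h3
      exact (Units.mul_right_eq_zero v).mp h3
    exact sub_eq_zero.mp h4
  infer_instance

/-- in the stalk of the spectrum of a field, the maximal ideal is zero -/
theorem stalk_field_nonunit_eq_zero {κ : Type u} [CommRing κ] (hK : IsField κ)
    (s : Spec (CommRingCat.of κ))
    (t : (Spec (CommRingCat.of κ)).presheaf.stalk s) (ht : t ∈ maximalIdeal _) : t = 0 := by
  letI alg0 : Algebra κ ((Spec (CommRingCat.of κ)).presheaf.stalk s) :=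
    StructureSheaf.stalkAlgebra (R := κ) s
  haveI loc0 : IsLocalization.AtPrime ((Spec (CommRingCat.of κ)).presheaf.stalk s) s.asIdeal :=
    StructureSheaf.IsLocalization.to_stalk κ s
  obtain ⟨a, m, rfl⟩ := IsLocalization.exists_mk'_eq s.asIdeal.primeCompl t
  by_cases ha : a = 0
  · rw [ha, IsLocalization.mk'_zero]
  · exfalso
    have hu : IsUnit a := by
      obtain ⟨b, hb⟩ := hK.mul_inv_cancel ha
      exact isUnit_iff_exists_inv.mpr ⟨b, hb⟩
    have : IsUnit (IsLocalization.mk' ((Spec (CommRingCat.of κ)).presheaf.stalk s) a m) := by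
      have h1 := IsLocalization.mk'_spec ((Spec (CommRingCat.of κ)).presheaf.stalk s) a m
      have h2 : IsUnit (algebraMap κ ((Spec (CommRingCat.of κ)).presheaf.stalk s) a) := hu.map _
      rw [← h1] at h2
      exact isUnit_of_mul_isUnit_left h2
    exact ht this

/-- the stalk map of a morphism factoring through the spectrum of a field kills the maximal
ideal -/
theorem stalkMap_eq_zero_of_factors_field {Z Y : Scheme.{u}} {κ : Type u} [CommRing κ]
    (hK : IsField κ) (g : Z ⟶ Y)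
    (a : Z ⟶ Spec (CommRingCat.of κ)) (b : Spec (CommRingCat.of κ) ⟶ Y) (hg : g = a ≫ b)
    (z : Z) (t : Y.presheaf.stalk (g z)) (ht : t ∈ maximalIdeal _) : (g.stalkMap z).hom t = 0 := by
  subst hg
  rw [Scheme.Hom.stalkMap_comp]
  change (a.stalkMap z).hom ((b.stalkMap (a z)).hom t) = 0
  have h1 : (b.stalkMap (a z)).hom t ∈ maximalIdeal _ := by
    have : IsLocalHom (b.stalkMap (a z)).hom := inferInstance
    exact ((IsLocalRing.local_hom_TFAE (b.stalkMap (a z)).hom).out 0 2 rfl rfl).mp this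
      (Ideal.mem_map_of_mem _ ht)
  rw [stalk_field_nonunit_eq_zero hK _ _ h1, map_zero]



/-- a point of `Spec 𝒪_{X,x}` maps into the fibre of `f` through `x` iff the corresponding prime
contains `𝔪_{f x} 𝒪_{X,x}` -/
theorem fromSpecStalk_mem_fibre_iff {X Y : Scheme.{u}} (f : X ⟶ Y) (x : X)
    (q : Spec (X.presheaf.stalk x)) :
    f ((X.fromSpecStalk x) q) = f x ↔
      (maximalIdeal (Y.presheaf.stalk (f x))).map (f.stalkMap x).hom ≤ q.asIdeal := by
  have hsq : f ((X.fromSpecStalk x) q) = (Y.fromSpecStalk (f x)) ((Spec.map (f.stalkMap x)) q) := by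
    rw [← Scheme.Hom.comp_apply, ← Scheme.Hom.comp_apply, Scheme.SpecMap_stalkMap_fromSpecStalk]
  rw [hsq]
  have hinj : Function.Injective (Y.fromSpecStalk (f x)) :=
    (Y.fromSpecStalk (f x)).isEmbedding.injective
  have hcl : (Y.fromSpecStalk (f x)) (closedPoint _) = f x := Scheme.fromSpecStalk_closedPoint
  constructor
  · intro h
    have h2 := hinj (h.trans hcl.symm)
    rw [Ideal.map_le_iff_le_comap]
    have h3 : ((Spec.map (f.stalkMap x)) q).asIdeal = maximalIdeal _ := by rw [h2]; rfl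
    rw [← h3]
    exact le_rfl
  · intro h
    rw [Ideal.map_le_iff_le_comap] at h
    have h3 : ((Spec.map (f.stalkMap x)) q) = closedPoint _ := by
      apply PrimeSpectrum.ext
      have hmax : (maximalIdeal (Y.presheaf.stalk (f x))).IsMaximal := inferInstance
      exact (hmax.eq_of_le ((Spec.map (f.stalkMap x)) q).isPrime.ne_top h).symm
    rw [h3, hcl]



theorem hgen_of_open_aux {X Y : Scheme.{u}} (f : X ⟶ Y) (y : Y) (x' : f.fiber y) (x₀ : X)
    (hx' : f.fiberι y x' = x₀) (hfx : f x₀ = y) (η : Y) (hη : η ⤳ y) (hηy : η ≠ y)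
    (h : ∀ z : ↥(f.fiber y), x' ∈ closure {z} →
      (∀ z' : ↥(f.fiber y), z ∈ closure {z'} → z' = z) →
      EGA43.IsOpenAt f.base ((f.fiberι y).base z))
    (q : Ideal (X.presheaf.stalk x₀))
    (hq : q ∈ ((maximalIdeal (Y.presheaf.stalk (f x₀))).map (f.stalkMap x₀).hom).minimalPrimes) :
    ∃ q' : Ideal (X.presheaf.stalk x₀), q'.IsPrime ∧ q' ≤ q ∧
      ¬ (maximalIdeal (Y.presheaf.stalk (f x₀))).map (f.stalkMap x₀).hom ≤ q' := by
  haveI hqp : q.IsPrime := hq.1.1
  obtain ⟨qpt, hqpt⟩ : ∃ qpt : Spec (X.presheaf.stalk x₀), qpt = ⟨q, hqp⟩ := ⟨_, rfl⟩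
  have hqpt' : qpt.asIdeal = q := by rw [hqpt]
  obtain ⟨zX, hzXdef⟩ : ∃ zX : X, zX = (X.fromSpecStalk x₀) qpt := ⟨_, rfl⟩
  have hzX : f zX = f x₀ := by
    rw [hzXdef]; exact (fromSpecStalk_mem_fibre_iff f x₀ qpt).mpr (by rw [hqpt']; exact hq.1.2)
  have hzXsp : zX ⤳ x₀ := by
    have : zX ∈ Set.range (X.fromSpecStalk x₀) := ⟨_, hzXdef.symm⟩
    rwa [Scheme.range_fromSpecStalk] at this
  obtain ⟨z, hz⟩ : ∃ z : f.fiber y, f.fiberι y z = zX := by
    have : zX ∈ Set.range (f.fiberι y) := by rw [f.range_fiberι y]; exact hzX.trans hfx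
    exact this
  have hemb := (f.fiberι y).isEmbedding
  have hfib : ∀ w : f.fiber y, f (f.fiberι y w) = y := by
    intro w
    have : f.fiberι y w ∈ Set.range (f.fiberι y) := ⟨w, rfl⟩
    rw [f.range_fiberι y] at this
    exact this
  have h1 : x' ∈ closure {z} := by
    rw [← specializes_iff_mem_closure, ← hemb.isInducing.specializes_iff, hz, hx']
    exact hzXsp
  have h2 : ∀ z' : ↥(f.fiber y), z ∈ closure {z'} → z' = z := by
    intro z' hz'
    rw [← specializes_iff_mem_closure, ← hemb.isInducing.specializes_iff, hz] at hz'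
    have h3 : f.fiberι y z' ∈ Set.range (X.fromSpecStalk x₀) := by
      rw [Scheme.range_fromSpecStalk]; exact hz'.trans hzXsp
    obtain ⟨q₁, hq₁⟩ := h3
    have h4 : q₁ ⤳ qpt :=
      ((X.fromSpecStalk x₀).isEmbedding.isInducing.specializes_iff).mp
        (by rw [hq₁, ← hzXdef]; exact hz')
    have h5 : q₁.asIdeal ≤ q := by
      rw [← hqpt']; exact (PrimeSpectrum.le_iff_specializes _ _).mpr h4
    have h6 : (maximalIdeal (Y.presheaf.stalk (f x₀))).map (f.stalkMap x₀).hom ≤ q₁.asIdeal :=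
      (fromSpecStalk_mem_fibre_iff f x₀ q₁).mp (by rw [hq₁, hfib, hfx])
    have h7 : q ≤ q₁.asIdeal := hq.2 ⟨q₁.isPrime, h6⟩ h5
    have h8 : q₁ = qpt := PrimeSpectrum.ext (by rw [hqpt']; exact le_antisymm h5 h7)
    apply hemb.injective
    rw [hz, ← hq₁, h8, hzXdef]
  have hop := h z h1 h2
  have hop' : EGA43.IsOpenAt f.base zX := by rw [← hz]; exact hop
  obtain ⟨z'', hz''sp, hz''η⟩ :=
    Groth.Agent.Lib.Helper4.OpenAt1.exists_generization_of_isOpenAt f zX hop' η
      (by rw [hzX, hfx]; exact hη)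
  obtain ⟨q', hq'⟩ : z'' ∈ Set.range (X.fromSpecStalk x₀) := by
    rw [Scheme.range_fromSpecStalk]; exact hz''sp.trans hzXsp
  refine ⟨q'.asIdeal, q'.isPrime, ?_, ?_⟩
  · have h4 : q' ⤳ qpt :=
      ((X.fromSpecStalk x₀).isEmbedding.isInducing.specializes_iff).mp
        (by rw [hq', ← hzXdef]; exact hz''sp)
    rw [← hqpt']; exact (PrimeSpectrum.le_iff_specializes _ _).mpr h4
  · intro hJ
    have := (fromSpecStalk_mem_fibre_iff f x₀ q').mpr hJ
    rw [hq', hz''η, hfx] at this
    exact hηy this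



theorem S4948_core {A : Type u} [CommRing A] [IsDomain A]
    [IsDiscreteValuationRing A] {X : Scheme.{u}} (f : X ⟶ Spec (CommRingCat.of A))
    [LocallyOfFiniteType f] (y : Spec (CommRingCat.of A)) (hy : y = IsLocalRing.closedPoint A)
    (x' : f.fiber y)
    (h : ∀ z : ↥(f.fiber y), x' ∈ closure {z} →
      (∀ z' : ↥(f.fiber y), z ∈ closure {z'} → z' = z) →
      EGA43.IsOpenAt f.base ((f.fiberι y).base z))
    (hred : _root_.IsReduced ((f.fiber y).presheaf.stalk x')) :
    (f.stalkMap (f.fiberι y x')).hom.Flat := by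
  have hfx : f (f.fiberι y x') = y := by
    have : f.fiberι y x' ∈ Set.range (f.fiberι y) := ⟨x', rfl⟩
    rw [f.range_fiberι y] at this
    exact this
  obtain ⟨ϖ, hϖ⟩ := IsDiscreteValuationRing.exists_irreducible A
  letI alg0 : Algebra A ((Spec (CommRingCat.of A)).presheaf.stalk (f (f.fiberι y x'))) :=
    StructureSheaf.stalkAlgebra (R := A) (f (f.fiberι y x'))
  haveI loc0 : IsLocalization.AtPrime
      ((Spec (CommRingCat.of A)).presheaf.stalk (f (f.fiberι y x')))
      (f (f.fiberι y x')).asIdeal :=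
    StructureSheaf.IsLocalization.to_stalk A (f (f.fiberι y x'))
  apply flat_of_nzd_dvr (f (f.fiberι y x')).asIdeal.primeCompl (f.stalkMap (f.fiberι y x')).hom
    ϖ hϖ
  haveI : IsLocallyNoetherian X := LocallyOfFiniteType.isLocallyNoetherian f
  have hasIdeal : (f (f.fiberι y x')).asIdeal = maximalIdeal A := by rw [hfx, hy]; rfl
  have hJ : (maximalIdeal ((Spec (CommRingCat.of A)).presheaf.stalk (f (f.fiberι y x')))).map
      (f.stalkMap (f.fiberι y x')).hom =
      Ideal.span {(f.stalkMap (f.fiberι y x')).hom (algebraMap A _ ϖ)} := by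
    rw [← IsLocalization.AtPrime.map_eq_maximalIdeal (f (f.fiberι y x')).asIdeal
      ((Spec (CommRingCat.of A)).presheaf.stalk (f (f.fiberι y x'))), hasIdeal,
      hϖ.maximalIdeal_eq, Ideal.map_span, Ideal.map_span, Set.image_singleton,
      Set.image_singleton]
  have hϖmem : algebraMap A ((Spec (CommRingCat.of A)).presheaf.stalk (f (f.fiberι y x'))) ϖ ∈
      maximalIdeal _ := by
    rw [← IsLocalization.AtPrime.map_eq_maximalIdeal (f (f.fiberι y x')).asIdeal
      ((Spec (CommRingCat.of A)).presheaf.stalk (f (f.fiberι y x'))), hasIdeal]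
    apply Ideal.mem_map_of_mem
    rw [hϖ.maximalIdeal_eq]
    exact Ideal.mem_span_singleton_self ϖ
  have hπmem : (f.stalkMap (f.fiberι y x')).hom (algebraMap A _ ϖ) ∈
      maximalIdeal (X.presheaf.stalk (f.fiberι y x')) := by
    have : IsLocalHom (f.stalkMap (f.fiberι y x')).hom := inferInstance
    exact ((IsLocalRing.local_hom_TFAE (f.stalkMap (f.fiberι y x')).hom).out 0 2 rfl rfl).mp this
      (Ideal.mem_map_of_mem _ hϖmem)
  -- the kernel of the surjection to the fibre stalk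
  have hsurj := (f.fiberι y).stalkMap_surjective x'
  have hker1 := Groth.Agent.Lib.Helper4.FibreStalkDim1.ker_stalkMap_fiberι_le f y x'
  have hker2 : (maximalIdeal ((Spec (CommRingCat.of A)).presheaf.stalk
      (f (f.fiberι y x')))).map (f.stalkMap (f.fiberι y x')).hom ≤
      RingHom.ker ((f.fiberι y).stalkMap x').hom := by
    rw [hJ, Ideal.span_singleton_le_iff_mem, RingHom.mem_ker]
    have e := stalkMap_eq_zero_of_factors_field (Field.toIsField ((Spec (CommRingCat.of A)).residueField y))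
      (f.fiberι y ≫ f) (f.fiberToSpecResidueField y) ((Spec (CommRingCat.of A)).fromSpecResidueField y)
      (f.fiber_fac y) x'
      (algebraMap A ((Spec (CommRingCat.of A)).presheaf.stalk (f (f.fiberι y x'))) ϖ) hϖmem
    rw [Scheme.Hom.stalkMap_comp] at e
    exact e
  have hker := le_antisymm hker1 hker2
  have hrad : (Ideal.span {(f.stalkMap (f.fiberι y x')).hom (algebraMap A _ ϖ)}).IsRadical := by
    rw [← hJ, ← hker]
    exact (RingHom.ker_isRadical_iff_reduced_of_surjective hsurj).mpr hred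
  -- the generic point
  obtain ⟨η, hηdef⟩ : ∃ η : Spec (CommRingCat.of A), η = ⟨⊥, Ideal.isPrime_bot⟩ := ⟨_, rfl⟩
  have hη : η ⤳ y := by
    refine (PrimeSpectrum.le_iff_specializes (R := A) η y).mp ?_
    rw [hηdef]
    exact bot_le (a := y.asIdeal)
  have hηy : η ≠ y := by
    intro he
    have h1 : η.asIdeal = y.asIdeal := by rw [he]
    rw [hηdef, hy] at h1
    exact IsDiscreteValuationRing.not_a_field A h1.symm
  intro b n hb
  refine nzd_of_radical_of_generizations _ hπmem hrad ?_ b n hb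
  intro q hq
  rw [← hJ] at hq
  obtain ⟨q', h1, h2, h3⟩ := hgen_of_open_aux f y x' _ rfl hfx η hη hηy h q hq
  refine ⟨q', h1, h2, ?_⟩
  intro hπ
  apply h3
  rw [hJ, Ideal.span_singleton_le_iff_mem]
  exact hπ



theorem S4948_main {A : Type u} [CommRing A] [IsDomain A]
    [IsDiscreteValuationRing A] {X : Scheme.{u}} (f : X ⟶ Spec (CommRingCat.of A)) [LocallyOfFiniteType f] (x : X)
    (hx : f.base x = IsLocalRing.closedPoint A)
    (h : ∀ z : ↥(f.fiber (f.base x)), f.asFiber x ∈ closure {z} →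
      (∀ z' : ↥(f.fiber (f.base x)), z ∈ closure {z'} → z' = z) → EGA43.IsOpenAt f.base ((f.fiberι (f.base x)).base z))
    (hred : _root_.IsReduced ((f.fiber (f.base x)).presheaf.stalk (f.asFiber x))) :
    (f.stalkMap x).hom.Flat := by
  have key := S4948_core f (f.base x) hx (f.asFiber x) h hred
  have hx₀ : f.fiberι (f x) (f.asFiber x) = x := f.fiberι_asFiber x
  have e1 : ∀ a b : X, a = b → (f.stalkMap a).hom.Flat → (f.stalkMap b).hom.Flat := by
    rintro a _ rfl h; exact h
  exact e1 _ _ hx₀ key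


end Groth.Agent.Lib.Helper4.DvrFlat1
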