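import Mathlib
import Groth.Prelude.Def_Cyc
import Groth.Agent.Lib.Helper4.JacDim1
import Groth.Prelude.Def_EGA43
import Groth.Agent.Lib.Helper4.FibreStalkDim1
import Groth.Agent.Lib.Helper4.DimFT1
import Groth.Agent.Lib.Helper4.DimFT2
import Groth.Agent.Lib.Helper4.Chev8
import Groth.Agent.Lib.Helper4.FibDim7
import Groth.Agent.Lib.Helper4.EffCartierDim1
import Groth.Agent.Lib.Helper4.JacDim4
import Groth.Agent.Lib.Helper4.Chev9
import Groth.Agent.Lib.Helper4.Chev10
import Groth.Agent.Lib.Helper4.Chev11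
import Groth.Agent.Lib.Helper4.Equi1
import Groth.Agent.Lib.Helper4.Equi2
import Groth.Agent.Lib.Helper4.Equi3
import Groth.Agent.Lib.Helper4.Equi4
import Groth.Agent.Lib.Helper4.Equi5
import Groth.Agent.Lib.Helper4.Equi6
import Groth.Agent.Lib.Helper4.Equi7
import Groth.Agent.Lib.Helper4.Aff1
import Groth.Agent.Lib.Helper4.Aff2
import Groth.Agent.Lib.Helper4.Equi10
import Groth.Agent.Lib.Helper4.Val1
import Groth.Agent.Lib.Helper4.BaseChg1
import Groth.Agent.Lib.Helper4.UnivOpen1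
import Groth.Agent.Lib.Helper4.FibClosure1
import Groth.Agent.Lib.Helper4.OpenNoeth1
import Groth.Agent.Lib.Helper4.SecComp1
import Groth.Agent.Lib.Helper4.SecComp2
import Groth.Agent.Lib.Helper4.UnivOpen2
import Groth.Agent.Lib.Helper4.UnivOpenAt
import Groth.Agent.Lib.Helper4.RegularLocalCopy
import Groth.Agent.Lib.Helper4.ZMTNormalPt1
import Groth.Agent.Lib.Helper4.LocFinComp1
import Groth.Agent.Lib.Helper4.SecComp3
import Groth.Agent.Lib.Helper4.PropDim1
import Groth.Prelude.Def_FDesc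
import Groth.Prelude.Def_MoreMor
import Groth.Agent.Lib.Helper4.ChevCrit1
import Groth.Agent.Lib.Helper4.ChevCrit2
import Groth.Agent.Lib.Helper4.ChevCrit3
import Groth.Agent.Lib.Helper4.IrrCompDomain1
import Groth.Agent.Lib.Helper4.ChevCrit4
import Groth.Agent.Lib.Helper4.ChevCrit5
import Groth.Agent.Lib.Helper4.ChevCrit6
import Groth.Agent.Lib.Helper4.ChevCrit7
import Groth.Agent.Lib.Helper4.DedekindOpen1
import Groth.Agent.Lib.Helper4.UnivOpenT1

/-!
# flat morphisms of schemes of finite type over a field: dimensions of components and fibres (S14403, S14404, S11322) (helper4)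
-/

set_option backward.isDefEq.respectTransparency.types false
set_option synthInstance.maxHeartbeats 400000
set_option autoImplicit false
set_option linter.unusedSectionVars false
set_option linter.style.haveILetI false
set_option linter.unusedSimpArgs false
universe u v w
open CategoryTheory CategoryTheory.Limits AlgebraicGeometry TopologicalSpace IsLocalRing Opposite
open Cardinal AffineSpace MvPolynomial
open Groth.Agent.Lib.Helper4.DimIneq1 Groth.Agent.Lib.Helper4.DimFT2 Groth.Agent.Lib.Helper4.Catenary1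
open Groth.Agent.Lib.Helper4.DimEq1 Groth.Agent.Lib.Helper4.DimIneq2 Groth.Agent.Lib.Helper4.DimEq2
open Groth.Agent.Lib.Helper4.DimIneq3 Groth.Agent.Lib.Helper4.DimIneq4
open Groth.Agent.Lib.Helper4.NormFibre2 Groth.Agent.Lib.Helper4.RadBir3 Groth.Agent.Lib.Helper4.DimFT3
open Groth.Agent.Lib.Helper4.FibDim1 Groth.Agent.Lib.Helper4.FibDim2 Groth.Agent.Lib.Helper4.LocUC1
open Groth.Agent.Lib.Helper4.FibDim3 Groth.Agent.Lib.Helper4.FibDim4 Groth.Agent.Lib.Helper4.FibDim5
open Groth.Agent.Lib.Helper4.FibDim6 Groth.Agent.Lib.Helper4.FibDim7 Groth.Agent.Lib.Helper4.JacDim1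
open Groth.Agent.Lib.Helper4.DimFT1
open Groth.Agent.Lib.Helper4.Chev2 Groth.Agent.Lib.Helper4.Chev5 Groth.Agent.Lib.Helper4.Chev6 Groth.Agent.Lib.Helper4.Chev8
open Groth.Agent.Lib.Helper4.JacDim4 Groth.Agent.Lib.Helper4.EffCartierDim1
open Groth.Agent.Lib.Helper4.Chev9 Groth.Agent.Lib.Helper4.Chev4
open Groth.Agent.Lib.Helper4.Chev10 Groth.Agent.Lib.Helper4.Chev11 Groth.Agent.Lib.Helper4.Chev3 Groth.Agent.Lib.Helper4.Equi1 Groth.Agent.Lib.Helper4.Equi2 Groth.Agent.Lib.Helper4.OpenAt1 Groth.Agent.Lib.Helper4.Equi3 Groth.Agent.Lib.Helper4.Equi4 Groth.Agent.Lib.Helper4.Equi5 Groth.Agent.Lib.Helper4.Equi6 Groth.Agent.Lib.Helper4.Equi7 Groth.Agent.Lib.Helper4.Aff1 Groth.Agent.Lib.Helper4.Aff2 Groth.Agent.Lib.Helper4.Equi10 Groth.Agent.Lib.Helper4.Val1 Groth.Agent.Lib.Helper4.BaseChg1 Groth.Agent.Lib.Helper4.UnivOpen1 Groth.Agent.Lib.Helper4.FibClosure1 Groth.Agent.Lib.Helper4.OpenNoeth1 Groth.Agent.Lib.Helper4.SecComp1 Groth.Agent.Lib.Helper4.SecComp2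
open Groth.Agent.Lib.Helper4.SecComp3 Groth.Agent.Lib.Helper4.PropDim1 Groth.Agent.Lib.Helper4.ZMTNormalPt1 Groth.Agent.Lib.Helper4.UO Groth.Agent.Lib.Helper4.UOp
open Groth.Agent.Lib.Helper4.ChevCrit1 Groth.Agent.Lib.Helper4.ChevCrit2 Groth.Agent.Lib.Helper4.ChevCrit3
open Groth.Agent.Lib.Helper4.IrrCompDomain1 Groth.Agent.Lib.Helper4.RadBir1
open Groth.Agent.Lib.Helper4.ChevCrit4
open Groth.Agent.Lib.Helper4.ChevCrit5
open Groth.Agent.Lib.Helper4.DedekindOpen1 Groth.Agent.Lib.Helper4.UnivOpenT1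
open Groth.Agent.Lib.Helper4.ChevCrit7

namespace Groth.Agent.Lib.Helper4.FlatDimK1

/-- in a ring isomorphic to a field every proper ideal is zero -/
theorem ideal_eq_bot_of_ringEquiv_field {R k : Type u} [CommRing R] [Field k] (e : R ≃+* k)
    (I : Ideal R) (hI : I ≠ ⊤) : I = ⊥ := by
  rw [eq_bot_iff]
  intro a ha
  by_contra ha0
  apply hI
  have h1 : e a ≠ 0 := fun h => ha0 ((map_eq_zero_iff e e.injective).mp h)
  have h2 : IsUnit (e a) := isUnit_iff_ne_zero.mpr h1
  have h3 : IsUnit a := by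
    have := h2.map e.symm
    rwa [RingEquiv.symm_apply_apply] at this
  exact Ideal.eq_top_of_isUnit_mem I ha h3

/-- the codimension formula for schemes locally of finite type over a field: at every point there
is a maximal point above it realizing the dimension of the local ring -/
theorem exists_max_gen_stalk_dim (k : Type u) [Field k] {X : Scheme.{u}}
    (q : X ⟶ Spec (CommRingCat.of k)) [LocallyOfFiniteType q] (x : X) :
    ∃ ξ : X, ξ ⤳ x ∧ (∀ ξ' : X, ξ' ⤳ ξ → ξ' = ξ) ∧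
      ringKrullDim (X.presheaf.stalk x) + (tr q x : WithBot ℕ∞) = (tr q ξ : WithBot ℕ∞) := by
  obtain ⟨V, hVdef⟩ : ∃ V : (Spec (CommRingCat.of k)).Opens, V = ⊤ := ⟨_, rfl⟩
  have hV : IsAffineOpen V := by rw [hVdef]; exact isAffineOpen_top _
  have hsV : q x ∈ V := by rw [hVdef]; trivial
  obtain ⟨U, hU, hxU, hUV⟩ := exists_isAffineOpen_mem_and_subset (U := q ⁻¹ᵁ V) (x := x) hsV
  letI alg : Algebra Γ(Spec (CommRingCat.of k), V) Γ(X, U) := (q.appLE V U hUV).hom.toAlgebra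
  haveI : IsLocallyNoetherian (Spec (CommRingCat.of k)) := inferInstance
  haveI : IsNoetherianRing Γ(Spec (CommRingCat.of k), V) :=
    IsLocallyNoetherian.component_noetherian ⟨V, hV⟩
  haveI : Algebra.FiniteType Γ(Spec (CommRingCat.of k), V) Γ(X, U) :=
    LocallyOfFiniteType.finiteType_appLE q hV hU hUV
  haveI : IsNoetherianRing Γ(X, U) :=
    Algebra.FiniteType.isNoetherianRing Γ(Spec (CommRingCat.of k), V) Γ(X, U)
  -- the ring of sections of the base is isomorphic to the field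
  have e : Γ(Spec (CommRingCat.of k), V) ≃+* k := by
    rw [hVdef]
    exact (Scheme.ΓSpecIso (CommRingCat.of k)).commRingCatIsoToRingEquiv
  have hUCA : UC Γ(Spec (CommRingCat.of k), V) := by
    letI algk : Algebra k Γ(Spec (CommRingCat.of k), V) := e.symm.toRingHom.toAlgebra
    haveI : Algebra.FiniteType k Γ(Spec (CommRingCat.of k), V) := by
      apply Algebra.FiniteType.of_surjective (Algebra.ofId k Γ(Spec (CommRingCat.of k), V))
      intro a
      exact ⟨e a, e.symm_apply_apply a⟩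
    exact uc_of_finiteType k Γ(Spec (CommRingCat.of k), V)
      (uc_of_isUniversallyCatenary k (isUniversallyCatenary_field k))
  -- a minimal prime realizing the height
  obtain ⟨P₀, hP₀min, hle, hht⟩ :=
    exists_minimalPrimes_height_eq (hU.primeIdealOf ⟨x, hxU⟩).asIdeal
  haveI hP₀ : P₀.IsPrime := hP₀min.1.1
  obtain ⟨ξ, hξdef⟩ : ∃ ξ : X, ξ = hU.fromSpec ⟨P₀, hP₀⟩ := ⟨_, rfl⟩
  have hξU : ξ ∈ U := by rw [hξdef]; exact fromSpec_mem hU _
  have hξP : (hU.primeIdealOf ⟨ξ, hξU⟩).asIdeal = P₀ := by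
    have := primeIdealOf_fromSpec hU ⟨P₀, hP₀⟩
    have h2 : hU.primeIdealOf ⟨ξ, hξU⟩ = hU.primeIdealOf ⟨hU.fromSpec ⟨P₀, hP₀⟩, fromSpec_mem hU _⟩ := by
      congr 1
      exact Subtype.ext hξdef
    rw [h2, this]
  have hξx : ξ ⤳ x := by
    rw [specializes_iff_primeIdealOf_le hU ⟨ξ, hξU⟩ ⟨x, hxU⟩, hξP]
    exact hle
  have hξmax : ∀ ξ' : X, ξ' ⤳ ξ → ξ' = ξ := by
    intro ξ' hsp
    have hξ'U : ξ' ∈ U := hsp.mem_open U.2 hξU
    have h1 := (specializes_iff_primeIdealOf_le hU ⟨ξ', hξ'U⟩ ⟨ξ, hξU⟩).mp hsp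
    rw [hξP] at h1
    have h2 : P₀ ≤ (hU.primeIdealOf ⟨ξ', hξ'U⟩).asIdeal :=
      hP₀min.2 ⟨(hU.primeIdealOf ⟨ξ', hξ'U⟩).isPrime, bot_le⟩ h1
    have h3 : hU.primeIdealOf ⟨ξ', hξ'U⟩ = hU.primeIdealOf ⟨ξ, hξU⟩ :=
      PrimeSpectrum.ext ((le_antisymm h1 h2).trans hξP.symm)
    exact congrArg Subtype.val (primeIdealOf_injective' hU h3)
  refine ⟨ξ, hξx, hξmax, ?_⟩
  haveI hlo := liesOver_chart q hV hU hUV x hxU rfl
  haveI hloξ := liesOver_chart q hV hU hUV ξ hξU rfl
  have key := dim_eq_rel Γ(Spec (CommRingCat.of k), V) Γ(X, U) hUCA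
    (hV.primeIdealOf ⟨q x, hUV hxU⟩).asIdeal
    (hU.primeIdealOf ⟨x, hxU⟩).asIdeal P₀ hle
  rw [tr_chart q hV hU hUV x hxU rfl] at key
  have h1 : Algebra.trdeg
      (Γ(Spec (CommRingCat.of k), V) ⧸ P₀.under Γ(Spec (CommRingCat.of k), V))
      (Γ(X, U) ⧸ P₀) = (tr q ξ : Cardinal.{u}) := by
    rw [← tr_chart q hV hU hUV ξ hξU rfl]
    haveI : P₀.LiesOver (P₀.under Γ(Spec (CommRingCat.of k), V)) := ⟨rfl⟩
    exact trdeg_quot_congr _ _ _ _ (by rw [hloξ.over, hξP]) hξP.symm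
  rw [h1] at key
  haveI : (P₀.under Γ(Spec (CommRingCat.of k), V)).IsPrime := Ideal.comap_isPrime _ _
  have hbot : ∀ P : PrimeSpectrum Γ(Spec (CommRingCat.of k), V),
      P₀.under Γ(Spec (CommRingCat.of k), V) ≤ P.asIdeal := by
    intro P
    rw [ideal_eq_bot_of_ringEquiv_field e (P₀.under Γ(Spec (CommRingCat.of k), V))
      (Ideal.IsPrime.ne_top inferInstance)]
    exact bot_le
  rw [height_map_mk_of_forall_le _ _ hbot, hht] at key
  haveI : Nontrivial Γ(Spec (CommRingCat.of k), V) := e.nontrivial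
  have h0 : (hV.primeIdealOf ⟨q x, hUV hxU⟩).asIdeal.height = 0 := by
    rw [ideal_eq_bot_of_ringEquiv_field e (hV.primeIdealOf ⟨q x, hUV hxU⟩).asIdeal
      (Ideal.IsPrime.ne_top inferInstance)]
    exact Ideal.height_bot
  rw [h0] at key
  rw [ringKrullDim_stalk_eq_height hU x hxU]
  obtain ⟨c₀, hc₀⟩ := ENat.ne_top_iff_exists.mp (Ideal.height_ne_top
    (I := (hU.primeIdealOf ⟨x, hxU⟩).asIdeal) (Ideal.IsPrime.ne_top inferInstance))
  rw [← hc₀] at key ⊢
  have key' : c₀ + tr q x = tr q ξ := by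
    have : ((c₀ + tr q x : ℕ) : Cardinal.{u}) = ((tr q ξ : ℕ) : Cardinal.{u}) := by
      push_cast
      simpa using key
    exact_mod_cast this
  rw [← key']
  push_cast
  rfl



theorem wb_arith (a : WithBot ℕ∞) (t d t' D : ℕ) (h2 : a + (t : WithBot ℕ∞) = (d : WithBot ℕ∞))
    (h1 : a + (t' : WithBot ℕ∞) = (D : WithBot ℕ∞)) : t' + d = t + D := by
  induction a using WithBot.recBotCoe with
  | bot => simp at h2
  | coe a' =>
    induction a' using ENat.recTopCoe with
    | top =>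
      exfalso
      have : ((⊤ : ℕ∞) : WithBot ℕ∞) + (t : WithBot ℕ∞) = ((⊤ : ℕ∞) : WithBot ℕ∞) := by
        rw [show ((t : ℕ) : WithBot ℕ∞) = (((t : ℕ) : ℕ∞) : WithBot ℕ∞) from rfl, ← WithBot.coe_add]
        simp
      rw [this] at h2
      have h3 : (⊤ : ℕ∞) = ((d : ℕ) : ℕ∞) := WithBot.coe_injective h2
      exact ENat.top_ne_natCast d h3
    | coe c =>
      have e1 : ((c + t : ℕ) : WithBot ℕ∞) = ((d : ℕ) : WithBot ℕ∞) := by push_cast; exact h2
      have e2 : ((c + t' : ℕ) : WithBot ℕ∞) = ((D : ℕ) : WithBot ℕ∞) := by push_cast; exact h1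
      have e1' : c + t = d := by exact_mod_cast e1
      have e2' : c + t' = D := by exact_mod_cast e2
      omega

theorem eq_of_isMax_of_specializes {X : Scheme.{u}} (ξ : X) (hξ : IsMax ξ) (ξ' : X)
    (h : ξ' ⤳ ξ) : ξ' = ξ :=
  (h.antisymm (hξ h)).eq

theorem isMax_of_forall {X : Scheme.{u}} (ξ : X) (hξ : ∀ ξ' : X, ξ' ⤳ ξ → ξ' = ξ) : IsMax ξ := by
  intro b hb
  have hb' : b ⤳ ξ := hb
  rw [hξ b hb']

theorem S14403_main (k : Type u) [Field k]
    {X Y : Scheme.{u}} (qX : X ⟶ Spec (CommRingCat.of k)) (qY : Y ⟶ Spec (CommRingCat.of k))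
    [LocallyOfFiniteType qX] [LocallyOfFiniteType qY]
    (f : X ⟶ Y) (hf : f ≫ qY = qX) [Flat f] (d n : ℕ)
    (hY : ∀ Z ∈ irreducibleComponents (Y : Type u), topologicalKrullDim Z = (d : WithBot ℕ∞)) :
    (∀ Z ∈ irreducibleComponents (X : Type u), topologicalKrullDim Z = ((d + n : ℕ) : WithBot ℕ∞)) ↔
      ∀ (y : Y), ∀ Z ∈ irreducibleComponents (f.fiber y : Type u),
        topologicalKrullDim Z = (n : WithBot ℕ∞) := by
  haveI : LocallyOfFiniteType (f ≫ qY) := by rw [hf]; infer_instance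
  haveI : LocallyOfFiniteType f := locallyOfFiniteType_of_comp f qY
  haveI : IsLocallyNoetherian Y := LocallyOfFiniteType.isLocallyNoetherian qY
  haveI : LocallyOfFinitePresentation f :=
    LocallyOfFinitePresentation.iff_locallyOfFiniteType.2 inferInstance
  have hopen : ∀ z : X, EGA43.IsOpenAt f.base z :=
    (Groth.Agent.Lib.Helper4.UOp.isOpenMap_iff_isOpenAt _).mp f.isOpenMap
  have htr : ∀ ξ : X, tr qX ξ = tr qY (f ξ) + tr f ξ := by
    intro ξ
    rw [← Groth.Agent.Lib.Helper4.PropDim1.tr_comp f qY ξ]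
    exact (tr_congr_hom _ _ hf ξ).symm
  have hYmax : ∀ η : Y, (∀ η' : Y, η' ⤳ η → η' = η) → tr qY η = d := by
    intro η hη
    have h1 := hY _ (closure_mem_irreducibleComponents_of_isMax Y η (isMax_of_forall η hη))
    rw [dim_closure_of_field k qY η] at h1
    exact_mod_cast h1
  constructor
  · intro hX y Z hZ
    have hmem : topologicalKrullDim ↥Z ∈ (fun Z : Set ↥(f.fiber y) => topologicalKrullDim ↥Z) ''
        irreducibleComponents ↥(f.fiber y) := ⟨Z, hZ, rfl⟩
    rw [mem_compDims_iff] at hmem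
    obtain ⟨z, hz, hmax, hd⟩ := hmem
    rw [hd]
    subst hz
    have hdimeq := stalk_dim_eq_of_isOpenAt_of_max f z hmax (hopen z)
    obtain ⟨ξ, hξz, hξmax, h1⟩ := exists_max_gen_stalk_dim k qX z
    obtain ⟨η, hηy, hηmax, h2⟩ := exists_max_gen_stalk_dim k qY (f z)
    have hXξ : tr qX ξ = d + n := by
      have h3 := hX _ (closure_mem_irreducibleComponents_of_isMax X ξ (isMax_of_forall ξ hξmax))
      rw [dim_closure_of_field k qX ξ] at h3
      exact_mod_cast h3
    rw [hXξ, hdimeq, htr z] at h1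
    rw [hYmax η hηmax] at h2
    have := wb_arith _ _ _ _ _ h2 h1
    have h4 : tr f z = n := by omega
    rw [h4]
  · intro hfib Z hZ
    obtain ⟨ξ, hξmax, rfl⟩ := exists_isMax_closure_eq X Z hZ
    rw [dim_closure_of_field k qX ξ, htr ξ]
    have hξ' : ∀ ξ' : X, ξ' ⤳ ξ → ξ' = ξ := eq_of_isMax_of_specializes ξ hξmax
    have hηmax : ∀ η' : Y, η' ⤳ f ξ → η' = f ξ := by
      intro η' hη'
      obtain ⟨ξ', hξ'sp, hξ'η⟩ :=
        Groth.Agent.Lib.Helper4.OpenAt1.exists_generization_of_isOpenAt f ξ (hopen ξ) η' hη'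
      rw [← hξ'η, hξ' ξ' hξ'sp]
    rw [hYmax (f ξ) hηmax]
    have hmem := (mem_compDims_iff f (f ξ) ((tr f ξ : ℕ) : WithBot ℕ∞)).mpr
      ⟨ξ, rfl, fun z' _ hsp => hξ' z' hsp, rfl⟩
    obtain ⟨Z', hZ', hd⟩ := hmem
    have h5 := hfib (f ξ) Z' hZ'
    have hd' : topologicalKrullDim ↥Z' = ((tr f ξ : ℕ) : WithBot ℕ∞) := hd
    rw [hd'] at h5
    have h6 : tr f ξ = n := by exact_mod_cast h5
    rw [h6]



theorem dim_of_irreducible (k : Type u) [Field k] {Y : Scheme.{u}}
    (qY : Y ⟶ Spec (CommRingCat.of k)) [LocallyOfFiniteType qY] [IrreducibleSpace Y] :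
    topologicalKrullDim Y = ((tr qY (genericPoint Y) : ℕ) : WithBot ℕ∞) := by
  have h := dim_closure_of_field k qY (genericPoint Y)
  rw [genericPoint_closure, tdim_univ] at h
  exact h

theorem dim_irreducibleComponents_of_irreducible (k : Type u) [Field k] {Y : Scheme.{u}}
    (qY : Y ⟶ Spec (CommRingCat.of k)) [LocallyOfFiniteType qY] [IrreducibleSpace Y] :
    ∀ Z ∈ irreducibleComponents (Y : Type u),
      topologicalKrullDim Z = ((tr qY (genericPoint Y) : ℕ) : WithBot ℕ∞) := by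
  intro Z hZ
  rw [irreducibleComponents_eq_singleton] at hZ
  rw [Set.mem_singleton_iff] at hZ
  subst hZ
  rw [tdim_univ]
  exact dim_of_irreducible k qY

theorem S11322_main (k : Type u) [Field k]
    {X Y : Scheme.{u}} (qX : X ⟶ Spec (CommRingCat.of k)) (qY : Y ⟶ Spec (CommRingCat.of k))
    [LocallyOfFiniteType qX] [LocallyOfFiniteType qY]
    [IrreducibleSpace ↥Y] (f : X ⟶ Y) (hf : f ≫ qY = qX) [Flat f] (n : ℕ) :
    (∀ Z : Set ↥X, Z ∈ irreducibleComponents ↥X → topologicalKrullDim ↥Z = topologicalKrullDim ↥Y + (n : WithBot ℕ∞)) ↔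
      ∀ (y : Y) (Z : Set ↥(f.fiber y)), Z ∈ irreducibleComponents ↥(f.fiber y) →
        topologicalKrullDim ↥Z = (n : WithBot ℕ∞) := by
  have h := S14403_main k qX qY f hf (tr qY (genericPoint Y)) n
    (dim_irreducibleComponents_of_irreducible k qY)
  rw [dim_of_irreducible k qY]
  push_cast at h
  exact h

theorem S14404_main (k : Type u) [Field k]
    {X Y : Scheme.{u}} (qX : X ⟶ Spec (CommRingCat.of k)) (qY : Y ⟶ Spec (CommRingCat.of k))
    [LocallyOfFiniteType qX] [LocallyOfFiniteType qY]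
    [IrreducibleSpace X] [IrreducibleSpace Y] (f : X ⟶ Y) (hf : f ≫ qY = qX) [Flat f] :
    topologicalKrullDim Y ≤ topologicalKrullDim X ∧
      ∀ (y : Y), ∀ Z ∈ irreducibleComponents (f.fiber y : Type u),
        topologicalKrullDim Z + topologicalKrullDim Y = topologicalKrullDim X := by
  haveI : LocallyOfFiniteType (f ≫ qY) := by rw [hf]; infer_instance
  haveI : LocallyOfFiniteType f := locallyOfFiniteType_of_comp f qY
  haveI : IsLocallyNoetherian Y := LocallyOfFiniteType.isLocallyNoetherian qY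
  haveI : LocallyOfFinitePresentation f :=
    LocallyOfFinitePresentation.iff_locallyOfFiniteType.2 inferInstance
  have hopen : ∀ z : X, EGA43.IsOpenAt f.base z :=
    (Groth.Agent.Lib.Helper4.UOp.isOpenMap_iff_isOpenAt _).mp f.isOpenMap
  have htr : tr qX (genericPoint X) = tr qY (f (genericPoint X)) + tr f (genericPoint X) := by
    rw [← Groth.Agent.Lib.Helper4.PropDim1.tr_comp f qY (genericPoint X)]
    exact (tr_congr_hom _ _ hf _).symm
  have hgen : f (genericPoint X) = genericPoint Y := by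
    obtain ⟨ξ', hξ'sp, hξ'η⟩ :=
      Groth.Agent.Lib.Helper4.OpenAt1.exists_generization_of_isOpenAt f (genericPoint X)
        (hopen _) (genericPoint Y) (genericPoint_specializes _)
    have h1 : genericPoint X ⤳ ξ' := genericPoint_specializes ξ'
    have h2 : ξ' = genericPoint X := (hξ'sp.antisymm h1).eq
    rw [← hξ'η, h2]
  rw [hgen] at htr
  have hX : ∀ Z ∈ irreducibleComponents (X : Type u), topologicalKrullDim Z =
      ((tr qY (genericPoint Y) + tr f (genericPoint X) : ℕ) : WithBot ℕ∞) := by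
    intro Z hZ
    rw [dim_irreducibleComponents_of_irreducible k qX Z hZ, htr]
  have h := (S14403_main k qX qY f hf (tr qY (genericPoint Y)) (tr f (genericPoint X))
    (dim_irreducibleComponents_of_irreducible k qY)).mp hX
  rw [dim_of_irreducible k qY, dim_of_irreducible k qX, htr]
  constructor
  · exact_mod_cast Nat.le_add_right _ _
  · intro y Z hZ
    rw [h y Z hZ]
    push_cast
    exact add_comm _ _


end Groth.Agent.Lib.Helper4.FlatDimK1
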