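import Mathlib
import Groth.Agent.Lib.Helper4.DimFT4

/-!
# saturated chains in finite type domains over a field (S10833) (helper4)
-/

set_option backward.isDefEq.respectTransparency.types false
set_option synthInstance.maxHeartbeats 400000
set_option autoImplicit false
set_option linter.unusedSectionVars false
set_option linter.style.haveILetI false
set_option linter.unusedSimpArgs false
universe u v w
open CategoryTheory CategoryTheory.Limits AlgebraicGeometry TopologicalSpace IsLocalRing Opposite

namespace Groth.Agent.Lib.Helper4.SatChain1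

theorem S10833_main (k A : Type u) [Field k] [CommRing A]
    [IsDomain A] [Algebra k A] [Algebra.FiniteType k A] (c : LTSeries (PrimeSpectrum A))
    (h0 : c.head.asIdeal = ⊥) (hmax : c.last.asIdeal.IsMaximal)
    (hsat : ∀ i : Fin c.length, c i.castSucc ⋖ c i.succ) :
    (c.length : WithBot ℕ∞) = ringKrullDim A := by
  have key : ∀ j : ℕ, ∀ hj : j ≤ c.length,
      ringKrullDim (A ⧸ (c ⟨c.length - j, by omega⟩).asIdeal) = (j : WithBot ℕ∞) := by
    intro j
    induction j with
    | zero =>
      intro _
      have : (c ⟨c.length - 0, by omega⟩) = c.last := by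
        simp [RelSeries.last, Fin.last]
      rw [this]
      haveI := hmax
      letI : Field (A ⧸ c.last.asIdeal) := Ideal.Quotient.field _
      rw [ringKrullDim_eq_zero_of_field]; rfl
    | succ j ih =>
      intro hj
      have hj' : j ≤ c.length := by omega
      have ihj := ih hj'
      obtain ⟨i, hi⟩ : ∃ i : Fin c.length, (i : ℕ) = c.length - (j + 1) := ⟨⟨c.length - (j+1), by omega⟩, rfl⟩
      have e1 : (⟨c.length - (j + 1), by omega⟩ : Fin (c.length + 1)) = i.castSucc := by
        ext; simp [hi]
      have e2 : (⟨c.length - j, by omega⟩ : Fin (c.length + 1)) = i.succ := by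
        ext; simp [hi]; omega
      rw [e1]
      rw [e2] at ihj
      have hcov := hsat i
      have hlt : (c i.castSucc).asIdeal < (c i.succ).asIdeal := hcov.lt
      have := Groth.Agent.Lib.Helper4.DimFT4.dim_quotient_covBy k A (c i.castSucc).asIdeal
        (c i.succ).asIdeal hlt.le hlt.ne ?_
      · rw [← this, ihj]; push_cast; rfl
      · intro Q hQ h1 h2
        by_contra hne
        push Not at hne
        have hQ1 : c i.castSucc < ⟨Q, hQ⟩ := lt_of_le_of_ne h1 (fun h => hne.1 (by rw [h]))
        have hQ2 : (⟨Q, hQ⟩ : PrimeSpectrum A) < c i.succ :=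
          lt_of_le_of_ne h2 (fun h => hne.2 (by rw [← h]))
        exact hcov.2 hQ1 hQ2
  have h := key c.length le_rfl
  have e0 : (⟨c.length - c.length, by omega⟩ : Fin (c.length + 1)) = 0 := by ext; simp
  rw [e0] at h
  have e3 : (c 0).asIdeal = ⊥ := h0
  rw [← h, e3]
  exact ringKrullDim_eq_of_ringEquiv (RingEquiv.quotientBot A)

end Groth.Agent.Lib.Helper4.SatChain1
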