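import Mathlib
import Groth.Prelude.Def_Cyc
import Groth.Agent.Lib.Helper4.JacDim1
import Groth.Prelude.Def_EGA43
import Groth.Agent.Lib.Helper4.FibreStalkDim1
import Groth.Agent.Lib.Helper4.DimFT1
import Groth.Agent.Lib.Helper4.DimFT2
import Groth.Agent.Lib.Helper4.Chev8
import Groth.Agent.Lib.Helper4.FibDim7
import Groth.Agent.Lib.Helper4.EffCartierDim1
import Groth.Agent.Lib.Helper4.JacDim4
import Groth.Agent.Lib.Helper4.Chev9
import Groth.Agent.Lib.Helper4.Chev10
import Groth.Agent.Lib.Helper4.Chev11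
import Groth.Agent.Lib.Helper4.Equi1
import Groth.Agent.Lib.Helper4.Equi2
import Groth.Agent.Lib.Helper4.Equi3
import Groth.Agent.Lib.Helper4.Equi4
import Groth.Agent.Lib.Helper4.Equi5
import Groth.Agent.Lib.Helper4.Equi6
import Groth.Agent.Lib.Helper4.Equi7
import Groth.Agent.Lib.Helper4.Aff1
import Groth.Agent.Lib.Helper4.Aff2
import Groth.Agent.Lib.Helper4.Equi10
import Groth.Agent.Lib.Helper4.Val1
import Groth.Agent.Lib.Helper4.BaseChg1
import Groth.Agent.Lib.Helper4.UnivOpen1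
import Groth.Agent.Lib.Helper4.FibClosure1
import Groth.Agent.Lib.Helper4.OpenNoeth1
import Groth.Agent.Lib.Helper4.SecComp1
import Groth.Agent.Lib.Helper4.SecComp2
import Groth.Agent.Lib.Helper4.UnivOpen2
import Groth.Agent.Lib.Helper4.UnivOpenAt
import Groth.Agent.Lib.Helper4.RegularLocalCopy
import Groth.Agent.Lib.Helper4.ZMTNormalPt1
import Groth.Agent.Lib.Helper4.LocFinComp1
import Groth.Agent.Lib.Helper4.SecComp3
import Groth.Agent.Lib.Helper4.PropDim1
import Groth.Prelude.Def_FDesc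
import Groth.Prelude.Def_MoreMor
import Groth.Agent.Lib.Helper4.ChevCrit1
import Groth.Agent.Lib.Helper4.ChevCrit2
import Groth.Agent.Lib.Helper4.ChevCrit3
import Groth.Agent.Lib.Helper4.IrrCompDomain1
import Groth.Agent.Lib.Helper4.ChevCrit4
import Groth.Agent.Lib.Helper4.ChevCrit5
import Groth.Agent.Lib.Helper4.ChevCrit6
import Groth.Agent.Lib.Helper4.ChevCrit7
import Groth.Agent.Lib.Helper4.DedekindOpen1
import Groth.Agent.Lib.Helper4.UnivOpenT1
import Groth.Agent.Lib.Helper4.DvrFlat1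
import Groth.Agent.Lib.Helper4.SatChain1
import Groth.Agent.Lib.Helper4.FlatDimK1
import Groth.Agent.Lib.Helper4.BaseChgMax1

/-!
# fibre dimension is invariant under base change (helper4)
-/

set_option backward.isDefEq.respectTransparency.types false
set_option synthInstance.maxHeartbeats 400000
set_option autoImplicit false
set_option linter.unusedSectionVars false
set_option linter.style.haveILetI false
set_option linter.unusedSimpArgs false
universe u v w
open CategoryTheory CategoryTheory.Limits AlgebraicGeometry TopologicalSpace IsLocalRing Opposite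
open Cardinal AffineSpace MvPolynomial
open Groth.Agent.Lib.Helper4.DimIneq1 Groth.Agent.Lib.Helper4.DimFT2 Groth.Agent.Lib.Helper4.Catenary1
open Groth.Agent.Lib.Helper4.DimEq1 Groth.Agent.Lib.Helper4.DimIneq2 Groth.Agent.Lib.Helper4.DimEq2
open Groth.Agent.Lib.Helper4.DimIneq3 Groth.Agent.Lib.Helper4.DimIneq4
open Groth.Agent.Lib.Helper4.NormFibre2 Groth.Agent.Lib.Helper4.RadBir3 Groth.Agent.Lib.Helper4.DimFT3
open Groth.Agent.Lib.Helper4.FibDim1 Groth.Agent.Lib.Helper4.FibDim2 Groth.Agent.Lib.Helper4.LocUC1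
open Groth.Agent.Lib.Helper4.FibDim3 Groth.Agent.Lib.Helper4.FibDim4 Groth.Agent.Lib.Helper4.FibDim5
open Groth.Agent.Lib.Helper4.FibDim6 Groth.Agent.Lib.Helper4.FibDim7 Groth.Agent.Lib.Helper4.JacDim1
open Groth.Agent.Lib.Helper4.DimFT1
open Groth.Agent.Lib.Helper4.Chev2 Groth.Agent.Lib.Helper4.Chev5 Groth.Agent.Lib.Helper4.Chev6 Groth.Agent.Lib.Helper4.Chev8
open Groth.Agent.Lib.Helper4.JacDim4 Groth.Agent.Lib.Helper4.EffCartierDim1
open Groth.Agent.Lib.Helper4.Chev9 Groth.Agent.Lib.Helper4.Chev4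
open Groth.Agent.Lib.Helper4.Chev10 Groth.Agent.Lib.Helper4.Chev11 Groth.Agent.Lib.Helper4.Chev3 Groth.Agent.Lib.Helper4.Equi1 Groth.Agent.Lib.Helper4.Equi2 Groth.Agent.Lib.Helper4.OpenAt1 Groth.Agent.Lib.Helper4.Equi3 Groth.Agent.Lib.Helper4.Equi4 Groth.Agent.Lib.Helper4.Equi5 Groth.Agent.Lib.Helper4.Equi6 Groth.Agent.Lib.Helper4.Equi7 Groth.Agent.Lib.Helper4.Aff1 Groth.Agent.Lib.Helper4.Aff2 Groth.Agent.Lib.Helper4.Equi10 Groth.Agent.Lib.Helper4.Val1 Groth.Agent.Lib.Helper4.BaseChg1 Groth.Agent.Lib.Helper4.UnivOpen1 Groth.Agent.Lib.Helper4.FibClosure1 Groth.Agent.Lib.Helper4.OpenNoeth1 Groth.Agent.Lib.Helper4.SecComp1 Groth.Agent.Lib.Helper4.SecComp2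
open Groth.Agent.Lib.Helper4.SecComp3 Groth.Agent.Lib.Helper4.PropDim1 Groth.Agent.Lib.Helper4.ZMTNormalPt1 Groth.Agent.Lib.Helper4.UO Groth.Agent.Lib.Helper4.UOp
open Groth.Agent.Lib.Helper4.ChevCrit1 Groth.Agent.Lib.Helper4.ChevCrit2 Groth.Agent.Lib.Helper4.ChevCrit3
open Groth.Agent.Lib.Helper4.IrrCompDomain1 Groth.Agent.Lib.Helper4.RadBir1
open Groth.Agent.Lib.Helper4.ChevCrit4
open Groth.Agent.Lib.Helper4.ChevCrit5
open Groth.Agent.Lib.Helper4.DedekindOpen1 Groth.Agent.Lib.Helper4.UnivOpenT1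
open Groth.Agent.Lib.Helper4.ChevCrit7
open Groth.Agent.Lib.Helper4.DvrFlat1 Groth.Agent.Lib.Helper4.FlatDimK1 Groth.Agent.Lib.Helper4.BaseChgMax1

namespace Groth.Agent.Lib.Helper4.FibDimBC1
section A
variable {X Y : Scheme.{u}} (f : X ⟶ Y) [LocallyOfFiniteType f]

/-- the residual transcendence degree at a point is at most the dimension of the fibre (no
Noetherian hypotheses) -/
theorem tr_le_dim_fiber (y : Y) (w : f.fiber y) :
    ((tr f (f.fiberι y w) : ℕ) : WithBot ℕ∞) ≤ topologicalKrullDim ↥(f.fiber y) := by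
  rw [← tr_fiber f y w]
  have h := dim_closure_of_field (Y.residueField y) (f.fiberToSpecResidueField y) w
  rw [← h]
  exact topologicalKrullDim_subspace_le _ _

theorem tr_le_dim_fiber' (x : X) :
    ((tr f x : ℕ) : WithBot ℕ∞) ≤ topologicalKrullDim ↥(f.fiber (f x)) := by
  have h := tr_le_dim_fiber f (f x) (f.asFiber x)
  rw [Scheme.Hom.fiberι_asFiber] at h
  exact h

theorem dim_fiber_le_of_forall (y : Y) (D : WithBot ℕ∞)
    (hD : ∀ z : X, f z = y → ((tr f z : ℕ) : WithBot ℕ∞) ≤ D) :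
    topologicalKrullDim ↥(f.fiber y) ≤ D := by
  rw [topologicalKrullDim_fiber_eq]
  induction D using WithBot.recBotCoe with
  | bot =>
    haveI : IsEmpty {z : X // f z = y} := ⟨fun z => by
      have := hD z.1 z.2
      simp at this⟩
    rw [Order.krullDim_eq_bot]
  | coe D' =>
    induction D' using ENat.recTopCoe with
    | top => exact le_top
    | coe E =>
      refine krullDim_fibre_le f y E fun z hz => ?_
      have := hD z hz
      exact_mod_cast this

end A

theorem S9777_main {X Y X' Y' : Scheme.{u}} (f : X ⟶ Y) [LocallyOfFiniteType f]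
    (g : Y' ⟶ Y) (f' : X' ⟶ Y') (g' : X' ⟶ X) (hc : IsPullback g' f' f g) (y' : Y') :
    topologicalKrullDim ↑(f'.fiber y') = topologicalKrullDim ↑(f.fiber (g y')) := by
  haveI : LocallyOfFiniteType f' := MorphismProperty.of_isPullback hc inferInstance
  obtain ⟨e, hfst, hsnd⟩ : ∃ e : X' ≅ pullback f g, e.hom ≫ pullback.fst f g = g' ∧
      e.hom ≫ pullback.snd f g = f' :=
    ⟨hc.isoPullback, hc.isoPullback_hom_fst, hc.isoPullback_hom_snd⟩
  have htr : ∀ z' : X', tr f' z' = tr (pullback.snd f g) (e.hom z') := fun z' =>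
    tr_eq_of_square e.hom (pullback.snd f g) f' (𝟙 Y')
      (by rw [hsnd, Category.comp_id]) z'
  apply le_antisymm
  · refine dim_fiber_le_of_forall f' y' _ fun z' hz' => ?_
    have h1 : tr f' z' ≤ tr f (g' z') := by
      rw [htr z', ← hfst, Scheme.Hom.comp_apply]
      exact tr_snd_le f g _
    have h2 : f (g' z') = g y' := by
      rw [← hz', ← Scheme.Hom.comp_apply, ← Scheme.Hom.comp_apply, hc.w]
    have h3 := tr_le_dim_fiber' f (g' z')
    rw [h2] at h3
    refine le_trans ?_ h3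
    exact_mod_cast h1
  · refine dim_fiber_le_of_forall f (g y') _ fun z hz => ?_
    obtain ⟨w, hw1, hw2, hw3⟩ := exists_tr_snd_ge f g z y' hz
    obtain ⟨z', hz'⟩ : ∃ z' : X', e.hom z' = w :=
      ⟨e.inv w, by rw [← Scheme.Hom.comp_apply, Iso.inv_hom_id]; rfl⟩
    have h1 : f' z' = y' := by
      rw [← hsnd, Scheme.Hom.comp_apply, hz', hw2]
    have h3 := tr_le_dim_fiber' f' z'
    rw [h1, htr z', hz'] at h3
    refine le_trans ?_ h3
    exact_mod_cast hw3

end Groth.Agent.Lib.Helper4.FibDimBC1
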