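import Mathlib
import Groth.Prelude.Def_Cyc
import Groth.Agent.Lib.Helper4.JacDim1
import Groth.Prelude.Def_EGA43
import Groth.Agent.Lib.Helper4.FibreStalkDim1
import Groth.Agent.Lib.Helper4.DimFT1
import Groth.Agent.Lib.Helper4.DimFT2
import Groth.Agent.Lib.Helper4.Chev8
import Groth.Agent.Lib.Helper4.FibDim7
import Groth.Agent.Lib.Helper4.EffCartierDim1
import Groth.Agent.Lib.Helper4.JacDim4
import Groth.Agent.Lib.Helper4.Chev9
import Groth.Agent.Lib.Helper4.Chev10
import Groth.Agent.Lib.Helper4.Chev11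
import Groth.Agent.Lib.Helper4.Equi1
import Groth.Agent.Lib.Helper4.Equi2
import Groth.Agent.Lib.Helper4.Equi3
import Groth.Agent.Lib.Helper4.Equi4
import Groth.Agent.Lib.Helper4.Equi5
import Groth.Agent.Lib.Helper4.Equi6
import Groth.Agent.Lib.Helper4.Equi7
import Groth.Agent.Lib.Helper4.Aff1
import Groth.Agent.Lib.Helper4.Aff2
import Groth.Agent.Lib.Helper4.Equi10
import Groth.Agent.Lib.Helper4.Val1
import Groth.Agent.Lib.Helper4.BaseChg1
import Groth.Agent.Lib.Helper4.UnivOpen1
import Groth.Agent.Lib.Helper4.FibClosure1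
import Groth.Agent.Lib.Helper4.OpenNoeth1
import Groth.Agent.Lib.Helper4.SecComp1
import Groth.Agent.Lib.Helper4.SecComp2
import Groth.Agent.Lib.Helper4.UnivOpen2
import Groth.Agent.Lib.Helper4.UnivOpenAt
import Groth.Agent.Lib.Helper4.RegularLocalCopy
import Groth.Agent.Lib.Helper4.ZMTNormalPt1
import Groth.Agent.Lib.Helper4.LocFinComp1
import Groth.Agent.Lib.Helper4.SecComp3
import Groth.Agent.Lib.Helper4.PropDim1
import Groth.Prelude.Def_FDesc
import Groth.Prelude.Def_MoreMor
import Groth.Agent.Lib.Helper4.ChevCrit1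
import Groth.Agent.Lib.Helper4.ChevCrit2
import Groth.Agent.Lib.Helper4.ChevCrit3
import Groth.Agent.Lib.Helper4.IrrCompDomain1
import Groth.Agent.Lib.Helper4.ChevCrit4
import Groth.Agent.Lib.Helper4.ChevCrit5
import Groth.Agent.Lib.Helper4.ChevCrit6
import Groth.Agent.Lib.Helper4.ChevCrit7
import Groth.Agent.Lib.Helper4.DedekindOpen1
import Groth.Agent.Lib.Helper4.UnivOpenT1
import Groth.Agent.Lib.Helper4.DvrFlat1
import Groth.Agent.Lib.Helper4.SatChain1
import Groth.Agent.Lib.Helper4.FlatDimK1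
import Groth.Agent.Lib.Helper4.BaseChgMax1

/-!
# fibre map of a base change is flat; S10941 (helper4)
-/

set_option backward.isDefEq.respectTransparency.types false
set_option synthInstance.maxHeartbeats 400000
set_option autoImplicit false
set_option linter.unusedSectionVars false
set_option linter.style.haveILetI false
set_option linter.unusedSimpArgs false
universe u v w
open CategoryTheory CategoryTheory.Limits AlgebraicGeometry TopologicalSpace IsLocalRing Opposite
open Cardinal AffineSpace MvPolynomial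
open Groth.Agent.Lib.Helper4.DimIneq1 Groth.Agent.Lib.Helper4.DimFT2 Groth.Agent.Lib.Helper4.Catenary1
open Groth.Agent.Lib.Helper4.DimEq1 Groth.Agent.Lib.Helper4.DimIneq2 Groth.Agent.Lib.Helper4.DimEq2
open Groth.Agent.Lib.Helper4.DimIneq3 Groth.Agent.Lib.Helper4.DimIneq4
open Groth.Agent.Lib.Helper4.NormFibre2 Groth.Agent.Lib.Helper4.RadBir3 Groth.Agent.Lib.Helper4.DimFT3
open Groth.Agent.Lib.Helper4.FibDim1 Groth.Agent.Lib.Helper4.FibDim2 Groth.Agent.Lib.Helper4.LocUC1
open Groth.Agent.Lib.Helper4.FibDim3 Groth.Agent.Lib.Helper4.FibDim4 Groth.Agent.Lib.Helper4.FibDim5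
open Groth.Agent.Lib.Helper4.FibDim6 Groth.Agent.Lib.Helper4.FibDim7 Groth.Agent.Lib.Helper4.JacDim1
open Groth.Agent.Lib.Helper4.DimFT1
open Groth.Agent.Lib.Helper4.Chev2 Groth.Agent.Lib.Helper4.Chev5 Groth.Agent.Lib.Helper4.Chev6 Groth.Agent.Lib.Helper4.Chev8
open Groth.Agent.Lib.Helper4.JacDim4 Groth.Agent.Lib.Helper4.EffCartierDim1
open Groth.Agent.Lib.Helper4.Chev9 Groth.Agent.Lib.Helper4.Chev4
open Groth.Agent.Lib.Helper4.Chev10 Groth.Agent.Lib.Helper4.Chev11 Groth.Agent.Lib.Helper4.Chev3 Groth.Agent.Lib.Helper4.Equi1 Groth.Agent.Lib.Helper4.Equi2 Groth.Agent.Lib.Helper4.OpenAt1 Groth.Agent.Lib.Helper4.Equi3 Groth.Agent.Lib.Helper4.Equi4 Groth.Agent.Lib.Helper4.Equi5 Groth.Agent.Lib.Helper4.Equi6 Groth.Agent.Lib.Helper4.Equi7 Groth.Agent.Lib.Helper4.Aff1 Groth.Agent.Lib.Helper4.Aff2 Groth.Agent.Lib.Helper4.Equi10 Groth.Agent.Lib.Helper4.Val1 Groth.Agent.Lib.Helper4.BaseChg1 Groth.Agent.Lib.Helper4.UnivOpen1 Groth.Agent.Lib.Helper4.FibClosure1 Groth.Agent.Lib.Helper4.OpenNoeth1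 Groth.Agent.Lib.Helper4.SecComp1 Groth.Agent.Lib.Helper4.SecComp2
open Groth.Agent.Lib.Helper4.SecComp3 Groth.Agent.Lib.Helper4.PropDim1 Groth.Agent.Lib.Helper4.ZMTNormalPt1 Groth.Agent.Lib.Helper4.UO Groth.Agent.Lib.Helper4.UOp
open Groth.Agent.Lib.Helper4.ChevCrit1 Groth.Agent.Lib.Helper4.ChevCrit2 Groth.Agent.Lib.Helper4.ChevCrit3
open Groth.Agent.Lib.Helper4.IrrCompDomain1 Groth.Agent.Lib.Helper4.RadBir1
open Groth.Agent.Lib.Helper4.ChevCrit4
open Groth.Agent.Lib.Helper4.ChevCrit5
open Groth.Agent.Lib.Helper4.DedekindOpen1 Groth.Agent.Lib.Helper4.UnivOpenT1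
open Groth.Agent.Lib.Helper4.ChevCrit7
open Groth.Agent.Lib.Helper4.DvrFlat1 Groth.Agent.Lib.Helper4.FlatDimK1 Groth.Agent.Lib.Helper4.BaseChgMax1

namespace Groth.Agent.Lib.Helper4.FibMap1
section FP
variable {X Y Y' : Scheme.{u}} (f : X ⟶ Y) (g : Y' ⟶ Y)

/-- the canonical map from the fibre of the base change over `y'` to the fibre over `g y'` -/
noncomputable def fiberMap (y' : Y') : (pullback.snd f g).fiber y' ⟶ f.fiber (g y') :=
  pullback.lift ((pullback.snd f g).fiberι y' ≫ pullback.fst f g)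
    ((pullback.snd f g).fiberToSpecResidueField y' ≫ Spec.map (g.residueFieldMap y'))
    (by
      rw [Category.assoc, Category.assoc, Scheme.Hom.SpecMap_residueFieldMap_fromSpecResidueField,
        pullback.condition]
      rw [← Category.assoc, ← Category.assoc]
      congr 1
      exact pullback.condition)

theorem fiberMap_fiberι (y' : Y') :
    fiberMap f g y' ≫ f.fiberι (g y') = (pullback.snd f g).fiberι y' ≫ pullback.fst f g :=
  pullback.lift_fst _ _ _

theorem fiberMap_toSpec (y' : Y') :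
    fiberMap f g y' ≫ f.fiberToSpecResidueField (g y') =
      (pullback.snd f g).fiberToSpecResidueField y' ≫ Spec.map (g.residueFieldMap y') :=
  pullback.lift_snd _ _ _

theorem isPullback_fiberMap (y' : Y') :
    IsPullback (fiberMap f g y') ((pullback.snd f g).fiberToSpecResidueField y')
      (f.fiberToSpecResidueField (g y')) (Spec.map (g.residueFieldMap y')) := by
  have hleft : IsPullback ((pullback.snd f g).fiberι y')
      ((pullback.snd f g).fiberToSpecResidueField y') (pullback.snd f g)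
      (Y'.fromSpecResidueField y') := IsPullback.of_hasPullback _ _
  have hright : IsPullback (pullback.fst f g) (pullback.snd f g) f g := IsPullback.of_hasPullback _ _
  have houter := hleft.paste_horiz hright
  have hr : IsPullback (f.fiberι (g y')) (f.fiberToSpecResidueField (g y')) f
      (Y.fromSpecResidueField (g y')) := IsPullback.of_hasPullback _ _
  refine IsPullback.of_right ?_ (fiberMap_toSpec f g y') hr
  rw [fiberMap_fiberι, Scheme.Hom.SpecMap_residueFieldMap_fromSpecResidueField]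
  exact houter

instance flat_fiberMap (y' : Y') : Flat (fiberMap f g y') := by
  haveI : Subsingleton ↥(Spec (Y.residueField (g y'))) :=
    inferInstanceAs (Subsingleton (PrimeSpectrum (Y.residueField (g y'))))
  haveI : Flat (Spec.map (g.residueFieldMap y')) := inferInstance
  exact MorphismProperty.of_isPullback (P := @Flat) (isPullback_fiberMap f g y').flip inferInstance

/-- a point of the fibre product which is maximal in its fibre over the second factor has a first
projection which is maximal in its fibre -/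
theorem fst_max_of_max (w : ↥(pullback f g))
    (hmax : ∀ w' : ↥(pullback f g), w' ⤳ w → pullback.snd f g w' = pullback.snd f g w → w' = w)
    (x₁ : X) (hsp : x₁ ⤳ pullback.fst f g w) (hx₁ : f x₁ = f (pullback.fst f g w)) :
    x₁ = pullback.fst f g w := by
  have hcond : f (pullback.fst f g w) = g (pullback.snd f g w) := by
    rw [← Scheme.Hom.comp_apply, ← Scheme.Hom.comp_apply, pullback.condition]
  obtain ⟨u, hu⟩ : ∃ u : ↥((pullback.snd f g).fiber (pullback.snd f g w)),
      (pullback.snd f g).fiberι _ u = w := ⟨(pullback.snd f g).asFiber w, by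
        rw [Scheme.Hom.fiberι_asFiber]⟩
  have hv : f.fiberι _ (fiberMap f g _ u) = pullback.fst f g w := by
    rw [← Scheme.Hom.comp_apply, fiberMap_fiberι, Scheme.Hom.comp_apply, hu]
  obtain ⟨v₁, hv₁⟩ : ∃ v₁ : ↥(f.fiber (g (pullback.snd f g w))), f.fiberι _ v₁ = x₁ :=
    ⟨(f.fiberHomeo _).symm ⟨x₁, hx₁.trans hcond⟩, f.fiberι_fiberHomeo_symm _ _⟩
  have hsp' : v₁ ⤳ fiberMap f g _ u := by
    rw [← (f.fiberι (g (pullback.snd f g w))).isEmbedding.isInducing.specializes_iff, hv₁, hv]
    exact hsp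
  obtain ⟨u₁, hu₁, hu₁v⟩ := Flat.generalizingMap (fiberMap f g (pullback.snd f g w)) hsp'
  have h1 : (pullback.snd f g).fiberι _ u₁ ⤳ w := by
    have := hu₁.map ((pullback.snd f g).fiberι _).continuous
    rwa [hu] at this
  have h2 := hmax _ h1 (fiberι_mem _ _ u₁)
  rw [← hv₁, ← hu₁v, ← Scheme.Hom.comp_apply, fiberMap_fiberι, Scheme.Hom.comp_apply, h2]

end FP

section TOP

theorem exists_max_of_irreducibleComponent {T : Type*} [TopologicalSpace T] [QuasiSober T]
    [T0Space T] (W : Set T) (hW : W ∈ irreducibleComponents T) :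
    ∃ ω : T, closure {ω} = W ∧ ∀ ω' : T, ω' ⤳ ω → ω' = ω := by
  have hirr : IsIrreducible W := hW.1
  have hcl : IsClosed W := isClosed_of_mem_irreducibleComponents W hW
  have hgen : IsGenericPoint hirr.genericPoint W := hirr.isGenericPoint_genericPoint hcl
  refine ⟨hirr.genericPoint, hgen.def, ?_⟩
  intro ω' hsp
  have h1 : W ≤ closure {ω'} := by
    rw [← hgen.def]
    exact specializes_iff_closure_subset.mp hsp
  have h2 : closure {ω'} ≤ W := hW.2 isIrreducible_singleton.closure h1
  have h3 : IsGenericPoint ω' W := le_antisymm h2 h1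
  exact h3.eq hgen

/-- an irreducible component of a closed subspace `S` of a quasi-sober T0 space `P`: its generic
point, seen in `P`, is maximal among the points of `S`, and the component is homeomorphic to its
closure in `P` -/
theorem exists_max_of_irreducibleComponent_closed {P : Type*} [TopologicalSpace P] [QuasiSober P]
    [T0Space P] (S : Set P) (hS : IsClosed S) (W : Set ↥S) (hW : W ∈ irreducibleComponents ↥S) :
    ∃ ω : P, ω ∈ S ∧ (∀ ω' : P, ω' ∈ S → ω' ⤳ ω → ω' = ω) ∧
      topologicalKrullDim ↥W = topologicalKrullDim ↥(closure ({ω} : Set P)) := by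
  have hemb : Topology.IsClosedEmbedding (Subtype.val : ↥S → P) := hS.isClosedEmbedding_subtypeVal
  haveI : QuasiSober ↥S := hemb.quasiSober
  obtain ⟨ω₀, hω₀, hmax⟩ := exists_max_of_irreducibleComponent W hW
  refine ⟨ω₀.1, ω₀.2, ?_, ?_⟩
  · intro ω' hω' hsp
    have h1 : (⟨ω', hω'⟩ : ↥S) ⤳ ω₀ := by
      rw [← Topology.IsInducing.subtypeVal.specializes_iff]
      exact hsp
    exact congrArg Subtype.val (hmax _ h1)
  · have himg : Subtype.val '' W = closure ({ω₀.1} : Set P) := by
      rw [← hω₀, ← hemb.closure_image_eq, Set.image_singleton]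
    have e1 : ↥W ≃ₜ ↥(Subtype.val '' W) := Topology.IsEmbedding.subtypeVal.homeomorphImage W
    rw [e1.isHomeomorph.topologicalKrullDim_eq, himg]

end TOP

section MAIN

/-- (TR=) at points maximal in their fibre over the second factor -/
theorem tr_snd_eq_of_max {X Y Y' : Scheme.{u}} (f : X ⟶ Y) (g : Y' ⟶ Y) [LocallyOfFiniteType f]
    (w : ↥(pullback f g))
    (hmax : ∀ w' : ↥(pullback f g), w' ⤳ w → pullback.snd f g w' = pullback.snd f g w → w' = w) :
    tr (pullback.snd f g) w = tr f (pullback.fst f g w) :=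
  le_antisymm (tr_snd_le f g w) (tr_le_tr_snd_of_max f g w hmax)

theorem S10941_main (k : Type u) [Field k]
    {X Y Y' : Scheme.{u}} (qX : X ⟶ Spec (CommRingCat.of k)) (qY : Y ⟶ Spec (CommRingCat.of k))
    (qY' : Y' ⟶ Spec (CommRingCat.of k))
    [LocallyOfFiniteType qX] [LocallyOfFiniteType qY] [LocallyOfFiniteType qY']
    [IrreducibleSpace ↥Y] (f : X ⟶ Y) (hf : f ≫ qY = qX) [Flat f] (n : ℕ)
    (hX : ∀ Z : Set ↥X, Z ∈ irreducibleComponents ↥X →
      topologicalKrullDim ↥Z = topologicalKrullDim ↥Y + (n : WithBot ℕ∞))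
    (g : Y' ⟶ Y)
    (V : Set ↥Y') (hV : IsClosed V) (hVirr : IsIrreducible V)
    (W : Set ↥((pullback.snd f g).base ⁻¹' V))
    (hW : W ∈ irreducibleComponents ↥((pullback.snd f g).base ⁻¹' V)) :
    topologicalKrullDim ↥W = topologicalKrullDim ↥V + (n : WithBot ℕ∞) := by
  haveI : LocallyOfFiniteType (f ≫ qY) := by rw [hf]; infer_instance
  haveI : LocallyOfFiniteType f := locallyOfFiniteType_of_comp f qY
  haveI : IsLocallyNoetherian Y := LocallyOfFiniteType.isLocallyNoetherian qY
  haveI : IsLocallyNoetherian Y' := LocallyOfFiniteType.isLocallyNoetherian qY'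
  have hfib := (S11322_main k qX qY f hf n).mp hX
  have hfmax : ∀ z : X, (∀ z' : X, f z' = f z → z' ⤳ z → z' = z) → tr f z = n := by
    intro z hz
    obtain ⟨Z', hZ', hd⟩ := (mem_compDims_iff f (f z) ((tr f z : ℕ) : WithBot ℕ∞)).mpr
      ⟨z, rfl, hz, rfl⟩
    have h5 := hfib (f z) Z' hZ'
    have hd' : topologicalKrullDim ↥Z' = ((tr f z : ℕ) : WithBot ℕ∞) := hd
    rw [hd'] at h5
    exact_mod_cast h5
  have hScl : IsClosed ((pullback.snd f g).base ⁻¹' V) := hV.preimage (pullback.snd f g).continuous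
  obtain ⟨ω, hωS, hωmax, hdim⟩ := exists_max_of_irreducibleComponent_closed _ hScl W hW
  rw [hdim, dim_closure_of_field k (pullback.snd f g ≫ qY') ω,
    Groth.Agent.Lib.Helper4.PropDim1.tr_comp]
  -- the image of `ω` is the generic point of `V`
  have hgen : IsGenericPoint hVirr.genericPoint V := hVirr.isGenericPoint_genericPoint hV
  have hω1 : pullback.snd f g ω = hVirr.genericPoint := by
    have hsp : hVirr.genericPoint ⤳ pullback.snd f g ω := by
      rw [specializes_iff_mem_closure, hgen.def]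
      exact hωS
    obtain ⟨ω', hω', hω'η⟩ := Flat.generalizingMap (pullback.snd f g) hsp
    have hmem : ω' ∈ (pullback.snd f g).base ⁻¹' V := by
      change pullback.snd f g ω' ∈ V
      rw [hω'η]
      exact hgen.mem
    rw [← hω'η, hωmax ω' hmem hω']
  have hmax' : ∀ w' : ↥(pullback f g), w' ⤳ ω →
      pullback.snd f g w' = pullback.snd f g ω → w' = ω := by
    intro w' hsp hw'
    refine hωmax w' ?_ hsp
    change pullback.snd f g w' ∈ V
    rw [hw']
    exact hωS
  have htr : tr (pullback.snd f g) ω = n := by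
    rw [tr_snd_eq_of_max f g ω hmax']
    apply hfmax
    intro z' hz' hsp
    exact fst_max_of_max f g ω hmax' z' hsp hz'
  rw [htr, hω1]
  have hVdim := dim_closure_of_field k qY' hVirr.genericPoint
  rw [hgen.def] at hVdim
  rw [hVdim]
  push_cast
  rfl

end MAIN
end Groth.Agent.Lib.Helper4.FibMap1
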