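import Mathlib
import Groth.Prelude.Def_Cyc
import Groth.Agent.Lib.Helper4.JacDim1
import Groth.Prelude.Def_EGA43
import Groth.Agent.Lib.Helper4.FibreStalkDim1
import Groth.Agent.Lib.Helper4.DimFT1
import Groth.Agent.Lib.Helper4.DimFT2
import Groth.Agent.Lib.Helper4.Chev8
import Groth.Agent.Lib.Helper4.FibDim7
import Groth.Agent.Lib.Helper4.EffCartierDim1
import Groth.Agent.Lib.Helper4.JacDim4
import Groth.Agent.Lib.Helper4.Chev9
import Groth.Agent.Lib.Helper4.Chev10
import Groth.Agent.Lib.Helper4.Chev11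
import Groth.Agent.Lib.Helper4.Equi1
import Groth.Agent.Lib.Helper4.Equi2
import Groth.Agent.Lib.Helper4.Equi3
import Groth.Agent.Lib.Helper4.Equi4
import Groth.Agent.Lib.Helper4.Equi5
import Groth.Agent.Lib.Helper4.Equi6
import Groth.Agent.Lib.Helper4.Equi7
import Groth.Agent.Lib.Helper4.Aff1
import Groth.Agent.Lib.Helper4.Aff2
import Groth.Agent.Lib.Helper4.Equi10
import Groth.Agent.Lib.Helper4.Val1
import Groth.Agent.Lib.Helper4.BaseChg1
import Groth.Agent.Lib.Helper4.UnivOpen1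
import Groth.Agent.Lib.Helper4.FibClosure1
import Groth.Agent.Lib.Helper4.OpenNoeth1
import Groth.Agent.Lib.Helper4.SecComp1
import Groth.Agent.Lib.Helper4.SecComp2
import Groth.Agent.Lib.Helper4.UnivOpen2
import Groth.Agent.Lib.Helper4.UnivOpenAt
import Groth.Agent.Lib.Helper4.RegularLocalCopy
import Groth.Agent.Lib.Helper4.ZMTNormalPt1
import Groth.Agent.Lib.Helper4.LocFinComp1
import Groth.Agent.Lib.Helper4.SecComp3
import Groth.Agent.Lib.Helper4.PropDim1
import Groth.Prelude.Def_FDesc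
import Groth.Prelude.Def_MoreMor
import Groth.Agent.Lib.Helper4.ChevCrit1
import Groth.Agent.Lib.Helper4.ChevCrit2
import Groth.Agent.Lib.Helper4.ChevCrit3
import Groth.Agent.Lib.Helper4.IrrCompDomain1
import Groth.Agent.Lib.Helper4.ChevCrit4
import Groth.Agent.Lib.Helper4.ChevCrit5
import Groth.Agent.Lib.Helper4.ChevCrit6
import Groth.Agent.Lib.Helper4.ChevCrit7
import Groth.Agent.Lib.Helper4.DedekindOpen1
import Groth.Agent.Lib.Helper4.UnivOpenT1
import Groth.Agent.Lib.Helper4.DvrFlat1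
import Groth.Agent.Lib.Helper4.SatChain1
import Groth.Agent.Lib.Helper4.FlatDimK1
import Groth.Agent.Lib.Helper4.BaseChgMax1
import Groth.Agent.Lib.Helper4.ProdDim1
import Groth.Agent.Lib.Helper4.FibDimBC1
import Groth.Agent.Lib.Helper4.FibMap1

/-!
# generizations inside fibres of a base change; S4672 (helper4)
-/

set_option backward.isDefEq.respectTransparency.types false
set_option synthInstance.maxHeartbeats 400000
set_option autoImplicit false
set_option linter.unusedSectionVars false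
set_option linter.style.haveILetI false
set_option linter.unusedSimpArgs false
universe u v w
open CategoryTheory CategoryTheory.Limits AlgebraicGeometry TopologicalSpace IsLocalRing Opposite
open Cardinal AffineSpace MvPolynomial
open Groth.Agent.Lib.Helper4.DimIneq1 Groth.Agent.Lib.Helper4.DimFT2 Groth.Agent.Lib.Helper4.Catenary1
open Groth.Agent.Lib.Helper4.DimEq1 Groth.Agent.Lib.Helper4.DimIneq2 Groth.Agent.Lib.Helper4.DimEq2
open Groth.Agent.Lib.Helper4.DimIneq3 Groth.Agent.Lib.Helper4.DimIneq4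
open Groth.Agent.Lib.Helper4.NormFibre2 Groth.Agent.Lib.Helper4.RadBir3 Groth.Agent.Lib.Helper4.DimFT3
open Groth.Agent.Lib.Helper4.FibDim1 Groth.Agent.Lib.Helper4.FibDim2 Groth.Agent.Lib.Helper4.LocUC1
open Groth.Agent.Lib.Helper4.FibDim3 Groth.Agent.Lib.Helper4.FibDim4 Groth.Agent.Lib.Helper4.FibDim5
open Groth.Agent.Lib.Helper4.FibDim6 Groth.Agent.Lib.Helper4.FibDim7 Groth.Agent.Lib.Helper4.JacDim1
open Groth.Agent.Lib.Helper4.DimFT1
open Groth.Agent.Lib.Helper4.Chev2 Groth.Agent.Lib.Helper4.Chev5 Groth.Agent.Lib.Helper4.Chev6 Groth.Agent.Lib.Helper4.Chev8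
open Groth.Agent.Lib.Helper4.JacDim4 Groth.Agent.Lib.Helper4.EffCartierDim1
open Groth.Agent.Lib.Helper4.Chev9 Groth.Agent.Lib.Helper4.Chev4
open Groth.Agent.Lib.Helper4.Chev10 Groth.Agent.Lib.Helper4.Chev11 Groth.Agent.Lib.Helper4.Chev3 Groth.Agent.Lib.Helper4.Equi1 Groth.Agent.Lib.Helper4.Equi2 Groth.Agent.Lib.Helper4.OpenAt1 Groth.Agent.Lib.Helper4.Equi3 Groth.Agent.Lib.Helper4.Equi4 Groth.Agent.Lib.Helper4.Equi5 Groth.Agent.Lib.Helper4.Equi6 Groth.Agent.Lib.Helper4.Equi7 Groth.Agent.Lib.Helper4.Aff1 Groth.Agent.Lib.Helper4.Aff2 Groth.Agent.Lib.Helper4.Equi10 Groth.Agent.Lib.Helper4.Val1 Groth.Agent.Lib.Helper4.BaseChg1 Groth.Agent.Lib.Helper4.UnivOpen1 Groth.Agent.Lib.Helper4.FibClosure1 Groth.Agent.Lib.Helper4.OpenNoeth1 Groth.Agent.Lib.Helper4.SecComp1 Groth.Agent.Lib.Helper4.SecComp2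
open Groth.Agent.Lib.Helper4.SecComp3 Groth.Agent.Lib.Helper4.PropDim1 Groth.Agent.Lib.Helper4.ZMTNormalPt1 Groth.Agent.Lib.Helper4.UO Groth.Agent.Lib.Helper4.UOp
open Groth.Agent.Lib.Helper4.ChevCrit1 Groth.Agent.Lib.Helper4.ChevCrit2 Groth.Agent.Lib.Helper4.ChevCrit3
open Groth.Agent.Lib.Helper4.IrrCompDomain1 Groth.Agent.Lib.Helper4.RadBir1
open Groth.Agent.Lib.Helper4.ChevCrit4
open Groth.Agent.Lib.Helper4.ChevCrit5
open Groth.Agent.Lib.Helper4.DedekindOpen1 Groth.Agent.Lib.Helper4.UnivOpenT1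
open Groth.Agent.Lib.Helper4.ChevCrit7
open Groth.Agent.Lib.Helper4.DvrFlat1 Groth.Agent.Lib.Helper4.FlatDimK1 Groth.Agent.Lib.Helper4.BaseChgMax1 Groth.Agent.Lib.Helper4.ProdDim1 Groth.Agent.Lib.Helper4.FibDimBC1 Groth.Agent.Lib.Helper4.FibMap1

namespace Groth.Agent.Lib.Helper4.GenFib1
section GEN
variable {X Y Y' : Scheme.{u}} (f : X ⟶ Y) (g : Y' ⟶ Y)

/-- generizations of the first projection inside the fibre of `f` lift to generizations inside
the fibre of the second projection -/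
theorem exists_generization_fst (w : ↥(pullback f g))
    (x₁ : X) (hsp : x₁ ⤳ pullback.fst f g w) (hx₁ : f x₁ = f (pullback.fst f g w)) :
    ∃ w₁ : ↥(pullback f g), w₁ ⤳ w ∧ pullback.snd f g w₁ = pullback.snd f g w ∧
      pullback.fst f g w₁ = x₁ := by
  have hcond : f (pullback.fst f g w) = g (pullback.snd f g w) := by
    rw [← Scheme.Hom.comp_apply, ← Scheme.Hom.comp_apply, pullback.condition]
  obtain ⟨u, hu⟩ : ∃ u : ↥((pullback.snd f g).fiber (pullback.snd f g w)),
      (pullback.snd f g).fiberι _ u = w := ⟨(pullback.snd f g).asFiber w, by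
        rw [Scheme.Hom.fiberι_asFiber]⟩
  have hv : f.fiberι _ (fiberMap f g _ u) = pullback.fst f g w := by
    rw [← Scheme.Hom.comp_apply, fiberMap_fiberι, Scheme.Hom.comp_apply, hu]
  obtain ⟨v₁, hv₁⟩ : ∃ v₁ : ↥(f.fiber (g (pullback.snd f g w))), f.fiberι _ v₁ = x₁ :=
    ⟨(f.fiberHomeo _).symm ⟨x₁, hx₁.trans hcond⟩, f.fiberι_fiberHomeo_symm _ _⟩
  have hsp' : v₁ ⤳ fiberMap f g _ u := by
    rw [← (f.fiberι (g (pullback.snd f g w))).isEmbedding.isInducing.specializes_iff, hv₁, hv]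
    exact hsp
  obtain ⟨u₁, hu₁, hu₁v⟩ := Flat.generalizingMap (fiberMap f g (pullback.snd f g w)) hsp'
  have h1 : (pullback.snd f g).fiberι _ u₁ ⤳ w := by
    have := hu₁.map ((pullback.snd f g).fiberι _).continuous
    rwa [hu] at this
  refine ⟨_, h1, fiberι_mem _ _ u₁, ?_⟩
  have h3 : f.fiberι _ (fiberMap f g _ u₁) =
      pullback.fst f g ((pullback.snd f g).fiberι _ u₁) := by
    rw [← Scheme.Hom.comp_apply, fiberMap_fiberι, Scheme.Hom.comp_apply]
  rw [← hv₁, ← hu₁v, h3]

theorem exists_generization_snd (w : ↥(pullback f g))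
    (y₁ : Y') (hsp : y₁ ⤳ pullback.snd f g w) (hy₁ : g y₁ = g (pullback.snd f g w)) :
    ∃ w₁ : ↥(pullback f g), w₁ ⤳ w ∧ pullback.fst f g w₁ = pullback.fst f g w ∧
      pullback.snd f g w₁ = y₁ := by
  have e1 : (pullbackSymmetry f g).hom ≫ pullback.fst g f = pullback.snd f g :=
    pullbackSymmetry_hom_comp_fst f g
  have e2 : (pullbackSymmetry f g).hom ≫ pullback.snd g f = pullback.fst f g :=
    pullbackSymmetry_hom_comp_snd f g
  have e1' : ∀ a, pullback.fst g f ((pullbackSymmetry f g).hom a) = pullback.snd f g a := by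
    intro a; rw [← Scheme.Hom.comp_apply, e1]
  have e2' : ∀ a, pullback.snd g f ((pullbackSymmetry f g).hom a) = pullback.fst f g a := by
    intro a; rw [← Scheme.Hom.comp_apply, e2]
  obtain ⟨v₁, hv₁, hv₁s, hv₁f⟩ := exists_generization_fst g f ((pullbackSymmetry f g).hom w) y₁
    (by rw [e1']; exact hsp) (by rw [e1']; exact hy₁)
  obtain ⟨w₁, hw₁⟩ : ∃ w₁, (pullbackSymmetry f g).hom w₁ = v₁ :=
    ⟨(pullbackSymmetry f g).inv v₁, by rw [← Scheme.Hom.comp_apply, Iso.inv_hom_id]; rfl⟩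
  refine ⟨w₁, ?_, ?_, ?_⟩
  · have := hv₁.map (pullbackSymmetry f g).inv.continuous
    rw [← hw₁, ← Scheme.Hom.comp_apply, ← Scheme.Hom.comp_apply, Iso.hom_inv_id] at this
    exact this
  · rw [← e2', hw₁, hv₁s, e2']
  · rw [← e1', hw₁, hv₁f]

end GEN

section MAIN2

theorem isMax_genericPoint_of_mem_irreducibleComponents {T : Type*} [TopologicalSpace T]
    [QuasiSober T] [T0Space T] (Z : Set T) (hZ : Z ∈ irreducibleComponents T) (ξ : T)
    (hξ : IsGenericPoint ξ Z) (ξ₁ : T) (h : ξ₁ ⤳ ξ) : ξ₁ = ξ := by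
  have h1 : Z ≤ closure {ξ₁} := by
    rw [← hξ.def]
    exact specializes_iff_closure_subset.mp h
  have h2 : closure {ξ₁} ≤ Z := hZ.2 isIrreducible_singleton.closure h1
  have h3 : IsGenericPoint ξ₁ Z := le_antisymm h2 h1
  exact h3.eq hξ

theorem S4672_main {k : Type u} [Field k] {X Y : Scheme.{u}}
    (f : X ⟶ Spec (CommRingCat.of k)) (g : Y ⟶ Spec (CommRingCat.of k))
    (W : Set ↥(pullback f g)) :
    W ∈ irreducibleComponents ↥(pullback f g) ↔
      ∃ X' ∈ irreducibleComponents ↥X, ∃ Y' ∈ irreducibleComponents ↥Y,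
        Maximal (fun V : Set ↥(pullback f g) => IsIrreducible V ∧
          V ⊆ ⇑(pullback.fst f g) ⁻¹' X' ∩ ⇑(pullback.snd f g) ⁻¹' Y') W := by
  haveI : Flat f := flat_to_field f
  haveI : Flat g := flat_to_field g
  have hsub : ∀ a b : ↥(Spec (CommRingCat.of k)), a = b :=
    fun a b => Subsingleton.elim (α := PrimeSpectrum k) a b
  constructor
  · intro hW
    obtain ⟨ω, hωW, hωmax⟩ := exists_max_of_irreducibleComponent W hW
    have hξ : ∀ ξ₁ : X, ξ₁ ⤳ pullback.fst f g ω → ξ₁ = pullback.fst f g ω := by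
      intro ξ₁ h
      obtain ⟨ω', hω', hω'ξ⟩ := Flat.generalizingMap (pullback.fst f g) h
      rw [← hω'ξ, hωmax ω' hω']
    have hη : ∀ η₁ : Y, η₁ ⤳ pullback.snd f g ω → η₁ = pullback.snd f g ω := by
      intro η₁ h
      obtain ⟨ω', hω', hω'η⟩ := Flat.generalizingMap (pullback.snd f g) h
      rw [← hω'η, hωmax ω' hω']
    refine ⟨closure {pullback.fst f g ω},
      closure_mem_irreducibleComponents_of_isMax X _ (isMax_of_forall _ hξ),
      closure {pullback.snd f g ω},
      closure_mem_irreducibleComponents_of_isMax Y _ (isMax_of_forall _ hη), ⟨hW.1, ?_⟩, ?_⟩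
    · intro a ha
      rw [← hωW] at ha
      have hsp : ω ⤳ a := specializes_iff_mem_closure.mpr ha
      exact ⟨specializes_iff_mem_closure.mp (hsp.map (pullback.fst f g).continuous),
        specializes_iff_mem_closure.mp (hsp.map (pullback.snd f g).continuous)⟩
    · intro V hV hWV
      exact hW.2 hV.1 hWV
  · rintro ⟨X', hX', Y', hY', hmax⟩
    have hX'cl : IsClosed X' := isClosed_of_mem_irreducibleComponents X' hX'
    have hY'cl : IsClosed Y' := isClosed_of_mem_irreducibleComponents Y' hY'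
    have hScl : IsClosed (⇑(pullback.fst f g) ⁻¹' X' ∩ ⇑(pullback.snd f g) ⁻¹' Y') :=
      (hX'cl.preimage (pullback.fst f g).continuous).inter
        (hY'cl.preimage (pullback.snd f g).continuous)
    have hWirr : IsIrreducible W := hmax.1.1
    have hWS := hmax.1.2
    have hWcl : IsClosed W := by
      have h1 : closure W ≤ W := hmax.2 ⟨hWirr.closure, hScl.closure_subset_iff.mpr hWS⟩
        subset_closure
      exact isClosed_of_closure_subset h1
    have hgenW : IsGenericPoint hWirr.genericPoint W := hWirr.isGenericPoint_genericPoint hWcl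
    obtain ⟨ω, hω⟩ : ∃ ω, ω = hWirr.genericPoint := ⟨_, rfl⟩
    rw [← hω] at hgenW
    have hgenX : IsGenericPoint hX'.1.genericPoint X' := hX'.1.isGenericPoint_genericPoint hX'cl
    have hgenY : IsGenericPoint hY'.1.genericPoint Y' := hY'.1.isGenericPoint_genericPoint hY'cl
    obtain ⟨ξ, hξ⟩ : ∃ ξ, ξ = hX'.1.genericPoint := ⟨_, rfl⟩
    obtain ⟨η, hη⟩ : ∃ η, η = hY'.1.genericPoint := ⟨_, rfl⟩
    rw [← hξ] at hgenX
    rw [← hη] at hgenY
    have hωS := hWS hgenW.mem
    -- points of `S` specializing to `ω` are equal to `ω`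
    have hωmaxS : ∀ ω₁ : ↥(pullback f g), ω₁ ⤳ ω → pullback.fst f g ω₁ ∈ X' →
        pullback.snd f g ω₁ ∈ Y' → ω₁ = ω := by
      intro ω₁ hsp h1 h2
      have h3 : W ≤ closure {ω₁} := by
        rw [← hgenW.def]
        exact specializes_iff_closure_subset.mp hsp
      have h4 : closure {ω₁} ≤ W := by
        refine hmax.2 ⟨isIrreducible_singleton.closure, ?_⟩ h3
        refine hScl.closure_subset_iff.mpr ?_
        rintro _ rfl
        exact ⟨h1, h2⟩
      have h5 : IsGenericPoint ω₁ W := le_antisymm h4 h3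
      exact h5.eq hgenW
    have hpω : pullback.fst f g ω = ξ := by
      have hsp : ξ ⤳ pullback.fst f g ω := by
        rw [specializes_iff_mem_closure, hgenX.def]
        exact hωS.1
      obtain ⟨ω₁, hω₁, hω₁s, hω₁f⟩ := exists_generization_fst f g ω ξ hsp (hsub _ _)
      have := hωmaxS ω₁ hω₁ (by rw [hω₁f]; exact hgenX.mem) (by rw [hω₁s]; exact hωS.2)
      rw [← hω₁f, this]
    have hqω : pullback.snd f g ω = η := by
      have hsp : η ⤳ pullback.snd f g ω := by
        rw [specializes_iff_mem_closure, hgenY.def]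
        exact hωS.2
      obtain ⟨ω₁, hω₁, hω₁f, hω₁s⟩ := exists_generization_snd f g ω η hsp (hsub _ _)
      have := hωmaxS ω₁ hω₁ (by rw [hω₁f]; exact hωS.1) (by rw [hω₁s]; exact hgenY.mem)
      rw [← hω₁s, this]
    refine ⟨hWirr, ?_⟩
    intro V hV hWV
    have hVcl : IsIrreducible (closure V) := hV.closure
    have hgenV : IsGenericPoint hVcl.genericPoint (closure V) :=
      hVcl.isGenericPoint_genericPoint isClosed_closure
    obtain ⟨v, hv⟩ : ∃ v, v = hVcl.genericPoint := ⟨_, rfl⟩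
    rw [← hv] at hgenV
    have hvω : v ⤳ ω := by
      rw [specializes_iff_mem_closure, hgenV.def]
      exact subset_closure (hWV hgenW.mem)
    have h1 : pullback.fst f g v = ξ := by
      have := hvω.map (pullback.fst f g).continuous
      rw [hpω] at this
      exact isMax_genericPoint_of_mem_irreducibleComponents X' hX' ξ hgenX _ this
    have h2 : pullback.snd f g v = η := by
      have := hvω.map (pullback.snd f g).continuous
      rw [hqω] at this
      exact isMax_genericPoint_of_mem_irreducibleComponents Y' hY' η hgenY _ this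
    have h3 := hωmaxS v hvω (by rw [h1]; exact hgenX.mem) (by rw [h2]; exact hgenY.mem)
    rw [h3] at hgenV
    have h4 : closure V = W := by rw [← hgenV.def, hgenW.def]
    rw [← h4]
    exact subset_closure

end MAIN2
end Groth.Agent.Lib.Helper4.GenFib1
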