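import Mathlib
import Groth.Prelude.Def_Cyc
import Groth.Agent.Lib.Helper4.JacDim1
import Groth.Prelude.Def_EGA43
import Groth.Agent.Lib.Helper4.FibreStalkDim1
import Groth.Agent.Lib.Helper4.DimFT1
import Groth.Agent.Lib.Helper4.DimFT2
import Groth.Agent.Lib.Helper4.Chev8
import Groth.Agent.Lib.Helper4.FibDim7
import Groth.Agent.Lib.Helper4.EffCartierDim1
import Groth.Agent.Lib.Helper4.JacDim4
import Groth.Agent.Lib.Helper4.Chev9
import Groth.Agent.Lib.Helper4.Chev10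
import Groth.Agent.Lib.Helper4.Chev11
import Groth.Agent.Lib.Helper4.Equi1
import Groth.Agent.Lib.Helper4.Equi2
import Groth.Agent.Lib.Helper4.Equi3
import Groth.Agent.Lib.Helper4.Equi4
import Groth.Agent.Lib.Helper4.Equi5
import Groth.Agent.Lib.Helper4.Equi6
import Groth.Agent.Lib.Helper4.Equi7
import Groth.Agent.Lib.Helper4.Aff1
import Groth.Agent.Lib.Helper4.Aff2
import Groth.Agent.Lib.Helper4.Equi10
import Groth.Agent.Lib.Helper4.Val1
import Groth.Agent.Lib.Helper4.BaseChg1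
import Groth.Agent.Lib.Helper4.UnivOpen1
import Groth.Agent.Lib.Helper4.FibClosure1
import Groth.Agent.Lib.Helper4.OpenNoeth1
import Groth.Agent.Lib.Helper4.SecComp1
import Groth.Agent.Lib.Helper4.SecComp2
import Groth.Agent.Lib.Helper4.UnivOpen2
import Groth.Agent.Lib.Helper4.UnivOpenAt
import Groth.Agent.Lib.Helper4.RegularLocalCopy
import Groth.Agent.Lib.Helper4.ZMTNormalPt1
import Groth.Agent.Lib.Helper4.LocFinComp1
import Groth.Agent.Lib.Helper4.SecComp3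
import Groth.Agent.Lib.Helper4.PropDim1
import Groth.Prelude.Def_FDesc
import Groth.Prelude.Def_MoreMor
import Groth.Agent.Lib.Helper4.ChevCrit1
import Groth.Agent.Lib.Helper4.ChevCrit2
import Groth.Agent.Lib.Helper4.ChevCrit3
import Groth.Agent.Lib.Helper4.IrrCompDomain1
import Groth.Agent.Lib.Helper4.ChevCrit4
import Groth.Agent.Lib.Helper4.ChevCrit5
import Groth.Agent.Lib.Helper4.ChevCrit6
import Groth.Agent.Lib.Helper4.ChevCrit7
import Groth.Agent.Lib.Helper4.DedekindOpen1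
import Groth.Agent.Lib.Helper4.UnivOpenT1
import Groth.Agent.Lib.Helper4.DvrFlat1
import Groth.Agent.Lib.Helper4.SatChain1
import Groth.Agent.Lib.Helper4.FlatDimK1
import Groth.Agent.Lib.Helper4.BaseChgMax1
import Groth.Agent.Lib.Helper4.ProdDim1
import Groth.Agent.Lib.Helper4.FibDimBC1
import Groth.Agent.Lib.Helper4.FibMap1
import Groth.Agent.Lib.Helper4.GenFib1

/-!
# flat base change of equidimensionality at a point (S2594) (helper4)
-/

set_option backward.isDefEq.respectTransparency.types false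
set_option synthInstance.maxHeartbeats 400000
set_option autoImplicit false
set_option linter.unusedSectionVars false
set_option linter.style.haveILetI false
set_option linter.unusedSimpArgs false
universe u v w
open CategoryTheory CategoryTheory.Limits AlgebraicGeometry TopologicalSpace IsLocalRing Opposite
open Cardinal AffineSpace MvPolynomial
open Groth.Agent.Lib.Helper4.DimIneq1 Groth.Agent.Lib.Helper4.DimFT2 Groth.Agent.Lib.Helper4.Catenary1
open Groth.Agent.Lib.Helper4.DimEq1 Groth.Agent.Lib.Helper4.DimIneq2 Groth.Agent.Lib.Helper4.DimEq2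
open Groth.Agent.Lib.Helper4.DimIneq3 Groth.Agent.Lib.Helper4.DimIneq4
open Groth.Agent.Lib.Helper4.NormFibre2 Groth.Agent.Lib.Helper4.RadBir3 Groth.Agent.Lib.Helper4.DimFT3
open Groth.Agent.Lib.Helper4.FibDim1 Groth.Agent.Lib.Helper4.FibDim2 Groth.Agent.Lib.Helper4.LocUC1
open Groth.Agent.Lib.Helper4.FibDim3 Groth.Agent.Lib.Helper4.FibDim4 Groth.Agent.Lib.Helper4.FibDim5
open Groth.Agent.Lib.Helper4.FibDim6 Groth.Agent.Lib.Helper4.FibDim7 Groth.Agent.Lib.Helper4.JacDim1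
open Groth.Agent.Lib.Helper4.DimFT1
open Groth.Agent.Lib.Helper4.Chev2 Groth.Agent.Lib.Helper4.Chev5 Groth.Agent.Lib.Helper4.Chev6 Groth.Agent.Lib.Helper4.Chev8
open Groth.Agent.Lib.Helper4.JacDim4 Groth.Agent.Lib.Helper4.EffCartierDim1
open Groth.Agent.Lib.Helper4.Chev9 Groth.Agent.Lib.Helper4.Chev4
open Groth.Agent.Lib.Helper4.Chev10 Groth.Agent.Lib.Helper4.Chev11 Groth.Agent.Lib.Helper4.Chev3 Groth.Agent.Lib.Helper4.Equi1 Groth.Agent.Lib.Helper4.Equi2 Groth.Agent.Lib.Helper4.OpenAt1 Groth.Agent.Lib.Helper4.Equi3 Groth.Agent.Lib.Helper4.Equi4 Groth.Agent.Lib.Helper4.Equi5 Groth.Agent.Lib.Helper4.Equi6 Groth.Agent.Lib.Helper4.Equi7 Groth.Agent.Lib.Helper4.Aff1 Groth.Agent.Lib.Helper4.Aff2 Groth.Agent.Lib.Helper4.Equi10 Groth.Agent.Lib.Helper4.Val1 Groth.Agent.Lib.Helper4.BaseChg1 Groth.Agent.Lib.Helper4.UnivOpen1 Groth.Agent.Lib.Helper4.FibClosure1 Groth.Agent.Lib.Helper4.OpenNoeth1 Groth.Agent.Lib.Helper4.SecComp1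 Groth.Agent.Lib.Helper4.SecComp2
open Groth.Agent.Lib.Helper4.SecComp3 Groth.Agent.Lib.Helper4.PropDim1 Groth.Agent.Lib.Helper4.ZMTNormalPt1 Groth.Agent.Lib.Helper4.UO Groth.Agent.Lib.Helper4.UOp
open Groth.Agent.Lib.Helper4.ChevCrit1 Groth.Agent.Lib.Helper4.ChevCrit2 Groth.Agent.Lib.Helper4.ChevCrit3
open Groth.Agent.Lib.Helper4.IrrCompDomain1 Groth.Agent.Lib.Helper4.RadBir1
open Groth.Agent.Lib.Helper4.ChevCrit4
open Groth.Agent.Lib.Helper4.ChevCrit5
open Groth.Agent.Lib.Helper4.DedekindOpen1 Groth.Agent.Lib.Helper4.UnivOpenT1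
open Groth.Agent.Lib.Helper4.ChevCrit7
open Groth.Agent.Lib.Helper4.DvrFlat1 Groth.Agent.Lib.Helper4.FlatDimK1 Groth.Agent.Lib.Helper4.BaseChgMax1 Groth.Agent.Lib.Helper4.ProdDim1 Groth.Agent.Lib.Helper4.FibDimBC1 Groth.Agent.Lib.Helper4.FibMap1 Groth.Agent.Lib.Helper4.GenFib1

namespace Groth.Agent.Lib.Helper4.EquiBC1
theorem S2594_main {X Y Y' : Scheme.{u}} (f : X ⟶ Y) [LocallyOfFiniteType f] (g : Y' ⟶ Y) [Flat g]
    [IsLocallyNoetherian Y'] (x : X) (h : EGA43.IsEquidimAt f x) (x' : ↥(pullback f g))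
    (hx' : (pullback.fst f g).base x' = x) : EGA43.IsEquidimAt (pullback.snd f g) x' := by
  obtain ⟨e, U, hxU, H1, H2, -⟩ := isEquidimAt_facts' f x h
  have hx'' : pullback.fst f g x' = x := hx'
  have hcond : ∀ a : ↥(pullback f g), f (pullback.fst f g a) = g (pullback.snd f g a) := by
    intro a
    rw [← Scheme.Hom.comp_apply, ← Scheme.Hom.comp_apply, pullback.condition]
  obtain ⟨W₀, hW₀, hyW₀, -⟩ := exists_isAffineOpen_mem_and_subset (U := (⊤ : Y'.Opens))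
    (x := pullback.snd f g x') trivial
  haveI : IsNoetherianRing Γ(Y', W₀) := IsLocallyNoetherian.component_noetherian ⟨W₀, hW₀⟩
  haveI : NoetherianSpace ↥(W₀ : Scheme.{u}) := noetherianSpace_of_isAffineOpen W₀ hW₀
  obtain ⟨U₁, hU₁o, hyU₁, hU₁⟩ := exists_nhd_max_gen (W₀ : Scheme.{u}) (fun w => W₀.ι w)
    W₀.ι.continuous (pullback.snd f g x')
  apply isEquidimAt_of_facts_nn (pullback.snd f g) x' e
    ((pullback.fst f g) ⁻¹ᵁ U ⊓ (pullback.snd f g) ⁻¹ᵁ (W₀ ⊓ ⟨U₁, hU₁o⟩))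
  · refine ⟨?_, hyW₀, hyU₁⟩
    change pullback.fst f g x' ∈ U
    rw [hx'']
    exact hxU
  · rintro ξ' ⟨hξ'U, hξ'W₀, hξ'U₁⟩ hξ'max
    have hξmax : ∀ ξ₁ : X, ξ₁ ⤳ pullback.fst f g ξ' → ξ₁ = pullback.fst f g ξ' := by
      intro ξ₁ hsp
      obtain ⟨ω', hω', hω'ξ⟩ := Flat.generalizingMap (pullback.fst f g) hsp
      rw [← hω'ξ, hξ'max ω' hω']
    obtain ⟨hcomp, -⟩ := H1 _ hξ'U hξmax
    have hηmax : ∀ η₁ : Y, η₁ ⤳ f (pullback.fst f g ξ') → η₁ = f (pullback.fst f g ξ') :=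
      fun η₁ hsp => isMax_genericPoint_of_mem_irreducibleComponents _ hcomp _
        isGenericPoint_closure η₁ hsp
    have hη'max : ∀ η'₁ : Y', η'₁ ⤳ pullback.snd f g ξ' → η'₁ = pullback.snd f g ξ' := by
      intro η'₁ hsp
      have h1 : g η'₁ ⤳ g (pullback.snd f g ξ') := hsp.map g.continuous
      rw [← hcond] at h1
      have h2 := hηmax _ h1
      rw [hcond] at h2
      obtain ⟨ξ'₁, hξ'₁, -, hξ'₁s⟩ := exists_generization_snd f g ξ' η'₁ hsp h2
      rw [← hξ'₁s, hξ'max ξ'₁ hξ'₁]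
    refine ⟨closure_mem_irreducibleComponents_of_isMax Y' _ (isMax_of_forall _ hη'max), ?_⟩
    obtain ⟨σ, hσw, hσy, -⟩ := hU₁ ⟨pullback.snd f g ξ', hξ'W₀⟩ hξ'U₁
    have h3 : W₀.ι σ ⤳ pullback.snd f g ξ' := hσw.map W₀.ι.continuous
    rw [hη'max _ h3] at hσy
    exact hσy
  · rintro z' ⟨hz'U, -⟩ hz'max
    have hmax' : ∀ w' : ↥(pullback f g), w' ⤳ z' →
        pullback.snd f g w' = pullback.snd f g z' → w' = z' := fun w' hsp hw' => hz'max w' hw' hsp
    rw [tr_snd_eq_of_max f g z' hmax']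
    apply H2 _ hz'U
    intro z₁ hz₁ hsp
    exact fst_max_of_max f g z' hmax' z₁ hsp hz₁

end Groth.Agent.Lib.Helper4.EquiBC1
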