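import Mathlib
import Groth.Prelude.Def_Cyc
import Groth.Agent.Lib.Helper4.JacDim1
import Groth.Prelude.Def_EGA43
import Groth.Agent.Lib.Helper4.FibreStalkDim1
import Groth.Agent.Lib.Helper4.DimFT1
import Groth.Agent.Lib.Helper4.DimFT2
import Groth.Agent.Lib.Helper4.Chev8
import Groth.Agent.Lib.Helper4.FibDim7
import Groth.Agent.Lib.Helper4.EffCartierDim1
import Groth.Agent.Lib.Helper4.JacDim4
import Groth.Agent.Lib.Helper4.Chev9
import Groth.Agent.Lib.Helper4.Chev10
import Groth.Agent.Lib.Helper4.Chev11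
import Groth.Agent.Lib.Helper4.Equi1
import Groth.Agent.Lib.Helper4.Equi2
import Groth.Agent.Lib.Helper4.Equi3
import Groth.Agent.Lib.Helper4.Equi4
import Groth.Agent.Lib.Helper4.Equi5
import Groth.Agent.Lib.Helper4.Equi6
import Groth.Agent.Lib.Helper4.Equi7
import Groth.Agent.Lib.Helper4.Aff1
import Groth.Agent.Lib.Helper4.Aff2
import Groth.Agent.Lib.Helper4.Equi10
import Groth.Agent.Lib.Helper4.Val1
import Groth.Agent.Lib.Helper4.BaseChg1
import Groth.Agent.Lib.Helper4.UnivOpen1
import Groth.Agent.Lib.Helper4.FibClosure1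
import Groth.Agent.Lib.Helper4.OpenNoeth1
import Groth.Agent.Lib.Helper4.SecComp1
import Groth.Agent.Lib.Helper4.SecComp2
import Groth.Agent.Lib.Helper4.UnivOpen2
import Groth.Agent.Lib.Helper4.UnivOpenAt
import Groth.Agent.Lib.Helper4.RegularLocalCopy
import Groth.Agent.Lib.Helper4.ZMTNormalPt1
import Groth.Agent.Lib.Helper4.LocFinComp1
import Groth.Agent.Lib.Helper4.SecComp3
import Groth.Agent.Lib.Helper4.PropDim1
import Groth.Prelude.Def_FDesc
import Groth.Prelude.Def_MoreMor
import Groth.Agent.Lib.Helper4.ChevCrit1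
import Groth.Agent.Lib.Helper4.ChevCrit2
import Groth.Agent.Lib.Helper4.ChevCrit3
import Groth.Agent.Lib.Helper4.IrrCompDomain1
import Groth.Agent.Lib.Helper4.ChevCrit4
import Groth.Agent.Lib.Helper4.ChevCrit5
import Groth.Agent.Lib.Helper4.ChevCrit6
import Groth.Agent.Lib.Helper4.ChevCrit7
import Groth.Agent.Lib.Helper4.DedekindOpen1
import Groth.Agent.Lib.Helper4.UnivOpenT1
import Groth.Agent.Lib.Helper4.DvrFlat1
import Groth.Agent.Lib.Helper4.SatChain1
import Groth.Agent.Lib.Helper4.FlatDimK1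
import Groth.Agent.Lib.Helper4.BaseChgMax1
import Groth.Agent.Lib.Helper4.ProdDim1
import Groth.Agent.Lib.Helper4.FibDimBC1
import Groth.Agent.Lib.Helper4.FibMap1
import Groth.Agent.Lib.Helper4.GenFib1

/-!
# generic equidimensionality of fibres (S4781); constructible sets and generic points (helper4)
-/

set_option backward.isDefEq.respectTransparency.types false
set_option synthInstance.maxHeartbeats 400000
set_option autoImplicit false
set_option linter.unusedSectionVars false
set_option linter.style.haveILetI false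
set_option linter.unusedSimpArgs false
universe u v w
open CategoryTheory CategoryTheory.Limits AlgebraicGeometry TopologicalSpace IsLocalRing Opposite
open Cardinal AffineSpace MvPolynomial
open Groth.Agent.Lib.Helper4.DimIneq1 Groth.Agent.Lib.Helper4.DimFT2 Groth.Agent.Lib.Helper4.Catenary1
open Groth.Agent.Lib.Helper4.DimEq1 Groth.Agent.Lib.Helper4.DimIneq2 Groth.Agent.Lib.Helper4.DimEq2
open Groth.Agent.Lib.Helper4.DimIneq3 Groth.Agent.Lib.Helper4.DimIneq4
open Groth.Agent.Lib.Helper4.NormFibre2 Groth.Agent.Lib.Helper4.RadBir3 Groth.Agent.Lib.Helper4.DimFT3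
open Groth.Agent.Lib.Helper4.FibDim1 Groth.Agent.Lib.Helper4.FibDim2 Groth.Agent.Lib.Helper4.LocUC1
open Groth.Agent.Lib.Helper4.FibDim3 Groth.Agent.Lib.Helper4.FibDim4 Groth.Agent.Lib.Helper4.FibDim5
open Groth.Agent.Lib.Helper4.FibDim6 Groth.Agent.Lib.Helper4.FibDim7 Groth.Agent.Lib.Helper4.JacDim1
open Groth.Agent.Lib.Helper4.DimFT1
open Groth.Agent.Lib.Helper4.Chev2 Groth.Agent.Lib.Helper4.Chev5 Groth.Agent.Lib.Helper4.Chev6 Groth.Agent.Lib.Helper4.Chev8
open Groth.Agent.Lib.Helper4.JacDim4 Groth.Agent.Lib.Helper4.EffCartierDim1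
open Groth.Agent.Lib.Helper4.Chev9 Groth.Agent.Lib.Helper4.Chev4
open Groth.Agent.Lib.Helper4.Chev10 Groth.Agent.Lib.Helper4.Chev11 Groth.Agent.Lib.Helper4.Chev3 Groth.Agent.Lib.Helper4.Equi1 Groth.Agent.Lib.Helper4.Equi2 Groth.Agent.Lib.Helper4.OpenAt1 Groth.Agent.Lib.Helper4.Equi3 Groth.Agent.Lib.Helper4.Equi4 Groth.Agent.Lib.Helper4.Equi5 Groth.Agent.Lib.Helper4.Equi6 Groth.Agent.Lib.Helper4.Equi7 Groth.Agent.Lib.Helper4.Aff1 Groth.Agent.Lib.Helper4.Aff2 Groth.Agent.Lib.Helper4.Equi10 Groth.Agent.Lib.Helper4.Val1 Groth.Agent.Lib.Helper4.BaseChg1 Groth.Agent.Lib.Helper4.UnivOpen1 Groth.Agent.Lib.Helper4.FibClosure1 Groth.Agent.Lib.Helper4.OpenNoeth1 Groth.Agent.Lib.Helper4.SecComp1 Groth.Agent.Lib.Helper4.SecComp2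
open Groth.Agent.Lib.Helper4.SecComp3 Groth.Agent.Lib.Helper4.PropDim1 Groth.Agent.Lib.Helper4.ZMTNormalPt1 Groth.Agent.Lib.Helper4.UO Groth.Agent.Lib.Helper4.UOp
open Groth.Agent.Lib.Helper4.ChevCrit1 Groth.Agent.Lib.Helper4.ChevCrit2 Groth.Agent.Lib.Helper4.ChevCrit3
open Groth.Agent.Lib.Helper4.IrrCompDomain1 Groth.Agent.Lib.Helper4.RadBir1
open Groth.Agent.Lib.Helper4.ChevCrit4
open Groth.Agent.Lib.Helper4.ChevCrit5
open Groth.Agent.Lib.Helper4.DedekindOpen1 Groth.Agent.Lib.Helper4.UnivOpenT1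
open Groth.Agent.Lib.Helper4.ChevCrit7
open Groth.Agent.Lib.Helper4.DvrFlat1 Groth.Agent.Lib.Helper4.FlatDimK1 Groth.Agent.Lib.Helper4.BaseChgMax1 Groth.Agent.Lib.Helper4.ProdDim1 Groth.Agent.Lib.Helper4.FibDimBC1 Groth.Agent.Lib.Helper4.FibMap1 Groth.Agent.Lib.Helper4.GenFib1

namespace Groth.Agent.Lib.Helper4.GenEqui1
open Topology

section TOPC

theorem nhds_or_compl_nhds_of_isConstructible {T : Type*} [TopologicalSpace T] (η : T)
    (hη : ∀ U : Set T, IsOpen U → U.Nonempty → η ∈ U) {s : Set T} (hs : IsConstructible s) :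
    s ∈ 𝓝 η ∨ sᶜ ∈ 𝓝 η := by
  induction hs using IsConstructible.empty_union_induction with
  | open_retrocompact U hUopen _ =>
    by_cases h : η ∈ U
    · exact Or.inl (hUopen.mem_nhds h)
    · right
      have : U = ∅ := by
        by_contra hne
        exact h (hη U hUopen (Set.nonempty_iff_ne_empty.mpr hne))
      rw [this, Set.compl_empty]
      exact Filter.univ_mem
  | union s _ t _ hs' ht' =>
    rcases hs' with h | h
    · exact Or.inl (Filter.mem_of_superset h Set.subset_union_left)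
    · rcases ht' with h' | h'
      · exact Or.inl (Filter.mem_of_superset h' Set.subset_union_right)
      · right
        rw [Set.compl_union]
        exact Filter.inter_mem h h'
  | compl s _ hs' =>
    rcases hs' with h | h
    · right
      rwa [compl_compl]
    · exact Or.inl h

theorem exists_open_disjoint_of_isLocallyConstructible {T : Type*} [TopologicalSpace T] (η : T)
    (hη : ∀ U : Set T, IsOpen U → U.Nonempty → η ∈ U) {E : Set T}
    (hE : IsLocallyConstructible E) (hηE : η ∉ E) :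
    ∃ U : Set T, IsOpen U ∧ η ∈ U ∧ ∀ t ∈ U, t ∉ E := by
  obtain ⟨U, hUn, hUo, hcons⟩ := hE η
  have hηU : η ∈ U := mem_of_mem_nhds hUn
  have hgen : ∀ V : Set ↥U, IsOpen V → V.Nonempty → (⟨η, hηU⟩ : ↥U) ∈ V := by
    intro V hV hne
    have h1 : IsOpen (Subtype.val '' V) := hUo.isOpenMap_subtype_val V hV
    have h2 := hη _ h1 (hne.image _)
    obtain ⟨a, ha, hae⟩ := h2
    have : a = ⟨η, hηU⟩ := Subtype.ext hae
    rw [← this]
    exact ha
  rcases nhds_or_compl_nhds_of_isConstructible (⟨η, hηU⟩ : ↥U) hgen hcons with h | h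
  · exact absurd (mem_of_mem_nhds h) hηE
  · obtain ⟨V, hVsub, hVo, hηV⟩ := mem_nhds_iff.mp h
    refine ⟨Subtype.val '' V, hUo.isOpenMap_subtype_val V hVo, ⟨_, hηV, rfl⟩, ?_⟩
    rintro _ ⟨a, ha, rfl⟩ haE
    exact hVsub ha haE

end TOPC

section MAIN
variable {X S : Scheme.{u}} (f : X ⟶ S) [LocallyOfFiniteType f]

/-- irreducible components of a fibre (as a subspace): the dimension is the residual transcendence
degree at a point maximal in the fibre -/
theorem exists_max_of_irrComp_preimage [IsLocallyNoetherian S] (s : S) (T : Set ↥(⇑f ⁻¹' {s}))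
    (hT : T ∈ irreducibleComponents ↥(⇑f ⁻¹' {s})) :
    ∃ z : X, f z = s ∧ (∀ z' : X, f z' = f z → z' ⤳ z → z' = z) ∧
      topologicalKrullDim ↥T = ((tr f z : ℕ) : WithBot ℕ∞) := by
  haveI : QuasiSober ↥(⇑f ⁻¹' {s}) := (f.fiberHomeo s).symm.isClosedEmbedding.quasiSober
  obtain ⟨ω, hω, hmax⟩ := exists_max_of_irreducibleComponent T hT
  refine ⟨ω.1, ω.2, ?_, ?_⟩
  · intro z' hz' hsp
    have hz'' : z' ∈ ⇑f ⁻¹' {s} := hz'.trans ω.2
    have h1 : (⟨z', hz''⟩ : ↥(⇑f ⁻¹' {s})) ⤳ ω := by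
      rw [← Topology.IsInducing.subtypeVal.specializes_iff]
      exact hsp
    exact congrArg Subtype.val (hmax _ h1)
  · have himg : Subtype.val '' T = closure ({ω.1} : Set X) ∩ ⇑f ⁻¹' {s} := by
      rw [← hω, Topology.IsInducing.subtypeVal.closure_eq_preimage_closure_image,
        Set.image_singleton, Subtype.image_preimage_coe]
      exact Set.inter_comm _ _
    have e1 : ↥T ≃ₜ ↥(Subtype.val '' T) := Topology.IsEmbedding.subtypeVal.homeomorphImage T
    rw [e1.isHomeomorph.topologicalKrullDim_eq, himg]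
    exact dim_closure_inter_fiber f ω.1 s ω.2

end MAIN

theorem S4781_main {X S : Scheme.{u}} (f : X ⟶ S)
    [IsNoetherian S] [IrreducibleSpace S] [IrreducibleSpace X] [IsDominant f]
    [LocallyOfFiniteType f] [QuasiCompact f] :
    ∃ U : S.Opens, genericPoint S ∈ U ∧ ∀ s ∈ U, ∀ T ∈ irreducibleComponents ↥(⇑f ⁻¹' {s}),
      topologicalKrullDim ↥T = topologicalKrullDim ↥(⇑f ⁻¹' {genericPoint S}) := by
  haveI : LocallyOfFinitePresentation f :=
    LocallyOfFinitePresentation.iff_locallyOfFiniteType.2 inferInstance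
  haveI : IsLocallyNoetherian X := LocallyOfFiniteType.isLocallyNoetherian f
  haveI : CompactSpace X := QuasiCompact.compactSpace_of_compactSpace f
  haveI : IsNoetherian X := {}
  have hξη : f (genericPoint X) = genericPoint S := map_genericPoint_of_isDominant f
  obtain ⟨e, he⟩ : ∃ e, e = tr f (genericPoint X) := ⟨_, rfl⟩
  have hgenfib : topologicalKrullDim ↥(⇑f ⁻¹' {genericPoint S}) = (e : WithBot ℕ∞) := by
    have h := dim_closure_inter_fiber f (genericPoint X) (genericPoint S) hξη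
    rw [(genericPoint_spec X).def, Set.univ_inter] at h
    rw [he]
    exact h
  obtain ⟨C, hCdef⟩ : ∃ C : Set X,
      C = {x : X | ((e + 1 : ℕ) : WithBot ℕ∞) ≤ FlatMor.fibreDimAt f x} := ⟨_, rfl⟩
  have hCcl : IsClosed C := by
    rw [hCdef]
    exact isClosed_setOf_le_fibreDimAt f _
  have hCcons : IsConstructible C := by
    have h1 : IsRetrocompact Cᶜ := fun U _ _ => NoetherianSpace.isCompact _
    exact (h1.isConstructible hCcl.isOpen_compl).of_compl
  have hE : IsLocallyConstructible (f '' C) :=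
    f.isLocallyConstructible_image hCcons.isLocallyConstructible
  have hηE : genericPoint S ∉ f '' C := by
    rintro ⟨x, hxC, hxη⟩
    rw [hCdef] at hxC
    have h1 : FlatMor.fibreDimAt f x ≤ (e : WithBot ℕ∞) := by
      apply fibreDimAt_le_of_max_tr_le f x e
      intro z hz _ hzmax
      have h2 : genericPoint X = z :=
        hzmax _ (by rw [hξη, hz, hxη]) (genericPoint_specializes z)
      rw [← h2, he]
    have h3 := le_trans hxC h1
    have h4 : e + 1 ≤ e := by exact_mod_cast h3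
    omega
  obtain ⟨U, hUo, hηU, hUE⟩ := exists_open_disjoint_of_isLocallyConstructible (genericPoint S)
    (fun U hU hne => ((genericPoint_spec S).mem_open_set_iff hU).mpr (by
      rw [Set.univ_inter]; exact hne)) hE hηE
  refine ⟨⟨U, hUo⟩, hηU, ?_⟩
  intro s hs T hT
  obtain ⟨z, hzs, hzmax, hdim⟩ := exists_max_of_irrComp_preimage f s T hT
  rw [hdim, hgenfib]
  have h1 : e ≤ tr f z := by
    rw [he]
    exact tr_le_tr_of_specializes_of_max f z _ (genericPoint_specializes z) hzmax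
  have h2 : tr f z ≤ e := by
    have hzC : z ∉ C := fun hz => hUE s hs ⟨z, hz, hzs⟩
    rw [hCdef] at hzC
    have h3 : FlatMor.fibreDimAt f z < ((e + 1 : ℕ) : WithBot ℕ∞) := not_le.mp hzC
    rw [(max_point_facts f z hzmax).1] at h3
    have : tr f z < e + 1 := by exact_mod_cast h3
    omega
  have h3 : tr f z = e := le_antisymm h2 h1
  rw [h3]

end Groth.Agent.Lib.Helper4.GenEqui1
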