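import Mathlib
import Groth.Prelude.Def_Cyc
import Groth.Agent.Lib.Helper4.JacDim1
import Groth.Prelude.Def_EGA43
import Groth.Agent.Lib.Helper4.FibreStalkDim1
import Groth.Agent.Lib.Helper4.DimFT1
import Groth.Agent.Lib.Helper4.DimFT2
import Groth.Agent.Lib.Helper4.Chev8
import Groth.Agent.Lib.Helper4.FibDim7
import Groth.Agent.Lib.Helper4.EffCartierDim1
import Groth.Agent.Lib.Helper4.JacDim4
import Groth.Agent.Lib.Helper4.Chev9
import Groth.Agent.Lib.Helper4.Chev10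
import Groth.Agent.Lib.Helper4.Chev11
import Groth.Agent.Lib.Helper4.Equi1
import Groth.Agent.Lib.Helper4.Equi2
import Groth.Agent.Lib.Helper4.Equi3
import Groth.Agent.Lib.Helper4.Equi4
import Groth.Agent.Lib.Helper4.Equi5
import Groth.Agent.Lib.Helper4.Equi6
import Groth.Agent.Lib.Helper4.Equi7
import Groth.Agent.Lib.Helper4.Aff1
import Groth.Agent.Lib.Helper4.Aff2
import Groth.Agent.Lib.Helper4.Equi10
import Groth.Agent.Lib.Helper4.Val1
import Groth.Agent.Lib.Helper4.BaseChg1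
import Groth.Agent.Lib.Helper4.UnivOpen1
import Groth.Agent.Lib.Helper4.FibClosure1
import Groth.Agent.Lib.Helper4.OpenNoeth1
import Groth.Agent.Lib.Helper4.SecComp1
import Groth.Agent.Lib.Helper4.SecComp2
import Groth.Agent.Lib.Helper4.UnivOpen2
import Groth.Agent.Lib.Helper4.UnivOpenAt
import Groth.Agent.Lib.Helper4.RegularLocalCopy
import Groth.Agent.Lib.Helper4.ZMTNormalPt1
import Groth.Agent.Lib.Helper4.LocFinComp1
import Groth.Agent.Lib.Helper4.SecComp3
import Groth.Agent.Lib.Helper4.PropDim1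
import Groth.Prelude.Def_FDesc
import Groth.Prelude.Def_MoreMor
import Groth.Agent.Lib.Helper4.ChevCrit1
import Groth.Agent.Lib.Helper4.ChevCrit2
import Groth.Agent.Lib.Helper4.ChevCrit3
import Groth.Agent.Lib.Helper4.IrrCompDomain1
import Groth.Agent.Lib.Helper4.ChevCrit4
import Groth.Agent.Lib.Helper4.ChevCrit5
import Groth.Agent.Lib.Helper4.ChevCrit6
import Groth.Agent.Lib.Helper4.ChevCrit7
import Groth.Agent.Lib.Helper4.DedekindOpen1
import Groth.Agent.Lib.Helper4.UnivOpenT1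
import Groth.Agent.Lib.Helper4.DvrFlat1
import Groth.Agent.Lib.Helper4.SatChain1
import Groth.Agent.Lib.Helper4.FlatDimK1
import Groth.Agent.Lib.Helper4.BaseChgMax1
import Groth.Agent.Lib.Helper4.ProdDim1
import Groth.Agent.Lib.Helper4.FibDimBC1
import Groth.Agent.Lib.Helper4.FibMap1
import Groth.Agent.Lib.Helper4.GenFib1
import Groth.Agent.Lib.Helper4.EquiBC1
import Groth.Agent.Lib.Helper4.GenEqui1

/-!
# fibre dimension over a point with Noetherian local ring (S1553, S1554); flatness of fromSpecStalk (helper4)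
-/

set_option backward.isDefEq.respectTransparency.types false
set_option synthInstance.maxHeartbeats 400000
set_option autoImplicit false
set_option linter.unusedSectionVars false
set_option linter.style.haveILetI false
set_option linter.unusedSimpArgs false
universe u v w
open CategoryTheory CategoryTheory.Limits AlgebraicGeometry TopologicalSpace IsLocalRing Opposite
open Cardinal AffineSpace MvPolynomial
open Groth.Agent.Lib.Helper4.DimIneq1 Groth.Agent.Lib.Helper4.DimFT2 Groth.Agent.Lib.Helper4.Catenary1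
open Groth.Agent.Lib.Helper4.DimEq1 Groth.Agent.Lib.Helper4.DimIneq2 Groth.Agent.Lib.Helper4.DimEq2
open Groth.Agent.Lib.Helper4.DimIneq3 Groth.Agent.Lib.Helper4.DimIneq4
open Groth.Agent.Lib.Helper4.NormFibre2 Groth.Agent.Lib.Helper4.RadBir3 Groth.Agent.Lib.Helper4.DimFT3
open Groth.Agent.Lib.Helper4.FibDim1 Groth.Agent.Lib.Helper4.FibDim2 Groth.Agent.Lib.Helper4.LocUC1
open Groth.Agent.Lib.Helper4.FibDim3 Groth.Agent.Lib.Helper4.FibDim4 Groth.Agent.Lib.Helper4.FibDim5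
open Groth.Agent.Lib.Helper4.FibDim6 Groth.Agent.Lib.Helper4.FibDim7 Groth.Agent.Lib.Helper4.JacDim1
open Groth.Agent.Lib.Helper4.DimFT1
open Groth.Agent.Lib.Helper4.Chev2 Groth.Agent.Lib.Helper4.Chev5 Groth.Agent.Lib.Helper4.Chev6 Groth.Agent.Lib.Helper4.Chev8
open Groth.Agent.Lib.Helper4.JacDim4 Groth.Agent.Lib.Helper4.EffCartierDim1
open Groth.Agent.Lib.Helper4.Chev9 Groth.Agent.Lib.Helper4.Chev4
open Groth.Agent.Lib.Helper4.Chev10 Groth.Agent.Lib.Helper4.Chev11 Groth.Agent.Lib.Helper4.Chev3 Groth.Agent.Lib.Helper4.Equi1 Groth.Agent.Lib.Helper4.Equi2 Groth.Agent.Lib.Helper4.OpenAt1 Groth.Agent.Lib.Helper4.Equi3 Groth.Agent.Lib.Helper4.Equi4 Groth.Agent.Lib.Helper4.Equi5 Groth.Agent.Lib.Helper4.Equi6 Groth.Agent.Lib.Helper4.Equi7 Groth.Agent.Lib.Helper4.Aff1 Groth.Agent.Lib.Helper4.Aff2 Groth.Agent.Lib.Helper4.Equi10 Groth.Agent.Lib.Helper4.Val1 Groth.Agent.Lib.Helper4.BaseChg1 Groth.Agent.Lib.Helper4.UnivOpen1 Groth.Agent.Lib.Helper4.FibClosure1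 Groth.Agent.Lib.Helper4.OpenNoeth1 Groth.Agent.Lib.Helper4.SecComp1 Groth.Agent.Lib.Helper4.SecComp2
open Groth.Agent.Lib.Helper4.SecComp3 Groth.Agent.Lib.Helper4.PropDim1 Groth.Agent.Lib.Helper4.ZMTNormalPt1 Groth.Agent.Lib.Helper4.UO Groth.Agent.Lib.Helper4.UOp
open Groth.Agent.Lib.Helper4.ChevCrit1 Groth.Agent.Lib.Helper4.ChevCrit2 Groth.Agent.Lib.Helper4.ChevCrit3
open Groth.Agent.Lib.Helper4.IrrCompDomain1 Groth.Agent.Lib.Helper4.RadBir1
open Groth.Agent.Lib.Helper4.ChevCrit4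
open Groth.Agent.Lib.Helper4.ChevCrit5
open Groth.Agent.Lib.Helper4.DedekindOpen1 Groth.Agent.Lib.Helper4.UnivOpenT1
open Groth.Agent.Lib.Helper4.ChevCrit7
open Groth.Agent.Lib.Helper4.DvrFlat1 Groth.Agent.Lib.Helper4.FlatDimK1 Groth.Agent.Lib.Helper4.BaseChgMax1 Groth.Agent.Lib.Helper4.ProdDim1 Groth.Agent.Lib.Helper4.FibDimBC1 Groth.Agent.Lib.Helper4.FibMap1 Groth.Agent.Lib.Helper4.GenFib1 Groth.Agent.Lib.Helper4.EquiBC1 Groth.Agent.Lib.Helper4.GenEqui1

namespace Groth.Agent.Lib.Helper4.LocNoethFib1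
theorem flat_fromSpecStalk (Y : Scheme.{u}) (y : Y) : Flat (Y.fromSpecStalk y) := by
  obtain ⟨U, hU, hyU, -⟩ := exists_isAffineOpen_mem_and_subset (x := y) (U := (⊤ : Y.Opens)) trivial
  rw [← hU.fromSpecStalk_eq_fromSpecStalk hyU]
  unfold IsAffineOpen.fromSpecStalk
  haveI : Flat (Spec.map (Y.presheaf.germ U y hyU)) := by
    rw [Flat.SpecMap_iff]
    letI := Y.presheaf.algebra_section_stalk ⟨y, hyU⟩
    haveI := hU.isLocalization_stalk ⟨y, hyU⟩
    have : Module.Flat Γ(Y, U) (Y.presheaf.stalk y) :=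
      IsLocalization.flat (Y.presheaf.stalk y) (hU.primeIdealOf ⟨y, hyU⟩).asIdeal.primeCompl
    exact this
  infer_instance

section NN
variable {X Y : Scheme.{u}} (f : X ⟶ Y) [LocallyOfFiniteType f]

theorem fiber_max_of_fibreMax (z : X) (hmax : ∀ z' : X, f z' = f z → z' ⤳ z → z' = z)
    (w' : f.fiber (f z))
    (hsp : w' ⤳ f.asFiber z) : w' = f.asFiber z := by
  have h1 : f.fiberι (f z) w' ⤳ z := by
    have := hsp.map (f.fiberι (f z)).continuous
    rwa [f.fiberι_asFiber z] at this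
  have h2 := hmax _ (fiberι_mem f (f z) w') h1
  apply (f.fiberι (f z)).isEmbedding.injective
  rw [h2, f.fiberι_asFiber z]

theorem fibreMax_of_fiber_max (y : Y) (w : f.fiber y) (hw : ∀ w' : f.fiber y, w' ⤳ w → w' = w)
    (z' : X) (hz' : f z' = f (f.fiberι y w)) (hsp : z' ⤳ f.fiberι y w) : z' = f.fiberι y w := by
  have hz'y : f z' = y := hz'.trans (fiberι_mem f y w)
  obtain ⟨w', hw'⟩ : ∃ w' : f.fiber y, f.fiberι y w' = z' :=
    ⟨(f.fiberHomeo y).symm ⟨z', hz'y⟩, f.fiberι_fiberHomeo_symm y _⟩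
  have h1 : w' ⤳ w := by
    rw [← (f.fiberι y).isEmbedding.isInducing.specializes_iff, hw']
    exact hsp
  rw [← hw', hw w' h1]

/-- at a point maximal in its fibre the local dimension of the fibre is the residual
transcendence degree (no Noetherian hypothesis) -/
theorem fibreDimAt_eq_tr_of_max (z : X) (hmax : ∀ z' : X, f z' = f z → z' ⤳ z → z' = z) :
    FlatMor.fibreDimAt f z = ((tr f z : ℕ) : WithBot ℕ∞) := by
  have h1 := fibreDimAt_fiber f (f z) (f.asFiber z)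
  have h2 := tr_fiber f (f z) (f.asFiber z)
  rw [f.fiberι_asFiber z] at h1 h2
  rw [← h1, ← h2]
  apply (max_point_facts (f.fiberToSpecResidueField (f z)) (f.asFiber z) ?_).1
  intro w' _ hsp
  exact fiber_max_of_fibreMax f z hmax w' hsp

/-- bound for the local dimension of the fibre by the residual transcendence degrees at the
points maximal in the fibre (no Noetherian hypothesis) -/
theorem fibreDimAt_le_of_max_tr_le' (x : X) (E : ℕ)
    (h : ∀ z : X, f z = f x → z ⤳ x → (∀ z' : X, f z' = f z → z' ⤳ z → z' = z) → tr f z ≤ E) :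
    FlatMor.fibreDimAt f x ≤ (E : WithBot ℕ∞) := by
  have h1 := fibreDimAt_fiber f (f x) (f.asFiber x)
  rw [f.fiberι_asFiber x] at h1
  rw [← h1]
  apply fibreDimAt_le_of_max_tr_le (f.fiberToSpecResidueField (f x)) (f.asFiber x) E
  intro w _ hsp hwmax
  rw [tr_fiber]
  apply h
  · exact fiberι_mem f (f x) w
  · have := hsp.map (f.fiberι (f x)).continuous
    rwa [f.fiberι_asFiber x] at this
  · apply fibreMax_of_fiber_max
    intro w' hw'
    exact hwmax w' (by
      rw [Scheme.Hom.fiberToSpecResidueField_apply, Scheme.Hom.fiberToSpecResidueField_apply]) hw'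

/-- the key inequality after a flat base change to a locally Noetherian scheme -/
theorem tr_succ_le_of_not_max_aux {Y' : Scheme.{u}} [IsLocallyNoetherian Y'] (g : Y' ⟶ Y) [Flat g]
    (z : X) (y' : Y') (hgy' : g y' = f z) (d : ℕ)
    (hd : ∀ ξ : X, (∀ ξ' : X, ξ' ⤳ ξ → ξ' = ξ) → ξ ⤳ z → tr f ξ ≤ d)
    (hz : ¬ ∀ ξ' : X, ξ' ⤳ z → ξ' = z) :
    ((tr f z + 1 : ℕ) : WithBot ℕ∞) ≤
      (d : WithBot ℕ∞) + ringKrullDim (Y'.presheaf.stalk y') := by
  obtain ⟨w, hw1, hw2, hw3⟩ := exists_tr_snd_ge f g z y' hgy'.symm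
  have htr : tr (pullback.snd f g) w = tr f z :=
    le_antisymm (by rw [← hw1]; exact tr_snd_le f g w) hw3
  have key := S9687_main (pullback.snd f g) w (tr f z) d
    (by rw [← htr]; exact tr_spec _ w) (by
      intro ξ' hξ' hsp
      have hξ'max : ∀ ξ₁ : ↥(pullback f g), ξ₁ ⤳ ξ' → ξ₁ = ξ' := fun ξ₁ h =>
        isMax_genericPoint_of_mem_irreducibleComponents _ hξ' ξ' isGenericPoint_closure ξ₁ h
      have hmax : ∀ ξ₁ : X, ξ₁ ⤳ pullback.fst f g ξ' → ξ₁ = pullback.fst f g ξ' := by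
        intro ξ₁ h
        obtain ⟨ω', hω', hω'ξ⟩ := Flat.generalizingMap (pullback.fst f g) h
        rw [← hω'ξ, hξ'max ω' hω']
      have h1 := hd _ hmax (by
        have := hsp.map (pullback.fst f g).continuous
        rwa [hw1] at this)
      have h2 := tr_snd_le f g ξ'
      rw [tr_spec]
      exact_mod_cast h2.trans h1)
  have hB : ringKrullDim (Y'.presheaf.stalk ((pullback.snd f g).base w)) =
      ringKrullDim (Y'.presheaf.stalk y') := stalk_dim_congr _ _ hw2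
  -- the point `w` is not maximal
  have hA : (1 : WithBot ℕ∞) ≤ ringKrullDim ((pullback f g).presheaf.stalk w) := by
    rw [ringKrullDim_stalk_eq_coheight]
    have hne : Order.coheight w ≠ 0 := by
      rw [Ne, Order.coheight_eq_zero]
      intro hmaxw
      apply hz
      intro ξ₁ h
      rw [← hw1] at h
      obtain ⟨ω', hω', hω'ξ⟩ := Flat.generalizingMap (pullback.fst f g) h
      rw [← hω'ξ, eq_of_isMax_of_specializes w hmaxw ω' hω', hw1]
    have : (1 : ℕ∞) ≤ Order.coheight w := Order.one_le_iff_ne_zero.mpr hne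
    exact_mod_cast this
  rw [hB] at key
  calc ((tr f z + 1 : ℕ) : WithBot ℕ∞) = 1 + ((tr f z : ℕ) : WithBot ℕ∞) := by
        push_cast; rw [add_comm]
    _ ≤ ringKrullDim ((pullback f g).presheaf.stalk w) + ((tr f z : ℕ) : WithBot ℕ∞) :=
        add_le_add_left hA _
    _ ≤ _ := key
    _ = _ := add_comm _ _

/-- the key inequality over a base point with Noetherian local ring: at a non-maximal point `z`
all of whose maximal generizations have residual transcendence degree at most `d` -/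
theorem tr_succ_le_of_not_max (z : X) [IsNoetherianRing (Y.presheaf.stalk (f z))] (d : ℕ)
    (hd : ∀ ξ : X, (∀ ξ' : X, ξ' ⤳ ξ → ξ' = ξ) → ξ ⤳ z → tr f ξ ≤ d)
    (hz : ¬ ∀ ξ' : X, ξ' ⤳ z → ξ' = z) :
    ((tr f z + 1 : ℕ) : WithBot ℕ∞) ≤
      (d : WithBot ℕ∞) + ringKrullDim (Y.presheaf.stalk (f z)) := by
  haveI : Flat (Y.fromSpecStalk (f z)) := flat_fromSpecStalk Y (f z)
  have h := tr_succ_le_of_not_max_aux f (Y.fromSpecStalk (f z)) z
    (IsLocalRing.closedPoint (Y.presheaf.stalk (f z))) Scheme.fromSpecStalk_closedPoint d hd hz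
  refine h.trans (add_le_add_right ?_ _)
  refine (ringKrullDim_stalk_le _ _).trans ?_
  exact le_of_eq (PrimeSpectrum.topologicalKrullDim_eq_ringKrullDim _)

theorem tr_succ_le_of_not_max' (y : Y) [IsNoetherianRing (Y.presheaf.stalk y)] (z : X)
    (hzy : f z = y) (d : ℕ)
    (hd : ∀ ξ : X, (∀ ξ' : X, ξ' ⤳ ξ → ξ' = ξ) → ξ ⤳ z → tr f ξ ≤ d)
    (hz : ¬ ∀ ξ' : X, ξ' ⤳ z → ξ' = z) :
    ((tr f z + 1 : ℕ) : WithBot ℕ∞) ≤ (d : WithBot ℕ∞) + ringKrullDim (Y.presheaf.stalk y) := by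
  subst hzy
  exact tr_succ_le_of_not_max f z d hd hz

theorem fibreMax_of_max (ξ : X) (h : ∀ ξ' : X, ξ' ⤳ ξ → ξ' = ξ) :
    ∀ z' : X, f z' = f ξ → z' ⤳ ξ → z' = ξ := fun z' _ hsp => h z' hsp

theorem S1553_main (x : X) [IsNoetherianRing (Y.presheaf.stalk (f.base x))] (d : ℕ)
    (hgen : ∀ Z ∈ irreducibleComponents (X : Type u), x ∈ Z → ∀ η : X, IsGenericPoint η Z →
      f.base η ≠ f.base x ∧ FlatMor.fibreDimAt f η = d) :
    FlatMor.fibreDimAt f x + 1 ≤
      (d : WithBot ℕ∞) + ringKrullDim (Y.presheaf.stalk (f.base x)) := by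
  have hmaxgen : ∀ ξ : X, (∀ ξ' : X, ξ' ⤳ ξ → ξ' = ξ) → ξ ⤳ x → f ξ ≠ f x ∧ tr f ξ = d := by
    intro ξ hξ hsp
    obtain ⟨h1, h2⟩ := hgen _ (closure_mem_irreducibleComponents_of_isMax X ξ (isMax_of_forall ξ hξ))
      (specializes_iff_mem_closure.mp hsp) ξ isGenericPoint_closure
    refine ⟨h1, ?_⟩
    rw [fibreDimAt_eq_tr_of_max f ξ (fibreMax_of_max f ξ hξ)] at h2
    exact_mod_cast h2
  have hstar : ∀ z : X, f z = f x → z ⤳ x →
      ((tr f z + 1 : ℕ) : WithBot ℕ∞) ≤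
        (d : WithBot ℕ∞) + ringKrullDim (Y.presheaf.stalk (f.base x)) := by
    intro z hz hsp
    apply tr_succ_le_of_not_max' f (f x) z hz d
    · intro ξ hξ hξz
      exact (hmaxgen ξ hξ (hξz.trans hsp)).2.le
    · intro hzmax
      exact (hmaxgen z hzmax hsp).1 hz
  obtain ⟨δ, hδ⟩ := exists_nat_eq_of_ne (a := ringKrullDim (Y.presheaf.stalk (f.base x)))
    ringKrullDim_ne_bot ringKrullDim_ne_top
  rw [hδ] at hstar ⊢
  have hstar' : ∀ z : X, f z = f x → z ⤳ x → tr f z + 1 ≤ d + δ := by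
    intro z hz hsp
    have := hstar z hz hsp
    exact_mod_cast this
  have hpos : 1 ≤ d + δ := (Nat.le_add_left 1 _).trans (hstar' x rfl specializes_rfl)
  have h1 : FlatMor.fibreDimAt f x ≤ ((d + δ - 1 : ℕ) : WithBot ℕ∞) := by
    apply fibreDimAt_le_of_max_tr_le' f x
    intro z hz hsp _
    have := hstar' z hz hsp
    omega
  calc FlatMor.fibreDimAt f x + 1 ≤ ((d + δ - 1 : ℕ) : WithBot ℕ∞) + 1 := add_le_add_left h1 _
    _ = ((d + δ : ℕ) : WithBot ℕ∞) := by
        have : d + δ - 1 + 1 = d + δ := by omega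
        exact_mod_cast congrArg (fun n : ℕ => (n : WithBot ℕ∞)) this
    _ = _ := by push_cast; rfl

theorem S1554_main (x : X) [IsNoetherianRing (Y.presheaf.stalk (f.base x))]
    (hdimY : ringKrullDim (Y.presheaf.stalk (f.base x)) ≤ 1) (d : ℕ)
    (hgen : ∀ Z ∈ irreducibleComponents (X : Type u), x ∈ Z → ∀ η : X, IsGenericPoint η Z →
      FlatMor.fibreDimAt f η = d) :
    FlatMor.fibreDimAt f x = d := by
  have hmaxgen : ∀ ξ : X, (∀ ξ' : X, ξ' ⤳ ξ → ξ' = ξ) → ξ ⤳ x → tr f ξ = d := by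
    intro ξ hξ hsp
    have h2 := hgen _ (closure_mem_irreducibleComponents_of_isMax X ξ (isMax_of_forall ξ hξ))
      (specializes_iff_mem_closure.mp hsp) ξ isGenericPoint_closure
    rw [fibreDimAt_eq_tr_of_max f ξ (fibreMax_of_max f ξ hξ)] at h2
    exact_mod_cast h2
  apply le_antisymm
  · apply fibreDimAt_le_of_max_tr_le' f x d
    intro z hz hsp _
    by_cases hzmax : ∀ ξ' : X, ξ' ⤳ z → ξ' = z
    · exact (hmaxgen z hzmax hsp).le
    · have h1 := tr_succ_le_of_not_max' f (f x) z hz d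
        (fun ξ hξ hξz => (hmaxgen ξ hξ (hξz.trans hsp)).le) hzmax
      have h2 : ((tr f z + 1 : ℕ) : WithBot ℕ∞) ≤ ((d + 1 : ℕ) : WithBot ℕ∞) := by
        refine h1.trans ?_
        push_cast
        exact add_le_add_right hdimY _
      have : tr f z + 1 ≤ d + 1 := by exact_mod_cast h2
      omega
  · obtain ⟨ξ, hxξ, hξmax⟩ := exists_isMax_ge X x
    have hsp : ξ ⤳ x := hxξ
    have hξ : ∀ ξ' : X, ξ' ⤳ ξ → ξ' = ξ := eq_of_isMax_of_specializes ξ hξmax
    have h2 := hgen _ (closure_mem_irreducibleComponents_of_isMax X ξ hξmax)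
      (specializes_iff_mem_closure.mp hsp) ξ isGenericPoint_closure
    have hcl := isClosed_setOf_le_fibreDimAt f ((d : ℕ) : WithBot ℕ∞)
    have hmem : ξ ∈ {x : X | ((d : ℕ) : WithBot ℕ∞) ≤ FlatMor.fibreDimAt f x} := h2.ge
    exact hsp.mem_closed hcl hmem

end NN

end Groth.Agent.Lib.Helper4.LocNoethFib1
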