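import Mathlib
import Groth.Prelude.Def_Cyc
import Groth.Agent.Lib.Helper4.JacDim1
import Groth.Prelude.Def_EGA43
import Groth.Agent.Lib.Helper4.FibreStalkDim1
import Groth.Agent.Lib.Helper4.DimFT1
import Groth.Agent.Lib.Helper4.DimFT2
import Groth.Agent.Lib.Helper4.Chev8
import Groth.Agent.Lib.Helper4.FibDim7
import Groth.Agent.Lib.Helper4.EffCartierDim1
import Groth.Agent.Lib.Helper4.JacDim4
import Groth.Agent.Lib.Helper4.Chev9
import Groth.Agent.Lib.Helper4.Chev10
import Groth.Agent.Lib.Helper4.Chev11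
import Groth.Agent.Lib.Helper4.Equi1
import Groth.Agent.Lib.Helper4.Equi2
import Groth.Agent.Lib.Helper4.Equi3
import Groth.Agent.Lib.Helper4.Equi4
import Groth.Agent.Lib.Helper4.Equi5
import Groth.Agent.Lib.Helper4.Equi6
import Groth.Agent.Lib.Helper4.Equi7
import Groth.Agent.Lib.Helper4.Aff1
import Groth.Agent.Lib.Helper4.Aff2
import Groth.Agent.Lib.Helper4.Equi10
import Groth.Agent.Lib.Helper4.Val1
import Groth.Agent.Lib.Helper4.BaseChg1
import Groth.Agent.Lib.Helper4.UnivOpen1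
import Groth.Agent.Lib.Helper4.FibClosure1
import Groth.Agent.Lib.Helper4.OpenNoeth1
import Groth.Agent.Lib.Helper4.SecComp1
import Groth.Agent.Lib.Helper4.SecComp2
import Groth.Agent.Lib.Helper4.UnivOpen2
import Groth.Agent.Lib.Helper4.UnivOpenAt
import Groth.Agent.Lib.Helper4.RegularLocalCopy
import Groth.Agent.Lib.Helper4.ZMTNormalPt1
import Groth.Agent.Lib.Helper4.LocFinComp1
import Groth.Agent.Lib.Helper4.SecComp3
import Groth.Agent.Lib.Helper4.PropDim1
import Groth.Prelude.Def_FDesc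
import Groth.Prelude.Def_MoreMor
import Groth.Agent.Lib.Helper4.ChevCrit1
import Groth.Agent.Lib.Helper4.ChevCrit2
import Groth.Agent.Lib.Helper4.ChevCrit3
import Groth.Agent.Lib.Helper4.IrrCompDomain1
import Groth.Agent.Lib.Helper4.ChevCrit4
import Groth.Agent.Lib.Helper4.ChevCrit5
import Groth.Agent.Lib.Helper4.ChevCrit6
import Groth.Agent.Lib.Helper4.ChevCrit7
import Groth.Agent.Lib.Helper4.DedekindOpen1
import Groth.Agent.Lib.Helper4.UnivOpenT1
import Groth.Agent.Lib.Helper4.DvrFlat1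
import Groth.Agent.Lib.Helper4.SatChain1
import Groth.Agent.Lib.Helper4.FlatDimK1
import Groth.Agent.Lib.Helper4.BaseChgMax1
import Groth.Agent.Lib.Helper4.ProdDim1
import Groth.Agent.Lib.Helper4.FibDimBC1
import Groth.Agent.Lib.Helper4.FibMap1
import Groth.Agent.Lib.Helper4.GenFib1
import Groth.Agent.Lib.Helper4.EquiBC1
import Groth.Agent.Lib.Helper4.GenEqui1
import Groth.Agent.Lib.Helper4.LocNoethFib1

/-!
# local fibre dimension and relative dimension are invariant under base change (S9358) (helper4)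
-/

set_option backward.isDefEq.respectTransparency.types false
set_option synthInstance.maxHeartbeats 400000
set_option autoImplicit false
set_option linter.unusedSectionVars false
set_option linter.style.haveILetI false
set_option linter.unusedSimpArgs false
universe u v w
open CategoryTheory CategoryTheory.Limits AlgebraicGeometry TopologicalSpace IsLocalRing Opposite
open Cardinal AffineSpace MvPolynomial
open Groth.Agent.Lib.Helper4.DimIneq1 Groth.Agent.Lib.Helper4.DimFT2 Groth.Agent.Lib.Helper4.Catenary1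
open Groth.Agent.Lib.Helper4.DimEq1 Groth.Agent.Lib.Helper4.DimIneq2 Groth.Agent.Lib.Helper4.DimEq2
open Groth.Agent.Lib.Helper4.DimIneq3 Groth.Agent.Lib.Helper4.DimIneq4
open Groth.Agent.Lib.Helper4.NormFibre2 Groth.Agent.Lib.Helper4.RadBir3 Groth.Agent.Lib.Helper4.DimFT3
open Groth.Agent.Lib.Helper4.FibDim1 Groth.Agent.Lib.Helper4.FibDim2 Groth.Agent.Lib.Helper4.LocUC1
open Groth.Agent.Lib.Helper4.FibDim3 Groth.Agent.Lib.Helper4.FibDim4 Groth.Agent.Lib.Helper4.FibDim5
open Groth.Agent.Lib.Helper4.FibDim6 Groth.Agent.Lib.Helper4.FibDim7 Groth.Agent.Lib.Helper4.JacDim1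
open Groth.Agent.Lib.Helper4.DimFT1
open Groth.Agent.Lib.Helper4.Chev2 Groth.Agent.Lib.Helper4.Chev5 Groth.Agent.Lib.Helper4.Chev6 Groth.Agent.Lib.Helper4.Chev8
open Groth.Agent.Lib.Helper4.JacDim4 Groth.Agent.Lib.Helper4.EffCartierDim1
open Groth.Agent.Lib.Helper4.Chev9 Groth.Agent.Lib.Helper4.Chev4
open Groth.Agent.Lib.Helper4.Chev10 Groth.Agent.Lib.Helper4.Chev11 Groth.Agent.Lib.Helper4.Chev3 Groth.Agent.Lib.Helper4.Equi1 Groth.Agent.Lib.Helper4.Equi2 Groth.Agent.Lib.Helper4.OpenAt1 Groth.Agent.Lib.Helper4.Equi3 Groth.Agent.Lib.Helper4.Equi4 Groth.Agent.Lib.Helper4.Equi5 Groth.Agent.Lib.Helper4.Equi6 Groth.Agent.Lib.Helper4.Equi7 Groth.Agent.Lib.Helper4.Aff1 Groth.Agent.Lib.Helper4.Aff2 Groth.Agent.Lib.Helper4.Equi10 Groth.Agent.Lib.Helper4.Val1 Groth.Agent.Lib.Helper4.BaseChg1 Groth.Agent.Lib.Helper4.UnivOpen1 Groth.Agent.Lib.Helper4.FibClosure1 Groth.Agent.Lib.Helper4.OpenNoeth1 Groth.Agent.Lib.Helper4.SecComp1 Groth.Agent.Lib.Helper4.SecComp2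
open Groth.Agent.Lib.Helper4.SecComp3 Groth.Agent.Lib.Helper4.PropDim1 Groth.Agent.Lib.Helper4.ZMTNormalPt1 Groth.Agent.Lib.Helper4.UO Groth.Agent.Lib.Helper4.UOp
open Groth.Agent.Lib.Helper4.ChevCrit1 Groth.Agent.Lib.Helper4.ChevCrit2 Groth.Agent.Lib.Helper4.ChevCrit3
open Groth.Agent.Lib.Helper4.IrrCompDomain1 Groth.Agent.Lib.Helper4.RadBir1
open Groth.Agent.Lib.Helper4.ChevCrit4
open Groth.Agent.Lib.Helper4.ChevCrit5
open Groth.Agent.Lib.Helper4.DedekindOpen1 Groth.Agent.Lib.Helper4.UnivOpenT1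
open Groth.Agent.Lib.Helper4.ChevCrit7
open Groth.Agent.Lib.Helper4.DvrFlat1 Groth.Agent.Lib.Helper4.FlatDimK1 Groth.Agent.Lib.Helper4.BaseChgMax1 Groth.Agent.Lib.Helper4.ProdDim1 Groth.Agent.Lib.Helper4.FibDimBC1 Groth.Agent.Lib.Helper4.FibMap1 Groth.Agent.Lib.Helper4.GenFib1 Groth.Agent.Lib.Helper4.EquiBC1 Groth.Agent.Lib.Helper4.GenEqui1 Groth.Agent.Lib.Helper4.LocNoethFib1

namespace Groth.Agent.Lib.Helper4.FibDimBC2
section GenF
variable {X Y : Scheme.{u}} (f : X ⟶ Y)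

/-- every point of a fibre has a generization in the fibre which is maximal in the fibre -/
theorem exists_fibreMax_ge (z : X) :
    ∃ z' : X, z' ⤳ z ∧ f z' = f z ∧ ∀ z'' : X, f z'' = f z' → z'' ⤳ z' → z'' = z' := by
  obtain ⟨z', hz', hmax⟩ := exists_isMax_ge_fib f (f z) ⟨z, rfl⟩
  refine ⟨z'.1, hz', z'.2, ?_⟩
  intro z'' hz'' hsp
  have h1 : z' ≤ (⟨z'', hz''.trans z'.2⟩ : {w : X // f w = f z}) := hsp
  have h2 := hmax h1
  have h3 : z'.1 ⤳ z'' := h2
  exact (hsp.antisymm h3).eq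

end GenF

section BC
variable {X S X' S' : Scheme.{u}} (f : X ⟶ S) [LocallyOfFiniteType f] (g : S' ⟶ S)
    (g' : X' ⟶ X) (f' : X' ⟶ S') (hsq : IsPullback g' f' f g)

include hsq in
theorem sq_apply (z' : X') : f (g' z') = g (f' z') := by
  rw [← Scheme.Hom.comp_apply, ← Scheme.Hom.comp_apply, hsq.w]

include hsq in
/-- abstract square: at a point maximal in its fibre, `tr` is preserved and the image is maximal
in its fibre -/
theorem tr_eq_of_max_abs [LocallyOfFiniteType f'] (z' : X')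
    (hmax : ∀ z'' : X', f' z'' = f' z' → z'' ⤳ z' → z'' = z') :
    tr f' z' = tr f (g' z') ∧ ∀ z₁ : X, f z₁ = f (g' z') → z₁ ⤳ g' z' → z₁ = g' z' := by
  obtain ⟨e, hfst, hsnd⟩ : ∃ e : X' ≅ pullback f g, e.hom ≫ pullback.fst f g = g' ∧
      e.hom ≫ pullback.snd f g = f' :=
    ⟨hsq.isoPullback, hsq.isoPullback_hom_fst, hsq.isoPullback_hom_snd⟩
  have hfst' : ∀ a : X', pullback.fst f g (e.hom a) = g' a := by
    intro a; rw [← Scheme.Hom.comp_apply, hfst]
  have hsnd' : ∀ a : X', pullback.snd f g (e.hom a) = f' a := by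
    intro a; rw [← Scheme.Hom.comp_apply, hsnd]
  have hinv : ∀ w : ↥(pullback f g), e.hom (e.inv w) = w := by
    intro w; rw [← Scheme.Hom.comp_apply, Iso.inv_hom_id]; rfl
  have hinv' : ∀ a : X', e.inv (e.hom a) = a := by
    intro a; rw [← Scheme.Hom.comp_apply, Iso.hom_inv_id]; rfl
  have hmax' : ∀ w' : ↥(pullback f g), w' ⤳ e.hom z' →
      pullback.snd f g w' = pullback.snd f g (e.hom z') → w' = e.hom z' := by
    intro w' hsp hw'
    have h1 : e.inv w' ⤳ z' := by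
      have := hsp.map e.inv.continuous
      rwa [hinv'] at this
    have h2 : f' (e.inv w') = f' z' := by
      rw [← hsnd', hinv, hw', hsnd']
    rw [← hmax _ h2 h1, hinv]
  have htr : tr f' z' = tr (pullback.snd f g) (e.hom z') :=
    tr_eq_of_square e.hom (pullback.snd f g) f' (𝟙 S') (by rw [hsnd, Category.comp_id]) z'
  constructor
  · rw [htr, tr_snd_eq_of_max f g _ hmax', hfst']
  · intro z₁ hz₁ hsp
    rw [← hfst'] at hz₁ hsp ⊢
    exact fst_max_of_max f g _ hmax' z₁ hsp hz₁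

include hsq in
/-- abstract square: generizations inside the fibre lift -/
theorem exists_generization_abs (x' : X') (z : X) (hsp : z ⤳ g' x') (hz : f z = f (g' x')) :
    ∃ z' : X', z' ⤳ x' ∧ f' z' = f' x' ∧ g' z' = z := by
  obtain ⟨e, hfst, hsnd⟩ : ∃ e : X' ≅ pullback f g, e.hom ≫ pullback.fst f g = g' ∧
      e.hom ≫ pullback.snd f g = f' :=
    ⟨hsq.isoPullback, hsq.isoPullback_hom_fst, hsq.isoPullback_hom_snd⟩
  have hfst' : ∀ a : X', pullback.fst f g (e.hom a) = g' a := by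
    intro a; rw [← Scheme.Hom.comp_apply, hfst]
  have hsnd' : ∀ a : X', pullback.snd f g (e.hom a) = f' a := by
    intro a; rw [← Scheme.Hom.comp_apply, hsnd]
  have hinv : ∀ w : ↥(pullback f g), e.hom (e.inv w) = w := by
    intro w; rw [← Scheme.Hom.comp_apply, Iso.inv_hom_id]; rfl
  have hinv' : ∀ a : X', e.inv (e.hom a) = a := by
    intro a; rw [← Scheme.Hom.comp_apply, Iso.hom_inv_id]; rfl
  obtain ⟨w₁, hw₁, hw₁s, hw₁f⟩ := exists_generization_fst f g (e.hom x') z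
    (by rw [hfst']; exact hsp) (by rw [hfst']; exact hz)
  refine ⟨e.inv w₁, ?_, ?_, ?_⟩
  · have := hw₁.map e.inv.continuous
    rwa [hinv'] at this
  · rw [← hsnd', hinv, hw₁s, hsnd']
  · rw [← hfst', hinv, hw₁f]

include hsq in
theorem fibreDimAt_abs (x' : X') :
    FlatMor.fibreDimAt f' x' = FlatMor.fibreDimAt f (g' x') := by
  haveI : LocallyOfFiniteType f' := MorphismProperty.of_isPullback hsq inferInstance
  have hsemi : ∀ {A B : Scheme.{u}} (h : A ⟶ B) [LocallyOfFiniteType h] (a b : A), a ⤳ b →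
      FlatMor.fibreDimAt h a ≤ FlatMor.fibreDimAt h b := by
    intro A B h _ a b hab
    have hcl := isClosed_setOf_le_fibreDimAt h (FlatMor.fibreDimAt h a)
    have hmem : a ∈ {x : A | FlatMor.fibreDimAt h a ≤ FlatMor.fibreDimAt h x} :=
      le_refl (FlatMor.fibreDimAt h a)
    exact hab.mem_closed hcl hmem
  apply le_antisymm
  · obtain ⟨d, hd, -⟩ := exists_open_fibreDimAt_le f (g' x')
    rw [hd]
    apply fibreDimAt_le_of_max_tr_le' f' x' d
    intro z' hz' hsp hmax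
    obtain ⟨h1, h2⟩ := tr_eq_of_max_abs f g g' f' hsq z' hmax
    have h3 := fibreDimAt_eq_tr_of_max f (g' z') h2
    have h4 := hsemi f (g' z') (g' x') (hsp.map g'.continuous)
    rw [h3, hd] at h4
    rw [h1]
    exact_mod_cast h4
  · obtain ⟨d', hd', -⟩ := exists_open_fibreDimAt_le f' x'
    rw [hd']
    apply fibreDimAt_le_of_max_tr_le' f (g' x') d'
    intro z hz hsp hmax
    obtain ⟨z', hz'sp, hz'f, hz'g⟩ := exists_generization_abs f g g' f' hsq x' z hsp hz
    obtain ⟨z'', hz''sp, hz''f, hz''max⟩ := exists_fibreMax_ge f' z'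
    obtain ⟨h1, -⟩ := tr_eq_of_max_abs f g g' f' hsq z'' hz''max
    have h2 : g' z'' = z := by
      apply hmax
      · rw [sq_apply f g g' f' hsq, hz''f, ← sq_apply f g g' f' hsq, hz'g]
      · rw [← hz'g]
        exact hz''sp.map g'.continuous
    have h3 := fibreDimAt_eq_tr_of_max f' z'' hz''max
    have h4 := hsemi f' z'' x' (hz''sp.trans hz'sp)
    rw [h3, hd', h1, h2] at h4
    exact_mod_cast h4

include hsq in
theorem hasRelDim_abs (d : ℕ) (h : Cyc.HasRelDim f d) : Cyc.HasRelDim f' d := by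
  haveI : LocallyOfFiniteType f' := MorphismProperty.of_isPullback hsq inferInstance
  intro y' T hT
  obtain ⟨w', hw'max, rfl⟩ := exists_isMax_closure_eq (f'.fiber y') T hT
  rw [dim_closure_of_field (S'.residueField y') (f'.fiberToSpecResidueField y') w', tr_fiber]
  have hmax' := fibreMax_of_fiber_max f' y' w' (eq_of_isMax_of_specializes w' hw'max)
  obtain ⟨h1, h2⟩ := tr_eq_of_max_abs f g g' f' hsq _ hmax'
  rw [h1]
  obtain ⟨z, hz⟩ : ∃ z, z = g' (f'.fiberι y' w') := ⟨_, rfl⟩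
  rw [← hz] at h2 ⊢
  have hw : IsMax (f.asFiber z) := isMax_of_forall _ (fiber_max_of_fibreMax f z h2)
  have h3 := h (f z) _ (closure_mem_irreducibleComponents_of_isMax (f.fiber (f z)) _ hw)
  rw [dim_closure_of_field (S.residueField (f z)) (f.fiberToSpecResidueField (f z)) (f.asFiber z),
    tr_fiber, f.fiberι_asFiber z] at h3
  exact h3

include hsq in
theorem S9358_main (d : ℕ) :
    (∀ x' : ↑X', FlatMor.fibreDimAt f' x' = FlatMor.fibreDimAt f (g'.base x')) ∧
      ((∀ x : ↑X, FlatMor.fibreDimAt f x ≤ d) → ∀ x' : ↑X', FlatMor.fibreDimAt f' x' ≤ d) ∧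
        (Cyc.HasRelDim f d → Cyc.HasRelDim f' d) := by
  refine ⟨fibreDimAt_abs f g g' f' hsq, ?_, hasRelDim_abs f g g' f' hsq d⟩
  intro h x'
  rw [fibreDimAt_abs f g g' f' hsq x']
  exact h _

end BC
end Groth.Agent.Lib.Helper4.FibDimBC2
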