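import Mathlib
import Groth.Prelude.Def_Cyc
import Groth.Agent.Lib.Helper4.JacDim1
import Groth.Prelude.Def_EGA43
import Groth.Agent.Lib.Helper4.FibreStalkDim1
import Groth.Agent.Lib.Helper4.DimFT1
import Groth.Agent.Lib.Helper4.DimFT2
import Groth.Agent.Lib.Helper4.Chev8
import Groth.Agent.Lib.Helper4.FibDim7
import Groth.Agent.Lib.Helper4.EffCartierDim1
import Groth.Agent.Lib.Helper4.JacDim4
import Groth.Agent.Lib.Helper4.Chev9
import Groth.Agent.Lib.Helper4.Chev10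
import Groth.Agent.Lib.Helper4.Chev11
import Groth.Agent.Lib.Helper4.Equi1
import Groth.Agent.Lib.Helper4.Equi2
import Groth.Agent.Lib.Helper4.Equi3
import Groth.Agent.Lib.Helper4.Equi4
import Groth.Agent.Lib.Helper4.Equi5
import Groth.Agent.Lib.Helper4.Equi6
import Groth.Agent.Lib.Helper4.Equi7
import Groth.Agent.Lib.Helper4.Aff1
import Groth.Agent.Lib.Helper4.Aff2
import Groth.Agent.Lib.Helper4.Equi10
import Groth.Agent.Lib.Helper4.Val1
import Groth.Agent.Lib.Helper4.BaseChg1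
import Groth.Agent.Lib.Helper4.UnivOpen1
import Groth.Agent.Lib.Helper4.FibClosure1
import Groth.Agent.Lib.Helper4.OpenNoeth1
import Groth.Agent.Lib.Helper4.SecComp1
import Groth.Agent.Lib.Helper4.SecComp2
import Groth.Agent.Lib.Helper4.UnivOpen2
import Groth.Agent.Lib.Helper4.UnivOpenAt
import Groth.Agent.Lib.Helper4.RegularLocalCopy
import Groth.Agent.Lib.Helper4.ZMTNormalPt1
import Groth.Agent.Lib.Helper4.LocFinComp1
import Groth.Agent.Lib.Helper4.SecComp3
import Groth.Agent.Lib.Helper4.PropDim1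
import Groth.Prelude.Def_FDesc
import Groth.Prelude.Def_MoreMor
import Groth.Agent.Lib.Helper4.ChevCrit1
import Groth.Agent.Lib.Helper4.ChevCrit2
import Groth.Agent.Lib.Helper4.ChevCrit3
import Groth.Agent.Lib.Helper4.IrrCompDomain1
import Groth.Agent.Lib.Helper4.ChevCrit4
import Groth.Agent.Lib.Helper4.ChevCrit5
import Groth.Agent.Lib.Helper4.ChevCrit6
import Groth.Agent.Lib.Helper4.ChevCrit7
import Groth.Agent.Lib.Helper4.DedekindOpen1
import Groth.Agent.Lib.Helper4.UnivOpenT1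
import Groth.Agent.Lib.Helper4.DvrFlat1
import Groth.Agent.Lib.Helper4.SatChain1
import Groth.Agent.Lib.Helper4.FlatDimK1
import Groth.Agent.Lib.Helper4.BaseChgMax1
import Groth.Agent.Lib.Helper4.ProdDim1
import Groth.Agent.Lib.Helper4.FibDimBC1
import Groth.Agent.Lib.Helper4.FibMap1
import Groth.Agent.Lib.Helper4.GenFib1
import Groth.Agent.Lib.Helper4.EquiBC1
import Groth.Agent.Lib.Helper4.GenEqui1
import Groth.Agent.Lib.Helper4.LocNoethFib1
import Groth.Agent.Lib.Helper4.FibDimBC2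

/-!
# local fibre dimension of a composite (S4992, S9357) (helper4)
-/

set_option backward.isDefEq.respectTransparency.types false
set_option synthInstance.maxHeartbeats 400000
set_option autoImplicit false
set_option linter.unusedSectionVars false
set_option linter.style.haveILetI false
set_option linter.unusedSimpArgs false
universe u v w
open CategoryTheory CategoryTheory.Limits AlgebraicGeometry TopologicalSpace IsLocalRing Opposite
open Cardinal AffineSpace MvPolynomial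
open Groth.Agent.Lib.Helper4.DimIneq1 Groth.Agent.Lib.Helper4.DimFT2 Groth.Agent.Lib.Helper4.Catenary1
open Groth.Agent.Lib.Helper4.DimEq1 Groth.Agent.Lib.Helper4.DimIneq2 Groth.Agent.Lib.Helper4.DimEq2
open Groth.Agent.Lib.Helper4.DimIneq3 Groth.Agent.Lib.Helper4.DimIneq4
open Groth.Agent.Lib.Helper4.NormFibre2 Groth.Agent.Lib.Helper4.RadBir3 Groth.Agent.Lib.Helper4.DimFT3
open Groth.Agent.Lib.Helper4.FibDim1 Groth.Agent.Lib.Helper4.FibDim2 Groth.Agent.Lib.Helper4.LocUC1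
open Groth.Agent.Lib.Helper4.FibDim3 Groth.Agent.Lib.Helper4.FibDim4 Groth.Agent.Lib.Helper4.FibDim5
open Groth.Agent.Lib.Helper4.FibDim6 Groth.Agent.Lib.Helper4.FibDim7 Groth.Agent.Lib.Helper4.JacDim1
open Groth.Agent.Lib.Helper4.DimFT1
open Groth.Agent.Lib.Helper4.Chev2 Groth.Agent.Lib.Helper4.Chev5 Groth.Agent.Lib.Helper4.Chev6 Groth.Agent.Lib.Helper4.Chev8
open Groth.Agent.Lib.Helper4.JacDim4 Groth.Agent.Lib.Helper4.EffCartierDim1
open Groth.Agent.Lib.Helper4.Chev9 Groth.Agent.Lib.Helper4.Chev4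
open Groth.Agent.Lib.Helper4.Chev10 Groth.Agent.Lib.Helper4.Chev11 Groth.Agent.Lib.Helper4.Chev3 Groth.Agent.Lib.Helper4.Equi1 Groth.Agent.Lib.Helper4.Equi2 Groth.Agent.Lib.Helper4.OpenAt1 Groth.Agent.Lib.Helper4.Equi3 Groth.Agent.Lib.Helper4.Equi4 Groth.Agent.Lib.Helper4.Equi5 Groth.Agent.Lib.Helper4.Equi6 Groth.Agent.Lib.Helper4.Equi7 Groth.Agent.Lib.Helper4.Aff1 Groth.Agent.Lib.Helper4.Aff2 Groth.Agent.Lib.Helper4.Equi10 Groth.Agent.Lib.Helper4.Val1 Groth.Agent.Lib.Helper4.BaseChg1 Groth.Agent.Lib.Helper4.UnivOpen1 Groth.Agent.Lib.Helper4.FibClosure1 Groth.Agent.Lib.Helper4.OpenNoeth1 Groth.Agent.Lib.Helper4.SecComp1 Groth.Agent.Lib.Helper4.SecComp2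
open Groth.Agent.Lib.Helper4.SecComp3 Groth.Agent.Lib.Helper4.PropDim1 Groth.Agent.Lib.Helper4.ZMTNormalPt1 Groth.Agent.Lib.Helper4.UO Groth.Agent.Lib.Helper4.UOp
open Groth.Agent.Lib.Helper4.ChevCrit1 Groth.Agent.Lib.Helper4.ChevCrit2 Groth.Agent.Lib.Helper4.ChevCrit3
open Groth.Agent.Lib.Helper4.IrrCompDomain1 Groth.Agent.Lib.Helper4.RadBir1
open Groth.Agent.Lib.Helper4.ChevCrit4
open Groth.Agent.Lib.Helper4.ChevCrit5
open Groth.Agent.Lib.Helper4.DedekindOpen1 Groth.Agent.Lib.Helper4.UnivOpenT1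
open Groth.Agent.Lib.Helper4.ChevCrit7
open Groth.Agent.Lib.Helper4.DvrFlat1 Groth.Agent.Lib.Helper4.FlatDimK1 Groth.Agent.Lib.Helper4.BaseChgMax1 Groth.Agent.Lib.Helper4.ProdDim1 Groth.Agent.Lib.Helper4.FibDimBC1 Groth.Agent.Lib.Helper4.FibMap1 Groth.Agent.Lib.Helper4.GenFib1 Groth.Agent.Lib.Helper4.EquiBC1 Groth.Agent.Lib.Helper4.GenEqui1 Groth.Agent.Lib.Helper4.LocNoethFib1 Groth.Agent.Lib.Helper4.FibDimBC2

namespace Groth.Agent.Lib.Helper4.FibDimComp1
section G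
variable {X Y : Scheme.{u}} (f : X ⟶ Y) [LocallyOfFiniteType f]

theorem fibreDimAt_mono_of_specializes (a b : X) (hab : a ⤳ b) :
    FlatMor.fibreDimAt f a ≤ FlatMor.fibreDimAt f b := by
  have hcl := isClosed_setOf_le_fibreDimAt f (FlatMor.fibreDimAt f a)
  have hmem : a ∈ {x : X | FlatMor.fibreDimAt f a ≤ FlatMor.fibreDimAt f x} :=
    le_refl (FlatMor.fibreDimAt f a)
  exact hab.mem_closed hcl hmem

theorem exists_fibreDimAt_nat (x : X) : ∃ d : ℕ, FlatMor.fibreDimAt f x = (d : WithBot ℕ∞) := by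
  obtain ⟨d, hd, -⟩ := exists_open_fibreDimAt_le f x
  exact ⟨d, hd⟩

/-- the residual transcendence degree is at most the local dimension of the fibre -/
theorem tr_le_fibreDimAt' (z : X) : ((tr f z : ℕ) : WithBot ℕ∞) ≤ FlatMor.fibreDimAt f z := by
  obtain ⟨z', hsp, hz', hmax⟩ := exists_fibreMax_ge f z
  have h1 := tr_le_of_specializes f z' z hsp hz'
  have h2 := fibreDimAt_eq_tr_of_max f z' hmax
  have h3 := fibreDimAt_mono_of_specializes f z' z hsp
  rw [h2] at h3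
  refine le_trans ?_ h3
  exact_mod_cast h1

/-- the local dimension of the fibre is attained at a point maximal in the fibre -/
theorem exists_fibreMax_tr_eq (x : X) :
    ∃ z : X, f z = f x ∧ z ⤳ x ∧ (∀ z' : X, f z' = f z → z' ⤳ z → z' = z) ∧
      FlatMor.fibreDimAt f x = ((tr f z : ℕ) : WithBot ℕ∞) := by
  obtain ⟨a, ha⟩ := exists_fibreDimAt_nat f x
  by_contra hcon
  push Not at hcon
  have hle : ∀ z : X, f z = f x → z ⤳ x → (∀ z' : X, f z' = f z → z' ⤳ z → z' = z) →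
      tr f z < a := by
    intro z hz hsp hmax
    have h1 := (tr_le_fibreDimAt' f z).trans (fibreDimAt_mono_of_specializes f z x hsp)
    rw [ha] at h1
    have h2 : tr f z ≤ a := by exact_mod_cast h1
    have h3 : tr f z ≠ a := by
      intro h
      apply hcon z hz hsp hmax
      rw [ha, h]
    omega
  obtain ⟨z₀, hz₀sp, hz₀, hz₀max⟩ := exists_fibreMax_ge f x
  have hapos : 1 ≤ a := by
    have := hle z₀ hz₀ hz₀sp hz₀max
    omega
  have h4 : FlatMor.fibreDimAt f x ≤ ((a - 1 : ℕ) : WithBot ℕ∞) := by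
    apply fibreDimAt_le_of_max_tr_le' f x
    intro z hz hsp hmax
    have := hle z hz hsp hmax
    omega
  rw [ha] at h4
  have : a ≤ a - 1 := by exact_mod_cast h4
  omega

end G

section COMP
variable {X Y Z : Scheme.{u}} (f : X ⟶ Y) (g : Y ⟶ Z) [LocallyOfFiniteType f]
  [LocallyOfFiniteType g]

theorem fibreDimAt_comp_le (x : X) :
    FlatMor.fibreDimAt (f ≫ g) x ≤ FlatMor.fibreDimAt f x + FlatMor.fibreDimAt g (f.base x) := by
  obtain ⟨a, ha⟩ := exists_fibreDimAt_nat f x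
  obtain ⟨b, hb⟩ := exists_fibreDimAt_nat g (f x)
  have hb' : FlatMor.fibreDimAt g (f.base x) = (b : WithBot ℕ∞) := hb
  rw [ha, hb']
  have : FlatMor.fibreDimAt (f ≫ g) x ≤ ((a + b : ℕ) : WithBot ℕ∞) := by
    apply fibreDimAt_le_of_max_tr_le' (f ≫ g) x
    intro z _ hsp _
    rw [Groth.Agent.Lib.Helper4.PropDim1.tr_comp]
    have h1 := (tr_le_fibreDimAt' f z).trans (fibreDimAt_mono_of_specializes f z x hsp)
    have h2 := (tr_le_fibreDimAt' g (f z)).trans
      (fibreDimAt_mono_of_specializes g (f z) (f x) (hsp.map f.continuous))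
    rw [ha] at h1
    rw [hb] at h2
    have h1' : tr f z ≤ a := by exact_mod_cast h1
    have h2' : tr g (f z) ≤ b := by exact_mod_cast h2
    omega
  refine this.trans (le_of_eq ?_)
  push_cast
  rfl

theorem fibreDimAt_comp_ge (x : X) (hU : ∀ z : X, z ⤳ x → EGA43.IsUnivOpenAt f z) :
    FlatMor.fibreDimAt f x + FlatMor.fibreDimAt g (f.base x) ≤ FlatMor.fibreDimAt (f ≫ g) x := by
  obtain ⟨z₁, hz₁, hz₁sp, -, ha⟩ := exists_fibreMax_tr_eq f x
  obtain ⟨y₁, hy₁, hy₁sp, -, hb⟩ := exists_fibreMax_tr_eq g (f x)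
  have hb' : FlatMor.fibreDimAt g (f.base x) = ((tr g y₁ : ℕ) : WithBot ℕ∞) := hb
  rw [ha, hb']
  obtain ⟨ξ, hξsp, hξf, hξtr⟩ := exists_generization_tr_ge f z₁ (hU z₁ hz₁sp) y₁
    (by rw [hz₁]; exact hy₁sp)
  have h1 := (tr_le_fibreDimAt' (f ≫ g) ξ).trans
    (fibreDimAt_mono_of_specializes (f ≫ g) ξ x (hξsp.trans hz₁sp))
  rw [Groth.Agent.Lib.Helper4.PropDim1.tr_comp, hξf] at h1
  refine le_trans ?_ h1
  have : tr f z₁ + tr g y₁ ≤ tr g y₁ + tr f ξ := by omega
  exact_mod_cast this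

end COMP

theorem S4992_main {X Y Z : Scheme.{u}} (f : X ⟶ Y) (g : Y ⟶ Z) [Smooth f] [Smooth g]
    (x : ↥X) :
    FlatMor.fibreDimAt (f ≫ g) x = FlatMor.fibreDimAt f x + FlatMor.fibreDimAt g (f.base x) := by
  apply le_antisymm (fibreDimAt_comp_le f g x)
  apply fibreDimAt_comp_ge f g x
  intro z _
  exact Groth.Agent.Lib.Helper4.UnivOpenT1.isUnivOpenAt_of_universallyOpen f z

section RD
variable {X Y : Scheme.{u}} (f : X ⟶ Y) [LocallyOfFiniteType f]

/-- relative dimension `r` in terms of the points maximal in their fibres -/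
theorem hasRelDim_iff_tr (r : ℕ) :
    Cyc.HasRelDim f r ↔
      ∀ z : X, (∀ z' : X, f z' = f z → z' ⤳ z → z' = z) → tr f z = r := by
  constructor
  · intro h z hmax
    have hw : IsMax (f.asFiber z) := isMax_of_forall _ (fiber_max_of_fibreMax f z hmax)
    have h3 := h (f z) _ (closure_mem_irreducibleComponents_of_isMax (f.fiber (f z)) _ hw)
    rw [dim_closure_of_field (Y.residueField (f z)) (f.fiberToSpecResidueField (f z))
      (f.asFiber z), tr_fiber, f.fiberι_asFiber z] at h3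
    exact_mod_cast h3
  · intro h y T hT
    obtain ⟨w', hw'max, rfl⟩ := exists_isMax_closure_eq (f.fiber y) T hT
    rw [dim_closure_of_field (Y.residueField y) (f.fiberToSpecResidueField y) w', tr_fiber]
    have hmax' := fibreMax_of_fiber_max f y w' (eq_of_isMax_of_specializes w' hw'max)
    rw [h _ hmax']

end RD

theorem S9357_main {X Y Z : Scheme.{u}} (f : X ⟶ Y) (g : Y ⟶ Z) [LocallyOfFiniteType f]
    [LocallyOfFiniteType g] (d e : ℕ) :
    ((∀ x : ↑X, FlatMor.fibreDimAt f x ≤ d) → (∀ y : ↑Y, FlatMor.fibreDimAt g y ≤ e) →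
        ∀ x : ↑X, FlatMor.fibreDimAt (f ≫ g) x ≤ (d + e : ℕ)) ∧
      (Cyc.HasRelDim f d → Cyc.HasRelDim g e → Flat f → Cyc.HasRelDim (f ≫ g) (d + e)) := by
  constructor
  · intro h1 h2 x
    refine (fibreDimAt_comp_le f g x).trans ?_
    push_cast
    exact add_le_add (h1 x) (h2 _)
  · intro h1 h2 hflat
    rw [hasRelDim_iff_tr] at h1 h2 ⊢
    intro z hmax
    rw [Groth.Agent.Lib.Helper4.PropDim1.tr_comp]
    have hzf : ∀ z' : X, f z' = f z → z' ⤳ z → z' = z := by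
      intro z' hz' hsp
      apply hmax z' _ hsp
      rw [Scheme.Hom.comp_apply, Scheme.Hom.comp_apply, hz']
    have hzg : ∀ y₁ : Y, g y₁ = g (f z) → y₁ ⤳ f z → y₁ = f z := by
      intro y₁ hy₁ hsp
      obtain ⟨z₁, hz₁, hz₁f⟩ := Flat.generalizingMap f hsp
      have := hmax z₁ (by rw [Scheme.Hom.comp_apply, Scheme.Hom.comp_apply, hz₁f, hy₁]) hz₁
      rw [← hz₁f, this]
    rw [h1 z hzf, h2 (f z) hzg]
    omega

end Groth.Agent.Lib.Helper4.FibDimComp1
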