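import Mathlib
import Groth.Prelude.Def_Cyc
import Groth.Agent.Lib.Helper4.JacDim1
import Groth.Prelude.Def_EGA43
import Groth.Agent.Lib.Helper4.FibreStalkDim1
import Groth.Agent.Lib.Helper4.DimFT1
import Groth.Agent.Lib.Helper4.DimFT2
import Groth.Agent.Lib.Helper4.Chev8
import Groth.Agent.Lib.Helper4.FibDim7
import Groth.Agent.Lib.Helper4.EffCartierDim1
import Groth.Agent.Lib.Helper4.JacDim4
import Groth.Agent.Lib.Helper4.Chev9
import Groth.Agent.Lib.Helper4.Chev10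
import Groth.Agent.Lib.Helper4.Chev11
import Groth.Agent.Lib.Helper4.Equi1
import Groth.Agent.Lib.Helper4.Equi2
import Groth.Agent.Lib.Helper4.Equi3
import Groth.Agent.Lib.Helper4.Equi4
import Groth.Agent.Lib.Helper4.Equi5
import Groth.Agent.Lib.Helper4.Equi6
import Groth.Agent.Lib.Helper4.Equi7
import Groth.Agent.Lib.Helper4.Aff1
import Groth.Agent.Lib.Helper4.Aff2
import Groth.Agent.Lib.Helper4.Equi10
import Groth.Agent.Lib.Helper4.Val1
import Groth.Agent.Lib.Helper4.BaseChg1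
import Groth.Agent.Lib.Helper4.UnivOpen1
import Groth.Agent.Lib.Helper4.FibClosure1
import Groth.Agent.Lib.Helper4.OpenNoeth1
import Groth.Agent.Lib.Helper4.SecComp1
import Groth.Agent.Lib.Helper4.SecComp2
import Groth.Agent.Lib.Helper4.UnivOpen2
import Groth.Agent.Lib.Helper4.UnivOpenAt
import Groth.Agent.Lib.Helper4.RegularLocalCopy
import Groth.Agent.Lib.Helper4.ZMTNormalPt1
import Groth.Agent.Lib.Helper4.LocFinComp1
import Groth.Agent.Lib.Helper4.SecComp3
import Groth.Agent.Lib.Helper4.PropDim1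
import Groth.Prelude.Def_FDesc
import Groth.Prelude.Def_MoreMor
import Groth.Agent.Lib.Helper4.ChevCrit1
import Groth.Agent.Lib.Helper4.ChevCrit2
import Groth.Agent.Lib.Helper4.ChevCrit3
import Groth.Agent.Lib.Helper4.IrrCompDomain1
import Groth.Agent.Lib.Helper4.ChevCrit4
import Groth.Agent.Lib.Helper4.ChevCrit5
import Groth.Agent.Lib.Helper4.ChevCrit6
import Groth.Agent.Lib.Helper4.ChevCrit7
import Groth.Agent.Lib.Helper4.DedekindOpen1
import Groth.Agent.Lib.Helper4.UnivOpenT1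
import Groth.Agent.Lib.Helper4.DvrFlat1
import Groth.Agent.Lib.Helper4.SatChain1
import Groth.Agent.Lib.Helper4.FlatDimK1
import Groth.Agent.Lib.Helper4.BaseChgMax1
import Groth.Agent.Lib.Helper4.ProdDim1
import Groth.Agent.Lib.Helper4.FibDimBC1
import Groth.Agent.Lib.Helper4.FibMap1
import Groth.Agent.Lib.Helper4.GenFib1
import Groth.Agent.Lib.Helper4.EquiBC1
import Groth.Agent.Lib.Helper4.GenEqui1
import Groth.Agent.Lib.Helper4.LocNoethFib1
import Groth.Agent.Lib.Helper4.FibDimBC2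
import Groth.Agent.Lib.Helper4.FibDimComp1

/-!
# dimension of the zero locus of a function over a field (S4714); Hauptidealsatz on schemes (helper4)
-/

set_option backward.isDefEq.respectTransparency.types false
set_option synthInstance.maxHeartbeats 400000
set_option autoImplicit false
set_option linter.unusedSectionVars false
set_option linter.style.haveILetI false
set_option linter.unusedSimpArgs false
universe u v w
open CategoryTheory CategoryTheory.Limits AlgebraicGeometry TopologicalSpace IsLocalRing Opposite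
open Cardinal AffineSpace MvPolynomial
open Groth.Agent.Lib.Helper4.DimIneq1 Groth.Agent.Lib.Helper4.DimFT2 Groth.Agent.Lib.Helper4.Catenary1
open Groth.Agent.Lib.Helper4.DimEq1 Groth.Agent.Lib.Helper4.DimIneq2 Groth.Agent.Lib.Helper4.DimEq2
open Groth.Agent.Lib.Helper4.DimIneq3 Groth.Agent.Lib.Helper4.DimIneq4
open Groth.Agent.Lib.Helper4.NormFibre2 Groth.Agent.Lib.Helper4.RadBir3 Groth.Agent.Lib.Helper4.DimFT3
open Groth.Agent.Lib.Helper4.FibDim1 Groth.Agent.Lib.Helper4.FibDim2 Groth.Agent.Lib.Helper4.LocUC1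
open Groth.Agent.Lib.Helper4.FibDim3 Groth.Agent.Lib.Helper4.FibDim4 Groth.Agent.Lib.Helper4.FibDim5
open Groth.Agent.Lib.Helper4.FibDim6 Groth.Agent.Lib.Helper4.FibDim7 Groth.Agent.Lib.Helper4.JacDim1
open Groth.Agent.Lib.Helper4.DimFT1
open Groth.Agent.Lib.Helper4.Chev2 Groth.Agent.Lib.Helper4.Chev5 Groth.Agent.Lib.Helper4.Chev6 Groth.Agent.Lib.Helper4.Chev8
open Groth.Agent.Lib.Helper4.JacDim4 Groth.Agent.Lib.Helper4.EffCartierDim1
open Groth.Agent.Lib.Helper4.Chev9 Groth.Agent.Lib.Helper4.Chev4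
open Groth.Agent.Lib.Helper4.Chev10 Groth.Agent.Lib.Helper4.Chev11 Groth.Agent.Lib.Helper4.Chev3 Groth.Agent.Lib.Helper4.Equi1 Groth.Agent.Lib.Helper4.Equi2 Groth.Agent.Lib.Helper4.OpenAt1 Groth.Agent.Lib.Helper4.Equi3 Groth.Agent.Lib.Helper4.Equi4 Groth.Agent.Lib.Helper4.Equi5 Groth.Agent.Lib.Helper4.Equi6 Groth.Agent.Lib.Helper4.Equi7 Groth.Agent.Lib.Helper4.Aff1 Groth.Agent.Lib.Helper4.Aff2 Groth.Agent.Lib.Helper4.Equi10 Groth.Agent.Lib.Helper4.Val1 Groth.Agent.Lib.Helper4.BaseChg1 Groth.Agent.Lib.Helper4.UnivOpen1 Groth.Agent.Lib.Helper4.FibClosure1 Groth.Agent.Lib.Helper4.OpenNoeth1 Groth.Agent.Lib.Helper4.SecComp1 Groth.Agent.Lib.Helper4.SecComp2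
open Groth.Agent.Lib.Helper4.SecComp3 Groth.Agent.Lib.Helper4.PropDim1 Groth.Agent.Lib.Helper4.ZMTNormalPt1 Groth.Agent.Lib.Helper4.UO Groth.Agent.Lib.Helper4.UOp
open Groth.Agent.Lib.Helper4.ChevCrit1 Groth.Agent.Lib.Helper4.ChevCrit2 Groth.Agent.Lib.Helper4.ChevCrit3
open Groth.Agent.Lib.Helper4.IrrCompDomain1 Groth.Agent.Lib.Helper4.RadBir1
open Groth.Agent.Lib.Helper4.ChevCrit4
open Groth.Agent.Lib.Helper4.ChevCrit5
open Groth.Agent.Lib.Helper4.DedekindOpen1 Groth.Agent.Lib.Helper4.UnivOpenT1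
open Groth.Agent.Lib.Helper4.ChevCrit7
open Groth.Agent.Lib.Helper4.DvrFlat1 Groth.Agent.Lib.Helper4.FlatDimK1 Groth.Agent.Lib.Helper4.BaseChgMax1 Groth.Agent.Lib.Helper4.ProdDim1 Groth.Agent.Lib.Helper4.FibDimBC1 Groth.Agent.Lib.Helper4.FibMap1 Groth.Agent.Lib.Helper4.GenFib1 Groth.Agent.Lib.Helper4.EquiBC1 Groth.Agent.Lib.Helper4.GenEqui1 Groth.Agent.Lib.Helper4.LocNoethFib1 Groth.Agent.Lib.Helper4.FibDimBC2 Groth.Agent.Lib.Helper4.FibDimComp1

namespace Groth.Agent.Lib.Helper4.HypDim1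
section RK
/-- ring level: a minimal prime over `P + (a)` has height one modulo `P` when `a ∉ P` -/
theorem height_map_mk_eq_one {B : Type*} [CommRing B] [IsNoetherianRing B] (P : Ideal B)
    [hP : P.IsPrime] (a : B) (ha : a ∉ P) (Q : Ideal B)
    (hQ : Q ∈ (P ⊔ Ideal.span {a}).minimalPrimes) :
    (Q.map (Ideal.Quotient.mk P)).height = 1 := by
  haveI hQp : Q.IsPrime := hQ.1.1
  have hPQ : P ≤ Q := le_sup_left.trans hQ.1.2
  have haQ : a ∈ Q := hQ.1.2 (Ideal.mem_sup_right (Ideal.mem_span_singleton_self a))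
  haveI := isPrime_map_mk P Q hPQ
  haveI : IsDomain (B ⧸ P) := Ideal.Quotient.isDomain P
  apply le_antisymm
  · have hmem : Q.map (Ideal.Quotient.mk P) ∈
        (Ideal.span {Ideal.Quotient.mk P a}).minimalPrimes := by
      have h1 := Ideal.minimalPrimes_map_of_surjective (f := Ideal.Quotient.mk P)
        Ideal.Quotient.mk_surjective (Ideal.span {a})
      rw [Ideal.map_span, Set.image_singleton, Ideal.mk_ker, sup_comm] at h1
      rw [h1]
      exact ⟨Q, hQ, rfl⟩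
    exact Ideal.height_le_one_of_isPrincipal_of_mem_minimalPrimes _ _ hmem
  · rw [Order.one_le_iff_pos, pos_iff_ne_zero]
    intro h0
    have h2 : Q.map (Ideal.Quotient.mk P) = ⊥ := Ideal.height_eq_zero_iff_eq_bot.mp h0
    have h4 : Ideal.Quotient.mk P a ∈ Q.map (Ideal.Quotient.mk P) := Ideal.mem_map_of_mem _ haQ
    rw [h2, Ideal.mem_bot, Ideal.Quotient.eq_zero_iff_mem] at h4
    exact ha h4

end RK

section HS

theorem mem_zeroLocus_top_iff {X : Scheme.{u}} (f : Γ(X, ⊤)) {U : X.Opens} (hU : IsAffineOpen U)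
    (t : X) (ht : t ∈ U) :
    t ∈ X.zeroLocus (U := ⊤) {f} ↔
      (X.presheaf.map (homOfLE (le_top : U ≤ ⊤)).op).hom f ∈ (hU.primeIdealOf ⟨t, ht⟩).asIdeal := by
  rw [mem_primeIdealOf_iff hU t ht, Scheme.basicOpen_res, Scheme.mem_zeroLocus_iff]
  constructor
  · intro h hmem
    exact h f rfl hmem.2
  · intro h g hg hmem
    rw [Set.mem_singleton_iff] at hg
    subst hg
    exact h ⟨ht, hmem⟩

/-- Krull's Hauptidealsatz on a scheme locally of finite type over a field: between a point `ξ`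
outside the zero locus of a function and a specialization `x` inside it, there is a point of the
zero locus whose residual transcendence degree is one less than that of `ξ` -/
theorem exists_hypersurface_point (k : Type u) [Field k] {X : Scheme.{u}}
    (q : X ⟶ Spec (CommRingCat.of k)) [LocallyOfFiniteType q] (f : Γ(X, ⊤)) (ξ x : X)
    (hsp : ξ ⤳ x) (hξ : ξ ∉ X.zeroLocus (U := ⊤) {f}) (hx : x ∈ X.zeroLocus (U := ⊤) {f}) :
    ∃ y : X, ξ ⤳ y ∧ y ⤳ x ∧ y ∈ X.zeroLocus (U := ⊤) {f} ∧ tr q y + 1 = tr q ξ := by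
  obtain ⟨V, hVdef⟩ : ∃ V : (Spec (CommRingCat.of k)).Opens, V = ⊤ := ⟨_, rfl⟩
  have hV : IsAffineOpen V := by rw [hVdef]; exact isAffineOpen_top _
  have hsV : q x ∈ V := by rw [hVdef]; trivial
  obtain ⟨U, hU, hxU, hUV⟩ := exists_isAffineOpen_mem_and_subset (U := q ⁻¹ᵁ V) (x := x) hsV
  have hξU : ξ ∈ U := hsp.mem_open U.2 hxU
  letI alg : Algebra Γ(Spec (CommRingCat.of k), V) Γ(X, U) := (q.appLE V U hUV).hom.toAlgebra
  haveI : IsLocallyNoetherian (Spec (CommRingCat.of k)) := inferInstance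
  haveI : IsNoetherianRing Γ(Spec (CommRingCat.of k), V) :=
    IsLocallyNoetherian.component_noetherian ⟨V, hV⟩
  haveI : Algebra.FiniteType Γ(Spec (CommRingCat.of k), V) Γ(X, U) :=
    LocallyOfFiniteType.finiteType_appLE q hV hU hUV
  haveI : IsNoetherianRing Γ(X, U) :=
    Algebra.FiniteType.isNoetherianRing Γ(Spec (CommRingCat.of k), V) Γ(X, U)
  have e : Γ(Spec (CommRingCat.of k), V) ≃+* k := by
    rw [hVdef]
    exact (Scheme.ΓSpecIso (CommRingCat.of k)).commRingCatIsoToRingEquiv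
  have hUCA : UC Γ(Spec (CommRingCat.of k), V) := by
    letI algk : Algebra k Γ(Spec (CommRingCat.of k), V) := e.symm.toRingHom.toAlgebra
    haveI : Algebra.FiniteType k Γ(Spec (CommRingCat.of k), V) := by
      apply Algebra.FiniteType.of_surjective (Algebra.ofId k Γ(Spec (CommRingCat.of k), V))
      intro a
      exact ⟨e a, e.symm_apply_apply a⟩
    exact uc_of_finiteType k Γ(Spec (CommRingCat.of k), V)
      (uc_of_isUniversallyCatenary k (isUniversallyCatenary_field k))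
  -- the function in the chart
  obtain ⟨a, hadef⟩ : ∃ a : Γ(X, U), a = (X.presheaf.map (homOfLE (le_top : U ≤ ⊤)).op).hom f :=
    ⟨_, rfl⟩
  have haξ : a ∉ (hU.primeIdealOf ⟨ξ, hξU⟩).asIdeal := by
    rw [hadef, ← mem_zeroLocus_top_iff f hU ξ hξU]
    exact hξ
  have hax : a ∈ (hU.primeIdealOf ⟨x, hxU⟩).asIdeal := by
    rw [hadef, ← mem_zeroLocus_top_iff f hU x hxU]
    exact hx
  have hPM := (specializes_iff_primeIdealOf_le hU ⟨ξ, hξU⟩ ⟨x, hxU⟩).mp hsp
  have hIM : (hU.primeIdealOf ⟨ξ, hξU⟩).asIdeal ⊔ Ideal.span {a} ≤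
      (hU.primeIdealOf ⟨x, hxU⟩).asIdeal :=
    sup_le hPM ((Ideal.span_singleton_le_iff_mem _).mpr hax)
  obtain ⟨Q, hQmin, hQM⟩ := Ideal.exists_minimalPrimes_le hIM
  haveI hQp : Q.IsPrime := hQmin.1.1
  have hPQ : (hU.primeIdealOf ⟨ξ, hξU⟩).asIdeal ≤ Q := le_sup_left.trans hQmin.1.2
  have haQ : a ∈ Q := hQmin.1.2 (Ideal.mem_sup_right (Ideal.mem_span_singleton_self a))
  have hht := height_map_mk_eq_one (hU.primeIdealOf ⟨ξ, hξU⟩).asIdeal a haξ Q hQmin
  -- the point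
  obtain ⟨y, hydef⟩ : ∃ y : X, y = hU.fromSpec ⟨Q, hQp⟩ := ⟨_, rfl⟩
  have hyU : y ∈ U := by rw [hydef]; exact fromSpec_mem hU _
  have hyQ : (hU.primeIdealOf ⟨y, hyU⟩).asIdeal = Q := by
    have := primeIdealOf_fromSpec hU ⟨Q, hQp⟩
    have h2 : hU.primeIdealOf ⟨y, hyU⟩ =
        hU.primeIdealOf ⟨hU.fromSpec ⟨Q, hQp⟩, fromSpec_mem hU _⟩ := by
      congr 1
      exact Subtype.ext hydef
    rw [h2, this]
  refine ⟨y, ?_, ?_, ?_, ?_⟩
  · rw [specializes_iff_primeIdealOf_le hU ⟨ξ, hξU⟩ ⟨y, hyU⟩, hyQ]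
    exact hPQ
  · rw [specializes_iff_primeIdealOf_le hU ⟨y, hyU⟩ ⟨x, hxU⟩, hyQ]
    exact hQM
  · rw [mem_zeroLocus_top_iff f hU y hyU, hyQ, ← hadef]
    exact haQ
  · haveI hlo := liesOver_chart q hV hU hUV y hyU rfl
    haveI hloξ := liesOver_chart q hV hU hUV ξ hξU rfl
    have hPy : (hU.primeIdealOf ⟨ξ, hξU⟩).asIdeal ≤ (hU.primeIdealOf ⟨y, hyU⟩).asIdeal := by
      rw [hyQ]; exact hPQ
    have key := dim_eq_rel Γ(Spec (CommRingCat.of k), V) Γ(X, U) hUCA
      (hV.primeIdealOf ⟨q y, hUV hyU⟩).asIdeal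
      (hU.primeIdealOf ⟨y, hyU⟩).asIdeal (hU.primeIdealOf ⟨ξ, hξU⟩).asIdeal hPy
    rw [tr_chart q hV hU hUV y hyU rfl] at key
    have h1 : Algebra.trdeg
        (Γ(Spec (CommRingCat.of k), V) ⧸
          (hU.primeIdealOf ⟨ξ, hξU⟩).asIdeal.under Γ(Spec (CommRingCat.of k), V))
        (Γ(X, U) ⧸ (hU.primeIdealOf ⟨ξ, hξU⟩).asIdeal) = (tr q ξ : Cardinal.{u}) := by
      rw [← tr_chart q hV hU hUV ξ hξU rfl]
      haveI : (hU.primeIdealOf ⟨ξ, hξU⟩).asIdeal.LiesOver
        ((hU.primeIdealOf ⟨ξ, hξU⟩).asIdeal.under Γ(Spec (CommRingCat.of k), V)) := ⟨rfl⟩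
      exact trdeg_quot_congr _ _ _ _ (by rw [hloξ.over]) rfl
    rw [h1] at key
    haveI : ((hU.primeIdealOf ⟨ξ, hξU⟩).asIdeal.under Γ(Spec (CommRingCat.of k), V)).IsPrime :=
      Ideal.comap_isPrime _ _
    have hbot : ∀ P : PrimeSpectrum Γ(Spec (CommRingCat.of k), V),
        (hU.primeIdealOf ⟨ξ, hξU⟩).asIdeal.under Γ(Spec (CommRingCat.of k), V) ≤ P.asIdeal := by
      intro P
      rw [ideal_eq_bot_of_ringEquiv_field e
        ((hU.primeIdealOf ⟨ξ, hξU⟩).asIdeal.under Γ(Spec (CommRingCat.of k), V))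
        (Ideal.IsPrime.ne_top inferInstance)]
      exact bot_le
    rw [height_map_mk_of_forall_le _ _ hbot] at key
    haveI : Nontrivial Γ(Spec (CommRingCat.of k), V) := e.nontrivial
    have h0 : (hV.primeIdealOf ⟨q y, hUV hyU⟩).asIdeal.height = 0 := by
      rw [ideal_eq_bot_of_ringEquiv_field e (hV.primeIdealOf ⟨q y, hUV hyU⟩).asIdeal
        (Ideal.IsPrime.ne_top inferInstance)]
      exact Ideal.height_bot
    have hht' : ((hU.primeIdealOf ⟨y, hyU⟩).asIdeal.map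
        (Ideal.Quotient.mk (hU.primeIdealOf ⟨ξ, hξU⟩).asIdeal)).height = 1 := by
      rw [hyQ]; exact hht
    rw [h0, hht'] at key
    have : ((1 + tr q y : ℕ) : Cardinal.{u}) = ((tr q ξ : ℕ) : Cardinal.{u}) := by
      push_cast
      simpa using key
    have := Nat.cast_injective this
    omega

end HS

section MAIN4714

/-- a maximal point of a locally Noetherian scheme lying in a closed set lies in its interior -/
theorem not_max_of_interior_empty (X : Scheme.{u}) [IsLocallyNoetherian X] (Y : Set X)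
    (hYc : IsClosed Y) (hY : interior Y = ∅) (y : X) (hy : y ∈ Y) :
    ¬ ∀ ξ : X, ξ ⤳ y → ξ = y := by
  intro hmax
  obtain ⟨W₀, hW₀, hyW₀, -⟩ := exists_isAffineOpen_mem_and_subset (U := (⊤ : X.Opens))
    (x := y) trivial
  haveI : IsNoetherianRing Γ(X, W₀) := IsLocallyNoetherian.component_noetherian ⟨W₀, hW₀⟩
  haveI : NoetherianSpace ↥(W₀ : Scheme.{u}) := noetherianSpace_of_isAffineOpen W₀ hW₀
  obtain ⟨U₁, hU₁o, hyU₁, hU₁⟩ := exists_nhd_max_gen (W₀ : Scheme.{u}) (fun w => W₀.ι w)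
    W₀.ι.continuous y
  have hsub : (W₀ : Set X) ∩ U₁ ⊆ Y := by
    rintro t ⟨htW₀, htU₁⟩
    obtain ⟨σ, hσt, hσy, -⟩ := hU₁ ⟨t, htW₀⟩ htU₁
    have h1 : W₀.ι σ ⤳ t := hσt.map W₀.ι.continuous
    rw [hmax _ hσy] at h1
    exact h1.mem_closed hYc hy
  have hmem : y ∈ interior Y :=
    interior_maximal hsub (W₀.2.inter hU₁o) ⟨hyW₀, hyU₁⟩
  rw [hY] at hmem
  exact hmem

theorem S4714_main (k : Type u) [Field k] (X : Scheme.{u}) (p : X ⟶ Spec (CommRingCat.of k))
    [LocallyOfFiniteType p] (f : Γ(X, ⊤)) (hY : interior (X.zeroLocus (U := ⊤) {f}) = ∅) :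
    topologicalKrullDim (X.zeroLocus (U := ⊤) {f}) + 1 ≤ topologicalKrullDim X ∧
      ((∃ Z ∈ irreducibleComponents (X : Type u), topologicalKrullDim Z = topologicalKrullDim X) →
        (∀ Z ∈ irreducibleComponents (X : Type u), topologicalKrullDim Z = topologicalKrullDim X →
          (Z ∩ X.zeroLocus (U := ⊤) {f}).Nonempty) →
        topologicalKrullDim (X.zeroLocus (U := ⊤) {f}) + 1 = topologicalKrullDim X) := by
  haveI : IsLocallyNoetherian X := LocallyOfFiniteType.isLocallyNoetherian p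
  have hYc : IsClosed (X.zeroLocus (U := ⊤) {f}) := X.zeroLocus_isClosed _
  haveI : QuasiSober ↥(X.zeroLocus (U := ⊤) {f}) := hYc.isClosedEmbedding_subtypeVal.quasiSober
  have hsub1 : ∀ a b : ↥(Spec (CommRingCat.of k)), a = b :=
    fun a b => Subsingleton.elim (α := PrimeSpectrum k) a b
  have hB : ∀ y ∈ X.zeroLocus (U := ⊤) {f},
      ((tr p y : ℕ) : WithBot ℕ∞) + ((1 : ℕ) : WithBot ℕ∞) ≤ topologicalKrullDim X := by
    intro y hy
    have hnm := not_max_of_interior_empty X _ hYc hY y hy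
    push Not at hnm
    obtain ⟨ξ, hξy, hne⟩ := hnm
    have h1 := tr_lt_of_specializes p ξ y hξy hne (hsub1 _ _)
    have h2 : topologicalKrullDim ↥(closure ({ξ} : Set X)) ≤ topologicalKrullDim X :=
      topologicalKrullDim_subspace_le _ _
    rw [dim_closure_of_field k p ξ] at h2
    refine le_trans ?_ h2
    have : tr p y + 1 ≤ tr p ξ := h1
    exact_mod_cast this
  have part1 : topologicalKrullDim (X.zeroLocus (U := ⊤) {f}) + 1 ≤ topologicalKrullDim X := by
    have h1 : topologicalKrullDim (X.zeroLocus (U := ⊤) {f}) + ((1 : ℕ) : WithBot ℕ∞) ≤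
        topologicalKrullDim X := by
      rw [add_le_iff_le_wsub]
      apply tdim_le_of_forall
      intro t ht
      refine ⟨t, specializes_rfl, ?_⟩
      rw [dim_closure_of_field k p t, ← add_le_iff_le_wsub]
      exact hB t ht
    simpa using h1
  refine ⟨part1, ?_⟩
  rintro ⟨Z, hZ, hZdim⟩ hmeet
  apply le_antisymm part1
  obtain ⟨x, hxZ, hxY⟩ := hmeet Z hZ hZdim
  obtain ⟨ξ, hξmax, rfl⟩ := exists_isMax_closure_eq X Z hZ
  have hξx : ξ ⤳ x := specializes_iff_mem_closure.mpr hxZ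
  have hξY : ξ ∉ X.zeroLocus (U := ⊤) {f} := by
    intro hξ
    exact not_max_of_interior_empty X _ hYc hY ξ hξ (eq_of_isMax_of_specializes ξ hξmax)
  obtain ⟨y, -, -, hyY, hytr⟩ := exists_hypersurface_point k p f ξ x hξx hξY hxY
  rw [← hZdim, dim_closure_of_field k p ξ, ← hytr]
  have h1 : topologicalKrullDim ↥(closure ({y} : Set X)) ≤
      topologicalKrullDim (X.zeroLocus (U := ⊤) {f}) :=
    Groth.Agent.Lib.Helper4.DimFT2.topologicalKrullDim_mono
      (hYc.closure_subset_iff.mpr (Set.singleton_subset_iff.mpr hyY))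
  rw [dim_closure_of_field k p y] at h1
  calc ((tr p y + 1 : ℕ) : WithBot ℕ∞) = ((tr p y : ℕ) : WithBot ℕ∞) + 1 := by push_cast; rfl
    _ ≤ _ := add_le_add_left h1 _

end MAIN4714
end Groth.Agent.Lib.Helper4.HypDim1
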