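import Mathlib
import Groth.Prelude.Def_Cyc
import Groth.Agent.Lib.Helper4.JacDim1
import Groth.Prelude.Def_EGA43
import Groth.Agent.Lib.Helper4.FibreStalkDim1
import Groth.Agent.Lib.Helper4.DimFT1
import Groth.Agent.Lib.Helper4.DimFT2
import Groth.Agent.Lib.Helper4.Chev8
import Groth.Agent.Lib.Helper4.FibDim7
import Groth.Agent.Lib.Helper4.EffCartierDim1
import Groth.Agent.Lib.Helper4.JacDim4
import Groth.Agent.Lib.Helper4.Chev9
import Groth.Agent.Lib.Helper4.Chev10
import Groth.Agent.Lib.Helper4.Chev11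
import Groth.Agent.Lib.Helper4.Equi1
import Groth.Agent.Lib.Helper4.Equi2
import Groth.Agent.Lib.Helper4.Equi3
import Groth.Agent.Lib.Helper4.Equi4
import Groth.Agent.Lib.Helper4.Equi5
import Groth.Agent.Lib.Helper4.Equi6
import Groth.Agent.Lib.Helper4.Equi7
import Groth.Agent.Lib.Helper4.Aff1
import Groth.Agent.Lib.Helper4.Aff2
import Groth.Agent.Lib.Helper4.Equi10
import Groth.Agent.Lib.Helper4.Val1
import Groth.Agent.Lib.Helper4.BaseChg1
import Groth.Agent.Lib.Helper4.UnivOpen1
import Groth.Agent.Lib.Helper4.FibClosure1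
import Groth.Agent.Lib.Helper4.OpenNoeth1
import Groth.Agent.Lib.Helper4.SecComp1
import Groth.Agent.Lib.Helper4.SecComp2
import Groth.Agent.Lib.Helper4.UnivOpen2
import Groth.Agent.Lib.Helper4.UnivOpenAt
import Groth.Agent.Lib.Helper4.RegularLocalCopy
import Groth.Agent.Lib.Helper4.ZMTNormalPt1
import Groth.Agent.Lib.Helper4.LocFinComp1
import Groth.Agent.Lib.Helper4.SecComp3
import Groth.Agent.Lib.Helper4.PropDim1
import Groth.Prelude.Def_FDesc
import Groth.Prelude.Def_MoreMor
import Groth.Agent.Lib.Helper4.ChevCrit1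
import Groth.Agent.Lib.Helper4.ChevCrit2
import Groth.Agent.Lib.Helper4.ChevCrit3
import Groth.Agent.Lib.Helper4.IrrCompDomain1
import Groth.Agent.Lib.Helper4.ChevCrit4
import Groth.Agent.Lib.Helper4.ChevCrit5
import Groth.Agent.Lib.Helper4.ChevCrit6
import Groth.Agent.Lib.Helper4.ChevCrit7
import Groth.Agent.Lib.Helper4.DedekindOpen1
import Groth.Agent.Lib.Helper4.UnivOpenT1
import Groth.Agent.Lib.Helper4.DvrFlat1
import Groth.Agent.Lib.Helper4.SatChain1
import Groth.Agent.Lib.Helper4.FlatDimK1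
import Groth.Agent.Lib.Helper4.BaseChgMax1
import Groth.Agent.Lib.Helper4.ProdDim1
import Groth.Agent.Lib.Helper4.FibDimBC1
import Groth.Agent.Lib.Helper4.FibMap1
import Groth.Agent.Lib.Helper4.GenFib1
import Groth.Agent.Lib.Helper4.EquiBC1
import Groth.Agent.Lib.Helper4.GenEqui1
import Groth.Agent.Lib.Helper4.LocNoethFib1
import Groth.Agent.Lib.Helper4.FibDimBC2
import Groth.Agent.Lib.Helper4.FibDimComp1
import Groth.Agent.Lib.Helper4.HypDim1

/-!
# delta invariant under faithfully flat local base change (S5196) (helper4)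
-/

set_option backward.isDefEq.respectTransparency.types false
set_option synthInstance.maxHeartbeats 400000
set_option autoImplicit false
set_option linter.unusedSectionVars false
set_option linter.style.haveILetI false
set_option linter.unusedSimpArgs false
universe u v w
open CategoryTheory CategoryTheory.Limits AlgebraicGeometry TopologicalSpace IsLocalRing Opposite
open Cardinal AffineSpace MvPolynomial
open Groth.Agent.Lib.Helper4.DimIneq1 Groth.Agent.Lib.Helper4.DimFT2 Groth.Agent.Lib.Helper4.Catenary1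
open Groth.Agent.Lib.Helper4.DimEq1 Groth.Agent.Lib.Helper4.DimIneq2 Groth.Agent.Lib.Helper4.DimEq2
open Groth.Agent.Lib.Helper4.DimIneq3 Groth.Agent.Lib.Helper4.DimIneq4
open Groth.Agent.Lib.Helper4.NormFibre2 Groth.Agent.Lib.Helper4.RadBir3 Groth.Agent.Lib.Helper4.DimFT3
open Groth.Agent.Lib.Helper4.FibDim1 Groth.Agent.Lib.Helper4.FibDim2 Groth.Agent.Lib.Helper4.LocUC1
open Groth.Agent.Lib.Helper4.FibDim3 Groth.Agent.Lib.Helper4.FibDim4 Groth.Agent.Lib.Helper4.FibDim5
open Groth.Agent.Lib.Helper4.FibDim6 Groth.Agent.Lib.Helper4.FibDim7 Groth.Agent.Lib.Helper4.JacDim1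
open Groth.Agent.Lib.Helper4.DimFT1
open Groth.Agent.Lib.Helper4.Chev2 Groth.Agent.Lib.Helper4.Chev5 Groth.Agent.Lib.Helper4.Chev6 Groth.Agent.Lib.Helper4.Chev8
open Groth.Agent.Lib.Helper4.JacDim4 Groth.Agent.Lib.Helper4.EffCartierDim1
open Groth.Agent.Lib.Helper4.Chev9 Groth.Agent.Lib.Helper4.Chev4
open Groth.Agent.Lib.Helper4.Chev10 Groth.Agent.Lib.Helper4.Chev11 Groth.Agent.Lib.Helper4.Chev3 Groth.Agent.Lib.Helper4.Equi1 Groth.Agent.Lib.Helper4.Equi2 Groth.Agent.Lib.Helper4.OpenAt1 Groth.Agent.Lib.Helper4.Equi3 Groth.Agent.Lib.Helper4.Equi4 Groth.Agent.Lib.Helper4.Equi5 Groth.Agent.Lib.Helper4.Equi6 Groth.Agent.Lib.Helper4.Equi7 Groth.Agent.Lib.Helper4.Aff1 Groth.Agent.Lib.Helper4.Aff2 Groth.Agent.Lib.Helper4.Equi10 Groth.Agent.Lib.Helper4.Val1 Groth.Agent.Lib.Helper4.BaseChg1 Groth.Agent.Lib.Helper4.UnivOpen1 Groth.Agent.Lib.Helper4.FibClosure1 Groth.Agent.Lib.Helper4.OpenNoeth1 Groth.Agent.Lib.Helper4.SecComp1 Groth.Agent.Lib.Helper4.SecComp2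
open Groth.Agent.Lib.Helper4.SecComp3 Groth.Agent.Lib.Helper4.PropDim1 Groth.Agent.Lib.Helper4.ZMTNormalPt1 Groth.Agent.Lib.Helper4.UO Groth.Agent.Lib.Helper4.UOp
open Groth.Agent.Lib.Helper4.ChevCrit1 Groth.Agent.Lib.Helper4.ChevCrit2 Groth.Agent.Lib.Helper4.ChevCrit3
open Groth.Agent.Lib.Helper4.IrrCompDomain1 Groth.Agent.Lib.Helper4.RadBir1
open Groth.Agent.Lib.Helper4.ChevCrit4
open Groth.Agent.Lib.Helper4.ChevCrit5
open Groth.Agent.Lib.Helper4.DedekindOpen1 Groth.Agent.Lib.Helper4.UnivOpenT1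
open Groth.Agent.Lib.Helper4.ChevCrit7
open Groth.Agent.Lib.Helper4.DvrFlat1 Groth.Agent.Lib.Helper4.FlatDimK1 Groth.Agent.Lib.Helper4.BaseChgMax1 Groth.Agent.Lib.Helper4.ProdDim1 Groth.Agent.Lib.Helper4.FibDimBC1 Groth.Agent.Lib.Helper4.FibMap1 Groth.Agent.Lib.Helper4.GenFib1 Groth.Agent.Lib.Helper4.EquiBC1 Groth.Agent.Lib.Helper4.GenEqui1 Groth.Agent.Lib.Helper4.LocNoethFib1 Groth.Agent.Lib.Helper4.FibDimBC2 Groth.Agent.Lib.Helper4.FibDimComp1 Groth.Agent.Lib.Helper4.HypDim1

namespace Groth.Agent.Lib.Helper4.FFlatDelta1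

theorem ringKrullDim_quotient_eq_coheight {R : Type*} [CommRing R] (p : PrimeSpectrum R) :
    ringKrullDim (R ⧸ p.asIdeal) = Order.coheight p := by
  rw [ringKrullDim_quotient, Order.coheight_eq_krullDim_Ici]
  have : PrimeSpectrum.zeroLocus (R := R) p.asIdeal = Set.Ici p := by
    ext q
    simp only [PrimeSpectrum.mem_zeroLocus, SetLike.coe_subset_coe, Set.mem_Ici]
    rfl
  rw [this]

/-- going down gives a prime over `p` with at least the same coheight, given a prime over the
maximal ideal -/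
theorem exists_coheight_ge {A A' : Type*} [CommRing A] [CommRing A'] [IsLocalRing A]
    [IsLocalRing A'] [Algebra A A'] [Module.FaithfullyFlat A A'] (p : PrimeSpectrum A)
    (hfin : Order.coheight p ≠ ⊤) :
    ∃ p' : PrimeSpectrum A', PrimeSpectrum.comap (algebraMap A A') p' = p ∧
      Order.coheight p ≤ Order.coheight p' := by
  obtain ⟨n, hn⟩ := ENat.ne_top_iff_exists.mp hfin
  obtain ⟨l, hl0, hlen⟩ := Order.exists_series_of_le_coheight p (n := n) (by rw [← hn])
  obtain ⟨P, hP⟩ := PrimeSpectrum.comap_surjective_of_faithfullyFlat (A := A) (B := A') l.last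
  haveI : P.asIdeal.LiesOver l.last.asIdeal := by
    constructor
    rw [← hP]; rfl
  obtain ⟨L, hLlen, hLlast, hLmap⟩ := Ideal.exists_ltSeries_of_hasGoingDown l P.asIdeal
  refine ⟨L.head, ?_, ?_⟩
  · have h0 : (List.map (PrimeSpectrum.comap (algebraMap A A')) L.toList)[0]'(by simp) =
        l.toList[0]'(by simp) := by
      simp only [hLmap]
    rw [List.getElem_map, RelSeries.toList_getElem_zero_eq_head,
      RelSeries.toList_getElem_zero_eq_head] at h0
    rw [h0, hl0]
  · rw [← hn]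
    have := Order.length_le_coheight_head (p := L)
    rw [hLlen, hlen] at this
    exact this


theorem ringKrullDim_quotient_le {A A' : Type*} [CommRing A] [CommRing A'] [IsLocalRing A]
    [IsLocalRing A'] [IsNoetherianRing A] [IsNoetherianRing A'] [Algebra A A']
    (hloc : (maximalIdeal A').comap (algebraMap A A') = maximalIdeal A)
    (hfib : ∀ q : Ideal A', q.IsPrime → q.comap (algebraMap A A') = maximalIdeal A →
      q = maximalIdeal A')
    (p' : Ideal A') [p'.IsPrime] (p : Ideal A) [p.IsPrime] [p'.LiesOver p] :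
    ringKrullDim (A' ⧸ p') ≤ ringKrullDim (A ⧸ p) := by
  haveI : IsLocalRing (A ⧸ p) := IsLocalRing.of_surjective' (Ideal.Quotient.mk p)
    Ideal.Quotient.mk_surjective
  haveI : IsLocalRing (A' ⧸ p') := IsLocalRing.of_surjective' (Ideal.Quotient.mk p')
    Ideal.Quotient.mk_surjective
  have hS : (maximalIdeal (A' ⧸ p')).comap (Ideal.Quotient.mk p') = maximalIdeal A' :=
    IsLocalRing.eq_maximalIdeal
      (Ideal.comap_isMaximal_of_surjective _ Ideal.Quotient.mk_surjective)
  have hR : (maximalIdeal (A ⧸ p)).comap (Ideal.Quotient.mk p) = maximalIdeal A :=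
    IsLocalRing.eq_maximalIdeal
      (Ideal.comap_isMaximal_of_surjective _ Ideal.Quotient.mk_surjective)
  have hsq : (algebraMap (A ⧸ p) (A' ⧸ p')).comp (Ideal.Quotient.mk p) =
      (Ideal.Quotient.mk p').comp (algebraMap A A') := by
    ext a; rfl
  haveI : (maximalIdeal (A' ⧸ p')).LiesOver (maximalIdeal (A ⧸ p)) := by
    constructor
    apply Ideal.comap_injective_of_surjective _ (Ideal.Quotient.mk_surjective (I := p))
    rw [hR, Ideal.under_def, Ideal.comap_comap, hsq, ← Ideal.comap_comap, hS, hloc]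
  rw [← IsLocalRing.maximalIdeal_height_eq_ringKrullDim,
    ← IsLocalRing.maximalIdeal_height_eq_ringKrullDim]
  have key := Ideal.height_le_height_add_of_liesOver (maximalIdeal (A ⧸ p))
    (maximalIdeal (A' ⧸ p'))
  have h0 : ((maximalIdeal (A' ⧸ p')).map (Ideal.Quotient.mk
      ((maximalIdeal (A ⧸ p)).map (algebraMap (A ⧸ p) (A' ⧸ p'))))).height = 0 := by
    obtain ⟨J, hJ⟩ : ∃ J, J = (maximalIdeal (A ⧸ p)).map (algebraMap (A ⧸ p) (A' ⧸ p')) :=
      ⟨_, rfl⟩
    rw [← hJ]
    have hJle : J ≤ maximalIdeal (A' ⧸ p') := by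
      rw [hJ, Ideal.map_le_iff_le_comap]
      exact (Ideal.LiesOver.over (p := maximalIdeal (A ⧸ p))
        (P := maximalIdeal (A' ⧸ p'))).le
    have hall : ∀ Q : Ideal ((A' ⧸ p') ⧸ J), Q.IsPrime →
        Q = (maximalIdeal (A' ⧸ p')).map (Ideal.Quotient.mk J) := by
      intro Q hQ
      have hQS : Q.comap (Ideal.Quotient.mk J) = maximalIdeal (A' ⧸ p') := by
        apply Ideal.comap_injective_of_surjective _ (Ideal.Quotient.mk_surjective (I := p'))
        rw [hS]
        apply hfib _ (Ideal.IsPrime.comap _)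
        rw [Ideal.comap_comap, ← hsq, ← Ideal.comap_comap, ← hR]
        congr 1
        have hle : maximalIdeal (A ⧸ p) ≤
            (Q.comap (Ideal.Quotient.mk J)).comap (algebraMap (A ⧸ p) (A' ⧸ p')) := by
          rw [← Ideal.map_le_iff_le_comap, ← hJ]
          intro z hz
          rw [Ideal.mem_comap, Ideal.Quotient.eq_zero_iff_mem.mpr hz]
          exact Q.zero_mem
        exact ((IsLocalRing.maximalIdeal.isMaximal (A ⧸ p)).eq_of_le
          (Ideal.IsPrime.comap _).ne_top hle).symm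
      rw [← hQS, Ideal.map_comap_of_surjective _ Ideal.Quotient.mk_surjective]
    haveI hprime : ((maximalIdeal (A' ⧸ p')).map (Ideal.Quotient.mk J)).IsPrime := by
      apply Ideal.map_isPrime_of_surjective Ideal.Quotient.mk_surjective
      rw [Ideal.mk_ker]
      exact hJle
    rw [Ideal.height_eq_zero_iff]
    refine ⟨⟨hprime, bot_le⟩, ?_⟩
    intro Q hQ _
    rw [hall Q hQ.1]
  rw [h0, add_zero] at key
  exact_mod_cast key


theorem S5196_main (A A' : Type u) [CommRing A] [CommRing A'] [IsLocalRing A] [IsLocalRing A'] [IsNoetherianRing A] [IsNoetherianRing A'] [Algebra A A'] [Module.FaithfullyFlat A A'] (hfib : ∀ q : Ideal A', ∀ _ : q.IsPrime, q.comap (algebraMap A A') = IsLocalRing.maximalIdeal A → q = IsLocalRing.maximalIdeal A') (X : Scheme.{u}) (f : X ⟶ (Spec (CommRingCat.of A))) [LocallyOfFiniteType f] : (∀ x' : ↥(pullback f (Spec.map (CommRingCat.ofHom (algebraMap A A')))), @Algebra.trdeg ↑((Spec (CommRingCat.of A')).residueField ((pullback.snd f (Spec.map (CommRingCat.ofHom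 (algebraMap A A')))).base x')) ↑((pullback f (Spec.map (CommRingCat.ofHom (algebraMap A A')))).residueField x') _ _ ((pullback.snd f (Spec.map (CommRingCat.ofHom (algebraMap A A')))).residueFieldMap x').hom.toAlgebra ≤ @Algebra.trdeg ↑((Spec (CommRingCat.of A)).residueField (f.base ((pullback.fst f (Spec.map (CommRingCat.ofHom (algebraMap A A')))).base x'))) ↑(X.residueField ((pullback.fst f (Spec.map (CommRingCat.ofHom (algebraMap A A')))).base x')) _ _ (f.residueFieldMap ((pullback.fst f (Spec.map (CommRingCat.ofHom (algebraMap A A')))).base x')).hom.toAlgebra ∧ ringKrullDim (A' ⧸ ((pullback.snd f (Spec.map (CommRingCat.ofHom (algebraMap A A')))).base x').asIdeal) ≤ ringKrullDim (A ⧸ (f.base ((pullback.fst f (Spec.map (CommRingCat.ofHom (algebraMap A A')))).base x')).asIdeal)) ∧ (∀ x : X, ∃ x' : ↥(pullback f (Spec.map (CommRingCat.ofHom (algebraMap A A')))), (pullback.fst f (Spec.map (CommRingCat.ofHom (algebraMap A A')))).base x' = x ∧ @Algebra.trdeg ↑((Spec (CommRingCat.of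 A')).residueField ((pullback.snd f (Spec.map (CommRingCat.ofHom (algebraMap A A')))).base x')) ↑((pullback f (Spec.map (CommRingCat.ofHom (algebraMap A A')))).residueField x') _ _ ((pullback.snd f (Spec.map (CommRingCat.ofHom (algebraMap A A')))).residueFieldMap x').hom.toAlgebra = @Algebra.trdeg ↑((Spec (CommRingCat.of A)).residueField (f.base ((pullback.fst f (Spec.map (CommRingCat.ofHom (algebraMap A A')))).base x'))) ↑(X.residueField ((pullback.fst f (Spec.map (CommRingCat.ofHom (algebraMap A A')))).base x')) _ _ (f.residueFieldMap ((pullback.fst f (Spec.map (CommRingCat.ofHom (algebraMap A A')))).base x')).hom.toAlgebra ∧ ringKrullDim (A' ⧸ ((pullback.snd f (Spec.map (CommRingCat.ofHom (algebraMap A A')))).base x').asIdeal) = ringKrullDim (A ⧸ (f.base ((pullback.fst f (Spec.map (CommRingCat.ofHom (algebraMap A A')))).base x')).asIdeal)) := by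
  obtain ⟨g, hg⟩ : ∃ g, g = Spec.map (CommRingCat.ofHom (algebraMap A A')) := ⟨_, rfl⟩
  rw [← hg]
  have hloc : (maximalIdeal A').comap (algebraMap A A') = maximalIdeal A := by
    haveI : IsLocalHom (algebraMap A A') :=
      IsLocalHom.of_comap_surjective (algebraMap A A')
        PrimeSpectrum.comap_surjective_of_faithfullyFlat
    exact IsLocalRing.maximalIdeal_comap _
  have hgpt : ∀ s' : ↥(Spec (CommRingCat.of A')), (g s').asIdeal =
      s'.asIdeal.comap (algebraMap A A') := by
    intro s'; rw [hg]; rfl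
  have hdimle : ∀ x' : ↥(pullback f g),
      ringKrullDim (A' ⧸ ((pullback.snd f g) x').asIdeal) ≤
        ringKrullDim (A ⧸ (f ((pullback.fst f g) x')).asIdeal) := by
    intro x'
    have e : f (pullback.fst f g x') = g (pullback.snd f g x') := by
      rw [← Scheme.Hom.comp_apply, ← Scheme.Hom.comp_apply, pullback.condition]
    haveI : ((pullback.snd f g) x').asIdeal.LiesOver (f ((pullback.fst f g) x')).asIdeal := by
      constructor
      rw [e, hgpt]
    exact ringKrullDim_quotient_le hloc hfib _ _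
  refine ⟨fun x' => ⟨?_, hdimle x'⟩, fun x => ?_⟩
  · rw [tr_spec (pullback.snd f g) x', tr_spec f]
    exact_mod_cast tr_snd_le f g x'
  · -- choose a prime over `f x` with the same coheight
    obtain ⟨s, hs⟩ : ∃ s : PrimeSpectrum A, s = f x := ⟨_, rfl⟩
    have hfin : Order.coheight s ≠ ⊤ := by
      intro htop
      have h1 := ringKrullDim_quotient_eq_coheight s
      rw [htop] at h1
      have h2 : ringKrullDim (A ⧸ s.asIdeal) < ⊤ := ringKrullDim_lt_top
      rw [h1] at h2
      exact (lt_irrefl _ h2)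
    obtain ⟨s', hs', hco⟩ := exists_coheight_ge (A := A) (A' := A') s hfin
    have hgs : f x = g s' := by
      rw [← hs, ← hs', hg]; rfl
    obtain ⟨w, hw1, hw2, hw3⟩ := exists_tr_snd_ge f g x s' hgs
    refine ⟨w, hw1, ?_, ?_⟩
    · rw [tr_spec (pullback.snd f g) w, tr_spec f]
      have := tr_snd_le f g w
      rw [hw1] at this ⊢
      exact_mod_cast le_antisymm this hw3
    · refine le_antisymm (hdimle w) ?_
      rw [hw1, hw2, ← hs]
      have h1 := ringKrullDim_quotient_eq_coheight s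
      have h2 := ringKrullDim_quotient_eq_coheight s'
      rw [h1, h2]
      exact_mod_cast hco

end Groth.Agent.Lib.Helper4.FFlatDelta1
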