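import Mathlib
import Groth.Prelude.Def_Cyc
import Groth.Agent.Lib.Helper4.JacDim1
import Groth.Prelude.Def_EGA43
import Groth.Agent.Lib.Helper4.FibreStalkDim1
import Groth.Agent.Lib.Helper4.DimFT1
import Groth.Agent.Lib.Helper4.DimFT2
import Groth.Agent.Lib.Helper4.Chev8
import Groth.Agent.Lib.Helper4.FibDim7
import Groth.Agent.Lib.Helper4.EffCartierDim1
import Groth.Agent.Lib.Helper4.JacDim4
import Groth.Agent.Lib.Helper4.Chev9
import Groth.Agent.Lib.Helper4.Chev10
import Groth.Agent.Lib.Helper4.Chev11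
import Groth.Agent.Lib.Helper4.Equi1
import Groth.Agent.Lib.Helper4.Equi2
import Groth.Agent.Lib.Helper4.Equi3
import Groth.Agent.Lib.Helper4.Equi4
import Groth.Agent.Lib.Helper4.Equi5
import Groth.Agent.Lib.Helper4.Equi6
import Groth.Agent.Lib.Helper4.Equi7
import Groth.Agent.Lib.Helper4.Aff1
import Groth.Agent.Lib.Helper4.Aff2
import Groth.Agent.Lib.Helper4.Equi10
import Groth.Agent.Lib.Helper4.Val1
import Groth.Agent.Lib.Helper4.BaseChg1
import Groth.Agent.Lib.Helper4.UnivOpen1
import Groth.Agent.Lib.Helper4.FibClosure1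
import Groth.Agent.Lib.Helper4.OpenNoeth1
import Groth.Agent.Lib.Helper4.SecComp1
import Groth.Agent.Lib.Helper4.SecComp2
import Groth.Agent.Lib.Helper4.UnivOpen2
import Groth.Agent.Lib.Helper4.UnivOpenAt
import Groth.Agent.Lib.Helper4.RegularLocalCopy
import Groth.Agent.Lib.Helper4.ZMTNormalPt1
import Groth.Agent.Lib.Helper4.LocFinComp1
import Groth.Agent.Lib.Helper4.SecComp3
import Groth.Agent.Lib.Helper4.PropDim1
import Groth.Prelude.Def_FDesc
import Groth.Prelude.Def_MoreMor
import Groth.Agent.Lib.Helper4.ChevCrit1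
import Groth.Agent.Lib.Helper4.ChevCrit2
import Groth.Agent.Lib.Helper4.ChevCrit3
import Groth.Agent.Lib.Helper4.IrrCompDomain1
import Groth.Agent.Lib.Helper4.ChevCrit4
import Groth.Agent.Lib.Helper4.ChevCrit5
import Groth.Agent.Lib.Helper4.ChevCrit6
import Groth.Agent.Lib.Helper4.ChevCrit7
import Groth.Agent.Lib.Helper4.DedekindOpen1
import Groth.Agent.Lib.Helper4.UnivOpenT1
import Groth.Agent.Lib.Helper4.DvrFlat1
import Groth.Agent.Lib.Helper4.SatChain1
import Groth.Agent.Lib.Helper4.FlatDimK1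
import Groth.Agent.Lib.Helper4.BaseChgMax1
import Groth.Agent.Lib.Helper4.ProdDim1
import Groth.Agent.Lib.Helper4.FibDimBC1
import Groth.Agent.Lib.Helper4.FibMap1
import Groth.Agent.Lib.Helper4.GenFib1
import Groth.Agent.Lib.Helper4.EquiBC1
import Groth.Agent.Lib.Helper4.GenEqui1
import Groth.Agent.Lib.Helper4.LocNoethFib1
import Groth.Agent.Lib.Helper4.FibDimBC2
import Groth.Agent.Lib.Helper4.FibDimComp1
import Groth.Agent.Lib.Helper4.HypDim1
import Groth.Agent.Lib.Helper4.FFlatDelta1

/-!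
# dimension of schemes of finite type over a field via residual transcendence degrees (S10841, S17411, S14514, S10884, S10885) (helper4)
-/

set_option backward.isDefEq.respectTransparency.types false
set_option synthInstance.maxHeartbeats 400000
set_option autoImplicit false
set_option linter.unusedSectionVars false
set_option linter.style.haveILetI false
set_option linter.unusedSimpArgs false
universe u v w
open CategoryTheory CategoryTheory.Limits AlgebraicGeometry TopologicalSpace IsLocalRing Opposite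
open Cardinal AffineSpace MvPolynomial
open Groth.Agent.Lib.Helper4.DimIneq1 Groth.Agent.Lib.Helper4.DimFT2 Groth.Agent.Lib.Helper4.Catenary1
open Groth.Agent.Lib.Helper4.DimEq1 Groth.Agent.Lib.Helper4.DimIneq2 Groth.Agent.Lib.Helper4.DimEq2
open Groth.Agent.Lib.Helper4.DimIneq3 Groth.Agent.Lib.Helper4.DimIneq4
open Groth.Agent.Lib.Helper4.NormFibre2 Groth.Agent.Lib.Helper4.RadBir3 Groth.Agent.Lib.Helper4.DimFT3
open Groth.Agent.Lib.Helper4.FibDim1 Groth.Agent.Lib.Helper4.FibDim2 Groth.Agent.Lib.Helper4.LocUC1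
open Groth.Agent.Lib.Helper4.FibDim3 Groth.Agent.Lib.Helper4.FibDim4 Groth.Agent.Lib.Helper4.FibDim5
open Groth.Agent.Lib.Helper4.FibDim6 Groth.Agent.Lib.Helper4.FibDim7 Groth.Agent.Lib.Helper4.JacDim1
open Groth.Agent.Lib.Helper4.DimFT1
open Groth.Agent.Lib.Helper4.Chev2 Groth.Agent.Lib.Helper4.Chev5 Groth.Agent.Lib.Helper4.Chev6 Groth.Agent.Lib.Helper4.Chev8
open Groth.Agent.Lib.Helper4.JacDim4 Groth.Agent.Lib.Helper4.EffCartierDim1
open Groth.Agent.Lib.Helper4.Chev9 Groth.Agent.Lib.Helper4.Chev4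
open Groth.Agent.Lib.Helper4.Chev10 Groth.Agent.Lib.Helper4.Chev11 Groth.Agent.Lib.Helper4.Chev3 Groth.Agent.Lib.Helper4.Equi1 Groth.Agent.Lib.Helper4.Equi2 Groth.Agent.Lib.Helper4.OpenAt1 Groth.Agent.Lib.Helper4.Equi3 Groth.Agent.Lib.Helper4.Equi4 Groth.Agent.Lib.Helper4.Equi5 Groth.Agent.Lib.Helper4.Equi6 Groth.Agent.Lib.Helper4.Equi7 Groth.Agent.Lib.Helper4.Aff1 Groth.Agent.Lib.Helper4.Aff2 Groth.Agent.Lib.Helper4.Equi10 Groth.Agent.Lib.Helper4.Val1 Groth.Agent.Lib.Helper4.BaseChg1 Groth.Agent.Lib.Helper4.UnivOpen1 Groth.Agent.Lib.Helper4.FibClosure1 Groth.Agent.Lib.Helper4.OpenNoeth1 Groth.Agent.Lib.Helper4.SecComp1 Groth.Agent.Lib.Helper4.SecComp2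
open Groth.Agent.Lib.Helper4.SecComp3 Groth.Agent.Lib.Helper4.PropDim1 Groth.Agent.Lib.Helper4.ZMTNormalPt1 Groth.Agent.Lib.Helper4.UO Groth.Agent.Lib.Helper4.UOp
open Groth.Agent.Lib.Helper4.ChevCrit1 Groth.Agent.Lib.Helper4.ChevCrit2 Groth.Agent.Lib.Helper4.ChevCrit3
open Groth.Agent.Lib.Helper4.IrrCompDomain1 Groth.Agent.Lib.Helper4.RadBir1
open Groth.Agent.Lib.Helper4.ChevCrit4
open Groth.Agent.Lib.Helper4.ChevCrit5
open Groth.Agent.Lib.Helper4.DedekindOpen1 Groth.Agent.Lib.Helper4.UnivOpenT1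
open Groth.Agent.Lib.Helper4.ChevCrit7
open Groth.Agent.Lib.Helper4.DvrFlat1 Groth.Agent.Lib.Helper4.FlatDimK1 Groth.Agent.Lib.Helper4.BaseChgMax1 Groth.Agent.Lib.Helper4.ProdDim1 Groth.Agent.Lib.Helper4.FibDimBC1 Groth.Agent.Lib.Helper4.FibMap1 Groth.Agent.Lib.Helper4.GenFib1 Groth.Agent.Lib.Helper4.EquiBC1 Groth.Agent.Lib.Helper4.GenEqui1 Groth.Agent.Lib.Helper4.LocNoethFib1 Groth.Agent.Lib.Helper4.FibDimBC2 Groth.Agent.Lib.Helper4.FibDimComp1 Groth.Agent.Lib.Helper4.HypDim1 Groth.Agent.Lib.Helper4.FFlatDelta1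

namespace Groth.Agent.Lib.Helper4.FTDim1

/-- dimension of an irreducible scheme locally of finite type over a field -/
theorem dim_eq_tr_genericPoint (k : Type u) [Field k] {X : Scheme.{u}}
    (p : X ⟶ Spec (CommRingCat.of k)) [LocallyOfFiniteType p] [IrreducibleSpace ↥X] :
    topologicalKrullDim ↥X = ((tr p (genericPoint ↥X) : ℕ) : WithBot ℕ∞) := by
  have h := dim_closure_of_field k p (genericPoint X)
  rw [genericPoint_closure, tdim_univ] at h
  exact h

theorem tr_le_dim (k : Type u) [Field k] {X : Scheme.{u}}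
    (p : X ⟶ Spec (CommRingCat.of k)) [LocallyOfFiniteType p] (x : X) :
    ((tr p x : ℕ) : WithBot ℕ∞) ≤ topologicalKrullDim ↥X := by
  rw [← dim_closure_of_field k p x]
  exact topologicalKrullDim_subspace_le _ _

theorem S10841_main (k : Type u) [Field k] {X Y : Scheme.{u}}
    (p : X ⟶ Spec (CommRingCat.of k)) (q : Y ⟶ Spec (CommRingCat.of k))
    [LocallyOfFiniteType p] [QuasiCompact p] [LocallyOfFiniteType q] [QuasiCompact q]
    [IrreducibleSpace ↥X] (f : Y ⟶ X) (hf : f ≫ p = q)
    (hη : genericPoint ↥X ∈ Set.range f.base) :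
    topologicalKrullDim ↥X ≤ topologicalKrullDim ↥Y := by
  obtain ⟨y, hy⟩ := hη
  haveI : LocallyOfFiniteType (f ≫ p) := by rw [hf]; infer_instance
  haveI : LocallyOfFiniteType f := locallyOfFiniteType_of_comp f p
  rw [dim_eq_tr_genericPoint k p]
  refine le_trans ?_ (tr_le_dim k q y)
  have h := Groth.Agent.Lib.Helper4.PropDim1.tr_comp f p y
  have h2 : tr (f ≫ p) y = tr q y := by
    subst hf; rfl
  rw [h2] at h
  have h3 : f y = genericPoint ↥X := hy
  rw [h3] at h
  have : tr p (genericPoint ↥X) ≤ tr q y := by omega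
  exact_mod_cast this


/-- a continuous map with dense range from a Noetherian quasi-sober space to an irreducible
`T0` space hits the generic point -/
theorem exists_map_eq_genericPoint {α β : Type*} [TopologicalSpace α] [TopologicalSpace β]
    [NoetherianSpace α] [QuasiSober α] [IrreducibleSpace β] [QuasiSober β] [T0Space β]
    (f : α → β) (hf : Continuous f) (hd : DenseRange f) : ∃ a, f a = genericPoint β := by
  have hfin : (irreducibleComponents α).Finite :=
    TopologicalSpace.NoetherianSpace.finite_irreducibleComponents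
  have hgen : ∀ C ∈ irreducibleComponents α, ∃ ξ : α, IsGenericPoint ξ C := by
    intro C hC
    exact QuasiSober.sober hC.1 (isClosed_of_mem_irreducibleComponents C hC)
  haveI : Nonempty α := hd.nonempty
  choose! ξ hξ using hgen
  have hsub : Set.range f ⊆ ⋃ C ∈ irreducibleComponents α, closure {f (ξ C)} := by
    rintro _ ⟨a, rfl⟩
    have ha : a ∈ ⋃₀ irreducibleComponents α := by
      rw [sUnion_irreducibleComponents]; trivial
    obtain ⟨C, hC, haC⟩ := ha
    refine Set.mem_biUnion hC ?_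
    have h1 : ξ C ⤳ a := by
      rw [specializes_iff_mem_closure, (hξ C hC).def]; exact haC
    exact (specializes_iff_mem_closure).mp (h1.map hf)
  have hclosed : IsClosed (⋃ C ∈ irreducibleComponents α, closure {f (ξ C)}) :=
    hfin.isClosed_biUnion fun _ _ => isClosed_closure
  have huniv : (⋃ C ∈ irreducibleComponents α, closure {f (ξ C)}) = Set.univ := by
    apply Set.eq_univ_of_univ_subset
    rw [← hd.closure_range]
    exact closure_minimal hsub hclosed
  have hmem : genericPoint β ∈ ⋃ C ∈ irreducibleComponents α, closure {f (ξ C)} := by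
    rw [huniv]; trivial
  simp only [Set.mem_iUnion] at hmem
  obtain ⟨C, hC, hmemC⟩ := hmem
  refine ⟨ξ C, ?_⟩
  have h1 : f (ξ C) ⤳ genericPoint β := specializes_iff_mem_closure.mpr hmemC
  have h2 : genericPoint β ⤳ f (ξ C) := genericPoint_specializes _
  exact (h1.antisymm h2).eq

theorem noetherianSpace_of_field (k : Type u) [Field k] {X : Scheme.{u}}
    (p : X ⟶ Spec (CommRingCat.of k)) [LocallyOfFiniteType p] [QuasiCompact p] :
    NoetherianSpace ↥X := by
  haveI : IsLocallyNoetherian X := LocallyOfFiniteType.isLocallyNoetherian p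
  haveI : CompactSpace ↥X := QuasiCompact.compactSpace_of_compactSpace p
  haveI : IsNoetherian X := {}
  infer_instance

theorem tr_lt_of_specializes_of_field (k : Type u) [Field k] {X : Scheme.{u}}
    (p : X ⟶ Spec (CommRingCat.of k)) [LocallyOfFiniteType p] (x x' : X) (h : x ⤳ x')
    (hne : x ≠ x') : tr p x' < tr p x :=
  tr_lt_of_specializes p x x' h hne (Subsingleton.elim (α := PrimeSpectrum k) _ _)

theorem S17411_main (k : Type u) [Field k]
    (X Y Z : Scheme.{u}) [X.Over (Spec (CommRingCat.of k))] [Y.Over (Spec (CommRingCat.of k))]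
    [Z.Over (Spec (CommRingCat.of k))]
    [LocallyOfFiniteType (X ↘ Spec (CommRingCat.of k))] [QuasiCompact (X ↘ Spec (CommRingCat.of k))]
    [LocallyOfFiniteType (Y ↘ Spec (CommRingCat.of k))] [QuasiCompact (Y ↘ Spec (CommRingCat.of k))]
    [LocallyOfFiniteType (Z ↘ Spec (CommRingCat.of k))] [QuasiCompact (Z ↘ Spec (CommRingCat.of k))]
    [IrreducibleSpace Y] [IrreducibleSpace Z] (hdim : topologicalKrullDim Y = topologicalKrullDim Z)
    (ρ : X ⟶ Y) [ρ.IsOver (Spec (CommRingCat.of k))] (η : Y ⟶ Z) [η.IsOver (Spec (CommRingCat.of k))]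
    [IsDominant η] :
    IsDominant (ρ ≫ η) ↔ IsDominant ρ := by
  constructor
  swap
  · intro h; infer_instance
  intro h
  haveI : NoetherianSpace ↥X := noetherianSpace_of_field k (X ↘ Spec (CommRingCat.of k))
  obtain ⟨a, ha⟩ := exists_map_eq_genericPoint (ρ ≫ η) (ρ ≫ η).continuous (ρ ≫ η).denseRange
  have hη : η ≫ (Z ↘ Spec (CommRingCat.of k)) = (Y ↘ Spec (CommRingCat.of k)) :=
    CategoryTheory.comp_over η (Spec (CommRingCat.of k))
  haveI : LocallyOfFiniteType (η ≫ (Z ↘ Spec (CommRingCat.of k))) := by rw [hη]; infer_instance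
  haveI : LocallyOfFiniteType η := locallyOfFiniteType_of_comp η (Z ↘ Spec (CommRingCat.of k))
  have h1 := Groth.Agent.Lib.Helper4.PropDim1.tr_comp η (Z ↘ Spec (CommRingCat.of k)) (ρ a)
  have h2 : tr (η ≫ (Z ↘ Spec (CommRingCat.of k))) (ρ a) =
      tr (Y ↘ Spec (CommRingCat.of k)) (ρ a) := by
    congr 1
  have h3 : η (ρ a) = genericPoint ↥Z := ha
  rw [h2, h3] at h1
  have hY := dim_eq_tr_genericPoint k (Y ↘ Spec (CommRingCat.of k))
  have hZ := dim_eq_tr_genericPoint k (Z ↘ Spec (CommRingCat.of k))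
  rw [hY, hZ] at hdim
  have hdim' : tr (Y ↘ Spec (CommRingCat.of k)) (genericPoint ↥Y) =
      tr (Z ↘ Spec (CommRingCat.of k)) (genericPoint ↥Z) := by exact_mod_cast hdim
  have heq : ρ a = genericPoint ↥Y := by
    by_contra hne
    have := tr_lt_of_specializes_of_field k (Y ↘ Spec (CommRingCat.of k)) (genericPoint ↥Y) (ρ a)
      (genericPoint_specializes _) (Ne.symm hne)
    omega
  constructor
  intro y
  have : genericPoint ↥Y ∈ closure (Set.range ρ) := subset_closure ⟨a, heq⟩
  have h4 : genericPoint ↥Y ⤳ y := genericPoint_specializes y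
  exact h4.mem_closed isClosed_closure this


/-- every point has a specialization in its fibre with residue field algebraic over the base -/
theorem exists_tr_eq_zero {X Y : Scheme.{u}} (f : X ⟶ Y) [LocallyOfFiniteType f]
    [IsLocallyNoetherian Y] (a : X) : ∃ z : X, f z = f a ∧ a ⤳ z ∧ tr f z = 0 := by
  have hne : {n | ∃ z : X, f z = f a ∧ a ⤳ z ∧ tr f z = n}.Nonempty :=
    ⟨_, a, rfl, specializes_rfl, rfl⟩
  obtain ⟨z, hz, haz, hzn⟩ := Nat.sInf_mem hne
  refine ⟨z, hz, haz, ?_⟩
  by_contra h0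
  have hh := height_fib_eq f z
  have hnm : ¬ IsMin (⟨z, rfl⟩ : {w : X // f w = f z}) := by
    intro hmin
    rw [Order.height_eq_zero.mpr hmin] at hh
    exact h0 (by exact_mod_cast hh.symm)
  rw [not_isMin_iff] at hnm
  obtain ⟨b, hb⟩ := hnm
  have h1 : z ⤳ b.1 := hb.le
  have hne' : z ≠ b.1 := by
    intro h
    have : b = ⟨z, rfl⟩ := Subtype.ext h.symm
    rw [this] at hb
    exact lt_irrefl _ hb
  have hlt := tr_lt_of_specializes f z b.1 h1 hne' b.2.symm
  have hmem : tr f b.1 ∈ {n | ∃ z : X, f z = f a ∧ a ⤳ z ∧ tr f z = n} :=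
    ⟨b.1, b.2.trans hz, haz.trans h1, rfl⟩
  have := Nat.sInf_le hmem
  omega

theorem S14514_main (k : Type u) [Field k]
    (X Y : Scheme.{u}) [X.Over (Spec (CommRingCat.of k))] [Y.Over (Spec (CommRingCat.of k))]
    [LocallyOfFiniteType (X ↘ (Spec (CommRingCat.of k)))] [QuasiCompact (X ↘ (Spec (CommRingCat.of k)))]
    [LocallyOfFiniteType (Y ↘ (Spec (CommRingCat.of k)))] [QuasiCompact (Y ↘ (Spec (CommRingCat.of k)))] [IrreducibleSpace Y]
    (f : X ⟶ Y) (hf : f ≫ (Y ↘ (Spec (CommRingCat.of k))) = (X ↘ (Spec (CommRingCat.of k)))) [IsDominant f] :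
    ∃ Z : Set X, IsClosed Z ∧ IsIrreducible Z ∧ topologicalKrullDim ↥Z = topologicalKrullDim Y ∧
      Dense (f '' Z) := by
  haveI : NoetherianSpace ↥X := noetherianSpace_of_field k (X ↘ Spec (CommRingCat.of k))
  haveI : IsLocallyNoetherian Y :=
    LocallyOfFiniteType.isLocallyNoetherian (Y ↘ Spec (CommRingCat.of k))
  obtain ⟨a, ha⟩ := exists_map_eq_genericPoint f f.continuous f.denseRange
  haveI : LocallyOfFiniteType (f ≫ (Y ↘ Spec (CommRingCat.of k))) := by rw [hf]; infer_instance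
  haveI : LocallyOfFiniteType f := locallyOfFiniteType_of_comp f (Y ↘ Spec (CommRingCat.of k))
  obtain ⟨z, hz, -, hz0⟩ := exists_tr_eq_zero f a
  refine ⟨closure {z}, isClosed_closure, isIrreducible_singleton.closure, ?_, ?_⟩
  · rw [dim_closure_of_field k (X ↘ Spec (CommRingCat.of k)) z,
      dim_eq_tr_genericPoint k (Y ↘ Spec (CommRingCat.of k))]
    have h1 := Groth.Agent.Lib.Helper4.PropDim1.tr_comp f (Y ↘ Spec (CommRingCat.of k)) z
    have h2 : tr (f ≫ (Y ↘ Spec (CommRingCat.of k))) z = tr (X ↘ Spec (CommRingCat.of k)) z := by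
      congr 1
    rw [h2, hz, ha, hz0, add_zero] at h1
    rw [h1]
  · intro y
    have h3 : f z = genericPoint ↥Y := hz.trans ha
    have h4 : genericPoint ↥Y ⤳ y := genericPoint_specializes y
    have h5 : genericPoint ↥Y ∈ closure (f '' closure {z}) :=
      subset_closure ⟨z, subset_closure rfl, h3⟩
    exact h4.mem_closed isClosed_closure h5


theorem dim_le_of_forall_tr (k : Type u) [Field k] {X : Scheme.{u}}
    (p : X ⟶ Spec (CommRingCat.of k)) [LocallyOfFiniteType p] (D : WithBot ℕ∞)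
    (h : ∀ x : X, ((tr p x : ℕ) : WithBot ℕ∞) ≤ D) : topologicalKrullDim ↥X ≤ D := by
  rw [← tdim_univ]
  haveI : QuasiSober ↥(Set.univ : Set X) := isClosed_univ.isClosedEmbedding_subtypeVal.quasiSober
  apply tdim_le_of_forall
  intro t _
  refine ⟨t, specializes_rfl, ?_⟩
  rw [dim_closure_of_field k p t]
  exact h t

theorem tr_le_of_specializes_of_field (k : Type u) [Field k] {X : Scheme.{u}}
    (p : X ⟶ Spec (CommRingCat.of k)) [LocallyOfFiniteType p] (x x' : X) (h : x ⤳ x') :
    tr p x' ≤ tr p x := by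
  by_cases hne : x = x'
  · rw [hne]
  · exact (tr_lt_of_specializes_of_field k p x x' h hne).le

/-- a point of the fibre with large residual transcendence degree, from a lower bound on the
dimension of the fibre -/
theorem exists_tr_ge_of_le_dim_fibre {X Y : Scheme.{u}} (f : X ⟶ Y) [LocallyOfFiniteType f]
    (y : Y) (r : ℕ) (h : (r : WithBot ℕ∞) ≤ topologicalKrullDim (f.base ⁻¹' {y})) :
    ∃ z : X, f z = y ∧ r ≤ tr f z := by
  by_contra hcon
  push Not at hcon
  rcases Nat.eq_zero_or_pos r with h0 | hpos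
  · have h1 := dim_closed_fibre_le f Set.univ isClosed_univ y ⊥ (by
      intro ζ _ hζ
      have := hcon ζ hζ
      omega)
    rw [Set.inter_univ] at h1
    rw [le_bot_iff] at h1
    rw [h1] at h
    simp at h
  · have h1 := dim_closed_fibre_le f Set.univ isClosed_univ y ((r - 1 : ℕ) : WithBot ℕ∞) (by
      intro ζ _ hζ
      have := hcon ζ hζ
      have h2 : tr f ζ ≤ r - 1 := by omega
      exact_mod_cast h2)
    rw [Set.inter_univ] at h1
    have h2 := h.trans h1
    have h3 : r ≤ r - 1 := by exact_mod_cast h2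
    omega

theorem S10885_main (k : Type u) [Field k] {X Y : Scheme.{u}}
    (q : Y ⟶ Spec (CommRingCat.of k)) [LocallyOfFiniteType q] [QuasiCompact q]
    (f : X ⟶ Y) [LocallyOfFiniteType f] [QuasiCompact f] (r : ℕ)
    (hfib : ∀ η : Y, (∀ y : Y, y ⤳ η → y = η) → (r : WithBot ℕ∞) ≤ topologicalKrullDim (f.base ⁻¹' {η})) :
    (r : WithBot ℕ∞) + topologicalKrullDim Y ≤ topologicalKrullDim X := by
  rw [add_comm, add_le_iff_le_wsub]
  apply dim_le_of_forall_tr k q
  intro y
  rw [← add_le_iff_le_wsub]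
  obtain ⟨η, hηy, hηmax⟩ := exists_isMax_ge Y y
  have hηy' : η ⤳ y := hηy
  obtain ⟨z, hz, hrz⟩ := exists_tr_ge_of_le_dim_fibre f η r
    (hfib η (fun y' hy' => eq_of_isMax_of_specializes η hηmax y' hy'))
  have h1 := Groth.Agent.Lib.Helper4.PropDim1.tr_comp f q z
  rw [hz] at h1
  have h2 := tr_le_of_specializes_of_field k q η y hηy'
  refine le_trans ?_ (tr_le_dim k (f ≫ q) z)
  have : tr q y + r ≤ tr (f ≫ q) z := by omega
  exact_mod_cast this


/-- a continuous map with dense range from a Noetherian quasi-sober space hits every maximal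
point -/
theorem exists_map_eq_of_isMax {α β : Type*} [TopologicalSpace α] [TopologicalSpace β]
    [NoetherianSpace α] [QuasiSober α]
    (f : α → β) (hf : Continuous f) (hd : DenseRange f) (η : β) (hη : ∀ y : β, y ⤳ η → y = η) :
    ∃ a, f a = η := by
  have hfin : (irreducibleComponents α).Finite :=
    TopologicalSpace.NoetherianSpace.finite_irreducibleComponents
  have hgen : ∀ C ∈ irreducibleComponents α, ∃ ξ : α, IsGenericPoint ξ C := by
    intro C hC
    exact QuasiSober.sober hC.1 (isClosed_of_mem_irreducibleComponents C hC)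
  haveI : Nonempty α := by
    by_contra hem
    rw [not_nonempty_iff] at hem
    have := hd η
    rw [Set.range_eq_empty f, closure_empty] at this
    exact this
  choose! ξ hξ using hgen
  have hsub : Set.range f ⊆ ⋃ C ∈ irreducibleComponents α, closure {f (ξ C)} := by
    rintro _ ⟨a, rfl⟩
    have ha : a ∈ ⋃₀ irreducibleComponents α := by
      rw [sUnion_irreducibleComponents]; trivial
    obtain ⟨C, hC, haC⟩ := ha
    refine Set.mem_biUnion hC ?_
    have h1 : ξ C ⤳ a := by
      rw [specializes_iff_mem_closure, (hξ C hC).def]; exact haC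
    exact (specializes_iff_mem_closure).mp (h1.map hf)
  have hclosed : IsClosed (⋃ C ∈ irreducibleComponents α, closure {f (ξ C)}) :=
    hfin.isClosed_biUnion fun _ _ => isClosed_closure
  have huniv : (⋃ C ∈ irreducibleComponents α, closure {f (ξ C)}) = Set.univ := by
    apply Set.eq_univ_of_univ_subset
    rw [← hd.closure_range]
    exact closure_minimal hsub hclosed
  have hmem : η ∈ ⋃ C ∈ irreducibleComponents α, closure {f (ξ C)} := by
    rw [huniv]; trivial
  simp only [Set.mem_iUnion] at hmem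
  obtain ⟨C, hC, hmemC⟩ := hmem
  exact ⟨ξ C, hη _ (specializes_iff_mem_closure.mpr hmemC)⟩

theorem S10884_main (k : Type u) [Field k] {X Y : Scheme.{u}}
    (q : Y ⟶ Spec (CommRingCat.of k)) [LocallyOfFiniteType q] [QuasiCompact q]
    (f : X ⟶ Y) [LocallyOfFiniteType f] [QuasiCompact f] (hdom : DenseRange f.base) (r : ℕ)
    (hfib : ∀ y : Y, (f.base ⁻¹' {y}).Nonempty → topologicalKrullDim (f.base ⁻¹' {y}) = r) :
    topologicalKrullDim X = (r : WithBot ℕ∞) + topologicalKrullDim Y := by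
  apply le_antisymm
  · apply dim_le_of_forall_tr k (f ≫ q)
    intro x
    have h1 := Groth.Agent.Lib.Helper4.PropDim1.tr_comp f q x
    have h2 := tr_le_dim_closed_fibre f Set.univ isClosed_univ (f x) x trivial rfl
    rw [Set.inter_univ, hfib (f x) ⟨x, rfl⟩] at h2
    have h3 := tr_le_dim k q (f x)
    rw [h1, add_comm]
    push_cast
    exact add_le_add h2 h3
  · haveI : NoetherianSpace ↥X := noetherianSpace_of_field k (f ≫ q)
    apply S10885_main k q f r
    intro η hη
    obtain ⟨a, ha⟩ := exists_map_eq_of_isMax f f.continuous hdom η hη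
    rw [hfib η ⟨a, ha⟩]

end Groth.Agent.Lib.Helper4.FTDim1
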