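import Mathlib
import Groth.Prelude.Def_BlowUp2
import Groth.Prelude.Def_CAlg
import Groth.Agent.Lib.Helper8.Sk1
import Groth.Agent.Lib.Helper4.EffCartier

/-!
# Effective Cartier divisor in an S_k scheme is S_{k-1}; stalk of closed subscheme (S1685) (helper4)
-/

set_option backward.isDefEq.respectTransparency.types false
set_option synthInstance.maxHeartbeats 400000
set_option autoImplicit false
set_option linter.unusedSectionVars false
set_option linter.style.haveILetI false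
set_option linter.unusedSimpArgs false
universe u v w
open CategoryTheory CategoryTheory.Limits AlgebraicGeometry TopologicalSpace IsLocalRing Opposite Topology

namespace Groth.Agent.Lib.Helper4.CartierSk1

theorem ker_locMap {A B A' B' : Type*} [CommRing A] [CommRing B] [CommRing A'] [CommRing B']
    [Algebra A A'] [Algebra B B'] (φ : A →+* B) (hφ : Function.Surjective φ)
    (q : Ideal B) [q.IsPrime] (p : Ideal A) [p.IsPrime] (hp : q.comap φ = p)
    [IsLocalization.AtPrime A' p] [IsLocalization.AtPrime B' q]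
    (ψ : A' →+* B') (hψ : ∀ a, ψ (algebraMap A A' a) = algebraMap B B' (φ a)) :
    RingHom.ker ψ = (RingHom.ker φ).map (algebraMap A A') := by
  apply le_antisymm
  · intro a' ha'
    rw [RingHom.mem_ker] at ha'
    obtain ⟨s, t, rfl⟩ := IsLocalization.exists_mk'_eq p.primeCompl a'
    have h1 : algebraMap B B' (φ s) = 0 := by
      rw [← hψ, ← IsLocalization.mk'_spec A' s t, map_mul, ha', zero_mul]
    obtain ⟨u, hu⟩ := (IsLocalization.map_eq_zero_iff q.primeCompl B' (φ s)).mp h1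
    obtain ⟨u', hu'⟩ := hφ u.1
    have hu'p : u' ∈ p.primeCompl := by
      intro hmem
      rw [← hp] at hmem
      apply u.2
      rw [← hu']
      exact hmem
    have h2 : u' * s ∈ RingHom.ker φ := by
      rw [RingHom.mem_ker, map_mul, hu']
      exact hu
    have h3 : IsLocalization.mk' A' s t * algebraMap A A' (t * u') ∈
        (RingHom.ker φ).map (algebraMap A A') := by
      have : IsLocalization.mk' A' s t * algebraMap A A' (t * u') = algebraMap A A' (u' * s) := by
        rw [map_mul, ← mul_assoc, IsLocalization.mk'_spec, ← map_mul, mul_comm]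
      rw [this]
      exact Ideal.mem_map_of_mem _ h2
    have hunit : IsUnit (algebraMap A A' (t * u')) :=
      IsLocalization.map_units A' (⟨t * u', p.primeCompl.mul_mem t.2 hu'p⟩ : p.primeCompl)
    exact (Ideal.mul_unit_mem_iff_mem _ hunit).mp h3
  · rw [Ideal.map_le_iff_le_comap]
    intro a ha
    rw [RingHom.mem_ker] at ha
    rw [Ideal.mem_comap, RingHom.mem_ker, hψ, ha, map_zero]

/-- the kernel of the stalk map of an effective Cartier closed subscheme is generated by the germ of the local equation -/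
theorem ker_stalkMap_subschemeι {X : Scheme.{u}} (𝓘 : X.IdealSheafData) (d : 𝓘.subscheme)
    (U : X.affineOpens) (hxU : 𝓘.subschemeι d ∈ U.1) :
    RingHom.ker (𝓘.subschemeι.stalkMap d).hom =
      (𝓘.ideal U).map (X.presheaf.germ U.1 (𝓘.subschemeι d) hxU).hom := by
  have hV : IsAffineOpen (𝓘.subschemeι ⁻¹ᵁ U.1) := U.2.preimage 𝓘.subschemeι
  let _ := TopCat.Presheaf.algebra_section_stalk X.presheaf (⟨𝓘.subschemeι d, hxU⟩ : U.1)
  let _ := TopCat.Presheaf.algebra_section_stalk 𝓘.subscheme.presheaf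
    (⟨d, hxU⟩ : (𝓘.subschemeι ⁻¹ᵁ U.1 : 𝓘.subscheme.Opens))
  have hlocX := U.2.isLocalization_stalk ⟨𝓘.subschemeι d, hxU⟩
  have hlocD := hV.isLocalization_stalk ⟨d, hxU⟩
  have hcomap := IsAffineOpen.comap_primeIdealOf_appLE (f := 𝓘.subschemeι) (x := d) U.1 U.2
    (𝓘.subschemeι ⁻¹ᵁ U.1) hV le_rfl hxU
  have hker := ker_locMap (A' := X.presheaf.stalk (𝓘.subschemeι d))
    (B' := 𝓘.subscheme.presheaf.stalk d) (𝓘.subschemeι.app U.1).hom
    (𝓘.subschemeι_app_surjective U) (hV.primeIdealOf ⟨d, hxU⟩).asIdeal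
    (U.2.primeIdealOf ⟨𝓘.subschemeι d, hxU⟩).asIdeal
    (by
      have := congrArg PrimeSpectrum.asIdeal hcomap
      rw [Scheme.Hom.appLE, ] at this
      simpa using this)
    (𝓘.subschemeι.stalkMap d).hom
    (fun a => Scheme.Hom.germ_stalkMap_apply 𝓘.subschemeι U.1 d hxU a)
  rw [hker]
  congr 1
  exact 𝓘.ker_subschemeι_app U


theorem arith (k : ℕ) (a b dD dX : ℕ∞) (hdim : a + 1 = b) (hdepth : dD + 1 = dX)
    (h : min (k : ℕ∞) b ≤ dX) : min ((k - 1 : ℕ) : ℕ∞) a ≤ dD := by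
  rcases Nat.eq_zero_or_pos k with rfl | hk
  · simp
  · have h1 : min ((k - 1 : ℕ) : ℕ∞) a + 1 = min (k : ℕ∞) b := by
      rw [← hdim, ← min_add_add_right]
      congr 1
      have : ((k - 1 : ℕ) : ℕ∞) + 1 = ((k - 1 + 1 : ℕ) : ℕ∞) := by push_cast; rfl
      rw [this, Nat.sub_add_cancel hk]
    rw [← h1, ← hdepth] at h
    exact (ENat.add_le_add_iff_right (by simp)).mp h

theorem S1685_main (X : Scheme.{u}) [IsLocallyNoetherian X] (k : ℕ)
    (hX : ∀ x : ↥X, min (k : WithBot ℕ∞) (ringKrullDim (X.presheaf.stalk x)) ≤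
      ((LocCoh.depth (X.presheaf.stalk x) (X.presheaf.stalk x) : ℕ∞) : WithBot ℕ∞))
    (𝓘 : X.IdealSheafData) (h𝓘 : BlowUp.IsEffCartierIdeal 𝓘) (d : ↥𝓘.subscheme) :
    min ((k - 1 : ℕ) : WithBot ℕ∞) (ringKrullDim (𝓘.subscheme.presheaf.stalk d)) ≤
      ((LocCoh.depth (𝓘.subscheme.presheaf.stalk d) (𝓘.subscheme.presheaf.stalk d) : ℕ∞) : WithBot ℕ∞) := by
  obtain ⟨U, hxU, f, hf, hI⟩ := h𝓘 (𝓘.subschemeι d)
  have hker := ker_stalkMap_subschemeι 𝓘 d U hxU
  rw [hI, Ideal.map_span, Set.image_singleton] at hker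
  obtain ⟨x, hx⟩ : ∃ x, x = (X.presheaf.germ U.1 (𝓘.subschemeι d) hxU).hom f := ⟨_, rfl⟩
  rw [← hx] at hker
  have hsurj : Function.Surjective (𝓘.subschemeι.stalkMap d).hom :=
    𝓘.subschemeι.stalkMap_surjective d
  -- ring iso
  let σ : (X.presheaf.stalk (𝓘.subschemeι d) ⧸ RingHom.ker (𝓘.subschemeι.stalkMap d).hom) ≃+*
      𝓘.subscheme.presheaf.stalk d := RingHom.quotientKerEquivOfSurjective hsurj
  have hxreg : IsSMulRegular (X.presheaf.stalk (𝓘.subschemeι d)) x := by
    have := Groth.Agent.Helper4.EffCartier.germ_nzd U.1 U.2 f hf (𝓘.subschemeι d) hxU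
    rw [← hx] at this
    exact Module.Flat.isSMulRegular_of_nonZeroDivisors this
  have hxm : x ∈ maximalIdeal (X.presheaf.stalk (𝓘.subschemeι d)) := by
    rw [IsLocalRing.mem_maximalIdeal, mem_nonunits_iff]
    intro hu
    have h0 : (𝓘.subschemeι.stalkMap d).hom x = 0 := by
      rw [← RingHom.mem_ker, hker]; exact Ideal.mem_span_singleton_self x
    have := hu.map (𝓘.subschemeι.stalkMap d).hom
    rw [h0] at this
    exact not_isUnit_zero this
  have : IsNoetherianRing (X.presheaf.stalk (𝓘.subschemeι d)) := inferInstance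
  have hJm : RingHom.ker (𝓘.subschemeι.stalkMap d).hom ≤ maximalIdeal _ := by
    rw [hker, Ideal.span_singleton_le_iff_mem]; exact hxm
  have : IsLocalRing (X.presheaf.stalk (𝓘.subschemeι d) ⧸ RingHom.ker (𝓘.subschemeι.stalkMap d).hom) :=
    Groth.Agent.Helper8.RLR.isLocalRing_quotient hJm
  have h1 := Groth.Agent.Helper8.Sk.depth_quotient_add_one' _ _ x hker hxm hxreg
  have h2 := Groth.Agent.Helper8.Sk.ringKrullDim_quotient_add_one' _ _ x hker hxm hxreg
  have h3 : LocCoh.depth (𝓘.subscheme.presheaf.stalk d) (𝓘.subscheme.presheaf.stalk d) =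
      LocCoh.depth (X.presheaf.stalk (𝓘.subschemeι d) ⧸ RingHom.ker (𝓘.subschemeι.stalkMap d).hom)
        (X.presheaf.stalk (𝓘.subschemeι d) ⧸ RingHom.ker (𝓘.subschemeι.stalkMap d).hom) :=
    Groth.Agent.Helper8.Depth.depth_eq_of_semilinear σ σ.toAddEquiv (fun r y => by simp)
  have h4 : ringKrullDim (X.presheaf.stalk (𝓘.subschemeι d) ⧸ RingHom.ker (𝓘.subschemeι.stalkMap d).hom) =
      ringKrullDim (𝓘.subscheme.presheaf.stalk d) := ringKrullDim_eq_of_ringEquiv σ
  rw [← h4, h3]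
  have hXx := hX (𝓘.subschemeι d)
  rw [← h1, ← h2] at hXx
  obtain ⟨a, ha⟩ : ∃ a : ℕ∞, ringKrullDim (X.presheaf.stalk (𝓘.subschemeι d) ⧸ RingHom.ker (𝓘.subschemeι.stalkMap d).hom) = (a : WithBot ℕ∞) := by
    have := ringKrullDim_nonneg_of_nontrivial (R := X.presheaf.stalk (𝓘.subschemeι d) ⧸ RingHom.ker (𝓘.subschemeι.stalkMap d).hom)
    obtain ⟨a, ha⟩ := WithBot.ne_bot_iff_exists.mp (ne_bot_of_le_ne_bot (by simp) this)
    exact ⟨a, ha.symm⟩
  rw [ha] at hXx ⊢
  have key := arith k a (a + 1) _ _ rfl rfl (by exact_mod_cast hXx)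
  rw [← WithBot.coe_natCast, ← WithBot.coe_min, WithBot.coe_le_coe]
  exact key

end Groth.Agent.Lib.Helper4.CartierSk1
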