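import Mathlib
import Groth.Prelude.Def_BlowUp2
import Groth.Agent.Lib.Helper4.CartierSk1

/-!
# Spreading out principal stalk ideals; integral codim-1 subscheme with UFD local rings is effective Cartier (S1684) (helper4)
-/

set_option backward.isDefEq.respectTransparency.types false
set_option synthInstance.maxHeartbeats 400000
set_option autoImplicit false
set_option linter.unusedSectionVars false
set_option linter.style.haveILetI false
set_option linter.unusedSimpArgs false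
universe u v w
open CategoryTheory CategoryTheory.Limits AlgebraicGeometry TopologicalSpace IsLocalRing Opposite Topology

namespace Groth.Agent.Lib.Helper4.CartierUFD1

/-- finite product trick -/
theorem exists_primeCompl_mul_mem {A : Type*} [CommRing A] (p : Ideal A) [p.IsPrime] (K : Ideal A)
    (I : Ideal A) (hfg : I.FG) (h : ∀ b ∈ I, ∃ g ∈ p.primeCompl, g * b ∈ K) :
    ∃ g ∈ p.primeCompl, ∀ b ∈ I, g * b ∈ K := by
  classical
  obtain ⟨T, rfl⟩ := hfg
  have h' : ∀ b : A, ∃ g ∈ p.primeCompl, b ∈ T → g * b ∈ K := by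
    intro b
    by_cases hb : b ∈ T
    · obtain ⟨g, hg, hgb⟩ := h b (Ideal.subset_span hb)
      exact ⟨g, hg, fun _ => hgb⟩
    · exact ⟨1, p.primeCompl.one_mem, fun hb' => absurd hb' hb⟩
  choose g hg hgb using h'
  refine ⟨∏ b ∈ T, g b, Submonoid.prod_mem _ (fun b _ => hg b), ?_⟩
  have hle : Ideal.span (T : Set A) ≤ Submodule.comap (LinearMap.mulLeft A (∏ b ∈ T, g b)) K := by
    rw [Ideal.span_le]
    intro b hb
    obtain ⟨q, hq⟩ := Finset.dvd_prod_of_mem g hb
    change (∏ b ∈ T, g b) * b ∈ K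
    rw [hq, mul_comm (g b) q, mul_assoc]
    exact K.mul_mem_left q (hgb b hb)
  intro b hb
  exact hle hb

theorem exists_away_principal {A : Type u} [CommRing A] [IsNoetherianRing A] (I : Ideal A) (p : Ideal A) [p.IsPrime]
    (Ap : Type u) [CommRing Ap] [Algebra A Ap] [IsLocalization.AtPrime Ap p]
    (π : Ap) (hπ : π ∈ nonZeroDivisors Ap) (hI : I.map (algebraMap A Ap) = Ideal.span {π}) :
    ∃ (r : A) (a : A), r ∉ p ∧ a ∈ I ∧ ∀ (B : Type u) [CommRing B] [Algebra A B] [IsLocalization.Away r B],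
      algebraMap A B a ∈ nonZeroDivisors B ∧ I.map (algebraMap A B) = Ideal.span {algebraMap A B a} := by
  -- step 1
  have hπI : π ∈ I.map (algebraMap A Ap) := by rw [hI]; exact Ideal.mem_span_singleton_self π
  obtain ⟨⟨⟨a, haI⟩, s⟩, has⟩ := (IsLocalization.mem_map_algebraMap_iff p.primeCompl Ap).mp hπI
  simp only at has
  have hsu : IsUnit (algebraMap A Ap s.1) := IsLocalization.map_units Ap s
  have hanzd : algebraMap A Ap a ∈ nonZeroDivisors Ap := by
    rw [← has]
    exact mul_mem hπ hsu.mem_nonZeroDivisors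
  have hspan : Ideal.span {algebraMap A Ap a} = Ideal.span {π} := by
    rw [← has]
    exact Ideal.span_singleton_mul_right_unit hsu π
  -- step 2
  have h2 : ∀ b ∈ I, ∃ g ∈ p.primeCompl, g * b ∈ Ideal.span {a} := by
    intro b hb
    have hb' : algebraMap A Ap b ∈ Ideal.span {algebraMap A Ap a} := by
      rw [hspan, ← hI]; exact Ideal.mem_map_of_mem _ hb
    obtain ⟨c, hc⟩ := Ideal.mem_span_singleton'.mp hb'
    obtain ⟨c', t, rfl⟩ := IsLocalization.exists_mk'_eq p.primeCompl c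
    have h3 : algebraMap A Ap (c' * a) = algebraMap A Ap (t.1 * b) := by
      rw [map_mul, map_mul, ← hc, ← mul_assoc, mul_comm (algebraMap A Ap t.1), IsLocalization.mk'_spec]
    obtain ⟨u, hu⟩ := (IsLocalization.eq_iff_exists p.primeCompl Ap).mp h3
    refine ⟨u.1 * t.1, p.primeCompl.mul_mem u.2 t.2, ?_⟩
    rw [mul_assoc, ← hu, Ideal.mem_span_singleton']
    exact ⟨u.1 * c', by ring⟩
  obtain ⟨g, hg, hgI⟩ := exists_primeCompl_mul_mem p (Ideal.span {a}) I (IsNoetherian.noetherian I) h2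
  -- step 3
  obtain ⟨J, hJ⟩ : ∃ J : Ideal A, J = (Ideal.span {a}).annihilator ⊓ ⊤ := ⟨_, rfl⟩
  have hJa : ∀ j ∈ J, j * a = 0 := by
    intro j hj
    rw [hJ, inf_top_eq, Submodule.mem_annihilator] at hj
    have := hj a (Ideal.mem_span_singleton_self a)
    simpa using this
  have h3 : ∀ j ∈ J, ∃ h ∈ p.primeCompl, h * j ∈ (⊥ : Ideal A) := by
    intro j hj
    have h0 : algebraMap A Ap j = 0 := by
      apply (mem_nonZeroDivisors_iff_right.mp hanzd)
      rw [← map_mul, hJa j hj, map_zero]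
    obtain ⟨h, hh⟩ := (IsLocalization.map_eq_zero_iff p.primeCompl Ap j).mp h0
    exact ⟨h.1, h.2, by simpa using hh⟩
  obtain ⟨h, hh, hhJ⟩ := exists_primeCompl_mul_mem p ⊥ J (IsNoetherian.noetherian J) h3
  refine ⟨g * h, a, fun hmem => (p.primeCompl.mul_mem hg hh) hmem, haI, ?_⟩
  intro B _ _ _
  have hgu : IsUnit (algebraMap A B g) := by
    have := IsLocalization.Away.algebraMap_isUnit (S := B) (g * h)
    rw [map_mul] at this
    exact isUnit_of_mul_isUnit_left this
  have hhu : IsUnit (algebraMap A B h) := by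
    have := IsLocalization.Away.algebraMap_isUnit (S := B) (g * h)
    rw [map_mul] at this
    exact isUnit_of_mul_isUnit_right this
  constructor
  · rw [mem_nonZeroDivisors_iff_right]
    intro x hx
    obtain ⟨y, t, rfl⟩ := IsLocalization.exists_mk'_eq (Submonoid.powers (g * h)) x
    have h5 : algebraMap A B (y * a) = 0 := by
      rw [map_mul, ← IsLocalization.mk'_spec B y t, mul_right_comm, hx, zero_mul]
    obtain ⟨m, hm⟩ := (IsLocalization.map_eq_zero_iff (Submonoid.powers (g * h)) B (y * a)).mp h5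
    have h6 : m.1 * y ∈ J := by
      rw [hJ, inf_top_eq, Submodule.mem_annihilator_span_singleton]
      rw [smul_eq_mul, mul_assoc]
      exact hm
    have h7 : h * (m.1 * y) = 0 := by simpa using hhJ _ h6
    have h8 : algebraMap A B h * algebraMap A B m.1 * algebraMap A B y = 0 := by
      rw [← map_mul, ← map_mul, mul_assoc, h7, map_zero]
    have hmu : IsUnit (algebraMap A B m.1) := IsLocalization.map_units B m
    have h9 : algebraMap A B y = 0 := by
      have := (hhu.mul hmu).mul_right_eq_zero.mp h8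
      exact this
    rw [IsLocalization.mk'_eq_zero_iff]
    exact (IsLocalization.map_eq_zero_iff (Submonoid.powers (g * h)) B y).mp h9
  · apply le_antisymm
    · rw [Ideal.map_le_iff_le_comap]
      intro b hb
      rw [Ideal.mem_comap]
      have := hgI b hb
      obtain ⟨c, hc⟩ := Ideal.mem_span_singleton'.mp this
      have h10 : algebraMap A B g * algebraMap A B b ∈ Ideal.span {algebraMap A B a} := by
        rw [← map_mul, ← hc, map_mul]
        exact Ideal.mul_mem_left _ _ (Ideal.mem_span_singleton_self _)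
      rw [mul_comm] at h10
      exact (Ideal.mul_unit_mem_iff_mem _ hgu).mp h10
    · rw [Ideal.span_singleton_le_iff_mem]
      exact Ideal.mem_map_of_mem _ haI


/-- spreading out: if the stalk of the ideal sheaf at `x` is generated by a nonzerodivisor, then the ideal sheaf is
effective Cartier on an affine neighbourhood of `x` -/
theorem isEffCartier_near {X : Scheme.{u}} [IsLocallyNoetherian X] (𝓘 : X.IdealSheafData) (x : X)
    (U : X.affineOpens) (hxU : x ∈ U.1)
    (π : X.presheaf.stalk x) (hπ : π ∈ nonZeroDivisors (X.presheaf.stalk x))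
    (hI : (𝓘.ideal U).map (X.presheaf.germ U.1 x hxU).hom = Ideal.span {π}) :
    ∃ O : X.affineOpens, x ∈ O.1 ∧ ∃ c : Γ(X, O.1), c ∈ nonZeroDivisors Γ(X, O.1) ∧
      𝓘.ideal O = Ideal.span {c} := by
  haveI : IsNoetherianRing Γ(X, U.1) := IsLocallyNoetherian.component_noetherian U
  let _ := TopCat.Presheaf.algebra_section_stalk X.presheaf (⟨x, hxU⟩ : U.1)
  haveI hloc := U.2.isLocalization_stalk ⟨x, hxU⟩
  obtain ⟨r, a, hr, haI, hB⟩ := exists_away_principal (𝓘.ideal U) (U.2.primeIdealOf ⟨x, hxU⟩).asIdeal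
    (X.presheaf.stalk x) π hπ hI
  haveI := U.2.isLocalization_basicOpen r
  obtain ⟨h1, h2⟩ := hB Γ(X, X.basicOpen r)
  refine ⟨X.affineBasicOpen r, ?_, _, h1, ?_⟩
  · change x ∈ X.basicOpen r
    rw [Scheme.mem_basicOpen _ _ _ hxU]
    exact (IsLocalization.AtPrime.isUnit_to_map_iff (X.presheaf.stalk x)
      (U.2.primeIdealOf ⟨x, hxU⟩).asIdeal r).mpr hr
  · rw [← 𝓘.map_ideal_basicOpen U r]
    exact h2


/-- off the support, the stalk of the ideal sheaf is the unit ideal -/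
theorem stalk_ideal_eq_top {X : Scheme.{u}} (𝓘 : X.IdealSheafData) (x : X)
    (U : X.affineOpens) (hxU : x ∈ U.1) (hx : x ∉ 𝓘.support) :
    (𝓘.ideal U).map (X.presheaf.germ U.1 x hxU).hom = ⊤ := by
  rw [Scheme.IdealSheafData.mem_support_iff_of_mem hxU, Scheme.mem_zeroLocus_iff] at hx
  push Not at hx
  obtain ⟨f, hf, hxf⟩ := hx
  rw [Scheme.mem_basicOpen _ _ _ hxU] at hxf
  exact Ideal.eq_top_of_isUnit_mem _ (Ideal.mem_map_of_mem _ hf) hxf

theorem S1684_main (X : Scheme.{u}) [IsLocallyNoetherian X] (𝓘 : X.IdealSheafData)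
    [IsIntegral 𝓘.subscheme]
    (hcodim : ringKrullDim (X.presheaf.stalk (𝓘.subschemeι (genericPoint ↥𝓘.subscheme))) = 1)
    (hufd : ∀ x : ↥X, x ∈ 𝓘.support → IsDomain (X.presheaf.stalk x) ∧ UniqueFactorizationMonoid (X.presheaf.stalk x)) :
    BlowUp.IsEffCartierIdeal 𝓘 := by
  intro x
  obtain ⟨U, hU, hxU, -⟩ := Opens.isBasis_iff_nbhd.mp (X.isBasis_affineOpens)
    (show x ∈ (⊤ : X.Opens) from trivial)
  by_cases hx : x ∈ 𝓘.support
  · -- x = ι d
    have hx' : x ∈ Set.range 𝓘.subschemeι := by rw [𝓘.range_subschemeι]; exact hx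
    obtain ⟨d, rfl⟩ := hx'
    obtain ⟨hdom, hUFD⟩ := hufd _ hx
    have hker := Groth.Agent.Lib.Helper4.CartierSk1.ker_stalkMap_subschemeι 𝓘 d ⟨U, hU⟩ hxU
    have hprime : (RingHom.ker (𝓘.subschemeι.stalkMap d).hom).IsPrime := RingHom.ker_isPrime _
    -- height
    have hV : IsAffineOpen (𝓘.subschemeι ⁻¹ᵁ U) := hU.preimage 𝓘.subschemeι
    haveI : Nonempty ↥(𝓘.subschemeι ⁻¹ᵁ U) := ⟨⟨d, hxU⟩⟩
    haveI : Nonempty ↥((𝓘.subschemeι ⁻¹ᵁ U : 𝓘.subscheme.Opens) : Scheme.{u}) := ⟨⟨d, hxU⟩⟩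
    have hξV : genericPoint ↥𝓘.subscheme ∈ 𝓘.subschemeι ⁻¹ᵁ U :=
      ((genericPoint_spec ↥𝓘.subscheme).mem_open_set_iff (𝓘.subschemeι ⁻¹ᵁ U).isOpen).mpr
        ⟨d, trivial, hxU⟩
    have hcomap := IsAffineOpen.comap_primeIdealOf_appLE (f := 𝓘.subschemeι)
      (x := genericPoint ↥𝓘.subscheme) U hU (𝓘.subschemeι ⁻¹ᵁ U) hV le_rfl hξV
    haveI : IsDomain Γ(𝓘.subscheme, 𝓘.subschemeι ⁻¹ᵁ U) := inferInstance
    have hgen : (hV.primeIdealOf ⟨genericPoint ↥𝓘.subscheme, hξV⟩).asIdeal = ⊥ := by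
      have h1 := hV.primeIdealOf_genericPoint
      have h2 := genericPoint_eq_bot_of_affine Γ(𝓘.subscheme, 𝓘.subschemeι ⁻¹ᵁ U)
      rw [h1, h2]
      rfl
    have hp : (hU.primeIdealOf ⟨𝓘.subschemeι (genericPoint ↥𝓘.subscheme), hξV⟩).asIdeal =
        𝓘.ideal ⟨U, hU⟩ := by
      rw [← hcomap]
      change Ideal.comap _ (hV.primeIdealOf ⟨genericPoint ↥𝓘.subscheme, hξV⟩).asIdeal = _
      have happ : 𝓘.subschemeι.appLE U (𝓘.subschemeι ⁻¹ᵁ U) le_rfl = 𝓘.subschemeι.app U := by
        simp [Scheme.Hom.appLE]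
      rw [hgen, ← RingHom.ker_eq_comap_bot, ← 𝓘.ker_subschemeι_app ⟨U, hU⟩, happ]
    haveI hIprime : (𝓘.ideal ⟨U, hU⟩).IsPrime := by
      rw [← hp]; exact (hU.primeIdealOf _).isPrime
    -- height of 𝓘(U) is 1
    have hht : (𝓘.ideal ⟨U, hU⟩).height = 1 := by
      let _ := TopCat.Presheaf.algebra_section_stalk X.presheaf
        (⟨𝓘.subschemeι (genericPoint ↥𝓘.subscheme), hξV⟩ : U)
      have hloc := hU.isLocalization_stalk ⟨𝓘.subschemeι (genericPoint ↥𝓘.subscheme), hξV⟩
      have hloc' : IsLocalization.AtPrime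
          (X.presheaf.stalk (𝓘.subschemeι (genericPoint ↥𝓘.subscheme))) (𝓘.ideal ⟨U, hU⟩) := by
        convert hloc using 2
        exact hp.symm
      have := IsLocalization.AtPrime.ringKrullDim_eq_height (𝓘.ideal ⟨U, hU⟩)
        (X.presheaf.stalk (𝓘.subschemeι (genericPoint ↥𝓘.subscheme)))
      rw [hcodim] at this
      exact_mod_cast this.symm
    -- height of the stalk ideal
    let _ := TopCat.Presheaf.algebra_section_stalk X.presheaf (⟨𝓘.subschemeι d, hxU⟩ : U)
    have hlocx := hU.isLocalization_stalk ⟨𝓘.subschemeι d, hxU⟩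
    have hht' : (RingHom.ker (𝓘.subschemeι.stalkMap d).hom).height = 1 := by
      rw [← IsLocalization.height_under (hU.primeIdealOf ⟨𝓘.subschemeι d, hxU⟩).asIdeal.primeCompl
        (RingHom.ker (𝓘.subschemeι.stalkMap d).hom), ← hht]
      congr 1
      rw [hker]
      have hdisj : Disjoint ((hU.primeIdealOf ⟨𝓘.subschemeι d, hxU⟩).asIdeal.primeCompl : Set Γ(X, U))
          (𝓘.ideal ⟨U, hU⟩ : Set Γ(X, U)) := by
        by_contra hnd
        have htop : (𝓘.ideal ⟨U, hU⟩).map (algebraMap Γ(X, U) (X.presheaf.stalk (𝓘.subschemeι d))) = ⊤ := by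
          rw [Set.not_disjoint_iff] at hnd
          obtain ⟨s, hs1, hs2⟩ := hnd
          exact Ideal.eq_top_of_isUnit_mem _ (Ideal.mem_map_of_mem _ hs2)
            (IsLocalization.map_units _ (⟨s, hs1⟩ : (hU.primeIdealOf ⟨𝓘.subschemeι d, hxU⟩).asIdeal.primeCompl))
        apply hprime.ne_top
        rw [hker]
        exact htop
      exact IsLocalization.comap_map_of_isPrime_disjoint
        (hU.primeIdealOf ⟨𝓘.subschemeι d, hxU⟩).asIdeal.primeCompl _ hIprime hdisj
    obtain ⟨π, hπ⟩ := (UniqueFactorizationMonoid.isPrincipal_of_height_eq_one hht').principal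
    have hπ0 : π ≠ 0 := by
      rintro rfl
      have hbot : RingHom.ker (𝓘.subschemeι.stalkMap d).hom = ⊥ := by
        rw [hπ]; simp
      rw [hbot, Ideal.height_bot] at hht'
      exact zero_ne_one hht'
    have hπnzd : π ∈ nonZeroDivisors (X.presheaf.stalk (𝓘.subschemeι d)) :=
      mem_nonZeroDivisors_of_ne_zero hπ0
    have hI : (𝓘.ideal ⟨U, hU⟩).map (X.presheaf.germ U (𝓘.subschemeι d) hxU).hom = Ideal.span {π} := by
      rw [← hker]; exact hπ
    obtain ⟨O, hxO, c, hc, hO⟩ := isEffCartier_near 𝓘 _ ⟨U, hU⟩ hxU π hπnzd hI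
    exact ⟨O, hxO, c, hc, hO⟩
  · have htop := stalk_ideal_eq_top 𝓘 x ⟨U, hU⟩ hxU hx
    rw [← Ideal.span_singleton_one] at htop
    obtain ⟨O, hxO, c, hc, hO⟩ := isEffCartier_near 𝓘 x ⟨U, hU⟩ hxU 1 (one_mem _) htop
    exact ⟨O, hxO, c, hc, hO⟩

end Groth.Agent.Lib.Helper4.CartierUFD1
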