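import Mathlib
import Groth.Agent.Lib.Helper4.CartierUFD1
import Groth.Prelude.Def_Mor2
import Groth.Prelude.Def_RegImm
import Groth.Agent.Lib.Helper8.RegularLocal5

/-!
# Spreading out regular sequences; regular closed immersions near a point ⇔ stalk kernel generated by a regular sequence (S1679, S2889) (helper4)
-/

set_option backward.isDefEq.respectTransparency.types false
set_option synthInstance.maxHeartbeats 400000
set_option autoImplicit false
set_option linter.unusedSectionVars false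
set_option linter.style.haveILetI false
set_option linter.unusedSimpArgs false
universe u v w
open CategoryTheory CategoryTheory.Limits AlgebraicGeometry TopologicalSpace IsLocalRing Opposite Topology
open RingTheory.Sequence

namespace Groth.Agent.Lib.Helper4.RegSpread1

/-- elementwise characterisation of weakly regular sequences in a ring -/
theorem isWeaklyRegular_iff_elementwise {B : Type*} [CommRing B] (bs : List B) :
    IsWeaklyRegular B bs ↔ ∀ i (hi : i < bs.length), ∀ x : B,
      bs[i] * x ∈ Ideal.ofList (bs.take i) → x ∈ Ideal.ofList (bs.take i) := by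
  rw [isWeaklyRegular_iff]
  refine forall₂_congr fun i hi => ?_
  rw [isSMulRegular_on_quot_iff_lsmul_comap_le]
  have hsm : (Ideal.ofList (bs.take i) • ⊤ : Submodule B B) = Ideal.ofList (bs.take i) := by
    rw [smul_eq_mul, Ideal.mul_top]
  rw [hsm]
  rfl

theorem ofList_map_units_mul {B : Type*} [CommRing B] (u : B → Bˣ) (bs : List B) :
    Ideal.ofList (bs.map (fun r => (u r : B) * r)) = Ideal.ofList bs := by
  induction bs with
  | nil => simp
  | cons r bs ih =>
    rw [List.map_cons, Ideal.ofList_cons, Ideal.ofList_cons, ih,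
      Ideal.span_singleton_mul_left_unit (u r).isUnit]

theorem isWeaklyRegular_map_units_mul {B : Type*} [CommRing B] (u : B → Bˣ) (bs : List B)
    (h : IsWeaklyRegular B bs) : IsWeaklyRegular B (bs.map (fun r => (u r : B) * r)) := by
  rw [isWeaklyRegular_iff_elementwise] at h ⊢
  intro i hi x hx
  rw [List.length_map] at hi
  rw [← List.map_take, ofList_map_units_mul] at hx ⊢
  apply h i hi x
  rw [List.getElem_map, mul_assoc] at hx
  exact (Ideal.unit_mul_mem_iff_mem _ (u bs[i]).isUnit).mp hx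


open Groth.Agent.Lib.Helper4.CartierUFD1 in
theorem exists_away_weaklyRegular {A : Type u} [CommRing A] [IsNoetherianRing A] (p : Ideal A) [p.IsPrime]
    (Ap : Type u) [CommRing Ap] [Algebra A Ap] [IsLocalization.AtPrime Ap p]
    (as : List A) (hreg : IsWeaklyRegular Ap (as.map (algebraMap A Ap))) :
    ∃ h ∈ p.primeCompl, ∀ (h' : A), h ∣ h' → ∀ (B : Type u) [CommRing B] [Algebra A B]
      [IsLocalization.Away h' B], IsWeaklyRegular B (as.map (algebraMap A B)) := by
  classical
  rw [isWeaklyRegular_iff_elementwise] at hreg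
  have key : ∀ i : ℕ, ∃ h ∈ p.primeCompl, ∀ (hi : i < as.length), ∀ x : A,
      as[i] * x ∈ Ideal.ofList (as.take i) → h * x ∈ Ideal.ofList (as.take i) := by
    intro i
    by_cases hi : i < as.length
    · obtain ⟨K, hK⟩ : ∃ K : Ideal A, K = Submodule.comap (LinearMap.mul A A as[i]) (Ideal.ofList (as.take i)) :=
        ⟨_, rfl⟩
      have hKmem : ∀ x, x ∈ K ↔ as[i] * x ∈ Ideal.ofList (as.take i) := by
        intro x; rw [hK]; rfl
      have h1 : ∀ x ∈ K, ∃ t ∈ p.primeCompl, t * x ∈ Ideal.ofList (as.take i) := by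
        intro x hx
        rw [hKmem] at hx
        have hi' : i < (as.map (algebraMap A Ap)).length := by rw [List.length_map]; exact hi
        have h2 := hreg i hi' (algebraMap A Ap x)
        rw [← List.map_take, ← Ideal.map_ofList, List.getElem_map, ← map_mul] at h2
        have h3 := h2 (Ideal.mem_map_of_mem _ hx)
        exact (IsLocalization.algebraMap_mem_map_algebraMap_iff p.primeCompl Ap _ x).mp h3
      obtain ⟨h, hh, hhK⟩ := exists_primeCompl_mul_mem p (Ideal.ofList (as.take i)) K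
        (IsNoetherian.noetherian K) h1
      exact ⟨h, hh, fun _ x hx => hhK x ((hKmem x).mpr hx)⟩
    · exact ⟨1, p.primeCompl.one_mem, fun hi' => absurd hi' hi⟩
  choose h hmem hK using key
  refine ⟨∏ i ∈ Finset.range as.length, h i, Submonoid.prod_mem _ (fun i _ => hmem i), ?_⟩
  intro h' hdvd B _ _ _
  rw [isWeaklyRegular_iff_elementwise]
  intro i hi y hy
  have hi' : i < as.length := by rw [List.length_map] at hi; exact hi
  rw [← List.map_take, ← Ideal.map_ofList] at hy ⊢
  rw [List.getElem_map] at hy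
  obtain ⟨x, s, rfl⟩ := IsLocalization.exists_mk'_eq (Submonoid.powers h') y
  rw [IsLocalization.mk'_mem_map_algebraMap_iff (Submonoid.powers h')]
  have hy' : IsLocalization.mk' B (as[i] * x) s ∈ Ideal.map (algebraMap A B) (Ideal.ofList (as.take i)) := by
    rw [IsLocalization.mul_mk'_eq_mk'_of_mul] at hy
    exact hy
  rw [IsLocalization.mk'_mem_map_algebraMap_iff (Submonoid.powers h')] at hy'
  obtain ⟨m, hm, hmx⟩ := hy'
  have h4 : as[i] * (m * x) ∈ Ideal.ofList (as.take i) := by
    have : as[i] * (m * x) = m * (as[i] * x) := by ring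
    rw [this]; exact hmx
  have h5 := hK i hi' (m * x) h4
  have hdvd' : h i ∣ h' := (Finset.dvd_prod_of_mem h (Finset.mem_range.mpr hi')).trans hdvd
  obtain ⟨c, hc⟩ := hdvd'
  refine ⟨h' * m, Submonoid.mul_mem _ (Submonoid.mem_powers h') hm, ?_⟩
  have : h' * m * x = c * (h i * (m * x)) := by rw [hc]; ring
  rw [this]
  exact Ideal.mul_mem_left _ c h5


open Groth.Agent.Lib.Helper4.CartierUFD1 in
theorem exists_away_regular {A : Type u} [CommRing A] [IsNoetherianRing A] (I : Ideal A) (p : Ideal A) [p.IsPrime]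
    (Ap : Type u) [CommRing Ap] [Algebra A Ap] [IsLocalization.AtPrime Ap p]
    (rs : List Ap) (hreg : IsRegular Ap rs) (hI : I.map (algebraMap A Ap) = Ideal.ofList rs) :
    ∃ (r : A) (as : List A), r ∉ p ∧ as.length = rs.length ∧
      ∀ (B : Type u) [CommRing B] [Algebra A B] [IsLocalization.Away r B],
        IsRegular B (as.map (algebraMap A B)) ∧
          I.map (algebraMap A B) = Ideal.ofList (as.map (algebraMap A B)) := by
  classical
  -- step 1
  have h1 : ∀ r' : Ap, ∃ (a : A) (u : Apˣ), r' ∈ rs → a ∈ I ∧ algebraMap A Ap a = (u : Ap) * r' := by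
    intro r'
    by_cases hr' : r' ∈ rs
    · have hmem : r' ∈ I.map (algebraMap A Ap) := by
        rw [hI]
        exact Ideal.subset_span hr'
      obtain ⟨⟨⟨a, haI⟩, s⟩, has⟩ := (IsLocalization.mem_map_algebraMap_iff p.primeCompl Ap).mp hmem
      simp only at has
      refine ⟨a, (IsLocalization.map_units Ap s).unit, fun _ => ⟨haI, ?_⟩⟩
      rw [← has, IsUnit.unit_spec, mul_comm]
    · exact ⟨0, 1, fun h => absurd h hr'⟩
  choose f u hfu using h1
  obtain ⟨as, has⟩ : ∃ as : List A, as = rs.map f := ⟨_, rfl⟩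
  have hmap : as.map (algebraMap A Ap) = rs.map (fun r => (u r : Ap) * r) := by
    rw [has, List.map_map]
    apply List.map_congr_left
    intro r' hr'
    exact (hfu r' hr').2
  have hw : IsWeaklyRegular Ap (as.map (algebraMap A Ap)) := by
    rw [hmap]; exact isWeaklyRegular_map_units_mul u rs hreg.toIsWeaklyRegular
  have hof : (Ideal.ofList as).map (algebraMap A Ap) = I.map (algebraMap A Ap) := by
    rw [Ideal.map_ofList, hmap, ofList_map_units_mul, hI]
  have hasI : ∀ a ∈ as, a ∈ I := by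
    intro a ha
    rw [has, List.mem_map] at ha
    obtain ⟨r', hr', rfl⟩ := ha
    exact (hfu r' hr').1
  have hasI' : Ideal.ofList as ≤ I := by
    rw [Ideal.ofList, Ideal.span_le]
    exact fun a ha => hasI a ha
  -- step 3
  have h3 : ∀ b ∈ I, ∃ t ∈ p.primeCompl, t * b ∈ Ideal.ofList as := by
    intro b hb
    have : algebraMap A Ap b ∈ (Ideal.ofList as).map (algebraMap A Ap) := by
      rw [hof]; exact Ideal.mem_map_of_mem _ hb
    exact (IsLocalization.algebraMap_mem_map_algebraMap_iff p.primeCompl Ap _ b).mp this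
  obtain ⟨g, hg, hgI⟩ := exists_primeCompl_mul_mem p (Ideal.ofList as) I (IsNoetherian.noetherian I) h3
  obtain ⟨h, hh, hhB⟩ := exists_away_weaklyRegular p Ap as hw
  have hIp : I ≤ p := by
    have hne : I.map (algebraMap A Ap) ≠ ⊤ := by
      rw [hI]
      intro htop
      apply hreg.top_ne_smul
      rw [htop, smul_eq_mul, Ideal.mul_top]
    rw [IsLocalization.map_algebraMap_ne_top_iff_disjoint p.primeCompl] at hne
    intro b hb
    by_contra hbp
    exact Set.disjoint_left.mp hne hbp hb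
  refine ⟨g * h, as, fun hmem => (p.primeCompl.mul_mem hg hh) hmem, by rw [has, List.length_map], ?_⟩
  intro B _ _ _
  have hideal : I.map (algebraMap A B) = Ideal.ofList (as.map (algebraMap A B)) := by
    rw [← Ideal.map_ofList]
    apply le_antisymm
    · rw [Ideal.map_le_iff_le_comap]
      intro b hb
      rw [Ideal.mem_comap, IsLocalization.algebraMap_mem_map_algebraMap_iff (Submonoid.powers (g * h))]
      refine ⟨g * h, Submonoid.mem_powers _, ?_⟩
      have : g * h * b = h * (g * b) := by ring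
      rw [this]
      exact Ideal.mul_mem_left _ h (hgI b hb)
    · exact Ideal.map_mono hasI'
  refine ⟨⟨hhB (g * h) (Dvd.intro_left g rfl) B, ?_⟩, hideal⟩
  rw [← hideal, smul_eq_mul, Ideal.mul_top]
  apply Ne.symm
  rw [IsLocalization.map_algebraMap_ne_top_iff_disjoint (Submonoid.powers (g * h))]
  rw [Set.disjoint_left]
  rintro x ⟨n, rfl⟩ hx
  have : (g * h) ^ n ∈ p := hIp hx
  exact (p.primeCompl.mul_mem hg hh) (Ideal.IsPrime.mem_of_pow_mem inferInstance n this)


open Groth.Agent.Lib.Helper4.CartierSk1 in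
/-- the kernel of the stalk map of a morphism which is a closed immersion over the affine open `U` -/
theorem ker_stalkMap_of_app_surjective {X Z : Scheme.{u}} (i : Z ⟶ X) (z : Z) (U : X.Opens)
    (hU : IsAffineOpen U) (hzU : i z ∈ U) (hV : IsAffineOpen (i ⁻¹ᵁ U))
    (hsurj : Function.Surjective (i.app U).hom) :
    RingHom.ker (i.stalkMap z).hom =
      (RingHom.ker (i.app U).hom).map (X.presheaf.germ U (i z) hzU).hom := by
  let _ := TopCat.Presheaf.algebra_section_stalk X.presheaf (⟨i z, hzU⟩ : U)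
  let _ := TopCat.Presheaf.algebra_section_stalk Z.presheaf (⟨z, hzU⟩ : (i ⁻¹ᵁ U : Z.Opens))
  have hlocX := hU.isLocalization_stalk ⟨i z, hzU⟩
  have hlocD := hV.isLocalization_stalk ⟨z, hzU⟩
  have hcomap := IsAffineOpen.comap_primeIdealOf_appLE (f := i) (x := z) U hU (i ⁻¹ᵁ U) hV le_rfl hzU
  exact ker_locMap (A' := X.presheaf.stalk (i z)) (B' := Z.presheaf.stalk z) (i.app U).hom hsurj
    (hV.primeIdealOf ⟨z, hzU⟩).asIdeal (hU.primeIdealOf ⟨i z, hzU⟩).asIdeal
    (by
      have := congrArg PrimeSpectrum.asIdeal hcomap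
      rw [Scheme.Hom.appLE] at this
      simpa using this)
    (i.stalkMap z).hom (fun a => Scheme.Hom.germ_stalkMap_apply i U z hzU a)

/-- elements of the kernel of `i.app U` lie in the prime ideal of `i z` -/
theorem ker_app_le_primeIdealOf {X Z : Scheme.{u}} (i : Z ⟶ X) (z : Z) (U : X.Opens)
    (hU : IsAffineOpen U) (hzU : i z ∈ U) (hV : IsAffineOpen (i ⁻¹ᵁ U)) :
    RingHom.ker (i.app U).hom ≤ (hU.primeIdealOf ⟨i z, hzU⟩).asIdeal := by
  have hcomap := IsAffineOpen.comap_primeIdealOf_appLE (f := i) (x := z) U hU (i ⁻¹ᵁ U) hV le_rfl hzU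
  have := congrArg PrimeSpectrum.asIdeal hcomap
  rw [Scheme.Hom.appLE] at this
  intro a ha
  rw [← this]
  change _ ∈ Ideal.comap _ _
  rw [Ideal.mem_comap]
  have h0 : (i.app U).hom a = 0 := ha
  simp only [homOfLE_refl, op_id, CategoryTheory.Functor.map_id, Category.comp_id]
  rw [h0]
  exact Ideal.zero_mem _

/-- regular sequence generating the kernel on an affine open gives one on the stalk -/
theorem stalk_regular_of_affine {X Z : Scheme.{u}} (i : Z ⟶ X) (z : Z) (U : X.Opens)
    (hU : IsAffineOpen U) (hzU : i z ∈ U) (hV : IsAffineOpen (i ⁻¹ᵁ U))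
    (hsurj : Function.Surjective (i.app U).hom) (rs : List Γ(X, U)) (hrs : IsRegular Γ(X, U) rs)
    (hker : RingHom.ker (i.app U).hom = Ideal.ofList rs) :
    ∃ rs' : List (X.presheaf.stalk (i z)), IsRegular (X.presheaf.stalk (i z)) rs' ∧
      RingHom.ker (i.stalkMap z).hom = Ideal.ofList rs' := by
  have h1 := ker_stalkMap_of_app_surjective i z U hU hzU hV hsurj
  let _ := TopCat.Presheaf.algebra_section_stalk X.presheaf (⟨i z, hzU⟩ : U)
  have hlocX := hU.isLocalization_stalk ⟨i z, hzU⟩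
  refine ⟨rs.map (algebraMap Γ(X, U) (X.presheaf.stalk (i z))), ?_, ?_⟩
  · apply IsWeaklyRegular.isRegular_of_isLocalization_of_mem (X.presheaf.stalk (i z))
      (hU.primeIdealOf ⟨i z, hzU⟩).asIdeal hrs.toIsWeaklyRegular
    intro r hr
    apply ker_app_le_primeIdealOf i z U hU hzU hV
    rw [hker]
    exact Ideal.subset_span hr
  · rw [h1, hker, Ideal.map_ofList]
    rfl


theorem ker_comp_iso {A B C : CommRingCat.{u}} (f : A ⟶ B) (g : B ⟶ C) [IsIso g] :
    RingHom.ker (f ≫ g).hom = RingHom.ker f.hom := by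
  ext a
  rw [RingHom.mem_ker, RingHom.mem_ker, CommRingCat.hom_comp, RingHom.comp_apply]
  constructor
  · intro h
    have hinj : Function.Injective g.hom := (ConcreteCategory.bijective_of_isIso g).1
    apply hinj
    rw [h, map_zero]
  · intro h
    rw [h, map_zero]

/-- the kernel ideal of the restriction of `i` over an open `V`, on an affine open of `V` -/
theorem ker_morphismRestrict_app {X Z : Scheme.{u}} (i : Z ⟶ X) (V : X.Opens) (U' : V.toScheme.Opens) :
    RingHom.ker ((i ∣_ V).app U').hom = RingHom.ker (i.app (V.ι ''ᵁ U')).hom := by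
  rw [morphismRestrict_app]
  have hiso : ∀ (W₁ W₂ : Z.Opens) (h : W₁ = W₂), IsIso (Z.presheaf.map (eqToHom h).op) := by
    intro W₁ W₂ h
    subst h
    rw [eqToHom_refl, op_id, Z.presheaf.map_id]
    infer_instance
  exact @ker_comp_iso _ _ _ _ _ (hiso _ _ _)

theorem S1679_mp {X Z : Scheme.{u}} [IsLocallyNoetherian X] (i : Z ⟶ X) [IsClosedImmersion i] (z : ↥Z)
    (h : ∃ V : X.Opens, i z ∈ V ∧ Mor2.IsRegularClosedImmersion (i ∣_ V)) :
    ∃ rs : List ↑(X.presheaf.stalk (i z)), RingTheory.Sequence.IsRegular ↑(X.presheaf.stalk (i z)) rs ∧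
      RingHom.ker (i.stalkMap z).hom = Ideal.ofList rs := by
  obtain ⟨V, hzV, hcl, hpts⟩ := h
  obtain ⟨U', hU', hzU', rs', hrs', hker'⟩ := hpts (⟨z, hzV⟩ : ↥(i ⁻¹ᵁ V))
  have hW : IsAffineOpen (V.ι ''ᵁ U') := hU'.image_of_isOpenImmersion V.ι
  have hzW : i z ∈ V.ι ''ᵁ U' := by
    refine ⟨(i ∣_ V) ⟨z, hzV⟩, hzU', ?_⟩
    have := congrArg (fun f => f.base (⟨z, hzV⟩ : ↥(i ⁻¹ᵁ V))) (morphismRestrict_ι i V)
    simpa using this
  haveI := hcl
  rw [Scheme.Hom.ker_apply, ker_morphismRestrict_app] at hker'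
  exact stalk_regular_of_affine i z (V.ι ''ᵁ U') hW hzW (hW.preimage i)
    (i.app_surjective _ hW) rs' hrs' hker'


theorem S1679_mpr {X Z : Scheme.{u}} [IsLocallyNoetherian X] (i : Z ⟶ X) [IsClosedImmersion i] (z : ↥Z)
    (h : ∃ rs : List ↑(X.presheaf.stalk (i z)), RingTheory.Sequence.IsRegular ↑(X.presheaf.stalk (i z)) rs ∧
      RingHom.ker (i.stalkMap z).hom = Ideal.ofList rs) :
    ∃ V : X.Opens, i z ∈ V ∧ Mor2.IsRegularClosedImmersion (i ∣_ V) := by
  obtain ⟨rs, hrs, hker⟩ := h
  obtain ⟨U, hU, hzU, -⟩ := Opens.isBasis_iff_nbhd.mp (X.isBasis_affineOpens)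
    (show i z ∈ (⊤ : X.Opens) from trivial)
  haveI : IsNoetherianRing Γ(X, U) := IsLocallyNoetherian.component_noetherian ⟨U, hU⟩
  have h1 := ker_stalkMap_of_app_surjective i z U hU hzU (hU.preimage i) (i.app_surjective U hU)
  let _ := TopCat.Presheaf.algebra_section_stalk X.presheaf (⟨i z, hzU⟩ : U)
  have hlocX := hU.isLocalization_stalk ⟨i z, hzU⟩
  obtain ⟨r, as, hr, hlen, hB⟩ := exists_away_regular (RingHom.ker (i.app U).hom)
    (hU.primeIdealOf ⟨i z, hzU⟩).asIdeal (X.presheaf.stalk (i z)) rs hrs (by rw [← hker, h1]; rfl)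
  have hzV : i z ∈ X.basicOpen r := by
    rw [Scheme.mem_basicOpen _ _ _ hzU]
    exact (IsLocalization.AtPrime.isUnit_to_map_iff (X.presheaf.stalk (i z))
      (hU.primeIdealOf ⟨i z, hzU⟩).asIdeal r).mpr hr
  refine ⟨X.basicOpen r, hzV, inferInstance, ?_⟩
  intro z'
  haveI : IsAffine (X.basicOpen r).toScheme := hU.basicOpen r
  obtain ⟨W, hWdef⟩ : ∃ W : X.Opens, W = (X.basicOpen r).ι ''ᵁ ⊤ := ⟨_, rfl⟩
  have hWe : W = X.basicOpen r := by rw [hWdef]; exact Scheme.Opens.ι_image_top _
  have hWU : W ≤ U := by rw [hWe]; exact X.basicOpen_le r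
  have hW : IsAffineOpen W := by rw [hWe]; exact hU.basicOpen r
  letI : Algebra Γ(X, U) Γ(X, W) := (X.presheaf.map (homOfLE hWU).op).hom.toAlgebra
  haveI hloc : IsLocalization.Away r Γ(X, W) := hU.isLocalization_of_eq_basicOpen r (homOfLE hWU) hWe
  obtain ⟨hreg, hideal⟩ := hB Γ(X, W)
  refine ⟨⊤, isAffineOpen_top _, trivial, ?_⟩
  rw [Scheme.Hom.ker_apply, ker_morphismRestrict_app]
  subst hWdef
  refine ⟨_, hreg, ?_⟩
  refine Eq.trans ?_ hideal
  have h2 := i.ker.map_ideal (U := ⟨_, hW⟩) (V := ⟨U, hU⟩) hWU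
  rw [Scheme.Hom.ker_apply, Scheme.Hom.ker_apply] at h2
  exact h2.symm


theorem S1679_main {X Z : Scheme.{u}} [IsLocallyNoetherian X] (i : Z ⟶ X) [IsClosedImmersion i] (z : ↥Z) :
    (∃ V : X.Opens, i z ∈ V ∧ Mor2.IsRegularClosedImmersion (i ∣_ V)) ↔
      ∃ rs : List ↑(X.presheaf.stalk (i z)), RingTheory.Sequence.IsRegular ↑(X.presheaf.stalk (i z)) rs ∧
        RingHom.ker (i.stalkMap z).hom = Ideal.ofList rs :=
  ⟨S1679_mp i z, S1679_mpr i z⟩

theorem S2889_main {X Y : Scheme.{u}} [IsLocallyNoetherian X] (j : Y ⟶ X) [IsClosedImmersion j]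
    (y : ↥Y) [IsRegularLocalRing (Y.presheaf.stalk y)] :
    (∃ V : X.Opens, j y ∈ V ∧ Mor2.IsRegularClosedImmersion (j ∣_ V)) ↔ IsRegularLocalRing (X.presheaf.stalk (j y)) := by
  rw [S1679_main]
  have hsurj : Function.Surjective (j.stalkMap y).hom := j.stalkMap_surjective y
  haveI : IsRegularLocalRing (X.presheaf.stalk (j y) ⧸ RingHom.ker (j.stalkMap y).hom) :=
    IsRegularLocalRing.of_ringEquiv (RingHom.quotientKerEquivOfSurjective hsurj).symm
  rw [Groth.Agent.Helper8.RLR.isRegularLocalRing_iff_of_quotient (X.presheaf.stalk (j y))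
    (RingHom.ker (j.stalkMap y).hom)]
  constructor
  · rintro ⟨rs, h1, h2⟩
    exact ⟨rs, h1, h2.symm⟩
  · rintro ⟨rs, h1, h2⟩
    exact ⟨rs, h1, h2.symm⟩

end Groth.Agent.Lib.Helper4.RegSpread1
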