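import Mathlib
import Groth.Agent.Lib.Helper4.RegSpread1
import Groth.Prelude.Def_CAlg
import Groth.Agent.Lib.Helper8.Depth33
import Groth.Agent.Lib.Helper8.Depth23
import Groth.Agent.Lib.Helper8.Depth17
import Groth.Agent.Lib.Helper8.Depth3

/-!
# Regular immersions: stalk kernels, immersions of regular schemes, CM quotients (S18944, S8855, S15824) (helper4)
-/

set_option backward.isDefEq.respectTransparency.types false
set_option synthInstance.maxHeartbeats 400000
set_option autoImplicit false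
set_option linter.unusedSectionVars false
set_option linter.style.haveILetI false
set_option linter.unusedSimpArgs false
universe u v w
open CategoryTheory CategoryTheory.Limits AlgebraicGeometry TopologicalSpace IsLocalRing Opposite Topology
open RingTheory.Sequence
open Groth.Agent.Lib.Helper4.RegSpread1

namespace Groth.Agent.Lib.Helper4.RegSpread2

/-- an immersion restricts to a closed immersion over every open inside its coborder -/
theorem isClosedImmersion_restrict_of_le_coborder {X Z : Scheme.{u}} (i : Z ⟶ X) [IsImmersion i]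
    (U : X.Opens) (hU : U ≤ i.coborderRange) : IsClosedImmersion (i ∣_ U) := by
  apply IsClosedImmersion.of_isPreimmersion
  have hr : Set.range (i ∣_ U) = (Subtype.val : U → X) ⁻¹' (closure (Set.range i)) := by
    ext x
    constructor
    · rintro ⟨y, rfl⟩
      apply subset_closure
      exact ⟨y.1, (morphismRestrict_base_coe i U y).symm⟩
    · intro hx
      have h1 : x.1 ∈ coborder (Set.range i) := hU x.2
      have h3 : x.1 ∈ Set.range i := by
        have := coborder_inter_closure (s := Set.range i)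
        rw [← this]
        exact ⟨h1, hx⟩
      obtain ⟨y, hy⟩ := h3
      refine ⟨⟨y, ?_⟩, ?_⟩
      · change i y ∈ U
        rw [hy]; exact x.2
      · apply Subtype.ext
        rw [morphismRestrict_base_coe]
        exact hy
  rw [hr]
  exact isClosed_closure.preimage continuous_subtype_val

theorem presheaf_map_eqToHom_bijective {Z : Scheme.{u}} {W₁ W₂ : Z.Opens} (h : W₁ = W₂) :
    Function.Bijective (Z.presheaf.map (eqToHom h).op).hom := by
  subst h
  rw [eqToHom_refl, op_id, Z.presheaf.map_id]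
  exact Function.bijective_id

/-- a morphism which restricts to a closed immersion over the affine open `U` -/
theorem affine_surjective_of_isClosedImmersion_restrict {X Z : Scheme.{u}} (i : Z ⟶ X) (U : X.Opens)
    (hU : IsAffineOpen U) [IsClosedImmersion (i ∣_ U)] :
    IsAffineOpen (i ⁻¹ᵁ U) ∧ Function.Surjective (i.app U).hom := by
  haveI : IsAffine U.toScheme := hU
  obtain ⟨h1, h2⟩ := IsClosedImmersion.isAffine_surjective_of_isAffine (i ∣_ U)
  refine ⟨h1, ?_⟩
  rw [morphismRestrict_appTop] at h2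
  have h2' : Function.Surjective ((i.app (U.ι ''ᵁ ⊤)).hom) := by
    intro b
    obtain ⟨a, ha⟩ := h2 ((Z.presheaf.map (eqToHom (image_morphismRestrict_preimage i U ⊤)).op).hom b)
    refine ⟨a, ?_⟩
    apply (presheaf_map_eqToHom_bijective (image_morphismRestrict_preimage i U ⊤)).1
    rw [← ha]
    rfl
  have he : U = U.ι ''ᵁ ⊤ := (Scheme.Opens.ι_image_top U).symm
  rw [Scheme.Hom.app_eq i he]
  intro b
  obtain ⟨b', hb'⟩ := (presheaf_map_eqToHom_bijective (congr_arg (i ⁻¹ᵁ ·) he)).2 b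
  obtain ⟨a, ha⟩ := h2' b'
  obtain ⟨a', ha'⟩ := (presheaf_map_eqToHom_bijective he.symm).2 a
  refine ⟨a', ?_⟩
  rw [CommRingCat.hom_comp, CommRingCat.hom_comp, RingHom.comp_apply, RingHom.comp_apply, ha', ha]
  exact hb'


theorem S18944_main {Z X : Scheme.{u}} (i : Z ⟶ X)
    (h : RegImm.IsRegularImmersion RegImm.Kind.regular i) (z : Z) :
    ∃ rs : List (X.presheaf.stalk (i z)),
      RingTheory.Sequence.IsRegular (X.presheaf.stalk (i z)) rs ∧
        RingHom.ker (i.stalkMap z).hom = Ideal.ofList rs := by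
  obtain ⟨U, hzU, hcl, rs, hrs, hker⟩ := h.2 z
  haveI := hcl
  obtain ⟨hV, hsurj⟩ := affine_surjective_of_isClosedImmersion_restrict i U.1 U.2
  exact stalk_regular_of_affine i z U.1 U.2 hzU hV hsurj rs hrs hker

/-- spreading out a regular sequence generating the kernel of the stalk map -/
theorem affine_regular_of_stalk {X Z : Scheme.{u}} [IsLocallyNoetherian X] (i : Z ⟶ X) [QuasiCompact i]
    (z : Z) (U : X.Opens) (hU : IsAffineOpen U) (hzU : i z ∈ U) (hV : IsAffineOpen (i ⁻¹ᵁ U))
    (hsurj : Function.Surjective (i.app U).hom)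
    (rs : List (X.presheaf.stalk (i z))) (hrs : IsRegular (X.presheaf.stalk (i z)) rs)
    (hker : RingHom.ker (i.stalkMap z).hom = Ideal.ofList rs) :
    ∃ r : Γ(X, U), i z ∈ X.basicOpen r ∧ ∃ as : List Γ(X, X.basicOpen r), as.length = rs.length ∧
      IsRegular Γ(X, X.basicOpen r) as ∧ RingHom.ker (i.app (X.basicOpen r)).hom = Ideal.ofList as := by
  haveI : IsNoetherianRing Γ(X, U) := IsLocallyNoetherian.component_noetherian ⟨U, hU⟩
  have h1 := ker_stalkMap_of_app_surjective i z U hU hzU hV hsurj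
  let _ := TopCat.Presheaf.algebra_section_stalk X.presheaf (⟨i z, hzU⟩ : U)
  have hlocX := hU.isLocalization_stalk ⟨i z, hzU⟩
  obtain ⟨r, as, hr, hlen, hB⟩ := exists_away_regular (RingHom.ker (i.app U).hom)
    (hU.primeIdealOf ⟨i z, hzU⟩).asIdeal (X.presheaf.stalk (i z)) rs hrs (by rw [← hker, h1]; rfl)
  have hzV : i z ∈ X.basicOpen r := by
    rw [Scheme.mem_basicOpen _ _ _ hzU]
    exact (IsLocalization.AtPrime.isUnit_to_map_iff (X.presheaf.stalk (i z))
      (hU.primeIdealOf ⟨i z, hzU⟩).asIdeal r).mpr hr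
  haveI := hU.isLocalization_basicOpen r
  obtain ⟨hreg, hideal⟩ := hB Γ(X, X.basicOpen r)
  refine ⟨r, hzV, _, by rw [List.length_map]; exact hlen, hreg, ?_⟩
  refine Eq.trans ?_ hideal
  have h2 := i.ker.map_ideal_basicOpen ⟨U, hU⟩ r
  rw [Scheme.Hom.ker_apply, Scheme.Hom.ker_apply] at h2
  exact h2.symm

theorem S8855_main {Z X : Scheme.{u}} (i : Z ⟶ X) [IsImmersion i]
    [IsLocallyNoetherian X] [IsLocallyNoetherian Z]
    (hX : ∀ x : ↥X, IsRegularLocalRing ↑(X.presheaf.stalk x)) (hZ : ∀ z : ↥Z, IsRegularLocalRing ↑(Z.presheaf.stalk z)) :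
    RegImm.IsRegularImmersion RegImm.Kind.regular i := by
  refine ⟨inferInstance, fun z => ?_⟩
  haveI : QuasiCompact i := by
    rw [← i.liftCoborder_ι]
    infer_instance
  have hzW : i z ∈ i.coborderRange := subset_coborder ⟨z, rfl⟩
  obtain ⟨U, hU, hzU, hUW⟩ := Opens.isBasis_iff_nbhd.mp (X.isBasis_affineOpens) hzW
  haveI hcl := isClosedImmersion_restrict_of_le_coborder i U hUW
  obtain ⟨hV, hsurj⟩ := affine_surjective_of_isClosedImmersion_restrict i U hU
  -- stalk
  haveI := hX (i z)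
  haveI := hZ z
  have hss : Function.Surjective (i.stalkMap z).hom := i.stalkMap_surjective z
  haveI : IsRegularLocalRing (X.presheaf.stalk (i z) ⧸ RingHom.ker (i.stalkMap z).hom) :=
    IsRegularLocalRing.of_ringEquiv (RingHom.quotientKerEquivOfSurjective hss).symm
  obtain ⟨rs, hrs, hker⟩ := (Groth.Agent.Helper8.RLR.isRegularLocalRing_iff_of_quotient
    (X.presheaf.stalk (i z)) (RingHom.ker (i.stalkMap z).hom)).mp inferInstance
  obtain ⟨r, hzr, as, -, hreg, hkas⟩ := affine_regular_of_stalk i z U hU hzU hV hsurj rs hrs hker.symm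
  refine ⟨⟨X.basicOpen r, hU.basicOpen r⟩, hzr, ?_, as, hreg, hkas⟩
  exact isClosedImmersion_restrict_of_le_coborder i _ ((X.basicOpen_le r).trans hUW)


/-- a Cohen–Macaulay local ring modulo a regular sequence has dimension equal to depth -/
theorem dim_eq_depth_quotient_of_cm (R : Type u) [CommRing R] [LocCoh.IsCohenMacaulayLocalRing R]
    (rs : List R) (hrs : IsRegular R rs) [IsLocalRing (R ⧸ Ideal.ofList rs)] :
    ringKrullDim (R ⧸ Ideal.ofList rs) =
      ((LocCoh.depth (R ⧸ Ideal.ofList rs) (R ⧸ Ideal.ofList rs) : ℕ∞) : WithBot ℕ∞) := by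
  have hmem : ∀ r ∈ rs, r ∈ maximalIdeal R := by
    intro r hr
    rw [IsLocalRing.mem_maximalIdeal, mem_nonunits_iff]
    intro hu
    apply hrs.top_ne_smul
    rw [smul_eq_mul, Ideal.mul_top]
    have hr' : r ∈ Ideal.ofList rs := Ideal.subset_span (show r ∈ {x | x ∈ rs} from hr)
    exact (Ideal.eq_top_of_isUnit_mem _ hr' hu).symm
  have hne : maximalIdeal R • (⊤ : Submodule R R) ≠ ⊤ :=
    Groth.Agent.Helper8.Depth.smul_top_ne_top_of_local R R
  have h1 := @Groth.Agent.Helper8.Depth.idealDepth_quotient_ofList_add_length R _ _ (maximalIdeal R) rs R _ _ _ hne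
    hrs.toIsWeaklyRegular hmem
  have h2 := ringKrullDim_add_length_eq_ringKrullDim_of_isRegular rs hrs
  have h3 : Module.supportDim R R = ((LocCoh.depth R R : ℕ∞) : WithBot ℕ∞) :=
    LocCoh.IsCohenMacaulayLocalRing.supportDim_eq_depth
  rw [Module.supportDim_self_eq_ringKrullDim] at h3
  have hsm : (Ideal.ofList rs • ⊤ : Submodule R R) = Ideal.ofList rs := by
    rw [smul_eq_mul, Ideal.mul_top]
  haveI : IsLocalHom (algebraMap R (R ⧸ Ideal.ofList rs)) :=
    IsLocalHom.of_surjective _ Ideal.Quotient.mk_surjective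
  have h4 : LocCoh.depth R (R ⧸ Ideal.ofList rs) =
      LocCoh.depth (R ⧸ Ideal.ofList rs) (R ⧸ Ideal.ofList rs) :=
    Groth.Agent.Helper8.Depth.depth_eq_of_tower R (R ⧸ Ideal.ofList rs) (R ⧸ Ideal.ofList rs)
  have h5 : LocCoh.idealDepth (maximalIdeal R) (R ⧸ (Ideal.ofList rs • ⊤ : Submodule R R)) =
      LocCoh.depth R (R ⧸ Ideal.ofList rs) := by
    unfold LocCoh.depth
    exact Groth.Agent.Helper8.Depth.idealDepth_congr (Submodule.quotEquivOfEq _ _ hsm)
  rw [h5, h4] at h1
  have h1' : LocCoh.depth (R ⧸ Ideal.ofList rs) (R ⧸ Ideal.ofList rs) + (rs.length : ℕ∞) = LocCoh.depth R R := h1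
  rw [← h2, ← h1'] at h3
  obtain ⟨a, ha⟩ : ∃ a : ℕ∞, ringKrullDim (R ⧸ Ideal.ofList rs) = (a : WithBot ℕ∞) := by
    have := ringKrullDim_nonneg_of_nontrivial (R := R ⧸ Ideal.ofList rs)
    obtain ⟨a, ha⟩ := WithBot.ne_bot_iff_exists.mp (ne_bot_of_le_ne_bot (by simp) this)
    exact ⟨a, ha.symm⟩
  rw [ha] at h3 ⊢
  have h6 : a + (rs.length : ℕ∞) = LocCoh.depth (R ⧸ Ideal.ofList rs) (R ⧸ Ideal.ofList rs) + (rs.length : ℕ∞) := by
    exact_mod_cast h3
  have h7 := (ENat.add_left_injective_of_ne_top (ENat.coe_ne_top rs.length)) h6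
  rw [h7]


theorem S15824_main {X Z : Scheme.{u}}
    [IsLocallyNoetherian X] (hCM : ∀ x : X, LocCoh.IsCohenMacaulayLocalRing (X.presheaf.stalk x))
    (i : Z ⟶ X) [IsClosedImmersion i] (hi : RegImm.IsRegularImmersion RegImm.Kind.regular i) (z : Z)
    (hz : IsAssociatedPrime (IsLocalRing.maximalIdeal (Z.presheaf.stalk z)) (Z.presheaf.stalk z)) :
    ringKrullDim (Z.presheaf.stalk z) = 0 := by
  obtain ⟨rs, hrs, hker⟩ := S18944_main i hi z
  haveI := hCM (i z)
  have hss : Function.Surjective (i.stalkMap z).hom := i.stalkMap_surjective z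
  obtain ⟨σ, hσ⟩ : ∃ σ : (X.presheaf.stalk (i z) ⧸ RingHom.ker (i.stalkMap z).hom) ≃+* Z.presheaf.stalk z,
      σ = RingHom.quotientKerEquivOfSurjective hss := ⟨_, rfl⟩
  rw [hker] at σ
  haveI : IsLocalRing (X.presheaf.stalk (i z) ⧸ Ideal.ofList rs) := σ.symm.isLocalRing
  have h1 := dim_eq_depth_quotient_of_cm (X.presheaf.stalk (i z)) rs hrs
  have h2 : LocCoh.depth (Z.presheaf.stalk z) (Z.presheaf.stalk z) =
      LocCoh.depth (X.presheaf.stalk (i z) ⧸ Ideal.ofList rs) (X.presheaf.stalk (i z) ⧸ Ideal.ofList rs) :=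
    Groth.Agent.Helper8.Depth.depth_eq_of_semilinear σ σ.toAddEquiv (fun r y => by simp)
  have h3 : ringKrullDim (X.presheaf.stalk (i z) ⧸ Ideal.ofList rs) = ringKrullDim (Z.presheaf.stalk z) :=
    ringKrullDim_eq_of_ringEquiv σ
  haveI : IsNoetherianRing (Z.presheaf.stalk z) := isNoetherianRing_of_ringEquiv _ σ
  have h4 : LocCoh.depth (Z.presheaf.stalk z) (Z.presheaf.stalk z) = 0 :=
    (Groth.Agent.Helper8.Depth.depth_eq_zero_iff _ _).mpr hz
  rw [← h3, h1, ← h2, h4]
  rfl

end Groth.Agent.Lib.Helper4.RegSpread2
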