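import Mathlib
import Groth.Prelude.Def_LCI2
import Groth.Prelude.Def_ega3
import Groth.Agent.Lib.Helper3.KosBC1

/-!
# Koszul-regular sequences: composition along a surjection (helper4)
-/

set_option backward.isDefEq.respectTransparency.types false
set_option synthInstance.maxHeartbeats 400000
set_option autoImplicit false
set_option linter.unusedSectionVars false
set_option linter.style.haveILetI false
set_option linter.unusedSimpArgs false
universe u v w
open CategoryTheory CategoryTheory.Limits CochainComplex CohIII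
open Groth.Agent.Helper8.KoszulLib Groth.Agent.Helper3.KosBC

namespace Groth.Agent.Lib.Helper4.KosComp1

attribute [local instance] HasDerivedCategory.standard

variable {A : Type u} [CommRing A]

theorem quasiIso_cone_map {K₁ L₁ K₂ L₂ : CochainComplex (ModuleCat.{u} A) ℤ} (φ₁ : K₁ ⟶ L₁)
    (φ₂ : K₂ ⟶ L₂) (a : K₁ ⟶ K₂) (b : L₁ ⟶ L₂) (comm : φ₁ ≫ b = a ≫ φ₂) (ha : QuasiIso a)
    (hb : QuasiIso b) : QuasiIso (mappingCone.map φ₁ φ₂ a b comm) := by
  rw [← DerivedCategory.isIso_Q_map_iff_quasiIso] at ha hb ⊢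
  have h1 := DerivedCategory.mappingCone_triangle_distinguished φ₁
  have h2 := DerivedCategory.mappingCone_triangle_distinguished φ₂
  let m := DerivedCategory.Q.mapTriangle.map (mappingCone.triangleMap φ₁ φ₂ a b comm)
  have h3 : IsIso m.hom₁ := ha
  have h4 : IsIso m.hom₂ := hb
  exact Pretriangulated.isIso₃_of_isIso₁₂ m h1 h2 h3 h4

/-- iterated cones of multiplications on an arbitrary complex -/
noncomputable def kosOn (K : CochainComplex (ModuleCat.{u} A) ℤ) :
    List A → CochainComplex (ModuleCat.{u} A) ℤ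
  | [] => K
  | t :: l => mappingCone (t • 𝟙 (kosOn K l))

theorem koszulCx_append (M : ModuleCat.{u} A) (ts rs : List A) :
    koszulCx M (ts ++ rs) = kosOn (koszulCx M rs) ts := by
  induction ts with
  | nil => rfl
  | cons t l ih =>
    change mappingCone (t • 𝟙 (koszulCx M (l ++ rs))) = mappingCone (t • 𝟙 (kosOn (koszulCx M rs) l))
    rw [ih]

theorem kosOn_single (M : ModuleCat.{u} A) (ts : List A) :
    kosOn ((HomologicalComplex.single (ModuleCat.{u} A) (ComplexShape.up ℤ) 0).obj M) ts =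
      koszulCx M ts := by
  induction ts with
  | nil => rfl
  | cons t l ih =>
    change mappingCone (t • 𝟙 (kosOn _ l)) = mappingCone (t • 𝟙 (koszulCx M l))
    rw [ih]

theorem exists_kosOn_quasiIso {K L : CochainComplex (ModuleCat.{u} A) ℤ} (φ : K ⟶ L)
    (hφ : QuasiIso φ) (ts : List A) : ∃ ψ : kosOn K ts ⟶ kosOn L ts, QuasiIso ψ := by
  induction ts with
  | nil => exact ⟨φ, hφ⟩
  | cons t l ih =>
    obtain ⟨ψ, hψ⟩ := ih
    refine ⟨mappingCone.map (t • 𝟙 (kosOn K l)) (t • 𝟙 (kosOn L l)) ψ ψ ?_, ?_⟩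
    · rw [Linear.smul_comp, Linear.comp_smul, Category.id_comp, Category.comp_id]
    · exact quasiIso_cone_map _ _ _ _ _ hψ hψ

theorem isZero_kosOn_homology_iff {K L : CochainComplex (ModuleCat.{u} A) ℤ} (φ : K ⟶ L)
    (hφ : QuasiIso φ) (ts : List A) (i : ℤ) :
    IsZero ((kosOn K ts).homology i) ↔ IsZero ((kosOn L ts).homology i) := by
  obtain ⟨ψ, hψ⟩ := exists_kosOn_quasiIso φ hφ ts
  exact (_root_.isoOfQuasiIsoAt ψ i).isZero_iff

theorem exists_zigzag_single (K : CochainComplex (ModuleCat.{u} A) ℤ)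
    (hK : ∀ i : ℤ, i ≠ 0 → IsZero (K.homology i)) :
    ∃ (Y : ModuleCat.{u} A) (K' : CochainComplex (ModuleCat.{u} A) ℤ) (f : K' ⟶ K)
      (g : K' ⟶ (HomologicalComplex.single (ModuleCat.{u} A) (ComplexShape.up ℤ) 0).obj Y),
      QuasiIso f ∧ QuasiIso g ∧ Nonempty (Y ≅ K.homology 0) := by
  haveI h1 : K.IsLE 0 := by
    rw [CochainComplex.isLE_iff]
    intro i hi
    rw [HomologicalComplex.exactAt_iff_isZero_homology]
    exact hK i (by omega)
  haveI h2 : K.IsGE 0 := by
    rw [CochainComplex.isGE_iff]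
    intro i hi
    rw [HomologicalComplex.exactAt_iff_isZero_homology]
    exact hK i (by omega)
  haveI h3 : (K.truncLE 0).IsGE 0 :=
    (HomologicalComplex.isSupported_iff_of_quasiIso (K.ιTruncLE 0) (ComplexShape.embeddingUpIntGE 0)).mpr h2
  obtain ⟨Y, ⟨e⟩⟩ := CochainComplex.exists_iso_single ((K.truncLE 0).truncGE 0) 0
  have hg : QuasiIso ((K.truncLE 0).πTruncGE 0 ≫ e.hom) := inferInstance
  refine ⟨Y, K.truncLE 0, K.ιTruncLE 0, (K.truncLE 0).πTruncGE 0 ≫ e.hom, inferInstance, hg, ⟨?_⟩⟩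
  exact (HomologicalComplex.singleObjHomologySelfIso (ComplexShape.up ℤ) 0 Y).symm ≪≫
    (_root_.isoOfQuasiIsoAt ((K.truncLE 0).πTruncGE 0 ≫ e.hom) 0).symm ≪≫
    _root_.isoOfQuasiIsoAt (K.ιTruncLE 0) 0

/-- for a complex with homology only in degree zero, the iterated cones compute the Koszul homology of `H^0` -/
theorem exists_module_kosOn (K : CochainComplex (ModuleCat.{u} A) ℤ)
    (hK : ∀ i : ℤ, i ≠ 0 → IsZero (K.homology i)) :
    ∃ Y : ModuleCat.{u} A, Nonempty (Y ≅ K.homology 0) ∧ ∀ (ts : List A) (i : ℤ),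
      IsZero ((kosOn K ts).homology i) ↔ IsZero ((koszulCx Y ts).homology i) := by
  obtain ⟨Y, K', f, g, hf, hg, hY⟩ := exists_zigzag_single K hK
  refine ⟨Y, hY, fun ts i => ?_⟩
  rw [← isZero_kosOn_homology_iff f hf ts i, isZero_kosOn_homology_iff g hg ts i, kosOn_single]


section Ring

variable {B : Type u} [CommRing B] (ψ : A →+* B)

lemma compat_restrictScalars (t : A) :
    Compat (ModuleCat.restrictScalars ψ) (ψ t) t := by
  intro X Y f
  ext x
  rfl

lemma forall₂_compat_restrictScalars (l : List A) :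
    List.Forall₂ (Compat (ModuleCat.restrictScalars ψ)) (l.map ψ) l := by
  induction l with
  | nil => exact List.Forall₂.nil
  | cons r l ih => exact List.Forall₂.cons (compat_restrictScalars ψ r) ih

/-- `ψ` as an `A`-linear map onto `B` with restricted scalars -/
noncomputable def psiLin : A →ₗ[A] (ModuleCat.restrictScalars ψ).obj (ModuleCat.of B B) where
  toFun a := (ψ a : B)
  map_add' a b := map_add ψ a b
  map_smul' a b := by
    change ψ (a * b) = ψ a * ψ b
    exact map_mul ψ a b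

theorem nonempty_quot_equiv (hψ : Function.Surjective ψ) (rs : List A)
    (hker : RingHom.ker ψ = Ideal.ofList rs) :
    Nonempty ((A ⧸ (Ideal.ofList rs • (⊤ : Submodule A A))) ≃ₗ[A]
      (ModuleCat.restrictScalars ψ).obj (ModuleCat.of B B)) := by
  have hs : Function.Surjective (psiLin ψ) := hψ
  have hk : LinearMap.ker (psiLin ψ) = Ideal.ofList rs • (⊤ : Submodule A A) := by
    rw [Ideal.smul_top_eq_map, ← hker]
    ext a
    simp only [LinearMap.mem_ker, Algebra.algebraMap_self, Ideal.map_id, Submodule.restrictScalars_mem,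
      RingHom.mem_ker]
    rfl
  exact ⟨(Submodule.quotEquivOfEq _ _ hk.symm).trans (LinearMap.quotKerEquivOfSurjective (psiLin ψ) hs)⟩

lemma isZero_homology_of_eq {R : Type u} [CommRing R] {K K' : CochainComplex (ModuleCat.{u} R) ℤ}
    (h : K = K') (i : ℤ) : IsZero (K.homology i) ↔ IsZero (K'.homology i) := by
  subst h
  rfl

lemma isKoszulRegularSeq_iff {R : Type u} [CommRing R] (l : List R) :
    LCI.IsKoszulRegularSeq R l ↔
      ∀ i : ℤ, i ≠ 0 → IsZero ((koszulCx (ModuleCat.of R R) l).homology i) := by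
  unfold LCI.IsKoszulRegularSeq
  constructor
  · intro h i hi
    exact (isZero_homology_of_eq (koszul_eq_koszulCx l) i).1 (h i hi)
  · intro h i hi
    exact (isZero_homology_of_eq (koszul_eq_koszulCx l) i).2 (h i hi)

theorem koszul_append_of_surjective (hψ : Function.Surjective ψ) (rs : List A)
    (hrs : LCI.IsKoszulRegularSeq A rs) (hker : RingHom.ker ψ = Ideal.ofList rs) (ts' : List A)
    (hts : LCI.IsKoszulRegularSeq B (ts'.map ψ)) : LCI.IsKoszulRegularSeq A (ts' ++ rs) := by
  rw [isKoszulRegularSeq_iff] at hrs hts ⊢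
  intro i hi
  rw [isZero_homology_of_eq (koszulCx_append _ ts' rs) i]
  have hrs' := hrs
  obtain ⟨Y, ⟨eY⟩, hY⟩ := exists_module_kosOn _ hrs'
  rw [hY]
  obtain ⟨e1⟩ := nonempty_homology_zero_equiv A rs
  obtain ⟨e2⟩ := nonempty_quot_equiv ψ hψ rs hker
  have e : (ModuleCat.restrictScalars ψ).obj (ModuleCat.of B B) ≅ Y :=
    (e2.symm.trans e1.symm).toModuleIso ≪≫ eY.symm
  obtain ⟨e3⟩ := nonempty_map_koszulCx_iso (ModuleCat.restrictScalars ψ) (ModuleCat.of B B) Y e
    (ts'.map ψ) ts' (forall₂_compat_restrictScalars ψ ts')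
  have h1 := hts i hi
  have h2 : IsZero ((((ModuleCat.restrictScalars ψ).mapHomologicalComplex (ComplexShape.up ℤ)).obj
      (koszulCx (ModuleCat.of B B) (ts'.map ψ))).homology i) :=
    ((ModuleCat.restrictScalars ψ).map_isZero h1).of_iso
      (((koszulCx (ModuleCat.of B B) (ts'.map ψ)).sc i).mapHomologyIso (ModuleCat.restrictScalars ψ))
  exact h2.of_iso ((HomologicalComplex.homologyFunctor _ _ i).mapIso e3.symm)

end Ring

end Groth.Agent.Lib.Helper4.KosComp1
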