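import Mathlib
import Groth.Prelude.Def_LCI2
import Groth.Prelude.Def_ega3
import Groth.Agent.Lib.Helper5.KFlatG.Symm
import Groth.Agent.Lib.Helper5.Koszul.KoszulTensor
import Groth.Agent.Lib.Helper4.KosComp1

/-!
# Change of generators for Koszul-regular sequences (helper4)
-/

set_option backward.isDefEq.respectTransparency.types false
set_option synthInstance.maxHeartbeats 400000
set_option autoImplicit false
set_option linter.unusedSectionVars false
set_option linter.style.haveILetI false
set_option linter.unusedSimpArgs false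
universe u v w
open CategoryTheory CategoryTheory.Limits CochainComplex CohIII MonoidalCategory
open Groth.Agent.Helper8.KoszulLib Groth.Agent.Lib.Helper4.KosComp1

namespace Groth.Agent.Lib.Helper4.KosCG1

attribute [local instance] HasDerivedCategory.standard

variable {A : Type u} [CommRing A]

noncomputable def sigma : (curriedTensor (ModuleCat.{u} A)).flip ≅ curriedTensor (ModuleCat.{u} A) :=
  (BraidedCategory.curriedBraidingNatIso (ModuleCat.{u} A)).symm

noncomputable def tensorSwap (K L : DRing.Cx A) : (K ⊗ L : DRing.Cx A) ≅ (L ⊗ K : DRing.Cx A) :=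
  Groth.Agent.Lib.Helper5.KFlatG.braid (curriedTensor (ModuleCat.{u} A)) sigma K L

theorem koszul_swap (f g : List A) : Nonempty (Koszul.koszul A (f ++ g) ≅ Koszul.koszul A (g ++ f)) := by
  obtain ⟨e1⟩ := Groth.Agent.Lib.Helper5.HomCx.koszul_tensor f g
  obtain ⟨e2⟩ := Groth.Agent.Lib.Helper5.HomCx.koszul_tensor g f
  exact ⟨e1.symm ≪≫ tensorSwap _ _ ≪≫ e2⟩

/-- the lowest degree with nonzero homology -/
def LowAt (K : CochainComplex (ModuleCat.{u} A) ℤ) (q : ℤ) : Prop :=
  (∀ p : ℤ, p < q → IsZero (K.homology p)) ∧ ¬ IsZero (K.homology q)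

theorem LowAt.unique {K : CochainComplex (ModuleCat.{u} A) ℤ} {q q' : ℤ} (h : LowAt K q)
    (h' : LowAt K q') : q = q' := by
  rcases lt_trichotomy q q' with hlt | heq | hgt
  · exact absurd (h'.1 q hlt) h.2
  · exact heq
  · exact absurd (h.1 q' hgt) h'.2

theorem LowAt.of_iso {K L : CochainComplex (ModuleCat.{u} A) ℤ} (e : K ≅ L) {q : ℤ} (h : LowAt K q) :
    LowAt L q := by
  refine ⟨fun p hp => (h.1 p hp).of_iso ((HomologicalComplex.homologyFunctor _ _ p).mapIso e.symm), ?_⟩
  intro hz
  exact h.2 (hz.of_iso ((HomologicalComplex.homologyFunctor _ _ q).mapIso e))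

/-- homology of the cone of a scalar acting as zero on homology -/
theorem isZero_cone_homology_iff (K : CochainComplex (ModuleCat.{u} A) ℤ) (a : A) (m : ℤ)
    (h0 : ∀ z : K.homology m, a • z = 0) (h1 : ∀ z : K.homology (m + 1), a • z = 0) :
    IsZero ((mappingCone (a • 𝟙 K)).homology m) ↔
      IsZero (K.homology m) ∧ IsZero (K.homology (m + 1)) := by
  obtain ⟨i, δ, e1, e2, e3⟩ := exists_exact_cone K a m (m + 1) rfl
  have hi : Function.Injective i := by
    rw [injective_iff_map_eq_zero]
    intro x hx
    obtain ⟨y, hy⟩ := (e1 x).mp hx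
    rw [← hy]
    exact h0 y
  have hδ : Function.Surjective δ := by
    intro y
    apply (e3 y).mp
    exact h1 y
  constructor
  · intro hz
    haveI : Subsingleton ((mappingCone (a • 𝟙 K)).homology m) := ModuleCat.subsingleton_of_isZero hz
    constructor
    · haveI : Subsingleton (K.homology m) := hi.subsingleton
      exact ModuleCat.isZero_of_subsingleton _
    · haveI : Subsingleton (K.homology (m + 1)) := hδ.subsingleton
      exact ModuleCat.isZero_of_subsingleton _
  · rintro ⟨hz0, hz1⟩
    haveI : Subsingleton (K.homology m) := ModuleCat.subsingleton_of_isZero hz0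
    haveI : Subsingleton (K.homology (m + 1)) := ModuleCat.subsingleton_of_isZero hz1
    haveI : Subsingleton ((mappingCone (a • 𝟙 K)).homology m) := by
      constructor
      intro x y
      have hx : δ x = 0 := Subsingleton.elim _ _
      have hy : δ y = 0 := Subsingleton.elim _ _
      obtain ⟨x', rfl⟩ := (e2 x).mp hx
      obtain ⟨y', rfl⟩ := (e2 y).mp hy
      rw [Subsingleton.elim x' y']
    exact ModuleCat.isZero_of_subsingleton _

theorem lowAt_cons (M : ModuleCat.{u} A) (l : List A) (y : A) (hy : y ∈ Ideal.span {x | x ∈ l}) (q : ℤ)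
    (h : LowAt (koszulCx M l) q) : LowAt (koszulCx M (y :: l)) (q - 1) := by
  have hz : ∀ n (z : (koszulCx M l).homology n), y • z = 0 :=
    fun n z => smul_homology_eq_zero M l y hy n z
  constructor
  · intro p hp
    change IsZero ((mappingCone (y • 𝟙 (koszulCx M l))).homology p)
    rw [isZero_cone_homology_iff _ y p (hz p) (hz (p + 1))]
    exact ⟨h.1 p (by omega), h.1 (p + 1) (by omega)⟩
  · intro hzero
    change IsZero ((mappingCone (y • 𝟙 (koszulCx M l))).homology (q - 1)) at hzero
    rw [isZero_cone_homology_iff _ y (q - 1) (hz _) (hz _)] at hzero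
    have := hzero.2
    rw [show q - 1 + 1 = q by ring] at this
    exact h.2 this

theorem lowAt_append (M : ModuleCat.{u} A) (l : List A) (ys : List A)
    (hy : ∀ y ∈ ys, y ∈ Ideal.span {x | x ∈ l}) (q : ℤ)
    (h : LowAt (koszulCx M l) q) : LowAt (koszulCx M (ys ++ l)) (q - ys.length) := by
  induction ys with
  | nil => simpa using h
  | cons y ys ih =>
    have h1 := ih (fun y' hy' => hy y' (List.mem_cons_of_mem _ hy'))
    have hy1 : y ∈ Ideal.span {x | x ∈ ys ++ l} := by
      refine Ideal.span_mono ?_ (hy y (List.mem_cons_self))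
      intro x hx
      exact List.mem_append_right _ hx
    have h2 := lowAt_cons M (ys ++ l) y hy1 _ h1
    have e : q - (ys.length : ℤ) - 1 = q - ((y :: ys).length : ℤ) := by
      rw [List.length_cons]; push_cast; ring
    rw [e] at h2
    exact h2

theorem not_isZero_homology_zero (l : List A) (hne : Ideal.ofList l ≠ ⊤) :
    ¬ IsZero ((koszulCx (ModuleCat.of A A) l).homology 0) := by
  intro hz
  obtain ⟨e⟩ := nonempty_homology_zero_equiv A l
  haveI : Subsingleton ((koszulCx (ModuleCat.of A A) l).homology 0) := ModuleCat.subsingleton_of_isZero hz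
  haveI : Subsingleton (A ⧸ (Ideal.ofList l • (⊤ : Submodule A A))) := e.symm.toEquiv.subsingleton
  have h1 : (Ideal.ofList l • (⊤ : Submodule A A)) = ⊤ := Submodule.Quotient.subsingleton_iff.mp this
  rw [smul_eq_mul, Ideal.mul_top] at h1
  exact hne h1

theorem exists_lowAt (M : ModuleCat.{u} A) (l : List A)
    (h0 : ¬ IsZero ((koszulCx M l).homology 0)) : ∃ q : ℤ, q ≤ 0 ∧ LowAt (koszulCx M l) q := by
  obtain ⟨q, hq, hmin⟩ := Int.exists_least_of_bdd (P := fun p => ¬ IsZero ((koszulCx M l).homology p))
    ⟨-(l.length : ℤ), fun z hz => by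
      by_contra hlt
      push Not at hlt
      exact hz (isZero_homology_of_lt M l z hlt)⟩ ⟨0, h0⟩
  refine ⟨q, hmin 0 h0, fun p hp => ?_, hq⟩
  by_contra hnz
  have := hmin p hnz
  omega

theorem mem_span_of_ofList_eq (f g : List A) (hfg : Ideal.ofList f = Ideal.ofList g) :
    ∀ y ∈ g, y ∈ Ideal.span {x | x ∈ f} := by
  intro y hy
  change y ∈ Ideal.ofList f
  rw [hfg]
  exact Ideal.subset_span hy

/-- change of generators for Koszul-regular sequences -/
theorem koszul_change_generators (f g : List A) (hfg : Ideal.ofList f = Ideal.ofList g)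
    (hne : Ideal.ofList f ≠ ⊤) (hf : LCI.IsKoszulRegularSeq A f) :
    f.length ≤ g.length ∧ (LCI.IsKoszulRegularSeq A g ↔ g.length = f.length) := by
  rw [isKoszulRegularSeq_iff] at hf
  have hLf : LowAt (koszulCx (ModuleCat.of A A) f) 0 :=
    ⟨fun p hp => hf p (by omega), not_isZero_homology_zero f hne⟩
  obtain ⟨q, hq0, hLg⟩ := exists_lowAt (ModuleCat.of A A) g (not_isZero_homology_zero g (hfg ▸ hne))
  have h1 := lowAt_append (ModuleCat.of A A) f g (mem_span_of_ofList_eq f g hfg) 0 hLf
  have h2 := lowAt_append (ModuleCat.of A A) g f (mem_span_of_ofList_eq g f hfg.symm) q hLg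
  obtain ⟨e⟩ := koszul_swap f g
  rw [koszul_eq_koszulCx, koszul_eq_koszulCx] at e
  have h3 := (h2.of_iso e).unique h1
  refine ⟨by omega, ?_⟩
  rw [isKoszulRegularSeq_iff]
  constructor
  · intro hg
    have hLg0 : LowAt (koszulCx (ModuleCat.of A A) g) 0 :=
      ⟨fun p hp => hg p (by omega), not_isZero_homology_zero g (hfg ▸ hne)⟩
    have := hLg.unique hLg0
    omega
  · intro hlen i hi
    have hq : q = 0 := by omega
    subst hq
    rcases lt_or_gt_of_ne hi with hneg | hpos
    · exact hLg.1 i hneg
    · exact isZero_homology_of_pos _ _ i hpos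

theorem S18935_main {R : Type u} [CommRing R] {I : Ideal R} (hI : I ≠ ⊤)
    (g : List R) (hg : LCI.IsKoszulRegularSeq R g) (hgI : Ideal.ofList g = I)
    (f : List R) (hfI : Ideal.ofList f = I) :
    LCI.IsKoszulRegularSeq R f ↔ ∀ h : List R, Ideal.ofList h = I → f.length ≤ h.length := by
  constructor
  · intro hf h hh
    exact (koszul_change_generators f h (hfI.trans hh.symm) (hfI ▸ hI) hf).1
  · intro hmin
    obtain ⟨h1, h2⟩ := koszul_change_generators g f (hgI.trans hfI.symm) (hgI ▸ hI) hg
    have := hmin g hgI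
    exact h2.mpr (by omega)

end Groth.Agent.Lib.Helper4.KosCG1
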