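import Mathlib

/-!
# Elementary exchange lemma for generators of an ideal near a prime (helper4)
-/

set_option backward.isDefEq.respectTransparency.types false
set_option synthInstance.maxHeartbeats 400000
set_option autoImplicit false
set_option linter.unusedSectionVars false
set_option linter.style.haveILetI false
set_option linter.unusedSimpArgs false
universe u v w

namespace Groth.Agent.Lib.Helper4.KosExch1

variable {R : Type u} [CommRing R]

lemma ofList_append' (l₁ l₂ : List R) : Ideal.ofList (l₁ ++ l₂) = Ideal.ofList l₁ ⊔ Ideal.ofList l₂ := by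
  unfold Ideal.ofList
  rw [← Ideal.span_union]
  congr 1
  ext x
  simp [List.mem_append]

lemma ofList_cons' (a : R) (l : List R) : Ideal.ofList (a :: l) = Ideal.span {a} ⊔ Ideal.ofList l := by
  unfold Ideal.ofList
  rw [← Ideal.span_union]
  congr 1
  ext x
  simp [List.mem_cons]

lemma ofList_le_iff (l : List R) (J : Ideal R) : Ideal.ofList l ≤ J ↔ ∀ x ∈ l, x ∈ J := by
  unfold Ideal.ofList
  rw [Ideal.span_le]
  rfl

lemma mem_ofList_of_mem {l : List R} {x : R} (h : x ∈ l) : x ∈ Ideal.ofList l :=
  Ideal.subset_span h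

/-- `J` is generated by `L` after inverting `g` -/
def GenAfter (J : Ideal R) (g : R) (L : List R) : Prop :=
  Ideal.ofList L ≤ J ∧ ∀ x ∈ J, ∃ n : ℕ, g ^ n * x ∈ Ideal.ofList L

/-- triangular independence of the list `u` modulo `𝔭 * J`, over the span of `pre` -/
def IndepT (𝔭 J : Ideal R) : List R → List R → Prop
  | _, [] => True
  | pre, x :: u => (∀ s : R, s * x ∈ Ideal.ofList pre ⊔ 𝔭 * J → s ∈ 𝔭) ∧ IndepT 𝔭 J (pre ++ [x]) u

/-- picking an exchangeable element of a generating list -/
lemma exists_pick (𝔭 J P : Ideal R) [𝔭.IsPrime] :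
    ∀ (l : List R) (z : R), (∀ b ∈ l, b ∈ J) → z ∈ P ⊔ Ideal.ofList l → z ∉ P ⊔ 𝔭 * J →
      ∃ (l₁ l₂ : List R) (b c : R), l = l₁ ++ b :: l₂ ∧ c ∉ 𝔭 ∧
        c * b ∈ P ⊔ Ideal.span {z} ⊔ Ideal.ofList (l₁ ++ l₂)
  | [], z, _, hz, hz' => by
    exfalso
    apply hz'
    rw [show Ideal.ofList ([] : List R) = ⊥ from Ideal.ofList_nil, sup_bot_eq] at hz
    exact Ideal.mem_sup_left hz
  | b :: l, z, hl, hz, hz' => by
    rw [ofList_cons', ← sup_assoc, sup_comm P, sup_assoc] at hz
    obtain ⟨y, hy, z', hz'', rfl⟩ := Submodule.mem_sup.1 hz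
    obtain ⟨c, rfl⟩ := Ideal.mem_span_singleton'.1 hy
    by_cases hc : c ∈ 𝔭
    · -- recurse
      have hb : b ∈ J := hl b List.mem_cons_self
      have hcb : c * b ∈ 𝔭 * J := Ideal.mul_mem_mul hc hb
      have h1 : z' ∉ P ⊔ 𝔭 * J := by
        intro h
        apply hz'
        exact Ideal.add_mem _ (Ideal.mem_sup_right hcb) h
      obtain ⟨l₁, l₂, b', c', hl', hc', hcb'⟩ := exists_pick 𝔭 J P l z'
        (fun x hx => hl x (List.mem_cons_of_mem _ hx)) hz'' h1
      refine ⟨b :: l₁, l₂, b', c', by rw [hl']; rfl, hc', ?_⟩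
      have h2 : P ⊔ Ideal.span {z'} ⊔ Ideal.ofList (l₁ ++ l₂) ≤
          P ⊔ Ideal.span {c * b + z'} ⊔ Ideal.ofList (b :: l₁ ++ l₂) := by
        refine sup_le (sup_le (le_sup_of_le_left le_sup_left) ?_) ?_
        · rw [Ideal.span_singleton_le_iff_mem]
          have h3 : c * b + z' ∈ P ⊔ Ideal.span {c * b + z'} ⊔ Ideal.ofList (b :: l₁ ++ l₂) :=
            Ideal.mem_sup_left (Ideal.mem_sup_right (Ideal.subset_span rfl))
          have h4 : c * b ∈ P ⊔ Ideal.span {c * b + z'} ⊔ Ideal.ofList (b :: l₁ ++ l₂) :=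
            Ideal.mem_sup_right
              (Ideal.mul_mem_left _ _ (mem_ofList_of_mem List.mem_cons_self))
          have h5 := Ideal.sub_mem _ h3 h4
          rwa [add_sub_cancel_left] at h5
        · refine le_sup_of_le_right ?_
          rw [ofList_le_iff]
          intro x hx
          exact mem_ofList_of_mem (List.mem_cons_of_mem _ hx)
      exact h2 hcb'
    · refine ⟨[], l, b, c, rfl, hc, ?_⟩
      rw [List.nil_append]
      have h3 : c * b + z' ∈ P ⊔ Ideal.span {c * b + z'} ⊔ Ideal.ofList l :=
        Ideal.mem_sup_left (Ideal.mem_sup_right (Ideal.subset_span rfl))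
      have h4 : z' ∈ P ⊔ Ideal.span {c * b + z'} ⊔ Ideal.ofList l := by
        rw [sup_assoc, sup_comm (Ideal.span _), ← sup_assoc]
        exact Ideal.mem_sup_left hz''
      have h5 := Ideal.sub_mem _ h3 h4
      rwa [add_sub_cancel_right] at h5


lemma GenAfter.mul {J : Ideal R} {g : R} {L : List R} (h : GenAfter J g L) (c : R) :
    GenAfter J (g * c) L := by
  refine ⟨h.1, fun x hx => ?_⟩
  obtain ⟨n, hn⟩ := h.2 x hx
  refine ⟨n, ?_⟩
  rw [mul_pow, mul_assoc, mul_comm (c ^ n), ← mul_assoc]
  exact Ideal.mul_mem_right _ _ hn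

/-- the exchange lemma, in elementary form -/
theorem exchange (𝔭 J : Ideal R) [𝔭.IsPrime] :
    ∀ (u pre l : List R) (g : R), g ∉ 𝔭 → GenAfter J g (pre ++ l) → (∀ x ∈ u, x ∈ J) →
      IndepT 𝔭 J pre u →
      ∃ g' : R, g' ∉ 𝔭 ∧ ∃ l' : List R, l'.length + u.length = l.length ∧ (∀ b ∈ l', b ∈ l) ∧
        GenAfter J g' (pre ++ u ++ l')
  | [], pre, l, g, hg, hgen, _, _ => ⟨g, hg, l, by simp, fun _ h => h, by simpa using hgen⟩
  | x :: u, pre, l, g, hg, hgen, hu, hind => by
    obtain ⟨hind1, hind2⟩ := hind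
    have hxJ : x ∈ J := hu x List.mem_cons_self
    obtain ⟨n, hn⟩ := hgen.2 x hxJ
    rw [ofList_append'] at hn
    have hlJ : ∀ b ∈ l, b ∈ J := fun b hb =>
      hgen.1 (mem_ofList_of_mem (List.mem_append_right _ hb))
    have hz' : g ^ n * x ∉ Ideal.ofList pre ⊔ 𝔭 * J := by
      intro h
      exact hg (Ideal.IsPrime.mem_of_pow_mem inferInstance n (hind1 _ h))
    obtain ⟨l₁, l₂, b, c, rfl, hc, hcb⟩ := exists_pick 𝔭 J (Ideal.ofList pre) l (g ^ n * x) hlJ hn hz'
    -- the new generating list
    have hcb' : c * b ∈ Ideal.ofList ((pre ++ [x]) ++ (l₁ ++ l₂)) := by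
      rw [ofList_append', ofList_append']
      have hle : Ideal.ofList pre ⊔ Ideal.span {g ^ n * x} ⊔ Ideal.ofList (l₁ ++ l₂) ≤
          Ideal.ofList pre ⊔ Ideal.ofList [x] ⊔ Ideal.ofList (l₁ ++ l₂) := ?_
      · exact hle hcb
      refine sup_le (sup_le ?_ ?_) ?_
      · exact le_sup_of_le_left le_sup_left
      · refine le_sup_of_le_left (le_sup_of_le_right ?_)
        rw [Ideal.span_singleton_le_iff_mem]
        exact Ideal.mul_mem_left _ _ (mem_ofList_of_mem List.mem_cons_self)
      · exact le_sup_right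
    have hgen' : GenAfter J (g * c) ((pre ++ [x]) ++ (l₁ ++ l₂)) := by
      constructor
      · rw [ofList_le_iff]
        intro y hy
        rcases List.mem_append.1 hy with hy | hy
        · rcases List.mem_append.1 hy with hy | hy
          · exact hgen.1 (mem_ofList_of_mem (List.mem_append_left _ hy))
          · rw [List.mem_singleton] at hy
            rw [hy]; exact hxJ
        · refine hlJ y ?_
          rcases List.mem_append.1 hy with hy | hy
          · exact List.mem_append_left _ hy
          · exact List.mem_append_right _ (List.mem_cons_of_mem _ hy)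
      · intro y hy
        obtain ⟨k, hk⟩ := hgen.2 y hy
        refine ⟨k + 1, ?_⟩
        -- `c` times the old ideal lies in the new one
        have hmul : ∀ w ∈ Ideal.ofList (pre ++ (l₁ ++ b :: l₂)),
            c * w ∈ Ideal.ofList ((pre ++ [x]) ++ (l₁ ++ l₂)) := by
          intro w hw
          refine Submodule.span_induction ?_ ?_ ?_ ?_ hw
          · intro v hv
            have hv' : v ∈ pre ++ (l₁ ++ b :: l₂) := hv
            rcases List.mem_append.1 hv' with hv' | hv'
            · exact Ideal.mul_mem_left _ _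
                (mem_ofList_of_mem (List.mem_append_left _ (List.mem_append_left _ hv')))
            · rcases List.mem_append.1 hv' with hv' | hv'
              · exact Ideal.mul_mem_left _ _
                  (mem_ofList_of_mem (List.mem_append_right _ (List.mem_append_left _ hv')))
              · rcases List.mem_cons.1 hv' with hv' | hv'
                · rw [hv']; exact hcb'
                · exact Ideal.mul_mem_left _ _
                    (mem_ofList_of_mem (List.mem_append_right _ (List.mem_append_right _ hv')))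
          · rw [mul_zero]; exact Ideal.zero_mem _
          · intro v w _ _ hv hw
            rw [mul_add]; exact Ideal.add_mem _ hv hw
          · intro a v _ hv
            rw [smul_eq_mul, mul_left_comm]; exact Ideal.mul_mem_left _ _ hv
        have h1 := hmul _ hk
        have h2 : (g * c) ^ (k + 1) * y = (g * c ^ k) * (c * (g ^ k * y)) := by ring
        rw [h2]
        exact Ideal.mul_mem_left _ _ h1
    obtain ⟨g', hg', l', hlen, hsub, hfin⟩ := exchange 𝔭 J u (pre ++ [x]) (l₁ ++ l₂) (g * c)
      (fun h => (Ideal.IsPrime.mem_or_mem inferInstance h).elim hg hc) hgen'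
      (fun y hy => hu y (List.mem_cons_of_mem _ hy)) hind2
    refine ⟨g', hg', l', ?_, ?_, ?_⟩
    · simp only [List.length_append, List.length_cons] at hlen ⊢
      omega
    · intro b' hb'
      rcases List.mem_append.1 (hsub b' hb') with h | h
      · exact List.mem_append_left _ h
      · exact List.mem_append_right _ (List.mem_cons_of_mem _ h)
    · simpa using hfin

end Groth.Agent.Lib.Helper4.KosExch1
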