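import Mathlib
import Groth.Prelude.Def_LCI2
import Groth.Prelude.Def_ega3
import Groth.Agent.Lib.Helper3.KosBC1
import Groth.Agent.Lib.Helper4.KosComp1

/-!
# Koszul-regularity and quotients by Koszul-regular sequences (iff form) (helper4)
-/

set_option backward.isDefEq.respectTransparency.types false
set_option synthInstance.maxHeartbeats 400000
set_option autoImplicit false
set_option linter.unusedSectionVars false
set_option linter.style.haveILetI false
set_option linter.unusedSimpArgs false
universe u v w
open CategoryTheory CategoryTheory.Limits CochainComplex CohIII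
open Groth.Agent.Helper8.KoszulLib Groth.Agent.Helper3.KosBC
open Groth.Agent.Lib.Helper4.KosComp1

namespace Groth.Agent.Lib.Helper4.KosQuot1

attribute [local instance] HasDerivedCategory.standard

variable {A : Type u} [CommRing A] {B : Type u} [CommRing B] (ψ : A →+* B)

/-- restriction of scalars reflects zero objects -/
lemma isZero_of_isZero_restrictScalars (M : ModuleCat.{u} B)
    (h : IsZero ((ModuleCat.restrictScalars ψ).obj M)) : IsZero M := by
  haveI : Subsingleton ((ModuleCat.restrictScalars ψ).obj M) := ModuleCat.subsingleton_of_isZero h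
  haveI : Subsingleton M := ‹Subsingleton ((ModuleCat.restrictScalars ψ).obj M)›
  exact ModuleCat.isZero_of_subsingleton M

/-- the quotient by a Koszul-regular sequence: Koszul-regularity of `ts' ++ rs` upstairs is
Koszul-regularity of the image of `ts'` downstairs -/
theorem koszul_append_iff_of_surjective (hψ : Function.Surjective ψ) (rs : List A)
    (hrs : LCI.IsKoszulRegularSeq A rs) (hker : RingHom.ker ψ = Ideal.ofList rs) (ts' : List A) :
    LCI.IsKoszulRegularSeq A (ts' ++ rs) ↔ LCI.IsKoszulRegularSeq B (ts'.map ψ) := by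
  refine ⟨fun h => ?_, koszul_append_of_surjective ψ hψ rs hrs hker ts'⟩
  rw [isKoszulRegularSeq_iff] at hrs h ⊢
  intro i hi
  have h0 := h i hi
  rw [isZero_homology_of_eq (koszulCx_append _ ts' rs) i] at h0
  obtain ⟨Y, ⟨eY⟩, hY⟩ := exists_module_kosOn _ hrs
  rw [hY] at h0
  obtain ⟨e1⟩ := nonempty_homology_zero_equiv A rs
  obtain ⟨e2⟩ := nonempty_quot_equiv ψ hψ rs hker
  have e : (ModuleCat.restrictScalars ψ).obj (ModuleCat.of B B) ≅ Y :=
    (e2.symm.trans e1.symm).toModuleIso ≪≫ eY.symm
  obtain ⟨e3⟩ := nonempty_map_koszulCx_iso (ModuleCat.restrictScalars ψ) (ModuleCat.of B B) Y e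
    (ts'.map ψ) ts' (forall₂_compat_restrictScalars ψ ts')
  have h2 : IsZero ((((ModuleCat.restrictScalars ψ).mapHomologicalComplex (ComplexShape.up ℤ)).obj
      (koszulCx (ModuleCat.of B B) (ts'.map ψ))).homology i) :=
    h0.of_iso ((HomologicalComplex.homologyFunctor _ _ i).mapIso e3)
  have h3 : IsZero ((ModuleCat.restrictScalars ψ).obj
      ((koszulCx (ModuleCat.of B B) (ts'.map ψ)).homology i)) :=
    h2.of_iso
      (((koszulCx (ModuleCat.of B B) (ts'.map ψ)).sc i).mapHomologyIso
        (ModuleCat.restrictScalars ψ)).symm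
  exact isZero_of_isZero_restrictScalars ψ _ h3

end Groth.Agent.Lib.Helper4.KosQuot1
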