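import Mathlib
import Groth.Prelude.Def_LCI2
import Groth.Prelude.Def_ega3
import Groth.Agent.Lib.Helper3.KosBC1
import Groth.Agent.Lib.Helper3.KosBC6
import Groth.Agent.Lib.Helper8.KP2
import Groth.Agent.Lib.Helper4.KosCG1
import Groth.Agent.Lib.Helper4.KosQuot1
import Groth.Agent.Lib.Helper4.KosExch1

/-!
# Koszul-regular ideals: flexible local models, exchange lemma, quotients (helper4)
-/

set_option backward.isDefEq.respectTransparency.types false
set_option synthInstance.maxHeartbeats 400000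
set_option autoImplicit false
set_option linter.unusedSectionVars false
set_option linter.style.haveILetI false
set_option linter.unusedSimpArgs false
universe u v w
open CategoryTheory CategoryTheory.Limits CochainComplex CohIII
open Groth.Agent.Helper8.KoszulLib Groth.Agent.Helper3.KosBC
open Groth.Agent.Lib.Helper4.KosComp1 Groth.Agent.Lib.Helper4.KosQuot1 Groth.Agent.Lib.Helper4.KosExch1
open Groth.Agent.Lib.Helper4.KosCG1

namespace Groth.Agent.Lib.Helper4.KosQuot2

variable {R : Type u} [CommRing R]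

/-- `J` becomes generated by a Koszul-regular sequence after inverting `g` (any model of the
localization) -/
def KRLoc (J : Ideal R) (g : R) : Prop :=
  ∃ (S : Type u) (_ : CommRing S) (_ : Algebra R S), IsLocalization.Away g S ∧
    ∃ l : List S, LCI.IsKoszulRegularSeq S l ∧ J.map (algebraMap R S) = Ideal.ofList l

lemma map_ofList {S S' : Type*} [CommRing S] [CommRing S'] (f : S →+* S') (l : List S) :
    (Ideal.ofList l).map f = Ideal.ofList (l.map f) := by
  unfold Ideal.ofList
  rw [Ideal.map_span]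
  congr 1
  ext x
  simp [List.mem_map]

lemma krLoc_iff_away (J : Ideal R) (g : R) :
    KRLoc J g ↔ ∃ l : List (Localization.Away g), LCI.IsKoszulRegularSeq (Localization.Away g) l ∧
      J.map (algebraMap R (Localization.Away g)) = Ideal.span {x | x ∈ l} := by
  constructor
  · rintro ⟨S, _, _, hS, l, hl, hJ⟩
    let e : S ≃ₐ[R] Localization.Away g := IsLocalization.algEquiv (Submonoid.powers g) S _
    refine ⟨l.map e.toRingEquiv, isKoszulRegularSeq_of_ringEquiv e.toRingEquiv l hl, ?_⟩
    have h1 : algebraMap R (Localization.Away g) =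
        (e.toRingEquiv : S →+* Localization.Away g).comp (algebraMap R S) := by
      ext x
      exact (e.commutes x).symm
    rw [h1, ← Ideal.map_map, hJ, map_ofList]
    rfl
  · rintro ⟨l, hl, hJ⟩
    exact ⟨Localization.Away g, _, _, inferInstance, l, hl, hJ⟩

lemma isKoszulRegularIdeal_iff (J : Ideal R) :
    LCI.IsKoszulRegularIdeal J ↔ ∀ 𝔭 : Ideal R, 𝔭.IsPrime → J ≤ 𝔭 → ∃ g : R, g ∉ 𝔭 ∧ KRLoc J g := by
  unfold LCI.IsKoszulRegularIdeal
  constructor
  · intro h 𝔭 h𝔭 hle
    obtain ⟨g, hg, hl⟩ := h ⟨𝔭, h𝔭⟩ hle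
    exact ⟨g, hg, (krLoc_iff_away J g).2 hl⟩
  · intro h 𝔭 hle
    obtain ⟨g, hg, hl⟩ := h 𝔭.asIdeal 𝔭.2 hle
    exact ⟨g, hg, (krLoc_iff_away J g).1 hl⟩

/-- further localization -/
lemma KRLoc.mul {J : Ideal R} {g : R} (h : KRLoc J g) (c : R) : KRLoc J (g * c) := by
  obtain ⟨S, _, _, hS, l, hl, hJ⟩ := h
  refine ⟨Localization.Away (algebraMap R S c), inferInstance, inferInstance, inferInstance,
    l.map (algebraMap S (Localization.Away (algebraMap R S c))),
    isKoszulRegularSeq_map_of_flat S _ l hl, ?_⟩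
  rw [IsScalarTower.algebraMap_eq R S (Localization.Away (algebraMap R S c)), ← Ideal.map_map, hJ,
    map_ofList]


/-- Koszul-regularity is invariant under permutation -/
lemma kr_of_perm {S : Type u} [CommRing S] {l l' : List S} (h : l.Perm l')
    (hl : LCI.IsKoszulRegularSeq S l) : LCI.IsKoszulRegularSeq S l' := by
  rw [Groth.Agent.Lib.Helper4.KosComp1.isKoszulRegularSeq_iff] at hl ⊢
  intro i hi
  obtain ⟨e⟩ := nonempty_koszulCx_iso_of_perm (ModuleCat.of S S) h
  exact (hl i hi).of_iso ((HomologicalComplex.homologyFunctor _ _ i).mapIso e.symm)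

section Transfer

variable {S : Type u} [CommRing S] [Algebra R S]

/-- transfer of triangular independence to a localization away from an element outside `𝔭` -/
lemma indepT_map (g0 : R) [IsLocalization.Away g0 S] (𝔭 J : Ideal R) [𝔭.IsPrime] (hg0 : g0 ∉ 𝔭) :
    ∀ (pre u : List R), IndepT 𝔭 J pre u →
      IndepT (𝔭.map (algebraMap R S)) (J.map (algebraMap R S)) (pre.map (algebraMap R S))
        (u.map (algebraMap R S))
  | _, [], _ => trivial
  | pre, x :: u, h => by
    refine ⟨?_, ?_⟩
    · intro s' hs'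
      obtain ⟨⟨s, m⟩, hsm⟩ := IsLocalization.surj (Submonoid.powers g0) s'
      simp only at hsm
      have h1 : Ideal.ofList (pre.map (algebraMap R S)) ⊔
          𝔭.map (algebraMap R S) * J.map (algebraMap R S) =
          (Ideal.ofList pre ⊔ 𝔭 * J).map (algebraMap R S) := by
        rw [Ideal.map_sup, Ideal.map_mul, map_ofList]
      rw [h1] at hs'
      have h2 : algebraMap R S (s * x) ∈ (Ideal.ofList pre ⊔ 𝔭 * J).map (algebraMap R S) := by
        rw [map_mul, ← hsm, mul_right_comm]
        exact Ideal.mul_mem_right _ _ hs'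
      obtain ⟨m', hm', hm'x⟩ := (IsLocalization.algebraMap_mem_map_algebraMap_iff
        (Submonoid.powers g0) S _ _).1 h2
      have h3 : m' * s ∈ 𝔭 := h.1 (m' * s) (by rw [mul_assoc]; exact hm'x)
      have hm'p : m' ∉ 𝔭 := by
        obtain ⟨k, rfl⟩ := hm'
        exact fun hk => hg0 (Ideal.IsPrime.mem_of_pow_mem inferInstance k hk)
      have h4 : s ∈ 𝔭 := (Ideal.IsPrime.mem_or_mem inferInstance h3).resolve_left hm'p
      have h5 : s' * algebraMap R S m ∈ 𝔭.map (algebraMap R S) := by
        rw [hsm]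
        exact Ideal.mem_map_of_mem _ h4
      have hu : IsUnit (algebraMap R S (m : R)) := IsLocalization.map_units S m
      obtain ⟨v, hv⟩ := hu
      have h6 : s' = s' * algebraMap R S m * (↑v⁻¹ : S) := by
        rw [← hv, mul_assoc, Units.mul_inv, mul_one]
      rw [h6]
      exact Ideal.mul_mem_right _ _ h5
    · have := indepT_map g0 𝔭 J hg0 (pre ++ [x]) u h.2
      simpa using this

end Transfer

/-- generation after inverting `g` gives generation in the localization -/
lemma map_eq_ofList_of_genAfter {S : Type u} [CommRing S] [Algebra R S] (g : R)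
    [IsLocalization.Away g S] (J : Ideal R) (L : List R) (h : GenAfter J g L) :
    J.map (algebraMap R S) = Ideal.ofList (L.map (algebraMap R S)) := by
  rw [← map_ofList]
  refine le_antisymm ?_ (Ideal.map_mono h.1)
  rw [Ideal.map_le_iff_le_comap]
  intro x hx
  obtain ⟨n, hn⟩ := h.2 x hx
  rw [Ideal.mem_comap]
  have h1 : algebraMap R S (g ^ n * x) ∈ (Ideal.ofList L).map (algebraMap R S) :=
    Ideal.mem_map_of_mem _ hn
  have hu : IsUnit (algebraMap R S (g ^ n)) := by
    rw [map_pow]
    exact (IsLocalization.Away.algebraMap_isUnit g).pow n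
  obtain ⟨v, hv⟩ := hu
  have h2 : algebraMap R S x = (↑v⁻¹ : S) * algebraMap R S (g ^ n * x) := by
    rw [map_mul, ← hv, ← mul_assoc, Units.inv_mul, one_mul]
  rw [h2]
  exact Ideal.mul_mem_left _ _ h1

/-- the exchange lemma for Koszul-regular generation near a prime -/
theorem exchange_kr (J 𝔭 : Ideal R) [𝔭.IsPrime] (hJ : J ≤ 𝔭) (g0 : R) (hg0 : g0 ∉ 𝔭)
    (h0 : KRLoc J g0) (u : List R) (hu : ∀ x ∈ u, x ∈ J) (hind : IndepT 𝔭 J [] u) :
    ∃ g : R, g ∉ 𝔭 ∧ ∃ (S : Type u) (_ : CommRing S) (_ : Algebra R S), IsLocalization.Away g S ∧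
      ∃ l'' : List S, LCI.IsKoszulRegularSeq S (u.map (algebraMap R S) ++ l'') ∧
        J.map (algebraMap R S) = Ideal.ofList (u.map (algebraMap R S) ++ l'') := by
  obtain ⟨S0, _, _, hS0, l0, hl0, hJ0⟩ := h0
  have hdisj : Disjoint (Submonoid.powers g0 : Set R) (𝔭 : Set R) := by
    rw [Set.disjoint_left]
    rintro _ ⟨k, rfl⟩ hk
    exact hg0 (Ideal.IsPrime.mem_of_pow_mem inferInstance k hk)
  haveI h𝔭0 : (𝔭.map (algebraMap R S0)).IsPrime :=
    IsLocalization.isPrime_of_isPrime_disjoint (Submonoid.powers g0) S0 𝔭 inferInstance hdisj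
  have hind0 := indepT_map (S := S0) g0 𝔭 J hg0 [] u hind
  have hgen0 : GenAfter (J.map (algebraMap R S0)) 1 ([] ++ l0) := by
    refine ⟨by rw [List.nil_append, hJ0], fun x hx => ⟨0, ?_⟩⟩
    rw [List.nil_append, pow_zero, one_mul, ← hJ0]
    exact hx
  have h1 : (1 : S0) ∉ 𝔭.map (algebraMap R S0) := fun h =>
    h𝔭0.ne_top ((Ideal.eq_top_iff_one _).2 h)
  obtain ⟨g1, hg1, l', hlen, -, hgen⟩ := exchange (𝔭.map (algebraMap R S0)) (J.map (algebraMap R S0))
    (u.map (algebraMap R S0)) [] l0 1 h1 hgen0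
    (fun x hx => by
      obtain ⟨y, hy, rfl⟩ := List.mem_map.1 hx
      exact Ideal.mem_map_of_mem _ (hu y hy)) hind0
  rw [List.nil_append] at hgen
  -- write `g1` as a fraction
  obtain ⟨⟨y, m⟩, hym⟩ := IsLocalization.surj (Submonoid.powers g0) g1
  simp only at hym
  have hum : IsUnit (algebraMap R S0 (m : R)) := IsLocalization.map_units S0 m
  have hassoc : Associated (algebraMap R S0 y) g1 := by
    obtain ⟨v, hv⟩ := hum
    refine ⟨v⁻¹, ?_⟩
    rw [← hym, ← hv, mul_assoc, Units.mul_inv, mul_one]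
  have hy : y ∉ 𝔭 := by
    intro hy
    apply hg1
    obtain ⟨v, hv⟩ := hassoc
    rw [← hv]
    exact Ideal.mul_mem_right _ _ (Ideal.mem_map_of_mem _ hy)
  -- the further localization
  haveI : IsScalarTower R S0 (Localization.Away g1) := inferInstance
  haveI hloc : IsLocalization.Away (g0 * y) (Localization.Away g1) :=
    IsLocalization.Away.mul_of_associated g0 y g1 hassoc
  have hgy : g0 * y ∉ 𝔭 := fun h => (Ideal.IsPrime.mem_or_mem inferInstance h).elim hg0 hy
  refine ⟨g0 * y, hgy, Localization.Away g1, inferInstance, inferInstance, hloc,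
    l'.map (algebraMap S0 (Localization.Away g1)), ?_, ?_⟩
  · -- Koszul-regularity by change of generators
    have hJS : (J.map (algebraMap R S0)).map (algebraMap S0 (Localization.Away g1)) =
        Ideal.ofList ((u.map (algebraMap R S0) ++ l').map (algebraMap S0 (Localization.Away g1))) :=
      map_eq_ofList_of_genAfter g1 _ _ hgen
    have hl0' : LCI.IsKoszulRegularSeq (Localization.Away g1)
        (l0.map (algebraMap S0 (Localization.Away g1))) :=
      isKoszulRegularSeq_map_of_flat S0 _ l0 hl0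
    have heq : Ideal.ofList (l0.map (algebraMap S0 (Localization.Away g1))) =
        Ideal.ofList ((u.map (algebraMap R S0) ++ l').map (algebraMap S0 (Localization.Away g1))) := by
      rw [← hJS, hJ0, map_ofList]
    have hne : Ideal.ofList (l0.map (algebraMap S0 (Localization.Away g1))) ≠ ⊤ := by
      rw [← map_ofList, ← hJ0, Ideal.map_map, ← IsScalarTower.algebraMap_eq]
      have hdisj' : Disjoint (Submonoid.powers (g0 * y) : Set R) (𝔭 : Set R) := by
        rw [Set.disjoint_left]
        rintro _ ⟨k, rfl⟩ hk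
        exact hgy (Ideal.IsPrime.mem_of_pow_mem inferInstance k hk)
      have hp' : (𝔭.map (algebraMap R (Localization.Away g1))).IsPrime :=
        IsLocalization.isPrime_of_isPrime_disjoint (Submonoid.powers (g0 * y)) _ 𝔭 inferInstance hdisj'
      exact fun h => hp'.ne_top (top_le_iff.1 (h ▸ Ideal.map_mono hJ))
    have hcg := koszul_change_generators _ _ heq hne hl0'
    have hlen' : ((u.map (algebraMap R S0) ++ l').map (algebraMap S0 (Localization.Away g1))).length =
        (l0.map (algebraMap S0 (Localization.Away g1))).length := by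
      simp only [List.length_map, List.length_append] at hlen ⊢
      omega
    have hkr := hcg.2.2 hlen'
    simpa [List.map_append, List.map_map, IsScalarTower.algebraMap_eq R S0 (Localization.Away g1)]
      using hkr
  · rw [IsScalarTower.algebraMap_eq R S0 (Localization.Away g1), ← Ideal.map_map,
      map_eq_ofList_of_genAfter g1 _ _ hgen]
    simp [List.map_append, List.map_map]


lemma ofList_zeros_append {S : Type u} [CommRing S] (z l : List S) (hz : ∀ x ∈ z, x = 0) :
    Ideal.ofList (z ++ l) = Ideal.ofList l := by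
  rw [ofList_append']
  have : Ideal.ofList z = ⊥ := by
    rw [eq_bot_iff, ofList_le_iff]
    intro x hx
    rw [hz x hx]
    exact Ideal.zero_mem _
  rw [this, bot_sup_eq]

/-- the quotient of a Koszul-regular ideal by a Koszul-regular sequence which is independent in the
conormal module at every point is Koszul-regular -/
theorem krIdeal_quotient {Q Q' : Type u} [CommRing Q] [CommRing Q'] (ψ : Q →+* Q')
    (hψ : Function.Surjective ψ) (u : List Q) (hu : LCI.IsKoszulRegularSeq Q u)
    (hker : RingHom.ker ψ = Ideal.ofList u) (I' : Ideal Q) (hI' : LCI.IsKoszulRegularIdeal I')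
    (hle : RingHom.ker ψ ≤ I')
    (hind : ∀ 𝔮 : Ideal Q, 𝔮.IsPrime → I' ≤ 𝔮 → IndepT 𝔮 I' [] u) :
    LCI.IsKoszulRegularIdeal (I'.map ψ) := by
  rw [isKoszulRegularIdeal_iff] at hI' ⊢
  intro 𝔮' h𝔮' hI𝔮'
  haveI : (𝔮'.comap ψ).IsPrime := Ideal.comap_isPrime ψ 𝔮'
  have hI𝔮 : I' ≤ 𝔮'.comap ψ := Ideal.map_le_iff_le_comap.1 hI𝔮'
  obtain ⟨g0, hg0, h0⟩ := hI' (𝔮'.comap ψ) inferInstance hI𝔮
  have huI : ∀ x ∈ u, x ∈ I' := fun x hx => hle (hker ▸ mem_ofList_of_mem hx)
  obtain ⟨g, hg, S, _, _, hS, l'', hkr, hgen⟩ := exchange_kr I' (𝔮'.comap ψ) hI𝔮 g0 hg0 h0 u huI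
    (hind _ inferInstance hI𝔮)
  refine ⟨ψ g, hg, ?_⟩
  -- the quotient of `S` by the image of `u`
  obtain ⟨uS, huS⟩ : ∃ uS : List S, uS = u.map (algebraMap Q S) := ⟨_, rfl⟩
  rw [← huS] at hkr hgen
  haveI : Module.Flat Q S := IsLocalization.flat S (Submonoid.powers g)
  have huSkr : LCI.IsKoszulRegularSeq S uS := huS ▸ isKoszulRegularSeq_map_of_flat Q S u hu
  have hkr' : LCI.IsKoszulRegularSeq S (l'' ++ uS) := kr_of_perm List.perm_append_comm hkr
  have hquot : LCI.IsKoszulRegularSeq (S ⧸ Ideal.ofList uS)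
      (l''.map (Ideal.Quotient.mk (Ideal.ofList uS))) :=
    (koszul_append_iff_of_surjective (Ideal.Quotient.mk (Ideal.ofList uS))
      Ideal.Quotient.mk_surjective uS huSkr Ideal.mk_ker l'').1 hkr'
  have hker' : RingHom.ker ψ ≤
      RingHom.ker ((Ideal.Quotient.mk (Ideal.ofList uS)).comp (algebraMap Q S)) := by
    intro x hx
    rw [hker] at hx
    rw [RingHom.mem_ker, RingHom.comp_apply, Ideal.Quotient.eq_zero_iff_mem, huS, ← map_ofList]
    exact Ideal.mem_map_of_mem _ hx
  obtain ⟨φ, hφ⟩ : ∃ φ : Q' →+* S ⧸ Ideal.ofList uS,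
      φ.comp ψ = (Ideal.Quotient.mk (Ideal.ofList uS)).comp (algebraMap Q S) :=
    ⟨RingHom.liftOfSurjective ψ hψ ⟨_, hker'⟩, RingHom.liftOfSurjective_comp ψ hψ ⟨_, hker'⟩⟩
  letI : Algebra Q' (S ⧸ Ideal.ofList uS) := φ.toAlgebra
  haveI hloc : IsLocalization ((Submonoid.powers g).map ψ) (S ⧸ Ideal.ofList uS) :=
    IsLocalization.of_surjective (Submonoid.powers g) S ψ hψ
      (Ideal.Quotient.mk (Ideal.ofList uS)) Ideal.Quotient.mk_surjective hφ.symm (by
        rw [Ideal.mk_ker, hker, map_ofList, huS])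
  have hloc' : IsLocalization.Away (ψ g) (S ⧸ Ideal.ofList uS) := by
    rw [IsLocalization.Away, ← Submonoid.map_powers]
    exact hloc
  refine ⟨S ⧸ Ideal.ofList uS, inferInstance, inferInstance, hloc', _, hquot, ?_⟩
  have h1 : (I'.map ψ).map (algebraMap Q' (S ⧸ Ideal.ofList uS)) =
      (I'.map (algebraMap Q S)).map (Ideal.Quotient.mk (Ideal.ofList uS)) := by
    rw [Ideal.map_map, Ideal.map_map]
    congr 1
  rw [h1, hgen, map_ofList, List.map_append]
  refine ofList_zeros_append _ _ ?_
  intro x hx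
  obtain ⟨y, hy, rfl⟩ := List.mem_map.1 hx
  exact Ideal.Quotient.eq_zero_iff_mem.2 (mem_ofList_of_mem hy)

end Groth.Agent.Lib.Helper4.KosQuot2
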