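import Mathlib
import Groth.Prelude.Def_LCI2
import Groth.Prelude.Def_ega3
import Groth.Agent.Lib.Helper4.KosQuot2

/-!
# Koszul-regular kernels: preimages, adding variables, independence of the presentation (helper4)
-/

set_option backward.isDefEq.respectTransparency.types false
set_option synthInstance.maxHeartbeats 400000
set_option autoImplicit false
set_option linter.unusedSectionVars false
set_option linter.style.haveILetI false
set_option linter.unusedSimpArgs false
universe u v w
open CategoryTheory CategoryTheory.Limits CochainComplex CohIII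
open Groth.Agent.Helper8.KoszulLib Groth.Agent.Helper3.KosBC
open Groth.Agent.Lib.Helper4.KosComp1 Groth.Agent.Lib.Helper4.KosQuot1 Groth.Agent.Lib.Helper4.KosExch1
open Groth.Agent.Lib.Helper4.KosCG1 Groth.Agent.Lib.Helper4.KosQuot2

namespace Groth.Agent.Lib.Helper4.KosQuot3

/-- the preimage of a Koszul-regular ideal under a surjection with Koszul-regular kernel is
Koszul-regular -/
theorem krIdeal_comap {Q Q' : Type u} [CommRing Q] [CommRing Q'] (ψ : Q →+* Q')
    (hψ : Function.Surjective ψ) (u : List Q) (hu : LCI.IsKoszulRegularSeq Q u)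
    (hker : RingHom.ker ψ = Ideal.ofList u) (I : Ideal Q') (hI : LCI.IsKoszulRegularIdeal I) :
    LCI.IsKoszulRegularIdeal (I.comap ψ) := by
  rw [isKoszulRegularIdeal_iff] at hI ⊢
  intro 𝔮 h𝔮 hI𝔮
  have hk𝔮 : RingHom.ker ψ ≤ 𝔮 := le_trans (Ideal.comap_mono bot_le) hI𝔮
  haveI h𝔮' : (𝔮.map ψ).IsPrime := Ideal.map_isPrime_of_surjective hψ hk𝔮
  have hI𝔮' : I ≤ 𝔮.map ψ := by
    rw [← Ideal.map_comap_of_surjective ψ hψ I]
    exact Ideal.map_mono hI𝔮
  obtain ⟨g', hg', S', _, _, hS', l, hl, hgen⟩ := hI (𝔮.map ψ) h𝔮' hI𝔮'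
  obtain ⟨g, rfl⟩ := hψ g'
  have hg : g ∉ 𝔮 := fun h => hg' (Ideal.mem_map_of_mem _ h)
  refine ⟨g, hg, Localization.Away g, inferInstance, inferInstance, inferInstance, ?_⟩
  haveI hloc : IsLocalization ((Submonoid.powers g).map ψ) S' := by
    rw [Submonoid.map_powers]
    exact hS'
  obtain ⟨ψS, hψS⟩ : ∃ ψS : Localization.Away g →+* S',
      ψS = IsLocalization.map S' ψ (Submonoid.powers g).le_comap_map := ⟨_, rfl⟩
  have hsurj : Function.Surjective ψS := by
    rw [hψS]
    exact IsLocalization.map_surjective_of_surjective (Submonoid.powers g) (Localization.Away g) S' hψ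
  have hcomp : ψS.comp (algebraMap Q (Localization.Away g)) = (algebraMap Q' S').comp ψ := by
    rw [hψS]
    exact IsLocalization.map_comp _
  have hkerS : RingHom.ker ψS =
      Ideal.ofList (u.map (algebraMap Q (Localization.Away g))) := by
    rw [hψS, IsLocalization.ker_map (S := Localization.Away g) S' ψ rfl, hker, map_ofList]
  obtain ⟨l', hl'⟩ := (List.map_surjective_iff.2 hsurj) l
  haveI : Module.Flat Q (Localization.Away g) := IsLocalization.flat _ (Submonoid.powers g)
  have hukr : LCI.IsKoszulRegularSeq (Localization.Away g)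
      (u.map (algebraMap Q (Localization.Away g))) := isKoszulRegularSeq_map_of_flat Q _ u hu
  refine ⟨l' ++ u.map (algebraMap Q (Localization.Away g)),
    koszul_append_of_surjective ψS hsurj _ hukr hkerS l' (hl'.symm ▸ hl), ?_⟩
  -- equality of ideals
  have hK1 : ((I.comap ψ).map (algebraMap Q (Localization.Away g))).map ψS =
      I.map (algebraMap Q' S') := by
    rw [Ideal.map_map, hcomp, ← Ideal.map_map, Ideal.map_comap_of_surjective ψ hψ]
  have hK2 : RingHom.ker ψS ≤ (I.comap ψ).map (algebraMap Q (Localization.Away g)) := by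
    rw [hψS, IsLocalization.ker_map (S := Localization.Away g) S' ψ rfl]
    exact Ideal.map_mono (Ideal.comap_mono bot_le)
  have hL1 : (Ideal.ofList (l' ++ u.map (algebraMap Q (Localization.Away g)))).map ψS =
      Ideal.ofList l := by
    rw [ofList_append', Ideal.map_sup, ← hkerS, map_ofList, hl']
    have : (RingHom.ker ψS).map ψS = ⊥ := by
      rw [eq_bot_iff, Ideal.map_le_iff_le_comap]
      intro x hx
      exact hx
    rw [this, sup_bot_eq]
  have hL2 : RingHom.ker ψS ≤ Ideal.ofList (l' ++ u.map (algebraMap Q (Localization.Away g))) := by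
    rw [ofList_append', hkerS]
    exact le_sup_right
  have hcm : ∀ K : Ideal (Localization.Away g), RingHom.ker ψS ≤ K → (K.map ψS).comap ψS = K := by
    intro K hK
    rw [Ideal.comap_map_of_surjective ψS hsurj]
    exact sup_eq_left.2 hK
  rw [← hcm _ hK2, hK1, hgen, ← hL1, hcm _ hL2]


/-- Koszul-regular ideals are transported along ring isomorphisms -/
theorem krIdeal_comap_ringEquiv {Q Q' : Type u} [CommRing Q] [CommRing Q'] (e : Q ≃+* Q')
    (I : Ideal Q') (hI : LCI.IsKoszulRegularIdeal I) :
    LCI.IsKoszulRegularIdeal (I.comap (e : Q →+* Q')) := by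
  refine krIdeal_comap (e : Q →+* Q') e.surjective [] ?_ ?_ I hI
  · exact (Groth.Agent.Helper8.KoszulLib.koszul_regular []
      (RingTheory.Sequence.IsWeaklyRegular.nil Q Q)).1
  · rw [Ideal.ofList_nil]
    exact (RingHom.injective_iff_ker_eq_bot _).1 e.injective

section OneVar

open Polynomial

variable {P B : Type u} [CommRing P] [CommRing B]

lemma kr_singleton_of_monic (p : P[X]) (hp : p.Monic) : LCI.IsKoszulRegularSeq P[X] [p] := by
  refine (Groth.Agent.Helper8.KoszulLib.koszul_regular [p] ?_).1
  rw [RingTheory.Sequence.isWeaklyRegular_cons_iff]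
  exact ⟨hp.isRegular.left.isSMulRegular, RingTheory.Sequence.IsWeaklyRegular.nil _ _⟩

/-- adding one variable to a presentation does not change Koszul-regularity of the kernel -/
theorem krIdeal_ker_eval₂_iff (π : P →+* B) (hπ : Function.Surjective π) (b : B) :
    LCI.IsKoszulRegularIdeal (RingHom.ker (Polynomial.eval₂RingHom π b)) ↔
      LCI.IsKoszulRegularIdeal (RingHom.ker π) := by
  obtain ⟨h, rfl⟩ := hπ b
  have hcomp : Polynomial.eval₂RingHom π (π h) = π.comp (Polynomial.evalRingHom h) := by
    apply Polynomial.ringHom_ext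
    · intro a; simp
    · simp
  have hsurj : Function.Surjective (Polynomial.evalRingHom h) := fun a => ⟨C a, by simp⟩
  have hker : RingHom.ker (Polynomial.evalRingHom h) = Ideal.ofList [X - C h] := by
    rw [Polynomial.ker_evalRingHom, Ideal.ofList_singleton]
  have hkr : LCI.IsKoszulRegularSeq P[X] [X - C h] :=
    kr_singleton_of_monic _ (Polynomial.monic_X_sub_C h)
  have hI' : RingHom.ker (Polynomial.eval₂RingHom π (π h)) =
      (RingHom.ker π).comap (Polynomial.evalRingHom h) := by
    rw [hcomp, RingHom.comap_ker]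
  rw [hI']
  constructor
  · intro hI
    have hle : RingHom.ker (Polynomial.evalRingHom h) ≤
        (RingHom.ker π).comap (Polynomial.evalRingHom h) := Ideal.comap_mono bot_le
    have := krIdeal_quotient (Polynomial.evalRingHom h) hsurj [X - C h] hkr hker _ hI hle ?_
    · rwa [Ideal.map_comap_of_surjective _ hsurj] at this
    · intro 𝔮 h𝔮 hI𝔮
      refine ⟨?_, trivial⟩
      intro s hs
      rw [Ideal.ofList_nil, bot_sup_eq] at hs
      have hD : ∀ z ∈ 𝔮 * (RingHom.ker π).comap (Polynomial.evalRingHom h),
          Polynomial.derivative z ∈ 𝔮 := by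
        intro z hz
        refine Submodule.mul_induction_on hz ?_ ?_
        · intro q hq i hi
          rw [Polynomial.derivative_mul]
          exact Ideal.add_mem _ (Ideal.mul_mem_left _ _ (hI𝔮 hi)) (Ideal.mul_mem_right _ _ hq)
        · intro x y hx hy
          rw [map_add]
          exact Ideal.add_mem _ hx hy
      have h1 := hD _ hs
      rw [Polynomial.derivative_mul, Polynomial.derivative_sub, Polynomial.derivative_X,
        Polynomial.derivative_C, sub_zero, mul_one] at h1
      have h2 : X - C h ∈ 𝔮 := hI𝔮 (hle (by rw [hker]; exact mem_ofList_of_mem List.mem_cons_self))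
      have h3 := Ideal.sub_mem _ h1 (Ideal.mul_mem_left _ (Polynomial.derivative s) h2)
      rwa [add_sub_cancel_left] at h3
  · intro hI
    exact krIdeal_comap (Polynomial.evalRingHom h) hsurj [X - C h] hkr hker _ hI

end OneVar


section MultiVar

variable {B : Type u} [CommRing B]

lemma krIdeal_ker_comp_ringEquiv {Q Q' : Type u} [CommRing Q] [CommRing Q'] (e : Q ≃+* Q')
    (φ : Q' →+* B) :
    LCI.IsKoszulRegularIdeal (RingHom.ker (φ.comp (e : Q →+* Q'))) ↔
      LCI.IsKoszulRegularIdeal (RingHom.ker φ) := by
  rw [← RingHom.comap_ker]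
  constructor
  · intro h
    have h2 := krIdeal_comap_ringEquiv e.symm _ h
    rw [Ideal.comap_comap] at h2
    have h3 : (e : Q →+* Q').comp (e.symm : Q' →+* Q) = RingHom.id Q' := by
      ext x
      simp
    rwa [h3, Ideal.comap_id] at h2
  · exact krIdeal_comap_ringEquiv e _

/-- adding finitely many variables to a presentation does not change Koszul-regularity of the
kernel -/
theorem krIdeal_ker_eval₂Hom_iff : ∀ (k : ℕ) (P : Type u) [CommRing P] (π : P →+* B)
    (hπ : Function.Surjective π) (b : Fin k → B),
    LCI.IsKoszulRegularIdeal (RingHom.ker (MvPolynomial.eval₂Hom π b)) ↔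
      LCI.IsKoszulRegularIdeal (RingHom.ker π)
  | 0, P, _, π, hπ, b => by
    have h : (MvPolynomial.eval₂Hom π b).comp
        (((MvPolynomial.isEmptyRingEquiv P (Fin 0)).symm : P ≃+* MvPolynomial (Fin 0) P) :
          P →+* MvPolynomial (Fin 0) P) = π := by
      ext r
      simp
    have h2 := krIdeal_ker_comp_ringEquiv (MvPolynomial.isEmptyRingEquiv P (Fin 0)).symm
      (MvPolynomial.eval₂Hom π b)
    rw [h] at h2
    exact h2.symm
  | k + 1, P, _, π, hπ, b => by
    have hsurj : Function.Surjective (MvPolynomial.eval₂Hom π (fun j : Fin k => b j.succ)) := by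
      intro x
      obtain ⟨p, rfl⟩ := hπ x
      exact ⟨MvPolynomial.C p, by simp⟩
    have h : MvPolynomial.eval₂Hom π b =
        (Polynomial.eval₂RingHom (MvPolynomial.eval₂Hom π (fun j : Fin k => b j.succ)) (b 0)).comp
          ((MvPolynomial.finSuccEquiv P k).toRingEquiv :
            MvPolynomial (Fin (k + 1)) P →+* Polynomial (MvPolynomial (Fin k) P)) := by
      apply MvPolynomial.ringHom_ext
      · intro r
        simp [MvPolynomial.finSuccEquiv_apply]
      · intro i
        refine Fin.cases ?_ (fun j => ?_) i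
        · simp [MvPolynomial.finSuccEquiv_X_zero]
        · simp [MvPolynomial.finSuccEquiv_X_succ]
    rw [h, krIdeal_ker_comp_ringEquiv, krIdeal_ker_eval₂_iff _ hsurj,
      krIdeal_ker_eval₂Hom_iff k P π hπ]

end MultiVar

theorem S9269_main (A B : Type u) [CommRing A] [CommRing B]
    [Algebra A B] (n m : ℕ) (α : MvPolynomial (Fin n) A →ₐ[A] B) (hα : Function.Surjective α)
    (β : MvPolynomial (Fin m) A →ₐ[A] B) (hβ : Function.Surjective β)
    (h : LCI.IsKoszulRegularIdeal (RingHom.ker α.toRingHom)) :
    LCI.IsKoszulRegularIdeal (RingHom.ker β.toRingHom) := by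
  have h1 := (krIdeal_ker_eval₂Hom_iff m (MvPolynomial (Fin n) A) α.toRingHom hα
    (fun j => β (MvPolynomial.X j))).2 h
  have h2 := krIdeal_ker_eval₂Hom_iff n (MvPolynomial (Fin m) A) β.toRingHom hβ
    (fun i => α (MvPolynomial.X i))
  rw [← h2]
  have hcomm : MvPolynomial.eval₂Hom α.toRingHom (fun j => β (MvPolynomial.X j)) =
      (MvPolynomial.eval₂Hom β.toRingHom (fun i => α (MvPolynomial.X i))).comp
        ((MvPolynomial.commAlgEquiv A (Fin m) (Fin n)).toRingEquiv :
          MvPolynomial (Fin m) (MvPolynomial (Fin n) A) →+*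
            MvPolynomial (Fin n) (MvPolynomial (Fin m) A)) := by
    apply MvPolynomial.ringHom_ext
    · intro r
      have : ∀ r : MvPolynomial (Fin n) A, α.toRingHom r =
          ((MvPolynomial.eval₂Hom β.toRingHom (fun i => α (MvPolynomial.X i))).comp
            (((MvPolynomial.commAlgEquiv A (Fin m) (Fin n)).toRingEquiv :
              MvPolynomial (Fin m) (MvPolynomial (Fin n) A) →+*
                MvPolynomial (Fin n) (MvPolynomial (Fin m) A)).comp MvPolynomial.C)) r := by
        intro r
        congr 1
        apply MvPolynomial.ringHom_ext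
        · intro a
          simp
        · intro i
          simp [MvPolynomial.commAlgEquiv_C_X]
      simpa using this r
    · intro j
      simp
  rw [hcomm] at h1
  exact (krIdeal_ker_comp_ringEquiv _ _).1 h1

end Groth.Agent.Lib.Helper4.KosQuot3
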