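import Mathlib
import Groth.Prelude.Def_LCI2
import Groth.Prelude.Def_ega3
import Groth.Agent.Lib.Helper4.KosQuot3

/-!
# Koszul-regular ideal: localization of the presentation, syntomic local on source (S9253) (helper4)
-/

set_option backward.isDefEq.respectTransparency.types false
set_option synthInstance.maxHeartbeats 400000
set_option autoImplicit false
set_option linter.unusedSectionVars false
set_option linter.style.haveILetI false
set_option linter.unusedSimpArgs false
universe u v w
open CategoryTheory CategoryTheory.Limits CochainComplex CohIII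
open Groth.Agent.Helper8.KoszulLib Groth.Agent.Helper3.KosBC
open Groth.Agent.Lib.Helper4.KosComp1 Groth.Agent.Lib.Helper4.KosQuot1 Groth.Agent.Lib.Helper4.KosExch1
open Groth.Agent.Lib.Helper4.KosCG1 Groth.Agent.Lib.Helper4.KosQuot2 Groth.Agent.Lib.Helper4.KosQuot3

namespace Groth.Agent.Lib.Helper4.KosQuot4

/-- Koszul-regularity of the extension of an ideal to a localization gives local Koszul-regular
generation on the original ring -/
theorem krLoc_of_localization {P PG : Type u} [CommRing P] [CommRing PG] [Algebra P PG] (G : P)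
    [IsLocalization.Away G PG] (J 𝔭 : Ideal P) [𝔭.IsPrime] (hG : G ∉ 𝔭) (hJ : J ≤ 𝔭)
    (h : LCI.IsKoszulRegularIdeal (J.map (algebraMap P PG))) :
    ∃ g : P, g ∉ 𝔭 ∧ KRLoc J g := by
  rw [isKoszulRegularIdeal_iff] at h
  have hdisj : Disjoint (Submonoid.powers G : Set P) (𝔭 : Set P) := by
    rw [Set.disjoint_left]
    rintro _ ⟨k, rfl⟩ hk
    exact hG (Ideal.IsPrime.mem_of_pow_mem inferInstance k hk)
  haveI h𝔭G : (𝔭.map (algebraMap P PG)).IsPrime :=
    IsLocalization.isPrime_of_isPrime_disjoint (Submonoid.powers G) PG 𝔭 inferInstance hdisj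
  obtain ⟨g', hg', S, _, _, hS, l, hl, hgen⟩ := h _ h𝔭G (Ideal.map_mono hJ)
  obtain ⟨⟨y, m⟩, hym⟩ := IsLocalization.surj (Submonoid.powers G) g'
  simp only at hym
  have hum : IsUnit (algebraMap P PG (m : P)) := IsLocalization.map_units PG m
  have hassoc : Associated (algebraMap P PG y) g' := by
    obtain ⟨v, hv⟩ := hum
    refine ⟨v⁻¹, ?_⟩
    rw [← hym, ← hv, mul_assoc, Units.mul_inv, mul_one]
  have hy : y ∉ 𝔭 := by
    intro hy
    apply hg'
    obtain ⟨v, hv⟩ := hassoc
    rw [← hv]
    exact Ideal.mul_mem_right _ _ (Ideal.mem_map_of_mem _ hy)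
  letI : Algebra P S := ((algebraMap PG S).comp (algebraMap P PG)).toAlgebra
  haveI : IsScalarTower P PG S := IsScalarTower.of_algebraMap_eq (fun _ => rfl)
  haveI hloc : IsLocalization.Away (G * y) S := IsLocalization.Away.mul_of_associated G y g' hassoc
  refine ⟨G * y, fun h => (Ideal.IsPrime.mem_or_mem inferInstance h).elim hG hy, S, inferInstance,
    inferInstance, hloc, l, hl, ?_⟩
  rw [IsScalarTower.algebraMap_eq P PG S, ← Ideal.map_map, hgen]


section Inverse

open Polynomial

variable {P : Type u} [CommRing P]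

lemma isRegular_C_mul_X_sub_one (G : P) : IsRegular (C G * X - 1 : P[X]) := by
  have hunit : IsUnit ((C G * X - 1 : P[X]) : PowerSeries P) := by
    rw [PowerSeries.isUnit_iff_constantCoeff]
    simp
  have hleft : IsLeftRegular (C G * X - 1 : P[X]) := by
    intro a b hab
    apply Polynomial.coe_injective
    have h2 : ((C G * X - 1 : P[X]) : PowerSeries P) * (a : PowerSeries P) =
        ((C G * X - 1 : P[X]) : PowerSeries P) * (b : PowerSeries P) := by
      rw [← Polynomial.coe_mul, ← Polynomial.coe_mul]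
      exact congrArg _ hab
    exact hunit.mul_left_cancel h2
  exact ⟨hleft, hleft.right_of_commute (fun a => mul_comm _ _)⟩

lemma kr_singleton_of_isRegular {Q : Type u} [CommRing Q] (p : Q) (hp : IsRegular p) :
    LCI.IsKoszulRegularSeq Q [p] := by
  refine (Groth.Agent.Helper8.KoszulLib.koszul_regular [p] ?_).1
  rw [RingTheory.Sequence.isWeaklyRegular_cons_iff]
  exact ⟨hp.left.isSMulRegular, RingTheory.Sequence.IsWeaklyRegular.nil _ _⟩

end Inverse


section Away

open Polynomial

variable {P S : Type u} [CommRing P] [CommRing S]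

/-- localizing a presentation: if the kernel of `P[X] → S_g`, `X ↦ 1/g`, is Koszul-regular, then so
is the extension of the kernel of `P → S` to `P_G` (in the model `P[X]/(GX - 1)`) -/
theorem krIdeal_map_away (f : P →+* S) (hf : Function.Surjective f) (G : P) (Sg : Type u)
    [CommRing Sg] [Algebra S Sg] [IsLocalization.Away (f G) Sg]
    (φG : AdjoinRoot (C G * X - 1 : P[X]) →+* Sg)
    (hφG : RingHom.ker φG = (RingHom.ker f).map (algebraMap P (AdjoinRoot (C G * X - 1 : P[X]))))
    (h : LCI.IsKoszulRegularIdeal (RingHom.ker (φG.comp (AdjoinRoot.mk (C G * X - 1 : P[X]))))) :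
    LCI.IsKoszulRegularIdeal
      ((RingHom.ker f).map (algebraMap P (AdjoinRoot (C G * X - 1 : P[X])))) := by
  have hψ : Function.Surjective (AdjoinRoot.mk (C G * X - 1 : P[X])) := AdjoinRoot.mk_surjective
  have hker : RingHom.ker (AdjoinRoot.mk (C G * X - 1 : P[X])) = Ideal.ofList [C G * X - 1] := by
    rw [Ideal.ofList_singleton]
    exact Ideal.mk_ker
  have hkr : LCI.IsKoszulRegularSeq P[X] [C G * X - 1] :=
    kr_singleton_of_isRegular _ (isRegular_C_mul_X_sub_one G)
  have hle : RingHom.ker (AdjoinRoot.mk (C G * X - 1 : P[X])) ≤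
      RingHom.ker (φG.comp (AdjoinRoot.mk (C G * X - 1 : P[X]))) := by
    rw [← RingHom.comap_ker]
    exact Ideal.comap_mono bot_le
  have := krIdeal_quotient (AdjoinRoot.mk (C G * X - 1 : P[X])) hψ [C G * X - 1] hkr hker _ h hle ?_
  · rwa [← RingHom.comap_ker, Ideal.map_comap_of_surjective _ hψ, hφG] at this
  · intro 𝔮 h𝔮 hI𝔮
    refine ⟨?_, trivial⟩
    intro s hs
    rw [Ideal.ofList_nil, bot_sup_eq] at hs
    have hD : ∀ z ∈ 𝔮 * RingHom.ker (φG.comp (AdjoinRoot.mk (C G * X - 1 : P[X]))),
        Polynomial.derivative z ∈ 𝔮 := by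
      intro z hz
      refine Submodule.mul_induction_on hz ?_ ?_
      · intro q hq i hi
        rw [Polynomial.derivative_mul]
        exact Ideal.add_mem _ (Ideal.mul_mem_left _ _ (hI𝔮 hi)) (Ideal.mul_mem_right _ _ hq)
      · intro x y hx hy
        rw [map_add]
        exact Ideal.add_mem _ hx hy
    have h1 := hD _ hs
    have hd : Polynomial.derivative (C G * X - 1 : P[X]) = C G := by
      rw [Polynomial.derivative_sub, Polynomial.derivative_mul, Polynomial.derivative_C,
        Polynomial.derivative_X, Polynomial.derivative_one, zero_mul, zero_add, mul_one, sub_zero]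
    rw [Polynomial.derivative_mul, hd] at h1
    have h2 : (C G * X - 1 : P[X]) ∈ 𝔮 :=
      hI𝔮 (hle (by rw [hker]; exact mem_ofList_of_mem List.mem_cons_self))
    have h3 := Ideal.sub_mem _ h1 (Ideal.mul_mem_left _ (Polynomial.derivative s) h2)
    rw [add_sub_cancel_left] at h3
    rcases Ideal.IsPrime.mem_or_mem h𝔮 h3 with h4 | h4
    · exact h4
    · exfalso
      apply h𝔮.ne_top
      rw [Ideal.eq_top_iff_one]
      have h5 := Ideal.sub_mem _ (Ideal.mul_mem_right X _ h4) h2
      rwa [sub_sub_cancel] at h5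

end Away


section Main

open Polynomial

theorem S9253_main (R S : Type u) [CommRing R] [CommRing S] [Algebra R S]
    (m : ℕ) (g : Fin m → S) (hg : Ideal.span (Set.range g) = ⊤)
    (h : ∀ j, LCI.IsLCI R (Localization.Away (g j))) : LCI.IsLCI R S := by
  -- finite type
  have hft : Algebra.FiniteType R S := by
    rw [← RingHom.finiteType_algebraMap]
    refine RingHom.finiteType_ofLocalizationSpanTarget (algebraMap R S) (Set.range g) hg ?_
    rintro ⟨_, j, rfl⟩
    have h1 := (h j).1
    rw [← RingHom.finiteType_algebraMap, IsScalarTower.algebraMap_eq R S (Localization.Away (g j))]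
      at h1
    exact h1
  refine ⟨hft, ?_⟩
  obtain ⟨n, f, hf⟩ := Algebra.FiniteType.iff_quotient_mvPolynomial''.1 hft
  refine ⟨n, f, hf, ?_⟩
  rw [isKoszulRegularIdeal_iff]
  intro 𝔭 h𝔭 hI𝔭
  -- the image prime
  have hk𝔭 : RingHom.ker f.toRingHom ≤ 𝔭 := hI𝔭
  haveI h𝔭' : (𝔭.map f.toRingHom).IsPrime := Ideal.map_isPrime_of_surjective hf hk𝔭
  obtain ⟨j, hj⟩ : ∃ j, g j ∉ 𝔭.map f.toRingHom := by
    by_contra hcon
    push Not at hcon
    apply h𝔭'.ne_top
    rw [eq_top_iff, ← hg, Ideal.span_le]
    rintro _ ⟨j, rfl⟩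
    exact hcon j
  obtain ⟨G, hG⟩ := hf (g j)
  have hG𝔭 : G ∉ 𝔭 := fun hG' => hj (hG ▸ Ideal.mem_map_of_mem _ hG')
  -- the lci presentation of the localization
  obtain ⟨-, k, β, hβ, hKβ⟩ := h j
  haveI hloc : IsLocalization.Away (f.toRingHom G) (Localization.Away (g j)) := by
    show IsLocalization.Away (f G) (Localization.Away (g j))
    rw [hG]
    infer_instance
  haveI : IsLocalization.Away G (AdjoinRoot (C G * X - 1 : (MvPolynomial (Fin n) R)[X])) :=
    IsLocalization.adjoin_inv G
  have hT : Submonoid.map f.toRingHom (Submonoid.powers G) = Submonoid.powers (f.toRingHom G) :=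
    Submonoid.map_powers _ _
  obtain ⟨φG, hφGdef⟩ : ∃ φG : AdjoinRoot (C G * X - 1 : (MvPolynomial (Fin n) R)[X]) →+*
      Localization.Away (g j), φG = IsLocalization.map (Localization.Away (g j)) f.toRingHom
        (hT.symm ▸ (Submonoid.powers G).le_comap_map) := ⟨_, rfl⟩
  have hφGker : RingHom.ker φG = (RingHom.ker f.toRingHom).map
      (algebraMap _ (AdjoinRoot (C G * X - 1 : (MvPolynomial (Fin n) R)[X]))) := by
    rw [hφGdef]
    exact IsLocalization.ker_map (Localization.Away (g j)) f.toRingHom hT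
  have hφGsurj : Function.Surjective φG := by
    rw [hφGdef]
    haveI : IsLocalization ((Submonoid.powers G).map f.toRingHom) (Localization.Away (g j)) := by
      rw [hT]
      exact hloc
    exact IsLocalization.map_surjective_of_surjective (Submonoid.powers G) _ _ hf
  have hφGalg : ∀ p : MvPolynomial (Fin n) R,
      φG (algebraMap _ (AdjoinRoot (C G * X - 1 : (MvPolynomial (Fin n) R)[X])) p) =
        algebraMap S (Localization.Away (g j)) (f p) := by
    intro p
    rw [hφGdef]
    exact IsLocalization.map_eq _ p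
  -- the presentation of the localization by one more variable
  obtain ⟨α', hα'def⟩ : ∃ α' : (MvPolynomial (Fin n) R)[X] →+* Localization.Away (g j),
      α' = φG.comp (AdjoinRoot.mk (C G * X - 1 : (MvPolynomial (Fin n) R)[X])) := ⟨_, rfl⟩
  have hα'surj : Function.Surjective α' := by
    rw [hα'def]
    exact hφGsurj.comp AdjoinRoot.mk_surjective
  obtain ⟨α'', hα''def⟩ : ∃ α'' : MvPolynomial (Fin (n + 1)) R →+* Localization.Away (g j),
      α'' = α'.comp ((MvPolynomial.finSuccEquiv R n).toRingEquiv :
        MvPolynomial (Fin (n + 1)) R →+* (MvPolynomial (Fin n) R)[X]) := ⟨_, rfl⟩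
  have hα''C : ∀ r : R, α'' (MvPolynomial.C r) = algebraMap R (Localization.Away (g j)) r := by
    intro r
    rw [hα''def, hα'def]
    have h1 : (MvPolynomial.finSuccEquiv R n) (MvPolynomial.C r) =
        Polynomial.C (MvPolynomial.C r) := by
      simp [MvPolynomial.finSuccEquiv_apply]
    show φG (AdjoinRoot.mk _ ((MvPolynomial.finSuccEquiv R n) (MvPolynomial.C r))) = _
    rw [h1]
    have h2 : AdjoinRoot.mk (C G * X - 1 : (MvPolynomial (Fin n) R)[X])
        (Polynomial.C (MvPolynomial.C r : MvPolynomial (Fin n) R)) =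
        algebraMap (MvPolynomial (Fin n) R)
          (AdjoinRoot (C G * X - 1 : (MvPolynomial (Fin n) R)[X]))
          (MvPolynomial.C r : MvPolynomial (Fin n) R) :=
      rfl
    rw [h2, hφGalg]
    have h3 : f (MvPolynomial.C r) = algebraMap R S r := by
      rw [← MvPolynomial.algebraMap_eq]
      exact f.commutes r
    rw [h3, ← IsScalarTower.algebraMap_apply]
  obtain ⟨αalg, hαalg⟩ : ∃ αalg : MvPolynomial (Fin (n + 1)) R →ₐ[R] Localization.Away (g j),
      αalg.toRingHom = α'' := by
    refine ⟨MvPolynomial.aeval (fun i => α'' (MvPolynomial.X i)), ?_⟩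
    apply MvPolynomial.ringHom_ext
    · intro r
      rw [hα''C]
      simp
    · intro i
      simp
  have hαsurj : Function.Surjective αalg := by
    have : (αalg : _ → _) = α'' := by
      rw [← hαalg]; rfl
    rw [this, hα''def]
    exact hα'surj.comp (MvPolynomial.finSuccEquiv R n).surjective
  have hK1 := S9269_main R (Localization.Away (g j)) k (n + 1) β hβ αalg hαsurj hKβ
  rw [hαalg, hα''def] at hK1
  have hK2 := (krIdeal_ker_comp_ringEquiv _ _).1 hK1
  rw [hα'def] at hK2
  have hK3 := krIdeal_map_away f.toRingHom hf G (Localization.Away (g j)) φG hφGker hK2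
  exact krLoc_of_localization G _ 𝔭 hG𝔭 hI𝔭 hK3

end Main

end Groth.Agent.Lib.Helper4.KosQuot4
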