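import Mathlib

/-!
# Bilinear maps out of a tensor product of free presheaves of modules (helper4)
-/

set_option backward.isDefEq.respectTransparency.types false
set_option synthInstance.maxHeartbeats 400000
set_option autoImplicit false
set_option linter.unusedSectionVars false
set_option linter.style.haveILetI false
set_option linter.unusedSimpArgs false
universe u v w
open CategoryTheory CategoryTheory.Limits Opposite

namespace Groth.Agent.Lib.Helper4.BilFree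
open MonoidalCategory TensorProduct

section Ring
variable {R : Type u} [CommRing R] {X₁ X₂ : Type u} {M : ModuleCat.{u} R}

/-- maps out of a tensor product of free modules are determined on basis tensors -/
lemma free_tensor_ext {h h' : (ModuleCat.free R).obj X₁ ⊗ (ModuleCat.free R).obj X₂ ⟶ M}
    (H : ∀ (x₁ : X₁) (x₂ : X₂),
      h.hom (ModuleCat.freeMk x₁ ⊗ₜ ModuleCat.freeMk x₂) = h'.hom (ModuleCat.freeMk x₁ ⊗ₜ ModuleCat.freeMk x₂)) :
    h = h' := by
  apply ModuleCat.hom_ext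
  apply TensorProduct.ext
  apply Finsupp.lhom_ext'
  intro x₁
  apply LinearMap.ext_ring
  apply Finsupp.lhom_ext'
  intro x₂
  apply LinearMap.ext_ring
  exact H x₁ x₂

/-- the bilinear extension of a function on pairs -/
noncomputable def freeTensorDesc (θ : X₁ × X₂ → M) :
    (ModuleCat.free R).obj X₁ ⊗ (ModuleCat.free R).obj X₂ ⟶ M :=
  ModuleCat.ofHom ((Finsupp.lift M R (X₁ × X₂) θ) ∘ₗ (finsuppTensorFinsupp' R X₁ X₂).toLinearMap)

lemma freeTensorDesc_apply (θ : X₁ × X₂ → M) (x₁ : X₁) (x₂ : X₂) :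
    (freeTensorDesc θ).hom (ModuleCat.freeMk x₁ ⊗ₜ ModuleCat.freeMk x₂) = θ (x₁, x₂) := by
  unfold freeTensorDesc ModuleCat.freeMk
  show (Finsupp.lift M R (X₁ × X₂) θ) ((finsuppTensorFinsupp' R X₁ X₂)
    (Finsupp.single x₁ 1 ⊗ₜ[R] Finsupp.single x₂ 1)) = θ (x₁, x₂)
  rw [finsuppTensorFinsupp'_single_tmul_single, Finsupp.lift_apply, Finsupp.sum_single_index]
  · rw [one_mul, one_smul]
  · rw [zero_smul]

end Ring
section Presheaf
variable {C : Type u} [SmallCategory C] {R₀ : Cᵒᵖ ⥤ CommRingCat.{u}} (A₁ A₂ : Cᵒᵖ ⥤ Type u)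
  (Y : PresheafOfModules.{u} (R₀ ⋙ forget₂ CommRingCat RingCat))

/-- the free presheaf of modules -/
noncomputable abbrev Fr (A : Cᵒᵖ ⥤ Type u) : PresheafOfModules.{u} (R₀ ⋙ forget₂ CommRingCat RingCat) :=
  (PresheafOfModules.free (R₀ ⋙ forget₂ CommRingCat RingCat)).obj A

lemma Fr_map_freeMk (A : Cᵒᵖ ⥤ Type u) {T T' : Cᵒᵖ} (g : T ⟶ T') (x : A.obj T) :
    ((Fr (R₀ := R₀) A).map g).hom (ModuleCat.freeMk x) = ModuleCat.freeMk (A.map g x) := by
  show (ModuleCat.freeDesc _).hom (ModuleCat.freeMk x) = _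
  erw [ModuleCat.freeDesc_apply]
  rfl

variable {A₁ A₂ Y}

/-- evaluation of a bilinear map on basis elements -/
noncomputable def bilEv (h : Fr (R₀ := R₀) A₁ ⊗ Fr A₂ ⟶ Y) :
    FunctorToTypes.prod A₁ A₂ ⟶ Y.presheaf ⋙ forget Ab where
  app T := ↾fun x => (h.app T).hom
    ((ModuleCat.freeMk x.1 : (Fr (R₀ := R₀) A₁).obj T) ⊗ₜ (ModuleCat.freeMk x.2 : (Fr (R₀ := R₀) A₂).obj T))
  naturality := by
    intro T T' g
    ext x
    have h1 := congrArg (fun k => k.hom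
      ((ModuleCat.freeMk x.1 : (Fr (R₀ := R₀) A₁).obj T) ⊗ₜ (ModuleCat.freeMk x.2 : (Fr (R₀ := R₀) A₂).obj T)))
      (h.naturality g)
    refine Eq.trans ?_ h1
    show (h.app T').hom ((ModuleCat.freeMk (A₁.map g x.1) : (Fr (R₀ := R₀) A₁).obj T') ⊗ₜ
        (ModuleCat.freeMk (A₂.map g x.2) : (Fr (R₀ := R₀) A₂).obj T')) =
      (h.app T').hom ((((Fr (R₀ := R₀) A₁).map g).hom (ModuleCat.freeMk x.1) : (Fr (R₀ := R₀) A₁).obj T') ⊗ₜ
        (((Fr (R₀ := R₀) A₂).map g).hom (ModuleCat.freeMk x.2) : (Fr (R₀ := R₀) A₂).obj T'))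
    rw [Fr_map_freeMk, Fr_map_freeMk]

lemma bilEv_injective : Function.Injective (bilEv (R₀ := R₀) (A₁ := A₁) (A₂ := A₂) (Y := Y)) := by
  intro h h' hh
  apply PresheafOfModules.hom_ext
  intro T
  apply free_tensor_ext
  intro x₁ x₂
  exact congrArg (fun k => k.app T (x₁, x₂)) hh

/-- the bilinear map with prescribed values on basis elements -/
noncomputable def bilDesc (θ : FunctorToTypes.prod A₁ A₂ ⟶ Y.presheaf ⋙ forget Ab) :
    Fr (R₀ := R₀) A₁ ⊗ Fr A₂ ⟶ Y where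
  app T := freeTensorDesc (R := R₀.obj T) (X₁ := A₁.obj T) (X₂ := A₂.obj T) (M := Y.obj T)
    (fun x => θ.app T x)
  naturality := by
    intro T T' g
    apply free_tensor_ext
    intro x₁ x₂
    have hθ := congrArg (fun k => k (x₁, x₂)) (θ.naturality g)
    show (freeTensorDesc (R := R₀.obj T') (X₁ := A₁.obj T') (X₂ := A₂.obj T') (M := Y.obj T')
        (fun x => θ.app T' x)).hom
        ((((Fr (R₀ := R₀) A₁).map g).hom (ModuleCat.freeMk x₁) : (Fr (R₀ := R₀) A₁).obj T') ⊗ₜ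
        (((Fr (R₀ := R₀) A₂).map g).hom (ModuleCat.freeMk x₂) : (Fr (R₀ := R₀) A₂).obj T')) =
      (Y.map g).hom ((freeTensorDesc (R := R₀.obj T) (X₁ := A₁.obj T) (X₂ := A₂.obj T) (M := Y.obj T)
        (fun x => θ.app T x)).hom (ModuleCat.freeMk x₁ ⊗ₜ ModuleCat.freeMk x₂))
    rw [Fr_map_freeMk, Fr_map_freeMk, freeTensorDesc_apply, freeTensorDesc_apply]
    exact hθ

lemma bilEv_bilDesc (θ : FunctorToTypes.prod A₁ A₂ ⟶ Y.presheaf ⋙ forget Ab) :
    bilEv (bilDesc (R₀ := R₀) θ) = θ := by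
  ext T x
  exact freeTensorDesc_apply _ _ _

lemma bilEv_bijective : Function.Bijective (bilEv (R₀ := R₀) (A₁ := A₁) (A₂ := A₂) (Y := Y)) :=
  ⟨bilEv_injective, fun θ => ⟨bilDesc θ, bilEv_bilDesc θ⟩⟩

end Presheaf
end Groth.Agent.Lib.Helper4.BilFree
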