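import Mathlib
import Groth.Prelude.Def_ModSite2
import Groth.Agent.Lib.Helper5.Misc.TensorSheaf
import Groth.Agent.Lib.Helper5.Misc.TensorLocal
import Groth.Agent.Lib.Helper4.QSLocal
import Groth.Agent.Lib.Helper4.ExtSuppSS1

/-!
# Pure tensors as sections of the tensor product of sheaves of modules on a site; evaluation calculus (helper4) (helper4)
-/

set_option backward.isDefEq.respectTransparency.types false
set_option synthInstance.maxHeartbeats 400000
set_option autoImplicit false
set_option linter.unusedSectionVars false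
set_option linter.style.haveILetI false
set_option linter.unusedSimpArgs false
universe u v w
open CategoryTheory CategoryTheory.Limits Opposite MonoidalCategory TensorProduct

namespace Groth.Agent.Lib.Helper4.PureTensor

open Groth.Agent.Lib.Helper5.TensorSheaf Groth.Agent.Lib.Helper5.TensorLocal

variable {C : Type u} [SmallCategory C] {J : GrothendieckTopology C} {O : Sheaf J CommRingCat.{u}}

/-- the tensor product sheaf -/
noncomputable abbrev tens (M N : ModSite.Mod O) : ModSite.Mod O := ((ModSite.tensorBi O).obj M).obj N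

/-- the presheaf tensor product -/
noncomputable abbrev ptens (M N : ModSite.Mod O) : PM O := (fgt O).obj M ⊗ (fgt O).obj N

example (M N : ModSite.Mod O) : tens M N = (shf O).obj (ptens M N) := rfl

/-- pure tensors as sections of the tensor product sheaf -/
noncomputable def pt (M N : ModSite.Mod O) (V : C) (m : ModSite.sect M V) (n : ModSite.sect N V) :
    ModSite.sect (tens M N) V :=
  (((unit' O).app (ptens M N)).app (op V)).hom (m ⊗ₜ n)


lemma unit'_naturality_apply {P Q : PM O} (h : P ⟶ Q) (V : C) (x : P.obj (op V)) :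
    (((fgt O).map ((shf O).map h)).app (op V)).hom ((((unit' O).app P).app (op V)).hom x) =
      (((unit' O).app Q).app (op V)).hom ((h.app (op V)).hom x) := by
  have := (unit' O).naturality h
  have h2 := congrArg (fun k => (k.app (op V)).hom x) this
  exact h2.symm

/-- (τ1) naturality of pure tensors in the first variable -/
lemma map_pt_left {M M' : ModSite.Mod O} (g : M ⟶ M') (N : ModSite.Mod O) (V : C)
    (m : ModSite.sect M V) (n : ModSite.sect N V) :
    ((((ModSite.tensorBi O).map g).app N).val.app (op V)).hom (pt M N V m n) =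
      pt M' N V ((g.val.app (op V)).hom m) n := by
  exact unit'_naturality_apply ((fgt O).map g ▷ (fgt O).obj N) V (m ⊗ₜ n)

/-- (τ1') naturality of pure tensors in the second variable -/
lemma map_pt_right (M : ModSite.Mod O) {N N' : ModSite.Mod O} (g : N ⟶ N') (V : C)
    (m : ModSite.sect M V) (n : ModSite.sect N V) :
    ((((ModSite.tensorBi O).obj M).map g).val.app (op V)).hom (pt M N V m n) =
      pt M N' V m ((g.val.app (op V)).hom n) := by
  exact unit'_naturality_apply ((fgt O).obj M ◁ (fgt O).map g) V (m ⊗ₜ n)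


open Groth.Agent.Lib.Helper4.ExtSuppSS1 in
/-- (τ2) the left unitor on pure tensors -/
lemma leftUnit_pt (F : ModSite.Mod O) (V : C) (a : (ModSite.ringSh O).obj.obj (op V))
    (a' : ModSite.sect (ModSite.unit O) V) (ha : a' = a) (t : ModSite.sect F V) :
    (((leftUnitNatIso O).hom.app F).val.app (op V)).hom (pt (ModSite.unit O) F V a' t) = a • t := by
  subst ha
  change (((adj O).counit.app F).val.app (op V)).hom
    ((((fgt O).map ((shf O).map (λ_ ((fgt O).obj F)).hom)).app (op V)).hom
      ((((unit' O).app (𝟙_ (PM O) ⊗ (fgt O).obj F)).app (op V)).hom (a' ⊗ₜ t))) = _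
  rw [unit'_naturality_apply]
  have h1 : (((λ_ ((fgt O).obj F)).hom).app (op V)).hom (a' ⊗ₜ t) = a' • t := by
    exact ModuleCat.MonoidalCategory.leftUnitor_hom_apply _ _
  rw [h1]
  have h2 := (adj O).right_triangle_components F
  have h3 := congrArg (fun k => (k.app (op V)).hom (a' • t)) h2
  exact h3


lemma exists_fin_sum_tmul {R M N : Type*} [CommRing R] [AddCommGroup M] [Module R M]
    [AddCommGroup N] [Module R N] (x : M ⊗[R] N) :
    ∃ (l : ℕ) (b : Fin l → M) (t : Fin l → N), x = ∑ k, b k ⊗ₜ[R] t k := by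
  induction x using TensorProduct.induction_on with
  | zero => exact ⟨0, Fin.elim0, Fin.elim0, by simp⟩
  | tmul m n => exact ⟨1, fun _ => m, fun _ => n, by simp⟩
  | add x y hx hy =>
    obtain ⟨l₁, b₁, t₁, rfl⟩ := hx
    obtain ⟨l₂, b₂, t₂, rfl⟩ := hy
    refine ⟨l₁ + l₂, Fin.append b₁ b₂, Fin.append t₁ t₂, ?_⟩
    rw [Fin.sum_univ_add]
    simp

/-- (τ3) every section of a tensor product sheaf is locally a finite sum of pure tensors -/
lemma exists_pt_sum (M N : ModSite.Mod O) (U : C) (x : ModSite.sect (tens M N) U) :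
    ∃ S ∈ J U, ∀ ⦃V : C⦄ (g : V ⟶ U), S g →
      ∃ (l : ℕ) (b : Fin l → ModSite.sect M V) (t : Fin l → ModSite.sect N V),
        (tens M N).val.map g.op x = ∑ k, pt M N V (b k) (t k) := by
  have hW := W_unit' (O := O) (ptens M N)
  rw [J.W_iff_isLocallyBijective] at hW
  have hs := (locSurj_iff J ((unit' O).app (ptens M N))).2 hW.2
  obtain ⟨S, hS, h⟩ := hs U x
  refine ⟨S, hS, fun V g hg => ?_⟩
  obtain ⟨m, hm⟩ := h g hg
  obtain ⟨l, b, t, hbt⟩ := exists_fin_sum_tmul
    (R := O.obj.obj (op V)) (M := ModSite.sect M V) (N := ModSite.sect N V) m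
  refine ⟨l, b, t, ?_⟩
  refine hm.symm.trans ?_
  rw [hbt]
  exact map_sum (((unit' O).app (ptens M N)).app (op V)).hom _ _


/-- evaluation of a morphism at a section (as a function, for readable statements) -/
noncomputable abbrev ev {M N : ModSite.Mod O} (f : M ⟶ N) (V : C) (x : ModSite.sect M V) :
    ModSite.sect N V := (f.val.app (op V)).hom x

/-- evaluation at a fixed section is additive in the morphism -/
noncomputable def evHom (M N : ModSite.Mod O) (V : C) (x : ModSite.sect M V) :
    (M ⟶ N) →+ ModSite.sect N V where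
  toFun f := ev f V x
  map_zero' := rfl
  map_add' _ _ := rfl

lemma ev_sum {M N : ModSite.Mod O} {ι : Type*} (s : Finset ι) (f : ι → (M ⟶ N)) (V : C)
    (x : ModSite.sect M V) : ev (∑ k ∈ s, f k) V x = ∑ k ∈ s, ev (f k) V x :=
  map_sum (evHom M N V x) f s

lemma ev_comp {M N P : ModSite.Mod O} (f : M ⟶ N) (g : N ⟶ P) (V : C) (x : ModSite.sect M V) :
    ev (f ≫ g) V x = ev g V (ev f V x) := rfl

lemma ev_map_sum {M N : ModSite.Mod O} (f : M ⟶ N) (V : C) {ι : Type*} (s : Finset ι)
    (x : ι → ModSite.sect M V) : ev f V (∑ k ∈ s, x k) = ∑ k ∈ s, ev f V (x k) :=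
  map_sum (f.val.app (op V)).hom x s

lemma ev_smul {M N : ModSite.Mod O} (f : M ⟶ N) (V : C) (a : (ModSite.ringSh O).obj.obj (op V))
    (x : ModSite.sect M V) : ev f V (a • x) = a • ev f V x :=
  (f.val.app (op V)).hom.map_smul a x

lemma ev_naturality {M N : ModSite.Mod O} (f : M ⟶ N) {V W : C} (g : W ⟶ V) (x : ModSite.sect M V) :
    ev f W (M.val.map g.op x) = N.val.map g.op (ev f V x) :=
  PresheafOfModules.naturality_apply f.val g.op x

/-- the unit section `1 ∈ O(V)` as a section of the unit module -/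
noncomputable abbrev one (V : C) : ModSite.sect (ModSite.unit O) V :=
  (1 : (ModSite.ringSh O).obj.obj (op V))

/-- (H2) morphisms out of the unit module are determined by the images of `1` -/
lemma unit_hom_ext {M : ModSite.Mod O} {f g : ModSite.unit O ⟶ M}
    (h : ∀ V : C, ev f V (one V) = ev g V (one V)) : f = g := by
  apply (SheafOfModules.unitHomEquiv M).injective
  apply PresheafOfModules.sections_ext
  intro X
  exact h X.unop


open Groth.Agent.Lib.Helper4.ExtSuppSS1

/-- `unit ⊗ F ≅ F` -/
noncomputable abbrev lam (F : ModSite.Mod O) : tens (ModSite.unit O) F ≅ F := (leftUnitNatIso O).app F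

lemma lam_hom_pt (F : ModSite.Mod O) (V : C) (a : (ModSite.ringSh O).obj.obj (op V))
    (t : ModSite.sect F V) :
    ev (lam F).hom V (pt (ModSite.unit O) F V a t) = a • t :=
  leftUnit_pt F V a a rfl t

lemma lam_inv_apply (F : ModSite.Mod O) (V : C) (t : ModSite.sect F V) :
    ev (lam F).inv V t = pt (ModSite.unit O) F V (one V) t := by
  have h1 : ev (lam F).hom V (pt (ModSite.unit O) F V (one V) t) = t := by
    rw [lam_hom_pt]
    exact one_smul _ t
  have h2 := congrArg (fun y => ev (lam F).inv V y) h1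
  simp only [← ev_comp, Iso.hom_inv_id] at h2
  exact h2.symm

/-- the functor `- ⊗ F` -/
noncomputable abbrev tR (F : ModSite.Mod O) : ModSite.Mod O ⥤ ModSite.Mod O :=
  (ModSite.tensorBi O).flip.obj F

lemma tR_map_pt (F : ModSite.Mod O) {M M' : ModSite.Mod O} (g : M ⟶ M') (V : C)
    (m : ModSite.sect M V) (t : ModSite.sect F V) :
    ev ((tR F).map g) V (pt M F V m t) = pt M' F V (ev g V m) t :=
  map_pt_left g F V m t

lemma ev_unit_apply {M : ModSite.Mod O} (s : ModSite.unit O ⟶ M) (V : C)
    (a : (ModSite.ringSh O).obj.obj (op V)) :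
    ev s V a = a • ev s V (one V) := by
  rw [← ev_smul]
  congr 1
  exact (mul_one a).symm

/-- (API-5) scalars pass through `- ⊗ F` -/
lemma scalar_comm (F : ModSite.Mod O) (s : ModSite.unit O ⟶ F) (c : ModSite.unit O ⟶ ModSite.unit O) :
    s ≫ (lam F).inv ≫ (tR F).map c = c ≫ s ≫ (lam F).inv := by
  rw [← cancel_mono (lam F).hom]
  simp only [Category.assoc, Iso.inv_hom_id, Category.comp_id]
  apply unit_hom_ext
  intro V
  rw [ev_comp, ev_comp, ev_comp, lam_inv_apply, tR_map_pt, ev_comp]
  obtain ⟨a, ha⟩ : ∃ a : (ModSite.ringSh O).obj.obj (op V), ev c V (one V) = a := ⟨_, rfl⟩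
  rw [ha]
  exact (lam_hom_pt F V a _).trans (ev_unit_apply s V a).symm

end Groth.Agent.Lib.Helper4.PureTensor
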