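import Mathlib
import Groth.Prelude.Def_ModSite2
import Groth.Agent.Lib.Helper5.Misc.TensorSES
import Groth.Agent.Lib.Helper4.PureTensor
import Groth.Agent.S6147

/-!
# Equational criterion of flatness for sheaves of modules on a site: flat implies relations are locally trivial (helper4) (helper4)
-/

set_option backward.isDefEq.respectTransparency.types false
set_option synthInstance.maxHeartbeats 400000
set_option autoImplicit false
set_option linter.unusedSectionVars false
set_option linter.style.haveILetI false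
set_option linter.unusedSimpArgs false
universe u v w
open CategoryTheory CategoryTheory.Limits Opposite MonoidalCategory TensorProduct

namespace Groth.Agent.Lib.Helper4.EqCrit

open Groth.Agent.Lib.Helper5.TensorSheaf Groth.Agent.Lib.Helper4.PureTensor
open Groth.Agent.Lib.Helper5

variable {C : Type u} [SmallCategory C] {J : GrothendieckTopology C} {O : Sheaf J CommRingCat.{u}}

instance hasFiniteBiproducts_mod : HasFiniteBiproducts (ModSite.Mod O) :=
  HasFiniteBiproducts.of_hasFiniteProducts

/-- the finite free module `O^n` as a biproduct -/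
noncomputable abbrev Pn (O : Sheaf J CommRingCat.{u}) (n : ℕ) : ModSite.Mod O :=
  ⨁ (fun _ : Fin n => ModSite.unit O)

section crit

variable (F : ModSite.Mod O) {m n : ℕ}
  (f : Fin m → Fin n → (ModSite.unit O ⟶ ModSite.unit O)) (s : Fin n → (ModSite.unit O ⟶ F))

/-- the matrix map `O^n ⟶ O^m` -/
noncomputable def fmat : Pn O n ⟶ Pn O m := biproduct.matrix (fun j i => f i j)

lemma ι_fmat (j : Fin n) :
    biproduct.ι (fun _ : Fin n => ModSite.unit O) j ≫ fmat f =
      ∑ i, f i j ≫ biproduct.ι (fun _ : Fin m => ModSite.unit O) i := by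
  unfold fmat
  rw [biproduct.ι_matrix, biproduct.lift_eq]

lemma fmat_π (i : Fin m) :
    fmat f ≫ biproduct.π (fun _ : Fin m => ModSite.unit O) i =
      ∑ j, biproduct.π (fun _ : Fin n => ModSite.unit O) j ≫ f i j := by
  unfold fmat
  rw [biproduct.matrix_π, biproduct.desc_eq]

/-- the section `ŝ` of `O^n ⊗ F` -/
noncomputable def shat : ModSite.unit O ⟶ (tR F).obj (Pn O n) :=
  ∑ j, s j ≫ (lam F).inv ≫ (tR F).map (biproduct.ι (fun _ : Fin n => ModSite.unit O) j)

lemma shat_fmat (hrel : ∀ i, ∑ j, f i j ≫ s j = 0) :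
    shat F s ≫ (tR F).map (fmat f) = 0 := by
  unfold shat
  rw [Preadditive.sum_comp]
  have h1 : ∀ j, (s j ≫ (lam F).inv ≫ (tR F).map (biproduct.ι (fun _ : Fin n => ModSite.unit O) j)) ≫
      (tR F).map (fmat f) =
      ∑ i, (f i j ≫ s j) ≫ (lam F).inv ≫
        (tR F).map (biproduct.ι (fun _ : Fin m => ModSite.unit O) i) := by
    intro j
    rw [Category.assoc, Category.assoc, ← Functor.map_comp, ι_fmat, Functor.map_sum,
      Preadditive.comp_sum, Preadditive.comp_sum]
    refine Finset.sum_congr rfl (fun i _ => ?_)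
    rw [Functor.map_comp]
    have h := scalar_comm F (s j) (f i j)
    calc s j ≫ (lam F).inv ≫ (tR F).map (f i j) ≫
          (tR F).map (biproduct.ι (fun _ : Fin m => ModSite.unit O) i)
        = (s j ≫ (lam F).inv ≫ (tR F).map (f i j)) ≫
          (tR F).map (biproduct.ι (fun _ : Fin m => ModSite.unit O) i) := by
          simp only [Category.assoc]
      _ = _ := by rw [h]; simp only [Category.assoc]
  rw [Finset.sum_congr rfl (fun j _ => h1 j), Finset.sum_comm]
  refine Finset.sum_eq_zero (fun i _ => ?_)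
  rw [← Preadditive.sum_comp, hrel i, zero_comp]

lemma exists_lift (hF : ModSite.IsFlat F) (hrel : ∀ i, ∑ j, f i j ≫ s j = 0) :
    ∃ s' : ModSite.unit O ⟶ (tR F).obj (kernel (fmat f)),
      s' ≫ (tR F).map (kernel.ι (fmat f)) = shat F s := by
  haveI : PreservesFiniteLimits (tR F) := hF.1
  obtain ⟨l, hl⟩ := KernelFork.IsLimit.lift'
    (KernelFork.mapIsLimit _ (kernelIsKernel (fmat f)) (tR F)) (shat F s) (shat_fmat F f s hrel)
  exact ⟨l, hl⟩

lemma shat_π (j : Fin n) :
    shat F s ≫ (tR F).map (biproduct.π (fun _ : Fin n => ModSite.unit O) j) ≫ (lam F).hom = s j := by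
  unfold shat
  rw [Preadditive.sum_comp]
  rw [Finset.sum_eq_single j]
  · simp only [Category.assoc]
    rw [← Functor.map_comp_assoc, biproduct.ι_π_self, CategoryTheory.Functor.map_id,
      Category.id_comp, Iso.inv_hom_id, Category.comp_id]
  · intro j' _ hj'
    simp only [Category.assoc]
    rw [← Functor.map_comp_assoc, biproduct.ι_π_ne _ hj', Functor.map_zero, zero_comp, comp_zero,
      comp_zero]
  · intro h
    exact absurd (Finset.mem_univ j) h

lemma map_one_unit {V X : C} (g : V ⟶ X) :
    (ModSite.unit O).val.map g.op (one X) = one V :=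
  map_one ((ModSite.ringSh O).obj.map g.op).hom

/-- **Equational criterion, global form.** -/
theorem eqCrit_global (hF : ModSite.IsFlat F) (hrel : ∀ i, ∑ j, f i j ≫ s j = 0) (X : C) :
    ∃ S ∈ J X, ∀ ⦃V : C⦄ (g : V ⟶ X), S g →
      ∃ (l : ℕ) (t : Fin l → ModSite.sect F V)
        (a : Fin n → Fin l → (ModSite.ringSh O).obj.obj (op V)),
        (∀ j, ev (s j) V (one V) = ∑ k, a j k • t k) ∧
        (∀ i k, ∑ j, ev (f i j) V (a j k) = 0) := by
  obtain ⟨s', hs'⟩ := exists_lift F f s hF hrel
  obtain ⟨S, hS, h⟩ := exists_pt_sum (kernel (fmat f)) F X (ev s' X (one X))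
  refine ⟨S, hS, fun V g hg => ?_⟩
  obtain ⟨l, b, t, hbt⟩ := h g hg
  have hx : ev s' V (one V) = ∑ k, pt (kernel (fmat f)) F V (b k) (t k) := by
    rw [← hbt, ← map_one_unit g]
    exact ev_naturality s' g (one X)
  refine ⟨l, t, fun j k => ev (kernel.ι (fmat f) ≫
    biproduct.π (fun _ : Fin n => ModSite.unit O) j) V (b k), ?_, ?_⟩
  · intro j
    rw [← shat_π F s j, ← hs']
    simp only [ev_comp]
    rw [hx, ev_map_sum, ev_map_sum, ev_map_sum]
    refine Finset.sum_congr rfl (fun k _ => ?_)
    rw [tR_map_pt, tR_map_pt]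
    exact lam_hom_pt F V _ (t k)
  · intro i k
    have h0 : kernel.ι (fmat f) ≫ fmat f ≫ biproduct.π (fun _ : Fin m => ModSite.unit O) i = 0 := by
      rw [← Category.assoc, kernel.condition, zero_comp]
    rw [fmat_π, Preadditive.comp_sum] at h0
    have h1 := congrArg (fun φ => ev φ V (b k)) h0
    simp only [ev_sum] at h1
    refine Eq.trans ?_ h1
    refine Finset.sum_congr rfl (fun j _ => ?_)
    rfl

end crit


section overU

variable (U : C)

/-- the global section of `M|_U` on `C/U` defined by a section of `M` over `U` -/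
noncomputable def secOver (M : ModSite.Mod O) (x : ModSite.sect M U) :
    ((ModSite.restr O U).obj M).sections :=
  PresheafOfModules.sectionsMk (fun Y => M.val.map Y.unop.hom.op x) (by
    intro Y Z p
    change M.val.map p.unop.left.op (M.val.map Y.unop.hom.op x) = M.val.map Z.unop.hom.op x
    rw [← PresheafOfModules.map_comp_apply, ← op_comp, Over.w])

/-- the morphism `O_U ⟶ M|_U` defined by a section of `M` over `U` -/
noncomputable def secHom (M : ModSite.Mod O) (x : ModSite.sect M U) :
    ModSite.unit (O.over U) ⟶ (ModSite.restr O U).obj M :=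
  (SheafOfModules.unitHomEquiv ((ModSite.restr O U).obj M)).symm (secOver U M x)

lemma ev_secHom (M : ModSite.Mod O) (x : ModSite.sect M U) (Y : Over U) :
    ev (secHom U M x) Y (one Y) = M.val.map Y.hom.op x := by
  have h := SheafOfModules.unitHomEquiv_apply_coe ((ModSite.restr O U).obj M) (secHom U M x) (op Y)
  unfold secHom at h
  rw [Equiv.apply_symm_apply] at h
  exact h.symm

end overU


section loc

variable (F : ModSite.Mod O) (U : C) {m n : ℕ}
  (f : Fin m → Fin n → O.obj.obj (op U)) (s : Fin n → ModSite.sect F U)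

example : (ModSite.restr O U).obj (ModSite.unit O) = ModSite.unit (O.over U) := rfl

/-- the endomorphism of `O_U` defined by a section of `O` over `U` -/
noncomputable def scalHom (a : O.obj.obj (op U)) : ModSite.unit (O.over U) ⟶ ModSite.unit (O.over U) :=
  secHom U (ModSite.unit O) a

lemma ev_scalHom (a : O.obj.obj (op U)) (Y : Over U) :
    ev (scalHom U a) Y (one Y) = (O.obj.map Y.hom.op).hom a :=
  ev_secHom U (ModSite.unit O) a Y

lemma rel_over (i : Fin m) (hrel : ∑ j, f i j • s j = 0) :
    ∑ j, scalHom U (f i j) ≫ secHom U F (s j) = 0 := by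
  apply unit_hom_ext
  intro Y
  rw [ev_sum]
  have h1 : ∀ j, ev (scalHom U (f i j) ≫ secHom U F (s j)) Y (one Y) =
      F.val.map Y.hom.op (f i j • s j) := by
    intro j
    rw [ev_comp, ev_scalHom]
    refine (ev_unit_apply (secHom U F (s j)) Y _).trans ?_
    rw [ev_secHom]
    exact (F.val.map_smul Y.hom.op (f i j) (s j)).symm
  rw [Finset.sum_congr rfl (fun j _ => h1 j)]
  have h2 : ∑ j, (F.val.map Y.hom.op).hom (f i j • s j) =
      (F.val.map Y.hom.op).hom (∑ j, f i j • s j) := (map_sum (F.val.map Y.hom.op).hom _ _).symm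
  refine h2.trans ?_
  rw [hrel]
  exact map_zero _

/-- **Equational criterion, local form** (several relations). -/
theorem eqCrit_local (hF : ModSite.IsFlat F) (hrel : ∀ i, ∑ j, f i j • s j = 0) :
    ∃ S ∈ J U, ∀ ⦃V : C⦄ (g : V ⟶ U), S g →
      ∃ (l : ℕ) (t : Fin l → ModSite.sect F V) (a : Fin n → Fin l → O.obj.obj (op V)),
        (∀ j, (F.val.map g.op).hom (s j) = ∑ k, a j k • t k) ∧
        (∀ i k, ∑ j, a j k * (O.obj.map g.op).hom (f i j) = 0) := by
  have hF' : ModSite.IsFlat ((ModSite.restr O U).obj F) := Groth.Agent.S6147.result O F hF U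
  obtain ⟨S', hS', h⟩ := eqCrit_global ((ModSite.restr O U).obj F)
    (fun i j => scalHom U (f i j)) (fun j => secHom U F (s j)) hF'
    (fun i => rel_over F U f s i (hrel i)) (Over.mk (𝟙 U))
  refine ⟨Sieve.overEquiv (Over.mk (𝟙 U)) S', (J.mem_over_iff S').1 hS', fun V g hg => ?_⟩
  rw [Sieve.overEquiv_iff] at hg
  obtain ⟨l, t, a, h1, h2⟩ := h _ hg
  have e : (Over.mk (g ≫ (Over.mk (𝟙 U)).hom)).hom = g := Category.comp_id g
  refine ⟨l, t, a, fun j => ?_, fun i k => ?_⟩
  · have := h1 j
    rw [ev_secHom, e] at this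
    exact this
  · have := h2 i k
    refine Eq.trans (Finset.sum_congr rfl (fun j _ => ?_)) this
    refine Eq.trans ?_ (ev_unit_apply (scalHom U (f i j)) _ (a j k)).symm
    rw [ev_scalHom, e]
    rfl

end loc

end Groth.Agent.Lib.Helper4.EqCrit
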