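import Mathlib
import Groth.Prelude.Def_ModSite2
import Groth.Agent.Lib.Helper5.Misc.RestrExact
import Groth.Agent.Lib.Helper4.EqCrit

/-!
# Restriction C/X0 -> C/Z of sheaves of modules is exact; a finite presentation over X0 restricts to every Z -> X0 with its universal property (helper4) (helper4)
-/

set_option backward.isDefEq.respectTransparency.types false
set_option synthInstance.maxHeartbeats 400000
set_option autoImplicit false
set_option linter.unusedSectionVars false
set_option linter.style.haveILetI false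
set_option linter.unusedSimpArgs false
universe u v w
open CategoryTheory CategoryTheory.Limits Opposite

namespace Groth.Agent.Lib.Helper4.OverMapPres

open Groth.Agent.Lib.Helper4.PureTensor Groth.Agent.Lib.Helper4.EqCrit

variable {C : Type u} [SmallCategory C] {J : GrothendieckTopology C}

section overMap

variable (R : Sheaf J RingCat.{u}) {Z X₀ : C} (z : Z ⟶ X₀)

/-- restriction from `C/X₀` to `C/Z` along `z : Z ⟶ X₀` -/
noncomputable abbrev G : SheafOfModules.{u} (R.over X₀) ⥤ SheafOfModules.{u} (R.over Z) :=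
  SheafOfModules.overMap R z

instance isRightAdjoint_G : (G R z).IsRightAdjoint :=
  inferInstanceAs (SheafOfModules.pushforward.{u} (F := Over.map z)
    (Sheaf.pushforwardOverMapIso R z).inv).IsRightAdjoint

/-- restriction of abelian sheaves from `C/X₀` to `C/Z` -/
noncomputable abbrev GAb : Sheaf (J.over X₀) AddCommGrpCat.{u} ⥤ Sheaf (J.over Z) AddCommGrpCat.{u} :=
  (Over.map z).sheafPushforwardContinuous AddCommGrpCat.{u} (J.over Z) (J.over X₀)

instance : (GAb (J := J) z).IsLeftAdjoint :=
  ((Over.map z).sheafAdjunctionCocontinuous AddCommGrpCat.{u} (J.over Z) (J.over X₀)).isLeftAdjoint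

lemma epi_G_map {M N : SheafOfModules.{u} (R.over X₀)} (g : M ⟶ N) [Epi g] : Epi ((G R z).map g) := by
  have h1 : Epi ((SheafOfModules.toSheaf (R.over X₀)).map g) := inferInstance
  have h2 : Epi ((GAb (J := J) z).map ((SheafOfModules.toSheaf (R.over X₀)).map g)) :=
    inferInstance
  have h3 : (SheafOfModules.toSheaf (R.over Z)).map ((G R z).map g) =
      (GAb (J := J) z).map ((SheafOfModules.toSheaf (R.over X₀)).map g) := rfl
  haveI : (SheafOfModules.toSheaf.{u} (R.over Z)).ReflectsEpimorphisms :=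
    Functor.reflectsEpimorphisms_of_faithful _
  have h4 : Epi ((SheafOfModules.toSheaf.{u} (R.over Z)).map ((G R z).map g)) := h2
  exact Functor.epi_of_epi_map (SheafOfModules.toSheaf.{u} (R.over Z)) h4

instance preservesFiniteLimits_G : PreservesFiniteLimits (G R z) := by
  haveI := (Adjunction.ofIsRightAdjoint (G R z)).rightAdjoint_preservesLimits
  exact PreservesLimitsOfSize.preservesFiniteLimits.{0, 0} (G R z)

instance additive_G : (G R z).Additive :=
  haveI := preservesBinaryBiproducts_of_preservesBinaryProducts (G R z)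
  Functor.additive_of_preservesBinaryBiproducts _

instance preservesFiniteColimits_G : PreservesFiniteColimits (G R z) := by
  rw [Functor.preservesFiniteColimits_iff_forall_exact_map_and_epi]
  intro S hS
  have h := (Functor.preservesFiniteLimits_iff_forall_exact_map_and_mono (G R z)).1
    (preservesFiniteLimits_G R z) S hS
  haveI := hS.epi_g
  exact ⟨h.1, epi_G_map R z S.g⟩

end overMap


section freeProj

open SheafOfModules

variable {R : Sheaf J RingCat.{u}} {I : Type u}

open Classical in
/-- the projections `free I ⟶ unit` -/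
noncomputable def πFree (j : I) : free (R := R) I ⟶ unit R :=
  Sigma.desc (fun j' => if j' = j then 𝟙 _ else 0)

lemma ιFree_πFree_self (j : I) : ιFree (R := R) j ≫ πFree j = 𝟙 _ := by
  refine (Sigma.ι_desc _ j).trans ?_
  exact if_pos rfl

lemma ιFree_πFree_ne {j j' : I} (h : j' ≠ j) : ιFree (R := R) j' ≫ πFree j = 0 := by
  refine (Sigma.ι_desc _ j').trans ?_
  exact if_neg h

lemma sum_πFree_ιFree [Fintype I] : ∑ j, πFree (R := R) j ≫ ιFree j = 𝟙 (free I) := by
  apply Sigma.hom_ext
  intro j'
  change ιFree j' ≫ _ = ιFree j' ≫ _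
  rw [Preadditive.comp_sum, Category.comp_id]
  rw [Finset.sum_eq_single j']
  · rw [← Category.assoc, ιFree_πFree_self, Category.id_comp]
  · intro j _ hj
    rw [← Category.assoc, ιFree_πFree_ne (Ne.symm hj), zero_comp]
  · intro h
    exact absurd (Finset.mem_univ j') h

lemma unit_to_free_decomp [Fintype I] {M : SheafOfModules.{u} R} (w : M ⟶ free I) :
    w = ∑ j, (w ≫ πFree j) ≫ ιFree j := by
  conv_lhs => rw [← Category.comp_id w, ← sum_πFree_ιFree, Preadditive.comp_sum]
  simp only [Category.assoc]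

end freeProj


section evalOver

variable {O : Sheaf J CommRingCat.{u}}

/-- the terminal object of `C/X₀` -/
abbrev T₀ (X₀ : C) : Over X₀ := Over.mk (𝟙 X₀)

/-- (K1) a global section of `M|_{X₀}` is determined by its value on the terminal object -/
lemma ev_eq_map_terminal {X₀ : C} (M : ModSite.Mod O)
    (w : ModSite.unit (O.over X₀) ⟶ (ModSite.restr O X₀).obj M) (Y : Over X₀) :
    ev w Y (one Y) = M.val.map Y.hom.op (ev w (T₀ X₀) (one (T₀ X₀))) := by
  have h := ev_naturality w (Over.homMk Y.hom : Y ⟶ T₀ X₀) (one (T₀ X₀))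
  rw [map_one_unit] at h
  exact h

lemma eq_secHom {X₀ : C} (M : ModSite.Mod O)
    (w : ModSite.unit (O.over X₀) ⟶ (ModSite.restr O X₀).obj M) :
    w = secHom X₀ M (ev w (T₀ X₀) (one (T₀ X₀))) := by
  apply unit_hom_ext
  intro Y
  rw [ev_eq_map_terminal, ev_secHom]

end evalOver


section GO

variable (O : Sheaf J CommRingCat.{u}) {Z X₀ : C} (z : Z ⟶ X₀)

/-- restriction from `C/X₀` to `C/Z` on modules over `O` -/
noncomputable abbrev GO : ModSite.Mod (O.over X₀) ⥤ ModSite.Mod (O.over Z) :=
  G (ModSite.ringSh O) z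

/-- restriction in stages -/
noncomputable abbrev θ : ModSite.restr O X₀ ⋙ GO O z ≅ ModSite.restr O Z :=
  SheafOfModules.overFunctorMap (ModSite.ringSh O) z

variable {O}

lemma ev_GO_map {N N' : ModSite.Mod (O.over X₀)} (w : N ⟶ N') (Y : Over Z)
    (x : ModSite.sect N ((Over.map z).obj Y)) :
    ev ((GO O z).map w) Y x = ev w ((Over.map z).obj Y) x := rfl

lemma ev_θ_hom (M : ModSite.Mod O) (Y : Over Z) (x : ModSite.sect M Y.left) :
    ev ((θ O z).hom.app M) Y x = x := rfl

example : (GO O z).obj (ModSite.unit (O.over X₀)) = ModSite.unit (O.over Z) := rfl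

/-- (K3) restricting the morphism defined by a section -/
lemma GO_map_secHom (M : ModSite.Mod O) (x : ModSite.sect M X₀) :
    (GO O z).map (secHom X₀ M x) ≫ (θ O z).hom.app M = secHom Z M (M.val.map z.op x) := by
  refine @unit_hom_ext _ _ _ (O.over Z) ((ModSite.restr O Z).obj M)
    ((GO O z).map (secHom X₀ M x) ≫ (θ O z).hom.app M) (secHom Z M (M.val.map z.op x)) ?_
  intro Y
  rw [ev_comp, ev_θ_hom, ev_secHom]
  refine (ev_secHom X₀ M x ((Over.map z).obj Y)).trans ?_
  change M.val.map (Y.hom ≫ z).op x = _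
  rw [op_comp, PresheafOfModules.map_comp_apply]

lemma GO_map_scalHom (a : O.obj.obj (op X₀)) :
    (GO O z).map (scalHom X₀ a) = scalHom Z ((O.obj.map z.op).hom a) := by
  refine @unit_hom_ext _ _ _ (O.over Z) (ModSite.unit (O.over Z))
    ((GO O z).map (scalHom X₀ a)) (scalHom Z ((O.obj.map z.op).hom a)) ?_
  intro Y
  rw [ev_scalHom]
  refine (ev_scalHom X₀ a ((Over.map z).obj Y)).trans ?_
  change (O.obj.map (Y.hom ≫ z).op).hom a = _
  rw [op_comp, Functor.map_comp]
  rfl

end GO


section presLocal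

open SheafOfModules

variable {O : Sheaf J CommRingCat.{u}} (F : ModSite.Mod O) (X₀ : C)
  (P : (F.over X₀).Presentation)

/-- the ring of the localised site, in native form -/
abbrev RX (O : Sheaf J CommRingCat.{u}) (X₀ : C) : Sheaf (J.over X₀) RingCat.{u} :=
  (ModSite.ringSh O).over X₀

/-- the generators map -/
noncomputable abbrev pπ : free (R := RX O X₀) P.generators.I ⟶ F.over X₀ := P.generators.π

/-- the relations map -/
noncomputable abbrev pA : free (R := RX O X₀) P.relations.I ⟶ free (R := RX O X₀) P.generators.I :=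
  (freeHomEquiv (kernel P.generators.π)).symm P.relations.s ≫ kernel.ι P.generators.π

lemma pA_pπ : pA F X₀ P ≫ pπ F X₀ P = 0 := by
  unfold pA pπ
  rw [Category.assoc, kernel.condition, comp_zero]

/-- the coefficient morphisms of the relations -/
noncomputable def cHom (r : P.relations.I) (j : P.generators.I) : unit (RX O X₀) ⟶ unit (RX O X₀) :=
  ιFree r ≫ pA F X₀ P ≫ πFree j

/-- the coefficient morphisms, as morphisms of `O|_{X₀}`-modules -/
noncomputable abbrev cHom' (r : P.relations.I) (j : P.generators.I) :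
    ModSite.unit (O.over X₀) ⟶ ModSite.unit (O.over X₀) := cHom F X₀ P r j

/-- the generator morphisms, as morphisms of `O|_{X₀}`-modules -/
noncomputable abbrev gHom' (j : P.generators.I) :
    ModSite.unit (O.over X₀) ⟶ (ModSite.restr O X₀).obj F := ιFree j ≫ pπ F X₀ P

/-- the coefficients of the relations -/
noncomputable def c0 (r : P.relations.I) (j : P.generators.I) : O.obj.obj (op X₀) :=
  ev (cHom' F X₀ P r j) (T₀ X₀) (one (T₀ X₀))

/-- the generators as sections over `X₀` -/
noncomputable def γ0 (j : P.generators.I) : ModSite.sect F X₀ :=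
  ev (gHom' F X₀ P j) (T₀ X₀) (one (T₀ X₀))

lemma cHom_eq (r : P.relations.I) (j : P.generators.I) :
    cHom' F X₀ P r j = scalHom X₀ (c0 F X₀ P r j) :=
  eq_secHom (ModSite.unit O) (cHom' F X₀ P r j)

lemma gen_eq (j : P.generators.I) :
    gHom' F X₀ P j = secHom X₀ F (γ0 F X₀ P j) :=
  eq_secHom F (gHom' F X₀ P j)

lemma ιFree_pA [Fintype P.generators.I] (r : P.relations.I) :
    ιFree (R := RX O X₀) r ≫ pA F X₀ P =
      ∑ j, cHom F X₀ P r j ≫ ιFree (R := RX O X₀) j := by
  refine (unit_to_free_decomp (ιFree (R := RX O X₀) r ≫ pA F X₀ P)).trans ?_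
  refine Finset.sum_congr rfl (fun j _ => ?_)
  unfold cHom
  simp only [Category.assoc]

lemma sum_cHom_gHom [Fintype P.generators.I] (r : P.relations.I) :
    ∑ j, cHom' F X₀ P r j ≫ gHom' F X₀ P j = 0 := by
  have h1 := ιFree_pA F X₀ P r
  have h2 : (ιFree (R := RX O X₀) r ≫ pA F X₀ P) ≫ pπ F X₀ P = 0 := by
    rw [Category.assoc, pA_pπ, comp_zero]
  rw [h1, Preadditive.sum_comp] at h2
  refine Eq.trans (Finset.sum_congr rfl (fun j _ => ?_)) h2
  exact (Category.assoc _ _ _).symm

lemma sum_c0_smul_γ0 [Fintype P.generators.I] (r : P.relations.I) :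
    ∑ j, c0 F X₀ P r j • γ0 F X₀ P j = 0 := by
  have h := congrArg (fun w => ev w (T₀ X₀) (one (T₀ X₀))) (sum_cHom_gHom F X₀ P r)
  simp only [ev_sum] at h
  refine Eq.trans (Finset.sum_congr rfl (fun j _ => ?_)) h
  rw [ev_comp]
  exact (ev_unit_apply (gHom' F X₀ P j) (T₀ X₀) (c0 F X₀ P r j)).symm

section univ

variable {Z : C} (z : Z ⟶ X₀)

/-- `G(free I)` is a coproduct of copies of `G(unit)` -/
noncomputable def hGfree (I : Type u) [Fintype I] :
    IsColimit (Cofan.mk ((G (ModSite.ringSh O) z).obj (free (R := RX O X₀) I))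
      (fun j : I => (G (ModSite.ringSh O) z).map (ιFree (R := RX O X₀) j)) :
        Cofan fun _ : I => (G (ModSite.ringSh O) z).obj (unit (RX O X₀))) :=
  haveI : PreservesColimitsOfShape (Discrete I) (G (ModSite.ringSh O) z) :=
    preservesColimitsOfShapeOfPreservesFiniteColimits (G (ModSite.ringSh O) z) (Discrete I)
  isColimitCofanMkObjOfIsColimit (G (ModSite.ringSh O) z) (fun _ : I => unit (RX O X₀))
    (fun j : I => ιFree (R := RX O X₀) j) (isColimitFreeCofan (R := RX O X₀) I)

/-- `G(π)` is a cokernel of `G(A)` -/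
noncomputable def hGcok :
    IsColimit (CokernelCofork.ofπ ((G (ModSite.ringSh O) z).map (pπ F X₀ P))
      (show (G (ModSite.ringSh O) z).map (pA F X₀ P) ≫ (G (ModSite.ringSh O) z).map (pπ F X₀ P) = 0 by
        rw [← Functor.map_comp, pA_pπ, Functor.map_zero])) :=
  (CokernelCofork.mapIsColimit _ P.isColimit (G (ModSite.ringSh O) z))

variable [Fintype P.generators.I] [Fintype P.relations.I]

lemma Gmap_cHom (r : P.relations.I) (j : P.generators.I) :
    (G (ModSite.ringSh O) z).map (cHom F X₀ P r j) =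
      scalHom Z ((O.obj.map z.op).hom (c0 F X₀ P r j)) := by
  have h := cHom_eq F X₀ P r j
  have h2 := GO_map_scalHom z (c0 F X₀ P r j)
  rw [← h] at h2
  exact h2

lemma Gmap_gHom (j : P.generators.I) :
    (G (ModSite.ringSh O) z).map (ιFree (R := RX O X₀) j ≫ pπ F X₀ P) ≫ (θ O z).hom.app F =
      secHom Z F (F.val.map z.op (γ0 F X₀ P j)) := by
  have h := gen_eq F X₀ P j
  have h2 := GO_map_secHom z F (γ0 F X₀ P j)
  rw [← h] at h2
  exact h2

/-- existence part of the universal property of the restricted presentation -/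
theorem exists_desc (N : ModSite.Mod (O.over Z))
    (y : P.generators.I → (ModSite.unit (O.over Z) ⟶ N))
    (hy : ∀ r, ∑ j, scalHom Z ((O.obj.map z.op).hom (c0 F X₀ P r j)) ≫ y j = 0) :
    ∃ a : (ModSite.restr O Z).obj F ⟶ N,
      ∀ j, secHom Z F (F.val.map z.op (γ0 F X₀ P j)) ≫ a = y j := by
  let a₀ : (G (ModSite.ringSh O) z).obj (free (R := RX O X₀) P.generators.I) ⟶ N :=
    Cofan.IsColimit.desc (hGfree (O := O) X₀ z P.generators.I) (fun j => y j)
  have fac : ∀ j, (G (ModSite.ringSh O) z).map (ιFree (R := RX O X₀) j) ≫ a₀ = y j :=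
    fun j => Cofan.IsColimit.fac (hGfree (O := O) X₀ z P.generators.I) (fun j => y j) j
  have hA : (G (ModSite.ringSh O) z).map (pA F X₀ P) ≫ a₀ = 0 := by
    refine Cofan.IsColimit.hom_ext (hGfree (O := O) X₀ z P.relations.I) _ _ (fun r => ?_)
    change (G (ModSite.ringSh O) z).map (ιFree (R := RX O X₀) r) ≫
      (G (ModSite.ringSh O) z).map (pA F X₀ P) ≫ a₀ =
      (G (ModSite.ringSh O) z).map (ιFree (R := RX O X₀) r) ≫ 0
    have e1 : (G (ModSite.ringSh O) z).map (ιFree (R := RX O X₀) r) ≫
        (G (ModSite.ringSh O) z).map (pA F X₀ P) =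
        ∑ j, (G (ModSite.ringSh O) z).map (cHom F X₀ P r j) ≫
          (G (ModSite.ringSh O) z).map (ιFree (R := RX O X₀) j) := by
      rw [← Functor.map_comp, ιFree_pA, Functor.map_sum]
      exact Finset.sum_congr rfl (fun j _ => Functor.map_comp _ _ _)
    refine (Category.assoc _ _ _).symm.trans ?_
    refine (congrArg (fun w => w ≫ a₀) e1).trans ?_
    refine (Preadditive.sum_comp _ _ _).trans ?_
    refine Eq.trans ?_ comp_zero.symm
    refine Eq.trans (Finset.sum_congr rfl (fun j _ => ?_)) (hy r)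
    refine (Category.assoc _ _ _).trans ?_
    refine (congrArg (fun w => (G (ModSite.ringSh O) z).map (cHom F X₀ P r j) ≫ w) (fac j)).trans ?_
    exact congrArg (fun w => w ≫ y j) (Gmap_cHom F X₀ P z r j)
  obtain ⟨a', ha'⟩ := CokernelCofork.IsColimit.desc' (hGcok F X₀ P z) a₀ hA
  have ha'' : (G (ModSite.ringSh O) z).map (pπ F X₀ P) ≫ a' = a₀ := ha'
  refine ⟨(θ O z).inv.app F ≫ a', fun j => ?_⟩
  have h1 : (θ O z).hom.app F ≫ (θ O z).inv.app F = 𝟙 _ := Iso.hom_inv_id_app _ _
  refine (congrArg (fun w => w ≫ (θ O z).inv.app F ≫ a') (Gmap_gHom F X₀ P z j).symm).trans ?_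
  refine (Category.assoc _ _ _).trans ?_
  refine (congrArg (fun w => (G (ModSite.ringSh O) z).map (ιFree (R := RX O X₀) j ≫ pπ F X₀ P) ≫ w)
    ((Category.assoc _ _ _).symm.trans ((congrArg (fun w => w ≫ a') h1).trans
      (Category.id_comp a')))).trans ?_
  refine (congrArg (fun w => w ≫ a') (Functor.map_comp _ _ _)).trans ?_
  refine (Category.assoc _ _ _).trans ?_
  refine (congrArg (fun w => (G (ModSite.ringSh O) z).map (ιFree (R := RX O X₀) j) ≫ w) ha'').trans ?_
  exact fac j

/-- uniqueness part of the universal property of the restricted presentation -/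
theorem desc_unique (N : ModSite.Mod (O.over Z)) (a a' : (ModSite.restr O Z).obj F ⟶ N)
    (h : ∀ j, secHom Z F (F.val.map z.op (γ0 F X₀ P j)) ≫ a =
      secHom Z F (F.val.map z.op (γ0 F X₀ P j)) ≫ a') : a = a' := by
  haveI : Epi ((G (ModSite.ringSh O) z).map (pπ F X₀ P)) := epi_G_map (ModSite.ringSh O) z _
  have key : ∀ b : (ModSite.restr O Z).obj F ⟶ N, ∀ j,
      (G (ModSite.ringSh O) z).map (ιFree (R := RX O X₀) j) ≫
        ((G (ModSite.ringSh O) z).map (pπ F X₀ P) ≫ (θ O z).hom.app F ≫ b) =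
      secHom Z F (F.val.map z.op (γ0 F X₀ P j)) ≫ b := by
    intro b j
    refine (Category.assoc _ _ _).symm.trans ?_
    refine (congrArg (fun w => w ≫ (θ O z).hom.app F ≫ b)
      ((G (ModSite.ringSh O) z).map_comp (ιFree (R := RX O X₀) j) (pπ F X₀ P)).symm).trans ?_
    refine (Category.assoc _ _ _).symm.trans ?_
    exact congrArg (fun w => w ≫ b) (Gmap_gHom F X₀ P z j)
  have h2 : (G (ModSite.ringSh O) z).map (pπ F X₀ P) ≫ (θ O z).hom.app F ≫ a =
      (G (ModSite.ringSh O) z).map (pπ F X₀ P) ≫ (θ O z).hom.app F ≫ a' := by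
    refine Cofan.IsColimit.hom_ext (hGfree (O := O) X₀ z P.generators.I) _ _ (fun j => ?_)
    exact (key a j).trans ((h j).trans (key a' j).symm)
  have h3 : (θ O z).hom.app F ≫ a = (θ O z).hom.app F ≫ a' :=
    (cancel_epi ((G (ModSite.ringSh O) z).map (pπ F X₀ P))).1 h2
  exact (cancel_epi ((θ O z).hom.app F)).1 h3

end univ

end presLocal

end Groth.Agent.Lib.Helper4.OverMapPres
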