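import Mathlib
import Groth.Prelude.Def_ModSite2
import Groth.Prelude.Def_AlgSpPerf
import Groth.Agent.Lib.Helper4.OverMapPres

/-!
# Global sections over a terminal object: summands of finite free modules vs finite projective modules (helper4) (helper4)
-/

set_option backward.isDefEq.respectTransparency.types false
set_option synthInstance.maxHeartbeats 400000
set_option autoImplicit false
set_option linter.unusedSectionVars false
set_option linter.style.haveILetI false
set_option linter.unusedSimpArgs false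
universe u v w
open CategoryTheory CategoryTheory.Limits Opposite

namespace Groth.Agent.Lib.Helper4.SecEquiv

open SheafOfModules Groth.Agent.Lib.Helper4.OverMapPres

variable {C : Type u} [SmallCategory C] {J : GrothendieckTopology C} {R : Sheaf J RingCat.{u}}
  {X : C} (hX : IsTerminal X)

/-- evaluation of a morphism at `X` -/
abbrev evM {M N : SheafOfModules.{u} R} (X : C) (φ : M ⟶ N) :
    M.val.obj (op X) ⟶ N.val.obj (op X) := φ.val.app (op X)

lemma evM_comp {M N P : SheafOfModules.{u} R} (φ : M ⟶ N) (ψ : N ⟶ P) :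
    evM X (φ ≫ ψ) = evM X φ ≫ evM X ψ := rfl

lemma evM_id (M : SheafOfModules.{u} R) : evM X (𝟙 M) = 𝟙 _ := rfl

lemma evM_add {M N : SheafOfModules.{u} R} (φ ψ : M ⟶ N) :
    evM X (φ + ψ) = evM X φ + evM X ψ := rfl

lemma evM_zero {M N : SheafOfModules.{u} R} :
    evM X (0 : M ⟶ N) = 0 := rfl

lemma evM_sum {M N : SheafOfModules.{u} R} {ι : Type*} (s : Finset ι) (φ : ι → (M ⟶ N)) :
    evM X (∑ j ∈ s, φ j) = ∑ j ∈ s, evM X (φ j) := by
  classical
  induction s using Finset.induction_on with
  | empty => simp only [Finset.sum_empty]; rfl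
  | insert a s ha ih => rw [Finset.sum_insert ha, Finset.sum_insert ha, evM_add, ih]

/-- the compatible family generated by a section over the terminal object -/
noncomputable def secOfGlobal (M : SheafOfModules.{u} R) (s : M.val.obj (op X)) : M.sections :=
  PresheafOfModules.sectionsMk (fun U => M.val.map (hX.from U.unop).op s) (by
    intro U V f
    have h : (hX.from U.unop).op ≫ f = (hX.from V.unop).op :=
      Quiver.Hom.unop_inj (hX.hom_ext _ _)
    rw [← PresheafOfModules.map_comp_apply, h])

lemma secOfGlobal_val (M : SheafOfModules.{u} R) (s : M.val.obj (op X)) (U : Cᵒᵖ) :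
    (secOfGlobal hX M s).val U = M.val.map (hX.from U.unop).op s := rfl

/-- the morphism `unit ⟶ M` given by a section over the terminal object -/
noncomputable def unitLift (M : SheafOfModules.{u} R) (s : M.val.obj (op X)) : unit R ⟶ M :=
  M.unitHomEquiv.symm (secOfGlobal hX M s)

lemma unitLift_one (M : SheafOfModules.{u} R) (s : M.val.obj (op X)) :
    (evM X (unitLift hX M s)).hom (1 : R.obj.obj (op X)) = s := by
  have h := congrArg (fun t => t.val (op X)) (M.unitHomEquiv.apply_symm_apply (secOfGlobal hX M s))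
  refine h.trans ?_
  rw [secOfGlobal_val]
  have : hX.from (op X).unop = 𝟙 X := hX.hom_ext _ _
  rw [this]
  simp

lemma unitLift_apply (M : SheafOfModules.{u} R) (s : M.val.obj (op X)) (r : R.obj.obj (op X)) :
    (evM X (unitLift hX M s)).hom r = r • s := by
  have h : (r : (unit R).val.obj (op X)) = r • (show ((unit R).val.obj (op X) : Type u) from (1 : R.obj.obj (op X))) :=
    (mul_one r).symm
  refine (congrArg (evM X (unitLift hX M s)).hom h).trans ?_
  rw [map_smul]
  exact congrArg (r • ·) (unitLift_one hX M s)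

include hX in
lemma unit_hom_ext_global {M : SheafOfModules.{u} R} (φ ψ : unit R ⟶ M)
    (h : (evM X φ).hom (1 : R.obj.obj (op X)) = (evM X ψ).hom (1 : R.obj.obj (op X))) : φ = ψ := by
  apply M.unitHomEquiv.injective
  apply PresheafOfModules.sections_ext
  intro U
  rw [unitHomEquiv_apply_coe, unitHomEquiv_apply_coe]
  have h1 : ∀ χ : unit R ⟶ M, χ.val.app U (1 : R.obj.obj U) =
      M.val.map (hX.from U.unop).op ((evM X χ).hom (1 : R.obj.obj (op X))) := by
    intro χ
    have := PresheafOfModules.naturality_apply χ.val (hX.from U.unop).op (1 : R.obj.obj (op X))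
    refine Eq.trans ?_ this
    congr 1
    exact (map_one (R.obj.map (hX.from U.unop).op).hom).symm
  rw [h1, h1, h]

lemma unitLift_eq {M : SheafOfModules.{u} R} (φ : unit R ⟶ M) :
    unitLift hX M ((evM X φ).hom (1 : R.obj.obj (op X))) = φ :=
  unit_hom_ext_global hX _ _ (unitLift_one hX M _)

variable {I : Type u}

include hX in
lemma free_hom_ext_global {M : SheafOfModules.{u} R} (φ ψ : free (R := R) I ⟶ M)
    (h : evM X φ = evM X ψ) : φ = ψ := by
  refine Sigma.hom_ext _ _ (fun j => ?_)
  change ιFree j ≫ φ = ιFree j ≫ ψ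
  apply unit_hom_ext_global hX
  rw [evM_comp, evM_comp, h]

/-- lift of a linear map out of the sections of a free module -/
noncomputable def freeLift (M : SheafOfModules.{u} R)
    (g : (free (R := R) I).val.obj (op X) ⟶ M.val.obj (op X)) : free (R := R) I ⟶ M :=
  Sigma.desc (fun j => unitLift hX M (g.hom ((evM X (ιFree (R := R) j)).hom (1 : R.obj.obj (op X)))))

lemma ιFree_freeLift (M : SheafOfModules.{u} R)
    (g : (free (R := R) I).val.obj (op X) ⟶ M.val.obj (op X)) (j : I) :
    ιFree j ≫ freeLift hX M g =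
      unitLift hX M (g.hom ((evM X (ιFree (R := R) j)).hom (1 : R.obj.obj (op X)))) :=
  Sigma.ι_desc _ j

lemma evM_ιFree_freeLift (M : SheafOfModules.{u} R)
    (g : (free (R := R) I).val.obj (op X) ⟶ M.val.obj (op X)) (j : I) :
    evM X (ιFree j) ≫ evM X (freeLift hX M g) = evM X (ιFree j) ≫ g := by
  rw [← evM_comp, ιFree_freeLift]
  refine ModuleCat.hom_ext (LinearMap.ext fun r => ?_)
  refine (unitLift_apply hX M _ r).trans ?_
  change _ = g.hom ((evM X (ιFree (R := R) j)).hom r)
  rw [← map_smul, ← map_smul]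
  congr 2
  exact (mul_one (M := R.obj.obj (op X)) r)

lemma evM_freeLift [Fintype I] (M : SheafOfModules.{u} R)
    (g : (free (R := R) I).val.obj (op X) ⟶ M.val.obj (op X)) :
    evM X (freeLift hX M g) = g := by
  have h1 := congrArg (evM X) (sum_πFree_ιFree (R := R) (I := I))
  rw [evM_sum, evM_id] at h1
  calc evM X (freeLift hX M g)
      = (∑ j, evM X (πFree (R := R) j ≫ ιFree j)) ≫ evM X (freeLift hX M g) := by
        rw [h1, Category.id_comp]
    _ = (∑ j, evM X (πFree (R := R) j ≫ ιFree j)) ≫ g := by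
        rw [Preadditive.sum_comp, Preadditive.sum_comp]
        refine Finset.sum_congr rfl (fun j _ => ?_)
        rw [evM_comp, Category.assoc, Category.assoc, evM_ιFree_freeLift]
    _ = g := by rw [h1, Category.id_comp]

include hX in
theorem bijective_evM [Fintype I] {E E' : SheafOfModules.{u} R} (i : E ⟶ free (R := R) I)
    (p : free (R := R) I ⟶ E) (hip : i ≫ p = 𝟙 E) :
    Function.Bijective (fun φ : E ⟶ E' => φ.val.app (op X)) := by
  constructor
  · intro φ ψ h
    have h' : evM X φ = evM X ψ := h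
    have h2 : p ≫ φ = p ≫ ψ :=
      free_hom_ext_global hX _ _ (by rw [evM_comp, evM_comp, h'])
    calc φ = (i ≫ p) ≫ φ := by rw [hip, Category.id_comp]
      _ = (i ≫ p) ≫ ψ := by rw [Category.assoc, h2, Category.assoc]
      _ = ψ := by rw [hip, Category.id_comp]
  · intro g
    refine ⟨i ≫ freeLift hX E' (evM X p ≫ g), ?_⟩
    change evM X _ = g
    rw [evM_comp, evM_freeLift, ← Category.assoc, ← evM_comp, hip, evM_id, Category.id_comp]

/-- the unit module at `X`, as a type -/
noncomputable abbrev U₀ (R : Sheaf J RingCat.{u}) (X : C) : ModuleCat.{u} (R.obj.obj (op X)) := (unit R).val.obj (op X)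

/-- coordinates of sections of a submodule of a free module -/
noncomputable def toPi {E : SheafOfModules.{u} R} (i : E ⟶ free (R := R) I) :
    E.val.obj (op X) →ₗ[R.obj.obj (op X)] (I → U₀ R X) :=
  LinearMap.pi (fun j => (evM X (i ≫ πFree j)).hom)

lemma toPi_apply {E : SheafOfModules.{u} R} (i : E ⟶ free (R := R) I) (x : E.val.obj (op X)) (j : I) :
    toPi i x j = (evM X (i ≫ πFree j)).hom x := rfl

/-- linear combinations of images of generators -/
noncomputable def ofPi [Fintype I] {E : SheafOfModules.{u} R} (p : free (R := R) I ⟶ E) :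
    (I → U₀ R X) →ₗ[R.obj.obj (op X)] E.val.obj (op X) :=
  ∑ j, (evM X (ιFree j ≫ p)).hom ∘ₗ LinearMap.proj j

lemma ofPi_apply [Fintype I] {E : SheafOfModules.{u} R} (p : free (R := R) I ⟶ E) (c : I → U₀ R X) :
    ofPi p c = ∑ j, (evM X (ιFree j ≫ p)).hom (c j) := by
  simp [ofPi]

lemma ofPi_toPi [Fintype I] {E E' : SheafOfModules.{u} R} (i : E ⟶ free (R := R) I)
    (p : free (R := R) I ⟶ E') (x : E.val.obj (op X)) :
    ofPi p (toPi i x) = (evM X (i ≫ p)).hom x := by
  rw [ofPi_apply]
  have h1 : i ≫ p = ∑ j, (i ≫ πFree j) ≫ (ιFree j ≫ p) := by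
    conv_lhs => rw [← Category.id_comp p, ← sum_πFree_ιFree, Preadditive.sum_comp, Preadditive.comp_sum]
    simp only [Category.assoc]
  rw [h1, evM_sum]
  rw [ModuleCat.hom_sum, LinearMap.sum_apply]
  rfl

lemma toPi_ofPi [Fintype I] (c : I → U₀ R X) :
    toPi (𝟙 (free (R := R) I)) (ofPi (𝟙 (free (R := R) I)) c) = c := by
  classical
  funext j
  rw [toPi_apply, ofPi_apply, map_sum]
  rw [Finset.sum_eq_single j]
  · change (evM X (ιFree j ≫ 𝟙 _) ≫ evM X (𝟙 _ ≫ πFree j)).hom (c j) = c j
    rw [← evM_comp, Category.comp_id, Category.id_comp, ιFree_πFree_self]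
    rfl
  · intro k _ hk
    change (evM X (ιFree k ≫ 𝟙 _) ≫ evM X (𝟙 _ ≫ πFree j)).hom (c k) = 0
    rw [← evM_comp, Category.comp_id, Category.id_comp, ιFree_πFree_ne hk]
    rfl
  · intro h
    exact absurd (Finset.mem_univ j) h

/-- sections of a finite free module over the terminal object -/
noncomputable def freeSecEquiv [Fintype I] :
    (free (R := R) I).val.obj (op X) ≃ₗ[R.obj.obj (op X)] (I → U₀ R X) :=
  LinearEquiv.ofLinear (toPi (𝟙 _)) (ofPi (𝟙 _))
    (LinearMap.ext fun c => toPi_ofPi c)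
    (LinearMap.ext fun x => (ofPi_toPi (𝟙 _) (𝟙 _) x).trans (by rw [Category.comp_id]; rfl))

/-- the unit module at `X` is the ring -/
def U₀Equiv : (R.obj.obj (op X)) ≃ₗ[R.obj.obj (op X)] U₀ R X := LinearEquiv.refl _ _

instance : Module.Free (R.obj.obj (op X)) (U₀ R X) := Module.Free.of_equiv U₀Equiv
instance : Module.Finite (R.obj.obj (op X)) (U₀ R X) := Module.Finite.equiv U₀Equiv

theorem finite_projective [Fintype I] {E : SheafOfModules.{u} R} (i : E ⟶ free (R := R) I)
    (p : free (R := R) I ⟶ E) (hip : i ≫ p = 𝟙 E) :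
    Module.Finite (R.obj.obj (op X)) (E.val.obj (op X)) ∧
    Module.Projective (R.obj.obj (op X)) (E.val.obj (op X)) := by
  have h : (ofPi (X := X) p) ∘ₗ (toPi i) = LinearMap.id := by
    refine LinearMap.ext fun x => ?_
    refine (ofPi_toPi i p x).trans ?_
    rw [hip]
    rfl
  constructor
  · refine Module.Finite.of_surjective (ofPi (X := X) p) ?_
    intro x
    exact ⟨toPi i x, LinearMap.congr_fun h x⟩
  · exact Module.Projective.of_split (toPi i) (ofPi p) h

include hX in
theorem exists_of_finite_projective (M : ModuleCat.{u} (R.obj.obj (op X)))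
    [Module.Finite (R.obj.obj (op X)) M] [Module.Projective (R.obj.obj (op X)) M] :
    ∃ (n : ℕ) (E : SheafOfModules.{u} R) (i : E ⟶ free (R := R) (ULift.{u} (Fin n)))
      (p : free (R := R) (ULift.{u} (Fin n)) ⟶ E),
      i ≫ p = 𝟙 E ∧ Nonempty (E.val.obj (op X) ≅ M) := by
  obtain ⟨n, f, g, -, -, hfg⟩ := Module.Finite.exists_comp_eq_id_of_projective (R.obj.obj (op X)) M
  let κ : (ULift.{u} (Fin n) → U₀ R X) ≃ₗ[R.obj.obj (op X)] (Fin n → R.obj.obj (op X)) :=
    (LinearEquiv.funCongrLeft (R.obj.obj (op X)) (U₀ R X) Equiv.ulift.symm).trans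
      (LinearEquiv.piCongrRight fun _ => U₀Equiv.symm)
  let θ : (free (R := R) (ULift.{u} (Fin n))).val.obj (op X) ≃ₗ[R.obj.obj (op X)]
      (Fin n → R.obj.obj (op X)) := freeSecEquiv.trans κ
  let e : (free (R := R) (ULift.{u} (Fin n))).val.obj (op X) →ₗ[R.obj.obj (op X)]
      (free (R := R) (ULift.{u} (Fin n))).val.obj (op X) :=
    θ.symm.toLinearMap ∘ₗ g ∘ₗ f ∘ₗ θ.toLinearMap
  let ε := freeLift hX (free (R := R) (ULift.{u} (Fin n))) (ModuleCat.ofHom e)
  have hε : evM X ε = ModuleCat.ofHom e := evM_freeLift hX _ _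
  have hfg' : ∀ m, f (g m) = m := fun m => LinearMap.congr_fun hfg m
  have hεε : ε ≫ ε = ε := by
    refine free_hom_ext_global hX _ _ ?_
    rw [evM_comp, hε]
    refine ModuleCat.hom_ext (LinearMap.ext fun x => ?_)
    change e (e x) = e x
    simp only [e, LinearMap.comp_apply, LinearEquiv.coe_coe, LinearEquiv.apply_symm_apply, hfg']
  obtain ⟨E, i, p, hip, hpi⟩ := (inferInstance : IsIdempotentComplete (SheafOfModules.{u} R)).idempotents_split _ ε hεε
  have hpi' : ∀ y, (evM X i).hom ((evM X p).hom y) = e y := by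
    intro y
    have := congrArg (evM X) hpi
    rw [evM_comp, hε] at this
    exact congrArg (fun t => t.hom y) this
  have hip' : ∀ y, (evM X p).hom ((evM X i).hom y) = y := by
    intro y
    have := congrArg (evM X) hip
    rw [evM_comp, evM_id] at this
    exact congrArg (fun t => t.hom y) this
  refine ⟨n, E, i, p, hip, ⟨LinearEquiv.toModuleIso (LinearEquiv.ofLinear
    (f ∘ₗ θ.toLinearMap ∘ₗ (evM X i).hom) ((evM X p).hom ∘ₗ θ.symm.toLinearMap ∘ₗ g) ?_ ?_)⟩⟩
  · refine LinearMap.ext fun m => ?_
    simp only [LinearMap.comp_apply, LinearEquiv.coe_coe, LinearMap.id_apply]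
    rw [hpi']
    simp only [e, LinearMap.comp_apply, LinearEquiv.coe_coe, LinearEquiv.apply_symm_apply, hfg']
  · refine LinearMap.ext fun y => ?_
    simp only [LinearMap.comp_apply, LinearEquiv.coe_coe, LinearMap.id_apply]
    have h1 : θ.symm (g (f (θ ((evM X i).hom y)))) = e ((evM X i).hom y) := rfl
    rw [h1, ← hpi', hip', hip']

theorem main (O : Sheaf J CommRingCat.{u})
    (X : C) (hX : IsTerminal X) :
    (∀ E E' : ModSite.Mod O, DCoh.IsFinFreeSummandMod (ModSite.ringSh O) E →
        DCoh.IsFinFreeSummandMod (ModSite.ringSh O) E' →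
        Function.Bijective (fun φ : E ⟶ E' => φ.val.app (op X))) ∧
    (∀ E : ModSite.Mod O, DCoh.IsFinFreeSummandMod (ModSite.ringSh O) E →
        Module.Finite ((ModSite.ringSh O).obj.obj (op X)) (E.val.obj (op X)) ∧
        Module.Projective ((ModSite.ringSh O).obj.obj (op X)) (E.val.obj (op X))) ∧
    (∀ M : ModuleCat.{u} ((ModSite.ringSh O).obj.obj (op X)),
        Module.Finite ((ModSite.ringSh O).obj.obj (op X)) M →
        Module.Projective ((ModSite.ringSh O).obj.obj (op X)) M →
        ∃ E : ModSite.Mod O, DCoh.IsFinFreeSummandMod (ModSite.ringSh O) E ∧ Nonempty (E.val.obj (op X) ≅ M)) := by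
  refine ⟨?_, ?_, ?_⟩
  · rintro E E' ⟨n, i, p, hip⟩ -
    exact bijective_evM hX i p hip
  · rintro E ⟨n, i, p, hip⟩
    exact finite_projective i p hip
  · intro M hM1 hM2
    obtain ⟨n, E, i, p, hip, hE⟩ := exists_of_finite_projective (R := ModSite.ringSh O) hX M
    exact ⟨E, ⟨n, i, p, hip⟩, hE⟩

end Groth.Agent.Lib.Helper4.SecEquiv
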