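import Mathlib

/-!
# Preservation of colimits: naturality of colimit.post, finite sum retracts, kernels of natural transformations under AB5, images of comparison maps (helper4)
-/

set_option backward.isDefEq.respectTransparency.types false
set_option synthInstance.maxHeartbeats 400000
set_option autoImplicit false
set_option linter.unusedSectionVars false
set_option linter.style.haveILetI false
set_option linter.unusedSimpArgs false
universe u v w u' v' w'
open CategoryTheory CategoryTheory.Limits Opposite

namespace Groth.Agent.Lib.Helper4.ColimLemmas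

section abstract

variable {Λ : Type w} [Category.{w'} Λ] {𝒜 : Type u} [Category.{v} 𝒜] {ℬ : Type u'} [Category.{v'} ℬ]
  [HasColimitsOfShape Λ 𝒜] [HasColimitsOfShape Λ ℬ] (D : Λ ⥤ 𝒜)

/-- naturality of `colimit.post` in the functor -/
lemma post_naturality {H K : 𝒜 ⥤ ℬ} (α : H ⟶ K) :
    colimit.post D H ≫ α.app (colimit D) = colimMap (Functor.whiskerLeft D α) ≫ colimit.post D K := by
  apply colimit.hom_ext
  intro j
  rw [← Category.assoc, colimit.ι_post, ← Category.assoc, ι_colimMap, Category.assoc,
    colimit.ι_post]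
  exact α.naturality _

variable [Preadditive ℬ]

lemma colimMap_sum {X Y : Λ ⥤ ℬ} {ι : Type*} (s : Finset ι) (f : ι → (X ⟶ Y)) :
    colimMap (∑ i ∈ s, f i) = ∑ i ∈ s, colimMap (f i) := by
  apply colimit.hom_ext
  intro j
  rw [ι_colimMap, Preadditive.comp_sum, NatTrans.app_sum, Preadditive.sum_comp]
  refine Finset.sum_congr rfl (fun i _ => ?_)
  rw [ι_colimMap]

/-- a functor which is a "finite sum retract" of functors preserving a colimit preserves it -/
theorem preservesColimit_of_sum_retract {ι : Type*} [Fintype ι] (H : 𝒜 ⥤ ℬ) (K : ι → (𝒜 ⥤ ℬ))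
    (a : ∀ i, H ⟶ K i) (b : ∀ i, K i ⟶ H) (hab : ∑ i, a i ≫ b i = 𝟙 H)
    [∀ i, PreservesColimit D (K i)] : PreservesColimit D H := by
  haveI : IsIso (colimit.post D H) := by
    refine ⟨∑ i, (a i).app (colimit D) ≫ inv (colimit.post D (K i)) ≫
      colimMap (Functor.whiskerLeft D (b i)), ?_, ?_⟩
    · rw [Preadditive.comp_sum]
      have h1 : ∀ i, colimit.post D H ≫ (a i).app (colimit D) ≫ inv (colimit.post D (K i)) ≫
          colimMap (Functor.whiskerLeft D (b i)) =
          colimMap (Functor.whiskerLeft D (a i ≫ b i)) := by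
        intro i
        rw [← Category.assoc, post_naturality, Category.assoc, IsIso.hom_inv_id_assoc,
          Functor.whiskerLeft_comp]
        apply colimit.hom_ext
        intro j
        simp
      rw [Finset.sum_congr rfl (fun i _ => h1 i), ← colimMap_sum]
      have h2 : ∑ i, Functor.whiskerLeft D (a i ≫ b i) = 𝟙 (D ⋙ H) := by
        ext j
        rw [NatTrans.app_sum]
        have := congrArg (fun t => t.app (D.obj j)) hab
        simp only [NatTrans.app_sum] at this
        exact this
      rw [h2]
      apply colimit.hom_ext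
      intro j
      simp
    · rw [Preadditive.sum_comp]
      have h1 : ∀ i, ((a i).app (colimit D) ≫ inv (colimit.post D (K i)) ≫
          colimMap (Functor.whiskerLeft D (b i))) ≫ colimit.post D H =
          (a i ≫ b i).app (colimit D) := by
        intro i
        rw [Category.assoc, Category.assoc, ← post_naturality, IsIso.inv_hom_id_assoc]
        rfl
      rw [Finset.sum_congr rfl (fun i _ => h1 i), ← NatTrans.app_sum, hab]
      rfl
  exact preservesColimit_of_isIso_post H D

end abstract


section kernel

variable {Λ : Type w} [Category.{w'} Λ] {𝒜 : Type u} [Category.{v} 𝒜] {ℬ : Type u'} [Category.{v'} ℬ]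
  [Abelian ℬ] [HasColimitsOfShape Λ 𝒜] [HasColimitsOfShape Λ ℬ] [HasExactColimitsOfShape Λ ℬ]
  (D : Λ ⥤ 𝒜)

/-- the kernel of a natural transformation between functors preserving a colimit of a shape
with exact colimits preserves the colimit -/
theorem preservesColimit_of_kernel {H H₀ H₁ : 𝒜 ⥤ ℬ} (α : H ⟶ H₀) (β : H₀ ⟶ H₁)
    (w : ∀ Q, α.app Q ≫ β.app Q = 0) (hmono : ∀ Q, Mono (α.app Q))
    (hex : ∀ Q, (ShortComplex.mk (α.app Q) (β.app Q) (w Q)).Exact)
    [PreservesColimit D H₀] [PreservesColimit D H₁] : PreservesColimit D H := by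
  -- the sequence in the functor category
  let a : D ⋙ H ⟶ D ⋙ H₀ := Functor.whiskerLeft D α
  let b : D ⋙ H₀ ⟶ D ⋙ H₁ := Functor.whiskerLeft D β
  have wab : a ≫ b = 0 := by
    ext j
    exact w (D.obj j)
  haveI : Mono a := by
    haveI : ∀ j, Mono (a.app j) := fun j => hmono (D.obj j)
    exact NatTrans.mono_of_mono_app a
  have hlim : IsLimit (KernelFork.ofι a wab) := by
    apply evaluationJointlyReflectsLimits
    intro j
    refine (isLimitMapConeForkEquiv' ((evaluation Λ ℬ).obj j) wab).symm ?_
    haveI := hmono (D.obj j)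
    exact (hex (D.obj j)).fIsKernel
  have hS : (ShortComplex.mk a b wab).Exact := ShortComplex.exact_of_f_is_kernel _ hlim
  haveI : PreservesFiniteColimits (colim : (Λ ⥤ ℬ) ⥤ ℬ) :=
    haveI := (colimConstAdj (J := Λ) (C := ℬ)).leftAdjoint_preservesColimits
    PreservesColimitsOfSize.preservesFiniteColimits.{0, 0} _
  haveI : (colim : (Λ ⥤ ℬ) ⥤ ℬ).Additive := Functor.additive_of_preserves_binary_products _
  have hS' : ((ShortComplex.mk a b wab).map (colim : (Λ ⥤ ℬ) ⥤ ℬ)).Exact := hS.map _
  have hm : Mono (colimMap a) := (colim : (Λ ⥤ ℬ) ⥤ ℬ).map_mono a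
  -- the comparison map is an isomorphism
  haveI : Mono (colimit.post D H) := by
    have e := post_naturality D α
    haveI : Mono (colimMap a ≫ colimit.post D H₀) := mono_comp _ _
    haveI : Mono (colimit.post D H ≫ α.app (colimit D)) := by
      rw [e]; infer_instance
    exact mono_of_mono (colimit.post D H) (α.app (colimit D))
  haveI : Epi (colimit.post D H) := by
    rw [epi_iff_surjective_up_to_refinements]
    intro T y
    have hz : (y ≫ α.app (colimit D) ≫ inv (colimit.post D H₀)) ≫ colimMap b = 0 := by
      have e := post_naturality D β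
      have e' : inv (colimit.post D H₀) ≫ colimMap b =
          β.app (colimit D) ≫ inv (colimit.post D H₁) := by
        rw [IsIso.inv_comp_eq, ← Category.assoc, e, Category.assoc, IsIso.hom_inv_id,
          Category.comp_id]
      rw [Category.assoc, Category.assoc, e', ← Category.assoc (α.app _), w, zero_comp,
        comp_zero]
    obtain ⟨T', π, hπ, x, hx⟩ := hS'.exact_up_to_refinements _ hz
    change π ≫ y ≫ α.app (colimit D) ≫ inv (colimit.post D H₀) = x ≫ colimMap a at hx
    refine ⟨T', π, hπ, x, ?_⟩
    haveI := hmono (colimit D)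
    rw [← cancel_mono (α.app (colimit D)), Category.assoc, Category.assoc, post_naturality]
    have hx' : (π ≫ y ≫ α.app (colimit D) ≫ inv (colimit.post D H₀)) ≫ colimit.post D H₀ =
        (x ≫ colimMap a) ≫ colimit.post D H₀ := congrArg (fun t => t ≫ colimit.post D H₀) hx
    simp only [Category.assoc, IsIso.inv_hom_id, Category.comp_id] at hx'
    exact hx'
  haveI : IsIso (colimit.post D H) := isIso_of_mono_of_epi _
  exact preservesColimit_of_isIso_post H D

end kernel


section mapPost

variable {Λ : Type w} [Category.{w'} Λ] {𝒜 : Type u} [Category.{v} 𝒜] {ℬ : Type u'} [Category.{v'} ℬ]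
  {𝒞 : Type*} [Category 𝒞]
  [HasColimitsOfShape Λ 𝒜] [HasColimitsOfShape Λ ℬ] [HasColimitsOfShape Λ 𝒞] (D : Λ ⥤ 𝒜)

lemma isIso_map_post (H : 𝒜 ⥤ ℬ) (G : ℬ ⥤ 𝒞) [PreservesColimit (D ⋙ H) G]
    [PreservesColimit D (H ⋙ G)] : IsIso (G.map (colimit.post D H)) := by
  have h := colimit.post_post D H G
  haveI : IsIso (colimit.post (D ⋙ H) G ≫ G.map (colimit.post D H)) := by
    rw [h]; infer_instance
  exact IsIso.of_isIso_comp_left (colimit.post (D ⋙ H) G) _

end mapPost

end Groth.Agent.Lib.Helper4.ColimLemmas
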