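import Mathlib
import Groth.Prelude.Def_ModSite2
import Groth.Agent.Lib.Helper4.EqCrit
import Groth.Agent.Lib.Helper4.QSLocal2
import Groth.Agent.Lib.Helper5.Misc.TensorLocal
import Groth.Agent.Lib.Helper5.Misc.TensorSheaf

/-!
# Converse of the equational criterion: locally trivial relations imply flatness (helper4) (helper4)
-/

set_option backward.isDefEq.respectTransparency.types false
set_option synthInstance.maxHeartbeats 400000
set_option autoImplicit false
set_option linter.unusedSectionVars false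
set_option linter.style.haveILetI false
set_option linter.unusedSimpArgs false
universe u v w
open CategoryTheory CategoryTheory.Limits Opposite

namespace Groth.Agent.Lib.Helper4.EqCritConv

open Groth.Agent.Lib.Helper4.PureTensor Groth.Agent.Lib.Helper4.EqCrit

variable {C : Type u} [SmallCategory C] {J : GrothendieckTopology C} {O : Sheaf J CommRingCat.{u}}

section alg

variable {A N : Type*} [CommRing A] [AddCommGroup N] [Module A N]

lemma alg1 {n l : ℕ} (a : Fin n → Fin l → A) (t : Fin l → N) (φ : Fin n → A) :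
    ∑ k, (∑ j, a j k * φ j) • t k = ∑ j, φ j • (∑ k, a j k • t k) := by
  simp only [Finset.sum_smul, Finset.smul_sum, smul_smul]
  rw [Finset.sum_comm]
  refine Finset.sum_congr rfl (fun j _ => Finset.sum_congr rfl (fun k _ => ?_))
  rw [mul_comm]

lemma alg2 {l l' : ℕ} (a : Fin l → A) (a' : Fin l → Fin l' → A) (t' : Fin l' → N) :
    ∑ k, a k • (∑ p, a' k p • t' p) = ∑ p, (∑ k, a k * a' k p) • t' p := by
  simp only [Finset.sum_smul, Finset.smul_sum, smul_smul]
  rw [Finset.sum_comm]

lemma alg3 {n l : ℕ} (a : Fin n → Fin l → A) (a' : Fin l → A) (φ : Fin n → A) :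
    ∑ j, (∑ k, a j k * a' k) * φ j = ∑ k, a' k * (∑ j, a j k * φ j) := by
  simp only [Finset.sum_mul, Finset.mul_sum]
  rw [Finset.sum_comm]
  refine Finset.sum_congr rfl (fun k _ => Finset.sum_congr rfl (fun j _ => ?_))
  ring

end alg

section triv

variable (F : ModSite.Mod O)

/-- the relations `∑ f i j • s j = 0` become trivial after restriction along `g` -/
def TrivOn {U V : C} (g : V ⟶ U) {m n : ℕ} (f : Fin m → Fin n → O.obj.obj (op U))
    (s : Fin n → ModSite.sect F U) : Prop :=
  ∃ (l : ℕ) (t : Fin l → ModSite.sect F V) (a : Fin n → Fin l → O.obj.obj (op V)),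
    (∀ j, (F.val.map g.op).hom (s j) = ∑ k, a j k • t k) ∧
    (∀ i k, ∑ j, a j k * (O.obj.map g.op).hom (f i j) = 0)

/-- restriction of sections, with the expected type -/
noncomputable abbrev res {V W : C} (h : W ⟶ V) (x : ModSite.sect F V) : ModSite.sect F W :=
  (F.val.map h.op).hom x

lemma map_sum_smul {V W : C} (h : W ⟶ V) {l : ℕ} (a : Fin l → O.obj.obj (op V))
    (t : Fin l → ModSite.sect F V) :
    (F.val.map h.op).hom (∑ k, a k • t k) =
      ∑ k, (O.obj.map h.op).hom (a k) • res F h (t k) := by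
  refine (map_sum (F.val.map h.op).hom _ _).trans ?_
  refine Finset.sum_congr rfl (fun k _ => ?_)
  exact F.val.map_smul h.op (a k) (t k)

lemma ring_map_comp {W V U : C} (h : W ⟶ V) (g : V ⟶ U) (x : O.obj.obj (op U)) :
    (O.obj.map (h ≫ g).op).hom x = (O.obj.map h.op).hom ((O.obj.map g.op).hom x) := by
  rw [op_comp, Functor.map_comp]
  rfl

lemma mod_map_comp {W V U : C} (h : W ⟶ V) (g : V ⟶ U) (x : ModSite.sect F U) :
    (F.val.map (h ≫ g).op).hom x = (F.val.map h.op).hom ((F.val.map g.op).hom x) := by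
  rw [op_comp, PresheafOfModules.map_comp_apply]

/-- triviality is stable under further restriction -/
lemma TrivOn.comp {U V W : C} {g : V ⟶ U} {m n : ℕ} {f : Fin m → Fin n → O.obj.obj (op U)}
    {s : Fin n → ModSite.sect F U} (H : TrivOn F g f s) (h : W ⟶ V) : TrivOn F (h ≫ g) f s := by
  obtain ⟨l, t, a, h1, h2⟩ := H
  refine ⟨l, fun k => res F h (t k), fun j k => (O.obj.map h.op).hom (a j k),
    fun j => ?_, fun i k => ?_⟩
  · rw [mod_map_comp, h1 j]
    exact map_sum_smul F h (a j) t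
  · have h3 := congrArg (fun x => (O.obj.map h.op).hom x) (h2 i k)
    simp only [map_sum, map_mul, map_zero] at h3
    refine Eq.trans (Finset.sum_congr rfl (fun j _ => ?_)) h3
    rw [ring_map_comp]

/-- the sieve of arrows along which the relations become trivial -/
def trivSieve {U : C} {m n : ℕ} (f : Fin m → Fin n → O.obj.obj (op U))
    (s : Fin n → ModSite.sect F U) : Sieve U where
  arrows V g := TrivOn F g f s
  downward_closed := fun H h => H.comp F h

variable (O) in
/-- the single-relation equational criterion -/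
def EC1 : Prop :=
  ∀ (U : C) (n : ℕ) (f : Fin n → O.obj.obj (op U)) (s : Fin n → ModSite.sect F U),
    ∑ j, f j • s j = 0 →
    ∃ S ∈ J U, ∀ ⦃V : C⦄ (g : V ⟶ U), S g →
      ∃ (l : ℕ) (t : Fin l → ModSite.sect F V) (a : Fin n → Fin l → O.obj.obj (op V)),
        (∀ j, (F.val.map g.op).hom (s j) = ∑ k, a j k • t k) ∧
        (∀ k, ∑ j, a j k * (O.obj.map g.op).hom (f j) = 0)

lemma smul_congr_left {V : C} {c c' : O.obj.obj (op V)} (h : c = c') (x : ModSite.sect F V) :
    c • x = c' • x := congrArg (fun y : O.obj.obj (op V) => y • x) h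

lemma res_id {U : C} (x : ModSite.sect F U) : (F.val.map (𝟙 U).op).hom x = x := by
  have h := F.val.presheaf.map_id (op U)
  have h2 := congrArg (fun k => k.hom x) h
  exact h2

lemma trivOn_id_zero {U : C} {n : ℕ} (f : Fin 0 → Fin n → O.obj.obj (op U))
    (s : Fin n → ModSite.sect F U) : TrivOn F (𝟙 U) f s := by
  classical
  refine ⟨n, s, fun j k => if j = k then 1 else 0, fun j => ?_, fun i => i.elim0⟩
  refine (res_id F (s j)).trans ?_
  symm
  refine (Finset.sum_eq_single j ?_ ?_).trans ?_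
  · intro k _ hk
    refine (smul_congr_left F (if_neg (Ne.symm hk)) (s k)).trans ?_
    exact zero_smul _ _
  · intro h
    exact absurd (Finset.mem_univ j) h
  · refine (smul_congr_left F (if_pos rfl) (s j)).trans ?_
    exact one_smul _ _

lemma ring_map_sum_mul {V W : C} (h : W ⟶ V) {n : ℕ} (a b : Fin n → O.obj.obj (op V)) :
    (O.obj.map h.op).hom (∑ j, a j * b j) =
      ∑ j, (O.obj.map h.op).hom (a j) * (O.obj.map h.op).hom (b j) := by
  rw [map_sum]
  exact Finset.sum_congr rfl (fun j _ => map_mul _ _ _)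

/-- the single-relation criterion implies the criterion for finitely many relations -/
theorem ec_multi (hF : EC1 O F) : ∀ (m : ℕ) (U : C) (n : ℕ)
    (f : Fin m → Fin n → O.obj.obj (op U)) (s : Fin n → ModSite.sect F U),
    (∀ i, ∑ j, f i j • s j = 0) → trivSieve F f s ∈ J U := by
  intro m
  induction m with
  | zero =>
    intro U n f s _
    apply J.covering_of_eq_top
    rw [← Sieve.id_mem_iff_eq_top]
    exact trivOn_id_zero F f s
  | succ m ih =>
    intro U n f s hrel
    obtain ⟨S, hS, h⟩ := hF U n (f 0) s (hrel 0)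
    refine J.transitive hS _ (fun V g hg => ?_)
    obtain ⟨l, t, a, h1, h2⟩ := h g hg
    let f' : Fin m → Fin l → O.obj.obj (op V) :=
      fun i k => ∑ j, a j k * (O.obj.map g.op).hom (f i.succ j)
    have hrel' : ∀ i, ∑ k, f' i k • t k = 0 := by
      intro i
      refine (alg1 a t (fun j => (O.obj.map g.op).hom (f i.succ j))).trans ?_
      have h3 : (F.val.map g.op).hom (∑ j, f i.succ j • s j) = 0 := by
        rw [hrel i.succ]
        exact map_zero _
      refine Eq.trans ?_ ((map_sum_smul F g (f i.succ) s).symm.trans h3)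
      refine Finset.sum_congr rfl (fun j _ => ?_)
      exact congrArg (fun x : ModSite.sect F V => (O.obj.map g.op).hom (f i.succ j) • x) (h1 j).symm
    have hV := ih V l f' t hrel'
    refine J.superset_covering ?_ hV
    intro V' g' hg'
    obtain ⟨l', t', a', h1', h2'⟩ := hg'
    refine ⟨l', t', fun j p => ∑ k, (O.obj.map g'.op).hom (a j k) * a' k p,
      fun j => ?_, fun i p => ?_⟩
    · rw [mod_map_comp, h1 j]
      refine (map_sum_smul F g' (a j) t).trans ?_
      refine Eq.trans (Finset.sum_congr rfl (fun k _ => ?_))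
        (alg2 (fun k => (O.obj.map g'.op).hom (a j k)) a' t')
      exact congrArg (fun x : ModSite.sect F V' => (O.obj.map g'.op).hom (a j k) • x) (h1' k)
    · have e1 : ∀ j, (O.obj.map (g' ≫ g).op).hom (f i j) =
          (O.obj.map g'.op).hom ((O.obj.map g.op).hom (f i j)) := fun j => ring_map_comp g' g (f i j)
      rw [Finset.sum_congr rfl (fun j _ => congrArg (fun x => (∑ k, (O.obj.map g'.op).hom (a j k) *
        a' k p) * x) (e1 j))]
      refine (alg3 (fun j k => (O.obj.map g'.op).hom (a j k)) (fun k => a' k p)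
        (fun j => (O.obj.map g'.op).hom ((O.obj.map g.op).hom (f i j)))).trans ?_
      have e2 : ∀ k, ∑ j, (O.obj.map g'.op).hom (a j k) *
          (O.obj.map g'.op).hom ((O.obj.map g.op).hom (f i j)) =
          (O.obj.map g'.op).hom (∑ j, a j k * (O.obj.map g.op).hom (f i j)) :=
        fun k => (ring_map_sum_mul g' (fun j => a j k)
          (fun j => (O.obj.map g.op).hom (f i j))).symm
      rw [Finset.sum_congr rfl (fun k _ => congrArg (fun x => a' k p * x) (e2 k))]
      refine Fin.cases ?_ (fun i' => ?_) i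
      · refine Finset.sum_eq_zero (fun k _ => ?_)
        rw [h2 k, map_zero, mul_zero]
      · exact h2' i' p

end triv

section vanish

open TensorProduct

variable {R M N : Type*} [CommRing R] [AddCommGroup M] [Module R M] [AddCommGroup N] [Module R N]

/-- general form of the equational criterion for vanishing in a tensor product -/
theorem vanish_general {n : ℕ} (h : Fin n → M) (φ : Fin n → N)
    (hz : ∑ i, h i ⊗ₜ[R] φ i = 0) :
    ∃ (N₁ N₂ : ℕ) (q : Fin N₁ → M) (y : Fin N₂ → N) (α : Fin n → Fin N₂ → R)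
      (β : Fin N₁ → Fin N₂ → R),
      (∀ i, φ i = ∑ j, α i j • y j) ∧ (∀ k, ∑ j, β k j • y j = 0) ∧
      (∀ j, ∑ i, α i j • h i + ∑ k, β k j • q k = 0) := by
  classical
  let P : Submodule R M := Submodule.span R (Set.range h)
  have hP : P.FG := Submodule.fg_span (Set.finite_range h)
  have hmem : ∀ i, h i ∈ P := fun i => Submodule.subset_span ⟨i, rfl⟩
  let t : P ⊗[R] N := ∑ i, (⟨h i, hmem i⟩ : P) ⊗ₜ[R] φ i
  have ht : LinearMap.rTensor N P.subtype t = 0 := by
    simp only [t, map_sum, LinearMap.rTensor_tmul, Submodule.subtype_apply]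
    exact hz
  obtain ⟨Q, hPQ, hQ, hQ0⟩ := TensorProduct.eq_zero_of_fg_of_subtype_eq_zero hP ht
  obtain ⟨N₁, q, hq⟩ := Submodule.fg_iff_exists_fin_generating_family.1 hQ
  have hqmem : ∀ k, q k ∈ Q := fun k => hq ▸ Submodule.subset_span ⟨k, rfl⟩
  let m' : Fin n ⊕ Fin N₁ → Q := Sum.elim (fun i => ⟨h i, hPQ (hmem i)⟩) (fun k => ⟨q k, hqmem k⟩)
  let n' : Fin n ⊕ Fin N₁ → N := Sum.elim φ (fun _ => 0)
  have hsum : ∑ i', m' i' ⊗ₜ[R] n' i' = 0 := by
    rw [Fintype.sum_sum_type]
    simp only [m', n', Sum.elim_inl, Sum.elim_inr, tmul_zero, Finset.sum_const_zero, add_zero]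
    simp only [t, map_sum, LinearMap.rTensor_tmul] at hQ0
    exact hQ0
  have hspan : Submodule.span R (Set.range m') = ⊤ := by
    apply Submodule.map_injective_of_injective Q.injective_subtype
    rw [Submodule.map_span, Submodule.map_subtype_top]
    apply le_antisymm
    · rw [Submodule.span_le]
      rintro _ ⟨_, ⟨i', rfl⟩, rfl⟩
      exact (m' i').2
    · have hle : Submodule.span R (Set.range q) ≤
          Submodule.span R (⇑Q.subtype '' Set.range m') := by
        rw [Submodule.span_le]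
        rintro _ ⟨k, rfl⟩
        exact Submodule.subset_span ⟨m' (Sum.inr k), ⟨Sum.inr k, rfl⟩, rfl⟩
      exact hq.symm.le.trans hle
  obtain ⟨N₂, a, y, h1, h2⟩ := vanishesTrivially_of_sum_tmul_eq_zero R hspan hsum
  refine ⟨N₁, N₂, q, y, fun i j => a (Sum.inl i) j, fun k j => a (Sum.inr k) j,
    fun i => h1 (Sum.inl i), fun k => (h1 (Sum.inr k)).symm, fun j => ?_⟩
  have h3 := congrArg Q.subtype (h2 j)
  rw [Fintype.sum_sum_type] at h3
  simpa [m', map_sum] using h3

end vanish


section ptT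

open TensorProduct MonoidalCategory
open Groth.Agent.Lib.Helper5.TensorSheaf Groth.Agent.Lib.Helper5.TensorLocal

variable (M N : ModSite.Mod O)

/-- the canonical map from the presheaf tensor product to the tensor product sheaf, on sections -/
noncomputable def ptT (V : C) (x : ModSite.sect M V ⊗[O.obj.obj (op V)] ModSite.sect N V) :
    ModSite.sect (tens M N) V :=
  (((unit' O).app (ptens M N)).app (op V)).hom x

lemma ptT_tmul (V : C) (m : ModSite.sect M V) (n : ModSite.sect N V) :
    ptT M N V (m ⊗ₜ n) = pt M N V m n := rfl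

lemma ptT_sum (V : C) {ι : Type*} (s : Finset ι)
    (x : ι → ModSite.sect M V ⊗[O.obj.obj (op V)] ModSite.sect N V) :
    ptT M N V (∑ i ∈ s, x i) = ∑ i ∈ s, ptT M N V (x i) :=
  map_sum (((unit' O).app (ptens M N)).app (op V)).hom x s

lemma ptT_zero (V : C) : ptT M N V 0 = 0 :=
  map_zero (((unit' O).app (ptens M N)).app (op V)).hom

/-- restriction of the presheaf tensor product -/
noncomputable def tRes {V W : C} (h : W ⟶ V)
    (x : ModSite.sect M V ⊗[O.obj.obj (op V)] ModSite.sect N V) :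
    ModSite.sect M W ⊗[O.obj.obj (op W)] ModSite.sect N W :=
  ((ptens M N).map h.op).hom x

lemma tRes_tmul {V W : C} (h : W ⟶ V) (m : ModSite.sect M V) (n : ModSite.sect N V) :
    tRes M N h (m ⊗ₜ n) = res M h m ⊗ₜ res N h n := rfl

lemma tRes_sum {V W : C} (h : W ⟶ V) {ι : Type*} (s : Finset ι)
    (x : ι → ModSite.sect M V ⊗[O.obj.obj (op V)] ModSite.sect N V) :
    tRes M N h (∑ i ∈ s, x i) = ∑ i ∈ s, tRes M N h (x i) :=
  map_sum ((ptens M N).map h.op).hom x s

/-- (B2) -/
lemma res_ptT {V W : C} (h : W ⟶ V)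
    (x : ModSite.sect M V ⊗[O.obj.obj (op V)] ModSite.sect N V) :
    ((tens M N).val.map h.op).hom (ptT M N V x) = ptT M N W (tRes M N h x) :=
  (PresheafOfModules.naturality_apply ((unit' O).app (ptens M N)) h.op x).symm

/-- the kernel of the map to the sheafification is locally zero -/
lemma ptT_eq_zero_locally (V : C)
    (x : ModSite.sect M V ⊗[O.obj.obj (op V)] ModSite.sect N V) (hx : ptT M N V x = 0) :
    ∃ S ∈ J V, ∀ ⦃W : C⦄ (h : W ⟶ V), S h → tRes M N h x = 0 := by
  have hW := W_unit' (O := O) (ptens M N)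
  rw [J.W_iff_isLocallyBijective] at hW
  have hi := (locInj_iff J ((unit' O).app (ptens M N))).2 hW.1
  exact hi V x hx

end ptT

section alg2

open TensorProduct

variable {A M' N : Type*} [CommRing A] [AddCommGroup M'] [Module A M'] [AddCommGroup N] [Module A N]

lemma alg4 {n l : ℕ} (g : Fin n → M') (c : Fin n → Fin l → A) (t : Fin l → N) :
    ∑ i, g i ⊗ₜ[A] (∑ p, c i p • t p) = ∑ p, (∑ i, c i p • g i) ⊗ₜ[A] t p := by
  simp only [tmul_sum, sum_tmul, tmul_smul, smul_tmul']
  rw [Finset.sum_comm]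

lemma alg5 {n N₁ N₂ l : ℕ} (α' : Fin n → Fin N₂ → A) (b : Fin N₂ → Fin l → A)
    (β' : Fin N₁ → Fin N₂ → A) (h' : Fin n → M') (q' : Fin N₁ → M')
    (e3 : ∀ j, ∑ i, α' i j • h' i + ∑ k, β' k j • q' k = 0)
    (hb2 : ∀ k p, ∑ j, b j p * β' k j = 0) (p : Fin l) :
    ∑ i, (∑ j, α' i j * b j p) • h' i = 0 := by
  have h1 : ∑ i, (∑ j, α' i j * b j p) • h' i = ∑ j, b j p • (∑ i, α' i j • h' i) := by
    simp only [Finset.sum_smul, Finset.smul_sum, smul_smul]
    rw [Finset.sum_comm]
    refine Finset.sum_congr rfl (fun j _ => Finset.sum_congr rfl (fun i _ => ?_))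
    rw [mul_comm]
  have h2 : ∀ j, ∑ i, α' i j • h' i = -∑ k, β' k j • q' k := fun j => eq_neg_of_add_eq_zero_left (e3 j)
  rw [h1, Finset.sum_congr rfl (fun j _ => congrArg (fun x => b j p • x) (h2 j))]
  simp only [smul_neg, Finset.sum_neg_distrib, neg_eq_zero, Finset.smul_sum, smul_smul]
  rw [Finset.sum_comm]
  simp only [← Finset.sum_smul]
  refine Finset.sum_eq_zero (fun k _ => ?_)
  rw [hb2 k p, zero_smul]

end alg2


section LW

open TensorProduct

variable (F : ModSite.Mod O)

lemma res_sum_smul_add {M' : ModSite.Mod O} {W W' : C} (w : W' ⟶ W) {n N₁ : ℕ}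
    (a : Fin n → O.obj.obj (op W)) (x : Fin n → ModSite.sect M' W)
    (b : Fin N₁ → O.obj.obj (op W)) (y : Fin N₁ → ModSite.sect M' W)
    (h : ∑ i, a i • x i + ∑ k, b k • y k = 0) :
    ∑ i, (O.obj.map w.op).hom (a i) • res M' w (x i) +
      ∑ k, (O.obj.map w.op).hom (b k) • res M' w (y k) = 0 := by
  have h1 := congrArg (fun z => (M'.val.map w.op).hom z) h
  simp only [map_add, map_zero] at h1
  rw [← map_sum_smul M' w a x, ← map_sum_smul M' w b y]
  exact h1

/-- (L-W) -/
lemma ptT_eq_zero_of_tensor_zero (hF : EC1 O F) {G G' : ModSite.Mod O} (ι : G ⟶ G') [Mono ι]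
    (W : C) {n : ℕ} (γ : Fin n → ModSite.sect G W) (f : Fin n → ModSite.sect F W)
    (hz : ∑ i, (ev ι W (γ i)) ⊗ₜ[O.obj.obj (op W)] f i = 0) :
    ptT G F W (∑ i, γ i ⊗ₜ[O.obj.obj (op W)] f i) = 0 := by
  obtain ⟨N₁, N₂, q, y, α, β, e1, e2, e3⟩ := vanish_general (R := O.obj.obj (op W))
    (M := ModSite.sect G' W) (N := ModSite.sect F W) (fun i => ev ι W (γ i)) f hz
  have hS := ec_multi F hF N₁ W N₂ β y e2
  refine Groth.Agent.Lib.Helper4.QSLocal.mod_ext (tens G F) hS (fun W' w hw => ?_)
  obtain ⟨l, t, b, hb1, hb2⟩ := hw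
  refine (res_ptT G F w _).trans ?_
  refine Eq.trans ?_ (map_zero _).symm
  have hf : ∀ i, res F w (f i) =
      ∑ p, (∑ j, (O.obj.map w.op).hom (α i j) * b j p) • t p := by
    intro i
    have h1 : res F w (f i) = (F.val.map w.op).hom (∑ j, α i j • y j) :=
      congrArg (fun z => (F.val.map w.op).hom z) (e1 i)
    refine h1.trans ((map_sum_smul F w (α i) y).trans ?_)
    refine Eq.trans (Finset.sum_congr rfl (fun j _ => ?_))
      (alg2 (fun j => (O.obj.map w.op).hom (α i j)) b t)
    exact congrArg (fun z : ModSite.sect F W' => (O.obj.map w.op).hom (α i j) • z) (hb1 j)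
  have hg : ∀ p, ∑ i, (∑ j, (O.obj.map w.op).hom (α i j) * b j p) • res G w (γ i) = 0 := by
    intro p
    apply Groth.Agent.Lib.Helper4.QSLocal2.eq_zero_of_mono ι
    have h1 : ev ι W' (∑ i, (∑ j, (O.obj.map w.op).hom (α i j) * b j p) • res G w (γ i)) =
        ∑ i, (∑ j, (O.obj.map w.op).hom (α i j) * b j p) • res G' w (ev ι W (γ i)) := by
      rw [ev_map_sum]
      refine Finset.sum_congr rfl (fun i _ => ?_)
      refine (ev_smul ι W' _ _).trans ?_
      exact congrArg (fun z : ModSite.sect G' W' =>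
        (∑ j, (O.obj.map w.op).hom (α i j) * b j p) • z) (ev_naturality ι w (γ i))
    refine h1.trans ?_
    refine alg5 (fun i j => (O.obj.map w.op).hom (α i j)) b
      (fun k j => (O.obj.map w.op).hom (β k j)) (fun i => res G' w (ev ι W (γ i)))
      (fun k => res G' w (q k)) (fun j => ?_) hb2 p
    exact res_sum_smul_add w (fun i => α i j) (fun i => ev ι W (γ i)) (fun k => β k j) q (e3 j)
  have h2 : tRes G F w (∑ i, γ i ⊗ₜ[O.obj.obj (op W)] f i) =
      ∑ i, res G w (γ i) ⊗ₜ[O.obj.obj (op W')] res F w (f i) := by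
    rw [tRes_sum]
    rfl
  rw [h2, Finset.sum_congr rfl (fun i _ => congrArg (fun z => res G w (γ i) ⊗ₜ[O.obj.obj (op W')] z)
    (hf i)), alg4, Finset.sum_congr rfl (fun p _ => congrArg (fun z => z ⊗ₜ[O.obj.obj (op W')] t p)
    (hg p))]
  simp only [zero_tmul, Finset.sum_const_zero]
  exact ptT_zero G F W'

end LW


section final

open TensorProduct

variable (F : ModSite.Mod O)

lemma pt_sum_eq_zero (hF : EC1 O F) {G G' : ModSite.Mod O} (ι : G ⟶ G') [Mono ι]
    (V : C) {n : ℕ} (γ : Fin n → ModSite.sect G V) (f : Fin n → ModSite.sect F V)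
    (hx : ∑ i, pt G' F V (ev ι V (γ i)) (f i) = 0) : ∑ i, pt G F V (γ i) (f i) = 0 := by
  have hx' : ptT G' F V (∑ i, ev ι V (γ i) ⊗ₜ[O.obj.obj (op V)] f i) = 0 := by
    rw [ptT_sum]
    exact hx
  obtain ⟨S₂, hS₂, h⟩ := ptT_eq_zero_locally G' F V _ hx'
  have goal' : ptT G F V (∑ i, γ i ⊗ₜ[O.obj.obj (op V)] f i) = 0 := by
    refine Groth.Agent.Lib.Helper4.QSLocal.mod_ext (tens G F) hS₂ (fun W h' hh => ?_)
    refine (res_ptT G F h' _).trans ?_
    refine Eq.trans ?_ (map_zero _).symm
    have h2 : tRes G F h' (∑ i, γ i ⊗ₜ[O.obj.obj (op V)] f i) =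
        ∑ i, res G h' (γ i) ⊗ₜ[O.obj.obj (op W)] res F h' (f i) := by
      rw [tRes_sum]
      rfl
    rw [h2]
    apply ptT_eq_zero_of_tensor_zero F hF ι W
    have h3 := h h' hh
    rw [tRes_sum] at h3
    refine Eq.trans (Finset.sum_congr rfl (fun i _ => ?_)) h3
    exact congrArg (fun z => z ⊗ₜ[O.obj.obj (op W)] res F h' (f i)) (ev_naturality ι h' (γ i))
  rw [ptT_sum] at goal'
  exact goal'

lemma mono_tR_map (hF : EC1 O F) {G G' : ModSite.Mod O} (ι : G ⟶ G') [Mono ι] :
    Mono ((tR F).map ι) := by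
  apply Groth.Agent.Lib.Helper4.QSLocal2.mono_of_injective_sections
  intro U x hx
  obtain ⟨S₁, hS₁, h⟩ := exists_pt_sum G F U x
  refine Groth.Agent.Lib.Helper4.QSLocal.mod_ext (tens G F) hS₁ (fun V g hg => ?_)
  obtain ⟨l, b, t, hbt⟩ := h g hg
  refine hbt.trans ?_
  refine Eq.trans ?_ (map_zero _).symm
  apply pt_sum_eq_zero F hF ι V b t
  have h1 : ev ((tR F).map ι) V (∑ k, pt G F V (b k) (t k)) =
      ∑ k, pt G' F V (ev ι V (b k)) (t k) := by
    rw [ev_map_sum]
    exact Finset.sum_congr rfl (fun k _ => tR_map_pt F ι V (b k) (t k))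
  refine h1.symm.trans ?_
  rw [← hbt]
  refine (ev_naturality ((tR F).map ι) g x).trans ?_
  have hx' : ev ((tR F).map ι) U x = 0 := hx
  rw [hx']
  exact map_zero _

/-- the equational criterion implies flatness -/
theorem isFlat_of_EC1 (hF : EC1 O F) : ModSite.IsFlat F := by
  rw [Groth.Agent.Lib.Helper5.TensorSheaf.isFlat_iff]
  rw [Functor.preservesFiniteLimits_iff_forall_exact_map_and_mono]
  intro S hS
  haveI := hS.mono_f
  exact ⟨(Groth.Agent.Lib.Helper5.TensorSES.map_exact_epi F S hS).1, mono_tR_map F hF S.f⟩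

end final


section iff

variable (O) in
theorem main (F : ModSite.Mod O) :
    ModSite.IsFlat F ↔
      ∀ (U : C) (n : ℕ) (f : Fin n → O.obj.obj (op U)) (s : Fin n → ModSite.sect F U),
        ∑ j, f j • s j = 0 →
        ∃ S ∈ J U, ∀ ⦃V : C⦄ (g : V ⟶ U), S g →
          ∃ (l : ℕ) (t : Fin l → ModSite.sect F V) (a : Fin n → Fin l → O.obj.obj (op V)),
            (∀ j, (F.val.map g.op).hom (s j) = ∑ k, a j k • t k) ∧
            (∀ k, ∑ j, a j k * (O.obj.map g.op).hom (f j) = 0) := by
  constructor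
  · intro hF U n f s hrel
    obtain ⟨S, hS, h⟩ := eqCrit_local F U (m := 1) (fun _ j => f j) s hF (fun _ => hrel)
    refine ⟨S, hS, fun V g hg => ?_⟩
    obtain ⟨l, t, a, h1, h2⟩ := h g hg
    exact ⟨l, t, a, h1, fun k => h2 0 k⟩
  · intro h
    exact isFlat_of_EC1 F h

end iff

end Groth.Agent.Lib.Helper4.EqCritConv
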