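import Mathlib
import Groth.Prelude.Def_ModSite2
import Groth.Prelude.Def_ExtSupp
import Groth.Prelude.Def_ToposFin2
import Groth.Agent.Lib.Helper4.HZRing
import Groth.Agent.Lib.Helper4.ExtSuppSS1
import Groth.Agent.Lib.Helper4.QSLocal2
import Groth.Agent.Lib.Helper4.PureTensor
import Groth.Agent.Lib.Helper5.Misc.TotAcyc
import Groth.Agent.Lib.Helper6.RDU.Acyc

/-!
# Vanishing of local cohomology sheaves of totally acyclic modules on a ringed site (helper4)
-/

set_option backward.isDefEq.respectTransparency.types false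
set_option synthInstance.maxHeartbeats 400000
set_option autoImplicit false
set_option linter.unusedSectionVars false
set_option linter.style.haveILetI false
set_option linter.unusedSimpArgs false
universe u v w
open CategoryTheory CategoryTheory.Limits Opposite

namespace Groth.Agent.Lib.Helper4.HZshVan

open Groth.Agent.Helper3 Groth.Agent.Lib.Helper4.QSAdj Groth.Agent.Lib.Helper4.QSTensor
  Groth.Agent.Lib.Helper4.HZVan Groth.Agent.Lib.Helper4.QSLocal Groth.Agent.Lib.Helper4.HZRing
open Groth.Agent.Lib.Helper5.Misc.InjTotAcyc Groth.Agent.Lib.Helper5.Misc.ExtFreeHK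
  Groth.Agent.Lib.Helper5.Misc.UnitFree Groth.Agent.Lib.Helper5.Misc.SheafHomTA

variable {C : Type u} [SmallCategory C] {J : GrothendieckTopology C}
  {O : Sheaf J CommRingCat.{u}}

section general

variable {K₁ K₂ : Sheaf J (Type u)} (a : K₁ ⟶ K₂)

variable (O) in
/-- `O[K₂]/O[K₁]` -/
noncomputable abbrev Pa : ModSite.Mod O := cokernel (fsMap (O := O) a)

/-- `ℤ[K₂]/ℤ[K₁]` -/
noncomputable abbrev Qa : Sheaf J AddCommGrpCat.{u} := cokernel ((Zf (J := J)).map a)

/-- degree zero comparison -/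
noncomputable def ψa (M : ModSite.Mod O) : (Pa O a ⟶ M) ≃+ (Qa a ⟶ ModSite.toAb M) :=
  cokerHomEquiv (fsMap (O := O) a) ((Zf (J := J)).map a) M (ModSite.toAb M)
    (φ K₁ M) (φ K₂ M) (fun g => φ_naturality_left a M g)

lemma ψa_naturality {M N : ModSite.Mod O} (g : M ⟶ N) (p : Pa O a ⟶ M) :
    ψa a N (p ≫ g) = ψa a M p ≫ (SheafOfModules.toSheaf (ModSite.ringSh O)).map g := by
  apply coequalizer.hom_ext
  have h1 := π_cokerHomEquiv (fsMap (O := O) a) ((Zf (J := J)).map a) N (ModSite.toAb N)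
    (φ K₁ N) (φ K₂ N) (fun g => φ_naturality_left a N g) (p ≫ g)
  have h2 := π_cokerHomEquiv (fsMap (O := O) a) ((Zf (J := J)).map a) M (ModSite.toAb M)
    (φ K₁ M) (φ K₂ M) (fun g => φ_naturality_left a M g) p
  refine h1.trans ?_
  rw [← Category.assoc, φ_naturality]
  erw [← Category.assoc, h2]

end general


section lifting

variable {K₁ K₂ : Sheaf J (Type u)} (a : K₁ ⟶ K₂)

instance : PreservesFiniteColimits (SheafOfModules.toSheaf.{u} (ModSite.ringSh O)) :=
  PreservesColimitsOfSize.preservesFiniteColimits _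

/-- maps `O[K₂]/O[K₁] ⟶ S.X₃` lift through `S.g` when the kernel is totally acyclic -/
lemma exists_lift_Pa (S : ShortComplex (ModSite.Mod O)) (hS : S.ShortExact)
    (h₁ : CohCx.IsTotallyAcyclic (ModSite.toAb S.X₁)) (s : Pa O a ⟶ S.X₃) :
    ∃ τ : Pa O a ⟶ S.X₂, τ ≫ S.g = s := by
  have hS' : (S.map (SheafOfModules.toSheaf.{u} (ModSite.ringSh O))).ShortExact :=
    hS.map_of_exact _
  have hsub : Subsingleton (Abelian.Ext (Qa a)
      (S.map (SheafOfModules.toSheaf.{u} (ModSite.ringSh O))).X₁ 1) :=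
    ⟨fun x y => (ext_cokernel_eq_zero a _ h₁ 0 x).trans (ext_cokernel_eq_zero a _ h₁ 0 y).symm⟩
  obtain ⟨τ', hτ'⟩ := Groth.Agent.Lib.Helper5.Misc.TotAcyc.exists_lift _ hS' (Qa a) hsub
    (ψa a S.X₃ s)
  refine ⟨(ψa a S.X₂).symm τ', ?_⟩
  apply (ψa a S.X₃).injective
  rw [ψa_naturality, AddEquiv.apply_symm_apply]
  exact hτ'

end lifting


section isT

variable (U : C)

/-- the underlying sheaf of sets of a module -/
noncomputable abbrev forgetSh (N : ModSite.Mod O) : Sheaf J (Type u) :=
  (sheafCompose J (forget AddCommGrpCat.{u})).obj (ModSite.toAb N)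

/-- maps out of `O[K]` are maps of sheaves of sets out of `K` -/
noncomputable def fsHomEquiv (K : Sheaf J (Type u)) (N : ModSite.Mod O) :
    (freeSh (R := ModSite.ringSh O) K ⟶ N) ≃ (K ⟶ forgetSh N) :=
  (φ K N).toEquiv.trans (adjZ.homEquiv _ _)

/-- every section of `εU` is locally given by a morphism to `U` -/
lemma exists_cover_eps {W : C} (e : (ToposFin.eps J U).obj.obj (op W)) :
    ∃ S ∈ J W, ∀ ⦃W' : C⦄ (h : W' ⟶ W), S h → Nonempty (W' ⟶ U) := by
  refine ⟨Presheaf.imageSieve (toSheafify J (yoneda.obj U)) e,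
    Presheaf.imageSieve_mem J (toSheafify J (yoneda.obj U)) e, fun W' h hh => ?_⟩
  obtain ⟨t, -⟩ := hh
  exact ⟨t⟩

/-- `O[K]` has no maps to modules null on `U` when `K` maps to `εU` -/
lemma isT_freeSh_of_map {K : Sheaf J (Type u)} (b : K ⟶ ToposFin.eps J U) :
    IsT O U (freeSh (R := ModSite.ringSh O) K) := by
  intro N hN f
  apply (fsHomEquiv K N).injective
  apply Sheaf.hom_ext
  apply NatTrans.ext
  funext W
  ext k
  obtain ⟨S, hS, hcov⟩ := exists_cover_eps U (b.hom.app W k)
  have key : ∀ x y : ModSite.sect N (unop W), x = y := by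
    intro x y
    refine mod_ext N hS ?_
    intro W' h hh
    obtain ⟨g⟩ := hcov h hh
    exact ((ExtSupp.isNullOn_iff O U N).1 hN g _).trans
      ((ExtSupp.isNullOn_iff O U N).1 hN g _).symm
  exact key _ _

end isT


section isNull

open Groth.Agent.Lib.Helper5.TensorSheaf Groth.Agent.Lib.Helper5.TensorLocal
  Groth.Agent.Lib.Helper4.PureTensor

variable (U : C)

/-- local version of `isNullOn_cokernel_of_surjective` -/
lemma isNullOn_cokernel_of_locally_surjective {X A : ModSite.Mod O} (c : X ⟶ A)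
    (h : ∀ ⦃W : C⦄ (_ : W ⟶ U) (a : ModSite.sect A W), ∃ S ∈ J W, ∀ ⦃W' : C⦄ (f : W' ⟶ W), S f →
      ∃ y : ModSite.sect X W', (c.val.app (op W')).hom y = A.val.map f.op a) :
    ModSite.IsNullOn O U (cokernel c) := by
  rw [ExtSupp.isNullOn_iff]
  intro V g x
  obtain ⟨S, hS, hlift⟩ := exists_local_lift (cokernel.π c) x
  refine mod_ext (cokernel c) hS ?_
  intro W f hf
  obtain ⟨a, ha⟩ := hlift f hf
  obtain ⟨S', hS', h'⟩ := h (f ≫ g) a
  refine mod_ext (cokernel c) hS' ?_
  intro W' f' hf'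
  obtain ⟨y, hy⟩ := h' f' hf'
  have e1 : (cokernel c).val.map f'.op ((cokernel c).val.map f.op x) =
      ((cokernel.π c).val.app (op W')).hom (A.val.map f'.op a) := by
    rw [← ha]
    exact (ev_naturality (cokernel.π c) f' a).symm
  refine e1.trans ?_
  rw [← hy, ← comp_val_app_apply, cokernel.condition, zero_val_app_apply, map_zero]
  exact (map_zero _).symm

end isNull


section fsSurj

open Groth.Agent.Lib.Helper5.TensorSheaf Groth.Agent.Lib.Helper5.TensorLocal
  Groth.Agent.Lib.Helper4.PureTensor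

variable (U : C) {K₁ K₂ : Sheaf J (Type u)} (a : K₁ ⟶ K₂)

/-- the presheaf-level free module on `K` -/
noncomputable abbrev pfree (K : Sheaf J (Type u)) : PM O :=
  (PresheafOfModules.free (ModSite.ringSh O).obj).obj K.obj

lemma pfree_map_surjective {W : C}
    (hs : Function.Surjective (a.hom.app (op W))) (m : (pfree (O := O) K₂).obj (op W)) :
    ∃ m₁ : (pfree (O := O) K₁).obj (op W),
      (((PresheafOfModules.free (ModSite.ringSh O).obj).map a.hom).app (op W)).hom m₁ = m := by
  obtain ⟨m₁, hm₁⟩ := Finsupp.mapDomain_surjective (M := (ModSite.ringSh O).obj.obj (op W)) hs m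
  exact ⟨m₁, hm₁⟩

lemma fsMap_locally_surjective
    (hsurj : ∀ ⦃W : C⦄ (_ : W ⟶ U), Function.Surjective (a.hom.app (op W)))
    ⦃W : C⦄ (g : W ⟶ U) (s : ModSite.sect (freeSh (R := ModSite.ringSh O) K₂) W) :
    ∃ S ∈ J W, ∀ ⦃W' : C⦄ (f : W' ⟶ W), S f →
      ∃ y : ModSite.sect (freeSh (R := ModSite.ringSh O) K₁) W',
        ((fsMap (O := O) a).val.app (op W')).hom y =
          (freeSh (R := ModSite.ringSh O) K₂).val.map f.op s := by
  have hW := W_unit' (O := O) (pfree K₂)
  rw [J.W_iff_isLocallyBijective] at hW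
  have hs := (locSurj_iff J ((unit' O).app (pfree K₂))).2 hW.2
  obtain ⟨S, hS, h⟩ := hs W s
  refine ⟨S, hS, fun W' f hf => ?_⟩
  obtain ⟨m, hm⟩ := h f hf
  obtain ⟨m₁, hm₁⟩ := pfree_map_surjective (O := O) a (hsurj (f ≫ g)) m
  refine ⟨(((unit' O).app (pfree K₁)).app (op W')).hom m₁, ?_⟩
  refine (unit'_naturality_apply ((PresheafOfModules.free (ModSite.ringSh O).obj).map a.hom) W' m₁).trans ?_
  refine Eq.trans (congrArg (fun z => (((unit' O).app (pfree K₂)).app (op W')).hom z) hm₁) ?_
  exact hm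

/-- `O[K₂]/O[K₁]` is null on `U` when `K₁ → K₂` is surjective on sections over objects over `U` -/
lemma isNullOn_Pa (hsurj : ∀ ⦃W : C⦄ (_ : W ⟶ U), Function.Surjective (a.hom.app (op W))) :
    ModSite.IsNullOn O U (Pa O a) :=
  isNullOn_cokernel_of_locally_surjective U (fsMap (O := O) a)
    (fun _ g s => fsMap_locally_surjective U a hsurj g s)

end fsSurj


section prodSurj

variable (U V : C)

/-- sections of a sheaf of sets over `W` are maps out of `εW` -/
noncomputable def epsEquiv (K : Sheaf J (Type u)) (W : C) :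
    (ToposFin.eps J W ⟶ K) ≃ K.obj.obj (op W) :=
  ((sheafificationAdjunction J (Type u)).homEquiv (yoneda.obj W) K).trans yonedaEquiv

lemma epsEquiv_naturality {K K' : Sheaf J (Type u)} (a : K ⟶ K') (W : C)
    (t : ToposFin.eps J W ⟶ K) :
    epsEquiv K' W (t ≫ a) = a.hom.app (op W) (epsEquiv K W t) := by
  unfold epsEquiv
  simp only [Equiv.trans_apply]
  rw [Adjunction.homEquiv_naturality_right]
  exact yonedaEquiv_comp _ _

/-- the projection `εU × εV → εV` -/
noncomputable abbrev aUV : (ToposFin.eps J U ⨯ ToposFin.eps J V) ⟶ ToposFin.eps J V := prod.snd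

lemma aUV_surjective ⦃W : C⦄ (g : W ⟶ U) :
    Function.Surjective ((aUV (J := J) U V).hom.app (op W)) := by
  intro v
  let t : ToposFin.eps J W ⟶ ToposFin.eps J V := (epsEquiv (ToposFin.eps J V) W).symm v
  let gm : ToposFin.eps J W ⟶ ToposFin.eps J U := (presheafToSheaf J (Type u)).map (yoneda.map g)
  refine ⟨epsEquiv _ W (prod.lift gm t), ?_⟩
  rw [← epsEquiv_naturality]
  have : prod.lift gm t ≫ aUV (J := J) U V = t := prod.lift_snd _ _
  rw [this]
  exact Equiv.apply_symm_apply _ _

end prodSurj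


section epi

lemma epi_of_surjective_sections {M N : ModSite.Mod O} (φ : M ⟶ N)
    (h : ∀ (V : C) (s : ModSite.sect N V), ∃ t : ModSite.sect M V, (φ.val.app (op V)).hom t = s) :
    Epi φ := by
  haveI : (SheafOfModules.toSheaf.{u} (ModSite.ringSh O)).Faithful := inferInstance
  apply (SheafOfModules.toSheaf.{u} (ModSite.ringSh O)).epi_of_epi_map
  rw [← Sheaf.isLocallySurjective_iff_epi' AddCommGrpCat.{u}]
  constructor
  intro V s
  refine J.superset_covering ?_ (J.top_mem _)
  intro W g _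
  obtain ⟨t, ht⟩ := h W ((N.val.map g.op).hom s)
  exact ⟨t, ht⟩

end epi

section secEquiv

variable (V : C)

/-- sections over `V` are maps out of `O[εV]` -/
noncomputable def secA (N : ModSite.Mod O) :
    (freeSh (R := ModSite.ringSh O) (ToposFin.eps J V) ⟶ N) ≃ ModSite.sect N V :=
  (fsHomEquiv (ToposFin.eps J V) N).trans (epsEquiv (forgetSh N) V)

lemma fsHomEquiv_naturality (K : Sheaf J (Type u)) {N N' : ModSite.Mod O} (g : N ⟶ N')
    (p : freeSh (R := ModSite.ringSh O) K ⟶ N) :
    fsHomEquiv K N' (p ≫ g) = fsHomEquiv K N p ≫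
      (sheafCompose J (forget AddCommGrpCat.{u})).map
        ((SheafOfModules.toSheaf (ModSite.ringSh O)).map g) := by
  unfold fsHomEquiv
  simp only [Equiv.trans_apply, AddEquiv.toEquiv_eq_coe, AddEquiv.coe_toEquiv]
  rw [φ_naturality, Adjunction.homEquiv_naturality_right]

lemma secA_naturality {N N' : ModSite.Mod O} (g : N ⟶ N')
    (p : freeSh (R := ModSite.ringSh O) (ToposFin.eps J V) ⟶ N) :
    secA V N' (p ≫ g) = (g.val.app (op V)).hom (secA V N p) := by
  change epsEquiv (forgetSh N') V (fsHomEquiv (ToposFin.eps J V) N' (p ≫ g)) = _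
  refine (congrArg (epsEquiv (forgetSh N') V) (fsHomEquiv_naturality _ g p)).trans ?_
  exact epsEquiv_naturality (K := forgetSh N) (K' := forgetSh N') _ V _

end secEquiv


section main

variable (U : C) [ModSite.HasPushOver O U]

/-- `O[εV]/O[εV]_U ≅ O[εV]/O[εU × εV]` -/
noncomputable def quotOnFreeIso (V : C) :
    (ModSite.quotOn O U).obj (freeSh (R := ModSite.ringSh O) (ToposFin.eps J V)) ≅
      Pa O (aUV (J := J) U V) :=
  quotOnIso (fsMap (O := O) (aUV (J := J) U V)) (cokernel.π _) (cokernel.condition _)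
    (cokernelIsCokernel _) (isT_freeSh_of_map U (prod.fst : _ ⟶ ToposFin.eps J U))
    (isNullOn_Pa U (aUV (J := J) U V) (aUV_surjective U V))

/-- sections of `Γ_Z` lift along an epimorphism with totally acyclic kernel -/
lemma sectOn_sections_surjective (S : ShortComplex (ModSite.Mod O)) (hS : S.ShortExact)
    (h₁ : CohCx.IsTotallyAcyclic (ModSite.toAb S.X₁)) (V : C)
    (s : ModSite.sect ((ModSite.sectOn O U).obj S.X₃) V) :
    ∃ t : ModSite.sect ((ModSite.sectOn O U).obj S.X₂) V,
      (((ModSite.sectOn O U).map S.g).val.app (op V)).hom t = s := by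
  let A := freeSh (R := ModSite.ringSh O) (ToposFin.eps J V)
  let σ : A ⟶ (ModSite.sectOn O U).obj S.X₃ := (secA V _).symm s
  let σ₁ : (ModSite.quotOn O U).obj A ⟶ S.X₃ := ((qsAdj (O := O) (U := U)).homEquiv A S.X₃).symm σ
  obtain ⟨τ₂, hτ₂⟩ := exists_lift_Pa (aUV (J := J) U V) S hS h₁ ((quotOnFreeIso U V).inv ≫ σ₁)
  let τ₁ : (ModSite.quotOn O U).obj A ⟶ S.X₂ := (quotOnFreeIso U V).hom ≫ τ₂
  have hτ₁ : τ₁ ≫ S.g = σ₁ := by
    change ((quotOnFreeIso U V).hom ≫ τ₂) ≫ S.g = σ₁
    rw [Category.assoc, hτ₂, Iso.hom_inv_id_assoc]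
  let τ : A ⟶ (ModSite.sectOn O U).obj S.X₂ := (qsAdj (O := O) (U := U)).homEquiv A S.X₂ τ₁
  have hτ : τ ≫ (ModSite.sectOn O U).map S.g = σ := by
    change (qsAdj (O := O) (U := U)).homEquiv A S.X₂ τ₁ ≫ _ = σ
    rw [← Adjunction.homEquiv_naturality_right, hτ₁]
    exact Equiv.apply_symm_apply _ _
  refine ⟨secA V _ τ, ?_⟩
  rw [← secA_naturality, hτ]
  exact Equiv.apply_symm_apply _ _

lemma epi_sectOn_map (S : ShortComplex (ModSite.Mod O)) (hS : S.ShortExact)
    (h₁ : CohCx.IsTotallyAcyclic (ModSite.toAb S.X₁)) :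
    Epi ((ModSite.sectOn O U).map S.g) :=
  epi_of_surjective_sections _ (fun V s => sectOn_sections_surjective U S hS h₁ V s)

end main


section shifting

open Groth.Agent.Helper6.RDU

variable (U : C) [ModSite.HasPushOver O U] [HasInjectiveResolutions (ModSite.Mod O)]

instance : PreservesFiniteLimits (ModSite.sectOn O U) := by
  haveI : PreservesLimitsOfSize.{0, 0} (ModSite.sectOn O U) :=
    (qsAdj (O := O) (U := U)).rightAdjoint_preservesLimits
  exact PreservesLimitsOfSize.preservesFiniteLimits _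

/-- the standard embedding into an injective, as a short exact sequence -/
noncomputable def injSES [EnoughInjectives (ModSite.Mod O)] (M : ModSite.Mod O) :
    ShortComplex (ModSite.Mod O) :=
  ShortComplex.mk (Injective.ι M) (cokernel.π (Injective.ι M)) (cokernel.condition _)

lemma injSES_shortExact [EnoughInjectives (ModSite.Mod O)] (M : ModSite.Mod O) :
    (injSES M).ShortExact :=
  ShortComplex.ShortExact.mk' (ShortComplex.exact_cokernel _)
    (inferInstanceAs (Mono (Injective.ι M))) (inferInstanceAs (Epi (cokernel.π (Injective.ι M))))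

lemma isTotallyAcyclic_injSES_X₃ [EnoughInjectives (ModSite.Mod O)] (M : ModSite.Mod O)
    (hM : CohCx.IsTotallyAcyclic (ModSite.toAb M)) :
    CohCx.IsTotallyAcyclic (ModSite.toAb (injSES M).X₃) := by
  have hS' : ((injSES M).map (SheafOfModules.toSheaf.{u} (ModSite.ringSh O))).ShortExact :=
    (injSES_shortExact M).map_of_exact _
  exact Groth.Agent.Lib.Helper5.Misc.TotAcyc.isTotallyAcyclic_X₃ _ hS' hM
    (isTotallyAcyclic_of_injective (Injective.under M))

/-- **first half of S12891**: `ℋ^{q+1}_Z(M) = 0` for `M` totally acyclic -/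
theorem isZero_HZsh_of_isTotallyAcyclic (q : ℕ) : ∀ (M : ModSite.Mod O),
    CohCx.IsTotallyAcyclic (ModSite.toAb M) → IsZero ((ModSite.HZsh O U (q + 1)).obj M) := by
  haveI := enoughInjectives_of_hasInjectiveResolutions (A := ModSite.Mod O)
  induction q with
  | zero =>
    intro M hM
    have hS := injSES_shortExact M
    have ex := (les (ModSite.sectOn O U)).exact₁ (injSES M) hS 0 1 rfl
    refine ex.isZero_of_both_zeros ?_ ?_
    · haveI : Epi ((ModSite.sectOn O U).map (injSES M).g) := epi_sectOn_map U (injSES M) hS hM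
      haveI : Epi (((ModSite.sectOn O U).rightDerived 0).map (injSES M).g) := by
        have hnat := (ModSite.sectOn O U).rightDerivedZeroIsoSelf.hom.naturality (injSES M).g
        have e : ((ModSite.sectOn O U).rightDerived 0).map (injSES M).g =
            (ModSite.sectOn O U).rightDerivedZeroIsoSelf.hom.app _ ≫
              (ModSite.sectOn O U).map (injSES M).g ≫
              (ModSite.sectOn O U).rightDerivedZeroIsoSelf.inv.app _ := by
          rw [← Category.assoc, ← hnat, Category.assoc, Iso.hom_inv_id_app, Category.comp_id]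
        rw [e]
        haveI : Epi ((ModSite.sectOn O U).map (injSES M).g ≫
            (ModSite.sectOn O U).rightDerivedZeroIsoSelf.inv.app (injSES M).X₃) := epi_comp _ _
        exact epi_comp _ _
      have h0 := (les (ModSite.sectOn O U)).comp_δ (injSES M) hS 0 1 rfl
      exact (cancel_epi _).1 (h0.trans comp_zero.symm)
    · exact ((ModSite.sectOn O U).isZero_rightDerived_obj_injective_succ 0
        (Injective.under M)).eq_of_tgt _ _
  | succ q ih =>
    intro M hM
    have hS := injSES_shortExact M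
    have ex := (les (ModSite.sectOn O U)).exact₁ (injSES M) hS (q + 1) (q + 2) rfl
    refine ex.isZero_of_both_zeros ?_ ?_
    · exact (ih _ (isTotallyAcyclic_injSES_X₃ M hM)).eq_of_src _ _
    · exact ((ModSite.sectOn O U).isZero_rightDerived_obj_injective_succ (q + 1)
        (Injective.under M)).eq_of_tgt _ _

end shifting


section s12891

variable (O) in
theorem main (U : C) (M : ModSite.Mod O)
    (hM : CohCx.IsTotallyAcyclic (ModSite.toAb M))
    [ModSite.HasPushOver O U] [HasInjectiveResolutions (ModSite.Mod O)] (q : ℕ) (hq : 1 ≤ q) :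
    IsZero ((ModSite.HZsh O U q).obj M) ∧ Subsingleton (ModSite.HZ U M q) := by
  obtain ⟨m, rfl⟩ : ∃ m, q = m + 1 := ⟨q - 1, by omega⟩
  exact ⟨isZero_HZsh_of_isTotallyAcyclic U m M hM,
    Groth.Agent.Lib.Helper4.ExtSuppSS1.subsingleton_HZ_of_isTotallyAcyclic U M hM (m + 1) hq⟩

end s12891

end Groth.Agent.Lib.Helper4.HZshVan
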