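import Mathlib
import Groth.Prelude.Def_ModSite2
import Groth.Prelude.Def_ExtSupp
import Groth.Prelude.Def_ToposFin2
import Groth.Agent.Lib.Helper4.HZshVan
import Groth.Agent.Lib.Helper1.DeltaComp
import Groth.Agent.Lib.Lead.QB1

/-!
# Local cohomology sheaves commute with restriction of scalars (helper4)
-/

set_option backward.isDefEq.respectTransparency.types false
set_option synthInstance.maxHeartbeats 400000
set_option autoImplicit false
set_option linter.unusedSectionVars false
set_option linter.style.haveILetI false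
set_option linter.unusedSimpArgs false
universe u v w v' v'' u' u''
open CategoryTheory CategoryTheory.Limits Opposite

namespace Groth.Agent.Lib.Helper4.HZshRS

open Groth.Agent.Helper3 Groth.Agent.Lib.Helper4.QSAdj Groth.Agent.Lib.Helper4.QSTensor
  Groth.Agent.Lib.Helper4.HZVan Groth.Agent.Lib.Helper4.QSLocal Groth.Agent.Lib.Helper4.HZRing
  Groth.Agent.Lib.Helper4.HZshVan
open Groth.Agent.Lib.Helper5.Misc.InjTotAcyc Groth.Agent.Lib.Helper5.Misc.ExtFreeHK
  Groth.Agent.Lib.Helper5.Misc.UnitFree Groth.Agent.Lib.Helper5.Misc.SheafHomTA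

section Compare

open Groth.Agent.Helper1.DeltaComp

variable {A : Type u} [Category.{v} A] [Abelian A]
  {A' : Type u'} [Category.{v'} A'] [Abelian A']
  {B' : Type u''} [Category.{v''} B'] [Abelian B']

/-- functor-level version of `DeltaComp.nonempty_iso` -/
theorem nonempty_natIso {B : Type u} [Category.{v} B] [Abelian B]
    [HasInjectiveResolutions A] [HasInjectiveResolutions B]
    (F : A ⥤ A') [F.Additive] [PreservesFiniteLimits F]
    (Φ : B ⥤ B') [Φ.Additive] [PreservesFiniteLimits Φ]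
    (G : A ⥤ B) [G.Additive] [PreservesFiniteLimits G] [PreservesFiniteColimits G]
    (E : A' ⥤ B') [E.Additive] [PreservesFiniteLimits E] [PreservesFiniteColimits E]
    (e : F ⋙ E ≅ G ⋙ Φ)
    (hacyc : ∀ (I : A), Injective I → ∀ n : ℕ, IsZero ((Φ.rightDerived (n + 1)).obj (G.obj I)))
    (n : ℕ) :
    Nonempty (F.rightDerived n ⋙ E ≅ G ⋙ Φ.rightDerived n) := by
  have : EnoughInjectives A := enoughInjectives_of_hasInjectiveResolutions
  have : EnoughInjectives B := enoughInjectives_of_hasInjectiveResolutions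
  obtain ⟨ΔF⟩ := Groth.Agent.S16463.result F
  obtain ⟨ΔΦ⟩ := Groth.Agent.S16463.result Φ
  let T₁ := post ΔF E
  let T₂ := pre G ΔΦ
  have h₁ : T₁.IsEffaceable := by
    intro n X
    refine ⟨Injective.under X, Injective.ι X, inferInstance, ?_⟩
    have hz : IsZero ((F.rightDerived (n + 1)).obj (Injective.under X)) :=
      Functor.isZero_rightDerived_obj_injective_succ F n _
    have hz' : IsZero (E.obj ((F.rightDerived (n + 1)).obj (Injective.under X))) :=
      Functor.map_isZero E hz
    exact hz'.eq_of_tgt _ _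
  have h₂ : T₂.IsEffaceable := by
    intro n X
    refine ⟨Injective.under X, Injective.ι X, inferInstance, ?_⟩
    exact (hacyc (Injective.under X) inferInstance n).eq_of_tgt _ _
  have hU₁ := Groth.Agent.S6773.result T₁ h₁
  have hU₂ := Groth.Agent.S6773.result T₂ h₂
  let e0 : T₁.F 0 ≅ T₂.F 0 :=
    Functor.isoWhiskerRight F.rightDerivedZeroIsoSelf E ≪≫ e ≪≫
      Functor.isoWhiskerLeft G Φ.rightDerivedZeroIsoSelf.symm
  obtain ⟨φ, -, -⟩ := Groth.Agent.S6774.result T₁ T₂ hU₁ hU₂ e0
  exact ⟨appIso φ n⟩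

end Compare


variable {C : Type u} [SmallCategory C] {J : GrothendieckTopology C}

section epsCalc

lemma epsEquiv_apply (K : Sheaf J (Type u)) (V : C) (t : ToposFin.eps J V ⟶ K) :
    epsEquiv K V t = t.hom.app (op V) ((toSheafify J (yoneda.obj V)).app (op V) (𝟙 V)) := by
  unfold epsEquiv
  simp only [Equiv.trans_apply]
  rw [Adjunction.homEquiv_unit, yonedaEquiv_apply]
  rfl

lemma toSheafify_eq_map (V : C) {W : C} (f : W ⟶ V) :
    (toSheafify J (yoneda.obj V)).app (op W) f =
      (ToposFin.eps J V).obj.map f.op ((toSheafify J (yoneda.obj V)).app (op V) (𝟙 V)) := by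
  have h := congrArg (fun τ => τ (𝟙 V)) ((toSheafify J (yoneda.obj V)).naturality f.op)
  have h2 : (yoneda.obj V).map f.op (𝟙 V) = f := by
    change f ≫ 𝟙 V = f
    exact Category.comp_id f
  simp only [types_comp_apply] at h
  rw [h2] at h
  exact h

lemma epsEquiv_symm_app_toSheafify (K : Sheaf J (Type u)) (V : C) (y : K.obj.obj (op V))
    {W : C} (f : W ⟶ V) :
    ((epsEquiv K V).symm y).hom.app (op W) ((toSheafify J (yoneda.obj V)).app (op W) f) =
      K.obj.map f.op y := by
  have h1 : epsEquiv K V ((epsEquiv K V).symm y) = y := Equiv.apply_symm_apply _ _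
  rw [epsEquiv_apply] at h1
  rw [toSheafify_eq_map]
  have h2 := congrArg (fun τ => τ ((toSheafify J (yoneda.obj V)).app (op V) (𝟙 V)))
    (((epsEquiv K V).symm y).hom.naturality f.op)
  simp only [types_comp_apply] at h2
  rw [h2, h1]

end epsCalc


variable {O : Sheaf J CommRingCat.{u}}

section fsCalc

lemma fsHomEquiv_naturality_left {K₁ K₂ : Sheaf J (Type u)} (a : K₁ ⟶ K₂) (N : ModSite.Mod O)
    (p : freeSh (R := ModSite.ringSh O) K₂ ⟶ N) :
    fsHomEquiv K₁ N (fsMap (O := O) a ≫ p) = a ≫ fsHomEquiv K₂ N p := by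
  unfold fsHomEquiv
  simp only [Equiv.trans_apply, AddEquiv.toEquiv_eq_coe, AddEquiv.coe_toEquiv]
  rw [φ_naturality_left, Adjunction.homEquiv_naturality_left]

lemma fsHomEquiv_zero_app (K : Sheaf J (Type u)) (N : ModSite.Mod O) (W : C)
    (k : K.obj.obj (op W)) :
    (fsHomEquiv K N (0 : freeSh (R := ModSite.ringSh O) K ⟶ N)).hom.app (op W) k =
      (0 : ModSite.sect N W) := by
  unfold fsHomEquiv
  simp only [Equiv.trans_apply, AddEquiv.toEquiv_eq_coe, AddEquiv.coe_toEquiv, map_zero]
  rw [Adjunction.homEquiv_unit]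
  rfl

/-- a map out of `O[K]` vanishes iff it vanishes on the generators -/
lemma fs_eq_zero {K : Sheaf J (Type u)} {N : ModSite.Mod O}
    (h : freeSh (R := ModSite.ringSh O) K ⟶ N)
    (hk : ∀ (W : C) (k : K.obj.obj (op W)),
      (fsHomEquiv K N h).hom.app (op W) k = (0 : ModSite.sect N W)) : h = 0 := by
  apply (fsHomEquiv K N).injective
  apply Sheaf.hom_ext
  apply NatTrans.ext
  funext W
  ext k
  exact (hk (unop W) k).trans (fsHomEquiv_zero_app K N (unop W) k).symm

end fsCalc


section supp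

open Groth.Agent.Lib.Helper4.PureTensor

variable (U : C)

/-- sections supported off `U`: all restrictions to objects over `U` vanish -/
def SuppZ (N : ModSite.Mod O) (V : C) (y : ModSite.sect N V) : Prop :=
  ∀ ⦃W : C⦄ (f : W ⟶ V) (_ : W ⟶ U), N.val.map f.op y = 0

variable [ModSite.HasPushOver O U]

/-- the inclusion `Γ_Z(N)(V) → N(V)` -/
noncomputable abbrev ιs (N : ModSite.Mod O) (V : C) (x : ModSite.sect ((ModSite.sectOn O U).obj N) V) :
    ModSite.sect N V :=
  (((ModSite.sectOnι O U).app N).val.app (op V)).hom x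

lemma suppZ_ιs (N : ModSite.Mod O) (V : C) (x : ModSite.sect ((ModSite.sectOn O U).obj N) V) :
    SuppZ U N V (ιs U N V x) := by
  intro W f g
  have h0 : ((ModSite.sectOn O U).obj N).val.map f.op x = 0 :=
    (ExtSupp.isNullOn_iff O U _).1 (isNullOn_sectOn N) g _
  refine (ev_naturality ((ModSite.sectOnι O U).app N) f x).symm.trans ?_
  rw [h0]
  exact map_zero _

lemma exists_cover_eps' {V W : C} (e : (ToposFin.eps J V).obj.obj (op W)) :
    ∃ S ∈ J W, ∀ ⦃W' : C⦄ (h : W' ⟶ W), S h →
      ∃ f : W' ⟶ V, (toSheafify J (yoneda.obj V)).app (op W') f =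
        (ToposFin.eps J V).obj.map h.op e := by
  refine ⟨Presheaf.imageSieve (toSheafify J (yoneda.obj V)) e,
    Presheaf.imageSieve_mem J (toSheafify J (yoneda.obj V)) e, fun W' h hh => ?_⟩
  obtain ⟨t, ht⟩ := hh
  exact ⟨t, ht⟩

lemma fsMap_comp_eq_zero_of_suppZ (N : ModSite.Mod O) (V : C) (y : ModSite.sect N V)
    (hy : SuppZ U N V y) :
    fsMap (O := O) (aUV (J := J) U V) ≫ (secA V N).symm y = 0 := by
  apply fs_eq_zero
  intro W k
  rw [fsHomEquiv_naturality_left]
  have ht : fsHomEquiv (ToposFin.eps J V) N ((secA V N).symm y) =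
      (epsEquiv (forgetSh N) V).symm y := by
    apply (epsEquiv (forgetSh N) V).injective
    rw [Equiv.apply_symm_apply]
    exact Equiv.apply_symm_apply (secA V N) y
  rw [ht]
  set v := (aUV (J := J) U V).hom.app (op W) k with hv
  obtain ⟨S₁, hS₁, h₁⟩ := exists_cover_eps U ((prod.fst : ToposFin.eps J U ⨯ ToposFin.eps J V ⟶ _).hom.app (op W) k)
  obtain ⟨S₂, hS₂, h₂⟩ := exists_cover_eps' (V := V) v
  change ((epsEquiv (forgetSh N) V).symm y).hom.app (op W) v = (0 : ModSite.sect N W)
  refine mod_ext N (J.intersection_covering hS₁ hS₂) ?_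
  intro W' h hh
  obtain ⟨g⟩ := h₁ h hh.1
  obtain ⟨f, hf⟩ := h₂ h hh.2
  have h3 := congrArg (fun τ => τ v) (((epsEquiv (forgetSh N) V).symm y).hom.naturality h.op)
  simp only [types_comp_apply] at h3
  have h4 : N.val.map h.op (((epsEquiv (forgetSh N) V).symm y).hom.app (op W) v) =
      N.val.map f.op y := by
    refine h3.symm.trans ?_
    rw [← hf]
    exact epsEquiv_symm_app_toSheafify (forgetSh N) V y f
  refine h4.trans ?_
  rw [hy f g]
  exact (map_zero _).symm

end supp


section claimB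

open Groth.Agent.Lib.Helper4.PureTensor

variable (U : C) [ModSite.HasPushOver O U]

lemma exists_sectOn_of_suppZ (N : ModSite.Mod O) (V : C) (y : ModSite.sect N V)
    (hy : SuppZ U N V y) :
    ∃ x : ModSite.sect ((ModSite.sectOn O U).obj N) V, ιs U N V x = y := by
  let A := freeSh (R := ModSite.ringSh O) (ToposFin.eps J V)
  let yh : A ⟶ N := (secA V N).symm y
  have h0 : fsMap (O := O) (aUV (J := J) U V) ≫ yh = 0 := fsMap_comp_eq_zero_of_suppZ U N V y hy
  let σ₂ : Pa O (aUV (J := J) U V) ⟶ N := cokernel.desc _ yh h0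
  let σ₁ : (ModSite.quotOn O U).obj A ⟶ N := (quotOnFreeIso U V).hom ≫ σ₂
  let σ : A ⟶ (ModSite.sectOn O U).obj N := qsHomEquiv A N σ₁
  have hσ : σ ≫ (ModSite.sectOnι O U).app N = yh := by
    change qsHomEquiv A N σ₁ ≫ _ = yh
    rw [qsHomEquiv_ι]
    change (ModSite.quotOnπ O U).app A ≫ (quotOnFreeIso U V).hom ≫ σ₂ = yh
    rw [← Category.assoc]
    have h1 : (ModSite.quotOnπ O U).app A ≫ (quotOnFreeIso U V).hom = cokernel.π _ :=
      π_quotOnIso_hom _ _ _ _ _ _
    rw [h1]
    exact cokernel.π_desc _ _ _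
  refine ⟨secA V _ σ, ?_⟩
  change (((ModSite.sectOnι O U).app N).val.app (op V)).hom (secA V _ σ) = y
  rw [← secA_naturality, hσ]
  exact Equiv.apply_symm_apply _ _

end claimB


section compare

open Groth.Agent.Lib.Helper4.PureTensor Groth.Agent.Lib.Helper4.QSLocal2

variable {O' : Sheaf J CommRingCat.{u}} (φ : O ⟶ O') (U : C)
  [ModSite.HasPushOver O U] [ModSite.HasPushOver O' U]

/-- restriction of scalars along `φ` -/
noncomputable abbrev ρ : ModSite.Mod O' ⥤ ModSite.Mod O :=
  SheafOfModules.restrictScalars ((sheafCompose J (forget₂ CommRingCat.{u} RingCat.{u})).map φ)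

lemma isNullOn_ρ {X : ModSite.Mod O'} (hX : ModSite.IsNullOn O' U X) :
    ModSite.IsNullOn O U ((ρ φ).obj X) :=
  (ExtSupp.isNullOn_iff O U _).2 (fun _ g x => (ExtSupp.isNullOn_iff O' U X).1 hX g x)

/-- the comparison `ρ(Γ_Z M) ⟶ Γ_Z(ρ M)` -/
noncomputable def α (M : ModSite.Mod O') :
    (ρ φ).obj ((ModSite.sectOn O' U).obj M) ⟶ (ModSite.sectOn O U).obj ((ρ φ).obj M) :=
  kernel.lift _ ((ρ φ).map ((ModSite.sectOnι O' U).app M)) (by
    apply (restr_map_eq_zero_iff _).1
    exact restr_map_eq_zero_of_src (isNullOn_ρ φ U (isNullOn_sectOn M)) _)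

lemma α_ι (M : ModSite.Mod O') :
    α φ U M ≫ (ModSite.sectOnι O U).app ((ρ φ).obj M) =
      (ρ φ).map ((ModSite.sectOnι O' U).app M) :=
  kernel.lift_ι _ _ _

instance (M : ModSite.Mod O') : Mono (α φ U M) := by
  haveI : Mono ((ρ φ).map ((ModSite.sectOnι O' U).app M)) := inferInstance
  haveI : Mono (α φ U M ≫ (ModSite.sectOnι O U).app ((ρ φ).obj M)) := by
    rw [α_ι]; infer_instance
  exact mono_of_mono (α φ U M) ((ModSite.sectOnι O U).app ((ρ φ).obj M))

instance (M : ModSite.Mod O') : Epi (α φ U M) := by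
  apply epi_of_surjective_sections
  intro V x
  have hy : SuppZ U ((ρ φ).obj M) V (ιs U ((ρ φ).obj M) V x) := suppZ_ιs U _ V x
  have hy' : SuppZ U M V (ιs U ((ρ φ).obj M) V x) := fun W f g => hy f g
  obtain ⟨x', hx'⟩ := exists_sectOn_of_suppZ U M V _ hy'
  refine ⟨x', ?_⟩
  have h1 : ιs U ((ρ φ).obj M) V (((α φ U M).val.app (op V)).hom x') =
      ιs U ((ρ φ).obj M) V x := by
    have h2 := congrArg (fun k => (k.val.app (op V)).hom x') (α_ι φ U M)
    exact h2.trans hx'
  have h3 := eq_zero_of_mono ((ModSite.sectOnι O U).app ((ρ φ).obj M))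
    (((α φ U M).val.app (op V)).hom x' - x) (by
      rw [map_sub]
      exact sub_eq_zero.2 h1)
  exact sub_eq_zero.1 h3

instance (M : ModSite.Mod O') : IsIso (α φ U M) := isIso_of_mono_of_epi _

/-- `Γ_Z` commutes with restriction of scalars -/
noncomputable def sectOnRestrictScalarsIso :
    ModSite.sectOn O' U ⋙ ρ φ ≅ ρ φ ⋙ ModSite.sectOn O U :=
  NatIso.ofComponents (fun M => asIso (α φ U M)) (by
    intro M₁ M₂ f
    rw [← cancel_mono ((ModSite.sectOnι O U).app ((ρ φ).obj M₂))]
    dsimp only [Functor.comp_obj, Functor.comp_map, asIso_hom]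
    rw [Category.assoc, Category.assoc, α_ι]
    have h1 := (ModSite.sectOnι O U).naturality ((ρ φ).map f)
    dsimp only [Functor.id_obj, Functor.id_map] at h1
    rw [h1, ← Category.assoc, α_ι, ← Functor.map_comp, ← Functor.map_comp]
    have h2 := (ModSite.sectOnι O' U).naturality f
    dsimp only [Functor.id_obj, Functor.id_map] at h2
    rw [h2])

end compare


section s12892

variable {O' : Sheaf J CommRingCat.{u}}

instance (φ : O ⟶ O') : PreservesFiniteColimits (ρ φ) :=
  ⟨fun K _ _ => inferInstance⟩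

theorem main (φ : O ⟶ O') (U : C)
    [ModSite.HasPushOver O U] [ModSite.HasPushOver O' U]
    [HasInjectiveResolutions (ModSite.Mod O)] [HasInjectiveResolutions (ModSite.Mod O')] (q : ℕ) :
    Nonempty (ModSite.HZsh O' U q ⋙
        SheafOfModules.restrictScalars ((sheafCompose J (forget₂ CommRingCat.{u} RingCat.{u})).map φ) ≅
      SheafOfModules.restrictScalars ((sheafCompose J (forget₂ CommRingCat.{u} RingCat.{u})).map φ) ⋙
        ModSite.HZsh O U q) := by
  refine nonempty_natIso (ModSite.sectOn O' U) (ModSite.sectOn O U) (ρ φ) (ρ φ)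
    (sectOnRestrictScalarsIso φ U) ?_ q
  intro I hI n
  exact isZero_HZsh_of_isTotallyAcyclic U n ((ρ φ).obj I) (isTotallyAcyclic_of_injective I)

end s12892

end Groth.Agent.Lib.Helper4.HZshRS
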