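import Mathlib
import Groth.Prelude.Def_ModSite2
import Groth.Prelude.Def_ExtSupp
import Groth.Prelude.Def_ToposFin2
import Groth.Agent.Lib.Helper4.HZshRS
import Groth.Agent.Lib.Helper5.Misc.RDCompNat
import Groth.Agent.Lib.Helper5.Misc.RestrExact

/-!
# Local cohomology sheaves commute with localisation (helper4)
-/

set_option backward.isDefEq.respectTransparency.types false
set_option synthInstance.maxHeartbeats 400000
set_option autoImplicit false
set_option linter.unusedSectionVars false
set_option linter.style.haveILetI false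
set_option linter.unusedSimpArgs false
universe u v w
open CategoryTheory CategoryTheory.Limits Opposite

namespace Groth.Agent.Lib.Helper4.HZshLoc

open Groth.Agent.Lib.Helper4.QSAdj Groth.Agent.Lib.Helper4.QSLocal Groth.Agent.Lib.Helper4.QSLocal2
  Groth.Agent.Lib.Helper4.HZshVan Groth.Agent.Lib.Helper4.HZshRS
  Groth.Agent.Lib.Helper4.PureTensor Groth.Agent.Lib.Helper5

variable {C : Type u} [SmallCategory C] {J : GrothendieckTopology C}
  (O : Sheaf J CommRingCat.{u}) [HasBinaryProducts C] (U X : C)

/-- the object `U × X → X` of the localised site -/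
noncomputable abbrev UX : Over X := Over.mk (Limits.prod.snd : U ⨯ X ⟶ X)

instance restr_additive' : (ModSite.restr O X).Additive where

instance : (ModSite.restr O X).PreservesInjectiveObjects :=
  haveI := RestrExact.preservesFiniteLimits_extZero O X
  Functor.preservesInjectiveObjects_of_adjunction_of_preservesMonomorphisms
    (ModSite.extZeroAdj O X)

instance : (ModSite.restr O X).PreservesHomology :=
  haveI := RestrExact.preservesFiniteLimits_restr O X
  haveI := RestrExact.preservesFiniteColimits_restr O X
  inferInstance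

variable [ModSite.HasPushOver (O.over X) (UX U X)]

lemma isNullOn_restr {N : ModSite.Mod O} (hN : ModSite.IsNullOn O U N) :
    ModSite.IsNullOn (O.over X) (UX U X) ((ModSite.restr O X).obj N) :=
  (ExtSupp.isNullOn_iff (O.over X) (UX U X) _).2 (fun W g x =>
    (ExtSupp.isNullOn_iff O U N).1 hN (g.left ≫ Limits.prod.fst) x)

/-- the comparison `(Γ_Z M)|_X ⟶ Γ_{Z/X}(M|_X)` -/
noncomputable def β (M : ModSite.Mod O) :
    (ModSite.restr O X).obj ((ModSite.sectOn O U).obj M) ⟶
      (ModSite.sectOn (O.over X) (UX U X)).obj ((ModSite.restr O X).obj M) :=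
  kernel.lift _ ((ModSite.restr O X).map ((ModSite.sectOnι O U).app M)) (by
    apply (restr_map_eq_zero_iff _).1
    exact restr_map_eq_zero_of_src (isNullOn_restr O U X (isNullOn_sectOn M)) _)

lemma β_ι (M : ModSite.Mod O) :
    β O U X M ≫ (ModSite.sectOnι (O.over X) (UX U X)).app ((ModSite.restr O X).obj M) =
      (ModSite.restr O X).map ((ModSite.sectOnι O U).app M) :=
  kernel.lift_ι _ _ _


section iso

instance (M : ModSite.Mod O) : Mono (β O U X M) := by
  haveI := RestrExact.preservesFiniteLimits_restr O X
  haveI : Mono ((ModSite.restr O X).map ((ModSite.sectOnι O U).app M)) := inferInstance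
  haveI : Mono (β O U X M ≫
      (ModSite.sectOnι (O.over X) (UX U X)).app ((ModSite.restr O X).obj M)) := by
    rw [β_ι]; infer_instance
  exact mono_of_mono (β O U X M)
    ((ModSite.sectOnι (O.over X) (UX U X)).app ((ModSite.restr O X).obj M))

lemma suppZ_of_restr (M : ModSite.Mod O) (V : Over X) (y : ModSite.sect M V.left)
    (hy : SuppZ (UX U X) ((ModSite.restr O X).obj M) V y) : SuppZ U M V.left y := by
  intro W f g'
  let W' : Over X := Over.mk (f ≫ V.hom)
  let f' : W' ⟶ V := Over.homMk f rfl
  let g : W' ⟶ UX U X := Over.homMk (prod.lift g' (f ≫ V.hom)) (prod.lift_snd _ _)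
  exact hy f' g

instance (M : ModSite.Mod O) : Epi (β O U X M) := by
  apply epi_of_surjective_sections
  intro V x
  have hy := suppZ_ιs (UX U X) ((ModSite.restr O X).obj M) V x
  have hy' : SuppZ U M V.left (ιs (UX U X) ((ModSite.restr O X).obj M) V x) :=
    suppZ_of_restr O U X M V _ hy
  obtain ⟨x', hx'⟩ := exists_sectOn_of_suppZ U M V.left _ hy'
  refine ⟨x', ?_⟩
  have h1 : ιs (UX U X) ((ModSite.restr O X).obj M) V (((β O U X M).val.app (op V)).hom x') =
      ιs (UX U X) ((ModSite.restr O X).obj M) V x := by
    have h2 := congrArg (fun k => (k.val.app (op V)).hom x') (β_ι O U X M)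
    exact h2.trans hx'
  have h3 := eq_zero_of_mono
    ((ModSite.sectOnι (O.over X) (UX U X)).app ((ModSite.restr O X).obj M))
    (((β O U X M).val.app (op V)).hom x' - x) (by
      rw [map_sub]
      exact sub_eq_zero.2 h1)
  exact sub_eq_zero.1 h3

instance (M : ModSite.Mod O) : IsIso (β O U X M) := isIso_of_mono_of_epi _

/-- `Γ_Z` commutes with localisation -/
noncomputable def sectOnRestrIso :
    ModSite.sectOn O U ⋙ ModSite.restr O X ≅
      ModSite.restr O X ⋙ ModSite.sectOn (O.over X) (UX U X) :=
  NatIso.ofComponents (fun M => asIso (β O U X M)) (by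
    intro M₁ M₂ f
    rw [← cancel_mono ((ModSite.sectOnι (O.over X) (UX U X)).app ((ModSite.restr O X).obj M₂))]
    dsimp only [Functor.comp_obj, Functor.comp_map, asIso_hom]
    rw [Category.assoc, Category.assoc, β_ι]
    have h1 := (ModSite.sectOnι (O.over X) (UX U X)).naturality ((ModSite.restr O X).map f)
    dsimp only [Functor.id_obj, Functor.id_map] at h1
    rw [h1, ← Category.assoc, β_ι, ← Functor.map_comp, ← Functor.map_comp]
    have h2 := (ModSite.sectOnι O U).naturality f
    dsimp only [Functor.id_obj, Functor.id_map] at h2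
    rw [h2])

theorem main [HasInjectiveResolutions (ModSite.Mod O)]
    [HasInjectiveResolutions (ModSite.Mod (O.over X))] (q : ℕ) :
    Nonempty (ModSite.HZsh O U q ⋙ ModSite.restr O X ≅
      ModSite.restr O X ⋙ ModSite.HZsh (O.over X) (UX U X) q) :=
  ⟨(Groth.Agent.Lib.Helper5.Misc.RDCompNat.postNatIso (ModSite.sectOn O U) (ModSite.restr O X) q).symm ≪≫
    Groth.Agent.Lib.Helper5.Misc.RDComp.natIso (sectOnRestrIso O U X) q ≪≫
    Groth.Agent.Lib.Helper5.Misc.RDCompNat.preNatIso (ModSite.restr O X)
      (ModSite.sectOn (O.over X) (UX U X)) q⟩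

end iso

end Groth.Agent.Lib.Helper4.HZshLoc
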