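import Mathlib
import Groth.Prelude.Def_ModSite2
import Groth.Prelude.Def_AlgSpPerf
import Groth.Agent.Lib.Helper4.OverMapPres
import Groth.Agent.Lib.Helper4.QSLocal
import Groth.Agent.Lib.Helper4.HZshLoc

/-!
# Local lifting of maps from a summand of a finite free module along an epimorphism; restriction preserves finite free modules (helper4) (helper4)
-/

set_option backward.isDefEq.respectTransparency.types false
set_option synthInstance.maxHeartbeats 400000
set_option autoImplicit false
set_option linter.unusedSectionVars false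
set_option linter.style.haveILetI false
set_option linter.unusedSimpArgs false
universe u v w
open CategoryTheory CategoryTheory.Limits Opposite

namespace Groth.Agent.Lib.Helper4.LocalLiftFree

open Groth.Agent.Lib.Helper4.PureTensor Groth.Agent.Lib.Helper4.EqCrit
  Groth.Agent.Lib.Helper4.OverMapPres Groth.Agent.Lib.Helper4.QSLocal

variable {C : Type u} [SmallCategory C] {J : GrothendieckTopology C} (O : Sheaf J CommRingCat.{u})

/-- naturality of `secHom` -/
lemma secHom_comp (W : C) {M N : ModSite.Mod O} (p : M ⟶ N) (t : ModSite.sect M W) :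
    secHom W M t ≫ (ModSite.restr O W).map p = secHom W N (ev p W t) := by
  rw [eq_secHom N (secHom W M t ≫ (ModSite.restr O W).map p)]
  congr 1
  rw [ev_comp, ev_secHom]
  change ev p W (M.val.map (𝟙 W).op t) = _
  rw [ev_naturality]
  change N.val.map (𝟙 W).op _ = _
  rw [op_id, PresheafOfModules.map_id]
  rfl


/-- restriction preserves finite free modules -/
noncomputable def restrFreeIso (W : C) (I : Type u) [Finite I] :
    SheafOfModules.free (R := ModSite.ringSh (O.over W)) I ≅
      (ModSite.restr O W).obj (SheafOfModules.free I) :=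
  SheafOfModules.mapFreeIso (ModSite.restr O W) I (Iso.refl _)

lemma ιFree_restrFreeIso_hom (W : C) (I : Type u) [Finite I] (j : I) :
    SheafOfModules.ιFree j ≫ (restrFreeIso O W I).hom =
      (ModSite.restr O W).map (SheafOfModules.ιFree j) := by
  unfold restrFreeIso
  rw [SheafOfModules.ιFree_mapFreeIso_hom]
  exact Category.id_comp _

/-- a morphism `O_W ⟶ F|_W` that is the restriction of a global morphism `O ⟶ F` -/
lemma restr_map_unit (W : C) {F : ModSite.Mod O} (a : ModSite.unit O ⟶ F) :
    (ModSite.restr O W).map a = secHom W F (ev a W (one W)) := by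
  rw [eq_secHom F ((ModSite.restr O W).map a)]
  rfl

lemma exists_common_sieve {ι : Type*} [Finite ι] {V : C} (S : ι → Sieve V)
    (hS : ∀ j, S j ∈ J V) :
    ∃ R ∈ J V, ∀ ⦃W : C⦄ (g : W ⟶ V), R g → ∀ j, S j g := by
  classical
  haveI := Fintype.ofFinite ι
  have h : ∀ s : Finset ι, ∃ R ∈ J V, ∀ ⦃W : C⦄ (g : W ⟶ V), R g → ∀ j ∈ s, S j g := by
    intro s
    induction s using Finset.induction_on with
    | empty => exact ⟨⊤, J.top_mem V, fun W g _ j hj => absurd hj (Finset.notMem_empty j)⟩
    | insert a s _ ih =>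
      obtain ⟨R, hR, hRs⟩ := ih
      refine ⟨R ⊓ S a, J.intersection_covering hR (hS a), fun W g hg j hj => ?_⟩
      rcases Finset.mem_insert.1 hj with rfl | hj'
      · exact hg.2
      · exact hRs g hg.1 j hj'
  obtain ⟨R, hR, hRs⟩ := h Finset.univ
  exact ⟨R, hR, fun W g hg j => hRs g hg j (Finset.mem_univ j)⟩

theorem main (E F G : ModSite.Mod O) (hE : DCoh.IsFinFreeSummandMod (ModSite.ringSh O) E)
    (p : G ⟶ F) [Epi p] (φ : E ⟶ F) (V : C) :
    ∃ R ∈ J V, ∀ ⦃W : C⦄ (g : W ⟶ V), R g →
      ∃ l : (ModSite.restr O W).obj E ⟶ (ModSite.restr O W).obj G,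
        l ≫ (ModSite.restr O W).map p = (ModSite.restr O W).map φ := by
  classical
  obtain ⟨n, i, r, hir⟩ := hE
  -- the sections of `F` over `V` to be lifted
  let a : ULift.{u} (Fin n) → (ModSite.unit O ⟶ F) := fun j => SheafOfModules.ιFree j ≫ r ≫ φ
  have hlift : ∀ j : ULift.{u} (Fin n), ∃ S ∈ J V, ∀ ⦃W : C⦄ (g : W ⟶ V), S g →
      ∃ t : ModSite.sect G W, ev p W t = F.val.map g.op (ev (a j) V (one V)) :=
    fun j => exists_local_lift p (ev (a j) V (one V))
  choose S hS hSl using hlift
  obtain ⟨R, hR, hRS⟩ := exists_common_sieve S hS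
  refine ⟨R, hR, ?_⟩
  intro W g hg
  choose t ht using fun j => hSl j g (hRS g hg j)
  let b : SheafOfModules.free (R := ModSite.ringSh (O.over W)) (ULift.{u} (Fin n)) ⟶
      (ModSite.restr O W).obj G := Sigma.desc (fun j => secHom W G (t j))
  refine ⟨(ModSite.restr O W).map i ≫ (restrFreeIso O W (ULift.{u} (Fin n))).inv ≫ b, ?_⟩
  have key : b ≫ (ModSite.restr O W).map p =
      (restrFreeIso O W (ULift.{u} (Fin n))).hom ≫ (ModSite.restr O W).map (r ≫ φ) := by
    apply Sigma.hom_ext
    intro j
    change SheafOfModules.ιFree j ≫ _ = SheafOfModules.ιFree j ≫ _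
    have h1 : SheafOfModules.ιFree j ≫ b = secHom W G (t j) := Sigma.ι_desc _ j
    rw [← Category.assoc, h1, secHom_comp, ← Category.assoc, ιFree_restrFreeIso_hom]
    refine Eq.trans ?_ ((ModSite.restr O W).map_comp (SheafOfModules.ιFree j) (r ≫ φ))
    rw [restr_map_unit O W (SheafOfModules.ιFree j ≫ r ≫ φ), ht j]
    congr 1
    exact (ev_naturality (a j) g (one V)).symm.trans (by rw [map_one_unit])
  rw [Category.assoc, Category.assoc, key, Iso.inv_hom_id_assoc, ← Functor.map_comp,
    ← Category.assoc, hir, Category.id_comp]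

end Groth.Agent.Lib.Helper4.LocalLiftFree
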