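import Mathlib
import Groth.Prelude.Def_ModSite2
import Groth.Agent.Lib.Helper4.OverMapPres
import Groth.Agent.Lib.Helper4.QSLocal
import Groth.Agent.Lib.Helper4.LocalLiftFree
import Groth.Agent.Lib.Lead.QB1

/-!
# Finite generation of sheaves of modules on a site: restriction preserves colimits, generators by sections, local criterion for finite type, extensions of finite type modules (helper4)
-/

set_option backward.isDefEq.respectTransparency.types false
set_option synthInstance.maxHeartbeats 400000
set_option autoImplicit false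
set_option linter.unusedSectionVars false
set_option linter.style.haveILetI false
set_option linter.unusedSimpArgs false
universe u v w
open CategoryTheory CategoryTheory.Limits Opposite

namespace Groth.Agent.Lib.Helper4.FinGen

open Groth.Agent.Lib.Helper4.PureTensor Groth.Agent.Lib.Helper4.EqCrit
  Groth.Agent.Lib.Helper4.OverMapPres Groth.Agent.Lib.Helper4.QSLocal
  Groth.Agent.Lib.Helper4.LocalLiftFree Groth.Agent.Lib.Helper5.RestrExact

variable {C : Type u} [SmallCategory C] {J : GrothendieckTopology C} (O : Sheaf J CommRingCat.{u})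

section colim

variable {K : Type w} [Category.{v} K] [HasColimitsOfShape K AddCommGrpCat.{u}]

open Groth.Agent.Lead.QB in
instance preservesColimitsOfShape_restr (U : C) :
    PreservesColimitsOfShape K (ModSite.restr O U) where
  preservesColimit {D} := by
    have h1 : PreservesColimit D (ModSite.restr O U ⋙
        SheafOfModules.toSheaf.{u} (ModSite.ringSh (O.over U))) := by
      change PreservesColimit D (SheafOfModules.toSheaf.{u} (ModSite.ringSh O) ⋙ restrAb U)
      infer_instance
    have h2 : ReflectsColimit (D ⋙ ModSite.restr O U)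
        (SheafOfModules.toSheaf.{u} (ModSite.ringSh (O.over U))) :=
      reflectsColimit_of_reflectsIsomorphisms _ _
    exact preservesColimit_of_reflects_of_preserves _
      (SheafOfModules.toSheaf.{u} (ModSite.ringSh (O.over U)))

open Groth.Agent.Lead.QB in
instance preservesColimitsOfShape_GO {Z X₀ : C} (z : Z ⟶ X₀) :
    PreservesColimitsOfShape K (GO O z) where
  preservesColimit {D} := by
    have h1 : PreservesColimit D (GO O z ⋙
        SheafOfModules.toSheaf.{u} (ModSite.ringSh (O.over Z))) := by
      change PreservesColimit D (SheafOfModules.toSheaf.{u} (ModSite.ringSh (O.over X₀)) ⋙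
        GAb (J := J) z)
      haveI : PreservesColimit D (SheafOfModules.toSheaf.{u} (ModSite.ringSh (O.over X₀))) :=
        inferInstance
      haveI : PreservesColimit (D ⋙ SheafOfModules.toSheaf.{u} (ModSite.ringSh (O.over X₀)))
        (GAb (J := J) z) := inferInstance
      infer_instance
    have h2 : ReflectsColimit (D ⋙ GO O z)
        (SheafOfModules.toSheaf.{u} (ModSite.ringSh (O.over Z))) :=
      reflectsColimit_of_reflectsIsomorphisms _ _
    exact preservesColimit_of_reflects_of_preserves _
      (SheafOfModules.toSheaf.{u} (ModSite.ringSh (O.over Z)))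

end colim

instance (U : C) : PreservesColimitsOfSize.{u, u} (ModSite.restr O U) where
  preservesColimitsOfShape := inferInstance

instance {Z X₀ : C} (z : Z ⟶ X₀) : PreservesColimitsOfSize.{u, u} (GO O z) where
  preservesColimitsOfShape := inferInstance


section gen

variable {O}
variable {I : Type u}

/-- the morphism `free I ⟶ M|_W` defined by a family of sections of `M` over `W` -/
noncomputable def genHom (M : ModSite.Mod O) (W : C) (s : I → ModSite.sect M W) :
    SheafOfModules.free (R := ModSite.ringSh (O.over W)) I ⟶ (ModSite.restr O W).obj M :=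
  Sigma.desc (fun j => secHom W M (s j))

lemma ιFree_genHom (M : ModSite.Mod O) (W : C) (s : I → ModSite.sect M W) (j : I) :
    SheafOfModules.ιFree j ≫ genHom M W s = secHom W M (s j) :=
  Sigma.ι_desc _ j

lemma free_hom_ext {W : C} {N : ModSite.Mod (O.over W)}
    {a b : SheafOfModules.free (R := ModSite.ringSh (O.over W)) I ⟶ N}
    (h : ∀ j, SheafOfModules.ιFree j ≫ a = SheafOfModules.ιFree j ≫ b) : a = b :=
  Sigma.hom_ext _ _ h

/-- the sections defining a morphism `free I ⟶ M|_W` -/
noncomputable def secOf (M : ModSite.Mod O) (W : C)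
    (a : SheafOfModules.free (R := ModSite.ringSh (O.over W)) I ⟶ (ModSite.restr O W).obj M)
    (j : I) : ModSite.sect M W :=
  ev (SheafOfModules.ιFree j ≫ a) (T₀ W) (one (T₀ W))

lemma eq_genHom (M : ModSite.Mod O) (W : C)
    (a : SheafOfModules.free (R := ModSite.ringSh (O.over W)) I ⟶ (ModSite.restr O W).obj M) :
    a = genHom M W (secOf M W a) := by
  apply free_hom_ext
  intro j
  rw [ιFree_genHom]
  exact eq_secHom M (SheafOfModules.ιFree j ≫ a)

lemma secOf_genHom (M : ModSite.Mod O) (W : C) (s : I → ModSite.sect M W) (j : I) :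
    secOf M W (genHom M W s) j = s j := by
  unfold secOf
  rw [ιFree_genHom, ev_secHom]
  change M.val.map (𝟙 W).op _ = _
  rw [op_id, PresheafOfModules.map_id]
  rfl

lemma genHom_comp {M N : ModSite.Mod O} (p : M ⟶ N) (W : C) (s : I → ModSite.sect M W) :
    genHom M W s ≫ (ModSite.restr O W).map p = genHom N W (fun j => ev p W (s j)) := by
  apply free_hom_ext
  intro j
  rw [← Category.assoc, ιFree_genHom, ιFree_genHom, secHom_comp]

/-- the sections `s` generate `M` over `W` -/
def GenBy (M : ModSite.Mod O) (W : C) (s : I → ModSite.sect M W) : Prop := Epi (genHom M W s)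

/-- restriction of a free module along `z : Z ⟶ X₀` -/
noncomputable def GOFreeIso {Z X₀ : C} (z : Z ⟶ X₀) (I : Type u) :
    SheafOfModules.free (R := ModSite.ringSh (O.over Z)) I ≅
      (GO O z).obj (SheafOfModules.free (R := ModSite.ringSh (O.over X₀)) I) :=
  SheafOfModules.mapFreeIso (GO O z) I (Iso.refl _)

lemma ιFree_GOFreeIso_hom {Z X₀ : C} (z : Z ⟶ X₀) (j : I) :
    SheafOfModules.ιFree j ≫ (GOFreeIso (O := O) z I).hom =
      (GO O z).map (SheafOfModules.ιFree j) := by
  unfold GOFreeIso
  rw [SheafOfModules.ιFree_mapFreeIso_hom]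
  exact Category.id_comp _

/-- restricting the morphism defined by a family of sections -/
lemma GO_map_genHom {Z X₀ : C} (z : Z ⟶ X₀) (M : ModSite.Mod O) (s : I → ModSite.sect M X₀) :
    (GOFreeIso (O := O) z I).hom ≫ (GO O z).map (genHom M X₀ s) ≫ (θ O z).hom.app M =
      genHom M Z (fun j => M.val.map z.op (s j)) := by
  apply free_hom_ext
  intro j
  rw [ιFree_genHom, ← Category.assoc, ιFree_GOFreeIso_hom, ← Category.assoc]
  refine (congrArg (fun w => w ≫ (θ O z).hom.app M)
    ((GO O z).map_comp (SheafOfModules.ιFree j) (genHom M X₀ s)).symm).trans ?_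
  rw [ιFree_genHom]
  exact GO_map_secHom z M (s j)

lemma GenBy.restrict {M : ModSite.Mod O} {V : C} {s : I → ModSite.sect M V} (h : GenBy M V s)
    {W : C} (g : W ⟶ V) : GenBy M W (fun j => M.val.map g.op (s j)) := by
  unfold GenBy at h ⊢
  rw [← GO_map_genHom g M s]
  haveI := h
  haveI : Epi ((GO O g).map (genHom M V s)) :=
    @epi_G_map C _ J (ModSite.ringSh O) W V g _ _ (genHom M V s) h
  haveI : Epi ((GO O g).map (genHom M V s) ≫ (θ O g).hom.app M) := epi_comp _ _
  exact epi_comp _ _

end gen


section ft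

variable {O}

/-- `M` is generated over `W` by finitely many sections -/
def FinGenOn (M : ModSite.Mod O) (W : C) : Prop :=
  ∃ (I : Type u) (_ : Finite I) (s : I → ModSite.sect M W), GenBy M W s

lemma FinGenOn.restrict {M : ModSite.Mod O} {V : C} (h : FinGenOn M V) {W : C} (g : W ⟶ V) :
    FinGenOn M W := by
  obtain ⟨I, hI, s, hs⟩ := h
  exact ⟨I, hI, _, hs.restrict g⟩

/-- `M` is locally generated by finitely many sections -/
def LocFinGen (M : ModSite.Mod O) : Prop :=
  ∀ V : C, ∃ R ∈ J V, ∀ ⦃W : C⦄ (g : W ⟶ V), R g → FinGenOn M W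

theorem locFinGen_of_isFiniteType (M : ModSite.Mod O)
    [SheafOfModules.IsFiniteType (R := ModSite.ringSh O) M] : LocFinGen M := by
  obtain ⟨σ, hσ⟩ := SheafOfModules.IsFiniteType.exists_localGeneratorsData
    (R := ModSite.ringSh O) M
  intro V
  refine ⟨Sieve.ofObjects σ.X V, σ.coversTop V, ?_⟩
  intro W g hg
  obtain ⟨i, ⟨f⟩⟩ := hg
  have h1 : FinGenOn M (σ.X i) := by
    refine ⟨(σ.generators i).I, (hσ.isFiniteType i).finite, secOf M (σ.X i) (σ.generators i).π, ?_⟩
    unfold GenBy
    rw [← eq_genHom]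
    exact (σ.generators i).epi
  exact h1.restrict f

/-- local generators data from local finite generation -/
noncomputable def locGenData (M : ModSite.Mod O) (h : LocFinGen M) :
    SheafOfModules.LocalGeneratorsData.{u} (R := ModSite.ringSh O) M where
  I := {W : C // FinGenOn M W}
  X := Subtype.val
  coversTop := fun V => J.superset_covering
    (fun W g hg => ⟨⟨W, (h V).choose_spec.2 g hg⟩, ⟨𝟙 W⟩⟩) (h V).choose_spec.1
  generators := fun i =>
    { I := i.2.choose
      s := SheafOfModules.freeHomEquiv _ (genHom M i.1 i.2.choose_spec.choose_spec.choose)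
      epi := by
        rw [Equiv.symm_apply_apply]
        exact i.2.choose_spec.choose_spec.choose_spec }

lemma locGenData_isFiniteType (M : ModSite.Mod O) (h : LocFinGen M) :
    @SheafOfModules.LocalGeneratorsData.IsFiniteType C _ J (ModSite.ringSh O) M _ _
      (locGenData M h) :=
  @SheafOfModules.LocalGeneratorsData.IsFiniteType.mk C _ J (ModSite.ringSh O) M _ _
    (locGenData M h) (fun i => ⟨i.2.choose_spec.choose⟩)

theorem isFiniteType_of_locFinGen (M : ModSite.Mod O) (h : LocFinGen M) :
    SheafOfModules.IsFiniteType (R := ModSite.ringSh O) M :=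
  @SheafOfModules.IsFiniteType.mk C _ J (ModSite.ringSh O) _ _ M
    ⟨locGenData M h, locGenData_isFiniteType M h⟩

theorem isFiniteType_iff (M : ModSite.Mod O) :
    SheafOfModules.IsFiniteType (R := ModSite.ringSh O) M ↔ LocFinGen M :=
  ⟨fun _ => locFinGen_of_isFiniteType M, isFiniteType_of_locFinGen M⟩

end ft


section ext

variable {O}

lemma genHom_sumElim_inl {I₁ I₂ : Type u} (M : ModSite.Mod O) (W : C)
    (a : I₁ → ModSite.sect M W) (b : I₂ → ModSite.sect M W) {N : ModSite.Mod (O.over W)}
    (h : (ModSite.restr O W).obj M ⟶ N) (hh : genHom M W (Sum.elim a b) ≫ h = 0) :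
    genHom M W a ≫ h = 0 := by
  apply free_hom_ext
  intro j
  rw [← Category.assoc, ιFree_genHom, comp_zero]
  have := congrArg (fun w => SheafOfModules.ιFree (Sum.inl j) ≫ w) hh
  simp only [comp_zero] at this
  rw [← Category.assoc, ιFree_genHom] at this
  exact this

lemma genHom_sumElim_inr {I₁ I₂ : Type u} (M : ModSite.Mod O) (W : C)
    (a : I₁ → ModSite.sect M W) (b : I₂ → ModSite.sect M W) {N : ModSite.Mod (O.over W)}
    (h : (ModSite.restr O W).obj M ⟶ N) (hh : genHom M W (Sum.elim a b) ≫ h = 0) :
    genHom M W b ≫ h = 0 := by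
  apply free_hom_ext
  intro j
  rw [← Category.assoc, ιFree_genHom, comp_zero]
  have := congrArg (fun w => SheafOfModules.ιFree (Sum.inr j) ≫ w) hh
  simp only [comp_zero] at this
  rw [← Category.assoc, ιFree_genHom] at this
  exact this

/-- generators of an extension -/
lemma genBy_of_shortExact (S : ShortComplex (ModSite.Mod O)) (hS : S.ShortExact) (W : C)
    {I₁ I₃ : Type u} (s₁ : I₁ → ModSite.sect S.X₁ W) (h₁ : GenBy S.X₁ W s₁)
    (t : I₃ → ModSite.sect S.X₂ W) (h₃ : GenBy S.X₃ W (fun k => ev S.g W (t k))) :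
    GenBy S.X₂ W (Sum.elim (fun j => ev S.f W (s₁ j)) t) := by
  unfold GenBy at h₁ h₃ ⊢
  have hS' : (S.map (ModSite.restr O W)).ShortExact := hS.map_of_exact (ModSite.restr O W)
  haveI := hS'.epi_g
  apply Preadditive.epi_of_cancel_zero
  intro N h hh
  have e1 := genHom_sumElim_inl S.X₂ W _ _ h hh
  have e2 := genHom_sumElim_inr S.X₂ W _ _ h hh
  rw [← genHom_comp S.f W s₁, Category.assoc] at e1
  have e3 : (ModSite.restr O W).map S.f ≫ h = 0 := by
    haveI := h₁
    exact (cancel_epi (genHom S.X₁ W s₁)).1 (e1.trans comp_zero.symm)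
  have e4 : (S.map (ModSite.restr O W)).g ≫ hS'.exact.desc h e3 = h := hS'.exact.g_desc h e3
  rw [← e4] at e2 ⊢
  have e5 : genHom S.X₃ W (fun k => ev S.g W (t k)) ≫ hS'.exact.desc h e3 = 0 := by
    rw [← genHom_comp S.g W t, Category.assoc]
    exact e2
  haveI := h₃
  have e6 : hS'.exact.desc h e3 = 0 :=
    (cancel_epi (genHom S.X₃ W (fun k => ev S.g W (t k)))).1 (e5.trans comp_zero.symm)
  rw [e6]
  exact comp_zero

end ext


section bind

/-- a property holding locally on a covering holds locally -/
lemma locally_of_locally {P : C → Prop} {V : C} {R : Sieve V} (hR : R ∈ J V)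
    (h : ∀ ⦃W : C⦄ (g : W ⟶ V), R g → ∃ T ∈ J W, ∀ ⦃W' : C⦄ (h : W' ⟶ W), T h → P W') :
    ∃ R' ∈ J V, ∀ ⦃W : C⦄ (g : W ⟶ V), R' g → P W := by
  choose T hT hTP using h
  refine ⟨Sieve.bind R.arrows (fun W g hg => T g hg), J.bind_covering hR (fun W g hg => hT g hg), ?_⟩
  intro W g hg
  obtain ⟨Y, g', f, hf, hg', -⟩ := hg
  exact hTP f hf g' hg'

end bind

section ext2

variable {O}

theorem locFinGen_of_shortExact (S : ShortComplex (ModSite.Mod O)) (hS : S.ShortExact)
    (h1 : LocFinGen S.X₁) (h3 : LocFinGen S.X₃) : LocFinGen S.X₂ := by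
  intro V
  obtain ⟨R₁, hR₁, hg₁⟩ := h1 V
  obtain ⟨R₃, hR₃, hg₃⟩ := h3 V
  refine locally_of_locally (J.intersection_covering hR₁ hR₃) ?_
  intro W g hg
  obtain ⟨I₁, hI₁, s₁, hs₁⟩ := hg₁ g hg.1
  obtain ⟨I₃, hI₃, s₃, hs₃⟩ := hg₃ g hg.2
  haveI := hS.epi_g
  have hl := fun k => exists_local_lift S.g (s₃ k)
  choose T hT hTl using hl
  obtain ⟨T', hT', hT'T⟩ := exists_common_sieve T hT
  refine ⟨T', hT', ?_⟩
  intro W' h hh
  choose t ht using fun k => hTl k h (hT'T h hh k)
  refine ⟨I₁ ⊕ I₃, inferInstance, Sum.elim (fun j => ev S.f W' (S.X₁.val.map h.op (s₁ j))) t, ?_⟩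
  refine genBy_of_shortExact S hS W' _ (hs₁.restrict h) t ?_
  have : (fun k => ev S.g W' (t k)) = fun k => S.X₃.val.map h.op (s₃ k) := funext ht
  rw [this]
  exact hs₃.restrict h

theorem isFiniteType_of_shortExact (S : ShortComplex (ModSite.Mod O)) (hS : S.ShortExact)
    [SheafOfModules.IsFiniteType (R := ModSite.ringSh O) S.X₁]
    [SheafOfModules.IsFiniteType (R := ModSite.ringSh O) S.X₃] :
    SheafOfModules.IsFiniteType (R := ModSite.ringSh O) S.X₂ :=
  isFiniteType_of_locFinGen _ (locFinGen_of_shortExact S hS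
    (locFinGen_of_isFiniteType _) (locFinGen_of_isFiniteType _))

end ext2

end Groth.Agent.Lib.Helper4.FinGen
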