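import Mathlib
import Groth.Prelude.Def_ModSite2
import Groth.Agent.Lib.Helper4.FinGen
import Groth.Agent.Lib.Helper4.EqCritConv

/-!
# Finite presentation of sheaves of modules on a site: cokernel pairs, local criterion for finite presentation, local factorization through generators, cokernels of maps from finite type to finitely presented modules (helper4)
-/

set_option backward.isDefEq.respectTransparency.types false
set_option synthInstance.maxHeartbeats 400000
set_option autoImplicit false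
set_option linter.unusedSectionVars false
set_option linter.style.haveILetI false
set_option linter.unusedSimpArgs false
universe u v w
open CategoryTheory CategoryTheory.Limits Opposite

namespace Groth.Agent.Lib.Helper4.FinPres

open Groth.Agent.Lib.Helper4.PureTensor Groth.Agent.Lib.Helper4.EqCrit
  Groth.Agent.Lib.Helper4.OverMapPres Groth.Agent.Lib.Helper4.QSLocal
  Groth.Agent.Lib.Helper4.LocalLiftFree Groth.Agent.Lib.Helper5.RestrExact
  Groth.Agent.Lib.Helper4.FinGen Groth.Agent.Lib.Helper4.EqCritConv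

section abstract

variable {𝒜 : Type w} [Category.{v} 𝒜] [Abelian 𝒜]

/-- `π` is a cokernel of `A` (as a proposition) -/
structure IsCok {X Y Q : 𝒜} (A : X ⟶ Y) (π : Y ⟶ Q) : Prop where
  zero : A ≫ π = 0
  exact : (ShortComplex.mk A π zero).Exact
  epi : Epi π

/-- the cokernel cofork of a cokernel pair is a colimit -/
noncomputable def IsCok.isColimit {X Y Q : 𝒜} {A : X ⟶ Y} {π : Y ⟶ Q} (h : IsCok A π) :
    IsColimit (CokernelCofork.ofπ π h.zero) :=
  haveI := h.epi
  h.exact.gIsCokernel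

lemma IsCok.of_isColimit {X Y Q : 𝒜} {A : X ⟶ Y} {π : Y ⟶ Q} (hz : A ≫ π = 0)
    (hc : IsColimit (CokernelCofork.ofπ π hz)) : IsCok A π where
  zero := hz
  exact := ShortComplex.exact_of_g_is_cokernel _ hc
  epi := epi_of_isColimit_cofork hc

lemma IsCok.cokernel {X Y : 𝒜} (A : X ⟶ Y) : IsCok A (cokernel.π A) :=
  IsCok.of_isColimit (cokernel.condition A) (cokernelIsCokernel A)

lemma IsCok.desc {X Y Q : 𝒜} {A : X ⟶ Y} {π : Y ⟶ Q} (h : IsCok A π) {N : 𝒜} (k : Y ⟶ N)
    (hk : A ≫ k = 0) : ∃ k' : Q ⟶ N, π ≫ k' = k :=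
  haveI := h.epi
  ⟨h.exact.desc k hk, h.exact.g_desc k hk⟩

lemma IsCok.of_iso {X Y Q X' Y' Q' : 𝒜} {A : X ⟶ Y} {π : Y ⟶ Q} (h : IsCok A π)
    (eX : X' ≅ X) (eY : Y' ≅ Y) (eQ : Q ≅ Q') :
    IsCok (eX.hom ≫ A ≫ eY.inv) (eY.hom ≫ π ≫ eQ.hom) := by
  have hz : (eX.hom ≫ A ≫ eY.inv) ≫ (eY.hom ≫ π ≫ eQ.hom) = 0 := by
    simp only [Category.assoc, Iso.inv_hom_id_assoc]
    rw [← Category.assoc A, h.zero, zero_comp, comp_zero]
  refine ⟨hz, ?_, ?_⟩
  · refine ShortComplex.exact_of_iso (ShortComplex.isoMk eX.symm eY.symm eQ ?_ ?_) h.exact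
    · simp
    · simp
  · haveI := h.epi
    infer_instance

lemma IsCok.map {ℬ : Type*} [Category ℬ] [Abelian ℬ] {X Y Q : 𝒜} {A : X ⟶ Y} {π : Y ⟶ Q}
    (h : IsCok A π) (F : 𝒜 ⥤ ℬ) [F.Additive] [F.PreservesHomology]
    (hF : Epi (F.map π)) : IsCok (F.map A) (F.map π) := by
  have hz : F.map A ≫ F.map π = 0 := by rw [← F.map_comp, h.zero, F.map_zero]
  exact ⟨hz, h.exact.map F, hF⟩

/-- presentation of the cokernel of a map from a finitely generated object to a finitely
presented one -/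
lemma IsCok.comp {R E F G Q L T : 𝒜} {A : R ⟶ E} {π : E ⟶ F} (h₁ : IsCok A π)
    {φ : G ⟶ F} {q : F ⟶ Q} (h₂ : IsCok φ q) (γ : L ⟶ G) [Epi γ] (μ : L ⟶ E)
    (hμ : μ ≫ π = γ ≫ φ) (B : T ⟶ E) (iR : R ⟶ T) (iL : L ⟶ T) (hR : iR ≫ B = A)
    (hL : iL ≫ B = μ)
    (hT : ∀ ⦃N : 𝒜⦄ (k : T ⟶ N), iR ≫ k = 0 → iL ≫ k = 0 → k = 0) :
    IsCok B (π ≫ q) := by
  have hz : B ≫ π ≫ q = 0 := by
    apply hT
    · rw [← Category.assoc, hR, ← Category.assoc, h₁.zero, zero_comp]
    · rw [← Category.assoc, hL, ← Category.assoc, hμ, Category.assoc, h₂.zero, comp_zero]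
  haveI := h₁.epi
  haveI := h₂.epi
  refine ⟨hz, ?_, epi_comp _ _⟩
  rw [ShortComplex.exact_iff_exact_up_to_refinements]
  intro A₀ x hx
  change x ≫ π ≫ q = 0 at hx
  obtain ⟨A₁, π₁, hπ₁, g, hg⟩ := h₂.exact.exact_up_to_refinements (x ≫ π)
    (by rw [Category.assoc]; exact hx)
  obtain ⟨A₂, π₂, hπ₂, l, hl⟩ := surjective_up_to_refinements_of_epi γ g
  change π₁ ≫ x ≫ π = g ≫ φ at hg
  have h3 : (π₂ ≫ π₁ ≫ x - l ≫ μ) ≫ π = 0 := by
    rw [Preadditive.sub_comp, Category.assoc, Category.assoc, hg, Category.assoc, hμ,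
      ← Category.assoc π₂, hl, Category.assoc, sub_self]
  obtain ⟨A₃, π₃, hπ₃, r, hr⟩ := h₁.exact.exact_up_to_refinements _ h3
  change π₃ ≫ (π₂ ≫ π₁ ≫ x - l ≫ μ) = r ≫ A at hr
  refine ⟨A₃, π₃ ≫ π₂ ≫ π₁, inferInstance, r ≫ iR + π₃ ≫ l ≫ iL, ?_⟩
  change (π₃ ≫ π₂ ≫ π₁) ≫ x = (r ≫ iR + π₃ ≫ l ≫ iL) ≫ B
  have e1 : (r ≫ iR + π₃ ≫ l ≫ iL) ≫ B = r ≫ A + π₃ ≫ l ≫ μ := by
    simp only [Preadditive.add_comp, Category.assoc, hR, hL]
  rw [e1, ← hr, Preadditive.comp_sub]
  simp only [Category.assoc]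
  abel

/-- generators of the kernel of a map from a finitely generated object onto a finitely
presented one -/
lemma exact_ker_gen {R E F G L T : 𝒜} {A : R ⟶ E} {π : E ⟶ F} (hz : A ≫ π = 0)
    (h₁ : (ShortComplex.mk A π hz).Exact) (θ : G ⟶ F) (γ : L ⟶ G) [Epi γ]
    (lam : E ⟶ G) (hlam : lam ≫ θ = π) (μ : L ⟶ E) (hμ : μ ≫ π = γ ≫ θ)
    (B : T ⟶ G) (iR : R ⟶ T) (iL : L ⟶ T) (hR : iR ≫ B = A ≫ lam)
    (hL : iL ≫ B = γ - μ ≫ lam) (hB : B ≫ θ = 0) :
    (ShortComplex.mk B θ hB).Exact := by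
  rw [ShortComplex.exact_iff_exact_up_to_refinements]
  intro A₀ x hx
  change x ≫ θ = 0 at hx
  obtain ⟨A₁, π₁, hπ₁, l, hl⟩ := surjective_up_to_refinements_of_epi γ x
  have h3 : (l ≫ μ) ≫ π = 0 := by
    rw [Category.assoc, hμ, ← Category.assoc, ← hl, Category.assoc, hx, comp_zero]
  obtain ⟨A₂, π₂, hπ₂, r, hr⟩ := h₁.exact_up_to_refinements _ h3
  change π₂ ≫ l ≫ μ = r ≫ A at hr
  refine ⟨A₂, π₂ ≫ π₁, inferInstance, r ≫ iR + π₂ ≫ l ≫ iL, ?_⟩
  change (π₂ ≫ π₁) ≫ x = (r ≫ iR + π₂ ≫ l ≫ iL) ≫ B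
  have e1 : (r ≫ iR + π₂ ≫ l ≫ iL) ≫ B =
      (r ≫ A) ≫ lam + (π₂ ≫ l ≫ γ - (π₂ ≫ l ≫ μ) ≫ lam) := by
    simp only [Preadditive.add_comp, Category.assoc, hR, hL, Preadditive.comp_sub]
  rw [e1, ← hr, Category.assoc, hl]
  simp only [Category.assoc]
  abel

/-- an exact complex gives an epimorphism onto a kernel -/
lemma epi_lift_of_exact {T G F K : 𝒜} {B : T ⟶ G} {θ : G ⟶ F} (hB : B ≫ θ = 0)
    (h : (ShortComplex.mk B θ hB).Exact) (ι : K ⟶ G) [Mono ι] (b : T ⟶ K) (hb : b ≫ ι = B)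
    (hι : ι ≫ θ = 0) : Epi b := by
  rw [epi_iff_surjective_up_to_refinements]
  intro A₀ y
  obtain ⟨A₁, π₁, hπ₁, t, ht⟩ := h.exact_up_to_refinements (y ≫ ι)
    (by rw [Category.assoc]; exact (congrArg (fun w => y ≫ w) hι).trans comp_zero)
  change π₁ ≫ y ≫ ι = t ≫ B at ht
  refine ⟨A₁, π₁, hπ₁, t, ?_⟩
  rw [← cancel_mono ι, Category.assoc, ht, Category.assoc, hb]

end abstract


section fp

variable {C : Type u} [SmallCategory C] {J : GrothendieckTopology C} {O : Sheaf J CommRingCat.{u}}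

instance additive_GO {Z X₀ : C} (z : Z ⟶ X₀) : (GO O z).Additive :=
  additive_G (ModSite.ringSh O) z

instance preservesHomology_GO {Z X₀ : C} (z : Z ⟶ X₀) : (GO O z).PreservesHomology :=
  haveI : PreservesFiniteLimits (GO O z) := preservesFiniteLimits_G (ModSite.ringSh O) z
  haveI : PreservesFiniteColimits (GO O z) := preservesFiniteColimits_G (ModSite.ringSh O) z
  inferInstance

/-- `M` has a finite presentation over `W`, with generators given by sections -/
def FinPresOn (M : ModSite.Mod O) (W : C) : Prop :=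
  ∃ (Ig Ir : Type u) (_ : Finite Ig) (_ : Finite Ir) (p : Ig → ModSite.sect M W)
    (A : SheafOfModules.free (R := ModSite.ringSh (O.over W)) Ir ⟶
      SheafOfModules.free (R := ModSite.ringSh (O.over W)) Ig), IsCok A (genHom M W p)

/-- restriction of the relations -/
noncomputable def resRel {W' W : C} (h : W' ⟶ W) {Ig Ir : Type u}
    (A : SheafOfModules.free (R := ModSite.ringSh (O.over W)) Ir ⟶
      SheafOfModules.free (R := ModSite.ringSh (O.over W)) Ig) :
    SheafOfModules.free (R := ModSite.ringSh (O.over W')) Ir ⟶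
      SheafOfModules.free (R := ModSite.ringSh (O.over W')) Ig :=
  (GOFreeIso (O := O) h Ir).hom ≫ (GO O h).map A ≫ (GOFreeIso (O := O) h Ig).inv

lemma IsCok.restrict {M : ModSite.Mod O} {W : C} {Ig Ir : Type u} {p : Ig → ModSite.sect M W}
    {A : SheafOfModules.free (R := ModSite.ringSh (O.over W)) Ir ⟶
      SheafOfModules.free (R := ModSite.ringSh (O.over W)) Ig}
    (hA : IsCok A (genHom M W p)) {W' : C} (h : W' ⟶ W) :
    IsCok (resRel h A) (genHom M W' (fun k => M.val.map h.op (p k))) := by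
  have h1 : IsCok ((GO O h).map A) ((GO O h).map (genHom M W p)) :=
    hA.map (GO O h) (@epi_G_map C _ J (ModSite.ringSh O) W' W h _ _ (genHom M W p) hA.epi)
  have h2 := h1.of_iso (GOFreeIso (O := O) h Ir) (GOFreeIso (O := O) h Ig)
    ((θ O h).app M)
  have h3 : (GOFreeIso (O := O) h Ig).hom ≫ (GO O h).map (genHom M W p) ≫ ((θ O h).app M).hom =
      genHom M W' (fun k => M.val.map h.op (p k)) := GO_map_genHom h M p
  rw [h3] at h2
  exact h2

lemma FinPresOn.restrict {M : ModSite.Mod O} {W : C} (hM : FinPresOn M W) {W' : C}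
    (h : W' ⟶ W) : FinPresOn M W' := by
  obtain ⟨Ig, Ir, hIg, hIr, p, A, hA⟩ := hM
  exact ⟨Ig, Ir, hIg, hIr, _, _, hA.restrict h⟩

lemma FinPresOn.finGenOn {M : ModSite.Mod O} {W : C} (hM : FinPresOn M W) : FinGenOn M W := by
  obtain ⟨Ig, Ir, hIg, hIr, p, A, hA⟩ := hM
  exact ⟨Ig, hIg, p, hA.epi⟩

/-- `M` is locally finitely presented -/
def LocFinPres (M : ModSite.Mod O) : Prop :=
  ∀ V : C, ∃ R ∈ J V, ∀ ⦃W : C⦄ (g : W ⟶ V), R g → FinPresOn M W

theorem locFinPres_of_isFinitePresentation (M : ModSite.Mod O)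
    [SheafOfModules.IsFinitePresentation (R := ModSite.ringSh O) M] : LocFinPres M := by
  obtain ⟨σ, hσ⟩ := SheafOfModules.IsFinitePresentation.exists_quasicoherentData
    (R := ModSite.ringSh O) M
  intro V
  refine ⟨Sieve.ofObjects σ.X V, σ.coversTop V, ?_⟩
  intro W g hg
  obtain ⟨i, ⟨f⟩⟩ := hg
  have h1 : FinPresOn M (σ.X i) := by
    have hfin := hσ.isFinite_presentation i
    refine ⟨(σ.presentation i).generators.I, (σ.presentation i).relations.I,
      hfin.isFiniteType_generators.finite, hfin.isFiniteType_relations.finite,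
      secOf M (σ.X i) (pπ M (σ.X i) (σ.presentation i)), pA M (σ.X i) (σ.presentation i), ?_⟩
    have hc : IsCok (pA M (σ.X i) (σ.presentation i)) (pπ M (σ.X i) (σ.presentation i)) :=
      IsCok.of_isColimit (pA_pπ M (σ.X i) (σ.presentation i)) (σ.presentation i).isColimit
    exact Eq.mp (congrArg (fun w => IsCok (pA M (σ.X i) (σ.presentation i)) w)
      (eq_genHom M (σ.X i) (pπ M (σ.X i) (σ.presentation i)))) hc
  exact h1.restrict f

end fp


section fp2

variable {C : Type u} [SmallCategory C] {J : GrothendieckTopology C} {O : Sheaf J CommRingCat.{u}}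

/-- a presentation from a finite presentation by sections -/
noncomputable def presOf (M : ModSite.Mod O) (W : C) (hM : FinPresOn M W) :
    SheafOfModules.Presentation (R := ModSite.ringSh (O.over W)) ((ModSite.restr O W).obj M) :=
  SheafOfModules.presentationOfIsCokernelFree
    hM.choose_spec.choose_spec.choose_spec.choose_spec.choose_spec.choose
    (genHom M W hM.choose_spec.choose_spec.choose_spec.choose_spec.choose)
    hM.choose_spec.choose_spec.choose_spec.choose_spec.choose_spec.choose_spec.zero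
    hM.choose_spec.choose_spec.choose_spec.choose_spec.choose_spec.choose_spec.isColimit

lemma presOf_isFinite (M : ModSite.Mod O) (W : C) (hM : FinPresOn M W) :
    (presOf M W hM).IsFinite where
  isFiniteType_generators := ⟨hM.choose_spec.choose_spec.choose⟩
  isFiniteType_relations := ⟨hM.choose_spec.choose_spec.choose_spec.choose⟩

/-- quasi-coherent data from local finite presentations -/
noncomputable def locPresData (M : ModSite.Mod O) (h : LocFinPres M) :
    SheafOfModules.QuasicoherentData.{u} (R := ModSite.ringSh O) M where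
  I := {W : C // FinPresOn M W}
  X := Subtype.val
  coversTop := fun V => J.superset_covering
    (fun W g hg => ⟨⟨W, (h V).choose_spec.2 g hg⟩, ⟨𝟙 W⟩⟩) (h V).choose_spec.1
  presentation := fun i => presOf M i.1 i.2

lemma locPresData_isFinitePresentation (M : ModSite.Mod O) (h : LocFinPres M) :
    @SheafOfModules.QuasicoherentData.IsFinitePresentation C _ J (ModSite.ringSh O) _ _ M
      (locPresData M h) :=
  @SheafOfModules.QuasicoherentData.IsFinitePresentation.mk C _ J (ModSite.ringSh O) _ _ M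
    (locPresData M h) (fun i => presOf_isFinite M i.1 i.2)

theorem isFinitePresentation_of_locFinPres (M : ModSite.Mod O) (h : LocFinPres M) :
    SheafOfModules.IsFinitePresentation (R := ModSite.ringSh O) M :=
  @SheafOfModules.IsFinitePresentation.mk C _ J (ModSite.ringSh O) _ _ M
    ⟨locPresData M h, locPresData_isFinitePresentation M h⟩

theorem isFinitePresentation_iff (M : ModSite.Mod O) :
    SheafOfModules.IsFinitePresentation (R := ModSite.ringSh O) M ↔ LocFinPres M :=
  ⟨fun _ => locFinPres_of_isFinitePresentation M, isFinitePresentation_of_locFinPres M⟩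

end fp2


section comb

variable {C : Type u} [SmallCategory C] {J : GrothendieckTopology C} {O : Sheaf J CommRingCat.{u}}

/-- sections of a finite free module are combinations of the basis sections -/
lemma free_section_decomp {I : Type u} [Fintype I] (V : C)
    (t : ModSite.sect (SheafOfModules.free (R := ModSite.ringSh O) I) V) :
    t = ∑ k, ev (SheafOfModules.ιFree (R := ModSite.ringSh O) k) V
      (ev (πFree (R := ModSite.ringSh O) k) V t) := by
  have h := congrArg (fun w => ev w V t) (sum_πFree_ιFree (R := ModSite.ringSh O) (I := I))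
  simp only [ev_sum] at h
  exact h.symm

/-- if `p` generates `M` over `W` then every section of `M` over `W` is locally a linear
combination of the `p k` -/
lemma GenBy.exists_local_comb {M : ModSite.Mod O} {W : C} {I : Type u} [Fintype I]
    {p : I → ModSite.sect M W} (hp : GenBy M W p) (x : ModSite.sect M W) :
    ∃ T ∈ J W, ∀ ⦃W' : C⦄ (h : W' ⟶ W), T h →
      ∃ a : I → O.obj.obj (op W'), res M h x = ∑ k, a k • res M h (p k) := by
  haveI : Epi (genHom M W p) := hp
  obtain ⟨S, hS, hSl⟩ := exists_local_lift (O := O.over W) (genHom M W p) (V := T₀ W) x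
  refine ⟨Sieve.overEquiv (T₀ W) S, (J.mem_over_iff S).1 hS, ?_⟩
  intro W' h hh
  rw [Sieve.overEquiv_iff] at hh
  obtain ⟨t, ht⟩ := hSl _ hh
  refine ⟨fun k => ev (πFree (R := ModSite.ringSh (O.over W)) k) (Over.mk (h ≫ 𝟙 W)) t, ?_⟩
  refine Eq.trans ?_ ((congrArg (fun t => ev (genHom M W p) (Over.mk (h ≫ 𝟙 W)) t)
    (free_section_decomp (O := O.over W) (Over.mk (h ≫ 𝟙 W)) t)).symm.trans ht |>.symm.trans ?_)
  · rfl
  · rw [ev_map_sum]
    refine Finset.sum_congr rfl (fun k _ => ?_)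
    rw [← ev_comp, ιFree_genHom]
    refine (ev_unit_apply (secHom W M (p k)) (Over.mk (h ≫ 𝟙 W)) _).trans ?_
    rw [ev_secHom]
    refine congrArg (fun y => ev (πFree (R := ModSite.ringSh (O.over W)) k)
      (Over.mk (h ≫ 𝟙 W)) t • y) ?_
    change (M.val.map (h ≫ 𝟙 W).op).hom (p k) = (M.val.map h.op).hom (p k)
    rw [Category.comp_id]

end comb


section mat

variable {C : Type u} [SmallCategory C] {J : GrothendieckTopology C} {O : Sheaf J CommRingCat.{u}}

lemma sum_scalHom_secHom (M : ModSite.Mod O) (W : C) {K : Type*} [Fintype K]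
    (a : K → O.obj.obj (op W)) (x : K → ModSite.sect M W) :
    ∑ k, scalHom W (a k) ≫ secHom W M (x k) = secHom W M (∑ k, a k • x k) := by
  apply unit_hom_ext
  intro Y
  rw [ev_sum, ev_secHom]
  have h1 : ∀ k, ev (scalHom W (a k) ≫ secHom W M (x k)) Y (one Y) =
      M.val.map Y.hom.op (a k • x k) := by
    intro k
    rw [ev_comp, ev_scalHom]
    refine (ev_unit_apply (secHom W M (x k)) Y _).trans ?_
    rw [ev_secHom]
    exact (M.val.map_smul Y.hom.op (a k) (x k)).symm
  rw [Finset.sum_congr rfl (fun k _ => h1 k)]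
  exact (map_sum (M.val.map Y.hom.op).hom _ _).symm

/-- the morphism of free modules with a given matrix of coefficients -/
noncomputable def matHom (W : C) {I Ig : Type u} [Fintype Ig] (a : I → Ig → O.obj.obj (op W)) :
    SheafOfModules.free (R := ModSite.ringSh (O.over W)) I ⟶
      SheafOfModules.free (R := ModSite.ringSh (O.over W)) Ig :=
  Sigma.desc (fun j => ∑ k, scalHom W (a j k) ≫ SheafOfModules.ιFree k)

lemma ιFree_matHom (W : C) {I Ig : Type u} [Fintype Ig] (a : I → Ig → O.obj.obj (op W)) (j : I) :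
    SheafOfModules.ιFree j ≫ matHom W a = ∑ k, scalHom W (a j k) ≫ SheafOfModules.ιFree k :=
  Sigma.ι_desc _ j

lemma matHom_genHom (M : ModSite.Mod O) (W : C) {I Ig : Type u} [Fintype Ig]
    (a : I → Ig → O.obj.obj (op W)) (p : Ig → ModSite.sect M W) :
    matHom W a ≫ genHom M W p = genHom M W (fun j => ∑ k, a j k • p k) := by
  apply free_hom_ext
  intro j
  rw [← Category.assoc, ιFree_matHom, ιFree_genHom, Preadditive.sum_comp]
  refine Eq.trans (Finset.sum_congr rfl (fun k _ => ?_)) (sum_scalHom_secHom M W (a j) p)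
  rw [Category.assoc, ιFree_genHom]

/-- local factorization of a family of sections through generators -/
lemma GenBy.exists_local_factor {M : ModSite.Mod O} {W : C} {Ig : Type u} [Fintype Ig]
    {p : Ig → ModSite.sect M W} (hp : GenBy M W p) {I : Type u} [Finite I]
    (x : I → ModSite.sect M W) :
    ∃ T ∈ J W, ∀ ⦃W' : C⦄ (h : W' ⟶ W), T h →
      ∃ μ : SheafOfModules.free (R := ModSite.ringSh (O.over W')) I ⟶
          SheafOfModules.free (R := ModSite.ringSh (O.over W')) Ig,
        μ ≫ genHom M W' (fun k => res M h (p k)) = genHom M W' (fun j => res M h (x j)) := by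
  choose T hT hTc using fun j => GenBy.exists_local_comb hp (x j)
  obtain ⟨T', hT', hT'T⟩ := exists_common_sieve T hT
  refine ⟨T', hT', ?_⟩
  intro W' h hh
  choose a ha using fun j => hTc j h (hT'T h hh j)
  refine ⟨matHom W' a, ?_⟩
  rw [matHom_genHom]
  congr 1
  funext j
  exact (ha j).symm

end mat


section sumfree

variable {C : Type u} [SmallCategory C] {J : GrothendieckTopology C} {R : Sheaf J RingCat.{u}}
  [HasSheafify J AddCommGrpCat.{u}] [J.WEqualsLocallyBijective AddCommGrpCat.{u}]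

open SheafOfModules

/-- morphism out of `free (I₁ ⊕ I₂)` from a pair of morphisms -/
noncomputable def sumDesc {I₁ I₂ : Type u} {N : SheafOfModules.{u} R} (a : free I₁ ⟶ N)
    (b : free I₂ ⟶ N) : free (I₁ ⊕ I₂) ⟶ N :=
  Sigma.desc (Sum.elim (fun r => ιFree r ≫ a) (fun j => ιFree j ≫ b))

lemma inl_sumDesc {I₁ I₂ : Type u} {N : SheafOfModules.{u} R} (a : free I₁ ⟶ N)
    (b : free I₂ ⟶ N) : freeMap (R := R) (Sum.inl : I₁ → I₁ ⊕ I₂) ≫ sumDesc a b = a := by
  apply Sigma.hom_ext
  intro r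
  change ιFree r ≫ _ = ιFree r ≫ _
  rw [← Category.assoc, ιFree_freeMap]
  exact Sigma.ι_desc _ (Sum.inl r)

lemma inr_sumDesc {I₁ I₂ : Type u} {N : SheafOfModules.{u} R} (a : free I₁ ⟶ N)
    (b : free I₂ ⟶ N) : freeMap (R := R) (Sum.inr : I₂ → I₁ ⊕ I₂) ≫ sumDesc a b = b := by
  apply Sigma.hom_ext
  intro r
  change ιFree r ≫ _ = ιFree r ≫ _
  rw [← Category.assoc, ιFree_freeMap]
  exact Sigma.ι_desc _ (Sum.inr r)

lemma sum_hom_ext_zero {I₁ I₂ : Type u} {N : SheafOfModules.{u} R} (k : free (I₁ ⊕ I₂) ⟶ N)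
    (h1 : freeMap (R := R) (Sum.inl : I₁ → I₁ ⊕ I₂) ≫ k = 0)
    (h2 : freeMap (R := R) (Sum.inr : I₂ → I₁ ⊕ I₂) ≫ k = 0) : k = 0 := by
  apply Sigma.hom_ext
  intro r
  change ιFree r ≫ _ = ιFree r ≫ _
  rw [comp_zero]
  rcases r with r | r
  · rw [← ιFree_freeMap (R := R) (Sum.inl : I₁ → I₁ ⊕ I₂) r, Category.assoc, h1, comp_zero]
  · rw [← ιFree_freeMap (R := R) (Sum.inr : I₂ → I₁ ⊕ I₂) r, Category.assoc, h2, comp_zero]

end sumfree


section cokerFP

variable {C : Type u} [SmallCategory C] {J : GrothendieckTopology C} {O : Sheaf J CommRingCat.{u}}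

instance preservesHomology_restr (W : C) : (ModSite.restr O W).PreservesHomology :=
  haveI := preservesFiniteLimits_restr O W
  haveI := preservesFiniteColimits_restr O W
  inferInstance

lemma IsCok.restr {M N Q : ModSite.Mod O} {a : M ⟶ N} {q : N ⟶ Q} (h : IsCok a q) (W : C) :
    IsCok ((ModSite.restr O W).map a) ((ModSite.restr O W).map q) :=
  haveI := h.epi
  h.map (ModSite.restr O W) (epi_restr_map O W q)

theorem locFinPres_cokernel {G F : ModSite.Mod O} (φ : G ⟶ F) (hG : LocFinGen G)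
    (hF : LocFinPres F) : LocFinPres (cokernel φ) := by
  intro V
  obtain ⟨R₁, hR₁, hg₁⟩ := hG V
  obtain ⟨R₂, hR₂, hg₂⟩ := hF V
  refine locally_of_locally (J.intersection_covering hR₁ hR₂) ?_
  intro W g hg
  obtain ⟨I, hI, s, hs⟩ := hg₁ g hg.1
  obtain ⟨Ig, Ir, hIg, hIr, p, A, hA⟩ := hg₂ g hg.2
  haveI := Fintype.ofFinite Ig
  obtain ⟨T, hT, hTf⟩ := GenBy.exists_local_factor (show GenBy F W p from hA.epi)
    (fun j => ev φ W (s j))
  refine ⟨T, hT, ?_⟩
  intro W' h hh
  obtain ⟨μ, hμ⟩ := hTf h hh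
  have hγ : Epi (genHom G W' (fun j => res G h (s j))) := hs.restrict h
  have hA' := hA.restrict h
  have hq : IsCok ((ModSite.restr O W').map φ) ((ModSite.restr O W').map (cokernel.π φ)) :=
    (IsCok.cokernel φ).restr W'
  have hμ' : μ ≫ genHom F W' (fun k => res F h (p k)) =
      genHom G W' (fun j => res G h (s j)) ≫ (ModSite.restr O W').map φ := by
    rw [hμ, genHom_comp]
    congr 1
    funext j
    exact (ev_naturality φ h (s j)).symm
  have key := IsCok.comp hA' hq (genHom G W' (fun j => res G h (s j))) μ hμ'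
    (sumDesc (resRel h A) μ) (SheafOfModules.freeMap Sum.inl) (SheafOfModules.freeMap Sum.inr)
    (inl_sumDesc _ _) (inr_sumDesc _ _) (fun N k h1 h2 => sum_hom_ext_zero k h1 h2)
  rw [genHom_comp] at key
  exact ⟨Ig, Ir ⊕ I, hIg, inferInstance, _, _, key⟩

theorem isFinitePresentation_cokernel {G F : ModSite.Mod O} (φ : G ⟶ F)
    [SheafOfModules.IsFiniteType (R := ModSite.ringSh O) G]
    [SheafOfModules.IsFinitePresentation (R := ModSite.ringSh O) F] :
    SheafOfModules.IsFinitePresentation (R := ModSite.ringSh O) (cokernel φ) :=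
  isFinitePresentation_of_locFinPres _ (locFinPres_cokernel φ
    (locFinGen_of_isFiniteType _) (locFinPres_of_isFinitePresentation _))

end cokerFP

end Groth.Agent.Lib.Helper4.FinPres
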