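import Mathlib
import Groth.Prelude.Def_ModSite2
import Groth.Prelude.Def_ExtSupp
import Groth.Agent.Lib.Helper4.FinPres
import Groth.Agent.Lib.Helper4.ColimLemmas
import Groth.Agent.Lib.Helper3.SHomEx
import Groth.Agent.Lib.Helper3.ModGroth
import Groth.Agent.Lib.Helper4.ExtSuppSS1

/-!
# Internal hom out of a finitely presented module commutes with filtered colimits: functoriality and additivity of sheafHomMap, left exactness on cokernel pairs, local-to-global criterion for isomorphisms, restriction commutes with internal hom (helper4)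
-/

set_option backward.isDefEq.respectTransparency.types false
set_option synthInstance.maxHeartbeats 400000
set_option autoImplicit false
set_option linter.unusedSectionVars false
set_option linter.style.haveILetI false
set_option linter.unusedSimpArgs false
universe u v w
open CategoryTheory CategoryTheory.Limits Opposite

namespace Groth.Agent.Lib.Helper4.SheafHomColim

open Groth.Agent.Lib.Helper4.PureTensor Groth.Agent.Lib.Helper4.EqCrit
  Groth.Agent.Lib.Helper4.OverMapPres Groth.Agent.Lib.Helper4.QSLocal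
  Groth.Agent.Lib.Helper4.LocalLiftFree Groth.Agent.Lib.Helper5.RestrExact
  Groth.Agent.Lib.Helper4.FinGen Groth.Agent.Lib.Helper4.EqCritConv
  Groth.Agent.Lib.Helper4.FinPres Groth.Agent.Lib.Helper4.ColimLemmas
  Groth.Agent.Helper3.SHomEx

variable {C : Type u} [SmallCategory C] {J : GrothendieckTopology C} {O : Sheaf J CommRingCat.{u}}

section functoriality

/-- every module has an internal hom (as an instance) -/
instance hasSheafHom' (F : ModSite.Mod O) : ModSite.HasSheafHom F := hasSheafHom F

lemma sheafHomMap_id (M : ModSite.Mod O) : ExtSupp.sheafHomMap (𝟙 M) = 𝟙 (ModSite.sheafHom M) := by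
  unfold ExtSupp.sheafHomMap
  rw [CategoryTheory.Functor.map_id]
  exact conjugateEquiv_id _

lemma sheafHomMap_comp {M M' M'' : ModSite.Mod O} (g : M'' ⟶ M') (g' : M' ⟶ M) :
    ExtSupp.sheafHomMap (g ≫ g') = ExtSupp.sheafHomMap g' ≫ ExtSupp.sheafHomMap g := by
  unfold ExtSupp.sheafHomMap
  rw [CategoryTheory.Functor.map_comp]
  exact (conjugateEquiv_comp _ _ _ _ _).symm

/-- natural transformations out of `ℋom(M, -)` are determined by their effect on adjoint maps -/
lemma sheafHom_natTrans_ext {M : ModSite.Mod O} {K : ModSite.Mod O ⥤ ModSite.Mod O}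
    {X Y : ModSite.sheafHom M ⟶ K}
    (h : ∀ (N Q : ModSite.Mod O) (k : ((ModSite.tensorBi O).flip.obj M).obj N ⟶ Q),
      (ModSite.sheafHomAdj M).homEquiv N Q k ≫ X.app Q =
        (ModSite.sheafHomAdj M).homEquiv N Q k ≫ Y.app Q) : X = Y := by
  apply NatTrans.ext
  funext Q
  have := h ((ModSite.sheafHom M).obj Q) Q
    (((ModSite.sheafHomAdj M).homEquiv _ Q).symm (𝟙 _))
  rw [Equiv.apply_symm_apply, Category.id_comp, Category.id_comp] at this
  exact this

lemma homEquiv_add' {M : ModSite.Mod O} (N Q : ModSite.Mod O)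
    (k k' : ((ModSite.tensorBi O).flip.obj M).obj N ⟶ Q) :
    (ModSite.sheafHomAdj M).homEquiv N Q (k + k') =
      (ModSite.sheafHomAdj M).homEquiv N Q k + (ModSite.sheafHomAdj M).homEquiv N Q k' := by
  haveI : (ModSite.sheafHom M).Additive := (ModSite.sheafHomAdj M).right_adjoint_additive
  rw [Adjunction.homEquiv_unit, Adjunction.homEquiv_unit, Adjunction.homEquiv_unit,
    Functor.map_add, Preadditive.comp_add]

lemma sheafHomMap_add {M M' : ModSite.Mod O} (g g' : M' ⟶ M) :
    ExtSupp.sheafHomMap (g + g') = ExtSupp.sheafHomMap g + ExtSupp.sheafHomMap g' := by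
  apply sheafHom_natTrans_ext
  intro N Q k
  rw [homEquiv_sheafHomMap, NatTrans.app_add, Preadditive.comp_add, homEquiv_sheafHomMap,
    homEquiv_sheafHomMap, Functor.map_add, Preadditive.add_comp, homEquiv_add']

lemma sheafHomMap_zero {M M' : ModSite.Mod O} :
    ExtSupp.sheafHomMap (0 : M' ⟶ M) = 0 := by
  apply sheafHom_natTrans_ext
  intro N Q k
  rw [homEquiv_sheafHomMap, NatTrans.app_zero, comp_zero, Functor.map_zero, zero_comp,
    homEquiv_zero']

lemma sheafHomMap_sum {M M' : ModSite.Mod O} {ι : Type*} (s : Finset ι) (g : ι → (M' ⟶ M)) :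
    ExtSupp.sheafHomMap (∑ i ∈ s, g i) = ∑ i ∈ s, ExtSupp.sheafHomMap (g i) := by
  classical
  induction s using Finset.induction_on with
  | empty => simp only [Finset.sum_empty]; exact sheafHomMap_zero
  | insert a s ha ih => rw [Finset.sum_insert ha, Finset.sum_insert ha, sheafHomMap_add, ih]

end functoriality


section free

variable {Λ : Type u} [SmallCategory Λ] (D : Λ ⥤ ModSite.Mod O)

open Groth.Agent.Lib.Helper4.ExtSuppSS1 in
instance preservesColimit_sheafHom_unit : PreservesColimit D (ModSite.sheafHom (ModSite.unit O)) :=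
  preservesColimit_of_natIso D (sheafHomUnitIso O).symm

theorem preservesColimit_sheafHom_free (I : Type u) [Fintype I] :
    PreservesColimit D (ModSite.sheafHom (SheafOfModules.free (R := ModSite.ringSh O) I)) := by
  refine preservesColimit_of_sum_retract D
    (ModSite.sheafHom (SheafOfModules.free (R := ModSite.ringSh O) I))
    (fun _ : I => ModSite.sheafHom (ModSite.unit O))
    (fun i => ExtSupp.sheafHomMap (SheafOfModules.ιFree i))
    (fun i => ExtSupp.sheafHomMap (πFree (R := ModSite.ringSh O) i)) ?_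
  have h : ∀ i : I, ExtSupp.sheafHomMap (SheafOfModules.ιFree (R := ModSite.ringSh O) i) ≫
      ExtSupp.sheafHomMap (πFree (R := ModSite.ringSh O) i) =
      ExtSupp.sheafHomMap (πFree (R := ModSite.ringSh O) i ≫ SheafOfModules.ιFree i) :=
    fun i => (sheafHomMap_comp _ _).symm
  rw [Finset.sum_congr rfl (fun i _ => h i), ← sheafHomMap_sum, sum_πFree_ιFree, sheafHomMap_id]

end free


section leftExact

variable {P₁ P₀ M : ModSite.Mod O} {A : P₁ ⟶ P₀} {π : P₀ ⟶ M}

lemma isCok_map_of_preservesFiniteColimits {𝒜 ℬ : Type*} [Category 𝒜] [Abelian 𝒜] [Category ℬ]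
    [Abelian ℬ] {X Y Q : 𝒜} {A : X ⟶ Y} {π : Y ⟶ Q} (h : IsCok A π) (G : 𝒜 ⥤ ℬ)
    [G.PreservesZeroMorphisms] [PreservesFiniteColimits G] : IsCok (G.map A) (G.map π) := by
  have hz : G.map A ≫ G.map π = 0 := by rw [← G.map_comp, h.zero, G.map_zero]
  exact IsCok.of_isColimit hz (CokernelCofork.mapIsColimit _ h.isColimit G)

lemma tensor_isCok (h : IsCok A π) (N : ModSite.Mod O) :
    IsCok (((ModSite.tensorBi O).obj N).map A) (((ModSite.tensorBi O).obj N).map π) :=
  isCok_map_of_preservesFiniteColimits h ((ModSite.tensorBi O).obj N)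

lemma sheafHomMap_cok_zero (h : IsCok A π) (Q : ModSite.Mod O) :
    (ExtSupp.sheafHomMap π).app Q ≫ (ExtSupp.sheafHomMap A).app Q = 0 := by
  rw [← NatTrans.comp_app, ← sheafHomMap_comp, h.zero, sheafHomMap_zero]
  rfl

lemma sheafHomMap_cok_mono (h : IsCok A π) (Q : ModSite.Mod O) :
    Mono ((ExtSupp.sheafHomMap π).app Q) := by
  apply Preadditive.mono_of_cancel_zero
  intro N x hx
  obtain ⟨k, rfl⟩ := ((ModSite.sheafHomAdj M).homEquiv N Q).surjective x
  rw [homEquiv_sheafHomMap] at hx
  have hk : ((ModSite.tensorBi O).obj N).map π ≫ k = 0 := by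
    apply ((ModSite.sheafHomAdj P₀).homEquiv N Q).injective
    rw [hx, homEquiv_zero']
  haveI := (tensor_isCok h N).epi
  have : k = 0 := by
    rw [← cancel_epi (((ModSite.tensorBi O).obj N).map π), hk, comp_zero]
  rw [this, homEquiv_zero']

lemma sheafHomMap_cok_exact (h : IsCok A π) (Q : ModSite.Mod O) :
    (ShortComplex.mk _ _ (sheafHomMap_cok_zero h Q)).Exact := by
  rw [ShortComplex.exact_iff_exact_up_to_refinements]
  intro N x₂ hx₂
  dsimp at x₂ hx₂ ⊢
  obtain ⟨k, rfl⟩ := ((ModSite.sheafHomAdj P₀).homEquiv N Q).surjective x₂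
  rw [homEquiv_sheafHomMap] at hx₂
  have hk : ((ModSite.tensorBi O).obj N).map A ≫ k = 0 := by
    apply ((ModSite.sheafHomAdj P₁).homEquiv N Q).injective
    rw [hx₂, homEquiv_zero']
  obtain ⟨k', hk'⟩ := (tensor_isCok h N).desc k hk
  refine ⟨N, 𝟙 N, inferInstance, (ModSite.sheafHomAdj M).homEquiv N Q k', ?_⟩
  rw [Category.id_comp, homEquiv_sheafHomMap]
  congr 1
  exact hk'.symm

end leftExact


section globalFP

variable {Λ : Type u} [SmallCategory Λ] [IsFiltered Λ] (D : Λ ⥤ ModSite.Mod O)

open Groth.Agent.Helper3.ModGroth in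
instance hasExactColimitsOfShape_mod : HasExactColimitsOfShape Λ (ModSite.Mod O) :=
  haveI : IsGrothendieckAbelian.{u} (ModSite.Mod O) :=
    isGrothendieckAbelian J (ModSite.ringSh O)
  inferInstance

theorem preservesColimit_sheafHom_of_isCok {Ir Ig : Type u} [Finite Ir] [Finite Ig]
    {M : ModSite.Mod O}
    {A : SheafOfModules.free (R := ModSite.ringSh O) Ir ⟶
      SheafOfModules.free (R := ModSite.ringSh O) Ig}
    {π : SheafOfModules.free (R := ModSite.ringSh O) Ig ⟶ M} (h : IsCok A π) :
    PreservesColimit D (ModSite.sheafHom M) := by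
  haveI := Fintype.ofFinite Ir
  haveI := Fintype.ofFinite Ig
  haveI := preservesColimit_sheafHom_free D Ir
  haveI := preservesColimit_sheafHom_free D Ig
  exact preservesColimit_of_kernel D (ExtSupp.sheafHomMap π) (ExtSupp.sheafHomMap A)
    (fun Q => sheafHomMap_cok_zero h Q) (fun Q => sheafHomMap_cok_mono h Q)
    (fun Q => sheafHomMap_cok_exact h Q)

end globalFP


section localIso

open Groth.Agent.Lib.Helper4.QSLocal2

lemma epi_of_locally_surjective_sections {M N : ModSite.Mod O} (φ : M ⟶ N)
    (h : ∀ (V : C) (s : ModSite.sect N V), ∃ R ∈ J V, ∀ ⦃W : C⦄ (g : W ⟶ V), R g →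
      ∃ t : ModSite.sect M W, (φ.val.app (op W)).hom t = (N.val.map g.op).hom s) :
    Epi φ := by
  haveI : (SheafOfModules.toSheaf.{u} (ModSite.ringSh O)).Faithful := inferInstance
  apply (SheafOfModules.toSheaf.{u} (ModSite.ringSh O)).epi_of_epi_map
  rw [← Sheaf.isLocallySurjective_iff_epi' AddCommGrpCat.{u}]
  constructor
  intro V s
  obtain ⟨R, hR, hl⟩ := h V s
  refine J.superset_covering ?_ hR
  intro W g hg
  obtain ⟨t, ht⟩ := hl g hg
  exact ⟨t, ht⟩

/-- sections of `M|_W` over the terminal object -/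
lemma isIso_restr_sections {M N : ModSite.Mod O} (f : M ⟶ N) (W : C)
    (hf : IsIso ((ModSite.restr O W).map f)) :
    Function.Bijective (f.val.app (op W)).hom := by
  have h1 : IsIso (((ModSite.restr O W).map f).val.app (op (T₀ W))) := by
    have := (SheafOfModules.forget _ ⋙ PresheafOfModules.evaluation _ (op (T₀ W))).map_isIso
      ((ModSite.restr O W).map f)
    exact this
  haveI := h1
  have h3 := ConcreteCategory.bijective_of_isIso
    (((ModSite.restr O W).map f).val.app (op (T₀ W)))
  exact h3

/-- a morphism which is locally an isomorphism is an isomorphism -/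
theorem isIso_of_locally_isIso {M N : ModSite.Mod O} (f : M ⟶ N)
    (h : ∀ V : C, ∃ R ∈ J V, ∀ ⦃W : C⦄ (g : W ⟶ V), R g → IsIso ((ModSite.restr O W).map f)) :
    IsIso f := by
  haveI : Mono f := by
    apply mono_of_injective_sections
    intro V a ha
    obtain ⟨R, hR, hiso⟩ := h V
    refine mod_ext M hR (x := a) (y := 0) ?_
    intro W g hg
    have hb := isIso_restr_sections f W (hiso g hg)
    have e1 : (f.val.app (op W)).hom (M.val.map g.op a) = 0 :=
      (ev_naturality f g a).trans (by rw [show ev f V a = 0 from ha]; exact map_zero _)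
    have e2 : M.val.map g.op (0 : ModSite.sect M V) = 0 := map_zero _
    rw [e2]
    apply hb.1
    rw [e1]
    exact (map_zero _).symm
  haveI : Epi f := by
    apply epi_of_locally_surjective_sections
    intro V s
    obtain ⟨R, hR, hiso⟩ := h V
    refine ⟨R, hR, ?_⟩
    intro W g hg
    exact (isIso_restr_sections f W (hiso g hg)).2 _
  exact isIso_of_mono_of_epi f

end localIso


section assembly

open Groth.Agent.Lib.Helper5

/-- The projection formula as a natural isomorphism in the first variable. -/
noncomputable def projNatIso' (X : C) (M : ModSite.Mod O) :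
    (ModSite.tensorBi (O.over X)).flip.obj ((ModSite.restr O X).obj M) ⋙ ModSite.extZero O X ≅
      ModSite.extZero O X ⋙ (ModSite.tensorBi O).flip.obj M :=
  NatIso.ofComponents (fun G => ShriekSheaf.projIso G M) (by
    intro G G' α
    exact ShriekSheaf.projIso_naturality_left α M)

/-- restriction commutes with the internal hom -/
noncomputable def restrSheafHomIso (X : C) (M : ModSite.Mod O) :
    ModSite.sheafHom M ⋙ ModSite.restr O X ≅
      ModSite.restr O X ⋙ ModSite.sheafHom ((ModSite.restr O X).obj M) :=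
  conjugateIsoEquiv ((ModSite.extZeroAdj O X).comp (ModSite.sheafHomAdj M))
    ((ModSite.sheafHomAdj ((ModSite.restr O X).obj M)).comp (ModSite.extZeroAdj O X))
    (projNatIso' X M)

variable {Λ : Type u} [SmallCategory Λ] [IsFiltered Λ] (D : Λ ⥤ ModSite.Mod O)

theorem preservesColimit_sheafHom_of_locFinPres (F : ModSite.Mod O) (hF : LocFinPres F) :
    PreservesColimit D (ModSite.sheafHom F) := by
  haveI : IsIso (colimit.post D (ModSite.sheafHom F)) := by
    apply isIso_of_locally_isIso
    intro V
    obtain ⟨R, hR, hfp⟩ := hF V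
    refine ⟨R, hR, ?_⟩
    intro W g hg
    obtain ⟨Ig, Ir, hIg, hIr, p, A, hA⟩ := hfp g hg
    haveI : PreservesColimit (D ⋙ ModSite.restr O W)
        (ModSite.sheafHom ((ModSite.restr O W).obj F)) :=
      preservesColimit_sheafHom_of_isCok (O := O.over W) (D ⋙ ModSite.restr O W) hA
    haveI : PreservesColimit D (ModSite.restr O W ⋙
        ModSite.sheafHom ((ModSite.restr O W).obj F)) := inferInstance
    haveI : PreservesColimit D (ModSite.sheafHom F ⋙ ModSite.restr O W) :=
      preservesColimit_of_natIso D (restrSheafHomIso W F).symm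
    exact isIso_map_post D (ModSite.sheafHom F) (ModSite.restr O W)
  exact preservesColimit_of_isIso_post _ _

theorem main (F : ModSite.Mod O) [ModSite.HasSheafHom F]
    [SheafOfModules.IsFinitePresentation (R := ModSite.ringSh O) F] :
    PreservesColimit D (ModSite.sheafHom F) :=
  preservesColimit_sheafHom_of_locFinPres D F (locFinPres_of_isFinitePresentation F)

end assembly

end Groth.Agent.Lib.Helper4.SheafHomColim
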