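import Mathlib
import Groth.Prelude.Def_ModSite2
import Groth.Agent.Lib.Helper4.SheafHomColim
import Groth.Agent.Lib.Helper5.Misc.TensorOver
import Groth.Agent.Lib.Helper5.Misc.TensorSES

/-!
# Tensor products of sheaves of modules: tensor of morphisms, free I tensor free K is free, presentation of a tensor product of cokernels (helper4)
-/

set_option backward.isDefEq.respectTransparency.types false
set_option synthInstance.maxHeartbeats 400000
set_option autoImplicit false
set_option linter.unusedSectionVars false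
set_option linter.style.haveILetI false
set_option linter.unusedSimpArgs false
universe u v w
open CategoryTheory CategoryTheory.Limits Opposite

namespace Groth.Agent.Lib.Helper4.TensorFree

open Groth.Agent.Lib.Helper4.PureTensor Groth.Agent.Lib.Helper4.EqCrit
  Groth.Agent.Lib.Helper4.OverMapPres Groth.Agent.Lib.Helper4.QSLocal
  Groth.Agent.Lib.Helper4.LocalLiftFree Groth.Agent.Lib.Helper5.RestrExact
  Groth.Agent.Lib.Helper4.FinGen Groth.Agent.Lib.Helper4.EqCritConv
  Groth.Agent.Lib.Helper4.FinPres Groth.Agent.Lib.Helper4.ColimLemmas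
  Groth.Agent.Helper3.SHomEx Groth.Agent.Lib.Helper4.SheafHomColim
  Groth.Agent.Lib.Helper5

variable {C : Type u} [SmallCategory C] {J : GrothendieckTopology C} {O : Sheaf J CommRingCat.{u}}

section tensorFunctors

/-- `- ⊗ N` -/
noncomputable abbrev tR' (N : ModSite.Mod O) : ModSite.Mod O ⥤ ModSite.Mod O :=
  (ModSite.tensorBi O).flip.obj N

/-- `M ⊗ -` -/
noncomputable abbrev tL' (M : ModSite.Mod O) : ModSite.Mod O ⥤ ModSite.Mod O :=
  (ModSite.tensorBi O).obj M

instance (N : ModSite.Mod O) : PreservesColimitsOfSize.{u, u} (tR' N) :=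
  (ModSite.sheafHomAdj N).leftAdjoint_preservesColimits

instance (M : ModSite.Mod O) : PreservesColimitsOfSize.{u, u} (tL' M) :=
  preservesColimits_of_natIso (TensorSES.objIsoFlipObj M).symm

/-- `f ⊗ g` -/
noncomputable def tHom {M M' N N' : ModSite.Mod O} (f : M ⟶ M') (g : N ⟶ N') :
    tens M N ⟶ tens M' N' :=
  (tL' M).map g ≫ (tR' N').map f

lemma tHom_eq' {M M' N N' : ModSite.Mod O} (f : M ⟶ M') (g : N ⟶ N') :
    tHom f g = (tR' N).map f ≫ (tL' M').map g := by
  unfold tHom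
  exact ((ModSite.tensorBi O).map f).naturality g

lemma tHom_comp {M M' M'' N N' N'' : ModSite.Mod O} (f : M ⟶ M') (f' : M' ⟶ M'') (g : N ⟶ N')
    (g' : N' ⟶ N'') : tHom (f ≫ f') (g ≫ g') = tHom f g ≫ tHom f' g' := by
  unfold tHom
  rw [Functor.map_comp, Functor.map_comp, Category.assoc, Category.assoc]
  congr 1
  rw [← Category.assoc, ← Category.assoc]
  congr 1
  exact ((ModSite.tensorBi O).map f).naturality g'

lemma tHom_id (M N : ModSite.Mod O) : tHom (𝟙 M) (𝟙 N) = 𝟙 (tens M N) := by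
  unfold tHom
  rw [CategoryTheory.Functor.map_id, CategoryTheory.Functor.map_id]
  exact Category.comp_id _

instance {M M' N N' : ModSite.Mod O} (f : M ⟶ M') (g : N ⟶ N') [IsIso f] [IsIso g] :
    IsIso (tHom f g) := by
  unfold tHom
  infer_instance

instance epi_tHom {M M' N N' : ModSite.Mod O} (f : M ⟶ M') (g : N ⟶ N') [Epi f] [Epi g] :
    Epi (tHom f g) := by
  unfold tHom
  haveI : Epi ((tL' M).map g) := inferInstance
  haveI : Epi ((tR' N').map f) := inferInstance
  exact epi_comp _ _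

end tensorFunctors


section freeTensor

open SheafOfModules

/-- `free I ⊗ free K ≅ free (Σ _ : I, K)` -/
noncomputable def freeTensorIso (I K : Type u) :
    tens (free (R := ModSite.ringSh O) I) (free (R := ModSite.ringSh O) K) ≅
      free (R := ModSite.ringSh O) (Σ _ : I, K) :=
  (PreservesCoproduct.iso (tR' (free (R := ModSite.ringSh O) K))
    (fun _ : I => unit (ModSite.ringSh O))) ≪≫
  Sigma.mapIso (fun _ : I => lam (free (R := ModSite.ringSh O) K)) ≪≫
  @sigmaSigmaIso (ModSite.Mod O) _ I (fun _ => K)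
    (fun _ _ => (unit (ModSite.ringSh O) : ModSite.Mod O))
    (fun _ => (inferInstance :
      HasCoproduct (fun _ : K => (unit (ModSite.ringSh O) : ModSite.Mod O)))) inferInstance

end freeTensor


section tensorCok

lemma isCok_of_desc {𝒜 : Type*} [Category 𝒜] [Abelian 𝒜] {X Y Q : 𝒜} {A : X ⟶ Y} {π : Y ⟶ Q}
    (hz : A ≫ π = 0) (hepi : Epi π)
    (hd : ∀ {N : 𝒜} (k : Y ⟶ N), A ≫ k = 0 → ∃ k' : Q ⟶ N, π ≫ k' = k) : IsCok A π :=
  IsCok.of_isColimit hz (CokernelCofork.IsColimit.ofπ π hz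
    (fun k hk => (hd k hk).choose) (fun k hk => (hd k hk).choose_spec)
    (fun k hk m hm => by
      rw [← cancel_epi π, hm]
      exact (hd k hk).choose_spec.symm))

instance (N : ModSite.Mod O) : (tR' N).Additive :=
  (ModSite.sheafHomAdj N).left_adjoint_additive

lemma tHom_zero_left {M M' N N' : ModSite.Mod O} (g : N ⟶ N') :
    tHom (0 : M ⟶ M') g = 0 := by
  unfold tHom
  rw [Functor.map_zero, comp_zero]

lemma tHom_zero_right {M M' N N' : ModSite.Mod O} (f : M ⟶ M') :
    tHom f (0 : N ⟶ N') = 0 := by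
  unfold tHom
  rw [Functor.map_zero, zero_comp]

lemma tHom_id_right {M M' : ModSite.Mod O} (f : M ⟶ M') (N : ModSite.Mod O) :
    tHom f (𝟙 N) = (tR' N).map f := by
  unfold tHom
  rw [CategoryTheory.Functor.map_id]
  exact Category.id_comp _

lemma tHom_id_left (M : ModSite.Mod O) {N N' : ModSite.Mod O} (g : N ⟶ N') :
    tHom (𝟙 M) g = (tL' M).map g := by
  unfold tHom
  rw [CategoryTheory.Functor.map_id]
  exact Category.comp_id _

/-- presentation of a tensor product -/
lemma isCok_tensor {P₁ P M Q₁ Q N T T₁ T₂ : ModSite.Mod O} {A : P₁ ⟶ P} {a : P ⟶ M}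
    (hA : IsCok A a) {B : Q₁ ⟶ Q} {b : Q ⟶ N} (hB : IsCok B b)
    (e₁ : T₁ ⟶ tens P₁ Q) [Epi e₁] (e₂ : T₂ ⟶ tens P Q₁) [Epi e₂]
    (R : T ⟶ tens P Q) (i₁ : T₁ ⟶ T) (i₂ : T₂ ⟶ T)
    (h₁ : i₁ ≫ R = e₁ ≫ tHom A (𝟙 Q)) (h₂ : i₂ ≫ R = e₂ ≫ tHom (𝟙 P) B)
    (hT : ∀ ⦃Z : ModSite.Mod O⦄ (k : T ⟶ Z), i₁ ≫ k = 0 → i₂ ≫ k = 0 → k = 0) :
    IsCok R (tHom a b) := by
  haveI := hA.epi
  haveI := hB.epi
  have hz : R ≫ tHom a b = 0 := by
    apply hT
    · rw [← Category.assoc, h₁, Category.assoc, ← tHom_comp, hA.zero, tHom_zero_left, comp_zero]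
    · rw [← Category.assoc, h₂, Category.assoc, ← tHom_comp, hB.zero, tHom_zero_right, comp_zero]
  refine isCok_of_desc hz inferInstance ?_
  intro Z k hk
  have hk₁ : (tR' Q).map A ≫ k = 0 := by
    rw [← tHom_id_right, ← cancel_epi e₁, ← Category.assoc, ← h₁, Category.assoc, hk, comp_zero,
      comp_zero]
  have hk₂ : (tL' P).map B ≫ k = 0 := by
    rw [← tHom_id_left, ← cancel_epi e₂, ← Category.assoc, ← h₂, Category.assoc, hk, comp_zero,
      comp_zero]
  obtain ⟨k₁, hk₁'⟩ := (isCok_map_of_preservesFiniteColimits hA (tR' Q)).desc k hk₁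
  have hk₃ : (tL' M).map B ≫ k₁ = 0 := by
    haveI : Epi ((tR' Q₁).map a) := inferInstance
    rw [← cancel_epi ((tR' Q₁).map a), comp_zero, ← Category.assoc]
    have nat : (tR' Q₁).map a ≫ (tL' M).map B = (tL' P).map B ≫ (tR' Q).map a :=
      (((ModSite.tensorBi O).map a).naturality B).symm
    rw [nat, Category.assoc, hk₁', hk₂]
  obtain ⟨k₂, hk₂'⟩ := (isCok_map_of_preservesFiniteColimits hB (tL' M)).desc k₁ hk₃
  refine ⟨k₂, ?_⟩
  rw [tHom_eq', Category.assoc, hk₂', hk₁']

end tensorCok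

end Groth.Agent.Lib.Helper4.TensorFree
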