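import Mathlib
import Groth.Prelude.Def_ModSite2
import Groth.Agent.Lib.Helper4.TensorFree

/-!
# Permanence of local generation, finite type, quasi-coherence, finite presentation and local freeness under tensor products (sites); local criteria for local generation, quasi-coherence and local freeness (helper4)
-/

set_option backward.isDefEq.respectTransparency.types false
set_option synthInstance.maxHeartbeats 400000
set_option autoImplicit false
set_option linter.unusedSectionVars false
set_option linter.style.haveILetI false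
set_option linter.unusedSimpArgs false
universe u v w
open CategoryTheory CategoryTheory.Limits Opposite

namespace Groth.Agent.Lib.Helper4.TensorPerm

open Groth.Agent.Lib.Helper4.PureTensor Groth.Agent.Lib.Helper4.EqCrit
  Groth.Agent.Lib.Helper4.OverMapPres Groth.Agent.Lib.Helper4.QSLocal
  Groth.Agent.Lib.Helper4.LocalLiftFree Groth.Agent.Lib.Helper5.RestrExact
  Groth.Agent.Lib.Helper4.FinGen Groth.Agent.Lib.Helper4.EqCritConv
  Groth.Agent.Lib.Helper4.FinPres Groth.Agent.Lib.Helper4.ColimLemmas
  Groth.Agent.Helper3.SHomEx Groth.Agent.Lib.Helper4.SheafHomColim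
  Groth.Agent.Lib.Helper5 Groth.Agent.Lib.Helper4.TensorFree

variable {C : Type u} [SmallCategory C] {J : GrothendieckTopology C} {O : Sheaf J CommRingCat.{u}}

section defs

/-- `M` is generated over `W` by a family of sections -/
def GenOn (M : ModSite.Mod O) (W : C) : Prop :=
  ∃ (I : Type u) (s : I → ModSite.sect M W), GenBy M W s

/-- `M` is free over `W` -/
def FreeOn (M : ModSite.Mod O) (W : C) : Prop :=
  ∃ (I : Type u) (s : I → ModSite.sect M W), IsIso (genHom M W s)

/-- `M` has a presentation over `W` -/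
def PresOn (M : ModSite.Mod O) (W : C) : Prop :=
  ∃ (Ig Ir : Type u) (p : Ig → ModSite.sect M W)
    (A : SheafOfModules.free (R := ModSite.ringSh (O.over W)) Ir ⟶
      SheafOfModules.free (R := ModSite.ringSh (O.over W)) Ig), IsCok A (genHom M W p)

lemma GenOn.restrict {M : ModSite.Mod O} {V : C} (h : GenOn M V) {W : C} (g : W ⟶ V) :
    GenOn M W := by
  obtain ⟨I, s, hs⟩ := h
  exact ⟨I, _, hs.restrict g⟩

lemma isIso_genHom_restrict {M : ModSite.Mod O} {V : C} {I : Type u} {s : I → ModSite.sect M V}
    (h : IsIso (genHom M V s)) {W : C} (g : W ⟶ V) :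
    IsIso (genHom M W (fun j => M.val.map g.op (s j))) := by
  rw [← GO_map_genHom g M s]
  haveI := h
  haveI : IsIso ((GO O g).map (genHom M V s)) := Functor.map_isIso _ _
  infer_instance

lemma FreeOn.restrict {M : ModSite.Mod O} {V : C} (h : FreeOn M V) {W : C} (g : W ⟶ V) :
    FreeOn M W := by
  obtain ⟨I, s, hs⟩ := h
  exact ⟨I, _, isIso_genHom_restrict hs g⟩

lemma PresOn.restrict {M : ModSite.Mod O} {V : C} (h : PresOn M V) {W : C} (g : W ⟶ V) :
    PresOn M W := by
  obtain ⟨Ig, Ir, p, A, hA⟩ := h
  exact ⟨Ig, Ir, _, _, hA.restrict g⟩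

/-- a property of modules over objects holds locally -/
def Loc (P : ModSite.Mod O → C → Prop) (M : ModSite.Mod O) : Prop :=
  ∀ V : C, ∃ R ∈ J V, ∀ ⦃W : C⦄ (g : W ⟶ V), R g → P M W

end defs


section conv

/-- generating sections from a family of generating sections over `W` -/
noncomputable def genSecOf (M : ModSite.Mod O) (W : C) (I : Type u) (s : I → ModSite.sect M W)
    (hs : GenBy M W s) :
    SheafOfModules.GeneratingSections (R := ModSite.ringSh (O.over W))
      ((ModSite.restr O W).obj M) where
  I := I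
  s := SheafOfModules.freeHomEquiv _ (genHom M W s)
  epi := by
    rw [Equiv.symm_apply_apply]
    exact hs

lemma genSecOf_π (M : ModSite.Mod O) (W : C) (I : Type u) (s : I → ModSite.sect M W)
    (hs : GenBy M W s) : (genSecOf M W I s hs).π = genHom M W s :=
  Equiv.symm_apply_apply _ _

theorem loc_genOn_of_localGeneratorsData (M : ModSite.Mod O)
    (σ : SheafOfModules.LocalGeneratorsData.{u} (R := ModSite.ringSh O) M) : Loc GenOn M := by
  intro V
  refine ⟨Sieve.ofObjects σ.X V, σ.coversTop V, ?_⟩
  intro W g hg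
  obtain ⟨i, ⟨f⟩⟩ := hg
  have h1 : GenOn M (σ.X i) := by
    refine ⟨(σ.generators i).I, secOf M (σ.X i) (σ.generators i).π, ?_⟩
    unfold GenBy
    rw [← eq_genHom]
    exact (σ.generators i).epi
  exact h1.restrict f

/-- local generators data from local generation -/
noncomputable def locGenData' (M : ModSite.Mod O) (h : Loc GenOn M) :
    SheafOfModules.LocalGeneratorsData.{u} (R := ModSite.ringSh O) M where
  I := {W : C // GenOn M W}
  X := Subtype.val
  coversTop := fun V => J.superset_covering
    (fun W g hg => ⟨⟨W, (h V).choose_spec.2 g hg⟩, ⟨𝟙 W⟩⟩) (h V).choose_spec.1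
  generators := fun i => genSecOf M i.1 i.2.choose i.2.choose_spec.choose
    i.2.choose_spec.choose_spec

theorem nonempty_localGeneratorsData_iff (M : ModSite.Mod O) :
    Nonempty (SheafOfModules.LocalGeneratorsData.{u} (R := ModSite.ringSh O) M) ↔ Loc GenOn M :=
  ⟨fun ⟨σ⟩ => loc_genOn_of_localGeneratorsData M σ, fun h => ⟨locGenData' M h⟩⟩

/-- locally free -/
theorem loc_freeOn_of_isLocallyFree (M : ModSite.Mod O)
    [SheafOfModules.IsLocallyFree (R := ModSite.ringSh O) M] : Loc FreeOn M := by
  obtain ⟨σ, hσ⟩ := SheafOfModules.IsLocallyFree.exists_isLocallyFreeData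
    (R := ModSite.ringSh O) (M := M)
  intro V
  refine ⟨Sieve.ofObjects σ.X V, σ.coversTop V, ?_⟩
  intro W g hg
  obtain ⟨i, ⟨f⟩⟩ := hg
  have h1 : FreeOn M (σ.X i) := by
    refine ⟨(σ.generators i).I, secOf M (σ.X i) (σ.generators i).π, ?_⟩
    rw [← eq_genHom]
    exact hσ.isIso i
  exact h1.restrict f

/-- local generators data from local freeness -/
noncomputable def locFreeData (M : ModSite.Mod O) (h : Loc FreeOn M) :
    SheafOfModules.LocalGeneratorsData.{u} (R := ModSite.ringSh O) M where
  I := {W : C // FreeOn M W}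
  X := Subtype.val
  coversTop := fun V => J.superset_covering
    (fun W g hg => ⟨⟨W, (h V).choose_spec.2 g hg⟩, ⟨𝟙 W⟩⟩) (h V).choose_spec.1
  generators := fun i => genSecOf M i.1 i.2.choose i.2.choose_spec.choose (by
    haveI := i.2.choose_spec.choose_spec
    unfold GenBy
    infer_instance)

lemma locFreeData_isLocallyFreeData (M : ModSite.Mod O) (h : Loc FreeOn M) :
    @SheafOfModules.LocalGeneratorsData.IsLocallyFreeData C _ J (ModSite.ringSh O) _ _ M
      (locFreeData M h) :=
  @SheafOfModules.LocalGeneratorsData.IsLocallyFreeData.mk C _ J (ModSite.ringSh O) _ _ M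
    (locFreeData M h) (fun i => by
      have e : ((locFreeData M h).generators i).π =
          genHom M i.1 i.2.choose_spec.choose := Equiv.symm_apply_apply _ _
      exact Eq.mpr (congrArg (fun w => IsIso w) e) i.2.choose_spec.choose_spec)

theorem isLocallyFree_of_loc_freeOn (M : ModSite.Mod O) (h : Loc FreeOn M) :
    SheafOfModules.IsLocallyFree (R := ModSite.ringSh O) M :=
  @SheafOfModules.IsLocallyFree.mk C _ J (ModSite.ringSh O) _ _ M
    ⟨locFreeData M h, locFreeData_isLocallyFreeData M h⟩

/-- quasi-coherent -/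
theorem loc_presOn_of_isQuasicoherent (M : ModSite.Mod O)
    [SheafOfModules.IsQuasicoherent (R := ModSite.ringSh O) M] : Loc PresOn M := by
  obtain ⟨σ⟩ := SheafOfModules.IsQuasicoherent.nonempty_quasicoherentData
    (R := ModSite.ringSh O) (M := M)
  intro V
  refine ⟨Sieve.ofObjects σ.X V, σ.coversTop V, ?_⟩
  intro W g hg
  obtain ⟨i, ⟨f⟩⟩ := hg
  have h1 : PresOn M (σ.X i) := by
    refine ⟨(σ.presentation i).generators.I, (σ.presentation i).relations.I,
      secOf M (σ.X i) (pπ M (σ.X i) (σ.presentation i)), pA M (σ.X i) (σ.presentation i), ?_⟩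
    have hc : IsCok (pA M (σ.X i) (σ.presentation i)) (pπ M (σ.X i) (σ.presentation i)) :=
      IsCok.of_isColimit (pA_pπ M (σ.X i) (σ.presentation i)) (σ.presentation i).isColimit
    exact Eq.mp (congrArg (fun w => IsCok (pA M (σ.X i) (σ.presentation i)) w)
      (eq_genHom M (σ.X i) (pπ M (σ.X i) (σ.presentation i)))) hc
  exact h1.restrict f

/-- a presentation from a presentation by sections -/
noncomputable def presOf' (M : ModSite.Mod O) (W : C) (hM : PresOn M W) :
    SheafOfModules.Presentation (R := ModSite.ringSh (O.over W)) ((ModSite.restr O W).obj M) :=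
  SheafOfModules.presentationOfIsCokernelFree
    hM.choose_spec.choose_spec.choose_spec.choose
    (genHom M W hM.choose_spec.choose_spec.choose)
    hM.choose_spec.choose_spec.choose_spec.choose_spec.zero
    hM.choose_spec.choose_spec.choose_spec.choose_spec.isColimit

/-- quasi-coherent data from local presentations -/
noncomputable def locPresData' (M : ModSite.Mod O) (h : Loc PresOn M) :
    SheafOfModules.QuasicoherentData.{u} (R := ModSite.ringSh O) M where
  I := {W : C // PresOn M W}
  X := Subtype.val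
  coversTop := fun V => J.superset_covering
    (fun W g hg => ⟨⟨W, (h V).choose_spec.2 g hg⟩, ⟨𝟙 W⟩⟩) (h V).choose_spec.1
  presentation := fun i => presOf' M i.1 i.2

theorem isQuasicoherent_of_loc_presOn (M : ModSite.Mod O) (h : Loc PresOn M) :
    SheafOfModules.IsQuasicoherent (R := ModSite.ringSh O) M :=
  @SheafOfModules.IsQuasicoherent.mk C _ J (ModSite.ringSh O) _ _ M ⟨locPresData' M h⟩

end conv


section tensorLocal

open Groth.Agent.Lib.Helper5.TensorOver

variable (F G : ModSite.Mod O) (W : C)

/-- the comparison map `free (Σ _ : I, K) ⟶ (F ⊗ G)|_W` of two families of sections -/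
noncomputable def tensGen {I K : Type u} (s : I → ModSite.sect F W) (t : K → ModSite.sect G W) :
    SheafOfModules.free (R := ModSite.ringSh (O.over W)) (Σ _ : I, K) ⟶
      (ModSite.restr O W).obj (tens F G) :=
  (freeTensorIso (O := O.over W) I K).inv ≫ tHom (genHom F W s) (genHom G W t) ≫
    (restrTensorIso O W F G).inv

lemma genOn_tensor (hF : GenOn F W) (hG : GenOn G W) : GenOn (tens F G) W := by
  obtain ⟨I, s, hs⟩ := hF
  obtain ⟨K, t, ht⟩ := hG
  haveI : Epi (genHom F W s) := hs
  haveI : Epi (genHom G W t) := ht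
  have hc : Epi (tensGen F G W s t) := by
    unfold tensGen
    haveI : Epi (tHom (genHom F W s) (genHom G W t) ≫ (restrTensorIso O W F G).inv) :=
      epi_comp _ _
    exact epi_comp _ _
  exact ⟨Σ _ : I, K, secOf _ W (tensGen F G W s t),
    Eq.mp (congrArg (fun w => Epi w) (eq_genHom _ W (tensGen F G W s t))) hc⟩

lemma finGenOn_tensor (hF : FinGenOn F W) (hG : FinGenOn G W) : FinGenOn (tens F G) W := by
  obtain ⟨I, hI, s, hs⟩ := hF
  obtain ⟨K, hK, t, ht⟩ := hG
  haveI : Epi (genHom F W s) := hs
  haveI : Epi (genHom G W t) := ht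
  have hc : Epi (tensGen F G W s t) := by
    unfold tensGen
    haveI : Epi (tHom (genHom F W s) (genHom G W t) ≫ (restrTensorIso O W F G).inv) :=
      epi_comp _ _
    exact epi_comp _ _
  exact ⟨Σ _ : I, K, inferInstance, secOf _ W (tensGen F G W s t),
    Eq.mp (congrArg (fun w => Epi w) (eq_genHom _ W (tensGen F G W s t))) hc⟩

lemma freeOn_tensor (hF : FreeOn F W) (hG : FreeOn G W) : FreeOn (tens F G) W := by
  obtain ⟨I, s, hs⟩ := hF
  obtain ⟨K, t, ht⟩ := hG
  haveI : IsIso (genHom F W s) := hs
  haveI : IsIso (genHom G W t) := ht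
  have hc : IsIso (tensGen F G W s t) := by
    unfold tensGen
    infer_instance
  exact ⟨Σ _ : I, K, secOf _ W (tensGen F G W s t),
    Eq.mp (congrArg (fun w => IsIso w) (eq_genHom _ W (tensGen F G W s t))) hc⟩

/-- the relations of the tensor product of two presentations -/
lemma exists_isCok_tensGen {Ig Ir Kg Kr : Type u} (p : Ig → ModSite.sect F W)
    (A : SheafOfModules.free (R := ModSite.ringSh (O.over W)) Ir ⟶
      SheafOfModules.free (R := ModSite.ringSh (O.over W)) Ig) (hA : IsCok A (genHom F W p))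
    (q : Kg → ModSite.sect G W)
    (B : SheafOfModules.free (R := ModSite.ringSh (O.over W)) Kr ⟶
      SheafOfModules.free (R := ModSite.ringSh (O.over W)) Kg) (hB : IsCok B (genHom G W q)) :
    ∃ R : SheafOfModules.free (R := ModSite.ringSh (O.over W))
        ((Σ _ : Ir, Kg) ⊕ (Σ _ : Ig, Kr)) ⟶
        SheafOfModules.free (R := ModSite.ringSh (O.over W)) (Σ _ : Ig, Kg),
      IsCok R (tensGen F G W p q) := by
  let e₁ := (freeTensorIso (O := O.over W) Ir Kg).inv
  let e₂ := (freeTensorIso (O := O.over W) Ig Kr).inv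
  let R₀ := sumDesc (e₁ ≫ tHom A (𝟙 _)) (e₂ ≫ tHom (𝟙 _) B)
  have key : IsCok R₀ (tHom (genHom F W p) (genHom G W q)) :=
    isCok_tensor hA hB e₁ e₂ R₀ (SheafOfModules.freeMap Sum.inl) (SheafOfModules.freeMap Sum.inr)
      (inl_sumDesc _ _) (inr_sumDesc _ _) (fun Z k h1 h2 => sum_hom_ext_zero k h1 h2)
  have key2 := key.of_iso (Iso.refl _) (freeTensorIso (O := O.over W) Ig Kg).symm
    (restrTensorIso O W F G).symm
  refine ⟨𝟙 _ ≫ R₀ ≫ (freeTensorIso (O := O.over W) Ig Kg).hom, ?_⟩
  exact key2

lemma presOn_tensor (hF : PresOn F W) (hG : PresOn G W) : PresOn (tens F G) W := by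
  obtain ⟨Ig, Ir, p, A, hA⟩ := hF
  obtain ⟨Kg, Kr, q, B, hB⟩ := hG
  obtain ⟨R, hR⟩ := exists_isCok_tensGen F G W p A hA q B hB
  exact ⟨Σ _ : Ig, Kg, (Σ _ : Ir, Kg) ⊕ (Σ _ : Ig, Kr), secOf _ W (tensGen F G W p q), R,
    Eq.mp (congrArg (fun w => IsCok R w) (eq_genHom _ W (tensGen F G W p q))) hR⟩

lemma finPresOn_tensor (hF : FinPresOn F W) (hG : FinPresOn G W) : FinPresOn (tens F G) W := by
  obtain ⟨Ig, Ir, hIg, hIr, p, A, hA⟩ := hF
  obtain ⟨Kg, Kr, hKg, hKr, q, B, hB⟩ := hG
  obtain ⟨R, hR⟩ := exists_isCok_tensGen F G W p A hA q B hB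
  exact ⟨Σ _ : Ig, Kg, (Σ _ : Ir, Kg) ⊕ (Σ _ : Ig, Kr), inferInstance, inferInstance,
    secOf _ W (tensGen F G W p q), R,
    Eq.mp (congrArg (fun w => IsCok R w) (eq_genHom _ W (tensGen F G W p q))) hR⟩

end tensorLocal


section main

lemma loc_tensor {P : ModSite.Mod O → C → Prop}
    (htens : ∀ (F G : ModSite.Mod O) (W : C), P F W → P G W → P (tens F G) W)
    (F G : ModSite.Mod O) (hF : Loc P F) (hG : Loc P G) : Loc P (tens F G) := by
  intro V
  obtain ⟨R₁, hR₁, h₁⟩ := hF V
  obtain ⟨R₂, hR₂, h₂⟩ := hG V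
  exact ⟨R₁ ⊓ R₂, J.intersection_covering hR₁ hR₂,
    fun W g hg => htens F G W (h₁ g hg.1) (h₂ g hg.2)⟩

theorem tensor_permanence (F G : ModSite.Mod O) :
    (Nonempty (SheafOfModules.LocalGeneratorsData.{u} (R := ModSite.ringSh O) F) →
        Nonempty (SheafOfModules.LocalGeneratorsData.{u} (R := ModSite.ringSh O) G) →
          Nonempty (SheafOfModules.LocalGeneratorsData.{u} (R := ModSite.ringSh O)
            (((ModSite.tensorBi O).obj F).obj G))) ∧
      (SheafOfModules.IsFiniteType (R := ModSite.ringSh O) F →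
        SheafOfModules.IsFiniteType (R := ModSite.ringSh O) G →
        SheafOfModules.IsFiniteType (R := ModSite.ringSh O) (((ModSite.tensorBi O).obj F).obj G)) ∧
      (SheafOfModules.IsQuasicoherent (R := ModSite.ringSh O) F →
        SheafOfModules.IsQuasicoherent (R := ModSite.ringSh O) G →
          SheafOfModules.IsQuasicoherent (R := ModSite.ringSh O)
            (((ModSite.tensorBi O).obj F).obj G)) ∧
      (SheafOfModules.IsFinitePresentation (R := ModSite.ringSh O) F →
        SheafOfModules.IsFinitePresentation (R := ModSite.ringSh O) G →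
          SheafOfModules.IsFinitePresentation (R := ModSite.ringSh O)
            (((ModSite.tensorBi O).obj F).obj G)) ∧
      (SheafOfModules.IsLocallyFree (R := ModSite.ringSh O) F →
        SheafOfModules.IsLocallyFree (R := ModSite.ringSh O) G →
        SheafOfModules.IsLocallyFree (R := ModSite.ringSh O)
          (((ModSite.tensorBi O).obj F).obj G)) := by
  refine ⟨?_, ?_, ?_, ?_, ?_⟩
  · intro hF hG
    rw [nonempty_localGeneratorsData_iff] at hF hG ⊢
    exact loc_tensor genOn_tensor F G hF hG
  · intro hF hG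
    exact isFiniteType_of_locFinGen _ (loc_tensor (P := FinGenOn) finGenOn_tensor F G
      (locFinGen_of_isFiniteType F) (locFinGen_of_isFiniteType G))
  · intro hF hG
    exact isQuasicoherent_of_loc_presOn _ (loc_tensor presOn_tensor F G
      (loc_presOn_of_isQuasicoherent F) (loc_presOn_of_isQuasicoherent G))
  · intro hF hG
    exact isFinitePresentation_of_locFinPres _ (loc_tensor (P := FinPresOn) finPresOn_tensor F G
      (locFinPres_of_isFinitePresentation F) (locFinPres_of_isFinitePresentation G))
  · intro hF hG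
    exact isLocallyFree_of_loc_freeOn _ (loc_tensor freeOn_tensor F G
      (loc_freeOn_of_isLocallyFree F) (loc_freeOn_of_isLocallyFree G))

end main

end Groth.Agent.Lib.Helper4.TensorPerm
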