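import Mathlib
import Groth.Prelude.Def_ModSite2
import Groth.Agent.Lib.Helper4.TensorPerm
import Groth.Agent.Lib.Helper4.SecEquiv

/-!
# An epimorphism between finite locally free modules of the same rank is an isomorphism (sites and ringed spaces) (helper4) (helper4)
-/

set_option backward.isDefEq.respectTransparency.types false
set_option synthInstance.maxHeartbeats 400000
set_option autoImplicit false
set_option linter.unusedSectionVars false
set_option linter.style.haveILetI false
set_option linter.unusedSimpArgs false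
universe u v w
open CategoryTheory CategoryTheory.Limits Opposite

namespace Groth.Agent.Lib.Helper4.EpiIsoFree

open Groth.Agent.Lib.Helper4.PureTensor Groth.Agent.Lib.Helper4.EqCrit
  Groth.Agent.Lib.Helper4.OverMapPres Groth.Agent.Lib.Helper4.QSLocal
  Groth.Agent.Lib.Helper4.LocalLiftFree Groth.Agent.Lib.Helper5.RestrExact
  Groth.Agent.Lib.Helper4.FinGen Groth.Agent.Lib.Helper4.EqCritConv
  Groth.Agent.Lib.Helper4.FinPres Groth.Agent.Lib.Helper4.ColimLemmas
  Groth.Agent.Helper3.SHomEx Groth.Agent.Lib.Helper4.SheafHomColim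
  Groth.Agent.Lib.Helper5 Groth.Agent.Lib.Helper4.TensorFree
  Groth.Agent.Lib.Helper4.TensorPerm Groth.Agent.Lib.Helper4.SecEquiv

section core

open SheafOfModules

variable {C : Type u} [SmallCategory C] {J : GrothendieckTopology C} {R : Sheaf J RingCat.{u}}
  {X : C} (hX : IsTerminal X) {I : Type u}

include hX in
/-- a one-sided inverse of an endomorphism of a finite free module is two-sided -/
theorem comp_eq_id_of_comp_eq_id [Fintype I] [OrzechProperty (R.obj.obj (op X))]
    (μ ψ : free (R := R) I ⟶ free (R := R) I) (h : μ ≫ ψ = 𝟙 _) : ψ ≫ μ = 𝟙 _ := by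
  apply free_hom_ext_global hX
  rw [evM_comp, evM_id]
  have h1 : evM X μ ≫ evM X ψ = 𝟙 _ := by rw [← evM_comp, h, evM_id]
  have hsurj : Function.Surjective (evM X ψ).hom :=
    fun y => ⟨(evM X μ).hom y, congrArg (fun t => t.hom y) h1⟩
  haveI : Module.Finite (R.obj.obj (op X)) ((free (R := R) I).val.obj (op X)) :=
    Module.Finite.equiv (freeSecEquiv (R := R) (X := X) (I := I)).symm
  have hinj := OrzechProperty.injective_of_surjective_endomorphism (evM X ψ).hom hsurj
  refine ModuleCat.hom_ext (LinearMap.ext fun y => hinj ?_)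
  exact congrArg (fun t => t.hom ((evM X ψ).hom y)) h1

end core

section site

variable {C : Type u} [SmallCategory C] {J : GrothendieckTopology C} {O : Sheaf J CommRingCat.{u}}

instance orzech_over (W : C) :
    OrzechProperty ((ModSite.ringSh (O.over W)).obj.obj (op (Over.mk (𝟙 W)))) :=
  inferInstanceAs (OrzechProperty ((O.over W).obj.obj (op (Over.mk (𝟙 W)))))

/-- a one-sided inverse of an endomorphism of a finite free module over `C/W` is two-sided -/
lemma comp_eq_id_over {W : C} {I : Type u} [Fintype I]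
    (μ ψ : SheafOfModules.free (R := ModSite.ringSh (O.over W)) I ⟶
      SheafOfModules.free (R := ModSite.ringSh (O.over W)) I) (h : μ ≫ ψ = 𝟙 _) : ψ ≫ μ = 𝟙 _ :=
  comp_eq_id_of_comp_eq_id (R := ModSite.ringSh (O.over W)) (X := Over.mk (𝟙 W))
    Over.mkIdTerminal μ ψ h

/-- locally, an epimorphism between modules free of the same finite rank is an isomorphism -/
lemma exists_sieve_isIso {F G : ModSite.Mod O} (φ : F ⟶ G) [Epi φ] {W : C} {I : Type u} [Fintype I]
    (sF : I → ModSite.sect F W) (hF : IsIso (genHom F W sF))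
    (sG : I → ModSite.sect G W) (hG : IsIso (genHom G W sG)) :
    ∃ T ∈ J W, ∀ ⦃W' : C⦄ (h : W' ⟶ W), T h → IsIso ((ModSite.restr O W').map φ) := by
  have hp : GenBy G W (fun j => ev φ W (sF j)) := by
    unfold GenBy
    rw [← genHom_comp]
    haveI : Epi ((ModSite.restr O W).map φ) := epi_restr_map O W φ
    exact epi_comp _ _
  obtain ⟨T, hT, hTf⟩ := GenBy.exists_local_factor hp sG
  refine ⟨T, hT, ?_⟩
  intro W' h hh
  obtain ⟨μ, hμ⟩ := hTf h hh
  haveI hA : IsIso (genHom F W' (fun j => F.val.map h.op (sF j))) := isIso_genHom_restrict hF h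
  haveI hB : IsIso (genHom G W' (fun j => G.val.map h.op (sG j))) := isIso_genHom_restrict hG h
  have e1 : genHom G W' (fun k => res G h (ev φ W (sF k))) =
      genHom F W' (fun j => F.val.map h.op (sF j)) ≫ (ModSite.restr O W').map φ := by
    rw [genHom_comp]
    congr 1
    funext j
    exact (ev_naturality φ h (sF j)).symm
  rw [e1] at hμ
  have h1 : μ ≫ (genHom F W' (fun j => F.val.map h.op (sF j)) ≫ (ModSite.restr O W').map φ ≫
      inv (genHom G W' (fun j => G.val.map h.op (sG j)))) = 𝟙 _ := by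
    rw [← Category.assoc, ← Category.assoc, Category.assoc μ, hμ]
    exact IsIso.hom_inv_id _
  have h2 := comp_eq_id_over _ _ h1
  haveI : IsIso (genHom F W' (fun j => F.val.map h.op (sF j)) ≫ (ModSite.restr O W').map φ ≫
      inv (genHom G W' (fun j => G.val.map h.op (sG j)))) := ⟨⟨μ, h2, h1⟩⟩
  have h3 : (ModSite.restr O W').map φ = inv (genHom F W' (fun j => F.val.map h.op (sF j))) ≫
      (genHom F W' (fun j => F.val.map h.op (sF j)) ≫ (ModSite.restr O W').map φ ≫
      inv (genHom G W' (fun j => G.val.map h.op (sG j)))) ≫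
      genHom G W' (fun j => G.val.map h.op (sG j)) := by
    simp
  rw [h3]
  infer_instance

end site

section site2

variable {C : Type u} [SmallCategory C] {J : GrothendieckTopology C} {O : Sheaf J CommRingCat.{u}}

/-- `M` is free with basis indexed by `I` over `W` -/
def FreeOnI (I : Type u) (M : ModSite.Mod O) (W : C) : Prop :=
  ∃ s : I → ModSite.sect M W, IsIso (genHom M W s)

lemma FreeOnI.restrict {I : Type u} {M : ModSite.Mod O} {V : C} (h : FreeOnI I M V) {W : C}
    (g : W ⟶ V) : FreeOnI I M W := by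
  obtain ⟨s, hs⟩ := h
  exact ⟨_, isIso_genHom_restrict hs g⟩

lemma freeOnI_of_iso {I : Type u} {M : ModSite.Mod O} {W : C}
    (α : (ModSite.restr O W).obj M ≅ SheafOfModules.free (R := ModSite.ringSh (O.over W)) I) :
    FreeOnI I M W := by
  refine ⟨secOf M W α.inv, ?_⟩
  rw [← eq_genHom]
  infer_instance

theorem isIso_of_epi_of_locFree {F G : ModSite.Mod O} (φ : F ⟶ G) [Epi φ] (I : Type u) [Fintype I]
    (hF : ∀ V : C, ∃ R ∈ J V, ∀ ⦃W : C⦄ (g : W ⟶ V), R g → FreeOnI I F W)
    (hG : ∀ V : C, ∃ R ∈ J V, ∀ ⦃W : C⦄ (g : W ⟶ V), R g → FreeOnI I G W) : IsIso φ := by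
  apply isIso_of_locally_isIso
  intro V
  obtain ⟨R₁, hR₁, h₁⟩ := hF V
  obtain ⟨R₂, hR₂, h₂⟩ := hG V
  refine locally_of_locally (P := fun W => IsIso ((ModSite.restr O W).map φ))
    (J.intersection_covering hR₁ hR₂) ?_
  intro W g hg
  obtain ⟨sF, hsF⟩ := h₁ g hg.1
  obtain ⟨sG, hsG⟩ := h₂ g hg.2
  exact exists_sieve_isIso φ sF hsF sG hsG

end site2

section top

variable {X : TopCat.{u}} (O : TopCat.Sheaf CommRingCat.{u} X)

/-- pointwise local freeness gives local freeness in the site sense -/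
lemma locFree_of_pointwise {I : Type u} {F : ModSite.Mod O}
    (hF : ∀ x : X, ∃ U : TopologicalSpace.Opens X, x ∈ U ∧
      Nonempty ((ModSite.restr O U).obj F ≅ SheafOfModules.free I)) (V : TopologicalSpace.Opens X) :
    ∃ R ∈ Opens.grothendieckTopology X V,
      ∀ ⦃W : TopologicalSpace.Opens X⦄ (g : W ⟶ V), R g → FreeOnI I F W := by
  refine ⟨⟨fun W _ => FreeOnI I F W, ?_⟩, ?_, fun W g hg => hg⟩
  · intro Y Z f hf g
    exact FreeOnI.restrict hf g
  · intro x hx
    obtain ⟨U, hxU, ⟨α⟩⟩ := hF x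
    refine ⟨V ⊓ U, homOfLE inf_le_left, ?_, ⟨hx, hxU⟩⟩
    exact FreeOnI.restrict (freeOnI_of_iso α) (homOfLE inf_le_right)

theorem main (r : ℕ)
    {F G : ModSite.Mod O}
    (hF : ∀ x : X, ∃ U : TopologicalSpace.Opens X, x ∈ U ∧
      Nonempty ((ModSite.restr O U).obj F ≅ SheafOfModules.free (ULift.{u} (Fin r))))
    (hG : ∀ x : X, ∃ U : TopologicalSpace.Opens X, x ∈ U ∧
      Nonempty ((ModSite.restr O U).obj G ≅ SheafOfModules.free (ULift.{u} (Fin r))))
    (φ : F ⟶ G) : IsIso φ ↔ Epi φ := by
  constructor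
  · intro h
    infer_instance
  · intro h
    exact isIso_of_epi_of_locFree φ (ULift.{u} (Fin r)) (locFree_of_pointwise O hF)
      (locFree_of_pointwise O hG)

end top

end Groth.Agent.Lib.Helper4.EpiIsoFree
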