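import Mathlib
import Groth.Prelude.Def_ModSite2
import Groth.Agent.Lib.Helper4.FinPres

/-!
# Kernel of an epimorphism from a finite type module onto a finitely presented module is of finite type (sites) (helper4)
-/

set_option backward.isDefEq.respectTransparency.types false
set_option synthInstance.maxHeartbeats 400000
set_option autoImplicit false
set_option linter.unusedSectionVars false
set_option linter.style.haveILetI false
set_option linter.unusedSimpArgs false
universe u v w
open CategoryTheory CategoryTheory.Limits Opposite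

namespace Groth.Agent.Lib.Helper4.FinKer

open Groth.Agent.Lib.Helper4.PureTensor Groth.Agent.Lib.Helper4.EqCrit
  Groth.Agent.Lib.Helper4.OverMapPres Groth.Agent.Lib.Helper4.QSLocal
  Groth.Agent.Lib.Helper4.LocalLiftFree Groth.Agent.Lib.Helper5.RestrExact
  Groth.Agent.Lib.Helper4.FinGen Groth.Agent.Lib.Helper4.EqCritConv
  Groth.Agent.Lib.Helper4.FinPres

variable {C : Type u} [SmallCategory C] {J : GrothendieckTopology C} {O : Sheaf J CommRingCat.{u}}

lemma finGenOn_of_epi {M : ModSite.Mod O} {W : C} {I : Type u} [Finite I]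
    (b : SheafOfModules.free (R := ModSite.ringSh (O.over W)) I ⟶ (ModSite.restr O W).obj M)
    (hb : Epi b) : FinGenOn M W := by
  refine ⟨I, inferInstance, secOf M W b, ?_⟩
  exact Eq.mp (congrArg (fun w => Epi w) (eq_genHom M W b)) hb

/-- the local statement: generators of the kernel over `W` -/
lemma finGenOn_kernel_aux {G F : ModSite.Mod O} (θ : G ⟶ F) (W : C)
    {I Ig Ir : Type u} [Finite I] [Finite Ig] [Finite Ir]
    (s : I → ModSite.sect G W) (hs : GenBy G W s)
    (p : Ig → ModSite.sect F W)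
    (A : SheafOfModules.free (R := ModSite.ringSh (O.over W)) Ir ⟶
      SheafOfModules.free (R := ModSite.ringSh (O.over W)) Ig) (hA : IsCok A (genHom F W p))
    (g : Ig → ModSite.sect G W) (hg : ∀ k, ev θ W (g k) = p k)
    (μ : SheafOfModules.free (R := ModSite.ringSh (O.over W)) I ⟶
      SheafOfModules.free (R := ModSite.ringSh (O.over W)) Ig)
    (hμ : μ ≫ genHom F W p = genHom F W (fun j => ev θ W (s j))) :
    FinGenOn (kernel θ) W := by
  have hlam : genHom G W g ≫ (ModSite.restr O W).map θ = genHom F W p := by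
    rw [genHom_comp]
    congr 1
    funext k
    exact hg k
  have hμ' : μ ≫ genHom F W p = genHom G W s ≫ (ModSite.restr O W).map θ := by
    rw [hμ, genHom_comp]
  let B : SheafOfModules.free (R := ModSite.ringSh (O.over W)) (Ir ⊕ I) ⟶
      (ModSite.restr O W).obj G :=
    sumDesc (A ≫ genHom G W g) (genHom G W s - μ ≫ genHom G W g)
  have hB : B ≫ (ModSite.restr O W).map θ = 0 := by
    apply sum_hom_ext_zero
    · rw [← Category.assoc, inl_sumDesc, Category.assoc, hlam, hA.zero]
    · rw [← Category.assoc, inr_sumDesc, Preadditive.sub_comp, Category.assoc, hlam, hμ',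
        sub_self]
  haveI : Epi (genHom G W s) := hs
  have hex := exact_ker_gen hA.zero hA.exact ((ModSite.restr O W).map θ) (genHom G W s)
    (genHom G W g) hlam μ hμ' B (SheafOfModules.freeMap Sum.inl) (SheafOfModules.freeMap Sum.inr)
    (inl_sumDesc _ _) (inr_sumDesc _ _) hB
  -- the restricted kernel
  have hK : ((ShortComplex.mk (kernel.ι θ) θ (kernel.condition θ)).map
      (ModSite.restr O W)).Exact :=
    (ShortComplex.exact_kernel θ).map (ModSite.restr O W)
  haveI hmono : Mono ((ModSite.restr O W).map (kernel.ι θ)) := by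
    haveI := preservesFiniteLimits_restr O W
    haveI : (ModSite.restr O W).PreservesMonomorphisms :=
      preservesMonomorphisms_of_preservesLimitsOfShape _
    exact (ModSite.restr O W).map_mono (kernel.ι θ)
  haveI : Mono ((ShortComplex.mk (kernel.ι θ) θ (kernel.condition θ)).map
      (ModSite.restr O W)).f := hmono
  let b := hK.lift B hB
  have hb : b ≫ (ModSite.restr O W).map (kernel.ι θ) = B := hK.lift_f B hB
  have hι : (ModSite.restr O W).map (kernel.ι θ) ≫ (ModSite.restr O W).map θ = 0 := by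
    rw [← Functor.map_comp, kernel.condition, Functor.map_zero]
  exact finGenOn_of_epi b (@epi_lift_of_exact _ _ _ _ _ _ _ _ _ hB hex _ hmono b hb hι)


lemma genBy_congr {M : ModSite.Mod O} {W : C} {I : Type u} {s s' : I → ModSite.sect M W}
    (h : ∀ j, s j = s' j) (hs : GenBy M W s) : GenBy M W s' := by
  have : s = s' := funext h
  rw [← this]
  exact hs

theorem locFinGen_kernel {G F : ModSite.Mod O} (θ : G ⟶ F) [Epi θ] (hG : LocFinGen G)
    (hF : LocFinPres F) : LocFinGen (kernel θ) := by
  intro V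
  obtain ⟨R₁, hR₁, hg₁⟩ := hG V
  obtain ⟨R₂, hR₂, hg₂⟩ := hF V
  refine locally_of_locally (J.intersection_covering hR₁ hR₂) ?_
  intro W g hg
  obtain ⟨I, hI, s, hs⟩ := hg₁ g hg.1
  obtain ⟨Ig, Ir, hIg, hIr, p, A, hA⟩ := hg₂ g hg.2
  haveI := Fintype.ofFinite Ig
  -- stage 1: lift the generators of `F` through `θ`
  choose T₁ hT₁ hT₁l using fun k => exists_local_lift θ (p k)
  obtain ⟨T₁', hT₁', hT₁'T⟩ := exists_common_sieve T₁ hT₁
  refine locally_of_locally hT₁' ?_
  intro W₁ h₁ hh₁
  choose g₁ hg₁' using fun k => hT₁l k h₁ (hT₁'T h₁ hh₁ k)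
  have hA₁ := hA.restrict h₁
  have hs₁ := hs.restrict h₁
  -- stage 2: factor `θ ∘ s` through the generators of `F`
  obtain ⟨T₂, hT₂, hT₂f⟩ := GenBy.exists_local_factor
    (show GenBy F W₁ (fun k => res F h₁ (p k)) from hA₁.epi)
    (fun j => ev θ W₁ (res G h₁ (s j)))
  refine ⟨T₂, hT₂, ?_⟩
  intro W₂ h₂ hh₂
  obtain ⟨μ, hμ⟩ := hT₂f h₂ hh₂
  have hA₂ := hA₁.restrict h₂
  have hs₂ := hs₁.restrict h₂
  refine finGenOn_kernel_aux θ W₂ _ hs₂ _ _ hA₂ (fun k => res G h₂ (g₁ k)) ?_ μ ?_
  · intro k
    refine (ev_naturality θ h₂ (g₁ k)).trans ?_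
    exact congrArg (fun y => res F h₂ y) (hg₁' k)
  · refine hμ.trans ?_
    congr 1
    funext j
    exact (ev_naturality θ h₂ (res G h₁ (s j))).symm

theorem isFiniteType_kernel {G F : ModSite.Mod O} (θ : G ⟶ F) [Epi θ]
    [SheafOfModules.IsFiniteType (R := ModSite.ringSh O) G]
    [SheafOfModules.IsFinitePresentation (R := ModSite.ringSh O) F] :
    SheafOfModules.IsFiniteType (R := ModSite.ringSh O) (kernel θ) :=
  isFiniteType_of_locFinGen _ (locFinGen_kernel θ
    (locFinGen_of_isFiniteType _) (locFinPres_of_isFinitePresentation _))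

end Groth.Agent.Lib.Helper4.FinKer
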