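import Mathlib
import Groth.Prelude.Def_ModSite2
import Groth.Agent.Lib.Helper4.EqCritConv

/-!
# Flatness of modules on ringed sites via stalks (helper4)
-/

set_option backward.isDefEq.respectTransparency.types false
set_option synthInstance.maxHeartbeats 400000
set_option autoImplicit false
set_option linter.unusedSectionVars false
set_option linter.style.haveILetI false
set_option linter.unusedSimpArgs false
universe u v w
open CategoryTheory CategoryTheory.Limits Opposite

namespace Groth.Agent.Lib.Helper4.StalkFlat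

open Groth.Agent.Lib.Helper4.EqCritConv ModSite

variable {C : Type u} [SmallCategory C] {J : GrothendieckTopology C} {O : Sheaf J CommRingCat.{u}}
variable (p : GrothendieckTopology.Point.{u} J)

section generic

variable {A : Type (u+1)} [Category.{u} A] [HasColimitsOfSize.{u, u} A]
  {FC : A → A → Type*} {CC : A → Type u}
  [∀ (X Y : A), FunLike (FC X Y) (CC X) (CC Y)]
  [ConcreteCategory.{u} A FC] [PreservesFilteredColimitsOfSize.{u, u} (forget A)]
  (P : Cᵒᵖ ⥤ A)

/-- germs at an element of the category of neighbourhoods -/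
noncomputable abbrev gE (E : p.fiber.Elements) (z : ToType (P.obj (op E.1))) :
    ToType (p.presheafFiber.obj P) :=
  p.toPresheafFiber E.1 E.2 P z

lemma gE_res {E E' : p.fiber.Elements} (g : E' ⟶ E) (z : ToType (P.obj (op E.1))) :
    gE p P E' (P.map g.1.op z) = gE p P E z := by
  have h := p.toPresheafFiber_w_apply g.1 E'.2 P z
  refine h.trans ?_
  have h2 : p.fiber.map g.1 E'.2 = E.2 := g.2
  exact congrArg (fun t => p.toPresheafFiber E.1 t P z) h2

lemma exists_common {ι : Type*} [Fintype ι] (m : ι → ToType (p.presheafFiber.obj P))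
    (E₀ : p.fiber.Elements) :
    ∃ (E : p.fiber.Elements) (_ : E ⟶ E₀) (s : ι → ToType (P.obj (op E.1))),
      ∀ i, gE p P E (s i) = m i := by
  classical
  choose X x z hz using fun i => p.toPresheafFiber_jointly_surjective (P := P) (m i)
  let objs : Finset p.fiber.Elements :=
    insert E₀ (Finset.univ.image (fun i : ι => (⟨X i, x i⟩ : p.fiber.Elements)))
  obtain ⟨E, hE⟩ := IsCofiltered.inf_objs_exists objs
  have h0 : Nonempty (E ⟶ E₀) := hE (Finset.mem_insert_self _ _)
  have hi : ∀ i : ι, Nonempty (E ⟶ (⟨X i, x i⟩ : p.fiber.Elements)) := fun i =>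
    hE (Finset.mem_insert_of_mem (Finset.mem_image_of_mem _ (Finset.mem_univ i)))
  refine ⟨E, h0.some, fun i => P.map (hi i).some.1.op (z i), fun i => ?_⟩
  exact (gE_res p P (hi i).some (z i)).trans (hz i)

lemma map_comp_apply' {E E' E'' : p.fiber.Elements} (g' : E'' ⟶ E') (g : E' ⟶ E)
    (z : ToType (P.obj (op E.1))) :
    P.map (g' ≫ g).1.op z = P.map g'.1.op (P.map g.1.op z) := by
  have h : (g' ≫ g).1 = g'.1 ≫ g.1 := rfl
  rw [h, op_comp, Functor.map_comp]
  exact ConcreteCategory.comp_apply _ _ _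

lemma map_id_apply' {E : p.fiber.Elements} (z : ToType (P.obj (op E.1))) :
    P.map (𝟙 E : E ⟶ E).1.op z = z := by
  have h : (𝟙 E : E ⟶ E).1 = 𝟙 E.1 := rfl
  rw [h, op_id, CategoryTheory.Functor.map_id]
  exact ConcreteCategory.id_apply _

lemma exists_common_eq {ι : Type*} (S : Finset ι) (E : p.fiber.Elements)
    (z₁ z₂ : ι → ToType (P.obj (op E.1))) (h : ∀ i ∈ S, gE p P E (z₁ i) = gE p P E (z₂ i)) :
    ∃ (E' : p.fiber.Elements) (g : E' ⟶ E),
      ∀ i ∈ S, P.map g.1.op (z₁ i) = P.map g.1.op (z₂ i) := by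
  classical
  induction S using Finset.induction_on with
  | empty => exact ⟨E, 𝟙 E, fun i hi => absurd hi (Finset.notMem_empty i)⟩
  | insert a S ha ih =>
    obtain ⟨E', g, hg⟩ := ih (fun i hi => h i (Finset.mem_insert_of_mem hi))
    have ha' : gE p P E' (P.map g.1.op (z₁ a)) = gE p P E' (P.map g.1.op (z₂ a)) :=
      ((gE_res p P g (z₁ a)).trans (h a (Finset.mem_insert_self a S))).trans
        (gE_res p P g (z₂ a)).symm
    obtain ⟨Y, f, y, hy, hf⟩ := (p.toPresheafFiber_eq_iff' (P := P) E'.1 E'.2 _ _).1 ha'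
    let E'' : p.fiber.Elements := ⟨Y, y⟩
    let g' : E'' ⟶ E' := ⟨f, hy⟩
    refine ⟨E'', g' ≫ g, fun i hi => ?_⟩
    rw [map_comp_apply', map_comp_apply']
    rcases Finset.mem_insert.1 hi with rfl | hi'
    · exact hf
    · exact congrArg (fun t => P.map g'.1.op t) (hg i hi')

end generic


section spec

variable (F : ModSite.Mod O)

lemma germ_res {E E' : p.fiber.Elements} (g : E' ⟶ E) (s : sect F E.1) :
    germ p F E'.1 E'.2 (res F g.1 s) = germ p F E.1 E.2 s :=
  gE_res p (toAb F).obj g s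

lemma germRing_res {E E' : p.fiber.Elements} (g : E' ⟶ E) (r : O.obj.obj (op E.1)) :
    germRing p E'.1 E'.2 ((O.obj.map g.1.op).hom r) = germRing p E.1 E.2 r :=
  gE_res p O.obj g r

lemma germ_sum {X : C} (x : p.fiber.obj X) {ι : Type*} (S : Finset ι) (s : ι → sect F X) :
    germ p F X x (∑ i ∈ S, s i) = ∑ i ∈ S, germ p F X x (s i) :=
  map_sum (p.toPresheafFiber X x (toAb F).obj).hom s S

lemma germ_zero {X : C} (x : p.fiber.obj X) : germ p F X x 0 = 0 :=
  map_zero (p.toPresheafFiber X x (toAb F).obj).hom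

lemma germ_sum_smul {X : C} (x : p.fiber.obj X) {n : ℕ} (a : Fin n → O.obj.obj (op X))
    (t : Fin n → sect F X) :
    germ p F X x (∑ k, a k • t k) = ∑ k, germRing p X x (a k) • germ p F X x (t k) := by
  refine (germ_sum p F x _ _).trans ?_
  exact Finset.sum_congr rfl (fun k _ => germ_smul p F X x (a k) (t k))

lemma germRing_sum_mul {X : C} (x : p.fiber.obj X) {n : ℕ} (a b : Fin n → O.obj.obj (op X)) :
    germRing p X x (∑ k, a k * b k) = ∑ k, germRing p X x (a k) * germRing p X x (b k) := by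
  refine (map_sum (p.toPresheafFiber X x O.obj).hom _ _).trans ?_
  exact Finset.sum_congr rfl (fun k _ => map_mul (p.toPresheafFiber X x O.obj).hom _ _)

lemma germRing_zero {X : C} (x : p.fiber.obj X) : germRing (O := O) p X x 0 = 0 :=
  map_zero (p.toPresheafFiber X x O.obj).hom

lemma germ_eq_zero {E : p.fiber.Elements} (s : sect F E.1) (h : germ p F E.1 E.2 s = 0) :
    ∃ (E' : p.fiber.Elements) (g : E' ⟶ E), res F g.1 s = 0 := by
  have h' : p.toPresheafFiber E.1 E.2 (toAb F).obj s = p.toPresheafFiber E.1 E.2 (toAb F).obj 0 :=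
    h.trans (germ_zero p F E.2).symm
  obtain ⟨Y, f, y, hy, hf⟩ := (p.toPresheafFiber_eq_iff' (P := (toAb F).obj) E.1 E.2 s 0).1 h'
  refine ⟨⟨Y, y⟩, ⟨f, hy⟩, ?_⟩
  refine hf.trans ?_
  exact map_zero ((toAb F).obj.map f.op).hom

lemma germ_eq {E : p.fiber.Elements} (s s' : sect F E.1)
    (h : germ p F E.1 E.2 s = germ p F E.1 E.2 s') :
    ∃ (E' : p.fiber.Elements) (g : E' ⟶ E), res F g.1 s = res F g.1 s' := by
  obtain ⟨Y, f, y, hy, hf⟩ := (p.toPresheafFiber_eq_iff' (P := (toAb F).obj) E.1 E.2 s s').1 h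
  exact ⟨⟨Y, y⟩, ⟨f, hy⟩, hf⟩

lemma germRing_eq {E : p.fiber.Elements} (r r' : O.obj.obj (op E.1))
    (h : germRing p E.1 E.2 r = germRing p E.1 E.2 r') :
    ∃ (E' : p.fiber.Elements) (g : E' ⟶ E), (O.obj.map g.1.op).hom r = (O.obj.map g.1.op).hom r' := by
  obtain ⟨Y, f, y, hy, hf⟩ := (p.toPresheafFiber_eq_iff' (P := O.obj) E.1 E.2 r r').1 h
  exact ⟨⟨Y, y⟩, ⟨f, hy⟩, hf⟩

end spec


section forward

variable (F : ModSite.Mod O)

/-- representatives of finitely many germs of functions and sections over a common neighbourhood -/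
lemma exists_reps {n : ℕ} (f : Fin n → stalkRing p O) (x : Fin n → stalkAb p F)
    (E₀ : p.fiber.Elements) :
    ∃ (E : p.fiber.Elements) (_ : E ⟶ E₀) (r : Fin n → O.obj.obj (op E.1))
      (s : Fin n → sect F E.1),
      (∀ i, germRing p E.1 E.2 (r i) = f i) ∧ (∀ i, germ p F E.1 E.2 (s i) = x i) := by
  obtain ⟨E₁, g₁, s, hs⟩ := exists_common p (toAb F).obj x E₀
  obtain ⟨E₂, g₂, r, hr⟩ := exists_common p O.obj f E₁
  refine ⟨E₂, g₂ ≫ g₁, r, fun i => res F g₂.1 (s i), hr, fun i => ?_⟩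
  exact (germ_res p F g₂ (s i)).trans (hs i)

theorem flat_stalk_of_EC1 (hF : EC1 O F) : Module.Flat (stalkRing p O) (stalkMod p F) := by
  refine Module.Flat.iff_forall_isTrivialRelation.mpr ?_
  intro l f x hfx
  obtain ⟨E₀⟩ : Nonempty p.fiber.Elements := IsCofiltered.nonempty
  obtain ⟨E, -, r, s, hr, hs⟩ := exists_reps p F f x E₀
  have h0 : germ p F E.1 E.2 (∑ i, r i • s i) = 0 := by
    refine (germ_sum_smul p F E.2 r s).trans ?_
    refine Eq.trans (Finset.sum_congr rfl (fun i _ => ?_)) hfx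
    rw [hr i, hs i]
  obtain ⟨E', g, hg⟩ := germ_eq_zero p F _ h0
  have hrel : ∑ i, (O.obj.map g.1.op).hom (r i) • res F g.1 (s i) = 0 :=
    (map_sum_smul F g.1 r s).symm.trans hg
  obtain ⟨S, hS, hT⟩ := hF E'.1 l (fun i => (O.obj.map g.1.op).hom (r i))
    (fun i => res F g.1 (s i)) hrel
  obtain ⟨Y, q, hq, y, hy⟩ := p.jointly_surjective S hS E'.2
  obtain ⟨k, t, a, h1, h2⟩ := hT q hq
  let EY : p.fiber.Elements := ⟨Y, y⟩
  let gq : EY ⟶ E' := ⟨q, hy⟩
  refine ⟨k, fun i j => germRing p Y y (a i j), fun j => germ p F Y y (t j), fun i => ?_, fun j => ?_⟩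
  · have e1 : x i = germ p F Y y (res F q (res F g.1 (s i))) :=
      ((hs i).symm.trans (germ_res p F g (s i)).symm).trans
        (germ_res p F gq (res F g.1 (s i))).symm
    refine e1.trans ?_
    refine (congrArg (germ p F Y y) (h1 i)).trans ?_
    exact germ_sum_smul p F y (a i) t
  · have e2 : ∀ i, f i = germRing p Y y ((O.obj.map q.op).hom ((O.obj.map g.1.op).hom (r i))) :=
      fun i => ((hr i).symm.trans (germRing_res p g (r i)).symm).trans
        (germRing_res p gq ((O.obj.map g.1.op).hom (r i))).symm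
    have e3 := congrArg (germRing p Y y) (h2 j)
    rw [germRing_sum_mul, germRing_zero] at e3
    refine Eq.trans (Finset.sum_congr rfl (fun i _ => ?_)) e3
    rw [e2 i, mul_comm]

end forward


section converse

variable (F : ModSite.Mod O)

/-- two finite families of equalities of germs (of sections and of functions) hold on a common
neighbourhood -/
lemma exists_common_eq₂ {ι κ : Type*} [Fintype ι] [Fintype κ] (E : p.fiber.Elements)
    (z₁ z₂ : ι → sect F E.1) (w₁ w₂ : κ → O.obj.obj (op E.1))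
    (hz : ∀ i, germ p F E.1 E.2 (z₁ i) = germ p F E.1 E.2 (z₂ i))
    (hw : ∀ j, germRing p E.1 E.2 (w₁ j) = germRing p E.1 E.2 (w₂ j)) :
    ∃ (E' : p.fiber.Elements) (g : E' ⟶ E),
      (∀ i, res F g.1 (z₁ i) = res F g.1 (z₂ i)) ∧
      (∀ j, (O.obj.map g.1.op).hom (w₁ j) = (O.obj.map g.1.op).hom (w₂ j)) := by
  obtain ⟨E₃, g₃, h3⟩ := exists_common_eq p (toAb F).obj Finset.univ E z₁ z₂ (fun i _ => hz i)
  obtain ⟨E₄, g₄, h4⟩ := exists_common_eq p O.obj Finset.univ E₃
    (fun j => (O.obj.map g₃.1.op).hom (w₁ j)) (fun j => (O.obj.map g₃.1.op).hom (w₂ j))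
    (fun j _ => ((germRing_res p g₃ (w₁ j)).trans (hw j)).trans (germRing_res p g₃ (w₂ j)).symm)
  refine ⟨E₄, g₄ ≫ g₃, fun i => ?_, fun j => ?_⟩
  · refine (map_comp_apply' p (toAb F).obj g₄ g₃ (z₁ i)).trans ?_
    refine Eq.trans ?_ (map_comp_apply' p (toAb F).obj g₄ g₃ (z₂ i)).symm
    exact congrArg (fun t => ((toAb F).obj.map g₄.1.op).hom t) (h3 i (Finset.mem_univ i))
  · refine (map_comp_apply' p O.obj g₄ g₃ (w₁ j)).trans ?_
    refine Eq.trans ?_ (map_comp_apply' p O.obj g₄ g₃ (w₂ j)).symm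
    exact h4 j (Finset.mem_univ j)

lemma trivOn_of_restricted {U V W : C} (G : V ⟶ U) (h : W ⟶ V) {n l : ℕ}
    (f : Fin n → O.obj.obj (op U)) (s : Fin n → sect F U)
    (t : Fin l → sect F V) (a : Fin n → Fin l → O.obj.obj (op V))
    (h1 : ∀ i, res F h (res F G (s i)) = res F h (∑ j, a i j • t j))
    (h2 : ∀ j, (O.obj.map h.op).hom (∑ i, a i j * (O.obj.map G.op).hom (f i)) =
      (O.obj.map h.op).hom 0) :
    TrivOn F (h ≫ G) (m := 1) (fun _ j => f j) s := by
  refine ⟨l, fun k => res F h (t k), fun j k => (O.obj.map h.op).hom (a j k),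
    fun j => ?_, fun _ k => ?_⟩
  · refine (mod_map_comp F h G (s j)).trans ?_
    refine (h1 j).trans ?_
    exact map_sum_smul F h (a j) t
  · have h3 := h2 k
    rw [ring_map_sum_mul, map_zero] at h3
    refine Eq.trans (Finset.sum_congr rfl (fun j _ => ?_)) h3
    rw [ring_map_comp]

lemma exists_triv_of_flat_stalk (hflat : Module.Flat (stalkRing p O) (stalkMod p F))
    {U : C} (x : p.fiber.obj U) {n : ℕ} (f : Fin n → O.obj.obj (op U)) (s : Fin n → sect F U)
    (hrel : ∑ j, f j • s j = 0) :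
    ∃ (V : C) (g : V ⟶ U) (y : p.fiber.obj V), p.fiber.map g y = x ∧
      TrivOn F g (m := 1) (fun _ j => f j) s := by
  let E₀ : p.fiber.Elements := ⟨U, x⟩
  have hst : ∑ j, germRing p U x (f j) • (germ p F U x (s j) : stalkMod p F) = 0 :=
    ((germ_sum_smul p F x f s).symm.trans (congrArg (germ p F U x) hrel)).trans (germ_zero p F x)
  obtain ⟨k, a, y, h1, h2⟩ := Module.Flat.iff_forall_isTrivialRelation.mp hflat hst
  obtain ⟨E₁, g₁, t, ht⟩ := exists_common p (toAb F).obj y E₀
  obtain ⟨E₂, g₂, A, hA⟩ := exists_common p O.obj (fun ij : Fin n × Fin k => a ij.1 ij.2) E₁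
  let G : E₂ ⟶ E₀ := g₂ ≫ g₁
  have ht' : ∀ j, germ p F E₂.1 E₂.2 (res F g₂.1 (t j)) = y j := fun j =>
    (germ_res p F g₂ (t j)).trans (ht j)
  have hA' : ∀ i j, germRing p E₂.1 E₂.2 (A (i, j)) = a i j := fun i j => hA (i, j)
  have hz : ∀ i, germ p F E₂.1 E₂.2 (res F G.1 (s i)) =
      germ p F E₂.1 E₂.2 (∑ j, A (i, j) • res F g₂.1 (t j)) := by
    intro i
    refine (germ_res p F G (s i)).trans ?_
    refine (h1 i).trans ?_
    refine Eq.trans ?_ (germ_sum_smul p F E₂.2 (fun j => A (i, j)) (fun j => res F g₂.1 (t j))).symm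
    refine Finset.sum_congr rfl (fun j _ => ?_)
    exact (congrArg₂ (fun (c : stalkRing p O) (m : stalkAb p F) => c • m) (hA' i j) (ht' j)).symm
  have hw : ∀ j, germRing p E₂.1 E₂.2 (∑ i, A (i, j) * (O.obj.map G.1.op).hom (f i)) =
      germRing p E₂.1 E₂.2 0 := by
    intro j
    refine (germRing_sum_mul p E₂.2 _ _).trans ?_
    refine Eq.trans ?_ (germRing_zero p E₂.2).symm
    refine Eq.trans (Finset.sum_congr rfl (fun i _ => ?_)) (h2 j)
    refine (congrArg₂ (fun (c d : stalkRing p O) => c * d) (hA' i j) (germRing_res p G (f i))).trans ?_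
    exact mul_comm _ _
  obtain ⟨E', g', h3, h4⟩ := exists_common_eq₂ p F E₂ _ _ _ _ hz hw
  refine ⟨E'.1, g'.1 ≫ G.1, E'.2, ?_, ?_⟩
  · exact (g' ≫ G).2
  · exact trivOn_of_restricted F G.1 g'.1 f s (fun j => res F g₂.1 (t j)) (fun i j => A (i, j)) h3 h4

end converse


section main

variable (F : ModSite.Mod O)

theorem EC1_of_flat_stalks (P : ObjectProperty (GrothendieckTopology.Point.{u} J))
    (hP : P.IsConservativeFamilyOfPoints)
    (h : ∀ p : GrothendieckTopology.Point.{u} J, P p →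
      Module.Flat (stalkRing p O) (stalkMod p F)) : EC1 O F := by
  intro U n f s hrel
  refine ⟨trivSieve F (m := 1) (fun _ j => f j) s, ?_, fun V g hg => ?_⟩
  · let S := trivSieve F (m := 1) (fun _ j => f j) s
    let ι := Σ Y : C, {g : Y ⟶ U // S g}
    have hle : Sieve.ofArrows (fun i : ι => i.1) (fun i => i.2.1) ≤ S := by
      rw [Sieve.generate_le_iff, Presieve.ofArrows_le_iff]
      exact fun i => i.2.2
    refine J.superset_covering hle ?_
    rw [hP.jointly_reflect_ofArrows_mem]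
    intro Φ x
    obtain ⟨V, g, y, hy, hT⟩ := exists_triv_of_flat_stalk Φ.obj F (h Φ.obj Φ.property) x f s hrel
    exact ⟨⟨V, g, hT⟩, y, hy⟩
  · obtain ⟨l, t, a, h1, h2⟩ := hg
    exact ⟨l, t, a, h1, fun k => h2 0 k⟩

theorem isFlat_iff_flat_stalks (P : ObjectProperty (GrothendieckTopology.Point.{u} J))
    (hP : P.IsConservativeFamilyOfPoints) :
    ModSite.IsFlat F ↔ ∀ p : GrothendieckTopology.Point.{u} J, P p →
      Module.Flat (ModSite.stalkRing p O) (ModSite.stalkMod p F) := by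
  constructor
  · intro hF p _
    exact flat_stalk_of_EC1 p F ((Groth.Agent.Lib.Helper4.EqCritConv.main O F).1 hF)
  · intro h
    exact isFlat_of_EC1 F (EC1_of_flat_stalks F P hP h)

end main


section top

open TopologicalSpace

theorem isFlat_iff_flat_stalks_top {X : TopCat.{u}} (O : TopCat.Sheaf CommRingCat.{u} X)
    (F : ModSite.Mod O) :
    ModSite.IsFlat F ↔ ∀ x : X, Module.Flat (ModSite.stalkRing (Opens.pointGrothendieckTopology x) O)
      (ModSite.stalkMod (Opens.pointGrothendieckTopology x) F) := by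
  refine (isFlat_iff_flat_stalks F (Opens.pointsGrothendieckTopology X)
    (Opens.isConservativeFamilyOfPoints_pointsGrothendieckTopology X)).trans ?_
  constructor
  · intro h x
    exact h _ (ObjectProperty.ofObj_apply _ x)
  · rintro h p ⟨x⟩
    exact h x

end top

end Groth.Agent.Lib.Helper4.StalkFlat
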