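import Mathlib
import Groth.Prelude.Def_ModSite2
import Groth.Agent.Lib.Helper4.FinKer
import Groth.Agent.Lib.Helper4.StalkFlat

/-!
# A map to a finite type module that is surjective on the stalk at a point is an epimorphism near the point (sites with a point; ringed spaces) (helper4)
-/

set_option backward.isDefEq.respectTransparency.types false
set_option synthInstance.maxHeartbeats 400000
set_option autoImplicit false
set_option linter.unusedSectionVars false
set_option linter.style.haveILetI false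
set_option linter.unusedSimpArgs false
universe u v w
open CategoryTheory CategoryTheory.Limits Opposite

namespace Groth.Agent.Lib.Helper4.FinStalk

open Groth.Agent.Lib.Helper4.PureTensor Groth.Agent.Lib.Helper4.EqCrit
  Groth.Agent.Lib.Helper4.OverMapPres Groth.Agent.Lib.Helper4.QSLocal
  Groth.Agent.Lib.Helper4.LocalLiftFree Groth.Agent.Lib.Helper5.RestrExact
  Groth.Agent.Lib.Helper4.FinGen Groth.Agent.Lib.Helper4.EqCritConv
  Groth.Agent.Lib.Helper4.FinPres Groth.Agent.Lib.Helper4.FinKer
  Groth.Agent.Lib.Helper4.StalkFlat ModSite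

variable {C : Type u} [SmallCategory C] {J : GrothendieckTopology C} {O : Sheaf J CommRingCat.{u}}
variable (p : GrothendieckTopology.Point.{u} J)

lemma stalkMap_germ {G F : ModSite.Mod O} (φ : G ⟶ F) (X : C) (x : p.fiber.obj X)
    (s : ModSite.sect G X) :
    (ModSite.stalkMap p φ).hom (germ p G X x s) = germ p F X x (ev φ X s) :=
  p.toPresheafFiber_naturality_apply
    ((SheafOfModules.toSheaf (ModSite.ringSh O)).map φ).hom X x s

/-- a neighbourhood of `p` over which `F` is generated by finitely many sections -/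
lemma exists_nbhd_finGenOn {F : ModSite.Mod O} (hF : LocFinGen F) :
    ∃ E : p.fiber.Elements, FinGenOn F E.1 := by
  obtain ⟨E₀⟩ := (IsCofiltered.nonempty : Nonempty p.fiber.Elements)
  obtain ⟨R, hR, hgen⟩ := hF E₀.1
  obtain ⟨Y, f, hf, y, hy⟩ := p.jointly_surjective R hR E₀.2
  exact ⟨⟨Y, y⟩, hgen f hf⟩

theorem exists_nbhd_epi {G F : ModSite.Mod O} (φ : G ⟶ F) (hF : LocFinGen F)
    (hx : Function.Surjective (ModSite.stalkMap p φ).hom) :
    ∃ E : p.fiber.Elements, Epi ((ModSite.restr O E.1).map φ) := by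
  obtain ⟨E₁, I, hI, s, hs⟩ := exists_nbhd_finGenOn p hF
  haveI := Fintype.ofFinite I
  choose m hm using fun j => hx (germ p F E₁.1 E₁.2 (s j))
  obtain ⟨E₂, g₂, t, ht⟩ := exists_common p (toAb G).obj m E₁
  have h4 : ∀ j ∈ (Finset.univ : Finset I),
      gE p (toAb F).obj E₂ (ev φ E₂.1 (t j)) = gE p (toAb F).obj E₂ (res F g₂.1 (s j)) := by
    intro j _
    refine (stalkMap_germ p φ E₂.1 E₂.2 (t j)).symm.trans ?_
    refine (congrArg (fun y => (ModSite.stalkMap p φ).hom y) (ht j)).trans ?_
    refine (hm j).trans ?_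
    exact (gE_res p (toAb F).obj g₂ (s j)).symm
  obtain ⟨E₃, g₃, h5⟩ := exists_common_eq p (toAb F).obj Finset.univ E₂ _ _ h4
  refine ⟨E₃, ?_⟩
  have hs₃ : GenBy F E₃.1 (fun j => res F g₃.1 (res F g₂.1 (s j))) :=
    (hs.restrict g₂.1).restrict g₃.1
  have hs₃' : GenBy F E₃.1 (fun j => ev φ E₃.1 (res G g₃.1 (t j))) := by
    refine genBy_congr (fun j => ?_) hs₃
    refine (h5 j (Finset.mem_univ j)).symm.trans ?_
    exact (ev_naturality φ g₃.1 (t j)).symm
  unfold GenBy at hs₃'
  rw [← genHom_comp] at hs₃'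
  exact epi_of_epi (genHom G E₃.1 (fun j => res G g₃.1 (t j))) _


open TopologicalSpace in
theorem main {X : TopCat.{u}} (O : TopCat.Sheaf CommRingCat.{u} X)
    {G F : ModSite.Mod O} (φ : G ⟶ F) [SheafOfModules.IsFiniteType (R := ModSite.ringSh O) F] (x : X)
    (hx : Function.Surjective (ModSite.stalkMap (Opens.pointGrothendieckTopology x) φ).hom) :
    ∃ U : Opens X, x ∈ U ∧ Epi ((ModSite.restr O U).map φ) := by
  obtain ⟨E, hE⟩ := exists_nbhd_epi (Opens.pointGrothendieckTopology x) φ
    (locFinGen_of_isFiniteType F) hx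
  exact ⟨E.1, E.2.down.down, hE⟩

end Groth.Agent.Lib.Helper4.FinStalk
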