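import Mathlib
import Groth.Prelude.Def_ModSite2
import Groth.Agent.Lib.Helper4.TensorPerm
import Groth.Agent.Lib.Helper4.StalkFlat
import Groth.Agent.Lib.Helper4.FinStalk

/-!
# A finitely presented module with a free stalk is free near the point; matrix calculus for morphisms of free modules over C/W (helper4) (helper4)
-/

set_option backward.isDefEq.respectTransparency.types false
set_option synthInstance.maxHeartbeats 400000
set_option autoImplicit false
set_option linter.unusedSectionVars false
set_option linter.style.haveILetI false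
set_option linter.unusedSimpArgs false
universe u v w
open CategoryTheory CategoryTheory.Limits Opposite

namespace Groth.Agent.Lib.Helper4.FreeStalk

open Groth.Agent.Lib.Helper4.PureTensor Groth.Agent.Lib.Helper4.EqCrit
  Groth.Agent.Lib.Helper4.OverMapPres Groth.Agent.Lib.Helper4.QSLocal
  Groth.Agent.Lib.Helper4.LocalLiftFree Groth.Agent.Lib.Helper5.RestrExact
  Groth.Agent.Lib.Helper4.FinGen Groth.Agent.Lib.Helper4.EqCritConv
  Groth.Agent.Lib.Helper4.FinPres Groth.Agent.Lib.Helper4.ColimLemmas
  Groth.Agent.Helper3.SHomEx Groth.Agent.Lib.Helper4.SheafHomColim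
  Groth.Agent.Lib.Helper5 Groth.Agent.Lib.Helper4.TensorFree
  Groth.Agent.Lib.Helper4.TensorPerm Groth.Agent.Lib.Helper4.StalkFlat
  Groth.Agent.Lib.Helper4.FinStalk

section mat

variable {C : Type u} [SmallCategory C] {J : GrothendieckTopology C} {O : Sheaf J CommRingCat.{u}}

lemma sum_scalHom_scalHom (W : C) {K : Type*} [Fintype K] (a b : K → O.obj.obj (op W)) :
    ∑ k, scalHom W (a k) ≫ scalHom W (b k) = scalHom W (∑ k, a k * b k) :=
  sum_scalHom_secHom (ModSite.unit O) W a b

lemma scalHom_zero (W : C) : scalHom (O := O) W 0 = 0 := by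
  have h := sum_scalHom_scalHom (O := O) W (K := Fin 0) (fun _ => 0) (fun _ => 0)
  simpa using h.symm

lemma scalHom_one (W : C) : scalHom (O := O) W 1 = 𝟙 _ := by
  apply unit_hom_ext
  intro Y
  rw [ev_scalHom]
  exact map_one (O.obj.map Y.hom.op).hom

lemma matHom_comp (W : C) {I Ig Ih : Type u} [Fintype Ig] [Fintype Ih]
    (a : I → Ig → O.obj.obj (op W)) (b : Ig → Ih → O.obj.obj (op W)) :
    matHom W a ≫ matHom W b = matHom W (fun j l => ∑ k, a j k * b k l) := by
  apply free_hom_ext
  intro j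
  rw [← Category.assoc, ιFree_matHom, ιFree_matHom, Preadditive.sum_comp]
  have h1 : ∀ k, (scalHom W (a j k) ≫ SheafOfModules.ιFree k) ≫ matHom W b =
      ∑ l, (scalHom W (a j k) ≫ scalHom W (b k l)) ≫ SheafOfModules.ιFree l := by
    intro k
    rw [Category.assoc, ιFree_matHom, Preadditive.comp_sum]
    simp only [Category.assoc]
  rw [Finset.sum_congr rfl (fun k _ => h1 k), Finset.sum_comm]
  refine Finset.sum_congr rfl (fun l _ => ?_)
  rw [← Preadditive.sum_comp, sum_scalHom_scalHom]

lemma matHom_zero (W : C) {I Ig : Type u} [Fintype Ig] :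
    matHom (O := O) W (fun (_ : I) (_ : Ig) => 0) = 0 := by
  apply free_hom_ext
  intro j
  rw [ιFree_matHom, comp_zero]
  refine Finset.sum_eq_zero (fun k _ => ?_)
  rw [scalHom_zero, zero_comp]

open Classical in
lemma matHom_one (W : C) {I : Type u} [Fintype I] :
    matHom (O := O) W (fun (j k : I) => if j = k then 1 else 0) = 𝟙 _ := by
  apply free_hom_ext
  intro j
  rw [ιFree_matHom, Category.comp_id]
  rw [Finset.sum_eq_single j]
  · rw [if_pos rfl, scalHom_one, Category.id_comp]
  · intro k _ hk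
    rw [if_neg (Ne.symm hk), scalHom_zero, zero_comp]
  · intro h
    exact absurd (Finset.mem_univ j) h

/-- the matrix of coefficients of a morphism of free modules -/
noncomputable def coef (W : C) {I Ig : Type u}
    (A : SheafOfModules.free (R := ModSite.ringSh (O.over W)) I ⟶
      SheafOfModules.free (R := ModSite.ringSh (O.over W)) Ig) (j : I) (k : Ig) :
    O.obj.obj (op W) :=
  ev (SheafOfModules.ιFree j ≫ A ≫ πFree k) (T₀ W) (one (T₀ W))

lemma eq_matHom (W : C) {I Ig : Type u} [Fintype Ig]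
    (A : SheafOfModules.free (R := ModSite.ringSh (O.over W)) I ⟶
      SheafOfModules.free (R := ModSite.ringSh (O.over W)) Ig) :
    A = matHom W (coef W A) := by
  apply free_hom_ext
  intro j
  rw [ιFree_matHom]
  refine (unit_to_free_decomp (SheafOfModules.ιFree j ≫ A)).trans ?_
  refine Finset.sum_congr rfl (fun k _ => ?_)
  congr 1
  rw [Category.assoc]
  exact eq_secHom (ModSite.unit O) (SheafOfModules.ιFree j ≫ A ≫ πFree k)

lemma resRel_matHom {W' W : C} (h : W' ⟶ W) {I Ig : Type u} [Fintype Ig]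
    (a : I → Ig → O.obj.obj (op W)) :
    resRel h (matHom W a) = matHom W' (fun j k => (O.obj.map h.op).hom (a j k)) := by
  apply free_hom_ext
  intro j
  unfold resRel
  rw [ιFree_matHom, ← Category.assoc, ιFree_GOFreeIso_hom, ← Category.assoc]
  refine (congrArg (fun w => w ≫ (GOFreeIso (O := O) h Ig).inv)
    ((GO O h).map_comp (SheafOfModules.ιFree j) (matHom W a)).symm).trans ?_
  rw [ιFree_matHom, (GO O h).map_sum, Preadditive.sum_comp]
  refine Finset.sum_congr rfl (fun k _ => ?_)
  have e2 : (GO O h).map (SheafOfModules.ιFree (R := ModSite.ringSh (O.over W)) k) ≫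
      (GOFreeIso (O := O) h Ig).inv = SheafOfModules.ιFree k := by
    refine (congrArg (fun w => w ≫ (GOFreeIso (O := O) h Ig).inv)
      (ιFree_GOFreeIso_hom (O := O) h k).symm).trans ?_
    refine (Category.assoc _ _ _).trans ?_
    rw [Iso.hom_inv_id]
    exact Category.comp_id _
  refine (congrArg (fun w => w ≫ (GOFreeIso (O := O) h Ig).inv)
    ((GO O h).map_comp (scalHom W (a j k)) (SheafOfModules.ιFree k))).trans ?_
  refine (Category.assoc _ _ _).trans ?_
  refine (congrArg (fun w => w ≫ (GO O h).map (SheafOfModules.ιFree (R := ModSite.ringSh (O.over W)) k) ≫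
      (GOFreeIso (O := O) h Ig).inv) (GO_map_scalHom h (a j k))).trans ?_
  exact congrArg (fun w => scalHom W' ((O.obj.map h.op).hom (a j k)) ≫ w) e2

end mat

section alg

variable {C : Type u} [SmallCategory C] {J : GrothendieckTopology C} {O : Sheaf J CommRingCat.{u}}

open Classical in
/-- the algebraic criterion: sections forming a "basis up to the presentation" give an isomorphism -/
lemma isIso_genHom_of_data (F : ModSite.Mod O) (W : C) {I Ig Ir : Type u} [Fintype I] [Fintype Ig]
    (pg : Ig → ModSite.sect F W) (a : Ir → Ig → O.obj.obj (op W))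
    (hA : IsCok (matHom W a) (genHom F W pg))
    (s : I → ModSite.sect F W) (c : Ig → I → O.obj.obj (op W)) (d : I → Ig → O.obj.obj (op W))
    (h1 : ∀ k, pg k = ∑ i, c k i • s i)
    (h2 : ∀ k i, ∑ j, a k j * c j i = 0)
    (h3 : ∀ i i', ∑ k, d i k * c k i' = if i = i' then 1 else 0)
    (h4 : ∀ i, s i = ∑ k, d i k • pg k) : IsIso (genHom F W s) := by
  have e1 : matHom W c ≫ genHom F W s = genHom F W pg := by
    rw [matHom_genHom]
    congr 1
    funext k
    exact (h1 k).symm
  have e2 : matHom W d ≫ genHom F W pg = genHom F W s := by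
    rw [matHom_genHom]
    congr 1
    funext i
    exact (h4 i).symm
  have h0 : matHom W a ≫ matHom W c = 0 := by
    rw [matHom_comp]
    have : (fun k i => ∑ j, a k j * c j i) = fun _ _ => 0 := funext fun k => funext fun i => h2 k i
    rw [this, matHom_zero]
  obtain ⟨χ, hχ⟩ := hA.desc (matHom W c) h0
  refine ⟨⟨χ, ?_, ?_⟩⟩
  · rw [← e2, Category.assoc, hχ, matHom_comp]
    have : (fun i i' => ∑ k, d i k * c k i') = fun i i' => if i = i' then 1 else 0 :=
      funext fun i => funext fun i' => h3 i i'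
    rw [this]
    exact matHom_one W
  · haveI := hA.epi
    rw [← cancel_epi (genHom F W pg), ← Category.assoc, hχ, e1, Category.comp_id]

end alg

section data

variable {C : Type u} [SmallCategory C] {J : GrothendieckTopology C} {O : Sheaf J CommRingCat.{u}}

lemma res_sum_smul' (F : ModSite.Mod O) {V W : C} (h : W ⟶ V) {K : Type*} [Fintype K]
    (a : K → O.obj.obj (op V)) (t : K → ModSite.sect F V) :
    res F h (∑ k, a k • t k) = ∑ k, (O.obj.map h.op).hom (a k) • res F h (t k) := by
  refine (map_sum (F.val.map h.op).hom _ _).trans ?_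
  refine Finset.sum_congr rfl (fun k _ => ?_)
  exact F.val.map_smul h.op (a k) (t k)

/-- presentation data together with candidate basis sections and coefficient matrices -/
structure PData (F : ModSite.Mod O) (W : C) (I : Type u) where
  Ig : Type u
  Ir : Type u
  fIg : Fintype Ig
  fIr : Fintype Ir
  pg : Ig → ModSite.sect F W
  a : Ir → Ig → O.obj.obj (op W)
  hA : IsCok (matHom W a) (genHom F W pg)
  s : I → ModSite.sect F W
  c : Ig → I → O.obj.obj (op W)

attribute [instance] PData.fIg PData.fIr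

/-- restriction of the data -/
noncomputable def PData.restrict {F : ModSite.Mod O} {W : C} {I : Type u} (D : PData F W I)
    {W' : C} (h : W' ⟶ W) : PData F W' I where
  Ig := D.Ig
  Ir := D.Ir
  fIg := D.fIg
  fIr := D.fIr
  pg := fun k => res F h (D.pg k)
  a := fun k j => (O.obj.map h.op).hom (D.a k j)
  hA := by
    have h1 := D.hA.restrict h
    rw [resRel_matHom] at h1
    exact h1
  s := fun i => res F h (D.s i)
  c := fun k i => (O.obj.map h.op).hom (D.c k i)

end data

section stalk

open ModSite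

variable {C : Type u} [SmallCategory C] {J : GrothendieckTopology C} {O : Sheaf J CommRingCat.{u}}
  (p : GrothendieckTopology.Point.{u} J) (F : ModSite.Mod O) {I : Type u} [Fintype I] [DecidableEq I]
  (hx : ModSite.stalkMod p F ≃ₗ[ModSite.stalkRing p O] (I → ModSite.stalkRing p O))

/-- the basis of the stalk -/
noncomputable def bas (i : I) : ModSite.stalkMod p F := hx.symm (Pi.single i 1)

lemma hx_bas (i : I) : hx (bas p F hx i) = Pi.single i 1 := hx.apply_symm_apply _

lemma hx_sum_bas (b : I → ModSite.stalkRing p O) : hx (∑ i, b i • bas p F hx i) = b := by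
  rw [map_sum]
  have h1 : ∀ i, hx (b i • bas p F hx i) = b i • (Pi.single i 1 : I → ModSite.stalkRing p O) :=
    fun i => by rw [map_smul, hx_bas]
  rw [Finset.sum_congr rfl (fun i _ => h1 i)]
  funext j
  simp [Finset.sum_apply, Pi.single_apply]

lemma eq_sum_bas (m : ModSite.stalkMod p F) : m = ∑ i, (hx m i) • bas p F hx i := by
  apply hx.injective
  rw [hx_sum_bas]

lemma germ_sum_smul' {X : C} (x : p.fiber.obj X) {K : Type*} [Fintype K]
    (a : K → O.obj.obj (op X)) (t : K → sect F X) :
    germ p F X x (∑ k, a k • t k) = ∑ k, germRing p X x (a k) • germ p F X x (t k) := by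
  refine (germ_sum p F x _ _).trans ?_
  exact Finset.sum_congr rfl (fun k _ => germ_smul p F X x (a k) (t k))

lemma germRing_sum_mul' {X : C} (x : p.fiber.obj X) {K : Type*} [Fintype K]
    (a b : K → O.obj.obj (op X)) :
    germRing p X x (∑ k, a k * b k) = ∑ k, germRing p X x (a k) * germRing p X x (b k) := by
  refine (map_sum (p.toPresheafFiber X x O.obj).hom _ _).trans ?_
  exact Finset.sum_congr rfl (fun k _ => map_mul (p.toPresheafFiber X x O.obj).hom _ _)

/-- presentation data near the point, with representatives of the basis and of the coordinates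
of the generators -/
lemma exists_pdata (hF : LocFinPres F) :
    ∃ (E : p.fiber.Elements) (D : PData F E.1 I) (d : I → D.Ig → O.obj.obj (op E.1)),
      (∀ i, germ p F E.1 E.2 (D.s i) = bas p F hx i) ∧
      (∀ k i, germRing p E.1 E.2 (D.c k i) = hx (germ p F E.1 E.2 (D.pg k)) i) ∧
      (∀ i, D.s i = ∑ k, d i k • D.pg k) := by
  obtain ⟨E₀⟩ := (IsCofiltered.nonempty : Nonempty p.fiber.Elements)
  obtain ⟨R, hR, hgen⟩ := hF E₀.1
  obtain ⟨Y, f, hf, y, hy⟩ := p.jointly_surjective R hR E₀.2
  obtain ⟨Ig, Ir, hIg, hIr, pg, A, hA⟩ := hgen f hf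
  haveI := Fintype.ofFinite Ig
  haveI := Fintype.ofFinite Ir
  rw [eq_matHom Y A] at hA
  let E₀' : p.fiber.Elements := ⟨Y, y⟩
  obtain ⟨E₁, g₁, s₁, hs₁⟩ := exists_common p (toAb F).obj (bas p F hx) E₀'
  obtain ⟨E₂, g₂, c₂, hc₂⟩ := exists_common p O.obj
    (fun ki : Ig × I => hx (germ p F Y y (pg ki.1)) ki.2) E₁
  let D₀ : PData F Y I := ⟨Ig, Ir, inferInstance, inferInstance, pg, coef Y A, hA,
    fun _ => 0, fun _ _ => 0⟩
  let D₂ : PData F E₂.1 I :=
    { D₀.restrict (g₂ ≫ g₁).1 with
      s := fun i => res F g₂.1 (s₁ i)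
      c := fun k i => c₂ (k, i) }
  choose T hT hTc using fun i =>
    GenBy.exists_local_comb (show GenBy F E₂.1 D₂.pg from D₂.hA.epi) (D₂.s i)
  obtain ⟨T', hT', hT'T⟩ := exists_common_sieve T hT
  obtain ⟨Y₃, f₃, hf₃, y₃, hy₃⟩ := p.jointly_surjective T' hT' E₂.2
  choose d hd using fun i => hTc i f₃ (hT'T f₃ hf₃ i)
  let E₃ : p.fiber.Elements := ⟨Y₃, y₃⟩
  let g₃ : E₃ ⟶ E₂ := ⟨f₃, hy₃⟩
  refine ⟨E₃, D₂.restrict f₃, d, ?_, ?_, ?_⟩
  · intro i
    change germ p F E₃.1 E₃.2 (res F g₃.1 (res F g₂.1 (s₁ i))) = _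
    rw [germ_res, germ_res]
    exact hs₁ i
  · intro k i
    change germRing p E₃.1 E₃.2 ((O.obj.map g₃.1.op).hom (c₂ (k, i))) =
      hx (germ p F E₃.1 E₃.2 (res F g₃.1 (res F (g₂ ≫ g₁).1 (pg k)))) i
    rw [germRing_res, germ_res, germ_res p F (g₂ ≫ g₁)]
    exact hc₂ (k, i)
  · intro i
    exact hd i

omit [DecidableEq I] in
lemma sections_eq_zero_of_genHom_eq_zero {W : C} {K : Type u} (t : K → sect F W)
    (h : genHom F W t = 0) (k : K) : t k = 0 := by
  have h1 := secOf_genHom F W t k
  rw [h] at h1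
  refine h1.symm.trans ?_
  unfold secOf
  rw [comp_zero]
  rfl

lemma germ_eqs {E : p.fiber.Elements} (D : PData F E.1 I) (d : I → D.Ig → O.obj.obj (op E.1))
    (h1 : ∀ i, germ p F E.1 E.2 (D.s i) = bas p F hx i)
    (h2 : ∀ k i, germRing p E.1 E.2 (D.c k i) = hx (germ p F E.1 E.2 (D.pg k)) i)
    (h3 : ∀ i, D.s i = ∑ k, d i k • D.pg k) :
    (∀ k, germ p F E.1 E.2 (D.pg k) = germ p F E.1 E.2 (∑ i, D.c k i • D.s i)) ∧
    (∀ (k : D.Ir) (i : I),
      germRing p E.1 E.2 (∑ j, D.a k j * D.c j i) = germRing p E.1 E.2 0) ∧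
    (∀ i i' : I, germRing p E.1 E.2 (∑ k, d i k * D.c k i') =
      germRing p E.1 E.2 (if i = i' then 1 else 0)) := by
  refine ⟨?_, ?_, ?_⟩
  · intro k
    rw [germ_sum_smul']
    rw [Finset.sum_congr rfl (fun i _ => by rw [h1 i, h2 k i])]
    exact eq_sum_bas p F hx _
  · intro k i
    have hz : ∑ j, D.a k j • D.pg j = 0 := by
      have h0 := D.hA.zero
      rw [matHom_genHom] at h0
      exact sections_eq_zero_of_genHom_eq_zero F _ h0 k
    have hg := congrArg (germ p F E.1 E.2) hz
    rw [germ_sum_smul', germ_zero] at hg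
    have hg2 := congrArg (fun m => hx m i) hg
    simp only [map_sum, map_smul, map_zero, Finset.sum_apply, Pi.smul_apply, smul_eq_mul,
      Pi.zero_apply] at hg2
    rw [germRing_sum_mul', germRing_zero]
    rw [Finset.sum_congr rfl (fun j _ => by rw [h2 j i])]
    exact hg2
  · intro i i'
    have hg := congrArg (germ p F E.1 E.2) (h3 i)
    rw [germ_sum_smul', h1 i] at hg
    have hg2 := congrArg (fun m => hx m i') hg
    simp only [map_sum, map_smul, Finset.sum_apply, Pi.smul_apply, smul_eq_mul] at hg2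
    rw [hx_bas] at hg2
    rw [germRing_sum_mul']
    rw [Finset.sum_congr rfl (fun k _ => by rw [h2 k i'])]
    refine hg2.symm.trans ?_
    rw [Pi.single_apply]
    by_cases hii : i = i'
    · rw [if_pos hii, if_pos hii.symm]
      exact (map_one (p.toPresheafFiber E.1 E.2 O.obj).hom).symm
    · rw [if_neg hii, if_neg (Ne.symm hii)]
      exact (germRing_zero p E.2).symm

include hx in
theorem exists_nbhd_free (hF : LocFinPres F) :
    ∃ (E : p.fiber.Elements) (s : I → sect F E.1), IsIso (genHom F E.1 s) := by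
  obtain ⟨E, D, d, h1, h2, h3⟩ := exists_pdata p F hx hF
  obtain ⟨e1, e2, e3⟩ := germ_eqs p F hx D d h1 h2 h3
  obtain ⟨E', g, hz, hw⟩ := exists_common_eq₂ p F E (ι := D.Ig) (κ := (D.Ir × I) ⊕ (I × I))
    (fun k => D.pg k) (fun k => ∑ i, D.c k i • D.s i)
    (Sum.elim (fun ki => ∑ j, D.a ki.1 j * D.c j ki.2) (fun ii => ∑ k, d ii.1 k * D.c k ii.2))
    (Sum.elim (fun _ => 0) (fun ii => if ii.1 = ii.2 then 1 else 0))
    e1 (by
      rintro (⟨k, i⟩ | ⟨i, i'⟩)
      · exact e2 k i
      · exact e3 i i')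
  refine ⟨E', (D.restrict g.1).s, ?_⟩
  refine isIso_genHom_of_data F E'.1 (D.restrict g.1).pg (D.restrict g.1).a (D.restrict g.1).hA
    (D.restrict g.1).s (D.restrict g.1).c (fun i k => (O.obj.map g.1.op).hom (d i k)) ?_ ?_ ?_ ?_
  · intro k
    exact (hz k).trans (res_sum_smul' F g.1 (D.c k) D.s)
  · intro k i
    have := hw (Sum.inl (k, i))
    simp only [Sum.elim_inl, map_sum, map_mul, map_zero] at this
    exact this
  · intro i i'
    have := hw (Sum.inr (i, i'))
    simp only [Sum.elim_inr, map_sum, map_mul] at this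
    refine this.trans ?_
    by_cases hii : i = i'
    · rw [if_pos hii, if_pos hii]
      exact map_one _
    · rw [if_neg hii, if_neg hii]
      exact map_zero _
  · intro i
    change res F g.1 (D.s i) = _
    rw [h3 i]
    exact res_sum_smul' F g.1 (d i) D.pg

end stalk

open TopologicalSpace in
theorem main {X : TopCat.{u}} (O : TopCat.Sheaf CommRingCat.{u} X)
    (F : ModSite.Mod O) [SheafOfModules.IsFinitePresentation (R := ModSite.ringSh O) F] (x : X) (r : ℕ)
    (hx : Nonempty (ModSite.stalkMod (Opens.pointGrothendieckTopology x) F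
      ≃ₗ[ModSite.stalkRing (Opens.pointGrothendieckTopology x) O]
        (Fin r → ModSite.stalkRing (Opens.pointGrothendieckTopology x) O))) :
    ∃ U : Opens X, x ∈ U ∧
      Nonempty ((ModSite.restr O U).obj F ≅ SheafOfModules.free (ULift.{u} (Fin r))) := by
  classical
  obtain ⟨e⟩ := hx
  let e' := e.trans (LinearEquiv.funCongrLeft (ModSite.stalkRing (Opens.pointGrothendieckTopology x) O)
    (ModSite.stalkRing (Opens.pointGrothendieckTopology x) O)
    (Equiv.ulift : ULift.{u} (Fin r) ≃ Fin r))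
  obtain ⟨E, s, hs⟩ := exists_nbhd_free (Opens.pointGrothendieckTopology x) F e'
    (locFinPres_of_isFinitePresentation F)
  exact ⟨E.1, E.2.down.down, ⟨(asIso (genHom F E.1 s)).symm⟩⟩

end Groth.Agent.Lib.Helper4.FreeStalk
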