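import Mathlib
import Groth.Prelude.Def_ModSite2
import Groth.Agent.Lib.Helper4.FreeStalk
import Groth.Agent.Lib.Helper4.EpiIsoFree

/-!
# Direct summands of finite locally free modules on locally ringed spaces are locally free; stalks of free modules; comparison of topological and site stalks (helper4) (helper4)
-/

set_option backward.isDefEq.respectTransparency.types false
set_option synthInstance.maxHeartbeats 400000
set_option autoImplicit false
set_option linter.unusedSectionVars false
set_option linter.style.haveILetI false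
set_option linter.unusedSimpArgs false
universe u v w
open CategoryTheory CategoryTheory.Limits Opposite

namespace Groth.Agent.Lib.Helper4.RetractLocFree

open Groth.Agent.Lib.Helper4.PureTensor Groth.Agent.Lib.Helper4.EqCrit
  Groth.Agent.Lib.Helper4.OverMapPres Groth.Agent.Lib.Helper4.QSLocal
  Groth.Agent.Lib.Helper4.LocalLiftFree Groth.Agent.Lib.Helper5.RestrExact
  Groth.Agent.Lib.Helper4.FinGen Groth.Agent.Lib.Helper4.EqCritConv
  Groth.Agent.Lib.Helper4.FinPres Groth.Agent.Lib.Helper4.ColimLemmas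
  Groth.Agent.Helper3.SHomEx Groth.Agent.Lib.Helper4.SheafHomColim
  Groth.Agent.Lib.Helper5 Groth.Agent.Lib.Helper4.TensorFree
  Groth.Agent.Lib.Helper4.TensorPerm Groth.Agent.Lib.Helper4.StalkFlat
  Groth.Agent.Lib.Helper4.FinStalk Groth.Agent.Lib.Helper4.FreeStalk
  Groth.Agent.Lib.Helper4.EpiIsoFree

section abstract

variable {𝒜 : Type w} [Category.{v} 𝒜] [Abelian 𝒜]

/-- a retract is the cokernel of the complementary idempotent -/
lemma isCok_of_retract {F H : 𝒜} (i : F ⟶ H) (p : H ⟶ F) (hip : i ≫ p = 𝟙 F) :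
    IsCok (𝟙 H - p ≫ i) p := by
  have hz : (𝟙 H - p ≫ i) ≫ p = 0 := by
    rw [Preadditive.sub_comp, Category.id_comp, Category.assoc, hip, Category.comp_id, sub_self]
  refine IsCok.of_isColimit hz ?_
  refine CokernelCofork.IsColimit.ofπ _ _ (fun {Z} k _ => i ≫ k) ?_ ?_
  · intro Z k hk
    rw [Preadditive.sub_comp, Category.id_comp, sub_eq_zero, Category.assoc] at hk
    exact hk.symm
  · intro Z k hk m hm
    rw [← hm, ← Category.assoc, hip, Category.id_comp]

lemma isCok_zero_of_isIso {X Y Q : 𝒜} (π : Y ⟶ Q) [IsIso π] : IsCok (0 : X ⟶ Y) π := by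
  refine IsCok.of_isColimit zero_comp ?_
  refine CokernelCofork.IsColimit.ofπ _ _ (fun {Z} k _ => inv π ≫ k) ?_ ?_
  · intro Z k hk
    rw [IsIso.hom_inv_id_assoc]
  · intro Z k hk m hm
    rw [← hm, IsIso.inv_hom_id_assoc]

end abstract

section site

variable {C : Type u} [SmallCategory C] {J : GrothendieckTopology C} {O : Sheaf J CommRingCat.{u}}

lemma finPresOn_of_freeOnI {I : Type u} [Finite I] {H : ModSite.Mod O} {W : C}
    (h : FreeOnI I H W) : FinPresOn H W := by
  obtain ⟨s, hs⟩ := h
  exact ⟨I, PEmpty, inferInstance, inferInstance, s, 0, isCok_zero_of_isIso _⟩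

lemma finGenOn_of_freeOnI {I : Type u} [Finite I] {H : ModSite.Mod O} {W : C}
    (h : FreeOnI I H W) : FinGenOn H W := by
  obtain ⟨s, hs⟩ := h
  refine ⟨I, inferInstance, s, ?_⟩
  unfold GenBy
  infer_instance

/-- a cokernel of a map from a locally finitely generated module to a locally finitely presented
one is locally finitely presented -/
theorem locFinPres_of_isCok {G F Q : ModSite.Mod O} (φ : G ⟶ F) (q : F ⟶ Q) (hq : IsCok φ q)
    (hG : LocFinGen G) (hF : LocFinPres F) : LocFinPres Q := by
  intro V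
  obtain ⟨R₁, hR₁, hg₁⟩ := hG V
  obtain ⟨R₂, hR₂, hg₂⟩ := hF V
  refine locally_of_locally (J.intersection_covering hR₁ hR₂) ?_
  intro W g hg
  obtain ⟨I, hI, s, hs⟩ := hg₁ g hg.1
  obtain ⟨Ig, Ir, hIg, hIr, p, A, hA⟩ := hg₂ g hg.2
  haveI := Fintype.ofFinite Ig
  obtain ⟨T, hT, hTf⟩ := GenBy.exists_local_factor (show GenBy F W p from hA.epi)
    (fun j => ev φ W (s j))
  refine ⟨T, hT, ?_⟩
  intro W' h hh
  obtain ⟨μ, hμ⟩ := hTf h hh
  have hγ : Epi (genHom G W' (fun j => res G h (s j))) := hs.restrict h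
  have hA' := hA.restrict h
  have hq' : IsCok ((ModSite.restr O W').map φ) ((ModSite.restr O W').map q) := hq.restr W'
  have hμ' : μ ≫ genHom F W' (fun k => res F h (p k)) =
      genHom G W' (fun j => res G h (s j)) ≫ (ModSite.restr O W').map φ := by
    rw [hμ, genHom_comp]
    congr 1
    funext j
    exact (ev_naturality φ h (s j)).symm
  have key := IsCok.comp hA' hq' (genHom G W' (fun j => res G h (s j))) μ hμ'
    (sumDesc (resRel h A) μ) (SheafOfModules.freeMap Sum.inl) (SheafOfModules.freeMap Sum.inr)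
    (inl_sumDesc _ _) (inr_sumDesc _ _) (fun N k h1 h2 => sum_hom_ext_zero k h1 h2)
  rw [genHom_comp] at key
  exact ⟨Ig, Ir ⊕ I, hIg, inferInstance, _, _, key⟩

lemma coef_matHom (W : C) {I Ig : Type u} [Fintype Ig] (a : I → Ig → O.obj.obj (op W))
    (j : I) (k : Ig) : coef W (matHom W a) j k = a j k := by
  classical
  unfold coef
  have h1 : SheafOfModules.ιFree j ≫ matHom W a ≫ πFree k = scalHom W (a j k) := by
    rw [← Category.assoc, ιFree_matHom, Preadditive.sum_comp]
    rw [Finset.sum_eq_single k]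
    · rw [Category.assoc, ιFree_πFree_self]
      exact Category.comp_id _
    · intro k' _ hk'
      rw [Category.assoc, ιFree_πFree_ne hk', comp_zero]
    · intro h
      exact absurd (Finset.mem_univ k) h
  rw [h1, ev_scalHom]
  change (O.obj.map (𝟙 W).op).hom (a j k) = a j k
  rw [op_id, CategoryTheory.Functor.map_id]
  rfl

lemma genHom_zero (M : ModSite.Mod O) (W : C) {K : Type u} :
    genHom M W (fun _ : K => (0 : ModSite.sect M W)) = 0 := by
  have h := matHom_genHom M W (I := K) (Ig := PEmpty) (fun _ k => k.elim) (fun k => k.elim)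
  have h2 : matHom (O := O) W (I := K) (Ig := PEmpty) (fun _ k => k.elim) = 0 := by
    apply free_hom_ext
    intro j
    rw [ιFree_matHom, comp_zero]
    exact Finset.sum_empty
  rw [h2, zero_comp] at h
  refine Eq.trans ?_ h.symm
  congr 1

/-- sections freely generating have no nontrivial relations -/
lemma coeff_zero_of_isIso (M : ModSite.Mod O) (W : C) {I : Type u} [Fintype I]
    (s : I → ModSite.sect M W) (hs : IsIso (genHom M W s)) (β : I → O.obj.obj (op W))
    (h : ∑ i, β i • s i = 0) (i : I) : β i = 0 := by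
  have h1 := matHom_genHom M W (I := PUnit.{u+1}) (fun _ i => β i) s
  have h2 : genHom M W (fun _ : PUnit.{u+1} => ∑ k, β k • s k) = 0 := by
    rw [h]
    exact genHom_zero M W
  rw [h2] at h1
  have h3 : matHom W (fun (_ : PUnit.{u+1}) i => β i) = 0 := by
    rw [← cancel_mono (genHom M W s), h1, zero_comp]
  have h4 := coef_matHom W (fun (_ : PUnit.{u+1}) i => β i) PUnit.unit i
  rw [h3] at h4
  refine h4.symm.trans ?_
  unfold coef
  rw [zero_comp, comp_zero]
  rfl

end site

section stalk

open ModSite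

variable {C : Type u} [SmallCategory C] {J : GrothendieckTopology C} {O : Sheaf J CommRingCat.{u}}
  (p : GrothendieckTopology.Point.{u} J) (H : ModSite.Mod O) {I : Type u} [Fintype I]

/-- the linear map `O_p^I → H_p` defined by a family of sections -/
noncomputable def combHom (E : p.fiber.Elements) (s : I → sect H E.1) :
    (I → stalkRing p O) →ₗ[stalkRing p O] stalkMod p H :=
  ∑ i, (LinearMap.proj i).smulRight (germ p H E.1 E.2 (s i) : stalkMod p H)

lemma combHom_apply (E : p.fiber.Elements) (s : I → sect H E.1) (b : I → stalkRing p O) :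
    combHom p H E s b = ∑ i, b i • (germ p H E.1 E.2 (s i) : stalkMod p H) := by
  simp [combHom]

lemma combHom_surjective (E : p.fiber.Elements) (s : I → sect H E.1)
    (hs : IsIso (genHom H E.1 s)) : Function.Surjective (combHom p H E s) := by
  intro m
  obtain ⟨E', g, t, ht⟩ := exists_common p (toAb H).obj (fun _ : Unit => (m : stalkAb p H)) E
  have hgen : GenBy H E'.1 (fun i => res H g.1 (s i)) := by
    have h0 : GenBy H E.1 s := by
      unfold GenBy
      infer_instance
    exact h0.restrict g.1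
  obtain ⟨T, hT, hTc⟩ := GenBy.exists_local_comb hgen (t ())
  obtain ⟨Y, f, hf, y, hy⟩ := p.jointly_surjective T hT E'.2
  obtain ⟨a, ha⟩ := hTc f hf
  let E'' : p.fiber.Elements := ⟨Y, y⟩
  let g' : E'' ⟶ E' := ⟨f, hy⟩
  refine ⟨fun k => germRing p Y y (a k), ?_⟩
  rw [combHom_apply]
  have h1 : (m : stalkAb p H) = germ p H E''.1 E''.2 (res H g'.1 (t ())) := by
    rw [germ_res]
    exact (ht ()).symm
  refine Eq.trans ?_ h1.symm
  have h2 : res H g'.1 (t ()) = ∑ k, a k • res H g'.1 (res H g.1 (s k)) := ha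
  rw [h2, germ_sum_smul']
  refine Finset.sum_congr rfl (fun k _ => ?_)
  rw [germ_res, germ_res]

lemma combHom_injective (E : p.fiber.Elements) (s : I → sect H E.1)
    (hs : IsIso (genHom H E.1 s)) : Function.Injective (combHom p H E s) := by
  rw [← LinearMap.ker_eq_bot, LinearMap.ker_eq_bot']
  intro b hb
  rw [combHom_apply] at hb
  obtain ⟨E', g, β, hβ⟩ := exists_common p O.obj b E
  have h0 : germ p H E'.1 E'.2 (∑ i, β i • res H g.1 (s i)) = 0 := by
    rw [germ_sum_smul']
    refine Eq.trans (Finset.sum_congr rfl (fun i _ => ?_)) hb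
    rw [germ_res]
    exact congrArg (fun c => c • germ p H E.1 E.2 (s i)) (hβ i)
  obtain ⟨E'', g', hz⟩ := germ_eq_zero p H _ h0
  rw [res_sum_smul'] at hz
  have hiso : IsIso (genHom H E''.1 (fun i => res H g'.1 (res H g.1 (s i)))) :=
    isIso_genHom_restrict (isIso_genHom_restrict hs g.1) g'.1
  funext i
  have h3 := coeff_zero_of_isIso H E''.1 _ hiso _ hz i
  have h4 : b i = germRing p E''.1 E''.2 ((O.obj.map g'.1.op).hom (β i)) := by
    rw [germRing_res]
    exact (hβ i).symm
  rw [h4, h3]
  exact germRing_zero p E''.2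

/-- the stalk of a module free over a neighbourhood -/
noncomputable def stalkEquivOfFree (E : p.fiber.Elements) (s : I → sect H E.1)
    (hs : IsIso (genHom H E.1 s)) : (I → stalkRing p O) ≃ₗ[stalkRing p O] stalkMod p H :=
  LinearEquiv.ofBijective (combHom p H E s)
    ⟨combHom_injective p H E s hs, combHom_surjective p H E s hs⟩

end stalk

section retract

open ModSite

variable {C : Type u} [SmallCategory C] {J : GrothendieckTopology C} {O : Sheaf J CommRingCat.{u}}
  (p : GrothendieckTopology.Point.{u} J) {I : Type u} [Fintype I]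

lemma stalk_retract {F H : ModSite.Mod O} (i : F ⟶ H) (q : H ⟶ F) (hiq : i ≫ q = 𝟙 F)
    (m : stalkMod p F) : (stalkMap p q).hom ((stalkMap p i).hom m) = m := by
  obtain ⟨X, x, m0, rfl⟩ := p.toPresheafFiber_jointly_surjective (P := (toAb F).obj)
    (m : stalkAb p F)
  change (stalkMap p q).hom ((stalkMap p i).hom (germ p F X x m0)) = germ p F X x m0
  rw [stalkMap_germ, stalkMap_germ, ← ev_comp, hiq]
  rfl

theorem exists_stalk_equiv_of_retract [IsLocalRing (stalkRing p O)] {F H : ModSite.Mod O}
    (i : F ⟶ H) (q : H ⟶ F) (hiq : i ≫ q = 𝟙 F) (E : p.fiber.Elements) (s : I → sect H E.1)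
    (hs : IsIso (genHom H E.1 s)) :
    ∃ r : ℕ, Nonempty (stalkMod p F ≃ₗ[stalkRing p O] (Fin r → stalkRing p O)) := by
  let θ := stalkEquivOfFree p H E s hs
  haveI : Module.Finite (stalkRing p O) (stalkMod p H) := Module.Finite.equiv θ
  haveI : Module.Free (stalkRing p O) (stalkMod p H) := Module.Free.of_equiv θ
  have hba : (stalkMap p q).hom ∘ₗ (stalkMap p i).hom = LinearMap.id :=
    LinearMap.ext (stalk_retract p i q hiq)
  haveI : Module.Finite (stalkRing p O) (stalkMod p F) :=
    Module.Finite.of_surjective (stalkMap p q).hom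
      (fun m => ⟨(stalkMap p i).hom m, stalk_retract p i q hiq m⟩)
  haveI : Module.Projective (stalkRing p O) (stalkMod p F) :=
    Module.Projective.of_split (stalkMap p i).hom (stalkMap p q).hom hba
  haveI : Module.Free (stalkRing p O) (stalkMod p F) := Module.free_of_flat_of_isLocalRing
  exact ⟨_, ⟨(Module.finBasis (stalkRing p O) (stalkMod p F)).equivFun⟩⟩

end retract

section top

open TopologicalSpace ModSite

variable {X : TopCat.{u}} (O : TopCat.Sheaf CommRingCat.{u} X) (x : X)

/-- comparison of the topological stalk with the stalk at the corresponding point of the site -/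
noncomputable def stalkComparison :
    O.presheaf.stalk x ⟶ stalkRing (Opens.pointGrothendieckTopology x) O :=
  colimit.desc ((OpenNhds.inclusion x).op ⋙ O.presheaf)
    { pt := stalkRing (Opens.pointGrothendieckTopology x) O
      ι :=
        { app := fun U => (Opens.pointGrothendieckTopology x).toPresheafFiber U.unop.1
            ⟨⟨U.unop.2⟩⟩ O.obj
          naturality := by
            intro U V f
            refine Eq.trans ?_ (Category.comp_id _).symm
            exact (Opens.pointGrothendieckTopology x).toPresheafFiber_w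
              ((OpenNhds.inclusion x).map f.unop) ⟨⟨V.unop.2⟩⟩ O.obj } }

lemma germ_stalkComparison (U : Opens X) (hx : x ∈ U) :
    O.presheaf.germ U x hx ≫ stalkComparison O x =
      (Opens.pointGrothendieckTopology x).toPresheafFiber U ⟨⟨hx⟩⟩ O.obj :=
  colimit.ι_desc _ _

lemma stalkComparison_surjective : Function.Surjective (stalkComparison O x).hom := by
  intro a
  obtain ⟨U, hU, r, rfl⟩ := (Opens.pointGrothendieckTopology x).toPresheafFiber_jointly_surjective
    (P := O.obj) a
  refine ⟨(O.presheaf.germ U x hU.down.down).hom r, ?_⟩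
  exact congrArg (fun t => t.hom r) (germ_stalkComparison O x U hU.down.down)

lemma nontrivial_stalkRing [Nontrivial (O.presheaf.stalk x)] :
    Nontrivial (stalkRing (Opens.pointGrothendieckTopology x) O) := by
  by_contra hn
  rw [not_nontrivial_iff_subsingleton] at hn
  obtain ⟨E⟩ := (IsCofiltered.nonempty :
    Nonempty (Opens.pointGrothendieckTopology x).fiber.Elements)
  have h1 : germRing (Opens.pointGrothendieckTopology x) E.1 E.2 (1 : O.obj.obj (op E.1)) =
      germRing (Opens.pointGrothendieckTopology x) E.1 E.2 0 := Subsingleton.elim _ _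
  obtain ⟨E', g, hg⟩ := germRing_eq (Opens.pointGrothendieckTopology x) _ _ h1
  rw [map_one, map_zero] at hg
  have h2 : (1 : O.presheaf.stalk x) = 0 := by
    have h3 := congrArg (O.presheaf.germ E'.1 x E'.2.down.down).hom hg
    rw [map_one, map_zero] at h3
    exact h3
  exact one_ne_zero h2

lemma isLocalRing_stalkRing [IsLocalRing (O.presheaf.stalk x)] :
    IsLocalRing (stalkRing (Opens.pointGrothendieckTopology x) O) := by
  haveI := nontrivial_stalkRing O x
  exact IsLocalRing.of_surjective' (stalkComparison O x).hom (stalkComparison_surjective O x)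

end top

open TopologicalSpace in
theorem main {X : TopCat.{u}}
    (O : TopCat.Sheaf CommRingCat.{u} X) (hO : ∀ x : X, IsLocalRing (O.presheaf.stalk x))
    {F H : ModSite.Mod O}
    (hH : ∀ x : X, ∃ (U : Opens X) (n : ℕ), x ∈ U ∧
      Nonempty ((ModSite.restr O U).obj H ≅ SheafOfModules.free (ULift.{u} (Fin n))))
    (i : F ⟶ H) (p : H ⟶ F) (hip : i ≫ p = 𝟙 F) (x : X) :
    ∃ (U : Opens X) (n : ℕ), x ∈ U ∧
      Nonempty ((ModSite.restr O U).obj F ≅ SheafOfModules.free (ULift.{u} (Fin n))) := by
  have hloc : ∀ V : Opens X, ∃ R ∈ Opens.grothendieckTopology X V,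
      ∀ ⦃W : Opens X⦄ (g : W ⟶ V), R g → ∃ n : ℕ, FreeOnI (ULift.{u} (Fin n)) H W := by
    intro V
    refine ⟨⟨fun W _ => ∃ n : ℕ, FreeOnI (ULift.{u} (Fin n)) H W, ?_⟩, ?_, fun W g hg => hg⟩
    · rintro Y Z f ⟨n, hf⟩ g
      exact ⟨n, hf.restrict g⟩
    · intro y hy
      obtain ⟨U, n, hyU, ⟨α⟩⟩ := hH y
      exact ⟨V ⊓ U, homOfLE inf_le_left,
        ⟨n, (freeOnI_of_iso α).restrict (homOfLE inf_le_right)⟩, ⟨hy, hyU⟩⟩
  have hG : LocFinGen H := fun V => by
    obtain ⟨R, hR, h⟩ := hloc V
    refine ⟨R, hR, fun W g hg => ?_⟩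
    obtain ⟨n, hn⟩ := h g hg
    exact finGenOn_of_freeOnI hn
  have hP : LocFinPres H := fun V => by
    obtain ⟨R, hR, h⟩ := hloc V
    refine ⟨R, hR, fun W g hg => ?_⟩
    obtain ⟨n, hn⟩ := h g hg
    exact finPresOn_of_freeOnI hn
  have hFP : LocFinPres F :=
    locFinPres_of_isCok (𝟙 H - p ≫ i) p (isCok_of_retract i p hip) hG hP
  haveI := isFinitePresentation_of_locFinPres F hFP
  obtain ⟨U, n, hxU, ⟨α⟩⟩ := hH x
  obtain ⟨s, hs⟩ := freeOnI_of_iso α
  haveI := hO x
  haveI := isLocalRing_stalkRing O x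
  obtain ⟨r, hr⟩ := exists_stalk_equiv_of_retract (Opens.pointGrothendieckTopology x) i p hip
    ⟨U, ⟨⟨hxU⟩⟩⟩ s hs
  obtain ⟨U', hxU', hU'⟩ := Groth.Agent.Lib.Helper4.FreeStalk.main O F x r hr
  exact ⟨U', r, hxU', hU'⟩

end Groth.Agent.Lib.Helper4.RetractLocFree
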