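import Mathlib
import Groth.Prelude.Def_ModSite2
import Groth.Agent.Lib.Helper4.RetractLocFree
import Groth.Agent.Lib.Lead.QB1

/-!
# Filtered colimits of sheaves of modules near a point: stalks, local preimages and vanishing; a finite type directed colimit on a quasi-compact ringed space is reached at a stage (helper4) (helper4)
-/

set_option backward.isDefEq.respectTransparency.types false
set_option synthInstance.maxHeartbeats 400000
set_option autoImplicit false
set_option linter.unusedSectionVars false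
set_option linter.style.haveILetI false
set_option linter.unusedSimpArgs false
universe u v w
open CategoryTheory CategoryTheory.Limits Opposite

namespace Groth.Agent.Lib.Helper4.DirColim

open Groth.Agent.Lib.Helper4.PureTensor Groth.Agent.Lib.Helper4.EqCrit
  Groth.Agent.Lib.Helper4.OverMapPres Groth.Agent.Lib.Helper4.QSLocal
  Groth.Agent.Lib.Helper4.LocalLiftFree Groth.Agent.Lib.Helper5.RestrExact
  Groth.Agent.Lib.Helper4.FinGen Groth.Agent.Lib.Helper4.EqCritConv
  Groth.Agent.Lib.Helper4.FinPres Groth.Agent.Lib.Helper4.ColimLemmas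
  Groth.Agent.Helper3.SHomEx Groth.Agent.Lib.Helper4.SheafHomColim
  Groth.Agent.Lib.Helper5 Groth.Agent.Lib.Helper4.TensorFree
  Groth.Agent.Lib.Helper4.TensorPerm Groth.Agent.Lib.Helper4.StalkFlat
  Groth.Agent.Lib.Helper4.FinStalk Groth.Agent.Lib.Helper4.FreeStalk
  Groth.Agent.Lib.Helper4.EpiIsoFree Groth.Agent.Lib.Helper4.RetractLocFree
  Groth.Agent.Lib.Helper4.QSLocal2

section stalkcolim

open ModSite

variable {C : Type u} [SmallCategory C] {J : GrothendieckTopology C} {O : Sheaf J CommRingCat.{u}}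
  (p : GrothendieckTopology.Point.{u} J)
  {Λ : Type u} [SmallCategory Λ] [IsFiltered Λ] (D : Λ ⥤ ModSite.Mod O) (c : Cocone D)
  (hc : IsColimit c)

/-- the stalk functor to abelian groups -/
noncomputable abbrev stalkFun : ModSite.Mod O ⥤ AddCommGrpCat.{u} :=
  SheafOfModules.toSheaf (ModSite.ringSh O) ⋙ p.sheafFiber (A := AddCommGrpCat.{u})

/-- the stalk of a filtered colimit is the colimit of the stalks -/
noncomputable def isColimitStalk : IsColimit ((stalkFun (O := O) p).mapCocone c) :=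
  isColimitOfPreserves (stalkFun (O := O) p) hc

include hc in
lemma stalk_colimit_surj (m : stalkAb p c.pt) :
    ∃ (i : Λ) (m' : stalkAb p (D.obj i)), (stalkMap p (c.ι.app i)).hom m' = m :=
  Concrete.isColimit_exists_rep (D ⋙ stalkFun (O := O) p) (isColimitStalk p D c hc) m

include hc in
lemma stalk_colimit_inj {i : Λ} (m' : stalkAb p (D.obj i))
    (h : (stalkMap p (c.ι.app i)).hom m' = 0) :
    ∃ (k : Λ) (f : i ⟶ k), (stalkMap p (D.map f)).hom m' = 0 := by
  have h' : ((stalkFun (O := O) p).mapCocone c).ι.app i m' =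
      ((stalkFun (O := O) p).mapCocone c).ι.app i (0 : stalkAb p (D.obj i)) :=
    h.trans (map_zero _).symm
  obtain ⟨k, f, g, hfg⟩ := Concrete.isColimit_exists_of_rep_eq (D ⋙ stalkFun (O := O) p)
    (isColimitStalk p D c hc) m' (0 : stalkAb p (D.obj i)) h'
  refine ⟨k, f, ?_⟩
  exact hfg.trans (map_zero _)

end stalkcolim

section locepi

variable {C : Type u} [SmallCategory C] {J : GrothendieckTopology C} {O : Sheaf J CommRingCat.{u}}

/-- a morphism which is locally an epimorphism is an epimorphism -/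
lemma epi_of_locally_epi {M N : ModSite.Mod O} (φ : M ⟶ N)
    (h : ∀ V : C, ∃ R ∈ J V, ∀ ⦃W : C⦄ (g : W ⟶ V), R g → Epi ((ModSite.restr O W).map φ)) :
    Epi φ := by
  apply epi_of_locally_surjective_sections
  intro V s
  obtain ⟨R, hR, hepi⟩ := h V
  have key : ∀ ⦃W : C⦄ (g : W ⟶ V), R g → ∃ T ∈ J W, ∀ ⦃W' : C⦄ (k : W' ⟶ W), T k →
      ∃ t : ModSite.sect M W', (φ.val.app (op W')).hom t = (N.val.map (k ≫ g).op).hom s := by
    intro W g hg
    haveI := hepi g hg
    obtain ⟨S, hS, hSl⟩ := exists_local_lift (O := O.over W) ((ModSite.restr O W).map φ)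
      (V := T₀ W) ((N.val.map g.op).hom s)
    refine ⟨Sieve.overEquiv (T₀ W) S, (J.mem_over_iff S).1 hS, ?_⟩
    intro W' k hk
    rw [Sieve.overEquiv_iff] at hk
    obtain ⟨t, ht⟩ := hSl _ hk
    refine ⟨t, ?_⟩
    refine ht.trans ?_
    change (N.val.map k.op).hom ((N.val.map g.op).hom s) = _
    rw [mod_map_comp]
  choose T hT hTl using key
  refine ⟨Sieve.bind R.arrows (fun W g hg => T g hg),
    J.bind_covering hR (fun W g hg => hT g hg), ?_⟩
  intro W g hg
  obtain ⟨Y, k, f, hf, hk, rfl⟩ := hg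
  exact hTl f hf k hk

/-- epimorphy of a restriction passes to smaller objects -/
lemma epi_restr_of_hom {M N : ModSite.Mod O} (φ : M ⟶ N) {U W : C} (h : W ⟶ U)
    (hφ : Epi ((ModSite.restr O U).map φ)) : Epi ((ModSite.restr O W).map φ) := by
  have h1 : Epi ((GO O h).map ((ModSite.restr O U).map φ)) :=
    @epi_G_map C _ J (ModSite.ringSh O) W U h _ _ ((ModSite.restr O U).map φ) hφ
  have h2 : (GO O h).map ((ModSite.restr O U).map φ) ≫ (θ O h).hom.app N =
      (θ O h).hom.app M ≫ (ModSite.restr O W).map φ := (θ O h).hom.naturality φ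
  haveI : Epi ((θ O h).hom.app M ≫ (ModSite.restr O W).map φ) := by
    rw [← h2]
    exact epi_comp _ _
  exact epi_of_epi ((θ O h).hom.app M) _

end locepi

section loccolim

open ModSite

variable {C : Type u} [SmallCategory C] {J : GrothendieckTopology C} {O : Sheaf J CommRingCat.{u}}
  (p : GrothendieckTopology.Point.{u} J)
  {Λ : Type u} [SmallCategory Λ] [IsFiltered Λ] (D : Λ ⥤ ModSite.Mod O) (c : Cocone D)
  (hc : IsColimit c)

lemma stalkMap_comp_apply {F G H : ModSite.Mod O} (φ : F ⟶ G) (ψ : G ⟶ H) (m : stalkAb p F) :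
    (stalkMap p (φ ≫ ψ)).hom m = (stalkMap p ψ).hom ((stalkMap p φ).hom m) := by
  obtain ⟨X, x, m0, rfl⟩ := p.toPresheafFiber_jointly_surjective (P := (toAb F).obj) m
  change (stalkMap p (φ ≫ ψ)).hom (germ p F X x m0) =
    (stalkMap p ψ).hom ((stalkMap p φ).hom (germ p F X x m0))
  rw [stalkMap_germ, stalkMap_germ, stalkMap_germ]
  rfl

include hc in
/-- finitely many sections of a filtered colimit come, near a point, from a single stage -/
lemma exists_local_preimages {K : Type*} [Fintype K] (E : p.fiber.Elements)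
    (s : K → sect c.pt E.1) :
    ∃ (E' : p.fiber.Elements) (g : E' ⟶ E) (i : Λ) (t : K → sect (D.obj i) E'.1),
      ∀ k, ev (c.ι.app i) E'.1 (t k) = res c.pt g.1 (s k) := by
  classical
  choose i₀ m₀ hm₀ using fun k => stalk_colimit_surj p D c hc (germ p c.pt E.1 E.2 (s k))
  obtain ⟨i, hi⟩ := IsFiltered.sup_objs_exists (Finset.univ.image i₀)
  have f : ∀ k, i₀ k ⟶ i := fun k => (hi (Finset.mem_image_of_mem i₀ (Finset.mem_univ k))).some
  have hm : ∀ k, (stalkMap p (c.ι.app i)).hom ((stalkMap p (D.map (f k))).hom (m₀ k)) =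
      germ p c.pt E.1 E.2 (s k) := by
    intro k
    rw [← stalkMap_comp_apply, c.w (f k)]
    exact hm₀ k
  obtain ⟨E₁, g₁, t₁, ht₁⟩ := exists_common p (toAb (D.obj i)).obj
    (fun k => (stalkMap p (D.map (f k))).hom (m₀ k)) E
  have h2 : ∀ k ∈ (Finset.univ : Finset K),
      gE p (toAb c.pt).obj E₁ (ev (c.ι.app i) E₁.1 (t₁ k)) =
      gE p (toAb c.pt).obj E₁ (res c.pt g₁.1 (s k)) := by
    intro k _
    change germ p c.pt E₁.1 E₁.2 (ev (c.ι.app i) E₁.1 (t₁ k)) =
      germ p c.pt E₁.1 E₁.2 (res c.pt g₁.1 (s k))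
    rw [germ_res, ← stalkMap_germ]
    refine Eq.trans ?_ (hm k)
    exact congrArg (stalkMap p (c.ι.app i)).hom (ht₁ k)
  obtain ⟨E₂, g₂, h3⟩ := exists_common_eq p (toAb c.pt).obj Finset.univ E₁ _ _ h2
  refine ⟨E₂, g₂ ≫ g₁, i, fun k => res (D.obj i) g₂.1 (t₁ k), ?_⟩
  intro k
  rw [ev_naturality]
  refine (h3 k (Finset.mem_univ k)).trans ?_
  exact (mod_map_comp c.pt g₂.1 g₁.1 (s k)).symm

include hc in
/-- a section of a stage dying in the filtered colimit dies, near a point, at a later stage -/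
lemma exists_local_vanishing (E : p.fiber.Elements) {i : Λ} (t : sect (D.obj i) E.1)
    (h : ev (c.ι.app i) E.1 t = 0) :
    ∃ (E' : p.fiber.Elements) (g : E' ⟶ E) (k : Λ) (f : i ⟶ k),
      ev (D.map f) E'.1 (res (D.obj i) g.1 t) = 0 := by
  have h1 : (stalkMap p (c.ι.app i)).hom (germ p (D.obj i) E.1 E.2 t) = 0 := by
    rw [stalkMap_germ, h]
    exact germ_zero p c.pt E.2
  obtain ⟨k, f, hf⟩ := stalk_colimit_inj p D c hc _ h1
  rw [stalkMap_germ] at hf
  obtain ⟨E', g, hg⟩ := germ_eq_zero p (D.obj k) _ hf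
  refine ⟨E', g, k, f, ?_⟩
  rw [ev_naturality]
  exact hg

include hc in
/-- near a point, some stage maps onto a locally finitely generated filtered colimit -/
lemma exists_nbhd_epi_stage (hF : LocFinGen c.pt) :
    ∃ (E : p.fiber.Elements) (i : Λ), Epi ((ModSite.restr O E.1).map (c.ι.app i)) := by
  obtain ⟨E₁, K, hK, s, hs⟩ := exists_nbhd_finGenOn p hF
  haveI := Fintype.ofFinite K
  obtain ⟨E', g, i, t, ht⟩ := exists_local_preimages p D c hc E₁ s
  refine ⟨E', i, ?_⟩
  have h1 : GenBy c.pt E'.1 (fun k => res c.pt g.1 (s k)) := hs.restrict g.1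
  have h2 : genHom (D.obj i) E'.1 t ≫ (ModSite.restr O E'.1).map (c.ι.app i) =
      genHom c.pt E'.1 (fun k => res c.pt g.1 (s k)) := by
    rw [genHom_comp]
    congr 1
    funext k
    exact ht k
  unfold GenBy at h1
  rw [← h2] at h1
  exact epi_of_epi (genHom (D.obj i) E'.1 t) _

end loccolim

section top

open TopologicalSpace ModSite

variable {X : TopCat.{u}} (O : TopCat.Sheaf CommRingCat.{u} X)
  {Λ : Type u} [SmallCategory Λ] [IsFiltered Λ] (D : Λ ⥤ ModSite.Mod O) (c : Cocone D)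
  (hc : IsColimit c)

include hc in
/-- if the transition maps are monomorphisms, so are the maps to the colimit -/
lemma mono_ι_of_mono_maps (hD : ∀ ⦃i k : Λ⦄ (f : i ⟶ k), Mono (D.map f)) (i : Λ) :
    Mono (c.ι.app i) := by
  apply mono_of_injective_sections
  intro V a ha
  let S : Sieve V := ⟨fun W g => res (D.obj i) g a = 0, by
    intro Y Z g hg k
    change res (D.obj i) (k ≫ g) a = 0
    rw [show res (D.obj i) (k ≫ g) a = res (D.obj i) k (res (D.obj i) g a) from
      mod_map_comp (D.obj i) k g a, hg]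
    exact map_zero _⟩
  have hS : S ∈ Opens.grothendieckTopology X V := by
    intro x hx
    obtain ⟨E', g, k, f, hf⟩ := exists_local_vanishing (Opens.pointGrothendieckTopology x) D c hc
      ⟨V, ⟨⟨hx⟩⟩⟩ a ha
    haveI := hD f
    exact ⟨E'.1, g.1, eq_zero_of_mono (D.map f) _ hf, E'.2.down.down⟩
  refine mod_ext (D.obj i) hS (x := a) (y := 0) ?_
  intro W g hg
  exact hg.trans (map_zero _).symm

include hc in
theorem main_aux [CompactSpace X] [Nonempty Λ]
    (hsup : ∀ s : Finset Λ, ∃ M : Λ, ∀ i ∈ s, Nonempty (i ⟶ M))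
    [SheafOfModules.IsFiniteType (R := ModSite.ringSh O) c.pt] :
    ∃ i : Λ, Epi (c.ι.app i) := by
  classical
  have hF := locFinGen_of_isFiniteType c.pt
  choose E i hE using fun x : X =>
    exists_nbhd_epi_stage (Opens.pointGrothendieckTopology x) D c hc hF
  obtain ⟨t, -, ht⟩ := isCompact_univ.elim_nhds_subcover (fun x => ((E x).1 : Set X))
    (fun x _ => (E x).1.2.mem_nhds (E x).2.down.down)
  obtain ⟨i₁, hi₁⟩ := hsup (t.image i)
  refine ⟨i₁, epi_of_locally_epi _ ?_⟩
  intro V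
  refine ⟨⟨fun W _ => ∃ x ∈ t, W ≤ (E x).1, ?_⟩, ?_, ?_⟩
  · rintro Y Z f ⟨x, hx, hY⟩ g
    exact ⟨x, hx, (leOfHom g).trans hY⟩
  · intro y hy
    have hy' := ht (Set.mem_univ y)
    simp only [Set.mem_iUnion] at hy'
    obtain ⟨x, hx, hyx⟩ := hy'
    exact ⟨V ⊓ (E x).1, homOfLE inf_le_left, ⟨x, hx, inf_le_right⟩, ⟨hy, hyx⟩⟩
  · rintro W g ⟨x, hx, hW⟩
    obtain ⟨f⟩ := hi₁ (i x) (Finset.mem_image_of_mem i hx)
    have h1 : Epi ((ModSite.restr O (E x).1).map (c.ι.app i₁)) := by
      have h2 := hE x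
      rw [← c.w f, Functor.map_comp] at h2
      exact epi_of_epi ((ModSite.restr O (E x).1).map (D.map f)) _
    exact epi_restr_of_hom (c.ι.app i₁) (homOfLE hW) h1

end top

open TopologicalSpace in
theorem main {X : TopCat.{u}} (O : TopCat.Sheaf CommRingCat.{u} X)
    [CompactSpace X] {I : Type u} [Preorder I] [Nonempty I] [IsDirected I (· ≤ ·)]
    (D : I ⥤ ModSite.Mod O)
    (c : Cocone D) (hc : IsColimit c) [SheafOfModules.IsFiniteType (R := ModSite.ringSh O) c.pt] :
    (∃ i : I, Epi (c.ι.app i)) ∧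
      ((∀ (i j : I) (f : i ⟶ j), Mono (D.map f)) → ∃ i : I, IsIso (c.ι.app i)) := by
  have hsup : ∀ s : Finset I, ∃ M : I, ∀ i ∈ s, Nonempty (i ⟶ M) := fun s => by
    obtain ⟨M, hM⟩ := s.exists_le
    exact ⟨M, fun i hi => ⟨homOfLE (hM i hi)⟩⟩
  obtain ⟨i, hi⟩ := main_aux O D c hc hsup
  refine ⟨⟨i, hi⟩, fun hD => ⟨i, ?_⟩⟩
  haveI := mono_ι_of_mono_maps O D c hc (fun i k f => hD i k f) i
  exact isIso_of_mono_of_epi _

end Groth.Agent.Lib.Helper4.DirColim
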