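import Mathlib
import Groth.Prelude.Def_ModSite2
import Groth.Agent.Lib.Helper4.DirColim
import Groth.Agent.Lib.Helper4.SecEquiv

/-!
# Global sections and Hom out of a finitely presented module commute with directed colimits on ringed spaces with quasi-compact-overlap refinements (helper4) (helper4)
-/

set_option backward.isDefEq.respectTransparency.types false
set_option synthInstance.maxHeartbeats 400000
set_option autoImplicit false
set_option linter.unusedSectionVars false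
set_option linter.style.haveILetI false
set_option linter.unusedSimpArgs false
universe u v w
open CategoryTheory CategoryTheory.Limits Opposite

namespace Groth.Agent.Lib.Helper4.GlobColim

open Groth.Agent.Lib.Helper4.PureTensor Groth.Agent.Lib.Helper4.EqCrit
  Groth.Agent.Lib.Helper4.OverMapPres Groth.Agent.Lib.Helper4.QSLocal
  Groth.Agent.Lib.Helper4.LocalLiftFree Groth.Agent.Lib.Helper5.RestrExact
  Groth.Agent.Lib.Helper4.FinGen Groth.Agent.Lib.Helper4.EqCritConv
  Groth.Agent.Lib.Helper4.FinPres Groth.Agent.Lib.Helper4.ColimLemmas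
  Groth.Agent.Helper3.SHomEx Groth.Agent.Lib.Helper4.SheafHomColim
  Groth.Agent.Lib.Helper5 Groth.Agent.Lib.Helper4.TensorFree
  Groth.Agent.Lib.Helper4.TensorPerm Groth.Agent.Lib.Helper4.StalkFlat
  Groth.Agent.Lib.Helper4.FinStalk Groth.Agent.Lib.Helper4.FreeStalk
  Groth.Agent.Lib.Helper4.EpiIsoFree Groth.Agent.Lib.Helper4.RetractLocFree
  Groth.Agent.Lib.Helper4.QSLocal2 Groth.Agent.Lib.Helper4.DirColim

section inj

open TopologicalSpace ModSite

variable {X : TopCat.{u}} (O : TopCat.Sheaf CommRingCat.{u} X)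
  {Λ : Type u} [SmallCategory Λ] [IsFiltered Λ] [Quiver.IsThin Λ] (D : Λ ⥤ ModSite.Mod O)
  (c : Cocone D) (hc : IsColimit c)

include hc in
/-- over a quasi-compact open, a section of a stage dying in the colimit dies at a later stage -/
lemma exists_stage_vanishing {W : Opens X} (hW : IsCompact (W : Set X)) {i : Λ}
    (t : sect (D.obj i) W) (h : ev (c.ι.app i) W t = 0) :
    ∃ (k : Λ) (f : i ⟶ k), ev (D.map f) W t = 0 := by
  classical
  have key : ∀ x : W, ∃ (E' : (Opens.pointGrothendieckTopology x.1).fiber.Elements)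
      (g : E' ⟶ ⟨W, ⟨⟨x.2⟩⟩⟩) (k : Λ) (f : i ⟶ k),
      ev (D.map f) E'.1 (res (D.obj i) g.1 t) = 0 :=
    fun x => exists_local_vanishing (Opens.pointGrothendieckTopology x.1) D c hc
      ⟨W, ⟨⟨x.2⟩⟩⟩ t h
  choose E' g k f hf using key
  obtain ⟨s, hs⟩ := hW.elim_nhds_subcover' (fun x hx => ((E' ⟨x, hx⟩).1 : Set X))
    (fun x hx => (E' ⟨x, hx⟩).1.2.mem_nhds (E' ⟨x, hx⟩).2.down.down)
  obtain ⟨k₁, hk₁⟩ := IsFiltered.sup_objs_exists (insert i (s.image k))
  obtain ⟨f₁⟩ := hk₁ (Finset.mem_insert_self i _)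
  refine ⟨k₁, f₁, ?_⟩
  let S : Sieve W := ⟨fun V q => res (D.obj k₁) q (ev (D.map f₁) W t) = 0, by
    intro Y Z q hq r
    change res (D.obj k₁) (r ≫ q) _ = 0
    rw [show res (D.obj k₁) (r ≫ q) (ev (D.map f₁) W t) =
      res (D.obj k₁) r (res (D.obj k₁) q (ev (D.map f₁) W t)) from
      mod_map_comp (D.obj k₁) r q _, hq]
    exact map_zero _⟩
  have hS : S ∈ Opens.grothendieckTopology X W := by
    intro y hy
    have hy' := hs hy
    simp only [Set.mem_iUnion] at hy'
    obtain ⟨x, hx, hyx⟩ := hy'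
    obtain ⟨f₂⟩ := hk₁ (Finset.mem_insert_of_mem (Finset.mem_image_of_mem k hx))
    refine ⟨(E' x).1, (g x).1, ?_, hyx⟩
    change res (D.obj k₁) (g x).1 (ev (D.map f₁) W t) = 0
    refine (ev_naturality (D.map f₁) (g x).1 t).symm.trans ?_
    rw [show f₁ = f x ≫ f₂ from Subsingleton.elim _ _, D.map_comp, ev_comp]
    refine (congrArg (ev (D.map f₂) (E' x).1) (hf x)).trans ?_
    exact map_zero _
  refine mod_ext (D.obj k₁) hS (x := ev (D.map f₁) W t) (y := 0) ?_
  intro V q hq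
  exact hq.trans (map_zero _).symm

omit [IsFiltered Λ] [Quiver.IsThin Λ] in
lemma res_ev {M N : ModSite.Mod O} (φ : M ⟶ N) {V W : Opens X} (g : W ⟶ V) (y : sect M V) :
    res N g (ev φ V y) = ev φ W (res M g y) :=
  (ev_naturality φ g y).symm

omit [IsFiltered Λ] [Quiver.IsThin Λ] in
lemma res_res (M : ModSite.Mod O) {T V W : Opens X} (g : W ⟶ V) (h : V ⟶ T) (h' : W ⟶ T)
    (y : sect M T) : res M g (res M h y) = res M h' y := by
  have e : g ≫ h = h' := Subsingleton.elim _ _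
  rw [← e]
  exact (mod_map_comp M g h y).symm

lemma ev_sub {M N : ModSite.Mod O} (φ : M ⟶ N) (V : Opens X) (y y' : sect M V) :
    ev φ V (y - y') = ev φ V y - ev φ V y' :=
  map_sub (φ.val.app (op V)).hom y y'

lemma ev_ι_map {i k : Λ} (f : i ⟶ k) (V : Opens X) (y : sect (D.obj i) V) :
    ev (c.ι.app k) V (ev (D.map f) V y) = ev (c.ι.app i) V y := by
  rw [← ev_comp, c.w f]

include hc in
/-- a global section of the colimit comes from a stage -/
lemma exists_stage_preimage
    (hX : ∀ (ι : Type u) (V : ι → Opens X), iSup V = ⊤ →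
      ∃ (J : Type u) (_ : Finite J) (U : J → Opens X), iSup U = ⊤ ∧ (∀ j, ∃ i, U j ≤ V i) ∧
        ∀ j j', IsCompact ((U j ⊓ U j' : Opens X) : Set X))
    (s : sect c.pt (⊤ : Opens X)) :
    ∃ (k : Λ) (t : sect (D.obj k) (⊤ : Opens X)), ev (c.ι.app k) ⊤ t = s := by
  classical
  have key : ∀ x : X, ∃ (E' : (Opens.pointGrothendieckTopology x).fiber.Elements)
      (g : E' ⟶ ⟨(⊤ : Opens X), ⟨⟨trivial⟩⟩⟩) (i : Λ) (t : Unit → sect (D.obj i) E'.1),
      ∀ k, ev (c.ι.app i) E'.1 (t k) = res c.pt g.1 s :=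
    fun x => exists_local_preimages (Opens.pointGrothendieckTopology x) D c hc
      ⟨(⊤ : Opens X), ⟨⟨trivial⟩⟩⟩ (fun _ : Unit => s)
  choose E' g i t ht using key
  have hcov : iSup (fun x : X => (E' x).1) = ⊤ := by
    rw [eq_top_iff]
    intro y _
    exact Opens.mem_iSup.2 ⟨y, (E' y).2.down.down⟩
  obtain ⟨J', hJ', U, hU, hUV, hcomp⟩ := hX X (fun x => (E' x).1) hcov
  haveI := Fintype.ofFinite J'
  choose x hx using hUV
  obtain ⟨i₁, hi₁⟩ := IsFiltered.sup_objs_exists (Finset.univ.image (fun j => i (x j)))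
  have f₁ : ∀ j, i (x j) ⟶ i₁ := fun j =>
    (hi₁ (Finset.mem_image_of_mem (fun j => i (x j)) (Finset.mem_univ j))).some
  obtain ⟨t₁, ht₁def⟩ : ∃ t₁ : ∀ j, sect (D.obj i₁) (U j), ∀ j, t₁ j =
      ev (D.map (f₁ j)) (U j) (res (D.obj (i (x j))) (homOfLE (hx j)) (t (x j) ())) :=
    ⟨_, fun _ => rfl⟩
  have ht₁ : ∀ j, ev (c.ι.app i₁) (U j) (t₁ j) = res c.pt (homOfLE le_top) s := by
    intro j
    rw [ht₁def j, ev_ι_map]
    refine (ev_naturality (c.ι.app (i (x j))) (homOfLE (hx j)) (t (x j) ())).trans ?_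
    rw [ht (x j) ()]
    exact res_res O c.pt _ _ _ s
  have key2 : ∀ jj : J' × J', ∃ (k : Λ) (f : i₁ ⟶ k),
      ev (D.map f) (U jj.1 ⊓ U jj.2)
        (res (D.obj i₁) (Opens.infLELeft (U jj.1) (U jj.2)) (t₁ jj.1) -
          res (D.obj i₁) (Opens.infLERight (U jj.1) (U jj.2)) (t₁ jj.2)) = 0 := by
    intro jj
    refine exists_stage_vanishing O D c hc (hcomp jj.1 jj.2) _ ?_
    rw [ev_sub]
    refine sub_eq_zero.2 ?_
    rw [← res_ev, ← res_ev, ht₁, ht₁]
    exact (res_res O c.pt (Opens.infLELeft (U jj.1) (U jj.2)) (homOfLE le_top)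
      (homOfLE le_top) s).trans (res_res O c.pt (Opens.infLERight (U jj.1) (U jj.2))
      (homOfLE le_top) (homOfLE le_top) s).symm
  choose k₂ f₂ hf₂ using key2
  obtain ⟨k, hk⟩ := IsFiltered.sup_objs_exists (insert i₁ (Finset.univ.image k₂))
  obtain ⟨f⟩ := hk (Finset.mem_insert_self i₁ _)
  obtain ⟨t₂, ht₂def⟩ : ∃ t₂ : ∀ j, sect (D.obj k) (U j), ∀ j, t₂ j = ev (D.map f) (U j) (t₁ j) :=
    ⟨_, fun _ => rfl⟩
  have hcompat : TopCat.Presheaf.IsCompatible (toAb (D.obj k)).obj U t₂ := by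
    intro j j'
    change res (D.obj k) (Opens.infLELeft (U j) (U j')) (t₂ j) =
      res (D.obj k) (Opens.infLERight (U j) (U j')) (t₂ j')
    obtain ⟨f₃⟩ := hk (Finset.mem_insert_of_mem
      (Finset.mem_image_of_mem k₂ (Finset.mem_univ (j, j'))))
    rw [ht₂def j, ht₂def j', res_ev, res_ev]
    refine sub_eq_zero.1 ?_
    rw [← ev_sub]
    rw [show f = f₂ (j, j') ≫ f₃ from Subsingleton.elim _ _, D.map_comp, ev_comp]
    refine (congrArg (ev (D.map f₃) (U j ⊓ U j')) (hf₂ (j, j'))).trans ?_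
    exact map_zero _
  obtain ⟨tt, htt, -⟩ := TopCat.Sheaf.existsUnique_gluing' (toAb (D.obj k)) U ⊤
    (fun j => homOfLE le_top) (le_of_eq hU.symm) t₂ hcompat
  refine ⟨k, tt, ?_⟩
  refine TopCat.Sheaf.eq_of_locally_eq' (toAb c.pt) U ⊤ (fun j => homOfLE le_top)
    (le_of_eq hU.symm) _ _ ?_
  intro j
  change res c.pt (homOfLE le_top) (ev (c.ι.app k) ⊤ tt) = res c.pt (homOfLE le_top) s
  rw [res_ev]
  have h1 : res (D.obj k) (homOfLE le_top) tt = t₂ j := htt j
  rw [h1, ht₂def j, ev_ι_map]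
  exact ht₁ j

end inj

section glob

open TopologicalSpace ModSite Groth.Agent.Lib.Helper4.SecEquiv

variable {X : TopCat.{u}} (O : TopCat.Sheaf CommRingCat.{u} X)
  {Λ : Type u} [SmallCategory Λ] [IsFiltered Λ] [Quiver.IsThin Λ] (D : Λ ⥤ ModSite.Mod O)

/-- the whole space is the terminal open -/
def topTerminal : IsTerminal (⊤ : Opens X) :=
  IsTerminal.ofUniqueHom (fun U => homOfLE le_top) (fun _ _ => Subsingleton.elim _ _)

lemma isCompact_top_of_refinement
    (hX : ∀ (ι : Type u) (V : ι → Opens X), iSup V = ⊤ →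
      ∃ (J : Type u) (_ : Finite J) (U : J → Opens X), iSup U = ⊤ ∧ (∀ j, ∃ i, U j ≤ V i) ∧
        ∀ j j', IsCompact ((U j ⊓ U j' : Opens X) : Set X)) :
    IsCompact (((⊤ : Opens X) : Opens X) : Set X) := by
  obtain ⟨J', hJ', U, hU, -, hcomp⟩ := hX PUnit (fun _ => ⊤) (by simp)
  have h1 : (((⊤ : Opens X) : Opens X) : Set X) = ⋃ j, (U j : Set X) := by
    rw [← hU]
    simp
  rw [h1]
  refine isCompact_iUnion (fun j => ?_)
  have := hcomp j j
  rwa [inf_idem] at this

theorem preservesColimit_coyoneda_unit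
    (hX : ∀ (ι : Type u) (V : ι → Opens X), iSup V = ⊤ →
      ∃ (J : Type u) (_ : Finite J) (U : J → Opens X), iSup U = ⊤ ∧ (∀ j, ∃ i, U j ≤ V i) ∧
        ∀ j j', IsCompact ((U j ⊓ U j' : Opens X) : Set X)) :
    PreservesColimit D (coyoneda.obj (op (ModSite.unit O))) := by
  have hc := colimit.isColimit D
  refine preservesColimit_of_preserves_colimit_cocone hc ?_
  refine Types.FilteredColimit.isColimitOf' _ _ ?_ ?_
  · intro σ
    obtain ⟨k, t, ht⟩ := exists_stage_preimage O D _ hc hX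
      ((evM (⊤ : Opens X) σ).hom (1 : (ModSite.ringSh O).obj.obj (op ⊤)))
    refine ⟨k, unitLift topTerminal (D.obj k) t, ?_⟩
    change σ = unitLift topTerminal (D.obj k) t ≫ (colimit.cocone D).ι.app k
    refine unit_hom_ext_global topTerminal _ _ ?_
    rw [evM_comp]
    refine Eq.trans ?_ (congrArg (ev ((colimit.cocone D).ι.app k) ⊤)
      (unitLift_one topTerminal (D.obj k) t)).symm
    exact ht.symm
  · intro i τ τ' h
    change τ ≫ (colimit.cocone D).ι.app i = τ' ≫ (colimit.cocone D).ι.app i at h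
    have h1 : ev ((colimit.cocone D).ι.app i) ⊤
        ((evM (⊤ : Opens X) τ).hom (1 : (ModSite.ringSh O).obj.obj (op ⊤)) -
          (evM (⊤ : Opens X) τ').hom (1 : (ModSite.ringSh O).obj.obj (op ⊤))) = 0 := by
      rw [ev_sub]
      refine sub_eq_zero.2 ?_
      exact congrArg (fun w => (evM (⊤ : Opens X) w).hom
        (1 : (ModSite.ringSh O).obj.obj (op ⊤))) h
    obtain ⟨k, f, hf⟩ := exists_stage_vanishing O D _ hc (isCompact_top_of_refinement hX) _ h1
    refine ⟨k, f, ?_⟩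
    change τ ≫ D.map f = τ' ≫ D.map f
    refine unit_hom_ext_global topTerminal _ _ ?_
    rw [evM_comp, evM_comp]
    rw [ev_sub] at hf
    exact sub_eq_zero.1 hf

end glob

section assembly

open ModSite Groth.Agent.Lib.Helper4.QSTensor Groth.Agent.Lib.Helper4.ExtSuppSS1

variable {C : Type u} [SmallCategory C] {J : GrothendieckTopology C} (O : Sheaf J CommRingCat.{u})

/-- `Hom(F, -)` is global sections of the internal hom -/
noncomputable def coyonedaIso (F : ModSite.Mod O) :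
    coyoneda.obj (op F) ≅ ModSite.sheafHom F ⋙ coyoneda.obj (op (ModSite.unit O)) :=
  NatIso.ofComponents (fun N => Equiv.toIso
    ((Iso.homCongr ((leftUnitNatIso O).app F).symm (Iso.refl N)).trans
      ((ModSite.sheafHomAdj F).homEquiv (ModSite.unit O) N))) (by
    intro N N' g
    ext a
    change (ModSite.sheafHomAdj F).homEquiv (ModSite.unit O) N'
        (((leftUnitNatIso O).app F).symm.inv ≫ (a ≫ g) ≫ (Iso.refl N').hom) =
      (ModSite.sheafHomAdj F).homEquiv (ModSite.unit O) N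
        (((leftUnitNatIso O).app F).symm.inv ≫ a ≫ (Iso.refl N).hom) ≫
        (ModSite.sheafHom F).map g
    rw [← Adjunction.homEquiv_naturality_right]
    congr 1)

end assembly

open TopologicalSpace in
theorem main {X : TopCat.{u}} (O : TopCat.Sheaf CommRingCat.{u} X)
    (hX : ∀ (ι : Type u) (V : ι → Opens X), iSup V = ⊤ →
      ∃ (J : Type u) (_ : Finite J) (U : J → Opens X), iSup U = ⊤ ∧ (∀ j, ∃ i, U j ≤ V i) ∧
        ∀ j j', IsCompact ((U j ⊓ U j' : Opens X) : Set X))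
    {I : Type u} [Preorder I] [Nonempty I] [IsDirected I (· ≤ ·)] (D : I ⥤ ModSite.Mod O)
    (G : ModSite.Mod O) [SheafOfModules.IsFinitePresentation (R := ModSite.ringSh O) G] :
    PreservesColimit D (coyoneda.obj (Opposite.op G)) := by
  haveI : PreservesColimit D (ModSite.sheafHom G) :=
    Groth.Agent.Lib.Helper4.SheafHomColim.main D G
  haveI : PreservesColimit (D ⋙ ModSite.sheafHom G) (coyoneda.obj (op (ModSite.unit O))) :=
    preservesColimit_coyoneda_unit O (D ⋙ ModSite.sheafHom G) hX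
  haveI : PreservesColimit D (ModSite.sheafHom G ⋙ coyoneda.obj (op (ModSite.unit O))) :=
    inferInstance
  exact preservesColimit_of_natIso D (coyonedaIso O G).symm

end Groth.Agent.Lib.Helper4.GlobColim
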