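import Mathlib
import Groth.Prelude.Def_ModSite2
import Groth.Prelude.Def_CohCx
import Groth.Agent.Lib.Helper4.GlobColim

/-!
# Filtered colimits of sheaves of modules on a site: local preimages and vanishing via sheafification; global sections and Hom out of a finitely presented module commute with filtered colimits under quasi-compactness hypotheses (helper4) (helper4)
-/

set_option backward.isDefEq.respectTransparency.types false
set_option synthInstance.maxHeartbeats 400000
set_option autoImplicit false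
set_option linter.unusedSectionVars false
set_option linter.style.haveILetI false
set_option linter.unusedSimpArgs false
universe u v w
open CategoryTheory CategoryTheory.Limits Opposite

namespace Groth.Agent.Lib.Helper4.SiteColim

open Groth.Agent.Lib.Helper4.PureTensor Groth.Agent.Lib.Helper4.EqCrit
  Groth.Agent.Lib.Helper4.OverMapPres Groth.Agent.Lib.Helper4.QSLocal
  Groth.Agent.Lib.Helper4.LocalLiftFree Groth.Agent.Lib.Helper5.RestrExact
  Groth.Agent.Lib.Helper4.FinGen Groth.Agent.Lib.Helper4.EqCritConv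
  Groth.Agent.Lib.Helper4.FinPres Groth.Agent.Lib.Helper4.ColimLemmas
  Groth.Agent.Helper3.SHomEx Groth.Agent.Lib.Helper4.SheafHomColim
  Groth.Agent.Lib.Helper5 Groth.Agent.Lib.Helper4.TensorFree
  Groth.Agent.Lib.Helper4.TensorPerm Groth.Agent.Lib.Helper4.StalkFlat
  Groth.Agent.Lib.Helper4.FinStalk Groth.Agent.Lib.Helper4.FreeStalk
  Groth.Agent.Lib.Helper4.EpiIsoFree Groth.Agent.Lib.Helper4.RetractLocFree
  Groth.Agent.Lib.Helper4.QSLocal2 Groth.Agent.Lib.Helper4.DirColim
  Groth.Agent.Lib.Helper4.GlobColim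

section absheaf

variable {C : Type u} [SmallCategory C] {J : GrothendieckTopology C}
  {Λ : Type u} [SmallCategory Λ] [IsFiltered Λ] (D : Λ ⥤ Sheaf J AddCommGrpCat.{u})
  (c : Cocone D) (hc : IsColimit c)

/-- the presheaf colimit cocone -/
noncomputable abbrev preCocone : Cocone (D ⋙ sheafToPresheaf J AddCommGrpCat.{u}) :=
  colimit.cocone (D ⋙ sheafToPresheaf J AddCommGrpCat.{u})

/-- comparison of the sheafified presheaf colimit with a colimit of sheaves -/
noncomputable def cmpIso : (Sheaf.sheafifyCocone (preCocone D)).pt ≅ c.pt :=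
  (Sheaf.isColimitSheafifyCocone (preCocone D) (colimit.isColimit _)).coconePointUniqueUpToIso hc

lemma ι_cmpIso_hom (i : Λ) :
    (Sheaf.sheafifyCocone (preCocone D)).ι.app i ≫ (cmpIso D c hc).hom = c.ι.app i :=
  IsColimit.comp_coconePointUniqueUpToIso_hom _ _ _

/-- every section of the presheaf colimit comes from a stage -/
lemma preCocone_exists_rep (V : C) (p : ToType ((preCocone D).pt.obj (op V))) :
    ∃ (i : Λ) (t : ToType ((D.obj i).obj.obj (op V))), ((preCocone D).ι.app i).app (op V) t = p := by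
  have h := isColimitOfPreserves ((evaluation Cᵒᵖ AddCommGrpCat.{u}).obj (op V))
    (colimit.isColimit (D ⋙ sheafToPresheaf J AddCommGrpCat.{u}))
  exact Concrete.isColimit_exists_rep _ h p

lemma preCocone_eq_zero {V : C} {i : Λ} (t : ToType ((D.obj i).obj.obj (op V)))
    (h : ((preCocone D).ι.app i).app (op V) t = 0) :
    ∃ (k : Λ) (f : i ⟶ k), ((D.map f).hom.app (op V)) t = 0 := by
  have hcol := isColimitOfPreserves ((evaluation Cᵒᵖ AddCommGrpCat.{u}).obj (op V))
    (colimit.isColimit (D ⋙ sheafToPresheaf J AddCommGrpCat.{u}))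
  have h' : (((evaluation Cᵒᵖ AddCommGrpCat.{u}).obj (op V)).mapCocone (preCocone D)).ι.app i t =
      (((evaluation Cᵒᵖ AddCommGrpCat.{u}).obj (op V)).mapCocone (preCocone D)).ι.app i
        (0 : ToType ((D.obj i).obj.obj (op V))) := h.trans (map_zero _).symm
  obtain ⟨k, f, g, hfg⟩ := Concrete.isColimit_exists_of_rep_eq _ hcol t
    (0 : ToType ((D.obj i).obj.obj (op V))) h'
  exact ⟨k, f, hfg.trans (map_zero _)⟩

include hc in
/-- sections of a filtered colimit of abelian sheaves locally come from a stage -/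
lemma ab_exists_sieve_preimage {U : C} (s : ToType (c.pt.obj.obj (op U))) :
    ∃ R ∈ J U, ∀ ⦃V : C⦄ (g : V ⟶ U), R g →
      ∃ (i : Λ) (t : ToType ((D.obj i).obj.obj (op V))),
        (c.ι.app i).hom.app (op V) t = c.pt.obj.map g.op s := by
  refine ⟨Presheaf.imageSieve (toSheafify J (preCocone D).pt)
    ((cmpIso D c hc).inv.hom.app (op U) s), Presheaf.imageSieve_mem J _ _, ?_⟩
  rintro V g ⟨p, hp⟩
  obtain ⟨i, t, rfl⟩ := preCocone_exists_rep D V p
  refine ⟨i, t, ?_⟩
  have h1 : (c.ι.app i).hom.app (op V) t =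
      (cmpIso D c hc).hom.hom.app (op V)
        (((Sheaf.sheafifyCocone (preCocone D)).ι.app i).hom.app (op V) t) := by
    rw [← ι_cmpIso_hom D c hc i]
    rfl
  have h2 : ((Sheaf.sheafifyCocone (preCocone D)).ι.app i).hom.app (op V) t =
      (toSheafify J (preCocone D).pt).app (op V) (((preCocone D).ι.app i).app (op V) t) := by
    rw [Sheaf.sheafifyCocone_ι_app_val]
    rfl
  rw [h1, h2, hp]
  have h3 := NatTrans.naturality_apply (cmpIso D c hc).hom.hom g.op
    ((cmpIso D c hc).inv.hom.app (op U) s)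
  refine h3.trans ?_
  congr 1
  have h4 : (cmpIso D c hc).inv ≫ (cmpIso D c hc).hom = 𝟙 _ := (cmpIso D c hc).inv_hom_id
  exact congrArg (fun w => w.hom.app (op U) s) h4

include hc in
/-- a section of a stage dying in a filtered colimit of abelian sheaves locally dies at a
later stage -/
lemma ab_exists_sieve_vanishing {U : C} {i : Λ} (t : ToType ((D.obj i).obj.obj (op U)))
    (h : (c.ι.app i).hom.app (op U) t = 0) :
    ∃ R ∈ J U, ∀ ⦃V : C⦄ (g : V ⟶ U), R g →
      ∃ (k : Λ) (f : i ⟶ k), (D.map f).hom.app (op V) ((D.obj i).obj.map g.op t) = 0 := by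
  have h1 : (c.ι.app i).hom.app (op U) t =
      (cmpIso D c hc).hom.hom.app (op U)
        (((Sheaf.sheafifyCocone (preCocone D)).ι.app i).hom.app (op U) t) := by
    rw [← ι_cmpIso_hom D c hc i]
    rfl
  have h2 : ((Sheaf.sheafifyCocone (preCocone D)).ι.app i).hom.app (op U) t =
      (toSheafify J (preCocone D).pt).app (op U) (((preCocone D).ι.app i).app (op U) t) := by
    rw [Sheaf.sheafifyCocone_ι_app_val]
    rfl
  have h3 : (toSheafify J (preCocone D).pt).app (op U) (((preCocone D).ι.app i).app (op U) t) =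
      (toSheafify J (preCocone D).pt).app (op U) 0 := by
    rw [map_zero, ← h2]
    have h5 : (cmpIso D c hc).hom ≫ (cmpIso D c hc).inv = 𝟙 _ := (cmpIso D c hc).hom_inv_id
    have h6 := congrArg (fun w => w.hom.app (op U)
      (((Sheaf.sheafifyCocone (preCocone D)).ι.app i).hom.app (op U) t)) h5
    refine h6.symm.trans ?_
    change (cmpIso D c hc).inv.hom.app (op U) ((cmpIso D c hc).hom.hom.app (op U) _) = 0
    rw [← h1, h]
    exact map_zero _
  refine ⟨_, Presheaf.equalizerSieve_mem J (toSheafify J (preCocone D).pt) _ _ h3, ?_⟩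
  intro V g hg
  have hg' : (preCocone D).pt.map g.op (((preCocone D).ι.app i).app (op U) t) =
      (preCocone D).pt.map g.op 0 := hg
  rw [map_zero] at hg'
  have h7 := NatTrans.naturality_apply ((preCocone D).ι.app i) g.op t
  exact preCocone_eq_zero D _ (h7.trans hg')

end absheaf

section modsheaf

open ModSite

variable {C : Type u} [SmallCategory C] {J : GrothendieckTopology C} {O : Sheaf J CommRingCat.{u}}
  {Λ : Type u} [SmallCategory Λ] [IsFiltered Λ] (D : Λ ⥤ ModSite.Mod O)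
  (c : Cocone D) (hc : IsColimit c)

include hc in
/-- sections of a filtered colimit of modules locally come from a stage -/
lemma exists_sieve_preimage {U : C} (s : sect c.pt U) :
    ∃ R ∈ J U, ∀ ⦃V : C⦄ (g : V ⟶ U), R g →
      ∃ (i : Λ) (t : sect (D.obj i) V), ev (c.ι.app i) V t = res c.pt g s :=
  ab_exists_sieve_preimage (D ⋙ SheafOfModules.toSheaf (ModSite.ringSh O))
    ((SheafOfModules.toSheaf (ModSite.ringSh O)).mapCocone c)
    (isColimitOfPreserves (SheafOfModules.toSheaf (ModSite.ringSh O)) hc) s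

include hc in
/-- a section of a stage dying in a filtered colimit of modules locally dies at a later stage -/
lemma exists_sieve_vanishing {U : C} {i : Λ} (t : sect (D.obj i) U)
    (h : ev (c.ι.app i) U t = 0) :
    ∃ R ∈ J U, ∀ ⦃V : C⦄ (g : V ⟶ U), R g →
      ∃ (k : Λ) (f : i ⟶ k), ev (D.map f) V (res (D.obj i) g t) = 0 :=
  ab_exists_sieve_vanishing (D ⋙ SheafOfModules.toSheaf (ModSite.ringSh O))
    ((SheafOfModules.toSheaf (ModSite.ringSh O)).mapCocone c)
    (isColimitOfPreserves (SheafOfModules.toSheaf (ModSite.ringSh O)) hc) t h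

end modsheaf

section subsheaf

variable {C : Type u} [SmallCategory C] {J : GrothendieckTopology C}

/-- a predicate on sections which is stable under restriction and local -/
structure LocalPred (K : Sheaf J (Type u)) where
  P : ∀ U : C, K.obj.obj (op U) → Prop
  res : ∀ ⦃U V : C⦄ (g : V ⟶ U) (k : K.obj.obj (op U)), P U k → P V (K.obj.map g.op k)
  loc : ∀ (U : C) (k : K.obj.obj (op U)) (R : Sieve U), R ∈ J U →
    (∀ ⦃V : C⦄ (g : V ⟶ U), R g → P V (K.obj.map g.op k)) → P U k

/-- the subfunctor cut out by a local predicate -/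
def LocalPred.sub {K : Sheaf J (Type u)} (Q : LocalPred K) : Subfunctor K.obj where
  obj U := {k | Q.P U.unop k}
  map i k hk := Q.res i.unop k hk

/-- the subsheaf cut out by a local predicate -/
def LocalPred.sheaf {K : Sheaf J (Type u)} (Q : LocalPred K) : Sheaf J (Type u) where
  obj := Q.sub.toFunctor
  property := (isSheaf_iff_isSheaf_of_type J _).2
    ((Q.sub.isSheaf_iff ((isSheaf_iff_isSheaf_of_type J _).1 K.property)).2
      (fun U s hs => Q.loc U.unop s _ hs (fun V g hg => hg)))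

/-- the inclusion of the subsheaf -/
def LocalPred.ι {K : Sheaf J (Type u)} (Q : LocalPred K) : Q.sheaf ⟶ K := ⟨Q.sub.ι⟩

lemma LocalPred.ι_app {K : Sheaf J (Type u)} (Q : LocalPred K) (U : C)
    (x : Q.sheaf.obj.obj (op U)) : Q.ι.hom.app (op U) x = x.1 := rfl

/-- sections of the subsheaf -/
def LocalPred.mk' {K : Sheaf J (Type u)} (Q : LocalPred K) {U : C} (k : K.obj.obj (op U))
    (hk : Q.P U k) : Q.sheaf.obj.obj (op U) := ⟨k, hk⟩

end subsheaf

section locnonempty

variable {C : Type u} [SmallCategory C] {J : GrothendieckTopology C}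

/-- a sheaf of sets with locally a section -/
def LocNonempty (F : Sheaf J (Type u)) : Prop :=
  ∀ U : C, ∃ R ∈ J U, ∀ ⦃V : C⦄ (g : V ⟶ U), R g → Nonempty (F.obj.obj (op V))

/-- the concrete terminal sheaf of sets -/
abbrev termSh : Sheaf J (Type u) := Sheaf.terminal J Types.isTerminalPunit

lemma epi_from_termSh_iff (F : Sheaf J (Type u)) :
    Epi ((Sheaf.isTerminalTerminal J Types.isTerminalPunit).from F) ↔ LocNonempty F := by
  rw [← Sheaf.isLocallySurjective_iff_epi]
  constructor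
  · intro h U
    have h1 := Presheaf.imageSieve_mem J
      ((Sheaf.isTerminalTerminal J Types.isTerminalPunit).from F).hom (U := op U) PUnit.unit
    refine ⟨_, h1, ?_⟩
    rintro V g ⟨t, -⟩
    exact ⟨t⟩
  · intro h
    constructor
    intro U s
    obtain ⟨R, hR, hRn⟩ := h U
    refine J.superset_covering ?_ hR
    intro V g hg
    obtain ⟨t⟩ := hRn g hg
    exact ⟨t, rfl⟩

lemma epi_terminal_from_iff (F : Sheaf J (Type u)) :
    Epi (terminal.from F) ↔ LocNonempty F := by
  rw [← epi_from_termSh_iff]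
  let e : termSh (J := J) ≅ ⊤_ (Sheaf J (Type u)) :=
    (Sheaf.isTerminalTerminal J Types.isTerminalPunit).uniqueUpToIso terminalIsTerminal
  have h1 : terminal.from F =
      (Sheaf.isTerminalTerminal J Types.isTerminalPunit).from F ≫ e.hom :=
    terminalIsTerminal.hom_ext _ _
  rw [h1]
  constructor
  · intro h
    have h2 : ((Sheaf.isTerminalTerminal J Types.isTerminalPunit).from F ≫ e.hom) ≫ e.inv =
        (Sheaf.isTerminalTerminal J Types.isTerminalPunit).from F := by simp
    rw [← h2]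
    exact epi_comp _ _
  · intro h
    haveI := h
    exact epi_comp _ _

end locnonempty

section pairs

variable {C : Type u} [SmallCategory C] {J : GrothendieckTopology C}

/-- sections over `U` as a functor on sheaves of sets -/
abbrev secFun (U : C) : Sheaf J (Type u) ⥤ Type u :=
  sheafToPresheaf J (Type u) ⋙ (evaluation Cᵒᵖ (Type u)).obj (op U)

lemma exists_pair (K K' : Sheaf J (Type u)) (U : C) (k : K.obj.obj (op U))
    (k' : K'.obj.obj (op U)) :
    ∃ z : (K ⨯ K').obj.obj (op U),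
      (prod.fst : K ⨯ K' ⟶ K).hom.app (op U) z = k ∧
      (prod.snd : K ⨯ K' ⟶ K').hom.app (op U) z = k' := by
  let e := PreservesLimitPair.iso (secFun (J := J) U) K K'
  let w : (secFun (J := J) U).obj K ⨯ (secFun (J := J) U).obj K' :=
    (Types.binaryProductIso _ _).inv (k, k')
  refine ⟨e.inv w, ?_, ?_⟩
  · have h1 : e.inv ≫ (secFun (J := J) U).map (prod.fst : K ⨯ K' ⟶ K) = prod.fst := by
      rw [Iso.inv_comp_eq]
      exact (prodComparison_fst (secFun (J := J) U) (A := K) (B := K')).symm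
    have h2 := congrArg (fun t => t w) h1
    refine h2.trans ?_
    exact congrArg (fun t => t (k, k')) (Types.binaryProductIso_inv_comp_fst _ _)
  · have h1 : e.inv ≫ (secFun (J := J) U).map (prod.snd : K ⨯ K' ⟶ K') = prod.snd := by
      rw [Iso.inv_comp_eq]
      exact (prodComparison_snd (secFun (J := J) U) (A := K) (B := K')).symm
    have h2 := congrArg (fun t => t w) h1
    refine h2.trans ?_
    exact congrArg (fun t => t (k, k')) (Types.binaryProductIso_inv_comp_snd _ _)

end pairs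

section helpers

open ModSite

variable {C : Type u} [SmallCategory C] {J : GrothendieckTopology C} {O : Sheaf J CommRingCat.{u}}

lemma res_ev' {M N : ModSite.Mod O} (φ : M ⟶ N) {U V : C} (g : V ⟶ U) (y : sect M U) :
    res N g (ev φ U y) = ev φ V (res M g y) :=
  (ev_naturality φ g y).symm

/-- gluing sections of a sheaf of modules along a covering sieve -/
lemma mod_glue (M : ModSite.Mod O) {U : C} {R : Sieve U} (hR : R ∈ J U)
    (x : ∀ ⦃V : C⦄ (g : V ⟶ U), R g → sect M V)
    (hx : ∀ ⦃V W : C⦄ (g : V ⟶ U) (h : W ⟶ V) (hg : R g),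
      x (h ≫ g) (R.downward_closed hg h) = res M h (x g hg)) :
    ∃ r : sect M U, ∀ ⦃V : C⦄ (g : V ⟶ U) (hg : R g), res M g r = x g hg := by
  have hsh := (isSheaf_forget (ModSite.toAb M)) R hR
  let fam : Presieve.FamilyOfElements ((ModSite.toAb M).obj ⋙ forget AddCommGrpCat.{u})
      (R : Presieve U) := fun V g hg => x g hg
  have hc : fam.Compatible := by
    rw [Presieve.compatible_iff_sieveCompatible]
    intro Y Z f g hf
    exact hx f g hf
  exact ⟨hsh.amalgamate fam hc, fun V g hg => hsh.valid_glue hc g hg⟩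

variable {Λ : Type u} [SmallCategory Λ] [IsFiltered Λ]

/-- finitely many morphisms out of an object of a filtered category can be equalized -/
lemma exists_common_target {i : Λ} (t : Finset (Σ k : Λ, (i ⟶ k))) :
    ∃ (k' : Λ) (f' : i ⟶ k'), ∀ j ∈ t, ∃ g : j.1 ⟶ k', j.2 ≫ g = f' := by
  classical
  induction t using Finset.induction_on with
  | empty => exact ⟨i, 𝟙 i, fun j hj => absurd hj (Finset.notMem_empty j)⟩
  | insert a s ha ih =>
    obtain ⟨k', f', hf'⟩ := ih
    let m := IsFiltered.max a.1 k'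
    let p : i ⟶ m := a.2 ≫ IsFiltered.leftToMax a.1 k'
    let q : i ⟶ m := f' ≫ IsFiltered.rightToMax a.1 k'
    refine ⟨IsFiltered.coeq p q, p ≫ IsFiltered.coeqHom p q, ?_⟩
    intro j hj
    rcases Finset.mem_insert.1 hj with rfl | hj
    · exact ⟨IsFiltered.leftToMax j.1 k' ≫ IsFiltered.coeqHom p q, by
        rw [← Category.assoc]⟩
    · obtain ⟨g, hg⟩ := hf' j hj
      refine ⟨g ≫ IsFiltered.rightToMax a.1 k' ≫ IsFiltered.coeqHom p q, ?_⟩
      rw [← Category.assoc, hg, IsFiltered.coeq_condition p q]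
      rw [← Category.assoc]

/-- the family of sections of a morphism out of the unit -/
noncomputable abbrev gsec {M : ModSite.Mod O} (τ : ModSite.unit O ⟶ M) (U : C) : sect M U :=
  ev τ U (one U)

lemma res_gsec {M : ModSite.Mod O} (τ : ModSite.unit O ⟶ M) {U V : C} (g : V ⟶ U) :
    res M g (gsec τ U) = gsec τ V := by
  refine (ev_naturality τ g (one U)).symm.trans ?_
  congr 1
  exact map_one (O.obj.map g.op).hom

lemma gsec_comp {M N : ModSite.Mod O} (τ : ModSite.unit O ⟶ M) (φ : M ⟶ N) (U : C) :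
    gsec (τ ≫ φ) U = ev φ U (gsec τ U) := rfl

lemma hom_ext_gsec {M : ModSite.Mod O} (τ τ' : ModSite.unit O ⟶ M)
    (h : ∀ U, gsec τ U = gsec τ' U) : τ = τ' := by
  apply M.unitHomEquiv.injective
  apply PresheafOfModules.sections_ext
  intro U
  exact h U.unop

/-- the morphism out of the unit defined by a compatible family of sections -/
lemma exists_of_family (M : ModSite.Mod O) (ρ : ∀ U : C, sect M U)
    (hρ : ∀ ⦃U V : C⦄ (g : V ⟶ U), res M g (ρ U) = ρ V) :
    ∃ τ : ModSite.unit O ⟶ M, ∀ U, gsec τ U = ρ U := by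
  let sec : M.sections := PresheafOfModules.sectionsMk (fun U => ρ U.unop)
    (fun U V f => hρ f.unop)
  refine ⟨M.unitHomEquiv.symm sec, fun U => ?_⟩
  have h := congrArg (fun t => t.val (op U)) (M.unitHomEquiv.apply_symm_apply sec)
  exact h

/-- descent of a locally constant family of sections indexed by a locally nonempty sheaf -/
lemma exists_descent (M : ModSite.Mod O) (K₂ : Sheaf J (Type u)) (hK : LocNonempty K₂)
    (x : ∀ U : C, K₂.obj.obj (op U) → sect M U)
    (hnat : ∀ ⦃U V : C⦄ (g : V ⟶ U) (k : K₂.obj.obj (op U)),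
      x V (K₂.obj.map g.op k) = res M g (x U k))
    (hconst : ∀ (U : C) (k k' : K₂.obj.obj (op U)), x U k = x U k') :
    ∃ ρ : ∀ U : C, sect M U, (∀ ⦃U V : C⦄ (g : V ⟶ U), res M g (ρ U) = ρ V) ∧
      ∀ (U : C) (k : K₂.obj.obj (op U)), ρ U = x U k := by
  classical
  let R : ∀ U : C, Sieve U := fun U =>
    ⟨fun V _ => Nonempty (K₂.obj.obj (op V)), by
      rintro Y Z f ⟨k⟩ g
      exact ⟨K₂.obj.map g.op k⟩⟩
  have hR : ∀ U, R U ∈ J U := by
    intro U
    obtain ⟨R₀, hR₀, hn⟩ := hK U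
    exact J.superset_covering (fun V g hg => hn g hg) hR₀
  have hglue : ∀ U : C, ∃ r : sect M U, ∀ ⦃V : C⦄ (g : V ⟶ U) (k : K₂.obj.obj (op V)),
      res M g r = x V k := by
    intro U
    obtain ⟨r, hr⟩ := mod_glue M (hR U) (fun V g hg => x V (Classical.choice hg)) (by
      intro V W g h hg
      refine (hconst W _ (K₂.obj.map h.op (Classical.choice hg))).trans ?_
      exact hnat h _)
    refine ⟨r, fun V g k => ?_⟩
    exact (hr g ⟨k⟩).trans (hconst V _ _)
  choose ρ hρ using hglue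
  refine ⟨ρ, ?_, ?_⟩
  · intro U V g
    refine mod_ext M (hR V) ?_
    rintro W h ⟨k⟩
    refine Eq.trans ?_ (hρ V h k).symm
    refine (mod_map_comp M h g (ρ U)).symm.trans ?_
    exact hρ U (h ≫ g) k
  · intro U k
    refine mod_ext M (hR U) ?_
    rintro V g ⟨k'⟩
    refine (hρ U g k').trans ?_
    refine (hconst V k' (K₂.obj.map g.op k)).trans ?_
    exact hnat g k

end helpers

section qc

variable {C : Type u} [SmallCategory C] {J : GrothendieckTopology C}

/-- quasi-compactness applied to a family of subsheaves cut out by local predicates -/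
lemma exists_finset_of_isQcObject (P : Sheaf J (Type u)) (hqc : CohCx.IsQcObject P)
    (I : Type u) (Q : I → LocalPred P)
    (hjs : ∀ (U : C) (z : P.obj.obj (op U)), ∃ R ∈ J U, ∀ ⦃V : C⦄ (g : V ⟶ U), R g →
      ∃ i, (Q i).P V (P.obj.map g.op z)) :
    ∃ t : Finset I, ∀ (U : C) (z : P.obj.obj (op U)), ∃ R ∈ J U, ∀ ⦃V : C⦄ (g : V ⟶ U), R g →
      ∃ i ∈ t, (Q i).P V (P.obj.map g.op z) := by
  obtain ⟨t, ht⟩ := hqc I (fun i => (Q i).sheaf) (fun i => (Q i).ι) (by
    intro U s
    obtain ⟨R, hR, hRi⟩ := hjs U s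
    refine ⟨R, hR, fun V g hg => ?_⟩
    obtain ⟨i, hi⟩ := hRi g hg
    exact ⟨i, (Q i).mk' _ hi, rfl⟩)
  refine ⟨t, fun U z => ?_⟩
  obtain ⟨R, hR, hRi⟩ := ht U z
  refine ⟨R, hR, fun V g hg => ?_⟩
  obtain ⟨i, x, hx⟩ := hRi V g hg
  refine ⟨i.1, i.2, ?_⟩
  have h1 : x.1 = P.obj.map g.op z := hx
  rw [← h1]
  exact x.2

end qc

section topos

open ModSite

variable {C : Type u} [SmallCategory C] {J : GrothendieckTopology C} {O : Sheaf J CommRingCat.{u}}
  {Λ : Type u} [SmallCategory Λ] [IsFiltered Λ] (D : Λ ⥤ ModSite.Mod O)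
  (c : Cocone D) (hc : IsColimit c)
  (S : Set (Sheaf J (Type u)))
  (hSa : ∀ F : Sheaf J (Type u), Epi (terminal.from F) →
    ∃ K ∈ S, Epi (terminal.from K) ∧ Nonempty (K ⟶ F))
  (hSb : ∀ K ∈ S, CohCx.IsQcObject (K ⨯ K))

include hSa in
lemma exists_K : ∃ K ∈ S, LocNonempty K := by
  obtain ⟨K, hK, hepi, -⟩ := hSa (⊤_ _) (by
    rw [show terminal.from (⊤_ (Sheaf J (Type u))) = 𝟙 _ from Subsingleton.elim _ _]
    infer_instance)
  exact ⟨K, hK, (epi_terminal_from_iff K).1 hepi⟩

lemma locNonempty_prod (K : Sheaf J (Type u)) (h : LocNonempty K) : LocNonempty (K ⨯ K) := by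
  intro U
  obtain ⟨R, hR, hn⟩ := h U
  refine ⟨R, hR, fun V g hg => ?_⟩
  obtain ⟨k⟩ := hn g hg
  obtain ⟨z, -, -⟩ := exists_pair K K V k k
  exact ⟨z⟩

include hc hSa hSb in
/-- a global section of a stage dying in the colimit dies at a later stage -/
lemma global_vanishing {i : Λ} (τ : ModSite.unit O ⟶ D.obj i) (h : τ ≫ c.ι.app i = 0) :
    ∃ (k : Λ) (f : i ⟶ k), τ ≫ D.map f = 0 := by
  classical
  obtain ⟨K, hK, hKn⟩ := exists_K S hSa
  have hPn := locNonempty_prod K hKn
  have h0 : ∀ U, ev (c.ι.app i) U (gsec τ U) = 0 := by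
    intro U
    rw [← gsec_comp, h]
    rfl
  let Q : (Σ k : Λ, (i ⟶ k)) → LocalPred (K ⨯ K) := fun kf =>
    { P := fun U _ => ev (D.map kf.2) U (gsec τ U) = 0
      res := by
        intro U V g _ hz
        rw [← res_gsec τ g, ← res_ev', hz]
        exact map_zero _
      loc := by
        intro U _ R hR hz
        refine mod_ext (D.obj kf.1) hR (x := ev (D.map kf.2) U (gsec τ U)) (y := 0) ?_
        intro V g hg
        refine (ev_naturality (D.map kf.2) g (gsec τ U)).symm.trans ?_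
        refine Eq.trans ?_ (map_zero _).symm
        refine Eq.trans ?_ (hz g hg)
        exact congrArg (ev (D.map kf.2) V) (res_gsec τ g) }
  obtain ⟨t, ht⟩ := exists_finset_of_isQcObject (K ⨯ K) (hSb K hK) _ Q (by
    intro U z
    obtain ⟨R, hR, hRv⟩ := exists_sieve_vanishing D c hc (gsec τ U) (h0 U)
    refine ⟨R, hR, fun V g hg => ?_⟩
    obtain ⟨k, f, hf⟩ := hRv g hg
    refine ⟨⟨k, f⟩, ?_⟩
    change ev (D.map f) V (gsec τ V) = 0
    rw [← res_gsec τ g]
    exact hf)
  obtain ⟨k', f', hf'⟩ := exists_common_target t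
  refine ⟨k', f', ?_⟩
  refine hom_ext_gsec _ _ (fun U => ?_)
  rw [gsec_comp]
  refine Eq.trans ?_ (show (0 : sect (D.obj k') U) = gsec (0 : ModSite.unit O ⟶ D.obj k') U from rfl)
  obtain ⟨R₁, hR₁, hn⟩ := hPn U
  have key : ∀ ⦃V : C⦄ (g : V ⟶ U), R₁ g → ∃ T ∈ J V, ∀ ⦃W : C⦄ (h : W ⟶ V), T h →
      ev (D.map f') W (gsec τ W) = 0 := by
    intro V g hg
    obtain ⟨z⟩ := hn g hg
    obtain ⟨T, hT, hTi⟩ := ht V z
    refine ⟨T, hT, fun W h hh => ?_⟩
    obtain ⟨j, hj, hQ⟩ := hTi h hh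
    obtain ⟨g', hg'⟩ := hf' j hj
    have hQ' : ev (D.map j.2) W (gsec τ W) = 0 := hQ
    rw [← hg', D.map_comp, ev_comp, hQ']
    exact map_zero _
  obtain ⟨R', hR', hR'z⟩ := locally_of_locally
    (P := fun W => ev (D.map f') W (gsec τ W) = 0) hR₁ key
  refine mod_ext (D.obj k') hR' (x := ev (D.map f') U (gsec τ U)) (y := 0) ?_
  intro W g hg
  refine (ev_naturality (D.map f') g (gsec τ U)).symm.trans ?_
  refine Eq.trans ?_ (map_zero _).symm
  refine Eq.trans ?_ (hR'z g hg)
  exact congrArg (ev (D.map f') W) (res_gsec τ g)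

omit [IsFiltered Λ] in
lemma ev_ι_map' {i k : Λ} (f : i ⟶ k) (V : C) (y : sect (D.obj i) V) :
    ev (c.ι.app k) V (ev (D.map f) V y) = ev (c.ι.app i) V y := by
  rw [← ev_comp, c.w f]

/-- `σ` lifts locally over `U` to the stage `l` -/
def LiftsLoc (σ : ModSite.unit O ⟶ c.pt) (l : Λ) (U : C) : Prop :=
  ∃ R ∈ J U, ∀ ⦃V : C⦄ (g : V ⟶ U), R g →
    ∃ t : sect (D.obj l) V, ev (c.ι.app l) V t = gsec σ V

omit [IsFiltered Λ] in
lemma LiftsLoc.res {σ : ModSite.unit O ⟶ c.pt} {l : Λ} {U V : C} (h : LiftsLoc D c σ l U)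
    (g : V ⟶ U) : LiftsLoc D c σ l V := by
  obtain ⟨R, hR, hRt⟩ := h
  exact ⟨R.pullback g, J.pullback_stable g hR, fun W k hk => hRt (k ≫ g) hk⟩

omit [IsFiltered Λ] in
lemma LiftsLoc.loc {σ : ModSite.unit O ⟶ c.pt} {l : Λ} {U : C} {R : Sieve U} (hR : R ∈ J U)
    (h : ∀ ⦃V : C⦄ (g : V ⟶ U), R g → LiftsLoc D c σ l V) : LiftsLoc D c σ l U :=
  locally_of_locally (P := fun W => ∃ t : sect (D.obj l) W, ev (c.ι.app l) W t = gsec σ W) hR h

omit [IsFiltered Λ] in
lemma LiftsLoc.map {σ : ModSite.unit O ⟶ c.pt} {l l' : Λ} (f : l ⟶ l') {U : C}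
    (h : LiftsLoc D c σ l U) : LiftsLoc D c σ l' U := by
  obtain ⟨R, hR, hRt⟩ := h
  refine ⟨R, hR, fun V g hg => ?_⟩
  obtain ⟨t, ht⟩ := hRt g hg
  exact ⟨ev (D.map f) V t, (ev_ι_map' D c f V t).trans ht⟩

include hc hSa hSb in
/-- a global section of the colimit lifts locally to a single stage -/
lemma exists_uniform_stage (σ : ModSite.unit O ⟶ c.pt) : ∃ l₀ : Λ, ∀ U, LiftsLoc D c σ l₀ U := by
  classical
  obtain ⟨K, hK, hKn⟩ := exists_K S hSa
  have hPn := locNonempty_prod K hKn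
  let Q : Λ → LocalPred (K ⨯ K) := fun l =>
    { P := fun U _ => LiftsLoc D c σ l U
      res := fun U V g _ hz => hz.res D c g
      loc := fun U _ R hR hz => LiftsLoc.loc D c hR hz }
  obtain ⟨t, ht⟩ := exists_finset_of_isQcObject (K ⨯ K) (hSb K hK) _ Q (by
    intro U z
    obtain ⟨R, hR, hRv⟩ := exists_sieve_preimage D c hc (gsec σ U)
    refine ⟨R, hR, fun V g hg => ?_⟩
    obtain ⟨l, y, hy⟩ := hRv g hg
    refine ⟨l, ⊤, J.top_mem V, fun W h _ => ⟨res (D.obj l) h y, ?_⟩⟩
    rw [← res_ev', hy, res_gsec, res_gsec])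
  obtain ⟨l₀, hl₀⟩ := IsFiltered.sup_objs_exists t
  refine ⟨l₀, fun U => ?_⟩
  obtain ⟨R₁, hR₁, hn⟩ := hPn U
  refine LiftsLoc.loc D c hR₁ (fun V g hg => ?_)
  obtain ⟨z⟩ := hn g hg
  obtain ⟨T, hT, hTi⟩ := ht V z
  refine LiftsLoc.loc D c hT (fun W h hh => ?_)
  obtain ⟨l, hl, hQ⟩ := hTi h hh
  obtain ⟨f⟩ := hl₀ hl
  exact LiftsLoc.map D c f hQ

/-- the underlying sheaf of sets of a sheaf of modules -/
noncomputable abbrev setSh (M : ModSite.Mod O) : Sheaf J (Type u) :=
  (sheafCompose J (forget AddCommGrpCat.{u})).obj (ModSite.toAb M)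

omit [IsFiltered Λ] in
lemma ev_sub' {M N : ModSite.Mod O} (φ : M ⟶ N) (V : C) (y y' : sect M V) :
    ev φ V (y - y') = ev φ V y - ev φ V y' :=
  map_sub (φ.val.app (op V)).hom y y'

include hc hSa hSb in
/-- a global section of the colimit comes from a stage -/
lemma global_preimage (σ : ModSite.unit O ⟶ c.pt) :
    ∃ (k : Λ) (τ : ModSite.unit O ⟶ D.obj k), τ ≫ c.ι.app k = σ := by
  classical
  obtain ⟨l₀, hl₀⟩ := exists_uniform_stage D c hc S hSa hSb σ
  let QL : LocalPred (setSh (D.obj l₀)) :=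
    { P := fun U t => ev (c.ι.app l₀) U (show sect (D.obj l₀) U from t) = gsec σ U
      res := by
        intro U V g t ht
        change ev (c.ι.app l₀) V (res (D.obj l₀) g (show sect (D.obj l₀) U from t)) = _
        rw [← res_ev', ht, res_gsec]
      loc := by
        intro U t R hR ht
        refine mod_ext c.pt hR ?_
        intro V g hg
        refine (res_ev' (c.ι.app l₀) g (show sect (D.obj l₀) U from t)).trans ?_
        exact (ht g hg).trans (res_gsec σ g).symm }
  have hLn : LocNonempty QL.sheaf := by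
    intro U
    obtain ⟨R, hR, hRt⟩ := hl₀ U
    refine ⟨R, hR, fun V g hg => ?_⟩
    obtain ⟨t, ht⟩ := hRt g hg
    exact ⟨QL.mk' t ht⟩
  obtain ⟨K₂, hK₂, hepi, ⟨κ⟩⟩ := hSa QL.sheaf ((epi_terminal_from_iff _).2 hLn)
  have hK₂n := (epi_terminal_from_iff K₂).1 hepi
  obtain ⟨τ, hτdef⟩ : ∃ τ : ∀ U : C, K₂.obj.obj (op U) → sect (D.obj l₀) U,
      ∀ U k, τ U k = (κ.hom.app (op U) k).1 := ⟨_, fun _ _ => rfl⟩
  have hτ : ∀ U k, ev (c.ι.app l₀) U (τ U k) = gsec σ U := by
    intro U k
    rw [hτdef]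
    exact (κ.hom.app (op U) k).2
  have hτnat : ∀ ⦃U V : C⦄ (g : V ⟶ U) (k : K₂.obj.obj (op U)),
      τ V (K₂.obj.map g.op k) = res (D.obj l₀) g (τ U k) := by
    intro U V g k
    rw [hτdef, hτdef]
    exact congrArg Subtype.val (NatTrans.naturality_apply κ.hom g.op k)
  obtain ⟨δ, hδdef⟩ : ∃ δ : ∀ U : C, (K₂ ⨯ K₂).obj.obj (op U) → sect (D.obj l₀) U,
      ∀ U z, δ U z = τ U ((prod.fst : K₂ ⨯ K₂ ⟶ K₂).hom.app (op U) z) -
        τ U ((prod.snd : K₂ ⨯ K₂ ⟶ K₂).hom.app (op U) z) := ⟨_, fun _ _ => rfl⟩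
  have hδnat : ∀ ⦃U V : C⦄ (g : V ⟶ U) (z : (K₂ ⨯ K₂).obj.obj (op U)),
      δ V ((K₂ ⨯ K₂).obj.map g.op z) = res (D.obj l₀) g (δ U z) := by
    intro U V g z
    rw [hδdef, hδdef]
    have h1 := NatTrans.naturality_apply (prod.fst : K₂ ⨯ K₂ ⟶ K₂).hom g.op z
    have h2 := NatTrans.naturality_apply (prod.snd : K₂ ⨯ K₂ ⟶ K₂).hom g.op z
    rw [h1, h2, hτnat, hτnat]
    exact (map_sub ((D.obj l₀).val.map g.op).hom _ _).symm
  have hδ0 : ∀ U z, ev (c.ι.app l₀) U (δ U z) = 0 := by
    intro U z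
    rw [hδdef, ev_sub', hτ, hτ, sub_self]
  let Q : (Σ m : Λ, (l₀ ⟶ m)) → LocalPred (K₂ ⨯ K₂) := fun mf =>
    { P := fun U z => ev (D.map mf.2) U (δ U z) = 0
      res := by
        intro U V g z hz
        rw [hδnat, ← res_ev', hz]
        exact map_zero _
      loc := by
        intro U z R hR hz
        refine mod_ext (D.obj mf.1) hR (x := ev (D.map mf.2) U (δ U z)) (y := 0) ?_
        intro V g hg
        refine (res_ev' (D.map mf.2) g (δ U z)).trans ?_
        rw [← hδnat]
        exact (hz g hg).trans (map_zero _).symm }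
  obtain ⟨t, ht⟩ := exists_finset_of_isQcObject (K₂ ⨯ K₂) (hSb K₂ hK₂) _ Q (by
    intro U z
    obtain ⟨R, hR, hRv⟩ := exists_sieve_vanishing D c hc (δ U z) (hδ0 U z)
    refine ⟨R, hR, fun V g hg => ?_⟩
    obtain ⟨m, f, hf⟩ := hRv g hg
    refine ⟨⟨m, f⟩, ?_⟩
    change ev (D.map f) V (δ V _) = 0
    rw [hδnat]
    exact hf)
  obtain ⟨m', f', hf'⟩ := exists_common_target t
  have hstar2 : ∀ U z, ev (D.map f') U (δ U z) = 0 := by
    intro U z
    obtain ⟨R, hR, hRi⟩ := ht U z
    refine mod_ext (D.obj m') hR (x := ev (D.map f') U (δ U z)) (y := 0) ?_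
    intro V g hg
    obtain ⟨j, hj, hQ⟩ := hRi g hg
    obtain ⟨g', hg'⟩ := hf' j hj
    have hQ' : ev (D.map j.2) V (δ V ((K₂ ⨯ K₂).obj.map g.op z)) = 0 := hQ
    refine (res_ev' (D.map f') g (δ U z)).trans ?_
    rw [← hδnat, ← hg', D.map_comp, ev_comp, hQ']
    exact (map_zero _).trans (map_zero _).symm
  have hstar : ∀ (U : C) (k k' : K₂.obj.obj (op U)),
      ev (D.map f') U (τ U k) = ev (D.map f') U (τ U k') := by
    intro U k k'
    obtain ⟨z, hz1, hz2⟩ := exists_pair K₂ K₂ U k k'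
    have h1 := hstar2 U z
    rw [hδdef, hz1, hz2, ev_sub'] at h1
    exact sub_eq_zero.1 h1
  obtain ⟨ρ, hρ1, hρ2⟩ := exists_descent (D.obj m') K₂ hK₂n
    (fun U k => ev (D.map f') U (τ U k)) (by
      intro U V g k
      change ev (D.map f') V (τ V _) = res (D.obj m') g (ev (D.map f') U (τ U k))
      rw [hτnat, res_ev']) hstar
  obtain ⟨τ', hτ'⟩ := exists_of_family (D.obj m') ρ hρ1
  refine ⟨m', τ', ?_⟩
  refine hom_ext_gsec _ _ (fun U => ?_)
  rw [gsec_comp, hτ']
  obtain ⟨R, hR, hn⟩ := hK₂n U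
  refine mod_ext c.pt hR ?_
  intro V g hg
  obtain ⟨k⟩ := hn g hg
  refine (res_ev' (c.ι.app m') g (ρ U)).trans ?_
  rw [hρ1 g, hρ2 V k]
  refine Eq.trans ?_ (res_gsec σ g).symm
  change ev (c.ι.app m') V (ev (D.map f') V (τ V k)) = _
  rw [ev_ι_map', hτ]

end topos

section final

open ModSite

variable {C : Type u} [SmallCategory C] {J : GrothendieckTopology C} (O : Sheaf J CommRingCat.{u})
  (S : Set (Sheaf J (Type u)))
  (hSa : ∀ F : Sheaf J (Type u), Epi (terminal.from F) →
    ∃ K ∈ S, Epi (terminal.from K) ∧ Nonempty (K ⟶ F))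
  (hSb : ∀ K ∈ S, CohCx.IsQcObject (K ⨯ K))
  {Λ : Type u} [SmallCategory Λ] [IsFiltered Λ] (D : Λ ⥤ ModSite.Mod O)

include hSa hSb in
theorem preservesColimit_coyoneda_unit_site :
    PreservesColimit D (coyoneda.obj (op (ModSite.unit O))) := by
  have hc := colimit.isColimit D
  refine preservesColimit_of_preserves_colimit_cocone hc ?_
  refine Types.FilteredColimit.isColimitOf' _ _ ?_ ?_
  · intro σ
    obtain ⟨k, τ, hτ⟩ := global_preimage D _ hc S hSa hSb σ
    exact ⟨k, τ, hτ.symm⟩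
  · intro i τ τ' h
    have key : ∀ (a b : ModSite.unit O ⟶ D.obj i),
        a ≫ (colimit.cocone D).ι.app i = b ≫ (colimit.cocone D).ι.app i →
        ∃ (k : Λ) (f : i ⟶ k), a ≫ D.map f = b ≫ D.map f := by
      intro a b hab
      have h1 : (a - b) ≫ (colimit.cocone D).ι.app i = 0 := by
        rw [Preadditive.sub_comp, hab, sub_self]
      obtain ⟨k, f, hf⟩ := global_vanishing D _ hc S hSa hSb (a - b) h1
      refine ⟨k, f, ?_⟩
      rw [Preadditive.sub_comp] at hf
      exact sub_eq_zero.1 hf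
    exact key τ τ' h

include hSa hSb in
theorem main
    (F : ModSite.Mod O) [SheafOfModules.IsFinitePresentation (R := ModSite.ringSh O) F] :
    PreservesColimit D (coyoneda.obj (op F)) := by
  haveI : PreservesColimit D (ModSite.sheafHom F) :=
    Groth.Agent.Lib.Helper4.SheafHomColim.main D F
  haveI : PreservesColimit (D ⋙ ModSite.sheafHom F) (coyoneda.obj (op (ModSite.unit O))) :=
    preservesColimit_coyoneda_unit_site O S hSa hSb (D ⋙ ModSite.sheafHom F)
  haveI : PreservesColimit D (ModSite.sheafHom F ⋙ coyoneda.obj (op (ModSite.unit O))) :=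
    inferInstance
  exact preservesColimit_of_natIso D (coyonedaIso O F).symm

end final

end Groth.Agent.Lib.Helper4.SiteColim
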