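import Mathlib
import Groth.Prelude.Def_ModSite2
import Groth.Prelude.Def_AlgSpPerf
import Groth.Agent.Lib.Helper4.QSLocal
import Groth.Agent.Lib.Helper4.SiteColim

/-!
# Inverse image of the structure sheaf and of free modules along a morphism of ringed sites (helper4)
-/

set_option backward.isDefEq.respectTransparency.types false
set_option synthInstance.maxHeartbeats 400000
set_option autoImplicit false
set_option linter.unusedSectionVars false
set_option linter.style.haveILetI false
set_option linter.unusedSimpArgs false
universe u v w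
open CategoryTheory CategoryTheory.Limits Opposite

namespace Groth.Agent.Lib.Helper4.PullUnit

open Groth.Agent.Lib.Helper4.QSLocal Groth.Agent.Lib.Helper4.SiteColim

variable {C D : Type u} [SmallCategory C] [SmallCategory D] {J : GrothendieckTopology C}
  {K : GrothendieckTopology D} {O_C : Sheaf J CommRingCat.{u}} {O_D : Sheaf K CommRingCat.{u}}

/-- the underlying sheaf of sets of a sheaf of modules -/
noncomputable def tySh (M : ModSite.Mod O_C) : Sheaf J (Type u) :=
  ⟨(ModSite.toAb M).obj ⋙ forget AddCommGrpCat.{u},
    (isSheaf_iff_isSheaf_of_type J _).2 (isSheaf_forget (ModSite.toAb M))⟩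

/-- a global section as a morphism from the terminal sheaf -/
noncomputable def homOfSection (M : ModSite.Mod O_C) (s : M.sections) : termSh (J := J) ⟶ tySh M :=
  ⟨{ app := fun X => ↾fun _ => s.val X
     naturality := by
      intro X Y g
      ext x
      exact (s.property g).symm }⟩

variable (f : ModSite.RMor O_C O_D)


/-- the inverse image of the terminal sheaf is terminal -/
noncomputable def eT : (f.fn.sheafPullback (Type u) K J).obj (termSh (J := K)) ≅ termSh (J := J) :=
  (IsTerminal.isTerminalObj (f.fn.sheafPullback (Type u) K J) _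
    (Sheaf.isTerminalTerminal K Types.isTerminalPunit)).uniqueUpToIso
    (Sheaf.isTerminalTerminal J Types.isTerminalPunit)

/-- the adjunct of a global section, evaluated -/
lemma adjunct_app (P : Sheaf J (Type u)) (σ : termSh (J := J) ⟶ P) (Y : D) :
    (((f.fn.sheafAdjunctionContinuous (Type u) K J).homEquiv (termSh (J := K)) P)
      ((eT f).hom ≫ σ)).hom.app (op Y) PUnit.unit = σ.hom.app (op (f.fn.obj Y)) PUnit.unit := by
  rw [Adjunction.homEquiv_unit]
  rfl


lemma homOfSection_app (M : ModSite.Mod O_C) (s : M.sections) (X : Cᵒᵖ) :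
    (homOfSection M s).hom.app X PUnit.unit = s.val X := rfl

theorem bijective_pushforwardSections (M : ModSite.Mod O_C) :
    Function.Bijective (SheafOfModules.pushforwardSections f.sharpR (M := M)) := by
  constructor
  · intro s s' h
    have key : (eT f).hom ≫ homOfSection M s = (eT f).hom ≫ homOfSection M s' := by
      apply ((f.fn.sheafAdjunctionContinuous (Type u) K J).homEquiv _ _).injective
      ext Y x
      cases x
      obtain ⟨Y⟩ := Y
      refine (adjunct_app f (tySh M) (homOfSection M s) Y).trans ?_
      refine Eq.trans ?_ (adjunct_app f (tySh M) (homOfSection M s') Y).symm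
      exact congrArg (fun t => t.val (op Y)) h
    have key2 : homOfSection M s = homOfSection M s' := by rwa [cancel_epi] at key
    ext X
    exact congrArg (fun σ => σ.hom.app X PUnit.unit) key2
  · intro t
    let τ : termSh (J := K) ⟶ (f.fn.sheafPushforwardContinuous (Type u) K J).obj (tySh M) :=
      ⟨{ app := fun Y => ↾fun _ => t.val Y
         naturality := by
          intro X Y g
          ext x
          exact (t.property g).symm }⟩
    let σ : termSh (J := J) ⟶ tySh M :=
      (eT f).inv ≫ ((f.fn.sheafAdjunctionContinuous (Type u) K J).homEquiv _ _).symm τ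
    have hσ : ((f.fn.sheafAdjunctionContinuous (Type u) K J).homEquiv _ _)
        ((eT f).hom ≫ σ) = τ := by
      dsimp only [σ]
      rw [Iso.hom_inv_id_assoc, Equiv.apply_symm_apply]
    refine ⟨⟨fun X => σ.hom.app X PUnit.unit, ?_⟩, ?_⟩
    · intro X Y g
      have := congrArg (fun k => k PUnit.unit) (σ.hom.naturality g)
      exact this.symm
    · ext Y
      obtain ⟨Y⟩ := Y
      have h1 := adjunct_app f (tySh M) σ Y
      rw [hσ] at h1
      exact h1.symm


open SheafOfModules in
theorem isIso_pullbackObjUnitToUnit : IsIso (pullbackObjUnitToUnit.{u} f.sharpR) := by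
  rw [isIso_iff_coyoneda_map_bijective]
  intro M
  rw [← ((pullbackPushforwardAdjunction.{u} f.sharpR).homEquiv _ _).bijective.of_comp_iff',
    ← (unitHomEquiv _).bijective.of_comp_iff']
  convert! (bijective_pushforwardSections f M).comp (unitHomEquiv _).bijective
  ext g : 1
  dsimp
  rw [pushforwardSections_unitHomEquiv, EmbeddingLike.apply_eq_iff_eq,
    Adjunction.homEquiv_naturality_right,
    pullbackPushforwardAdjunction_homEquiv_pullbackObjUnitToUnit]

/-- the inverse image of the structure sheaf is the structure sheaf -/
noncomputable def pullUnitIso : f.pull.obj (ModSite.unit O_D) ≅ ModSite.unit O_C :=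
  haveI := isIso_pullbackObjUnitToUnit f
  asIso (SheafOfModules.pullbackObjUnitToUnit.{u} f.sharpR)

/-- the inverse image of a free module is free -/
noncomputable def pullFreeIso (I : Type u) :
    f.pull.obj (SheafOfModules.free (R := ModSite.ringSh O_D) I) ≅
      SheafOfModules.free (R := ModSite.ringSh O_C) I :=
  (asIso (sigmaComparison f.pull (fun _ : I => ModSite.unit O_D))).symm ≪≫
    Sigma.mapIso (fun _ => pullUnitIso f)


theorem main (E : CochainComplex (ModSite.Mod O_D) ℤ)
    (hE : DCoh.IsStrictlyPerfectMod (ModSite.ringSh O_D) E) :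
    DCoh.IsStrictlyPerfectMod (ModSite.ringSh O_C)
      ((f.pull.mapHomologicalComplex (ComplexShape.up ℤ)).obj E) := by
  obtain ⟨⟨a, b, hab⟩, hsum⟩ := hE
  refine ⟨⟨a, b, fun i hi => Functor.map_isZero f.pull (hab i hi)⟩, fun i => ?_⟩
  obtain ⟨n, ι, p, hιp⟩ := hsum i
  refine ⟨n, f.pull.map ι ≫ (pullFreeIso f _).hom, (pullFreeIso f _).inv ≫ f.pull.map p, ?_⟩
  rw [Category.assoc, Iso.hom_inv_id_assoc]
  refine (f.pull.map_comp ι p).symm.trans ?_
  rw [hιp]
  exact CategoryTheory.Functor.map_id _ _

end Groth.Agent.Lib.Helper4.PullUnit
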