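import Mathlib
import Groth.Prelude.Def_ModSite2
import Groth.Agent.Lib.Helper5.Misc.ShriekProjNat
import Groth.Agent.Lib.Helper4.SheafHomColim

/-!
# Restriction to a slice site versus tensor products: the unit of extension by zero, the projection isomorphism and restrTensorIso (helper4)
-/

set_option backward.isDefEq.respectTransparency.types false
set_option synthInstance.maxHeartbeats 400000
set_option autoImplicit false
set_option linter.unusedSectionVars false
set_option linter.style.haveILetI false
set_option linter.unusedSimpArgs false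
universe u v w
open CategoryTheory CategoryTheory.Limits Opposite

namespace Groth.Agent.Lib.Helper4.RestrTensorA
open MonoidalCategory
open Groth.Agent.Lib.Helper5.TensorSheaf Groth.Agent.Lib.Helper5.TensorOver
  Groth.Agent.Lib.Helper5.ShriekSheaf Groth.Agent.Lib.Helper5

variable {C : Type u} [SmallCategory C] {J : GrothendieckTopology C}
  (O : Sheaf J CommRingCat.{u}) (W : C)

/-- (U1) unit compatibility of `shrShfIso` -/
lemma unit_shrShfIso (Q : PM (O.over W)) :
    (padj O W).unit.app Q ≫ (rsp O W).map ((unit' O).app ((shr O W).obj Q)) ≫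
      (fgt (O.over W)).map ((ModSite.restr O W).map ((shrShfIso O W).hom.app Q)) =
    (unit' (O.over W)).app Q ≫
      (fgt (O.over W)).map ((ModSite.extZeroAdj O W).unit.app ((shf (O.over W)).obj Q)) := by
  have h := Adjunction.unit_leftAdjointUniq_hom_app
    (((padj O W).comp (TensorSheaf.adj O)).ofNatIsoRight (rightAdjIso O W))
    ((TensorSheaf.adj (O.over W)).comp (ModSite.extZeroAdj O W)) Q
  exact h

/-- (U2+U3) the unit of `extZeroAdj` in presheaf terms -/
lemma unit_extZeroAdj (T : ModSite.Mod (O.over W)) :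
    (fgt (O.over W)).map ((ModSite.extZeroAdj O W).unit.app T) =
      (padj O W).unit.app ((fgt (O.over W)).obj T) ≫
        (rsp O W).map ((unit' O).app ((shr O W).obj ((fgt (O.over W)).obj T))) ≫
        (fgt (O.over W)).map ((ModSite.restr O W).map ((extZeroIso O W).hom.app T)) := by
  have h := Adjunction.unit_leftAdjointUniq_hom_app (adj' O W) (ModSite.extZeroAdj O W) T
  rw [← h, Functor.map_comp]
  have h2 := Adjunction.map_restrictFullyFaithful_unit_app
    ((padj O W).comp (TensorSheaf.adj O))
    (SheafOfModules.fullyFaithfulForget _) (Functor.FullyFaithful.id _)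
    (Functor.rightUnitor _).symm (comm2 O W) T
  rw [← Category.assoc]
  congr 1

open Classical in
/-- (P0) the presheaf projection formula is compatible with the units -/
lemma unit_ppf (Q₀ : PM (O.over W)) (N : PM O) :
    (padj O W).unit.app (Q₀ ⊗ (rsp O W).obj N) ≫ (rsp O W).map (ppf Q₀ N).hom =
      (padj O W).unit.app Q₀ ▷ (rsp O W).obj N := by
  apply PresheafOfModules.hom_ext
  intro Y
  apply ModuleCat.MonoidalCategory.tensor_ext
  intro q n
  exact ppf_hom_app_of_tmul (Q := Q₀) (F := N) (op Y.unop.left) Y.unop.hom q n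

lemma fgt_restr_map {M M' : ModSite.Mod O} (x : M ⟶ M') :
    (fgt (O.over W)).map ((ModSite.restr O W).map x) = (rsp O W).map ((fgt O).map x) := rfl

set_option maxHeartbeats 2000000 in
/-- (U1r) in `rsp ∘ fgt` form -/
lemma unit_shrShfIso' (Q : PM (O.over W)) :
    (padj O W).unit.app Q ≫ (rsp O W).map ((unit' O).app ((shr O W).obj Q)) ≫
      (rsp O W).map ((fgt O).map ((shrShfIso O W).hom.app Q)) =
    (unit' (O.over W)).app Q ≫
      (fgt (O.over W)).map ((ModSite.extZeroAdj O W).unit.app ((shf (O.over W)).obj Q)) := by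
  exact unit_shrShfIso O W Q

/-- naturality of `unit'` in convenient form -/
lemma un_nat {P P' : PM O} (f : P ⟶ P') :
    (unit' O).app P ≫ (fgt O).map ((shf O).map f) = f ≫ (unit' O).app P' :=
  ((unit' O).naturality f).symm


/-- source of the key identity -/
noncomputable abbrev srcK (T : ModSite.Mod (O.over W)) (N : ModSite.Mod O) : PM (O.over W) :=
  (fgt (O.over W)).obj T ⊗ (rsp O W).obj ((fgt O).obj N)

/-- target of the key identity -/
noncomputable abbrev tgtK (T : ModSite.Mod (O.over W)) (N : ModSite.Mod O) : PM (O.over W) :=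
  (rsp O W).obj ((fgt O).obj ((shf O).obj
    ((fgt O).obj ((ModSite.extZero O W).obj T) ⊗ (fgt O).obj N)))

/-- left side of the key identity -/
noncomputable def lhsK (T : ModSite.Mod (O.over W)) (N : ModSite.Mod O) : srcK O W T N ⟶ tgtK O W T N :=
    (unit' (O.over W)).app ((fgt (O.over W)).obj T ⊗ (rsp O W).obj ((fgt O).obj N)) ≫
      (fgt (O.over W)).map ((ModSite.extZeroAdj O W).unit.app
        (((ModSite.tensorBi (O.over W)).obj T).obj ((ModSite.restr O W).obj N)) ≫
        (ModSite.restr O W).map (projIso T N).hom)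

/-- right side of the key identity -/
noncomputable def rhsK (T : ModSite.Mod (O.over W)) (N : ModSite.Mod O) : srcK O W T N ⟶ tgtK O W T N :=
    ((fgt (O.over W)).map ((ModSite.extZeroAdj O W).unit.app T) ▷ (rsp O W).obj ((fgt O).obj N)) ≫
      (rsp O W).map ((unit' O).app
        ((fgt O).obj ((ModSite.extZero O W).obj T) ⊗ (fgt O).obj N))

/-- intermediate object -/
noncomputable abbrev E1 (Q : PM (O.over W)) : PM (O.over W) :=
  (fgt (O.over W)).obj ((ModSite.restr O W).obj ((shf O).obj ((shr O W).obj Q)))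

/-- the presheaf-level unit -/
noncomputable def m1 (Q : PM (O.over W)) : Q ⟶ E1 O W Q :=
  (padj O W).unit.app Q ≫ (rsp O W).map ((unit' O).app ((shr O W).obj Q))

/-- (U1inv) -/
lemma unit_shrShfIso_inv (Q : PM (O.over W)) :
    (unit' (O.over W)).app Q ≫ (fgt (O.over W)).map
      ((ModSite.extZeroAdj O W).unit.app ((shf (O.over W)).obj Q) ≫
        (ModSite.restr O W).map ((shrShfIso O W).inv.app Q)) = m1 O W Q := by
  have h : m1 O W Q ≫ (fgt (O.over W)).map ((ModSite.restr O W).map ((shrShfIso O W).hom.app Q)) =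
      (unit' (O.over W)).app Q ≫
      (fgt (O.over W)).map ((ModSite.extZeroAdj O W).unit.app ((shf (O.over W)).obj Q)) := by
    unfold m1
    rw [Category.assoc]
    exact unit_shrShfIso O W Q
  rw [Functor.map_comp, ← Category.assoc, ← h, Category.assoc, ← Functor.map_comp,
    ← Functor.map_comp, Iso.hom_inv_id_app]
  have e : (fgt (O.over W)).map ((ModSite.restr O W).map (𝟙 ((shr O W ⋙ shf O).obj Q))) =
      𝟙 (E1 O W Q) := by
    rw [(ModSite.restr O W).map_id]
    exact (fgt (O.over W)).map_id _
  rw [e, Category.comp_id]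

/-- the part of the projection isomorphism after `shrShfIso` -/
noncomputable def rest (T : ModSite.Mod (O.over W)) (N : ModSite.Mod O) :
    (shf O).obj ((shr O W).obj (srcK O W T N)) ⟶
      (shf O).obj ((fgt O).obj ((ModSite.extZero O W).obj T) ⊗ (fgt O).obj N) :=
  (shf O).map (ppf ((fgt (O.over W)).obj T) ((fgt O).obj N)).hom ≫
    (shf O).map (projRightMap T N) ≫
      (shf O).map ((fgt O).map ((extZeroIso O W).hom.app T) ▷ (fgt O).obj N)

lemma projIso_hom_eq (T : ModSite.Mod (O.over W)) (N : ModSite.Mod O) :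
    (projIso T N).hom = (shrShfIso O W).inv.app (srcK O W T N) ≫ rest O W T N := by
  unfold projIso projLeftIso projRightIso rest
  simp only [Iso.trans_hom, Iso.symm_hom, Iso.app_inv, Functor.mapIso_hom, asIso_hom,
    Iso.app_hom, Category.assoc]
  rfl

/-- Claim 1 -/
lemma lhsK_eq (T : ModSite.Mod (O.over W)) (N : ModSite.Mod O) :
    lhsK O W T N = m1 O W (srcK O W T N) ≫
      (fgt (O.over W)).map ((ModSite.restr O W).map (rest O W T N)) := by
  have e0 : (ModSite.extZeroAdj O W).unit.app
        (((ModSite.tensorBi (O.over W)).obj T).obj ((ModSite.restr O W).obj N)) ≫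
        (ModSite.restr O W).map (projIso T N).hom =
      ((ModSite.extZeroAdj O W).unit.app ((shf (O.over W)).obj (srcK O W T N)) ≫
        (ModSite.restr O W).map ((shrShfIso O W).inv.app (srcK O W T N))) ≫
        (ModSite.restr O W).map (rest O W T N) := by
    rw [projIso_hom_eq, Category.assoc]
    congr 1
  unfold lhsK
  rw [e0]
  show (unit' (O.over W)).app (srcK O W T N) ≫ (fgt (O.over W)).map
      (((ModSite.extZeroAdj O W).unit.app ((shf (O.over W)).obj (srcK O W T N)) ≫
        (ModSite.restr O W).map ((shrShfIso O W).inv.app (srcK O W T N))) ≫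
        (ModSite.restr O W).map (rest O W T N)) = _
  rw [Functor.map_comp, ← Category.assoc, unit_shrShfIso_inv]

/-- presheaf-level middle map -/
noncomputable def mid (T : ModSite.Mod (O.over W)) (N : ModSite.Mod O) :
    (shr O W).obj (srcK O W T N) ⟶
      (fgt O).obj ((ModSite.extZero O W).obj T) ⊗ (fgt O).obj N :=
  (ppf ((fgt (O.over W)).obj T) ((fgt O).obj N)).hom ≫ projRightMap T N ≫
    ((fgt O).map ((extZeroIso O W).hom.app T) ▷ (fgt O).obj N)

lemma un_rest (T : ModSite.Mod (O.over W)) (N : ModSite.Mod O) :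
    (unit' O).app ((shr O W).obj (srcK O W T N)) ≫ (fgt O).map (rest O W T N) =
      mid O W T N ≫ (unit' O).app ((fgt O).obj ((ModSite.extZero O W).obj T) ⊗ (fgt O).obj N) := by
  unfold rest mid
  rw [Functor.map_comp, Functor.map_comp, ← Category.assoc, un_nat,
    Category.assoc, ← Category.assoc ((unit' O).app _), un_nat, Category.assoc, un_nat,
    Category.assoc, Category.assoc]

lemma rsp_whiskerRight {P P' : PM O} (g : P ⟶ P') (N : PM O) :
    (rsp O W).map (g ▷ N) = (rsp O W).map g ▷ (rsp O W).obj N := rfl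

/-- the unit of `extZeroAdj`, presheaf form, as a single restricted map -/
lemma unit_extZeroAdj' (T : ModSite.Mod (O.over W)) :
    (fgt (O.over W)).map ((ModSite.extZeroAdj O W).unit.app T) =
      (padj O W).unit.app ((fgt (O.over W)).obj T) ≫
        (rsp O W).map ((unit' O).app ((shr O W).obj ((fgt (O.over W)).obj T)) ≫
          (fgt O).map ((extZeroIso O W).hom.app T)) := by
  rw [unit_extZeroAdj, Functor.map_comp]
  rfl

/-- (A0) -/
theorem lhsK_eq_rhsK (T : ModSite.Mod (O.over W)) (N : ModSite.Mod O) :
    lhsK O W T N = rhsK O W T N := by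
  have s1 : lhsK O W T N = (padj O W).unit.app (srcK O W T N) ≫
      (rsp O W).map ((unit' O).app ((shr O W).obj (srcK O W T N)) ≫
        (fgt O).map (rest O W T N)) := by
    rw [lhsK_eq]
    unfold m1
    rw [Category.assoc]
    congr 1
  have s2 : (padj O W).unit.app (srcK O W T N) ≫
      (rsp O W).map ((unit' O).app ((shr O W).obj (srcK O W T N)) ≫
        (fgt O).map (rest O W T N)) =
      (padj O W).unit.app (srcK O W T N) ≫
      (rsp O W).map (mid O W T N ≫
        (unit' O).app ((fgt O).obj ((ModSite.extZero O W).obj T) ⊗ (fgt O).obj N)) :=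
    congrArg (fun k => (padj O W).unit.app (srcK O W T N) ≫ (rsp O W).map k) (un_rest O W T N)
  have s3 : (padj O W).unit.app (srcK O W T N) ≫
      (rsp O W).map (mid O W T N ≫
        (unit' O).app ((fgt O).obj ((ModSite.extZero O W).obj T) ⊗ (fgt O).obj N)) =
      (((padj O W).unit.app ((fgt (O.over W)).obj T) ≫
        (rsp O W).map ((unit' O).app ((shr O W).obj ((fgt (O.over W)).obj T)) ≫
          (fgt O).map ((extZeroIso O W).hom.app T))) ▷ (rsp O W).obj ((fgt O).obj N)) ≫
      (rsp O W).map ((unit' O).app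
        ((fgt O).obj ((ModSite.extZero O W).obj T) ⊗ (fgt O).obj N)) := by
    have w1 : projRightMap T N ≫ ((fgt O).map ((extZeroIso O W).hom.app T) ▷ (fgt O).obj N) =
        ((unit' O).app ((shr O W).obj ((fgt (O.over W)).obj T)) ≫
          (fgt O).map ((extZeroIso O W).hom.app T)) ▷ (fgt O).obj N :=
      (MonoidalCategory.comp_whiskerRight _ _ _).symm
    have w2 : mid O W T N = (ppf ((fgt (O.over W)).obj T) ((fgt O).obj N)).hom ≫
        (((unit' O).app ((shr O W).obj ((fgt (O.over W)).obj T)) ≫
          (fgt O).map ((extZeroIso O W).hom.app T)) ▷ (fgt O).obj N) := by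
      unfold mid
      rw [w1]
    rw [w2, Functor.map_comp, Functor.map_comp, ← Category.assoc, ← Category.assoc]
    congr 1
    rw [rsp_whiskerRight, MonoidalCategory.comp_whiskerRight]
    congr 1
    exact unit_ppf O W ((fgt (O.over W)).obj T) ((fgt O).obj N)
  rw [s1, s2, s3]
  unfold rhsK
  rw [unit_extZeroAdj']
  rfl

/-! ### the comparison map `cm` -/

/-- the comparison map `a_W(P|_W) ⟶ (aP)|_W`, `rsp` version -/
noncomputable def cm (P : PM O) :
    (shf (O.over W)).obj ((rsp O W).obj P) ⟶ (ModSite.restr O W).obj ((shf O).obj P) :=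
  adjunct (G := (ModSite.restr O W).obj ((shf O).obj P)) ((rsp O W).map ((unit' O).app P))

lemma un_adjunct {O' : Sheaf J CommRingCat.{u}} {Q : PM O'} {G : ModSite.Mod O'}
    (φ : Q ⟶ (fgt O').obj G) :
    (unit' O').app Q ≫ (fgt O').map (adjunct φ) = φ := by
  have h := ((TensorSheaf.adj O').homEquiv Q G).apply_symm_apply φ
  rw [Adjunction.homEquiv_unit] at h
  exact h

lemma adjunct_ext {O' : Sheaf J CommRingCat.{u}} {Q : PM O'} {G : ModSite.Mod O'}
    {a b : (shf O').obj Q ⟶ G}
    (h : (unit' O').app Q ≫ (fgt O').map a = (unit' O').app Q ≫ (fgt O').map b) : a = b := by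
  apply ((TensorSheaf.adj O').homEquiv Q G).injective
  rw [Adjunction.homEquiv_unit, Adjunction.homEquiv_unit]
  exact h

lemma un_cm (P : PM O) :
    (unit' (O.over W)).app ((rsp O W).obj P) ≫ (fgt (O.over W)).map (cm O W P) =
      (rsp O W).map ((unit' O).app P) :=
  un_adjunct _

lemma W_rsp_map {P Q : PM O} (f : P ⟶ Q)
    (hf : J.W ((PresheafOfModules.toPresheaf _).map f)) :
    (J.over W).W ((PresheafOfModules.toPresheaf _).map ((rsp O W).map f)) := by
  rw [J.W_iff_isLocallyBijective] at hf
  rw [(J.over W).W_iff_isLocallyBijective]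
  obtain ⟨h1, h2⟩ := hf
  have e1 := Presheaf.isLocallyInjective_whisker (J.over W) J (Over.forget W)
    ((PresheafOfModules.toPresheaf _).map f)
  have e2 := Presheaf.isLocallySurjective_whisker (J.over W) J (Over.forget W)
    ((PresheafOfModules.toPresheaf _).map f)
  exact ⟨e1, e2⟩

instance isIso_cm (P : PM O) : IsIso (cm O W P) :=
  isIso_adjunct_of_W _ (W_rsp_map O W _ (W_unit' P))

/-- naturality of `cm` -/
lemma cm_nat {P P' : PM O} (f : P ⟶ P') :
    (shf (O.over W)).map ((rsp O W).map f) ≫ cm O W P' =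
      cm O W P ≫ (ModSite.restr O W).map ((shf O).map f) := by
  apply adjunct_ext
  rw [Functor.map_comp, Functor.map_comp, ← Category.assoc, ← Category.assoc, un_nat, un_cm,
    Category.assoc, un_cm, fgt_restr_map]
  have h := congrArg (fun k => (rsp O W).map k) (un_nat O f)
  simp only [Functor.map_comp] at h
  exact h.symm

/-- the left side of (A), sheaf level -/
noncomputable def lhsA (T : ModSite.Mod (O.over W)) (N : ModSite.Mod O) :
    ((ModSite.tensorBi (O.over W)).obj T).obj ((ModSite.restr O W).obj N) ⟶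
      (ModSite.restr O W).obj
        (((ModSite.tensorBi O).obj ((ModSite.extZero O W).obj T)).obj N) :=
  (ModSite.extZeroAdj O W).unit.app
        (((ModSite.tensorBi (O.over W)).obj T).obj ((ModSite.restr O W).obj N)) ≫
      (ModSite.restr O W).map (projIso T N).hom

/-- the right side of (A), sheaf level -/
noncomputable def rhsA (T : ModSite.Mod (O.over W)) (N : ModSite.Mod O) :
    ((ModSite.tensorBi (O.over W)).obj T).obj ((ModSite.restr O W).obj N) ⟶
      (ModSite.restr O W).obj
        (((ModSite.tensorBi O).obj ((ModSite.extZero O W).obj T)).obj N) :=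
  ((ModSite.tensorBi (O.over W)).map ((ModSite.extZeroAdj O W).unit.app T)).app
      ((ModSite.restr O W).obj N) ≫
    (restrTensorIso O W ((ModSite.extZero O W).obj T) N).inv

/-- the inverse of `restrTensorIso` -/
lemma restrTensorIso_inv (M N : ModSite.Mod O) :
    (restrTensorIso O W M N).inv =
      (shf (O.over W)).map (respTensor O W ((fgt O).obj M) ((fgt O).obj N)).inv ≫
        compMap O W ((fgt O).obj M ⊗ (fgt O).obj N) := by
  unfold restrTensorIso restrShfIso
  rfl

lemma un_compMap (P : PM O) :
    (unit' (O.over W)).app ((resp O W).obj P) ≫ (fgt (O.over W)).map (compMap O W P) =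
      (resp O W).map ((unit' O).app P) :=
  un_adjunct _

lemma un_map_comp {O' : Sheaf J CommRingCat.{u}} {Q Q' : PM O'} {G : ModSite.Mod O'}
    (g : Q ⟶ Q') (b : (shf O').obj Q' ⟶ G) :
    (unit' O').app Q ≫ (fgt O').map ((shf O').map g ≫ b) =
      g ≫ (unit' O').app Q' ≫ (fgt O').map b := by
  rw [Functor.map_comp, ← Category.assoc, un_nat, Category.assoc]

/-- the transpose of `restrTensorIso.inv` -/
noncomputable def rspT (M N : ModSite.Mod O) :
    (fgt (O.over W)).obj ((ModSite.restr O W).obj M) ⊗
        (fgt (O.over W)).obj ((ModSite.restr O W).obj N) ⟶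
      (fgt (O.over W)).obj ((ModSite.restr O W).obj (((ModSite.tensorBi O).obj M).obj N)) :=
  (respTensor O W ((fgt O).obj M) ((fgt O).obj N)).inv ≫
      (resp O W).map ((unit' O).app ((fgt O).obj M ⊗ (fgt O).obj N))

/-- transposing `restrTensorIso.inv` -/
lemma un_restrTensorIso_inv (M N : ModSite.Mod O) :
    (unit' (O.over W)).app ((fgt (O.over W)).obj ((ModSite.restr O W).obj M) ⊗
        (fgt (O.over W)).obj ((ModSite.restr O W).obj N)) ≫
      (fgt (O.over W)).map (restrTensorIso O W M N).inv = rspT O W M N := by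
  have h := un_map_comp (respTensor O W ((fgt O).obj M) ((fgt O).obj N)).inv
    (compMap O W ((fgt O).obj M ⊗ (fgt O).obj N))
  rw [un_compMap] at h
  rw [restrTensorIso_inv]
  exact h

/-- the transpose of the right side of (A) -/
noncomputable def rhsR (T : ModSite.Mod (O.over W)) (N : ModSite.Mod O) :
    (fgt (O.over W)).obj T ⊗ (fgt (O.over W)).obj ((ModSite.restr O W).obj N) ⟶
      (fgt (O.over W)).obj ((ModSite.restr O W).obj
        (((ModSite.tensorBi O).obj ((ModSite.extZero O W).obj T)).obj N)) :=
  ((fgt (O.over W)).map ((ModSite.extZeroAdj O W).unit.app T) ▷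
      (fgt (O.over W)).obj ((ModSite.restr O W).obj N)) ≫
    rspT O W ((ModSite.extZero O W).obj T) N

lemma un_rhsA (T : ModSite.Mod (O.over W)) (N : ModSite.Mod O) :
    (unit' (O.over W)).app
        ((fgt (O.over W)).obj T ⊗ (fgt (O.over W)).obj ((ModSite.restr O W).obj N)) ≫
      (fgt (O.over W)).map (rhsA O W T N) = rhsR O W T N := by
  have h := un_map_comp ((fgt (O.over W)).map ((ModSite.extZeroAdj O W).unit.app T) ▷
      (fgt (O.over W)).obj ((ModSite.restr O W).obj N))
    (restrTensorIso O W ((ModSite.extZero O W).obj T) N).inv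
  exact h.trans (congrArg (fun k => ((fgt (O.over W)).map ((ModSite.extZeroAdj O W).unit.app T) ▷
      (fgt (O.over W)).obj ((ModSite.restr O W).obj N)) ≫ k)
      (un_restrTensorIso_inv O W ((ModSite.extZero O W).obj T) N))

set_option maxHeartbeats 8000000 in
lemma bridge1 (T : ModSite.Mod (O.over W)) (N : ModSite.Mod O) :
    (unit' (O.over W)).app
        ((fgt (O.over W)).obj T ⊗ (fgt (O.over W)).obj ((ModSite.restr O W).obj N)) ≫
      (fgt (O.over W)).map (lhsA O W T N) = lhsK O W T N := rfl

set_option maxHeartbeats 8000000 in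
lemma bridge2 (T : ModSite.Mod (O.over W)) (N : ModSite.Mod O) :
    rhsK O W T N = rhsR O W T N := by
  apply PresheafOfModules.hom_ext
  intro Y
  rfl

/-- (A) sheaf level: the unit of `j_! ⊣ ρ`, the projection isomorphism and `restrTensorIso` -/
theorem lhsA_eq_rhsA (T : ModSite.Mod (O.over W)) (N : ModSite.Mod O) :
    lhsA O W T N = rhsA O W T N := by
  apply adjunct_ext
  exact (bridge1 O W T N).trans ((lhsK_eq_rhsK O W T N).trans
    ((bridge2 O W T N).trans (un_rhsA O W T N).symm))

/-! ### naturality of `restrTensorIso.inv` -/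

lemma respTensor_inv_nat_left {P P' : PM O} (g : P ⟶ P') (R : PM O) :
    ((resp O W).map g ▷ (resp O W).obj R) ≫ (respTensor O W P' R).inv =
      (respTensor O W P R).inv ≫ (resp O W).map (g ▷ R) := by
  apply PresheafOfModules.hom_ext
  intro Y
  apply ModuleCat.MonoidalCategory.tensor_ext
  intro a b
  rfl

lemma respTensor_inv_nat_right (P : PM O) {R R' : PM O} (g : R ⟶ R') :
    ((resp O W).obj P ◁ (resp O W).map g) ≫ (respTensor O W P R').inv =
      (respTensor O W P R).inv ≫ (resp O W).map (P ◁ g) := by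
  apply PresheafOfModules.hom_ext
  intro Y
  apply ModuleCat.MonoidalCategory.tensor_ext
  intro a b
  rfl

end Groth.Agent.Lib.Helper4.RestrTensorA
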