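import Mathlib

/-!
# Inverse image of sheaves of sets and products of representables: bilinear families restrict bijectively (helper4)
-/

set_option backward.isDefEq.respectTransparency.types false
set_option synthInstance.maxHeartbeats 400000
set_option autoImplicit false
set_option linter.unusedSectionVars false
set_option linter.style.haveILetI false
set_option linter.unusedSimpArgs false
universe u v w
open CategoryTheory CategoryTheory.Limits Opposite

namespace Groth.Agent.Lib.Helper4.SetPullProd

variable {C D : Type u} [SmallCategory C] [SmallCategory D] {J : GrothendieckTopology C}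
  {K : GrothendieckTopology D} (fn : D ⥤ C) [fn.IsContinuous K J]

/-- presheaves on `D` to sheaves on `C` -/
noncomputable abbrev L : (Dᵒᵖ ⥤ Type u) ⥤ Sheaf J (Type u) :=
  presheafToSheaf K (Type u) ⋙ fn.sheafPullback (Type u) K J

/-- sheaves on `C` to presheaves on `D` -/
noncomputable abbrev R : Sheaf J (Type u) ⥤ (Dᵒᵖ ⥤ Type u) :=
  fn.sheafPushforwardContinuous (Type u) K J ⋙ sheafToPresheaf K (Type u)

/-- the adjunction -/
noncomputable def adjL : L (J := J) (K := K) fn ⊣ R (J := J) (K := K) fn :=
  (sheafificationAdjunction K (Type u)).comp (fn.sheafAdjunctionContinuous (Type u) K J)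

/-- the sheafification adjunction on `C` -/
noncomputable abbrev adjC : presheafToSheaf J (Type u) ⊣ sheafToPresheaf J (Type u) :=
  sheafificationAdjunction J (Type u)

variable (V W : D)

/-- the product of representables on `D` -/
abbrev P₁ : Dᵒᵖ ⥤ Type u := FunctorToTypes.prod (yoneda.obj V) (yoneda.obj W)

/-- the product of representables on `C` -/
abbrev P₂ (U₁ U₂ : C) : Cᵒᵖ ⥤ Type u := FunctorToTypes.prod (yoneda.obj U₁) (yoneda.obj U₂)

/-- the comparison -/
def κ : P₁ V W ⟶ fn.op ⋙ P₂ (fn.obj V) (fn.obj W) where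
  app T := ↾fun ab => (fn.map ab.1, fn.map ab.2)
  naturality := by
    intro T T' g
    ext ab
    apply Prod.ext
    · exact fn.map_comp _ _
    · exact fn.map_comp _ _

/-- the comparison for representables -/
noncomputable def eV : yoneda.obj V ⟶ (R (J := J) (K := K) fn).obj ((presheafToSheaf J (Type u)).obj (yoneda.obj (fn.obj V))) where
  app T := ↾fun a => ((adjC (J := J)).unit.app (yoneda.obj (fn.obj V))).app (op (fn.obj T.unop)) (fn.map a)
  naturality := by
    intro T T' g
    ext a
    have := congrArg (fun k => k (fn.map a))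
      (((adjC (J := J)).unit.app (yoneda.obj (fn.obj V))).naturality (fn.map g.unop).op)
    refine Eq.trans ?_ this
    show ((adjC (J := J)).unit.app (yoneda.obj (fn.obj V))).app (op (fn.obj T'.unop)) (fn.map (g.unop ≫ a)) = _
    rw [fn.map_comp]
    rfl

/-- `L(yV) ⟶ a y(fn V)` -/
noncomputable def εV : (L (J := J) (K := K) fn).obj (yoneda.obj V) ⟶
    (presheafToSheaf J (Type u)).obj (yoneda.obj (fn.obj V)) :=
  ((adjL (J := J) (K := K) fn).homEquiv _ _).symm (eV (J := J) (K := K) fn V)

lemma εV_comp (S : Sheaf J (Type u))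
    (σ : (presheafToSheaf J (Type u)).obj (yoneda.obj (fn.obj V)) ⟶ S) :
    yonedaEquiv ((adjL (J := J) (K := K) fn).homEquiv _ _ (εV (J := J) (K := K) fn V ≫ σ)) =
      yonedaEquiv ((adjC (J := J)).homEquiv _ _ σ) := by
  rw [Adjunction.homEquiv_naturality_right]
  unfold εV
  rw [Equiv.apply_symm_apply]
  rw [Adjunction.homEquiv_unit]
  show σ.hom.app (op (fn.obj V)) (((adjC (J := J)).unit.app (yoneda.obj (fn.obj V))).app (op (fn.obj V)) (fn.map (𝟙 V))) = _
  rw [fn.map_id]
  rfl

instance isIso_εV : IsIso (εV (J := J) (K := K) fn V) := by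
  rw [isIso_iff_coyoneda_map_bijective]
  intro S
  have h1 : Function.Bijective (fun σ : (presheafToSheaf J (Type u)).obj (yoneda.obj (fn.obj V)) ⟶ S =>
      yonedaEquiv ((adjC (J := J)).homEquiv _ _ σ)) :=
    (yonedaEquiv.bijective).comp ((adjC (J := J)).homEquiv _ _).bijective
  have h2 : (fun σ : (presheafToSheaf J (Type u)).obj (yoneda.obj (fn.obj V)) ⟶ S =>
      yonedaEquiv ((adjC (J := J)).homEquiv _ _ σ)) =
      (fun τ : (L (J := J) (K := K) fn).obj (yoneda.obj V) ⟶ S =>
        yonedaEquiv ((adjL (J := J) (K := K) fn).homEquiv _ _ τ)) ∘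
      (fun σ => εV (J := J) (K := K) fn V ≫ σ) := by
    funext σ
    exact (εV_comp fn V S σ).symm
  rw [h2] at h1
  have h3 : Function.Bijective (fun τ : (L (J := J) (K := K) fn).obj (yoneda.obj V) ⟶ S =>
        yonedaEquiv ((adjL (J := J) (K := K) fn).homEquiv _ _ τ)) :=
    (yonedaEquiv.bijective).comp ((adjL (J := J) (K := K) fn).homEquiv _ _).bijective
  exact (Function.Bijective.of_comp_iff' h3 _).mp h1

/-- `κ` followed by the sheafification unit -/
noncomputable def κ' : P₁ V W ⟶
    (R (J := J) (K := K) fn).obj ((presheafToSheaf J (Type u)).obj (P₂ (fn.obj V) (fn.obj W))) :=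
  κ fn V W ≫ Functor.whiskerLeft fn.op ((adjC (J := J)).unit.app (P₂ (fn.obj V) (fn.obj W)))

/-- the comparison of sheaves -/
noncomputable def κs : (L (J := J) (K := K) fn).obj (P₁ V W) ⟶
    (presheafToSheaf J (Type u)).obj (P₂ (fn.obj V) (fn.obj W)) :=
  ((adjL (J := J) (K := K) fn).homEquiv _ _).symm (κ' (J := J) (K := K) fn V W)

lemma κs_fst :
    κs (J := J) (K := K) fn V W ≫ (presheafToSheaf J (Type u)).map FunctorToTypes.prod.fst =
      (L (J := J) (K := K) fn).map FunctorToTypes.prod.fst ≫ εV (J := J) (K := K) fn V := by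
  apply ((adjL (J := J) (K := K) fn).homEquiv _ _).injective
  rw [Adjunction.homEquiv_naturality_right, Adjunction.homEquiv_naturality_left]
  unfold κs εV
  rw [Equiv.apply_symm_apply, Equiv.apply_symm_apply]
  ext T ab
  have := congrArg (fun k => k.app (op (fn.obj T.unop)) (fn.map ab.1, fn.map ab.2))
    ((adjC (J := J)).unit.naturality (FunctorToTypes.prod.fst :
      P₂ (fn.obj V) (fn.obj W) ⟶ yoneda.obj (fn.obj V)))
  exact this.symm

lemma κs_snd :
    κs (J := J) (K := K) fn V W ≫ (presheafToSheaf J (Type u)).map FunctorToTypes.prod.snd =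
      (L (J := J) (K := K) fn).map FunctorToTypes.prod.snd ≫ εV (J := J) (K := K) fn W := by
  apply ((adjL (J := J) (K := K) fn).homEquiv _ _).injective
  rw [Adjunction.homEquiv_naturality_right, Adjunction.homEquiv_naturality_left]
  unfold κs εV
  rw [Equiv.apply_symm_apply, Equiv.apply_symm_apply]
  ext T ab
  have := congrArg (fun k => k.app (op (fn.obj T.unop)) (fn.map ab.1, fn.map ab.2))
    ((adjC (J := J)).unit.naturality (FunctorToTypes.prod.snd :
      P₂ (fn.obj V) (fn.obj W) ⟶ yoneda.obj (fn.obj W)))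
  exact this.symm

section Exact
variable [PreservesFiniteLimits (fn.sheafPullback (Type u) K J)]

instance isIso_κs : IsIso (κs (J := J) (K := K) fn V W) := by
  -- the two limit fans
  have h₁ : IsLimit (BinaryFan.mk
      ((L (J := J) (K := K) fn).map (FunctorToTypes.prod.fst : P₁ V W ⟶ yoneda.obj V))
      ((L (J := J) (K := K) fn).map (FunctorToTypes.prod.snd : P₁ V W ⟶ yoneda.obj W))) :=
    mapIsLimitOfPreservesOfIsLimit (L (J := J) (K := K) fn) _ _
      (FunctorToTypes.binaryProductLimit (yoneda.obj V) (yoneda.obj W))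
  have h₂ : IsLimit (BinaryFan.mk
      ((presheafToSheaf J (Type u)).map
        (FunctorToTypes.prod.fst : P₂ (fn.obj V) (fn.obj W) ⟶ yoneda.obj (fn.obj V)))
      ((presheafToSheaf J (Type u)).map
        (FunctorToTypes.prod.snd : P₂ (fn.obj V) (fn.obj W) ⟶ yoneda.obj (fn.obj W)))) :=
    mapIsLimitOfPreservesOfIsLimit (presheafToSheaf J (Type u)) _ _
      (FunctorToTypes.binaryProductLimit (yoneda.obj (fn.obj V)) (yoneda.obj (fn.obj W)))
  have h₁' := BinaryFan.isLimitCompRightIso _ (εV (J := J) (K := K) fn W)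
    (BinaryFan.isLimitCompLeftIso _ (εV (J := J) (K := K) fn V) h₁)
  have key : κs (J := J) (K := K) fn V W = (h₁'.conePointUniqueUpToIso h₂).hom := by
    apply BinaryFan.IsLimit.hom_ext h₂
    · refine (κs_fst fn V W).trans ?_
      exact (IsLimit.conePointUniqueUpToIso_hom_comp h₁' h₂ ⟨WalkingPair.left⟩).symm
    · refine (κs_snd fn V W).trans ?_
      exact (IsLimit.conePointUniqueUpToIso_hom_comp h₁' h₂ ⟨WalkingPair.right⟩).symm
  rw [key]
  infer_instance

include K in
/-- **Claim 2**: restriction of bilinear families along `fn` is bijective for sheaves -/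
theorem bijective_ρ (S : Sheaf J (Type u)) :
    Function.Bijective (fun θ : P₂ (fn.obj V) (fn.obj W) ⟶ S.obj =>
      (κ fn V W ≫ Functor.whiskerLeft fn.op θ : P₁ V W ⟶ fn.op ⋙ S.obj)) := by
  have h : (fun θ : P₂ (fn.obj V) (fn.obj W) ⟶ S.obj =>
      (κ fn V W ≫ Functor.whiskerLeft fn.op θ : P₁ V W ⟶ fn.op ⋙ S.obj)) =
      (fun τ => (adjL (J := J) (K := K) fn).homEquiv _ S τ) ∘
      (fun σ => κs (J := J) (K := K) fn V W ≫ σ) ∘
      (fun θ => ((adjC (J := J)).homEquiv _ S).symm θ) := by
    funext θ
    dsimp only [Function.comp]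
    rw [Adjunction.homEquiv_naturality_right]
    unfold κs
    rw [Equiv.apply_symm_apply]
    unfold κ'
    rw [Category.assoc]
    congr 1
    have e1 : θ = (adjC (J := J)).unit.app _ ≫ (((adjC (J := J)).homEquiv _ S).symm θ).hom := by
      have := ((adjC (J := J)).homEquiv _ S).apply_symm_apply θ
      rw [Adjunction.homEquiv_unit] at this
      exact this.symm
    conv_lhs => rw [e1]
    rfl
  rw [h]
  refine (((adjL (J := J) (K := K) fn).homEquiv _ S).bijective).comp ?_
  refine Function.Bijective.comp ?_ (((adjC (J := J)).homEquiv _ S).symm.bijective)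
  have hiso := isIso_κs (J := J) (K := K) fn V W
  rw [isIso_iff_coyoneda_map_bijective] at hiso
  exact hiso S

end Exact
end Groth.Agent.Lib.Helper4.SetPullProd
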