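import Mathlib
import Groth.Prelude.Def_ModSite2
import Groth.Agent.Lib.Helper5.Misc.TensorSheaf
import Groth.Agent.Lib.Helper5.Misc.TensorLocal
import Groth.Agent.Lib.Helper4.RestrTensorA
import Groth.Agent.Lib.Helper4.SetPullProd
import Groth.Agent.Lib.Helper4.BilFree
import Groth.Agent.Lib.Helper4.PullUnit

/-!
# The comparison f^*(M ⊗ N) → f^*M ⊗ f^*N for a morphism of ringed sites; isomorphism on generators (helper4)
-/

set_option backward.isDefEq.respectTransparency.types false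
set_option synthInstance.maxHeartbeats 400000
set_option autoImplicit false
set_option linter.unusedSectionVars false
set_option linter.style.haveILetI false
set_option linter.unusedSimpArgs false
universe u v w
open CategoryTheory CategoryTheory.Limits Opposite

namespace Groth.Agent.Lib.Helper4.PullTensorDelta
open MonoidalCategory TensorProduct
open Groth.Agent.Lib.Helper5.TensorSheaf Groth.Agent.Lib.Helper4.RestrTensorA
  Groth.Agent.Lib.Helper4.BilFree Groth.Agent.Lib.Helper4.SetPullProd Groth.Agent.Lib.Helper5.TensorLocal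

variable {C D : Type u} [SmallCategory C] [SmallCategory D] {J : GrothendieckTopology C}
  {K : GrothendieckTopology D} {O_C : Sheaf J CommRingCat.{u}} {O_D : Sheaf K CommRingCat.{u}}
  (f : ModSite.RMor O_C O_D)

/-- presheaf-level direct image -/
noncomputable abbrev fp : PM O_C ⥤ PM O_D := PresheafOfModules.pushforward.{u} f.sharpR.hom

lemma push_fgt : f.push ⋙ fgt O_D = fgt O_C ⋙ fp f := rfl

open ModuleCat.MonoidalCategory in
/-- the lax monoidal structure of the direct image, presheaf level -/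
noncomputable def μp (P Q : PM O_C) : (fp f).obj P ⊗ (fp f).obj Q ⟶ (fp f).obj (P ⊗ Q) where
  app V := tensorLift (M₁ := ((fp f).obj P).obj V) (M₂ := ((fp f).obj Q).obj V)
      (M₃ := ((fp f).obj (P ⊗ Q)).obj V)
      (fun m n => (show (P ⊗ Q).obj (op (f.fn.obj V.unop)) from
        ((show P.obj (op (f.fn.obj V.unop)) from m) ⊗ₜ (show Q.obj (op (f.fn.obj V.unop)) from n))))
      (by intro m₁ m₂ n; exact TensorProduct.add_tmul _ _ _)
      (by
        intro a m n
        let r : (O_C.obj ⋙ forget₂ CommRingCat RingCat).obj (op (f.fn.obj V.unop)) :=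
          (f.sharpR.hom.app V).hom a
        show ((r • (show P.obj (op (f.fn.obj V.unop)) from m)) ⊗ₜ
            (show Q.obj (op (f.fn.obj V.unop)) from n) : (P ⊗ Q).obj (op (f.fn.obj V.unop))) =
          r • ((show P.obj (op (f.fn.obj V.unop)) from m) ⊗ₜ
            (show Q.obj (op (f.fn.obj V.unop)) from n) : (P ⊗ Q).obj (op (f.fn.obj V.unop)))
        exact (TensorProduct.smul_tmul' _ _ _).symm)
      (by intro m n₁ n₂; exact TensorProduct.tmul_add _ _ _)
      (by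
        intro a m n
        let r : (O_C.obj ⋙ forget₂ CommRingCat RingCat).obj (op (f.fn.obj V.unop)) :=
          (f.sharpR.hom.app V).hom a
        show ((show P.obj (op (f.fn.obj V.unop)) from m) ⊗ₜ
            (r • (show Q.obj (op (f.fn.obj V.unop)) from n)) :
              (P ⊗ Q).obj (op (f.fn.obj V.unop))) =
          r • ((show P.obj (op (f.fn.obj V.unop)) from m) ⊗ₜ
            (show Q.obj (op (f.fn.obj V.unop)) from n) : (P ⊗ Q).obj (op (f.fn.obj V.unop)))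
        exact (TensorProduct.tmul_smul _ _ _))
  naturality := by
    intro V V' g
    apply tensor_ext
    intro m n
    rfl

lemma μp_nat {P P' Q Q' : PM O_C} (a : P ⟶ P') (b : Q ⟶ Q') :
    ((fp f).map a ⊗ₘ (fp f).map b) ≫ μp f P' Q' = μp f P Q ≫ (fp f).map (a ⊗ₘ b) := by
  apply PresheafOfModules.hom_ext
  intro V
  apply ModuleCat.MonoidalCategory.tensor_ext
  intro m n
  rfl

/-- the tensor product of two sheaves of modules, presheaf level -/
noncomputable abbrev tp {O : Sheaf J CommRingCat.{u}} (M N : ModSite.Mod O) : PM O :=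
  (fgt O).obj M ⊗ (fgt O).obj N

lemma tensorBi_obj_obj {O : Sheaf J CommRingCat.{u}} (M N : ModSite.Mod O) :
    ((ModSite.tensorBi O).obj M).obj N = (shf O).obj (tp M N) := rfl

/-- presheaf-level comparison -/
noncomputable def δp (M N : ModSite.Mod O_D) :
    tp M N ⟶ (fgt O_D).obj (f.push.obj (((ModSite.tensorBi O_C).obj (f.pull.obj M)).obj (f.pull.obj N))) :=
  ((fgt O_D).map (f.adj.unit.app M) ⊗ₘ (fgt O_D).map (f.adj.unit.app N)) ≫
    μp f ((fgt O_C).obj (f.pull.obj M)) ((fgt O_C).obj (f.pull.obj N)) ≫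
    (fp f).map ((unit' O_C).app (tp (f.pull.obj M) (f.pull.obj N)))

/-- the comparison, transposed -/
noncomputable def δb (M N : ModSite.Mod O_D) :
    ((ModSite.tensorBi O_D).obj M).obj N ⟶
      f.push.obj (((ModSite.tensorBi O_C).obj (f.pull.obj M)).obj (f.pull.obj N)) :=
  adjunct (δp f M N)

/-- **the comparison** `f^*(M ⊗ N) ⟶ f^*M ⊗ f^*N` -/
noncomputable def δ (M N : ModSite.Mod O_D) :
    f.pull.obj (((ModSite.tensorBi O_D).obj M).obj N) ⟶
      ((ModSite.tensorBi O_C).obj (f.pull.obj M)).obj (f.pull.obj N) :=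
  (f.adj.homEquiv _ _).symm (δb f M N)

/-- the tensor product of two morphisms -/
noncomputable def tmap {O : Sheaf J CommRingCat.{u}} {M M' N N' : ModSite.Mod O} (a : M ⟶ M') (b : N ⟶ N') :
    ((ModSite.tensorBi O).obj M).obj N ⟶ ((ModSite.tensorBi O).obj M').obj N' :=
  (shf O).map ((fgt O).map a ⊗ₘ (fgt O).map b)

lemma tensorBi_map_app {O : Sheaf J CommRingCat.{u}} {M M' : ModSite.Mod O} (a : M ⟶ M') (N : ModSite.Mod O) :
    ((ModSite.tensorBi O).map a).app N = tmap a (𝟙 N) := by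
  unfold tmap
  rw [CategoryTheory.Functor.map_id, MonoidalCategory.tensorHom_id]
  rfl

lemma tensorBi_obj_map {O : Sheaf J CommRingCat.{u}} (M : ModSite.Mod O) {N N' : ModSite.Mod O} (b : N ⟶ N') :
    ((ModSite.tensorBi O).obj M).map b = tmap (𝟙 M) b := by
  unfold tmap
  rw [CategoryTheory.Functor.map_id, MonoidalCategory.id_tensorHom]
  rfl

lemma δp_nat {M M' N N' : ModSite.Mod O_D} (a : M ⟶ M') (b : N ⟶ N') :
    ((fgt O_D).map a ⊗ₘ (fgt O_D).map b) ≫ δp f M' N' =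
      δp f M N ≫ (fp f).map ((fgt O_C).map (tmap (f.pull.map a) (f.pull.map b))) := by
  unfold δp
  have e1 : ((fgt O_D).map a ⊗ₘ (fgt O_D).map b) ≫
      ((fgt O_D).map (f.adj.unit.app M') ⊗ₘ (fgt O_D).map (f.adj.unit.app N')) =
      ((fgt O_D).map (f.adj.unit.app M) ⊗ₘ (fgt O_D).map (f.adj.unit.app N)) ≫
        ((fp f).map ((fgt O_C).map (f.pull.map a)) ⊗ₘ (fp f).map ((fgt O_C).map (f.pull.map b))) := by
    rw [MonoidalCategory.tensorHom_comp_tensorHom, MonoidalCategory.tensorHom_comp_tensorHom]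
    congr 1
    · rw [← Functor.map_comp]
      have := f.adj.unit.naturality a
      dsimp only [Functor.id_map, Functor.comp_map] at this
      rw [this, Functor.map_comp]
      rfl
    · rw [← Functor.map_comp]
      have := f.adj.unit.naturality b
      dsimp only [Functor.id_map, Functor.comp_map] at this
      rw [this, Functor.map_comp]
      rfl
  have e2 := μp_nat f ((fgt O_C).map (f.pull.map a)) ((fgt O_C).map (f.pull.map b))
  have e3 : (fp f).map ((fgt O_C).map (f.pull.map a) ⊗ₘ (fgt O_C).map (f.pull.map b)) ≫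
      (fp f).map ((unit' O_C).app (tp (f.pull.obj M') (f.pull.obj N'))) =
      (fp f).map ((unit' O_C).app (tp (f.pull.obj M) (f.pull.obj N))) ≫
        (fp f).map ((fgt O_C).map (tmap (f.pull.map a) (f.pull.map b))) := by
    rw [← Functor.map_comp, ← Functor.map_comp]
    congr 1
    unfold tmap
    exact (un_nat (O := O_C) _).symm
  refine (Category.assoc _ _ _).symm.trans ?_
  refine (congrArg (fun k => k ≫ μp f ((fgt O_C).obj (f.pull.obj M')) ((fgt O_C).obj (f.pull.obj N')) ≫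
        (fp f).map ((unit' O_C).app (tp (f.pull.obj M') (f.pull.obj N')))) e1).trans ?_
  refine (Category.assoc _ _ _).trans ?_
  refine Eq.trans ?_ (Category.assoc _ _ _).symm
  refine congrArg (fun k => ((fgt O_D).map (f.adj.unit.app M) ⊗ₘ (fgt O_D).map (f.adj.unit.app N)) ≫ k) ?_
  refine (Category.assoc _ _ _).symm.trans ?_
  refine (congrArg (fun k => k ≫ (fp f).map ((unit' O_C).app (tp (f.pull.obj M') (f.pull.obj N')))) e2).trans ?_
  refine (Category.assoc _ _ _).trans ?_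
  refine Eq.trans ?_ (Category.assoc _ _ _).symm
  exact congrArg (fun k => μp f ((fgt O_C).obj (f.pull.obj M)) ((fgt O_C).obj (f.pull.obj N)) ≫ k) e3

lemma δb_nat {M M' N N' : ModSite.Mod O_D} (a : M ⟶ M') (b : N ⟶ N') :
    tmap a b ≫ δb f M' N' = δb f M N ≫ f.push.map (tmap (f.pull.map a) (f.pull.map b)) := by
  apply adjunct_ext
  unfold δb
  refine (un_map_comp _ _).trans ?_
  rw [un_adjunct]
  refine (δp_nat f a b).trans ?_
  refine Eq.trans ?_ (congrArg (fun k => (unit' O_D).app (tp M N) ≫ k)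
    ((fgt O_D).map_comp (adjunct (δp f M N)) (f.push.map (tmap (f.pull.map a) (f.pull.map b))))).symm
  refine Eq.trans ?_ (Category.assoc _ _ _)
  rw [un_adjunct]
  rfl

lemma δ_nat {M M' N N' : ModSite.Mod O_D} (a : M ⟶ M') (b : N ⟶ N') :
    f.pull.map (tmap a b) ≫ δ f M' N' = δ f M N ≫ tmap (f.pull.map a) (f.pull.map b) := by
  apply (f.adj.homEquiv _ _).injective
  rw [Adjunction.homEquiv_naturality_left, Adjunction.homEquiv_naturality_right]
  unfold δ
  rw [Equiv.apply_symm_apply, Equiv.apply_symm_apply]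
  exact δb_nat f a b

section OneSite
variable {O : Sheaf J CommRingCat.{u}}

/-- evaluation of a bilinear map at the restrictions of two sections -/
noncomputable def evP {P₁' P₂' Y : PM O} {U₁ U₂ : C} (e₁ : P₁'.obj (op U₁)) (e₂ : P₂'.obj (op U₂))
    (φ : P₁' ⊗ P₂' ⟶ Y) : P₂ U₁ U₂ ⟶ Y.presheaf ⋙ forget Ab where
  app T := ↾fun ab => (φ.app T).hom
    ((show P₁'.obj T from (P₁'.map ab.1.op).hom e₁) ⊗ₜ (show P₂'.obj T from (P₂'.map ab.2.op).hom e₂))
  naturality := by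
    intro T T' g
    ext ab
    have h1 := congrArg (fun k => k.hom
      ((show P₁'.obj T from (P₁'.map ab.1.op).hom e₁) ⊗ₜ (show P₂'.obj T from (P₂'.map ab.2.op).hom e₂)))
      (φ.naturality g)
    refine Eq.trans ?_ h1
    show (φ.app T').hom ((show P₁'.obj T' from (P₁'.map (g.unop ≫ ab.1).op).hom e₁) ⊗ₜ
        (show P₂'.obj T' from (P₂'.map (g.unop ≫ ab.2).op).hom e₂)) =
      (φ.app T').hom ((show P₁'.obj T' from (P₁'.map g).hom ((P₁'.map ab.1.op).hom e₁)) ⊗ₜ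
        (show P₂'.obj T' from (P₂'.map g).hom ((P₂'.map ab.2.op).hom e₂)))
    congr 2
    · rw [op_comp, PresheafOfModules.map_comp]; rfl
    · rw [op_comp, PresheafOfModules.map_comp]; rfl

lemma evP_comp {P₁' P₂' Y Y' : PM O} {U₁ U₂ : C} (e₁ : P₁'.obj (op U₁)) (e₂ : P₂'.obj (op U₂))
    (φ : P₁' ⊗ P₂' ⟶ Y) (ψ : Y ⟶ Y') (T : Cᵒᵖ) (ab : (P₂ U₁ U₂).obj T) :
    (evP e₁ e₂ (φ ≫ ψ)).app T ab = (ψ.app T).hom ((evP e₁ e₂ φ).app T ab) := rfl

lemma evP_tensorHom {P₁' P₂' Q₁ Q₂ Y : PM O} {U₁ U₂ : C} (e₁ : P₁'.obj (op U₁)) (e₂ : P₂'.obj (op U₂))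
    (a₁ : P₁' ⟶ Q₁) (a₂ : P₂' ⟶ Q₂) (φ : Q₁ ⊗ Q₂ ⟶ Y) :
    evP e₁ e₂ ((a₁ ⊗ₘ a₂) ≫ φ) = evP ((a₁.app (op U₁)).hom e₁) ((a₂.app (op U₂)).hom e₂) φ := by
  ext T ab
  show (φ.app T).hom (((a₁.app T).hom ((P₁'.map ab.1.op).hom e₁)) ⊗ₜ ((a₂.app T).hom ((P₂'.map ab.2.op).hom e₂))) =
    (φ.app T).hom ((show Q₁.obj T from (Q₁.map ab.1.op).hom ((a₁.app (op U₁)).hom e₁)) ⊗ₜ
      (show Q₂.obj T from (Q₂.map ab.2.op).hom ((a₂.app (op U₂)).hom e₂)))
  congr 2
  · exact (PresheafOfModules.naturality_apply a₁ ab.1.op e₁)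
  · exact (PresheafOfModules.naturality_apply a₂ ab.2.op e₂)

/-- evaluation at a pair of sections, sheaf level -/
noncomputable def evE {M₁ M₂ X : ModSite.Mod O} {U₁ U₂ : C} (e₁ : ((fgt O).obj M₁).obj (op U₁))
    (e₂ : ((fgt O).obj M₂).obj (op U₂)) (g : ((ModSite.tensorBi O).obj M₁).obj M₂ ⟶ X) :
    P₂ U₁ U₂ ⟶ ((fgt O).obj X).presheaf ⋙ forget Ab :=
  evP e₁ e₂ ((unit' O).app (tp M₁ M₂) ≫ (fgt O).map g)

/-- the free presheaf of modules on a representable -/
noncomputable abbrev FrY (U : C) : PM O := Fr (R₀ := O.obj) (yoneda.obj U)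

/-- the generator -/
noncomputable abbrev Gen (U : C) : ModSite.Mod O := (shf O).obj (FrY U)

/-- the universal element, presheaf level -/
noncomputable abbrev ε₀ (U : C) : (FrY (O := O) U).obj (op U) := ModuleCat.freeMk (𝟙 U)

/-- the universal section -/
noncomputable def εG (U : C) : ((fgt O).obj (Gen (O := O) U)).obj (op U) :=
  (((unit' O).app (FrY U)).app (op U)).hom (ε₀ U)

lemma evP_ε₀ {Y : PM O} {U₁ U₂ : C} (φ : FrY (O := O) U₁ ⊗ FrY U₂ ⟶ Y) :
    evP (ε₀ U₁) (ε₀ U₂) φ = bilEv φ := by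
  ext T ab
  show (φ.app T).hom ((show (FrY (O := O) U₁).obj T from ((FrY U₁).map ab.1.op).hom (ε₀ U₁)) ⊗ₜ
      (show (FrY (O := O) U₂).obj T from ((FrY U₂).map ab.2.op).hom (ε₀ U₂))) =
    (φ.app T).hom ((ModuleCat.freeMk ab.1 : (FrY (O := O) U₁).obj T) ⊗ₜ
      (ModuleCat.freeMk ab.2 : (FrY (O := O) U₂).obj T))
  unfold ε₀
  rw [Fr_map_freeMk, Fr_map_freeMk]
  have h1 : (yoneda.obj U₁).map ab.1.op (𝟙 U₁) = ab.1 := Category.comp_id _
  have h2 : (yoneda.obj U₂).map ab.2.op (𝟙 U₂) = ab.2 := Category.comp_id _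
  rw [h1, h2]

/-- `unit' ⊗ unit'` -/
noncomputable def ww (U₁ U₂ : C) : FrY (O := O) U₁ ⊗ FrY U₂ ⟶ tp (Gen (O := O) U₁) (Gen U₂) :=
  (unit' O).app (FrY U₁) ⊗ₘ (unit' O).app (FrY U₂)

instance isIso_shf_ww (U₁ U₂ : C) : IsIso ((shf O).map (ww (O := O) U₁ U₂)) :=
  isIso_shf_map_of_W _ (W_tensorHom J _ ((unit' O).app (FrY U₁)) ((unit' O).app (FrY U₂)) (W_unit' _) (W_unit' _))

lemma evE_εG {X : ModSite.Mod O} (U₁ U₂ : C)
    (g : ((ModSite.tensorBi O).obj (Gen (O := O) U₁)).obj (Gen U₂) ⟶ X) :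
    evE (εG U₁) (εG U₂) g =
      bilEv (((adj O).homEquiv _ X) ((shf O).map (ww U₁ U₂) ≫ g)) := by
  unfold evE εG
  rw [← evP_tensorHom, evP_ε₀]
  congr 1
  exact (un_map_comp _ _).symm

/-- **Claim 1''** -/
theorem bijective_evE_εG (X : ModSite.Mod O) (U₁ U₂ : C) :
    Function.Bijective (fun g : ((ModSite.tensorBi O).obj (Gen (O := O) U₁)).obj (Gen U₂) ⟶ X =>
      evE (εG U₁) (εG U₂) g) := by
  have h : (fun g : ((ModSite.tensorBi O).obj (Gen (O := O) U₁)).obj (Gen U₂) ⟶ X =>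
      evE (εG U₁) (εG U₂) g) =
      (bilEv (R₀ := O.obj)) ∘ ((adj O).homEquiv _ X) ∘ (fun g => (shf O).map (ww U₁ U₂) ≫ g) := by
    funext g
    exact evE_εG U₁ U₂ g
  rw [h]
  refine bilEv_bijective.comp (((adj O).homEquiv _ X).bijective.comp ?_)
  have hiso := isIso_shf_ww (O := O) U₁ U₂
  rw [isIso_iff_coyoneda_map_bijective] at hiso
  exact hiso X

/-- evaluation of a morphism at a section -/
noncomputable def evS {M X : ModSite.Mod O} {U : C} (e : ((fgt O).obj M).obj (op U)) (g : M ⟶ X) :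
    ((fgt O).obj X).obj (op U) :=
  (((fgt O).map g).app (op U)).hom e

/-- a section freely generating a module -/
def IsUniv (M : ModSite.Mod O) (U : C) (e : ((fgt O).obj M).obj (op U)) : Prop :=
  ∀ X : ModSite.Mod O, Function.Bijective (fun g : M ⟶ X => evS e g)

lemma isUniv_Gen (U : C) : IsUniv (Gen (O := O) U) U (εG U) := by
  intro X
  have h : (fun g : Gen (O := O) U ⟶ X => evS (εG U) g) =
      PresheafOfModules.freeYonedaEquiv ∘ ((adj O).homEquiv (FrY U) X) := by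
    funext g
    rfl
  rw [h]
  exact PresheafOfModules.freeYonedaEquiv.bijective.comp ((adj O).homEquiv (FrY U) X).bijective

/-- the comparison map between two freely generated modules -/
noncomputable def univMap {M M' : ModSite.Mod O} {U : C} {e : ((fgt O).obj M).obj (op U)}
    (h : IsUniv M U e) (e' : ((fgt O).obj M').obj (op U)) : M ⟶ M' :=
  ((h M').2 e').choose

lemma evS_univMap {M M' : ModSite.Mod O} {U : C} {e : ((fgt O).obj M).obj (op U)}
    (h : IsUniv M U e) (e' : ((fgt O).obj M').obj (op U)) : evS e (univMap h e') = e' :=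
  ((h M').2 e').choose_spec

lemma evS_comp {M M' X : ModSite.Mod O} {U : C} (e : ((fgt O).obj M).obj (op U)) (a : M ⟶ M') (g : M' ⟶ X) :
    evS e (a ≫ g) = evS (evS e a) g := rfl

lemma isIso_univMap {M M' : ModSite.Mod O} {U : C} {e : ((fgt O).obj M).obj (op U)}
    (h : IsUniv M U e) {e' : ((fgt O).obj M').obj (op U)} (h' : IsUniv M' U e') :
    IsIso (univMap h e') := by
  refine ⟨univMap h' e, ?_, ?_⟩
  · apply (h M).1
    show evS e (univMap h e' ≫ univMap h' e) = evS e (𝟙 M)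
    rw [evS_comp, evS_univMap, evS_univMap]
    rfl
  · apply (h' M').1
    show evS e' (univMap h' e ≫ univMap h e') = evS e' (𝟙 M')
    rw [evS_comp, evS_univMap, evS_univMap]
    rfl

lemma evE_tmap {M₁ M₂ M₁' M₂' X : ModSite.Mod O} {U₁ U₂ : C} (e₁ : ((fgt O).obj M₁).obj (op U₁))
    (e₂ : ((fgt O).obj M₂).obj (op U₂)) (a₁ : M₁ ⟶ M₁') (a₂ : M₂ ⟶ M₂')
    (g : ((ModSite.tensorBi O).obj M₁').obj M₂' ⟶ X) :
    evE e₁ e₂ (tmap a₁ a₂ ≫ g) = evE (evS e₁ a₁) (evS e₂ a₂) g := by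
  unfold evE tmap
  have h := evP_tensorHom e₁ e₂ ((fgt O).map a₁) ((fgt O).map a₂)
    ((unit' O).app (tp M₁' M₂') ≫ (fgt O).map g)
  refine Eq.trans ?_ h
  congr 1
  exact un_map_comp _ _

/-- **Claim 1'** -/
theorem bijective_evE {M₁ M₂ : ModSite.Mod O} {U₁ U₂ : C} {e₁ : ((fgt O).obj M₁).obj (op U₁)}
    {e₂ : ((fgt O).obj M₂).obj (op U₂)} (h₁ : IsUniv M₁ U₁ e₁) (h₂ : IsUniv M₂ U₂ e₂)
    (X : ModSite.Mod O) :
    Function.Bijective (fun g : ((ModSite.tensorBi O).obj M₁).obj M₂ ⟶ X => evE e₁ e₂ g) := by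
  let a₁ := univMap (isUniv_Gen (O := O) U₁) e₁
  let a₂ := univMap (isUniv_Gen (O := O) U₂) e₂
  haveI : IsIso a₁ := isIso_univMap _ h₁
  haveI : IsIso a₂ := isIso_univMap _ h₂
  haveI : IsIso (tmap a₁ a₂) := by
    unfold tmap
    haveI i1 : IsIso ((fgt O).map a₁) := Functor.map_isIso _ _
    haveI i2 : IsIso ((fgt O).map a₂) := Functor.map_isIso _ _
    haveI i3 : IsIso ((fgt O).map a₁ ⊗ₘ (fgt O).map a₂) := inferInstance
    exact Functor.map_isIso _ _
  have h : (fun g : ((ModSite.tensorBi O).obj M₁).obj M₂ ⟶ X => evE e₁ e₂ g) =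
      (fun g' => evE (εG U₁) (εG U₂) g') ∘ (fun g => tmap a₁ a₂ ≫ g) := by
    funext g
    dsimp only [Function.comp]
    rw [evE_tmap, evS_univMap, evS_univMap]
  rw [h]
  refine (bijective_evE_εG X U₁ U₂).comp ?_
  have hiso : IsIso (tmap a₁ a₂) := inferInstance
  rw [isIso_iff_coyoneda_map_bijective] at hiso
  exact hiso X

end OneSite
section TwoSites

/-- the unit applied to a section -/
noncomputable def ηS {M : ModSite.Mod O_D} {V : D} (e : ((fgt O_D).obj M).obj (op V)) :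
    ((fgt O_C).obj (f.pull.obj M)).obj (op (f.fn.obj V)) :=
  (((fgt O_D).map (f.adj.unit.app M)).app (op V)).hom e

lemma isUniv_pull {M : ModSite.Mod O_D} {V : D} {e : ((fgt O_D).obj M).obj (op V)}
    (h : IsUniv M V e) : IsUniv (f.pull.obj M) (f.fn.obj V) (ηS f e) := by
  intro X
  have hb := (h (f.push.obj X)).comp (f.adj.homEquiv M X).bijective
  refine ⟨fun g g' hg => hb.1 ?_, fun x => ?_⟩
  · show evS e (f.adj.homEquiv M X g) = evS e (f.adj.homEquiv M X g')
    rw [Adjunction.homEquiv_unit, Adjunction.homEquiv_unit]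
    exact hg
  · obtain ⟨g, hg⟩ := hb.2 x
    refine ⟨g, ?_⟩
    have : evS e (f.adj.homEquiv M X g) = x := hg
    rw [Adjunction.homEquiv_unit] at this
    exact this

lemma ηS_map {M : ModSite.Mod O_D} {V T : D} (a : T ⟶ V) (e : ((fgt O_D).obj M).obj (op V)) :
    ηS f (show ((fgt O_D).obj M).obj (op T) from (((fgt O_D).obj M).map a.op).hom e) =
      (show ((fgt O_C).obj (f.pull.obj M)).obj (op (f.fn.obj T)) from
        (((fgt O_C).obj (f.pull.obj M)).map (f.fn.map a).op).hom (ηS f e)) :=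
  PresheafOfModules.naturality_apply ((fgt O_D).map (f.adj.unit.app M)) a.op e

/-- **Claim 3'** -/
theorem evE_δ {M₁ M₂ : ModSite.Mod O_D} {V₁ V₂ : D} (e₁ : ((fgt O_D).obj M₁).obj (op V₁))
    (e₂ : ((fgt O_D).obj M₂).obj (op V₂)) (X : ModSite.Mod O_C)
    (g : ((ModSite.tensorBi O_C).obj (f.pull.obj M₁)).obj (f.pull.obj M₂) ⟶ X) :
    (evE e₁ e₂ (f.adj.homEquiv _ _ (δ f M₁ M₂ ≫ g)) :
      P₁ V₁ V₂ ⟶ f.fn.op ⋙ (((fgt O_C).obj X).presheaf ⋙ forget Ab)) =
    κ f.fn V₁ V₂ ≫ Functor.whiskerLeft f.fn.op (evE (ηS f e₁) (ηS f e₂) g) := by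
  have h1 : f.adj.homEquiv _ _ (δ f M₁ M₂ ≫ g) = δb f M₁ M₂ ≫ f.push.map g := by
    rw [Adjunction.homEquiv_naturality_right]
    unfold δ
    rw [Equiv.apply_symm_apply]
  have h2 : (unit' O_D).app (tp M₁ M₂) ≫ (fgt O_D).map (δb f M₁ M₂ ≫ f.push.map g) =
      δp f M₁ M₂ ≫ (fp f).map ((fgt O_C).map g) := by
    refine (congrArg (fun k => (unit' O_D).app (tp M₁ M₂) ≫ k)
      ((fgt O_D).map_comp (δb f M₁ M₂) (f.push.map g))).trans ?_
    refine (Category.assoc _ _ _).symm.trans ?_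
    unfold δb
    refine (congrArg (fun k => k ≫ (fgt O_D).map (f.push.map g)) (un_adjunct (δp f M₁ M₂))).trans ?_
    rfl
  rw [h1]
  unfold evE
  refine (congrArg (fun k => evP e₁ e₂ k) h2).trans ?_
  ext T ab
  show (((fgt O_C).map g).app (op (f.fn.obj T.unop))).hom
      ((((unit' O_C).app (tp (f.pull.obj M₁) (f.pull.obj M₂))).app (op (f.fn.obj T.unop))).hom
        ((ηS f (show ((fgt O_D).obj M₁).obj T from (((fgt O_D).obj M₁).map ab.1.op).hom e₁)) ⊗ₜ
          (ηS f (show ((fgt O_D).obj M₂).obj T from (((fgt O_D).obj M₂).map ab.2.op).hom e₂)))) =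
    (((fgt O_C).map g).app (op (f.fn.obj T.unop))).hom
      ((((unit' O_C).app (tp (f.pull.obj M₁) (f.pull.obj M₂))).app (op (f.fn.obj T.unop))).hom
        ((show ((fgt O_C).obj (f.pull.obj M₁)).obj (op (f.fn.obj T.unop)) from
            (((fgt O_C).obj (f.pull.obj M₁)).map (f.fn.map ab.1).op).hom (ηS f e₁)) ⊗ₜ
          (show ((fgt O_C).obj (f.pull.obj M₂)).obj (op (f.fn.obj T.unop)) from
            (((fgt O_C).obj (f.pull.obj M₂)).map (f.fn.map ab.2).op).hom (ηS f e₂))))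
  rw [ηS_map, ηS_map]

/-- the comparison is an isomorphism on generators -/
theorem isIso_δ_Gen (V₁ V₂ : D) : IsIso (δ f (Gen (O := O_D) V₁) (Gen V₂)) := by
  rw [isIso_iff_coyoneda_map_bijective]
  intro X
  have hA : Function.Bijective
      (fun k : f.pull.obj (((ModSite.tensorBi O_D).obj (Gen (O := O_D) V₁)).obj (Gen V₂)) ⟶ X =>
        (evE (εG V₁) (εG V₂) (f.adj.homEquiv _ _ k) :
          P₁ V₁ V₂ ⟶ f.fn.op ⋙ (((fgt O_C).obj X).presheaf ⋙ forget Ab))) :=
    (bijective_evE_εG (f.push.obj X) V₁ V₂).comp (f.adj.homEquiv _ X).bijective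
  have hB : Function.Bijective
      (fun g : ((ModSite.tensorBi O_C).obj (f.pull.obj (Gen (O := O_D) V₁))).obj (f.pull.obj (Gen V₂)) ⟶ X =>
        evE (ηS f (εG V₁)) (ηS f (εG V₂)) g) :=
    bijective_evE (isUniv_pull f (isUniv_Gen V₁)) (isUniv_pull f (isUniv_Gen V₂)) X
  have hρ := bijective_ρ (K := K) f.fn V₁ V₂ (Groth.Agent.Lib.Helper4.PullUnit.tySh X)
  have hcomp : (fun k : f.pull.obj (((ModSite.tensorBi O_D).obj (Gen (O := O_D) V₁)).obj (Gen V₂)) ⟶ X =>
        (evE (εG V₁) (εG V₂) (f.adj.homEquiv _ _ k) :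
          P₁ V₁ V₂ ⟶ f.fn.op ⋙ (((fgt O_C).obj X).presheaf ⋙ forget Ab))) ∘
      (fun g => δ f (Gen (O := O_D) V₁) (Gen V₂) ≫ g) =
      (fun θ : P₂ (f.fn.obj V₁) (f.fn.obj V₂) ⟶ (Groth.Agent.Lib.Helper4.PullUnit.tySh X).obj =>
        (κ f.fn V₁ V₂ ≫ Functor.whiskerLeft f.fn.op θ :
          P₁ V₁ V₂ ⟶ f.fn.op ⋙ (Groth.Agent.Lib.Helper4.PullUnit.tySh X).obj)) ∘
      (fun g : ((ModSite.tensorBi O_C).obj (f.pull.obj (Gen (O := O_D) V₁))).obj (f.pull.obj (Gen V₂)) ⟶ X =>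
        evE (ηS f (εG V₁)) (ηS f (εG V₂)) g) := by
    funext g
    exact evE_δ f (εG V₁) (εG V₂) X g
  have h3 := hρ.comp hB
  rw [← hcomp] at h3
  exact (Function.Bijective.of_comp_iff' hA _).mp h3

end TwoSites
end Groth.Agent.Lib.Helper4.PullTensorDelta
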