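import Mathlib
import Groth.Prelude.Def_ModSite2
import Groth.Agent.Lib.Helper4.PullTensorDelta

/-!
# f^*(M ⊗ N) ≅ f^*M ⊗ f^*N for a morphism of ringed sites (helper4) (helper4)
-/

set_option backward.isDefEq.respectTransparency.types false
set_option synthInstance.maxHeartbeats 400000
set_option autoImplicit false
set_option linter.unusedSectionVars false
set_option linter.style.haveILetI false
set_option linter.unusedSimpArgs false
universe u v w
open CategoryTheory CategoryTheory.Limits Opposite

namespace Groth.Agent.Lib.Helper4.PullTensorIso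
open MonoidalCategory TensorProduct
open Groth.Agent.Lib.Helper5.TensorSheaf Groth.Agent.Lib.Helper4.RestrTensorA
  Groth.Agent.Lib.Helper4.BilFree Groth.Agent.Lib.Helper4.SetPullProd Groth.Agent.Lib.Helper5.TensorLocal
  Groth.Agent.Lib.Helper4.PullTensorDelta

section Generic
variable {𝒜 ℬ : Type*} [Category 𝒜] [Category ℬ] {F₁ F₂ : 𝒜 ⥤ ℬ} (τ : F₁ ⟶ F₂)

/-- a natural transformation between functors preserving a colimit is an isomorphism at the colimit
if it is at all the objects of the diagram -/
lemma isIso_app_of_isColimit {K : Type*} [Category K] {X : K ⥤ 𝒜} (c : Cocone X) (hc : IsColimit c)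
    [PreservesColimit X F₁] [PreservesColimit X F₂] (h : ∀ k, IsIso (τ.app (X.obj k))) :
    IsIso (τ.app c.pt) := by
  let t₁ := isColimitOfPreserves F₁ hc
  let t₂ := isColimitOfPreserves F₂ hc
  let e : X ⋙ F₁ ≅ X ⋙ F₂ :=
    NatIso.ofComponents (fun k => @asIso _ _ _ _ (τ.app (X.obj k)) (h k))
      (fun g => by simp)
  have key : τ.app c.pt = (IsColimit.coconePointsIsoOfNatIso t₁ t₂ e).hom := by
    apply t₁.hom_ext
    intro k
    rw [IsColimit.comp_coconePointsIsoOfNatIso_hom]
    simp [e]
  rw [key]
  infer_instance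

end Generic
section Gen
variable {C : Type u} [SmallCategory C] {J : GrothendieckTopology C} {O : Sheaf J CommRingCat.{u}}
  {ℬ : Type (u+1)} [Category.{u} ℬ] {F₁ F₂ : ModSite.Mod O ⥤ ℬ} (τ : F₁ ⟶ F₂)
  [PreservesColimitsOfSize.{u, u} F₁] [PreservesColimitsOfSize.{u, u} F₂]

lemma isIso_app_shf_coprod (h : ∀ V : C, IsIso (τ.app (Gen (O := O) V))) (P : PM O) :
    IsIso (τ.app ((shf O).obj P.freeYonedaCoproduct)) := by
  let X : Discrete P.Elements ⥤ PM O := Discrete.functor (PresheafOfModules.Elements.freeYoneda (M := P))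
  haveI : PreservesColimitsOfSize.{u, u} (shf O) := (adj O).leftAdjoint_preservesColimits
  have hc : IsColimit ((shf O).mapCocone (colimit.cocone X)) :=
    isColimitOfPreserves (shf O) (colimit.isColimit X)
  exact isIso_app_of_isColimit τ _ hc (fun k => h k.as.1.unop)

theorem isIso_app_of_gen (h : ∀ V : C, IsIso (τ.app (Gen (O := O) V))) (M : ModSite.Mod O) :
    IsIso (τ.app M) := by
  let P : PM O := (fgt O).obj M
  haveI : PreservesFiniteColimits F₁ := PreservesColimitsOfSize.preservesFiniteColimits F₁
  haveI : PreservesFiniteColimits F₂ := PreservesColimitsOfSize.preservesFiniteColimits F₂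
  haveI : PreservesColimitsOfSize.{0, 0} (shf O) := (adj O).leftAdjoint_preservesColimits
  have hc : IsColimit ((shf O).mapCocone P.freeYonedaCoproductsCokernelCofork) :=
    isColimitOfPreserves (shf O) P.isColimitFreeYonedaCoproductsCokernelCofork
  have h1 : IsIso (τ.app ((shf O).obj P)) := by
    refine isIso_app_of_isColimit τ _ hc (fun k => ?_)
    cases k
    · exact isIso_app_shf_coprod τ h _
    · exact isIso_app_shf_coprod τ h _
  have hnat := τ.naturality ((adj O).counit.app M)
  haveI : IsIso ((adj O).counit.app M) := isIso_counit_app M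
  have h2 : τ.app M = inv (F₁.map ((adj O).counit.app M)) ≫ τ.app ((shf O).obj P) ≫
      F₂.map ((adj O).counit.app M) := by
    rw [IsIso.eq_inv_comp]
    exact hnat
  rw [h2]
  haveI := h1
  haveI i2 : IsIso (F₂.map ((adj O).counit.app M)) := inferInstance
  haveI i1 : IsIso (F₁.map ((adj O).counit.app M)) := inferInstance
  haveI i3 : IsIso (τ.app ((shf O).obj P) ≫ F₂.map ((adj O).counit.app M)) :=
    @IsIso.comp_isIso _ _ _ _ _ _ _ h1 i2
  exact @IsIso.comp_isIso _ _ _ _ _ _ _ inferInstance i3

end Gen
section Main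
variable {C D : Type u} [SmallCategory C] [SmallCategory D] {J : GrothendieckTopology C}
  {K : GrothendieckTopology D} {O_C : Sheaf J CommRingCat.{u}} {O_D : Sheaf K CommRingCat.{u}}
  (f : ModSite.RMor O_C O_D)

/-- `δ` as a natural transformation in the first variable -/
noncomputable def τN (N : ModSite.Mod O_D) :
    (ModSite.tensorBi O_D).flip.obj N ⋙ f.pull ⟶
      f.pull ⋙ (ModSite.tensorBi O_C).flip.obj (f.pull.obj N) where
  app M := δ f M N
  naturality := by
    intro M M' a
    have := δ_nat f a (𝟙 N)
    rw [CategoryTheory.Functor.map_id] at this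
    dsimp only [Functor.comp_obj, Functor.comp_map, Functor.flip_obj_obj, Functor.flip_obj_map]
    rw [tensorBi_map_app, tensorBi_map_app]
    exact this

/-- `δ` as a natural transformation in the second variable -/
noncomputable def σM (M : ModSite.Mod O_D) :
    (ModSite.tensorBi O_D).obj M ⋙ f.pull ⟶
      f.pull ⋙ (ModSite.tensorBi O_C).obj (f.pull.obj M) where
  app N := δ f M N
  naturality := by
    intro N N' b
    have := δ_nat f (𝟙 M) b
    rw [CategoryTheory.Functor.map_id] at this
    dsimp only [Functor.comp_obj, Functor.comp_map]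
    rw [tensorBi_obj_map, tensorBi_obj_map]
    exact this

instance : PreservesColimitsOfSize.{u, u} f.pull := f.adj.leftAdjoint_preservesColimits

theorem isIso_δ_right_Gen (M : ModSite.Mod O_D) (W : D) : IsIso (δ f M (Gen (O := O_D) W)) := by
  have := isIso_app_of_gen (τN f (Gen (O := O_D) W)) (fun V => isIso_δ_Gen f V W) M
  exact this

theorem isIso_δ (M N : ModSite.Mod O_D) : IsIso (δ f M N) := by
  have := isIso_app_of_gen (σM f M) (fun W => isIso_δ_right_Gen f M W) N
  exact this

theorem main (M N : ModSite.Mod O_D) :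
    Nonempty (((ModSite.tensorBi O_C).obj (f.pull.obj M)).obj (f.pull.obj N) ≅
      f.pull.obj (((ModSite.tensorBi O_D).obj M).obj N)) :=
  haveI := isIso_δ f M N
  ⟨(asIso (δ f M N)).symm⟩

end Main
end Groth.Agent.Lib.Helper4.PullTensorIso
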