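import Mathlib
import Groth.Prelude.Def_ClSub2
import Groth.Agent.Lib.Helper1.IdealModL
import Groth.Agent.Lib.Helper1.AffPushEpi
import Groth.Agent.Lib.Helper3.SepFam1
import Groth.Agent.Lib.Lead.BCU4

/-!
# Mayer–Vietoris style short exact sequence for two ideal sheaves with zero intersection (helper4)
-/

set_option backward.isDefEq.respectTransparency.types false
set_option synthInstance.maxHeartbeats 400000
set_option autoImplicit false
set_option linter.unusedSectionVars false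
set_option linter.style.haveILetI false
set_option linter.unusedSimpArgs false
universe u v w
open CategoryTheory CategoryTheory.Limits AlgebraicGeometry TopologicalSpace Topology

namespace Groth.Agent.Lib.Helper4.ClSubMV

open Opposite Groth.Agent.Helper1 Groth.Agent.Helper1.IdealModL Groth.Agent.Helper3

variable {X : Scheme.{u}}

theorem epi_toSubscheme (I : X.IdealSheafData) : Epi (ClSub.toSubscheme I) := by
  apply AffPushEpi.epi_of_surjective_on_affine
  intro U hU
  exact I.subschemeι_app_surjective ⟨U, hU⟩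

theorem toSubscheme_app_eq_zero_iff (I : X.IdealSheafData) (U : X.Opens) (hU : IsAffineOpen U)
    (r : Γ(X, U)) : (ClSub.toSubscheme I).app U r = 0 ↔ r ∈ I.ideal ⟨U, hU⟩ := by
  rw [← I.ker_subschemeι_app ⟨U, hU⟩, RingHom.mem_ker]
  rfl

theorem biprod_sections_ext {A B : X.Modules} (U : X.Opens) (x y : Γ(A ⊞ B, U))
    (h1 : (biprod.fst : A ⊞ B ⟶ A).app U x = (biprod.fst : A ⊞ B ⟶ A).app U y)
    (h2 : (biprod.snd : A ⊞ B ⟶ B).app U x = (biprod.snd : A ⊞ B ⟶ B).app U y) : x = y := by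
  have e : ∀ z : Γ(A ⊞ B, U), z = (biprod.inl : A ⟶ A ⊞ B).app U ((biprod.fst : A ⊞ B ⟶ A).app U z) +
      (biprod.inr : B ⟶ A ⊞ B).app U ((biprod.snd : A ⊞ B ⟶ B).app U z) := by
    intro z
    have := congrArg (fun φ => Scheme.Modules.Hom.app φ U z) (biprod.total (X := A) (Y := B))
    exact this.symm
  rw [e x, e y, h1, h2]

section Main

open Opposite Groth.Agent.Helper1 Groth.Agent.Helper1.IdealModL Groth.Agent.Helper3

variable {X : Scheme.{u}}

theorem main (I₁ I₂ : X.IdealSheafData) (h : I₁ ⊓ I₂ = ⊥)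
    (q₁ : ClSub.quotMod I₁ ⟶ ClSub.quotMod (I₁ ⊔ I₂)) (q₂ : ClSub.quotMod I₂ ⟶ ClSub.quotMod (I₁ ⊔ I₂))
    (hq₁ : ClSub.toSubscheme I₁ ≫ q₁ = ClSub.toSubscheme (I₁ ⊔ I₂))
    (hq₂ : ClSub.toSubscheme I₂ ≫ q₂ = ClSub.toSubscheme (I₁ ⊔ I₂)) :
    Epi (biprod.desc q₁ (-q₂)) ∧
      ∃ w : biprod.lift (ClSub.toSubscheme I₁) (ClSub.toSubscheme I₂) ≫ biprod.desc q₁ (-q₂) = 0,
        Nonempty (IsLimit (KernelFork.ofι (biprod.lift (ClSub.toSubscheme I₁) (ClSub.toSubscheme I₂)) w)) := by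
  haveI := epi_toSubscheme (I₁ ⊔ I₂)
  have hq₁e : Epi q₁ := by
    have : Epi (ClSub.toSubscheme I₁ ≫ q₁) := by rw [hq₁]; infer_instance
    exact epi_of_epi (ClSub.toSubscheme I₁) q₁
  refine ⟨?_, ?_⟩
  · have e : biprod.inl ≫ biprod.desc q₁ (-q₂) = q₁ := biprod.inl_desc _ _
    have : Epi (biprod.inl ≫ biprod.desc q₁ (-q₂)) := by rw [e]; exact hq₁e
    exact epi_of_epi biprod.inl _
  · have w : biprod.lift (ClSub.toSubscheme I₁) (ClSub.toSubscheme I₂) ≫ biprod.desc q₁ (-q₂) = 0 := by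
      rw [biprod.lift_desc, Preadditive.comp_neg, hq₁, hq₂, add_neg_cancel]
    refine ⟨w, ?_⟩
    obtain ⟨d, hd⟩ : ∃ d, d = biprod.desc q₁ (-q₂) := ⟨_, rfl⟩
    obtain ⟨ℓ, hℓ⟩ : ∃ ℓ, ℓ = biprod.lift (ClSub.toSubscheme I₁) (ClSub.toSubscheme I₂) := ⟨_, rfl⟩
    have w' : ℓ ≫ d = 0 := by rw [hℓ, hd]; exact w
    -- the comparison to the kernel
    obtain ⟨k, hk⟩ : ∃ k : Coh.structureModule X ⟶ kernel d, k ≫ kernel.ι d = ℓ :=
      ⟨kernel.lift d ℓ w', kernel.lift_ι _ _ _⟩
    have hfst : ℓ ≫ biprod.fst = ClSub.toSubscheme I₁ := by rw [hℓ]; exact biprod.lift_fst _ _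
    have hsnd : ℓ ≫ biprod.snd = ClSub.toSubscheme I₂ := by rw [hℓ]; exact biprod.lift_snd _ _
    have hiso : IsIso k := by
      apply Groth.Agent.Lead.BCU.isIso_of_bijective_nhds
      intro U₀ x hx
      obtain ⟨_, ⟨U, hU, rfl⟩, hxU, hUU₀⟩ :=
        X.isBasis_affineOpens.exists_subset_of_mem_open hx U₀.isOpen
      refine ⟨U, hUU₀, hxU, ?_⟩
      have hkι : ∀ r : Γ(Coh.structureModule X, U), (kernel.ι d).app U (k.app U r) = ℓ.app U r :=
        fun r => congrArg (fun φ => Scheme.Modules.Hom.app φ U r) hk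
      have hℓ1 : ∀ r : Γ(Coh.structureModule X, U),
          (biprod.fst : ClSub.quotMod I₁ ⊞ ClSub.quotMod I₂ ⟶ _).app U (ℓ.app U r) =
            (ClSub.toSubscheme I₁).app U r :=
        fun r => congrArg (fun φ => Scheme.Modules.Hom.app φ U r) hfst
      have hℓ2 : ∀ r : Γ(Coh.structureModule X, U),
          (biprod.snd : ClSub.quotMod I₁ ⊞ ClSub.quotMod I₂ ⟶ _).app U (ℓ.app U r) =
            (ClSub.toSubscheme I₂).app U r :=
        fun r => congrArg (fun φ => Scheme.Modules.Hom.app φ U r) hsnd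
      constructor
      · rw [injective_iff_map_eq_zero]
        intro r hr
        have h0 : ℓ.app U r = 0 := by rw [← hkι, hr, map_zero]
        have h1 : (ClSub.toSubscheme I₁).app U r = 0 := by rw [← hℓ1, h0, map_zero]
        have h2 : (ClSub.toSubscheme I₂).app U r = 0 := by rw [← hℓ2, h0, map_zero]
        rw [toSubscheme_app_eq_zero_iff I₁ U hU] at h1
        rw [toSubscheme_app_eq_zero_iff I₂ U hU] at h2
        have h3 : r ∈ (I₁ ⊓ I₂).ideal ⟨U, hU⟩ := ⟨h1, h2⟩
        rw [h] at h3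
        exact h3
      · intro y
        obtain ⟨xx, hxx⟩ : ∃ xx, xx = (kernel.ι d).app U y := ⟨_, rfl⟩
        have hdx : d.app U xx = 0 := by
          rw [hxx]
          exact congrArg (fun φ => Scheme.Modules.Hom.app φ U y) (kernel.condition d)
        obtain ⟨r₁, hr₁⟩ := I₁.subschemeι_app_surjective ⟨U, hU⟩
          ((biprod.fst : ClSub.quotMod I₁ ⊞ ClSub.quotMod I₂ ⟶ _).app U xx)
        obtain ⟨r₂, hr₂⟩ := I₂.subschemeι_app_surjective ⟨U, hU⟩
          ((biprod.snd : ClSub.quotMod I₁ ⊞ ClSub.quotMod I₂ ⟶ _).app U xx)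
        have hx1 : (biprod.fst : ClSub.quotMod I₁ ⊞ ClSub.quotMod I₂ ⟶ _).app U xx =
            (ClSub.toSubscheme I₁).app U r₁ := hr₁.symm
        have hx2 : (biprod.snd : ClSub.quotMod I₁ ⊞ ClSub.quotMod I₂ ⟶ _).app U xx =
            (ClSub.toSubscheme I₂).app U r₂ := hr₂.symm
        -- the relation `q₁ a = q₂ b`
        have hd1 : (biprod.inl : ClSub.quotMod I₁ ⟶ ClSub.quotMod I₁ ⊞ ClSub.quotMod I₂) ≫ d = q₁ := by
          rw [hd]; exact biprod.inl_desc _ _
        have hd2 : (biprod.inr : ClSub.quotMod I₂ ⟶ ClSub.quotMod I₁ ⊞ ClSub.quotMod I₂) ≫ d = -q₂ := by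
          rw [hd]; exact biprod.inr_desc _ _
        have hrel : ((I₁ ⊔ I₂).subschemeι.app U).hom r₁ + -((I₁ ⊔ I₂).subschemeι.app U).hom r₂ = 0 := by
          have e0 : xx = (biprod.inl : ClSub.quotMod I₁ ⟶ ClSub.quotMod I₁ ⊞ ClSub.quotMod I₂).app U
                ((ClSub.toSubscheme I₁).app U r₁) +
              (biprod.inr : ClSub.quotMod I₂ ⟶ ClSub.quotMod I₁ ⊞ ClSub.quotMod I₂).app U
                ((ClSub.toSubscheme I₂).app U r₂) := by
            rw [← hx1, ← hx2]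
            have := congrArg (fun φ => Scheme.Modules.Hom.app φ U xx)
              (biprod.total (X := ClSub.quotMod I₁) (Y := ClSub.quotMod I₂))
            exact this.symm
          rw [e0, map_add] at hdx
          have e1 : d.app U ((biprod.inl : ClSub.quotMod I₁ ⟶ ClSub.quotMod I₁ ⊞ ClSub.quotMod I₂).app U
              ((ClSub.toSubscheme I₁).app U r₁)) = (ClSub.toSubscheme (I₁ ⊔ I₂)).app U r₁ := by
            have := congrArg (fun φ => Scheme.Modules.Hom.app φ U ((ClSub.toSubscheme I₁).app U r₁)) hd1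
            refine this.trans ?_
            exact congrArg (fun φ : Coh.structureModule X ⟶ ClSub.quotMod (I₁ ⊔ I₂) =>
              Scheme.Modules.Hom.app φ U r₁) hq₁
          have e2 : d.app U ((biprod.inr : ClSub.quotMod I₂ ⟶ ClSub.quotMod I₁ ⊞ ClSub.quotMod I₂).app U
              ((ClSub.toSubscheme I₂).app U r₂)) = -(ClSub.toSubscheme (I₁ ⊔ I₂)).app U r₂ := by
            have := congrArg (fun φ => Scheme.Modules.Hom.app φ U ((ClSub.toSubscheme I₂).app U r₂)) hd2
            refine this.trans ?_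
            have h3 := congrArg (fun φ : Coh.structureModule X ⟶ ClSub.quotMod (I₁ ⊔ I₂) =>
              Scheme.Modules.Hom.app φ U r₂) hq₂
            change -(q₂.app U ((ClSub.toSubscheme I₂).app U r₂)) = _
            rw [← h3]
            rfl
          rw [e1, e2] at hdx
          exact hdx
        have hmem : r₁ - r₂ ∈ (I₁ ⊔ I₂).ideal ⟨U, hU⟩ := by
          rw [← (I₁ ⊔ I₂).ker_subschemeι_app ⟨U, hU⟩, RingHom.mem_ker, map_sub, sub_eq_add_neg]
          exact hrel
        have hrel' : r₁ - r₂ ∈ I₁.ideal ⟨U, hU⟩ ⊔ I₂.ideal ⟨U, hU⟩ := hmem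
        obtain ⟨c₁, hc₁, c₂, hc₂, hcc⟩ := Submodule.mem_sup.1 hrel'
        have hc₁' := (toSubscheme_app_eq_zero_iff I₁ U hU c₁).2 hc₁
        have hc₂' := (toSubscheme_app_eq_zero_iff I₂ U hU c₂).2 hc₂
        have hc₁'' : (I₁.subschemeι.app U).hom c₁ = 0 := hc₁'
        have hc₂'' : (I₂.subschemeι.app U).hom c₂ = 0 := hc₂'
        refine ⟨(r₁ - c₁ : Γ(X, U)), ?_⟩
        apply SepFam.app_injective_of_mono (kernel.ι d) U
        rw [hkι, ← hxx]
        apply biprod_sections_ext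
        · rw [hℓ1, hx1]
          change (I₁.subschemeι.app U).hom (r₁ - c₁) = (I₁.subschemeι.app U).hom r₁
          rw [map_sub, hc₁'', sub_zero]
        · rw [hℓ2, hx2]
          have e : r₁ - c₁ = r₂ + c₂ := by
            have e' : r₁ = r₂ + (c₁ + c₂) := by rw [hcc]; ring
            rw [e']; ring
          change (I₂.subschemeι.app U).hom (r₁ - c₁) = (I₂.subschemeι.app U).hom r₂
          rw [e, map_add, hc₂'', add_zero]
    haveI := hiso
    subst hd hℓ
    refine ⟨IsLimit.ofIsoLimit (kernelIsKernel _) ?_⟩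
    exact Fork.ext (asIso k).symm (by
      change inv k ≫ _ = kernel.ι _
      rw [IsIso.inv_comp_eq]
      exact hk.symm)

end Main

end Groth.Agent.Lib.Helper4.ClSubMV
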