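import Mathlib

/-!
# Stalk-level criteria for unramified / smooth / étale neighbourhoods (S9566) (helper4)
-/

set_option backward.isDefEq.respectTransparency.types false
set_option synthInstance.maxHeartbeats 400000
set_option autoImplicit false
set_option linter.unusedSectionVars false
set_option linter.style.haveILetI false
set_option linter.unusedSimpArgs false
universe u v w
open AlgebraicGeometry CategoryTheory Limits
open scoped TensorProduct

namespace Groth.Agent.Lib.Helper4.StalkEtale1

section A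

variable {X Y : Scheme.{u}}

/-- chart form of formal unramifiedness of a stalk map -/
lemma formallyUnramified_stalkMap_iff {f : X ⟶ Y} {x : X} (U : Y.Opens)
      (hU : IsAffineOpen U) (V : X.Opens) (hV : IsAffineOpen V) (hVU : V ≤ f ⁻¹ᵁ U)
      (hx : x ∈ V) :
    letI := (f.appLE U V hVU).hom.toAlgebra
    (f.stalkMap x).hom.FormallyUnramified ↔
      Algebra.IsUnramifiedAt Γ(Y, U) (hV.primeIdealOf ⟨x, hx⟩).asIdeal := by
  let := (f.appLE U V hVU).hom.toAlgebra
  let p := (hU.primeIdealOf ⟨f x, hVU hx⟩).asIdeal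
  let q := (hV.primeIdealOf ⟨x, hx⟩).asIdeal
  have : q.LiesOver p :=
    ⟨congr($(IsAffineOpen.comap_primeIdealOf_appLE U hU V hV hVU hx).1).symm⟩
  let := Localization.AtPrime.algebraOfLiesOver p q
  trans Algebra.FormallyUnramified (Localization.AtPrime p) (Localization.AtPrime q)
  · rw [← RingHom.formallyUnramified_algebraMap]
    exact RingHom.FormallyUnramified.respectsIso.arrow_mk_iso_iff
      (IsAffineOpen.arrowStalkMapIso f U hU V hV hVU hx)
  · constructor
    · intro h
      haveI : Algebra.FormallyUnramified Γ(Y, U) (Localization.AtPrime p) :=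
        Algebra.FormallyUnramified.of_isLocalization p.primeCompl
      exact Algebra.FormallyUnramified.comp Γ(Y, U) (Localization.AtPrime p)
        (Localization.AtPrime q)
    · intro h
      haveI : Algebra.FormallyUnramified Γ(Y, U) (Localization.AtPrime q) := h
      exact Algebra.FormallyUnramified.of_restrictScalars Γ(Y, U) _ _

set_option backward.isDefEq.respectTransparency false in
/-- membership in a basic open in terms of `primeIdealOf` -/
lemma mem_basicOpen_iff_notMem_primeIdealOf {V : X.Opens} (hV : IsAffineOpen V) (r : Γ(X, V))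
    (x : X) (hx : x ∈ V) :
    x ∈ X.basicOpen r ↔ r ∉ (hV.primeIdealOf ⟨x, hx⟩).asIdeal := by
  rw [← PrimeSpectrum.mem_basicOpen, IsAffineOpen.primeIdealOf,
      ← hV.fromSpec_preimage_basicOpen, Scheme.Hom.mem_preimage, ← Scheme.Hom.comp_apply,
      IsAffineOpen.isoSpec_hom, IsAffineOpen.toSpecΓ_fromSpec]
  rfl

/-- the set of points where the stalk map is formally unramified is open (neighbourhood form) -/
theorem exists_nhd_formallyUnramified_stalkMap (f : X ⟶ Y) [LocallyOfFiniteType f] (x : X)
    (H : (f.stalkMap x).hom.FormallyUnramified) :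
    ∃ V : X.Opens, x ∈ V ∧ ∀ x₂ ∈ V, (f.stalkMap x₂).hom.FormallyUnramified := by
  obtain ⟨_, ⟨U, hU, rfl⟩, hxU, -⟩ :=
    Y.isBasis_affineOpens.exists_subset_of_mem_open (Set.mem_univ (f x)) isOpen_univ
  obtain ⟨_, ⟨V, hV, rfl⟩, hxV, hVU⟩ :=
    X.isBasis_affineOpens.exists_subset_of_mem_open hxU (U.2.preimage f.continuous)
  have hft := f.finiteType_appLE hU hV hVU
  algebraize [(f.appLE U V hVU).hom]
  have h1 : Algebra.IsUnramifiedAt Γ(Y, U) (hV.primeIdealOf ⟨x, hxV⟩).asIdeal :=
    (formallyUnramified_stalkMap_iff U hU V hV hVU hxV).mp H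
  obtain ⟨_, ⟨_, ⟨r, rfl⟩, rfl⟩, hpr, hr⟩ :=
    PrimeSpectrum.isBasis_basic_opens.exists_subset_of_mem_open
      (show hV.primeIdealOf ⟨x, hxV⟩ ∈ Algebra.unramifiedLocus Γ(Y, U) Γ(X, V) from h1)
      Algebra.isOpen_unramifiedLocus
  refine ⟨X.basicOpen r, (mem_basicOpen_iff_notMem_primeIdealOf hV r x hxV).mpr hpr, ?_⟩
  intro x₂ hx₂
  have hx₂V : x₂ ∈ V := X.basicOpen_le r hx₂
  have h2 : hV.primeIdealOf ⟨x₂, hx₂V⟩ ∈ Algebra.unramifiedLocus Γ(Y, U) Γ(X, V) :=
    hr ((mem_basicOpen_iff_notMem_primeIdealOf hV r x₂ hx₂V).mp hx₂)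
  exact (formallyUnramified_stalkMap_iff U hU V hV hVU hx₂V).mpr h2

set_option backward.isDefEq.respectTransparency false in
/-- stalk map of `V.ι ≫ f` -/
lemma formallyUnramified_stalkMap_ι_comp_iff (f : X ⟶ Y) (V : X.Opens) (x' : V) :
    ((V.ι ≫ f).stalkMap x').hom.FormallyUnramified ↔
      (f.stalkMap (V.ι x')).hom.FormallyUnramified := by
  rw [Scheme.Hom.stalkMap_comp, CommRingCat.hom_comp,
    RingHom.FormallyUnramified.respectsIso.cancel_right_isIso]

theorem formallyUnramified_ι_comp_of_stalkMap (f : X ⟶ Y) (V : X.Opens)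
    (H : ∀ x₂ ∈ V, (f.stalkMap x₂).hom.FormallyUnramified) :
    FormallyUnramified (V.ι ≫ f) := by
  apply HasRingHomProperty.of_stalkMap (P := @FormallyUnramified)
    RingHom.FormallyUnramified.ofLocalizationPrime
  intro x'
  rw [formallyUnramified_stalkMap_ι_comp_iff]
  exact H _ x'.2

/-- unramified neighbourhood ↔ stalk map formally unramified -/
theorem exists_formallyUnramified_nhd_iff (f : X ⟶ Y) [LocallyOfFiniteType f] (x : X) :
    (∃ V : X.Opens, x ∈ V ∧ FormallyUnramified (V.ι ≫ f)) ↔
      (f.stalkMap x).hom.FormallyUnramified := by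
  constructor
  · rintro ⟨V, hxV, hV⟩
    have := FormallyUnramified.stalkMap (V.ι ≫ f) ⟨x, hxV⟩
    rwa [formallyUnramified_stalkMap_ι_comp_iff] at this
  · intro H
    obtain ⟨V, hxV, hV⟩ := exists_nhd_formallyUnramified_stalkMap f x H
    exact ⟨V, hxV, formallyUnramified_ι_comp_of_stalkMap f V hV⟩

/-- smooth neighbourhood ↔ stalk map formally smooth -/
theorem exists_smooth_nhd_iff (f : X ⟶ Y) [LocallyOfFinitePresentation f] (x : X) :
    (∃ V : X.Opens, x ∈ V ∧ Smooth (V.ι ≫ f)) ↔ (f.stalkMap x).hom.FormallySmooth := by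
  constructor
  · rintro ⟨V, hxV, hV⟩
    have h1 : (V.ι ≫ f).smoothLocus = ⊤ := Scheme.Hom.smoothLocus_eq_top _
    rw [← Scheme.Hom.preimage_smoothLocus_eq] at h1
    have h2 : (⟨x, hxV⟩ : V) ∈ V.ι ⁻¹ᵁ f.smoothLocus := by rw [h1]; trivial
    exact h2
  · intro H
    refine ⟨f.smoothLocus, H, ?_⟩
    rw [← Scheme.Hom.smoothLocus_eq_top_iff, ← Scheme.Hom.preimage_smoothLocus_eq]
    exact Scheme.Opens.ι_preimage_self _

/-- étale neighbourhood ↔ stalk map formally smooth and formally unramified -/
theorem exists_etale_nhd_iff (f : X ⟶ Y) [LocallyOfFinitePresentation f] (x : X) :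
    (∃ V : X.Opens, x ∈ V ∧ Etale (V.ι ≫ f)) ↔
      ((f.stalkMap x).hom.FormallySmooth ∧ (f.stalkMap x).hom.FormallyUnramified) := by
  constructor
  · rintro ⟨V, hxV, hV⟩
    exact ⟨(exists_smooth_nhd_iff f x).mp ⟨V, hxV, inferInstance⟩,
      (exists_formallyUnramified_nhd_iff f x).mp ⟨V, hxV, inferInstance⟩⟩
  · rintro ⟨h1, h2⟩
    obtain ⟨V₁, hx₁, hV₁⟩ := (exists_smooth_nhd_iff f x).mpr h1
    obtain ⟨V₂, hx₂, hV₂⟩ := exists_nhd_formallyUnramified_stalkMap f x h2
    refine ⟨V₁ ⊓ V₂, ⟨hx₁, hx₂⟩, ?_⟩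
    haveI : FormallyUnramified ((V₁ ⊓ V₂).ι ≫ f) :=
      formallyUnramified_ι_comp_of_stalkMap f _ (fun x₂ hx₂ => hV₂ x₂ hx₂.2)
    haveI : Smooth ((V₁ ⊓ V₂).ι ≫ f) := by
      rw [← X.homOfLE_ι (inf_le_left : V₁ ⊓ V₂ ≤ V₁), Category.assoc]
      infer_instance
    exact Etale.of_formallyUnramified_of_flat _

end A


section B
open TensorProduct IsLocalRing Algebra

local notation "𝓀[" R "]" => ResidueField R

variable {R S : Type*} [CommRing R] [CommRing S] [Algebra R S]

/-- local version of `IsSmoothAt.of_formallySmooth_fiber`: flatness and fibre smoothness are only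
required for the local rings. -/
lemma isSmoothAt_of_flat_of_formallySmooth_fiber
    [Algebra.FinitePresentation R S] (p : Ideal R) (q : Ideal S)
    [p.IsPrime] [q.IsPrime] [q.LiesOver p] :
    letI := Localization.AtPrime.algebraOfLiesOver p q
    Module.Flat (Localization.AtPrime p) (Localization.AtPrime q) →
    FormallySmooth 𝓀[Localization.AtPrime p]
      (𝓀[Localization.AtPrime p] ⊗[Localization.AtPrime p] Localization.AtPrime q) →
    Algebra.IsSmoothAt R q := by
  let Rp := Localization.AtPrime p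
  let Sp := Localization (algebraMapSubmonoid S p.primeCompl)
  let Sq := Localization.AtPrime q
  let := Localization.AtPrime.algebraOfLiesOver p q
  intro hflat hsm
  let f : Sp →ₐ[S] Sq := IsLocalization.liftAlgHom (M := algebraMapSubmonoid S p.primeCompl)
        (f := Algebra.ofId _ _) (by
      rintro ⟨_, x, hx, rfl⟩
      simpa using! IsLocalization.map_units (M := q.primeCompl) Sq ⟨algebraMap _ _ x,
        by simp_all [q.over_def p]⟩)
  algebraize [f.toRingHom]
  have : IsScalarTower R Sp Sq := .to₁₃₄ _ S _ _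
  have : IsScalarTower Rp Sp Sq := .of_algebraMap_eq' <| by
    apply IsLocalization.ringHom_ext p.primeCompl
    simp only [RingHom.comp_assoc, ← IsScalarTower.algebraMap_eq]
  have : IsLocalization (algebraMapSubmonoid Sp q.primeCompl) Sq :=
    .isLocalization_of_submonoid_le _ _ (algebraMapSubmonoid S p.primeCompl) _
    (by rintro _ ⟨x, hx, rfl⟩; simp_all [q.over_def p])
  have : FinitePresentation Rp Sp := by
    have : Algebra.IsPushout R Rp S Sp :=
      .symm <| Algebra.isPushout_of_isLocalization p.primeCompl _ _ _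
    exact .equiv (Algebra.IsPushout.equiv R Rp S Sp)
  have : Module.Flat Rp Sq := hflat
  have : FormallySmooth 𝓀[Rp] (𝓀[Rp] ⊗[Rp] Sq) := hsm
  have := FormallySmooth.of_formallySmooth_residueField_tensor
    (R := Rp) (S := Sq) (P := Sp) (algebraMapSubmonoid _ q.primeCompl)
  exact .comp R Rp Sq

/-- flat and unramified at a prime implies smooth (hence étale) at that prime -/
lemma isSmoothAt_of_flat_of_isUnramifiedAt
    [Algebra.FinitePresentation R S] (p : Ideal R) (q : Ideal S)
    [p.IsPrime] [q.IsPrime] [q.LiesOver p] [Algebra.IsUnramifiedAt R q] :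
    letI := Localization.AtPrime.algebraOfLiesOver p q
    Module.Flat (Localization.AtPrime p) (Localization.AtPrime q) →
    Algebra.IsSmoothAt R q := by
  let Rp := Localization.AtPrime p
  let Sq := Localization.AtPrime q
  let := Localization.AtPrime.algebraOfLiesOver p q
  intro hflat
  have h1 : Algebra.FormallyUnramified R Sq := ‹Algebra.IsUnramifiedAt R q›
  have h2 : Algebra.FormallyUnramified Rp Sq := .of_restrictScalars R _ _
  have h3 : Algebra.EssFiniteType R Sq := .comp R S Sq
  have h4 : Algebra.EssFiniteType Rp Sq := .of_comp R _ _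
  have h5 : Algebra.FormallyEtale 𝓀[Rp] (𝓀[Rp] ⊗[Rp] Sq) :=
    Algebra.FormallyEtale.of_formallyUnramified_of_field _ _
  exact isSmoothAt_of_flat_of_formallySmooth_fiber p q hflat inferInstance

end B

section C

variable {X Y : Scheme.{u}}

set_option backward.isDefEq.respectTransparency false in
lemma flat_stalkMap_ι_comp_iff (f : X ⟶ Y) (V : X.Opens) (x' : V) :
    ((V.ι ≫ f).stalkMap x').hom.Flat ↔ (f.stalkMap (V.ι x')).hom.Flat := by
  rw [Scheme.Hom.stalkMap_comp, CommRingCat.hom_comp,
    RingHom.Flat.respectsIso.cancel_right_isIso]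

/-- flat + formally unramified stalk map ⇒ formally smooth stalk map (lfp) -/
theorem formallySmooth_stalkMap_of_flat_of_formallyUnramified (f : X ⟶ Y)
    [LocallyOfFinitePresentation f] (x : X) (hflat : (f.stalkMap x).hom.Flat)
    (hfu : (f.stalkMap x).hom.FormallyUnramified) : (f.stalkMap x).hom.FormallySmooth := by
  obtain ⟨_, ⟨U, hU, rfl⟩, hxU, -⟩ :=
    Y.isBasis_affineOpens.exists_subset_of_mem_open (Set.mem_univ (f x)) isOpen_univ
  obtain ⟨_, ⟨V, hV, rfl⟩, hxV, hVU⟩ :=
    X.isBasis_affineOpens.exists_subset_of_mem_open hxU (U.2.preimage f.continuous)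
  have hfp := f.finitePresentation_appLE hU hV hVU
  algebraize [(f.appLE U V hVU).hom]
  rw [formallySmooth_stalkMap_iff U hU V hV hVU hxV]
  let p := (hU.primeIdealOf ⟨f x, hVU hxV⟩).asIdeal
  let q := (hV.primeIdealOf ⟨x, hxV⟩).asIdeal
  have : q.LiesOver p :=
    ⟨congr($(IsAffineOpen.comap_primeIdealOf_appLE U hU V hV hVU hxV).1).symm⟩
  haveI : Algebra.IsUnramifiedAt Γ(Y, U) q :=
    (formallyUnramified_stalkMap_iff U hU V hV hVU hxV).mp hfu
  let := Localization.AtPrime.algebraOfLiesOver p q
  have hfl : Module.Flat (Localization.AtPrime p) (Localization.AtPrime q) := by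
    rw [← RingHom.flat_algebraMap_iff]
    exact (RingHom.Flat.respectsIso.arrow_mk_iso_iff
      (IsAffineOpen.arrowStalkMapIso f U hU V hV hVU hxV)).mp hflat
  exact isSmoothAt_of_flat_of_isUnramifiedAt p q hfl

/-- étale neighbourhood ↔ stalk map flat and formally unramified -/
theorem exists_etale_nhd_iff_flat_formallyUnramified (f : X ⟶ Y)
    [LocallyOfFinitePresentation f] (x : X) :
    (∃ V : X.Opens, x ∈ V ∧ Etale (V.ι ≫ f)) ↔
      ((f.stalkMap x).hom.Flat ∧ (f.stalkMap x).hom.FormallyUnramified) := by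
  constructor
  · rintro ⟨V, hxV, hV⟩
    refine ⟨?_, ((exists_etale_nhd_iff f x).mp ⟨V, hxV, hV⟩).2⟩
    have := Flat.stalkMap (V.ι ≫ f) ⟨x, hxV⟩
    rwa [flat_stalkMap_ι_comp_iff] at this
  · rintro ⟨h1, h2⟩
    exact (exists_etale_nhd_iff f x).mpr
      ⟨formallySmooth_stalkMap_of_flat_of_formallyUnramified f x h1 h2, h2⟩

end C



section D

variable {X Y : Scheme.{u}}

open IsLocalRing in
/-- local characterization of a formally unramified stalk map -/
theorem formallyUnramified_stalkMap_iff_local (f : X ⟶ Y) [LocallyOfFiniteType f] (x : X) :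
    (f.stalkMap x).hom.FormallyUnramified ↔
      ((maximalIdeal (Y.presheaf.stalk (f x))).map (f.stalkMap x).hom =
          maximalIdeal (X.presheaf.stalk x) ∧
        letI := (f.residueFieldMap x).hom.toAlgebra
        Algebra.IsSeparable (Y.residueField (f x)) (X.residueField x)) := by
  have hess := LocallyOfFiniteType.stalkMap f x
  algebraize [(f.stalkMap x).hom]
  haveI : IsLocalHom (algebraMap (Y.presheaf.stalk (f x)) (X.presheaf.stalk x)) :=
    inferInstanceAs (IsLocalHom (f.stalkMap x).hom)
  have heq : (f.residueFieldMap x).hom.toAlgebra =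
      (inferInstance : Algebra (ResidueField (Y.presheaf.stalk (f x)))
        (ResidueField (X.presheaf.stalk x))) := by
    apply Algebra.algebra_ext
    intro r
    obtain ⟨a, rfl⟩ := residue_surjective r
    rfl
  change Algebra.FormallyUnramified _ _ ↔ _
  rw [Algebra.FormallyUnramified.iff_map_maximalIdeal_eq, and_comm]
  refine and_congr Iff.rfl ?_
  change _ ↔ @Algebra.IsSeparable (ResidueField (Y.presheaf.stalk (f x)))
    (ResidueField (X.presheaf.stalk x)) _ _ (f.residueFieldMap x).hom.toAlgebra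
  rw [heq]

open IsLocalRing in
theorem finite_residueField_of_formallyUnramified_stalkMap (f : X ⟶ Y) [LocallyOfFiniteType f]
    (x : X) (h : (f.stalkMap x).hom.FormallyUnramified) :
    letI := (f.residueFieldMap x).hom.toAlgebra
    Module.Finite (Y.residueField (f x)) (X.residueField x) := by
  have hess := LocallyOfFiniteType.stalkMap f x
  algebraize [(f.stalkMap x).hom]
  haveI : IsLocalHom (algebraMap (Y.presheaf.stalk (f x)) (X.presheaf.stalk x)) :=
    inferInstanceAs (IsLocalHom (f.stalkMap x).hom)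
  have heq : (f.residueFieldMap x).hom.toAlgebra =
      (inferInstance : Algebra (ResidueField (Y.presheaf.stalk (f x)))
        (ResidueField (X.presheaf.stalk x))) := by
    apply Algebra.algebra_ext
    intro r
    obtain ⟨a, rfl⟩ := residue_surjective r
    rfl
  haveI : Algebra.FormallyUnramified (Y.presheaf.stalk (f x)) (X.presheaf.stalk x) := h
  have key : Module.Finite (ResidueField (Y.presheaf.stalk (f x)))
    (ResidueField (X.presheaf.stalk x)) := inferInstance
  change @Module.Finite (ResidueField (Y.presheaf.stalk (f x)))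
    (ResidueField (X.presheaf.stalk x)) _ _ (f.residueFieldMap x).hom.toAlgebra.toModule
  rw [heq]
  exact key

end D

section E

variable {X Y : Scheme.{u}}

theorem S9566_main (f : X ⟶ Y)
    [LocallyOfFiniteType f] [IsLocallyNoetherian Y] (x : X) :
    (∃ U : X.Opens, x ∈ U ∧ Etale (U.ι ≫ f)) ↔
      ((f.stalkMap x).hom.Flat ∧
        (IsLocalRing.maximalIdeal (Y.presheaf.stalk (f.base x))).map (f.stalkMap x).hom =
          IsLocalRing.maximalIdeal (X.presheaf.stalk x) ∧
        letI := (f.residueFieldMap x).hom.toAlgebra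
        Module.Finite (Y.residueField (f.base x)) (X.residueField x) ∧
          Algebra.IsSeparable (Y.residueField (f.base x)) (X.residueField x)) := by
  haveI : LocallyOfFinitePresentation f :=
    LocallyOfFinitePresentation.iff_locallyOfFiniteType.2 inferInstance
  rw [exists_etale_nhd_iff_flat_formallyUnramified]
  constructor
  · rintro ⟨h1, h2⟩
    obtain ⟨h3, h4⟩ := (formallyUnramified_stalkMap_iff_local f x).mp h2
    exact ⟨h1, h3, finite_residueField_of_formallyUnramified_stalkMap f x h2, h4⟩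
  · rintro ⟨h1, h3, -, h4⟩
    exact ⟨h1, (formallyUnramified_stalkMap_iff_local f x).mpr ⟨h3, h4⟩⟩

end E

end Groth.Agent.Lib.Helper4.StalkEtale1
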