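import Mathlib
import Groth.Prelude.Def_MeroSh
import Groth.Agent.Lib.Helper4.StalkEtale1

/-!
# regStalk = nonzerodivisors on locally Noetherian schemes (S8863) (helper4)
-/

set_option backward.isDefEq.respectTransparency.types false
set_option synthInstance.maxHeartbeats 400000
set_option autoImplicit false
set_option linter.unusedSectionVars false
set_option linter.style.haveILetI false
set_option linter.unusedSimpArgs false
universe u v w
open CategoryTheory CategoryTheory.Limits AlgebraicGeometry TopologicalSpace IsLocalRing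

namespace Groth.Agent.Lib.Helper4.MeroReg1

/-- ring lemma: in a Noetherian ring, if the image of `f` in `A_p` is a nonzerodivisor, there is
`t ∉ p` with `t * Ann(f) = 0`. -/
theorem exists_kill_ann {A : Type*} [CommRing A] [IsNoetherianRing A] (f : A) (p : Ideal A) [p.IsPrime]
    (B : Type*) [CommRing B] [Algebra A B] [IsLocalization.AtPrime B p]
    (hf : algebraMap A B f ∈ nonZeroDivisors B) :
    ∃ t : A, t ∉ p ∧ ∀ b : A, b * f = 0 → t * b = 0 := by
  classical
  let I : Ideal A := Ideal.span {f} |>.annihilator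
  have hI : ∀ b : A, b * f = 0 ↔ b ∈ I := by
    intro b
    simp only [I, Submodule.mem_annihilator_span_singleton, smul_eq_mul]
  obtain ⟨s, hs⟩ : I.FG := IsNoetherian.noetherian I
  have key : ∀ b ∈ I, ∃ t : A, t ∉ p ∧ t * b = 0 := by
    intro b hb
    have h1 : algebraMap A B b * algebraMap A B f = 0 := by
      rw [← map_mul, (hI b).mpr hb, map_zero]
    have h2 : algebraMap A B b = 0 := (mem_nonZeroDivisors_iff_right.mp hf) _ h1
    obtain ⟨m, hm⟩ := (IsLocalization.map_eq_zero_iff p.primeCompl B b).mp h2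
    exact ⟨m.1, m.2, hm⟩
  choose! t ht using key
  refine ⟨∏ i ∈ s, t i, ?_, ?_⟩
  · intro h
    obtain ⟨i, hi, hti⟩ := (Ideal.IsPrime.prod_mem_iff).mp h
    have : i ∈ I := by rw [← hs]; exact Ideal.subset_span hi
    exact (ht i this).1 hti
  · intro b hb
    have hbI : b ∈ I := (hI b).mp hb
    rw [← hs] at hbI
    refine Submodule.span_induction ?_ ?_ ?_ ?_ hbI
    · intro x hx
      have hxI : x ∈ I := by rw [← hs]; exact Ideal.subset_span hx
      rw [← Finset.mul_prod_erase s t hx, mul_comm (t x), mul_assoc, (ht x hxI).2, mul_zero]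
    · simp
    · intro x y _ _ hx hy
      rw [mul_add, hx, hy, add_zero]
    · intro a x _ hx
      rw [smul_eq_mul, mul_left_comm, hx, mul_zero]

theorem S8863_main (X : Scheme.{u}) [IsLocallyNoetherian X] (x : ↥X) :
    Mero.regStalk X x = nonZeroDivisors ↑(X.presheaf.stalk x) := by
  apply le_antisymm (Mero.regStalk_le_nonZeroDivisors x)
  intro g hg
  obtain ⟨V, hxV, f₀, rfl⟩ := X.presheaf.exists_germ_eq g
  obtain ⟨_, ⟨U, hU, rfl⟩, hxU, hUV⟩ :=
    X.isBasis_affineOpens.exists_subset_of_mem_open hxV V.2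
  let f : Γ(X, U) := X.presheaf.map (homOfLE hUV).op f₀
  have hfg : X.presheaf.germ U x hxU f = X.presheaf.germ V x hxV f₀ :=
    TopCat.Presheaf.germ_res_apply _ _ _ _ _
  rw [← hfg] at hg ⊢
  haveI : IsNoetherianRing Γ(X, U) := IsLocallyNoetherian.component_noetherian ⟨U, hU⟩
  let _ := TopCat.Presheaf.algebra_section_stalk X.presheaf (⟨x, hxU⟩ : U)
  haveI hloc := hU.isLocalization_stalk ⟨x, hxU⟩
  obtain ⟨t, htp, ht⟩ := exists_kill_ann f (hU.primeIdealOf ⟨x, hxU⟩).asIdeal (X.presheaf.stalk x) hg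
  have hxt : x ∈ X.basicOpen t :=
    (Groth.Agent.Lib.Helper4.StalkEtale1.mem_basicOpen_iff_notMem_primeIdealOf hU t x hxU).mpr htp
  refine ⟨X.basicOpen t, hxt, X.presheaf.map (homOfLE (X.basicOpen_le t)).op f, ?_, ?_⟩
  · rintro ⟨y, hy⟩
    have hyU : y ∈ U := X.basicOpen_le t hy
    change X.presheaf.germ (X.basicOpen t) y hy (X.presheaf.map (homOfLE (X.basicOpen_le t)).op f) ∈ _
    rw [TopCat.Presheaf.germ_res_apply]
    let _ := TopCat.Presheaf.algebra_section_stalk X.presheaf (⟨y, hyU⟩ : U)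
    haveI hlocy := hU.isLocalization_stalk ⟨y, hyU⟩
    have htq : t ∉ (hU.primeIdealOf ⟨y, hyU⟩).asIdeal :=
      (Groth.Agent.Lib.Helper4.StalkEtale1.mem_basicOpen_iff_notMem_primeIdealOf hU t y hyU).mp hy
    rw [mem_nonZeroDivisors_iff_right]
    intro z hz
    obtain ⟨⟨b, u⟩, rfl⟩ := IsLocalization.mk'_surjective (hU.primeIdealOf ⟨y, hyU⟩).asIdeal.primeCompl z
    have h1 : algebraMap Γ(X, U) (X.presheaf.stalk y) (b * f) = 0 := by
      have : IsLocalization.mk' (X.presheaf.stalk y) b u * algebraMap Γ(X, U) (X.presheaf.stalk y) f = 0 := hz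
      rw [map_mul, ← IsLocalization.mk'_spec' (X.presheaf.stalk y) b u, mul_assoc, this, mul_zero]
    obtain ⟨v, hv⟩ := (IsLocalization.map_eq_zero_iff (hU.primeIdealOf ⟨y, hyU⟩).asIdeal.primeCompl
      (X.presheaf.stalk y) (b * f)).mp h1
    have h2 : t * (v.1 * b) = 0 := ht _ (by rw [mul_assoc]; exact hv)
    rw [IsLocalization.mk'_eq_zero_iff]
    refine ⟨⟨t * v.1, ?_⟩, ?_⟩
    · exact Submonoid.mul_mem _ htq v.2
    · simpa [mul_assoc] using h2
  · exact TopCat.Presheaf.germ_res_apply _ _ _ _ _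

end Groth.Agent.Lib.Helper4.MeroReg1
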