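import Mathlib

/-!
# Properness is insensitive to nilpotent thickenings: surjective closed immersions, powers of an ideal sheaf (helper4)
-/

set_option backward.isDefEq.respectTransparency.types false
set_option synthInstance.maxHeartbeats 400000
set_option autoImplicit false
set_option linter.unusedSectionVars false
set_option linter.style.haveILetI false
set_option linter.unusedSimpArgs false
universe u v w
open CategoryTheory
open CategoryTheory.Limits
open AlgebraicGeometry
open TopologicalSpace
open Opposite

namespace Groth.Agent.Lib.Helper4.ClTr3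

variable {Y₀ Y S : Scheme.{u}} (j : Y₀ ⟶ Y) (g : Y ⟶ S)

theorem isSeparated_of_surjective_closedImmersion [IsClosedImmersion j] [Surjective j]
    [IsSeparated (j ≫ g)] : IsSeparated g := by
  let m : pullback (j ≫ g) (j ≫ g) ⟶ pullback g g :=
    pullback.map (j ≫ g) (j ≫ g) g g j j (𝟙 S) ((Category.comp_id _).trans rfl)
      ((Category.comp_id _).trans rfl)
  have hm : IsClosedImmersion m :=
    MorphismProperty.pullbackMap (P := @IsClosedImmersion) (f := j ≫ g) (g := j ≫ g) (f' := g) (g' := g)
      (i₁ := j) (i₂ := j) inferInstance inferInstance rfl rfl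
  have hcomm : pullback.diagonal (j ≫ g) ≫ m = j ≫ pullback.diagonal g := by
    apply pullback.hom_ext
    · rw [Category.assoc, Category.assoc, pullback.lift_fst, pullback.diagonal_fst,
        ← Category.assoc, pullback.diagonal_fst, Category.id_comp, Category.comp_id]
    · rw [Category.assoc, Category.assoc, pullback.lift_snd, pullback.diagonal_snd,
        ← Category.assoc, pullback.diagonal_snd, Category.id_comp, Category.comp_id]
  have hr : Set.range (pullback.diagonal g) = m '' Set.range (pullback.diagonal (j ≫ g)) := by
    rw [← Set.range_comp]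
    have h1 : (m : _ → _) ∘ (pullback.diagonal (j ≫ g) : _ → _) =
        (pullback.diagonal g : _ → _) ∘ (j : _ → _) := by
      funext x
      have := congrArg (fun φ : Y₀ ⟶ pullback g g => φ x) hcomm
      simpa using this
    rw [h1, Set.range_comp, (Surjective.surj (f := j)).range_eq, Set.image_univ]
  have hcl : IsClosed (Set.range (pullback.diagonal g)) := by
    rw [hr]
    exact m.isClosedEmbedding.isClosedMap _ (pullback.diagonal (j ≫ g)).isClosedEmbedding.isClosed_range
  exact ⟨IsClosedImmersion.of_isPreimmersion _ hcl⟩

theorem isProper_of_surjective_closedImmersion [IsClosedImmersion j] [Surjective j]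
    [IsProper (j ≫ g)] [LocallyOfFiniteType g] : IsProper g := by
  haveI : IsSeparated g := isSeparated_of_surjective_closedImmersion j g
  haveI : UniversallyClosed g := UniversallyClosed.of_comp_surjective j g
  exact {}


theorem isProper_pow {X S : Scheme.{u}} (f : X ⟶ S) [LocallyOfFiniteType f] (I₀ : X.IdealSheafData)
    [IsProper (I₀.subschemeι ≫ f)] (c : ℕ) : IsProper ((I₀ ^ (c + 1)).subschemeι ≫ f) := by
  have hle : I₀ ^ (c + 1) ≤ I₀ := by
    intro U
    rw [Scheme.IdealSheafData.ideal_pow]
    exact Ideal.pow_le_self (Nat.succ_ne_zero c)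
  let j := Scheme.IdealSheafData.inclusion hle
  have hj : j ≫ (I₀ ^ (c + 1)).subschemeι = I₀.subschemeι :=
    Scheme.IdealSheafData.inclusion_subschemeι hle
  haveI : IsClosedImmersion (j ≫ (I₀ ^ (c + 1)).subschemeι) := by rw [hj]; infer_instance
  haveI : IsClosedImmersion j := IsClosedImmersion.of_comp j (I₀ ^ (c + 1)).subschemeι
  haveI : Surjective j := by
    refine ⟨fun z => ?_⟩
    have hz : (I₀ ^ (c + 1)).subschemeι z ∈ Set.range I₀.subschemeι := by
      rw [Scheme.IdealSheafData.range_subschemeι,
        ← Scheme.IdealSheafData.support_pow I₀ (c + 1) (Nat.succ_ne_zero c),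
        ← Scheme.IdealSheafData.range_subschemeι]
      exact ⟨z, rfl⟩
    obtain ⟨y, hy⟩ := hz
    refine ⟨y, ?_⟩
    apply (I₀ ^ (c + 1)).subschemeι.isClosedEmbedding.injective
    rw [← hy, ← hj]
    rfl
  haveI : IsProper (j ≫ (I₀ ^ (c + 1)).subschemeι ≫ f) := by
    rw [← Category.assoc, hj]; infer_instance
  exact isProper_of_surjective_closedImmersion j _

end Groth.Agent.Lib.Helper4.ClTr3
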