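import Mathlib
import Groth.Prelude.Def_Formal
import Groth.Prelude.Def_ClSub2
import Groth.Agent.Lib.Helper4.ClTr1
import Groth.Agent.Lib.Helper4.ClTr2
import Groth.Agent.Lib.Helper4.ClTr3
import Groth.Agent.Lib.Lead.PBQc

/-!
# Finiteness and the theorem on formal functions for coherent modules with proper support (EGA III 3.2.4, 4.1.5 general form) (helper4)
-/

set_option backward.isDefEq.respectTransparency.types false
set_option synthInstance.maxHeartbeats 400000
set_option autoImplicit false
set_option linter.unusedSectionVars false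
set_option linter.style.haveILetI false
set_option linter.unusedSimpArgs false
universe u v w
open CategoryTheory
open CategoryTheory.Limits
open AlgebraicGeometry
open TopologicalSpace
open Opposite
open Groth.Agent.Helper1
open Groth.Agent.Lib.Helper4

namespace Groth.Agent.Lib.Helper4.ClTr4

variable (A : Type u) [CommRing A] [IsNoetherianRing A] (I : Ideal A) (X : Scheme.{u})
  [X.Over (Spec (CommRingCat.of A))]
  [LocallyOfFiniteType (X ↘ Spec (CommRingCat.of A))] [QuasiCompact (X ↘ Spec (CommRingCat.of A))]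
  (F : X.Modules) (hF : Coh.IsCoh F)
  (hs : ClSub.IsProperOver (X ↘ Spec (CommRingCat.of A)) (CohB1.support F)) (p : ℕ)

include hF hs in
theorem exists_data_properSupport :
    Module.Finite A (Coh.HH X F p) ∧
    ∃ c, FFAlg1.Data I (fun n => Formal.HHmodPowTrans I F p n)
      (fun n => Canon.HHlin A (Formal.modPowπ I (n + 1) F) p) (Formal.HHlim I F p) c := by
  obtain ⟨hZ, hprop⟩ := hs
  haveI : IsLocallyNoetherian X := LocallyOfFiniteType.isLocallyNoetherian (X ↘ Spec (CommRingCat.of A))
  haveI : CompactSpace X := QuasiCompact.compactSpace_of_compactSpace (X ↘ Spec (CommRingCat.of A))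
  haveI : F.IsQuasicoherent := hF.1
  obtain ⟨c, hc⟩ := ClTr2.exists_pow_kill F hF hZ
  let I₀ := Scheme.IdealSheafData.vanishingIdeal ⟨CohB1.support F, hZ⟩
  let J := I₀ ^ (c + 1)
  haveI : IsProper (I₀.subschemeι ≫ (X ↘ Spec (CommRingCat.of A))) := hprop
  haveI hp : IsProper (J.subschemeι ≫ (X ↘ Spec (CommRingCat.of A))) := ClTr3.isProper_pow _ I₀ c
  letI : J.subscheme.Over (Spec (CommRingCat.of A)) := ⟨J.subschemeι ≫ (X ↘ Spec (CommRingCat.of A))⟩
  have hi : J.subschemeι ≫ (X ↘ Spec (CommRingCat.of A)) = J.subscheme ↘ Spec (CommRingCat.of A) := rfl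
  haveI : IsProper (J.subscheme ↘ Spec (CommRingCat.of A)) := hp
  let N := (Scheme.Modules.pullback J.subschemeι).obj F
  haveI : IsIso ((Scheme.Modules.pullbackPushforwardAdjunction J.subschemeι).unit.app F) :=
    ClTr2.isIso_unit J F hc
  let η : F ≅ (Scheme.Modules.pushforward J.subschemeι).obj N :=
    asIso ((Scheme.Modules.pullbackPushforwardAdjunction J.subschemeι).unit.app F)
  haveI : N.IsQuasicoherent := Groth.Agent.Lead.PB.isQuasicoherent_pullback _ _
  have hN : Coh.IsCoh N := ⟨inferInstance, Groth.Agent.Lead.PB.isFT_pullback J.subschemeι F hF.2⟩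
  refine ⟨?_, ?_⟩
  · haveI : Module.Finite A (Coh.HH J.subscheme N p) := T2Main1.t2 A J.subscheme N hN p
    exact Module.Finite.equiv (ClTr1.Lam J.subschemeι hi N F η p).symm
  · obtain ⟨c', D⟩ := FFMain3.exists_data I N p hN
    exact ⟨c', ClTr1.data_transfer J.subschemeι hi I N F η p c' D⟩

include hF hs in
theorem s4478 : Nonempty (AdicCompletion I (Coh.HH X F p) ≃+ Formal.HHlim I F p) := by
  obtain ⟨-, c, D⟩ := exists_data_properSupport A I X F hF hs p
  exact ⟨D.equiv⟩

include hF hs in
theorem s4460 [IsAdicComplete I A] : Function.Bijective (Formal.toHHlim I F p) := by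
  obtain ⟨hfin, c, D⟩ := exists_data_properSupport A I X F hF hs p
  haveI : IsAdicComplete I (Coh.HH X F p) := FFAlg1.isAdicComplete_of_finite I
  exact D.bijective_of_complete (Formal.toHHlim I F p) (fun x n => rfl)

end Groth.Agent.Lib.Helper4.ClTr4
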