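import Mathlib
import Groth.Agent.Lib.Helper1.LocalCrit

/-!
# Flatness of a localized base change when the Tor1 comparison map vanishes (Stacks 0AS8-type lemma) (helper4)
-/

set_option backward.isDefEq.respectTransparency.types false
set_option synthInstance.maxHeartbeats 400000
set_option autoImplicit false
set_option linter.unusedSectionVars false
set_option linter.style.haveILetI false
set_option linter.unusedSimpArgs false
universe u v w
open TensorProduct
open Groth.Agent.Helper1.LocalCrit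

namespace Groth.Agent.Lib.Helper4.FlatBC1

variable {R : Type*} [CommRing R] (I : Ideal R) (M : Type*) [AddCommGroup M] [Module R M]

/-- multiplication `I ⊗ M → M` -/
noncomputable def jmap : I ⊗[R] M →ₗ[R] M :=
  (TensorProduct.lid R M).toLinearMap ∘ₗ I.subtype.rTensor M

@[simp] theorem jmap_tmul (a : I) (m : M) : jmap I M (a ⊗ₜ m) = (a : R) • m := by
  simp [jmap]

/-- multiplication `P ⊗ I → P` -/
noncomputable def mu (P : Type*) [AddCommGroup P] [Module R P] : P ⊗[R] I →ₗ[R] P :=
  (TensorProduct.rid R P).toLinearMap ∘ₗ I.subtype.lTensor P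

@[simp] theorem mu_tmul (P : Type*) [AddCommGroup P] [Module R P] (p : P) (a : I) :
    mu I P (p ⊗ₜ a) = (a : R) • p := by
  simp [mu]

theorem mu_mem (P : Type*) [AddCommGroup P] [Module R P] (x : P ⊗[R] I) :
    mu I P x ∈ I • (⊤ : Submodule R P) := by
  induction x using TensorProduct.induction_on with
  | zero => simp
  | tmul p a => rw [mu_tmul]; exact Submodule.smul_mem_smul a.2 Submodule.mem_top
  | add x y hx hy => rw [map_add]; exact Submodule.add_mem _ hx hy

theorem exists_mu_eq (P : Type*) [AddCommGroup P] [Module R P] (p : P)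
    (hp : p ∈ I • (⊤ : Submodule R P)) : ∃ x : P ⊗[R] I, mu I P x = p := by
  induction hp using Submodule.smul_induction_on' with
  | smul a ha q hq => exact ⟨q ⊗ₜ ⟨a, ha⟩, by simp⟩
  | add x hx y hy h1 h2 =>
    obtain ⟨a, rfl⟩ := h1
    obtain ⟨b, rfl⟩ := h2
    exact ⟨a + b, map_add _ _ _⟩

theorem lTensor_jmap_assoc (P : Type*) [AddCommGroup P] [Module R P] (x : (P ⊗[R] I) ⊗[R] M) :
    (jmap I M).lTensor P (TensorProduct.assoc R P I M x) = (mu I P).rTensor M x := by
  induction x using TensorProduct.induction_on with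
  | zero => simp
  | tmul pa m =>
    induction pa using TensorProduct.induction_on with
    | zero => simp
    | tmul p a => simp [TensorProduct.smul_tmul]
    | add x y hx hy => simp only [add_tmul, map_add, hx, hy]
  | add x y hx hy => simp only [map_add, hx, hy]

theorem assoc_rTensor_rTensor {P G : Type*} [AddCommGroup P] [Module R P] [AddCommGroup G]
    [Module R G] (ρ : G →ₗ[R] P) (x : (G ⊗[R] I) ⊗[R] M) :
    TensorProduct.assoc R P I M ((ρ.rTensor I).rTensor M x) =
      ρ.rTensor (I ⊗[R] M) (TensorProduct.assoc R G I M x) := by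
  induction x using TensorProduct.induction_on with
  | zero => simp
  | tmul pa m =>
    induction pa using TensorProduct.induction_on with
    | zero => simp
    | tmul p a => simp
    | add x y hx hy => simp only [add_tmul, map_add, hx, hy]
  | add x y hx hy => simp only [map_add, hx, hy]

theorem mu_rTensor {P G : Type*} [AddCommGroup P] [Module R P] [AddCommGroup G]
    [Module R G] (ρ : G →ₗ[R] P) (x : G ⊗[R] I) :
    mu I P (ρ.rTensor I x) = ρ (mu I G x) := by
  induction x using TensorProduct.induction_on with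
  | zero => simp
  | tmul p a => simp
  | add x y hx hy => simp only [map_add, hx, hy]

theorem mkQ_rTensor_lTensor_jmap (G : Type*) [AddCommGroup G] [Module R G]
    (x : G ⊗[R] (I ⊗[R] M)) :
    ((I • (⊤ : Submodule R G)).mkQ).rTensor M ((jmap I M).lTensor G x) = 0 := by
  induction x using TensorProduct.induction_on with
  | zero => simp
  | tmul g am =>
    induction am using TensorProduct.induction_on with
    | zero => simp
    | tmul a m =>
      simp only [LinearMap.lTensor_tmul, jmap_tmul, LinearMap.rTensor_tmul, Submodule.mkQ_apply]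
      rw [← TensorProduct.smul_tmul, ← Submodule.Quotient.mk_smul]
      have : Submodule.Quotient.mk (p := I • (⊤ : Submodule R G)) ((a : R) • g) = 0 := by
        rw [Submodule.Quotient.mk_eq_zero]
        exact Submodule.smul_mem_smul a.2 Submodule.mem_top
      rw [this, zero_tmul]
    | add x y hx hy => simp only [tmul_add, map_add, hx, hy, add_zero]
  | add x y hx hy => simp only [map_add, hx, hy, add_zero]


section aux
variable {P G : Type*} [AddCommGroup P] [Module R P] [AddCommGroup G] [Module R G]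
  (ρ : G →ₗ[R] P)

/-- preimage of `ker ρ` under multiplication `G ⊗ I → G` -/
noncomputable def Lsub : Submodule R (G ⊗[R] I) := LinearMap.ker (ρ ∘ₗ mu I G)

noncomputable def nu : Lsub I ρ →ₗ[R] LinearMap.ker ρ :=
  LinearMap.codRestrict (LinearMap.ker ρ) (mu I G ∘ₗ (Lsub I ρ).subtype) (fun x => x.2)

@[simp] theorem nu_coe (x : Lsub I ρ) : ((nu I ρ x : LinearMap.ker ρ) : G) = mu I G x.1 := rfl

noncomputable def nu' : Lsub I ρ →ₗ[R] LinearMap.ker (mu I P) :=
  LinearMap.codRestrict (LinearMap.ker (mu I P)) (ρ.rTensor I ∘ₗ (Lsub I ρ).subtype) (fun x => by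
    rw [LinearMap.mem_ker, LinearMap.comp_apply, mu_rTensor]
    exact x.2)

@[simp] theorem nu'_coe (x : Lsub I ρ) :
    ((nu' I ρ x : LinearMap.ker (mu I P)) : P ⊗[R] I) = ρ.rTensor I x.1 := rfl

/-- the composite `ker ρ → G → G/IG` -/
noncomputable def kap : LinearMap.ker ρ →ₗ[R] G ⧸ (I • (⊤ : Submodule R G)) :=
  (I • (⊤ : Submodule R G)).mkQ ∘ₗ (LinearMap.ker ρ).subtype

theorem exact_nu_kap : Function.Exact (nu I ρ) (kap I ρ).rangeRestrict := by
  intro z
  constructor
  · intro hz
    have hz' : kap I ρ z = 0 := by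
      have := congrArg Subtype.val hz
      simpa using this
    rw [kap, LinearMap.comp_apply, Submodule.mkQ_apply, Submodule.Quotient.mk_eq_zero] at hz'
    obtain ⟨x, hx⟩ := exists_mu_eq I _ _ hz'
    have hxL : x ∈ Lsub I ρ := by
      rw [Lsub, LinearMap.mem_ker, LinearMap.comp_apply, hx]
      exact z.2
    refine ⟨⟨x, hxL⟩, ?_⟩
    apply Subtype.ext
    rw [nu_coe]
    exact hx
  · rintro ⟨x, rfl⟩
    apply Subtype.ext
    rw [LinearMap.codRestrict_apply]
    simp only [kap, LinearMap.coe_comp, Submodule.coe_subtype, Function.comp_apply, nu_coe,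
      Submodule.mkQ_apply, ZeroMemClass.coe_zero, Submodule.Quotient.mk_eq_zero]
    exact mu_mem I _ _

end aux

theorem core_aux [Module.Flat (R ⧸ I) ((R ⧸ I) ⊗[R] M)] (P : Type*) [AddCommGroup P] [Module R P]
    (G : Type*) [AddCommGroup G] [Module R G] [Module.Flat R G]
    (ρ : G →ₗ[R] P) (hρ : Function.Surjective ρ)
    (y : P ⊗[R] (I ⊗[R] M)) (hy : (jmap I M).lTensor P y = 0) :
    ∃ (w : P ⊗[R] (LinearMap.ker (jmap I M))) (l : (LinearMap.ker (mu I P)) ⊗[R] M),
      y = (LinearMap.ker (jmap I M)).subtype.lTensor P w +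
        TensorProduct.assoc R P I M ((LinearMap.ker (mu I P)).subtype.rTensor M l) := by
  -- Step 1
  obtain ⟨yG, hyG⟩ := LinearMap.rTensor_surjective (I ⊗[R] M) hρ y
  -- Step 2
  have h2 : ρ.rTensor M ((jmap I M).lTensor _ yG) = 0 := by
    rw [← LinearMap.comp_apply, LinearMap.rTensor_comp_lTensor, ← LinearMap.lTensor_comp_rTensor,
      LinearMap.comp_apply, hyG, hy]
  have hex : Function.Exact ((LinearMap.ker ρ).subtype.rTensor M) (ρ.rTensor M) :=
    rTensor_exact M (LinearMap.exact_subtype_ker_map ρ) hρ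
  obtain ⟨h, hh⟩ := (hex _).mp h2
  -- Step 3
  have h3 : (kap I ρ).rTensor M h = 0 := by
    rw [kap, LinearMap.rTensor_comp, LinearMap.comp_apply, hh]
    exact mkQ_rTensor_lTensor_jmap I M _ yG
  have h3' : (kap I ρ).rangeRestrict.rTensor M h = 0 := by
    have hinj := Groth.Agent.Helper1.LocalCrit.rTensor_subtype_injective_of_surjective
      (R := R) (R ⧸ I) M Ideal.Quotient.mk_surjective
      (P := G ⧸ (I • (⊤ : Submodule R G))) (LinearMap.range (kap I ρ))
    apply hinj
    rw [map_zero, ← LinearMap.comp_apply, ← LinearMap.rTensor_comp, LinearMap.subtype_comp_codRestrict]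
    exact h3
  have hex2 : Function.Exact ((nu I ρ).rTensor M) ((kap I ρ).rangeRestrict.rTensor M) :=
    rTensor_exact M (exact_nu_kap I ρ) (LinearMap.surjective_rangeRestrict (kap I ρ))
  obtain ⟨l₀, hl₀⟩ := (hex2 _).mp h3'
  -- Step 4
  obtain ⟨y', hy'⟩ : ∃ y', y' = TensorProduct.assoc R G I M
      ((Lsub I ρ).subtype.rTensor M l₀) := ⟨_, rfl⟩
  have h4 : (jmap I M).lTensor _ y' = (jmap I M).lTensor _ yG := by
    rw [hy', lTensor_jmap_assoc, ← LinearMap.comp_apply, ← LinearMap.rTensor_comp, ← hh, ← hl₀,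
      ← LinearMap.comp_apply, ← LinearMap.rTensor_comp]
    congr 2
  have h4' : (jmap I M).lTensor _ (yG - y') = 0 := by rw [map_sub, h4, sub_self]
  have hex3 : Function.Exact ((LinearMap.ker (jmap I M)).subtype.lTensor G)
      ((jmap I M).lTensor G) :=
    Module.Flat.lTensor_exact G (N := ↥(LinearMap.ker (jmap I M))) (N' := I ⊗[R] M) (N'' := M)
      (LinearMap.exact_subtype_ker_map (jmap I M))
  obtain ⟨wG, hwG⟩ := (hex3 _).mp h4'
  -- Step 5
  refine ⟨ρ.rTensor _ wG, (nu' I ρ).rTensor M l₀, ?_⟩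
  have e1 : (LinearMap.ker (jmap I M)).subtype.lTensor P (ρ.rTensor _ wG) =
      ρ.rTensor _ (yG - y') := by
    rw [← hwG, ← LinearMap.comp_apply, ← LinearMap.comp_apply, LinearMap.lTensor_comp_rTensor,
      LinearMap.rTensor_comp_lTensor]
  have e2 : TensorProduct.assoc R P I M ((LinearMap.ker (mu I P)).subtype.rTensor M
      ((nu' I ρ).rTensor M l₀)) = ρ.rTensor _ y' := by
    rw [hy', ← assoc_rTensor_rTensor, ← LinearMap.comp_apply, ← LinearMap.rTensor_comp,
      ← LinearMap.comp_apply, ← LinearMap.rTensor_comp]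
    congr 2
  rw [e1, e2, ← map_add, sub_add_cancel, hyG]

theorem core [Module.Flat (R ⧸ I) ((R ⧸ I) ⊗[R] M)] (P : Type*) [AddCommGroup P] [Module R P]
    (y : P ⊗[R] (I ⊗[R] M)) (hy : (jmap I M).lTensor P y = 0) :
    ∃ (w : P ⊗[R] (LinearMap.ker (jmap I M))) (l : (LinearMap.ker (mu I P)) ⊗[R] M),
      y = (LinearMap.ker (jmap I M)).subtype.lTensor P w +
        TensorProduct.assoc R P I M ((LinearMap.ker (mu I P)).subtype.rTensor M l) :=
  core_aux I M P (P →₀ R) (Finsupp.linearCombination R id)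
    (fun p => ⟨Finsupp.single p 1, by simp⟩) y hy


theorem jmap_eq_zero_iff (z : I ⊗[R] M) : jmap I M z = 0 ↔ I.subtype.rTensor M z = 0 := by
  rw [jmap, LinearMap.comp_apply]
  exact (TensorProduct.lid R M).map_eq_zero_iff

theorem jmap_lTensor {X Y : Type*} [AddCommGroup X] [Module R X] [AddCommGroup Y] [Module R Y]
    (φ : X →ₗ[R] Y) (z : I ⊗[R] X) : jmap I Y (φ.lTensor I z) = φ (jmap I X z) := by
  induction z using TensorProduct.induction_on with
  | zero => simp
  | tmul a x => simp
  | add x y hx hy => simp only [map_add, hx, hy]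


section LOC

/-- scalar multiplication by `w` as an `A`-linear map -/
def lam (A : Type*) {T : Type*} (X : Type*) [CommRing A] [Monoid T] [AddCommGroup X] [Module A X]
    [DistribMulAction T X] [SMulCommClass T A X] (w : T) : X →ₗ[A] X where
  toFun := fun x => w • x
  map_add' := smul_add w
  map_smul' := fun a x => smul_comm _ _ _

@[simp] theorem lam_apply (A : Type*) {T : Type*} (X : Type*) [CommRing A] [Monoid T]
    [AddCommGroup X] [Module A X]
    [DistribMulAction T X] [SMulCommClass T A X] (w : T) (x : X) : lam A X w x = w • x := rfl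

theorem lam_mul (A : Type*) {T : Type*} (X : Type*) [CommRing A] [Monoid T]
    [AddCommGroup X] [Module A X]
    [DistribMulAction T X] [SMulCommClass T A X] (a b : T) :
    lam A X (a * b) = lam A X a ∘ₗ lam A X b := by
  ext x
  simp [mul_smul]

variable {A T : Type*} [CommRing A] [CommRing T] [Algebra A T] (W : Submonoid T)
  {N M' : Type*} [AddCommGroup N] [Module T N] [Module A N] [IsScalarTower A T N]
  [AddCommGroup M'] [Module T M'] [Module A M'] [IsScalarTower A T M']
  (g : N →ₗ[T] M') [IsLocalizedModule W g]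
  (Q : Type*) [AddCommGroup Q] [Module A Q]

theorem loc1 (t₀ : Q ⊗[A] M') :
    ∃ (w : W) (tN : Q ⊗[A] N),
      (g.restrictScalars A).lTensor Q tN = (lam A M' (w : T)).lTensor Q t₀ := by
  induction t₀ using TensorProduct.induction_on with
  | zero => exact ⟨1, 0, by simp⟩
  | tmul q x =>
    obtain ⟨⟨n, w⟩, h⟩ := IsLocalizedModule.surj W g x
    refine ⟨w, q ⊗ₜ n, ?_⟩
    simp only [LinearMap.lTensor_tmul, LinearMap.restrictScalars_apply, lam_apply]
    rw [← h]
    rfl
  | add x₁ x₂ h₁ h₂ =>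
    obtain ⟨w₁, t₁, e₁⟩ := h₁
    obtain ⟨w₂, t₂, e₂⟩ := h₂
    refine ⟨w₁ * w₂, (lam A N (w₂ : T)).lTensor Q t₁ + (lam A N (w₁ : T)).lTensor Q t₂, ?_⟩
    have hc : ∀ (w : T), (g.restrictScalars A) ∘ₗ (lam A N w) =
        (lam A M' w) ∘ₗ (g.restrictScalars A) := by
      intro w
      ext n
      simp
    rw [map_add, map_add, ← LinearMap.comp_apply, ← LinearMap.lTensor_comp, hc,
      LinearMap.lTensor_comp, LinearMap.comp_apply, e₁,
      ← LinearMap.comp_apply (f := LinearMap.lTensor Q (g.restrictScalars A)),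
      ← LinearMap.lTensor_comp, hc,
      LinearMap.lTensor_comp, LinearMap.comp_apply, e₂, Submonoid.coe_mul,
      ← LinearMap.comp_apply, ← LinearMap.lTensor_comp, ← lam_mul,
      ← LinearMap.comp_apply, ← LinearMap.lTensor_comp, ← lam_mul, mul_comm (w₂ : T)]

end LOC


section J2

variable {R' : Type*} [CommRing R'] [Algebra R R']
  (M' : Type*) [AddCommGroup M'] [Module R' M'] [Module R M'] [IsScalarTower R R' M']

theorem idealMapTensor_lTensor (φ : M' →ₗ[R'] M') (z : I ⊗[R] M') :
    idealMapTensor (S := R') I M' ((φ.restrictScalars R).lTensor I z) =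
      φ.lTensor _ (idealMapTensor (S := R') I M' z) := by
  induction z using TensorProduct.induction_on with
  | zero => simp
  | tmul a x => simp [idealMapTensor_tmul]
  | add x y hx hy => simp only [map_add, hx, hy]

theorem lTensor_lam_injective {S' : Type*} [CommRing S'] [Algebra R' S'] [Module S' M']
    [IsScalarTower R' S' M'] (Q : Type*) [AddCommGroup Q] [Module R' Q] (s : S') (hs : IsUnit s) :
    Function.Injective ((lam R' M' s).lTensor Q) := by
  obtain ⟨u, rfl⟩ := hs
  have h : (lam R' M' ((u⁻¹ : S'ˣ) : S')) ∘ₗ (lam R' M' (u : S')) = LinearMap.id := by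
    ext x
    simp [smul_smul]
  intro a b hab
  have := congrArg ((lam R' M' ((u⁻¹ : S'ˣ) : S')).lTensor Q) hab
  rwa [← LinearMap.comp_apply, ← LinearMap.comp_apply, ← LinearMap.lTensor_comp, h,
    LinearMap.lTensor_id, LinearMap.id_apply, LinearMap.id_apply] at this

end J2


section E

variable (R S R' : Type*) [CommRing R] [CommRing S] [CommRing R']
  [Algebra R S] [Algebra R R']
  (M : Type*) [AddCommGroup M] [Module S M] [Module R M] [IsScalarTower R S M]

/-- `R' ⊗[R] M ≃ (S ⊗[R] R') ⊗[S] M`, `r' ⊗ m ↦ (1 ⊗ r') ⊗ m`. -/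
noncomputable def eIso : R' ⊗[R] M ≃ₗ[R] (S ⊗[R] R') ⊗[S] M :=
  (TensorProduct.comm R R' M) ≪≫ₗ
  ((AlgebraTensorModule.cancelBaseChange R S S M R').symm.restrictScalars R) ≪≫ₗ
  ((TensorProduct.comm S M (S ⊗[R] R')).restrictScalars R)

theorem eIso_tmul (r' : R') (m : M) :
    eIso R S R' M (r' ⊗ₜ m) = ((1 : S) ⊗ₜ[R] r') ⊗ₜ[S] m := by
  simp [eIso]

end E


section Main

variable (R S R' S' : Type u) [CommRing R] [CommRing S] [CommRing R'] [CommRing S']
  [Algebra R S] [Algebra R R'] [Algebra S S'] [Algebra R' S'] [Algebra R S']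
  [IsScalarTower R S S'] [IsScalarTower R R' S']
  [Algebra (S ⊗[R] R') S']
  (hφ : ∀ (s : S) (r' : R'), algebraMap (S ⊗[R] R') S' (s ⊗ₜ r') =
    algebraMap S S' s * algebraMap R' S' r')
  (W : Submonoid (S ⊗[R] R')) [IsLocalization W S']
  (I : Ideal R) (M : Type u) [AddCommGroup M] [Module S M] [Module R M] [IsScalarTower R S M]
  (M' : Type u) [AddCommGroup M'] [Module S' M'] [Module R' M'] [IsScalarTower R' S' M']
  [Module S M'] [IsScalarTower S S' M'] [Module R M'] [IsScalarTower R R' M'] [IsScalarTower R S M']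
  (f : M →ₗ[S] M') (hf : IsBaseChange S' f)

attribute [local instance] Algebra.TensorProduct.rightAlgebra in
include hφ hf in
theorem setup : ∃ (_ : Module (S ⊗[R] R') M') (_ : IsScalarTower (S ⊗[R] R') S' M')
    (_ : IsScalarTower S (S ⊗[R] R') M') (_ : IsScalarTower R (S ⊗[R] R') M')
    (_ : IsScalarTower R' (S ⊗[R] R') M')
    (g : (S ⊗[R] R') ⊗[S] M →ₗ[S ⊗[R] R'] M'), IsLocalizedModule W g ∧
      ∀ (t : S ⊗[R] R') (m : M), g (t ⊗ₜ m) = algebraMap (S ⊗[R] R') S' t • f m := by
  letI : Module (S ⊗[R] R') M' := Module.compHom M' (algebraMap (S ⊗[R] R') S')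
  have hsm : ∀ (t : S ⊗[R] R') (x : M'), t • x = algebraMap (S ⊗[R] R') S' t • x := fun _ _ => rfl
  haveI i1 : IsScalarTower (S ⊗[R] R') S' M' := ⟨fun t s x => by
    rw [hsm, Algebra.smul_def, mul_smul]⟩
  have hS : ∀ s : S, algebraMap (S ⊗[R] R') S' (algebraMap S (S ⊗[R] R') s) = algebraMap S S' s := by
    intro s
    rw [Algebra.TensorProduct.algebraMap_apply, hφ, map_one, mul_one, Algebra.algebraMap_self_apply]
  have hR' : ∀ r' : R', algebraMap (S ⊗[R] R') S' (algebraMap R' (S ⊗[R] R') r') =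
      algebraMap R' S' r' := by
    intro r'
    rw [Algebra.TensorProduct.algebraMap_eq_includeRight]
    show algebraMap (S ⊗[R] R') S' ((1 : S) ⊗ₜ[R] r') = _
    rw [hφ, map_one, one_mul]
  haveI i2 : IsScalarTower S (S ⊗[R] R') M' := IsScalarTower.of_algebraMap_smul (fun s x => by
    rw [hsm, hS, algebraMap_smul])
  haveI i0 : IsScalarTower R S' M' := IsScalarTower.of_algebraMap_smul (fun r x => by
    rw [IsScalarTower.algebraMap_apply R R' S', algebraMap_smul, algebraMap_smul])
  haveI i3 : IsScalarTower R (S ⊗[R] R') M' := IsScalarTower.of_algebraMap_smul (fun r x => by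
    rw [IsScalarTower.algebraMap_apply R S (S ⊗[R] R'), hsm, hS, algebraMap_smul, algebraMap_smul])
  haveI i5 : IsScalarTower R' (S ⊗[R] R') M' := IsScalarTower.of_algebraMap_smul (fun r' x => by
    rw [hsm, hR', algebraMap_smul])
  haveI i4 : IsScalarTower S (S ⊗[R] R') S' := IsScalarTower.of_algebraMap_eq (fun s => (hS s).symm)
  have hN : IsBaseChange (S ⊗[R] R') (TensorProduct.mk S (S ⊗[R] R') M 1) :=
    TensorProduct.isBaseChange S M (S ⊗[R] R')
  refine ⟨inferInstance, i1, i2, i3, i5, hN.lift f, ?_, ?_⟩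
  · rw [isLocalizedModule_iff_isBaseChange W S']
    apply IsBaseChange.of_comp hN
    rw [show ((hN.lift f).restrictScalars S) ∘ₗ (TensorProduct.mk S (S ⊗[R] R') M 1) = f from
      hN.lift_comp f]
    exact hf
  · intro t m
    have : t ⊗ₜ[S] m = t • ((TensorProduct.mk S (S ⊗[R] R') M 1) m) := by
      rw [TensorProduct.mk_apply, TensorProduct.smul_tmul', smul_eq_mul, mul_one]
    rw [this, map_smul, hN.lift_eq, hsm]

end Main


section Final

variable (R S R' S' : Type u) [CommRing R] [CommRing S] [CommRing R'] [CommRing S']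
  [Algebra R S] [Algebra R R'] [Algebra S S'] [Algebra R' S'] [Algebra R S']
  [IsScalarTower R S S'] [IsScalarTower R R' S']
  [Algebra (S ⊗[R] R') S']
  (hφ : ∀ (s : S) (r' : R'), algebraMap (S ⊗[R] R') S' (s ⊗ₜ r') =
    algebraMap S S' s * algebraMap R' S' r')
  (W : Submonoid (S ⊗[R] R')) [IsLocalization W S']
  (I : Ideal R) (M : Type u) [AddCommGroup M] [Module S M] [Module R M] [IsScalarTower R S M]
  (M' : Type u) [AddCommGroup M'] [Module S' M'] [Module R' M'] [IsScalarTower R' S' M']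
  [Module S M'] [IsScalarTower S S' M'] [Module R M'] [IsScalarTower R R' M'] [IsScalarTower R S M']
  (f : M →ₗ[S] M') (hf : IsBaseChange S' f)

/-- the map appearing in hypothesis (3) -/
noncomputable def Hmap : I ⊗[R] M →ₗ[R] (I.map (algebraMap R R')) ⊗[R'] M' :=
  (TensorProduct.mapOfCompatibleSMul R' R R ↥(I.map (algebraMap R R')) M') ∘ₗ
    (TensorProduct.map (Algebra.idealMap R' I) (f.restrictScalars R))

theorem Hmap_tmul (a : I) (m : M) :
    Hmap R S R' I M M' f (a ⊗ₜ m) = (Algebra.idealMap R' I a) ⊗ₜ[R'] f m := by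
  simp [Hmap]

/-- the map `D : R' ⊗ I → I'` -/
noncomputable def Dmap : R' ⊗[R] I →ₗ[R] (I.map (algebraMap R R')) :=
  TensorProduct.lift (LinearMap.mk₂ R (fun (r' : R') (a : I) => r' • (Algebra.idealMap R' I a))
    (fun a b c => add_smul a b _) (fun c r' a => by rw [smul_assoc])
    (fun r' a b => by rw [map_add, smul_add]) (fun c r' a => by rw [map_smul, smul_comm]))

theorem Dmap_tmul (r' : R') (a : I) :
    Dmap R R' I (r' ⊗ₜ a) = r' • (Algebra.idealMap R' I a) := by
  simp [Dmap]

theorem Dmap_coe (κ : R' ⊗[R] I) : ((Dmap R R' I κ : I.map (algebraMap R R')) : R') = mu I R' κ := by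
  induction κ using TensorProduct.induction_on with
  | zero => simp
  | tmul r' a =>
    rw [Dmap_tmul, mu_tmul, Algebra.smul_def]
    simp [mul_comm]
  | add x y hx hy => simp only [map_add, Submodule.coe_add, hx, hy]

theorem Dmap_eq_zero (κ : R' ⊗[R] I) (h : mu I R' κ = 0) : Dmap R R' I κ = 0 := by
  apply Subtype.ext
  rw [Dmap_coe, h]
  rfl

include hφ hf W in
theorem main_inj [Module.Flat (R ⧸ I) ((R ⧸ I) ⊗[R] M)]
    (h3 : ∀ x : ↥I ⊗[R] M, (Submodule.subtype I).rTensor M x = 0 →
      (TensorProduct.mapOfCompatibleSMul R' R R ↥(I.map (algebraMap R R')) M')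
        ((TensorProduct.map (Algebra.idealMap R' I) (f.restrictScalars R)) x) = 0) :
    Function.Injective ((I.map (algebraMap R R')).subtype.rTensor M') := by
  obtain ⟨instT, i1, i2, i3, i5, g, hg, hgt⟩ := setup R S R' S' hφ W M M' f hf
  rw [injective_iff_map_eq_zero]
  intro t ht
  obtain ⟨t₀, rfl⟩ := idealMapTensor_surjective (S := R') I M' t
  have ht₀ : jmap I M' t₀ = 0 := by
    have h := lid_rTensor_idealMapTensor (S := R') I M' t₀
    rw [ht, map_zero] at h
    rw [jmap, LinearMap.comp_apply]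
    exact h.symm
  obtain ⟨w, tN, htN⟩ := loc1 (A := R) W g I t₀
  have h5 : g (jmap I _ tN) = 0 := by
    have := jmap_lTensor I (g.restrictScalars R) tN
    rw [htN, jmap_lTensor, ht₀, map_zero] at this
    exact this.symm
  obtain ⟨w', hw'⟩ := (IsLocalizedModule.eq_zero_iff W g).mp h5
  obtain ⟨tN', htN'⟩ : ∃ tN', tN' = (lam R ((S ⊗[R] R') ⊗[S] M) (w' : S ⊗[R] R')).lTensor I tN :=
    ⟨_, rfl⟩
  have h6 : jmap I _ tN' = 0 := by
    rw [htN', jmap_lTensor, lam_apply]
    exact hw'
  have hcomm : ∀ (x : S ⊗[R] R'), (g.restrictScalars R) ∘ₗ (lam R ((S ⊗[R] R') ⊗[S] M) x) =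
      (lam R M' x) ∘ₗ (g.restrictScalars R) := by
    intro x
    ext n
    simp
  have h7 : (g.restrictScalars R).lTensor I tN' =
      (lam R M' (((w' * w : W) : S ⊗[R] R'))).lTensor I t₀ := by
    rw [htN', ← LinearMap.comp_apply, ← LinearMap.lTensor_comp, hcomm, LinearMap.lTensor_comp,
      LinearMap.comp_apply, htN, ← LinearMap.comp_apply, ← LinearMap.lTensor_comp, ← lam_mul,
      Submonoid.coe_mul]
  obtain ⟨c, hc⟩ : ∃ c : R' ⊗[R] (I ⊗[R] M) ≃ₗ[R] I ⊗[R] ((S ⊗[R] R') ⊗[S] M),
      ∀ (r' : R') (a : I) (m : M), c (r' ⊗ₜ (a ⊗ₜ m)) = a ⊗ₜ (((1 : S) ⊗ₜ[R] r') ⊗ₜ[S] m) :=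
    ⟨(TensorProduct.leftComm R R' I M) ≪≫ₗ (LinearEquiv.lTensor I (eIso R S R' M)),
      fun r' a m => by simp [eIso_tmul]⟩
  have jmap_c : ∀ y, jmap I _ (c y) = eIso R S R' M ((jmap I M).lTensor R' y) := by
    intro y
    induction y using TensorProduct.induction_on with
    | zero => simp
    | tmul r' z =>
      induction z using TensorProduct.induction_on with
      | zero => simp
      | tmul a m =>
        rw [hc, jmap_tmul, LinearMap.lTensor_tmul, jmap_tmul, TensorProduct.tmul_smul, map_smul,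
          eIso_tmul]
      | add x y hx hy => simp only [tmul_add, map_add, hx, hy]
    | add x y hx hy => simp only [map_add, hx, hy]
  obtain ⟨y, hy⟩ := c.surjective tN'
  have h8 : (jmap I M).lTensor R' y = 0 :=
    (eIso R S R' M).injective (by rw [← jmap_c, hy, h6, map_zero])
  obtain ⟨wK, l, hyl⟩ := core I M R' y h8
  obtain ⟨Ψ, hΨ⟩ : ∃ Ψ : R' ⊗[R] (I ⊗[R] M) →ₗ[R] (I.map (algebraMap R R')) ⊗[R'] M',
      Ψ = (idealMapTensor (S := R') I M') ∘ₗ ((g.restrictScalars R).lTensor I) ∘ₗ c.toLinearMap :=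
    ⟨_, rfl⟩
  have hΨ_tmul : ∀ (r' : R') (a : I) (m : M),
      Ψ (r' ⊗ₜ (a ⊗ₜ m)) = (Algebra.idealMap R' I a) ⊗ₜ[R'] (r' • f m) := by
    intro r' a m
    rw [hΨ, LinearMap.comp_apply, LinearMap.comp_apply, LinearEquiv.coe_coe, hc,
      LinearMap.lTensor_tmul, LinearMap.restrictScalars_apply, hgt, hφ, map_one, one_mul,
      algebraMap_smul, idealMapTensor_tmul]
  have vanish1 : ∀ (r' : R') (z : I ⊗[R] M), Ψ (r' ⊗ₜ z) = r' • Hmap R S R' I M M' f z := by
    intro r' z
    induction z using TensorProduct.induction_on with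
    | zero => simp
    | tmul a m => rw [hΨ_tmul, Hmap_tmul, TensorProduct.tmul_smul]
    | add x y hx hy => simp only [tmul_add, map_add, hx, hy, smul_add]
  have v1 : ∀ wK, Ψ ((LinearMap.ker (jmap I M)).subtype.lTensor R' wK) = 0 := by
    intro wK
    induction wK using TensorProduct.induction_on with
    | zero => simp
    | tmul r' k =>
      rw [LinearMap.lTensor_tmul, vanish1, Submodule.subtype_apply]
      have hk : jmap I M (k : I ⊗[R] M) = 0 := k.2
      rw [jmap_eq_zero_iff] at hk
      have := h3 _ hk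
      rw [show Hmap R S R' I M M' f (k : I ⊗[R] M) = 0 from this, smul_zero]
    | add x y hx hy => simp only [map_add, hx, hy, add_zero]
  have vanish2 : ∀ (κ : R' ⊗[R] I) (m : M),
      Ψ (TensorProduct.assoc R R' I M (κ ⊗ₜ m)) = (Dmap R R' I κ) ⊗ₜ[R'] f m := by
    intro κ m
    induction κ using TensorProduct.induction_on with
    | zero => simp
    | tmul r' a =>
      rw [TensorProduct.assoc_tmul, hΨ_tmul, Dmap_tmul, TensorProduct.smul_tmul]
    | add x y hx hy => simp only [add_tmul, map_add, hx, hy]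
  have v2 : ∀ l, Ψ (TensorProduct.assoc R R' I M
      ((LinearMap.ker (mu I R')).subtype.rTensor M l)) = 0 := by
    intro l
    induction l using TensorProduct.induction_on with
    | zero => simp
    | tmul κ m =>
      rw [LinearMap.rTensor_tmul, vanish2, Submodule.subtype_apply, Dmap_eq_zero R R' I _ κ.2,
        zero_tmul]
    | add x y hx hy => simp only [map_add, hx, hy, add_zero]
  have h9 : Ψ y = 0 := by rw [hyl, map_add, v1, v2, add_zero]
  rw [hΨ, LinearMap.comp_apply, LinearMap.comp_apply, LinearEquiv.coe_coe, hy, h7] at h9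
  have hlam : lam R M' (((w' * w : W) : S ⊗[R] R')) =
      (lam R' M' (algebraMap (S ⊗[R] R') S' ((w' * w : W) : S ⊗[R] R'))).restrictScalars R := by
    ext x
    rw [LinearMap.restrictScalars_apply, lam_apply, lam_apply, algebraMap_smul]
  rw [hlam, idealMapTensor_lTensor] at h9
  exact lTensor_lam_injective M' _ _ (IsLocalization.map_units S' (w' * w)) (by rw [h9, map_zero])

end Final

section LOC2

variable {A T : Type*} [CommRing A] [CommRing T] [Algebra A T] (W : Submonoid T)
  {N M' : Type*} [AddCommGroup N] [Module T N] [Module A N] [IsScalarTower A T N]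
  [AddCommGroup M'] [Module T M'] [Module A M'] [IsScalarTower A T M']
  (g : N →ₗ[T] M') [IsLocalizedModule W g]
  (Q : Type*) [AddCommGroup Q] [Module A Q]

theorem loc2 (z : Q ⊗[A] N) (hz : (g.restrictScalars A).lTensor Q z = 0) :
    ∃ w : W, (lam A N (w : T)).lTensor Q z = 0 := by
  have h1 : AlgebraTensorModule.rTensor A Q g (TensorProduct.comm A Q N z) = 0 := by
    have : ∀ z : Q ⊗[A] N, AlgebraTensorModule.rTensor A Q g (TensorProduct.comm A Q N z) =
        TensorProduct.comm A Q M' ((g.restrictScalars A).lTensor Q z) := by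
      intro z
      induction z using TensorProduct.induction_on with
      | zero => simp
      | tmul q n => simp
      | add x y hx hy => simp only [map_add, hx, hy]
    rw [this, hz, map_zero]
  obtain ⟨w, hw⟩ := (IsLocalizedModule.eq_zero_iff W (AlgebraTensorModule.rTensor A Q g)).mp h1
  refine ⟨w, ?_⟩
  apply (TensorProduct.comm A Q N).injective
  rw [map_zero, ← hw]
  have : ∀ z : Q ⊗[A] N, TensorProduct.comm A Q N ((lam A N (w : T)).lTensor Q z) =
      w • (TensorProduct.comm A Q N z) := by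
    intro z
    induction z using TensorProduct.induction_on with
    | zero => simp
    | tmul q n => simp [TensorProduct.smul_tmul']; rfl
    | add x y hx hy => simp only [map_add, hx, hy, smul_add]
  exact this z

end LOC2

theorem rTensor_injective_of_localized {R' T S' : Type*} [CommRing R'] [CommRing T] [CommRing S']
    [Algebra R' T] [Algebra T S'] [Algebra R' S'] (W : Submonoid T) [IsLocalization W S']
    {N M' : Type*} [AddCommGroup N] [Module T N] [Module R' N] [IsScalarTower R' T N]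
    [AddCommGroup M'] [Module T M'] [Module R' M'] [IsScalarTower R' T M']
    [Module S' M'] [IsScalarTower T S' M'] [IsScalarTower R' S' M']
    (g : N →ₗ[T] M') [IsLocalizedModule W g]
    {Q₁ Q₂ : Type*} [AddCommGroup Q₁] [Module R' Q₁] [AddCommGroup Q₂] [Module R' Q₂]
    (u : Q₁ →ₗ[R'] Q₂) (hu : Function.Injective (u.rTensor N)) :
    Function.Injective (u.rTensor M') := by
  rw [injective_iff_map_eq_zero]
  intro t ht
  obtain ⟨w, tN, htN⟩ := loc1 W g Q₁ t
  have hz : (g.restrictScalars R').lTensor Q₂ (u.rTensor N tN) = 0 := by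
    rw [← LinearMap.comp_apply, LinearMap.lTensor_comp_rTensor, ← LinearMap.rTensor_comp_lTensor,
      LinearMap.comp_apply, htN, ← LinearMap.comp_apply, LinearMap.rTensor_comp_lTensor,
      ← LinearMap.lTensor_comp_rTensor, LinearMap.comp_apply, ht, map_zero]
  obtain ⟨w', hw'⟩ := loc2 W g Q₂ _ hz
  have h1 : (lam R' N (w' : T)).lTensor Q₁ tN = 0 := hu (by
    rw [map_zero, ← LinearMap.comp_apply, LinearMap.rTensor_comp_lTensor,
      ← LinearMap.lTensor_comp_rTensor, LinearMap.comp_apply, hw'])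
  have hcomm : ∀ (x : T), (g.restrictScalars R') ∘ₗ (lam R' N x) =
      (lam R' M' x) ∘ₗ (g.restrictScalars R') := by
    intro x
    ext n
    simp
  have h2 : (lam R' M' ((w' * w : W) : T)).lTensor Q₁ t = 0 := by
    rw [Submonoid.coe_mul, lam_mul, LinearMap.lTensor_comp, LinearMap.comp_apply, ← htN,
      ← LinearMap.comp_apply, ← LinearMap.lTensor_comp, ← hcomm, LinearMap.lTensor_comp,
      LinearMap.comp_apply, h1, map_zero]
  have hlam : lam R' M' (((w' * w : W) : T)) = lam R' M' (algebraMap T S' ((w' * w : W) : T)) := by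
    ext x
    rw [lam_apply, lam_apply, algebraMap_smul]
  rw [hlam] at h2
  exact lTensor_lam_injective M' Q₁ _ (IsLocalization.map_units S' (w' * w)) (by rw [h2, map_zero])


section F

attribute [local instance] Algebra.TensorProduct.rightAlgebra

variable (R S R' : Type u) [CommRing R] [CommRing S] [CommRing R'] [Algebra R S] [Algebra R R']
  (I : Ideal R) (M : Type u) [AddCommGroup M] [Module S M] [Module R M] [IsScalarTower R S M]

theorem flat_quot_N [Module.Flat (R ⧸ I) ((R ⧸ I) ⊗[R] M)] :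
    Module.Flat (R' ⧸ I.map (algebraMap R R'))
      ((R' ⧸ I.map (algebraMap R R')) ⊗[R'] ((S ⊗[R] R') ⊗[S] M)) := by
  have e1 : (R' ⧸ I.map (algebraMap R R')) ⊗[R'] ((S ⊗[R] R') ⊗[S] M) ≃ₗ[R' ⧸ I.map (algebraMap R R')]
      (R' ⧸ I.map (algebraMap R R')) ⊗[R'] (R' ⊗[R] M) :=
    AlgebraTensorModule.congr (LinearEquiv.refl _ _)
      (Algebra.IsPushout.cancelBaseChange R R' S (S ⊗[R] R') M)
  have e2 : (R' ⧸ I.map (algebraMap R R')) ⊗[R'] (R' ⊗[R] M) ≃ₗ[R' ⧸ I.map (algebraMap R R')]
      (R' ⧸ I.map (algebraMap R R')) ⊗[R] M :=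
    AlgebraTensorModule.cancelBaseChange R R' (R' ⧸ I.map (algebraMap R R'))
      (R' ⧸ I.map (algebraMap R R')) M
  have e3 : (R' ⧸ I.map (algebraMap R R')) ⊗[R ⧸ I] ((R ⧸ I) ⊗[R] M) ≃ₗ[R' ⧸ I.map (algebraMap R R')]
      (R' ⧸ I.map (algebraMap R R')) ⊗[R] M :=
    AlgebraTensorModule.cancelBaseChange R (R ⧸ I) (R' ⧸ I.map (algebraMap R R'))
      (R' ⧸ I.map (algebraMap R R')) M
  exact Module.Flat.of_linearEquiv (e1 ≪≫ₗ e2 ≪≫ₗ e3.symm)

end F


section Final2

attribute [local instance] Algebra.TensorProduct.rightAlgebra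

variable (R S R' S' : Type u) [CommRing R] [CommRing S] [CommRing R'] [CommRing S']
  [Algebra R S] [Algebra R R'] [Algebra S S'] [Algebra R' S'] [Algebra R S']
  [IsScalarTower R S S'] [IsScalarTower R R' S']
  [Algebra (S ⊗[R] R') S']
  (hφ : ∀ (s : S) (r' : R'), algebraMap (S ⊗[R] R') S' (s ⊗ₜ r') =
    algebraMap S S' s * algebraMap R' S' r')
  (W : Submonoid (S ⊗[R] R')) [IsLocalization W S']
  (I : Ideal R) (M : Type u) [AddCommGroup M] [Module S M] [Module R M] [IsScalarTower R S M]
  (M' : Type u) [AddCommGroup M'] [Module S' M'] [Module R' M'] [IsScalarTower R' S' M']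
  [Module S M'] [IsScalarTower S S' M'] [Module R M'] [IsScalarTower R R' M'] [IsScalarTower R S M']
  (f : M →ₗ[S] M') (hf : IsBaseChange S' f)

include hφ hf W in
theorem flat_quot_M' [Module.Flat (R ⧸ I) ((R ⧸ I) ⊗[R] M)] :
    Module.Flat (R' ⧸ I.map (algebraMap R R')) ((R' ⧸ I.map (algebraMap R R')) ⊗[R'] M') := by
  obtain ⟨instT, i1, i2, i3, i5, g, hg, hgt⟩ := setup R S R' S' hφ W M M' f hf
  have hN := flat_quot_N R S R' I M
  apply flat_baseChange_of_forall_ideal
  intro 𝔞
  apply rTensor_injective_of_localized (S' := S') W g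
  exact rTensor_restrictScalars_injective (R := R') (R' ⧸ I.map (algebraMap R R'))
    ((S ⊗[R] R') ⊗[S] M) 𝔞.subtype 𝔞.subtype_injective

include hφ hf W in
theorem main_flat [IsNoetherianRing R'] [IsNoetherianRing S'] [IsLocalRing R] [IsLocalRing R']
    [IsLocalRing S'] [IsLocalHom (algebraMap R R')] [IsLocalHom (algebraMap R' S')]
    [Module.Finite S M] (hI : I ≠ ⊤) [Module.Flat (R ⧸ I) ((R ⧸ I) ⊗[R] M)]
    (h3 : ∀ x : ↥I ⊗[R] M, (Submodule.subtype I).rTensor M x = 0 →
      (TensorProduct.mapOfCompatibleSMul R' R R ↥(I.map (algebraMap R R')) M')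
        ((TensorProduct.map (Algebra.idealMap R' I) (f.restrictScalars R)) x) = 0) :
    Module.Flat R' M' := by
  haveI : Module.Finite S' M' := Module.Finite.equiv hf.equiv
  haveI := flat_quot_M' R S R' S' hφ W I M M' f hf
  exact flat_of_rTensor_injective_of_flat_quotient (S := S') (I.map (algebraMap R R'))
    (map_ne_top_of_isLocalHom _ (map_ne_top_of_isLocalHom I hI))
    (main_inj R S R' S' hφ W I M M' f hf h3)

end Final2

end Groth.Agent.Lib.Helper4.FlatBC1
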