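import Mathlib
import Groth.Prelude.Def_BlowUp2
import Groth.Agent.Lib.Helper4.EffCartier
import Groth.Agent.Lib.Helper4.StalkEtale1

/-!
# flatness along a relative effective Cartier divisor (S8849) (helper4)
-/

set_option backward.isDefEq.respectTransparency.types false
set_option synthInstance.maxHeartbeats 400000
set_option autoImplicit false
set_option linter.unusedSectionVars false
set_option linter.style.haveILetI false
set_option linter.unusedSimpArgs false
universe u v w
open CategoryTheory CategoryTheory.Limits AlgebraicGeometry TopologicalSpace IsLocalRing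
open scoped TensorProduct

namespace Groth.Agent.Lib.Helper4.RelEffCartierFlat1

theorem lTensor_injective_aux {R : Type*} [CommRing R] {M₁ M₂ M₃ N₁ N₂ N₃ : Type*}
    [AddCommGroup M₁] [Module R M₁] [AddCommGroup M₂] [Module R M₂] [AddCommGroup M₃] [Module R M₃]
    [AddCommGroup N₁] [Module R N₁] [AddCommGroup N₂] [Module R N₂] [AddCommGroup N₃] [Module R N₃]
    (f₁ : M₁ →ₗ[R] M₂) (f₂ : M₂ →ₗ[R] M₃) (g₁ : N₁ →ₗ[R] N₂) (g₂ : N₂ →ₗ[R] N₃)
    (hfexact : Function.Exact f₁ f₂) (hfsurj : Function.Surjective f₂) (hfinj : Function.Injective f₁)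
    (hgexact : Function.Exact g₁ g₂) (hgsurj : Function.Surjective g₂) (hginj : Function.Injective g₁)
    [Module.Flat R N₃] [Module.Flat R M₂] :
    Function.Injective (g₁.lTensor M₃) :=
  lTensor_injective_of_exact_of_exact_of_rTensor_injective hfexact hfsurj hgexact hgsurj
    (Module.Flat.rTensor_preserves_injective_linearMap f₁ hfinj)
    (Module.Flat.lTensor_preserves_injective_linearMap g₁ hginj)

/-- if the cokernel of an injection is flat, the injection is universally injective -/
theorem lTensor_injective_of_flat_coker {R : Type u} [CommRing R] {N₁ N₂ N₃ : Type v}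
    [AddCommGroup N₁] [Module R N₁] [AddCommGroup N₂] [Module R N₂] [AddCommGroup N₃] [Module R N₃]
    (g₁ : N₁ →ₗ[R] N₂) (g₂ : N₂ →ₗ[R] N₃) (hex : Function.Exact g₁ g₂)
    (hsurj : Function.Surjective g₂) (hinj : Function.Injective g₁) [Module.Flat R N₃]
    (M : Type w) [AddCommGroup M] [Module R M] : Function.Injective (g₁.lTensor M) := by
  have h0 : Function.Injective (LinearMap.ker (Finsupp.linearCombination R (id : M → M))).subtype :=
    Submodule.injective_subtype _
  have h1 : Function.Exact (LinearMap.ker (Finsupp.linearCombination R (id : M → M))).subtype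
      (Finsupp.linearCombination R (id : M → M)) := LinearMap.exact_subtype_ker_map _
  have := @lTensor_injective_aux R _ (LinearMap.ker (Finsupp.linearCombination R (id : M → M))) (M →₀ R) M N₁ N₂ N₃ _ _ _ _ _ _ _ _ _ _ _ _ (LinearMap.ker (Finsupp.linearCombination R (id : M → M))).subtype
    (Finsupp.linearCombination R (id : M → M)) g₁ g₂ h1 (Finsupp.linearCombination_id_surjective R M) h0 hex hsurj hinj
  exact this


theorem flat_of_nzd_algebra {A B : Type u} [CommRing A] [CommRing B] [Algebra A B] (g : B)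
    (hg : g ∈ nonZeroDivisors B) [Module.Flat A (B ⧸ Ideal.span {g})]
    (h : ∀ (q : Ideal B) [q.IsPrime], g ∉ q → Module.Flat A (Localization.AtPrime q)) :
    Module.Flat A B := by
  rw [Module.Flat.iff_lTensor_injective']
  intro I
  let mg : B →ₗ[A] B := LinearMap.mulLeft A g
  have hmg : Function.Injective mg := fun a b hab =>
    (mul_cancel_left_mem_nonZeroDivisors hg).mp hab
  have hex : Function.Exact mg (Ideal.Quotient.mkₐ A (Ideal.span {g})).toLinearMap := by
    intro b
    constructor
    · intro hb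
      have : b ∈ Ideal.span {g} := Ideal.Quotient.eq_zero_iff_mem.mp hb
      obtain ⟨c, rfl⟩ := Ideal.mem_span_singleton'.mp this
      exact ⟨c, mul_comm _ _⟩
    · rintro ⟨c, rfl⟩
      exact Ideal.Quotient.eq_zero_iff_mem.mpr (Ideal.mul_mem_right _ _ (Ideal.mem_span_singleton_self g))
  have hpure : Function.Injective (mg.rTensor I) := by
    rw [← LinearMap.lTensor_inj_iff_rTensor_inj]
    exact lTensor_injective_of_flat_coker mg _ hex Ideal.Quotient.mk_surjective hmg I
  have hsm : ∀ (t : B ⊗[A] I), g • t = mg.rTensor I t := by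
    intro t
    induction t using TensorProduct.induction_on with
    | zero => simp
    | tmul b i => simp [mg, TensorProduct.smul_tmul']
    | add x y hx hy => rw [smul_add, hx, hy, map_add]
  rw [injective_iff_map_eq_zero]
  intro k hk
  let J : Ideal B := (Submodule.span B {k}).annihilator
  have hgJ : g ∈ J.radical := by
    rw [Ideal.radical_eq_sInf, Ideal.mem_sInf]
    rintro (q : Ideal B) ⟨hJq, hq⟩
    by_contra hgq
    haveI := hq
    have hfl := h q hgq
    let loc : B →ₗ[B] Localization.AtPrime q := Algebra.linearMap B _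
    have hk' : TensorProduct.AlgebraTensorModule.rTensor A I loc k = 0 := by
      have hinj : Function.Injective (I.subtype.lTensor (Localization.AtPrime q)) :=
        Module.Flat.lTensor_preserves_injective_linearMap _ Subtype.val_injective
      apply hinj
      rw [map_zero]
      have e1 : TensorProduct.AlgebraTensorModule.rTensor A I loc k =
          (loc.restrictScalars A).rTensor I k := rfl
      rw [e1, ← LinearMap.comp_apply, LinearMap.lTensor_comp_rTensor, ← LinearMap.rTensor_comp_lTensor,
        LinearMap.comp_apply, hk, map_zero]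
    obtain ⟨s, hs⟩ := (IsLocalizedModule.eq_zero_iff q.primeCompl
      (TensorProduct.AlgebraTensorModule.rTensor A I loc)).mp hk'
    have hsJ : s.1 ∈ J := by
      rw [Submodule.mem_annihilator_span_singleton]
      exact hs
    exact s.2 (hJq hsJ)
  obtain ⟨n, hn⟩ := hgJ
  have hn' : g ^ n • k = 0 := by
    have := (Submodule.mem_annihilator_span_singleton _ _).mp hn
    exact this
  clear hn
  induction n with
  | zero => simpa using hn'
  | succ n ih =>
    apply ih
    apply hpure
    rw [map_zero, ← hsm, smul_smul, ← pow_succ']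
    exact hn'


theorem ringHom_flat_of_nzd {A B C : Type u} [CommRing A] [CommRing B] [CommRing C] (φ : A →+* B)
    (π : B →+* C) (hπ : Function.Surjective π) (g : B) (hg : g ∈ nonZeroDivisors B)
    (hker : RingHom.ker π = Ideal.span {g}) (h1 : (π.comp φ).Flat)
    (h2 : ∀ (q : Ideal B) [q.IsPrime], g ∉ q →
      (Localization.localRingHom (q.comap φ) q φ rfl).Flat) : φ.Flat := by
  algebraize [φ]
  haveI : Module.Flat A (B ⧸ Ideal.span {g}) := by
    rw [← RingHom.flat_algebraMap_iff]
    let e : (B ⧸ Ideal.span {g}) ≃+* C :=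
      (Ideal.quotEquivOfEq hker.symm).trans (RingHom.quotientKerEquivOfSurjective hπ)
    have : algebraMap A (B ⧸ Ideal.span {g}) = e.symm.toRingHom.comp (π.comp φ) := by
      ext a
      apply e.injective
      simp [e]
      rfl
    rw [this]
    exact RingHom.Flat.respectsIso.1 _ e.symm h1
  show Module.Flat A B
  apply flat_of_nzd_algebra g hg
  intro q _ hgq
  have h3 := h2 q hgq
  algebraize_only [Localization.localRingHom (Ideal.comap φ q) q φ rfl]
  have : IsScalarTower A (Localization.AtPrime (Ideal.comap φ q)) (Localization.AtPrime q) :=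
    .of_algebraMap_eq fun x ↦ (Localization.localRingHom_to_map _ _ _ rfl x).symm
  have h : Module.Flat (Localization.AtPrime (Ideal.comap φ q)) (Localization.AtPrime q) := h3
  exact Module.Flat.trans A (Localization.AtPrime <| Ideal.comap φ q) (Localization.AtPrime q)



theorem flat_localRingHom_congr {A B : Type u} [CommRing A] [CommRing B] (φ : A →+* B)
    (P : Ideal B) [P.IsPrime] (Q : Ideal A) [Q.IsPrime] (hQP : Q = Ideal.comap φ P) :
    (Localization.localRingHom Q P φ hQP).Flat ↔
      (Localization.localRingHom (Ideal.comap φ P) P φ rfl).Flat := by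
  subst hQP; rfl

theorem flat_stalkMap_iff {X S : Scheme.{u}} (f : X ⟶ S) {x : X} (V : S.Opens)
    (hV : IsAffineOpen V) (U : X.Opens) (hU : IsAffineOpen U) (hUV : U ≤ f ⁻¹ᵁ V) (hx : x ∈ U) :
    (f.stalkMap x).hom.Flat ↔
      (Localization.localRingHom
        (Ideal.comap (f.appLE V U hUV).hom (hU.primeIdealOf ⟨x, hx⟩).asIdeal)
        (hU.primeIdealOf ⟨x, hx⟩).asIdeal (f.appLE V U hUV).hom rfl).Flat := by
  rw [← flat_localRingHom_congr _ _ _
    (congr($(IsAffineOpen.comap_primeIdealOf_appLE V hV U hU hUV hx).1).symm)]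
  exact RingHom.Flat.respectsIso.arrow_mk_iso_iff (IsAffineOpen.arrowStalkMapIso f V hV U hU hUV hx)

theorem S8849_main {X S : Scheme.{u}} (f : X ⟶ S) (𝓘 : X.IdealSheafData)
    (hD : BlowUp.IsEffCartierIdeal 𝓘 ∧ Flat (𝓘.subschemeι ≫ f))
    (hflat : ∀ x : ↥X, x ∉ 𝓘.support → (f.stalkMap x).hom.Flat) : Flat f := by
  apply Flat.of_stalkMap
  intro x
  by_cases hxs : x ∈ 𝓘.support; swap
  · exact hflat x hxs
  obtain ⟨_, ⟨V, hV, rfl⟩, hxV, -⟩ :=
    S.isBasis_affineOpens.exists_subset_of_mem_open (Set.mem_univ (f x)) isOpen_univ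
  obtain ⟨U, hxU, hUV, g, hg, hI⟩ := Groth.Agent.Helper4.EffCartier.shrink hD.1 x (f ⁻¹ᵁ V) hxV
  rw [flat_stalkMap_iff f V hV U.1 U.2 hUV hxU]
  apply RingHom.Flat.localRingHom
  have haff : IsAffineOpen (𝓘.subschemeι ⁻¹ᵁ U.1) := U.2.preimage 𝓘.subschemeι
  have hle : 𝓘.subschemeι ⁻¹ᵁ U.1 ≤ (𝓘.subschemeι ≫ f) ⁻¹ᵁ V := by
    intro z hz
    exact hUV hz
  have h1 := HasRingHomProperty.appLE (P := @Flat) (𝓘.subschemeι ≫ f) hD.2 ⟨V, hV⟩ ⟨_, haff⟩ hle
  refine ringHom_flat_of_nzd (f.appLE V U.1 hUV).hom (𝓘.subschemeι.app U.1).hom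
    (𝓘.subschemeι_app_surjective U) g hg (by rw [𝓘.ker_subschemeι_app U, hI]) ?_ ?_
  · convert h1 using 1
    rw [← CommRingCat.hom_comp, Scheme.Hom.app_eq_appLE, Scheme.Hom.appLE_comp_appLE]
  · intro q _ hgq
    let P : PrimeSpectrum Γ(X, U.1) := ⟨q, inferInstance⟩
    let x' : X := U.2.fromSpec P
    have hU : IsAffineOpen U.1 := U.2
    have hx'U : x' ∈ U.1 := by
      rw [← SetLike.mem_coe, ← hU.range_fromSpec]
      exact ⟨P, rfl⟩
    have hP : U.2.primeIdealOf ⟨x', hx'U⟩ = P := by
      apply U.2.fromSpec.isOpenEmbedding.injective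
      exact U.2.fromSpec_primeIdealOf ⟨x', hx'U⟩
    have hx's : x' ∉ 𝓘.support := by
      rw [← Groth.Agent.Helper4.EffCartier.mem_basicOpen_iff_not_mem_support U g hI x' hx'U,
        Groth.Agent.Lib.Helper4.StalkEtale1.mem_basicOpen_iff_notMem_primeIdealOf hU g x' hx'U, hP]
      exact hgq
    have key := (flat_stalkMap_iff f V hV U.1 U.2 hUV hx'U).mp (hflat x' hx's)
    rw [hP] at key
    exact key


end Groth.Agent.Lib.Helper4.RelEffCartierFlat1
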