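import Mathlib
import Groth.Agent.Lib.Lead.FB1
import Groth.Agent.Lib.Lead.BCU3

/-!
# Sections of a pullback module over a chart of a cartesian square are a base change along the bases (helper4)
-/

set_option backward.isDefEq.respectTransparency.types false
set_option synthInstance.maxHeartbeats 400000
set_option autoImplicit false
set_option linter.unusedSectionVars false
set_option linter.style.haveILetI false
set_option linter.unusedSimpArgs false
universe u v w
open CategoryTheory CategoryTheory.Limits AlgebraicGeometry TopologicalSpace Topology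

namespace Groth.Agent.Lib.Helper4.LimFlatA

open TensorProduct Scheme.Modules Groth.Agent.Lead.FO Groth.Agent.Lead.SD Groth.Agent.Lead.FB
  Groth.Agent.Lead.BCU

variable {X S X' S' : Scheme.{u}} {f : X ⟶ S} {f' : X' ⟶ S'} {g' : X' ⟶ X} {g : S' ⟶ S}

set_option maxHeartbeats 1600000 in
/-- sections of the pullback over a chart of a cartesian square are the base change, along the
map of the bases, of the sections over the chart below -/
theorem nonempty_sections_equiv (hc : IsPullback g' f' f g) (F : X.Modules) [F.IsQuasicoherent]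
    {US : S.Opens} {UT : S'.Opens} {UX : X.Opens}
    (hUS : IsAffineOpen US) (hUT : IsAffineOpen UT) (hUX : IsAffineOpen UX)
    (hUST : UT ≤ g ⁻¹ᵁ US) (hUSX : UX ≤ f ⁻¹ᵁ US) {UY : X'.Opens}
    (hUY : UY = g' ⁻¹ᵁ UX ⊓ f' ⁻¹ᵁ UT) (hYT : UY ≤ f' ⁻¹ᵁ UT) :
    letI a1 : Algebra Γ(S, US) Γ(S', UT) := (g.appLE US UT hUST).hom.toAlgebra
    letI m1 := sectionsOver f F hUSX
    letI m2 := sectionsOver f' ((Scheme.Modules.pullback g').obj F) hYT
    Nonempty (Γ((Scheme.Modules.pullback g').obj F, UY) ≃ₗ[Γ(S', UT)]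
      Γ(S', UT) ⊗[Γ(S, US)] Γ(F, UX)) := by
  have hUYa : IsAffineOpen UY := chart_affine hc hUS hUT hUX hUST hUSX hUY
  have hYX : UY ≤ g' ⁻¹ᵁ UX := by rw [hUY]; exact inf_le_left
  have hpo := chart_isPushout hc hUS hUT hUX hUST hUSX hUY hYX hYT
  letI a1 : Algebra Γ(S, US) Γ(S', UT) := (g.appLE US UT hUST).hom.toAlgebra
  letI a2 : Algebra Γ(S, US) Γ(X, UX) := (f.appLE US UX hUSX).hom.toAlgebra
  letI a3 : Algebra Γ(S', UT) Γ(X', UY) := (f'.appLE UT UY hYT).hom.toAlgebra
  letI a4 : Algebra Γ(X, UX) Γ(X', UY) := (g'.appLE UX UY hYX).hom.toAlgebra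
  letI a5 : Algebra Γ(S, US) Γ(X', UY) :=
    ((g'.appLE UX UY hYX).hom.comp (f.appLE US UX hUSX).hom).toAlgebra
  haveI t1 : IsScalarTower Γ(S, US) Γ(X, UX) Γ(X', UY) := .of_algebraMap_eq' rfl
  haveI t2 : IsScalarTower Γ(S, US) Γ(S', UT) Γ(X', UY) := .of_algebraMap_eq' (by
    show (g'.appLE UX UY hYX).hom.comp (f.appLE US UX hUSX).hom =
      (f'.appLE UT UY hYT).hom.comp (g.appLE US UT hUST).hom
    have := congrArg CommRingCat.Hom.hom hpo.w
    simpa using this)
  haveI po : Algebra.IsPushout Γ(S, US) Γ(S', UT) Γ(X, UX) Γ(X', UY) := by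
    have hpo' : IsPushout (CommRingCat.ofHom (algebraMap Γ(S, US) Γ(X, UX)))
        (CommRingCat.ofHom (algebraMap Γ(S, US) Γ(S', UT)))
        (CommRingCat.ofHom (algebraMap Γ(X, UX) Γ(X', UY)))
        (CommRingCat.ofHom (algebraMap Γ(S', UT) Γ(X', UY))) := hpo
    exact (CommRingCat.isPushout_iff_isPushout.1 hpo').symm
  letI m1 : Module Γ(S, US) Γ(F, UX) := sectionsOver f F hUSX
  letI m2 : Module Γ(S', UT) Γ((Scheme.Modules.pullback g').obj F, UY) :=
    sectionsOver f' ((Scheme.Modules.pullback g').obj F) hYT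
  haveI t3 : IsScalarTower Γ(S, US) Γ(X, UX) Γ(F, UX) :=
    IsScalarTower.of_algebraMap_smul fun r m => rfl
  haveI t4 : IsScalarTower Γ(S', UT) Γ(X', UY) Γ((Scheme.Modules.pullback g').obj F, UY) :=
    IsScalarTower.of_algebraMap_smul fun r m => rfl
  letI m3 : Module Γ(X, UX) Γ((Scheme.Modules.pullback g').obj F, UY) :=
    Module.compHom _ (g'.appLE UX UY hYX).hom
  haveI t5 : IsScalarTower Γ(X, UX) Γ(X', UY) Γ((Scheme.Modules.pullback g').obj F, UY) :=
    ⟨fun a a' n => by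
      change ((g'.appLE UX UY hYX).hom a * a') • n = (g'.appLE UX UY hYX).hom a • a' • n
      exact mul_smul _ _ _⟩
  obtain ⟨l', hl', hb⟩ := isBC_unitRes g' F hUX hUYa hYX
  exact ⟨(hb.equiv.symm.restrictScalars Γ(S', UT)) ≪≫ₗ
    Algebra.IsPushout.cancelBaseChange Γ(S, US) Γ(S', UT) Γ(X, UX) Γ(X', UY) Γ(F, UX)⟩

set_option maxHeartbeats 1600000 in
/-- flatness over the upper base of the sections of the pullback over a chart, in terms of the
base change of the sections below -/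
theorem flat_sections_iff (hc : IsPullback g' f' f g) (F : X.Modules) [F.IsQuasicoherent]
    {US : S.Opens} {UT : S'.Opens} {UX : X.Opens}
    (hUS : IsAffineOpen US) (hUT : IsAffineOpen UT) (hUX : IsAffineOpen UX)
    (hUST : UT ≤ g ⁻¹ᵁ US) (hUSX : UX ≤ f ⁻¹ᵁ US) {UY : X'.Opens}
    (hUY : UY = g' ⁻¹ᵁ UX ⊓ f' ⁻¹ᵁ UT) (hYT : UY ≤ f' ⁻¹ᵁ UT) :
    letI a1 : Algebra Γ(S, US) Γ(S', UT) := (g.appLE US UT hUST).hom.toAlgebra
    letI m1 := sectionsOver f F hUSX
    letI m2 := sectionsOver f' ((Scheme.Modules.pullback g').obj F) hYT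
    Module.Flat Γ(S', UT) Γ((Scheme.Modules.pullback g').obj F, UY) ↔
      Module.Flat Γ(S', UT) (Γ(S', UT) ⊗[Γ(S, US)] Γ(F, UX)) := by
  letI a1 : Algebra Γ(S, US) Γ(S', UT) := (g.appLE US UT hUST).hom.toAlgebra
  letI m1 := sectionsOver f F hUSX
  letI m2 := sectionsOver f' ((Scheme.Modules.pullback g').obj F) hYT
  obtain ⟨e⟩ := nonempty_sections_equiv hc F hUS hUT hUX hUST hUSX hUY hYT
  exact ⟨fun _ => Module.Flat.of_linearEquiv e.symm, fun _ => Module.Flat.of_linearEquiv e⟩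

end Groth.Agent.Lib.Helper4.LimFlatA
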