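import Mathlib
import Groth.Agent.Lib.Helper3.ColimFlat12

/-!
# Descent of flatness to a stage of a filtered colimit of rings indexed by a category (helper4)
-/

set_option backward.isDefEq.respectTransparency.types false
set_option synthInstance.maxHeartbeats 400000
set_option autoImplicit false
set_option linter.unusedSectionVars false
set_option linter.style.haveILetI false
set_option linter.unusedSimpArgs false
universe u v w
open CategoryTheory CategoryTheory.Limits AlgebraicGeometry TopologicalSpace Topology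

namespace Groth.Agent.Lib.Helper4.LimFlatB

open TensorProduct

/-- flatness of a finitely presented module descends to a stage of a filtered colimit of rings,
the colimit being given by a family of rings indexed by a small filtered category -/
theorem exists_stage_flat_of_filtered {J : Type u} [SmallCategory J] [IsFiltered J]
    (R : J → Type u) [∀ j, CommRing (R j)] (ρ : ∀ {j j' : J}, (j ⟶ j') → R j →+* R j')
    (hρ1 : ∀ j, ρ (𝟙 j) = RingHom.id _)
    (hρ2 : ∀ {j j' j'' : J} (f : j ⟶ j') (g : j' ⟶ j''), ρ (f ≫ g) = (ρ g).comp (ρ f))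
    {A₀ A : Type u} [CommRing A₀] [CommRing A] [Algebra A₀ A]
    (τ : ∀ j, A₀ →+* R j) (hτ : ∀ {j j' : J} (f : j ⟶ j'), (ρ f).comp (τ j) = τ j')
    (ν : ∀ j, R j →+* A) (hν : ∀ {j j' : J} (f : j ⟶ j'), (ν j').comp (ρ f) = ν j)
    (hντ : ∀ j, (ν j).comp (τ j) = algebraMap A₀ A)
    (hsurj : ∀ a : A, ∃ (j : J) (x : R j), ν j x = a)
    (hker : ∀ (j : J) (x : R j), ν j x = 0 → ∃ (j' : J) (f : j ⟶ j'), ρ f x = 0)
    {B₀ : Type u} [CommRing B₀] [Algebra A₀ B₀] [Algebra.FinitePresentation A₀ B₀]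
    (M₀ : Type u) [AddCommGroup M₀] [Module B₀ M₀] [Module A₀ M₀] [IsScalarTower A₀ B₀ M₀]
    [Module.FinitePresentation B₀ M₀]
    (hflat : Module.Flat A (A ⊗[A₀] M₀)) :
    ∃ j, letI := (τ j).toAlgebra; Module.Flat (R j) (R j ⊗[A₀] M₀) := by
  obtain ⟨α, _, hdir, hne, Φ, hΦ⟩ := IsFiltered.exists_directed J
  obtain ⟨hF1, hF2⟩ := (Functor.final_iff_of_isFiltered Φ).1 hΦ
  letI algG : ∀ x : α, Algebra A₀ (R (Φ.obj x)) := fun x => (τ (Φ.obj x)).toAlgebra
  letI algA : ∀ x : α, Algebra (R (Φ.obj x)) A := fun x => (ν (Φ.obj x)).toAlgebra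
  haveI tw : ∀ x : α, IsScalarTower A₀ (R (Φ.obj x)) A := fun x =>
    IsScalarTower.of_algebraMap_eq' (hντ (Φ.obj x)).symm
  let g : ∀ x y : α, x ≤ y → R (Φ.obj x) →ₐ[A₀] R (Φ.obj y) := fun x y h =>
    { toRingHom := ρ (Φ.map (homOfLE h))
      commutes' := fun r => by
        have := congrArg (fun φ : A₀ →+* R (Φ.obj y) => φ r) (hτ (Φ.map (homOfLE h)))
        exact this }
  have hcolim : FlatCA.IsDirectedColimitRing (fun x : α => R (Φ.obj x))
      (fun x y h => (g x y h).toRingHom) A := by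
    refine ⟨hdir, hne, ?_, ?_, ?_, ?_, ?_⟩
    · intro x
      show ρ (Φ.map (homOfLE le_rfl)) = RingHom.id _
      have : Φ.map (homOfLE (le_refl x)) = 𝟙 _ := by
        rw [show homOfLE (le_refl x) = 𝟙 x from rfl, Φ.map_id]
      rw [this, hρ1]
    · intro x y z hxy hyz
      show (ρ (Φ.map (homOfLE hyz))).comp (ρ (Φ.map (homOfLE hxy))) =
        ρ (Φ.map (homOfLE (hxy.trans hyz)))
      rw [← hρ2, ← Φ.map_comp]
      rfl
    · intro x y h
      exact hν (Φ.map (homOfLE h))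
    · intro a
      obtain ⟨j, r, hr⟩ := hsurj a
      obtain ⟨x, ⟨s⟩⟩ := hF1 j
      refine ⟨x, ρ s r, ?_⟩
      show ν (Φ.obj x) (ρ s r) = a
      rw [← hr, ← hν s]
      rfl
    · intro x r hr
      obtain ⟨j', f, hf⟩ := hker (Φ.obj x) r hr
      obtain ⟨y, ⟨s⟩⟩ := hF1 j'
      obtain ⟨z, hxz, hyz⟩ := hdir.directed x y
      obtain ⟨w, t, ht⟩ := hF2 ((f ≫ s) ≫ Φ.map (homOfLE hyz)) (Φ.map (homOfLE hxz))
      refine ⟨w, hxz.trans (leOfHom t), ?_⟩
      show ρ (Φ.map (homOfLE (hxz.trans (leOfHom t)))) r = 0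
      have e1 : Φ.map (homOfLE (hxz.trans (leOfHom t))) = Φ.map (homOfLE hxz) ≫ Φ.map t := by
        rw [← Φ.map_comp]
        rfl
      rw [e1, ← ht, hρ2, hρ2, hρ2]
      simp only [RingHom.comp_apply, hf, map_zero]
  obtain ⟨x, hx⟩ := (Groth.Agent.Helper3.ColimFlat.S4848_main (fun x : α => R (Φ.obj x)) g A hcolim
    (B₀ := B₀) M₀).1 hflat
  exact ⟨Φ.obj x, hx⟩

/-- flatness at a stage passes to all later stages -/
theorem stage_flat_mono {J : Type u} [SmallCategory J]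
    (R : J → Type u) [∀ j, CommRing (R j)] (ρ : ∀ {j j' : J}, (j ⟶ j') → R j →+* R j')
    {A₀ : Type u} [CommRing A₀]
    (τ : ∀ j, A₀ →+* R j) (hτ : ∀ {j j' : J} (f : j ⟶ j'), (ρ f).comp (τ j) = τ j')
    (M₀ : Type u) [AddCommGroup M₀] [Module A₀ M₀] {j j' : J} (f : j ⟶ j')
    (h : letI := (τ j).toAlgebra; Module.Flat (R j) (R j ⊗[A₀] M₀)) :
    letI := (τ j').toAlgebra; Module.Flat (R j') (R j' ⊗[A₀] M₀) := by
  letI a1 : Algebra A₀ (R j) := (τ j).toAlgebra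
  letI a2 : Algebra A₀ (R j') := (τ j').toAlgebra
  letI a3 : Algebra (R j) (R j') := (ρ f).toAlgebra
  haveI : IsScalarTower A₀ (R j) (R j') := IsScalarTower.of_algebraMap_eq' (hτ f).symm
  haveI := h
  exact Module.Flat.of_linearEquiv
    (AlgebraTensorModule.cancelBaseChange A₀ (R j) (R j') (R j') M₀).symm

/-- flatness of a finitely presented module descends to all late stages of a filtered colimit -/
theorem exists_stage_flat_of_filtered' {J : Type u} [SmallCategory J] [IsFiltered J]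
    (R : J → Type u) [∀ j, CommRing (R j)] (ρ : ∀ {j j' : J}, (j ⟶ j') → R j →+* R j')
    (hρ1 : ∀ j, ρ (𝟙 j) = RingHom.id _)
    (hρ2 : ∀ {j j' j'' : J} (f : j ⟶ j') (g : j' ⟶ j''), ρ (f ≫ g) = (ρ g).comp (ρ f))
    {A₀ A : Type u} [CommRing A₀] [CommRing A] [Algebra A₀ A]
    (τ : ∀ j, A₀ →+* R j) (hτ : ∀ {j j' : J} (f : j ⟶ j'), (ρ f).comp (τ j) = τ j')
    (ν : ∀ j, R j →+* A) (hν : ∀ {j j' : J} (f : j ⟶ j'), (ν j').comp (ρ f) = ν j)
    (hντ : ∀ j, (ν j).comp (τ j) = algebraMap A₀ A)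
    (hsurj : ∀ a : A, ∃ (j : J) (x : R j), ν j x = a)
    (hker : ∀ (j : J) (x : R j), ν j x = 0 → ∃ (j' : J) (f : j ⟶ j'), ρ f x = 0)
    {B₀ : Type u} [CommRing B₀] [Algebra A₀ B₀] [Algebra.FinitePresentation A₀ B₀]
    (M₀ : Type u) [AddCommGroup M₀] [Module B₀ M₀] [Module A₀ M₀] [IsScalarTower A₀ B₀ M₀]
    [Module.FinitePresentation B₀ M₀]
    (hflat : Module.Flat A (A ⊗[A₀] M₀)) :
    ∃ j, ∀ (j' : J) (_ : j ⟶ j'), letI := (τ j').toAlgebra; Module.Flat (R j') (R j' ⊗[A₀] M₀) := by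
  obtain ⟨j, hj⟩ := exists_stage_flat_of_filtered R ρ hρ1 hρ2 τ hτ ν hν hντ hsurj hker
    (B₀ := B₀) M₀ hflat
  exact ⟨j, fun j' f => stage_flat_mono R ρ τ hτ M₀ f hj⟩

end Groth.Agent.Lib.Helper4.LimFlatB
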