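import Mathlib
import Groth.Agent.Lib.Helper7.LimSec
import Groth.Agent.Lib.Helper4.LimFlatB

/-!
# Descent of flatness to a stage of a cofiltered limit of schemes: rings of sections form (helper4)
-/

set_option backward.isDefEq.respectTransparency.types false
set_option synthInstance.maxHeartbeats 400000
set_option autoImplicit false
set_option linter.unusedSectionVars false
set_option linter.style.haveILetI false
set_option linter.unusedSimpArgs false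
universe u v w
open CategoryTheory CategoryTheory.Limits AlgebraicGeometry TopologicalSpace Topology

namespace Groth.Agent.Lib.Helper4.LimFlatC

open TensorProduct Opposite

variable {K : Type u} [SmallCategory K] [IsCofiltered K] (E : K ⥤ Scheme.{u}) (cE : Cone E)
  (hcE : IsLimit cE) [∀ {i j : K} (φ : i ⟶ j), IsAffineHom (E.map φ)]

include hcE in
/-- sections over an open of the limit which is the preimage of an affine open of a stage come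
from a later stage (flexible in the opens) -/
theorem exists_appLE_eq' (k₀ : K) (U : (E.obj k₀).Opens) (hU : IsAffineOpen U)
    (O : cE.pt.Opens) (hO : O = cE.π.app k₀ ⁻¹ᵁ U) (s : Γ(cE.pt, O)) :
    ∃ (j : K) (φ : j ⟶ k₀), ∀ (Oj : (E.obj j).Opens) (_ : Oj = E.map φ ⁻¹ᵁ U)
      (hle : O ≤ cE.π.app j ⁻¹ᵁ Oj), ∃ s' : Γ(E.obj j, Oj), (cE.π.app j).appLE Oj O hle s' = s := by
  subst hO
  obtain ⟨j, φ, s', hs'⟩ := Groth.Agent.Helper7.LimSec.exists_appLE_π_eq E cE hcE k₀ U hU s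
  refine ⟨j, φ, fun Oj hOj hle => ?_⟩
  subst hOj
  exact ⟨s', hs'⟩

include hcE in
/-- a section over a compact open of a stage vanishing on the limit vanishes at a later stage
(flexible in the opens) -/
theorem exists_appLE_eq_zero' (k : K) (U : (E.obj k).Opens) (hU : IsCompact (X := E.obj k) U)
    (O : cE.pt.Opens) (hO : O = cE.π.app k ⁻¹ᵁ U) (hle : O ≤ cE.π.app k ⁻¹ᵁ U)
    (s : Γ(E.obj k, U)) (hs : (cE.π.app k).appLE U O hle s = 0) :
    ∃ (j : K) (φ : j ⟶ k), ∀ (Oj : (E.obj j).Opens) (_ : Oj = E.map φ ⁻¹ᵁ U)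
      (hle' : Oj ≤ E.map φ ⁻¹ᵁ U), (E.map φ).appLE U Oj hle' s = 0 := by
  subst hO
  have hs' : (cE.π.app k).app U s = 0 := by
    rw [Scheme.Hom.app_eq_appLE]
    exact hs
  obtain ⟨j, φ, hj⟩ := exists_app_map_eq_zero_of_isLimit E cE hcE hU s hs'
  refine ⟨j, φ, fun Oj hOj hle' => ?_⟩
  subst hOj
  rw [Scheme.Hom.app_eq_appLE] at hj
  exact hj

variable {Y₀ : Scheme.{u}} (a : ∀ k, E.obj k ⟶ Y₀)
  (ha : ∀ {i j : K} (φ : i ⟶ j), E.map φ ≫ a j = a i) [∀ k, IsAffineHom (a k)]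
  (b : cE.pt ⟶ Y₀) (hb : ∀ k, cE.π.app k ≫ a k = b)

omit [IsCofiltered K] [∀ {i j : K} (φ : i ⟶ j), IsAffineHom (E.map φ)] [∀ k, IsAffineHom (a k)] in
include ha in
theorem stage_le {i j : K} (φ : i ⟶ j) (V₀ : Y₀.Opens) :
    a i ⁻¹ᵁ V₀ ≤ E.map φ ⁻¹ᵁ (a j ⁻¹ᵁ V₀) := by
  rw [← Scheme.Hom.comp_preimage, ha φ]

omit [IsCofiltered K] [∀ {i j : K} (φ : i ⟶ j), IsAffineHom (E.map φ)] [∀ k, IsAffineHom (a k)] in
include hb in
theorem lim_le (k : K) (V₀ : Y₀.Opens) :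
    b ⁻¹ᵁ V₀ ≤ cE.π.app k ⁻¹ᵁ (a k ⁻¹ᵁ V₀) := by
  rw [← Scheme.Hom.comp_preimage, hb k]

set_option maxHeartbeats 1600000 in
include hcE ha hb in
/-- **flatness descends to a stage, rings of sections form**: for a cofiltered limit of schemes
`E` over `Y₀` (affine structure maps), an affine open `V₀` of `Y₀` and a finitely presented module
`M₀` over a finitely presented `Γ(Y₀, V₀)`-algebra, flatness of the base change of `M₀` to the
sections of the limit over the preimage of `V₀` implies the same at some stage. -/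
theorem exists_stage_flat_sections {V₀ : Y₀.Opens} (hV₀ : IsAffineOpen V₀)
    {B₀ : Type u} [CommRing B₀] [Algebra Γ(Y₀, V₀) B₀] [Algebra.FinitePresentation Γ(Y₀, V₀) B₀]
    (M₀ : Type u) [AddCommGroup M₀] [Module B₀ M₀] [Module Γ(Y₀, V₀) M₀]
    [IsScalarTower Γ(Y₀, V₀) B₀ M₀] [Module.FinitePresentation B₀ M₀]
    (hflat : letI := (b.appLE V₀ (b ⁻¹ᵁ V₀) le_rfl).hom.toAlgebra
      Module.Flat Γ(cE.pt, b ⁻¹ᵁ V₀) (Γ(cE.pt, b ⁻¹ᵁ V₀) ⊗[Γ(Y₀, V₀)] M₀)) :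
    ∃ k : K, ∀ (k' : K) (_ : k' ⟶ k),
      letI := ((a k').appLE V₀ (a k' ⁻¹ᵁ V₀) le_rfl).hom.toAlgebra
      Module.Flat Γ(E.obj k', a k' ⁻¹ᵁ V₀) (Γ(E.obj k', a k' ⁻¹ᵁ V₀) ⊗[Γ(Y₀, V₀)] M₀) := by
  letI : Algebra Γ(Y₀, V₀) Γ(cE.pt, b ⁻¹ᵁ V₀) := (b.appLE V₀ (b ⁻¹ᵁ V₀) le_rfl).hom.toAlgebra
  have haff : ∀ k, IsAffineOpen (a k ⁻¹ᵁ V₀) := fun k => hV₀.preimage (a k)
  have key := Groth.Agent.Lib.Helper4.LimFlatB.exists_stage_flat_of_filtered' (J := Kᵒᵖ)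
    (fun k => Γ(E.obj k.unop, a k.unop ⁻¹ᵁ V₀))
    (fun {k k'} f => ((E.map f.unop).appLE (a k.unop ⁻¹ᵁ V₀) (a k'.unop ⁻¹ᵁ V₀)
      (stage_le E a ha f.unop V₀)).hom)
    ?_ ?_ (A₀ := Γ(Y₀, V₀)) (A := Γ(cE.pt, b ⁻¹ᵁ V₀))
    (fun k => ((a k.unop).appLE V₀ (a k.unop ⁻¹ᵁ V₀) le_rfl).hom) ?_
    (fun k => ((cE.π.app k.unop).appLE (a k.unop ⁻¹ᵁ V₀) (b ⁻¹ᵁ V₀) (lim_le E cE a b hb k.unop V₀)).hom)
    ?_ ?_ ?_ ?_ (B₀ := B₀) M₀ hflat
  · obtain ⟨k, hk⟩ := key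
    exact ⟨k.unop, fun k' θ => hk (op k') θ.op⟩
  · -- identity
    intro k
    have h1 : E.map (𝟙 k).unop = 𝟙 _ := by
      rw [show (𝟙 k).unop = 𝟙 k.unop from rfl, E.map_id]
    rw [Groth.Agent.Helper7.LimSec.appLE_congr_hom h1, Scheme.Hom.appLE, Scheme.Hom.id_app]
    have h2 := (E.obj (unop k)).presheaf.map_id (op (a (unop k) ⁻¹ᵁ V₀))
    exact congrArg CommRingCat.Hom.hom ((Category.id_comp _).trans h2)
  · -- composition
    intro k k' k'' f g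
    rw [← CommRingCat.hom_comp, Scheme.Hom.appLE_comp_appLE]
    congr 1
    exact Groth.Agent.Helper7.LimSec.appLE_congr_hom (by rw [unop_comp, E.map_comp]) _ _ _
  · -- structure maps
    intro k k' f
    rw [← CommRingCat.hom_comp, Scheme.Hom.appLE_comp_appLE]
    congr 1
    exact Groth.Agent.Helper7.LimSec.appLE_congr_hom (ha f.unop) _ _ _
  · -- cocone
    intro k k' f
    rw [← CommRingCat.hom_comp, Scheme.Hom.appLE_comp_appLE]
    congr 1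
    exact Groth.Agent.Helper7.LimSec.appLE_congr_hom (cE.w f.unop) _ _ _
  · -- cocone on the base
    intro k
    rw [← CommRingCat.hom_comp, Scheme.Hom.appLE_comp_appLE]
    show _ = (b.appLE V₀ (b ⁻¹ᵁ V₀) le_rfl).hom
    congr 1
    exact Groth.Agent.Helper7.LimSec.appLE_congr_hom (hb k.unop) _ _ _
  · -- surjectivity
    intro s
    obtain ⟨k₀⟩ : Nonempty K := IsCofiltered.nonempty
    obtain ⟨j, φ, hj⟩ := exists_appLE_eq' E cE hcE k₀ (a k₀ ⁻¹ᵁ V₀) (haff k₀) (b ⁻¹ᵁ V₀)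
      (by rw [← Scheme.Hom.comp_preimage, hb k₀]) s
    obtain ⟨s', hs'⟩ := hj (a j ⁻¹ᵁ V₀) (by rw [← Scheme.Hom.comp_preimage, ha φ])
      (lim_le E cE a b hb j V₀)
    exact ⟨op j, s', hs'⟩
  · -- kernel
    intro k x hx
    obtain ⟨j, φ, hj⟩ := exists_appLE_eq_zero' E cE hcE k.unop (a k.unop ⁻¹ᵁ V₀)
      (haff k.unop).isCompact (b ⁻¹ᵁ V₀) (by rw [← Scheme.Hom.comp_preimage, hb k.unop])
      (lim_le E cE a b hb k.unop V₀) x hx
    exact ⟨op j, φ.op, hj (a j ⁻¹ᵁ V₀) (by rw [← Scheme.Hom.comp_preimage, ha φ])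
      (stage_le E a ha φ V₀)⟩

end Groth.Agent.Lib.Helper4.LimFlatC
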