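import Mathlib
import Groth.Agent.Lib.Helper4.LimFlatA
import Groth.Agent.Lib.Helper4.LimFlatC
import Groth.Agent.Lib.Lead.PBQc

/-!
# Flatness of a pullback module over a chart descends to a stage of a cofiltered limit (helper4)
-/

set_option backward.isDefEq.respectTransparency.types false
set_option synthInstance.maxHeartbeats 400000
set_option autoImplicit false
set_option linter.unusedSectionVars false
set_option linter.style.haveILetI false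
set_option linter.unusedSimpArgs false
universe u v w
open CategoryTheory CategoryTheory.Limits AlgebraicGeometry TopologicalSpace Topology

namespace Groth.Agent.Lib.Helper4.LimFlatD

open TensorProduct Opposite Scheme.Modules Groth.Agent.Lead.FO Groth.Agent.Lead.SD
  Groth.Agent.Lib.Helper4.LimFlatA Groth.Agent.Lib.Helper4.LimFlatC

variable {K : Type u} [SmallCategory K] [IsCofiltered K] (E : K ⥤ Scheme.{u}) (cE : Cone E)
  (hcE : IsLimit cE) [∀ {i j : K} (φ : i ⟶ j), IsAffineHom (E.map φ)]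
  {Y₀ : Scheme.{u}} (a : ∀ k, E.obj k ⟶ Y₀)
  (ha : ∀ {i j : K} (φ : i ⟶ j), E.map φ ≫ a j = a i) [∀ k, IsAffineHom (a k)]
  (b : cE.pt ⟶ Y₀) (hb : ∀ k, cE.π.app k ≫ a k = b)

include hcE hb in
theorem isAffineHom_b : IsAffineHom b := by
  obtain ⟨k⟩ : Nonempty K := IsCofiltered.nonempty
  haveI : IsAffineHom (cE.π.app k) := isAffineHom_π_app E cE hcE k
  rw [← hb k]
  infer_instance

attribute [local instance] stalkModule

/-- flatness over the base at the points of a chart, from flatness of the sections -/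
theorem isFlatOverAt_of_flat_sections {X S : Scheme.{u}} (f : X ⟶ S) (F : X.Modules)
    [F.IsQuasicoherent] {U : X.Opens} {V : S.Opens} (hU : IsAffineOpen U) (hV : IsAffineOpen V)
    (hUV : U ≤ f ⁻¹ᵁ V)
    (h : @Module.Flat Γ(S, V) Γ(F, U) _ _ (sectionsOver f F hUV)) (x : X) (hx : x ∈ U) :
    FlatMod.IsFlatOverAt f F x :=
  (isFlatOverAt_iff_flat_stalkOver f F hV hUV ⟨x, hx⟩).2
    (flat_stalkOver_of_flat_sectionsOver f F hU hUV ⟨x, hx⟩ h)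

set_option maxHeartbeats 1600000 in
include hcE ha hb in
/-- **Flatness over a chart descends to a stage**: `E` a cofiltered limit over `Y₀` with affine
maps; `f₀ : X₀ ⟶ Y₀`, `F₀` quasi-coherent on `X₀`, `U₀ ⊆ f₀⁻¹ V₀` affine charts with
`Γ(X₀, U₀)` a finitely presented `Γ(Y₀, V₀)`-algebra and `Γ(F₀, U₀)` a finitely presented module.
If the pullback of `F₀` to the limit is flat over the limit at all points over `U₀`, then the
pullback to some stage is flat over that stage at all points over `U₀`. -/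
theorem exists_stage_flat_chart {X₀ : Scheme.{u}} (f₀ : X₀ ⟶ Y₀) (F₀ : X₀.Modules)
    [F₀.IsQuasicoherent] {V₀ : Y₀.Opens} (hV₀ : IsAffineOpen V₀) {U₀ : X₀.Opens}
    (hU₀ : IsAffineOpen U₀) (hUV₀ : U₀ ≤ f₀ ⁻¹ᵁ V₀)
    (hfp : (f₀.appLE V₀ U₀ hUV₀).hom.FinitePresentation)
    (hMfp : Module.FinitePresentation Γ(X₀, U₀) Γ(F₀, U₀))
    {X : Scheme.{u}} (qX : X ⟶ X₀) (f : X ⟶ cE.pt) (hX : IsPullback qX f f₀ b)
    (hflat : ∀ x : X, x ∈ qX ⁻¹ᵁ U₀ →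
      FlatMod.IsFlatOverAt f ((Scheme.Modules.pullback qX).obj F₀) x) :
    ∃ k₁ : K, ∀ (k : K) (_ : k ⟶ k₁) (Xk : Scheme.{u}) (pX : Xk ⟶ X₀) (fk : Xk ⟶ E.obj k)
      (_ : IsPullback pX fk f₀ (a k)) (z : Xk), z ∈ pX ⁻¹ᵁ U₀ →
      FlatMod.IsFlatOverAt fk ((Scheme.Modules.pullback pX).obj F₀) z := by
  haveI hbaff : IsAffineHom b := isAffineHom_b E cE hcE a b hb
  have hV : IsAffineOpen (b ⁻¹ᵁ V₀) := hV₀.preimage b
  haveI : ((Scheme.Modules.pullback qX).obj F₀).IsQuasicoherent :=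
    Groth.Agent.Lead.PB.isQuasicoherent_pullback qX F₀
  obtain ⟨UY, hUYdef⟩ : ∃ UY : X.Opens, UY = qX ⁻¹ᵁ U₀ ⊓ f ⁻¹ᵁ (b ⁻¹ᵁ V₀) := ⟨_, rfl⟩
  have hUYa : IsAffineOpen UY :=
    Groth.Agent.Lead.FB.chart_affine hX hV₀ hV hU₀ le_rfl hUV₀ hUYdef
  have hYT : UY ≤ f ⁻¹ᵁ (b ⁻¹ᵁ V₀) := by rw [hUYdef]; exact inf_le_right
  letI a0 : Algebra Γ(Y₀, V₀) Γ(X₀, U₀) := (f₀.appLE V₀ U₀ hUV₀).hom.toAlgebra
  letI m0 : Module Γ(Y₀, V₀) Γ(F₀, U₀) := sectionsOver f₀ F₀ hUV₀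
  haveI t0 : IsScalarTower Γ(Y₀, V₀) Γ(X₀, U₀) Γ(F₀, U₀) :=
    IsScalarTower.of_algebraMap_smul fun r m => rfl
  haveI : Algebra.FinitePresentation Γ(Y₀, V₀) Γ(X₀, U₀) := hfp
  haveI := hMfp
  -- flatness of the sections on the limit
  have h1 : @Module.Flat Γ(cE.pt, b ⁻¹ᵁ V₀) Γ((Scheme.Modules.pullback qX).obj F₀, UY) _ _
      (sectionsOver f ((Scheme.Modules.pullback qX).obj F₀) hYT) :=
    flat_sectionsOver_of_isFlatOverAt f _ hUYa hV hYT (fun z => hflat z.1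
      ((le_of_eq hUYdef) z.2).1)
  have h2 := (flat_sections_iff hX F₀ hV₀ hV hU₀ le_rfl hUV₀ hUYdef hYT).1 h1
  obtain ⟨k₁, hk₁⟩ := exists_stage_flat_sections E cE hcE a ha b hb hV₀ (B₀ := Γ(X₀, U₀))
    Γ(F₀, U₀) h2
  refine ⟨k₁, fun k θ Xk pX fk hpb z hz => ?_⟩
  have hk := hk₁ k θ
  have hVk : IsAffineOpen (a k ⁻¹ᵁ V₀) := hV₀.preimage (a k)
  haveI : ((Scheme.Modules.pullback pX).obj F₀).IsQuasicoherent :=
    Groth.Agent.Lead.PB.isQuasicoherent_pullback pX F₀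
  obtain ⟨UZ, hUZdef⟩ : ∃ UZ : Xk.Opens, UZ = pX ⁻¹ᵁ U₀ ⊓ fk ⁻¹ᵁ (a k ⁻¹ᵁ V₀) := ⟨_, rfl⟩
  have hUZa : IsAffineOpen UZ :=
    Groth.Agent.Lead.FB.chart_affine hpb hV₀ hVk hU₀ le_rfl hUV₀ hUZdef
  have hZT : UZ ≤ fk ⁻¹ᵁ (a k ⁻¹ᵁ V₀) := by rw [hUZdef]; exact inf_le_right
  have h3 := (flat_sections_iff hpb F₀ hV₀ hVk hU₀ le_rfl hUV₀ hUZdef hZT).2 hk
  refine isFlatOverAt_of_flat_sections fk _ hUZa hVk hZT h3 z ?_
  rw [hUZdef]
  refine ⟨hz, ?_⟩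
  show (fk ≫ a k) z ∈ V₀
  rw [← hpb.w]
  exact hUV₀ hz

end Groth.Agent.Lib.Helper4.LimFlatD
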