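import Mathlib
import Groth.Agent.Lib.Helper3.KerFP6
import Groth.Agent.Lib.Helper4.ChartSq1
import Groth.Agent.Lib.Helper4.CohIso1
import Groth.Agent.Lib.Helper4.LimFlatD

/-!
# Injective stalk map with flat cokernel: invariance and chart characterisation (helper4)
-/

set_option backward.isDefEq.respectTransparency.types false
set_option synthInstance.maxHeartbeats 400000
set_option autoImplicit false
set_option linter.unusedSectionVars false
set_option linter.style.haveILetI false
set_option linter.unusedSimpArgs false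
universe u v w
open CategoryTheory CategoryTheory.Limits AlgebraicGeometry TopologicalSpace Topology

namespace Groth.Agent.Lib.Helper4.LimInjA

open Scheme.Modules Groth.Agent.Lead.FO Groth.Agent.Lead.SD Groth.Agent.Helper3.KerFP
  Groth.Agent.Helper3.RelFPS

/-- the stalk map is injective and the cokernel is flat over the base at the point -/
def InjFlatAt {X Y : Scheme.{u}} (f : X ⟶ Y) {F G : X.Modules} (h : F ⟶ G) (x : X) : Prop :=
  Function.Injective ((TopCat.Presheaf.stalkFunctor Ab x).map
    (Scheme.Modules.Hom.mapPresheaf h)) ∧ FlatMod.IsFlatOverAt f (cokernel h) x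

variable {X Y : Scheme.{u}} (f : X ⟶ Y)

theorem injFlatAt_iff {F G : X.Modules} (h : F ⟶ G) (x : X) :
    InjFlatAt f h x ↔ Function.Injective (stk h x) ∧ FlatMod.IsFlatOverAt f (cokernel h) x :=
  Iff.rfl

/-- invariance under isomorphisms of arrows -/
theorem injFlatAt_of_iso {F G F' G' : X.Modules} (h : F ⟶ G) (h' : F' ⟶ G') (e₁ : F ≅ F')
    (e₂ : G ≅ G') (hw : h ≫ e₂.hom = e₁.hom ≫ h') (x : X) (H : InjFlatAt f h x) :
    InjFlatAt f h' x := by
  rw [injFlatAt_iff] at H ⊢
  refine ⟨?_, Groth.Agent.Lib.Helper4.ChartSq1.isFlatOverAt_of_iso f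
    (cokernel.mapIso h h' e₁ e₂ hw) x H.2⟩
  have hh' : h' = e₁.inv ≫ h ≫ e₂.hom := by
    rw [hw, Iso.inv_hom_id_assoc]
  intro a b hab
  rw [hh', stk_comp, stk_comp, stk_comp, stk_comp] at hab
  have h1 := H.1 (stk_injective_of_mono e₂.hom x hab)
  exact stk_injective_of_mono e₁.inv x h1



attribute [local instance] stalkModule

open Groth.Agent.Lib.Helper4 in
/-- on an affine chart, injectivity on sections and flatness of the sections of the cokernel give
the property at all points -/
theorem injFlatAt_of_sections {F G : X.Modules} [F.IsQuasicoherent] [G.IsQuasicoherent]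
    (h : F ⟶ G) {U : X.Opens} {V : Y.Opens} (hU : IsAffineOpen U) (hV : IsAffineOpen V)
    (hUV : U ≤ f ⁻¹ᵁ V) (hinj : Function.Injective (appₗ h U))
    (hflat : @Module.Flat Γ(Y, V) Γ(cokernel h, U) _ _ (sectionsOver f (cokernel h) hUV))
    (x : X) (hx : x ∈ U) : InjFlatAt f h x := by
  haveI : (cokernel h).IsQuasicoherent := Groth.Agent.Helper1.QcAbel.isQuasicoherent_cokernel h
  refine ⟨?_, LimFlatD.isFlatOverAt_of_flat_sections f _ hU hV hUV hflat x hx⟩
  obtain ⟨x', rfl⟩ : ∃ x' : U, x'.1 = x := ⟨⟨x, hx⟩, rfl⟩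
  haveI := isLocalizedModule_germ F hU x'
  haveI := isLocalizedModule_germ G hU x'
  haveI := hU.isLocalization_stalk x'
  exact CohIso1.injective_loc (hU.primeIdealOf x').asIdeal (germₗ F x')
    (germₗ G x') (appₗ h U) (CohIso1.stalkMapₗ h x'.1)
    (fun n => CohIso1.stalkMapAb_germ h x'.1 U x'.2 n) hinj

open Groth.Agent.Lib.Helper4 in
/-- conversely, the property at all points of an affine chart gives injectivity on sections and
flatness of the sections of the cokernel -/
theorem sections_of_injFlatAt {F G : X.Modules} [F.IsQuasicoherent] [G.IsQuasicoherent]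
    (h : F ⟶ G) {U : X.Opens} {V : Y.Opens} (hU : IsAffineOpen U) (hV : IsAffineOpen V)
    (hUV : U ≤ f ⁻¹ᵁ V) (H : ∀ x : X, x ∈ U → InjFlatAt f h x) :
    Function.Injective (appₗ h U) ∧
      @Module.Flat Γ(Y, V) Γ(cokernel h, U) _ _ (sectionsOver f (cokernel h) hUV) := by
  haveI : (cokernel h).IsQuasicoherent := Groth.Agent.Helper1.QcAbel.isQuasicoherent_cokernel h
  refine ⟨?_, flat_sectionsOver_of_isFlatOverAt f _ hU hV hUV (fun z => (H z.1 z.2).2)⟩
  rw [injective_iff_map_eq_zero]
  intro s hs
  apply TopCat.Presheaf.section_ext ⟨F.presheaf, F.isSheaf⟩ U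
  intro x hx
  apply (H x hx).1
  have e1 := CohIso1.stalkMapAb_germ h x U hx s
  rw [appₗ_apply] at hs
  rw [hs] at e1
  refine e1.trans ?_
  simp only [map_zero]
  exact (map_zero (CohIso1.stalkMapAb h x).hom).symm

end Groth.Agent.Lib.Helper4.LimInjA
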