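import Mathlib
import Groth.Agent.Lib.Helper4.LimInjA

/-!
# Cokernels of pulled back maps, exactness of sections of a cokernel on affines, transfer of the injective-with-flat-cokernel property (helper4)
-/

set_option backward.isDefEq.respectTransparency.types false
set_option synthInstance.maxHeartbeats 400000
set_option autoImplicit false
set_option linter.unusedSectionVars false
set_option linter.style.haveILetI false
set_option linter.unusedSimpArgs false
universe u v w
open CategoryTheory CategoryTheory.Limits AlgebraicGeometry TopologicalSpace Topology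

namespace Groth.Agent.Lib.Helper4.LimInjC

open Scheme.Modules Groth.Agent.Lead.FO Groth.Agent.Lead.SD Groth.Agent.Helper3.KerFP
  Groth.Agent.Helper3.RelFPS Groth.Agent.Lib.Helper4.LimInjA

/-- the cokernel of a pulled back map is the pullback of the cokernel -/
noncomputable def cokerPullbackIso {X' X : Scheme.{u}} (g : X' ⟶ X) {F G : X.Modules} (h : F ⟶ G) :
    cokernel ((Scheme.Modules.pullback g).map h) ≅ (Scheme.Modules.pullback g).obj (cokernel h) :=
  (PreservesCokernel.iso (Scheme.Modules.pullback g) h).symm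

theorem isFlatOverAt_coker_pullback_iff {X' X Y' : Scheme.{u}} (g : X' ⟶ X) (f' : X' ⟶ Y')
    {F G : X.Modules} (h : F ⟶ G) (z : X') :
    FlatMod.IsFlatOverAt f' (cokernel ((Scheme.Modules.pullback g).map h)) z ↔
      FlatMod.IsFlatOverAt f' ((Scheme.Modules.pullback g).obj (cokernel h)) z :=
  ⟨Groth.Agent.Lib.Helper4.ChartSq1.isFlatOverAt_of_iso f' (cokerPullbackIso g h) z,
    Groth.Agent.Lib.Helper4.ChartSq1.isFlatOverAt_of_iso f' (cokerPullbackIso g h).symm z⟩

/-- transfer along a natural isomorphism of functors -/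
theorem injFlatAt_of_natIso {X₀ X Y : Scheme.{u}} (f : X ⟶ Y) {P P' : X₀.Modules ⥤ X.Modules}
    (α : P ≅ P') {F₀ G₀ : X₀.Modules} (h₀ : F₀ ⟶ G₀) (x : X) (H : InjFlatAt f (P.map h₀) x) :
    InjFlatAt f (P'.map h₀) x :=
  injFlatAt_of_iso f _ _ (α.app F₀) (α.app G₀) (α.hom.naturality h₀) x H

/-- the property for an iterated pullback -/
theorem injFlatAt_pullback_comp_iff {X₀ X1 X2 Y : Scheme.{u}} (f : X2 ⟶ Y) (p2 : X2 ⟶ X1)
    (p1 : X1 ⟶ X₀) (q : X2 ⟶ X₀) (hq : p2 ≫ p1 = q) {F₀ G₀ : X₀.Modules} (h₀ : F₀ ⟶ G₀)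
    (x : X2) :
    InjFlatAt f ((Scheme.Modules.pullback p2).map ((Scheme.Modules.pullback p1).map h₀)) x ↔
      InjFlatAt f ((Scheme.Modules.pullback q).map h₀) x :=
  ⟨injFlatAt_of_natIso f (Scheme.Modules.pullbackComp p2 p1 ≪≫ Scheme.Modules.pullbackCongr hq)
      h₀ x,
    injFlatAt_of_natIso f (Scheme.Modules.pullbackComp p2 p1 ≪≫
      Scheme.Modules.pullbackCongr hq).symm h₀ x⟩

section Exact
variable {X : Scheme.{u}} {F G : X.Modules} [F.IsQuasicoherent] [G.IsQuasicoherent] (h : F ⟶ G)

/-- sections of the cokernel over an affine open: surjectivity -/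
theorem appₗ_cokernel_π_surjective {U : X.Opens} (hU : IsAffineOpen U) :
    Function.Surjective (appₗ (cokernel.π h) U) := by
  haveI : (cokernel h).IsQuasicoherent := Groth.Agent.Helper1.QcAbel.isQuasicoherent_cokernel h
  exact Groth.Agent.Helper1.AffPushEpi.app_surjective_of_epi (cokernel.π h) U hU

/-- sections of the cokernel over an affine open: exactness -/
theorem appₗ_cokernel_exact {U : X.Opens} (hU : IsAffineOpen U) :
    Function.Exact (appₗ h U) (appₗ (cokernel.π h) U) := by
  haveI : (cokernel h).IsQuasicoherent := Groth.Agent.Helper1.QcAbel.isQuasicoherent_cokernel h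
  haveI : (Abelian.image h).IsQuasicoherent := Groth.Agent.Helper1.QcAbel.isQuasicoherent_image h
  intro y
  constructor
  · intro hy
    have hy' : y ∈ LinearMap.ker (appₗ (cokernel.π h) U) := hy
    obtain ⟨z, hz⟩ := (sectionsKernelEquiv (cokernel.π h) U).surjective ⟨y, hy'⟩
    have hz' : (kernel.ι (cokernel.π h)).app U z = y := by
      rw [← sectionsKernelEquiv_apply, hz]
    have hsurj : Function.Surjective (appₗ (Abelian.factorThruImage h) U) :=
      Groth.Agent.Helper1.AffPushEpi.app_surjective_of_epi (Abelian.factorThruImage h) U hU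
    obtain ⟨w, hw⟩ := hsurj z
    refine ⟨w, ?_⟩
    rw [appₗ_apply] at hw ⊢
    rw [← hz', ← hw]
    have e1 := congrArg (fun φ => Scheme.Modules.Hom.app φ U) (Abelian.image.fac h)
    have e2 := congrArg (fun φ => φ w) e1
    exact e2.symm
  · rintro ⟨w, rfl⟩
    rw [appₗ_apply, appₗ_apply]
    have e1 := congrArg (fun φ => Scheme.Modules.Hom.app φ U) (cokernel.condition h)
    have e2 := congrArg (fun φ => φ w) e1
    refine e2.trans ?_
    rfl

attribute [local instance] stalkModule

open Groth.Agent.Lib.Helper4 in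
/-- injectivity on sections over an affine open gives injectivity on the stalks -/
theorem stalk_injective_of_sections {U : X.Opens} (hU : IsAffineOpen U)
    (hinj : Function.Injective (appₗ h U)) (x : X) (hx : x ∈ U) :
    Function.Injective ((TopCat.Presheaf.stalkFunctor Ab x).map
      (Scheme.Modules.Hom.mapPresheaf h)) := by
  obtain ⟨x', rfl⟩ : ∃ x' : U, x'.1 = x := ⟨⟨x, hx⟩, rfl⟩
  haveI := isLocalizedModule_germ F hU x'
  haveI := isLocalizedModule_germ G hU x'
  haveI := hU.isLocalization_stalk x'
  exact CohIso1.injective_loc (hU.primeIdealOf x').asIdeal (germₗ F x')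
    (germₗ G x') (appₗ h U) (CohIso1.stalkMapₗ h x'.1)
    (fun n => CohIso1.stalkMapAb_germ h x'.1 U x'.2 n) hinj

end Exact

end Groth.Agent.Lib.Helper4.LimInjC
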