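import Mathlib
import Groth.Prelude.Def_Formal
import Groth.Agent.Lib.Helper3.RelFPS3
import Groth.Agent.Lib.Helper4.LimInjC

/-!
# Multiplication by a global section on a module, its pullback, and sections of its cokernel (helper4) (helper4)
-/

set_option backward.isDefEq.respectTransparency.types false
set_option synthInstance.maxHeartbeats 400000
set_option autoImplicit false
set_option linter.unusedSectionVars false
set_option linter.style.haveILetI false
set_option linter.unusedSimpArgs false
universe u v w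
open CategoryTheory CategoryTheory.Limits AlgebraicGeometry TopologicalSpace Topology

namespace Groth.Agent.Lib.Helper4.LimTRegA

open Scheme.Modules Groth.Agent.Helper3.RelFPS

variable {X Y : Scheme.{u}}

/-- multiplication by a global section of the structure sheaf, as an endomorphism of a module -/
noncomputable def smulΓ (M : X.Modules) (r : Γ(X, ⊤)) : M ⟶ M := Formal.smulModΓ M r

theorem smulΓ_app (M : X.Modules) (r : Γ(X, ⊤)) (U : X.Opens) (m : Γ(M, U)) :
    (smulΓ M r).app U m = (X.presheaf.map (homOfLE (le_top : U ≤ ⊤)).op).hom r • m := rfl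

theorem smulΓ_nat {M N : X.Modules} (φ : M ⟶ N) (r : Γ(X, ⊤)) :
    smulΓ M r ≫ φ = φ ≫ smulΓ N r := by
  ext U m
  rw [Hom.comp_app, Hom.comp_app]
  show φ.app U ((smulΓ M r).app U m) = (smulΓ N r).app U (φ.app U m)
  rw [smulΓ_app, smulΓ_app, Hom.app_smul]


theorem smulΓ_pushforward (q : X ⟶ Y) (N : X.Modules) (r : Γ(Y, ⊤)) :
    (pushforward q).map (smulΓ N (q.appTop.hom r)) = smulΓ ((pushforward q).obj N) r := by
  ext U m
  rw [pushforward_map_app]
  show (smulΓ N (q.appTop.hom r)).app (q ⁻¹ᵁ U) m = (smulΓ ((pushforward q).obj N) r).app U m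
  rw [smulΓ_app, smulΓ_app]
  show _ = (show Γ(X, q ⁻¹ᵁ U) from (q.app U).hom ((Y.presheaf.map (homOfLE (le_top : U ≤ ⊤)).op).hom r)) •
    (show Γ(N, q ⁻¹ᵁ U) from m)
  congr 1
  have := q.naturality (homOfLE (le_top : U ≤ ⊤)).op
  exact (congrArg (fun g => g.hom r) this).symm

theorem smulΓ_pullback (q : X ⟶ Y) (M : Y.Modules) (r : Γ(Y, ⊤)) :
    (Scheme.Modules.pullback q).map (smulΓ M r) = smulΓ ((Scheme.Modules.pullback q).obj M) (q.appTop.hom r) := by
  apply ((pullbackPushforwardAdjunction q).homEquiv M _).injective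
  rw [Adjunction.homEquiv_unit, Adjunction.homEquiv_unit, smulΓ_pushforward]
  refine Eq.trans ?_ (smulΓ_nat ((pullbackPushforwardAdjunction q).unit.app M) r)
  exact ((pullbackPushforwardAdjunction q).unit.naturality (smulΓ M r)).symm

theorem smulΓ_pullback_app (q : X ⟶ Y) (M : Y.Modules) (r : Γ(Y, ⊤)) (U : X.Opens)
    (m : Γ((Scheme.Modules.pullback q).obj M, U)) :
    appₗ ((Scheme.Modules.pullback q).map (smulΓ M r)) U m =
      (X.presheaf.map (homOfLE (le_top : U ≤ ⊤)).op).hom (q.appTop.hom r) • m := by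
  rw [appₗ_apply, smulΓ_pullback, smulΓ_app]


/-- an isomorphism of modules induces a linear equivalence on sections -/
noncomputable def secEquiv {M N : X.Modules} (e : M ≅ N) (U : X.Opens) :
    Γ(M, U) ≃ₗ[Γ(X, U)] Γ(N, U) :=
  LinearEquiv.ofLinear (appₗ e.hom U) (appₗ e.inv U)
    (by
      ext m
      show e.hom.app U (e.inv.app U m) = m
      rw [← ConcreteCategory.comp_apply, ← Hom.comp_app, e.inv_hom_id]
      rfl)
    (by
      ext m
      show e.inv.app U (e.hom.app U m) = m
      rw [← ConcreteCategory.comp_apply, ← Hom.comp_app, e.hom_inv_id]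
      rfl)

open Groth.Agent.Lib.Helper4.LimInjC in
/-- sections of a cokernel over an affine open -/
noncomputable def secCokerEquiv {F G : X.Modules} [F.IsQuasicoherent] [G.IsQuasicoherent]
    (h : F ⟶ G) {U : X.Opens} (hU : IsAffineOpen U) :
    (Γ(G, U) ⧸ LinearMap.range (appₗ h U)) ≃ₗ[Γ(X, U)] Γ(cokernel h, U) :=
  (Submodule.quotEquivOfEq _ _
    ((LinearMap.exact_iff.1 (appₗ_cokernel_exact h hU)).symm)).trans
    ((appₗ (cokernel.π h) U).quotKerEquivOfSurjective (appₗ_cokernel_π_surjective h hU))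

/-- sections over an affine open of the pullback of the cokernel of multiplication by a global
section -/
noncomputable def secQuotEquiv (q : X ⟶ Y) (M : Y.Modules) [M.IsQuasicoherent] (r : Γ(Y, ⊤))
    {U : X.Opens} (hU : IsAffineOpen U) :
    QuotSMulTop ((X.presheaf.map (homOfLE (le_top : U ≤ ⊤)).op).hom (q.appTop.hom r))
      Γ((Scheme.Modules.pullback q).obj M, U) ≃ₗ[Γ(X, U)]
      Γ((Scheme.Modules.pullback q).obj (cokernel (smulΓ M r)), U) := by
  haveI : ((Scheme.Modules.pullback q).obj M).IsQuasicoherent :=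
    Groth.Agent.Lead.PB.isQuasicoherent_pullback q M
  refine (Submodule.quotEquivOfEq _ _ ?_).trans
    ((secCokerEquiv ((Scheme.Modules.pullback q).map (smulΓ M r)) hU).trans
      (secEquiv (Groth.Agent.Lib.Helper4.LimInjC.cokerPullbackIso q (smulΓ M r)) U))
  ext m
  rw [Submodule.mem_smul_pointwise_iff_exists, LinearMap.mem_range]
  constructor
  · rintro ⟨n, -, rfl⟩
    exact ⟨n, smulΓ_pullback_app q M r U n⟩
  · rintro ⟨n, rfl⟩
    exact ⟨n, Submodule.mem_top, (smulΓ_pullback_app q M r U n).symm⟩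

end Groth.Agent.Lib.Helper4.LimTRegA
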