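import Mathlib
import Groth.Prelude.Def_Formal
import Groth.Prelude.Def_Formal2
import Groth.Agent.Lib.Helper4.IPow1
import Groth.Agent.Lib.Helper4.LimTRegA
import Groth.Agent.Lib.Lead.PBQc

/-!
# Pullback of coherent formal modules (helper4)
-/

set_option backward.isDefEq.respectTransparency.types false
set_option synthInstance.maxHeartbeats 400000
set_option autoImplicit false
set_option linter.unusedSectionVars false
set_option linter.style.haveILetI false
set_option linter.unusedSimpArgs false
universe u v w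
open CategoryTheory CategoryTheory.Limits AlgebraicGeometry TopologicalSpace Topology

namespace Groth.Agent.Lib.Helper4.CohFormalPB

open Opposite Groth.Agent.Lib.Helper4.IPow1 Groth.Agent.Lib.Helper4.LimTRegA

variable {A : Type u} [CommRing A] {X Y : Scheme.{u}}
  [X.Over (Spec (CommRingCat.of A))] [Y.Over (Spec (CommRingCat.of A))]
  (f : X ⟶ Y) (hf : f ≫ (Y ↘ Spec (CommRingCat.of A)) = X ↘ Spec (CommRingCat.of A))

include hf in
theorem toGlobal_comp (a : A) :
    f.appTop.hom (Coh.toGlobal (Y ↘ Spec (CommRingCat.of A)) a) =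
      Coh.toGlobal (X ↘ Spec (CommRingCat.of A)) a := by
  unfold Coh.toGlobal
  rw [← hf, Scheme.Hom.comp_appTop]
  rfl

include hf in
theorem smulMod_pullback (M : Y.Modules) (a : A) :
    (Scheme.Modules.pullback f).map (Formal.smulMod A M a) =
      Formal.smulMod A ((Scheme.Modules.pullback f).obj M) a := by
  unfold Formal.smulMod
  rw [← toGlobal_comp f hf a]
  exact smulΓ_pullback f M _

section Cok

/-- the canonical comparison is an isomorphism iff the cofork is a cokernel -/
noncomputable def isColimitOfIsIsoDesc {C : Type*} [Category C] [HasZeroMorphisms C] {P Q R : C}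
    (s : P ⟶ Q) [HasCokernel s] (φ : Q ⟶ R) (h : s ≫ φ = 0) (hi : IsIso (cokernel.desc s φ h)) :
    IsColimit (CokernelCofork.ofπ φ h) :=
  IsColimit.ofIsoColimit (colimit.isColimit (parallelPair s 0))
    (Cofork.ext (@asIso _ _ _ _ (cokernel.desc s φ h) hi) (cokernel.π_desc s φ h))

theorem isIso_desc_of_isColimit {C : Type*} [Category C] [HasZeroMorphisms C] {P Q R : C}
    (s : P ⟶ Q) [HasCokernel s] (φ : Q ⟶ R) (h : s ≫ φ = 0)
    (hc : IsColimit (CokernelCofork.ofπ φ h)) : IsIso (cokernel.desc s φ h) := by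
  have e : cokernel.desc s φ h =
      ((colimit.isColimit (parallelPair s 0)).coconePointUniqueUpToIso hc).hom := by
    apply coequalizer.hom_ext
    rw [cokernel.π_desc]
    exact (IsColimit.comp_coconePointUniqueUpToIso_hom (colimit.isColimit (parallelPair s 0)) hc
      WalkingParallelPair.one).symm
  rw [e]
  infer_instance

include hf in
theorem cokernel_pullback (J : Ideal A) {M Q : Y.Modules} (φ : M ⟶ Q)
    (h : Formal.smulFamily J M ≫ φ = 0) (hi : IsIso (cokernel.desc _ φ h)) :
    ∃ h' : Formal.smulFamily J ((Scheme.Modules.pullback f).obj M) ≫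
        (Scheme.Modules.pullback f).map φ = 0,
      IsIso (cokernel.desc _ ((Scheme.Modules.pullback f).map φ) h') := by
  set Gf := Scheme.Modules.pullback f with hGf
  haveI : Gf.IsLeftAdjoint := (Scheme.Modules.pullbackPushforwardAdjunction f).isLeftAdjoint
  have hc := isColimitOfIsIsoDesc _ φ h hi
  have hc' := CokernelCofork.mapIsColimit _ hc Gf
  have hsm : ∀ a : J, Sigma.ι (fun _ : J => M) a ≫ Formal.smulFamily J M = Formal.smulMod A M a := by
    intro a
    unfold Formal.smulFamily
    rw [Sigma.ι_desc]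
  have hsm' : ∀ a : J, Sigma.ι (fun _ : J => Gf.obj M) a ≫ Formal.smulFamily J (Gf.obj M) =
      Formal.smulMod A (Gf.obj M) a := by
    intro a
    unfold Formal.smulFamily
    rw [Sigma.ι_desc]
  have h' : Formal.smulFamily J (Gf.obj M) ≫ Gf.map φ = 0 := by
    apply Sigma.hom_ext
    intro a
    rw [← Category.assoc, hsm', comp_zero, ← smulMod_pullback f hf, ← Gf.map_comp, ← hsm a,
      Category.assoc, h, comp_zero, Gf.map_zero]
  refine ⟨h', ?_⟩
  have key : ∀ {Z : X.Modules} (ψ : Gf.obj M ⟶ Z), Formal.smulFamily J (Gf.obj M) ≫ ψ = 0 →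
      Gf.map (Formal.smulFamily J M) ≫ ψ = 0 := by
    intro Z ψ hψ
    apply (isColimitOfPreserves Gf (colimit.isColimit (Discrete.functor fun _ : J => M))).hom_ext
    rintro ⟨a⟩
    change Gf.map (Sigma.ι (fun _ : J => M) a) ≫ Gf.map (Formal.smulFamily J M) ≫ ψ =
      Gf.map (Sigma.ι (fun _ : J => M) a) ≫ 0
    rw [comp_zero, ← Category.assoc, ← Gf.map_comp, hsm a, smulMod_pullback f hf, ← hsm' a,
      Category.assoc, hψ, comp_zero]
  apply isIso_desc_of_isColimit
  exact CokernelCofork.IsColimit.ofπ _ _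
    (fun ψ hψ => hc'.desc (CokernelCofork.ofπ ψ (key ψ hψ)))
    (fun ψ hψ => hc'.fac (CokernelCofork.ofπ ψ (key ψ hψ)) WalkingParallelPair.one)
    (fun ψ hψ m hm => Cofork.IsColimit.hom_ext hc'
      (hm.trans (hc'.fac (CokernelCofork.ofπ ψ (key ψ hψ)) WalkingParallelPair.one).symm))

end Cok

section Main

open Groth.Agent.Lead

include hf in
theorem main (I : Ideal A) (G : ℕᵒᵖ ⥤ Y.Modules) (hG : Formal.IsCohFormal I G) :
    Formal.IsCohFormal I (G ⋙ Scheme.Modules.pullback f) := by
  refine ⟨fun n => ?_, fun n a ha => ?_, fun n => ?_⟩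
  · obtain ⟨hq, hft⟩ := hG.1 n
    haveI : (G.obj (op n)).IsQuasicoherent := hq
    exact ⟨PB.isQuasicoherent_pullback f _, PB.isFT_pullback f _ hft⟩
  · change Formal.smulMod A ((Scheme.Modules.pullback f).obj (G.obj (op n))) a = 0
    rw [← smulMod_pullback f hf, hG.2.1 n a ha, Functor.map_zero]
  · obtain ⟨h, hi⟩ := hG.2.2 n
    exact cokernel_pullback f hf (I ^ (n + 1)) _ h hi

end Main

end Groth.Agent.Lib.Helper4.CohFormalPB
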