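import Mathlib
import Groth.Prelude.Def_Formal
import Groth.Prelude.Def_Formal2
import Groth.Agent.Lib.Helper4.IPow1

/-!
# Short exact sequence F/fF -> F/f^(n+1)F -> F/f^nF for f-torsion-free O_X-modules (helper4) (helper4)
-/

set_option backward.isDefEq.respectTransparency.types false
set_option synthInstance.maxHeartbeats 400000
set_option autoImplicit false
set_option linter.unusedSectionVars false
set_option linter.style.haveILetI false
set_option linter.unusedSimpArgs false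
universe u v w
open CategoryTheory CategoryTheory.Limits AlgebraicGeometry TopologicalSpace Topology

namespace Groth.Agent.Lib.Helper4.ModPowSES

section Ab

variable {𝒜 : Type*} [Category 𝒜] [Abelian 𝒜] {F C₁ Cn Cn1 : 𝒜}
  (s sn sn1 : F ⟶ F) (h1 : s ≫ sn = sn1) [Mono sn]
  (π₁ : F ⟶ C₁) (πn : F ⟶ Cn) (πn1 : F ⟶ Cn1)
  (w₁ : s ≫ π₁ = 0) (wn : sn ≫ πn = 0) (wn1 : sn1 ≫ πn1 = 0)
  (hc₁ : IsColimit (CokernelCofork.ofπ π₁ w₁))
  (hcn : IsColimit (CokernelCofork.ofπ πn wn))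
  (hcn1 : IsColimit (CokernelCofork.ofπ πn1 wn1))
  (trans : Cn1 ⟶ Cn) (htr : πn1 ≫ trans = πn)

include h1 wn1 in
theorem aux_w : s ≫ sn ≫ πn1 = 0 := by rw [← Category.assoc, h1, wn1]

/-- the map `F/sF ⟶ F/s^{n+1}F` induced by `s^n` -/
noncomputable def iMap : C₁ ⟶ Cn1 :=
  hc₁.desc (CokernelCofork.ofπ (sn ≫ πn1) (aux_w s sn sn1 h1 πn1 wn1))

theorem π_iMap : π₁ ≫ iMap s sn sn1 h1 π₁ πn1 w₁ wn1 hc₁ = sn ≫ πn1 :=
  hc₁.fac (CokernelCofork.ofπ (sn ≫ πn1) (aux_w s sn sn1 h1 πn1 wn1)) WalkingParallelPair.one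

include hc₁ hcn1 in
theorem mono_iMap : Mono (iMap s sn sn1 h1 π₁ πn1 w₁ wn1 hc₁) := by
  haveI : Epi π₁ := epi_of_isColimit_cofork hc₁
  rw [Preadditive.mono_iff_cancel_zero]
  intro T x hx
  obtain ⟨T', p, hp, y, hy⟩ := surjective_up_to_refinements_of_epi π₁ x
  have h2 : (y ≫ sn) ≫ πn1 = 0 := by
    rw [Category.assoc, ← π_iMap s sn sn1 h1 π₁ πn1 w₁ wn1 hc₁, ← Category.assoc, ← hy,
      Category.assoc, hx, comp_zero]
  have hex : (ShortComplex.mk sn1 πn1 wn1).Exact := ShortComplex.exact_of_g_is_cokernel _ hcn1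
  obtain ⟨T'', p', hp', z, hz⟩ := hex.exact_up_to_refinements (y ≫ sn) h2
  dsimp at z hz
  have h3 : (z ≫ s - p' ≫ y) ≫ sn = 0 := by
    rw [Preadditive.sub_comp, Category.assoc, h1, Category.assoc, ← hz, sub_self]
  have h4 : z ≫ s = p' ≫ y := by
    have := (cancel_mono sn).1 (h3.trans zero_comp.symm)
    exact sub_eq_zero.1 this
  have h5 : (p' ≫ p) ≫ x = 0 := by
    rw [Category.assoc, hy, ← Category.assoc, ← h4, Category.assoc, w₁, comp_zero]
  haveI : Epi (p' ≫ p) := epi_comp _ _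
  exact (cancel_epi (p' ≫ p)).1 (h5.trans comp_zero.symm)

include hc₁ htr wn in
theorem iMap_trans : iMap s sn sn1 h1 π₁ πn1 w₁ wn1 hc₁ ≫ trans = 0 := by
  haveI : Epi π₁ := epi_of_isColimit_cofork hc₁
  rw [← cancel_epi π₁, ← Category.assoc, π_iMap, Category.assoc, htr, wn, comp_zero]

include hcn htr in
theorem epi_trans : Epi trans := by
  haveI : Epi πn := epi_of_isColimit_cofork hcn
  haveI : Epi (πn1 ≫ trans) := by rw [htr]; infer_instance
  exact epi_of_epi πn1 trans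

include hc₁ hcn hcn1 htr in
theorem exact_iMap_trans :
    (ShortComplex.mk (iMap s sn sn1 h1 π₁ πn1 w₁ wn1 hc₁) trans
      (iMap_trans s sn sn1 h1 π₁ πn πn1 w₁ wn wn1 hc₁ trans htr)).Exact := by
  haveI : Epi πn1 := epi_of_isColimit_cofork hcn1
  rw [ShortComplex.exact_iff_exact_up_to_refinements]
  intro T x hx
  dsimp at x hx
  obtain ⟨T', p, hp, y, hy⟩ := surjective_up_to_refinements_of_epi πn1 x
  have h2 : y ≫ πn = 0 := by
    rw [← htr, ← Category.assoc, ← hy, Category.assoc, hx, comp_zero]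
  have hex : (ShortComplex.mk sn πn wn).Exact := ShortComplex.exact_of_g_is_cokernel _ hcn
  obtain ⟨T'', p', hp', z, hz⟩ := hex.exact_up_to_refinements y h2
  dsimp at z hz
  refine ⟨T'', p' ≫ p, epi_comp _ _, z ≫ π₁, ?_⟩
  dsimp
  rw [Category.assoc, Category.assoc, π_iMap, hy, ← Category.assoc, hz, Category.assoc]

include hc₁ hcn hcn1 htr in
theorem shortExact_iMap_trans :
    (ShortComplex.mk (iMap s sn sn1 h1 π₁ πn1 w₁ wn1 hc₁) trans
      (iMap_trans s sn sn1 h1 π₁ πn πn1 w₁ wn wn1 hc₁ trans htr)).ShortExact := by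
  haveI := mono_iMap s sn sn1 h1 π₁ πn1 w₁ wn1 hc₁ hcn1
  haveI := epi_trans sn πn πn1 wn hcn trans htr
  exact ShortComplex.ShortExact.mk (exact_iMap_trans s sn sn1 h1 π₁ πn πn1 w₁ wn wn1 hc₁ hcn hcn1 trans htr)

end Ab

section Conc

open Groth.Agent.Lib.Helper4.IPow1

variable {A : Type u} [CommRing A] {X : Scheme.{u}} [X.Over (Spec (CommRingCat.of A))]
  (F : X.Modules)

theorem smulMod_π_gen (J : Ideal A) {a : A} (ha : a ∈ J) :
    Formal.smulMod A F a ≫ cokernel.π (Formal.smulFamily J F) = 0 := by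
  have h : Formal.smulMod A F a = Sigma.ι (fun _ : ↥J => F) ⟨a, ha⟩ ≫ Formal.smulFamily J F := by
    unfold Formal.smulFamily
    rw [Sigma.ι_desc]
  rw [h, Category.assoc, cokernel.condition, comp_zero]

theorem smulFamily_comp_eq_zero (J : Ideal A) (g : A) (hJ : J = Ideal.span {g}) {Z : X.Modules}
    (φ : F ⟶ Z) (hφ : Formal.smulMod A F g ≫ φ = 0) : Formal.smulFamily J F ≫ φ = 0 := by
  apply Sigma.hom_ext
  intro a
  unfold Formal.smulFamily
  rw [← Category.assoc, Sigma.ι_desc, comp_zero]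
  have ha : (a : A) ∈ Ideal.span {g} := by rw [← hJ]; exact a.2
  obtain ⟨c, hc⟩ := Ideal.mem_span_singleton'.1 ha
  rw [← hc, ← smulMod_mul, Category.assoc, smulMod_nat A φ c, ← Category.assoc, hφ, zero_comp]

/-- for a principal ideal, the quotient is the cokernel of multiplication by the generator -/
noncomputable def isColimitPrincipal (J : Ideal A) (g : A) (hJ : J = Ideal.span {g}) :
    IsColimit (CokernelCofork.ofπ (cokernel.π (Formal.smulFamily J F))
      (smulMod_π_gen F J (a := g) (hJ ▸ Ideal.mem_span_singleton_self g))) :=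
  CokernelCofork.IsColimit.ofπ _ _
    (fun φ hφ => cokernel.desc _ φ (smulFamily_comp_eq_zero F J g hJ φ hφ))
    (fun φ hφ => cokernel.π_desc _ _ _)
    (fun φ hφ m hm => by
      rw [← cancel_epi (cokernel.π (Formal.smulFamily J F)), hm, cokernel.π_desc])

theorem mono_smulMod_pow (f : A) (hF : Mono (Formal.smulMod A F f)) (n : ℕ) (hn : 1 ≤ n) :
    Mono (Formal.smulMod A F (f ^ n)) := by
  induction n, hn using Nat.le_induction with
  | base => rwa [pow_one]
  | succ k hk ih =>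
    rw [pow_succ, ← smulMod_mul]
    haveI := ih
    exact mono_comp _ _

theorem main (f : A) (hF : Mono (Formal.smulMod A F f)) (n : ℕ) (hn : 1 ≤ n) :
    ∃ i : Formal.modPow (Ideal.span ({f} : Set A)) 1 F ⟶ Formal.modPow (Ideal.span ({f} : Set A)) (n + 1) F,
      Mono i ∧ Formal2.modPowLE (Ideal.span ({f} : Set A)) (Nat.le_add_left 1 n) F ≫ i =
        Formal.smulMod A (Formal.modPow (Ideal.span ({f} : Set A)) (n + 1) F) (f ^ n) ∧
      ∃ w : i ≫ Formal.modPowTrans (Ideal.span ({f} : Set A)) n F = 0,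
        (ShortComplex.mk i (Formal.modPowTrans (Ideal.span ({f} : Set A)) n F) w).ShortExact := by
  set I := Ideal.span ({f} : Set A) with hI
  haveI := mono_smulMod_pow F f hF n hn
  have h1 : Formal.smulMod A F f ≫ Formal.smulMod A F (f ^ n) = Formal.smulMod A F (f ^ (n + 1)) := by
    rw [smulMod_mul, pow_succ]
  have e1 : I ^ 1 = Ideal.span {f} := by rw [pow_one]
  have en : I ^ n = Ideal.span {f ^ n} := by rw [hI, Ideal.span_singleton_pow]
  have en1 : I ^ (n + 1) = Ideal.span {f ^ (n + 1)} := by rw [hI, Ideal.span_singleton_pow]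
  have w₁ : Formal.smulMod A F f ≫ Formal.modPowπ I 1 F = 0 :=
    smulMod_π_gen F (I ^ 1) (a := f) (e1 ▸ Ideal.mem_span_singleton_self f)
  have wn : Formal.smulMod A F (f ^ n) ≫ Formal.modPowπ I n F = 0 :=
    smulMod_π_gen F (I ^ n) (a := f ^ n) (en ▸ Ideal.mem_span_singleton_self (f ^ n))
  have wn1 : Formal.smulMod A F (f ^ (n + 1)) ≫ Formal.modPowπ I (n + 1) F = 0 :=
    smulMod_π_gen F (I ^ (n + 1)) (a := f ^ (n + 1)) (en1 ▸ Ideal.mem_span_singleton_self (f ^ (n + 1)))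
  have hc₁ : IsColimit (CokernelCofork.ofπ (Formal.modPowπ I 1 F) w₁) :=
    isColimitPrincipal F (I ^ 1) f e1
  have hcn : IsColimit (CokernelCofork.ofπ (Formal.modPowπ I n F) wn) :=
    isColimitPrincipal F (I ^ n) (f ^ n) en
  have hcn1 : IsColimit (CokernelCofork.ofπ (Formal.modPowπ I (n + 1) F) wn1) :=
    isColimitPrincipal F (I ^ (n + 1)) (f ^ (n + 1)) en1
  have htr : Formal.modPowπ I (n + 1) F ≫ Formal.modPowTrans I n F = Formal.modPowπ I n F :=
    Formal.modPowπ_trans I n F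
  refine ⟨iMap _ _ _ h1 _ _ w₁ wn1 hc₁, mono_iMap _ _ _ h1 _ _ w₁ wn1 hc₁ hcn1, ?_,
    iMap_trans _ _ _ h1 _ _ _ w₁ wn wn1 hc₁ _ htr,
    shortExact_iMap_trans _ _ _ h1 _ _ _ w₁ wn wn1 hc₁ hcn hcn1 _ htr⟩
  haveI : Epi (Formal.modPowπ I (n + 1) F) := by
    have := epi_of_isColimit_cofork hcn1
    exact this
  rw [← cancel_epi (Formal.modPowπ I (n + 1) F), ← Category.assoc, Formal2.modPowπ_modPowLE]
  refine (π_iMap _ _ _ h1 _ _ w₁ wn1 hc₁).trans ?_
  exact smulMod_nat A _ _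

end Conc

end Groth.Agent.Lib.Helper4.ModPowSES
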