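import Mathlib
import Groth.Prelude.Def_Formal
import Groth.Prelude.Def_Formal2
import Groth.Agent.Lib.Helper4.IPow1
import Groth.Agent.Lib.Helper4.ModPowSES
import Groth.Agent.Lib.Helper1.AffPushEpi

/-!
# Torsion-free limit of an f-adic system of quasi-coherent modules: (1) implies (4) (helper4) (helper4)
-/

set_option backward.isDefEq.respectTransparency.types false
set_option synthInstance.maxHeartbeats 400000
set_option autoImplicit false
set_option linter.unusedSectionVars false
set_option linter.style.haveILetI false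
set_option linter.unusedSimpArgs false
universe u v w
open CategoryTheory CategoryTheory.Limits AlgebraicGeometry TopologicalSpace Topology

namespace Groth.Agent.Lib.Helper4.ModPowLim

open Opposite Groth.Agent.Lib.Helper4.IPow1

variable {A : Type u} [CommRing A] {X : Scheme.{u}} [X.Over (Spec (CommRingCat.of A))]
  (f : A) (G : ℕᵒᵖ ⥤ X.Modules)

/-- transition maps -/
noncomputable abbrev tr {m n : ℕ} (h : m ≤ n) : G.obj (op n) ⟶ G.obj (op m) := G.map (homOfLE h).op

theorem tr_comp {k m n : ℕ} (h1 : k ≤ m) (h2 : m ≤ n) : tr G h2 ≫ tr G h1 = tr G (h1.trans h2) := by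
  unfold tr
  rw [← G.map_comp]
  rfl

variable (i : ∀ n, G.obj (op n) ⟶ G.obj (op (n + 1))) (hi : ∀ n, Mono (i n))
  (fac : ∀ n, tr G (Nat.le_succ n) ≫ i n = Formal.smulMod A (G.obj (op (n + 1))) f)
  (w : ∀ n, i n ≫ tr G (Nat.zero_le (n + 1)) = 0)
  (se : ∀ n, (ShortComplex.mk (i n) (tr G (Nat.zero_le (n + 1))) (w n)).ShortExact)

include se in
theorem epi_t0 (n : ℕ) : Epi (tr G (Nat.zero_le (n + 1))) := (se n).epi_g

include fac se in
theorem f0 : Formal.smulMod A (G.obj (op 0)) f = 0 := by
  haveI := epi_t0 G i w se 0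
  rw [← cancel_epi (tr G (Nat.zero_le 1)), ← smulMod_nat, ← fac 0, Category.assoc]
  rw [w 0, comp_zero]

include fac se in
theorem fpow (n : ℕ) : Formal.smulMod A (G.obj (op n)) (f ^ (n + 1)) = 0 := by
  induction n with
  | zero => rw [zero_add, pow_one]; exact f0 f G i fac w se
  | succ n ih =>
    rw [pow_succ, ← smulMod_mul, ← fac n, Category.assoc, ← smulMod_nat, ih, zero_comp, comp_zero]

theorem epi_smulMod_pow {C : X.Modules} (hC : Epi (Formal.smulMod A C f)) (n : ℕ) (hn : 1 ≤ n) :
    Epi (Formal.smulMod A C (f ^ n)) := by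
  induction n, hn using Nat.le_induction with
  | base => rwa [pow_one]
  | succ k hk ih =>
    rw [pow_succ, ← smulMod_mul]
    haveI := ih
    exact epi_comp _ _

include hi fac se in
theorem epi_succ (n : ℕ) : Epi (tr G (Nat.le_succ n)) := by
  induction n with
  | zero => exact epi_t0 G i w se 0
  | succ n ih =>
    haveI := ih
    set T := tr G (Nat.le_succ (n + 1)) with hT
    set π := cokernel.π T with hπ
    -- Step A
    have hA : Epi (Formal.smulMod A (G.obj (op (n + 1))) f ≫ π) := by
      apply Preadditive.epi_of_cancel_zero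
      intro Z φ hφ
      have h1 : i n ≫ π ≫ φ = 0 := by
        rw [← cancel_epi (tr G (Nat.le_succ n)), ← Category.assoc, fac n, comp_zero, ← Category.assoc]
        exact hφ
      haveI := epi_t0 G i w se n
      have hcok := (se n).exact.gIsCokernel
      obtain ⟨ψ', hψ'⟩ : ∃ ψ' : G.obj (op 0) ⟶ Z, tr G (Nat.zero_le (n + 1)) ≫ ψ' = π ≫ φ :=
        ⟨hcok.desc (CokernelCofork.ofπ (π ≫ φ) h1),
          hcok.fac (CokernelCofork.ofπ (π ≫ φ) h1) WalkingParallelPair.one⟩
      haveI := epi_t0 G i w se (n + 1)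
      have h2 : tr G (Nat.zero_le (n + 1 + 1)) ≫ ψ' = 0 := by
        rw [← tr_comp G (Nat.zero_le (n + 1)) (Nat.le_succ (n + 1)), Category.assoc, hψ',
          ← Category.assoc, hπ, cokernel.condition, zero_comp]
      have h3 : ψ' = 0 := (cancel_epi (tr G (Nat.zero_le (n + 1 + 1)))).1 (h2.trans comp_zero.symm)
      rw [h3, comp_zero] at hψ'
      exact (cancel_epi π).1 (hψ'.symm.trans comp_zero.symm)
    -- Step B
    have hB : Epi (Formal.smulMod A (cokernel T) f) := by
      haveI : Epi (π ≫ Formal.smulMod A (cokernel T) f) := by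
        rw [← smulMod_nat]; exact hA
      exact epi_of_epi π _
    have hC := epi_smulMod_pow f hB (n + 1 + 1) (Nat.le_add_left 1 (n + 1))
    have hz : Formal.smulMod A (cokernel T) (f ^ (n + 1 + 1)) = 0 := by
      rw [← cancel_epi π, ← smulMod_nat, fpow f G i fac w se (n + 1), zero_comp, comp_zero]
    rw [hz] at hC
    have hzero : IsZero (cokernel T) := by
      rw [IsZero.iff_id_eq_zero]
      exact (cancel_epi (0 : cokernel T ⟶ cokernel T)).1 (by rw [zero_comp, zero_comp])
    exact Preadditive.epi_of_isZero_cokernel T hzero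

include hi fac se in
theorem comm (n : ℕ) :
    i (n + 1) ≫ tr G (Nat.le_succ (n + 1)) = tr G (Nat.le_succ n) ≫ i n := by
  haveI := epi_succ f G i hi fac w se (n + 1)
  rw [← cancel_epi (tr G (Nat.le_succ (n + 1))), ← Category.assoc, fac (n + 1), smulMod_nat, fac n]

section Lim

/-- projections from the limit -/
noncomputable abbrev pr (n : ℕ) : limit G ⟶ G.obj (op n) := limit.π G (op n)

theorem pr_tr {m n : ℕ} (h : m ≤ n) : pr G n ≫ tr G h = pr G m := limit.w G (homOfLE h).op

include fac in
theorem fF_pr (n : ℕ) : Formal.smulMod A (limit G) f ≫ pr G (n + 1) = pr G n ≫ i n := by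
  rw [smulMod_nat, ← fac n, ← Category.assoc, pr_tr]

include fac se in
theorem fF_pr0 : Formal.smulMod A (limit G) f ≫ pr G 0 = 0 := by
  rw [smulMod_nat, f0 f G i fac w se, comp_zero]

include hi fac in
theorem mono_fF : Mono (Formal.smulMod A (limit G) f) := by
  apply Preadditive.mono_of_cancel_zero
  intro Z z hz
  apply limit.hom_ext
  intro j
  obtain ⟨n⟩ := j
  haveI := hi n
  rw [zero_comp, ← cancel_mono (i n), Category.assoc, ← fF_pr f G i fac n, ← Category.assoc, hz,
    zero_comp, zero_comp]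

include hi fac se in
theorem kernel_prop {Z : X.Modules} (z : Z ⟶ limit G) (hz : z ≫ pr G 0 = 0) :
    ∃ v : Z ⟶ limit G, v ≫ Formal.smulMod A (limit G) f = z := by
  have hker := fun n => haveI := hi n; (se n).exact.fIsKernel
  have hw : ∀ n, (z ≫ pr G (n + 1)) ≫ tr G (Nat.zero_le (n + 1)) = 0 := by
    intro n
    rw [Category.assoc, pr_tr, hz]
  let wn : ∀ n, Z ⟶ G.obj (op n) := fun n => (hker n).lift (KernelFork.ofι _ (hw n))
  have hwn : ∀ n, wn n ≫ i n = z ≫ pr G (n + 1) := fun n =>
    (hker n).fac (KernelFork.ofι _ (hw n)) WalkingParallelPair.zero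
  have hcompat : ∀ n, wn (n + 1) ≫ tr G (Nat.le_succ n) = wn n := by
    intro n
    haveI := hi n
    rw [← cancel_mono (i n), Category.assoc, ← comm f G i hi fac w se n, ← Category.assoc,
      hwn (n + 1), Category.assoc, pr_tr, hwn n]
  let α : (Functor.const ℕᵒᵖ).obj Z ⟶ G := NatTrans.ofOpSequence (fun n => wn n) (by
    intro n
    dsimp
    rw [Category.id_comp]
    exact (hcompat n).symm)
  let v : Z ⟶ limit G := limit.lift G ⟨Z, α⟩
  have hv : ∀ n, v ≫ pr G n = wn n := fun n => limit.lift_π _ _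
  refine ⟨v, ?_⟩
  apply limit.hom_ext
  intro j
  obtain ⟨m⟩ := j
  cases m with
  | zero =>
    rw [Category.assoc]
    refine Eq.trans ?_ hz.symm
    change v ≫ Formal.smulMod A (limit G) f ≫ pr G 0 = 0
    rw [fF_pr0 f G i fac w se, comp_zero]
  | succ n =>
    rw [Category.assoc]
    change v ≫ Formal.smulMod A (limit G) f ≫ pr G (n + 1) = z ≫ pr G (n + 1)
    rw [fF_pr f G i fac n, ← Category.assoc, hv, hwn]

end Lim

section Epi

open Groth.Agent.Helper1

include hi fac se in
theorem epi_pr0 (hqc : ∀ n : ℕ, (G.obj (op n)).IsQuasicoherent) : Epi (pr G 0) := by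
  apply AffPushEpi.epi_of_surjective_on_affine
  intro U hU
  let ev := SheafOfModules.evaluation X.ringCatSheaf (op U)
  have hc : IsLimit (ev.mapCone (limit.cone G)) := isLimitOfPreserves ev (limit.isLimit G)
  have hsurj : ∀ n, Function.Surjective ((G ⋙ ev).map (homOfLE (Nat.le_succ n)).op) := by
    intro n
    haveI := hqc n
    haveI := hqc (n + 1)
    haveI := epi_succ f G i hi fac w se n
    exact AffPushEpi.app_surjective_of_epi (tr G (Nat.le_succ n)) U hU
  exact Concrete.surjective_π_app_zero_of_surjective_map hc hsurj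

end Epi

section Fin

include hi fac se in
theorem epi_pr (h0 : Epi (pr G 0)) (n : ℕ) : Epi (pr G n) := by
  induction n with
  | zero => exact h0
  | succ n ih =>
    haveI := ih
    apply Preadditive.epi_of_cancel_zero
    intro Z φ hφ
    have h1 : i n ≫ φ = 0 := by
      rw [← cancel_epi (pr G n), ← Category.assoc, ← fF_pr f G i fac n, Category.assoc, hφ,
        comp_zero, comp_zero]
    haveI := epi_t0 G i w se n
    have hcok := (se n).exact.gIsCokernel
    obtain ⟨ψ', hψ'⟩ : ∃ ψ' : G.obj (op 0) ⟶ Z, tr G (Nat.zero_le (n + 1)) ≫ ψ' = φ :=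
      ⟨hcok.desc (CokernelCofork.ofπ φ h1),
        hcok.fac (CokernelCofork.ofπ φ h1) WalkingParallelPair.one⟩
    have h2 : pr G 0 ≫ ψ' = 0 := by
      rw [← pr_tr G (Nat.zero_le (n + 1)), Category.assoc, hψ', hφ]
    have h3 : ψ' = 0 := (cancel_epi (pr G 0)).1 (h2.trans comp_zero.symm)
    rw [← hψ', h3, comp_zero]

include fac se in
theorem fpow_pr (n : ℕ) : Formal.smulMod A (limit G) (f ^ (n + 1)) ≫ pr G n = 0 := by
  rw [smulMod_nat, fpow f G i fac w se n, comp_zero]

include hi fac se in
theorem exact_pr (n : ℕ) {Z : X.Modules} (z : Z ⟶ limit G) (hz : z ≫ pr G n = 0) :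
    ∃ v : Z ⟶ limit G, v ≫ Formal.smulMod A (limit G) (f ^ (n + 1)) = z := by
  induction n generalizing Z with
  | zero =>
    rw [zero_add, pow_one]
    exact kernel_prop f G i hi fac w se z hz
  | succ n ih =>
    have h0 : z ≫ pr G 0 = 0 := by
      rw [← pr_tr G (Nat.zero_le (n + 1)), ← Category.assoc, hz, zero_comp]
    obtain ⟨v, hv⟩ := kernel_prop f G i hi fac w se z h0
    have h1 : v ≫ pr G n = 0 := by
      haveI := hi n
      rw [← cancel_mono (i n), Category.assoc, ← fF_pr f G i fac n, ← Category.assoc, hv, hz,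
        zero_comp]
    obtain ⟨u, hu⟩ := ih v h1
    refine ⟨u, ?_⟩
    rw [pow_succ', ← smulMod_mul, ← Category.assoc, hu, hv]

/-- `pr n` is a cokernel of multiplication by `f^(n+1)` on the limit -/
noncomputable def isColimitPr (h0 : Epi (pr G 0)) (n : ℕ) :
    IsColimit (CokernelCofork.ofπ (pr G n) (fpow_pr f G i fac w se n)) := by
  haveI := epi_pr f G i hi fac w se h0 n
  exact (ShortComplex.Exact.gIsCokernel (S := ShortComplex.mk _ _ (fpow_pr f G i fac w se n)) (by
    rw [ShortComplex.exact_iff_exact_up_to_refinements]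
    intro Z z hz
    obtain ⟨v, hv⟩ := exact_pr f G i hi fac w se n z hz
    exact ⟨Z, 𝟙 Z, inferInstance, v, by rw [Category.id_comp]; exact hv.symm⟩))

end Fin

section Main

open Groth.Agent.Lib.Helper4.ModPowSES

theorem main (f : A) (G : ℕᵒᵖ ⥤ X.Modules) (hqc : ∀ n : ℕᵒᵖ, Coh.IsQCoh (G.obj n))
    (h1 : ∀ n : ℕ, ∃ i : G.obj (op n) ⟶ G.obj (op (n + 1)), Mono i ∧
      G.map (homOfLE (Nat.le_succ n)).op ≫ i = Formal.smulMod A (G.obj (op (n + 1))) f ∧
      ∃ w : i ≫ G.map (homOfLE (Nat.zero_le (n + 1))).op = 0,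
        (ShortComplex.mk i (G.map (homOfLE (Nat.zero_le (n + 1))).op) w).ShortExact) :
    ∃ F : X.Modules, Mono (Formal.smulMod A F f) ∧
      Nonempty (Formal.completion (Ideal.span ({f} : Set A)) F ≅ G) := by
  choose i hi fac w se using h1
  have h0 : Epi (pr G 0) := epi_pr0 f G i hi fac w se (fun n => hqc (op n))
  refine ⟨limit G, mono_fF f G i hi fac, ?_⟩
  set I := Ideal.span ({f} : Set A) with hI
  have en : ∀ n : ℕ, I ^ (n + 1) = Ideal.span {f ^ (n + 1)} := fun n => by
    rw [hI, Ideal.span_singleton_pow]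
  have hcA := fun n : ℕ => isColimitPrincipal (limit G) (I ^ (n + 1)) (f ^ (n + 1)) (en n)
  have hcB := fun n : ℕ => isColimitPr f G i hi fac w se h0 n
  let e : ∀ n : ℕ, Formal.modPow I (n + 1) (limit G) ≅ G.obj (op n) := fun n =>
    IsColimit.coconePointUniqueUpToIso (hcA n) (hcB n)
  have he : ∀ n : ℕ, Formal.modPowπ I (n + 1) (limit G) ≫ (e n).hom = pr G n := fun n =>
    IsColimit.comp_coconePointUniqueUpToIso_hom (hcA n) (hcB n) WalkingParallelPair.one
  let α : Formal.completion I (limit G) ⟶ G := NatTrans.ofOpSequence (fun n => (e n).hom) (by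
    intro n
    haveI : Epi (Formal.modPowπ I (n + 1 + 1) (limit G)) := by
      have := epi_of_isColimit_cofork (hcA (n + 1))
      exact this
    have e1 : (Formal.completion I (limit G)).map (homOfLE (n.le_add_right 1)).op =
        Formal.modPowTrans I (n + 1) (limit G) := by
      unfold Formal.completion
      exact Functor.ofOpSequence_map_homOfLE_succ _ n
    have key : Formal.modPowπ I (n + 1 + 1) (limit G) ≫
        (Formal.modPowTrans I (n + 1) (limit G) ≫ (e n).hom) =
        Formal.modPowπ I (n + 1 + 1) (limit G) ≫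
          ((e (n + 1)).hom ≫ G.map (homOfLE (n.le_add_right 1)).op) := by
      rw [← Category.assoc, Formal.modPowπ_trans, he n, ← Category.assoc, he (n + 1)]
      exact (pr_tr G (n.le_add_right 1)).symm
    have key2 := (cancel_epi _).1 key
    exact (congrArg (· ≫ (e n).hom) e1).trans key2)
  haveI : ∀ j : ℕᵒᵖ, IsIso (α.app j) := by
    intro j
    change IsIso (e j.unop).hom
    infer_instance
  haveI : IsIso α := NatIso.isIso_of_isIso_app α
  exact ⟨asIso α⟩

end Main

end Groth.Agent.Lib.Helper4.ModPowLim
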