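import Mathlib
import Groth.Prelude.Def_Formal
import Groth.Prelude.Def_Algz
import Groth.Agent.Lib.Helper4.IPow1
import Groth.Agent.Lib.Helper4.ModPowLim
import Groth.Agent.Lib.Helper4.CohFormalPB

/-!
# Coherent formal modules embed fully faithfully into pro-systems (helper4)
-/

set_option backward.isDefEq.respectTransparency.types false
set_option synthInstance.maxHeartbeats 400000
set_option autoImplicit false
set_option linter.unusedSectionVars false
set_option linter.style.haveILetI false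
set_option linter.unusedSimpArgs false
universe u v w
open CategoryTheory CategoryTheory.Limits AlgebraicGeometry TopologicalSpace Topology

namespace Groth.Agent.Lib.Helper4.CohFormalPro

open Opposite Groth.Agent.Lib.Helper4.IPow1 Groth.Agent.Lib.Helper4.ModPowLim
open Groth.Agent.Lib.Helper4.CohFormalPB

variable {A : Type u} [CommRing A] {X : Scheme.{u}} [X.Over (Spec (CommRingCat.of A))]
  (I : Ideal A)

/-- the weak part of `IsCohFormal` used here -/
def IsFormalSys (F : ℕᵒᵖ ⥤ X.Modules) : Prop :=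
  (∀ n, Formal.KilledBy (I ^ (n + 1)) (F.obj (op n))) ∧
  ∀ n, ∃ h : Formal.smulFamily (I ^ (n + 1)) (F.obj (op (n + 1))) ≫ F.map (homOfLE (Nat.le_succ n)).op = 0,
    IsIso (cokernel.desc _ _ h)

theorem isFormalSys_of_isCohFormal {F : ℕᵒᵖ ⥤ X.Modules} (hF : Formal.IsCohFormal I F) :
    IsFormalSys I F := ⟨hF.2.1, hF.2.2⟩

variable {I}

/-- successor transitions: cokernel property -/
theorem succ_desc {F : ℕᵒᵖ ⥤ X.Modules} (hF : IsFormalSys I F) (n : ℕ) {Z : X.Modules}
    (ψ : F.obj (op (n + 1)) ⟶ Z)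
    (hψ : ∀ a ∈ I ^ (n + 1), Formal.smulMod A (F.obj (op (n + 1))) a ≫ ψ = 0) :
    ∃ ψ' : F.obj (op n) ⟶ Z, tr F (Nat.le_succ n) ≫ ψ' = ψ := by
  obtain ⟨h, hi⟩ := hF.2 n
  have hc := isColimitOfIsIsoDesc _ _ h hi
  have h0 : Formal.smulFamily (I ^ (n + 1)) (F.obj (op (n + 1))) ≫ ψ = 0 := by
    apply Sigma.hom_ext
    intro a
    unfold Formal.smulFamily
    rw [← Category.assoc, Sigma.ι_desc, comp_zero]
    exact hψ a a.2
  exact ⟨hc.desc (CokernelCofork.ofπ ψ h0), hc.fac (CokernelCofork.ofπ ψ h0) WalkingParallelPair.one⟩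

theorem epi_succ' {F : ℕᵒᵖ ⥤ X.Modules} (hF : IsFormalSys I F) (n : ℕ) :
    Epi (tr F (Nat.le_succ n)) := by
  obtain ⟨h, hi⟩ := hF.2 n
  have e : tr F (Nat.le_succ n) = cokernel.π _ ≫ cokernel.desc _ _ h := (cokernel.π_desc _ _ h).symm
  rw [e]
  haveI : Epi (cokernel.desc _ _ h) := @IsIso.epi_of_iso _ _ _ _ _ hi
  exact epi_comp _ _

theorem epi_tr {F : ℕᵒᵖ ⥤ X.Modules} (hF : IsFormalSys I F) {n k : ℕ} (h : n ≤ k) :
    Epi (tr F h) := by
  induction k, h using Nat.le_induction with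
  | base =>
    have : tr F (le_refl n) = 𝟙 _ := F.map_id _
    rw [this]
    infer_instance
  | succ k hk ih =>
    rw [← tr_comp F hk (Nat.le_succ k)]
    haveI := ih
    haveI := epi_succ' hF k
    exact epi_comp _ _

theorem gen_desc {F : ℕᵒᵖ ⥤ X.Modules} (hF : IsFormalSys I F) {n k : ℕ} (h : n ≤ k)
    {Z : X.Modules} (ψ : F.obj (op k) ⟶ Z)
    (hψ : ∀ a ∈ I ^ (n + 1), Formal.smulMod A (F.obj (op k)) a ≫ ψ = 0) :
    ∃ ψ' : F.obj (op n) ⟶ Z, tr F h ≫ ψ' = ψ := by
  induction k, h using Nat.le_induction with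
  | base =>
    refine ⟨ψ, ?_⟩
    have : tr F (le_refl n) = 𝟙 _ := F.map_id _
    rw [this, Category.id_comp]
  | succ k hk ih =>
    obtain ⟨ψ₁, hψ₁⟩ := succ_desc hF k ψ (fun a ha => hψ a (Ideal.pow_le_pow_right (by omega) ha))
    haveI := epi_succ' hF k
    obtain ⟨ψ₂, hψ₂⟩ := ih ψ₁ (fun a ha => by
      rw [← cancel_epi (tr F (Nat.le_succ k)), ← Category.assoc, ← smulMod_nat, Category.assoc,
        hψ₁, hψ a ha, comp_zero])
    refine ⟨ψ₂, ?_⟩
    rw [← tr_comp F hk (Nat.le_succ k), Category.assoc, hψ₂, hψ₁]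

section FF

theorem main9530 (F G : ℕᵒᵖ ⥤ X.Modules) (hF : IsFormalSys I F) (hG : IsFormalSys I G)
    (m : ℕ → ℕ) (hm : Monotone m) (hle : ∀ n : ℕ, n ≤ m n) (π : DerCA.reindex F hm ⟶ F)
    (hπ : ∀ n : ℕ, π.app (op n) = F.map (homOfLE (hle n)).op) (α : DerCA.reindex F hm ⟶ G) :
    ∃! β : F ⟶ G, π ≫ β = α := by
  have hepi : ∀ n, Epi (π.app (op n)) := fun n => by
    rw [hπ n]; exact epi_tr hF (hle n)
  have hβ : ∀ n : ℕ, ∃ b : F.obj (op n) ⟶ G.obj (op n), π.app (op n) ≫ b = α.app (op n) := by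
    intro n
    rw [hπ n]
    refine gen_desc hF (hle n) (α.app (op n)) (fun a ha => ?_)
    change Formal.smulMod A (F.obj (op (m n))) a ≫ α.app (op n) = 0
    rw [smulMod_nat, hG.1 n a ha, comp_zero]
  choose b hb using hβ
  have hnat : ∀ n : ℕ, F.map (homOfLE (n.le_add_right 1)).op ≫ b n =
      b (n + 1) ≫ G.map (homOfLE (n.le_add_right 1)).op := by
    intro n
    haveI := hepi (n + 1)
    rw [← cancel_epi (π.app (op (n + 1))), ← Category.assoc, ← Category.assoc, hb (n + 1),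
      ← π.naturality, Category.assoc, hb n, α.naturality]
  let β : F ⟶ G := NatTrans.ofOpSequence b hnat
  have hβ' : π ≫ β = α := by
    apply NatTrans.ext
    funext j
    obtain ⟨n⟩ := j
    exact hb n
  refine ⟨β, hβ', fun β' h' => ?_⟩
  apply NatTrans.ext
  funext j
  obtain ⟨n⟩ := j
  haveI := hepi n
  rw [← cancel_epi (π.app (op n))]
  have h1 := congrArg (fun t => NatTrans.app t (op n)) h'
  have h2 := congrArg (fun t => NatTrans.app t (op n)) hβ'
  exact h1.trans h2.symm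

end FF

section ProIso

/-- the canonical map from a reindexed system -/
noncomputable def piRe (F : ℕᵒᵖ ⥤ X.Modules) (m : ℕ → ℕ) (hm : Monotone m) (hle : ∀ n : ℕ, n ≤ m n) :
    DerCA.reindex F hm ⟶ F where
  app j := F.map (homOfLE (hle j.unop)).op
  naturality j j' φ := by
    change F.map _ ≫ F.map _ = F.map _ ≫ F.map _
    rw [← F.map_comp, ← F.map_comp]
    congr 1

theorem main9552 (F G : ℕᵒᵖ ⥤ X.Modules) (hF : IsFormalSys I F) (hG : IsFormalSys I G)
    (h : Algz.IsProIsomorphic F G) : Nonempty (F ≅ G) := by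
  obtain ⟨m, hm, hle, a, ha⟩ := h
  let π := piRe F m hm hle
  obtain ⟨β, hβ, -⟩ := main9530 F G hF hG m hm hle π (fun n => rfl) a
  have hβn : ∀ n : ℕ, π.app (op n) ≫ β.app (op n) = a.app (op n) := fun n =>
    congrArg (fun t => NatTrans.app t (op n)) hβ
  haveI : ∀ j : ℕᵒᵖ, IsIso (β.app j) := by
    intro j
    obtain ⟨n⟩ := j
    obtain ⟨k, hnk, b, hb1, hb2⟩ := ha n
    have hc : ∀ x ∈ I ^ (n + 1), Formal.smulMod A (G.obj (op k)) x ≫ (b ≫ π.app (op n)) = 0 := by
      intro x hx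
      rw [smulMod_nat, hF.1 n x hx, comp_zero]
    obtain ⟨γ, hγ⟩ := gen_desc hG hnk (b ≫ π.app (op n)) hc
    haveI := epi_tr hG hnk
    haveI : Epi (π.app (op k)) := epi_tr hF (hle k)
    haveI := epi_tr hF hnk
    refine ⟨γ, ?_, ?_⟩
    · rw [← cancel_epi (tr F hnk), ← cancel_epi (π.app (op k))]
      have e1 : tr F hnk ≫ β.app (op n) = β.app (op k) ≫ tr G hnk := β.naturality (homOfLE hnk).op
      have e2 : ARSys.tr (DerCA.reindex F hm) hnk ≫ π.app (op n) = π.app (op k) ≫ tr F hnk :=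
        π.naturality (homOfLE hnk).op
      rw [Category.comp_id, ← Category.assoc (tr F hnk), e1, Category.assoc, hγ,
        ← Category.assoc, ← Category.assoc, hβn k, hb1]
      exact e2
    · rw [← cancel_epi (tr G hnk), ← Category.assoc, hγ, Category.assoc, hβn n, hb2,
        Category.comp_id]
  haveI : IsIso β := NatIso.isIso_of_isIso_app β
  exact ⟨asIso β⟩

end ProIso

end Groth.Agent.Lib.Helper4.CohFormalPro
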