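import Mathlib
import Groth.Prelude.Def_Formal
import Groth.Prelude.Def_Formal2
import Groth.Agent.Lib.Helper4.IPow1
import Groth.Agent.Lib.Helper4.ModPowLim
import Groth.Agent.Lib.Helper4.CohFormalPB
import Groth.Agent.Lib.Helper4.CohFormalPro

/-!
# Coherent formal modules killed by a power of the ideal algebraize (helper4)
-/

set_option backward.isDefEq.respectTransparency.types false
set_option synthInstance.maxHeartbeats 400000
set_option autoImplicit false
set_option linter.unusedSectionVars false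
set_option linter.style.haveILetI false
set_option linter.unusedSimpArgs false
universe u v w
open CategoryTheory CategoryTheory.Limits AlgebraicGeometry TopologicalSpace Topology

namespace Groth.Agent.Lib.Helper4.CohFormalTors

open Opposite Groth.Agent.Lib.Helper4.IPow1 Groth.Agent.Lib.Helper4.ModPowLim
open Groth.Agent.Lib.Helper4.CohFormalPB Groth.Agent.Lib.Helper4.CohFormalPro

variable {A : Type u} [CommRing A] {X : Scheme.{u}} [X.Over (Spec (CommRingCat.of A))]
  {I : Ideal A}

theorem smulFamily_eq_zero {J : Ideal A} {M : X.Modules} (h : Formal.KilledBy J M) :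
    Formal.smulFamily J M = 0 := by
  apply Sigma.hom_ext
  intro a
  unfold Formal.smulFamily
  rw [Sigma.ι_desc, comp_zero]
  exact h a a.2

theorem isIso_succ_of_killed {F : ℕᵒᵖ ⥤ X.Modules} (hF : IsFormalSys I F) (k : ℕ)
    (hk : Formal.KilledBy (I ^ (k + 1)) (F.obj (op (k + 1)))) : IsIso (tr F (Nat.le_succ k)) := by
  obtain ⟨h, hi⟩ := hF.2 k
  have e : tr F (Nat.le_succ k) = cokernel.π _ ≫ cokernel.desc _ _ h := (cokernel.π_desc _ _ h).symm
  rw [e]
  have h0 := smulFamily_eq_zero hk
  haveI : IsIso (cokernel.π (Formal.smulFamily (I ^ (k + 1)) (F.obj (op (k + 1))))) := by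
    rw [h0]
    infer_instance
  haveI := hi
  infer_instance

theorem isIso_tr_of_killed {F : ℕᵒᵖ ⥤ X.Modules} (hF : IsFormalSys I F) (c : ℕ)
    (hc : ∀ n : ℕ, Formal.KilledBy (I ^ c) (F.obj (op n))) {N : ℕ} (h : c ≤ N) :
    IsIso (tr F h) := by
  induction N, h using Nat.le_induction with
  | base =>
    have : tr F (le_refl c) = 𝟙 _ := F.map_id _
    rw [this]
    infer_instance
  | succ k hk ih =>
    rw [← tr_comp F hk (Nat.le_succ k)]
    haveI := ih
    haveI := isIso_succ_of_killed hF k (fun a ha =>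
      hc (k + 1) a (Ideal.pow_le_pow_right (by omega) ha))
    infer_instance

section Main

open Groth.Agent.Lib.Helper4.ModPowSES

/-- `tr F h` is a cokernel of `I^(n+1) F_k → F_k` -/
noncomputable def isColimitTr {F : ℕᵒᵖ ⥤ X.Modules} (hF : IsFormalSys I F) {n k : ℕ} (h : n ≤ k)
    (w : Formal.smulFamily (I ^ (n + 1)) (F.obj (op k)) ≫ tr F h = 0) :
    IsColimit (CokernelCofork.ofπ (tr F h) w) := by
  haveI := epi_tr hF h
  have hex : ∀ {Z : X.Modules} (ψ : F.obj (op k) ⟶ Z),
      Formal.smulFamily (I ^ (n + 1)) (F.obj (op k)) ≫ ψ = 0 → ∃ ψ', tr F h ≫ ψ' = ψ := by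
    intro Z ψ hψ
    refine gen_desc hF h ψ (fun a ha => ?_)
    have e : Formal.smulMod A (F.obj (op k)) a =
        Sigma.ι (fun _ : ↥(I ^ (n + 1)) => F.obj (op k)) ⟨a, ha⟩ ≫
          Formal.smulFamily (I ^ (n + 1)) (F.obj (op k)) := by
      unfold Formal.smulFamily
      rw [Sigma.ι_desc]
    rw [e, Category.assoc, hψ, comp_zero]
  exact CokernelCofork.IsColimit.ofπ _ _
    (fun ψ hψ => (hex ψ hψ).choose)
    (fun ψ hψ => (hex ψ hψ).choose_spec)
    (fun ψ hψ m hm => by
      rw [← cancel_epi (tr F h), hm]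
      exact (hex ψ hψ).choose_spec.symm)

theorem smulFamily_tr {F : ℕᵒᵖ ⥤ X.Modules} (hF : IsFormalSys I F) {n k : ℕ} (h : n ≤ k) :
    Formal.smulFamily (I ^ (n + 1)) (F.obj (op k)) ≫ tr F h = 0 := by
  apply Sigma.hom_ext
  intro a
  unfold Formal.smulFamily
  rw [← Category.assoc, Sigma.ι_desc, comp_zero, smulMod_nat, hF.1 n a a.2, comp_zero]

/-- transport of a cokernel along an isomorphism commuting with the scalar multiplications -/
noncomputable def isColimitOfIso {M N Q : X.Modules} (J : Ideal A) (j : M ≅ N) (q : N ⟶ Q)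
    (w : Formal.smulFamily J N ≫ q = 0) (hq : IsColimit (CokernelCofork.ofπ q w))
    (w' : Formal.smulFamily J M ≫ j.hom ≫ q = 0) :
    IsColimit (CokernelCofork.ofπ (j.hom ≫ q) w') := by
  haveI : Epi q := epi_of_isColimit_cofork hq
  have key : ∀ {Z : X.Modules} (ψ : M ⟶ Z), Formal.smulFamily J M ≫ ψ = 0 →
      Formal.smulFamily J N ≫ j.inv ≫ ψ = 0 := by
    intro Z ψ hψ
    apply Sigma.hom_ext
    intro a
    have e : ∀ (P : X.Modules), Sigma.ι (fun _ : ↥J => P) a ≫ Formal.smulFamily J P =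
        Formal.smulMod A P a := by
      intro P
      unfold Formal.smulFamily
      rw [Sigma.ι_desc]
    rw [← Category.assoc, e, comp_zero, ← Category.assoc, smulMod_nat, Category.assoc, ← e M,
      Category.assoc, hψ, comp_zero, comp_zero]
  exact CokernelCofork.IsColimit.ofπ _ _
    (fun ψ hψ => hq.desc (CokernelCofork.ofπ (j.inv ≫ ψ) (key ψ hψ)))
    (fun ψ hψ => by
      rw [Category.assoc]
      have := hq.fac (CokernelCofork.ofπ (j.inv ≫ ψ) (key ψ hψ)) WalkingParallelPair.one
      change q ≫ _ = j.inv ≫ ψ at this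
      rw [this, Iso.hom_inv_id_assoc])
    (fun ψ hψ m hm => by
      have := hq.fac (CokernelCofork.ofπ (j.inv ≫ ψ) (key ψ hψ)) WalkingParallelPair.one
      change q ≫ _ = j.inv ≫ ψ at this
      rw [← cancel_epi q, this, ← hm, Category.assoc, Iso.inv_hom_id_assoc])

end Main

section Final

theorem main (F : ℕᵒᵖ ⥤ X.Modules) (hF : Formal.IsCohFormal I F)
    (hc : ∃ c : ℕ, ∀ n : ℕ, Formal.KilledBy (I ^ c) (F.obj (op n))) :
    ∃ M : X.Modules, Coh.IsCoh M ∧ Nonempty (Formal.completion I M ≅ F) := by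
  obtain ⟨c, hc⟩ := hc
  have hF' := isFormalSys_of_isCohFormal I hF
  refine ⟨F.obj (op c), hF.1 c, ?_⟩
  haveI hiso : ∀ {N : ℕ} (h : c ≤ N), IsIso (tr F h) := fun h => isIso_tr_of_killed hF' c hc h
  let j : ∀ n : ℕ, F.obj (op c) ≅ F.obj (op (max n c)) := fun n =>
    (asIso (tr F (le_max_right n c))).symm
  have hj : ∀ n : ℕ, (j n).hom ≫ tr F (le_max_right n c) = 𝟙 _ := fun n =>
    (asIso (tr F (le_max_right n c))).inv_hom_id
  let ρ : ∀ n : ℕ, F.obj (op c) ⟶ F.obj (op n) := fun n => (j n).hom ≫ tr F (le_max_left n c)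
  have wρ : ∀ n : ℕ, Formal.smulFamily (I ^ (n + 1)) (F.obj (op c)) ≫
      (j n).hom ≫ tr F (le_max_left n c) = 0 := by
    intro n
    apply Sigma.hom_ext
    intro a
    unfold Formal.smulFamily
    rw [← Category.assoc, Sigma.ι_desc, comp_zero, smulMod_nat, hF'.1 n a a.2, comp_zero]
  have hcolim : ∀ n : ℕ, IsColimit (CokernelCofork.ofπ (ρ n) (wρ n)) := fun n =>
    isColimitOfIso (I ^ (n + 1)) (j n) (tr F (le_max_left n c)) (smulFamily_tr hF' _)
      (isColimitTr hF' _ _) (wρ n)
  have hcompat : ∀ n : ℕ, ρ (n + 1) ≫ tr F (Nat.le_succ n) = ρ n := by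
    intro n
    have hNN : max n c ≤ max (n + 1) c := max_le_max (Nat.le_succ n) le_rfl
    have e1 : (j (n + 1)).hom ≫ tr F hNN = (j n).hom := by
      haveI : Mono (tr F (le_max_right n c)) := inferInstance
      rw [← cancel_mono (tr F (le_max_right n c)), Category.assoc, tr_comp, hj n]
      exact hj (n + 1)
    change ((j (n + 1)).hom ≫ tr F (le_max_left (n + 1) c)) ≫ tr F (Nat.le_succ n) =
      (j n).hom ≫ tr F (le_max_left n c)
    rw [Category.assoc, tr_comp, ← e1, Category.assoc, tr_comp]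
  let e : ∀ n : ℕ, Formal.modPow I (n + 1) (F.obj (op c)) ≅ F.obj (op n) := fun n =>
    IsColimit.coconePointUniqueUpToIso
      (colimit.isColimit (parallelPair (Formal.smulFamily (I ^ (n + 1)) (F.obj (op c))) 0)) (hcolim n)
  have he : ∀ n : ℕ, Formal.modPowπ I (n + 1) (F.obj (op c)) ≫ (e n).hom = ρ n := fun n =>
    IsColimit.comp_coconePointUniqueUpToIso_hom
      (colimit.isColimit (parallelPair (Formal.smulFamily (I ^ (n + 1)) (F.obj (op c))) 0)) (hcolim n)
      WalkingParallelPair.one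
  let α : Formal.completion I (F.obj (op c)) ⟶ F := NatTrans.ofOpSequence (fun n => (e n).hom) (by
    intro n
    haveI : Epi (Formal.modPowπ I (n + 1 + 1) (F.obj (op c))) := by
      have := epi_of_isColimit_cofork (colimit.isColimit
        (parallelPair (Formal.smulFamily (I ^ (n + 1 + 1)) (F.obj (op c))) 0))
      exact this
    have e1 : (Formal.completion I (F.obj (op c))).map (homOfLE (n.le_add_right 1)).op =
        Formal.modPowTrans I (n + 1) (F.obj (op c)) := by
      unfold Formal.completion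
      exact Functor.ofOpSequence_map_homOfLE_succ _ n
    have key : Formal.modPowπ I (n + 1 + 1) (F.obj (op c)) ≫
        (Formal.modPowTrans I (n + 1) (F.obj (op c)) ≫ (e n).hom) =
        Formal.modPowπ I (n + 1 + 1) (F.obj (op c)) ≫
          ((e (n + 1)).hom ≫ F.map (homOfLE (n.le_add_right 1)).op) := by
      rw [← Category.assoc, Formal.modPowπ_trans, he n, ← Category.assoc, he (n + 1)]
      exact (hcompat n).symm
    have key2 := (cancel_epi _).1 key
    exact (congrArg (· ≫ (e n).hom) e1).trans key2)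
  haveI : ∀ j' : ℕᵒᵖ, IsIso (α.app j') := by
    intro j'
    change IsIso (e j'.unop).hom
    infer_instance
  haveI : IsIso α := NatIso.isIso_of_isIso_app α
  exact ⟨asIso α⟩

end Final

end Groth.Agent.Lib.Helper4.CohFormalTors
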