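import Mathlib
import Groth.Prelude.Def_Formal
import Groth.Prelude.Def_Algz
import Groth.Agent.Lib.Helper4.CohFormalPB
import Groth.Agent.Lib.Helper4.CohFormalPro
import Groth.Agent.Lib.Helper1.PushQc
import Groth.Agent.Lib.Helper4.CohFormalTors

/-!
# canonically extends implies extends (S9531) (helper4)
-/

set_option backward.isDefEq.respectTransparency.types false
set_option synthInstance.maxHeartbeats 400000
set_option autoImplicit false
set_option linter.unusedSectionVars false
set_option linter.style.haveILetI false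
set_option linter.unusedSimpArgs false
universe u v w
open CategoryTheory CategoryTheory.Limits AlgebraicGeometry TopologicalSpace Topology

namespace Groth.Agent.Lib.Helper4.CanonExt

open Opposite Groth.Agent.Lib.Helper4.CohFormalPB Groth.Agent.Lib.Helper4.CohFormalPro

section Pro

variable {C : Type*} [Category C] {D : Type*} [Category D]

/-- pro-isomorphisms are preserved by functors -/
theorem isProIsomorphic_comp {X Y : ℕᵒᵖ ⥤ C} (R : C ⥤ D) (h : Algz.IsProIsomorphic X Y) :
    Algz.IsProIsomorphic (X ⋙ R) (Y ⋙ R) := by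
  obtain ⟨m, hm, hle, a, ha⟩ := h
  refine ⟨m, hm, hle, Functor.whiskerRight a R, fun n => ?_⟩
  obtain ⟨k, hk, b, hb1, hb2⟩ := ha n
  refine ⟨k, hk, R.map b, ?_, ?_⟩
  · have := congrArg R.map hb1
    rw [R.map_comp] at this
    exact this
  · have := congrArg R.map hb2
    rw [R.map_comp] at this
    exact this

/-- pro-isomorphisms are invariant under levelwise isomorphisms on the left -/
theorem isProIsomorphic_of_iso_left {X X' Y : ℕᵒᵖ ⥤ C} (e : X ≅ X')
    (h : Algz.IsProIsomorphic X Y) : Algz.IsProIsomorphic X' Y := by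
  obtain ⟨m, hm, hle, a, ha⟩ := h
  refine ⟨m, hm, hle, Functor.whiskerLeft (Monotone.functor hm).op e.inv ≫ a, fun n => ?_⟩
  obtain ⟨k, hk, b, hb1, hb2⟩ := ha n
  let ak : X.obj (op (m k)) ⟶ Y.obj (op k) := a.app (op k)
  let an : X.obj (op (m n)) ⟶ Y.obj (op n) := a.app (op n)
  let b' : Y.obj (op k) ⟶ X.obj (op (m n)) := b
  let φ : (op (m k) : ℕᵒᵖ) ⟶ op (m n) := (Monotone.functor hm).op.map (homOfLE hk).op
  have hb1' : ak ≫ b' = X.map φ := hb1
  have hb2' : b' ≫ an = Y.map (homOfLE hk).op := hb2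
  refine ⟨k, hk, b' ≫ e.hom.app (op (m n)), ?_, ?_⟩
  · change (e.inv.app (op (m k)) ≫ ak) ≫ b' ≫ e.hom.app (op (m n)) = X'.map φ
    calc (e.inv.app (op (m k)) ≫ ak) ≫ b' ≫ e.hom.app (op (m n))
        = e.inv.app (op (m k)) ≫ (ak ≫ b') ≫ e.hom.app (op (m n)) := by
          simp only [Category.assoc]
      _ = e.inv.app (op (m k)) ≫ X.map φ ≫ e.hom.app (op (m n)) := by rw [hb1']
      _ = X'.map φ := by
          rw [e.hom.naturality, ← Category.assoc, Iso.inv_hom_id_app, Category.id_comp]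
  · change (b' ≫ e.hom.app (op (m n))) ≫ e.inv.app (op (m n)) ≫ an = Y.map (homOfLE hk).op
    calc (b' ≫ e.hom.app (op (m n))) ≫ e.inv.app (op (m n)) ≫ an
        = b' ≫ (e.hom.app (op (m n)) ≫ e.inv.app (op (m n))) ≫ an := by
          simp only [Category.assoc]
      _ = b' ≫ an := by rw [Iso.hom_inv_id_app, Category.id_comp]
      _ = Y.map (homOfLE hk).op := hb2'

end Pro

section Iso

open Groth.Agent.Lib.Helper4.IPow1 Groth.Agent.Lib.Helper4.CohFormalTors

variable {A : Type u} [CommRing A] {X : Scheme.{u}} [X.Over (Spec (CommRingCat.of A))]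
  {I : Ideal A}

/-- composing a cokernel with an isomorphism -/
noncomputable def isColimitCompIso {M Q Q' : X.Modules} {P : X.Modules} (s : P ⟶ M) (q : M ⟶ Q)
    (w : s ≫ q = 0) (hq : IsColimit (CokernelCofork.ofπ q w)) (i : Q ≅ Q')
    (w' : s ≫ q ≫ i.hom = 0) : IsColimit (CokernelCofork.ofπ (q ≫ i.hom) w') :=
  IsColimit.ofIsoColimit hq (Cofork.ext i rfl)

theorem isFormalSys_of_iso {F F' : ℕᵒᵖ ⥤ X.Modules} (e : F ≅ F') (h : IsFormalSys I F) :
    IsFormalSys I F' := by
  refine ⟨fun n a ha => ?_, fun n => ?_⟩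
  · have h1 : Formal.smulMod A (F'.obj (op n)) a =
        e.inv.app (op n) ≫ Formal.smulMod A (F.obj (op n)) a ≫ e.hom.app (op n) := by
      rw [smulMod_nat, ← Category.assoc, Iso.inv_hom_id_app, Category.id_comp]
    rw [h1, h.1 n a ha, zero_comp, comp_zero]
  · obtain ⟨w, hi⟩ := h.2 n
    have hc := isColimitOfIsIsoDesc _ _ w hi
    have hnat : F'.map (homOfLE (Nat.le_succ n)).op =
        ((e.app (op (n + 1))).symm.hom ≫ F.map (homOfLE (Nat.le_succ n)).op) ≫
          (e.app (op n)).hom := by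
      change _ = (e.inv.app _ ≫ _) ≫ e.hom.app _
      rw [Category.assoc, e.hom.naturality, Iso.inv_hom_id_app_assoc]
    have w1 : Formal.smulFamily (I ^ (n + 1)) (F'.obj (op (n + 1))) ≫
        (e.app (op (n + 1))).symm.hom ≫ F.map (homOfLE (Nat.le_succ n)).op = 0 := by
      apply Sigma.hom_ext
      intro a
      unfold Formal.smulFamily
      rw [← Category.assoc, Sigma.ι_desc, comp_zero, ← Category.assoc, smulMod_nat,
        Category.assoc, smulMod_nat, h.1 n a a.2, comp_zero, comp_zero]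
    have hc1 := isColimitOfIso (I ^ (n + 1)) (e.app (op (n + 1))).symm _ w hc w1
    have w2 : Formal.smulFamily (I ^ (n + 1)) (F'.obj (op (n + 1))) ≫
        ((e.app (op (n + 1))).symm.hom ≫ F.map (homOfLE (Nat.le_succ n)).op) ≫
          (e.app (op n)).hom = 0 := by
      rw [← Category.assoc, w1, zero_comp]
    have hc2 := isColimitCompIso _ _ w1 hc1 (e.app (op n)) w2
    have w3 : Formal.smulFamily (I ^ (n + 1)) (F'.obj (op (n + 1))) ≫
        F'.map (homOfLE (Nat.le_succ n)).op = 0 := by rw [hnat]; exact w2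
    refine ⟨w3, isIso_desc_of_isColimit _ _ w3 ?_⟩
    have : CokernelCofork.ofπ (F'.map (homOfLE (Nat.le_succ n)).op) w3 =
        CokernelCofork.ofπ _ w2 := by
      congr 1
    rw [this]
    exact hc2

end Iso

section Main

open Groth.Agent.Helper1

variable (A : Type u) [CommRing A]

/-- `((H⁰(U, G_n))~)|_U ≅ G_n` naturally -/
noncomputable def sectSysRestrictIso (U : (Spec (CommRingCat.of A)).Opens) [QuasiCompact U.ι]
    (G : ℕᵒᵖ ⥤ (U : Scheme.{u}).Modules) (hG : ∀ n : ℕᵒᵖ, (G.obj n).IsQuasicoherent) :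
    Algz.restrictSys U (Algz.sectSys A U G) ≅ G := by
  have hq : ∀ n : ℕᵒᵖ, ((Scheme.Modules.pushforward U.ι).obj (G.obj n)).IsQuasicoherent := fun n =>
    haveI := hG n
    PushQc.isQuasicoherent_pushforward U.ι (G.obj n)
  have hiso : ∀ n : ℕᵒᵖ, IsIso ((Scheme.Modules.fromTildeΓNatTrans (R := CommRingCat.of A)).app
      ((Scheme.Modules.pushforward U.ι).obj (G.obj n))) := fun n => by
    exact @Scheme.Modules.isIso_fromTildeΓ_of_isQuasicoherent (CommRingCat.of A)
      ((Scheme.Modules.pushforward U.ι).obj (G.obj n)) (hq n)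
  refine NatIso.ofComponents (fun n =>
    (Scheme.Modules.restrictFunctor U.ι).mapIso
      (@asIso _ _ _ _ ((Scheme.Modules.fromTildeΓNatTrans (R := CommRingCat.of A)).app
        ((Scheme.Modules.pushforward U.ι).obj (G.obj n))) (hiso n)) ≪≫
    (Scheme.Modules.restrictFunctorAdjCounitIso U.ι).app (G.obj n)) ?_
  intro n n' φ
  have h1 := (Scheme.Modules.fromTildeΓNatTrans (R := CommRingCat.of A)).naturality
    ((Scheme.Modules.pushforward U.ι).map (G.map φ))
  have h2 := (Scheme.Modules.restrictFunctorAdjCounitIso U.ι).hom.naturality (G.map φ)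
  change (Scheme.Modules.restrictFunctor U.ι).map
      ((moduleSpecΓFunctor ⋙ tilde.functor (CommRingCat.of A)).map
        ((Scheme.Modules.pushforward U.ι).map (G.map φ))) ≫
      (Scheme.Modules.restrictFunctor U.ι).map
        ((Scheme.Modules.fromTildeΓNatTrans (R := CommRingCat.of A)).app _) ≫
        (Scheme.Modules.restrictFunctorAdjCounitIso U.ι).hom.app (G.obj n') =
    ((Scheme.Modules.restrictFunctor U.ι).map
        ((Scheme.Modules.fromTildeΓNatTrans (R := CommRingCat.of A)).app _) ≫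
        (Scheme.Modules.restrictFunctorAdjCounitIso U.ι).hom.app (G.obj n)) ≫ G.map φ
  rw [← Category.assoc, ← Functor.map_comp, h1, Functor.map_comp, Category.assoc, Category.assoc]
  congr 1

theorem main_gen (I : Ideal A) (U : (Spec (CommRingCat.of A)).Opens) [QuasiCompact U.ι]
    (G : ℕᵒᵖ ⥤ (↑U : Scheme.{u}).Modules) (hG : Formal.IsCohFormal I G)
    (h : Algz.CanonicallyExtends A I U G) :
    @Algz.Extends A _ (Spec (CommRingCat.of A)) ⟨𝟙 (Spec (CommRingCat.of A))⟩ I U G := by
  obtain ⟨G', hG', hpro⟩ := h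
  letI : (Spec (CommRingCat.of A)).Over (Spec (CommRingCat.of A)) := ⟨𝟙 _⟩
  refine ⟨G', hG', ?_⟩
  have hqc : ∀ n : ℕᵒᵖ, (G.obj n).IsQuasicoherent := fun n => (hG.1 n.unop).1
  -- restrict the pro-isomorphism
  have hpro1 := isProIsomorphic_comp (Scheme.Modules.restrictFunctor U.ι) hpro
  have hpro2 : Algz.IsProIsomorphic G (Algz.restrictSys U G') :=
    isProIsomorphic_of_iso_left (sectSysRestrictIso A U G hqc) hpro1
  -- both are formal systems
  have hf : U.ι ≫ ((Spec (CommRingCat.of A)) ↘ Spec (CommRingCat.of A)) =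
      (↑U : Scheme.{u}) ↘ Spec (CommRingCat.of A) := Category.comp_id _
  have h1 : Formal.IsCohFormal I (G' ⋙ Scheme.Modules.pullback U.ι) :=
    Groth.Agent.Lib.Helper4.CohFormalPB.main U.ι hf I G' hG'
  have h2 : IsFormalSys I (Algz.restrictSys U G') :=
    isFormalSys_of_iso (Functor.isoWhiskerLeft G' (Scheme.Modules.restrictFunctorIsoPullback U.ι).symm)
      (isFormalSys_of_isCohFormal I h1)
  obtain ⟨e⟩ := main9552 G (Algz.restrictSys U G') (isFormalSys_of_isCohFormal I hG) h2 hpro2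
  exact ⟨e.symm⟩

theorem main [IsNoetherianRing A] (I 𝔞 : Ideal A) (hI𝔞 : I ≤ 𝔞)
    (G : ℕᵒᵖ ⥤ (↑(LocCoh.puncturedOpen A 𝔞) : Scheme.{u}).Modules) (hG : Formal.IsCohFormal I G)
    (h : Algz.CanonicallyExtends A I (LocCoh.puncturedOpen A 𝔞) G) :
    @Algz.Extends A _ (Spec (CommRingCat.of A)) ⟨𝟙 (Spec (CommRingCat.of A))⟩ I
      (LocCoh.puncturedOpen A 𝔞) G :=
  main_gen A I (LocCoh.puncturedOpen A 𝔞) G hG h

end Main

end Groth.Agent.Lib.Helper4.CanonExt
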