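import Mathlib

/-!
# Inverse limits of I-adic systems of modules for a finitely generated ideal: M/I^nM = M_n (helper4) (helper4)
-/

set_option backward.isDefEq.respectTransparency.types false
set_option synthInstance.maxHeartbeats 400000
set_option autoImplicit false
set_option linter.unusedSectionVars false
set_option linter.style.haveILetI false
set_option linter.unusedSimpArgs false
universe u v w
open CategoryTheory CategoryTheory.Limits AlgebraicGeometry TopologicalSpace Topology

namespace Groth.Agent.Lib.Helper4.AdicLimAlg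

section Alg

variable {R : Type*} [CommRing R] (I : Ideal R)

/-- elements of `J • N` for `J` generated by a finite family are combinations of the generators with
coefficients in `N` -/
theorem exists_sum_of_mem_span_smul {M : Type*} [AddCommGroup M] [Module R M] {t : ℕ}
    (g : Fin t → R) (N : Submodule R M) (x : M) (hx : x ∈ Ideal.span (Set.range g) • N) :
    ∃ y : Fin t → M, (∀ j, y j ∈ N) ∧ x = ∑ j, g j • y j := by
  induction hx using Submodule.smul_induction_on' with
  | smul r hr n hn =>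
    obtain ⟨c, hc⟩ := Ideal.mem_span_range_iff_exists_fun.1 hr
    refine ⟨fun j => c j • n, fun j => N.smul_mem _ hn, ?_⟩
    rw [← hc, Finset.sum_smul]
    refine Finset.sum_congr rfl fun j _ => ?_
    rw [smul_smul, mul_comm]
  | add x hx y hy hx' hy' =>
    obtain ⟨a, ha, rfl⟩ := hx'
    obtain ⟨b, hb, rfl⟩ := hy'
    refine ⟨fun j => a j + b j, fun j => N.add_mem (ha j) (hb j), ?_⟩
    rw [← Finset.sum_add_distrib]
    refine Finset.sum_congr rfl fun j _ => ?_
    rw [smul_add]

variable {M : Type*} [AddCommGroup M] [Module R M]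
  {Ms : ℕ → Type*} [∀ m, AddCommGroup (Ms m)] [∀ m, Module R (Ms m)]
  (T : ∀ m n, m ≤ n → Ms n →ₗ[R] Ms m)
  (T_self : ∀ m x, T m m le_rfl x = x)
  (T_comp : ∀ k m n (h1 : k ≤ m) (h2 : m ≤ n) x, T k m h1 (T m n h2 x) = T k n (h1.trans h2) x)
  (p : ∀ m, M →ₗ[R] Ms m)
  (p_compat : ∀ m n (h : m ≤ n) x, T m n h (p n x) = p m x)
  (H1 : ∀ m, Function.Surjective (T m (m + 1) (Nat.le_succ m)))
  (H2 : ∀ m x, T m (m + 1) (Nat.le_succ m) x = 0 → x ∈ (I ^ (m + 1) • ⊤ : Submodule R (Ms (m + 1))))
  (H3 : ∀ m, ∀ a ∈ I ^ (m + 1), ∀ x : Ms m, a • x = 0)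
  (H4 : ∀ x : M, (∀ m, p m x = 0) → x = 0)
  (H5 : ∀ s : ∀ m, Ms m, (∀ m, T m (m + 1) (Nat.le_succ m) (s (m + 1)) = s m) → ∃ x, ∀ m, p m x = s m)

include T_self T_comp H1 H5 in
theorem p_surjective (n : ℕ) : Function.Surjective (p n) := by
  intro y
  choose nx hnx using H1
  let u : ∀ k, Ms (n + k) := fun k => Nat.rec (motive := fun k => Ms (n + k)) y (fun k uk => nx (n + k) uk) k
  have hu : ∀ k, T (n + k) (n + k + 1) (Nat.le_succ _) (u (k + 1)) = u k := fun k => hnx (n + k) (u k)
  have hu0 : u 0 = y := rfl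
  have hy : ∀ k, T n (n + k) (Nat.le_add_right n k) (u k) = y := by
    intro k
    induction k with
    | zero => exact T_self n y
    | succ k ih =>
      rw [← ih, ← hu k]
      exact (T_comp n (n + k) (n + k + 1) _ _ _).symm
  let s : ∀ m, Ms m := fun m => T m (n + m) (Nat.le_add_left m n) (u m)
  have hs : ∀ m, T m (m + 1) (Nat.le_succ m) (s (m + 1)) = s m := by
    intro m
    change T m (m + 1) _ (T (m + 1) (n + (m + 1)) _ (u (m + 1))) = T m (n + m) _ (u m)
    rw [T_comp, ← hu m, T_comp]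
    rfl
  obtain ⟨x, hx⟩ := H5 s hs
  exact ⟨x, (hx n).trans (hy n)⟩

include H3 in
theorem p_kills (m : ℕ) (z : M) (hz : z ∈ (I ^ (m + 1) • ⊤ : Submodule R M)) : p m z = 0 := by
  induction hz using Submodule.smul_induction_on' with
  | smul r hr n hn => rw [map_smul]; exact H3 m r hr _
  | add x hx y hy hx' hy' => rw [map_add, hx', hy', add_zero]

theorem exists_lift_mem (m k : ℕ) (hp : Function.Surjective (p m)) (w : Ms m)
    (hw : w ∈ (I ^ k • ⊤ : Submodule R (Ms m))) :
    ∃ z ∈ (I ^ k • ⊤ : Submodule R M), p m z = w := by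
  induction hw using Submodule.smul_induction_on' with
  | smul r hr n hn =>
    obtain ⟨z, rfl⟩ := hp n
    exact ⟨r • z, Submodule.smul_mem_smul hr trivial, map_smul _ _ _⟩
  | add x hx y hy hx' hy' =>
    obtain ⟨a, ha, rfl⟩ := hx'
    obtain ⟨b, hb, rfl⟩ := hy'
    exact ⟨a + b, Submodule.add_mem _ ha hb, map_add _ _ _⟩

include T_self T_comp p_compat H1 H2 H3 H4 H5 in
theorem ker_p_le (hI : I.FG) (n : ℕ) (x : M) (hx : p n x = 0) :
    x ∈ (I ^ (n + 1) • ⊤ : Submodule R M) := by
  obtain ⟨t, g, hg⟩ := Submodule.fg_iff_exists_fin_generating_family.1 (hI.pow (n := n + 1))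
  have hg' : Ideal.span (Set.range g) = I ^ (n + 1) := hg
  have hgm : ∀ j, g j ∈ I ^ (n + 1) := fun j => by
    rw [← hg']; exact Ideal.subset_span ⟨j, rfl⟩
  have hsurj := p_surjective T T_self T_comp p H1 H5
  -- Claim A
  have step : ∀ k (S : {S : Fin t → M // p (n + k) (x - ∑ j, g j • S j) = 0}),
      ∃ S' : {S : Fin t → M // p (n + (k + 1)) (x - ∑ j, g j • S j) = 0},
        ∀ j, S'.1 j - S.1 j ∈ (I ^ k • ⊤ : Submodule R M) := by
    rintro k ⟨S, hS⟩
    set z := x - ∑ j, g j • S j with hz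
    have h1 : p (n + k + 1) z ∈ (I ^ (n + k + 1) • ⊤ : Submodule R (Ms (n + k + 1))) := by
      apply H2
      rw [p_compat]
      exact hS
    have h2 : p (n + k + 1) z ∈ Ideal.span (Set.range g) • (I ^ k • ⊤ : Submodule R (Ms (n + k + 1))) := by
      rw [hg', ← Submodule.mul_smul, ← pow_add, show n + 1 + k = n + k + 1 by omega]
      exact h1
    obtain ⟨y, hy, hsum⟩ := exists_sum_of_mem_span_smul g _ _ h2
    choose Y hY hpY using fun j => exists_lift_mem I p (n + k + 1) k (hsurj _) (y j) (hy j)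
    refine ⟨⟨fun j => S j + Y j, ?_⟩, fun j => ?_⟩
    · change p (n + k + 1) (x - ∑ j, g j • (S j + Y j)) = 0
      have e : x - ∑ j, g j • (S j + Y j) = z - ∑ j, g j • Y j := by
        rw [hz, sub_sub, ← Finset.sum_add_distrib]
        congr 1
        refine Finset.sum_congr rfl fun j _ => ?_
        rw [smul_add]
      rw [e, map_sub, hsum, map_sum, sub_eq_zero]
      refine Finset.sum_congr rfl fun j _ => ?_
      rw [map_smul, hpY]
    · change S j + Y j - S j ∈ _
      rw [add_sub_cancel_left]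
      exact hY j
  choose nxt hnxt using step
  let Sq : ∀ k, {S : Fin t → M // p (n + k) (x - ∑ j, g j • S j) = 0} := fun k =>
    Nat.rec (motive := fun k => {S : Fin t → M // p (n + k) (x - ∑ j, g j • S j) = 0})
      ⟨fun _ => 0, by simpa using hx⟩ (fun k Sk => nxt k Sk) k
  have hdiff : ∀ k j, (Sq (k + 1)).1 j - (Sq k).1 j ∈ (I ^ k • ⊤ : Submodule R M) :=
    fun k j => hnxt k (Sq k) j
  -- the limits
  have hlim : ∀ j, ∃ Y : M, ∀ m, p m Y = p m ((Sq (m + 1)).1 j) := by
    intro j
    apply H5 (fun m => p m ((Sq (m + 1)).1 j))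
    intro m
    rw [p_compat]
    have := p_kills I p H3 m _ (hdiff (m + 1) j)
    rw [map_sub, sub_eq_zero] at this
    exact this
  choose Y hY using hlim
  have hxY : x = ∑ j, g j • Y j := by
    rw [← sub_eq_zero]
    apply H4
    intro m
    have h1 : p m (x - ∑ j, g j • (Sq (m + 1)).1 j) = 0 := by
      rw [← p_compat m (n + (m + 1)) (by omega), (Sq (m + 1)).2, map_zero]
    rw [← h1, map_sub, map_sub, map_sum, map_sum]
    congr 1
    refine Finset.sum_congr rfl fun j _ => ?_
    rw [map_smul, map_smul, hY]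
  rw [hxY]
  exact Submodule.sum_mem _ fun j _ => Submodule.smul_mem_smul (hgm j) trivial

end Alg

end Groth.Agent.Lib.Helper4.AdicLimAlg
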