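import Mathlib
import Groth.Agent.Lib.Lead.RH3

/-!
# sheaf Hom sections as morphisms; post-composition (helper4)
-/

set_option backward.isDefEq.respectTransparency.types false
set_option synthInstance.maxHeartbeats 400000
set_option autoImplicit false
set_option linter.unusedSectionVars false
set_option linter.style.haveILetI false
set_option linter.unusedSimpArgs false
universe u v w
open CategoryTheory CategoryTheory.Limits AlgebraicGeometry TopologicalSpace Topology

namespace Groth.Agent.Lib.Helper4.LimHomA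

open Groth.Agent.Lead.RH Opposite

variable {X : Scheme.{u}} {F G : X.Modules}

/-- the morphism of abelian sheaves defined by a global section of the sheaf Hom -/
noncomputable def toHomAb (g : Γ(RefHull.homSh F G, ⊤)) : Coh.toAb F ⟶ Coh.toAb G :=
  ⟨{ app := fun U => AddCommGrpCat.ofHom
      { toFun := fun m => app g (le_top : U.unop ≤ ⊤) m
        map_zero' := by
          have := app_add g (le_top : U.unop ≤ ⊤) 0 0
          rw [add_zero] at this
          exact left_eq_add.mp this
        map_add' := app_add g le_top }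
     naturality := by
       intro U V f
       ext m
       exact (app_res g (le_top : U.unop ≤ ⊤) (leOfHom f.unop) m).symm }⟩

/-- the morphism of modules defined by a global section of the sheaf Hom -/
noncomputable def toHom (g : Γ(RefHull.homSh F G, ⊤)) : F ⟶ G :=
  ⟨PresheafOfModules.homMk (toHomAb g).hom (by
    intro U s m
    exact app_smul g (le_top : U.unop ≤ ⊤) s m)⟩

theorem toHom_app (g : Γ(RefHull.homSh F G, ⊤)) (U : X.Opens) (m : Γ(F, U)) :
    (toHom g).app U m = app g le_top m := rfl


theorem app_ofHom (φ : F ⟶ G) (U : X.Opens) {V : X.Opens} (i : V ≤ U) (m : Γ(F, V)) :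
    app (RefHull.ofHom φ U) i m = φ.app V m := by
  apply section_ext
  intro y hy
  rw [germ_app, RefHull.ofHom_apply, RefHull.stalkMapₗ_germ]

theorem toHom_ofHom (φ : F ⟶ G) : toHom (RefHull.ofHom φ ⊤) = φ := by
  apply Scheme.Modules.hom_ext
  intro U
  ext m
  exact app_ofHom φ ⊤ le_top m

variable {G' G'' : X.Modules}

/-- post-composition on the sheaf Hom, on sections -/
noncomputable def post (φ : G ⟶ G') {U : X.Opens} (g : Γ(RefHull.homSh F G, U)) :
    Γ(RefHull.homSh F G', U) :=
  ⟨fun x => (RefHull.stalkMapₗ φ x.1).comp (g.1 x), fun V i m x => by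
    obtain ⟨W, hxW, j, n, hn⟩ := RefHull.isLocSect_of_mem g V i m x
    refine ⟨W, hxW, j, φ.app W n, fun y => ?_⟩
    rw [LinearMap.comp_apply, hn y, RefHull.stalkMapₗ_germ]⟩

theorem post_apply (φ : G ⟶ G') {U : X.Opens} (g : Γ(RefHull.homSh F G, U)) (x : U) :
    (post φ g).1 x = (RefHull.stalkMapₗ φ x.1).comp (g.1 x) := rfl

theorem post_map (φ : G ⟶ G') {U V : X.Opens} (i : V ⟶ U) (g : Γ(RefHull.homSh F G, U)) :
    (RefHull.homSh F G').presheaf.map i.op (post φ g) =
      post φ ((RefHull.homSh F G).presheaf.map i.op g) := by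
  refine hom_ext _ _ fun x => ?_
  rw [map_apply, post_apply, post_apply, map_apply]

theorem app_post (φ : G ⟶ G') {U : X.Opens} (g : Γ(RefHull.homSh F G, U)) {V : X.Opens}
    (i : V ≤ U) (m : Γ(F, V)) : app (post φ g) i m = φ.app V (app g i m) := by
  apply section_ext
  intro y hy
  rw [germ_app, post_apply, LinearMap.comp_apply, ← RefHull.stalkMapₗ_germ, germ_app]

theorem stalkMapₗ_comp (φ : G ⟶ G') (ψ : G' ⟶ G'') (x : X) :
    RefHull.stalkMapₗ (φ ≫ ψ) x = (RefHull.stalkMapₗ ψ x).comp (RefHull.stalkMapₗ φ x) := by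
  refine LinearMap.ext fun v => ?_
  obtain ⟨U, hx, m, rfl⟩ := TopCat.Presheaf.exists_germ_eq G.presheaf v
  rw [LinearMap.comp_apply, RefHull.stalkMapₗ_germ, RefHull.stalkMapₗ_germ,
    RefHull.stalkMapₗ_germ]
  rfl

theorem post_comp (φ : G ⟶ G') (ψ : G' ⟶ G'') {U : X.Opens} (g : Γ(RefHull.homSh F G, U)) :
    post (φ ≫ ψ) g = post ψ (post φ g) := by
  refine hom_ext _ _ fun x => ?_
  rw [post_apply, post_apply, post_apply, stalkMapₗ_comp, LinearMap.comp_assoc]

theorem toHom_post (φ : G ⟶ G') (g : Γ(RefHull.homSh F G, ⊤)) :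
    toHom (post φ g) = toHom g ≫ φ := by
  apply Scheme.Modules.hom_ext
  intro U
  ext m
  exact app_post φ g le_top m

end Groth.Agent.Lib.Helper4.LimHomA
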