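import Mathlib
import Groth.Agent.Lib.Lead.LimZ4
import Groth.Agent.Lib.Lead.FBC3

/-!
# transition morphisms between pushforwards of pullbacks (helper4)
-/

set_option backward.isDefEq.respectTransparency.types false
set_option synthInstance.maxHeartbeats 400000
set_option autoImplicit false
set_option linter.unusedSectionVars false
set_option linter.style.haveILetI false
set_option linter.unusedSimpArgs false
universe u v w
open CategoryTheory CategoryTheory.Limits AlgebraicGeometry TopologicalSpace Topology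

namespace Groth.Agent.Lib.Helper4.LimHomC

open Groth.Agent.Lead.BCU Groth.Agent.Lead.LimZ Groth.Agent.Lead.FBC

section Tri

variable {Y'' Y' Y : Scheme.{u}} (p : Y'' ⟶ Y') (q : Y' ⟶ Y) (q' : Y'' ⟶ Y) (e : p ≫ q = q')
  (G : Y.Modules)

/-- the transition morphism `q_* q^* G ⟶ q'_* q'^* G` for a factorization `q' = p ≫ q` -/
noncomputable def tr : (Scheme.Modules.pushforward q).obj ((Scheme.Modules.pullback q).obj G) ⟶
    (Scheme.Modules.pushforward q').obj ((Scheme.Modules.pullback q').obj G) :=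
  (Scheme.Modules.pushforward q).map
      ((Scheme.Modules.pullbackPushforwardAdjunction p).unit.app ((Scheme.Modules.pullback q).obj G) ≫
        (Scheme.Modules.pushforward p).map ((compIso p q q' e).hom.app G)) ≫
    (Scheme.Modules.pushforwardComp p q).hom.app _ ≫
    (Scheme.Modules.pushforwardCongr e).hom.app _

include e in
theorem tri_le (U : Y.Opens) : q' ⁻¹ᵁ U ≤ p ⁻¹ᵁ (q ⁻¹ᵁ U) := by
  rw [← Scheme.Hom.comp_preimage, e]

theorem tr_app (U : Y.Opens) (x : Γ((Scheme.Modules.pullback q).obj G, q ⁻¹ᵁ U)) :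
    (tr p q q' e G).app U x =
      ((compIso p q q' e).hom.app G).app (q' ⁻¹ᵁ U)
        (unitRes p ((Scheme.Modules.pullback q).obj G) (tri_le p q q' e U) x) := by
  subst e
  unfold tr unitRes
  simp only [Scheme.Modules.Hom.comp_app, Scheme.Modules.pushforward_map_app,
    Scheme.Modules.pushforwardComp_hom_app_app, Scheme.Modules.pushforwardCongr_hom_app_app]
  have h1 := app_res ((compIso p q (p ≫ q) rfl).hom.app G) (tri_le p q (p ≫ q) rfl U)
    (((Scheme.Modules.pullbackPushforwardAdjunction p).unit.app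
      ((Scheme.Modules.pullback q).obj G)).app (q ⁻¹ᵁ U) x)
  refine Eq.trans ?_ h1.symm
  rfl

theorem tr_unitRes (U : Y.Opens) (n : Γ(G, U)) :
    (tr p q q' e G).app U (unitRes q G (le_refl (q ⁻¹ᵁ U)) n) =
      unitRes q' G (le_refl (q' ⁻¹ᵁ U)) n := by
  rw [tr_app]
  have e'' : q' ⁻¹ᵁ U ≤ (p ≫ q) ⁻¹ᵁ U := by rw [e]
  rw [unitRes_comp q p G le_rfl (tri_le p q q' e U) e'' n]
  have h1 : ((compIso p q q' e).hom.app G).app (q' ⁻¹ᵁ U)
      (((Scheme.Modules.pullbackComp p q).inv.app G).app (q' ⁻¹ᵁ U) (unitRes (p ≫ q) G e'' n)) =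
      ((Scheme.Modules.pullbackCongr e).hom.app G).app (q' ⁻¹ᵁ U) (unitRes (p ≫ q) G e'' n) := by
    have h2 : (Scheme.Modules.pullbackComp p q).inv.app G ≫ (compIso p q q' e).hom.app G =
        (Scheme.Modules.pullbackCongr e).hom.app G := by
      unfold compIso
      rw [Iso.trans_hom, NatTrans.comp_app, ← Category.assoc, ← NatTrans.comp_app,
        Iso.inv_hom_id, NatTrans.id_app, Category.id_comp]
    have h3 := congrArg (fun φ => Scheme.Modules.Hom.app φ (q' ⁻¹ᵁ U)) h2
    exact congrArg (fun φ => φ (unitRes (p ≫ q) G e'' n)) h3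
  rw [h1]
  exact congr_unit_res e G U e'' le_rfl n

theorem tr_smul (U : Y.Opens) (a : Γ(Y', q ⁻¹ᵁ U))
    (x : Γ((Scheme.Modules.pullback q).obj G, q ⁻¹ᵁ U)) :
    (tr p q q' e G).app U (a • x) =
      (p.appLE (q ⁻¹ᵁ U) (q' ⁻¹ᵁ U) (tri_le p q q' e U)).hom a •
        (show Γ((Scheme.Modules.pullback q').obj G, q' ⁻¹ᵁ U) from (tr p q q' e G).app U x) := by
  rw [tr_app, tr_app, unitRes_smul]
  exact Scheme.Modules.Hom.app_smul _ _ _

/-- the scalar action on sections of a pushforward -/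
theorem push_smul {Z' Z : Scheme.{u}} (h : Z' ⟶ Z) (M : Z'.Modules) (U : Z.Opens) (b : Γ(Z, U))
    (x : Γ((Scheme.Modules.pushforward h).obj M, U)) :
    b • x = (show Γ(M, h ⁻¹ᵁ U) from ((h.app U).hom b : Γ(Z', h ⁻¹ᵁ U)) •
      (show Γ(M, h ⁻¹ᵁ U) from x)) := rfl

end Tri

end Groth.Agent.Lib.Helper4.LimHomC
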