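import Mathlib

/-!
# lifting maps from finitely presented modules in filtered systems (helper4)
-/

set_option backward.isDefEq.respectTransparency.types false
set_option synthInstance.maxHeartbeats 400000
set_option autoImplicit false
set_option linter.unusedSectionVars false
set_option linter.style.haveILetI false
set_option linter.unusedSimpArgs false
universe u v w
open CategoryTheory CategoryTheory.Limits AlgebraicGeometry TopologicalSpace Topology

namespace Groth.Agent.Lib.Helper4.LimHomD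

section LinSys

variable {A : Type u} [CommRing A] {J : Type u} [SmallCategory J] [IsCofiltered J]
  (P : J → Type u) [∀ j, AddCommGroup (P j)] [∀ j, Module A (P j)]
  {P' : Type u} [AddCommGroup P'] [Module A P']
  (T : ∀ {j k : J}, (k ⟶ j) → (P j →ₗ[A] P k))
  (hTcomp : ∀ {j k l : J} (f : k ⟶ j) (g : l ⟶ k) (x : P j), T (g ≫ f) x = T g (T f x))
  (R : ∀ j, P j →ₗ[A] P')
  (hRT : ∀ {j k : J} (f : k ⟶ j) (x : P j), R k (T f x) = R j x)

include hRT in
theorem exists_lift_fin (hsurj : ∀ y : P', ∃ (j : J) (x : P j), R j x = y) :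
    ∀ (n : ℕ) (y : Fin n → P'), ∃ (j : J) (x : Fin n → P j), ∀ κ, R j (x κ) = y κ := by
  intro n
  induction n with
  | zero =>
    intro y
    exact ⟨IsCofiltered.nonempty.some, fun κ => κ.elim0, fun κ => κ.elim0⟩
  | succ n ih =>
    intro y
    obtain ⟨j, x, hx⟩ := ih (fun κ => y κ.castSucc)
    obtain ⟨j', x', hx'⟩ := hsurj (y (Fin.last n))
    refine ⟨IsCofiltered.min j j', Fin.lastCases (T (IsCofiltered.minToRight j j') x')
      (fun κ => T (IsCofiltered.minToLeft j j') (x κ)), ?_⟩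
    intro κ
    refine Fin.lastCases ?_ (fun κ => ?_) κ
    · simp only [Fin.lastCases_last]
      rw [hRT, hx']
    · simp only [Fin.lastCases_castSucc]
      rw [hRT, hx]

include hTcomp hRT in
theorem exists_kill_fin (hzero : ∀ (j : J) (x : P j), R j x = 0 → ∃ (k : J) (f : k ⟶ j), T f x = 0) :
    ∀ (n : ℕ) (j : J) (x : Fin n → P j), (∀ i, R j (x i) = 0) →
      ∃ (k : J) (f : k ⟶ j), ∀ i, T f (x i) = 0 := by
  intro n
  induction n with
  | zero =>
    intro j x _
    exact ⟨j, 𝟙 j, fun i => i.elim0⟩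
  | succ n ih =>
    intro j x hx
    obtain ⟨k, f, hf⟩ := ih j (fun i => x i.castSucc) (fun i => hx _)
    have h1 : R k (T f (x (Fin.last n))) = 0 := by rw [hRT, hx]
    obtain ⟨l, g, hg⟩ := hzero k _ h1
    refine ⟨l, g ≫ f, ?_⟩
    intro i
    refine Fin.lastCases ?_ (fun i => ?_) i
    · rw [hTcomp, hg]
    · rw [hTcomp, hf, map_zero]

include hTcomp hRT in
/-- two maps from a finitely generated module to a stage which agree in the colimit agree at a
later stage -/
theorem exists_eq_of_finite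
    (hzero : ∀ (j : J) (x : P j), R j x = 0 → ∃ (k : J) (f : k ⟶ j), T f x = 0)
    {M : Type u} [AddCommGroup M] [Module A M] [Module.Finite A M] {j : J}
    (l₁ l₂ : M →ₗ[A] P j) (h : ∀ m, R j (l₁ m) = R j (l₂ m)) :
    ∃ (k : J) (f : k ⟶ j), ∀ m, T f (l₁ m) = T f (l₂ m) := by
  obtain ⟨n, s, hs⟩ := Module.Finite.exists_fin (R := A) (M := M)
  obtain ⟨k, f, hf⟩ := exists_kill_fin P T hTcomp R hRT hzero n j (fun i => l₁ (s i) - l₂ (s i))
    (fun i => by rw [map_sub, h, sub_self])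
  refine ⟨k, f, ?_⟩
  have h2 : (T f).comp l₁ = (T f).comp l₂ := by
    apply LinearMap.ext_on_range hs
    intro i
    have := hf i
    rw [map_sub, sub_eq_zero] at this
    exact this
  exact fun m => LinearMap.congr_fun h2 m

include hTcomp hRT in
/-- a map from a finitely presented module to the colimit lifts to a stage -/
theorem exists_lift_of_fp (hsurj : ∀ y : P', ∃ (j : J) (x : P j), R j x = y)
    (hzero : ∀ (j : J) (x : P j), R j x = 0 → ∃ (k : J) (f : k ⟶ j), T f x = 0)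
    {M : Type u} [AddCommGroup M] [Module A M] [Module.FinitePresentation A M]
    (σ : M →ₗ[A] P') : ∃ (j : J) (l : M →ₗ[A] P j), ∀ m, R j (l m) = σ m := by
  classical
  obtain ⟨n, m, f, g, hf, hex⟩ := Module.FinitePresentation.exists_fin' A M
  obtain ⟨k, x, hx⟩ := exists_lift_fin P T R hRT hsurj n (fun a => σ (f (Pi.single a 1)))
  let φ₀ : (Fin n → A) →ₗ[A] P k := (Pi.basisFun A (Fin n)).constr A x
  have hφ₀ : ∀ a, φ₀ (Pi.single a 1) = x a := fun a => by
    have h := (Pi.basisFun A (Fin n)).constr_basis A x a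
    rw [Pi.basisFun_apply] at h
    exact h
  have h₀ : (R k) ∘ₗ φ₀ = σ ∘ₗ f := by
    apply (Pi.basisFun A (Fin n)).ext
    intro a
    simp only [Pi.basisFun_apply, LinearMap.comp_apply]
    rw [hφ₀]
    exact hx a
  have h₀' : ∀ v, R k (φ₀ v) = σ (f v) := fun v => LinearMap.congr_fun h₀ v
  obtain ⟨l, a, ha⟩ := exists_kill_fin P T hTcomp R hRT hzero m k
    (fun c => φ₀ (g (Pi.single c 1))) (fun c => by
      rw [h₀']
      have : f (g (Pi.single c 1)) = 0 := hex.apply_apply_eq_zero _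
      rw [this, map_zero])
  let φ₁ : (Fin n → A) →ₗ[A] P l := (T a) ∘ₗ φ₀
  have hφ₁g : φ₁ ∘ₗ g = 0 := by
    apply (Pi.basisFun A (Fin m)).ext
    intro c
    simp only [Pi.basisFun_apply, LinearMap.comp_apply, LinearMap.zero_apply, φ₁]
    exact ha c
  have hker : LinearMap.ker f ≤ LinearMap.ker φ₁ := by
    intro v hv
    obtain ⟨w, rfl⟩ := (hex v).1 hv
    exact LinearMap.congr_fun hφ₁g w
  let e := f.quotKerEquivOfSurjective hf
  let φ' : M →ₗ[A] P l := (LinearMap.ker f).liftQ φ₁ hker ∘ₗ e.symm.toLinearMap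
  have hφ' : ∀ v, φ' (f v) = φ₁ v := by
    intro v
    have h1 : e.symm (f v) = Submodule.Quotient.mk v := by
      rw [LinearEquiv.symm_apply_eq]
      rfl
    simp only [φ', LinearMap.comp_apply, LinearEquiv.coe_coe, h1, Submodule.liftQ_apply]
  refine ⟨l, φ', ?_⟩
  intro y
  obtain ⟨v, rfl⟩ := hf y
  rw [hφ']
  show R l (T a (φ₀ v)) = σ (f v)
  rw [hRT, h₀']

end LinSys

section SemiSys

variable {A : Type u} [CommRing A] {J : Type u} [SmallCategory J] [IsCofiltered J]
  (B : J → Type u) [∀ j, CommRing (B j)]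
  (τ : ∀ {j k : J}, (k ⟶ j) → (B j →+* B k))
  (hτ : ∀ {j k l : J} (f : k ⟶ j) (g : l ⟶ k) (x : B j), τ (g ≫ f) x = τ g (τ f x))
  {B' : Type u} [CommRing B'] (ρ : ∀ j, B j →+* B')
  (hρ : ∀ {j k : J} (f : k ⟶ j) (x : B j), ρ k (τ f x) = ρ j x)
  (P : J → Type u) [∀ j, AddCommGroup (P j)] [∀ j, Module (B j) (P j)]
  {P' : Type u} [AddCommGroup P'] [Module B' P']
  (T : ∀ {j k : J}, (k ⟶ j) → (P j →+ P k))
  (hTs : ∀ {j k : J} (f : k ⟶ j) (b : B j) (x : P j), T f (b • x) = τ f b • T f x)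
  (R : ∀ j, P j →+ P')
  (hRs : ∀ (j : J) (b : B j) (x : P j), R j (b • x) = ρ j b • R j x)
  {N : Type u} (u : ∀ j, N → P j) (u' : N → P')
  (hspan : ∀ j, Submodule.span (B j) (Set.range (u j)) = ⊤)
  (hTu : ∀ {j k : J} (f : k ⟶ j) (n : N), T f (u j n) = u k n)
  (hRu : ∀ (j : J) (n : N), R j (u j n) = u' n)

include hτ hTs hspan hTu in
theorem semi_T_comp {j k l : J} (f : k ⟶ j) (g : l ⟶ k) (x : P j) :
    T (g ≫ f) x = T g (T f x) := by
  have hx : x ∈ Submodule.span (B j) (Set.range (u j)) := by rw [hspan]; trivial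
  induction hx using Submodule.span_induction with
  | mem x hx =>
    obtain ⟨n, rfl⟩ := hx
    rw [hTu, hTu, hTu]
  | zero => rw [map_zero, map_zero, map_zero]
  | add x y _ _ hx hy => rw [map_add, map_add, map_add, hx, hy]
  | smul b x _ hx => rw [hTs, hTs, hTs, hτ, hx]

include hρ hTs hRs hspan hTu hRu in
theorem semi_R_T {j k : J} (f : k ⟶ j) (x : P j) : R k (T f x) = R j x := by
  have hx : x ∈ Submodule.span (B j) (Set.range (u j)) := by rw [hspan]; trivial
  induction hx using Submodule.span_induction with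
  | mem x hx =>
    obtain ⟨n, rfl⟩ := hx
    rw [hTu, hRu, hRu]
  | zero => rw [map_zero, map_zero, map_zero]
  | add x y _ _ hx hy => rw [map_add, map_add, map_add, hx, hy]
  | smul b x _ hx => rw [hTs, hRs, hRs, hρ, hx]

include hρ hTs hRs hspan hTu hRu in
theorem semi_surj (hspan' : Submodule.span B' (Set.range u') = ⊤)
    (hsurj : ∀ b : B', ∃ (j : J) (x : B j), ρ j x = b) (y : P') :
    ∃ (j : J) (x : P j), R j x = y := by
  have hy : y ∈ Submodule.span B' (Set.range u') := by rw [hspan']; trivial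
  induction hy using Submodule.span_induction with
  | mem y hy =>
    obtain ⟨n, rfl⟩ := hy
    exact ⟨IsCofiltered.nonempty.some, u _ n, hRu _ n⟩
  | zero => exact ⟨IsCofiltered.nonempty.some, 0, map_zero _⟩
  | add y₁ y₂ _ _ h₁ h₂ =>
    obtain ⟨j₁, x₁, hx₁⟩ := h₁
    obtain ⟨j₂, x₂, hx₂⟩ := h₂
    refine ⟨IsCofiltered.min j₁ j₂, T (IsCofiltered.minToLeft j₁ j₂) x₁ +
      T (IsCofiltered.minToRight j₁ j₂) x₂, ?_⟩
    rw [map_add, semi_R_T B τ ρ hρ P T hTs R hRs u u' hspan hTu hRu,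
      semi_R_T B τ ρ hρ P T hTs R hRs u u' hspan hTu hRu, hx₁, hx₂]
  | smul b y _ h₁ =>
    obtain ⟨j₁, x₁, hx₁⟩ := h₁
    obtain ⟨j₂, b₂, hb₂⟩ := hsurj b
    refine ⟨IsCofiltered.min j₁ j₂, τ (IsCofiltered.minToRight j₁ j₂) b₂ •
      T (IsCofiltered.minToLeft j₁ j₂) x₁, ?_⟩
    rw [hRs, hρ, semi_R_T B τ ρ hρ P T hTs R hRs u u' hspan hTu hRu, hx₁, hb₂]

end SemiSys

end Groth.Agent.Lib.Helper4.LimHomD
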