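import Mathlib
import Groth.Agent.Lib.Helper4.LimHomA
import Groth.Agent.Lib.Helper4.LimHomC
import Groth.Agent.Lib.Helper4.LimHomD
import Groth.Agent.Lib.Lead.LimZ4
import Groth.Agent.Lib.Helper1.PushQc

/-!
# the system of direct images of pullbacks over the base stage (helper4)
-/

set_option backward.isDefEq.respectTransparency.types false
set_option synthInstance.maxHeartbeats 400000
set_option autoImplicit false
set_option linter.unusedSectionVars false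
set_option linter.style.haveILetI false
set_option linter.unusedSimpArgs false
universe u v w
open CategoryTheory CategoryTheory.Limits AlgebraicGeometry TopologicalSpace Topology

namespace Groth.Agent.Lib.Helper4.LimHomE

open Groth.Agent.Lead.BCU Groth.Agent.Lead.LimZ Groth.Agent.Lead.FBC Groth.Agent.Lead.RH
open Groth.Agent.Lib.Helper4.LimHomA Groth.Agent.Lib.Helper4.LimHomC Groth.Agent.Lib.Helper4.LimHomD

section Defs

variable {I : Type u} [SmallCategory I] (D : I ⥤ Scheme.{u}) (c : Cone D) (i₀ : I)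
  (G₀ : (D.obj i₀).Modules)

/-- the pullback of `G₀` to the stage `k` -/
noncomputable abbrev Gk (k : Over i₀) : (D.obj k.left).Modules :=
  (Scheme.Modules.pullback (D.map k.hom)).obj G₀

/-- the direct image to the base stage of the pullback of `G₀` to the stage `k` -/
noncomputable abbrev Hk (k : Over i₀) : (D.obj i₀).Modules :=
  (Scheme.Modules.pushforward (D.map k.hom)).obj (Gk D i₀ G₀ k)

/-- the direct image to the base stage of the pullback of `G₀` to the limit -/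
noncomputable abbrev Hlim : (D.obj i₀).Modules :=
  (Scheme.Modules.pushforward (c.π.app i₀)).obj ((Scheme.Modules.pullback (c.π.app i₀)).obj G₀)

theorem map_comp_eq {j k : Over i₀} (f : k ⟶ j) : D.map f.left ≫ D.map j.hom = D.map k.hom := by
  rw [← D.map_comp, Over.w f]

/-- the transition morphisms -/
noncomputable def Tm {j k : Over i₀} (f : k ⟶ j) : Hk D i₀ G₀ j ⟶ Hk D i₀ G₀ k :=
  tr (D.map f.left) (D.map j.hom) (D.map k.hom) (map_comp_eq D i₀ f) G₀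

/-- the morphisms to the limit -/
noncomputable def Rm (k : Over i₀) : Hk D i₀ G₀ k ⟶ Hlim D c i₀ G₀ :=
  tr (c.π.app k.left) (D.map k.hom) (c.π.app i₀) (c.w k.hom) G₀

/-- sections of a morphism of modules as a linear map -/
noncomputable def appL {X : Scheme.{u}} {M N : X.Modules} (φ : M ⟶ N) (U : X.Opens) :
    Γ(M, U) →ₗ[Γ(X, U)] Γ(N, U) where
  toFun := φ.app U
  map_add' := fun x y => map_add _ x y
  map_smul' := fun r x => Scheme.Modules.Hom.app_smul φ r x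

theorem appL_apply {X : Scheme.{u}} {M N : X.Modules} (φ : M ⟶ N) (U : X.Opens) (x : Γ(M, U)) :
    appL φ U x = φ.app U x := rfl

end Defs

section Sys

variable {I : Type u} [SmallCategory I] [IsCofiltered I] (D : I ⥤ Scheme.{u}) (c : Cone D)
  (hc : IsLimit c) [∀ (i j : I) (f : i ⟶ j), IsAffineHom (D.map f)] (i₀ : I)
  (G₀ : (D.obj i₀).Modules) [G₀.IsQuasicoherent] {W : (D.obj i₀).Opens}

/-- the transition maps on sections over `W` -/
noncomputable def Ts (W : (D.obj i₀).Opens) {j k : Over i₀} (f : k ⟶ j) :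
    Γ(Gk D i₀ G₀ j, D.map j.hom ⁻¹ᵁ W) →+ Γ(Gk D i₀ G₀ k, D.map k.hom ⁻¹ᵁ W) where
  toFun := fun x => (Tm D i₀ G₀ f).app W x
  map_zero' := map_zero ((Tm D i₀ G₀ f).app W).hom
  map_add' := map_add ((Tm D i₀ G₀ f).app W).hom

/-- the maps to the limit on sections over `W` -/
noncomputable def Rs (W : (D.obj i₀).Opens) (k : Over i₀) :
    Γ(Gk D i₀ G₀ k, D.map k.hom ⁻¹ᵁ W) →+
      Γ((Scheme.Modules.pullback (c.π.app i₀)).obj G₀, c.π.app i₀ ⁻¹ᵁ W) where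
  toFun := fun x => (Rm D c i₀ G₀ k).app W x
  map_zero' := map_zero ((Rm D c i₀ G₀ k).app W).hom
  map_add' := map_add ((Rm D c i₀ G₀ k).app W).hom

omit [IsCofiltered I] [∀ (i j : I) (f : i ⟶ j), IsAffineHom (D.map f)] in
theorem tau_comp (W : (D.obj i₀).Opens) {j k l : Over i₀} (f : k ⟶ j) (g : l ⟶ k)
    (x : Γ(D.obj j.left, D.map j.hom ⁻¹ᵁ W)) :
    ((D.map (g ≫ f).left).appLE _ _ (le_map D i₀ W (g ≫ f))).hom x =
      ((D.map g.left).appLE _ _ (le_map D i₀ W g)).hom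
        (((D.map f.left).appLE _ _ (le_map D i₀ W f)).hom x) := by
  refine (appLE_comp_eq (D.map g.left) (D.map f.left) (D.map (g ≫ f).left) ?_ _ _ _ x).symm
  rw [← D.map_comp]
  rfl

omit [IsCofiltered I] [∀ (i j : I) (f : i ⟶ j), IsAffineHom (D.map f)] in
theorem rho_tau (W : (D.obj i₀).Opens) {j k : Over i₀} (f : k ⟶ j)
    (x : Γ(D.obj j.left, D.map j.hom ⁻¹ᵁ W)) :
    ((c.π.app k.left).appLE _ _ (le_pi D c i₀ W k)).hom
        (((D.map f.left).appLE _ _ (le_map D i₀ W f)).hom x) =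
      ((c.π.app j.left).appLE _ _ (le_pi D c i₀ W j)).hom x := by
  refine appLE_comp_eq (c.π.app k.left) (D.map f.left) (c.π.app j.left) ?_ _ _ _ x
  exact c.w f.left

omit [IsCofiltered I] [∀ (i j : I) (f : i ⟶ j), IsAffineHom (D.map f)] [G₀.IsQuasicoherent] in
theorem Ts_smul (W : (D.obj i₀).Opens) {j k : Over i₀} (f : k ⟶ j)
    (b : Γ(D.obj j.left, D.map j.hom ⁻¹ᵁ W)) (x : Γ(Gk D i₀ G₀ j, D.map j.hom ⁻¹ᵁ W)) :
    Ts D i₀ G₀ W f (b • x) =
      ((D.map f.left).appLE _ _ (le_map D i₀ W f)).hom b • Ts D i₀ G₀ W f x :=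
  tr_smul (D.map f.left) (D.map j.hom) (D.map k.hom) (map_comp_eq D i₀ f) G₀ W b x

omit [IsCofiltered I] [∀ (i j : I) (f : i ⟶ j), IsAffineHom (D.map f)] [G₀.IsQuasicoherent] in
theorem Rs_smul (W : (D.obj i₀).Opens) (k : Over i₀)
    (b : Γ(D.obj k.left, D.map k.hom ⁻¹ᵁ W)) (x : Γ(Gk D i₀ G₀ k, D.map k.hom ⁻¹ᵁ W)) :
    Rs D c i₀ G₀ W k (b • x) =
      ((c.π.app k.left).appLE _ _ (le_pi D c i₀ W k)).hom b • Rs D c i₀ G₀ W k x :=
  tr_smul (c.π.app k.left) (D.map k.hom) (c.π.app i₀) (c.w k.hom) G₀ W b x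

omit [IsCofiltered I] [∀ (i j : I) (f : i ⟶ j), IsAffineHom (D.map f)] [G₀.IsQuasicoherent] in
theorem Ts_unitRes (W : (D.obj i₀).Opens) {j k : Over i₀} (f : k ⟶ j) (n : Γ(G₀, W)) :
    Ts D i₀ G₀ W f (unitRes (D.map j.hom) G₀ (le_refl _) n) =
      unitRes (D.map k.hom) G₀ (le_refl _) n :=
  tr_unitRes (D.map f.left) (D.map j.hom) (D.map k.hom) (map_comp_eq D i₀ f) G₀ W n

omit [IsCofiltered I] [∀ (i j : I) (f : i ⟶ j), IsAffineHom (D.map f)] [G₀.IsQuasicoherent] in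
theorem Rs_unitRes (W : (D.obj i₀).Opens) (k : Over i₀) (n : Γ(G₀, W)) :
    Rs D c i₀ G₀ W k (unitRes (D.map k.hom) G₀ (le_refl _) n) =
      unitRes (c.π.app i₀) G₀ (le_refl _) n :=
  tr_unitRes (c.π.app k.left) (D.map k.hom) (c.π.app i₀) (c.w k.hom) G₀ W n

omit [IsCofiltered I] in
theorem span_unitRes (hW : IsAffineOpen W) (k : Over i₀) :
    Submodule.span Γ(D.obj k.left, D.map k.hom ⁻¹ᵁ W)
      (Set.range (unitRes (D.map k.hom) G₀ (le_refl (D.map k.hom ⁻¹ᵁ W)))) = ⊤ := by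
  haveI : ∀ {i j : I} (f : i ⟶ j), IsAffineHom (D.map f) := fun f => inferInstance
  exact isBC_span_range (isBC_unitRes (D.map k.hom) G₀ hW (hW.preimage (D.map k.hom)) le_rfl)

include hc in
theorem span_unitRes_lim (hW : IsAffineOpen W) :
    Submodule.span Γ(c.pt, c.π.app i₀ ⁻¹ᵁ W)
      (Set.range (unitRes (c.π.app i₀) G₀ (le_refl (c.π.app i₀ ⁻¹ᵁ W)))) = ⊤ := by
  haveI : ∀ {i j : I} (f : i ⟶ j), IsAffineHom (D.map f) := fun f => inferInstance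
  haveI : IsAffineHom (c.π.app i₀) := isAffineHom_π_app D c hc i₀
  exact isBC_span_range (isBC_unitRes (c.π.app i₀) G₀ hW (hW.preimage (c.π.app i₀)) le_rfl)

theorem Ts_comp (hW : IsAffineOpen W) {j k l : Over i₀} (f : k ⟶ j) (g : l ⟶ k)
    (x : Γ(Gk D i₀ G₀ j, D.map j.hom ⁻¹ᵁ W)) :
    Ts D i₀ G₀ W (g ≫ f) x = Ts D i₀ G₀ W g (Ts D i₀ G₀ W f x) :=
  semi_T_comp (fun k : Over i₀ => Γ(D.obj k.left, D.map k.hom ⁻¹ᵁ W))
    (fun {j k : Over i₀} (f : k ⟶ j) => ((D.map f.left).appLE _ _ (le_map D i₀ W f)).hom)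
    (fun f g x => tau_comp D i₀ W f g x)
    (fun k : Over i₀ => Γ(Gk D i₀ G₀ k, D.map k.hom ⁻¹ᵁ W))
    (fun {j k : Over i₀} (f : k ⟶ j) => Ts D i₀ G₀ W f)
    (fun f b x => Ts_smul D i₀ G₀ W f b x)
    (fun k => unitRes (D.map k.hom) G₀ (le_refl _))
    (fun k => span_unitRes D i₀ G₀ hW k)
    (fun f n => Ts_unitRes D i₀ G₀ W f n) f g x

theorem Rs_Ts (hW : IsAffineOpen W) {j k : Over i₀} (f : k ⟶ j)
    (x : Γ(Gk D i₀ G₀ j, D.map j.hom ⁻¹ᵁ W)) :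
    Rs D c i₀ G₀ W k (Ts D i₀ G₀ W f x) = Rs D c i₀ G₀ W j x :=
  semi_R_T (fun k : Over i₀ => Γ(D.obj k.left, D.map k.hom ⁻¹ᵁ W))
    (fun {j k : Over i₀} (f : k ⟶ j) => ((D.map f.left).appLE _ _ (le_map D i₀ W f)).hom)
    (B' := Γ(c.pt, c.π.app i₀ ⁻¹ᵁ W))
    (fun k : Over i₀ => (((c.π.app k.left).appLE _ _ (le_pi D c i₀ W k)).hom :
      Γ(D.obj k.left, D.map k.hom ⁻¹ᵁ W) →+* Γ(c.pt, c.π.app i₀ ⁻¹ᵁ W)))
    (fun f x => rho_tau D c i₀ W f x)
    (fun k : Over i₀ => Γ(Gk D i₀ G₀ k, D.map k.hom ⁻¹ᵁ W))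
    (fun {j k : Over i₀} (f : k ⟶ j) => Ts D i₀ G₀ W f)
    (fun f b x => Ts_smul D i₀ G₀ W f b x)
    (fun k => Rs D c i₀ G₀ W k)
    (fun k b x => Rs_smul D c i₀ G₀ W k b x)
    (fun k => unitRes (D.map k.hom) G₀ (le_refl _))
    (unitRes (c.π.app i₀) G₀ (le_refl _))
    (fun k => span_unitRes D i₀ G₀ hW k)
    (fun f n => Ts_unitRes D i₀ G₀ W f n)
    (fun k n => Rs_unitRes D c i₀ G₀ W k n) f x

include hc in
theorem Rs_surj (hW : IsAffineOpen W)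
    (y : Γ((Scheme.Modules.pullback (c.π.app i₀)).obj G₀, c.π.app i₀ ⁻¹ᵁ W)) :
    ∃ (k : Over i₀) (x : Γ(Gk D i₀ G₀ k, D.map k.hom ⁻¹ᵁ W)), Rs D c i₀ G₀ W k x = y :=
  semi_surj (fun k : Over i₀ => Γ(D.obj k.left, D.map k.hom ⁻¹ᵁ W))
    (fun {j k : Over i₀} (f : k ⟶ j) => ((D.map f.left).appLE _ _ (le_map D i₀ W f)).hom)
    (B' := Γ(c.pt, c.π.app i₀ ⁻¹ᵁ W))
    (fun k : Over i₀ => (((c.π.app k.left).appLE _ _ (le_pi D c i₀ W k)).hom :
      Γ(D.obj k.left, D.map k.hom ⁻¹ᵁ W) →+* Γ(c.pt, c.π.app i₀ ⁻¹ᵁ W)))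
    (fun f x => rho_tau D c i₀ W f x)
    (fun k : Over i₀ => Γ(Gk D i₀ G₀ k, D.map k.hom ⁻¹ᵁ W))
    (fun {j k : Over i₀} (f : k ⟶ j) => Ts D i₀ G₀ W f)
    (fun f b x => Ts_smul D i₀ G₀ W f b x)
    (fun k => Rs D c i₀ G₀ W k)
    (fun k b x => Rs_smul D c i₀ G₀ W k b x)
    (fun k => unitRes (D.map k.hom) G₀ (le_refl _))
    (unitRes (c.π.app i₀) G₀ (le_refl _))
    (fun k => span_unitRes D i₀ G₀ hW k)
    (fun f n => Ts_unitRes D i₀ G₀ W f n)
    (fun k n => Rs_unitRes D c i₀ G₀ W k n)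
    (span_unitRes_lim D c hc i₀ G₀ hW)
    (fun b => hsurj_rings D c hc i₀ W hW b) y

include hc in
theorem Rs_zero (hW : IsAffineOpen W) (k : Over i₀) (x : Γ(Gk D i₀ G₀ k, D.map k.hom ⁻¹ᵁ W))
    (hx : Rs D c i₀ G₀ W k x = 0) : ∃ (l : Over i₀) (f : l ⟶ k), Ts D i₀ G₀ W f x = 0 := by
  haveI : ∀ {i j : I} (f : i ⟶ j), IsAffineHom (D.map f) := fun f => inferInstance
  haveI : (Gk D i₀ G₀ k).IsQuasicoherent := Groth.Agent.Lead.PB.isQuasicoherent_pullback _ _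
  have hWk : IsAffineOpen (D.map k.hom ⁻¹ᵁ W) := hW.preimage (D.map k.hom)
  -- the pullback of `x` to the limit vanishes
  have h1 : ((compIso (c.π.app k.left) (D.map k.hom) (c.π.app i₀) (c.w k.hom)).hom.app G₀).app
      (c.π.app i₀ ⁻¹ᵁ W) (unitRes (c.π.app k.left) (Gk D i₀ G₀ k)
        (tri_le (c.π.app k.left) (D.map k.hom) (c.π.app i₀) (c.w k.hom) W) x) = 0 := by
    have := tr_app (c.π.app k.left) (D.map k.hom) (c.π.app i₀) (c.w k.hom) G₀ W x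
    rw [← this]
    exact hx
  have h2 : unitRes (c.π.app k.left) (Gk D i₀ G₀ k)
      (tri_le (c.π.app k.left) (D.map k.hom) (c.π.app i₀) (c.w k.hom) W) x = 0 :=
    eq_zero_of_inv_app_eq_zero
      ((compIso (c.π.app k.left) (D.map k.hom) (c.π.app i₀) (c.w k.hom)).app G₀).symm _ _ h1
  have hle : c.π.app k.left ⁻¹ᵁ (D.map k.hom ⁻¹ᵁ W) ≤ c.π.app i₀ ⁻¹ᵁ W := by
    rw [← Scheme.Hom.comp_preimage, c.w]
  have h3 : unitRes (c.π.app k.left) (Gk D i₀ G₀ k)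
      (le_refl (c.π.app k.left ⁻¹ᵁ (D.map k.hom ⁻¹ᵁ W))) x = 0 := by
    rw [← unitRes_res_same (c.π.app k.left) (Gk D i₀ G₀ k)
      (tri_le (c.π.app k.left) (D.map k.hom) (c.π.app i₀) (c.w k.hom) W) le_rfl hle x, h2]
    exact map_zero _
  obtain ⟨j, hj⟩ := exists_unitRes_eq_zero D c hc k.left (Gk D i₀ G₀ k) hWk x h3
  let f : Over.mk (j.hom ≫ k.hom) ⟶ k := Over.homMk j.hom rfl
  refine ⟨Over.mk (j.hom ≫ k.hom), f, ?_⟩
  have e1 : Ts D i₀ G₀ W f x = (tr (D.map f.left) (D.map k.hom)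
      (D.map (Over.mk (j.hom ≫ k.hom)).hom) (map_comp_eq D i₀ f) G₀).app W x := rfl
  rw [e1, tr_app]
  have h4 : unitRes (D.map f.left) (Gk D i₀ G₀ k)
      (tri_le (D.map f.left) (D.map k.hom) (D.map (Over.mk (j.hom ≫ k.hom)).hom)
        (map_comp_eq D i₀ f) W) x = 0 := by
    have h5 := unitRes_res_same (D.map j.hom) (Gk D i₀ G₀ k) le_rfl
      (tri_le (D.map f.left) (D.map k.hom) (D.map (Over.mk (j.hom ≫ k.hom)).hom)
        (map_comp_eq D i₀ f) W)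
      (tri_le (D.map f.left) (D.map k.hom) (D.map (Over.mk (j.hom ≫ k.hom)).hom)
        (map_comp_eq D i₀ f) W) x
    rw [hj] at h5
    exact h5.symm.trans (map_zero _)
  refine Eq.trans (congrArg _ h4) ?_
  exact map_zero _

end Sys

section HomSys

variable {I : Type u} [SmallCategory I] [IsCofiltered I] (D : I ⥤ Scheme.{u}) (c : Cone D)
  (hc : IsLimit c) [∀ (i j : I) (f : i ⟶ j), IsAffineHom (D.map f)] (i₀ : I)
  (F₀ G₀ : (D.obj i₀).Modules) [F₀.IsQuasicoherent] [G₀.IsQuasicoherent] {W : (D.obj i₀).Opens}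

omit [IsCofiltered I] [F₀.IsQuasicoherent] in
theorem isQuasicoherent_Hk (k : Over i₀) : (Hk D i₀ G₀ k).IsQuasicoherent := by
  haveI : ∀ {i j : I} (f : i ⟶ j), IsAffineHom (D.map f) := fun f => inferInstance
  haveI : (Gk D i₀ G₀ k).IsQuasicoherent := Groth.Agent.Lead.PB.isQuasicoherent_pullback _ _
  exact Groth.Agent.Helper1.PushQc.isQuasicoherent_pushforward _ _

include hc in
omit [F₀.IsQuasicoherent] in
theorem isQuasicoherent_Hlim : (Hlim D c i₀ G₀).IsQuasicoherent := by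
  haveI : ∀ {i j : I} (f : i ⟶ j), IsAffineHom (D.map f) := fun f => inferInstance
  haveI : IsAffineHom (c.π.app i₀) := isAffineHom_π_app D c hc i₀
  haveI : ((Scheme.Modules.pullback (c.π.app i₀)).obj G₀).IsQuasicoherent :=
    Groth.Agent.Lead.PB.isQuasicoherent_pullback _ _
  exact Groth.Agent.Helper1.PushQc.isQuasicoherent_pushforward _ _

include hc in
/-- local surjectivity of `colim 𝓗om(F₀, H_k) → 𝓗om(F₀, H)` over affine opens -/
theorem hom_surj (hW : IsAffineOpen W) (hF₀ : CohB1.IsFP F₀)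
    (s : Γ(RefHull.homSh F₀ (Hlim D c i₀ G₀), W)) :
    ∃ (k : Over i₀) (t : Γ(RefHull.homSh F₀ (Hk D i₀ G₀ k), W)),
      post (Rm D c i₀ G₀ k) t = s := by
  haveI := Groth.Agent.Lead.FP.fp_sections_of_isFP F₀ hF₀ hW
  haveI := isQuasicoherent_Hlim D c hc i₀ G₀
  haveI := fun k => isQuasicoherent_Hk D i₀ G₀ k
  obtain ⟨k, l, hl⟩ := exists_lift_of_fp (A := Γ(D.obj i₀, W))
    (fun k : Over i₀ => Γ(Hk D i₀ G₀ k, W)) (P' := Γ(Hlim D c i₀ G₀, W))
    (fun {j k : Over i₀} (f : k ⟶ j) => appL (Tm D i₀ G₀ f) W)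
    (fun f g x => Ts_comp D i₀ G₀ hW f g x)
    (fun k => appL (Rm D c i₀ G₀ k) W)
    (fun f x => Rs_Ts D c i₀ G₀ hW f x)
    (fun y => Rs_surj D c hc i₀ G₀ hW y)
    (fun k x hx => Rs_zero D c hc i₀ G₀ hW k x hx)
    (secEquiv hW s)
  refine ⟨k, (secEquiv hW).symm l, ?_⟩
  apply (secEquiv hW).injective
  refine LinearMap.ext fun m => ?_
  rw [secEquiv_apply, app_post, ← secEquiv_apply hW, LinearEquiv.apply_symm_apply]
  exact hl m

include hc in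
/-- local injectivity of `colim 𝓗om(F₀, H_k) → 𝓗om(F₀, H)` over affine opens -/
theorem hom_inj (hW : IsAffineOpen W) (hF₀ : CohB1.IsFP F₀) (k : Over i₀)
    (t t' : Γ(RefHull.homSh F₀ (Hk D i₀ G₀ k), W))
    (h : post (Rm D c i₀ G₀ k) t = post (Rm D c i₀ G₀ k) t') :
    ∃ (l : Over i₀) (f : l ⟶ k), post (Tm D i₀ G₀ f) t = post (Tm D i₀ G₀ f) t' := by
  haveI := Groth.Agent.Lead.FP.fp_sections_of_isFP F₀ hF₀ hW
  haveI : Module.Finite Γ(D.obj i₀, W) Γ(F₀, W) := inferInstance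
  haveI := isQuasicoherent_Hlim D c hc i₀ G₀
  haveI := fun k => isQuasicoherent_Hk D i₀ G₀ k
  obtain ⟨l, f, hf⟩ := exists_eq_of_finite (A := Γ(D.obj i₀, W))
    (fun k : Over i₀ => Γ(Hk D i₀ G₀ k, W)) (P' := Γ(Hlim D c i₀ G₀, W))
    (fun {j k : Over i₀} (f : k ⟶ j) => appL (Tm D i₀ G₀ f) W)
    (fun f g x => Ts_comp D i₀ G₀ hW f g x)
    (fun k => appL (Rm D c i₀ G₀ k) W)
    (fun f x => Rs_Ts D c i₀ G₀ hW f x)
    (fun k x hx => Rs_zero D c hc i₀ G₀ hW k x hx)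
    (secEquiv hW t) (secEquiv hW t') (fun m => by
      have h1 := congrArg (fun g => app g le_rfl m) h
      simp only [app_post] at h1
      exact h1)
  refine ⟨l, f, ?_⟩
  apply (secEquiv hW).injective
  refine LinearMap.ext fun m => ?_
  rw [secEquiv_apply, secEquiv_apply, app_post, app_post]
  exact hf m

end HomSys

end Groth.Agent.Lib.Helper4.LimHomE
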