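import Mathlib
import Groth.Prelude.Def_Formal
import Groth.Prelude.Def_Formal2
import Groth.Agent.Lib.Helper4.IPow1
import Groth.Agent.Lib.Helper4.ModPowLim
import Groth.Agent.Lib.Helper4.AdicLimAlg
import Groth.Agent.Lib.Helper4.LimHomE
import Groth.Agent.Lib.Helper1.AffPushEpi
import Groth.Agent.Lib.Helper3.SepFam1

/-!
# Limits of quasi-coherent I-adic systems: F/I^(n+1)F = G_n for finitely generated I (helper4)
-/

set_option backward.isDefEq.respectTransparency.types false
set_option synthInstance.maxHeartbeats 400000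
set_option autoImplicit false
set_option linter.unusedSectionVars false
set_option linter.style.haveILetI false
set_option linter.unusedSimpArgs false
universe u v w
open CategoryTheory CategoryTheory.Limits AlgebraicGeometry TopologicalSpace Topology

namespace Groth.Agent.Lib.Helper4.ModPowLim2

open Opposite Groth.Agent.Lib.Helper4.IPow1 Groth.Agent.Helper1
open Groth.Agent.Lib.Helper4.BaseChgRing1 Groth.Agent.Lib.Helper4.ReesAlg1
open Groth.Agent.Lib.Helper4.ModPowLim

section IMconv

variable {A R : Type u} [CommRing A] [CommRing R] (I : Ideal A) (α : A →+* R)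
  (M : Type u) [AddCommGroup M] [Module R M]

theorem IM_eq (k : ℕ) : IM I α M k = ((I.map α) ^ k • ⊤ : Submodule R M) := by
  rw [← Ideal.map_pow]
  apply le_antisymm
  · unfold IM
    rw [Submodule.span_le]
    rintro x ⟨a, ha, m, rfl⟩
    exact Submodule.smul_mem_smul (Ideal.mem_map_of_mem α ha) trivial
  · rw [Submodule.smul_le]
    intro r hr m _
    unfold Ideal.map at hr
    induction hr using Submodule.span_induction with
    | mem x hx =>
      obtain ⟨a, ha, rfl⟩ := hx
      exact Submodule.subset_span ⟨a, ha, m, rfl⟩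
    | zero => rw [zero_smul]; exact Submodule.zero_mem _
    | add x y _ _ hx hy => rw [add_smul]; exact Submodule.add_mem _ hx hy
    | smul c x _ hx => rw [smul_eq_mul, mul_smul]; exact Submodule.smul_mem _ c hx

end IMconv

section Sections

variable {A : Type u} [CommRing A] {X : Scheme.{u}} [X.Over (Spec (CommRingCat.of A))]
  (I : Ideal A) (F : X.Modules) [F.IsQuasicoherent] {W : X.Opens} (hW : IsAffineOpen W)

include hW in
theorem mem_IM_of_mem_range_incl_fg (n : ℕ) (hfg : (I ^ n).FG) (y : Γ(Pn I F n, W)) :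
    (incl I F n).app W y ∈ IM I (alphaRing A X W) Γ(F, W) n := by
  obtain ⟨k, a, ha⟩ := (Submodule.fg_iff_exists_fin_generating_family).1
    hfg
  have ha' : ∀ i, a i ∈ I ^ n := fun i => by rw [← ha]; exact Submodule.subset_span ⟨i, rfl⟩
  let B : Fin k → X.Modules := fun _ => F
  let ψ : (∐ B) ⟶ F := Sigma.desc (fun i => Formal.smulMod A F (a i))
  -- the projection to the cokernel of ψ kills `I^n F`
  have claim0 : ∀ c ∈ Submodule.span A (Set.range a), Formal.smulMod A F c ≫ cokernel.π ψ = 0 := by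
    intro c hb
    induction hb using Submodule.span_induction with
    | mem x hx =>
      obtain ⟨i, rfl⟩ := hx
      have : Formal.smulMod A F (a i) = Sigma.ι B i ≫ ψ :=
        (Sigma.ι_desc (fun i => Formal.smulMod A F (a i)) i).symm
      rw [this, Category.assoc, cokernel.condition, comp_zero]
    | zero => rw [smulMod_zero, zero_comp]
    | add x y _ _ hx hy => rw [smulMod_add, Preadditive.add_comp, hx, hy, add_zero]
    | smul c x _ hx =>
      rw [smul_eq_mul, mul_comm, ← smulMod_mul, Category.assoc, hx, comp_zero]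
  have claim : Formal.smulFamily (I ^ n) F ≫ cokernel.π ψ = 0 := by
    apply Sigma.hom_ext
    intro b
    rw [comp_zero, ← Category.assoc]
    unfold Formal.smulFamily
    rw [Sigma.ι_desc]
    exact claim0 _ (by rw [ha]; exact b.2)
  let θ : Formal.modPow I n F ⟶ cokernel ψ := cokernel.desc _ (cokernel.π ψ) claim
  have hθ : Formal.modPowπ I n F ≫ θ = cokernel.π ψ := cokernel.π_desc _ _ _
  set x := (incl I F n).app W y with hx
  have h1 : (cokernel.π ψ).app W x = 0 := by
    rw [← hθ]
    change θ.app W ((Formal.modPowπ I n F).app W ((incl I F n).app W y)) = 0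
    have h2 := congrArg (fun φ => Scheme.Modules.Hom.app φ W y) (incl_π I F n)
    change (Formal.modPowπ I n F).app W ((incl I F n).app W y) = 0 at h2
    rw [h2, map_zero]
  -- exactness of the image sequence
  let S' : ShortComplex X.Modules := ShortComplex.mk (Abelian.image.ι ψ) (cokernel.π ψ)
    (kernel.condition _)
  have hS' : S'.Exact := ShortComplex.exact_of_f_is_kernel _ (kernelIsKernel (cokernel.π ψ))
  haveI : Mono S'.f := inferInstanceAs (Mono (kernel.ι _))
  obtain ⟨y', hy'⟩ := QcAbel.app_exact' (S := S') hS' W x h1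
  haveI : ∀ i, (B i).IsQuasicoherent := fun _ => ‹F.IsQuasicoherent›
  haveI : (∐ B).IsQuasicoherent := FinSigma.isQuasicoherent_sigma B
  haveI : (Abelian.image ψ).IsQuasicoherent := QcAbel.isQuasicoherent_image ψ
  haveI : Epi (Abelian.factorThruImage ψ) := inferInstance
  obtain ⟨z, hz⟩ := AffPushEpi.app_surjective_of_epi (Abelian.factorThruImage ψ) W hW y'
  have h3 : x = ψ.app W z := by
    rw [← hy', ← hz]
    exact congrArg (fun φ => Scheme.Modules.Hom.app φ W z) (Abelian.image.fac ψ)
  rw [h3, FinSigma.desc_app]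
  refine Submodule.sum_mem _ fun i _ => ?_
  exact Submodule.subset_span ⟨a i, ha' i, (FinSigma.q B i).app W z, rfl⟩

end Sections

section Sys

open Groth.Agent.Helper3

variable {A : Type u} [CommRing A] {X : Scheme.{u}} [X.Over (Spec (CommRingCat.of A))]
  (I : Ideal A) (G : ℕᵒᵖ ⥤ X.Modules) (hG : Formal2.IsQCohFormal I G)

include hG in
theorem epi_tr_succ (m : ℕ) : Epi (tr G (Nat.le_succ m)) := by
  obtain ⟨h, hiso⟩ := hG.2.2 m
  have e : tr G (Nat.le_succ m) = cokernel.π _ ≫ cokernel.desc _ _ h := (cokernel.π_desc _ _ h).symm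
  rw [e]
  haveI : Epi (cokernel.desc _ _ h) := @IsIso.epi_of_iso _ _ _ _ _ hiso
  exact epi_comp _ _

variable {U : X.Opens} (hU : IsAffineOpen U)

include hG hU in
theorem ker_tr_sections (hI : I.FG) (m : ℕ) (x : Γ(G.obj (op (m + 1)), U))
    (hx : (tr G (Nat.le_succ m)).app U x = 0) :
    x ∈ ((I.map (alphaRing A X U)) ^ (m + 1) • ⊤ :
      Submodule Γ(X, U) Γ(G.obj (op (m + 1)), U)) := by
  obtain ⟨h, hiso⟩ := hG.2.2 m
  haveI : (G.obj (op (m + 1))).IsQuasicoherent := hG.1 (m + 1)
  have h1 : (Formal.modPowπ I (m + 1) (G.obj (op (m + 1)))).app U x = 0 := by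
    have e : tr G (Nat.le_succ m) = Formal.modPowπ I (m + 1) _ ≫ cokernel.desc _ _ h :=
      (cokernel.π_desc _ _ h).symm
    rw [e] at hx
    haveI : Mono (cokernel.desc _ _ h) := @IsIso.mono_of_iso _ _ _ _ _ hiso
    apply SepFam.app_injective_of_mono (cokernel.desc _ _ h) U
    exact hx.trans (map_zero _).symm
  obtain ⟨y, hy⟩ := exact_sections I _ (m + 1) x h1
  rw [← IM_eq, ← hy]
  exact mem_IM_of_mem_range_incl_fg I _ hU (m + 1) hI.pow y

include hG in
theorem killed_sections (m : ℕ) (a : Γ(X, U)) (ha : a ∈ (I.map (alphaRing A X U)) ^ (m + 1))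
    (x : Γ(G.obj (op m), U)) : a • x = 0 := by
  rw [← Ideal.map_pow] at ha
  unfold Ideal.map at ha
  induction ha using Submodule.span_induction with
  | mem r hr =>
    obtain ⟨b, hb, rfl⟩ := hr
    have := congrArg (fun φ => Scheme.Modules.Hom.app φ U x) (hG.2.1 m b hb)
    exact this
  | zero => rw [zero_smul]
  | add r s _ _ hr hs => rw [add_smul, hr, hs, add_zero]
  | smul c r _ hr => rw [smul_eq_mul, mul_smul, hr, smul_zero]

end Sys

section LimSec

open Groth.Agent.Lib.Helper4.LimHomE Groth.Agent.Lib.Helper4.AdicLimAlg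

variable {X : Scheme.{u}} (G : ℕᵒᵖ ⥤ X.Modules) (U : X.Opens)

/-- the evaluation functor to types -/
noncomputable abbrev evT : X.Modules ⥤ Type u :=
  SheafOfModules.evaluation X.ringCatSheaf (op U) ⋙ forget (ModuleCat Γ(X, U))

/-- the limit cone of sections -/
noncomputable def hcT : IsLimit ((evT U).mapCone (limit.cone G)) :=
  isLimitOfPreserves (forget (ModuleCat Γ(X, U)))
    (isLimitOfPreserves (SheafOfModules.evaluation X.ringCatSheaf (op U)) (limit.isLimit G))

theorem lim_ext (x y : Γ(limit G, U))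
    (h : ∀ m : ℕ, (limit.π G (op m)).app U x = (limit.π G (op m)).app U y) : x = y := by
  apply (Types.isLimitEquivSections (hcT G U)).injective
  apply Subtype.ext
  funext j
  obtain ⟨m⟩ := j
  exact h m

theorem tr_compat (s : ∀ m, Γ(G.obj (op m), U))
    (hs : ∀ m, (tr G (Nat.le_succ m)).app U (s (m + 1)) = s m) {a b : ℕ} (h : b ≤ a) :
    (tr G h).app U (s a) = s b := by
  induction a, h using Nat.le_induction with
  | base =>
    have : tr G (le_refl b) = 𝟙 _ := G.map_id _
    rw [this]
    rfl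
  | succ a hab ih =>
    rw [← tr_comp G hab (Nat.le_succ a)]
    change (tr G hab).app U ((tr G (Nat.le_succ a)).app U (s (a + 1))) = s b
    rw [hs a, ih]

theorem lim_exists (s : ∀ m, Γ(G.obj (op m), U))
    (hs : ∀ m, (tr G (Nat.le_succ m)).app U (s (m + 1)) = s m) :
    ∃ x : Γ(limit G, U), ∀ m, (limit.π G (op m)).app U x = s m := by
  let σ : (G ⋙ evT U).sections := ⟨fun j => s j.unop, by
    intro j j' φ
    obtain ⟨a⟩ := j
    obtain ⟨b⟩ := j'
    have hba : b ≤ a := leOfHom φ.unop
    have hφ : φ = (homOfLE hba).op := Quiver.Hom.unop_inj (Subsingleton.elim _ _)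
    rw [hφ]
    exact tr_compat G U s hs hba⟩
  refine ⟨(Types.isLimitEquivSections (hcT G U)).symm σ, fun m => ?_⟩
  exact Types.isLimitEquivSections_symm_apply (hcT G U) σ (op m)

end LimSec

section Apply

open Groth.Agent.Lib.Helper4.LimHomE Groth.Agent.Lib.Helper4.AdicLimAlg

variable {A : Type u} [CommRing A] {X : Scheme.{u}} [X.Over (Spec (CommRingCat.of A))]
  (I : Ideal A) (G : ℕᵒᵖ ⥤ X.Modules) (hG : Formal2.IsQCohFormal I G)
  {U : X.Opens} (hU : IsAffineOpen U)

theorem T_self' (m : ℕ) (x : Γ(G.obj (op m), U)) : appL (tr G (le_refl m)) U x = x := by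
  have : tr G (le_refl m) = 𝟙 _ := G.map_id _
  rw [this]
  rfl

theorem T_comp' (k m n : ℕ) (h1 : k ≤ m) (h2 : m ≤ n) (x : Γ(G.obj (op n), U)) :
    appL (tr G h1) U (appL (tr G h2) U x) = appL (tr G (h1.trans h2)) U x := by
  rw [← tr_comp G h1 h2]
  rfl

theorem p_compat' (m n : ℕ) (h : m ≤ n) (x : Γ(limit G, U)) :
    appL (tr G h) U (appL (limit.π G (op n)) U x) = appL (limit.π G (op m)) U x := by
  have := congrArg (fun φ => Scheme.Modules.Hom.app φ U x) (pr_tr G h)
  exact this

include hG hU in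
theorem H1' (m : ℕ) : Function.Surjective (appL (tr G (Nat.le_succ m)) U) := by
  haveI : (G.obj (op m)).IsQuasicoherent := hG.1 m
  haveI : (G.obj (op (m + 1))).IsQuasicoherent := hG.1 (m + 1)
  haveI := epi_tr_succ I G hG m
  exact AffPushEpi.app_surjective_of_epi (tr G (Nat.le_succ m)) U hU

include hG hU in
theorem sections_surj (n : ℕ) : Function.Surjective ((limit.π G (op n)).app U) :=
  p_surjective (M := Γ(limit G, U)) (Ms := fun m => Γ(G.obj (op m), U))
    (fun m n h => appL (tr G h) U) (T_self' G) (T_comp' G)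
    (fun m => appL (limit.π G (op m)) U) (H1' I G hG hU)
    (fun s hs => lim_exists G U s hs) n

include hG hU in
theorem sections_ker (hI : I.FG) (n : ℕ) (x : Γ(limit G, U))
    (hx : (limit.π G (op n)).app U x = 0) :
    x ∈ ((I.map (alphaRing A X U)) ^ (n + 1) • ⊤ : Submodule Γ(X, U) Γ(limit G, U)) :=
  ker_p_le (M := Γ(limit G, U)) (Ms := fun m => Γ(G.obj (op m), U)) (I.map (alphaRing A X U))
    (fun m n h => appL (tr G h) U) (T_self' G) (T_comp' G)
    (fun m => appL (limit.π G (op m)) U) (p_compat' G) (H1' I G hG hU)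
    (fun m x hx => ker_tr_sections I G hG hU hI m x hx)
    (fun m a ha x => killed_sections I G hG m a ha x)
    (fun x hx => lim_ext G U x 0 (fun m => (hx m).trans (map_zero _).symm))
    (fun s hs => lim_exists G U s hs) (hI.map _) n x hx

end Apply

section Main

open Groth.Agent.Lib.Helper4.LimHomE Groth.Agent.Helper3

variable {A : Type u} [CommRing A] {X : Scheme.{u}} [X.Over (Spec (CommRingCat.of A))]

theorem IM_le_range (I : Ideal A) (F : X.Modules) (k : ℕ) (U : X.Opens) :
    IM I (alphaRing A X U) Γ(F, U) k ≤ LinearMap.range (appL (Formal.smulFamily (I ^ k) F) U) := by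
  unfold IM
  rw [Submodule.span_le]
  rintro x ⟨a, ha, m, rfl⟩
  refine ⟨(Sigma.ι (fun _ : ↥(I ^ k) => F) ⟨a, ha⟩).app U m, ?_⟩
  have e : Sigma.ι (fun _ : ↥(I ^ k) => F) ⟨a, ha⟩ ≫ Formal.smulFamily (I ^ k) F =
      Formal.smulMod A F a := by
    unfold Formal.smulFamily
    rw [Sigma.ι_desc]
  have := congrArg (fun φ => Scheme.Modules.Hom.app φ U m) e
  exact this

theorem main (I : Ideal A) (hI : I.FG) (G : ℕᵒᵖ ⥤ X.Modules) (hG : Formal2.IsQCohFormal I G)
    (n : ℕ) :
    ∃ h : Formal.smulFamily (I ^ (n + 1)) (limit G) ≫ limit.π G (op n) = 0,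
      IsIso (cokernel.desc _ _ h) := by
  have h : Formal.smulFamily (I ^ (n + 1)) (limit G) ≫ limit.π G (op n) = 0 := by
    apply Sigma.hom_ext
    intro a
    unfold Formal.smulFamily
    rw [← Category.assoc, Sigma.ι_desc, comp_zero, smulMod_nat, hG.2.1 n a a.2, comp_zero]
  refine ⟨h, ?_⟩
  set sF := Formal.smulFamily (I ^ (n + 1)) (limit G) with hsF
  set π := limit.π G (op n) with hπ
  haveI hepi : Epi π := AffPushEpi.epi_of_surjective_on_affine _
    (fun U hU => sections_surj I G hG hU n)
  let ℓ : (∐ fun _ : ↥(I ^ (n + 1)) => limit G) ⟶ kernel π := kernel.lift π sF h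
  have hℓ : ℓ ≫ kernel.ι π = sF := kernel.lift_ι _ _ _
  haveI : Epi ℓ := by
    apply AffPushEpi.epi_of_surjective_on_affine
    intro U hU x
    have hz : π.app U ((kernel.ι π).app U x) = 0 := by
      have := congrArg (fun φ => Scheme.Modules.Hom.app φ U x) (kernel.condition π)
      exact this
    have h1 := sections_ker I G hG hU hI n _ hz
    rw [← IM_eq] at h1
    obtain ⟨w, hw⟩ := IM_le_range I (limit G) (n + 1) U h1
    refine ⟨w, ?_⟩
    apply SepFam.app_injective_of_mono (kernel.ι π) U
    refine Eq.trans ?_ hw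
    have := congrArg (fun φ => Scheme.Modules.Hom.app φ U w) hℓ
    exact this
  have hck := Abelian.epiIsCokernelOfKernel _ (kernelIsKernel π)
  have hιφ : ∀ {Z : X.Modules} (φ : limit G ⟶ Z), sF ≫ φ = 0 → kernel.ι π ≫ φ = 0 := by
    intro Z φ hφ
    rw [← cancel_epi ℓ, ← Category.assoc, hℓ, hφ, comp_zero]
  let hcok : IsColimit (CokernelCofork.ofπ π h) :=
    CokernelCofork.IsColimit.ofπ _ _
      (fun φ hφ => hck.desc (CokernelCofork.ofπ φ (hιφ φ hφ)))
      (fun φ hφ => hck.fac (CokernelCofork.ofπ φ (hιφ φ hφ)) WalkingParallelPair.one)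
      (fun φ hφ m hm => by
        rw [← cancel_epi π, hm]
        exact (hck.fac (CokernelCofork.ofπ φ (hιφ φ hφ)) WalkingParallelPair.one).symm)
  have e : cokernel.desc sF π h =
      ((colimit.isColimit (parallelPair sF 0)).coconePointUniqueUpToIso hcok).hom := rfl
  rw [e]
  infer_instance

end Main

end Groth.Agent.Lib.Helper4.ModPowLim2
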