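import Mathlib
import Groth.Prelude.Def_CohB1
import Groth.Agent.Lib.Helper4.ModPowLim2
import Groth.Agent.Lib.Helper1.AffPushEpi
import Groth.Agent.Lib.Helper1.FtSupp
import Groth.Agent.Lib.Helper1.CohAbel
import Groth.Agent.Lib.Helper3.SepFam1

/-!
# Image of the limit of a Mittag-Leffler system of coherent modules (helper4)
-/

set_option backward.isDefEq.respectTransparency.types false
set_option synthInstance.maxHeartbeats 400000
set_option autoImplicit false
set_option linter.unusedSectionVars false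
set_option linter.style.haveILetI false
set_option linter.unusedSimpArgs false
universe u v w
open CategoryTheory CategoryTheory.Limits AlgebraicGeometry TopologicalSpace Topology

namespace Groth.Agent.Lib.Helper4.MLImage

open Opposite Groth.Agent.Helper1 Groth.Agent.Helper3
open Groth.Agent.Lib.Helper4.ModPowLim Groth.Agent.Lib.Helper4.ModPowLim2

section Abs

/-- Mittag-Leffler lifting: compatible subsets with surjective transitions lift to the limit -/
theorem exists_lift_of_surjective_on {Ms : ℕ → Type*} {M : Type*}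
    (T : ∀ m n, m ≤ n → Ms n → Ms m)
    (T_self : ∀ m x, T m m le_rfl x = x)
    (T_comp : ∀ k m n (h1 : k ≤ m) (h2 : m ≤ n) x, T k m h1 (T m n h2 x) = T k n (h1.trans h2) x)
    (p : ∀ m, M → Ms m)
    (H5 : ∀ s : ∀ m, Ms m, (∀ m, T m (m + 1) (Nat.le_succ m) (s (m + 1)) = s m) → ∃ x, ∀ m, p m x = s m)
    (S : ∀ m, Set (Ms m))
    (HS : ∀ m, ∀ x ∈ S m, ∃ y ∈ S (m + 1), T m (m + 1) (Nat.le_succ m) y = x)
    (n : ℕ) (y : Ms n) (hy : y ∈ S n) : ∃ x, p n x = y := by
  choose nx hnxS hnx using HS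
  let u : ∀ k, {z : Ms (n + k) // z ∈ S (n + k)} := fun k =>
    Nat.rec (motive := fun k => {z : Ms (n + k) // z ∈ S (n + k)}) ⟨y, hy⟩
      (fun k uk => ⟨nx (n + k) uk.1 uk.2, hnxS (n + k) uk.1 uk.2⟩) k
  have hu : ∀ k, T (n + k) (n + k + 1) (Nat.le_succ _) (u (k + 1)).1 = (u k).1 :=
    fun k => hnx (n + k) (u k).1 (u k).2
  have hy' : ∀ k, T n (n + k) (Nat.le_add_right n k) (u k).1 = y := by
    intro k
    induction k with
    | zero => exact T_self n y
    | succ k ih =>
      rw [← ih, ← hu k]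
      exact (T_comp n (n + k) (n + k + 1) _ _ _).symm
  let s : ∀ m, Ms m := fun m => T m (n + m) (Nat.le_add_left m n) (u m).1
  have hs : ∀ m, T m (m + 1) (Nat.le_succ m) (s (m + 1)) = s m := by
    intro m
    change T m (m + 1) _ (T (m + 1) (n + (m + 1)) _ (u (m + 1)).1) = T m (n + m) _ (u m).1
    rw [T_comp, ← hu m, T_comp]
    rfl
  obtain ⟨x, hx⟩ := H5 s hs
  exact ⟨x, (hx n).trans (hy' n)⟩

end Abs

section Sh

variable {X : Scheme.{u}}

theorem isQuasicoherent_limitsImage {P Q : X.Modules} (f : P ⟶ Q) [P.IsQuasicoherent]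
    [Q.IsQuasicoherent] : (image f).IsQuasicoherent := by
  haveI := QcAbel.isQuasicoherent_image f
  exact QcAbel.isQuasicoherent_of_iso (Abelian.imageIsoImage f)

/-- on affine opens the sections of the image are the image of the sections -/
theorem range_image_ι {P Q : X.Modules} (f : P ⟶ Q) [P.IsQuasicoherent] [Q.IsQuasicoherent]
    {U : X.Opens} (hU : IsAffineOpen U) (x : Γ(Q, U)) :
    x ∈ Set.range ((image.ι f).app U) ↔ x ∈ Set.range (f.app U) := by
  haveI := isQuasicoherent_limitsImage f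
  constructor
  · rintro ⟨y, rfl⟩
    obtain ⟨z, rfl⟩ := AffPushEpi.app_surjective_of_epi (factorThruImage f) U hU y
    refine ⟨z, ?_⟩
    have := congrArg (fun φ => Scheme.Modules.Hom.app φ U z) (image.fac f)
    exact this.symm
  · rintro ⟨z, rfl⟩
    refine ⟨(factorThruImage f).app U z, ?_⟩
    have := congrArg (fun φ => Scheme.Modules.Hom.app φ U z) (image.fac f)
    exact this

theorem range_image_ι_congr {P P' Q : X.Modules} (f : P ⟶ Q) (g : P' ⟶ Q)
    (h : imageSubobject f = imageSubobject g) (U : X.Opens) (x : Γ(Q, U))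
    (hx : x ∈ Set.range ((image.ι f).app U)) : x ∈ Set.range ((image.ι g).app U) := by
  obtain ⟨y, rfl⟩ := hx
  have h' : Subobject.mk (image.ι f) = Subobject.mk (image.ι g) := h
  refine ⟨(Subobject.ofMkLEMk (image.ι f) (image.ι g) h'.le).app U y, ?_⟩
  have := congrArg (fun φ => Scheme.Modules.Hom.app φ U y)
    (Subobject.ofMkLEMk_comp (f := image.ι f) (g := image.ι g) h'.le)
  exact this

end Sh

section Main

variable {X : Scheme.{u}}

theorem lift_section (G : ℕᵒᵖ ⥤ X.Modules) [∀ m : ℕ, (G.obj (op m)).IsQuasicoherent]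
    (dd : ℕ → ℕ) (hdd : ∀ m, m ≤ dd m)
    (hML : ∀ (m d' : ℕ) (hd' : dd m ≤ d'),
      imageSubobject (G.map (homOfLE ((hdd m).trans hd')).op) =
        imageSubobject (G.map (homOfLE (hdd m)).op))
    {U : X.Opens} (hU : IsAffineOpen U) (e : ℕ) (x : Γ(G.obj (op e), U))
    (hx : x ∈ Set.range ((tr G (hdd e)).app U)) :
    ∃ ℓ : Γ(limit G, U), (limit.π G (op e)).app U ℓ = x := by
  have claimA : ∀ (m d' : ℕ) (hd' : dd m ≤ d') (y : Γ(G.obj (op m), U)),
      y ∈ Set.range ((tr G ((hdd m).trans hd')).app U) ↔ y ∈ Set.range ((tr G (hdd m)).app U) := by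
    intro m d' hd' y
    refine (range_image_ι (tr G ((hdd m).trans hd')) hU y).symm.trans
      (Iff.trans ?_ (range_image_ι (tr G (hdd m)) hU y))
    exact ⟨range_image_ι_congr _ _ (hML m d' hd') U y,
      range_image_ι_congr _ _ (hML m d' hd').symm U y⟩
  refine exists_lift_of_surjective_on (Ms := fun m => Γ(G.obj (op m), U)) (M := Γ(limit G, U))
    (fun m n h => (tr G h).app U) (T_self' G) (T_comp' G) (fun m => (limit.π G (op m)).app U)
    (fun s hs => lim_exists G U s hs) (fun m => Set.range ((tr G (hdd m)).app U)) ?_ e x hx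
  intro m y hy
  set d' := max (dd m) (dd (m + 1)) with hd'
  obtain ⟨z, hz⟩ := (claimA m d' (le_max_left _ _) y).2 hy
  refine ⟨(tr G ((hdd (m + 1)).trans (le_max_right _ _))).app U z,
    (claimA (m + 1) d' (le_max_right _ _) _).1 ⟨z, rfl⟩, ?_⟩
  rw [← hz]
  have := congrArg (fun φ => Scheme.Modules.Hom.app φ U z)
    (tr_comp G (Nat.le_succ m) ((hdd (m + 1)).trans (le_max_right (dd m) (dd (m + 1)))))
  exact this

theorem main [IsLocallyNoetherian X] (G : ℕᵒᵖ ⥤ X.Modules) (hG : ∀ n : ℕᵒᵖ, Coh.IsCoh (G.obj n))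
    (hML : ∀ e : ℕ, ∃ (d : ℕ) (hd : e ≤ d), ∀ (d' : ℕ) (hd' : d ≤ d'),
      imageSubobject (G.map (homOfLE (hd.trans hd')).op) = imageSubobject (G.map (homOfLE hd).op))
    (e : ℕ) : IsClosed (CohB1.support (image (limit.π G (op e)))) := by
  choose dd hdd hML' using hML
  haveI : ∀ m : ℕ, (G.obj (op m)).IsQuasicoherent := fun m => (hG (op m)).1
  set π := limit.π G (op e) with hπ
  set t := tr G (hdd e) with ht
  -- the comparison of images
  have hfac : π = (limit.π G (op (dd e)) ≫ factorThruImage t) ≫ image.ι t := by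
    rw [Category.assoc, image.fac]
    exact (pr_tr G (hdd e)).symm
  let MF : MonoFactorisation π :=
    { I := image t, m := image.ι t, e := limit.π G (op (dd e)) ≫ factorThruImage t, fac := hfac.symm }
  let κ : image π ⟶ image t := image.lift MF
  have hκ : κ ≫ image.ι t = image.ι π := image.lift_fac MF
  haveI : Mono κ := mono_of_mono_fac hκ
  haveI : Epi κ := by
    apply AffPushEpi.epi_of_surjective_on_affine
    intro U hU y
    have hx : (image.ι t).app U y ∈ Set.range (t.app U) := (range_image_ι t hU _).1 ⟨y, rfl⟩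
    obtain ⟨ℓ, hℓ⟩ := lift_section G dd hdd hML' hU e _ hx
    refine ⟨(factorThruImage π).app U ℓ, ?_⟩
    apply SepFam.app_injective_of_mono (image.ι t) U
    refine Eq.trans ?_ hℓ
    have h1 := congrArg (fun φ => Scheme.Modules.Hom.app φ U ((factorThruImage π).app U ℓ)) hκ
    have h2 := congrArg (fun φ => Scheme.Modules.Hom.app φ U ℓ) (image.fac π)
    exact h1.trans h2
  haveI : IsIso κ := isIso_of_mono_of_epi κ
  haveI := isQuasicoherent_limitsImage t
  have hq : (image π).IsQuasicoherent := QcAbel.isQuasicoherent_of_iso (asIso κ).symm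
  have hcoh := FtLocal.isCoh_of_mono (image.ι π) (hG (op e)) hq
  exact FtGen.isClosed_support _ hcoh.2

end Main

end Groth.Agent.Lib.Helper4.MLImage
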