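import Mathlib
import Groth.Prelude.Def_Formal
import Groth.Prelude.Def_Algz
import Groth.Agent.Lib.Helper4.CohFormalPro
import Groth.Agent.Lib.Helper4.CanonExt
import Groth.Agent.Lib.Helper4.MLImage

/-!
# epi from limit of sections for ML systems (S9551) (helper4)
-/

set_option backward.isDefEq.respectTransparency.types false
set_option synthInstance.maxHeartbeats 400000
set_option autoImplicit false
set_option linter.unusedSectionVars false
set_option linter.style.haveILetI false
set_option linter.unusedSimpArgs false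
universe u v w
open CategoryTheory CategoryTheory.Limits AlgebraicGeometry TopologicalSpace Topology

namespace Groth.Agent.Lib.Helper4.SectLimEpi

open Opposite Groth.Agent.Lib.Helper4.CohFormalPro Groth.Agent.Lib.Helper4

section ML

variable {A : Type u} [CommRing A]

theorem range_le_of_imageSubobject_le {M N P : ModuleCat.{u} A} (f : M ⟶ P) (g : N ⟶ P)
    (h : imageSubobject f ≤ imageSubobject g) : LinearMap.range f.hom ≤ LinearMap.range g.hom := by
  rintro x ⟨y, rfl⟩
  have hsurj : Function.Surjective (factorThruImageSubobject g) :=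
    (ModuleCat.epi_iff_surjective _).1 inferInstance
  obtain ⟨w, hw⟩ := hsurj ((factorThruImageSubobject f ≫ Subobject.ofLE _ _ h) y)
  refine ⟨w, ?_⟩
  have h1 : g = factorThruImageSubobject g ≫ (imageSubobject g).arrow := by simp
  have h2 : f = (factorThruImageSubobject f ≫ Subobject.ofLE _ _ h) ≫ (imageSubobject g).arrow := by
    simp
  calc g.hom w = (imageSubobject g).arrow.hom ((factorThruImageSubobject g).hom w) := by
        conv_lhs => rw [h1]
        rfl
    _ = (imageSubobject g).arrow.hom ((factorThruImageSubobject f ≫ Subobject.ofLE _ _ h).hom y) := by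
        exact congrArg _ hw
    _ = f.hom y := by
        conv_rhs => rw [h2]
        rfl

variable (S : ℕᵒᵖ ⥤ ModuleCat.{u} A)

abbrev trm {m n : ℕ} (h : m ≤ n) : S.obj (op n) ⟶ S.obj (op m) := S.map (homOfLE h).op

theorem trm_self (m : ℕ) (x : S.obj (op m)) : (trm S (le_refl m)).hom x = x := by
  have : trm S (le_refl m) = 𝟙 _ := S.map_id _
  rw [this]
  rfl

theorem trm_comp (k m n : ℕ) (h1 : k ≤ m) (h2 : m ≤ n) (x : S.obj (op n)) :
    (trm S h1).hom ((trm S h2).hom x) = (trm S (h1.trans h2)).hom x := by
  have : trm S (h1.trans h2) = trm S h2 ≫ trm S h1 := by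
    unfold trm
    rw [← S.map_comp]
    rfl
  rw [this]
  rfl

theorem pi_compat (m n : ℕ) (h : m ≤ n) (x : (limit S : ModuleCat.{u} A)) :
    (trm S h).hom ((limit.π S (op n)).hom x) = (limit.π S (op m)).hom x := by
  have : limit.π S (op n) ≫ trm S h = limit.π S (op m) := limit.w S (homOfLE h).op
  rw [← this]
  rfl

theorem tr_compat_mod (s : ∀ m : ℕ, S.obj (op m))
    (hs : ∀ m, (trm S (Nat.le_succ m)).hom (s (m + 1)) = s m) {a b : ℕ} (h : b ≤ a) :
    (trm S h).hom (s a) = s b := by
  induction a, h using Nat.le_induction with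
  | base => exact trm_self S b _
  | succ a hab ih =>
    rw [← trm_comp S b a (a + 1) hab (Nat.le_succ a), hs a, ih]

theorem lim_exists_mod (s : ∀ m : ℕ, S.obj (op m))
    (hs : ∀ m, (trm S (Nat.le_succ m)).hom (s (m + 1)) = s m) :
    ∃ x : (limit S : ModuleCat.{u} A), ∀ m, (limit.π S (op m)).hom x = s m := by
  have hc := isLimitOfPreserves (forget (ModuleCat.{u} A)) (limit.isLimit S)
  let σ : (S ⋙ forget (ModuleCat.{u} A)).sections := ⟨fun j => s j.unop, by
    intro j j' φ
    obtain ⟨a⟩ := j
    obtain ⟨b⟩ := j'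
    have hba : b ≤ a := leOfHom φ.unop
    have hφ : φ = (homOfLE hba).op := Quiver.Hom.unop_inj (Subsingleton.elim _ _)
    rw [hφ]
    exact tr_compat_mod S s hs hba⟩
  refine ⟨(Types.isLimitEquivSections hc).symm σ, fun m => ?_⟩
  exact Types.isLimitEquivSections_symm_apply hc σ (op m)

/-- for a Mittag-Leffler system of modules the image of the limit is the stable image -/
theorem range_limit_π_of_isML (hML : ARSys.IsML S) (n : ℕ) :
    ∃ (m : ℕ) (h : n ≤ m), LinearMap.range (limit.π S (op n)).hom =
      LinearMap.range (trm S h).hom := by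
  choose r hr using hML
  have hst : ∀ (n s : ℕ), r n ≤ s → LinearMap.range (trm S (Nat.le_add_right n s)).hom =
      LinearMap.range (trm S (Nat.le_add_right n (r n))).hom := by
    intro n s hs
    have h := hr n s hs
    exact le_antisymm (range_le_of_imageSubobject_le _ _ h.le)
      (range_le_of_imageSubobject_le _ _ h.ge)
  refine ⟨n + r n, Nat.le_add_right n (r n), le_antisymm ?_ ?_⟩
  · rintro x ⟨y, rfl⟩
    exact ⟨(limit.π S (op (n + r n))).hom y, pi_compat S n (n + r n) _ y⟩
  · rintro x hx
    obtain ⟨y, hy⟩ := Groth.Agent.Lib.Helper4.MLImage.exists_lift_of_surjective_on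
      (Ms := fun m => S.obj (op m)) (M := (limit S : ModuleCat.{u} A))
      (fun m n h => (trm S h).hom) (trm_self S) (trm_comp S)
      (fun m => (limit.π S (op m)).hom) (lim_exists_mod S)
      (fun m => (LinearMap.range (trm S (Nat.le_add_right m (r m))).hom : Set (S.obj (op m))))
      (by
        intro m x hx
        have hx' : x ∈ LinearMap.range (trm S (Nat.le_add_right m (1 + r (m + 1) + r m))).hom := by
          rw [hst m _ (Nat.le_add_left _ _)]
          exact hx
        obtain ⟨z, rfl⟩ := hx'
        have e1 : m + (1 + r (m + 1) + r m) = (m + 1) + (r (m + 1) + r m) := by ring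
        have hle : m + 1 ≤ m + (1 + r (m + 1) + r m) := by omega
        refine ⟨(trm S hle).hom z, ?_, trm_comp S _ _ _ _ _ z⟩
        have : (trm S hle).hom z ∈
            LinearMap.range (trm S (Nat.le_add_right (m + 1) (r (m + 1) + r m))).hom := by
          have hobj : (op (m + (1 + r (m + 1) + r m)) : ℕᵒᵖ) = op ((m + 1) + (r (m + 1) + r m)) := by
            rw [e1]
          refine ⟨(S.map (eqToHom hobj)).hom z, ?_⟩
          have : S.map (eqToHom hobj) ≫ trm S (Nat.le_add_right (m + 1) (r (m + 1) + r m)) =
              trm S hle := by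
            unfold trm
            rw [← S.map_comp]
            congr 1
          rw [← this]
          rfl
        rw [hst (m + 1) _ (Nat.le_add_right _ _)] at this
        exact this)
      n x hx
    exact ⟨y, hy⟩

/-- a functor preserving epimorphisms which sends the transition maps into `S_n` to epimorphisms
sends the projection from the limit of a Mittag-Leffler system to an epimorphism -/
theorem epi_map_limit_π (hML : ARSys.IsML S) {D : Type*} [Category D] (R : ModuleCat.{u} A ⥤ D)
    [R.PreservesEpimorphisms] (n : ℕ) (hR : ∀ (m : ℕ) (h : n ≤ m), Epi (R.map (trm S h))) :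
    Epi (R.map (limit.π S (op n))) := by
  obtain ⟨m, h, hrange⟩ := range_limit_π_of_isML S hML n
  let t : S.obj (op m) ⟶ S.obj (op n) := trm S h
  let π : limit S ⟶ S.obj (op n) := limit.π S (op n)
  let Im : ModuleCat.{u} A := ModuleCat.of A (LinearMap.range t.hom)
  let ι : Im ⟶ S.obj (op n) := ModuleCat.ofHom (LinearMap.range t.hom).subtype
  let e' : S.obj (op m) ⟶ Im := ModuleCat.ofHom t.hom.rangeRestrict
  have hmem : ∀ x, π.hom x ∈ LinearMap.range t.hom := fun x => by
    have : π.hom x ∈ LinearMap.range π.hom := ⟨x, rfl⟩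
    rw [hrange] at this
    exact this
  let e : limit S ⟶ Im := ModuleCat.ofHom (π.hom.codRestrict (LinearMap.range t.hom) hmem)
  have he' : e' ≫ ι = t := by
    ext x
    rfl
  have he : e ≫ ι = π := by
    ext x
    rfl
  haveI : Epi e' := by
    rw [ModuleCat.epi_iff_surjective]
    exact LinearMap.surjective_rangeRestrict _
  haveI : Epi e := by
    rw [ModuleCat.epi_iff_surjective]
    rintro ⟨y, hy⟩
    have hy' : y ∈ LinearMap.range π.hom := by rw [hrange]; exact hy
    obtain ⟨x, hx⟩ := hy'
    exact ⟨x, Subtype.ext hx⟩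
  have hRt : Epi (R.map t) := hR m h
  have hRι : Epi (R.map ι) := by
    have : R.map e' ≫ R.map ι = R.map t := by rw [← R.map_comp, he']
    rw [← this] at hRt
    exact epi_of_epi (R.map e') (R.map ι)
  have : R.map π = R.map e ≫ R.map ι := by rw [← R.map_comp, he]
  change Epi (R.map π)
  rw [this]
  infer_instance

end ML

section Main

open Groth.Agent.Helper1

variable (A : Type u) [CommRing A]

theorem main_gen (I : Ideal A) (U : (Spec (CommRingCat.of A)).Opens) [QuasiCompact U.ι]
    (G : ℕᵒᵖ ⥤ (↑U : Scheme.{u}).Modules) (hG : Formal.IsCohFormal I G)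
    (ha : ARSys.IsML (Algz.sectMod A U G)) (n : ℕ) :
    Epi (((Scheme.Modules.restrictAdjunction U.ι).homEquiv _ (G.obj (op n))).symm
      (((tilde.adjunction (R := CommRingCat.of A)).homEquiv (limit (Algz.sectMod A U G))
        ((Scheme.Modules.pushforward U.ι).obj (G.obj (op n)))).symm
          (limit.π (Algz.sectMod A U G) (op n)))) := by
  have hqc : ∀ k : ℕᵒᵖ, (G.obj k).IsQuasicoherent := fun k => (hG.1 k.unop).1
  let R : ModuleCat.{u} A ⥤ (↑U : Scheme.{u}).Modules :=
    tilde.functor (CommRingCat.of A) ⋙ Scheme.Modules.restrictFunctor U.ι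
  haveI : (tilde.functor (CommRingCat.of A)).PreservesEpimorphisms :=
    Functor.preservesEpimorphisms_of_adjunction (tilde.adjunction (R := CommRingCat.of A))
  haveI : (Scheme.Modules.restrictFunctor U.ι).PreservesEpimorphisms :=
    Functor.preservesEpimorphisms_of_adjunction (Scheme.Modules.restrictAdjunction U.ι)
  haveI : R.PreservesEpimorphisms := by
    change (tilde.functor (CommRingCat.of A) ⋙ Scheme.Modules.restrictFunctor U.ι).PreservesEpimorphisms
    infer_instance
  -- R t is an epimorphism
  have hRt : ∀ (m : ℕ) (h : n ≤ m), Epi (R.map (trm (Algz.sectMod A U G) h)) := by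
    intro m h
    obtain ⟨iso⟩ : Nonempty (Algz.restrictSys U (Algz.sectSys A U G) ≅ G) :=
      ⟨CanonExt.sectSysRestrictIso A U G hqc⟩
    have hnat := iso.hom.naturality (homOfLE h).op
    have h1 : R.map (trm (Algz.sectMod A U G) h) =
        (Algz.restrictSys U (Algz.sectSys A U G)).map (homOfLE h).op := rfl
    have h2 : R.map (trm (Algz.sectMod A U G) h) =
        iso.hom.app (op m) ≫ G.map (homOfLE h).op ≫ iso.inv.app (op n) := by
      rw [h1, ← Category.assoc, ← hnat, Category.assoc, Iso.hom_inv_id_app, Category.comp_id]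
    rw [h2]
    haveI e1 : Epi (G.map (homOfLE h).op) := epi_tr (isFormalSys_of_isCohFormal I hG) h
    haveI e0 : Epi (iso.inv.app (op n)) := inferInstance
    haveI e2 : Epi (G.map (homOfLE h).op ≫ iso.inv.app (op n)) := epi_comp _ _
    haveI e3 : Epi (iso.hom.app (op m)) := inferInstance
    exact @epi_comp _ _ _ _ _ _ e3 _ e2
  have hRπ : Epi (R.map (limit.π (Algz.sectMod A U G) (op n))) :=
    epi_map_limit_π (Algz.sectMod A U G) ha R n hRt
  have hq : ((Scheme.Modules.pushforward U.ι).obj (G.obj (op n))).IsQuasicoherent := by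
    haveI := hqc (op n)
    exact PushQc.isQuasicoherent_pushforward U.ι (G.obj (op n))
  have hiso : IsIso ((tilde.adjunction (R := CommRingCat.of A)).counit.app
      ((Scheme.Modules.pushforward U.ι).obj (G.obj (op n)))) := by
    exact @Scheme.Modules.isIso_fromTildeΓ_of_isQuasicoherent (CommRingCat.of A)
      ((Scheme.Modules.pushforward U.ι).obj (G.obj (op n))) hq
  rw [Adjunction.homEquiv_counit, Adjunction.homEquiv_counit, Functor.map_comp, Category.assoc]
  haveI : IsIso ((Scheme.Modules.restrictFunctor U.ι).map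
      ((tilde.adjunction (R := CommRingCat.of A)).counit.app
        ((Scheme.Modules.pushforward U.ι).obj (G.obj (op n))))) := Functor.map_isIso _ _
  haveI e1 : Epi ((Scheme.Modules.restrictFunctor U.ι).map ((tilde.functor (CommRingCat.of A)).map
      (limit.π (Algz.sectMod A U G) (op n)))) := hRπ
  haveI e2 : Epi ((Scheme.Modules.restrictAdjunction U.ι).counit.app (G.obj (op n))) := inferInstance
  haveI e3 : Epi ((Scheme.Modules.restrictFunctor U.ι).map
      ((tilde.adjunction (R := CommRingCat.of A)).counit.app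
        ((Scheme.Modules.pushforward U.ι).obj (G.obj (op n)))) ≫
        (Scheme.Modules.restrictAdjunction U.ι).counit.app (G.obj (op n))) := epi_comp _ _
  exact @epi_comp _ _ _ _ _ _ e1 _ e3

theorem main [IsNoetherianRing A] (I 𝔞 : Ideal A) (hI𝔞 : I ≤ 𝔞)
    (G : ℕᵒᵖ ⥤ (↑(LocCoh.puncturedOpen A 𝔞) : Scheme.{u}).Modules) (hG : Formal.IsCohFormal I G)
    (ha : ARSys.IsML (Algz.sectMod A (LocCoh.puncturedOpen A 𝔞) G)) (n : ℕ) :
    Epi (((Scheme.Modules.restrictAdjunction (LocCoh.puncturedOpen A 𝔞).ι).homEquiv _ (G.obj (op n))).symm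
      (((tilde.adjunction (R := CommRingCat.of A)).homEquiv (limit (Algz.sectMod A (LocCoh.puncturedOpen A 𝔞) G))
        ((Scheme.Modules.pushforward (LocCoh.puncturedOpen A 𝔞).ι).obj (G.obj (op n)))).symm
          (limit.π (Algz.sectMod A (LocCoh.puncturedOpen A 𝔞) G) (op n)))) :=
  main_gen A I (LocCoh.puncturedOpen A 𝔞) G hG ha n

end Main

end Groth.Agent.Lib.Helper4.SectLimEpi
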