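import Mathlib
import Groth.Prelude.Def_Formal
import Groth.Prelude.Def_Algz
import Groth.Agent.Lib.Helper4.SectLimEpi
import Groth.Agent.Lib.Helper4.ModPowLim2
import Groth.Agent.Lib.Helper4.CanonExt

/-!
# limit of sections when canonically extends (S9533) (helper4)
-/

set_option backward.isDefEq.respectTransparency.types false
set_option synthInstance.maxHeartbeats 400000
set_option autoImplicit false
set_option linter.unusedSectionVars false
set_option linter.style.haveILetI false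
set_option linter.unusedSimpArgs false
universe u v w
open CategoryTheory CategoryTheory.Limits AlgebraicGeometry TopologicalSpace Topology

namespace Groth.Agent.Lib.Helper4.CanonExtLim

open Opposite Groth.Agent.Lib.Helper4 Groth.Agent.Lib.Helper4.SectLimEpi

section ProLim

variable {A : Type u} [CommRing A]

theorem lim_ext_mod (S : ℕᵒᵖ ⥤ ModuleCat.{u} A) (x y : (limit S : ModuleCat.{u} A))
    (h : ∀ n : ℕ, (limit.π S (op n)).hom x = (limit.π S (op n)).hom y) : x = y := by
  have hc := isLimitOfPreserves (forget (ModuleCat.{u} A)) (limit.isLimit S)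
  apply (Types.isLimitEquivSections hc).injective
  apply Subtype.ext
  funext j
  obtain ⟨n⟩ := j
  exact h n

variable (X Y : ℕᵒᵖ ⥤ ModuleCat.{u} A) (m : ℕ → ℕ) (hm : Monotone m) (hle : ∀ n, n ≤ m n)
  (aj : ∀ j, X.obj (op (m j)) ⟶ Y.obj (op j))
  (nat : ∀ j j' (h : j ≤ j'), trm X (hm h) ≫ aj j = aj j' ≫ trm Y h)
  (pro : ∀ n, ∃ (k : ℕ) (hk : n ≤ k) (b : Y.obj (op k) ⟶ X.obj (op (m n))),
    aj k ≫ b = trm X (hm hk) ∧ b ≫ aj n = trm Y hk)

include nat in
/-- the map on limits induced by a re-indexed levelwise map -/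
noncomputable def limPhi : limit X ⟶ limit Y :=
  limit.lift Y ⟨limit X,
    { app := fun j => limit.π X (op (m j.unop)) ≫ aj j.unop
      naturality := by
        intro j j' f
        obtain ⟨p⟩ := j
        obtain ⟨q⟩ := j'
        have hqp : q ≤ p := leOfHom f.unop
        have hf : f = (homOfLE hqp).op := Quiver.Hom.unop_inj (Subsingleton.elim _ _)
        subst hf
        change 𝟙 _ ≫ limit.π X (op (m q)) ≫ aj q = (limit.π X (op (m p)) ≫ aj p) ≫ trm Y hqp
        rw [Category.id_comp, Category.assoc, ← nat q p hqp, ← Category.assoc]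
        congr 1
        exact (limit.w X (homOfLE (hm hqp)).op).symm }⟩

theorem limPhi_π (j : ℕ) :
    limPhi X Y m hm aj nat ≫ limit.π Y (op j) = limit.π X (op (m j)) ≫ aj j := by
  unfold limPhi
  rw [limit.lift_π]

theorem limPhi_π_apply (j : ℕ) (x : (limit X : ModuleCat.{u} A)) :
    (limit.π Y (op j)).hom ((limPhi X Y m hm aj nat).hom x) =
      (aj j).hom ((limit.π X (op (m j))).hom x) := by
  have := congrArg (fun φ => φ.hom x) (limPhi_π X Y m hm aj nat j)
  exact this

include hle pro in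
theorem limPhi_injective : Function.Injective (limPhi X Y m hm aj nat).hom := by
  intro x x' hxx'
  apply lim_ext_mod
  intro n
  obtain ⟨k, hk, b, hb1, hb2⟩ := pro n
  have key : ∀ z : (limit X : ModuleCat.{u} A), (limit.π X (op n)).hom z =
      (trm X (hle n)).hom (b.hom ((limit.π Y (op k)).hom ((limPhi X Y m hm aj nat).hom z))) := by
    intro z
    rw [limPhi_π_apply]
    have : (b.hom ((aj k).hom ((limit.π X (op (m k))).hom z))) =
        (trm X (hm hk)).hom ((limit.π X (op (m k))).hom z) := by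
      have := congrArg (fun φ => φ.hom ((limit.π X (op (m k))).hom z)) hb1
      exact this
    rw [this, pi_compat, pi_compat]
  rw [key x, key x', hxx']

include hle pro in
theorem limPhi_surjective : Function.Surjective (limPhi X Y m hm aj nat).hom := by
  intro y
  choose k hk b hb1 hb2 using pro
  let yj : ∀ j, Y.obj (op j) := fun j => (limit.π Y (op j)).hom y
  let xj : ∀ n, X.obj (op (m n)) := fun n => (b n).hom (yj (k n))
  have hb1' : ∀ n (x : X.obj (op (m (k n)))), (b n).hom ((aj (k n)).hom x) =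
      (trm X (hm (hk n))).hom x := fun n x => congrArg (fun φ => φ.hom x) (hb1 n)
  have hb2' : ∀ n (w : Y.obj (op (k n))), (aj n).hom ((b n).hom w) =
      (trm Y (hk n)).hom w := fun n w => congrArg (fun φ => φ.hom w) (hb2 n)
  have nat' : ∀ j j' (h : j ≤ j') (x : X.obj (op (m j'))),
      (aj j).hom ((trm X (hm h)).hom x) = (trm Y h).hom ((aj j').hom x) :=
    fun j j' h x => congrArg (fun φ => φ.hom x) (nat j j' h)
  have claim1 : ∀ n K (hK : k n ≤ K) (x : X.obj (op (m K))), (aj K).hom x = yj K →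
      (trm X (hm ((hk n).trans hK))).hom x = xj n := by
    intro n K hK x hx
    rw [← trm_comp X (m n) (m (k n)) (m K) (hm (hk n)) (hm hK), ← hb1', nat', hx]
    change (b n).hom ((trm Y hK).hom ((limit.π Y (op K)).hom y)) = _
    rw [pi_compat]
  have claim2 : ∀ n, (aj n).hom (xj n) = yj n := by
    intro n
    change (aj n).hom ((b n).hom (yj (k n))) = _
    rw [hb2']
    exact pi_compat Y n (k n) _ y
  have claim3 : ∀ n n' (h : n ≤ n'), (trm X (hm h)).hom (xj n') = xj n := by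
    intro n n' h
    have h1 : k n ≤ max (k n) (k n') := le_max_left _ _
    have h2 : k n' ≤ max (k n) (k n') := le_max_right _ _
    have c1 := claim1 n _ h1 (xj (max (k n) (k n'))) (claim2 _)
    have c2 := claim1 n' _ h2 (xj (max (k n) (k n'))) (claim2 _)
    rw [← c2, trm_comp, c1]
  let s : ∀ n, X.obj (op n) := fun n => (trm X (hle n)).hom (xj n)
  have hs : ∀ n, (trm X (Nat.le_succ n)).hom (s (n + 1)) = s n := by
    intro n
    change (trm X (Nat.le_succ n)).hom ((trm X (hle (n + 1))).hom (xj (n + 1))) =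
      (trm X (hle n)).hom (xj n)
    rw [trm_comp, ← claim3 n (n + 1) (Nat.le_succ n), trm_comp]
  obtain ⟨z, hz⟩ := lim_exists_mod X s hs
  refine ⟨z, ?_⟩
  apply lim_ext_mod
  intro j
  rw [limPhi_π_apply, hz (m j)]
  change (aj j).hom ((trm X (hle (m j))).hom (xj (m j))) = yj j
  rw [claim3 j (m j) (hle j), claim2]

end ProLim

section Extract

variable {C : Type v} [Category.{w} C]

/-- unpacking a pro-isomorphism -/
theorem exists_data {X Y : ℕᵒᵖ ⥤ C} (h : Algz.IsProIsomorphic X Y) :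
    ∃ (m : ℕ → ℕ) (hm : Monotone m) (_ : ∀ n, n ≤ m n)
      (aj : ∀ j, X.obj (op (m j)) ⟶ Y.obj (op j)),
      (∀ j j' (h : j ≤ j'), X.map (homOfLE (hm h)).op ≫ aj j = aj j' ≫ Y.map (homOfLE h).op) ∧
      (∀ n, ∃ (k : ℕ) (hk : n ≤ k) (b : Y.obj (op k) ⟶ X.obj (op (m n))),
        aj k ≫ b = X.map (homOfLE (hm hk)).op ∧ b ≫ aj n = Y.map (homOfLE hk).op) := by
  obtain ⟨m, hm, hle, a, ha⟩ := h
  refine ⟨m, hm, hle, fun j => a.app (op j), ?_, ?_⟩
  · intro j j' h
    exact a.naturality (homOfLE h).op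
  · intro n
    obtain ⟨k, hk, b, hb1, hb2⟩ := ha n
    exact ⟨k, hk, b, hb1, hb2⟩

end Extract

section Gam

open Groth.Agent.Lib.Helper4.BaseChgRing1 Groth.Agent.Lib.Helper4.ReesAlg1

theorem mem_smul_top_of_mem_IM {A B : Type u} [CommRing A] [CommRing B] (α : A →+* B)
    (hα : Function.Surjective α) {P Q : Type u} [AddCommGroup P] [Module B P] [AddCommGroup Q]
    [Module A Q] (e : P →+ Q) (he : ∀ a p, e (α a • p) = a • e p) (I : Ideal A) (k : ℕ) (x : P)
    (hx : x ∈ IM I α P k) : e x ∈ (I ^ k • ⊤ : Submodule A Q) := by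
  unfold IM at hx
  induction hx using Submodule.span_induction with
  | mem y hy =>
    obtain ⟨a, ha, p, rfl⟩ := hy
    rw [he]
    exact Submodule.smul_mem_smul ha trivial
  | zero => rw [map_zero]; exact Submodule.zero_mem _
  | add y z _ _ hy hz => rw [map_add]; exact Submodule.add_mem _ hy hz
  | smul b y _ hy =>
    obtain ⟨a, rfl⟩ := hα b
    rw [he]
    exact Submodule.smul_mem _ a hy

variable (A : Type u) [CommRing A]

theorem Γmap_apply {F F' : (Spec (CommRingCat.of A)).Modules} (φ : F ⟶ F')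
    (x : (moduleSpecΓFunctor (R := CommRingCat.of A)).obj F) :
    ((moduleSpecΓFunctor (R := CommRingCat.of A)).map φ).hom x = φ.app ⊤ x := rfl

theorem alpha_top (a : A) :
    @alphaRing A _ (Spec (CommRingCat.of A)) ⟨𝟙 _⟩ ⊤ a =
      (Scheme.ΓSpecIso (CommRingCat.of A)).inv.hom a := by
  unfold alphaRing
  have h2 : Scheme.Hom.appLE (𝟙 (Spec (CommRingCat.of A))) ⊤ ⊤ le_top = 𝟙 _ := by
    simp [Scheme.Hom.appLE]
  change (Scheme.Hom.appLE (𝟙 (Spec (CommRingCat.of A))) ⊤ ⊤ le_top).hom _ = _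
  rw [h2]
  rfl

theorem alpha_surjective :
    Function.Surjective (@alphaRing A _ (Spec (CommRingCat.of A)) ⟨𝟙 _⟩ ⊤) := by
  intro b
  refine ⟨(Scheme.ΓSpecIso (CommRingCat.of A)).hom.hom b, ?_⟩
  rw [alpha_top]
  exact congrArg (fun φ => φ.hom b) (Scheme.ΓSpecIso (CommRingCat.of A)).hom_inv_id

theorem Γsmul_eq (F : (Spec (CommRingCat.of A)).Modules) (a : A)
    (x : (moduleSpecΓFunctor (R := CommRingCat.of A)).obj F) :
    a • x = (@Formal.smulMod A _ (Spec (CommRingCat.of A)) ⟨𝟙 _⟩ F a).app ⊤ x := by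
  let _ : (Spec (CommRingCat.of A)).Over (Spec (CommRingCat.of A)) := ⟨𝟙 _⟩
  rw [IPow1.smulMod_app, alpha_top]
  rfl

theorem Γsmul_eq' (F : (Spec (CommRingCat.of A)).Modules) (a : A)
    (x : (moduleSpecΓFunctor (R := CommRingCat.of A)).obj F) :
    a • x = (show (moduleSpecΓFunctor (R := CommRingCat.of A)).obj F from
      (@alphaRing A _ (Spec (CommRingCat.of A)) ⟨𝟙 _⟩ ⊤ a • (show Γ(F, ⊤) from x) : Γ(F, ⊤))) :=
  Γsmul_eq A F a x

variable (I : Ideal A) (G' : ℕᵒᵖ ⥤ (Spec (CommRingCat.of A)).Modules)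
  (hG' : @Formal.IsCohFormal A _ (Spec (CommRingCat.of A)) ⟨𝟙 _⟩ I G')

include hG' in
theorem isQCohFormal : @Formal2.IsQCohFormal A _ (Spec (CommRingCat.of A)) ⟨𝟙 _⟩ I G' :=
  ⟨fun n => (hG'.1 n).1, hG'.2.1, hG'.2.2⟩

include hG' in
theorem ker_limit_le (hI : I.FG) (n : ℕ)
    (x : (limit (G' ⋙ moduleSpecΓFunctor (R := CommRingCat.of A)) : ModuleCat.{u} A))
    (hx : (limit.π (G' ⋙ moduleSpecΓFunctor (R := CommRingCat.of A)) (op n)).hom x = 0) :
    x ∈ (I ^ (n + 1) • ⊤ : Submodule A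
      ↑(limit (G' ⋙ moduleSpecΓFunctor (R := CommRingCat.of A)) : ModuleCat.{u} A)) := by
  let _ : (Spec (CommRingCat.of A)).Over (Spec (CommRingCat.of A)) := ⟨𝟙 _⟩
  have hQ := isQCohFormal A I G' hG'
  let N : ℕᵒᵖ ⥤ ModuleCat.{u} A := G' ⋙ moduleSpecΓFunctor (R := CommRingCat.of A)
  have hAff : IsAffineOpen (⊤ : (Spec (CommRingCat.of A)).Opens) := isAffineOpen_top _
  refine AdicLimAlg.ker_p_le (R := A) (M := ↑(limit N : ModuleCat.{u} A))
    (Ms := fun m => ↑(N.obj (op m))) I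
    (fun m n h => (trm N h).hom) (trm_self N) (trm_comp N)
    (fun m => (limit.π N (op m)).hom) (pi_compat N) ?_ ?_ ?_
    (fun x hx => lim_ext_mod N x 0 (fun m => (hx m).trans (map_zero _).symm))
    (fun s hs => lim_exists_mod N s hs) hI n x hx
  · -- H1
    intro m
    exact ModPowLim2.H1' I G' hQ hAff m
  · -- H2
    intro m y hy
    have h1 := ModPowLim2.ker_tr_sections I G' hQ hAff hI m y hy
    rw [← ModPowLim2.IM_eq] at h1
    exact mem_smul_top_of_mem_IM (alphaRing A (Spec (CommRingCat.of A)) ⊤) (alpha_surjective A)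
      (P := Γ(G'.obj (op (m + 1)), ⊤)) (Q := ↑(N.obj (op (m + 1))))
      (AddMonoidHom.id _) (fun a p => (Γsmul_eq A _ a p).symm) I (m + 1) y h1
  · -- H3
    intro m a ha y
    rw [Γsmul_eq]
    have := congrArg (fun φ => Scheme.Modules.Hom.app φ ⊤ y) (hG'.2.1 m a ha)
    exact this

end Gam

section Main

variable (A : Type u) [CommRing A]

/-- the system of sections is pro-isomorphic to the system of global sections of the extension -/
theorem isProIsomorphic_sectMod (U : (Spec (CommRingCat.of A)).Opens)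
    (G : ℕᵒᵖ ⥤ (↑U : Scheme.{u}).Modules) (G' : ℕᵒᵖ ⥤ (Spec (CommRingCat.of A)).Modules)
    (hpro : Algz.IsProIsomorphic (Algz.sectSys A U G) G') :
    Algz.IsProIsomorphic (Algz.sectMod A U G)
      (G' ⋙ moduleSpecΓFunctor (R := CommRingCat.of A)) := by
  have hpro1 := CanonExt.isProIsomorphic_comp (moduleSpecΓFunctor (R := CommRingCat.of A)) hpro
  let e : Algz.sectSys A U G ⋙ moduleSpecΓFunctor (R := CommRingCat.of A) ≅ Algz.sectMod A U G :=
    Functor.isoWhiskerLeft (Algz.sectMod A U G)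
      (tilde.toTildeΓNatIso (R := CommRingCat.of A)).symm ≪≫ Functor.rightUnitor _
  exact CanonExt.isProIsomorphic_of_iso_left e hpro1

theorem main_gen (I : Ideal A) (hI : I.FG) (U : (Spec (CommRingCat.of A)).Opens)
    (G : ℕᵒᵖ ⥤ (↑U : Scheme.{u}).Modules)
    (h : Algz.CanonicallyExtends A I U G) (k : ℕ) :
    ∃ n : ℕ, LinearMap.ker (limit.π (Algz.sectMod A U G) (op n)).hom ≤
      I ^ k • (⊤ : Submodule A ↑(limit (Algz.sectMod A U G))) := by
  obtain ⟨G', hG', hpro⟩ := h
  have hpro2 := isProIsomorphic_sectMod A U G G' hpro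
  obtain ⟨m, hm, hle, aj, nat, pro⟩ := exists_data hpro2
  refine ⟨m k, fun x hx => ?_⟩
  have hx0 : (limit.π (Algz.sectMod A U G) (op (m k))).hom x = 0 := hx
  let φ := limPhi (Algz.sectMod A U G) (G' ⋙ moduleSpecΓFunctor (R := CommRingCat.of A)) m hm aj nat
  have hφx : (limit.π (G' ⋙ moduleSpecΓFunctor (R := CommRingCat.of A)) (op k)).hom (φ.hom x) = 0 := by
    rw [limPhi_π_apply, hx0, map_zero]
  have h1 := ker_limit_le A I G' hG' hI k (φ.hom x) hφx
  have h2 : φ.hom x ∈ (I ^ k • ⊤ : Submodule A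
      ↑(limit (G' ⋙ moduleSpecΓFunctor (R := CommRingCat.of A)) : ModuleCat.{u} A)) :=
    Submodule.smul_mono_left (Ideal.pow_le_pow_right (Nat.le_succ k)) h1
  have hsurj : Function.Surjective φ.hom :=
    limPhi_surjective _ _ m hm hle aj nat pro
  have hinj : Function.Injective φ.hom :=
    limPhi_injective _ _ m hm hle aj nat pro
  have h3 : (I ^ k • ⊤ : Submodule A
      ↑(limit (G' ⋙ moduleSpecΓFunctor (R := CommRingCat.of A)) : ModuleCat.{u} A)) =
      Submodule.map φ.hom (I ^ k • ⊤) := by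
    rw [Submodule.map_smul'', Submodule.map_top, LinearMap.range_eq_top.2 hsurj]
  rw [h3] at h2
  obtain ⟨x', hx', hxx'⟩ := h2
  rw [← hinj hxx']
  exact hx'

theorem main [IsNoetherianRing A] (I 𝔞 : Ideal A) (hI𝔞 : I ≤ 𝔞)
    (G : ℕᵒᵖ ⥤ (↑(LocCoh.puncturedOpen A 𝔞) : Scheme.{u}).Modules) (hG : Formal.IsCohFormal I G)
    (h : Algz.CanonicallyExtends A I (LocCoh.puncturedOpen A 𝔞) G) (k : ℕ) :
    ∃ n : ℕ, LinearMap.ker (limit.π (Algz.sectMod A (LocCoh.puncturedOpen A 𝔞) G) (op n)).hom ≤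
      I ^ k • (⊤ : Submodule A ↑(limit (Algz.sectMod A (LocCoh.puncturedOpen A 𝔞) G))) :=
  main_gen A I (IsNoetherian.noetherian I) (LocCoh.puncturedOpen A 𝔞) G h k

end Main

end Groth.Agent.Lib.Helper4.CanonExtLim
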