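import Mathlib
import Groth.Prelude.Def_Formal
import Groth.Prelude.Def_Algz
import Groth.Agent.Lib.Helper4.CanonExtLim
import Groth.Agent.Lib.Helper4.CohFormalPB
import Groth.Agent.Lib.Helper1.TildeFT
import Groth.Agent.Lib.Helper4.ClTr1

/-!
# canonically extends from ML, adic topology, finite images (S9534) (helper4)
-/

set_option backward.isDefEq.respectTransparency.types false
set_option synthInstance.maxHeartbeats 400000
set_option autoImplicit false
set_option linter.unusedSectionVars false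
set_option linter.style.haveILetI false
set_option linter.unusedSimpArgs false
universe u v w
open CategoryTheory CategoryTheory.Limits AlgebraicGeometry TopologicalSpace Topology

namespace Groth.Agent.Lib.Helper4.CanonExtOf

open Opposite Groth.Agent.Lib.Helper4 Groth.Agent.Lib.Helper4.CanonExtLim

section Symm

variable {C : Type v} [Category.{w} C]

/-- transition maps -/
abbrev t (X : ℕᵒᵖ ⥤ C) {a b : ℕ} (h : a ≤ b) : X.obj (op b) ⟶ X.obj (op a) := X.map (homOfLE h).op

theorem t_comp (X : ℕᵒᵖ ⥤ C) {a b c : ℕ} (h1 : a ≤ b) (h2 : b ≤ c) :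
    t X h2 ≫ t X h1 = t X (h1.trans h2) := by
  unfold t
  rw [← X.map_comp]
  rfl

theorem t_comp_assoc (X : ℕᵒᵖ ⥤ C) {a b c : ℕ} (h1 : a ≤ b) (h2 : b ≤ c) {Z : C}
    (f : X.obj (op a) ⟶ Z) : t X h2 ≫ t X h1 ≫ f = t X (h1.trans h2) ≫ f := by
  rw [← Category.assoc, t_comp]

/-- packing a pro-isomorphism -/
theorem of_data {X Y : ℕᵒᵖ ⥤ C} (m : ℕ → ℕ) (hm : Monotone m) (hle : ∀ n, n ≤ m n)
    (aj : ∀ j, X.obj (op (m j)) ⟶ Y.obj (op j))
    (nat : ∀ j, t X (hm (Nat.le_succ j)) ≫ aj j = aj (j + 1) ≫ t Y (Nat.le_succ j))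
    (pro : ∀ n, ∃ (k : ℕ) (hk : n ≤ k) (b : Y.obj (op k) ⟶ X.obj (op (m n))),
      aj k ≫ b = t X (hm hk) ∧ b ≫ aj n = t Y hk) : Algz.IsProIsomorphic X Y := by
  refine ⟨m, hm, hle, NatTrans.ofOpSequence (F := DerCA.reindex X hm) (G := Y) aj (fun j => nat j), ?_⟩
  intro n
  obtain ⟨k, hk, b, hb1, hb2⟩ := pro n
  exact ⟨k, hk, b, hb1, hb2⟩

theorem isProIsomorphic_symm {X Y : ℕᵒᵖ ⥤ C} (h : Algz.IsProIsomorphic X Y) :
    Algz.IsProIsomorphic Y X := by
  obtain ⟨m, hm, hle, aj, nat, pro⟩ := exists_data h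
  choose k hk b hb1 hb2 using pro
  replace nat : ∀ j j' (h : j ≤ j'), t X (hm h) ≫ aj j = aj j' ≫ t Y h := nat
  replace hb1 : ∀ n, aj (k n) ≫ b n = t X (hm (hk n)) := hb1
  replace hb2 : ∀ n, b n ≫ aj n = t Y (hk n) := hb2
  -- the key compatibility
  have key : ∀ (n n' : ℕ) (hnn' : n ≤ n') (j : ℕ) (hj : k (max (k n) (k n')) ≤ j),
      t Y (((le_max_left (k n) (k n')).trans (hk _)).trans hj) ≫ b n =
        t Y (((le_max_right (k n) (k n')).trans (hk _)).trans hj) ≫ b n' ≫ t X (hm hnn') := by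
    intro n n' hnn' j hj
    have hq1 : k n ≤ max (k n) (k n') := le_max_left _ _
    have hq2 : k n' ≤ max (k n) (k n') := le_max_right _ _
    have e1 : aj (max (k n) (k n')) ≫ t Y hq1 ≫ b n = t X (hm ((hk n).trans hq1)) := by
      rw [← Category.assoc, ← nat _ _ hq1, Category.assoc, hb1 n]
      exact t_comp X _ _
    have e2 : aj (max (k n) (k n')) ≫ t Y hq2 ≫ b n' ≫ t X (hm hnn') =
        t X (hm ((hk n).trans hq1)) := by
      rw [← Category.assoc, ← nat _ _ hq2, Category.assoc, ← Category.assoc (aj (k n')), hb1 n']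
      change t X _ ≫ t X _ ≫ t X _ = _
      rw [t_comp, t_comp]
    have e3 : t Y (hk (max (k n) (k n'))) ≫ t Y hq1 ≫ b n =
        t Y (hk (max (k n) (k n'))) ≫ t Y hq2 ≫ b n' ≫ t X (hm hnn') := by
      rw [← hb2 (max (k n) (k n')), Category.assoc, Category.assoc, e1, e2]
    have e4 := congrArg (fun φ => t Y hj ≫ φ) e3
    simp only [t_comp_assoc] at e4
    exact e4
  -- the re-indexing
  let K : ℕ → ℕ := fun n => Nat.rec (k 0) (fun n Kn => max Kn (k (max (k n) (k (n + 1))))) n
  have hK0 : K 0 = k 0 := rfl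
  have hKs : ∀ n, K (n + 1) = max (K n) (k (max (k n) (k (n + 1)))) := fun n => rfl
  have hKmono : Monotone K := monotone_nat_of_le_succ (fun n => by rw [hKs]; exact le_max_left _ _)
  have hKk : ∀ n, k n ≤ K n := by
    intro n
    cases n with
    | zero => exact le_rfl
    | succ n =>
      rw [hKs]
      exact ((le_max_right (k n) (k (n + 1))).trans (hk _)).trans (le_max_right _ _)
  have hKle : ∀ n, n ≤ K n := fun n => (hk n).trans (hKk n)
  let a' : ∀ n, Y.obj (op (K n)) ⟶ X.obj (op n) := fun n => t Y (hKk n) ≫ b n ≫ t X (hle n)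
  have hKs' : ∀ n, k (max (k n) (k (n + 1))) ≤ K (n + 1) := fun n => by
    rw [hKs]; exact le_max_right _ _
  refine of_data K hKmono hKle a' ?_ ?_
  · intro n
    change t Y (hKmono (Nat.le_succ n)) ≫ t Y (hKk n) ≫ b n ≫ t X (hle n) =
      (t Y (hKk (n + 1)) ≫ b (n + 1) ≫ t X (hle (n + 1))) ≫ t X (Nat.le_succ n)
    have h1 := key n (n + 1) (Nat.le_succ n) (K (n + 1)) (hKs' n)
    rw [t_comp_assoc, ← Category.assoc, h1]
    simp only [Category.assoc, t_comp]
  · intro n
    refine ⟨m (K n), (hKle n).trans (hle _), aj (K n), ?_, ?_⟩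
    · change (t Y (hKk (m (K n))) ≫ b (m (K n)) ≫ t X (hle (m (K n)))) ≫ aj (K n) = _
      have h1 : t X (hle (m (K n))) ≫ aj (K n) = aj (m (K n)) ≫ t Y (hle (K n)) :=
        nat (K n) (m (K n)) (hle (K n))
      rw [Category.assoc, Category.assoc, h1, ← Category.assoc (b _), hb2, t_comp, t_comp]
    · change aj (K n) ≫ t Y (hKk n) ≫ b n ≫ t X (hle n) = _
      rw [← Category.assoc, ← nat _ _ (hKk n), Category.assoc, ← Category.assoc (aj (k n)), hb1 n]
      change t X _ ≫ t X _ ≫ t X _ = _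
      rw [t_comp, t_comp]

end Symm

section TildeSys

open Groth.Agent.Lib.Helper4.IPow1 Groth.Agent.Lib.Helper4.CohFormalPB

variable (A : Type u) [CommRing A]

/-- multiplication by a scalar as a morphism of modules -/
noncomputable def smulHom (P : ModuleCat.{u} A) (a : A) : P ⟶ P :=
  ModuleCat.ofHom (LinearMap.lsmul A P a)

theorem smulHom_apply (P : ModuleCat.{u} A) (a : A) (x : P) : (smulHom A P a).hom x = a • x := rfl

/-- on `Spec A` multiplication by `a` on `P~` is induced by multiplication by `a` on `P` -/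
theorem smulMod_tilde (P : ModuleCat.{u} A) (a : A) :
    @Formal.smulMod A _ (Spec (CommRingCat.of A)) ⟨𝟙 _⟩
      ((tilde.functor (CommRingCat.of A)).obj P) a =
      (tilde.functor (CommRingCat.of A)).map (smulHom A P a) := by
  apply ((tilde.adjunction (R := CommRingCat.of A)).homEquiv P _).injective
  rw [Adjunction.homEquiv_unit, Adjunction.homEquiv_unit]
  have h1 := (tilde.adjunction (R := CommRingCat.of A)).unit.naturality (smulHom A P a)
  refine Eq.trans ?_ h1
  ext x
  change ((moduleSpecΓFunctor (R := CommRingCat.of A)).map _).hom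
    (((tilde.adjunction (R := CommRingCat.of A)).unit.app P).hom x) =
    ((tilde.adjunction (R := CommRingCat.of A)).unit.app P).hom (a • x)
  rw [map_smul, Γmap_apply, Γsmul_eq]

variable (I : Ideal A) (M : Type u) [AddCommGroup M] [Module A M]

/-- the system `n ↦ M / I^(n+1) M` -/
noncomputable def Pfun : ℕᵒᵖ ⥤ ModuleCat.{u} A :=
  Functor.ofOpSequence (X := fun n => ModuleCat.of A (Formal2.quotPow A I M n))
    (fun n => ModuleCat.ofHom (Formal2.quotPowTrans A I M n))

theorem Pfun_map_succ (n : ℕ) :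
    (Pfun A I M).map (homOfLE (Nat.le_succ n)).op =
      ModuleCat.ofHom (Formal2.quotPowTrans A I M n) :=
  Functor.ofOpSequence_map_homOfLE_succ _ n

theorem quotPowTrans_mk (n : ℕ) (z : M) :
    Formal2.quotPowTrans A I M n (Formal2.quotPowπ A I M (n + 1) z) = Formal2.quotPowπ A I M n z :=
  rfl

theorem Pfun_map_mk {n k : ℕ} (h : n ≤ k) (z : M) :
    ((Pfun A I M).map (homOfLE h).op).hom (Formal2.quotPowπ A I M k z) =
      Formal2.quotPowπ A I M n z := by
  induction k, h using Nat.le_induction with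
  | base =>
    have : (Pfun A I M).map (homOfLE (le_refl n)).op = 𝟙 _ := (Pfun A I M).map_id _
    rw [this]
    rfl
  | succ k hk ih =>
    have : (Pfun A I M).map (homOfLE (hk.trans (Nat.le_succ k))).op =
        (Pfun A I M).map (homOfLE (Nat.le_succ k)).op ≫ (Pfun A I M).map (homOfLE hk).op := by
      rw [← Functor.map_comp]
      rfl
    rw [this, Pfun_map_succ]
    change ((Pfun A I M).map (homOfLE hk).op).hom
      (Formal2.quotPowTrans A I M k (Formal2.quotPowπ A I M (k + 1) z)) = _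
    rw [quotPowTrans_mk, ih]

theorem quotPow_killed (n : ℕ) (a : A) (ha : a ∈ I ^ (n + 1)) (x : Formal2.quotPow A I M n) :
    a • x = 0 := by
  obtain ⟨z, rfl⟩ := Submodule.mkQ_surjective _ x
  rw [← map_smul]
  exact (Submodule.Quotient.mk_eq_zero _).2 (Submodule.smul_mem_smul ha trivial)

theorem quotPowTrans_surjective (n : ℕ) : Function.Surjective (Formal2.quotPowTrans A I M n) := by
  intro x
  obtain ⟨z, rfl⟩ := Submodule.mkQ_surjective _ x
  exact ⟨Formal2.quotPowπ A I M (n + 1) z, rfl⟩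

theorem ker_quotPowTrans_le (n : ℕ) (x : Formal2.quotPow A I M (n + 1))
    (hx : Formal2.quotPowTrans A I M n x = 0) :
    x ∈ (I ^ (n + 1) • ⊤ : Submodule A (Formal2.quotPow A I M (n + 1))) := by
  obtain ⟨z, rfl⟩ := Submodule.mkQ_surjective _ x
  rw [quotPowTrans_mk] at hx
  have hz : z ∈ (I ^ (n + 1) • ⊤ : Submodule A M) := (Submodule.Quotient.mk_eq_zero _).1 hx
  have : (I ^ (n + 1) • ⊤ : Submodule A (Formal2.quotPow A I M (n + 1))) =
      Submodule.map (Formal2.quotPowπ A I M (n + 1)) (I ^ (n + 1) • ⊤) := by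
    rw [Submodule.map_smul'', Submodule.map_top, Submodule.range_mkQ]
  rw [this]
  exact ⟨z, hz, rfl⟩

theorem exists_factor {P1 P0 Q : ModuleCat.{u} A} (tt : P1 ⟶ P0)
    (hs : Function.Surjective tt.hom) (ψ : P1 ⟶ Q) (hk : ∀ x, tt.hom x = 0 → ψ.hom x = 0) :
    ∃ χ : P0 ⟶ Q, tt ≫ χ = ψ := by
  have hker : LinearMap.ker tt.hom ≤ LinearMap.ker ψ.hom := fun x hx => hk x hx
  refine ⟨ModuleCat.ofHom ((LinearMap.ker tt.hom).liftQ ψ.hom hker ∘ₗ
    (LinearMap.quotKerEquivOfSurjective tt.hom hs).symm.toLinearMap), ?_⟩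
  ext x
  have : (LinearMap.quotKerEquivOfSurjective tt.hom hs).symm (tt.hom x) =
      Submodule.Quotient.mk x := by
    rw [LinearEquiv.symm_apply_eq]
    rfl
  change (LinearMap.ker tt.hom).liftQ ψ.hom hker
    ((LinearMap.quotKerEquivOfSurjective tt.hom hs).symm (tt.hom x)) = ψ.hom x
  rw [this]
  rfl

theorem homEquiv_zero (P : ModuleCat.{u} A) (Z : (Spec (CommRingCat.of A)).Modules) :
    (tilde.adjunction (R := CommRingCat.of A)).homEquiv P Z 0 = 0 := by
  rw [Adjunction.homEquiv_unit]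
  have : (moduleSpecΓFunctor (R := CommRingCat.of A)).map
      (0 : (tilde.functor (CommRingCat.of A)).obj P ⟶ Z) = 0 := by
    ext x
    rfl
  rw [this, comp_zero]

/-- the cokernel property of the transition maps of `(M / I^(n+1) M)~` -/
theorem isCohFormal_tilde [IsNoetherianRing A]
    (hfin : ∀ n, Module.Finite A (Formal2.quotPow A I M n)) :
    @Formal.IsCohFormal A _ (Spec (CommRingCat.of A)) ⟨𝟙 _⟩ I
      (Pfun A I M ⋙ tilde.functor (CommRingCat.of A)) := by
  let _ : (Spec (CommRingCat.of A)).Over (Spec (CommRingCat.of A)) := ⟨𝟙 _⟩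
  have hkill : ∀ n, Formal.KilledBy (I ^ (n + 1))
      ((Pfun A I M ⋙ tilde.functor (CommRingCat.of A)).obj (op n)) := by
    intro n a ha
    change Formal.smulMod A ((tilde.functor (CommRingCat.of A)).obj ((Pfun A I M).obj (op n))) a = 0
    rw [smulMod_tilde]
    have : smulHom A ((Pfun A I M).obj (op n)) a = 0 := by
      ext x
      exact quotPow_killed A I M n a ha x
    rw [this]
    exact tilde.map_zero (R := CommRingCat.of A)
  refine ⟨fun n => ⟨?_, ?_⟩, hkill, fun n => ?_⟩
  · change (tilde (R := CommRingCat.of A) ((Pfun A I M).obj (op n))).IsQuasicoherent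
    infer_instance
  · exact Groth.Agent.Helper1.TildeFT.tilde_isFiniteType (CommRingCat.of A)
      ((Pfun A I M).obj (op n)) (hfin n)
  · -- the cokernel property
    have hw : Formal.smulFamily (I ^ (n + 1))
        ((Pfun A I M ⋙ tilde.functor (CommRingCat.of A)).obj (op (n + 1))) ≫
        (Pfun A I M ⋙ tilde.functor (CommRingCat.of A)).map (homOfLE (Nat.le_succ n)).op = 0 := by
      apply Sigma.hom_ext
      intro a
      unfold Formal.smulFamily
      rw [← Category.assoc, Sigma.ι_desc, comp_zero, smulMod_nat, hkill n a a.2, comp_zero]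
    refine ⟨hw, isIso_desc_of_isColimit _ _ hw ?_⟩
    let P1 : ModuleCat.{u} A := (Pfun A I M).obj (op (n + 1))
    let P0 : ModuleCat.{u} A := (Pfun A I M).obj (op n)
    let tt : P1 ⟶ P0 := (Pfun A I M).map (homOfLE (Nat.le_succ n)).op
    have htt : tt = ModuleCat.ofHom (Formal2.quotPowTrans A I M n) := Pfun_map_succ A I M n
    have hsurj : Function.Surjective tt.hom := by
      rw [htt]
      exact quotPowTrans_surjective A I M n
    haveI : Epi tt := (ModuleCat.epi_iff_surjective _).2 hsurj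
    haveI : (tilde.functor (CommRingCat.of A)).PreservesEpimorphisms :=
      Functor.preservesEpimorphisms_of_adjunction (tilde.adjunction (R := CommRingCat.of A))
    haveI hepi : Epi ((tilde.functor (CommRingCat.of A)).map tt) := inferInstance
    -- factorisation
    have hfac : ∀ {Z : (Spec (CommRingCat.of A)).Modules}
        (ψ : (tilde.functor (CommRingCat.of A)).obj P1 ⟶ Z),
        Formal.smulFamily (I ^ (n + 1)) ((tilde.functor (CommRingCat.of A)).obj P1) ≫ ψ = 0 →
        ∃ χ : (tilde.functor (CommRingCat.of A)).obj P0 ⟶ Z,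
          (tilde.functor (CommRingCat.of A)).map tt ≫ χ = ψ := by
      intro Z ψ hψ
      let adj := tilde.adjunction (R := CommRingCat.of A)
      let ψf : P1 ⟶ (moduleSpecΓFunctor (R := CommRingCat.of A)).obj Z := adj.homEquiv P1 Z ψ
      have h1 : ∀ a ∈ I ^ (n + 1), smulHom A P1 a ≫ ψf = 0 := by
        intro a ha
        have e1 : Formal.smulMod A ((tilde.functor (CommRingCat.of A)).obj P1) a ≫ ψ = 0 := by
          have : Formal.smulMod A ((tilde.functor (CommRingCat.of A)).obj P1) a =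
              Sigma.ι (fun _ : ↥(I ^ (n + 1)) => (tilde.functor (CommRingCat.of A)).obj P1) ⟨a, ha⟩ ≫
                Formal.smulFamily (I ^ (n + 1)) ((tilde.functor (CommRingCat.of A)).obj P1) := by
            unfold Formal.smulFamily
            rw [Sigma.ι_desc]
          rw [this, Category.assoc, hψ, comp_zero]
        rw [smulMod_tilde] at e1
        have e2 := adj.homEquiv_naturality_left (smulHom A P1 a) ψ
        rw [e1] at e2
        change smulHom A P1 a ≫ adj.homEquiv P1 Z ψ = 0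
        rw [← e2]
        exact homEquiv_zero A P1 Z
      have hk0 : ∀ x : P1, x ∈ (I ^ (n + 1) • ⊤ : Submodule A P1) → ψf.hom x = 0 := by
        intro x hx'
        induction hx' using Submodule.smul_induction_on' with
        | smul a ha y _ =>
          have := congrArg (fun φ => φ.hom y) (h1 a ha)
          exact this
        | add y _ z _ hy hz => rw [map_add, hy, hz, add_zero]
      have hk : ∀ x : P1, tt.hom x = 0 → ψf.hom x = 0 := by
        intro x hx
        rw [htt] at hx
        exact hk0 x (ker_quotPowTrans_le A I M n x hx)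
      obtain ⟨χf, hχf⟩ := exists_factor A tt hsurj ψf hk
      refine ⟨(adj.homEquiv P0 Z).symm χf, ?_⟩
      rw [← adj.homEquiv_naturality_left_symm, hχf]
      exact (adj.homEquiv P1 Z).symm_apply_apply ψ
    exact CokernelCofork.IsColimit.ofπ _ _
      (fun ψ hψ => (hfac ψ hψ).choose)
      (fun ψ hψ => (hfac ψ hψ).choose_spec)
      (fun ψ hψ χ hχ => by
        have hχ' : (tilde.functor (CommRingCat.of A)).map tt ≫ χ = ψ := hχ
        rw [← cancel_epi ((tilde.functor (CommRingCat.of A)).map tt), hχ']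
        exact (hfac ψ hψ).choose_spec.symm)

end TildeSys


section EasyDir

open Groth.Agent.Lib.Helper4.SectLimEpi

variable {A : Type u} [CommRing A] (I : Ideal A) (X : ℕᵒᵖ ⥤ ModuleCat.{u} A)
  (hkill : ∀ n, ∀ a ∈ I ^ (n + 1), ∀ x : X.obj (op n), a • x = 0)

include hkill in
theorem pow_smul_le_ker (n : ℕ) :
    (I ^ (n + 1) • ⊤ : Submodule A ↑(limit X : ModuleCat.{u} A)) ≤
      LinearMap.ker (limit.π X (op n)).hom := by
  rw [Submodule.smul_le]
  intro a ha z _
  rw [LinearMap.mem_ker, map_smul]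
  exact hkill n a ha _

/-- the canonical map `M / I^(n+1) M → X_n` -/
noncomputable def ell (n : ℕ) : (Pfun A I ↑(limit X : ModuleCat.{u} A)).obj (op n) ⟶ X.obj (op n) :=
  ModuleCat.ofHom ((I ^ (n + 1) • ⊤ : Submodule A ↑(limit X : ModuleCat.{u} A)).liftQ
    (limit.π X (op n)).hom (pow_smul_le_ker I X hkill n))

theorem ell_mk (n : ℕ) (z : ↑(limit X : ModuleCat.{u} A)) :
    (ell I X hkill n).hom (Formal2.quotPowπ A I ↑(limit X : ModuleCat.{u} A) n z) =
      (limit.π X (op n)).hom z := rfl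

theorem ker_π_anti {n k : ℕ} (h : n ≤ k) :
    LinearMap.ker (limit.π X (op k)).hom ≤ LinearMap.ker (limit.π X (op n)).hom := by
  intro z hz
  rw [LinearMap.mem_ker] at hz ⊢
  rw [← pi_compat X n k h z, hz, map_zero]

include hkill in
theorem isProIsomorphic_easy (hML : ARSys.IsML X)
    (hb : ∀ k : ℕ, ∃ n : ℕ, LinearMap.ker (limit.π X (op n)).hom ≤
      I ^ k • (⊤ : Submodule A ↑(limit X : ModuleCat.{u} A))) :
    Algz.IsProIsomorphic (Pfun A I ↑(limit X : ModuleCat.{u} A)) X := by
  refine of_data (fun n => n) monotone_id (fun n => le_rfl) (ell I X hkill) ?_ ?_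
  · intro j
    apply ModuleCat.hom_ext
    apply Submodule.linearMap_qext
    ext z
    change (ell I X hkill j).hom (((Pfun A I ↑(limit X : ModuleCat.{u} A)).map
      (homOfLE (Nat.le_succ j)).op).hom (Formal2.quotPowπ A I _ (j + 1) z)) =
      (trm X (Nat.le_succ j)).hom ((ell I X hkill (j + 1)).hom (Formal2.quotPowπ A I _ (j + 1) z))
    rw [Pfun_map_mk, ell_mk, ell_mk, pi_compat]
  · intro n
    obtain ⟨k0', hk0'⟩ := hb (n + 1)
    have hk0 : LinearMap.ker (limit.π X (op (max k0' n))).hom ≤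
        I ^ (n + 1) • (⊤ : Submodule A ↑(limit X : ModuleCat.{u} A)) :=
      (ker_π_anti X (le_max_left k0' n)).trans hk0'
    have hnk0 : n ≤ max k0' n := le_max_right _ _
    obtain ⟨k, hk, hrange⟩ := range_limit_π_of_isML X hML (max k0' n)
    let π0 := (limit.π X (op (max k0' n))).hom
    -- the map back
    let b0 : X.obj (op k) →ₗ[A] Formal2.quotPow A I ↑(limit X : ModuleCat.{u} A) n :=
      (Submodule.factor hk0) ∘ₗ (LinearMap.quotKerEquivRange π0).symm.toLinearMap ∘ₗ
        (LinearEquiv.ofEq _ _ hrange.symm).toLinearMap ∘ₗ (trm X hk).hom.rangeRestrict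
    have hb0 : ∀ (x : X.obj (op k)) (z : ↑(limit X : ModuleCat.{u} A)),
        π0 z = (trm X hk).hom x → b0 x = Formal2.quotPowπ A I _ n z := by
      intro x z hz
      have h1 : (LinearEquiv.ofEq _ _ hrange.symm) ((trm X hk).hom.rangeRestrict x) =
          (⟨π0 z, ⟨z, rfl⟩⟩ : LinearMap.range π0) := by
        apply Subtype.ext
        exact hz.symm
      change Submodule.factor hk0 ((LinearMap.quotKerEquivRange π0).symm
        ((LinearEquiv.ofEq _ _ hrange.symm) ((trm X hk).hom.rangeRestrict x))) = _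
      rw [h1, LinearMap.quotKerEquivRange_symm_apply_image]
      rfl
    refine ⟨k, hnk0.trans hk, ModuleCat.ofHom b0, ?_, ?_⟩
    · apply ModuleCat.hom_ext
      apply Submodule.linearMap_qext
      ext z
      change b0 ((ell I X hkill k).hom (Formal2.quotPowπ A I _ k z)) =
        ((Pfun A I ↑(limit X : ModuleCat.{u} A)).map (homOfLE (hnk0.trans hk)).op).hom
          (Formal2.quotPowπ A I _ k z)
      rw [Pfun_map_mk, ell_mk]
      exact hb0 _ z (pi_compat X _ _ hk z).symm
    · ext x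
      have hx : (trm X hk).hom x ∈ LinearMap.range π0 := by
        rw [hrange]
        exact ⟨x, rfl⟩
      obtain ⟨z, hz⟩ := hx
      change (ell I X hkill n).hom (b0 x) = (trm X (hnk0.trans hk)).hom x
      rw [hb0 x z hz, ell_mk, ← pi_compat X n _ hnk0 z]
      change (trm X hnk0).hom (π0 z) = _
      rw [hz, trm_comp]

end EasyDir

section Main

variable (A : Type u) [CommRing A]

theorem sectMod_killed (I : Ideal A) (U : (Spec (CommRingCat.of A)).Opens)
    (G : ℕᵒᵖ ⥤ (↑U : Scheme.{u}).Modules)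
    (hkill : ∀ n, Formal.KilledBy (I ^ (n + 1)) (G.obj (op n))) (n : ℕ) (a : A)
    (ha : a ∈ I ^ (n + 1)) (x : (Algz.sectMod A U G).obj (op n)) : a • x = 0 := by
  let _ : (Spec (CommRingCat.of A)).Over (Spec (CommRingCat.of A)) := ⟨𝟙 _⟩
  have hf : U.ι ≫ ((Spec (CommRingCat.of A)) ↘ Spec (CommRingCat.of A)) =
      (↑U : Scheme.{u}) ↘ Spec (CommRingCat.of A) := Category.comp_id _
  have h1 := ClTr1.push_smulMod U.ι hf (G.obj (op n)) a
  rw [hkill n a ha] at h1
  have h2 : Formal.smulMod A ((Scheme.Modules.pushforward U.ι).obj (G.obj (op n))) a = 0 := by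
    rw [← h1]
    exact Functor.map_zero _ _ _
  change a • (show (moduleSpecΓFunctor (R := CommRingCat.of A)).obj
    ((Scheme.Modules.pushforward U.ι).obj (G.obj (op n))) from x) = 0
  rw [Γsmul_eq, h2]
  rfl

theorem finite_quotPow (I : Ideal A) (X : ℕᵒᵖ ⥤ ModuleCat.{u} A)
    (hb : ∀ k : ℕ, ∃ n : ℕ, LinearMap.ker (limit.π X (op n)).hom ≤
      I ^ k • (⊤ : Submodule A ↑(limit X : ModuleCat.{u} A)))
    (hc : ∀ n : ℕ, Module.Finite A ↥(LinearMap.range (limit.π X (op n)).hom)) (n : ℕ) :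
    Module.Finite A (Formal2.quotPow A I ↑(limit X : ModuleCat.{u} A) n) := by
  obtain ⟨n', hn'⟩ := hb (n + 1)
  haveI := hc n'
  let f : ↥(LinearMap.range (limit.π X (op n')).hom) →ₗ[A]
      Formal2.quotPow A I ↑(limit X : ModuleCat.{u} A) n :=
    (Submodule.factor hn') ∘ₗ (LinearMap.quotKerEquivRange (limit.π X (op n')).hom).symm.toLinearMap
  refine Module.Finite.of_surjective f ?_
  intro y
  obtain ⟨z, rfl⟩ := Submodule.mkQ_surjective _ y
  refine ⟨⟨(limit.π X (op n')).hom z, ⟨z, rfl⟩⟩, ?_⟩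
  change Submodule.factor hn' ((LinearMap.quotKerEquivRange (limit.π X (op n')).hom).symm _) = _
  rw [LinearMap.quotKerEquivRange_symm_apply_image]
  rfl

theorem main_gen [IsNoetherianRing A] (I : Ideal A) (U : (Spec (CommRingCat.of A)).Opens)
    (G : ℕᵒᵖ ⥤ (↑U : Scheme.{u}).Modules)
    (hkill : ∀ n, Formal.KilledBy (I ^ (n + 1)) (G.obj (op n)))
    (ha : ARSys.IsML (Algz.sectMod A U G))
    (hb : ∀ k : ℕ, ∃ n : ℕ, LinearMap.ker (limit.π (Algz.sectMod A U G) (op n)).hom ≤
      I ^ k • (⊤ : Submodule A ↑(limit (Algz.sectMod A U G))))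
    (hc : ∀ n : ℕ, Module.Finite A ↥(LinearMap.range (limit.π (Algz.sectMod A U G) (op n)).hom)) :
    Algz.CanonicallyExtends A I U G := by
  have hfin := finite_quotPow A I (Algz.sectMod A U G) hb hc
  refine ⟨Pfun A I ↑(limit (Algz.sectMod A U G) : ModuleCat.{u} A) ⋙ tilde.functor (CommRingCat.of A),
    isCohFormal_tilde A I _ hfin, ?_⟩
  have h1 := isProIsomorphic_easy I (Algz.sectMod A U G) (sectMod_killed A I U G hkill) ha hb
  have h2 := isProIsomorphic_symm h1
  exact CanonExt.isProIsomorphic_comp (tilde.functor (CommRingCat.of A)) h2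

theorem main [IsNoetherianRing A] (I 𝔞 : Ideal A) (hI𝔞 : I ≤ 𝔞)
    (G : ℕᵒᵖ ⥤ (↑(LocCoh.puncturedOpen A 𝔞) : Scheme.{u}).Modules) (hG : Formal.IsCohFormal I G)
    (ha : ARSys.IsML (Algz.sectMod A (LocCoh.puncturedOpen A 𝔞) G))
    (hb : ∀ k : ℕ, ∃ n : ℕ, LinearMap.ker (limit.π (Algz.sectMod A (LocCoh.puncturedOpen A 𝔞) G) (op n)).hom ≤
      I ^ k • (⊤ : Submodule A ↑(limit (Algz.sectMod A (LocCoh.puncturedOpen A 𝔞) G))))
    (hc : ∀ n : ℕ, Module.Finite A ↥(LinearMap.range (limit.π (Algz.sectMod A (LocCoh.puncturedOpen A 𝔞) G) (op n)).hom)) :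
    Algz.CanonicallyExtends A I (LocCoh.puncturedOpen A 𝔞) G :=
  main_gen A I (LocCoh.puncturedOpen A 𝔞) G hG.2.1 ha hb hc

end Main

end Groth.Agent.Lib.Helper4.CanonExtOf
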