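import Mathlib
import Groth.Prelude.Def_Formal
import Groth.Prelude.Def_Formal2
import Groth.Prelude.Def_Algz
import Groth.Agent.Lib.Helper4.CanonExtOf
import Groth.Agent.Lib.Helper5.QC.TildeExact
import Groth.Agent.Lib.Helper1.CohAbel
import Groth.Agent.Lib.Helper1.FtLocal
import Groth.Agent.Lib.Helper1.QcAbel
import Groth.Agent.Lib.Helper1.PushQc

/-!
# coherence and injectivity from adic limit topology (S9553) (helper4)
-/

set_option backward.isDefEq.respectTransparency.types false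
set_option synthInstance.maxHeartbeats 400000
set_option autoImplicit false
set_option linter.unusedSectionVars false
set_option linter.style.haveILetI false
set_option linter.unusedSimpArgs false
universe u v w
open CategoryTheory CategoryTheory.Limits AlgebraicGeometry TopologicalSpace Topology

namespace Groth.Agent.Lib.Helper4.LimTopInj

open Opposite Groth.Agent.Lib.Helper4 Groth.Agent.Lib.Helper4.CanonExtOf

section Loc

variable {R : CommRingCat.{u}}

/-- a global section of a quasi-coherent module on `Spec R` vanishing on `D(f)` is killed by a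
power of `f` -/
theorem exists_pow_smul_eq_zero (F : (Spec (.of R)).Modules) [F.IsQuasicoherent] (f : R)
    (y : (modulesSpecToSheaf.obj F).presheaf.obj (op ⊤))
    (hy : ((modulesSpecToSheaf.obj F).1.map (homOfLE le_top).op).hom y =
      (0 : (modulesSpecToSheaf.obj F).presheaf.obj (op (PrimeSpectrum.basicOpen f)))) :
    ∃ t : ℕ, f ^ t • y = 0 := by
  have h1 := Scheme.Modules.toOpen_fromTildeΓ_app F (PrimeSpectrum.basicOpen f)
  have h2 : ((modulesSpecToSheaf.map F.fromTildeΓ).1.app (op (PrimeSpectrum.basicOpen f))).hom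
      ((tilde.toOpen ((modulesSpecToSheaf.obj F).presheaf.obj (op ⊤))
        (PrimeSpectrum.basicOpen f)).hom y) = 0 := by
    have := congrArg (fun φ => φ.hom y) h1
    exact this.trans hy
  haveI : IsIso F.fromTildeΓ := inferInstance
  haveI : IsIso (modulesSpecToSheaf.map F.fromTildeΓ) := Functor.map_isIso _ _
  haveI : IsIso ((modulesSpecToSheaf.map F.fromTildeΓ).1) :=
    (inferInstance : IsIso ((TopCat.Sheaf.forget _ _).map (modulesSpecToSheaf.map F.fromTildeΓ)))
  haveI : IsIso ((modulesSpecToSheaf.map F.fromTildeΓ).1.app (op (PrimeSpectrum.basicOpen f))) :=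
    inferInstance
  have hinj : Function.Injective
      ((modulesSpecToSheaf.map F.fromTildeΓ).1.app (op (PrimeSpectrum.basicOpen f))).hom :=
    ((ModuleCat.mono_iff_injective _).1 inferInstance)
  have h3 : (tilde.toOpen ((modulesSpecToSheaf.obj F).presheaf.obj (op ⊤))
      (PrimeSpectrum.basicOpen f)).hom y = 0 := by
    apply hinj
    rw [h2, map_zero]
  have h4 := (IsLocalizedModule.eq_zero_iff (Submonoid.powers f)
    (tilde.toOpen ((modulesSpecToSheaf.obj F).presheaf.obj (op ⊤))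
      (PrimeSpectrum.basicOpen f)).hom).1 h3
  obtain ⟨⟨c, t, rfl⟩, hc⟩ := h4
  exact ⟨t, hc⟩

theorem sheafMap_apply {F F' : (Spec (.of R)).Modules} (φ : F ⟶ F') (U : (Spec (.of R)).Opens)
    (x : (modulesSpecToSheaf.obj F).presheaf.obj (op U)) :
    ((modulesSpecToSheaf.map φ).1.app (op U)).hom x = φ.app U x := rfl

theorem adj_symm_eq {P : ModuleCat.{u} R} (F : (Spec (.of R)).Modules)
    (ℓ : P ⟶ moduleSpecΓFunctor.obj F) :
    (tilde.adjunction.homEquiv P F).symm ℓ = tilde.map ℓ ≫ F.fromTildeΓ := by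
  rw [Adjunction.homEquiv_counit]
  rfl

/-- the adjoint map on sections over `D(f)`, evaluated on the image of a global element -/
theorem adj_symm_toOpen {P : ModuleCat.{u} R} (F : (Spec (.of R)).Modules)
    (ℓ : P ⟶ moduleSpecΓFunctor.obj F) (U : (Spec (.of R)).Opens) (p : P) :
    ((tilde.adjunction.homEquiv P F).symm ℓ).app U ((tilde.toOpen P U).hom p) =
      ((modulesSpecToSheaf.obj F).1.map (homOfLE le_top).op).hom (ℓ.hom p) := by
  rw [adj_symm_eq]
  have h1 := tilde.toOpen_map_app ℓ U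
  have h2 := Scheme.Modules.toOpen_fromTildeΓ_app F U
  have h3 : (tilde.toOpen P U ≫ (modulesSpecToSheaf.map (tilde.map ℓ)).1.app (op U)) ≫
      (modulesSpecToSheaf.map F.fromTildeΓ).1.app (op U) =
      ℓ ≫ (modulesSpecToSheaf.obj F).1.map (homOfLE le_top).op := by
    rw [h1, Category.assoc]
    exact congrArg (fun ψ => ℓ ≫ ψ) h2
  have := congrArg (fun φ => φ.hom p) h3
  exact this

theorem sections_zero' {P' P : ModuleCat.{u} R} (tr : P' ⟶ P) (F : (Spec (.of R)).Modules)
    [F.IsQuasicoherent] (f : R) (ℓ : P' ⟶ moduleSpecΓFunctor.obj F)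
    (hker : ∀ p, ℓ.hom p = 0 → tr.hom p = 0)
    (x : (modulesSpecToSheaf.obj (tilde P')).presheaf.obj (op (PrimeSpectrum.basicOpen f)))
    (hx : ((modulesSpecToSheaf.map ((tilde.adjunction.homEquiv P' F).symm ℓ)).1.app
      (op (PrimeSpectrum.basicOpen f))).hom x = 0) :
    ((modulesSpecToSheaf.map (tilde.map tr)).1.app (op (PrimeSpectrum.basicOpen f))).hom x = 0 := by
  obtain ⟨⟨p, ⟨c, s, rfl⟩⟩, hp⟩ := IsLocalizedModule.surj (Submonoid.powers f)
    (tilde.toOpen P' (PrimeSpectrum.basicOpen f)).hom x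
  have hp' : f ^ s • x = (tilde.toOpen P' (PrimeSpectrum.basicOpen f)).hom p := hp
  -- the image of `ℓ p` vanishes on `D(f)`
  have h1 : ((modulesSpecToSheaf.obj F).1.map (homOfLE le_top).op).hom (ℓ.hom p) =
      (0 : (modulesSpecToSheaf.obj F).presheaf.obj (op (PrimeSpectrum.basicOpen f))) := by
    rw [← adj_symm_toOpen, ← hp', ← sheafMap_apply]
    have e : ((modulesSpecToSheaf.map ((tilde.adjunction.homEquiv P' F).symm ℓ)).1.app
        (op (PrimeSpectrum.basicOpen f))).hom (f ^ s • x) =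
        f ^ s • ((modulesSpecToSheaf.map ((tilde.adjunction.homEquiv P' F).symm ℓ)).1.app
        (op (PrimeSpectrum.basicOpen f))).hom x := LinearMap.map_smul _ _ _
    rw [e, hx, smul_zero]
  obtain ⟨t, ht⟩ := exists_pow_smul_eq_zero F f (ℓ.hom p) h1
  have h2 : tr.hom (f ^ t • p) = 0 := hker _ (by rw [map_smul]; exact ht)
  have h3 : (tilde.toOpen P (PrimeSpectrum.basicOpen f)).hom (tr.hom p) =
      ((modulesSpecToSheaf.map (tilde.map tr)).1.app (op (PrimeSpectrum.basicOpen f))).hom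
        ((tilde.toOpen P' (PrimeSpectrum.basicOpen f)).hom p) := by
    have := congrArg (fun φ => φ.hom p) (tilde.toOpen_map_app tr (PrimeSpectrum.basicOpen f))
    exact this.symm
  have h4 : f ^ (t + s) •
      ((modulesSpecToSheaf.map (tilde.map tr)).1.app (op (PrimeSpectrum.basicOpen f))).hom x = 0 := by
    rw [pow_add, mul_smul, ← map_smul, hp', ← h3, ← map_smul, ← map_smul, h2, map_zero]
  have hreg : IsSMulRegular Γ(tilde P, PrimeSpectrum.basicOpen f) (f ^ (t + s)) :=
    (Scheme.Modules.isSMulRegular_of_le_basicOpen (M := tilde P) (f := f) le_rfl).pow _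
  exact hreg (h4.trans (smul_zero _).symm)

theorem sections_zero {P' P : ModuleCat.{u} R} (tr : P' ⟶ P) (F : (Spec (.of R)).Modules)
    [F.IsQuasicoherent] (f : R) (ℓ : P' ⟶ moduleSpecΓFunctor.obj F)
    (hker : ∀ p, ℓ.hom p = 0 → tr.hom p = 0)
    (x : Γ(tilde P', PrimeSpectrum.basicOpen f))
    (hx : ((tilde.adjunction.homEquiv P' F).symm ℓ).app (PrimeSpectrum.basicOpen f) x = 0) :
    (tilde.map tr).app (PrimeSpectrum.basicOpen f) x = 0 :=
  sections_zero' tr F f ℓ hker x hx

end Loc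


section CohPart

open Groth.Agent.Helper1

variable {X : Scheme.{u}}

theorem isCoh_of_epi {F Q : X.Modules} (e : F ⟶ Q) [Epi e] (hF : Coh.IsCoh F)
    [hQ : Q.IsQuasicoherent] : Coh.IsCoh Q := by
  haveI : F.IsQuasicoherent := hF.1
  haveI : (kernel e).IsQuasicoherent := QcAbel.isQuasicoherent_kernel e
  let S : ShortComplex X.Modules := ShortComplex.mk (kernel.ι e) e (kernel.condition e)
  have hS : S.ShortExact :=
    { exact := ShortComplex.exact_of_f_is_kernel _ (kernelIsKernel e)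
      mono_f := inferInstanceAs (Mono (kernel.ι e))
      epi_g := inferInstanceAs (Epi e) }
  haveI : S.X₁.IsQuasicoherent := inferInstanceAs (kernel e).IsQuasicoherent
  haveI : S.X₂.IsQuasicoherent := inferInstanceAs F.IsQuasicoherent
  haveI : S.X₃.IsQuasicoherent := inferInstanceAs Q.IsQuasicoherent
  exact ⟨hQ, FtLocal.isFiniteType_right hS hF.2⟩

theorem isCoh_of_iso {F F' : X.Modules} (e : F ≅ F') (hF : Coh.IsCoh F) : Coh.IsCoh F' := by
  haveI : F.IsQuasicoherent := hF.1
  haveI : F'.IsQuasicoherent := QcAbel.isQuasicoherent_of_iso e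
  exact isCoh_of_epi e.hom hF

end CohPart

section Main

open Groth.Agent.Helper1 Groth.Agent.Lib.Helper4.SectLimEpi Groth.Agent.Lib.Helper4.CanonExtLim
  Groth.Agent.Lib.Helper5.QC

variable (A : Type u) [CommRing A]

theorem exists_sub_quot {A : Type u} [CommRing A] (I : Ideal A) (Xs : ℕᵒᵖ ⥤ ModuleCat.{u} A)
    (n n' : ℕ) (hn' : LinearMap.ker (limit.π Xs (op n')).hom ≤
      I ^ (n + 1) • (⊤ : Submodule A ↑(limit Xs : ModuleCat.{u} A))) :
    ∃ (Rg : ModuleCat.{u} A) (ι : Rg ⟶ Xs.obj (op n'))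
      (q : Rg ⟶ ModuleCat.of A (Formal2.quotPow A I ↑(limit Xs : ModuleCat.{u} A) n)),
      Mono ι ∧ Epi q := by
  refine ⟨ModuleCat.of A (LinearMap.range (limit.π Xs (op n')).hom),
    ModuleCat.ofHom (LinearMap.range (limit.π Xs (op n')).hom).subtype,
    ModuleCat.ofHom ((Submodule.factor hn') ∘ₗ
      (LinearMap.quotKerEquivRange (limit.π Xs (op n')).hom).symm.toLinearMap), ?_, ?_⟩
  · rw [ModuleCat.mono_iff_injective]
    exact Submodule.injective_subtype _
  · rw [ModuleCat.epi_iff_surjective]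
    intro y
    obtain ⟨z, rfl⟩ := Submodule.mkQ_surjective _ y
    refine ⟨⟨(limit.π Xs (op n')).hom z, ⟨z, rfl⟩⟩, ?_⟩
    change Submodule.factor hn'
      ((LinearMap.quotKerEquivRange (limit.π Xs (op n')).hom).symm _) = _
    rw [LinearMap.quotKerEquivRange_symm_apply_image]
    rfl

theorem isCoh_restrict_tilde_quot [IsNoetherianRing A] (I : Ideal A)
    (U : (Spec (CommRingCat.of A)).Opens) [QuasiCompact U.ι]
    (G : ℕᵒᵖ ⥤ (↑U : Scheme.{u}).Modules) (hG : Formal.IsCohFormal I G)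
    (hb : ∀ k : ℕ, ∃ n : ℕ, LinearMap.ker (limit.π (Algz.sectMod A U G) (op n)).hom ≤
      I ^ k • (⊤ : Submodule A ↑(limit (Algz.sectMod A U G)))) (n : ℕ) :
    Coh.IsCoh ((Scheme.Modules.restrictFunctor U.ι).obj
      (Formal2.tmod A (Formal2.quotPow A I ↑(limit (Algz.sectMod A U G)) n))) := by
  haveI : IsNoetherianRing (CommRingCat.of A) := ‹IsNoetherianRing A›
  haveI : IsLocallyNoetherian (Spec (CommRingCat.of A)) := inferInstance
  haveI : IsLocallyNoetherian (U : Scheme.{u}) := inferInstance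
  have hqc : ∀ k : ℕᵒᵖ, (G.obj k).IsQuasicoherent := fun k => (hG.1 k.unop).1
  obtain ⟨n', hn'⟩ := hb (n + 1)
  let Xs := Algz.sectMod A U G
  let π' : limit Xs ⟶ Xs.obj (op n') := limit.π Xs (op n')
  -- generalities
  let R : ModuleCat.{u} A ⥤ (↑U : Scheme.{u}).Modules :=
    tilde.functor (CommRingCat.of A) ⋙ Scheme.Modules.restrictFunctor U.ι
  haveI : (tilde.functor (CommRingCat.of A)).PreservesEpimorphisms :=
    Functor.preservesEpimorphisms_of_adjunction (tilde.adjunction (R := CommRingCat.of A))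
  haveI : (Scheme.Modules.restrictFunctor U.ι).PreservesEpimorphisms :=
    Functor.preservesEpimorphisms_of_adjunction (Scheme.Modules.restrictAdjunction U.ι)
  haveI : (tilde.functor (CommRingCat.of A)).PreservesMonomorphisms :=
    ⟨fun f _ => mono_tilde_map (R := CommRingCat.of A) f⟩
  haveI : (Scheme.Modules.restrictFunctor U.ι).PreservesMonomorphisms := inferInstance
  haveI : R.PreservesEpimorphisms := by
    change (tilde.functor (CommRingCat.of A) ⋙
      Scheme.Modules.restrictFunctor U.ι).PreservesEpimorphisms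
    infer_instance
  haveI : R.PreservesMonomorphisms := by
    change (tilde.functor (CommRingCat.of A) ⋙
      Scheme.Modules.restrictFunctor U.ι).PreservesMonomorphisms
    infer_instance
  have hRq : ∀ P : ModuleCat.{u} A, (R.obj P).IsQuasicoherent := by
    intro P
    haveI : (tilde (R := CommRingCat.of A) P).IsQuasicoherent := inferInstance
    exact Scheme.Modules.isQuasicoherent_restrictFunctor U.ι (tilde (R := CommRingCat.of A) P)
  -- R X_{n'} is coherent
  have h1 : Coh.IsCoh (R.obj (Xs.obj (op n'))) := by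
    have e := (CanonExt.sectSysRestrictIso A U G hqc).app (op n')
    exact isCoh_of_iso e.symm (hG.1 n')
  obtain ⟨Rg, ι, q, hι, hq⟩ := exists_sub_quot I Xs n n' hn'
  haveI : Mono (R.map ι) := inferInstance
  have hepi : Epi (R.map q) := inferInstance
  have h2 : Coh.IsCoh (R.obj Rg) := FtLocal.isCoh_of_mono (R.map ι) h1 (hRq Rg)
  have hq' := hRq (ModuleCat.of A (Formal2.quotPow A I ↑(limit Xs : ModuleCat.{u} A) n))
  exact @isCoh_of_epi _ _ _ (R.map q) hepi h2 hq'

theorem sections_family_zero (I : Ideal A)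
    (U : (Spec (CommRingCat.of A)).Opens) [QuasiCompact U.ι] [QuasiSeparated U.ι]
    (G : ℕᵒᵖ ⥤ (↑U : Scheme.{u}).Modules) (hqc : ∀ k : ℕᵒᵖ, (G.obj k).IsQuasicoherent)
    (hb : ∀ k : ℕ, ∃ n : ℕ, LinearMap.ker (limit.π (Algz.sectMod A U G) (op n)).hom ≤
      I ^ k • (⊤ : Submodule A ↑(limit (Algz.sectMod A U G))))
    (ℓ : ∀ n : ℕ, ModuleCat.of A (Formal2.quotPow A I ↑(limit (Algz.sectMod A U G)) n) ⟶
      (Algz.sectMod A U G).obj (op n))
    (hℓ : ∀ n : ℕ, ModuleCat.ofHom (Formal2.quotPowπ A I ↑(limit (Algz.sectMod A U G)) n) ≫ ℓ n =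
      limit.π (Algz.sectMod A U G) (op n))
    (f : A)
    (x : ∀ n : ℕ, (Scheme.Modules.presheaf (Formal2.tmod A
      (Formal2.quotPow A I ↑(limit (Algz.sectMod A U G)) n))).obj
        (op (PrimeSpectrum.basicOpen f : (Spec (CommRingCat.of A)).Opens)))
    (hcompat : ∀ n : ℕ, Scheme.Modules.Hom.app (Formal2.tmodMap A
      (Formal2.quotPowTrans A I ↑(limit (Algz.sectMod A U G)) n))
        (PrimeSpectrum.basicOpen f : (Spec (CommRingCat.of A)).Opens) (x (n + 1)) = x n)
    (hzero : ∀ n : ℕ, Scheme.Modules.Hom.app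
      (((tilde.adjunction (R := CommRingCat.of A)).homEquiv
        (ModuleCat.of A (Formal2.quotPow A I ↑(limit (Algz.sectMod A U G)) n))
        ((Scheme.Modules.pushforward U.ι).obj (G.obj (op n)))).symm (ℓ n))
      (PrimeSpectrum.basicOpen f : (Spec (CommRingCat.of A)).Opens) (x n) = 0)
    (n : ℕ) : x n = 0 := by
  obtain ⟨n0, hn0⟩ := hb (n + 1)
  have hn' : LinearMap.ker (limit.π (Algz.sectMod A U G) (op (max n0 n))).hom ≤
      I ^ (n + 1) • (⊤ : Submodule A ↑(limit (Algz.sectMod A U G))) :=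
    (ker_π_anti (Algz.sectMod A U G) (le_max_left n0 n)).trans hn0
  let Pf := Pfun A I ↑(limit (Algz.sectMod A U G) : ModuleCat.{u} A)
  -- step 1
  have step1 : ∀ (k : ℕ) (h : n ≤ k),
      (tilde.map (R := CommRingCat.of A) (Pf.map (homOfLE h).op)).app
        (PrimeSpectrum.basicOpen f) (x k) = x n := by
    intro k h
    induction k, h using Nat.le_induction with
    | base =>
      have : Pf.map (homOfLE (le_refl n)).op = 𝟙 _ := Pf.map_id _
      rw [this, tilde.map_id]
      rfl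
    | succ k hk ih =>
      have e1 : Pf.map (homOfLE (hk.trans (Nat.le_succ k))).op =
          Pf.map (homOfLE (Nat.le_succ k)).op ≫ Pf.map (homOfLE hk).op := by
        rw [← Functor.map_comp]
        rfl
      rw [e1, tilde.map_comp, Pfun_map_succ]
      change (tilde.map (R := CommRingCat.of A) (Pf.map (homOfLE hk).op)).app
        (PrimeSpectrum.basicOpen f)
        (Scheme.Modules.Hom.app (Formal2.tmodMap A
          (Formal2.quotPowTrans A I ↑(limit (Algz.sectMod A U G)) k))
          (PrimeSpectrum.basicOpen f : (Spec (CommRingCat.of A)).Opens) (x (k + 1))) = x n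
      rw [hcompat k, ih]
  rw [← step1 (max n0 n) (le_max_right n0 n)]
  haveI := hqc (op (max n0 n))
  haveI : ((Scheme.Modules.pushforward U.ι).obj (G.obj (op (max n0 n)))).IsQuasicoherent :=
    PushQc.isQuasicoherent_pushforward U.ι (G.obj (op (max n0 n)))
  refine sections_zero (R := CommRingCat.of A) (Pf.map (homOfLE (le_max_right n0 n)).op)
    ((Scheme.Modules.pushforward U.ι).obj (G.obj (op (max n0 n)))) f (ℓ (max n0 n)) ?_
    (x (max n0 n)) (hzero (max n0 n))
  intro p hp
  obtain ⟨z, rfl⟩ := Submodule.mkQ_surjective _ p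
  have h1 : (limit.π (Algz.sectMod A U G) (op (max n0 n))).hom z = 0 := by
    rw [← hℓ (max n0 n)]
    exact hp
  have h2 : z ∈ I ^ (n + 1) • (⊤ : Submodule A ↑(limit (Algz.sectMod A U G))) := hn' h1
  change (Pf.map (homOfLE (le_max_right n0 n)).op).hom (Formal2.quotPowπ A I _ (max n0 n) z) = 0
  rw [Pfun_map_mk]
  exact (Submodule.Quotient.mk_eq_zero _).2 h2

theorem main (A : Type u) [CommRing A] [IsNoetherianRing A] (I 𝔞 : Ideal A) (hI𝔞 : I ≤ 𝔞)
    (G : ℕᵒᵖ ⥤ (↑(LocCoh.puncturedOpen A 𝔞) : Scheme.{u}).Modules) (hG : Formal.IsCohFormal I G)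
    (hb : ∀ k : ℕ, ∃ n : ℕ, LinearMap.ker (limit.π (Algz.sectMod A (LocCoh.puncturedOpen A 𝔞) G) (op n)).hom ≤
      I ^ k • (⊤ : Submodule A ↑(limit (Algz.sectMod A (LocCoh.puncturedOpen A 𝔞) G))))
    (ℓ : ∀ n : ℕ, ModuleCat.of A (Formal2.quotPow A I ↑(limit (Algz.sectMod A (LocCoh.puncturedOpen A 𝔞) G)) n) ⟶ (Algz.sectMod A (LocCoh.puncturedOpen A 𝔞) G).obj (op n))
    (hℓ : ∀ n : ℕ, ModuleCat.ofHom (Formal2.quotPowπ A I ↑(limit (Algz.sectMod A (LocCoh.puncturedOpen A 𝔞) G)) n) ≫ ℓ n = limit.π (Algz.sectMod A (LocCoh.puncturedOpen A 𝔞) G) (op n)) :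
    (∀ n : ℕ, Coh.IsCoh ((Scheme.Modules.restrictFunctor (LocCoh.puncturedOpen A 𝔞).ι).obj (Formal2.tmod A (Formal2.quotPow A I ↑(limit (Algz.sectMod A (LocCoh.puncturedOpen A 𝔞) G)) n)))) ∧
    ∀ (f : A), f ∈ 𝔞 →
      ∀ x : (∀ n : ℕ, (Scheme.Modules.presheaf (Formal2.tmod A (Formal2.quotPow A I ↑(limit (Algz.sectMod A (LocCoh.puncturedOpen A 𝔞) G)) n))).obj (op (PrimeSpectrum.basicOpen f : (Spec (CommRingCat.of A)).Opens))),
        (∀ n : ℕ, Scheme.Modules.Hom.app (Formal2.tmodMap A (Formal2.quotPowTrans A I ↑(limit (Algz.sectMod A (LocCoh.puncturedOpen A 𝔞) G)) n)) (PrimeSpectrum.basicOpen f : (Spec (CommRingCat.of A)).Opens) (x (n + 1)) = x n) →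
        (∀ n : ℕ, Scheme.Modules.Hom.app
            (((tilde.adjunction (R := CommRingCat.of A)).homEquiv (ModuleCat.of A (Formal2.quotPow A I ↑(limit (Algz.sectMod A (LocCoh.puncturedOpen A 𝔞) G)) n))
              ((Scheme.Modules.pushforward (LocCoh.puncturedOpen A 𝔞).ι).obj (G.obj (op n)))).symm (ℓ n))
            (PrimeSpectrum.basicOpen f : (Spec (CommRingCat.of A)).Opens) (x n) = 0) →
        ∀ n : ℕ, x n = 0 := by
  have hqc : ∀ k : ℕᵒᵖ, (G.obj k).IsQuasicoherent := fun k => (hG.1 k.unop).1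
  exact ⟨fun n => isCoh_restrict_tilde_quot A I (LocCoh.puncturedOpen A 𝔞) G hG hb n,
    fun f _ x hcompat hzero n =>
      sections_family_zero A I (LocCoh.puncturedOpen A 𝔞) G hqc hb ℓ hℓ f x hcompat hzero n⟩

end Main

end Groth.Agent.Lib.Helper4.LimTopInj
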