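import Mathlib
import Groth.Prelude.Def_Formal
import Groth.Prelude.Def_Formal2
import Groth.Prelude.Def_Algz
import Groth.Agent.Lib.Helper4.LimTopInj
import Groth.Agent.Lib.Helper4.ClTr1
import Groth.Agent.Lib.Helper4.FFSheaf1
import Groth.Agent.Lib.Helper4.CohFormalPB
import Groth.Agent.Lib.Helper4.CohFormalTors
import Groth.Agent.Lib.Helper4.CanonExt
import Groth.Agent.S2269
import Groth.Agent.Lib.Helper1.TildeFT

/-!
# completion of coherent modules: coherent formal, restriction, extension (S9536) (helper4)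
-/

set_option backward.isDefEq.respectTransparency.types false
set_option synthInstance.maxHeartbeats 400000
set_option autoImplicit false
set_option linter.unusedSectionVars false
set_option linter.style.haveILetI false
set_option linter.unusedSimpArgs false
universe u v w
open CategoryTheory CategoryTheory.Limits AlgebraicGeometry TopologicalSpace Topology

namespace Groth.Agent.Lib.Helper4.ComplExt

open Opposite Groth.Agent.Lib.Helper4 Groth.Agent.Lib.Helper4.IPow1 Groth.Agent.Lib.Helper4.CohFormalPB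

section Compl

variable {A : Type u} [CommRing A] {X : Scheme.{u}} [X.Over (Spec (CommRingCat.of A))]
  (I : Ideal A)

theorem completion_map_succ (F : X.Modules) (n : ℕ) :
    (Formal.completion I F).map (homOfLE (Nat.le_succ n)).op = Formal.modPowTrans I (n + 1) F :=
  Functor.ofOpSequence_map_homOfLE_succ _ n

theorem smulFamily_ι (J : Ideal A) (P : X.Modules) (a : J) :
    Sigma.ι (fun _ : ↥J => P) a ≫ Formal.smulFamily J P = Formal.smulMod A P a := by
  unfold Formal.smulFamily
  rw [Sigma.ι_desc]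

/-- the transition map `F/I^(n+1)F → F/I^nF` is the cokernel of `I^n` acting on the source -/
theorem modPowTrans_cokernel (F : X.Modules) (n : ℕ) :
    ∃ h : Formal.smulFamily (I ^ n) (Formal.modPow I (n + 1) F) ≫ Formal.modPowTrans I n F = 0,
      IsIso (cokernel.desc _ _ h) := by
  have hkill : ∀ a ∈ I ^ n, Formal.smulMod A (Formal.modPow I n F) a = 0 :=
    fun a ha => FFSheaf1.smulMod_modPow_zero I F ha
  have h : Formal.smulFamily (I ^ n) (Formal.modPow I (n + 1) F) ≫ Formal.modPowTrans I n F = 0 := by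
    apply Sigma.hom_ext
    intro a
    rw [← Category.assoc, smulFamily_ι, comp_zero, smulMod_nat, hkill a a.2, comp_zero]
  refine ⟨h, isIso_desc_of_isColimit _ _ h ?_⟩
  haveI : Epi (Formal.modPowπ I (n + 1) F) := inferInstanceAs (Epi (cokernel.π _))
  haveI : Epi (Formal.modPowπ I n F) := inferInstanceAs (Epi (cokernel.π _))
  haveI : Epi (Formal.modPowTrans I n F) := by
    have : Epi (Formal.modPowπ I (n + 1) F ≫ Formal.modPowTrans I n F) := by
      rw [Formal.modPowπ_trans]
      infer_instance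
    exact epi_of_epi (Formal.modPowπ I (n + 1) F) _
  have hfac : ∀ {Z : X.Modules} (ψ : Formal.modPow I (n + 1) F ⟶ Z),
      Formal.smulFamily (I ^ n) (Formal.modPow I (n + 1) F) ≫ ψ = 0 →
      ∃ χ : Formal.modPow I n F ⟶ Z, Formal.modPowTrans I n F ≫ χ = ψ := by
    intro Z ψ hψ
    have h1 : Formal.smulFamily (I ^ n) F ≫ Formal.modPowπ I (n + 1) F ≫ ψ = 0 := by
      apply Sigma.hom_ext
      intro a
      rw [← Category.assoc, smulFamily_ι, comp_zero, ← Category.assoc, smulMod_nat,
        Category.assoc, ← smulFamily_ι (I ^ n) (Formal.modPow I (n + 1) F) a, Category.assoc, hψ,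
        comp_zero, comp_zero]
    refine ⟨cokernel.desc _ _ h1, ?_⟩
    rw [← cancel_epi (Formal.modPowπ I (n + 1) F), ← Category.assoc, Formal.modPowπ_trans]
    exact cokernel.π_desc _ _ h1
  exact CokernelCofork.IsColimit.ofπ _ _
    (fun ψ hψ => (hfac ψ hψ).choose)
    (fun ψ hψ => (hfac ψ hψ).choose_spec)
    (fun ψ hψ χ hχ => by
      have hχ' : Formal.modPowTrans I n F ≫ χ = ψ := hχ
      rw [← cancel_epi (Formal.modPowTrans I n F), hχ']
      exact (hfac ψ hψ).choose_spec.symm)

/-- the completion of a coherent module is a coherent formal module -/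
theorem isCohFormal_completion (F : X.Modules) (hF : Coh.IsCoh F) :
    Formal.IsCohFormal I (Formal.completion I F) := by
  haveI : F.IsQuasicoherent := hF.1
  refine ⟨fun n => ?_, fun n a ha => ?_, fun n => ?_⟩
  · change Coh.IsCoh (Formal.modPow I (n + 1) F)
    haveI : Epi (Formal.modPowπ I (n + 1) F) := inferInstanceAs (Epi (cokernel.π _))
    haveI : (Formal.modPow I (n + 1) F).IsQuasicoherent := ClTr1.isQuasicoherent_modPow I F (n + 1)
    exact LimTopInj.isCoh_of_epi (Formal.modPowπ I (n + 1) F) hF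
  · change Formal.smulMod A (Formal.modPow I (n + 1) F) a = 0
    exact FFSheaf1.smulMod_modPow_zero I F ha
  · change ∃ h : Formal.smulFamily (I ^ (n + 1)) (Formal.modPow I (n + 1 + 1) F) ≫
        (Formal.completion I F).map (homOfLE (Nat.le_succ n)).op = 0, IsIso (cokernel.desc _ _ h)
    rw [completion_map_succ]
    exact modPowTrans_cokernel I F (n + 1)

/-- a system of compatible cokernels of the powers of `I` acting on `F` is the completion of `F` -/
theorem completion_iso_of_cokernels (F : X.Modules) (H : ℕᵒᵖ ⥤ X.Modules)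
    (p : ∀ n : ℕ, F ⟶ H.obj (op n))
    (hp : ∀ n : ℕ, p (n + 1) ≫ H.map (homOfLE (Nat.le_succ n)).op = p n)
    (hc : ∀ n : ℕ, ∃ w : Formal.smulFamily (I ^ (n + 1)) F ≫ p n = 0,
      IsIso (cokernel.desc _ (p n) w)) :
    Nonempty (Formal.completion I F ≅ H) := by
  choose w hw using hc
  let app : ∀ n : ℕ, (Formal.completion I F).obj (op n) ⟶ H.obj (op n) :=
    fun n => cokernel.desc _ (p n) (w n)
  have happ : ∀ n, Formal.modPowπ I (n + 1) F ≫ app n = p n := fun n => cokernel.π_desc _ _ _
  let τ : Formal.completion I F ⟶ H := NatTrans.ofOpSequence app (by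
    intro n
    have hepi : Epi (Formal.modPowπ I (n + 1 + 1) F) := inferInstanceAs (Epi (cokernel.π _))
    have e1 : (Formal.completion I F).map (homOfLE (Nat.le_add_right n 1)).op =
        Formal.modPowTrans I (n + 1) F := completion_map_succ I F n
    rw [e1]
    let a0 : Formal.modPow I (n + 1) F ⟶ H.obj (op n) := app n
    let a1 : Formal.modPow I (n + 1 + 1) F ⟶ H.obj (op (n + 1)) := app (n + 1)
    have ha0 : Formal.modPowπ I (n + 1) F ≫ a0 = p n := happ n
    have ha1 : Formal.modPowπ I (n + 1 + 1) F ≫ a1 = p (n + 1) := happ (n + 1)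
    have key : Formal.modPowπ I (n + 1 + 1) F ≫ (Formal.modPowTrans I (n + 1) F ≫ a0) =
        Formal.modPowπ I (n + 1 + 1) F ≫ (a1 ≫ H.map (homOfLE (Nat.le_succ n)).op) := by
      rw [← Category.assoc, Formal.modPowπ_trans, ha0, ← Category.assoc, ha1]
      exact (hp n).symm
    exact (@cancel_epi _ _ _ _ _ (Formal.modPowπ I (n + 1 + 1) F) hepi _ _).1 key)
  haveI : ∀ j : ℕᵒᵖ, IsIso (τ.app j) := by
    intro j
    obtain ⟨n⟩ := j
    exact hw n
  haveI : IsIso τ := NatIso.isIso_of_isIso_app τ
  exact ⟨asIso τ⟩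

end Compl

section Main

open Groth.Agent.Helper1 Groth.Agent.Lib.Helper4.CohFormalTors Groth.Agent.Lib.Helper4.CanonExt

variable (A : Type u) [CommRing A]

/-- restriction to an open commutes with completion, up to isomorphism -/
theorem restrict_completion_iso {X : Scheme.{u}} [X.Over (Spec (CommRingCat.of A))] (I : Ideal A)
    (U : X.Opens) (F' : X.Modules) (F : (↑U : Scheme.{u}).Modules)
    (ε : F ≅ (Scheme.Modules.restrictFunctor U.ι).obj F') :
    Nonempty (Formal.completion I F ≅ Algz.restrictSys U (Formal.completion I F')) := by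
  have hf : U.ι ≫ (X ↘ Spec (CommRingCat.of A)) = (↑U : Scheme.{u}) ↘ Spec (CommRingCat.of A) := rfl
  let ρ := Scheme.Modules.restrictFunctorIsoPullback U.ι
  refine completion_iso_of_cokernels I F (Algz.restrictSys U (Formal.completion I F'))
    (fun n => ε.hom ≫ (Scheme.Modules.restrictFunctor U.ι).map (Formal.modPowπ I (n + 1) F'))
    ?_ ?_
  · intro n
    change (ε.hom ≫ (Scheme.Modules.restrictFunctor U.ι).map (Formal.modPowπ I (n + 1 + 1) F')) ≫
      (Scheme.Modules.restrictFunctor U.ι).map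
        ((Formal.completion I F').map (homOfLE (Nat.le_succ n)).op) = _
    rw [completion_map_succ, Category.assoc, ← Functor.map_comp]
    have := congrArg (fun φ => ε.hom ≫ (Scheme.Modules.restrictFunctor U.ι).map φ)
      (Formal.modPowπ_trans I (n + 1) F')
    exact this
  · intro n
    let q0 := Formal.modPowπ I (n + 1) F'
    have w0 : Formal.smulFamily (I ^ (n + 1)) F' ≫ q0 = 0 := cokernel.condition _
    have hi0 : IsIso (cokernel.desc _ q0 w0) :=
      isIso_desc_of_isColimit _ _ w0 (cokernelIsCokernel _)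
    obtain ⟨h', hi'⟩ := cokernel_pullback U.ι hf (I ^ (n + 1)) q0 w0 hi0
    have hcP := isColimitOfIsIsoDesc _ _ h' hi'
    let j : F ≅ (Scheme.Modules.pullback U.ι).obj F' := ε ≪≫ ρ.app F'
    have w1 : Formal.smulFamily (I ^ (n + 1)) F ≫ j.hom ≫ (Scheme.Modules.pullback U.ι).map q0 = 0 := by
      apply Sigma.hom_ext
      intro a
      rw [← Category.assoc, smulFamily_ι, comp_zero, ← Category.assoc, smulMod_nat, Category.assoc,
        ← smulFamily_ι (I ^ (n + 1)) ((Scheme.Modules.pullback U.ι).obj F') a, Category.assoc, h',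
        comp_zero, comp_zero]
    have hc1 := isColimitOfIso (I ^ (n + 1)) j _ h' hcP w1
    have w2 : Formal.smulFamily (I ^ (n + 1)) F ≫
        (j.hom ≫ (Scheme.Modules.pullback U.ι).map q0) ≫ (ρ.symm.app _).hom = 0 := by
      rw [← Category.assoc, w1, zero_comp]
    have hc2 := isColimitCompIso _ _ w1 hc1 (ρ.symm.app (Formal.modPow I (n + 1) F')) w2
    have hpn : (j.hom ≫ (Scheme.Modules.pullback U.ι).map q0) ≫
        (ρ.symm.app (Formal.modPow I (n + 1) F')).hom =
        ε.hom ≫ (Scheme.Modules.restrictFunctor U.ι).map (Formal.modPowπ I (n + 1) F') := by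
      change ((ε.hom ≫ ρ.hom.app F') ≫ (Scheme.Modules.pullback U.ι).map q0) ≫ ρ.inv.app _ = _
      have hn := ρ.hom.naturality q0
      calc ((ε.hom ≫ ρ.hom.app F') ≫ (Scheme.Modules.pullback U.ι).map q0) ≫ ρ.inv.app _
          = ε.hom ≫ (ρ.hom.app F' ≫ (Scheme.Modules.pullback U.ι).map q0) ≫ ρ.inv.app _ := by
            simp only [Category.assoc]
        _ = ε.hom ≫ ((Scheme.Modules.restrictFunctor U.ι).map q0 ≫ ρ.hom.app _) ≫ ρ.inv.app _ := by
            rw [hn]
        _ = ε.hom ≫ (Scheme.Modules.restrictFunctor U.ι).map q0 := by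
            rw [Category.assoc, Iso.hom_inv_id_app, Category.comp_id]
    have w3 : Formal.smulFamily (I ^ (n + 1)) F ≫
        ε.hom ≫ (Scheme.Modules.restrictFunctor U.ι).map (Formal.modPowπ I (n + 1) F') = 0 := by
      rw [← hpn]; exact w2
    refine ⟨w3, isIso_desc_of_isColimit _ _ w3 ?_⟩
    have : CokernelCofork.ofπ (ε.hom ≫ (Scheme.Modules.restrictFunctor U.ι).map
        (Formal.modPowπ I (n + 1) F')) w3 = CokernelCofork.ofπ _ w2 := by
      congr 1
      exact hpn.symm
    rw [this]
    exact hc2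

theorem main_gen [IsNoetherianRing A] (I : Ideal A) (U : (Spec (CommRingCat.of A)).Opens)
    (G : ℕᵒᵖ ⥤ (↑U : Scheme.{u}).Modules) (F : (↑U : Scheme.{u}).Modules) (hF : Coh.IsCoh F)
    (e : Formal.completion I F ≅ G) :
    @Algz.Extends A _ (Spec (CommRingCat.of A)) ⟨𝟙 (Spec (CommRingCat.of A))⟩ I U G := by
  obtain ⟨M, _, _, hfin, ⟨ε⟩⟩ := (Groth.Agent.S2269.result A U F).1 hF
  let _ : (Spec (CommRingCat.of A)).Over (Spec (CommRingCat.of A)) := ⟨𝟙 _⟩
  let F' : (Spec (CommRingCat.of A)).Modules := tilde (R := CommRingCat.of A) (ModuleCat.of A M)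
  have hF' : Coh.IsCoh F' :=
    ⟨inferInstanceAs (tilde (R := CommRingCat.of A) (ModuleCat.of A M)).IsQuasicoherent,
      TildeFT.tilde_isFiniteType _ _ hfin⟩
  refine ⟨Formal.completion I F', isCohFormal_completion I F' hF', ?_⟩
  obtain ⟨κ⟩ := restrict_completion_iso A I U F' F ε
  exact ⟨κ.symm ≪≫ e⟩

theorem main [IsNoetherianRing A] (I 𝔞 : Ideal A) (hI𝔞 : I ≤ 𝔞)
    (G : ℕᵒᵖ ⥤ (↑(LocCoh.puncturedOpen A 𝔞) : Scheme.{u}).Modules) (hG : Formal.IsCohFormal I G)
    (F : (↑(LocCoh.puncturedOpen A 𝔞) : Scheme.{u}).Modules) (hF : Coh.IsCoh F)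
    (e : Formal.completion I F ≅ G) :
    @Algz.Extends A _ (Spec (CommRingCat.of A)) ⟨𝟙 (Spec (CommRingCat.of A))⟩ I
      (LocCoh.puncturedOpen A 𝔞) G :=
  main_gen A I (LocCoh.puncturedOpen A 𝔞) G F hF e

end Main

end Groth.Agent.Lib.Helper4.ComplExt
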