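import Mathlib

/-!
# Artin-Rees for Hom modules: membership and lifting with uniform shift (helper4)
-/

set_option backward.isDefEq.respectTransparency.types false
set_option synthInstance.maxHeartbeats 400000
set_option autoImplicit false
set_option linter.unusedSectionVars false
set_option linter.style.haveILetI false
set_option linter.unusedSimpArgs false
universe u v w
open CategoryTheory CategoryTheory.Limits Opposite

namespace Groth.Agent.Lib.Helper4.HomAR

variable {B : Type u} [CommRing B] [IsNoetherianRing B]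
  {P Q : Type u} [AddCommGroup P] [Module B P] [Module.Finite B P]
  [AddCommGroup Q] [Module B Q] [Module.Finite B Q]

omit [IsNoetherianRing B] [Module.Finite B Q] in
theorem pi_mem_smul_top {ι : Type} [Fintype ι] [DecidableEq ι] (J' : Ideal B) (v : ι → Q)
    (hv : ∀ i, v i ∈ J' • (⊤ : Submodule B Q)) : v ∈ J' • (⊤ : Submodule B (ι → Q)) := by
  have e : v = ∑ i, LinearMap.single B (fun _ : ι => Q) i (v i) := by
    funext j
    simp [Finset.sum_apply, Pi.single_apply]
  rw [e]
  refine Submodule.sum_mem _ fun i _ => ?_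
  have h1 : LinearMap.single B (fun _ : ι => Q) i (v i) ∈
      Submodule.map (LinearMap.single B (fun _ : ι => Q) i) (J' • ⊤) :=
    Submodule.mem_map_of_mem (hv i)
  rw [Submodule.map_smul''] at h1
  exact Submodule.smul_mono le_rfl le_top h1

omit [IsNoetherianRing B] [Module.Finite B Q] in
theorem apply_mem_smul_top {ι : Type} (J' : Ideal B) (v : ι → Q)
    (hv : v ∈ J' • (⊤ : Submodule B (ι → Q))) (i : ι) : v i ∈ J' • (⊤ : Submodule B Q) := by
  have h1 : LinearMap.proj (R := B) (φ := fun _ : ι => Q) i v ∈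
      Submodule.map (LinearMap.proj (R := B) (φ := fun _ : ι => Q) i) (J' • ⊤) :=
    Submodule.mem_map_of_mem hv
  rw [Submodule.map_smul''] at h1
  exact Submodule.smul_mono le_rfl le_top h1

/-- Artin–Rees for `Hom`: a linear map with values in `J^(n+c) Q` lies in `J^n Hom(P, Q)` -/
theorem exists_shift_hom_mem (J : Ideal B) : ∃ c : ℕ, ∀ (n : ℕ) (h : P →ₗ[B] Q),
    (∀ p, h p ∈ J ^ (n + c) • (⊤ : Submodule B Q)) →
      h ∈ J ^ n • (⊤ : Submodule B (P →ₗ[B] Q)) := by
  obtain ⟨s, e, he⟩ := Module.Finite.exists_fin (R := B) (M := P)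
  let ev : (P →ₗ[B] Q) →ₗ[B] (Fin s → Q) := LinearMap.pi (fun i => LinearMap.applyₗ (e i))
  have hev : Function.Injective ev := by
    intro h h' hh
    apply LinearMap.ext_on_range he
    intro i
    exact congrFun hh i
  obtain ⟨k, hk⟩ := Ideal.exists_pow_inf_eq_pow_smul J (LinearMap.range ev)
  refine ⟨k, fun n h hh => ?_⟩
  have h1 : ev h ∈ J ^ (n + k) • (⊤ : Submodule B (Fin s → Q)) :=
    pi_mem_smul_top _ _ (fun i => hh (e i))
  have h2 : ev h ∈ J ^ (n + k) • ⊤ ⊓ LinearMap.range ev := ⟨h1, LinearMap.mem_range_self _ _⟩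
  rw [hk (n + k) (Nat.le_add_left _ _), Nat.add_sub_cancel] at h2
  have h3 : ev h ∈ J ^ n • LinearMap.range ev := Submodule.smul_mono le_rfl inf_le_right h2
  rw [LinearMap.range_eq_map, ← Submodule.map_smul''] at h3
  obtain ⟨h', hh', e'⟩ := h3
  rw [← hev e']
  exact hh'

/-- monotone form of `exists_shift_hom_mem` -/
theorem exists_shift_hom_mem' (J : Ideal B) : ∃ c : ℕ, ∀ (n m : ℕ), n + c ≤ m →
    ∀ (h : P →ₗ[B] Q), (∀ p, h p ∈ J ^ m • (⊤ : Submodule B Q)) →
      h ∈ J ^ n • (⊤ : Submodule B (P →ₗ[B] Q)) := by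
  obtain ⟨c, hc⟩ := exists_shift_hom_mem (P := P) (Q := Q) J
  exact ⟨c, fun n m hnm h hh => hc n h (fun p =>
    Submodule.smul_mono_left (Ideal.pow_le_pow_right hnm) (hh p))⟩

/-- Artin–Rees for `Hom`, lifting: a linear map `P → Q/J^(n+c+1)Q` lifts to `P → Q` modulo `J^(n+1)` -/
theorem exists_shift_hom_lift (J : Ideal B) {Qk : ℕ → Type u} [∀ k, AddCommGroup (Qk k)]
    [∀ k, Module B (Qk k)] (π : ∀ k, Q →ₗ[B] Qk k) (hπ : ∀ k, Function.Surjective (π k))
    (hker : ∀ k, LinearMap.ker (π k) = J ^ (k + 1) • (⊤ : Submodule B Q)) :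
    ∃ c : ℕ, ∀ (n : ℕ) (y : P →ₗ[B] Qk (n + c)), ∃ h : P →ₗ[B] Q,
      ∀ (p : P) (q : Q), π (n + c) q = y p → π n (h p) = π n q := by
  obtain ⟨s, e, he⟩ := Module.Finite.exists_fin (R := B) (M := P)
  let ε : (Fin s → B) →ₗ[B] P := Fintype.linearCombination B e
  have hε : Function.Surjective ε := by
    rw [← LinearMap.range_eq_top, Fintype.range_linearCombination, he]
  obtain ⟨t, r, hr⟩ := (Submodule.fg_iff_exists_fin_generating_family).1
    (IsNoetherian.noetherian (LinearMap.ker ε))
  -- the transpose of the presentation matrix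
  let T : (Fin s → Q) →ₗ[B] (Fin t → Q) :=
    LinearMap.pi (fun j => ∑ i, (r j i) • LinearMap.proj (R := B) (φ := fun _ : Fin s => Q) i)
  have hT : ∀ (x : Fin s → Q) (j : Fin t), T x j = ∑ i, r j i • x i := by
    intro x j
    simp [T, LinearMap.sum_apply]
  obtain ⟨k, hk⟩ := Ideal.exists_pow_inf_eq_pow_smul J (LinearMap.range T)
  refine ⟨k, fun n y => ?_⟩
  choose x hx using fun i => hπ (n + k) (y (e i))
  have hrj : ∀ j, ε (r j) = 0 := fun j => by
    have : r j ∈ LinearMap.ker ε := by rw [← hr]; exact Submodule.subset_span ⟨j, rfl⟩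
    exact this
  have h1 : T x ∈ J ^ (n + k + 1) • (⊤ : Submodule B (Fin t → Q)) := by
    apply pi_mem_smul_top
    intro j
    rw [← hker (n + k), LinearMap.mem_ker, hT, map_sum]
    have : ∑ i, π (n + k) (r j i • x i) = y (ε (r j)) := by
      rw [Fintype.linearCombination_apply, map_sum]
      refine Finset.sum_congr rfl fun i _ => ?_
      rw [map_smul, map_smul, hx]
    rw [this, hrj, map_zero]
  have h2 : T x ∈ J ^ (n + k + 1) • ⊤ ⊓ LinearMap.range T := ⟨h1, LinearMap.mem_range_self _ _⟩
  rw [hk (n + k + 1) (by omega)] at h2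
  have e1 : n + k + 1 - k = n + 1 := by omega
  rw [e1] at h2
  have h3 : T x ∈ J ^ (n + 1) • LinearMap.range T := Submodule.smul_mono le_rfl inf_le_right h2
  rw [LinearMap.range_eq_map, ← Submodule.map_smul''] at h3
  obtain ⟨x', hx', ex'⟩ := h3
  -- the corrected lift
  let z : Fin s → Q := x - x'
  have hz : T z = 0 := by rw [map_sub, ex', sub_self]
  let lc : (Fin s → B) →ₗ[B] Q := Fintype.linearCombination B z
  have hle : LinearMap.ker ε ≤ LinearMap.ker lc := by
    rw [← hr, Submodule.span_le]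
    rintro _ ⟨j, rfl⟩
    change lc (r j) = 0
    rw [Fintype.linearCombination_apply]
    have := congrFun hz j
    rw [hT] at this
    exact this
  let h : P →ₗ[B] Q :=
    (Submodule.liftQ (LinearMap.ker ε) lc hle).comp (ε.quotKerEquivOfSurjective hε).symm.toLinearMap
  have hh : ∀ b, h (ε b) = lc b := by
    intro b
    change (Submodule.liftQ (LinearMap.ker ε) lc hle) ((ε.quotKerEquivOfSurjective hε).symm (ε b)) = _
    have : (ε.quotKerEquivOfSurjective hε).symm (ε b) = Submodule.Quotient.mk b := by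
      rw [LinearEquiv.symm_apply_eq]
      rfl
    rw [this, Submodule.liftQ_apply]
  refine ⟨h, fun p q hq => ?_⟩
  obtain ⟨b, rfl⟩ := hε p
  rw [hh]
  have hx'i : ∀ i, π n (x' i) = 0 := fun i => by
    have := apply_mem_smul_top _ x' hx' i
    rw [← hker n] at this
    exact this
  have e2 : π n (lc b) = π n (∑ i, b i • x i) := by
    rw [Fintype.linearCombination_apply, map_sum, map_sum]
    refine Finset.sum_congr rfl fun i _ => ?_
    change π n (b i • (x i - x' i)) = _
    rw [smul_sub, map_sub, map_smul _ _ (x' i), hx'i, smul_zero, sub_zero]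
  rw [e2]
  have e3 : (∑ i, b i • x i) - q ∈ LinearMap.ker (π (n + k)) := by
    rw [LinearMap.mem_ker, map_sub, hq, map_sum]
    have : ∑ i, π (n + k) (b i • x i) = y (ε b) := by
      rw [Fintype.linearCombination_apply, map_sum]
      refine Finset.sum_congr rfl fun i _ => ?_
      rw [map_smul, map_smul, hx]
    rw [this, sub_self]
  rw [hker] at e3
  have e4 : (∑ i, b i • x i) - q ∈ LinearMap.ker (π n) := by
    rw [hker]
    exact Submodule.smul_mono_left (Ideal.pow_le_pow_right (by omega)) e3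
  rw [LinearMap.mem_ker, map_sub, sub_eq_zero] at e4
  exact e4

/-- monotone form. Artin–Rees for `Hom`, lifting: a linear map `P → Q/J^(n+c+1)Q` lifts to `P → Q` modulo `J^(n+1)` -/
theorem exists_shift_hom_lift' (J : Ideal B) {Qk : ℕ → Type u} [∀ k, AddCommGroup (Qk k)]
    [∀ k, Module B (Qk k)] (π : ∀ k, Q →ₗ[B] Qk k) (hπ : ∀ k, Function.Surjective (π k))
    (hker : ∀ k, LinearMap.ker (π k) = J ^ (k + 1) • (⊤ : Submodule B Q)) :
    ∃ c : ℕ, ∀ (n m : ℕ), n + c ≤ m → ∀ (y : P →ₗ[B] Qk m), ∃ h : P →ₗ[B] Q,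
      ∀ (p : P) (q : Q), π m q = y p → π n (h p) = π n q := by
  obtain ⟨s, e, he⟩ := Module.Finite.exists_fin (R := B) (M := P)
  let ε : (Fin s → B) →ₗ[B] P := Fintype.linearCombination B e
  have hε : Function.Surjective ε := by
    rw [← LinearMap.range_eq_top, Fintype.range_linearCombination, he]
  obtain ⟨t, r, hr⟩ := (Submodule.fg_iff_exists_fin_generating_family).1
    (IsNoetherian.noetherian (LinearMap.ker ε))
  -- the transpose of the presentation matrix
  let T : (Fin s → Q) →ₗ[B] (Fin t → Q) :=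
    LinearMap.pi (fun j => ∑ i, (r j i) • LinearMap.proj (R := B) (φ := fun _ : Fin s => Q) i)
  have hT : ∀ (x : Fin s → Q) (j : Fin t), T x j = ∑ i, r j i • x i := by
    intro x j
    simp [T, LinearMap.sum_apply]
  obtain ⟨k, hk⟩ := Ideal.exists_pow_inf_eq_pow_smul J (LinearMap.range T)
  refine ⟨k, fun n m hnm y => ?_⟩
  choose x hx using fun i => hπ m (y (e i))
  have hrj : ∀ j, ε (r j) = 0 := fun j => by
    have : r j ∈ LinearMap.ker ε := by rw [← hr]; exact Submodule.subset_span ⟨j, rfl⟩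
    exact this
  have h1 : T x ∈ J ^ (m + 1) • (⊤ : Submodule B (Fin t → Q)) := by
    apply pi_mem_smul_top
    intro j
    rw [← hker m, LinearMap.mem_ker, hT, map_sum]
    have : ∑ i, π m (r j i • x i) = y (ε (r j)) := by
      rw [Fintype.linearCombination_apply, map_sum]
      refine Finset.sum_congr rfl fun i _ => ?_
      rw [map_smul, map_smul, hx]
    rw [this, hrj, map_zero]
  have h2 : T x ∈ J ^ (m + 1) • ⊤ ⊓ LinearMap.range T := ⟨h1, LinearMap.mem_range_self _ _⟩
  rw [hk (m + 1) (by omega)] at h2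
  have h3 : T x ∈ J ^ (n + 1) • LinearMap.range T :=
    Submodule.smul_mono (Ideal.pow_le_pow_right (by omega)) inf_le_right h2
  rw [LinearMap.range_eq_map, ← Submodule.map_smul''] at h3
  obtain ⟨x', hx', ex'⟩ := h3
  -- the corrected lift
  let z : Fin s → Q := x - x'
  have hz : T z = 0 := by rw [map_sub, ex', sub_self]
  let lc : (Fin s → B) →ₗ[B] Q := Fintype.linearCombination B z
  have hle : LinearMap.ker ε ≤ LinearMap.ker lc := by
    rw [← hr, Submodule.span_le]
    rintro _ ⟨j, rfl⟩
    change lc (r j) = 0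
    rw [Fintype.linearCombination_apply]
    have := congrFun hz j
    rw [hT] at this
    exact this
  let h : P →ₗ[B] Q :=
    (Submodule.liftQ (LinearMap.ker ε) lc hle).comp (ε.quotKerEquivOfSurjective hε).symm.toLinearMap
  have hh : ∀ b, h (ε b) = lc b := by
    intro b
    change (Submodule.liftQ (LinearMap.ker ε) lc hle) ((ε.quotKerEquivOfSurjective hε).symm (ε b)) = _
    have : (ε.quotKerEquivOfSurjective hε).symm (ε b) = Submodule.Quotient.mk b := by
      rw [LinearEquiv.symm_apply_eq]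
      rfl
    rw [this, Submodule.liftQ_apply]
  refine ⟨h, fun p q hq => ?_⟩
  obtain ⟨b, rfl⟩ := hε p
  rw [hh]
  have hx'i : ∀ i, π n (x' i) = 0 := fun i => by
    have := apply_mem_smul_top _ x' hx' i
    rw [← hker n] at this
    exact this
  have e2 : π n (lc b) = π n (∑ i, b i • x i) := by
    rw [Fintype.linearCombination_apply, map_sum, map_sum]
    refine Finset.sum_congr rfl fun i _ => ?_
    change π n (b i • (x i - x' i)) = _
    rw [smul_sub, map_sub, map_smul _ _ (x' i), hx'i, smul_zero, sub_zero]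
  rw [e2]
  have e3 : (∑ i, b i • x i) - q ∈ LinearMap.ker (π m) := by
    rw [LinearMap.mem_ker, map_sub, hq, map_sum]
    have : ∑ i, π m (b i • x i) = y (ε b) := by
      rw [Fintype.linearCombination_apply, map_sum]
      refine Finset.sum_congr rfl fun i _ => ?_
      rw [map_smul, map_smul, hx]
    rw [this, sub_self]
  rw [hker] at e3
  have e4 : (∑ i, b i • x i) - q ∈ LinearMap.ker (π n) := by
    rw [hker]
    exact Submodule.smul_mono_left (Ideal.pow_le_pow_right (by omega)) e3
  rw [LinearMap.mem_ker, map_sub, sub_eq_zero] at e4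
  exact e4

end Groth.Agent.Lib.Helper4.HomAR
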