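import Mathlib
import Groth.Prelude.Def_Formal
import Groth.Prelude.Def_ClSub2
import Groth.Agent.Lib.Helper4.HomAR
import Groth.Agent.Lib.Helper4.ComplExt
import Groth.Agent.Lib.Helper4.LimHomA
import Groth.Agent.Lib.Helper4.ModPowLim2
import Groth.Agent.Lib.Helper2.HomExt.LocFreeExact
import Groth.Agent.Lib.Lead.RH5
import Groth.Agent.Lib.Helper1.Dv3
import Groth.Agent.Lib.Helper1.FinPush
import Groth.Agent.Lib.Helper1.FtSupp
import Groth.Agent.Lib.Helper1.HH0
import Groth.Agent.Lib.Helper3.ProperOver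
import Groth.Agent.S4460

/-!
# completion is fully faithful on coherent modules whose supports meet in a set proper over a complete base (EGA III 5.1.3 / Stacks 30.23) (helper4)
-/

set_option backward.isDefEq.respectTransparency.types false
set_option synthInstance.maxHeartbeats 400000
set_option autoImplicit false
set_option linter.unusedSectionVars false
set_option linter.style.haveILetI false
set_option linter.unusedSimpArgs false
universe u v w
open CategoryTheory CategoryTheory.Limits Opposite AlgebraicGeometry TopologicalSpace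

namespace Groth.Agent.Lib.Helper4.ComplFF

open Groth.Agent.Lead.RH Groth.Agent.Helper2.HomExt Groth.Agent.Helper1
  Groth.Agent.Lib.Helper4 Groth.Agent.Lib.Helper4.BaseChgRing1 Groth.Agent.Lib.Helper4.IPow1

/-! ### an abstract pro-isomorphism lemma -/

section Abs
variable {𝒜 : Type*} [Category 𝒜] [Abelian 𝒜]
  {H : 𝒜} {G Hq : ℕ → 𝒜}
  (tG : ∀ n m : ℕ, n ≤ m → (G m ⟶ G n)) (tH : ∀ n m : ℕ, n ≤ m → (Hq m ⟶ Hq n))
  (p : ∀ n, H ⟶ G n) (π : ∀ n, H ⟶ Hq n) (a : ∀ n, Hq n ⟶ G n)
  (htG : ∀ (k m n : ℕ) (h1 : k ≤ m) (h2 : m ≤ n), tG m n h2 ≫ tG k m h1 = tG k n (h1.trans h2))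
  (hp : ∀ (n m : ℕ) (h : n ≤ m), p m ≫ tG n m h = p n)
  (hπ : ∀ (n m : ℕ) (h : n ≤ m), π m ≫ tH n m h = π n)
  (ha : ∀ n, π n ≫ a n = p n)
  (c : ℕ)
  (hA : ∀ n, kernel.ι (p (n + c)) ≫ π n = 0)
  (hB : ∀ n, tG n (n + c) (Nat.le_add_right n c) ≫ cokernel.π (p n) = 0)

include htG hp hπ ha hA hB in
theorem exists_gamma : ∃ γ : ∀ n, G (n + c + c) ⟶ Hq n,
    (∀ n, γ n ≫ a n = tG n (n + c + c) (by omega)) ∧
    (∀ n, γ (n + 1) ≫ tH n (n + 1) (Nat.le_succ n) =
      tG (n + c + c) (n + 1 + c + c) (by omega) ≫ γ n) := by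
  have qe : ∀ n, Epi (Abelian.factorThruImage (p n)) := fun n => inferInstance
  have im : ∀ n, Mono (Abelian.image.ι (p n)) := fun n => inferInstance
  let ε : ∀ n, G (n + c) ⟶ Abelian.image (p n) := fun n =>
    kernel.lift (cokernel.π (p n)) (tG n (n + c) (Nat.le_add_right n c)) (hB n)
  have hε : ∀ n, ε n ≫ Abelian.image.ι (p n) = tG n (n + c) (Nat.le_add_right n c) :=
    fun n => kernel.lift_ι _ _ _
  have w : ∀ n, kernel.ι (Abelian.factorThruImage (p (n + c))) ≫ π n = 0 := by
    intro n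
    have h1 : kernel.ι (Abelian.factorThruImage (p (n + c))) ≫ p (n + c) = 0 := by
      have h0 := kernel.condition (Abelian.factorThruImage (p (n + c)))
      calc kernel.ι (Abelian.factorThruImage (p (n + c))) ≫ p (n + c)
          = kernel.ι (Abelian.factorThruImage (p (n + c))) ≫
              Abelian.factorThruImage (p (n + c)) ≫ Abelian.image.ι (p (n + c)) := by
            rw [Abelian.image.fac]
        _ = 0 := by rw [← Category.assoc, h0, zero_comp]
    rw [← kernel.lift_ι (p (n + c)) _ h1, Category.assoc, hA, comp_zero]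
  let δ : ∀ n, Abelian.image (p (n + c)) ⟶ Hq n := fun n =>
    Abelian.epiDesc (Abelian.factorThruImage (p (n + c))) (π n) (w n)
  have hδ : ∀ n, Abelian.factorThruImage (p (n + c)) ≫ δ n = π n :=
    fun n => Abelian.comp_epiDesc _ _ _
  have wκ : ∀ (m m' : ℕ) (h : m ≤ m'),
      (Abelian.image.ι (p m') ≫ tG m m' h) ≫ cokernel.π (p m) = 0 := by
    intro m m' h
    rw [← cancel_epi (Abelian.factorThruImage (p m')), comp_zero, ← Category.assoc,
      ← Category.assoc, Abelian.image.fac, hp m m' h, cokernel.condition]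
  let κ : ∀ (m m' : ℕ) (h : m ≤ m'), Abelian.image (p m') ⟶ Abelian.image (p m) :=
    fun m m' h => kernel.lift (cokernel.π (p m)) (Abelian.image.ι (p m') ≫ tG m m' h) (wκ m m' h)
  have hκ : ∀ m m' h, κ m m' h ≫ Abelian.image.ι (p m) = Abelian.image.ι (p m') ≫ tG m m' h :=
    fun m m' h => kernel.lift_ι _ _ _
  have hqκ : ∀ m m' h, Abelian.factorThruImage (p m') ≫ κ m m' h =
      Abelian.factorThruImage (p m) := by
    intro m m' h
    rw [← cancel_mono (Abelian.image.ι (p m)), Category.assoc, hκ, ← Category.assoc,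
      Abelian.image.fac, Abelian.image.fac, hp m m' h]
  have hδa : ∀ n, δ n ≫ a n =
      Abelian.image.ι (p (n + c)) ≫ tG n (n + c) (Nat.le_add_right n c) := by
    intro n
    rw [← cancel_epi (Abelian.factorThruImage (p (n + c))), ← Category.assoc, hδ, ha,
      ← Category.assoc, Abelian.image.fac, hp]
  have hδt : ∀ n, δ (n + 1) ≫ tH n (n + 1) (Nat.le_succ n) =
      κ (n + c) (n + 1 + c) (by omega) ≫ δ n := by
    intro n
    rw [← cancel_epi (Abelian.factorThruImage (p (n + 1 + c))), ← Category.assoc, hδ, hπ,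
      ← Category.assoc, hqκ, hδ]
  have hεt : ∀ (m m' : ℕ) (h : m ≤ m'),
      ε m' ≫ κ m m' h = tG (m + c) (m' + c) (by omega) ≫ ε m := by
    intro m m' h
    rw [← cancel_mono (Abelian.image.ι (p m)), Category.assoc, hκ, ← Category.assoc, hε,
      Category.assoc, hε, htG, htG]
  refine ⟨fun n => ε (n + c) ≫ δ n, fun n => ?_, fun n => ?_⟩
  · rw [Category.assoc, hδa, ← Category.assoc, hε, htG]
  · rw [Category.assoc, hδt, ← Category.assoc, hεt, Category.assoc]

end Abs


/-! ### the sheaf Hom into the quotients `N / I^(n+1) N` -/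

section Defs
variable {X : Scheme.{u}} (M : X.Modules)

theorem homShMap_comp {G G' G'' : X.Modules} (φ : G ⟶ G') (ψ : G' ⟶ G'') :
    homShMap M (φ ≫ ψ) = homShMap M φ ≫ homShMap M ψ := by
  apply Scheme.Modules.hom_ext
  intro U
  ext g
  apply section_ext_app
  intro V i m
  rw [app_homShMap]
  change _ = Groth.Agent.Lead.RH.app ((homShMap M ψ).app U ((homShMap M φ).app U g)) i m
  rw [app_homShMap, app_homShMap]
  rfl

theorem toHom_homShMap {G G' : X.Modules} (φ : G ⟶ G') (s : Γ(RefHull.homSh M G, ⊤)) :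
    LimHomA.toHom ((homShMap M φ).app ⊤ s) = LimHomA.toHom s ≫ φ := by
  apply Scheme.Modules.hom_ext
  intro U
  ext m
  exact app_homShMap M φ s le_top m

theorem homShMap_ofHom {G G' : X.Modules} (g : M ⟶ G) (φ : G ⟶ G') :
    (homShMap M φ).app ⊤ (RefHull.ofHom g ⊤) = RefHull.ofHom (g ≫ φ) ⊤ := by
  apply section_ext_app
  intro V i m
  rw [app_homShMap, LimHomA.app_ofHom, LimHomA.app_ofHom]
  rfl

theorem toHom_zero {G : X.Modules} : LimHomA.toHom (0 : Γ(RefHull.homSh M G, ⊤)) = 0 := by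
  apply Scheme.Modules.hom_ext
  intro U
  ext m
  exact Groth.Agent.Helper2.HomExt.app_zero (G := G) le_top m

end Defs

section Conc
variable {A : Type u} [CommRing A] (I : Ideal A) {X : Scheme.{u}} [X.Over (Spec (CommRingCat.of A))]
  (M N : X.Modules)

/-- `N / I^(n+1) N` -/
noncomputable abbrev Nn (n : ℕ) : X.Modules := Formal.modPow I (n + 1) N

/-- the transition maps of the quotients -/
noncomputable abbrev tN (n m : ℕ) (h : n ≤ m) : Nn I N m ⟶ Nn I N n :=
  (Formal.completion I N).map (homOfLE h).op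

/-- `Hom(M, N / I^(n+1) N)` -/
noncomputable abbrev Gn (n : ℕ) : X.Modules := RefHull.homSh M (Nn I N n)

/-- `Hom(M, N) → Hom(M, N / I^(n+1) N)` -/
noncomputable def pn (n : ℕ) : RefHull.homSh M N ⟶ Gn I M N n :=
  homShMap M (Formal.modPowπ I (n + 1) N)

/-- the transition maps `Hom(M, N / I^(m+1) N) → Hom(M, N / I^(n+1) N)` -/
noncomputable def tG (n m : ℕ) (h : n ≤ m) : Gn I M N m ⟶ Gn I M N n :=
  homShMap M (tN I N n m h)

theorem tN_trans (k m n : ℕ) (h1 : k ≤ m) (h2 : m ≤ n) :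
    tN I N m n h2 ≫ tN I N k m h1 = tN I N k n (h1.trans h2) := by
  have h := (Formal.completion I N).map_comp (homOfLE h2).op (homOfLE h1).op
  exact h.symm

theorem tG_trans (k m n : ℕ) (h1 : k ≤ m) (h2 : m ≤ n) :
    tG I M N m n h2 ≫ tG I M N k m h1 = tG I M N k n (h1.trans h2) := by
  unfold tG
  rw [← homShMap_comp, tN_trans]

theorem pn_tG (n m : ℕ) (h : n ≤ m) : pn I M N m ≫ tG I M N n m h = pn I M N n := by
  unfold pn tG
  rw [← homShMap_comp]
  congr 1
  exact FFSheaf1.π_trans I N h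

/-- elements of `I^(n+1)` kill `Hom(M, N / I^(n+1) N)` -/
theorem smulMod_Gn_zero (n : ℕ) {a : A} (ha : a ∈ I ^ (n + 1)) :
    Formal.smulMod A (Gn I M N n) a = 0 := by
  apply Scheme.Modules.hom_ext
  intro U
  ext g
  change (Formal.smulMod A (Gn I M N n) a).app U g = 0
  rw [IPow1.smulMod_app]
  apply section_ext_app
  intro V i m
  rw [app_smul_left, Groth.Agent.Helper2.HomExt.app_zero (G := Nn I N n) i m]
  have h1 : (X.presheaf.map (homOfLE i).op).hom (alphaRing A X U a) = alphaRing A X V a :=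
    alphaRing_res A i a
  have h2 := congrArg (fun φ => Scheme.Modules.Hom.app φ V (Groth.Agent.Lead.RH.app g i m))
    (FFSheaf1.smulMod_modPow_zero I N ha)
  change (Formal.smulMod A (Nn I N n) a).app V (Groth.Agent.Lead.RH.app g i m) = 0 at h2
  rw [IPow1.smulMod_app] at h2
  refine Eq.trans ?_ h2
  exact congrArg (fun r => r • Groth.Agent.Lead.RH.app g i m) h1

theorem smulFamily_pn (n : ℕ) :
    Formal.smulFamily (I ^ (n + 1)) (RefHull.homSh M N) ≫ pn I M N n = 0 := by
  apply Sigma.hom_ext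
  intro a
  rw [← Category.assoc, ComplExt.smulFamily_ι, comp_zero, IPow1.smulMod_nat,
    smulMod_Gn_zero I M N n a.2, comp_zero]

/-- the comparison `Hom(M, N) / I^(n+1) → Hom(M, N / I^(n+1) N)` -/
noncomputable def an (n : ℕ) : Formal.modPow I (n + 1) (RefHull.homSh M N) ⟶ Gn I M N n :=
  cokernel.desc _ (pn I M N n) (smulFamily_pn I M N n)

theorem π_an (n : ℕ) : Formal.modPowπ I (n + 1) (RefHull.homSh M N) ≫ an I M N n = pn I M N n :=
  cokernel.π_desc _ _ _

end Conc


/-! ### local statements on affine opens -/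

section Local
variable {A : Type u} [CommRing A] [IsNoetherianRing A] (I : Ideal A) {X : Scheme.{u}}
  [X.Over (Spec (CommRingCat.of A))] (M N : X.Modules)

/-- the kernel of `N → N / I^k N` on sections over an affine open -/
theorem ker_π_sections [N.IsQuasicoherent] {W : X.Opens} (hW : IsAffineOpen W) (k : ℕ)
    (x : Γ(N, W)) :
    (Formal.modPowπ I k N).app W x = 0 ↔
      x ∈ (I.map (alphaRing A X W)) ^ k • (⊤ : Submodule Γ(X, W) Γ(N, W)) := by
  rw [← ModPowLim2.IM_eq]
  constructor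
  · intro hx
    obtain ⟨y, rfl⟩ := IPow1.exact_sections I N k x hx
    exact IPow1.mem_IM_of_mem_range_incl I N hW k y
  · intro hx
    obtain ⟨y, rfl⟩ := IPow1.mem_range_incl_of_mem_IM I N k x hx
    have h2 := congrArg (fun φ => Scheme.Modules.Hom.app φ W y) (IPow1.incl_π I N k)
    exact h2

variable [IsLocallyNoetherian X] (hM : Coh.IsCoh M) (hN : Coh.IsCoh N)

include hN in
theorem isCoh_Nn (n : ℕ) : Coh.IsCoh (Nn I N n) := by
  haveI : N.IsQuasicoherent := hN.1
  haveI : Epi (Formal.modPowπ I (n + 1) N) := inferInstanceAs (Epi (cokernel.π _))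
  haveI : (Formal.modPow I (n + 1) N).IsQuasicoherent := ClTr1.isQuasicoherent_modPow I N (n + 1)
  exact LimTopInj.isCoh_of_epi (Formal.modPowπ I (n + 1) N) hN

include hM hN in
theorem isCoh_Gn (n : ℕ) : Coh.IsCoh (Gn I M N n) := isCoh_homSh hM (isCoh_Nn I N hN n)

variable {W : X.Opens} (hW : IsAffineOpen W)

include hM hN hW in
theorem a_loc : ∃ c : ℕ, ∀ (n m : ℕ), n + c ≤ m → ∀ h : Γ(RefHull.homSh M N, W),
    (pn I M N m).app W h = 0 →
      (Formal.modPowπ I (n + 1) (RefHull.homSh M N)).app W h = 0 := by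
  haveI : M.IsQuasicoherent := hM.1
  haveI : N.IsQuasicoherent := hN.1
  haveI : (RefHull.homSh M N).IsQuasicoherent := (isCoh_homSh hM hN).1
  haveI : IsNoetherianRing Γ(X, W) := IsLocallyNoetherian.component_noetherian ⟨W, hW⟩
  haveI : Module.Finite Γ(X, W) Γ(M, W) := FinPush.finite_sections M hM hW
  haveI : Module.Finite Γ(X, W) Γ(N, W) := FinPush.finite_sections N hN hW
  obtain ⟨c, hc⟩ := HomAR.exists_shift_hom_mem' (P := Γ(M, W)) (Q := Γ(N, W))
    (I.map (alphaRing A X W))
  refine ⟨c, fun n m hnm h hh => ?_⟩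
  have h1 : Groth.Agent.Lead.RH.secEquiv (F := M) (G := N) hW h ∈
      (I.map (alphaRing A X W)) ^ (n + 1) •
        (⊤ : Submodule Γ(X, W) (Γ(M, W) →ₗ[Γ(X, W)] Γ(N, W))) := by
    apply hc (n + 1) (m + 1) (by omega)
    intro x
    have h2 : (Formal.modPowπ I (m + 1) N).app W
        (Groth.Agent.Lead.RH.secEquiv (F := M) (G := N) hW h x) = 0 := by
      rw [Groth.Agent.Lead.RH.secEquiv_apply, ← app_homShMap]
      change Groth.Agent.Lead.RH.app ((pn I M N m).app W h) le_rfl x = 0
      rw [hh]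
      exact Groth.Agent.Helper2.HomExt.app_zero (G := Nn I N m) le_rfl x
    exact (ker_π_sections I N hW (m + 1) _).1 h2
  have h3 : h ∈ (I.map (alphaRing A X W)) ^ (n + 1) •
      (⊤ : Submodule Γ(X, W) Γ(RefHull.homSh M N, W)) := by
    have h4 : (Groth.Agent.Lead.RH.secEquiv (F := M) (G := N) hW).symm
        (Groth.Agent.Lead.RH.secEquiv (F := M) (G := N) hW h) ∈
        Submodule.map (Groth.Agent.Lead.RH.secEquiv (F := M) (G := N) hW).symm.toLinearMap
          ((I.map (alphaRing A X W)) ^ (n + 1) • ⊤) := Submodule.mem_map_of_mem h1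
    rw [Submodule.map_smul'', LinearEquiv.symm_apply_apply] at h4
    exact Submodule.smul_mono le_rfl le_top h4
  exact (ker_π_sections I (RefHull.homSh M N) hW (n + 1) h).2 h3

include hM hN hW in
theorem b_loc : ∃ c : ℕ, ∀ (n m : ℕ) (hnm : n + c ≤ m) (y : Γ(Gn I M N m, W)),
    ∃ h : Γ(RefHull.homSh M N, W),
      (pn I M N n).app W h = (tG I M N n m (by omega)).app W y := by
  haveI : M.IsQuasicoherent := hM.1
  haveI : N.IsQuasicoherent := hN.1
  haveI : IsNoetherianRing Γ(X, W) := IsLocallyNoetherian.component_noetherian ⟨W, hW⟩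
  haveI : Module.Finite Γ(X, W) Γ(M, W) := FinPush.finite_sections M hM hW
  haveI : Module.Finite Γ(X, W) Γ(N, W) := FinPush.finite_sections N hN hW
  haveI : ∀ k, (Nn I N k).IsQuasicoherent := fun k => ClTr1.isQuasicoherent_modPow I N (k + 1)
  let πl : ∀ k, Γ(N, W) →ₗ[Γ(X, W)] Γ(Nn I N k, W) := fun k =>
    { toFun := fun x => (Formal.modPowπ I (k + 1) N).app W x
      map_add' := fun x y => map_add _ x y
      map_smul' := fun r x => Scheme.Modules.Hom.app_smul _ r x }
  have hπs : ∀ k, Function.Surjective (πl k) := fun k => by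
    haveI : Epi (Formal.modPowπ I (k + 1) N) := inferInstanceAs (Epi (cokernel.π _))
    exact AffPushEpi.app_surjective_of_epi (Formal.modPowπ I (k + 1) N) W hW
  have hker : ∀ k, LinearMap.ker (πl k) =
      (I.map (alphaRing A X W)) ^ (k + 1) • (⊤ : Submodule Γ(X, W) Γ(N, W)) := by
    intro k
    ext x
    rw [LinearMap.mem_ker]
    exact ker_π_sections I N hW (k + 1) x
  obtain ⟨c, hc⟩ := HomAR.exists_shift_hom_lift' (P := Γ(M, W)) (I.map (alphaRing A X W))
    πl hπs hker
  refine ⟨c, fun n m hnm y => ?_⟩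
  obtain ⟨ℓ, hℓ⟩ := hc n m hnm (Groth.Agent.Lead.RH.secEquiv (F := M) (G := Nn I N m) hW y)
  refine ⟨(Groth.Agent.Lead.RH.secEquiv (F := M) (G := N) hW).symm ℓ, ?_⟩
  apply (Groth.Agent.Lead.RH.secEquiv (F := M) (G := Nn I N n) hW).injective
  refine LinearMap.ext fun x => ?_
  rw [Groth.Agent.Lead.RH.secEquiv_apply, Groth.Agent.Lead.RH.secEquiv_apply]
  change Groth.Agent.Lead.RH.app ((homShMap M (Formal.modPowπ I (n + 1) N)).app W
      ((Groth.Agent.Lead.RH.secEquiv (F := M) (G := N) hW).symm ℓ)) le_rfl x =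
    Groth.Agent.Lead.RH.app ((homShMap M (tN I N n m (by omega))).app W y) le_rfl x
  rw [app_homShMap, app_homShMap, ← Groth.Agent.Lead.RH.secEquiv_apply hW,
    LinearEquiv.apply_symm_apply, ← Groth.Agent.Lead.RH.secEquiv_apply hW y]
  obtain ⟨q, hq⟩ := hπs m (Groth.Agent.Lead.RH.secEquiv (F := M) (G := Nn I N m) hW y x)
  have h1 := hℓ x q hq
  rw [← hq]
  refine h1.trans ?_
  exact (congrArg (fun φ => Scheme.Modules.Hom.app φ W q)
    (FFSheaf1.π_trans I N (by omega : n ≤ m))).symm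

end Local

/-! ### global statements -/

section Global
variable {A : Type u} [CommRing A] [IsNoetherianRing A] (I : Ideal A) {X : Scheme.{u}}
  [X.Over (Spec (CommRingCat.of A))] (M N : X.Modules)
  [IsLocallyNoetherian X] [CompactSpace X] (hM : Coh.IsCoh M) (hN : Coh.IsCoh N)

include hM hN in
theorem hA_glob : ∃ c : ℕ, ∀ (n m : ℕ), n + c ≤ m →
    kernel.ι (pn I M N m) ≫ Formal.modPowπ I (n + 1) (RefHull.homSh M N) = 0 := by
  obtain ⟨k, U, hU, hcov⟩ := Dv.exists_finite_affine_cover (X := X)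
  choose c hc using fun i => a_loc I M N hM hN (hU i)
  refine ⟨Finset.univ.sup c, fun n m hnm => ?_⟩
  haveI : (RefHull.homSh M N).IsQuasicoherent := (isCoh_homSh hM hN).1
  haveI : (Gn I M N m).IsQuasicoherent := (isCoh_Gn I M N hM hN m).1
  haveI : (kernel (pn I M N m)).IsQuasicoherent := QcAbel.isQuasicoherent_kernel (pn I M N m)
  refine Dv.hom_eq_zero_of_affine_cover _ U hU hcov fun i s => ?_
  have hci : c i ≤ Finset.univ.sup c := Finset.le_sup (Finset.mem_univ i)
  have h1 : (pn I M N m).app (U i) ((kernel.ι (pn I M N m)).app (U i) s) = 0 :=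
    congrArg (fun φ => Scheme.Modules.Hom.app φ (U i) s) (kernel.condition (pn I M N m))
  exact hc i n m (by omega) _ h1

include hM hN in
theorem hB_glob : ∃ c : ℕ, ∀ (n m : ℕ) (hnm : n + c ≤ m),
    tG I M N n m (by omega) ≫ cokernel.π (pn I M N n) = 0 := by
  obtain ⟨k, U, hU, hcov⟩ := Dv.exists_finite_affine_cover (X := X)
  choose c hc using fun i => b_loc I M N hM hN (hU i)
  refine ⟨Finset.univ.sup c, fun n m hnm => ?_⟩
  haveI : (Gn I M N m).IsQuasicoherent := (isCoh_Gn I M N hM hN m).1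
  refine Dv.hom_eq_zero_of_affine_cover _ U hU hcov fun i s => ?_
  have hci : c i ≤ Finset.univ.sup c := Finset.le_sup (Finset.mem_univ i)
  obtain ⟨h, hh⟩ := hc i n m (by omega) s
  change (cokernel.π (pn I M N n)).app (U i) ((tG I M N n m (by omega)).app (U i) s) = 0
  rw [← hh]
  exact congrArg (fun φ => Scheme.Modules.Hom.app φ (U i) h) (cokernel.condition (pn I M N n))

end Global


/-! ### cohomology in degree zero -/

section HZero
variable {A : Type u} [CommRing A] (I : Ideal A) {X : Scheme.{u}}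
  [X.Over (Spec (CommRingCat.of A))] (F : X.Modules)

theorem toHHmodPow_zero_symm (n : ℕ) (s : Γ(F, ⊤)) :
    Formal.toHHmodPow I F 0 n ((HH0.equiv X F).symm s) =
      (HH0.equiv X (Formal.modPow I (n + 1) F)).symm ((Formal.modPowπ I (n + 1) F).app ⊤ s) :=
  Sheaf.H.equiv₀_symm_naturality (hT := Limits.isTerminalTop (α := Opens X))
    (f := (SheafOfModules.toSheaf _).map (Formal.modPowπ I (n + 1) F)) s

theorem HHmodPowTrans_zero_symm (n : ℕ) (t : Γ(Formal.modPow I (n + 1 + 1) F, ⊤)) :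
    Formal.HHmodPowTrans I F 0 n ((HH0.equiv X (Formal.modPow I (n + 1 + 1) F)).symm t) =
      (HH0.equiv X (Formal.modPow I (n + 1) F)).symm ((Formal.modPowTrans I (n + 1) F).app ⊤ t) :=
  Sheaf.H.equiv₀_symm_naturality (hT := Limits.isTerminalTop (α := Opens X))
    (f := (SheafOfModules.toSheaf _).map (Formal.modPowTrans I (n + 1) F)) t

theorem equiv_toHHmodPow (n : ℕ) (x : Coh.HH X F 0) :
    HH0.equiv X (Formal.modPow I (n + 1) F) (Formal.toHHmodPow I F 0 n x) =
      (Formal.modPowπ I (n + 1) F).app ⊤ (HH0.equiv X F x) :=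
  (Sheaf.H.equiv₀_naturality (Limits.isTerminalTop (α := Opens X))
    ((SheafOfModules.toSheaf _).map (Formal.modPowπ I (n + 1) F)) x).symm

end HZero

/-! ### the main theorem -/

section Final

theorem isProperOver_of_subset {X S : Scheme.{u}} (f : X ⟶ S) (Z Z' : Set X) (hZ' : IsClosed Z')
    (hsub : Z' ⊆ Z) (h : ClSub.IsProperOver f Z) : ClSub.IsProperOver f Z' := by
  obtain ⟨hc, hp⟩ := h
  haveI hp' : IsProper (Groth.Agent.Helper3.redι Z hc ≫ f) := hp
  rw [Groth.Agent.Helper3.isProperOver_iff f Z' hZ']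
  have hle : Z' ⊆ Set.range (Groth.Agent.Helper3.redι Z hc) := by
    rw [Groth.Agent.Helper3.range_redι]
    exact hsub
  rw [← Groth.Agent.Helper3.redLift_fac (Groth.Agent.Helper3.redι Z hc) Z' hZ' hle,
    Category.assoc]
  infer_instance

theorem support_homSh_subset {X : Scheme.{u}} (M N : X.Modules) (hM : Coh.IsCoh M) :
    CohB1.support (RefHull.homSh M N) ⊆ CohB1.support M ∩ CohB1.support N := by
  intro x hx
  have hinj := evalStalk_injective (F := M) (G := N) hM.1 hM.2 x
  refine ⟨fun hsub => hx ?_, fun hsub => hx ?_⟩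
  · haveI := hsub
    haveI : Subsingleton (RefHull.StalkHom M N x) :=
      ⟨fun f g => LinearMap.ext fun v => by rw [Subsingleton.elim v 0, map_zero, map_zero]⟩
    exact hinj.subsingleton
  · haveI := hsub
    haveI : Subsingleton (RefHull.StalkHom M N x) :=
      ⟨fun f g => LinearMap.ext fun v => Subsingleton.elim _ _⟩
    exact hinj.subsingleton

variable (A : Type u) [CommRing A] [IsNoetherianRing A] (I : Ideal A) [IsAdicComplete I A]
  (X : Scheme.{u}) [X.Over (Spec (CommRingCat.of A))]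
  [LocallyOfFiniteType (X ↘ Spec (CommRingCat.of A))] [QuasiCompact (X ↘ Spec (CommRingCat.of A))]
  (M N : X.Modules) (hM : Coh.IsCoh M) (hN : Coh.IsCoh N)
  (hs : ClSub.IsProperOver (X ↘ Spec (CommRingCat.of A)) (CohB1.support M ∩ CohB1.support N))

include hM hN hs in
theorem main (ψ : Formal.completion I M ⟶ Formal.completion I N) :
    ∃! φ : M ⟶ N, ∀ n : ℕ,
      Formal.modPowπ I (n + 1) M ≫ ψ.app (op n) = φ ≫ Formal.modPowπ I (n + 1) N := by
  haveI : IsLocallyNoetherian X :=
    LocallyOfFiniteType.isLocallyNoetherian (X ↘ Spec (CommRingCat.of A))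
  haveI : CompactSpace X :=
    QuasiCompact.compactSpace_of_compactSpace (X ↘ Spec (CommRingCat.of A))
  have hH : Coh.IsCoh (RefHull.homSh M N) := isCoh_homSh hM hN
  have hsH : ClSub.IsProperOver (X ↘ Spec (CommRingCat.of A))
      (CohB1.support (RefHull.homSh M N)) :=
    isProperOver_of_subset _ _ _ (FtGen.isClosed_support _ hH.2) (support_homSh_subset M N hM) hs
  have hbij := Groth.Agent.S4460.result A I X (RefHull.homSh M N) hH hsH 0
  obtain ⟨cA, hcA⟩ := hA_glob I M N hM hN
  obtain ⟨cB, hcB⟩ := hB_glob I M N hM hN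
  obtain ⟨c, hc⟩ : ∃ c : ℕ, c = max cA cB := ⟨_, rfl⟩
  have hcA' : cA ≤ c := hc ▸ le_max_left cA cB
  have hcB' : cB ≤ c := hc ▸ le_max_right cA cB
  have hA : ∀ n, kernel.ι (pn I M N (n + c)) ≫
      Formal.modPowπ I (n + 1) (RefHull.homSh M N) = 0 :=
    fun n => hcA n (n + c) (by omega)
  have hB : ∀ n, tG I M N n (n + c) (Nat.le_add_right n c) ≫ cokernel.π (pn I M N n) = 0 :=
    fun n => hcB n (n + c) (by omega)
  -- the key vanishing statement
  have key : ∀ (d : M ⟶ N), (∀ n, d ≫ Formal.modPowπ I (n + 1) N = 0) → d = 0 := by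
    intro d hd
    obtain ⟨s, hs_def⟩ : ∃ s : Γ(RefHull.homSh M N, ⊤), s = RefHull.ofHom d ⊤ := ⟨_, rfl⟩
    have h1 : ∀ m, (pn I M N m).app ⊤ s = 0 := by
      intro m
      have h0 := homShMap_ofHom M d (Formal.modPowπ I (m + 1) N)
      rw [hd m] at h0
      rw [hs_def]
      refine h0.trans ?_
      apply section_ext_app
      intro V i x
      rw [LimHomA.app_ofHom, Groth.Agent.Helper2.HomExt.app_zero (G := Nn I N m) i x]
      rfl
    have h2 : ∀ n, (Formal.modPowπ I (n + 1) (RefHull.homSh M N)).app ⊤ s = 0 := by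
      intro n
      let S : ShortComplex X.Modules := ShortComplex.mk (kernel.ι (pn I M N (n + c)))
        (pn I M N (n + c)) (kernel.condition _)
      have hS : S.Exact := ShortComplex.exact_of_f_is_kernel _ (kernelIsKernel _)
      haveI : Mono S.f := inferInstanceAs (Mono (kernel.ι _))
      obtain ⟨y, hy⟩ := QcAbel.app_exact' (S := S) hS ⊤ s (h1 (n + c))
      rw [← hy]
      exact congrArg (fun φ => Scheme.Modules.Hom.app φ ⊤ y) (hA n)
    have h3 : (HH0.equiv X (RefHull.homSh M N)).symm s = 0 := by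
      apply (injective_iff_map_eq_zero (Formal.toHHlim I (RefHull.homSh M N) 0)).1 hbij.1
      apply Subtype.ext
      funext n
      change Formal.toHHmodPow I (RefHull.homSh M N) 0 n
        ((HH0.equiv X (RefHull.homSh M N)).symm s) = 0
      rw [toHHmodPow_zero_symm, h2 n]
      exact map_zero (HH0.equiv X (Formal.modPow I (n + 1) (RefHull.homSh M N))).symm
    have h4 : s = 0 := by
      have h5 := congrArg (HH0.equiv X (RefHull.homSh M N)) h3
      rwa [AddEquiv.apply_symm_apply, map_zero] at h5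
    have h6 := LimHomA.toHom_ofHom d
    rw [← hs_def, h4, toHom_zero] at h6
    exact h6.symm
  -- the comparison morphisms
  obtain ⟨γ, hγ1, hγ2⟩ := exists_gamma (H := RefHull.homSh M N) (G := fun n => Gn I M N n)
    (Hq := fun n => Formal.modPow I (n + 1) (RefHull.homSh M N))
    (tG I M N) (fun n m h => (Formal.completion I (RefHull.homSh M N)).map (homOfLE h).op)
    (pn I M N) (fun n => Formal.modPowπ I (n + 1) (RefHull.homSh M N)) (an I M N)
    (tG_trans I M N) (pn_tG I M N) (fun n m h => FFSheaf1.π_trans I (RefHull.homSh M N) h)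
    (π_an I M N) c hA hB
  -- the given compatible family
  let g : ∀ n, M ⟶ Nn I N n := fun n => Formal.modPowπ I (n + 1) M ≫ ψ.app (op n)
  have hg : ∀ (n m : ℕ) (h : n ≤ m), g m ≫ tN I N n m h = g n := by
    intro n m h
    exact (Category.assoc _ _ _).trans ((congrArg (fun t => Formal.modPowπ I (m + 1) M ≫ t)
      (ψ.naturality (homOfLE h).op).symm).trans ((Category.assoc _ _ _).symm.trans
        (congrArg (fun t => t ≫ ψ.app (op n)) (FFSheaf1.π_trans I M h))))
  let gs : ∀ n, Γ(Gn I M N n, ⊤) := fun n => RefHull.ofHom (g n) ⊤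
  have hgs : ∀ (n m : ℕ) (h : n ≤ m), (tG I M N n m h).app ⊤ (gs m) = gs n := by
    intro n m h
    exact (homShMap_ofHom M (g m) (tN I N n m h)).trans
      (congrArg (fun t => RefHull.ofHom t ⊤) (hg n m h))
  let hh : ∀ n, Γ(Formal.modPow I (n + 1) (RefHull.homSh M N), ⊤) :=
    fun n => (γ n).app ⊤ (gs (n + c + c))
  have hcompat : ∀ n,
      (Formal.modPowTrans I (n + 1) (RefHull.homSh M N)).app ⊤ (hh (n + 1)) = hh n := by
    intro n
    have e0 := hγ2 n
    rw [ComplExt.completion_map_succ] at e0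
    have e1 := congrArg (fun φ => Scheme.Modules.Hom.app φ ⊤ (gs (n + 1 + c + c))) e0
    change (Formal.modPowTrans I (n + 1) (RefHull.homSh M N)).app ⊤
        ((γ (n + 1)).app ⊤ (gs (n + 1 + c + c))) =
      (γ n).app ⊤ ((tG I M N (n + c + c) (n + 1 + c + c) (by omega)).app ⊤
        (gs (n + 1 + c + c))) at e1
    rw [hgs] at e1
    exact e1
  let y : Formal.HHlim I (RefHull.homSh M N) 0 :=
    ⟨fun n => (HH0.equiv X (Formal.modPow I (n + 1) (RefHull.homSh M N))).symm (hh n), fun n => by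
      change Formal.HHmodPowTrans I (RefHull.homSh M N) 0 n
        ((HH0.equiv X (Formal.modPow I (n + 1 + 1) (RefHull.homSh M N))).symm (hh (n + 1))) =
        (HH0.equiv X (Formal.modPow I (n + 1) (RefHull.homSh M N))).symm (hh n)
      rw [HHmodPowTrans_zero_symm, hcompat]⟩
  obtain ⟨x, hx⟩ := hbij.2 y
  obtain ⟨s, hs_def⟩ : ∃ s : Γ(RefHull.homSh M N, ⊤), s = HH0.equiv X (RefHull.homSh M N) x :=
    ⟨_, rfl⟩
  have hsπ : ∀ n, (Formal.modPowπ I (n + 1) (RefHull.homSh M N)).app ⊤ s = hh n := by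
    intro n
    have e1 : Formal.toHHmodPow I (RefHull.homSh M N) 0 n x =
        (HH0.equiv X (Formal.modPow I (n + 1) (RefHull.homSh M N))).symm (hh n) :=
      congrFun (congrArg Subtype.val hx) n
    have e2 := congrArg (HH0.equiv X (Formal.modPow I (n + 1) (RefHull.homSh M N))) e1
    rw [AddEquiv.apply_symm_apply, equiv_toHHmodPow] at e2
    rw [hs_def]
    exact e2
  have hsp : ∀ n, (pn I M N n).app ⊤ s = gs n := by
    intro n
    have e1 := congrArg (fun φ => Scheme.Modules.Hom.app φ ⊤ s) (π_an I M N n)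
    change (an I M N n).app ⊤ ((Formal.modPowπ I (n + 1) (RefHull.homSh M N)).app ⊤ s) =
      (pn I M N n).app ⊤ s at e1
    rw [← e1, hsπ]
    have e2 := congrArg (fun φ => Scheme.Modules.Hom.app φ ⊤ (gs (n + c + c))) (hγ1 n)
    change (an I M N n).app ⊤ ((γ n).app ⊤ (gs (n + c + c))) =
      (tG I M N n (n + c + c) (by omega)).app ⊤ (gs (n + c + c)) at e2
    rw [hgs] at e2
    exact e2
  have hφ : ∀ n, g n = LimHomA.toHom s ≫ Formal.modPowπ I (n + 1) N := by
    intro n
    have e1 := toHom_homShMap M (Formal.modPowπ I (n + 1) N) s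
    change LimHomA.toHom ((pn I M N n).app ⊤ s) = _ at e1
    rw [hsp] at e1
    rw [← e1]
    exact (LimHomA.toHom_ofHom (g n)).symm
  refine ⟨LimHomA.toHom s, hφ, fun φ' hφ' => ?_⟩
  rw [← sub_eq_zero]
  apply key
  intro n
  rw [Preadditive.sub_comp, ← hφ n, ← hφ' n]
  exact sub_self _

end Final


section Cor
variable (A : Type u) [CommRing A] [IsNoetherianRing A] (I : Ideal A) [IsAdicComplete I A]
  (X : Scheme.{u}) [X.Over (Spec (CommRingCat.of A))]
  [LocallyOfFiniteType (X ↘ Spec (CommRingCat.of A))] [QuasiCompact (X ↘ Spec (CommRingCat.of A))]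
  (M N : X.Modules) (hM : Coh.IsCoh M) (hN : Coh.IsCoh N)
  (hMs : ClSub.IsProperOver (X ↘ Spec (CommRingCat.of A)) (CohB1.support M))

include hM hN hMs in
theorem main_left (ψ : Formal.completion I M ⟶ Formal.completion I N) :
    ∃! φ : M ⟶ N, ∀ n : ℕ,
      Formal.modPowπ I (n + 1) M ≫ ψ.app (op n) = φ ≫ Formal.modPowπ I (n + 1) N :=
  main A I X M N hM hN (isProperOver_of_subset _ _ _
    (IsClosed.inter (FtGen.isClosed_support M hM.2) (FtGen.isClosed_support N hN.2))
    Set.inter_subset_left hMs) ψ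

end Cor

end Groth.Agent.Lib.Helper4.ComplFF
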