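import Mathlib
import Groth.Agent.Lib.Helper4.ComplFF

/-!
# completion fully faithful for proper schemes over a complete base (helper4)
-/

set_option backward.isDefEq.respectTransparency.types false
set_option synthInstance.maxHeartbeats 400000
set_option autoImplicit false
set_option linter.unusedSectionVars false
set_option linter.style.haveILetI false
set_option linter.unusedSimpArgs false
universe u v w
open CategoryTheory CategoryTheory.Limits Opposite AlgebraicGeometry TopologicalSpace

namespace Groth.Agent.Lib.Helper4.ComplFF2

open Groth.Agent.Helper1 Groth.Agent.Lib.Helper4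

/-- every closed subset of a scheme proper over the base is proper over the base -/
theorem isProperOver_of_isProper {X S : Scheme.{u}} (f : X ⟶ S) [IsProper f] (Z : Set X)
    (hZ : IsClosed Z) : ClSub.IsProperOver f Z :=
  ⟨hZ, inferInstance⟩

theorem main (A : Type u) [CommRing A] [IsNoetherianRing A]
    (I : Ideal A) [IsAdicComplete I A] (X : Scheme.{u}) [X.Over (Spec (CommRingCat.of A))]
    [IsProper (X ↘ Spec (CommRingCat.of A))] (M N : X.Modules) (hM : Coh.IsCoh M) (hN : Coh.IsCoh N)
    (τ : Formal.completion I M ⟶ Formal.completion I N) :
    ∃! φ : M ⟶ N, ∀ n : ℕ,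
      Formal.modPowπ I (n + 1) M ≫ τ.app (op n) = φ ≫ Formal.modPowπ I (n + 1) N :=
  ComplFF.main A I X M N hM hN (isProperOver_of_isProper _ _
    (IsClosed.inter (FtGen.isClosed_support M hM.2) (FtGen.isClosed_support N hN.2))) τ

end Groth.Agent.Lib.Helper4.ComplFF2
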