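import Mathlib
import Groth.Prelude.Def_Formal
import Groth.Agent.Lib.Helper4.FFSheaf1
import Groth.Agent.Lib.Helper4.ClTr4
import Groth.Agent.Lib.Helper4.T2Main1
import Groth.Agent.Lib.Helper1.RpushLoc1
import Groth.Agent.Lib.Helper1.CohRestr
import Groth.Agent.Lib.Helper3.RpushStalk1
import Groth.Agent.Lib.Lead.PBQc
import Groth.Agent.S6857
import Groth.Agent.S0459
import Groth.Agent.S0458
import Groth.Agent.S4478
import Groth.Agent.Lib.Helper4.ComplFF2
import Groth.Agent.Lib.Helper1.FtSupp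

/-!
# Vanishing of higher direct images above the fibre dimension (helper4) (helper4)
-/

set_option backward.isDefEq.respectTransparency.types false
set_option synthInstance.maxHeartbeats 400000
set_option autoImplicit false
set_option linter.unusedSectionVars false
set_option linter.style.haveILetI false
set_option linter.unusedSimpArgs false
universe u v w
open CategoryTheory CategoryTheory.Limits Opposite AlgebraicGeometry TopologicalSpace

namespace Groth.Agent.Lib.Helper4.FibDimVan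

open Groth.Agent.Helper1 Groth.Agent.Lib.Helper4 Groth.Agent.Lib.Helper4.BaseChgRing1
  Groth.Agent.Lead.BCU

/-! ### topology: vanishing for sheaves supported on a closed subset of small dimension -/

section Top

theorem subsingleton_H_of_iso {T : TopCat.{u}} {F G : CohTop.Ab T} (e : F ≅ G) (p : ℕ)
    (h : Subsingleton (CohTop.H F p)) : Subsingleton (CohTop.H G p) := by
  refine subsingleton_of_forall_eq 0 fun x => ?_
  have h1 : Sheaf.H.map e.hom p (Sheaf.H.map e.inv p x) = x :=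
    (Sheaf.H.map_comp_apply _ _ _).symm.trans
      ((congrArg (fun f => Sheaf.H.map f p x) e.inv_hom_id).trans (Sheaf.H.map_id_apply _))
  have h2 : Sheaf.H.map e.inv p x = (0 : CohTop.H F p) := Subsingleton.elim _ _
  rw [← h1, h2, map_zero]

theorem subsingleton_H_of_stalks {T : TopCat.{u}} [NoetherianSpace T] (Z : Set T)
    (hZ : IsClosed Z) (d : ℕ) (hd : topologicalKrullDim Z ≤ d) (G : CohTop.Ab T)
    (hG : ∀ x : T, x ∉ Z → IsZero (CohTop.stalk G x)) (p : ℕ) (hp : d < p) :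
    Subsingleton (CohTop.H G p) := by
  let i : TopCat.of Z ⟶ T := TopCat.ofHom ⟨Subtype.val, continuous_subtype_val⟩
  have hi : Topology.IsClosedEmbedding i := hZ.isClosedEmbedding_subtypeVal
  obtain ⟨-, -, -, hess, -⟩ := Groth.Agent.S6857.result i hi
  have hmem : (CohTop.push i).essImage G := by
    rw [hess]
    intro x hx
    apply hG
    intro hxZ
    exact hx ⟨⟨x, hxZ⟩, rfl⟩
  obtain ⟨G₀, ⟨e⟩⟩ := hmem
  haveI : NoetherianSpace (TopCat.of Z) := inferInstanceAs (NoetherianSpace Z)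
  have h0 : Subsingleton (CohTop.H G₀ p) := Groth.Agent.S0458.result d hd G₀ p hp
  obtain ⟨e2⟩ := Groth.Agent.S0459.result i hi G₀ p
  haveI := h0
  have h1 : Subsingleton (CohTop.H ((CohTop.push i).obj G₀) p) := e2.symm.toEquiv.subsingleton
  exact subsingleton_H_of_iso e p h1

end Top

/-! ### algebra -/

section Alg

variable {A A' : Type u} [CommRing A] [CommRing A'] (φ : A →+* A')
  {M N : Type u} [AddCommGroup M] [Module A M] [AddCommGroup N] [Module A' N]

theorem IsBC.subsingleton_of_unit_kill {l : M → N} (h : IsBC φ l) (g : A) (hg : IsUnit (φ g))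
    (hk : ∀ m : M, g • m = 0) : Subsingleton N := by
  letI := φ.toAlgebra
  letI : Module A N := Module.compHom N φ
  haveI : IsScalarTower A A' N := ⟨fun a a' n => by
    change (φ a * a') • n = φ a • a' • n
    exact mul_smul _ _ _⟩
  obtain ⟨l', _, hb⟩ := h
  have h0 : ∀ m, l' m = 0 := by
    intro m
    have h1 : φ g • l' m = 0 := by
      have h2 : l' (g • m) = g • l' m := map_smul l' g m
      rw [hk m, map_zero] at h2
      exact h2.symm
    exact (hg.smul_eq_zero).1 h1
  refine subsingleton_of_forall_eq 0 fun x => ?_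
  refine hb.inductionOn x (fun y => y = 0) rfl h0 (fun s n hn => ?_) (fun n₁ n₂ h₁ h₂ => ?_)
  · change s • n = 0
    rw [hn, smul_zero]
  · change n₁ + n₂ = 0
    rw [h₁, h₂, add_zero]

theorem IsBC.exists_kill_of_subsingleton {l : M → N} (h : IsBC φ l) (S : Submonoid A)
    (hloc : @IsLocalization A _ S A' _ φ.toAlgebra) [Module.Finite A M] [Subsingleton N] :
    ∃ g ∈ S, ∀ m : M, g • m = 0 := by
  classical
  letI := φ.toAlgebra
  letI : Module A N := Module.compHom N φ
  haveI : IsScalarTower A A' N := ⟨fun a a' n => by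
    change (φ a * a') • n = φ a • a' • n
    exact mul_smul _ _ _⟩
  obtain ⟨l', _, hb⟩ := h
  haveI := hloc
  haveI : IsLocalizedModule S l' := (isLocalizedModule_iff_isBaseChange S A' l').2 hb
  obtain ⟨s, hs⟩ := (Module.finite_def.1 ‹Module.Finite A M›)
  have hex : ∀ m : M, ∃ c : S, c • m = 0 := by
    intro m
    obtain ⟨c, hc⟩ := IsLocalizedModule.exists_of_eq (S := S) (f := l')
      (show l' m = l' 0 from Subsingleton.elim _ _)
    exact ⟨c, by rw [hc, smul_zero]⟩
  choose c hc using hex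
  refine ⟨∏ x ∈ s, (c x : A), Submonoid.prod_mem _ (fun x _ => (c x).2), fun m => ?_⟩
  have hm : m ∈ Submodule.span A (s : Set M) := by rw [hs]; trivial
  induction hm using Submodule.span_induction with
  | mem x hx =>
    rw [← Finset.mul_prod_erase s _ (Finset.mem_coe.1 hx), mul_comm, mul_smul]
    have := hc x
    rw [Submonoid.smul_def] at this
    rw [this, smul_zero]
  | zero => rw [smul_zero]
  | add x y _ _ hx hy => rw [smul_add, hx, hy, add_zero]
  | smul a x _ hx => rw [smul_comm, hx, smul_zero]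

end Alg

/-! ### stalks of a module killed by a function that is invertible near a point -/

section Stalk

theorem isZero_stalk_toAb {X : Scheme.{u}} (G : X.Modules) (x : X)
    (h : ∀ (U : X.Opens) (_ : x ∈ U) (s : Γ(G, U)), ∃ (W : X.Opens) (hW : W ≤ U), x ∈ W ∧
      QcCech.res G hW s = 0) :
    IsZero (CohTop.stalk (X := X.toTopCat) (Coh.toAb G) x) := by
  have hsub : Subsingleton ↑(TopCat.Presheaf.stalk (C := AddCommGrpCat.{u}) (X := X.toTopCat)
      (Coh.toAb G).obj x) := by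
    refine ⟨fun a b => ?_⟩
    suffices H : ∀ g : ↑(TopCat.Presheaf.stalk (C := AddCommGrpCat.{u}) (X := X.toTopCat)
        (Coh.toAb G).obj x), g = 0 by rw [H a, H b]
    intro g
    obtain ⟨V, hxV, s, rfl⟩ := TopCat.Presheaf.exists_germ_eq (Coh.toAb G).obj g
    obtain ⟨W, hW, hxW, hs⟩ := h V hxV s
    have h2 : TopCat.Presheaf.germ (Coh.toAb G).obj V x hxV s =
        TopCat.Presheaf.germ (Coh.toAb G).obj W x hxW
          ((Coh.toAb G).obj.map (homOfLE hW).op s) := by
      rw [TopCat.Presheaf.germ_res_apply]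
    rw [h2]
    have h3 : (Coh.toAb G).obj.map (homOfLE hW).op s = 0 := hs
    rw [h3, map_zero]
  exact AddCommGrpCat.isZero_of_subsingleton _

variable {A : Type u} [CommRing A] {X : Scheme.{u}} [X.Over (Spec (CommRingCat.of A))]

theorem isUnit_alphaRing {W : X.Opens} {a : A}
    (hW : W ≤ (X ↘ Spec (CommRingCat.of A)) ⁻¹ᵁ (PrimeSpectrum.basicOpen a)) :
    IsUnit (alphaRing A X W a) := by
  obtain ⟨a', ha'⟩ : ∃ a' : Γ(Spec (CommRingCat.of A), ⊤),
      a' = (Scheme.ΓSpecIso (CommRingCat.of A)).inv.hom a := ⟨_, rfl⟩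
  have hb : (Spec (CommRingCat.of A)).basicOpen a' = PrimeSpectrum.basicOpen a := by
    rw [ha']
    exact basicOpen_eq_of_affine (R := CommRingCat.of A) a
  have hW' : W ≤ (X ↘ Spec (CommRingCat.of A)) ⁻¹ᵁ ((Spec (CommRingCat.of A)).basicOpen a') := by
    rw [hb]; exact hW
  have h1 : IsUnit (((Spec (CommRingCat.of A)).presheaf.map
      (homOfLE (le_top : (Spec (CommRingCat.of A)).basicOpen a' ≤ ⊤)).op).hom a') :=
    (Spec (CommRingCat.of A)).toRingedSpace.isUnit_res_basicOpen a'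
  have h2 := Scheme.Hom.map_appLE (X ↘ Spec (CommRingCat.of A)) hW'
    (homOfLE (le_top : (Spec (CommRingCat.of A)).basicOpen a' ≤ ⊤)).op
  have h3 : alphaRing A X W a =
      ((X ↘ Spec (CommRingCat.of A)).appLE ((Spec (CommRingCat.of A)).basicOpen a') W hW').hom
        (((Spec (CommRingCat.of A)).presheaf.map
          (homOfLE (le_top : (Spec (CommRingCat.of A)).basicOpen a' ≤ ⊤)).op).hom a') := by
    unfold alphaRing
    rw [RingHom.comp_apply, ← ha']
    exact (congrArg (fun φ => φ.hom a') h2).symm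
  rw [h3]
  exact h1.map _

theorem isZero_stalk_modPow (I : Ideal A) (M : X.Modules) (n : ℕ) (x : X)
    (hx : (X ↘ Spec (CommRingCat.of A)) x ∉ PrimeSpectrum.zeroLocus (I : Set A)) :
    IsZero (CohTop.stalk (X := X.toTopCat) (Coh.toAb (Formal.modPow I n M)) x) := by
  obtain ⟨a, haI, hax⟩ : ∃ a ∈ I, a ∉
      (show PrimeSpectrum A from (X ↘ Spec (CommRingCat.of A)) x).asIdeal := by
    by_contra hcon
    push Not at hcon
    exact hx (fun a ha => hcon a ha)
  apply isZero_stalk_toAb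
  intro U hxU s
  obtain ⟨W, hWdef⟩ : ∃ W : X.Opens,
      W = U ⊓ (X ↘ Spec (CommRingCat.of A)) ⁻¹ᵁ (PrimeSpectrum.basicOpen a) := ⟨_, rfl⟩
  have hWU : W ≤ U := hWdef ▸ inf_le_left
  have hWD : W ≤ (X ↘ Spec (CommRingCat.of A)) ⁻¹ᵁ (PrimeSpectrum.basicOpen a) :=
    hWdef ▸ inf_le_right
  have hxW : x ∈ W := hWdef ▸ ⟨hxU, hax⟩
  refine ⟨W, hWU, hxW, ?_⟩
  have hu : IsUnit (alphaRing A X W (a ^ n)) := by
    rw [map_pow]
    exact (isUnit_alphaRing hWD).pow n
  have hk : alphaRing A X W (a ^ n) • QcCech.res (Formal.modPow I n M) hWU s = 0 := by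
    have h1 := congrArg (fun φ => Scheme.Modules.Hom.app φ W
      (QcCech.res (Formal.modPow I n M) hWU s))
      (FFSheaf1.smulMod_modPow_zero I M (Ideal.pow_mem_pow haI n))
    exact h1
  exact (hu.smul_eq_zero).1 hk

end Stalk

/-! ### the core statement over an affine Noetherian base -/

section Core
variable (B : Type u) [CommRing B] [IsNoetherianRing B] (X : Scheme.{u})
  [X.Over (Spec (CommRingCat.of B))] [IsProper (X ↘ Spec (CommRingCat.of B))]
  (M : X.Modules) (hM : Coh.IsCoh M)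

include hM in
theorem core (𝔭 : PrimeSpectrum B) (d : ℕ)
    (hd : topologicalKrullDim ↥{x : X | (X ↘ Spec (CommRingCat.of B)) x = 𝔭} ≤ d)
    (p : ℕ) (hp : d < p) :
    ∃ g : B, g ∉ 𝔭.asIdeal ∧ ∀ n : Coh.HH X M p, g • n = 0 := by
  classical
  haveI : 𝔭.asIdeal.IsPrime := 𝔭.isPrime
  haveI : M.IsQuasicoherent := hM.1
  haveI : IsNoetherianRing (Localization.AtPrime 𝔭.asIdeal) :=
    IsLocalization.isNoetherianRing 𝔭.asIdeal.primeCompl _ inferInstance
  -- the base change to the local ring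
  obtain ⟨M', hM'def⟩ : ∃ M' : (BC B X (Localization.AtPrime 𝔭.asIdeal)).Modules,
      M' = (Scheme.Modules.pullback (pr B X (Localization.AtPrime 𝔭.asIdeal))).obj M := ⟨_, rfl⟩
  have hM' : Coh.IsCoh M' := by
    rw [hM'def]
    exact ⟨Groth.Agent.Lead.PB.isQuasicoherent_pullback _ _,
      Groth.Agent.Lead.PB.isFT_pullback _ _ hM.2⟩
  haveI : CompactSpace X :=
    QuasiCompact.compactSpace_of_compactSpace (X ↘ Spec (CommRingCat.of B))
  have hflat : (algebraMap B (Localization.AtPrime 𝔭.asIdeal)).Flat :=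
    RingHom.flat_algebraMap_iff.2 (IsLocalization.flat _ 𝔭.asIdeal.primeCompl)
  have hBC : ∃ l : Coh.HH X M p → Coh.HH (BC B X (Localization.AtPrime 𝔭.asIdeal)) M' p,
      IsBC (algebraMap B (Localization.AtPrime 𝔭.asIdeal)) l := by
    rw [hM'def]
    exact Groth.Agent.Helper1.FBC.exists_isBC_HH B (Localization.AtPrime 𝔭.asIdeal)
      (algebraMap B (Localization.AtPrime 𝔭.asIdeal)) (pr B X (Localization.AtPrime 𝔭.asIdeal)) M
      (isPullback B X (Localization.AtPrime 𝔭.asIdeal)).flip hflat p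
  obtain ⟨l, hl⟩ := hBC
  -- vanishing on the thickenings of the closed fibre
  haveI : IsLocallyNoetherian (BC B X (Localization.AtPrime 𝔭.asIdeal)) :=
    LocallyOfFiniteType.isLocallyNoetherian
      (BC B X (Localization.AtPrime 𝔭.asIdeal) ↘ Spec (CommRingCat.of (Localization.AtPrime 𝔭.asIdeal)))
  haveI : CompactSpace (BC B X (Localization.AtPrime 𝔭.asIdeal)) :=
    QuasiCompact.compactSpace_of_compactSpace
      (BC B X (Localization.AtPrime 𝔭.asIdeal) ↘ Spec (CommRingCat.of (Localization.AtPrime 𝔭.asIdeal)))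
  haveI : IsNoetherian (BC B X (Localization.AtPrime 𝔭.asIdeal)) := {}
  obtain ⟨Z, hZdef⟩ : ∃ Z : Set (BC B X (Localization.AtPrime 𝔭.asIdeal)),
      Z = {x | (BC B X (Localization.AtPrime 𝔭.asIdeal) ↘
        Spec (CommRingCat.of (Localization.AtPrime 𝔭.asIdeal))) x =
          IsLocalRing.closedPoint (Localization.AtPrime 𝔭.asIdeal)} := ⟨_, rfl⟩
  have hZcl : IsClosed Z := by
    rw [hZdef]
    have h1 : IsClosed ({IsLocalRing.closedPoint (Localization.AtPrime 𝔭.asIdeal)} :
        Set (PrimeSpectrum (Localization.AtPrime 𝔭.asIdeal))) := by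
      rw [PrimeSpectrum.isClosed_singleton_iff_isMaximal]
      exact inferInstanceAs (IsLocalRing.maximalIdeal (Localization.AtPrime 𝔭.asIdeal)).IsMaximal
    exact h1.preimage (BC B X (Localization.AtPrime 𝔭.asIdeal) ↘
        Spec (CommRingCat.of (Localization.AtPrime 𝔭.asIdeal))).continuous
  have hmaps : ∀ z ∈ Z, (X ↘ Spec (CommRingCat.of B)) (pr B X (Localization.AtPrime 𝔭.asIdeal) z) = 𝔭 := by
    intro z hz
    rw [hZdef] at hz
    have h1 := congrArg (fun φ : BC B X (Localization.AtPrime 𝔭.asIdeal) ⟶ Spec (CommRingCat.of B) => φ z)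
      (cond B X (Localization.AtPrime 𝔭.asIdeal))
    change (X ↘ Spec (CommRingCat.of B)) (pr B X (Localization.AtPrime 𝔭.asIdeal) z) =
      sMap B (Localization.AtPrime 𝔭.asIdeal) (str B X (Localization.AtPrime 𝔭.asIdeal) z) at h1
    rw [h1]
    have h2 : str B X (Localization.AtPrime 𝔭.asIdeal) z =
        IsLocalRing.closedPoint (Localization.AtPrime 𝔭.asIdeal) := hz
    rw [h2]
    apply PrimeSpectrum.ext
    change Ideal.comap (algebraMap B (Localization.AtPrime 𝔭.asIdeal))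
      (IsLocalRing.maximalIdeal (Localization.AtPrime 𝔭.asIdeal)) = 𝔭.asIdeal
    exact Localization.AtPrime.under_maximalIdeal
  have hdimZ : topologicalKrullDim ↥Z ≤ d := by
    haveI : IsPreimmersion (sMap B (Localization.AtPrime 𝔭.asIdeal)) :=
      IsPreimmersion.of_isLocalization 𝔭.asIdeal.primeCompl
    haveI : IsPreimmersion (pr B X (Localization.AtPrime 𝔭.asIdeal)) :=
      MorphismProperty.pullback_fst (P := @IsPreimmersion) _ _ this
    let h : ↥Z → ↥{x : X | (X ↘ Spec (CommRingCat.of B)) x = 𝔭} :=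
      fun z => ⟨pr B X (Localization.AtPrime 𝔭.asIdeal) z.1, hmaps z.1 z.2⟩
    have hcont : Continuous h :=
      Continuous.subtype_mk ((pr B X (Localization.AtPrime 𝔭.asIdeal)).continuous.comp
        continuous_subtype_val) _
    have hind : Topology.IsInducing h := by
      have h1 : Topology.IsInducing (Subtype.val ∘ h) :=
        (pr B X (Localization.AtPrime 𝔭.asIdeal)).isEmbedding.isInducing.comp
          Topology.IsInducing.subtypeVal
      exact Topology.IsInducing.of_comp hcont continuous_subtype_val h1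
    exact hind.topologicalKrullDim_le.trans hd
  have hvan : ∀ n, Subsingleton (Formal.HHmodPow
      (IsLocalRing.maximalIdeal (Localization.AtPrime 𝔭.asIdeal)) M' p n) := by
    intro n
    haveI : NoetherianSpace ↑(BC B X (Localization.AtPrime 𝔭.asIdeal)).toTopCat :=
      inferInstanceAs (NoetherianSpace (BC B X (Localization.AtPrime 𝔭.asIdeal)))
    refine subsingleton_H_of_stalks (T := (BC B X (Localization.AtPrime 𝔭.asIdeal)).toTopCat)
      Z hZcl d hdimZ _ (fun x hx => ?_) p hp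
    refine isZero_stalk_modPow _ M' _ x (fun hx2 => hx ?_)
    rw [hZdef]
    change (BC B X (Localization.AtPrime 𝔭.asIdeal) ↘
        Spec (CommRingCat.of (Localization.AtPrime 𝔭.asIdeal))) x =
          IsLocalRing.closedPoint (Localization.AtPrime 𝔭.asIdeal)
    apply PrimeSpectrum.ext
    have h3 : IsLocalRing.maximalIdeal (Localization.AtPrime 𝔭.asIdeal) ≤
        (show PrimeSpectrum (Localization.AtPrime 𝔭.asIdeal) from
          (BC B X (Localization.AtPrime 𝔭.asIdeal) ↘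
            Spec (CommRingCat.of (Localization.AtPrime 𝔭.asIdeal))) x).asIdeal := hx2
    exact ((IsLocalRing.maximalIdeal.isMaximal _).eq_of_le
      (PrimeSpectrum.isPrime _).ne_top h3).symm
  -- formal functions
  have hs : ClSub.IsProperOver (BC B X (Localization.AtPrime 𝔭.asIdeal) ↘
      Spec (CommRingCat.of (Localization.AtPrime 𝔭.asIdeal))) (CohB1.support M') :=
    ComplFF2.isProperOver_of_isProper _ _ (FtGen.isClosed_support M' hM'.2)
  obtain ⟨e⟩ := Groth.Agent.S4478.result (Localization.AtPrime 𝔭.asIdeal)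
    (IsLocalRing.maximalIdeal (Localization.AtPrime 𝔭.asIdeal))
    (BC B X (Localization.AtPrime 𝔭.asIdeal)) M' hM' hs p
  haveI hlim : Subsingleton (Formal.HHlim
      (IsLocalRing.maximalIdeal (Localization.AtPrime 𝔭.asIdeal)) M' p) := by
    refine ⟨fun a b => Subtype.ext (funext fun n => ?_)⟩
    haveI := hvan n
    exact Subsingleton.elim _ _
  haveI : Subsingleton (AdicCompletion
      (IsLocalRing.maximalIdeal (Localization.AtPrime 𝔭.asIdeal))
      (Coh.HH (BC B X (Localization.AtPrime 𝔭.asIdeal)) M' p)) := e.toEquiv.subsingleton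
  haveI : Module.Finite (Localization.AtPrime 𝔭.asIdeal)
      (Coh.HH (BC B X (Localization.AtPrime 𝔭.asIdeal)) M' p) :=
    T2Main1.t2 (Localization.AtPrime 𝔭.asIdeal) (BC B X (Localization.AtPrime 𝔭.asIdeal)) M' hM' p
  haveI : Subsingleton (Coh.HH (BC B X (Localization.AtPrime 𝔭.asIdeal)) M' p) :=
    (AdicCompletion.of_injective (IsLocalRing.maximalIdeal (Localization.AtPrime 𝔭.asIdeal))
      (Coh.HH (BC B X (Localization.AtPrime 𝔭.asIdeal)) M' p)).subsingleton
  -- conclusion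
  haveI : Module.Finite B (Coh.HH X M p) := T2Main1.t2 B X M hM p
  have hloc : @IsLocalization B _ 𝔭.asIdeal.primeCompl (Localization.AtPrime 𝔭.asIdeal) _
      (algebraMap B (Localization.AtPrime 𝔭.asIdeal)).toAlgebra := by
    have e1 : (algebraMap B (Localization.AtPrime 𝔭.asIdeal)).toAlgebra =
        (inferInstance : Algebra B (Localization.AtPrime 𝔭.asIdeal)) :=
      Algebra.algebra_ext _ _ (fun r => rfl)
    rw [e1]
    infer_instance
  obtain ⟨g, hgS, hg⟩ := IsBC.exists_kill_of_subsingleton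
    (algebraMap B (Localization.AtPrime 𝔭.asIdeal)) hl 𝔭.asIdeal.primeCompl hloc
  exact ⟨g, hgS, hg⟩

end Core

/-! ### the general statement -/

section Wrap

theorem main {X Y : Scheme.{u}} (f : X ⟶ Y)
    [IsProper f] [IsLocallyNoetherian Y] (y : Y) (d : ℕ) (hd : topologicalKrullDim ↥(f.fiber y) ≤ d)
    (M : X.Modules) (hM : Coh.IsCoh M) (p : ℕ) (hp : d < p) :
    Limits.IsZero (TopCat.Presheaf.stalk ((Coh.RpushAb f p).obj (Coh.toAb M)).obj y) := by
  classical
  haveI : M.IsQuasicoherent := hM.1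
  obtain ⟨V, hV, hyV, -⟩ : ∃ V : Y.Opens, V ∈ Y.affineOpens ∧ y ∈ V ∧ V ≤ (⊤ : Y.Opens) :=
    (Opens.isBasis_iff_nbhd.mp Y.isBasis_affineOpens) (show y ∈ (⊤ : Y.Opens) from trivial)
  have hV' : IsAffineOpen V := hV
  haveI : IsNoetherianRing Γ(Y, V) := IsLocallyNoetherian.component_noetherian ⟨V, hV⟩
  letI : (↑(f ⁻¹ᵁ V) : Scheme.{u}).Over (Spec (CommRingCat.of Γ(Y, V))) :=
    ⟨RpushLoc.strMap f hV'⟩
  haveI : IsProper ((↑(f ⁻¹ᵁ V) : Scheme.{u}) ↘ Spec (CommRingCat.of Γ(Y, V))) := by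
    change IsProper (RpushLoc.strMap f hV')
    unfold RpushLoc.strMap
    infer_instance
  have hMV : Coh.IsCoh (M.restrict (f ⁻¹ᵁ V).ι) :=
    Groth.Agent.Helper1.FinPush.isCoh_restrict (f ⁻¹ᵁ V).ι M hM
  obtain ⟨𝔭, h𝔭⟩ : ∃ 𝔭 : PrimeSpectrum Γ(Y, V), 𝔭 = hV'.primeIdealOf ⟨y, hyV⟩ := ⟨_, rfl⟩
  have hmaps : ∀ x : ↥(↑(f ⁻¹ᵁ V) : Scheme.{u}), RpushLoc.strMap f hV' x = 𝔭 →
      f ((f ⁻¹ᵁ V).ι x) = y := by
    intro x hx
    rw [h𝔭] at hx
    have h1 : hV'.isoSpec.hom ((f ∣_ V) x) = hV'.isoSpec.hom ⟨y, hyV⟩ := hx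
    have h2 : (f ∣_ V) x = ⟨y, hyV⟩ := (hV'.isoSpec.hom.isOpenEmbedding).injective h1
    have h3 := congrArg (fun φ : (↑(f ⁻¹ᵁ V) : Scheme.{u}) ⟶ Y => φ x) (morphismRestrict_ι f V)
    change V.ι ((f ∣_ V) x) = f ((f ⁻¹ᵁ V).ι x) at h3
    rw [← h3, h2]
    rfl
  have hdimfib : topologicalKrullDim ↥(f ⁻¹' {y}) ≤ d := by
    have hE := IsHomeomorph.topologicalKrullDim_eq _ (f.fiberHomeo y).isHomeomorph
    rw [← hE]
    exact hd
  have hd' : topologicalKrullDim
      ↥{x : ↥(↑(f ⁻¹ᵁ V) : Scheme.{u}) | RpushLoc.strMap f hV' x = 𝔭} ≤ d := by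
    let h : ↥{x : ↥(↑(f ⁻¹ᵁ V) : Scheme.{u}) | RpushLoc.strMap f hV' x = 𝔭} → ↥(f ⁻¹' {y}) :=
      fun x => ⟨(f ⁻¹ᵁ V).ι x.1, hmaps x.1 x.2⟩
    have hcont : Continuous h :=
      Continuous.subtype_mk ((f ⁻¹ᵁ V).ι.continuous.comp continuous_subtype_val) _
    have hind : Topology.IsInducing h := by
      have h1 : Topology.IsInducing (Subtype.val ∘ h) :=
        (f ⁻¹ᵁ V).ι.isEmbedding.isInducing.comp Topology.IsInducing.subtypeVal
      exact Topology.IsInducing.of_comp hcont continuous_subtype_val h1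
    exact hind.topologicalKrullDim_le.trans hdimfib
  obtain ⟨g, hg𝔭, hkill⟩ := core Γ(Y, V) (↑(f ⁻¹ᵁ V)) (M.restrict (f ⁻¹ᵁ V).ι) hMV 𝔭 d hd' p hp
  have hle : Y.basicOpen g ≤ V := Y.basicOpen_le g
  have hV₀ : IsAffineOpen (Y.basicOpen g) := hV'.basicOpen g
  have hyV₀ : y ∈ Y.basicOpen g := by
    have h2 : 𝔭 ∈ hV'.fromSpec ⁻¹ᵁ Y.basicOpen g := by
      rw [hV'.fromSpec_preimage_basicOpen]
      exact hg𝔭
    have h1 : hV'.fromSpec 𝔭 ∈ Y.basicOpen g := h2
    rwa [h𝔭, hV'.fromSpec_primeIdealOf] at h1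
  have hsub : Subsingleton (Coh.HHon X M (f ⁻¹ᵁ Y.basicOpen g) p) := by
    letI : (↑(f ⁻¹ᵁ Y.basicOpen g) : Scheme.{u}).Over
        (Spec (CommRingCat.of Γ(Y, Y.basicOpen g))) := ⟨RpushLoc.strMap f hV₀⟩
    haveI : IsSeparated ((↑(f ⁻¹ᵁ V) : Scheme.{u}) ↘ Spec (CommRingCat.of Γ(Y, V))) :=
      inferInstance
    haveI : CompactSpace (↑(f ⁻¹ᵁ V) : Scheme.{u}) :=
      isCompact_iff_compactSpace.mp (QuasiCompact.isCompact_preimage (f := f) _ V.2 hV'.isCompact)
    haveI : (M.restrict (f ⁻¹ᵁ V).ι).IsQuasicoherent := hMV.1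
    obtain ⟨l, hl⟩ := Groth.Agent.Helper1.FBC.exists_isBC_HH Γ(Y, V) Γ(Y, Y.basicOpen g)
      (Y.presheaf.map (homOfLE hle).op).hom
      (X.homOfLE (f.preimage_mono hle)) (M.restrict (f ⁻¹ᵁ V).ι)
      (RpushLoc.isPullback_strMap f hV' hV₀ hle) (RpushLoc.flat_res hV' hV₀ hle) p
    have hu : IsUnit ((Y.presheaf.map (homOfLE hle).op).hom g) :=
      Y.toRingedSpace.isUnit_res_basicOpen g
    have h1 := IsBC.subsingleton_of_unit_kill _ hl g hu hkill
    let e : (Scheme.Modules.pullback (X.homOfLE (f.preimage_mono hle))).obj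
        (M.restrict (f ⁻¹ᵁ V).ι) ≅ M.restrict (f ⁻¹ᵁ Y.basicOpen g).ι :=
      (Scheme.Modules.restrictFunctorIsoPullback _).symm.app _ ≪≫
        (Scheme.Modules.restrictFunctorComp _ _).symm.app M ≪≫
        (Scheme.Modules.restrictFunctorCongr (X.homOfLE_ι (f.preimage_mono hle))).app M
    exact RpushLoc.subsingleton_HH_of_iso e p h1
  refine Groth.Agent.Helper3.RpushStalk.isZero_stalk_rpush f.base (Coh.toAb M) p y
    (Y.basicOpen g) hyV₀ Y.affineOpens Y.isBasis_affineOpens (fun W hW hle' => ?_)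
  obtain ⟨e⟩ := Groth.Agent.Lib.Helper4.HUon1.nonempty_HU_equiv_HHon M (f ⁻¹ᵁ W) p
  haveI := RpushLoc.subsingleton_HHon_of_le f M p hV₀ hW hle' hsub
  exact e.toEquiv.subsingleton

end Wrap


end Groth.Agent.Lib.Helper4.FibDimVan
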