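import Mathlib
import Groth.Agent.Lib.Helper1.LocalCrit
import Groth.Agent.Lib.Lead.BCU1

/-!
# Algebra for lifting homomorphisms from a closed fibre: base change along a surjection, Nakayama, the local criterion in matrix form (helper4)
-/

set_option backward.isDefEq.respectTransparency.types false
set_option synthInstance.maxHeartbeats 400000
set_option autoImplicit false
set_option linter.unusedSectionVars false
set_option linter.style.haveILetI false
set_option linter.unusedSimpArgs false
universe u v w
open TensorProduct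

namespace Groth.Agent.Lib.Helper4.HomLiftAlg1

section Q
variable {A B M N : Type*} [CommRing A] [CommRing B] [Algebra A B]
    [AddCommGroup M] [Module A M] [AddCommGroup N] [Module A N] [Module B N] [IsScalarTower A B N]

/-- a base change along a surjective ring map is surjective -/
theorem surjective_of_isBaseChange (hφ : Function.Surjective (algebraMap A B)) (l : M →ₗ[A] N)
    (h : IsBaseChange B l) : Function.Surjective l := by
  intro n
  refine h.inductionOn n _ ?_ ?_ ?_ ?_
  · exact ⟨0, map_zero _⟩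
  · intro m
    exact ⟨m, rfl⟩
  · rintro b n ⟨m, rfl⟩
    obtain ⟨a, rfl⟩ := hφ b
    exact ⟨a • m, by rw [map_smul, algebraMap_smul]⟩
  · rintro n₁ n₂ ⟨m₁, rfl⟩ ⟨m₂, rfl⟩
    exact ⟨m₁ + m₂, map_add _ _ _⟩

/-- the kernel of a base change along a surjective ring map -/
theorem mem_ker_smul_top_of_isBaseChange (hφ : Function.Surjective (algebraMap A B))
    (l : M →ₗ[A] N) (h : IsBaseChange B l) (m : M) (hm : l m = 0) :
    m ∈ (RingHom.ker (algebraMap A B)) • (⊤ : Submodule A M) := by
  have h1 : (1 : B) ⊗ₜ[A] m = 0 := by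
    apply h.equiv.injective
    rw [IsBaseChange.equiv_tmul, one_smul, hm, map_zero]
  set I := RingHom.ker (algebraMap A B) with hI
  have hex : Function.Exact (I.subtype : I →ₗ[A] A) (Algebra.linearMap A B) := by
    intro a
    constructor
    · intro ha
      exact ⟨⟨a, (RingHom.mem_ker (f := algebraMap A B)).mpr ha⟩, rfl⟩
    · rintro ⟨⟨a', ha'⟩, rfl⟩
      exact (RingHom.mem_ker (f := algebraMap A B)).mp ha'
  have hsurj : Function.Surjective (Algebra.linearMap A B) := hφ
  have h2 := rTensor_exact M hex hsurj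
  have h3 : (Algebra.linearMap A B).rTensor M ((1 : A) ⊗ₜ[A] m) = 0 := by
    rw [LinearMap.rTensor_tmul, Algebra.linearMap_apply, map_one]
    exact h1
  obtain ⟨y, hy⟩ := (h2 _).mp h3
  have := Groth.Agent.Helper1.LocalCrit.lid_rTensor_subtype_mem (M := M) I y
  rw [hy, TensorProduct.lid_tmul, one_smul] at this
  exact this

end Q

section Q'

/-- the unbundled form -/
theorem isBC_surj_ker {A A' : Type u} [CommRing A] [CommRing A'] (φ : A →+* A')
    (hφ : Function.Surjective φ)
    {M N : Type u} [AddCommGroup M] [Module A M] [AddCommGroup N] [Module A' N] (l : M → N)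
    (h : Groth.Agent.Lead.BCU.IsBC φ l) :
    Function.Surjective l ∧ ∀ m, l m = 0 → m ∈ (RingHom.ker φ) • (⊤ : Submodule A M) := by
  letI := φ.toAlgebra
  letI : Module A N := Module.compHom N φ
  haveI : IsScalarTower A A' N := ⟨fun a a' n => by
    change (φ a * a') • n = φ a • a' • n
    exact mul_smul _ _ _⟩
  obtain ⟨l', hl', hb⟩ := h
  have hl : l = l' := funext fun m => (hl' m).symm
  subst hl
  exact ⟨surjective_of_isBaseChange hφ l' hb,
    fun m hm => mem_ker_smul_top_of_isBaseChange hφ l' hb m hm⟩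

end Q'

section B
variable {R M ι : Type*} [CommRing R] [AddCommGroup M] [Module R M]

theorem repr_mem_of_mem_smul_top (B : Module.Basis ι R M) (I : Ideal R) (m : M)
    (hm : m ∈ I • (⊤ : Submodule R M)) (j : ι) : B.repr m j ∈ I := by
  refine Submodule.smul_induction_on hm (fun r hr n _ => ?_) (fun a b ha hb => ?_)
  · rw [map_smul, Finsupp.smul_apply, smul_eq_mul]
    exact I.mul_mem_right _ hr
  · rw [map_add, Finsupp.add_apply]
    exact I.add_mem ha hb

theorem mem_smul_top_of_repr_mem [Fintype ι] (B : Module.Basis ι R M) (I : Ideal R) (m : M)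
    (hm : ∀ j, B.repr m j ∈ I) : m ∈ I • (⊤ : Submodule R M) := by
  rw [← B.sum_repr m]
  exact Submodule.sum_mem _ fun j _ => Submodule.smul_mem_smul (hm j) Submodule.mem_top

end B

section Pi
variable {A S : Type*} [CommRing A] [CommRing S] [Algebra A S] {κ : Type*}

theorem pi_mem_of_mem_smul_top (J : Ideal A) (z : κ → S)
    (hz : z ∈ J • (⊤ : Submodule A (κ → S))) (i : κ) : z i ∈ J.map (algebraMap A S) := by
  refine Submodule.smul_induction_on hz (fun a ha w _ => ?_) (fun a b ha hb => ?_)
  · rw [Pi.smul_apply, Algebra.smul_def]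
    exact Ideal.mul_mem_right _ _ (Ideal.mem_map_of_mem _ ha)
  · rw [Pi.add_apply]
    exact Ideal.add_mem _ ha hb

theorem mem_smul_top_of_pi_mem [Fintype κ] [DecidableEq κ] (J : Ideal A) (x : κ → S)
    (hx : ∀ i, x i ∈ J.map (algebraMap A S)) : x ∈ J • (⊤ : Submodule A (κ → S)) := by
  have h1 : x ∈ (J.map (algebraMap A S)) • (⊤ : Submodule S (κ → S)) := by
    rw [pi_eq_sum_univ x]
    exact Submodule.sum_mem _ fun i _ => Submodule.smul_mem_smul (hx i) Submodule.mem_top
  have h := Ideal.smul_restrictScalars (R := A) (S := S) (M := κ → S) J ⊤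
  rw [Submodule.restrictScalars_top] at h
  rw [← h, Submodule.restrictScalars_mem]
  exact h1

end Pi

section Nak
variable {R N : Type*} [CommRing R] [AddCommGroup N] [Module R N] [Module.Finite R N]

/-- Nakayama's lemma for a submodule which is everything modulo an ideal -/
theorem exists_sub_one_mem_and_smul_mem (P : Submodule R N) (I : Ideal R)
    (h : (⊤ : Submodule R N) ≤ P ⊔ I • ⊤) : ∃ r : R, r - 1 ∈ I ∧ ∀ g : N, r • g ∈ P := by
  have hfg : (⊤ : Submodule R (N ⧸ P)).FG := Module.Finite.fg_top
  have hle : (⊤ : Submodule R (N ⧸ P)) ≤ I • ⊤ := by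
    intro q _
    obtain ⟨g, rfl⟩ := P.mkQ_surjective q
    obtain ⟨p, hp, v, hv, rfl⟩ := Submodule.mem_sup.mp (h (Submodule.mem_top : g ∈ ⊤))
    have h0 : P.mkQ p = 0 := (Submodule.Quotient.mk_eq_zero P).mpr hp
    have h1 : P.mkQ (p + v) = P.mkQ v := by
      rw [map_add, h0, zero_add]
    rw [h1]
    have h2 : P.mkQ v ∈ Submodule.map P.mkQ (I • ⊤) := Submodule.mem_map_of_mem hv
    rw [Submodule.map_smul''] at h2
    exact Submodule.smul_mono le_rfl le_top h2
  obtain ⟨r, hr1, hr2⟩ :=
    Submodule.exists_sub_one_mem_and_smul_eq_zero_of_fg_of_le_smul I ⊤ hfg hle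
  refine ⟨r, hr1, fun g => ?_⟩
  have := hr2 (P.mkQ g) Submodule.mem_top
  rw [← map_smul] at this
  exact (Submodule.Quotient.mk_eq_zero P).mp this

end Nak

section LemM

/-- **local criterion, matrix form**: over a flat local algebra, a matrix which is injective
modulo the maximal ideal of the base is injective after localising at a prime over it -/
theorem map_eq_zero_of_fibre_injective
    {A R S : Type u} [CommRing A] [IsLocalRing A] [CommRing R] [CommRing S] [Algebra A R]
    [Algebra R S] [Algebra A S] [IsScalarTower A R S]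
    (𝔭 : Ideal R) [𝔭.IsPrime] [IsLocalization.AtPrime S 𝔭] [IsNoetherianRing S] [Module.Flat A S]
    (h𝔭 : (IsLocalRing.maximalIdeal A).map (algebraMap A R) ≤ 𝔭)
    {n k : ℕ} (Mat : Matrix (Fin k) (Fin n) R)
    (FC : ∀ c : Fin n → R,
      (∀ i, Mat.mulVec c i ∈ (IsLocalRing.maximalIdeal A).map (algebraMap A R)) →
      ∀ j, c j ∈ (IsLocalRing.maximalIdeal A).map (algebraMap A R))
    (c : Fin n → R) (hc : Mat.mulVec c = 0) (j : Fin n) : algebraMap R S (c j) = 0 := by
  classical
  haveI : IsLocalRing S := IsLocalization.AtPrime.isLocalRing S 𝔭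
  set 𝔪 := IsLocalRing.maximalIdeal A with h𝔪
  set I := 𝔪.map (algebraMap A R) with hI
  set IS := 𝔪.map (algebraMap A S) with hISdef
  have hIS : IS = I.map (algebraMap R S) := by
    rw [hI, Ideal.map_map, ← IsScalarTower.algebraMap_eq]
  haveI : IsLocalHom (algebraMap A S) := by
    refine ⟨fun a ha => ?_⟩
    by_contra hna
    have h1 : a ∈ 𝔪 := (IsLocalRing.mem_maximalIdeal a).mpr hna
    have h2 : algebraMap A R a ∈ 𝔭 := h𝔭 (Ideal.mem_map_of_mem _ h1)
    have h3 : algebraMap R S (algebraMap A R a) ∈ IsLocalRing.maximalIdeal S :=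
      (IsLocalization.AtPrime.to_map_mem_maximal_iff S 𝔭 _).mpr h2
    rw [← IsScalarTower.algebraMap_apply] at h3
    exact (IsLocalRing.mem_maximalIdeal _).mp h3 ha
  let MS : Matrix (Fin k) (Fin n) S := Mat.map (algebraMap R S)
  let uS : (Fin n → S) →ₗ[S] (Fin k → S) := MS.mulVecLin
  let u : (Fin n → S) →ₗ[A] (Fin k → S) := uS.restrictScalars A
  have hu : ∀ x, u x = MS.mulVec x := fun x => rfl
  haveI : Module.Flat A (Fin k → S) := Module.Flat.of_linearEquiv
    (DirectSum.linearEquivFunOnFintype A (Fin k) (fun _ => S)).symm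
  have hfib : ∀ x : Fin n → S, u x ∈ 𝔪 • (⊤ : Submodule A (Fin k → S)) →
      x ∈ 𝔪 • (⊤ : Submodule A (Fin n → S)) := by
    intro x hx
    have h1 : ∀ i, MS.mulVec x i ∈ IS := fun i => pi_mem_of_mem_smul_top 𝔪 (u x) hx i
    obtain ⟨s, hs⟩ := IsLocalization.exist_integer_multiples_of_finite 𝔭.primeCompl x
    choose c' hc' using hs
    have h3 : ∀ i, algebraMap R S (Mat.mulVec c' i) ∈ IS := by
      intro i
      have e : algebraMap R S (Mat.mulVec c' i) = algebraMap R S s * MS.mulVec x i := by
        rw [RingHom.map_mulVec]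
        have e2 : (⇑(algebraMap R S) ∘ c') = algebraMap R S (s : R) • x := by
          funext j'
          rw [Function.comp_apply, hc' j', Pi.smul_apply, Algebra.smul_def, smul_eq_mul]
        rw [e2, Matrix.mulVec_smul, Pi.smul_apply, smul_eq_mul]
      rw [e]
      exact IS.mul_mem_left _ (h1 i)
    have h4 : ∀ i, ∃ t : 𝔭.primeCompl, (t : R) * Mat.mulVec c' i ∈ I := by
      intro i
      have h5 := h3 i
      rw [hIS] at h5
      obtain ⟨⟨a, t⟩, hat⟩ := (IsLocalization.mem_map_algebraMap_iff 𝔭.primeCompl S).mp h5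
      rw [← map_mul] at hat
      obtain ⟨t', ht'⟩ := (IsLocalization.eq_iff_exists 𝔭.primeCompl S).mp hat
      refine ⟨t' * t, ?_⟩
      have e : ((t' * t : 𝔭.primeCompl) : R) * Mat.mulVec c' i = t' * a := by
        rw [Submonoid.coe_mul, ← ht']
        ring
      rw [e]
      exact I.mul_mem_left _ a.2
    choose t ht using h4
    let T : 𝔭.primeCompl := ∏ i, t i
    have h5 : ∀ i, Mat.mulVec ((T : R) • c') i ∈ I := by
      intro i
      rw [Matrix.mulVec_smul, Pi.smul_apply, smul_eq_mul]
      have e : (T : R) = (∏ i' ∈ Finset.univ.erase i, (t i' : R)) * t i := by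
        rw [Submonoid.coe_finset_prod]
        exact (Finset.prod_erase_mul _ _ (Finset.mem_univ i)).symm
      rw [e, mul_assoc]
      exact I.mul_mem_left _ (ht i)
    have h6 := FC _ h5
    have h7 : ∀ j, x j ∈ IS := by
      intro j
      have hunit : IsUnit (algebraMap R S ((T : R) * s)) := IsLocalization.map_units S (T * s)
      have e : algebraMap R S ((T : R) * s) * x j = algebraMap R S (((T : R) • c') j) := by
        rw [Pi.smul_apply, smul_eq_mul, map_mul, map_mul, hc' j, Algebra.smul_def]
        ring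
      have h8 : algebraMap R S (((T : R) • c') j) ∈ IS := by
        rw [hIS]
        exact Ideal.mem_map_of_mem _ (h6 j)
      rw [← e] at h8
      exact (Ideal.unit_mul_mem_iff_mem IS hunit).mp h8
    exact mem_smul_top_of_pi_mem 𝔪 x h7
  have hinj : Function.Injective u := by
    apply Groth.Agent.Helper1.LocalCrit.injective_of_lTensor_residueField_injective (S := S) u
    rw [Groth.Agent.Helper1.LocalCrit.lTensor_residueField_injective_iff]
    exact hfib
  have h9 : u (fun j => algebraMap R S (c j)) = 0 := by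
    rw [hu]
    funext i
    have e := RingHom.map_mulVec (algebraMap R S) Mat c i
    rw [hc, Pi.zero_apply, map_zero] at e
    exact e.symm
  have h10 := hinj (h9.trans (map_zero u).symm)
  exact congrFun h10 j

end LemM

end Groth.Agent.Lib.Helper4.HomLiftAlg1
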