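import Mathlib
import Groth.Prelude.Def_Cyc
import Groth.Agent.Lib.Helper4.JacDim1

/-!
# Flat morphisms of relative dimension d: local dimension formula (S9359) (helper4)
-/

set_option backward.isDefEq.respectTransparency.types false
set_option synthInstance.maxHeartbeats 400000
set_option autoImplicit false
set_option linter.unusedSectionVars false
set_option linter.style.haveILetI false
set_option linter.unusedSimpArgs false
universe u v w
open CategoryTheory CategoryTheory.Limits AlgebraicGeometry TopologicalSpace IsLocalRing Opposite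
open Cardinal
open Groth.Agent.Lib.Helper4.DimIneq1 Groth.Agent.Lib.Helper4.DimFT2 Groth.Agent.Lib.Helper4.Catenary1
open Groth.Agent.Lib.Helper4.DimEq1 Groth.Agent.Lib.Helper4.DimIneq2 Groth.Agent.Lib.Helper4.DimEq2
open Groth.Agent.Lib.Helper4.DimIneq3 Groth.Agent.Lib.Helper4.DimIneq4
open Groth.Agent.Lib.Helper4.NormFibre2 Groth.Agent.Lib.Helper4.RadBir3 Groth.Agent.Lib.Helper4.DimFT3
open Groth.Agent.Lib.Helper4.FibDim1 Groth.Agent.Lib.Helper4.FibDim2 Groth.Agent.Lib.Helper4.LocUC1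
open Groth.Agent.Lib.Helper4.FibDim3 Groth.Agent.Lib.Helper4.FibDim4 Groth.Agent.Lib.Helper4.FibDim5
open Groth.Agent.Lib.Helper4.FibDim6 Groth.Agent.Lib.Helper4.FibDim7 Groth.Agent.Lib.Helper4.JacDim1

namespace Groth.Agent.Lib.Helper4.RelDim1

section RelDim

theorem dim_opens_eq_iSup (X : Scheme.{u}) (U : X.Opens) :
    topologicalKrullDim ↥(U : Set X) =
      ⨆ u : ↥(U : Set X), ringKrullDim (X.presheaf.stalk u.1) := by
  have h := topologicalKrullDim_eq_iSup_stalk U.toScheme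
  change topologicalKrullDim ↥(U : Set X) = _ at h
  rw [h]
  congr 1
  ext u
  exact ringKrullDim_eq_of_ringEquiv (U.stalkIso u).commRingCatIsoToRingEquiv

variable {X Y : Scheme.{u}} (f : X ⟶ Y) [LocallyOfFiniteType f]

theorem stalk_dim_eq_of_flat [Flat f] [IsLocallyNoetherian Y] (u : X) :
    ringKrullDim (X.presheaf.stalk u) =
      ringKrullDim (Y.presheaf.stalk (f u)) +
        ringKrullDim ((f.fiber (f u)).presheaf.stalk (f.asFiber u)) :=
  le_antisymm (Groth.Agent.Lib.Helper4.FibreStalkDim1.S3447_main f u)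
    (stalk_dim_ge_of_max f u (fun z _ hmax =>
      stalk_dim_eq_of_flat_of_max f z ((isMax_fib_iff f z).mp hmax)))

theorem tr_max_eq_of_hasRelDim [IsLocallyNoetherian Y] (d : ℕ) (hd : Cyc.HasRelDim f d) (z : X)
    (hmax : ∀ z' : X, f z' = f z → z' ⤳ z → z' = z) : tr f z = d := by
  have hmem : ((tr f z : ℕ) : WithBot ℕ∞) ∈
      (fun Z : Set ↥(f.fiber (f z)) => topologicalKrullDim ↥Z) ''
        irreducibleComponents ↥(f.fiber (f z)) := by
    rw [mem_compDims_iff]
    exact ⟨z, rfl, hmax, rfl⟩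
  obtain ⟨T, hT, hTd⟩ := hmem
  have h1 := hd (f z) T hT
  change topologicalKrullDim ↥T = _ at hTd
  rw [h1] at hTd
  exact_mod_cast hTd.symm

theorem exists_max_ge [IsLocallyNoetherian Y] (u : X) :
    ∃ z : X, f z = f u ∧ z ⤳ u ∧ ∀ z' : X, f z' = f z → z' ⤳ z → z' = z := by
  obtain ⟨zm, hzm, hmaxm⟩ := exists_isMax_ge_fib f (f u) ⟨u, rfl⟩
  refine ⟨zm.1, zm.2, hzm, ?_⟩
  intro z' hz' hsp
  have h1 : zm ≤ ⟨z', hz'.trans zm.2⟩ := hsp
  have h2 : zm.1 ⤳ z' := hmaxm h1
  exact (hsp.antisymm h2).eq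

theorem fiber_stalk_dim_add_tr [IsLocallyNoetherian Y] (d : ℕ) (hd : Cyc.HasRelDim f d) (u : X) :
    ringKrullDim ((f.fiber (f u)).presheaf.stalk (f.asFiber u)) + (tr f u : WithBot ℕ∞) = d := by
  rw [stalk_fiber_dim]
  apply le_antisymm
  · -- coheight + height ≤ krullDim ≤ d
    haveI : Nonempty {z : X // f z = f u} := ⟨⟨u, rfl⟩⟩
    have h1 : Order.krullDim {z : X // f z = f u} ≤ d := by
      apply krullDim_fibre_le
      intro z hz
      obtain ⟨zm, hzm, hsp, hmax⟩ := exists_max_ge f z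
      rw [← tr_max_eq_of_hasRelDim f d hd zm hmax]
      exact tr_le_of_specializes f zm z hsp hzm
    rw [Order.krullDim_eq_iSup_height_add_coheight_of_nonempty] at h1
    have h2 : Order.height (⟨u, rfl⟩ : {z : X // f z = f u}) +
        Order.coheight (⟨u, rfl⟩ : {z : X // f z = f u}) ≤
        ⨆ a : {z : X // f z = f u}, Order.height a + Order.coheight a :=
      le_iSup (fun a : {z : X // f z = f u} => Order.height a + Order.coheight a) ⟨u, rfl⟩
    rw [height_fib_eq f u] at h2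
    have h3 := (WithBot.coe_le_coe.mpr h2).trans h1
    rw [add_comm]
    push_cast at h3
    exact h3
  · obtain ⟨zm, hzm, hsp, hmax⟩ := exists_max_ge f u
    have h1 := tr_le_coheight_add f u zm hsp hzm
    rw [tr_max_eq_of_hasRelDim f d hd zm hmax] at h1
    have h2 := WithBot.coe_le_coe.mpr h1
    push_cast at h2
    exact h2

/-- every nonempty open subset of a fibre contains a point with residue field algebraic over the
base residue field -/
theorem exists_tr_zero_mem [IsLocallyNoetherian Y] (U : Set X) (hU : IsOpen U) (u₀ : X)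
    (hu₀ : u₀ ∈ U) : ∃ u ∈ U, f u = f u₀ ∧ tr f u = 0 := by
  have hW : IsOpen ((f.fiberι (f u₀)) ⁻¹' U) := hU.preimage (f.fiberι (f u₀)).continuous
  have hne : ((f.fiberι (f u₀)) ⁻¹' U).Nonempty := by
    refine ⟨f.asFiber u₀, ?_⟩
    change f.fiberι (f u₀) (f.asFiber u₀) ∈ U
    rw [f.fiberι_asFiber u₀]
    exact hu₀
  obtain ⟨w, hwU, hwcl⟩ := nonempty_inter_closedPoints hne hW.isLocallyClosed
  refine ⟨f.fiberι (f u₀) w, hwU, fiberι_mem f (f u₀) w, ?_⟩
  have hmin : IsMin (fibOrderIso f (f u₀) w) := by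
    intro b hb
    have h1 : (fibOrderIso f (f u₀)).symm b ≤ w := by
      rw [← (fibOrderIso f (f u₀)).le_iff_le, OrderIso.apply_symm_apply]
      exact hb
    have h2 : w ⤳ (fibOrderIso f (f u₀)).symm b := h1
    have h3 : (fibOrderIso f (f u₀)).symm b ∈ ({w} : Set ↥(f.fiber (f u₀))) :=
      h2.mem_closed hwcl (Set.mem_singleton w)
    have h4 : (fibOrderIso f (f u₀)).symm b = w := h3
    rw [← h4, OrderIso.apply_symm_apply]
  have h5 := height_fib_eq' f (f u₀) (f.fiberι (f u₀) w) (fiberι_mem f (f u₀) w)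
  have h6 : Order.height (fibOrderIso f (f u₀) w) = 0 := Order.height_eq_zero.mpr hmin
  change Order.height (fibOrderIso f (f u₀) w) = _ at h5
  rw [h6] at h5
  exact_mod_cast h5.symm

theorem dim_opens_eq_of_flat [Flat f] [IsLocallyNoetherian Y] (d : ℕ) (hd : Cyc.HasRelDim f d)
    (U : X.Opens) (V : Y.Opens) (hV : (V : Set Y) = f '' (U : Set X)) :
    topologicalKrullDim ↥(U : Set X) = topologicalKrullDim ↥(V : Set Y) + (d : WithBot ℕ∞) := by
  rw [dim_opens_eq_iSup X U, dim_opens_eq_iSup Y V]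
  have e2 : ∀ y y' : Y, y = y' →
      ringKrullDim (Y.presheaf.stalk y) = ringKrullDim (Y.presheaf.stalk y') := by
    rintro y _ rfl; rfl
  apply le_antisymm
  · refine iSup_le fun u => ?_
    rw [stalk_dim_eq_of_flat f u.1]
    have hfu : f u.1 ∈ (V : Set Y) := by
      rw [hV]
      exact ⟨u.1, u.2, rfl⟩
    have h1 : ringKrullDim ((f.fiber (f u.1)).presheaf.stalk (f.asFiber u.1)) ≤ d := by
      rw [← fiber_stalk_dim_add_tr f d hd u.1]
      exact le_add_of_nonneg_right (by exact_mod_cast Nat.zero_le _)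
    exact add_le_add
      (le_iSup (fun v : ↥(V : Set Y) => ringKrullDim (Y.presheaf.stalk v.1)) ⟨f u.1, hfu⟩) h1
  · apply iSup_add_natCast_le
    intro v
    have hv : v.1 ∈ f '' (U : Set X) := by
      rw [← hV]
      exact v.2
    obtain ⟨u₀, hu₀U, hu₀⟩ := hv
    obtain ⟨u, huU, hfu, htr⟩ := exists_tr_zero_mem f (U : Set X) U.isOpen u₀ hu₀U
    have h1 := fiber_stalk_dim_add_tr f d hd u
    rw [htr, Nat.cast_zero, add_zero] at h1
    have h2 := stalk_dim_eq_of_flat f u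
    rw [h1, e2 _ _ (hfu.trans hu₀)] at h2
    rw [← h2]
    exact le_iSup (fun u : ↥(U : Set X) => ringKrullDim (X.presheaf.stalk u.1)) ⟨u, huU⟩

theorem S9359_main {X Y : Scheme.{u}} [IsLocallyNoetherian Y] (f : X ⟶ Y)
    [Flat f] [LocallyOfFiniteType f] (d : ℕ) (hd : Cyc.HasRelDim f d) (x : X) :
    FlatMor.localDim ↑X x = FlatMor.localDim ↑Y (f.base x) + (d : WithBot ℕ∞) := by
  haveI : LocallyOfFinitePresentation f :=
    LocallyOfFinitePresentation.iff_locallyOfFiniteType.2 inferInstance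
  have hopen : IsOpenMap f := f.isOpenMap
  unfold FlatMor.localDim
  apply le_antisymm
  · haveI : Nonempty {V : TopologicalSpace.Opens Y // f x ∈ V} := ⟨⟨⊤, trivial⟩⟩
    obtain ⟨V₀, hV₀⟩ := ciInf_mem
      (fun V : {V : TopologicalSpace.Opens Y // f x ∈ V} => topologicalKrullDim ↥(V.1 : Set Y))
    rw [← hV₀]
    have hxU : x ∈ f ⁻¹ᵁ V₀.1 := V₀.2
    refine (iInf_le _ (⟨f ⁻¹ᵁ V₀.1, hxU⟩ : {U : TopologicalSpace.Opens X // x ∈ U})).trans ?_
    have h1 := dim_opens_eq_of_flat f d hd (f ⁻¹ᵁ V₀.1)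
      ⟨f '' ((f ⁻¹ᵁ V₀.1 : X.Opens) : Set X), hopen _ (f ⁻¹ᵁ V₀.1).isOpen⟩ rfl
    change topologicalKrullDim ↥((f ⁻¹ᵁ V₀.1 : X.Opens) : Set X) ≤ _
    rw [h1]
    refine add_le_add ?_ le_rfl
    apply topologicalKrullDim_mono
    rintro _ ⟨a, ha, rfl⟩
    exact ha
  · refine le_iInf fun U => ?_
    have h1 := dim_opens_eq_of_flat f d hd U.1
      ⟨f '' (U.1 : Set X), hopen _ U.1.isOpen⟩ rfl
    change _ ≤ topologicalKrullDim ↥(U.1 : Set X)
    rw [h1]
    refine add_le_add ?_ le_rfl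
    exact iInf_le (fun V : {V : TopologicalSpace.Opens Y // f x ∈ V} =>
      topologicalKrullDim ↥(V.1 : Set Y))
      ⟨⟨f '' (U.1 : Set X), hopen _ U.1.isOpen⟩, ⟨x, U.2, rfl⟩⟩

end RelDim

end Groth.Agent.Lib.Helper4.RelDim1
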