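import Mathlib
import Groth.Agent.Lib.Helper4.DuD2
import Groth.Agent.Lib.Helper4.DuB1

/-!
# Dualizing pairs: arbitrary coproducts of quasi-coherent modules on projective space (helper4)
-/

set_option backward.isDefEq.respectTransparency.types false
set_option synthInstance.maxHeartbeats 400000
set_option autoImplicit false
set_option linter.unusedSectionVars false
set_option linter.style.haveILetI false
set_option linter.unusedSimpArgs false
universe u v w
open CategoryTheory CategoryTheory.Limits AlgebraicGeometry TopologicalSpace Opposite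
open Groth.Agent.Helper1
open Groth.Agent.Lib.Helper4.DuB1
open Groth.Agent.Lib.Helper4

namespace Groth.Agent.Lib.Helper4.DuD3

variable (n : ℕ) (R : Type u) [CommRing R] {p : ℕ} {ω : (CohB1.ProjSpace n R).Modules}
  {t : Coh.HH (CohB1.ProjSpace n R) ω p →ₗ[R] R}

open Classical in
theorem dual_sigma_inf {ι : Type u} (B : ι → (CohB1.ProjSpace n R).Modules) [∀ j, Coh.IsQCoh (B j)]
    (h : ∀ j, Dual R p ω t (B j)) : Dual R p ω t (∐ B) := by
  intro ψ
  have hj : ∀ j, ∃! φ : B j ⟶ ω, ∀ x : Coh.HH (CohB1.ProjSpace n R) (B j) p,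
      (ψ.comp (Canon.HHlin R (Sigma.ι B j) p)) x =
        t (Sheaf.H.map ((SheafOfModules.toSheaf _).map φ) p x) :=
    fun j => h j (ψ.comp (Canon.HHlin R (Sigma.ι B j) p))
  choose φ hφ hφu using hj
  refine ⟨Sigma.desc φ, fun x => ?_, fun φ' hφ' => ?_⟩
  · obtain ⟨J, hx⟩ := DuD2.gen_images n R B p x
    have hx' : x = ∑ j ∈ J, Canon.HHlin R (Sigma.π B j ≫ Sigma.ι B j) p x := hx
    have h3 : ψ x = ∑ j ∈ J, ψ (Canon.HHlin R (Sigma.π B j ≫ Sigma.ι B j) p x) := by
      conv_lhs => rw [hx']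
      rw [map_sum]
    have h4 : t (Canon.HHlin R (Sigma.desc φ) p x) =
        ∑ j ∈ J, t (Canon.HHlin R (Sigma.desc φ) p
          (Canon.HHlin R (Sigma.π B j ≫ Sigma.ι B j) p x)) := by
      conv_lhs => rw [hx']
      rw [map_sum, map_sum]
    change ψ x = t (Canon.HHlin R (Sigma.desc φ) p x)
    rw [h3, h4]
    apply Finset.sum_congr rfl
    intro j _
    rw [HHFin1.HHlin_comp, ← HHFin1.HHlin_comp R (Sigma.ι B j) (Sigma.desc φ), Sigma.ι_desc]
    exact hφ j _
  · apply Sigma.hom_ext
    intro j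
    rw [Sigma.ι_desc]
    apply hφu j
    intro x
    change ψ (Canon.HHlin R (Sigma.ι B j) p x) = t (Canon.HHlin R (Sigma.ι B j ≫ φ') p x)
    rw [HHFin1.HHlin_comp]
    exact hφ' _

end Groth.Agent.Lib.Helper4.DuD3
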