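import Mathlib
import Groth.Agent.Lib.Helper1.PF10
import Groth.Agent.Lib.Helper1.PF12

/-!
# Quasi-coherent modules on Proj are tildes of graded modules and quotients of sums of twists (helper4)
-/

set_option backward.isDefEq.respectTransparency.types false
set_option synthInstance.maxHeartbeats 400000
set_option autoImplicit false
set_option linter.unusedSectionVars false
set_option linter.style.haveILetI false
set_option linter.unusedSimpArgs false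
universe u v w
open AlgebraicGeometry CategoryTheory Limits TopologicalSpace HomogeneousLocalization Opposite
open DirectSum
open Groth.Agent.Helper1
open Groth.Agent.Helper1.PF1 Groth.Agent.Helper1.PF2 Groth.Agent.Helper1.PF4 Groth.Agent.Helper1.PF5 Groth.Agent.Helper1.PF9 Groth.Agent.Helper1.TildeQC

namespace Groth.Agent.Lib.Helper4.DuD4

variable {R A : Type u} [CommRing R] [CommRing A] [Algebra R A] (𝒜 : ℕ → Submodule R A)
  [GradedAlgebra 𝒜]

section Main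
variable (s : Finset A) (F : (Proj 𝒜).Modules)
attribute [local instance] modΓ modGM modRGM

/-- every quasi-coherent module on `Proj` is the tilde of a graded module -/
theorem main' (hs1 : ∀ f ∈ s, f ∈ 𝒜 1)
    (hs : (HomogeneousIdeal.irrelevant 𝒜).toIdeal = Ideal.span (s : Set A))
    (hF : SheafOfModules.IsQuasicoherent.{u, u, u} F) :
    ∃ (N : Type u) (_ : AddCommGroup N) (_ : Module R N) (_ : Module A N) (_ : IsScalarTower R A N)
      (𝒩 : ℕ → Submodule R N) (_ : DirectSum.Decomposition 𝒩) (_ : SetLike.GradedSMul 𝒜 𝒩),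
      Nonempty (GrTilde.tilde 𝒜 𝒩 0 ≅ F) := by
  classical
  let Q := Mn 𝒜 s F
  have hle : ∀ n, Q n ≤ Mn 𝒜 s F n := fun n => le_rfl
  have hsurj : ∀ (g : Groth.Agent.Helper1.PF2.T 𝒜 s) (t : Γ(F, Proj.basicOpen 𝒜 g.1)), ∃ (n : ℕ) (y : P 𝒜 s F),
      y ∈ Q n ∧ y g = t := by
    intro g t
    obtain ⟨n, m, hm⟩ := ext_M 𝒜 s F hF g t
    exact ⟨n, m.1, m.2, hm⟩
  refine ⟨GM Q, inferInstance, modRGM Q, modGM Q, towerGM Q, piece Q, decompGM Q,
    gradedSMulGM Q, ?_⟩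
  haveI := towerGM Q
  haveI := decompGM Q
  exact PF7.nonempty_iso (dataGM Q hF hle hsurj) hF (PF8.hcov_of 𝒜 s hs1 hs)

end Main


section Epi

theorem epi_desc_of_locally' {X : Scheme.{u}} {ι : Type u} (L : ι → X.Modules) (N : X.Modules)
    (f : ∀ i, L i ⟶ N)
    (h : ∀ (U : X.Opens) (τ : Γ(N, U)) (x : X), x ∈ U → ∃ (V : X.Opens) (hVU : V ≤ U), x ∈ V ∧
      N.presheaf.map (homOfLE hVU).op τ ∈
        AddSubgroup.closure (⋃ i, Set.range (fun t : Γ(L i, V) => (f i).app V t))) :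
    Epi (Sigma.desc f) := by
  refine ⟨fun {Q} g g' hgg' => ?_⟩
  have h1 : ∀ i, f i ≫ g = f i ≫ g' := by
    intro i
    have := congrArg (fun q => Sigma.ι L i ≫ q) hgg'
    simpa using this
  apply Scheme.Modules.hom_ext
  intro U
  ext τ
  choose V hVU hxV hcl using fun x : U => h U τ x.1 x.2
  refine TopCat.Sheaf.eq_of_locally_eq' (⟨Q.presheaf, Q.isSheaf⟩ : TopCat.Sheaf Ab X) V U
    (fun x => homOfLE (hVU x)) (fun x hx => Opens.mem_iSup.2 ⟨⟨x, hx⟩, hxV ⟨x, hx⟩⟩) _ _ ?_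
  intro x
  change Q.presheaf.map (homOfLE (hVU x)).op (g.app U τ) =
    Q.presheaf.map (homOfLE (hVU x)).op (g'.app U τ)
  have n1 := NatTrans.naturality_apply g.mapPresheaf (homOfLE (hVU x)).op τ
  have n2 := NatTrans.naturality_apply g'.mapPresheaf (homOfLE (hVU x)).op τ
  simp only [Scheme.Modules.mapPresheaf_app] at n1 n2
  erw [← n1, ← n2]
  have hs := hcl x
  generalize (N.presheaf.map (homOfLE (hVU x)).op) τ = w at hs ⊢
  induction hs using AddSubgroup.closure_induction with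
  | mem y hy =>
    obtain ⟨i, t, rfl⟩ := Set.mem_iUnion.1 hy
    have := congrArg (fun q : L i ⟶ Q => q.app (V x) t) (h1 i)
    exact this
  | zero => simp
  | add y z _ _ hy hz => rw [map_add, map_add, hy, hz]
  | neg y _ hy => rw [map_neg, map_neg, hy]

variable {N : Type u} [AddCommGroup N] [Module R N] [Module A N] (𝒩 : ℕ → Submodule R N)
  [SetLike.GradedSMul 𝒜 𝒩]

open Groth.Agent.Helper1.PF12 in
theorem span_twists' (U : (Proj 𝒜).Opens) (τ : Γ(GrTilde.tilde 𝒜 𝒩 0, U))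
    (x : ProjectiveSpectrum 𝒜) (hx : x ∈ U) :
    ∃ (V : (Proj 𝒜).Opens) (hVU : V ≤ U), x ∈ V ∧
      (GrTilde.tilde 𝒜 𝒩 0).presheaf.map (homOfLE hVU).op τ ∈
        AddSubgroup.closure (⋃ i : (Σ n : ℕ, 𝒩 n), Set.range
          (fun σ : Γ(Twist.twist 𝒜 (-(i.1 : ℤ)), V) => (φ 𝒜 𝒩 i.1 i.2).app V σ)) := by
  obtain ⟨V₀, hxV₀, iV, i, j, m, c, nin, hij, hw⟩ :=
    (show GrTilde.sect 𝒜 𝒩 0 (op U) from τ).2 ⟨x, hx⟩
  obtain ⟨m', hm', hmm'⟩ : ∃ m' : N, m' ∈ 𝒩 j ∧ m' = m.1 := by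
    rcases hij with hij | hij
    · have : i = j := by omega
      subst this
      exact ⟨m.1, m.2, rfl⟩
    · exact ⟨0, zero_mem _, hij.symm⟩
  obtain ⟨W, hW⟩ : ∃ W : (Proj 𝒜).Opens, W = (show (Proj 𝒜).Opens from V₀) := ⟨_, rfl⟩
  have hWV : W ≤ V₀ := hW ▸ le_rfl
  have hWU : W ≤ U := hWV.trans iV.le
  have hxW : x ∈ W := hW ▸ hxV₀
  have hc' : c.1 ∈ 𝒜 (j + 0) := c.2
  have hcV : ∀ v : ProjectiveSpectrum 𝒜, v ∈ W → c.1 ∉ v.asHomogeneousIdeal := by
    intro v hv hmem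
    exact nin ⟨v, hWV hv⟩ hmem
  have hcl : m' ∈ AddSubgroup.closure
      {x : N | ∃ b ∈ 𝒜 0, ∃ y ∈ Set.range (fun _ : Fin 1 => m'), x = b • y} := by
    apply AddSubgroup.subset_closure
    exact ⟨1, SetLike.GradedOne.one_mem, m', ⟨0, rfl⟩, (one_smul _ _).symm⟩
  obtain ⟨t, ht, htv⟩ := exists_sec_of_mem_closure 𝒜 𝒩 j 0 (fun _ : Fin 1 => m') (fun _ => hm')
    W c.1 hc' hcV hcl
  refine ⟨W, hWU, hxW, ?_⟩
  have heq : (GrTilde.tilde 𝒜 𝒩 0).presheaf.map (homOfLE hWU).op τ = t := by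
    apply Subtype.ext
    funext v
    apply Subtype.ext
    refine Eq.trans ?_ (htv v.1 v.2).symm
    refine (hw ⟨v.1, hWV v.2⟩).trans ?_
    rw [← hmm']
  rw [heq]
  refine AddSubgroup.closure_mono ?_ ht
  intro y hy
  obtain ⟨_, σ, rfl⟩ := Set.mem_iUnion.1 hy
  exact Set.mem_iUnion.2 ⟨⟨j, ⟨m', hm'⟩⟩, σ, rfl⟩

open Groth.Agent.Helper1.PF12 in
/-- `N~` is a quotient of a direct sum of twists -/
theorem epi_twists' :
    Epi (Sigma.desc (fun i : (Σ n : ℕ, 𝒩 n) => φ 𝒜 𝒩 i.1 i.2)) := by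
  apply epi_desc_of_locally'
  intro U τ x hx
  exact span_twists' 𝒜 𝒩 U τ x hx

end Epi

section Pres
variable (s : Finset A)

/-- every quasi-coherent module on `Proj` is a quotient of a direct sum of twists -/
theorem exists_epi_twists (hs1 : ∀ f ∈ s, f ∈ 𝒜 1)
    (hs : (HomogeneousIdeal.irrelevant 𝒜).toIdeal = Ideal.span (s : Set A))
    (F : (Proj 𝒜).Modules) (hF : SheafOfModules.IsQuasicoherent.{u, u, u} F) :
    ∃ (ι : Type u) (deg : ι → ℕ) (p : (∐ fun i : ι => Twist.twist 𝒜 (-(deg i : ℤ))) ⟶ F), Epi p := by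
  obtain ⟨N, i1, i2, i3, i4, 𝒩, i5, i6, ⟨e⟩⟩ := main' 𝒜 s F hs1 hs hF
  haveI := epi_twists' 𝒜 𝒩
  exact ⟨Σ n : ℕ, 𝒩 n, fun i => i.1,
    Sigma.desc (fun i : (Σ n : ℕ, 𝒩 n) => Groth.Agent.Helper1.PF12.φ 𝒜 𝒩 i.1 i.2) ≫ e.hom,
    epi_comp _ e.hom⟩

end Pres
end Groth.Agent.Lib.Helper4.DuD4
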