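import Mathlib
import Groth.Agent.Lib.Helper4.DuD3
import Groth.Agent.Lib.Helper4.DuD4
import Groth.Agent.Lib.Helper4.DuC2
import Groth.Agent.Lib.Helper1.QcAbel

/-!
# Serre duality on projective space for quasi-coherent modules: O(-d-1) with the trace is a d-dualizing pair (helper4)
-/

set_option backward.isDefEq.respectTransparency.types false
set_option synthInstance.maxHeartbeats 400000
set_option autoImplicit false
set_option linter.unusedSectionVars false
set_option linter.style.haveILetI false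
set_option linter.unusedSimpArgs false
universe u v w
open CategoryTheory CategoryTheory.Limits AlgebraicGeometry TopologicalSpace Opposite MvPolynomial
open Groth.Agent.Helper1
open Groth.Agent.Lib.Helper4.DuA4
open Groth.Agent.Lib.Helper4.DuB1
open Groth.Agent.Lib.Helper4.DuB2
open Groth.Agent.Lib.Helper4.DuC1
open Groth.Agent.Lib.Helper4.DuC2
open Groth.Agent.Lib.Helper4.SerreFin
open Groth.Agent.Lib.Helper4

namespace Groth.Agent.Lib.Helper4.DuD5

variable (n : ℕ) (R : Type u) [CommRing R]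

theorem dual_qcoh_gen {ω : (CohB1.ProjSpace n R).Modules}
    {t : Coh.HH (CohB1.ProjSpace n R) ω n →ₗ[R] R}
    (hω : ∀ d : ℤ, Dual R n ω t (Twist.twistProjSpace n R d))
    (M : (CohB1.ProjSpace n R).Modules) [hM : Coh.IsQCoh M] : Dual R n ω t M := by
  obtain ⟨ι, deg, π', hπ'⟩ := DuD4.exists_epi_twists (CohB1.polyGrading n R) (sX n R)
    (sX_mem n R) (irrelevant_eq n R) M hM
  let π : (∐ fun i : ι => Twist.twistProjSpace n R (-(deg i : ℤ))) ⟶ M := π'
  haveI hπ : Epi π := hπ'
  haveI hE : Coh.IsQCoh (∐ fun i : ι => Twist.twistProjSpace n R (-(deg i : ℤ))) :=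
    Groth.Agent.Lead.QB.isQuasicoherent_sigma _
  haveI hK : Coh.IsQCoh (kernel π) := QcAbel.isQuasicoherent_kernel π
  obtain ⟨ι', deg', q', hq'⟩ := DuD4.exists_epi_twists (CohB1.polyGrading n R) (sX n R)
    (sX_mem n R) (irrelevant_eq n R) (kernel π) hK
  let q : (∐ fun i : ι' => Twist.twistProjSpace n R (-(deg' i : ℤ))) ⟶ kernel π := q'
  haveI hq : Epi q := hq'
  have hsub : Subsingleton (Coh.HH (CohB1.ProjSpace n R) (kernel π) (n + 1)) :=
    Groth.Agent.S0022.result n R (kernel π) (n + 1) (by omega)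
  have hlift : kernel.lift π (q ≫ kernel.ι π) (by rw [Category.assoc, kernel.condition, comp_zero]) = q := by
    rw [← cancel_mono (kernel.ι π), kernel.lift_ι]
  refine dual_quot π (q ≫ kernel.ι π) (by rw [Category.assoc, kernel.condition, comp_zero])
    (by rw [hlift]; exact hq) (surj_of_subsingleton π hsub)
    (DuD3.dual_sigma_inf n R _ fun _ => hω _) (DuD3.dual_sigma_inf n R _ fun _ => hω _)


theorem bijective_of_dual {A : Type u} [CommRing A] {X : Scheme.{u}} [X.Over (Spec (CommRingCat.of A))]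
    {n : ℕ} {ω : X.Modules} {t : Coh.HH X ω n →ₗ[A] A} {F : X.Modules} (h : Dual A n ω t F) :
    Function.Bijective (Canon.dualityMap A X n ω t F) := by
  constructor
  · intro φ φ' he
    obtain ⟨φ₀, _, hu⟩ := h (Canon.dualityMap A X n ω t F φ)
    have h1 : φ = φ₀ := hu φ (fun x => rfl)
    have h2 : φ' = φ₀ := hu φ' (fun x => by rw [he]; rfl)
    rw [h1, h2]
  · intro ψ
    obtain ⟨φ, hφ, _⟩ := h ψ
    exact ⟨φ, LinearMap.ext fun x => (hφ x).symm⟩

theorem s13309 (A : Type u) [CommRing A] (d : ℕ) :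
    ∃ tr : Coh.HH (CohB1.ProjSpace d A) (Twist.twistProjSpace d A (-((d : ℤ) + 1))) d →ₗ[A] A,
      Canon.IsRDualOver A (CohB1.ProjSpace d A) d (Twist.twistProjSpace d A (-((d : ℤ) + 1))) tr := by
  rcases d with _ | p
  · refine ⟨(tr0 A).toLinearMap, inferInstance, fun F hF => ?_⟩
    haveI : Coh.IsQCoh F := hF
    exact bijective_of_dual (dual_qcoh_gen 0 A (fun d => dual_twist0 A d) F)
  · refine ⟨(tr p A).toLinearMap, inferInstance, fun F hF => ?_⟩
    haveI : Coh.IsQCoh F := hF
    exact bijective_of_dual (dual_qcoh_gen (p + 1) A (fun d => dual_twist p A d) F)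
end Groth.Agent.Lib.Helper4.DuD5
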