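import Mathlib

/-!
# Closed sets of closed points in locally Noetherian schemes are discrete (helper4)
-/

set_option backward.isDefEq.respectTransparency.types false
set_option synthInstance.maxHeartbeats 400000
set_option autoImplicit false
set_option linter.unusedSectionVars false
set_option linter.style.haveILetI false
set_option linter.unusedSimpArgs false
universe u v w
open TopologicalSpace

namespace Groth.Agent.Lib.Helper4.ZeroDim1

/-- in a Noetherian quasi-sober space, a closed set all of whose points are closed is finite -/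
theorem finite_of_closed_points {α : Type*} [TopologicalSpace α] [NoetherianSpace α] [QuasiSober α]
    (s : Set α) (hs : IsClosed s) (hpt : ∀ x ∈ s, IsClosed ({x} : Set α)) : s.Finite := by
  obtain ⟨S, hSfin, hScl, hSirr, hSeq⟩ := NoetherianSpace.exists_finite_set_isClosed_irreducible hs
  rw [hSeq]
  refine hSfin.sUnion (fun t ht => ?_)
  obtain ⟨η, hη⟩ := QuasiSober.sober (hSirr t ht) (hScl t ht)
  have hηs : η ∈ s := by
    rw [hSeq]
    exact ⟨t, ht, hη.mem⟩
  have : t = {η} := by
    rw [← hη.def, (hpt η hηs).closure_eq]
  rw [this]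
  exact Set.finite_singleton η


open AlgebraicGeometry in
theorem isClosed_preimage_aux (X : Scheme.{u}) [IsLocallyNoetherian X]
    (Z : Set X) (hZ : IsClosed Z) (hpt : ∀ x ∈ Z, IsClosed ({x} : Set X))
    (T : Set X) (hT : T ⊆ Z) (U : X.Opens) (hU : IsAffineOpen U) :
    IsClosed ((Subtype.val : U → X) ⁻¹' T) := by
  haveI : IsNoetherianRing Γ(X, U) := IsLocallyNoetherian.component_noetherian ⟨U, hU⟩
  have hN : NoetherianSpace (↥U) := noetherianSpace_of_isAffineOpen U hU
  have hQ : QuasiSober (↥U) := U.isOpenEmbedding'.quasiSober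
  have hsing : ∀ y : U, IsClosed ({y.1} : Set X) → IsClosed ({y} : Set U) := by
    intro y hy
    have h1 : ({y} : Set U) = (Subtype.val : U → X) ⁻¹' ({y.1} : Set X) := by
      ext z
      constructor
      · intro h
        have h' : z = y := h
        rw [h']
        rfl
      · intro h
        exact Subtype.ext h
    rw [h1]
    exact hy.preimage continuous_subtype_val
  have hfinZ : ((Subtype.val : U → X) ⁻¹' Z).Finite :=
    @finite_of_closed_points (↥U) _ hN hQ _ (hZ.preimage continuous_subtype_val)
      (fun y hy => hsing y (hpt y.1 hy))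
  have hfinT : ((Subtype.val : U → X) ⁻¹' T).Finite := hfinZ.subset (Set.preimage_mono hT)
  have h2 : ((Subtype.val : U → X) ⁻¹' T) = ⋃ y ∈ ((Subtype.val : U → X) ⁻¹' T), {y} := by
    ext z
    simp
  rw [h2]
  exact hfinT.isClosed_biUnion (fun y hy => hsing y (hpt y.1 (hT hy)))

open AlgebraicGeometry in
/-- on a locally Noetherian scheme, every subset of a closed set of closed points is closed -/
theorem isClosed_of_subset_closed_points (X : Scheme.{u}) [IsLocallyNoetherian X]
    (Z : Set X) (hZ : IsClosed Z) (hpt : ∀ x ∈ Z, IsClosed ({x} : Set X))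
    (T : Set X) (hT : T ⊆ Z) : IsClosed T := by
  have hcov : TopologicalSpace.IsOpenCover (fun N : X.affineOpens => (N.1 : X.Opens)) :=
    iSup_affineOpens_eq_top X
  rw [hcov.isClosed_iff_coe_preimage]
  intro N
  exact isClosed_preimage_aux X Z hZ hpt T hT N.1 N.2
end Groth.Agent.Lib.Helper4.ZeroDim1
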