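import Mathlib
import Groth.Agent.Lib.Helper4.RegRes1
import Groth.Agent.Lib.Helper1.CohAbel

/-!
# The hyperplane sequence 0 → F(-1) → F → C → 0 on projective space and regularity of the cokernel (helper4)
-/

set_option backward.isDefEq.respectTransparency.types false
set_option synthInstance.maxHeartbeats 400000
set_option autoImplicit false
set_option linter.unusedSectionVars false
set_option linter.style.haveILetI false
set_option linter.unusedSimpArgs false
universe u v w
open CategoryTheory CategoryTheory.Limits AlgebraicGeometry TopologicalSpace Opposite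
open Groth.Agent.Helper1
open Groth.Agent.Lib.Helper4.KosC1
open Groth.Agent.Lib.Helper4.KosC3
open Groth.Agent.Lib.Helper4.KosC4
open Groth.Agent.Lib.Helper4.SerreVan
open Groth.Agent.Lib.Helper4.RegRes1
open Groth.Agent.Lib.Helper4

namespace Groth.Agent.Lib.Helper4.Hyp1

section Hyp
variable (n : ℕ) (k : Type u) [Field k] (F : (CohB1.ProjSpace n k).Modules)
  (ι : CohB1.tensorMod F (Twist.twistProjSpace n k (-1)) ⟶ F) [Mono ι]

/-- the hyperplane sequence `0 → F(-1) → F → C → 0` -/
noncomputable abbrev hypSeq : ShortComplex (CohB1.ProjSpace n k).Modules :=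
  ShortComplex.mk ι (cokernel.π ι) (cokernel.condition ι)

theorem hypSeq_shortExact : (hypSeq n k F ι).ShortExact := by
  have hS' : (hypSeq n k F ι).Exact :=
    ShortComplex.exact_of_g_is_cokernel _ (cokernelIsCokernel ι)
  have : Mono (hypSeq n k F ι).f := inferInstanceAs (Mono ι)
  have : Epi (hypSeq n k F ι).g := inferInstanceAs (Epi (cokernel.π ι))
  exact { exact := hS' }

/-- the twisted hyperplane sequence `0 → F(-1)(j) → F(j) → C(j) → 0` -/
noncomputable abbrev hypTw (j : ℤ) : ShortComplex (CohB1.ProjSpace n k).Modules :=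
  (hypSeq n k F ι).map (Tw n k j)

theorem hypTw_shortExact (j : ℤ) : (hypTw n k F ι j).ShortExact :=
  TwExact.shortExact_map (SerreVan.locGen_twist n k j) (hypSeq_shortExact n k F ι)

/-- `F(-1)(j) ≅ F(j')` for `j' = j - 1` -/
theorem nonempty_X₁_iso (j j' : ℤ) (hj : j' = j - 1) :
    Nonempty ((hypTw n k F ι j).X₁ ≅ CohB1.tensorMod F (Twist.twistProjSpace n k j')) := by
  obtain ⟨e⟩ := nonempty_twist_twist_iso n k F (-1) j
  have h : -1 + j = j' := by omega
  exact ⟨e ≪≫ eqToIso (by rw [h])⟩

theorem s16627 (hF : Coh.IsCoh F) (m : ℤ) (hreg : Curv2.IsMRegular k n F m) :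
    Curv2.IsMRegular k n (cokernel ι) m := by
  intro i hi hin
  haveI : F.IsQuasicoherent := hF.1
  have hT := hypTw_shortExact n k F ι (m - i)
  have h2 : Subsingleton (Coh.HH (CohB1.ProjSpace n k) (hypTw n k F ι (m - i)).X₂ i) := hreg i hi hin
  have h1 : Subsingleton (Coh.HH (CohB1.ProjSpace n k) (hypTw n k F ι (m - i)).X₁ (i + 1)) := by
    obtain ⟨e⟩ := nonempty_X₁_iso n k F ι (m - i) (m - ((i + 1 : ℕ) : ℤ)) (by push_cast; ring)
    apply subsingleton_of_iso k (X := CohB1.ProjSpace n k) e.symm
    by_cases hlt : i + 1 ≤ n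
    · exact hreg (i + 1) (by omega) hlt
    · haveI := isQCoh_Tw n k (m - ((i + 1 : ℕ) : ℤ)) F
      exact Groth.Agent.S0022.result n k _ (i + 1) (by omega)
  exact subsingleton_X₃ k hT i h2 h1

end Hyp

end Groth.Agent.Lib.Helper4.Hyp1
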