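import Mathlib
import Groth.Agent.Lib.Helper4.Hyp1

/-!
# Mumford's lemma on hyperplane sequences: vanishing of higher cohomology, monotonicity of h^1, propagation of surjectivity on H^0 (helper4)
-/

set_option backward.isDefEq.respectTransparency.types false
set_option synthInstance.maxHeartbeats 400000
set_option autoImplicit false
set_option linter.unusedSectionVars false
set_option linter.style.haveILetI false
set_option linter.unusedSimpArgs false
universe u v w
open CategoryTheory CategoryTheory.Limits AlgebraicGeometry TopologicalSpace Opposite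
open CategoryTheory.Abelian
open Groth.Agent.Helper1
open Groth.Agent.Lib.Helper4.KosB1
open Groth.Agent.Lib.Helper4.KosC1
open Groth.Agent.Lib.Helper4.KosC3
open Groth.Agent.Lib.Helper4.KosC4
open Groth.Agent.Lib.Helper4.SerreVan
open Groth.Agent.Lib.Helper4.RegRes1
open Groth.Agent.Lib.Helper4.Hyp1
open Groth.Agent.Lib.Helper4.DuA1
open Groth.Agent.Lib.Helper4

namespace Groth.Agent.Lib.Helper4.Hyp2

section Ext
variable {C : Type u} [Category.{v} C] [Abelian C] [HasExt.{w} C]

theorem extClass_comp_f {S : ShortComplex C} (hS : S.ShortExact) {Z : C} {n : ℕ}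
    (x : Ext Z S.X₃ n) :
    (x.comp hS.extClass rfl).comp (Ext.mk₀ S.f) (add_zero (n + 1)) = 0 :=
  (Ext.comp_assoc_of_third_deg_zero x hS.extClass (Ext.mk₀ S.f) rfl).trans
    ((congrArg (fun t => x.comp t rfl) hS.extClass_comp).trans (Ext.comp_zero _ _ _ _ _))

end Ext

section General
variable (k : Type u) [Field k] {X : Scheme.{u}} [X.Over (Spec (CommRingCat.of k))]

theorem f_delta {S : ShortComplex X.Modules} (hS : S.ShortExact) (i : ℕ) (x : Coh.HH X S.X₃ i) :
    Canon.HHlin k S.f (i + 1) (HHFin2.deltaLin k hS i x) = 0 :=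
  extClass_comp_f.{u+1, u, u} (HHFin2.Sab_shortExact hS) x

theorem surj_H0_iff {M N : X.Modules} (φ : M ⟶ N) :
    Function.Surjective (Canon.HHlin k φ 0) ↔ Function.Surjective (φ.app ⊤) := by
  constructor
  · intro h t
    obtain ⟨y, hy⟩ := h ((HH0.equiv _ N).symm t)
    refine ⟨HH0.equiv _ _ y, ?_⟩
    rw [← HH0_natural k, hy, AddEquiv.apply_symm_apply]
  · intro h x
    obtain ⟨t, ht⟩ := h (HH0.equiv _ N x)
    refine ⟨(HH0.equiv _ M).symm t, ?_⟩
    apply (HH0.equiv _ N).injective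
    rw [HH0_natural k, AddEquiv.apply_symm_apply, ht]

/-- `H^0(g)` surjective implies `H^1(f)` injective -/
theorem inj_f1_of_surj_g0 {S : ShortComplex X.Modules} (hS : S.ShortExact)
    (hg : Function.Surjective (Canon.HHlin k S.g 0)) : Function.Injective (Canon.HHlin k S.f 1) := by
  rw [← LinearMap.ker_eq_bot, LinearMap.ker_eq_bot']
  intro y hy
  obtain ⟨x, hx⟩ := DuF5.exact_delta_f k hS 0 y hy
  obtain ⟨w, rfl⟩ := hg x
  rw [← hx, HHFin2.delta_g]

/-- `H^1(f)` injective implies `H^0(g)` surjective -/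
theorem surj_g0_of_inj_f1 {S : ShortComplex X.Modules} (hS : S.ShortExact)
    (hf : Function.Injective (Canon.HHlin k S.f 1)) : Function.Surjective (Canon.HHlin k S.g 0) := by
  intro x
  apply HHFin2.exact_g_delta k hS 0 x
  apply hf
  rw [f_delta, map_zero]

end General


section Mumford
variable (n : ℕ) (k : Type u) [Field k] (F : (CohB1.ProjSpace n k).Modules)
  (ι : CohB1.tensorMod F (Twist.twistProjSpace n k (-1)) ⟶ F) [Mono ι]
  (hF : Coh.IsCoh F) (m : ℤ) (hG : Curv2.IsMRegular k n (cokernel ι) m)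

include hF in
theorem isCoh_coker : Coh.IsCoh (cokernel ι) :=
  FtLocal.isCoh_cokernel (isCoh_Tw n k (-1) F hF) hF ι

include hF hG in
/-- vanishing for the cokernel -/
theorem vanG (q : ℕ) (c : ℤ) (hq : 1 ≤ q) (hc : m - q ≤ c) :
    Subsingleton (Coh.HH (CohB1.ProjSpace n k) ((Tw n k c).obj (cokernel ι)) q) := by
  have hGc := isCoh_coker n k F ι hF
  by_cases hqn : q ≤ n
  · have := isMRegular_of_le n k (cokernel ι) hGc m hG (c + q) (by omega) q hq hqn
    exact subsingleton_twist_congr n k _ (by ring) q this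
  · haveI : (cokernel ι).IsQuasicoherent := hGc.1
    haveI := isQCoh_Tw n k c (cokernel ι)
    exact Groth.Agent.S0022.result n k _ q (by omega)

include hF hG in
theorem vanF_step (i : ℕ) (hi : 2 ≤ i) (j : ℤ) (hj : m - i ≤ j)
    (h : Subsingleton (Coh.HH (CohB1.ProjSpace n k) ((Tw n k (j + 1)).obj F) i)) :
    Subsingleton (Coh.HH (CohB1.ProjSpace n k) ((Tw n k j).obj F) i) := by
  obtain ⟨i', rfl⟩ : ∃ i', i = i' + 1 := ⟨i - 1, by omega⟩
  have hT := hypTw_shortExact n k F ι (j + 1)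
  have h3 : Subsingleton (Coh.HH (CohB1.ProjSpace n k) (hypTw n k F ι (j + 1)).X₃ i') :=
    vanG n k F ι hF m hG i' (j + 1) (by omega) (by push_cast at hj ⊢; omega)
  have h1 := subsingleton_X₁ k hT i' h3 h
  obtain ⟨e⟩ := nonempty_X₁_iso n k F ι (j + 1) j (by ring)
  exact subsingleton_of_iso k (X := CohB1.ProjSpace n k) e (i' + 1) h1

include hF hG in
/-- part (i) -/
theorem vanF (i : ℕ) (hi : 2 ≤ i) (j : ℤ) (hj : m - i ≤ j) :
    Subsingleton (Coh.HH (CohB1.ProjSpace n k) ((Tw n k j).obj F) i) := by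
  obtain ⟨m₀, hm₀⟩ := serre_vanishing n k F hF
  have key : ∀ r : ℕ, ∀ j : ℤ, m - i ≤ j → m₀ ≤ j + r →
      Subsingleton (Coh.HH (CohB1.ProjSpace n k) ((Tw n k j).obj F) i) := by
    intro r
    induction r with
    | zero =>
      intro j _ h
      exact hm₀ j (by simpa using h) i (by omega)
    | succ r ih =>
      intro j hj h
      exact vanF_step n k F ι hF m hG i hi j hj (ih (j + 1) (by omega) (by push_cast at h ⊢; omega))
  exact key (m₀ - j).toNat j hj (by omega)

/-- the dimension of `H^1(F(j))` -/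
noncomputable def d1 (j : ℤ) : ℕ :=
  Module.finrank k (Coh.HH (CohB1.ProjSpace n k) ((Tw n k j).obj F) 1)

include hF in
theorem finite_Fj (j : ℤ) (i : ℕ) : Module.Finite k (Coh.HH (CohB1.ProjSpace n k) ((Tw n k j).obj F) i) :=
  SerreFin.s0038 n k _ (isCoh_Tw n k j F hF) i

include hF in
theorem finite_X₁ (j : ℤ) (i : ℕ) :
    Module.Finite k (Coh.HH (CohB1.ProjSpace n k) (hypTw n k F ι j).X₁ i) :=
  SerreFin.s0038 n k _ (isCoh_Tw n k j _ (isCoh_Tw n k (-1) F hF)) i

theorem finrank_X₁ (j j' : ℤ) (hj : j' = j - 1) :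
    Module.finrank k (Coh.HH (CohB1.ProjSpace n k) (hypTw n k F ι j).X₁ 1) = d1 n k F j' := by
  obtain ⟨e⟩ := nonempty_X₁_iso n k F ι j j' hj
  exact (HHFin1.HHequiv k e 1).finrank_eq

include hF hG in
theorem f1_surjective (j : ℤ) (hj : m - 1 ≤ j) :
    Function.Surjective (Canon.HHlin k (hypTw n k F ι j).f 1) := by
  intro y
  have h3 := vanG n k F ι hF m hG 1 j le_rfl (by simpa using hj)
  exact HHFin2.exact_f_g k (hypTw_shortExact n k F ι j) 1 y (Subsingleton.elim (h := h3) _ _)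

include hF hG in
/-- part (ii) -/
theorem d1_le (j j' : ℤ) (hj' : j' = j - 1) (hj : m - 1 ≤ j) : d1 n k F j ≤ d1 n k F j' := by
  haveI := finite_X₁ n k F ι hF j 1
  rw [← finrank_X₁ n k F ι j j' hj']
  exact LinearMap.finrank_le_finrank_of_surjective (f1_surjective n k F ι hF m hG j hj)

/-- surjectivity of `H^0(F(j)) → H^0(G(j))` -/
def SurjH0 (j : ℤ) : Prop := Function.Surjective (Canon.HHlin k (hypTw n k F ι j).g 0)

/-- the projection `F(c) → G(c)` -/
noncomputable def piTw (c : ℤ) : CohB1.tensorMod F (Twist.twistProjSpace n k c) ⟶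
    CohB1.tensorMod (cokernel ι) (Twist.twistProjSpace n k c) :=
  KoszTw.tensorMap (cokernel.π ι) (𝟙 (Twist.twistProjSpace n k c))

theorem hypTw_g (c : ℤ) : (hypTw n k F ι c).g = piTw n k F ι c :=
  KoszTw.tensorRightMod_map _ _

theorem mu_comm (c c' : ℤ) (hc : c' = ((1 : ℕ) : ℤ) + c) (l : Fin (n + 1)) :
    mu n k F c c' hc l ≫ piTw n k F ι c' = piTw n k F ι c ≫ mu n k (cokernel ι) c c' hc l := by
  unfold mu piTw
  rw [← KoszTw.tensorMap_comp, ← KoszTw.tensorMap_comp, Category.id_comp, Category.comp_id,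
    Category.id_comp, Category.comp_id]

theorem mu_comm_app (c c' : ℤ) (hc : c' = ((1 : ℕ) : ℤ) + c) (l : Fin (n + 1))
    (u : Γ(CohB1.tensorMod F (Twist.twistProjSpace n k c), ⊤)) :
    (piTw n k F ι c').app ⊤ ((mu n k F c c' hc l).app ⊤ u) =
      (mu n k (cokernel ι) c c' hc l).app ⊤ ((piTw n k F ι c).app ⊤ u) :=
  congrArg (fun φ => φ.app ⊤ u) (mu_comm n k F ι c c' hc l)

include hF hG in
theorem surj_piTw_succ (j j' : ℤ) (hj' : j' = j + 1) (hj : m ≤ j)
    (h : Function.Surjective ((piTw n k F ι j).app ⊤)) :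
    Function.Surjective ((piTw n k F ι j').app ⊤) := by
  have hGc := isCoh_coker n k F ι hF
  haveI : (cokernel ι).IsQuasicoherent := hGc.1
  have hc : j' = ((1 : ℕ) : ℤ) + j := by rw [hj']; push_cast; ring
  have hreg := isMRegular_of_le n k (cokernel ι) hGc m hG j hj
  intro s
  obtain ⟨t, ht⟩ := exists_sum_mul' n k (cokernel ι) j j' hc (fun q' hq hq' => hreg q' hq hq') s
  choose u hu using fun l => h (t l)
  refine ⟨∑ l, (mu n k F j j' hc l).app ⊤ (u l), ?_⟩
  rw [map_sum, ht]
  apply Finset.sum_congr rfl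
  intro l _
  rw [mu_comm_app, hu l]
  rfl

include hF hG in
theorem surjH0_succ (j j' : ℤ) (hj' : j' = j + 1) (hj : m ≤ j) (h : SurjH0 n k F ι j) :
    SurjH0 n k F ι j' := by
  unfold SurjH0 at h ⊢
  rw [surj_H0_iff, hypTw_g] at h ⊢
  exact surj_piTw_succ n k F ι hF m hG j j' hj' hj h

end Mumford

end Groth.Agent.Lib.Helper4.Hyp2
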