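import Mathlib
import Groth.Agent.Lib.Helper4.Hyp2

/-!
# Mumford's lemma: strict decrease of h^1 along a hyperplane sequence and the regularity bound (helper4)
-/

set_option backward.isDefEq.respectTransparency.types false
set_option synthInstance.maxHeartbeats 400000
set_option autoImplicit false
set_option linter.unusedSectionVars false
set_option linter.style.haveILetI false
set_option linter.unusedSimpArgs false
universe u v w
open CategoryTheory CategoryTheory.Limits AlgebraicGeometry TopologicalSpace Opposite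
open CategoryTheory.Abelian
open Groth.Agent.Helper1
open Groth.Agent.Lib.Helper4.KosB1
open Groth.Agent.Lib.Helper4.KosC1
open Groth.Agent.Lib.Helper4.KosC3
open Groth.Agent.Lib.Helper4.KosC4
open Groth.Agent.Lib.Helper4.SerreVan
open Groth.Agent.Lib.Helper4.RegRes1
open Groth.Agent.Lib.Helper4.Hyp1
open Groth.Agent.Lib.Helper4.Hyp2
open Groth.Agent.Lib.Helper4.DuA1
open Groth.Agent.Lib.Helper4

namespace Groth.Agent.Lib.Helper4.Hyp3

section Mumford
variable (n : ℕ) (k : Type u) [Field k] (F : (CohB1.ProjSpace n k).Modules)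
  (ι : CohB1.tensorMod F (Twist.twistProjSpace n k (-1)) ⟶ F) [Mono ι]
  (hF : Coh.IsCoh F) (m : ℤ) (hG : Curv2.IsMRegular k n (cokernel ι) m)

include hF in
theorem exists_d1_eq_zero : ∃ m₀ : ℤ, ∀ j, m₀ ≤ j → d1 n k F j = 0 := by
  obtain ⟨m₀, hm₀⟩ := serre_vanishing n k F hF
  refine ⟨m₀, fun j hj => ?_⟩
  haveI : Subsingleton (Coh.HH (CohB1.ProjSpace n k) ((Tw n k j).obj F) 1) := hm₀ j hj 1 one_pos
  exact Module.finrank_zero_of_subsingleton

include hF hG in
theorem d1_eq_of_surjH0 (j j' : ℤ) (hj' : j' = j - 1) (hj : m - 1 ≤ j) (h : SurjH0 n k F ι j) :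
    d1 n k F j = d1 n k F j' := by
  have hinj := inj_f1_of_surj_g0 k (hypTw_shortExact n k F ι j) h
  have hsur := f1_surjective n k F ι hF m hG j hj
  rw [← finrank_X₁ n k F ι j j' hj']
  exact (LinearEquiv.ofBijective _ ⟨hinj, hsur⟩).finrank_eq.symm

include hF hG in
theorem d1_eq_zero_of_surjH0 (j j' : ℤ) (hj' : j' = j - 1) (hj : m ≤ j) (h : SurjH0 n k F ι j) :
    d1 n k F j' = 0 := by
  obtain ⟨m₀, hm₀⟩ := exists_d1_eq_zero n k F hF
  have key : ∀ r : ℕ, SurjH0 n k F ι (j + r) ∧ d1 n k F (j + r) = d1 n k F j' := by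
    intro r
    induction r with
    | zero =>
      have e : j + ((0 : ℕ) : ℤ) = j := by simp
      rw [e]
      exact ⟨h, d1_eq_of_surjH0 n k F ι hF m hG j j' hj' (by omega) h⟩
    | succ r ih =>
      have hs : SurjH0 n k F ι (j + ((r + 1 : ℕ) : ℤ)) :=
        surjH0_succ n k F ι hF m hG (j + r) (j + ((r + 1 : ℕ) : ℤ)) (by push_cast; ring) (by omega) ih.1
      refine ⟨hs, ?_⟩
      rw [d1_eq_of_surjH0 n k F ι hF m hG (j + ((r + 1 : ℕ) : ℤ)) (j + r) (by push_cast; ring)
        (by push_cast; omega) hs]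
      exact ih.2
  have := (key (m₀ - j).toNat).2
  rw [← this]
  exact hm₀ _ (by omega)

include hF hG in
theorem d1_eq_zero_of_eq (j j' : ℤ) (hj' : j' = j - 1) (hj : m ≤ j) (h : d1 n k F j = d1 n k F j') :
    d1 n k F j' = 0 := by
  apply d1_eq_zero_of_surjH0 n k F ι hF m hG j j' hj' hj
  apply surj_g0_of_inj_f1 k (hypTw_shortExact n k F ι j)
  haveI : Module.Finite k (Coh.HH (CohB1.ProjSpace n k) (hypTw n k F ι j).X₁ 1) :=
    finite_X₁ n k F ι hF j 1
  haveI : Module.Finite k (Coh.HH (CohB1.ProjSpace n k) (hypTw n k F ι j).X₂ 1) :=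
    finite_Fj n k F hF j 1
  have hfr : Module.finrank k (Coh.HH (CohB1.ProjSpace n k) (hypTw n k F ι j).X₁ 1) =
      Module.finrank k (Coh.HH (CohB1.ProjSpace n k) (hypTw n k F ι j).X₂ 1) := by
    rw [finrank_X₁ n k F ι j j' hj', ← h]
    rfl
  exact (LinearMap.injective_iff_surjective_of_finrank_eq_finrank hfr).2
    (f1_surjective n k F ι hF m hG j (by omega))

include hF hG in
theorem d1_bound (r : ℕ) : d1 n k F (m - 1 + r) ≤ d1 n k F (m - 1) - r := by
  induction r with
  | zero => simp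
  | succ r ih =>
    have hle := d1_le n k F ι hF m hG (m - 1 + ((r + 1 : ℕ) : ℤ)) (m - 1 + r) (by push_cast; ring)
      (by push_cast; omega)
    rcases hle.eq_or_lt with heq | hlt
    · have := d1_eq_zero_of_eq n k F ι hF m hG (m - 1 + ((r + 1 : ℕ) : ℤ)) (m - 1 + r)
        (by push_cast; ring) (by push_cast; omega) heq
      omega
    · omega

include hF hG in
/-- part (iii) -/
theorem vanF1 (j : ℤ) (hj : m - 1 + (d1 n k F (m - 1) : ℤ) ≤ j) :
    Subsingleton (Coh.HH (CohB1.ProjSpace n k) ((Tw n k j).obj F) 1) := by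
  obtain ⟨r, rfl⟩ : ∃ r : ℕ, j = m - 1 + r := ⟨(j - (m - 1)).toNat, by omega⟩
  have hb := d1_bound n k F ι hF m hG r
  have h0 : d1 n k F (m - 1 + r) = 0 := by omega
  haveI := finite_Fj n k F hF (m - 1 + r) 1
  exact (Module.finrank_eq_zero_iff_of_free k _).1 h0

include hF hG in
theorem s11296 :
    (∀ (i : ℕ) (j : ℤ), 2 ≤ i → m - i ≤ j →
        Subsingleton (Coh.HH (CohB1.ProjSpace n k) (CohB1.tensorMod F (Twist.twistProjSpace n k j)) i)) ∧
    (∀ j : ℤ, m - 1 ≤ j →
        Module.finrank k (Coh.HH (CohB1.ProjSpace n k) (CohB1.tensorMod F (Twist.twistProjSpace n k j)) 1) ≤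
          Module.finrank k (Coh.HH (CohB1.ProjSpace n k) (CohB1.tensorMod F (Twist.twistProjSpace n k (j - 1))) 1)) ∧
    (∀ j : ℤ, m - 1 + (Module.finrank k (Coh.HH (CohB1.ProjSpace n k)
          (CohB1.tensorMod F (Twist.twistProjSpace n k (m - 1))) 1) : ℤ) ≤ j →
        Subsingleton (Coh.HH (CohB1.ProjSpace n k) (CohB1.tensorMod F (Twist.twistProjSpace n k j)) 1)) ∧
    Curv2.IsMRegular k n F (m + Module.finrank k (Coh.HH (CohB1.ProjSpace n k)
        (CohB1.tensorMod F (Twist.twistProjSpace n k (m - 1))) 1)) := by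
  refine ⟨fun i j hi hj => vanF n k F ι hF m hG i hi j hj,
    fun j hj => d1_le n k F ι hF m hG j (j - 1) rfl hj,
    fun j hj => vanF1 n k F ι hF m hG j hj, ?_⟩
  intro i hi hin
  rcases Nat.lt_or_ge i 2 with h2 | h2
  · obtain rfl : i = 1 := by omega
    exact vanF1 n k F ι hF m hG _ (by
      change m - 1 + (d1 n k F (m - 1) : ℤ) ≤ m + (d1 n k F (m - 1) : ℤ) - ((1 : ℕ) : ℤ)
      push_cast; omega)
  · exact vanF n k F ι hF m hG i h2 _ (by
      change m - (i : ℤ) ≤ m + (d1 n k F (m - 1) : ℤ) - (i : ℤ)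
      omega)

end Mumford

end Groth.Agent.Lib.Helper4.Hyp3
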