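import Mathlib
import Groth.Agent.Lib.Helper1.FtSupp
import Groth.Agent.Lib.Helper1.TwistSec
import Groth.Agent.S0453
import Groth.Agent.Lib.Helper4.ZeroDim1

/-!
# Coherent modules with zero-dimensional support on locally Noetherian schemes are flasque, hence acyclic (helper4)
-/

set_option backward.isDefEq.respectTransparency.types false
set_option synthInstance.maxHeartbeats 400000
set_option autoImplicit false
set_option linter.unusedSectionVars false
set_option linter.style.haveILetI false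
set_option linter.unusedSimpArgs false
universe u v w
open CategoryTheory CategoryTheory.Limits AlgebraicGeometry TopologicalSpace Opposite
open Groth.Agent.Helper1
open Groth.Agent.Helper1.QcCech
open Groth.Agent.Lib.Helper4

namespace Groth.Agent.Lib.Helper4.ZeroDim2

variable {X : Scheme.{u}} (M : X.Modules)

/-- the support of a section -/
def secSupp {V : X.Opens} (s : Γ(M, V)) : Set X :=
  {x | x ∈ V ∧ ∀ (O : X.Opens) (hO : O ≤ V), x ∈ O → res M hO s ≠ 0}

theorem secSupp_subset_support {V : X.Opens} (s : Γ(M, V)) : secSupp M s ⊆ CohB1.support M := by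
  rintro x ⟨hxV, hx⟩ hsub
  have : M.presheaf.germ V x hxV s = M.presheaf.germ V x hxV 0 := Subsingleton.elim _ _
  obtain ⟨O, hxO, i1, i2, h⟩ := TopCat.Presheaf.germ_eq M.presheaf x hxV hxV _ _ this
  rw [map_zero] at h
  exact hx O (leOfHom i1) hxO h

theorem res_eq_zero_of_disjoint {V O : X.Opens} (s : Γ(M, V)) (hO : O ≤ V)
    (h : ∀ x ∈ O, x ∉ secSupp M s) : res M hO s = 0 := by
  apply TwistSec.eq_of_locally M
  intro x hx
  have h1 := h x hx
  obtain ⟨O', hO', hxO', h0⟩ : ∃ (O' : X.Opens) (hO' : O' ≤ V), x ∈ O' ∧ res M hO' s = 0 := by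
    by_contra hcon
    push Not at hcon
    exact h1 ⟨hO hx, fun O' hO' hx' => hcon O' hO' hx'⟩
  refine ⟨O ⊓ O', inf_le_left, ⟨hx, hxO'⟩, ?_⟩
  rw [res_res, map_zero]
  have e : res M ((inf_le_left : O ⊓ O' ≤ O).trans hO) s =
      res M (inf_le_right : O ⊓ O' ≤ O') (res M hO' s) := (res_res M hO' inf_le_right s).symm
  rw [e, h0, map_zero]


variable [IsLocallyNoetherian X]

theorem exists_extension (hM : SheafOfModules.IsFiniteType.{u, u, u} M)
    (h0 : ∀ x ∈ CohB1.support M, IsClosed ({x} : Set X)) {U V : X.Opens} (hVU : V ≤ U)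
    (s : Γ(M, V)) : ∃ t : Γ(M, U), res M hVU t = s := by
  have hC : IsClosed (secSupp M s) :=
    ZeroDim1.isClosed_of_subset_closed_points X _ (FtGen.isClosed_support M hM) h0 _
      (secSupp_subset_support M s)
  let W' : X.Opens := U ⊓ ⟨(secSupp M s)ᶜ, hC.isOpen_compl⟩
  let Wf : Bool → X.Opens := fun b => Bool.rec W' V b
  have hWU : ∀ b, Wf b ≤ U := by
    intro b
    cases b
    · exact inf_le_left
    · exact hVU
  have hcov : U ≤ ⨆ b, Wf b := by
    intro x hx
    rw [Opens.mem_iSup]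
    by_cases hxs : x ∈ secSupp M s
    · exact ⟨true, hxs.1⟩
    · exact ⟨false, ⟨hx, hxs⟩⟩
  let sf : ∀ b, Γ(M, Wf b) := fun b => Bool.rec (motive := fun b => Γ(M, Wf b)) (0 : Γ(M, W')) s b
  have hzero : ∀ (O : X.Opens) (hO : O ≤ V), O ≤ W' → res M hO s = 0 := by
    intro O hO hOW
    apply res_eq_zero_of_disjoint
    intro x hx
    exact (hOW hx).2
  have hc : ∀ i j, res M (inf_le_left : Wf i ⊓ Wf j ≤ Wf i) (sf i) =
      res M (inf_le_right : Wf i ⊓ Wf j ≤ Wf j) (sf j) := by
    intro i j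
    cases i <;> cases j
    · rfl
    · change res M _ (0 : Γ(M, W')) = res M (inf_le_right : W' ⊓ V ≤ V) s
      rw [map_zero, hzero _ _ inf_le_left]
    · change res M (inf_le_left : V ⊓ W' ≤ V) s = res M _ (0 : Γ(M, W'))
      rw [map_zero, hzero _ _ inf_le_right]
    · change res M _ s = res M _ s
      rfl
  obtain ⟨t, ht⟩ := TwistSec.glue_of_compatible M Wf U hWU hcov sf hc
  exact ⟨t, ht true⟩

theorem isFlasque_toAb (hM : SheafOfModules.IsFiniteType.{u, u, u} M)
    (h0 : ∀ x ∈ CohB1.support M, IsClosed ({x} : Set X)) :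
    TopCat.Sheaf.IsFlasque (Coh.toAb M) := by
  constructor
  intro U V i
  rw [AddCommGrpCat.epi_iff_surjective]
  intro s
  obtain ⟨t, ht⟩ := exists_extension M hM h0 (leOfHom i.unop) s
  exact ⟨t, ht⟩

theorem s0047 (hM : Coh.IsCoh M) (h0 : ∀ x ∈ CohB1.support M, IsClosed ({x} : Set X))
    (i : ℕ) (hi : 0 < i) : Subsingleton (Coh.HH X M i) := by
  haveI := isFlasque_toAb M hM.2 h0
  obtain ⟨j, rfl⟩ : ∃ j, i = j + 1 := ⟨i - 1, by omega⟩
  exact Groth.Agent.S0453.result (Coh.toAb M) j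
end Groth.Agent.Lib.Helper4.ZeroDim2
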