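import Mathlib
import Groth.Prelude.Def_ega3
import Groth.Prelude.Def_Pi1
import Groth.Agent.Lib.Helper4.ZMTBirational

/-!
# f_* O_X = O_Y for proper dominant f with normal target and algebraically closed function field; integrality of sections under proper morphisms (helper4)
-/

set_option backward.isDefEq.respectTransparency.types false
set_option synthInstance.maxHeartbeats 400000
set_option autoImplicit false
set_option linter.unusedSectionVars false
set_option linter.style.haveILetI false
set_option linter.unusedSimpArgs false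
universe u v w
open CategoryTheory CategoryTheory.Limits AlgebraicGeometry TopologicalSpace IsLocalRing

namespace Groth.Agent.Lib.Helper4.ProperPush1

theorem appTop_toSpecΓ_SpecMap {X : Scheme.{u}} {R : CommRingCat.{u}} (ψ : R ⟶ Γ(X, ⊤)) :
    (X.toSpecΓ ≫ Spec.map ψ).appTop = (Scheme.ΓSpecIso R).hom ≫ ψ := by
  rw [Scheme.Hom.comp_appTop, Scheme.toSpecΓ_appTop]
  exact Scheme.ΓSpecIso_naturality ψ

/-- global sections of a scheme proper over an affine scheme are integral over the base ring -/
theorem isIntegral_appTop_of_isProper {X Y : Scheme.{u}} [IsAffine Y] (f : X ⟶ Y) [IsProper f] :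
    f.appTop.hom.IsIntegral := by
  intro s
  -- the ring map A[t] → Γ(X, ⊤)
  let A := Γ(Y, ⊤)
  let B := Γ(X, ⊤)
  let φ : Polynomial A →+* B := Polynomial.eval₂RingHom f.appTop.hom s
  let R := Polynomial A ⧸ RingHom.ker φ
  let φbar : R →+* B := RingHom.kerLift φ
  have hφbar : Function.Injective φbar := RingHom.kerLift_injective φ
  let ι : A →+* R := (Ideal.Quotient.mk (RingHom.ker φ)).comp Polynomial.C
  have hcomp : φbar.comp ι = f.appTop.hom := by
    ext a
    change φ.kerLift (Ideal.Quotient.mk (RingHom.ker φ) (Polynomial.C a)) = _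
    rw [RingHom.kerLift_mk]
    simp [φ]
  let hbar : X ⟶ Spec (CommRingCat.of R) := X.toSpecΓ ≫ Spec.map (CommRingCat.ofHom φbar)
  let π : Spec (CommRingCat.of R) ⟶ Spec A := Spec.map (CommRingCat.ofHom ι)
  have hfac : hbar ≫ π = f ≫ Y.toSpecΓ := by
    simp only [hbar, π, Category.assoc]
    rw [← Spec.map_comp, ← CommRingCat.ofHom_comp, hcomp]
    exact (Scheme.toSpecΓ_naturality f).symm
  haveI : IsIso Y.toSpecΓ := inferInstance
  haveI hprop : IsProper (hbar ≫ π) := by rw [hfac]; infer_instance
  haveI : IsProper hbar := IsProper.of_comp hbar π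
  haveI : CompactSpace X := by
    haveI : QuasiCompact f := inferInstance
    exact QuasiCompact.compactSpace_of_compactSpace f
  haveI : IsDominant hbar := by
    apply isDominant_of_of_appTop_injective
    rw [appTop_toSpecΓ_SpecMap]
    exact hφbar.comp (ConcreteCategory.bijective_of_isIso (Scheme.ΓSpecIso (CommRingCat.of R)).hom).1
  haveI : Surjective hbar := by
    constructor
    have hcl : IsClosed (Set.range hbar) := hbar.isClosedMap.isClosed_range
    have hd : DenseRange hbar := hbar.denseRange
    intro z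
    have := hd.closure_range ▸ (Set.mem_univ z)
    rwa [hcl.closure_eq] at this
  haveI : UniversallyClosed π := UniversallyClosed.of_comp_surjective hbar π
  haveI : LocallyOfFiniteType π := by
    rw [HasRingHomProperty.Spec_iff (P := @LocallyOfFiniteType)]
    change ι.FiniteType
    refine RingHom.FiniteType.comp ?_ ?_
    · exact RingHom.FiniteType.of_surjective _ Ideal.Quotient.mk_surjective
    · change (algebraMap A (Polynomial A)).FiniteType
      exact RingHom.finiteType_algebraMap.mpr inferInstance
  haveI : IsProper π := { }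
  haveI : IsFinite π := (IsFinite.iff_isProper_and_isAffineHom).mpr ⟨inferInstance, inferInstance⟩
  have hfin : ι.Finite := (IsFinite.SpecMap_iff (CommRingCat.ofHom ι)).mp inferInstance
  have hint : ι.IsIntegralElem (Ideal.Quotient.mk _ Polynomial.X) := hfin.to_isIntegral _
  obtain ⟨p, hp, hpe⟩ := hint
  refine ⟨p, hp, ?_⟩
  have h1 : φbar (Ideal.Quotient.mk _ Polynomial.X) = s := by
    change φ.kerLift (Ideal.Quotient.mk (RingHom.ker φ) Polynomial.X) = _
    rw [RingHom.kerLift_mk]
    simp [φ]
  rw [← h1, ← hcomp, ← Polynomial.hom_eval₂, hpe, map_zero]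



theorem isIntegral_appLE_congr {X Y : Scheme.{u}} (f : X ⟶ Y) (W W' : Y.Opens) (V V' : X.Opens)
    (e : V ≤ f ⁻¹ᵁ W) (e' : V' ≤ f ⁻¹ᵁ W') (hW : W = W') (hV : V = V')
    (h : (f.appLE W V e).hom.IsIntegral) : (f.appLE W' V' e').hom.IsIntegral := by
  subst hW hV
  exact h

/-- sections over the preimage of an affine open under a proper morphism are integral -/
theorem isIntegral_app_of_isProper {X Y : Scheme.{u}} (f : X ⟶ Y) [IsProper f] (W : Y.Opens)
    (hW : IsAffineOpen W) : (f.app W).hom.IsIntegral := by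
  haveI : IsAffine W.toScheme := hW
  have h1 := isIntegral_appTop_of_isProper (f ∣_ W)
  rw [Scheme.Hom.appTop, morphismRestrict_app'] at h1
  rw [Scheme.Hom.app_eq_appLE]
  refine isIntegral_appLE_congr f _ _ _ _ _ _ ?_ ?_ h1
  · simp
  · simp


open Groth.Agent.Lib.Helper4.ZMTBirational

section
variable {X Y : Scheme.{u}} [IsIntegral X] [IsIntegral Y] (f : X ⟶ Y)
    (hdom : f.base (genericPoint X) ⤳ genericPoint Y)

theorem map_genericPoint_of_specializes (hdom : f.base (genericPoint X) ⤳ genericPoint Y) :
    f (genericPoint X) = genericPoint Y := by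
  have h2 : genericPoint Y ⤳ f (genericPoint X) :=
    (genericPoint_spec Y).specializes (by simp)
  exact (hdom.antisymm h2).eq

theorem stalkToFunctionField_germ (hdom : f.base (genericPoint X) ⤳ genericPoint Y)
    (V : Y.Opens) (hV : genericPoint Y ∈ V) (a : Γ(Y, V)) :
    CohIII.stalkToFunctionField f (genericPoint Y) hdom
        ((Y.presheaf.germ V (genericPoint Y) hV).hom a) =
      (X.presheaf.germ (f ⁻¹ᵁ V) (genericPoint X) (hdom.mem_open V.2 hV)).hom ((f.app V).hom a) := by
  unfold CohIII.stalkToFunctionField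
  rw [RingHom.comp_apply]
  have h1 := congrArg (fun ψ => ψ.hom a)
    (TopCat.Presheaf.germ_stalkSpecializes Y.presheaf hV hdom)
  simp only [CommRingCat.hom_comp, RingHom.comp_apply] at h1
  rw [h1]
  exact Scheme.Hom.germ_stalkMap_apply f V (genericPoint X) (hdom.mem_open V.2 hV) a

theorem app_injective_of_dominant (hdom : f.base (genericPoint X) ⤳ genericPoint Y)
    (V : Y.Opens) (hV : genericPoint Y ∈ V) : Function.Injective (f.app V).hom := by
  rw [injective_iff_map_eq_zero]
  intro a ha
  have h1 := stalkToFunctionField_germ f hdom V hV a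
  rw [ha, map_zero] at h1
  have h2 : (Y.presheaf.germ V (genericPoint Y) hV).hom a = 0 :=
    (CohIII.stalkToFunctionField f (genericPoint Y) hdom).injective (by rw [h1, map_zero])
  exact germ_injective_of_isIntegral Y (genericPoint Y) hV (by rw [h2, map_zero])

theorem app_surjective_of_affine [IsProper f] (hY : Pi1.IsNormalScheme Y)
    (hdom : f.base (genericPoint X) ⤳ genericPoint Y)
    (halg : ∀ x : X.functionField,
      (∃ p : Polynomial Y.functionField, p ≠ 0 ∧
        Polynomial.eval₂ (CohIII.stalkToFunctionField f (genericPoint Y) hdom) x p = 0) →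
      x ∈ Set.range (CohIII.stalkToFunctionField f (genericPoint Y) hdom))
    (W : Y.Opens) (hW : IsAffineOpen W) (hηW : genericPoint Y ∈ W) :
    Function.Surjective (f.app W).hom := by
  intro s
  haveI : Nonempty W := ⟨⟨_, hηW⟩⟩
  haveI : IsIntegrallyClosed Γ(Y, W) := isIntegrallyClosed_sections (fun y => (hY y).2) hW
  haveI := functionField_isFractionRing_of_isAffineOpen Y W hW
  have hηX : genericPoint X ∈ f ⁻¹ᵁ W := hdom.mem_open W.2 hηW
  obtain ⟨p, hp, hps⟩ := isIntegral_app_of_isProper f W hW s
  set σ := CohIII.stalkToFunctionField f (genericPoint Y) hdom with hσ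
  set gY := (Y.presheaf.germ W (genericPoint Y) hηW).hom with hgY
  set gX := (X.presheaf.germ (f ⁻¹ᵁ W) (genericPoint X) hηX).hom with hgX
  have hsq : σ.comp gY = gX.comp (f.app W).hom :=
    RingHom.ext (fun a => stalkToFunctionField_germ f hdom W hηW a)
  have hroot : Polynomial.eval₂ σ (gX s) (p.map gY) = 0 := by
    rw [Polynomial.eval₂_map, hsq, ← Polynomial.hom_eval₂, hps, map_zero]
  obtain ⟨y, hy⟩ := halg (gX s) ⟨p.map gY, (hp.map gY).ne_zero, hroot⟩
  have hyroot : Polynomial.eval₂ gY y p = 0 := by
    apply σ.injective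
    rw [Polynomial.hom_eval₂, map_zero, hy, ← Polynomial.eval₂_map]
    exact hroot
  have hyint : IsIntegral Γ(Y, W) y := ⟨p, hp, hyroot⟩
  obtain ⟨a, ha⟩ := IsIntegrallyClosed.isIntegral_iff.mp hyint
  refine ⟨a, ?_⟩
  apply germ_injective_of_isIntegral X (genericPoint X) hηX
  have h3 := stalkToFunctionField_germ f hdom W hηW a
  change σ (gY a) = gX ((f.app W).hom a) at h3
  rw [← h3]
  have : gY a = y := ha
  rw [this, hy]

end



theorem isIso_app_of_affine {X Y : Scheme.{u}} (f : X ⟶ Y)
    (h : ∀ W : Y.affineOpens, IsIso (f.app W.1)) (V : Y.Opens) : IsIso (f.app V) := by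
  let F : TopCat.Sheaf CommRingCat Y := Y.sheaf
  let G : TopCat.Sheaf CommRingCat Y := (TopCat.Sheaf.pushforward CommRingCat f.base).obj X.sheaf
  let φ : F ⟶ G := ObjectProperty.homMk f.c
  have hB : Opens.IsBasis (Set.range (fun W : Y.affineOpens => (W : Y.Opens))) := by
    rw [Subtype.range_coe]; exact Y.isBasis_affineOpens
  haveI : IsIso φ :=
    TopCat.Sheaf.isIso_iff_isIso_basis (B := fun W : Y.affineOpens => (W : Y.Opens)) hB
      (fun W => h W)
  haveI : IsIso φ.hom := (inferInstance : IsIso ((TopCat.Sheaf.forget CommRingCat Y).map φ))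
  exact NatIso.isIso_app_of_isIso φ.hom (Opposite.op V)


open Groth.Agent.Lib.Helper4.ZMTBirational

theorem S2422_main {X Y : Scheme.{u}}
    [IsIntegral X] [IsIntegral Y]
    (hY : Pi1.IsNormalScheme Y) (f : X ⟶ Y) [IsProper f]
    (hdom : f.base (genericPoint X) ⤳ genericPoint Y)
    (halg : ∀ x : X.functionField,
      (∃ p : Polynomial Y.functionField, p ≠ 0 ∧
        Polynomial.eval₂ (CohIII.stalkToFunctionField f (genericPoint Y) hdom) x p = 0) →
      x ∈ Set.range (CohIII.stalkToFunctionField f (genericPoint Y) hdom)) :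
    ∀ V : Y.Opens, IsIso (f.app V) := by
  apply isIso_app_of_affine
  intro W
  by_cases hne : ((W : Y.Opens) : Set Y).Nonempty
  · have hηW : genericPoint Y ∈ (W : Y.Opens) :=
      ((genericPoint_spec Y).mem_open_set_iff W.1.isOpen).mpr (by simpa using hne)
    exact (ConcreteCategory.isIso_iff_bijective _).mpr
      ⟨app_injective_of_dominant f hdom W.1 hηW,
        app_surjective_of_affine f hY hdom halg W.1 W.2 hηW⟩
  · have hUbot : (W : Y.Opens) = ⊥ := by
      ext x
      simp only [Opens.coe_bot, Set.mem_empty_iff_false, iff_false]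
      exact fun hx => hne ⟨x, hx⟩
    rw [hUbot]
    haveI : Subsingleton Γ(X, f ⁻¹ᵁ (⊥ : Y.Opens)) := by
      have : f ⁻¹ᵁ (⊥ : Y.Opens) = ⊥ := rfl
      rw [this]; infer_instance
    haveI : Subsingleton Γ(Y, (⊥ : Y.Opens)) := inferInstance
    refine (ConcreteCategory.isIso_iff_bijective _).mpr ⟨?_, ?_⟩
    · intro a b _; exact Subsingleton.elim a b
    · intro s; exact ⟨0, Subsingleton.elim _ _⟩


end Groth.Agent.Lib.Helper4.ProperPush1
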