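import Mathlib
import Groth.Prelude.Def_BlowUp2
import Groth.Agent.Lib.Helper4.EffCartier
import Groth.Agent.S1682
import Groth.Agent.S10855

/-!
# Helper4: lemmas on `BlowUp.IsBlowUp` (universal-property blow-ups)
-/
universe u
open CategoryTheory AlgebraicGeometry TopologicalSpace

namespace Groth.Agent.Helper4.BlowUpLemmas
open Groth.Agent.Helper4

/-- local principality is preserved by pullback -/
theorem locPrincipal_comap {X Y : Scheme.{u}} (f : X ⟶ Y) (𝓓 : Y.IdealSheafData)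
    (h : ∀ y : Y, ∃ V : Y.affineOpens, y ∈ V.1 ∧ ∃ t : Γ(Y, V.1), 𝓓.ideal V = Ideal.span {t}) :
    ∀ x : X, ∃ U : X.affineOpens, x ∈ U.1 ∧ ∃ a : Γ(X, U.1), (𝓓.comap f).ideal U = Ideal.span {a} := by
  intro x
  obtain ⟨V, hxV, t, hJt⟩ := h (f x)
  have hxfV : x ∈ f ⁻¹ᵁ V.1 := hxV
  obtain ⟨U, hU, hxU, hUV⟩ := Opens.isBasis_iff_nbhd.mp (X.isBasis_affineOpens) hxfV
  have hcomap := IdealComap.ideal_comap_eq_map f 𝓓 ⟨U, hU⟩ V hUV
  rw [hJt, Ideal.map_span, Set.image_singleton] at hcomap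
  exact ⟨⟨U, hU⟩, hxU, _, hcomap⟩

/-- The pullback of an effective Cartier divisor along a blowing up (in any centre) is an
effective Cartier divisor. -/
theorem comap_of_isBlowUp {X X' : Scheme.{u}} (𝓚 : X.IdealSheafData) (b : X' ⟶ X)
    (hb : BlowUp.IsBlowUp b 𝓚) (𝓓 : X.IdealSheafData) (hD : BlowUp.IsEffCartierIdeal 𝓓) :
    BlowUp.IsEffCartierIdeal (𝓓.comap b) := by
  let W : X.Opens := 𝓚.support.compl
  let D : X'.Opens := b ⁻¹ᵁ W
  have hiso : IsIso (b ∣_ W) := Groth.Agent.S1682.result 𝓚 b hb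
  apply EffCartier.of_dense_of_locPrincipal (𝓓.comap b) D
  · intro V P hPV hP
    apply EffCartier.res_injective hb.1 V P hPV
    intro x hxV hx
    rw [Scheme.IdealSheafData.support_comap] at hx
    exact hP x hxV hx
  · intro y hy
    apply EffCartier.isEffCartierAt_of_comap_ι D _ y hy
    rw [← Scheme.IdealSheafData.comap_comp]
    have hflat : Flat (D.ι ≫ b) := by
      rw [← morphismRestrict_ι]
      infer_instance
    exact Groth.Agent.S10855.result (D.ι ≫ b) 𝓓 hD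
  · apply locPrincipal_comap
    intro y
    obtain ⟨V, hyV, t, -, ht⟩ := hD y
    exact ⟨V, hyV, t, ht⟩


/-- A blowing up pulls nonzerodivisors on affine opens back to nonzerodivisors (on any open
of the preimage). -/
theorem nzd_appLE_of_isBlowUp {X X' : Scheme.{u}} (𝓚 : X.IdealSheafData) (b : X' ⟶ X)
    (hb : BlowUp.IsBlowUp b 𝓚) (V : X.affineOpens) (t : Γ(X, V.1))
    (ht : t ∈ nonZeroDivisors Γ(X, V.1)) (O : X'.Opens) (e : O ≤ b ⁻¹ᵁ V.1) :
    (b.appLE V.1 O e).hom t ∈ nonZeroDivisors Γ(X', O) := by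
  let W : X.Opens := 𝓚.support.compl
  let D : X'.Opens := b ⁻¹ᵁ W
  have hiso : IsIso (b ∣_ W) := Groth.Agent.S1682.result 𝓚 b hb
  have hflat : Flat (D.ι ≫ b) := by
    rw [← morphismRestrict_ι]
    infer_instance
  rw [mem_nonZeroDivisors_iff_right]
  intro s hs
  have hle : O ⊓ D ≤ O := inf_le_left
  apply EffCartier.res_injective hb.1 O (O ⊓ D) hle
  · intro x hxO hx
    rw [Scheme.IdealSheafData.support_comap] at hx
    exact ⟨hxO, hx⟩
  rw [map_zero]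
  refine X'.IsSheaf.section_ext fun y hy ↦ ?_
  have hyD : y ∈ D := hy.2
  have hyO : (⟨y, hyD⟩ : D) ∈ D.ι ⁻¹ᵁ O := hy.1
  obtain ⟨O'', hO'', hyO'', hO''O⟩ :=
    Opens.isBasis_iff_nbhd.mp ((D : Scheme.{u}).isBasis_affineOpens) hyO
  have hO'le : D.ι ''ᵁ O'' ≤ O ⊓ D := by
    rintro _ ⟨z, hz, rfl⟩
    exact ⟨hO''O hz, z.2⟩
  refine ⟨D.ι ''ᵁ O'', hO'le, ⟨⟨y, hyD⟩, hyO'', rfl⟩, ?_⟩
  rw [map_zero]
  have e'' : O'' ≤ (D.ι ≫ b) ⁻¹ᵁ V.1 := by
    intro z hz
    exact e (hO''O hz)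
  have hfl : ((D.ι ≫ b).appLE V.1 O'' e'').hom.Flat :=
    HasRingHomProperty.appLE (P := @Flat) (D.ι ≫ b) hflat V ⟨O'', hO''⟩ e''
  have e' : D.ι ''ᵁ O'' ≤ b ⁻¹ᵁ V.1 := (hO'le.trans hle).trans e
  have heq : (D.ι ≫ b).appLE V.1 O'' e'' = b.appLE V.1 (D.ι ''ᵁ O'') e' := by
    rw [Scheme.Hom.comp_appLE, Scheme.Opens.ι_appLE]
    rfl
  have hnzd' : (b.appLE V.1 (D.ι ''ᵁ O'') e').hom t ∈ nonZeroDivisors Γ(X', D.ι ''ᵁ O'') := by
    have := EffCartier.nzd_of_flat _ hfl t ht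
    rw [heq] at this
    exact this
  have hres : (X'.presheaf.map (homOfLE (hO'le.trans hle)).op).hom ((b.appLE V.1 O e).hom t) =
      (b.appLE V.1 (D.ι ''ᵁ O'') e').hom t := by
    rw [← CommRingCat.comp_apply, Scheme.Hom.appLE_map]
  have hcomp : (X'.presheaf.map (homOfLE hO'le).op).hom ((X'.presheaf.map (homOfLE hle).op).hom s) =
      (X'.presheaf.map (homOfLE (hO'le.trans hle)).op).hom s := by
    rw [← CommRingCat.comp_apply, ← Functor.map_comp]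
    rfl
  have key : (X'.presheaf.map (homOfLE (hO'le.trans hle)).op).hom s *
      (b.appLE V.1 (D.ι ''ᵁ O'') e').hom t = 0 := by
    rw [← hres, ← map_mul, hs, map_zero]
  exact hcomp.trans (mem_nonZeroDivisors_iff_right.mp hnzd' _ key)

end Groth.Agent.Helper4.BlowUpLemmas
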