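import Mathlib
import Groth.Agent.Lib.Helper8.Serre1
import Groth.Agent.Lib.Helper8.Depth13
import Groth.Agent.Lib.Helper4.LocClosedPt1

/-!
# Localizing properties of stalks can be checked at closed points (locally Noetherian schemes); Cohen-Macaulay case (helper4)
-/

set_option backward.isDefEq.respectTransparency.types false
set_option synthInstance.maxHeartbeats 400000
set_option autoImplicit false
set_option linter.unusedSectionVars false
set_option linter.style.haveILetI false
set_option linter.unusedSimpArgs false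
universe u v w

namespace Groth.Agent.Lib.Helper4.StalkClosedPt1
open AlgebraicGeometry TopologicalSpace LocCoh Groth.Agent.Helper8.Depth Groth.Agent.Helper8.Serre

/-- A local property of rings which is stable under localization at primes and ring isomorphisms
passes from `A_q` to `A_p` for `p ≤ q`. -/
theorem prop_of_le (P : ∀ (S : Type u) [CommRing S], Prop)
    (hloc : ∀ (S : Type u) [CommRing S] (p : Ideal S) [p.IsPrime], P S → P (Localization.AtPrime p))
    (hequiv : ∀ (S S' : Type u) [CommRing S] [CommRing S'], (S ≃+* S') → P S → P S')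
    {A : Type u} [CommRing A] (p q : Ideal A) [p.IsPrime] [q.IsPrime]
    (hpq : p ≤ q) (Sq Sp : Type u) [CommRing Sq] [CommRing Sp] [Algebra A Sq] [Algebra A Sp]
    [IsLocalization.AtPrime Sq q] [IsLocalization.AtPrime Sp p] (hq : P Sq) : P Sp := by
  have hdisj : Disjoint (q.primeCompl : Set A) (p : Set A) := by
    rw [Set.disjoint_left]
    intro a ha hap
    exact ha (hpq hap)
  haveI hP : (p.map (algebraMap A Sq)).IsPrime :=
    IsLocalization.isPrime_of_isPrime_disjoint q.primeCompl Sq p inferInstance hdisj
  have hcomap : (p.map (algebraMap A Sq)).comap (algebraMap A Sq) = p :=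
    IsLocalization.under_map_of_isPrime_disjoint q.primeCompl Sq inferInstance hdisj
  set Q := p.map (algebraMap A Sq) with hQdef
  have hPQ : P (Localization.AtPrime Q) := hloc Sq Q hq
  have h1 := IsLocalization.isLocalization_isLocalization_atPrime_isLocalization q.primeCompl
    (Localization.AtPrime Q) Q
  have aux : ∀ (I : Ideal A) [I.IsPrime], I = p →
      IsLocalization I.primeCompl (Localization.AtPrime Q) →
      IsLocalization p.primeCompl (Localization.AtPrime Q) := by
    intro I _ h hI
    subst h
    exact hI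
  haveI h2 : IsLocalization p.primeCompl (Localization.AtPrime Q) := aux _ hcomap h1
  exact hequiv _ _ (IsLocalization.algEquiv p.primeCompl (Localization.AtPrime Q) Sp).toRingEquiv hPQ

/-- A property of local rings as above holds at all points of a locally Noetherian scheme as soon
as it holds at the closed points. -/
theorem stalk_prop_of_closedPoints (P : ∀ (S : Type u) [CommRing S], Prop)
    (hloc : ∀ (S : Type u) [CommRing S] (p : Ideal S) [p.IsPrime], P S → P (Localization.AtPrime p))
    (hequiv : ∀ (S S' : Type u) [CommRing S] [CommRing S'], (S ≃+* S') → P S → P S')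
    (X : Scheme.{u}) [IsLocallyNoetherian X]
    (h : ∀ x : X, IsClosed ({x} : Set X) → P (X.presheaf.stalk x)) (x : X) :
    P (X.presheaf.stalk x) := by
  obtain ⟨y, hy, hycl⟩ := Groth.Agent.Lib.Helper4.LocClosedPt1.exists_closedPoint X
    (closure {x}) isClosed_closure ⟨x, subset_closure rfl⟩
  have hxy : x ⤳ y := specializes_iff_mem_closure.mpr hy
  obtain ⟨W, hW, hyW, -⟩ := exists_isAffineOpen_mem_and_subset (x := y) (U := ⊤) trivial
  have hxW : x ∈ W := hxy.mem_open W.isOpen hyW
  letI := X.presheaf.algebra_section_stalk (U := W) ⟨x, hxW⟩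
  letI := X.presheaf.algebra_section_stalk (U := W) ⟨y, hyW⟩
  haveI := hW.isLocalization_stalk ⟨x, hxW⟩
  haveI := hW.isLocalization_stalk ⟨y, hyW⟩
  have hle : (hW.primeIdealOf ⟨x, hxW⟩).asIdeal ≤ (hW.primeIdealOf ⟨y, hyW⟩).asIdeal := by
    have hemb : Topology.IsOpenEmbedding hW.fromSpec := hW.fromSpec.isOpenEmbedding
    change hW.primeIdealOf ⟨x, hxW⟩ ≤ hW.primeIdealOf ⟨y, hyW⟩
    rw [PrimeSpectrum.le_iff_specializes]
    refine (hemb.isInducing.specializes_iff
      (x := (hW.primeIdealOf ⟨x, hxW⟩ : ↥(Spec Γ(X, W)))) (y := hW.primeIdealOf ⟨y, hyW⟩)).mp ?_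
    rw [hW.fromSpec_primeIdealOf ⟨x, hxW⟩, hW.fromSpec_primeIdealOf ⟨y, hyW⟩]
    exact hxy
  exact prop_of_le P hloc hequiv (hW.primeIdealOf ⟨x, hxW⟩).asIdeal
    (hW.primeIdealOf ⟨y, hyW⟩).asIdeal hle (X.presheaf.stalk y) (X.presheaf.stalk x) (h y hycl)

/-- CM local rings localize. -/
theorem cm_localization (R : Type u) [CommRing R] [IsCohenMacaulayLocalRing R] (p : Ideal R)
    [p.IsPrime] : IsCohenMacaulayLocalRing (Localization.AtPrime p) := by
  have hM : IsCohenMacaulayModule R R := IsCohenMacaulayLocalRing.supportDim_eq_depth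
  have hp : (⟨p, inferInstance⟩ : PrimeSpectrum R) ∈ Module.support R R := by
    rw [Module.support_eq_zeroLocus, Module.annihilator_eq_bot.mpr inferInstance]
    simp
  have h1 := (cm_localizedModule hM ⟨p, inferInstance⟩ hp).1
  unfold IsCohenMacaulayModule at h1
  change Module.supportDim (Localization.AtPrime p) (LocalizedModule p.primeCompl R) =
    ((depth (Localization.AtPrime p) (LocalizedModule p.primeCompl R) : ℕ∞) : WithBot ℕ∞) at h1
  rw [supportDim_localizedModule_self, depth_localizedModule_self] at h1
  refine ⟨?_⟩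
  rw [Module.supportDim_self_eq_ringKrullDim,
    IsLocalization.AtPrime.ringKrullDim_eq_height p (Localization.AtPrime p)]
  exact h1

theorem cm_of_ringEquiv (S S' : Type u) [CommRing S] [CommRing S'] (e : S ≃+* S')
    (h : IsCohenMacaulayLocalRing S) : IsCohenMacaulayLocalRing S' := by
  haveI : IsNoetherianRing S' := isNoetherianRing_of_ringEquiv S e
  haveI : IsLocalRing S' := e.isLocalRing
  refine ⟨?_⟩
  rw [Module.supportDim_self_eq_ringKrullDim, ← ringKrullDim_eq_of_ringEquiv e,
    depth_self_eq_of_ringEquiv e, ← Module.supportDim_self_eq_ringKrullDim]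
  exact h.supportDim_eq_depth

/-- S9808 -/
theorem cm_iff_closedPoints (X : Scheme.{u}) [IsLocallyNoetherian X] :
    (∀ x : X, LocCoh.IsCohenMacaulayLocalRing (X.presheaf.stalk x)) ↔
      ∀ x : X, IsClosed ({x} : Set X) → LocCoh.IsCohenMacaulayLocalRing (X.presheaf.stalk x) := by
  refine ⟨fun h x _ => h x, fun h x => ?_⟩
  exact stalk_prop_of_closedPoints (fun S _ => IsCohenMacaulayLocalRing S)
    (fun S _ p _ hS => @cm_localization S _ hS p _)
    (fun S S' _ _ e hS => cm_of_ringEquiv S S' e hS) X h x

end Groth.Agent.Lib.Helper4.StalkClosedPt1
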