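import Mathlib

/-!
# Gluing one-dimensional semi-local subrings of a field (toolkit)
-/

set_option autoImplicit false
set_option linter.unusedSectionVars false
set_option linter.style.haveILetI false

namespace Groth.Agent.Lib.Helper4.Glue

open AlgebraicGeometry CategoryTheory CategoryTheory.Limits

universe u

section dimone
variable {C : Type*} [CommRing C] [IsDomain C] [Ring.KrullDimLE 1 C]

theorem exists_pow_mem_span (x : C) (hx : x ∈ Ideal.jacobson (⊥ : Ideal C)) (b : C) (hb : b ≠ 0) :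
    ∃ n : ℕ, x ^ n ∈ Ideal.span {b} := by
  have : x ∈ (Ideal.span {b}).radical := by
    rw [Ideal.radical_eq_sInf, Ideal.mem_sInf]
    rintro J ⟨hJ, hJp⟩
    have hbJ : b ∈ J := hJ (Ideal.mem_span_singleton_self b)
    have hJ0 : J ≠ ⊥ := fun h => hb (by rw [h] at hbJ; exact hbJ)
    have hJm : J.IsMaximal := hJp.isMaximal_of_ne_bot hJ0
    rw [Ideal.jacobson, Ideal.mem_sInf] at hx
    exact hx ⟨bot_le, hJm⟩
  exact this

variable {K : Type*} [Field K] [Algebra C K] [IsFractionRing C K]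

theorem exists_pow_mul_mem (x : C) (hx : x ∈ Ideal.jacobson (⊥ : Ideal C)) (k : K) :
    ∃ n : ℕ, ∃ c : C, k * (algebraMap C K x) ^ n = algebraMap C K c := by
  obtain ⟨a, b, hb, rfl⟩ := IsFractionRing.div_surjective (A := C) k
  have hb0 : b ≠ 0 := nonZeroDivisors.ne_zero hb
  obtain ⟨n, hn⟩ := exists_pow_mem_span x hx b hb0
  rw [Ideal.mem_span_singleton'] at hn
  obtain ⟨c, hc⟩ := hn
  refine ⟨n, a * c, ?_⟩
  have hb0' : algebraMap C K b ≠ 0 := by
    rw [Ne, map_eq_zero_iff _ (IsFractionRing.injective C K)]; exact hb0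
  rw [← map_pow, ← hc, map_mul, map_mul]
  field_simp

theorem exists_jacobson_ne_zero (hsl : Finite (MaximalSpectrum C)) (hnf : ¬ IsField C) :
    ∃ x : C, x ∈ Ideal.jacobson (⊥ : Ideal C) ∧ x ≠ 0 := by
  classical
  have := Fintype.ofFinite (MaximalSpectrum C)
  have hex : ∀ m : MaximalSpectrum C, ∃ y : C, y ∈ m.asIdeal ∧ y ≠ 0 := by
    intro m
    have : m.asIdeal ≠ ⊥ := Ring.ne_bot_of_isMaximal_of_not_isField m.isMaximal hnf
    exact Submodule.exists_mem_ne_zero_of_ne_bot this
  choose y hy hy0 using hex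
  refine ⟨∏ m, y m, ?_, ?_⟩
  · rw [Ideal.jacobson, Ideal.mem_sInf]
    rintro J ⟨-, hJ⟩
    have h1 : y ⟨J, hJ⟩ ∈ J := hy ⟨J, hJ⟩
    rw [← Finset.mul_prod_erase Finset.univ y (Finset.mem_univ ⟨J, hJ⟩)]
    exact J.mul_mem_right _ h1
  · rw [Finset.prod_ne_zero_iff]
    intro m _
    exact hy0 m

theorem isUnit_one_add_mul (x : C) (hx : x ∈ Ideal.jacobson (⊥ : Ideal C)) (a : C) :
    IsUnit (1 + x * a) := by
  have := Ideal.mem_jacobson_bot.1 hx a
  rwa [add_comm] at this

end dimone


section injac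
variable {K : Type u} [Field K] (A : Subring K)

/-- `x ∈ K` lies in the Jacobson radical of the subring `A`. -/
def InJac (x : K) : Prop := ∃ h : x ∈ A, (⟨x, h⟩ : A) ∈ Ideal.jacobson (⊥ : Ideal A)

variable {A}

theorem InJac.mem {x : K} (h : InJac A x) : x ∈ A := h.1

theorem InJac.zero : InJac A 0 := ⟨A.zero_mem, (Ideal.jacobson ⊥).zero_mem⟩

theorem InJac.add {x y : K} (hx : InJac A x) (hy : InJac A y) : InJac A (x + y) := by
  obtain ⟨h1, h2⟩ := hx
  obtain ⟨h3, h4⟩ := hy
  exact ⟨A.add_mem h1 h3, (Ideal.jacobson ⊥).add_mem h2 h4⟩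

theorem InJac.mul_left {x : K} (hx : InJac A x) {a : K} (ha : a ∈ A) : InJac A (a * x) := by
  obtain ⟨h1, h2⟩ := hx
  exact ⟨A.mul_mem ha h1, (Ideal.jacobson ⊥).mul_mem_left ⟨a, ha⟩ h2⟩

theorem InJac.mul_right {x : K} (hx : InJac A x) {a : K} (ha : a ∈ A) : InJac A (x * a) := by
  rw [mul_comm]; exact hx.mul_left ha

theorem InJac.neg {x : K} (hx : InJac A x) : InJac A (-x) := by
  have := hx.mul_left (A.neg_mem A.one_mem)
  simpa using this

/-- `1 + x` is a unit of `A` when `x` is in the Jacobson radical. -/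
theorem InJac.inv_one_add_mem {x : K} (hx : InJac A x) : (1 + x)⁻¹ ∈ A := by
  obtain ⟨h1, h2⟩ := hx
  have hu := Ideal.mem_jacobson_bot.1 h2 1
  rw [mul_one] at hu
  obtain ⟨u, hu'⟩ := hu
  have h3 : ((u⁻¹ : Aˣ) : A).1 * ((u : A) : K) = 1 := by
    have := congrArg Subtype.val (u.inv_mul)
    exact this
  have h4 : ((u : A) : K) = 1 + x := by
    rw [hu']; change x + 1 = 1 + x; ring
  rw [h4] at h3
  have h5 : (1 + x)⁻¹ = ((u⁻¹ : Aˣ) : A).1 := by
    have hne : (1 + x) ≠ 0 := by
      intro h0; rw [h0, mul_zero] at h3; exact zero_ne_one h3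
    field_simp
    rw [mul_comm]; exact h3.symm
  rw [h5]
  exact ((u⁻¹ : Aˣ) : A).2

/-- a "good" element: a unit of `A` congruent to `1` mod the Jacobson radical -/
def Good (A : Subring K) (g : K) : Prop := g ∈ A ∧ g⁻¹ ∈ A ∧ g ≠ 0 ∧ InJac A (g - 1)

theorem good_one_add {x : K} (hx : InJac A x) : Good A (1 + x) := by
  refine ⟨A.add_mem A.one_mem hx.mem, hx.inv_one_add_mem, ?_, by simpa using hx⟩
  intro h0
  have h1 : x = -1 := by linear_combination h0
  have h2 : InJac A (1 : K) := by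
    have := hx.neg; rw [h1, neg_neg] at this; exact this
  obtain ⟨_, h3⟩ := h2
  have h4 := Ideal.mem_jacobson_bot.1 h3 (-1)
  have h5 : ((⟨1, A.one_mem⟩ : A) * (-1) + 1) = 0 := by
    apply Subtype.ext; simp
  rw [h5] at h4
  exact not_isUnit_zero h4

theorem good_one : Good A 1 := by
  have := good_one_add (A := A) InJac.zero
  simpa using this

theorem Good.add_sub_one {g g' : K} (h : Good A g) (h' : Good A g') : Good A (g + g' - 1) := by
  have := good_one_add (h.2.2.2.add h'.2.2.2)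
  have e : 1 + (g - 1 + (g' - 1)) = g + g' - 1 := by ring
  rwa [e] at this

theorem Good.mul {g g' : K} (h : Good A g) (h' : Good A g') : Good A (g * g') := by
  refine ⟨A.mul_mem h.1 h'.1, ?_, mul_ne_zero h.2.2.1 h'.2.2.1, ?_⟩
  · rw [mul_inv]; exact A.mul_mem h.2.1 h'.2.1
  · have e : g * g' - 1 = (g - 1) * g' + (g' - 1) := by ring
    rw [e]
    exact (h.2.2.2.mul_right h'.1).add h'.2.2.2

theorem Good.pow {g : K} (h : Good A g) (n : ℕ) : Good A (g ^ n) := by
  induction n with
  | zero => simpa using good_one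
  | succ n ih => rw [pow_succ]; exact ih.mul h

/-- `1 - g⁻¹` is in the Jacobson radical. -/
theorem Good.one_sub_inv {g : K} (h : Good A g) : InJac A (1 - g⁻¹) := by
  have e : 1 - g⁻¹ = g⁻¹ * (g - 1) := by
    have := h.2.2.1
    field_simp
  rw [e]
  exact h.2.2.2.mul_left h.2.1

end injac

section dvr
variable {K : Type u} [Field K] (W : ValuationSubring K) [IsDiscreteValuationRing W]

/-- Archimedean property of a DVR. -/
theorem dvr_arch (a : K) (ha : a ∉ W) (c : K) : ∃ n : ℕ, W.valuation c ≤ W.valuation a ^ n := by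
  have hKD : Ring.KrullDimLE 1 W := by
    have := Ring.DimensionLEOne.principal_ideal_ring W
    infer_instance
  have ha0 : a ≠ 0 := fun h => ha (h ▸ W.zero_mem)
  have hτ : a⁻¹ ∈ W := (W.mem_or_inv_mem a).resolve_left ha
  have hva : 1 < W.valuation a := by
    rw [← not_le, W.valuation_le_one_iff]; exact ha
  have hjac : (⟨a⁻¹, hτ⟩ : W) ∈ Ideal.jacobson (⊥ : Ideal W) := by
    rw [IsLocalRing.jacobson_eq_maximalIdeal ⊥ bot_ne_top, W.valuation_lt_one_iff]
    change W.valuation a⁻¹ < 1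
    rw [map_inv₀]
    exact inv_lt_one_of_one_lt₀ hva
  obtain ⟨n, w, hw⟩ := exists_pow_mul_mem (C := W) (K := K) ⟨a⁻¹, hτ⟩ hjac c
  refine ⟨n, ?_⟩
  have h1 : c * (a⁻¹) ^ n ∈ W := by
    have : c * (a⁻¹) ^ n = (w : K) := hw
    rw [this]; exact w.2
  rw [← W.valuation_le_one_iff, map_mul, map_pow, map_inv₀] at h1
  have hpos : 0 < W.valuation a ^ n := by
    apply pow_pos
    exact lt_trans zero_lt_one hva
  calc W.valuation c = W.valuation c * (W.valuation a)⁻¹ ^ n * W.valuation a ^ n := by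
        rw [mul_assoc, ← mul_pow, inv_mul_cancel₀ hpos.ne' |> fun _ => inv_mul_cancel₀ (ne_of_gt (lt_trans zero_lt_one hva)), one_pow, mul_one]
    _ ≤ 1 * W.valuation a ^ n := by gcongr
    _ = W.valuation a ^ n := one_mul _


theorem one_lt_val_of_notMem {a : K} (ha : a ∉ W) : 1 < W.valuation a := by
  rw [← not_le, W.valuation_le_one_iff]; exact ha

theorem notMem_of_one_lt_val {a : K} (ha : 1 < W.valuation a) : a ∉ W := by
  rw [← W.valuation_le_one_iff, not_le]; exact ha

/-- eventually `a^m + c ∉ W` -/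
theorem eventually_pow_add_notMem (a : K) (ha : a ∉ W) (c : K) :
    ∀ᶠ m : ℕ in Filter.atTop, a ^ m + c ∉ W := by
  obtain ⟨n, hn⟩ := dvr_arch W a ha c
  have hva := one_lt_val_of_notMem W ha
  rw [Filter.eventually_atTop]
  refine ⟨n + 1, fun m hm => ?_⟩
  apply notMem_of_one_lt_val
  have h1 : W.valuation c < W.valuation (a ^ m) := by
    rw [map_pow]
    calc W.valuation c ≤ W.valuation a ^ n := hn
      _ < W.valuation a ^ m := pow_lt_pow_right₀ hva (by omega)
  rw [Valuation.map_add_eq_of_lt_left _ h1, map_pow]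
  exact one_lt_pow₀ hva (by omega)

variable (A : Subring K)

/-- Lemma N' -/
theorem exists_good_notMem (x : K) (hx : InJac A x) (hx0 : x ≠ 0) (a : K) (haA : a ∈ A)
    (haW : a ∉ W) : ∃ g : K, Good A g ∧ g ∉ W := by
  obtain ⟨n, hn⟩ := dvr_arch W a haW x⁻¹
  have hva := one_lt_val_of_notMem W haW
  have hvx : W.valuation x ≠ 0 := (Valuation.ne_zero_iff _).2 hx0
  refine ⟨1 + x * a ^ (n + 1), good_one_add (hx.mul_right (A.pow_mem haA _)), ?_⟩
  apply notMem_of_one_lt_val
  have h1 : 1 < W.valuation (x * a ^ (n + 1)) := by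
    rw [map_mul, map_pow, pow_succ, ← mul_assoc]
    have h2 : 1 ≤ W.valuation x * W.valuation a ^ n := by
      rw [map_inv₀] at hn
      calc 1 = W.valuation x * (W.valuation x)⁻¹ := (mul_inv_cancel₀ hvx).symm
        _ ≤ W.valuation x * W.valuation a ^ n := by gcongr
    calc 1 < W.valuation a := hva
      _ = 1 * W.valuation a := (one_mul _).symm
      _ ≤ W.valuation x * W.valuation a ^ n * W.valuation a := by gcongr
  have h3 : W.valuation (1 : K) < W.valuation (x * a ^ (n + 1)) := by rw [map_one]; exact h1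
  rw [Valuation.map_add_eq_of_lt_right _ h3]
  exact h1

end dvr

section finset
variable {K : Type u} [Field K] (A : Subring K)

/-- Lemma T' -/
theorem exists_good_notMem_finset (S : Finset (ValuationSubring K))
    (hS : ∀ W ∈ S, IsDiscreteValuationRing W ∧ ∃ g : K, Good A g ∧ g ∉ W) :
    ∃ g : K, Good A g ∧ ∀ W ∈ S, g ∉ W := by
  classical
  induction S using Finset.induction_on with
  | empty => exact ⟨1, good_one, by simp⟩
  | insert q s hq ih =>
    obtain ⟨g', hg', hg's⟩ := ih (fun W hW => hS W (Finset.mem_insert_of_mem hW))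
    obtain ⟨hqd, gq, hgq, hgqq⟩ := hS q (Finset.mem_insert_self q s)
    have hev1 : ∀ W ∈ s, ∀ᶠ m : ℕ in Filter.atTop, g' ^ m + (gq - 1) ∉ W := by
      intro W hW
      have := (hS W (Finset.mem_insert_of_mem hW)).1
      exact eventually_pow_add_notMem W g' (hg's W hW) (gq - 1)
    have hev2 : ∀ᶠ m : ℕ in Filter.atTop, g' ^ m + (gq - 1) ∉ q := by
      by_cases hg'q : g' ∈ q
      · refine Filter.Eventually.of_forall (fun m hmem => hgqq ?_)
        have e : gq = (g' ^ m + (gq - 1)) - g' ^ m + 1 := by ring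
        rw [e]
        exact add_mem (sub_mem hmem (pow_mem hg'q m)) (one_mem q)
      · exact eventually_pow_add_notMem q g' hg'q (gq - 1)
    have hev := ((Filter.eventually_all_finset s).2 hev1).and hev2
    obtain ⟨m, hm1, hm2⟩ := hev.exists
    refine ⟨g' ^ m + gq - 1, (hg'.pow m).add_sub_one hgq, ?_⟩
    intro W hW
    have e : g' ^ m + gq - 1 = g' ^ m + (gq - 1) := by ring
    rw [e]
    rcases Finset.mem_insert.1 hW with rfl | hWs
    · exact hm2
    · exact hm1 W hWs

end finset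


section glue
variable (K : Type u) [Field K] (A B : Subring K)

theorem glue (t : K) (htA : t ∈ A) (htA' : t⁻¹ ∈ A) (htB : t ∈ B) (ht0 : t ≠ 0)
    (hsB' : (1 - t)⁻¹ ∈ B) (hs0 : 1 - t ≠ 0)
    (h2 : ∀ a ∈ A, ∃ n : ℕ, a * t ^ n ∈ B) (h4 : ∀ k : K, ∃ n : ℕ, k * (1 - t) ^ n ∈ A) :
    IsOpenImmersion (Spec.map (CommRingCat.ofHom (Subring.inclusion (inf_le_left : A ⊓ B ≤ A)))) ∧
    IsOpenImmersion (Spec.map (CommRingCat.ofHom (Subring.inclusion (inf_le_right : A ⊓ B ≤ B)))) ∧
    Set.range (Spec.map (CommRingCat.ofHom (Subring.inclusion (inf_le_left : A ⊓ B ≤ A)))).base ∪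
        Set.range (Spec.map (CommRingCat.ofHom (Subring.inclusion (inf_le_right : A ⊓ B ≤ B)))).base
          = Set.univ ∧
    IsPushout (CommRingCat.ofHom (Subring.inclusion (inf_le_left : A ⊓ B ≤ A)))
        (CommRingCat.ofHom (Subring.inclusion (inf_le_right : A ⊓ B ≤ B)))
        (CommRingCat.ofHom A.subtype) (CommRingCat.ofHom B.subtype) := by
  have hsA : 1 - t ∈ A := A.sub_mem A.one_mem htA
  have hsB : 1 - t ∈ B := B.sub_mem B.one_mem htB
  let algA : Algebra ↥(A ⊓ B) A := (Subring.inclusion (inf_le_left : A ⊓ B ≤ A)).toAlgebra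
  let algB : Algebra ↥(A ⊓ B) B := (Subring.inclusion (inf_le_right : A ⊓ B ≤ B)).toAlgebra
  set τ : ↥(A ⊓ B) := ⟨t, htA, htB⟩ with hτ
  set σ : ↥(A ⊓ B) := ⟨1 - t, hsA, hsB⟩ with hσ
  have hστ : σ + τ = 1 := by
    apply Subtype.ext
    change (1 - t) + t = 1
    ring
  -- A = R_τ
  have locA : IsLocalization.Away τ A := by
    refine IsLocalization.Away.mk τ ?_ ?_ ?_
    · refine IsUnit.of_mul_eq_one (⟨t⁻¹, htA'⟩ : A) ?_
      apply Subtype.ext
      change t * t⁻¹ = 1
      exact mul_inv_cancel₀ ht0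
    · intro a
      obtain ⟨n, hn⟩ := h2 a.1 a.2
      refine ⟨n, ⟨a.1 * t ^ n, A.mul_mem a.2 (A.pow_mem htA n), hn⟩, ?_⟩
      apply Subtype.ext
      rfl
    · intro a b hab
      refine ⟨0, ?_⟩
      have : a = b := by
        apply Subtype.ext
        have := congrArg Subtype.val hab
        exact this
      rw [this]
  -- B = R_σ
  have locB : IsLocalization.Away σ B := by
    refine IsLocalization.Away.mk σ ?_ ?_ ?_
    · refine IsUnit.of_mul_eq_one (⟨(1 - t)⁻¹, hsB'⟩ : B) ?_
      apply Subtype.ext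
      change (1 - t) * (1 - t)⁻¹ = 1
      exact mul_inv_cancel₀ hs0
    · intro b
      obtain ⟨n, hn⟩ := h4 b.1
      refine ⟨n, ⟨b.1 * (1 - t) ^ n, hn, B.mul_mem b.2 (B.pow_mem hsB n)⟩, ?_⟩
      apply Subtype.ext
      rfl
    · intro a b hab
      refine ⟨0, ?_⟩
      have : a = b := by
        apply Subtype.ext
        have := congrArg Subtype.val hab
        exact this
      rw [this]
  refine ⟨IsOpenImmersion.of_isLocalization τ, IsOpenImmersion.of_isLocalization σ, ?_, ?_⟩
  · have rA : Set.range (Spec.map (CommRingCat.ofHom (Subring.inclusion (inf_le_left : A ⊓ B ≤ A)))).base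
        = (PrimeSpectrum.basicOpen τ : Set (PrimeSpectrum ↥(A ⊓ B))) :=
      PrimeSpectrum.localization_away_comap_range A τ
    have rB : Set.range (Spec.map (CommRingCat.ofHom (Subring.inclusion (inf_le_right : A ⊓ B ≤ B)))).base
        = (PrimeSpectrum.basicOpen σ : Set (PrimeSpectrum ↥(A ⊓ B))) :=
      PrimeSpectrum.localization_away_comap_range B σ
    rw [rA, rB]
    rw [Set.eq_univ_iff_forall]
    intro p
    by_contra hp
    rw [Set.mem_union, not_or] at hp
    obtain ⟨h1, h2'⟩ := hp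
    have h1' : τ ∈ p.asIdeal := by
      by_contra h; exact h1 h
    have h2'' : σ ∈ p.asIdeal := by
      by_contra h; exact h2' h
    have : (1 : ↥(A ⊓ B)) ∈ p.asIdeal := by
      rw [← hστ]; exact p.asIdeal.add_mem h2'' h1'
    exact p.isPrime.ne_top ((Ideal.eq_top_iff_one _).2 this)
  · have locK : IsLocalization.Away (⟨1 - t, hsA⟩ : A) K := by
      refine IsLocalization.Away.mk (⟨1 - t, hsA⟩ : A) ?_ ?_ ?_
      · exact (IsUnit.mk0 (1 - t) hs0)
      · intro k
        obtain ⟨n, hn⟩ := h4 k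
        exact ⟨n, ⟨k * (1 - t) ^ n, hn⟩, rfl⟩
      · intro a b hab
        refine ⟨0, ?_⟩
        have : a = b := Subtype.ext hab
        rw [this]
    have hmap : (Submonoid.powers σ).map (Subring.inclusion (inf_le_left : A ⊓ B ≤ A)) =
        Submonoid.powers (⟨1 - t, hsA⟩ : A) := by
      rw [Submonoid.map_powers]
      rfl
    have locK' : IsLocalization ((Submonoid.powers σ).map (Subring.inclusion (inf_le_left : A ⊓ B ≤ A))) K := by
      rw [hmap]; exact locK
    exact CommRingCat.isPushout_of_isLocalization (Subring.inclusion (inf_le_left : A ⊓ B ≤ A))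
      B.subtype rfl (Submonoid.powers σ)

end glue


section dvrcase
variable (K : Type u) [Field K]

theorem dvr_not_all (B : ValuationSubring K) [IsDiscreteValuationRing B] : ¬ (∀ k : K, k ∈ B) := by
  intro hall
  obtain ⟨ϖ, hϖ⟩ := IsDiscreteValuationRing.exists_irreducible B
  apply hϖ.not_isUnit
  have h0 : (ϖ : K) ≠ 0 := fun h => hϖ.ne_zero (Subtype.ext h)
  refine IsUnit.of_mul_eq_one (⟨(ϖ : K)⁻¹, hall _⟩ : B) ?_
  apply Subtype.ext
  change (ϖ : K) * (ϖ : K)⁻¹ = 1
  exact mul_inv_cancel₀ h0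

/-- In a subring `A` with enough structure, from `a ∈ A ∖ B` get a good element outside `B`. -/
theorem exists_good_of_notMem (A : Subring K) [IsFractionRing A K]
    (hdim : ringKrullDim A = 1) (hsl : Finite (MaximalSpectrum A))
    (B : ValuationSubring K) [IsDiscreteValuationRing B] (a : K) (haA : a ∈ A) (haB : a ∉ B) :
    ∃ g : K, Good A g ∧ g ∉ B := by
  have hnf : ¬ IsField A := by
    intro hf
    have := ringKrullDim_eq_zero_of_isField hf
    rw [hdim] at this
    exact one_ne_zero this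
  have hK1 : Ring.KrullDimLE 1 A := Ring.krullDimLE_iff.2 (by rw [hdim]; rfl)
  obtain ⟨x0, hxj, hx0⟩ := exists_jacobson_ne_zero hsl hnf
  have hx : InJac A (x0 : K) := ⟨x0.2, hxj⟩
  have hx0' : (x0 : K) ≠ 0 := fun h => hx0 (Subtype.ext h)
  exact exists_good_notMem B A x0 hx hx0' a haA haB

theorem pow_mul_mem_of_inJac (A : Subring K) [IsFractionRing A K]
    (hdim : ringKrullDim A = 1) (y : K) (hy : InJac A y) (k : K) :
    ∃ n : ℕ, k * y ^ n ∈ A := by
  have hK1 : Ring.KrullDimLE 1 A := Ring.krullDimLE_iff.2 (by rw [hdim]; rfl)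
  obtain ⟨h, hj⟩ := hy
  obtain ⟨n, c, hc⟩ := exists_pow_mul_mem (C := A) (K := K) ⟨y, h⟩ hj k
  refine ⟨n, ?_⟩
  have : k * y ^ n = (c : K) := hc
  rw [this]
  exact c.2

theorem S7664_main (A : Subring K) [IsFractionRing A K] [IsNoetherianRing A]
    (hdim : ringKrullDim A = 1) (hsl : Finite (MaximalSpectrum A))
    (B : ValuationSubring K) [IsDiscreteValuationRing B] :
    ((∃ u : A, IsUnit u ∧ (u : K) ∉ B) →
      IsOpenImmersion (Spec.map (CommRingCat.ofHom (Subring.inclusion (inf_le_left : A ⊓ B.toSubring ≤ A)))) ∧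
      IsOpenImmersion (Spec.map (CommRingCat.ofHom (Subring.inclusion (inf_le_right : A ⊓ B.toSubring ≤ B.toSubring)))) ∧
      Set.range (Spec.map (CommRingCat.ofHom (Subring.inclusion (inf_le_left : A ⊓ B.toSubring ≤ A)))).base ∪
        Set.range (Spec.map (CommRingCat.ofHom (Subring.inclusion (inf_le_right : A ⊓ B.toSubring ≤ B.toSubring)))).base = Set.univ ∧
      IsPushout (CommRingCat.ofHom (Subring.inclusion (inf_le_left : A ⊓ B.toSubring ≤ A)))
        (CommRingCat.ofHom (Subring.inclusion (inf_le_right : A ⊓ B.toSubring ≤ B.toSubring)))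
        (CommRingCat.ofHom A.subtype) (CommRingCat.ofHom B.toSubring.subtype)) ∧
    ((∀ u : A, IsUnit u → (u : K) ∈ B) →
      (∃ h : A ≤ B.toSubring,
        (Ideal.comap (Subring.inclusion h) (IsLocalRing.maximalIdeal B)).IsMaximal) ∧ A ⊔ B.toSubring ≠ ⊤) := by
  have hK1 : Ring.KrullDimLE 1 A := Ring.krullDimLE_iff.2 (by rw [hdim]; rfl)
  constructor
  · rintro ⟨u, hu, huB⟩
    obtain ⟨g, hg, hgB⟩ := exists_good_of_notMem K A hdim hsl B u u.2 huB
    have hvg := one_lt_val_of_notMem B hgB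
    have hg0 : g ≠ 0 := hg.2.2.1
    have hvt : B.valuation g⁻¹ < 1 := by
      rw [map_inv₀]; exact inv_lt_one_of_one_lt₀ hvg
    have hv1 : B.valuation (1 - g⁻¹) = 1 := by
      have h1 : B.valuation (-g⁻¹) < B.valuation (1 : K) := by
        rw [Valuation.map_neg, map_one]; exact hvt
      rw [sub_eq_add_neg, Valuation.map_add_eq_of_lt_left _ h1, map_one]
    refine glue K A B.toSubring g⁻¹ hg.2.1 (by rw [inv_inv]; exact hg.1) ?_ (inv_ne_zero hg0) ?_ ?_ ?_ ?_
    · exact (B.mem_or_inv_mem g).resolve_left hgB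
    · change (1 - g⁻¹)⁻¹ ∈ B
      rw [← B.valuation_le_one_iff, map_inv₀, hv1, inv_one]
    · intro h0
      rw [h0, map_zero] at hv1
      exact zero_ne_one hv1
    · intro a _
      obtain ⟨n, hn⟩ := dvr_arch B g hgB a
      refine ⟨n, ?_⟩
      change a * g⁻¹ ^ n ∈ B
      rw [← B.valuation_le_one_iff, map_mul, map_pow, map_inv₀]
      have hpos : 0 < B.valuation g ^ n := pow_pos (lt_trans zero_lt_one hvg) n
      rw [inv_pow, ← div_eq_mul_inv, div_le_one₀ hpos]
      exact hn
    · intro k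
      exact pow_mul_mem_of_inJac K A hdim (1 - g⁻¹) hg.one_sub_inv k
  · intro hall
    have hAB : A ≤ B.toSubring := by
      intro a ha
      by_contra haB
      obtain ⟨g, hg, hgB⟩ := exists_good_of_notMem K A hdim hsl B a ha haB
      apply hgB
      have hu : IsUnit (⟨g, hg.1⟩ : A) := by
        refine IsUnit.of_mul_eq_one (⟨g⁻¹, hg.2.1⟩ : A) ?_
        apply Subtype.ext
        change g * g⁻¹ = 1
        exact mul_inv_cancel₀ hg.2.2.1
      exact hall _ hu
    have hnotall := dvr_not_all K B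
    refine ⟨⟨hAB, ?_⟩, ?_⟩
    · have hprime : (Ideal.comap (Subring.inclusion hAB) (IsLocalRing.maximalIdeal B)).IsPrime :=
        Ideal.comap_isPrime _ _
      refine hprime.isMaximal_of_ne_bot ?_
      intro hbot
      apply hnotall
      intro k
      obtain ⟨a, b, hb, rfl⟩ := IsFractionRing.div_surjective (A := A) k
      have hb0 : b ≠ 0 := nonZeroDivisors.ne_zero hb
      have hbn : b ∉ Ideal.comap (Subring.inclusion hAB) (IsLocalRing.maximalIdeal B) := by
        rw [hbot]; exact hb0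
      rw [Ideal.mem_comap, IsLocalRing.mem_maximalIdeal, mem_nonunits_iff, not_not] at hbn
      obtain ⟨w, hw⟩ := hbn
      have hw' : ((w : B) : K) = (b : K) := congrArg Subtype.val hw
      have hinv : ((w⁻¹ : Bˣ) : B).1 * (b : K) = 1 := by
        rw [← hw']
        have := congrArg Subtype.val w.inv_mul
        exact this
      have hbK : (b : K) ≠ 0 := fun h => hb0 (Subtype.ext h)
      have : algebraMap A K a / algebraMap A K b = (a : K) * ((w⁻¹ : Bˣ) : B).1 := by
        change (a : K) / (b : K) = _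
        rw [div_eq_iff hbK, mul_assoc, hinv, mul_one]
      rw [this]
      exact B.mul_mem _ _ (hAB a.2) ((w⁻¹ : Bˣ) : B).2
    · rw [sup_eq_right.2 hAB]
      intro htop
      apply hnotall
      intro k
      have : k ∈ B.toSubring := by rw [htop]; exact Subring.mem_top k
      exact this

end dvrcase

end Groth.Agent.Lib.Helper4.Glue
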