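import Mathlib
import Groth.Agent.Lib.Helper4.Glue
import Groth.Agent.Lib.Helper4.KrullAkizuki

/-!
# Gluing two (or more) semi-local one-dimensional subrings of a field
-/

set_option autoImplicit false
set_option linter.unusedSectionVars false
set_option linter.style.haveILetI false

namespace Groth.Agent.Lib.Helper4.Glue

open AlgebraicGeometry CategoryTheory CategoryTheory.Limits IsDedekindDomain

universe u

section claimU
variable {K : Type u} [Field K] {B : Type*} [CommRing B] [Algebra B K]

theorem inv_mem_of_isIntegral (C : Subalgebra B K) (z : K) (hz : z ∈ C) (hz0 : z ≠ 0)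
    (hint : IsIntegral B z⁻¹) : z⁻¹ ∈ C := by
  obtain ⟨p, hp, hpe⟩ := hint
  rw [Polynomial.eval₂_eq_sum_range] at hpe
  set m := p.natDegree with hm
  set S : K := ∑ i ∈ Finset.range m, algebraMap B K (p.coeff i) * z ^ (m - 1 - i) with hS
  have hSC : S ∈ C := by
    apply Subalgebra.sum_mem
    intro i _
    exact C.mul_mem (C.algebraMap_mem _) (C.pow_mem hz _)
  have hrel : z * S = -1 := by
    have h1 := congrArg (fun y => y * z ^ m) hpe
    simp only [zero_mul, Finset.sum_mul] at h1
    rw [Finset.sum_range_succ] at h1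
    have hlead : algebraMap B K (p.coeff m) = 1 := by
      rw [hm, Polynomial.coeff_natDegree, hp.leadingCoeff, map_one]
    have h2 : algebraMap B K (p.coeff m) * z⁻¹ ^ m * z ^ m = 1 := by
      rw [hlead, one_mul, inv_pow, inv_mul_cancel₀ (pow_ne_zero m hz0)]
    rw [h2] at h1
    have h3 : ∑ i ∈ Finset.range m, algebraMap B K (p.coeff i) * z⁻¹ ^ i * z ^ m = z * S := by
      rw [hS, Finset.mul_sum]
      apply Finset.sum_congr rfl
      intro i hi
      have hi' : i < m := Finset.mem_range.1 hi
      have h4 : z⁻¹ ^ i * z ^ m = z * z ^ (m - 1 - i) := by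
        rw [← pow_succ', inv_pow]
        have : m - 1 - i + 1 = m - i := by omega
        rw [this, pow_sub₀ z hz0 hi'.le, mul_comm]
      rw [mul_assoc, h4]
      ring
    rw [h3] at h1
    linear_combination h1
  have : z⁻¹ = -S := by
    have h5 : z * (-S) = 1 := by rw [mul_neg, hrel, neg_neg]
    exact (eq_inv_of_mul_eq_one_right h5).symm ▸ rfl
  rw [this]
  exact C.neg_mem hSC

end claimU


section conductor
variable (K : Type u) [Field K] (B : Subring K) [IsFractionRing B K] [IsNoetherianRing B]

theorem not_isField_of_dim (hdim : ringKrullDim B = 1) : ¬ IsField B := by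
  intro hf
  have := ringKrullDim_eq_zero_of_isField hf
  rw [hdim] at this
  exact one_ne_zero this

theorem exists_pow_inJac (hdim : ringKrullDim B = 1) [IsDedekindDomain (integralClosure B K)]
    [IsFractionRing (integralClosure B K) K] (τ : K)
    (hτ : ∀ v : HeightOneSpectrum (integralClosure B K), v.valuation K τ < 1) :
    ∃ n0 : ℕ, ∀ n ≥ n0, InJac B (τ ^ n) := by
  have hnf := not_isField_of_dim K B hdim
  have hinjBB' : Function.Injective (algebraMap B (integralClosure B K)) := by
    intro a b hab
    have := congrArg Subtype.val hab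
    exact Subtype.ext this
  -- the integral closure is not a field, so it has a height one prime
  have hnf' : ¬ IsField (integralClosure B K) := fun hf =>
    hnf (isField_of_isIntegral_of_isField hinjBB' hf)
  obtain ⟨m0, hm0⟩ := Ideal.exists_maximal (integralClosure B K)
  have hm00 : m0 ≠ ⊥ := Ring.ne_bot_of_isMaximal_of_not_isField hm0 hnf'
  let v0 : HeightOneSpectrum (integralClosure B K) := ⟨m0, hm0.isPrime, hm00⟩
  -- τ is integral
  obtain ⟨τ', hτ'⟩ := HeightOneSpectrum.mem_integers_of_valuation_le_one K τ (fun v => (hτ v).le)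
  have hτ'val : (τ' : K) = τ := hτ'
  have hτint : IsIntegral B τ := by rw [← hτ'val]; exact τ'.2
  -- C = B[τ]
  set C : Subalgebra B K := Algebra.adjoin B {τ} with hC
  have hCfg : (Subalgebra.toSubmodule C).FG := hτint.fg_adjoin_singleton
  obtain ⟨d, hd, hdint⟩ := FractionalIdeal.isFractional_of_fg (S := nonZeroDivisors B) hCfg
  have hd0 : d ≠ 0 := nonZeroDivisors.ne_zero hd
  have hCle : C ≤ integralClosure B K := Algebra.adjoin_le (Set.singleton_subset_iff.2 hτint)
  have inj : Function.Injective (algebraMap C K) := Subtype.val_injective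
  have hK1C : Ring.KrullDimLE 1 C := by
    apply Ring.KrullDimLE.mk₁'
    intro n hn0 hnp
    obtain ⟨x, hx0, hxn⟩ := KA.exists_nonzero_mem B K K C inj n hn0
    exact (KA.primes_containing B hdim K K C inj x hx0).1 n hnp hxn
  have hτC : τ ∈ C := Algebra.subset_adjoin rfl
  -- valuations of elements of C
  have hvC : ∀ c : K, c ∈ C → ∀ v : HeightOneSpectrum (integralClosure B K), v.valuation K c ≤ 1 := by
    intro c hc v
    exact v.valuation_le_one (⟨c, hCle hc⟩ : integralClosure B K)
  have hjac : (⟨τ, hτC⟩ : C) ∈ Ideal.jacobson (⊥ : Ideal C) := by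
    rw [Ideal.mem_jacobson_bot]
    intro c
    set z : K := τ * c + 1 with hz
    have hzC : z ∈ C := C.add_mem (C.mul_mem hτC c.2) C.one_mem
    have hvz : ∀ v : HeightOneSpectrum (integralClosure B K), v.valuation K z = 1 := by
      intro v
      have h1 : v.valuation K (τ * c) < v.valuation K (1 : K) := by
        rw [map_mul, map_one]
        calc v.valuation K τ * v.valuation K (c : K) ≤ v.valuation K τ * 1 := by
              gcongr; exact hvC c c.2 v
          _ = v.valuation K τ := mul_one _
          _ < 1 := hτ v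
      rw [hz, Valuation.map_add_eq_of_lt_right _ h1, map_one]
    have hz0 : z ≠ 0 := by
      intro h0
      have := hvz v0
      rw [h0, map_zero] at this
      exact zero_ne_one this
    obtain ⟨e', he'⟩ := HeightOneSpectrum.mem_integers_of_valuation_le_one K z⁻¹
      (fun v => by rw [map_inv₀, hvz v, inv_one])
    have heint : IsIntegral B z⁻¹ := by
      have : (e' : K) = z⁻¹ := he'
      rw [← this]; exact e'.2
    have hinvC := inv_mem_of_isIntegral C z hzC hz0 heint
    refine IsUnit.of_mul_eq_one (⟨z⁻¹, hinvC⟩ : C) ?_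
    apply Subtype.ext
    change (τ * c + 1) * z⁻¹ = 1
    exact mul_inv_cancel₀ hz0
  -- d as element of C
  have hdC0 : algebraMap B C d ≠ 0 := by
    intro h
    apply hd0
    have := congrArg Subtype.val h
    exact Subtype.ext this
  obtain ⟨n0, hn0⟩ := exists_pow_mem_span (⟨τ, hτC⟩ : C) hjac (algebraMap B C d) hdC0
  rw [Ideal.mem_span_singleton'] at hn0
  obtain ⟨c0, hc0⟩ := hn0
  have hc0' : (c0 : K) * (d : K) = τ ^ n0 := by
    have := congrArg Subtype.val hc0
    exact this
  have hmemB : ∀ n ≥ n0, τ ^ n ∈ B := by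
    intro n hn
    have hmem : τ ^ (n - n0) * (c0 : K) ∈ Subalgebra.toSubmodule C :=
      C.mul_mem (C.pow_mem hτC _) c0.2
    obtain ⟨b, hb⟩ := hdint _ hmem
    have hb' : (b : K) = τ ^ n := by
      have e1 : (b : K) = d • (τ ^ (n - n0) * (c0 : K)) := hb
      rw [e1]
      change (d : K) * (τ ^ (n - n0) * (c0 : K)) = τ ^ n
      have : τ ^ n = τ ^ (n - n0) * τ ^ n0 := by rw [← pow_add]; congr 1; omega
      rw [this, ← hc0']; ring
    rw [← hb']; exact b.2
  refine ⟨max n0 1, fun n hn => ?_⟩
  have hn1 : n0 ≤ n := le_trans (le_max_left _ _) hn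
  have hn2 : 1 ≤ n := le_trans (le_max_right _ _) hn
  refine ⟨hmemB n hn1, ?_⟩
  rw [Ideal.jacobson, Ideal.mem_sInf]
  rintro 𝔫 ⟨-, h𝔫⟩
  have hker : RingHom.ker (algebraMap B (integralClosure B K)) ≤ 𝔫 := by
    rw [(RingHom.injective_iff_ker_eq_bot _).1 hinjBB']; exact bot_le
  obtain ⟨𝔮, h𝔮, h𝔮𝔫⟩ := Ideal.exists_ideal_over_maximal_of_isIntegral (S := integralClosure B K) 𝔫 hker
  have h𝔫0 : 𝔫 ≠ ⊥ := Ring.ne_bot_of_isMaximal_of_not_isField h𝔫 hnf
  have h𝔮0 : 𝔮 ≠ ⊥ := by
    intro h
    rw [h, Ideal.comap_bot_of_injective _ hinjBB'] at h𝔮𝔫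
    exact h𝔫0 h𝔮𝔫.symm
  let v : HeightOneSpectrum (integralClosure B K) := ⟨𝔮, h𝔮.isPrime, h𝔮0⟩
  have hτ'𝔮 : τ' ∈ 𝔮 := by
    have := hτ v
    rw [← hτ'val] at this
    exact (v.valuation_lt_one_iff_mem τ').1 this
  rw [← h𝔮𝔫, Ideal.mem_comap]
  have : algebraMap B (integralClosure B K) ⟨τ ^ n, hmemB n hn1⟩ = τ' ^ n := by
    apply Subtype.ext
    change τ ^ n = ((τ' ^ n : integralClosure B K) : K)
    rw [SubmonoidClass.coe_pow, hτ'val]
  rw [this]
  exact 𝔮.pow_mem_of_mem hτ'𝔮 n (by omega)

end conductor


section key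
variable (K : Type u) [Field K]

theorem normalization_dedekind (B : Subring K) [IsFractionRing B K] [IsNoetherianRing B]
    (hdim : ringKrullDim B = 1) : IsDedekindDomain (integralClosure B K) :=
  (KA.dedekind_main B K K (integralClosure B K) hdim).1

theorem normalization_fraction (B : Subring K) [IsFractionRing B K] :
    IsFractionRing (integralClosure B K) K :=
  IsIntegralClosure.isFractionRing_of_finite_extension B K K (integralClosure B K)

theorem normalization_finite (B : Subring K) [IsFractionRing B K] [IsNoetherianRing B]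
    (hdim : ringKrullDim B = 1) (hsl : Finite (MaximalSpectrum B)) :
    Finite (HeightOneSpectrum (integralClosure B K)) := by
  have hK1 : Ring.KrullDimLE 1 B := Ring.krullDimLE_iff.2 (by rw [hdim]; rfl)
  obtain ⟨-, -, hfib, -⟩ := KA.dedekind_main B K K (integralClosure B K) hdim
  set T : Set (PrimeSpectrum (integralClosure B K)) :=
    ⋃ m : MaximalSpectrum B, PrimeSpectrum.comap (algebraMap B (integralClosure B K)) ⁻¹'
      {m.toPrimeSpectrum} with hT
  have hTfin : T.Finite := Set.finite_iUnion (fun m => hfib m.toPrimeSpectrum)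
  have inj : Function.Injective (algebraMap (integralClosure B K) K) := Subtype.val_injective
  have hmem : ∀ v : HeightOneSpectrum (integralClosure B K),
      (⟨v.asIdeal, v.isPrime⟩ : PrimeSpectrum (integralClosure B K)) ∈ T := by
    intro v
    obtain ⟨x, hx0, hxv⟩ := KA.exists_nonzero_mem B K K (integralClosure B K) inj v.asIdeal v.ne_bot
    have hprime : (v.asIdeal.comap (algebraMap B (integralClosure B K))).IsPrime :=
      Ideal.comap_isPrime _ _
    have hne : v.asIdeal.comap (algebraMap B (integralClosure B K)) ≠ ⊥ := by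
      intro h
      have : x ∈ v.asIdeal.comap (algebraMap B (integralClosure B K)) := hxv
      rw [h] at this
      exact hx0 this
    have hmax := hprime.isMaximal_of_ne_bot hne
    rw [hT, Set.mem_iUnion]
    refine ⟨⟨_, hmax⟩, ?_⟩
    rw [Set.mem_preimage, Set.mem_singleton_iff]
    rfl
  have := hTfin.to_subtype
  refine Finite.of_injective (fun v => (⟨_, hmem v⟩ : T)) ?_
  intro v w hvw
  have h1 := congrArg (fun t : T => t.1.asIdeal) hvw
  exact HeightOneSpectrum.ext h1

theorem key (A B : Subring K) [IsFractionRing A K] [IsNoetherianRing A] [IsFractionRing B K]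
    [IsNoetherianRing B] (hdimA : ringKrullDim A = 1) (hdimB : ringKrullDim B = 1)
    (hslA : Finite (MaximalSpectrum A)) (hslB : Finite (MaximalSpectrum B)) (hgen : A ⊔ B = ⊤) :
    ∃ g : K, Good A g ∧ InJac B g⁻¹ := by
  classical
  haveI := normalization_dedekind K B hdimB
  haveI := normalization_fraction K B
  haveI := normalization_finite K B hdimB hslB
  haveI := Fintype.ofFinite (HeightOneSpectrum (integralClosure B K))
  have hBW : ∀ v : HeightOneSpectrum (integralClosure B K),
      B ≤ (v.valuation K).valuationSubring.toSubring := by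
    intro v b hb
    have hmem : b ∈ integralClosure B K := (integralClosure B K).algebraMap_mem ⟨b, hb⟩
    exact v.valuation_le_one (⟨b, hmem⟩ : integralClosure B K)
  have hgood : ∀ v : HeightOneSpectrum (integralClosure B K),
      ∃ g : K, Good A g ∧ g ∉ (v.valuation K).valuationSubring := by
    intro v
    have hnot : ¬ A ≤ (v.valuation K).valuationSubring.toSubring := by
      intro hA
      have hle : A ⊔ B ≤ (v.valuation K).valuationSubring.toSubring := sup_le hA (hBW v)
      rw [hgen] at hle
      exact dvr_not_all K _ (fun k => hle (Subring.mem_top k))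
    rw [SetLike.not_le_iff_exists] at hnot
    obtain ⟨a, haA, haW⟩ := hnot
    exact exists_good_of_notMem K A hdimA hslA _ a haA haW
  set S : Finset (ValuationSubring K) :=
    Finset.univ.image (fun v : HeightOneSpectrum (integralClosure B K) =>
      (v.valuation K).valuationSubring) with hS
  have hSprop : ∀ W ∈ S, IsDiscreteValuationRing W ∧ ∃ g : K, Good A g ∧ g ∉ W := by
    intro W hW
    rw [hS, Finset.mem_image] at hW
    obtain ⟨v, -, rfl⟩ := hW
    exact ⟨inferInstance, hgood v⟩
  obtain ⟨g, hg, hgS⟩ := exists_good_notMem_finset A S hSprop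
  have hτ : ∀ v : HeightOneSpectrum (integralClosure B K), v.valuation K g⁻¹ < 1 := by
    intro v
    have h1 : g ∉ (v.valuation K).valuationSubring :=
      hgS _ (Finset.mem_image.2 ⟨v, Finset.mem_univ _, rfl⟩)
    rw [Valuation.mem_valuationSubring_iff, not_le] at h1
    rw [map_inv₀]
    exact inv_lt_one_of_one_lt₀ h1
  obtain ⟨n0, hn0⟩ := exists_pow_inJac K B hdimB g⁻¹ hτ
  refine ⟨g ^ n0, hg.pow n0, ?_⟩
  rw [← inv_pow]
  exact hn0 n0 le_rfl

theorem S7687_main (A : Subring K) [IsFractionRing A K] (B : Subring K) [IsFractionRing B K]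
    [IsNoetherianRing A] [IsNoetherianRing B]
    (hdimA : ringKrullDim A = 1) (hdimB : ringKrullDim B = 1)
    (hslA : Finite (MaximalSpectrum A)) (hslB : Finite (MaximalSpectrum B)) (hgen : A ⊔ B = ⊤) :
    IsOpenImmersion (Spec.map (CommRingCat.ofHom (Subring.inclusion (inf_le_left : A ⊓ B ≤ A)))) ∧
      IsOpenImmersion (Spec.map (CommRingCat.ofHom (Subring.inclusion (inf_le_right : A ⊓ B ≤ B)))) ∧
      Set.range (Spec.map (CommRingCat.ofHom (Subring.inclusion (inf_le_left : A ⊓ B ≤ A)))).base ∪
        Set.range (Spec.map (CommRingCat.ofHom (Subring.inclusion (inf_le_right : A ⊓ B ≤ B)))).base = Set.univ ∧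
      IsPushout (CommRingCat.ofHom (Subring.inclusion (inf_le_left : A ⊓ B ≤ A)))
        (CommRingCat.ofHom (Subring.inclusion (inf_le_right : A ⊓ B ≤ B)))
        (CommRingCat.ofHom A.subtype) (CommRingCat.ofHom B.subtype) := by
  obtain ⟨g, hg, hjB⟩ := key K A B hdimA hdimB hslA hslB hgen
  refine glue K A B g⁻¹ hg.2.1 (by rw [inv_inv]; exact hg.1) hjB.mem (inv_ne_zero hg.2.2.1)
    ?_ ?_ ?_ ?_
  · have := hjB.neg.inv_one_add_mem
    rwa [← sub_eq_add_neg] at this
  · have := (good_one_add hjB.neg).2.2.1
    rwa [← sub_eq_add_neg] at this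
  · intro a _
    exact pow_mul_mem_of_inJac K B hdimB g⁻¹ hjB a
  · intro k
    exact pow_mul_mem_of_inJac K A hdimA (1 - g⁻¹) hg.one_sub_inv k

end key

end Groth.Agent.Lib.Helper4.Glue
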