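import Mathlib
import Groth.Agent.Lib.Helper4.Glue2

/-!
# Gluing finitely many semi-local one-dimensional subrings of a field
-/

set_option autoImplicit false
set_option linter.unusedSectionVars false
set_option linter.style.haveILetI false

namespace Groth.Agent.Lib.Helper4.Glue

open AlgebraicGeometry CategoryTheory CategoryTheory.Limits IsDedekindDomain

universe u

section multiglue
variable (K : Type u) [Field K] {ι : Type} [Fintype ι] [DecidableEq ι]
  (A : ι → Subring K) [∀ i, IsFractionRing (A i) K]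
  (hdim : ∀ i, ringKrullDim (A i) = 1)
  (s : ι → K)
  (hsA : ∀ i j, s i ∈ A j) (hsinv : ∀ i, (s i)⁻¹ ∈ A i) (hs0 : ∀ i, s i ≠ 0)
  (hsjac : ∀ i j, j ≠ i → InJac (A j) (s i))

include hdim hsA hsjac in
/-- common power -/
theorem exists_pow_mul_mem_iInf (i : ι) (a : K) (ha : a ∈ A i) :
    ∃ n : ℕ, a * s i ^ n ∈ ⨅ j, A j := by
  have hev : ∀ j, ∀ᶠ n : ℕ in Filter.atTop, a * s i ^ n ∈ A j := by
    intro j
    by_cases hji : j = i
    · subst hji
      exact Filter.Eventually.of_forall (fun n => (A j).mul_mem ha ((A j).pow_mem (hsA j j) n))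
    · obtain ⟨n0, hn0⟩ := pow_mul_mem_of_inJac K (A j) (hdim j) (s i) (hsjac i j hji) a
      rw [Filter.eventually_atTop]
      refine ⟨n0, fun n hn => ?_⟩
      have : a * s i ^ n = (a * s i ^ n0) * s i ^ (n - n0) := by
        rw [mul_assoc, ← pow_add]; congr 2; omega
      rw [this]
      exact (A j).mul_mem hn0 ((A j).pow_mem (hsA i j) _)
  obtain ⟨n, hn⟩ := (Filter.eventually_all.2 hev).exists
  exact ⟨n, Subring.mem_iInf.2 hn⟩

include hdim hsA hsinv hs0 hsjac in
theorem isLocalization_iInf (i : ι) :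
    letI := (Subring.inclusion (iInf_le A i)).toAlgebra
    IsLocalization.Away (⟨s i, Subring.mem_iInf.2 (hsA i)⟩ : ↥(⨅ j, A j)) (A i) := by
  letI := (Subring.inclusion (iInf_le A i)).toAlgebra
  refine IsLocalization.Away.mk _ ?_ ?_ ?_
  · refine IsUnit.of_mul_eq_one (⟨(s i)⁻¹, hsinv i⟩ : A i) ?_
    apply Subtype.ext
    change s i * (s i)⁻¹ = 1
    exact mul_inv_cancel₀ (hs0 i)
  · intro a
    obtain ⟨n, hn⟩ := exists_pow_mul_mem_iInf K A hdim s hsA hsjac i a.1 a.2
    exact ⟨n, ⟨a.1 * s i ^ n, hn⟩, Subtype.ext rfl⟩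
  · intro a b hab
    refine ⟨0, ?_⟩
    have : a = b := by
      apply Subtype.ext
      have := congrArg Subtype.val hab
      exact this
    rw [this]

include hdim hsA hsinv hs0 hsjac in
theorem multiglue [Nonempty ι] [∀ i, IsNoetherianRing (A i)]
    (hsum : ∑ i, s i = 1) (hsl : ∀ i, Finite (MaximalSpectrum (A i))) :
    IsNoetherianRing ↥(⨅ i, A i) ∧ ringKrullDim ↥(⨅ i, A i) = 1 ∧
      Finite (MaximalSpectrum ↥(⨅ i, A i)) ∧
      IsFractionRing ↥(⨅ i, A i) K ∧
      (∀ i, IsOpenImmersion (Spec.map (CommRingCat.ofHom (Subring.inclusion (iInf_le A i))))) ∧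
      (⋃ i, Set.range (Spec.map (CommRingCat.ofHom (Subring.inclusion (iInf_le A i)))).base)
        = Set.univ ∧
      (∀ m : PrimeSpectrum ↥(⨅ i, A i), m.asIdeal.IsMaximal →
        ∃! i, m ∈ Set.range (Spec.map (CommRingCat.ofHom (Subring.inclusion (iInf_le A i)))).base) := by
  classical
  letI alg : ∀ i, Algebra ↥(⨅ j, A j) (A i) := fun i => (Subring.inclusion (iInf_le A i)).toAlgebra
  set σ : ι → ↥(⨅ j, A j) := fun i => ⟨s i, Subring.mem_iInf.2 (hsA i)⟩ with hσ
  have loc : ∀ i, IsLocalization.Away (σ i) (A i) := fun i =>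
    isLocalization_iInf K A hdim s hsA hsinv hs0 hsjac i
  have hσsum : ∑ i, σ i = 1 := by
    apply Subtype.ext
    rw [AddSubmonoidClass.coe_finsetSum]
    exact hsum
  have hK1 : ∀ i, Ring.KrullDimLE 1 (A i) := fun i =>
    Ring.krullDimLE_iff.2 (by rw [hdim i]; rfl)
  have hinj : ∀ i, Function.Injective (algebraMap ↥(⨅ j, A j) (A i)) := by
    intro i a b hab
    apply Subtype.ext
    have := congrArg Subtype.val hab
    exact this
  have hrange : ∀ i, Set.range (Spec.map (CommRingCat.ofHom (Subring.inclusion (iInf_le A i)))).base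
      = (PrimeSpectrum.basicOpen (σ i) : Set (PrimeSpectrum ↥(⨅ j, A j))) := fun i =>
    PrimeSpectrum.localization_away_comap_range (A i) (σ i)
  -- cover
  have hcover : ∀ p : Ideal ↥(⨅ j, A j), p.IsPrime → ∃ i, σ i ∉ p := by
    intro p hp
    by_contra hall
    push Not at hall
    have : (1 : ↥(⨅ j, A j)) ∈ p := by
      rw [← hσsum]; exact p.sum_mem (fun i _ => hall i)
    exact hp.ne_top ((Ideal.eq_top_iff_one _).2 this)
  -- prime correspondence facts
  have hdisj : ∀ (p : Ideal ↥(⨅ j, A j)) (hp : p.IsPrime) (i : ι), σ i ∉ p →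
      Disjoint (Submonoid.powers (σ i) : Set ↥(⨅ j, A j)) (p : Set ↥(⨅ j, A j)) := by
    intro p hp i hi
    exact (Ideal.disjoint_powers_iff_notMem (σ i) hp.isRadical).2 hi
  have hmapmax : ∀ (p : Ideal ↥(⨅ j, A j)) (hp : p.IsPrime) (hp0 : p ≠ ⊥) (i : ι), σ i ∉ p →
      (p.map (algebraMap ↥(⨅ j, A j) (A i))).IsMaximal ∧
        (p.map (algebraMap ↥(⨅ j, A j) (A i))).comap (algebraMap ↥(⨅ j, A j) (A i)) = p := by
    intro p hp hp0 i hi
    have hd := hdisj p hp i hi
    have hprime := IsLocalization.isPrime_of_isPrime_disjoint (Submonoid.powers (σ i)) (A i) p hp hd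
    have hcomap := IsLocalization.under_map_of_isPrime_disjoint (Submonoid.powers (σ i)) (A i) hp hd
    refine ⟨hprime.isMaximal_of_ne_bot ?_, hcomap⟩
    intro hbot
    rw [hbot] at hcomap
    apply hp0
    rw [← hcomap]
    exact Ideal.comap_bot_of_injective _ (hinj i)
  -- (U)
  have hU : ∀ (p : Ideal ↥(⨅ j, A j)) (hp : p.IsPrime) (hp0 : p ≠ ⊥) (i : ι), σ i ∉ p →
      ∀ j, j ≠ i → σ j ∈ p := by
    intro p hp hp0 i hi j hji
    obtain ⟨hmax, hcomap⟩ := hmapmax p hp hp0 i hi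
    obtain ⟨hmem, hjac⟩ := hsjac j i (Ne.symm hji)
    rw [Ideal.jacobson, Ideal.mem_sInf] at hjac
    have h1 : (⟨s j, hmem⟩ : A i) ∈ p.map (algebraMap ↥(⨅ j, A j) (A i)) := hjac ⟨bot_le, hmax⟩
    rw [← hcomap, Ideal.mem_comap]
    exact h1
  -- nonzero prime exists
  obtain ⟨i0⟩ := ‹Nonempty ι›
  have hnfA : ∀ i, ¬ IsField (A i) := fun i => not_isField_of_dim K (A i) (hdim i)
  obtain ⟨m0, hm0⟩ := Ideal.exists_maximal (A i0)
  have hm00 : m0 ≠ ⊥ := Ring.ne_bot_of_isMaximal_of_not_isField hm0 (hnfA i0)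
  set p0 : Ideal ↥(⨅ j, A j) := m0.comap (algebraMap ↥(⨅ j, A j) (A i0)) with hp0def
  have hp0prime : p0.IsPrime := Ideal.comap_isPrime _ _
  have hp0ne : p0 ≠ ⊥ := by
    intro h
    have := IsLocalization.map_under (Submonoid.powers (σ i0)) (A i0) m0
    change Ideal.map _ p0 = m0 at this
    rw [h, Ideal.map_bot] at this
    exact hm00 this.symm
  have hRnf : ¬ IsField ↥(⨅ j, A j) := by
    exact Ring.not_isField_iff_exists_prime.2 ⟨p0, hp0ne, hp0prime⟩
  -- maximality of nonzero primes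
  have hmaxOfPrime : ∀ (p : Ideal ↥(⨅ j, A j)), p ≠ ⊥ → p.IsPrime → p.IsMaximal := by
    intro p hp0 hp
    obtain ⟨i, hi⟩ := hcover p hp
    obtain ⟨q, hq, hpq⟩ := Ideal.exists_le_maximal p hp.ne_top
    have hiq : σ i ∉ q := by
      intro hiq
      have : (1 : ↥(⨅ j, A j)) ∈ q := by
        rw [← hσsum]
        refine q.sum_mem (fun j _ => ?_)
        by_cases hji : j = i
        · rw [hji]; exact hiq
        · exact hpq (hU p hp hp0 i hi j hji)
      exact hq.ne_top ((Ideal.eq_top_iff_one _).2 this)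
    have hq0 : q ≠ ⊥ := fun h => hp0 (le_bot_iff.1 (h ▸ hpq))
    obtain ⟨hPmax, hPc⟩ := hmapmax p hp hp0 i hi
    obtain ⟨hQmax, hQc⟩ := hmapmax q hq.isPrime hq0 i hiq
    have hle : p.map (algebraMap ↥(⨅ j, A j) (A i)) ≤ q.map (algebraMap ↥(⨅ j, A j) (A i)) :=
      Ideal.map_mono hpq
    have heq := hPmax.eq_of_le hQmax.ne_top hle
    have : p = q := by rw [← hPc, ← hQc, heq]
    rw [this]; exact hq
  refine ⟨?_, ?_, ?_, ?_, ?_, ?_, ?_⟩
  · -- Noetherian
    rw [isNoetherianRing_iff_ideal_fg]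
    intro I
    refine Ideal.fg_of_localizationSpan (Set.range σ) ?_ ?_
    · rw [Ideal.eq_top_iff_one, ← hσsum]
      exact Ideal.sum_mem _ (fun i _ => Ideal.subset_span ⟨i, rfl⟩)
    · rintro ⟨_, i, rfl⟩
      have e := IsLocalization.algEquiv (Submonoid.powers (σ i)) (A i) (Localization.Away (σ i))
      have : IsNoetherianRing (Localization.Away (σ i)) :=
        isNoetherianRing_of_ringEquiv (A i) e.toRingEquiv
      exact IsNoetherian.noetherian _
  · -- dimension
    apply le_antisymm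
    · exact Ring.krullDimLE_iff.1 (Ring.KrullDimLE.mk₁' hmaxOfPrime)
    · apply Order.one_le_krullDim_iff.2
      refine ⟨⟨⊥, Ideal.isPrime_bot⟩, ⟨p0, hp0prime⟩, ?_⟩
      exact (PrimeSpectrum.asIdeal_lt_asIdeal _ _).1 (bot_lt_iff_ne_bot.2 hp0ne)
  · -- semilocal
    have hchoice : ∀ m : MaximalSpectrum ↥(⨅ j, A j), ∃ i, σ i ∉ m.asIdeal := fun m =>
      hcover m.asIdeal m.isMaximal.isPrime
    choose idx hidx using hchoice
    have hm0 : ∀ m : MaximalSpectrum ↥(⨅ j, A j), m.asIdeal ≠ ⊥ := fun m =>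
      Ring.ne_bot_of_isMaximal_of_not_isField m.isMaximal hRnf
    let f : MaximalSpectrum ↥(⨅ j, A j) → Σ i, MaximalSpectrum (A i) := fun m =>
      ⟨idx m, ⟨_, (hmapmax m.asIdeal m.isMaximal.isPrime (hm0 m) (idx m) (hidx m)).1⟩⟩
    refine Finite.of_injective f ?_
    intro m m' hmm'
    have h1 : idx m = idx m' := congrArg Sigma.fst hmm'
    have h2 := (hmapmax m.asIdeal m.isMaximal.isPrime (hm0 m) (idx m) (hidx m)).2
    have h3 := (hmapmax m'.asIdeal m'.isMaximal.isPrime (hm0 m') (idx m') (hidx m')).2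
    apply MaximalSpectrum.ext
    rw [← h2, ← h3]
    have h4 : ∀ (i i' : ι) (hii' : i = i') (P : MaximalSpectrum (A i)) (P' : MaximalSpectrum (A i')),
        (⟨i, P⟩ : Σ i, MaximalSpectrum (A i)) = ⟨i', P'⟩ →
        P.asIdeal.comap (algebraMap ↥(⨅ j, A j) (A i)) =
          P'.asIdeal.comap (algebraMap ↥(⨅ j, A j) (A i')) := by
      intro i i' hii' P P' hPP'
      subst hii'
      have := eq_of_heq (Sigma.mk.inj hPP').2
      rw [this]
    exact h4 _ _ h1 _ _ hmm'
  · -- fraction ring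
    apply IsFractionRing.of_field
    intro z
    obtain ⟨a, b, hb, rfl⟩ := IsFractionRing.div_surjective (A := A i0) z
    have hb0 : (b : K) ≠ 0 := fun h => nonZeroDivisors.ne_zero hb (Subtype.ext h)
    obtain ⟨n1, hn1⟩ := exists_pow_mul_mem_iInf K A hdim s hsA hsjac i0 a.1 a.2
    obtain ⟨n2, hn2⟩ := exists_pow_mul_mem_iInf K A hdim s hsA hsjac i0 b.1 b.2
    have hsmem : s i0 ∈ ⨅ j, A j := Subring.mem_iInf.2 (hsA i0)
    refine ⟨⟨a.1 * s i0 ^ n1 * s i0 ^ n2, Subring.mul_mem _ hn1 (Subring.pow_mem _ hsmem _)⟩,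
      ⟨b.1 * s i0 ^ n2 * s i0 ^ n1, Subring.mul_mem _ hn2 (Subring.pow_mem _ hsmem _)⟩, ?_⟩
    change (a : K) / (b : K) = (a.1 * s i0 ^ n1 * s i0 ^ n2) / (b.1 * s i0 ^ n2 * s i0 ^ n1)
    have := hs0 i0
    field_simp
  · intro i
    exact IsOpenImmersion.of_isLocalization (σ i)
  · rw [Set.eq_univ_iff_forall]
    intro p
    obtain ⟨i, hi⟩ := hcover p.asIdeal p.isPrime
    rw [Set.mem_iUnion]
    exact ⟨i, (Set.ext_iff.1 (hrange i) p).2 hi⟩
  · intro m hm
    have hm0 : m.asIdeal ≠ ⊥ := Ring.ne_bot_of_isMaximal_of_not_isField hm hRnf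
    obtain ⟨i, hi⟩ := hcover m.asIdeal m.isPrime
    refine ⟨i, ?_, ?_⟩
    · exact (Set.ext_iff.1 (hrange i) m).2 hi
    · intro j hj
      have hj := (Set.ext_iff.1 (hrange j) m).1 hj
      by_contra hji
      exact hj (hU m.asIdeal m.isPrime hm0 i hi j hji)

end multiglue

section normdvrs
variable (K : Type u) [Field K] (B : Subring K) [IsFractionRing B K] [IsNoetherianRing B]

/-- the DVRs of the normalization of `B` -/
noncomputable def normDVRs (hdim : ringKrullDim B = 1) : Set (ValuationSubring K) :=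
  haveI := normalization_dedekind K B hdim
  haveI := normalization_fraction K B
  Set.range (fun v : HeightOneSpectrum (integralClosure B K) => (v.valuation K).valuationSubring)

theorem normDVRs_finite (hdim : ringKrullDim B = 1) (hsl : Finite (MaximalSpectrum B)) :
    (normDVRs K B hdim).Finite := by
  haveI := normalization_finite K B hdim hsl
  exact Set.finite_range _

theorem normDVRs_prop (hdim : ringKrullDim B = 1) (W : ValuationSubring K)
    (hW : W ∈ normDVRs K B hdim) : IsDiscreteValuationRing W ∧ B ≤ W.toSubring := by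
  haveI := normalization_dedekind K B hdim
  haveI := normalization_fraction K B
  obtain ⟨v, rfl⟩ := hW
  refine ⟨inferInstance, ?_⟩
  intro b hb
  have hmem : b ∈ integralClosure B K := (integralClosure B K).algebraMap_mem ⟨b, hb⟩
  exact v.valuation_le_one (⟨b, hmem⟩ : integralClosure B K)

theorem normDVRs_pow (hdim : ringKrullDim B = 1) (g : K)
    (hg : ∀ W ∈ normDVRs K B hdim, g ∉ W) : ∃ n0 : ℕ, ∀ n ≥ n0, InJac B (g⁻¹ ^ n) := by
  haveI := normalization_dedekind K B hdim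
  haveI := normalization_fraction K B
  apply exists_pow_inJac K B hdim g⁻¹
  intro v
  have h1 : g ∉ (v.valuation K).valuationSubring := hg _ ⟨v, rfl⟩
  rw [Valuation.mem_valuationSubring_iff, not_le] at h1
  rw [map_inv₀]
  exact inv_lt_one_of_one_lt₀ h1

end normdvrs

section family
variable (K : Type u) [Field K]

theorem InJac.sum {A : Subring K} {ι : Type*} (s : Finset ι) (f : ι → K)
    (h : ∀ i ∈ s, InJac A (f i)) : InJac A (∑ i ∈ s, f i) := by
  classical
  induction s using Finset.induction_on with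
  | empty => simpa using InJac.zero
  | insert a s ha ih =>
    rw [Finset.sum_insert ha]
    exact (h a (Finset.mem_insert_self a s)).add (ih (fun i hi => h i (Finset.mem_insert_of_mem hi)))

theorem key_family {ι : Type*} (A : Subring K) [IsFractionRing A K]
    (hdimA : ringKrullDim A = 1) (hslA : Finite (MaximalSpectrum A))
    (B : ι → Subring K) [∀ j, IsFractionRing (B j) K] [∀ j, IsNoetherianRing (B j)]
    (hdimB : ∀ j, ringKrullDim (B j) = 1) (hslB : ∀ j, Finite (MaximalSpectrum (B j)))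
    (s : Finset ι) (hgen : ∀ j ∈ s, A ⊔ B j = ⊤) :
    ∃ g : K, Good A g ∧ ∀ j ∈ s, InJac (B j) g⁻¹ := by
  classical
  set T : Set (ValuationSubring K) := ⋃ j ∈ s, normDVRs K (B j) (hdimB j) with hT
  have hTfin : T.Finite :=
    Set.Finite.biUnion s.finite_toSet (fun j _ => normDVRs_finite K (B j) (hdimB j) (hslB j))
  have hSprop : ∀ W ∈ hTfin.toFinset, IsDiscreteValuationRing W ∧ ∃ g : K, Good A g ∧ g ∉ W := by
    intro W hW
    rw [Set.Finite.mem_toFinset, hT, Set.mem_iUnion₂] at hW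
    obtain ⟨j, hj, hWj⟩ := hW
    obtain ⟨hdvr, hBW⟩ := normDVRs_prop K (B j) (hdimB j) W hWj
    refine ⟨hdvr, ?_⟩
    have hnot : ¬ A ≤ W.toSubring := by
      intro hA
      have hle : A ⊔ B j ≤ W.toSubring := sup_le hA hBW
      rw [hgen j hj] at hle
      exact dvr_not_all K W (fun k => hle (Subring.mem_top k))
    rw [SetLike.not_le_iff_exists] at hnot
    obtain ⟨a, haA, haW⟩ := hnot
    exact exists_good_of_notMem K A hdimA hslA W a haA haW
  obtain ⟨g, hg, hgS⟩ := exists_good_notMem_finset A hTfin.toFinset hSprop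
  have hev : ∀ j ∈ s, ∀ᶠ n : ℕ in Filter.atTop, InJac (B j) (g⁻¹ ^ n) := by
    intro j hj
    have hgW : ∀ W ∈ normDVRs K (B j) (hdimB j), g ∉ W := by
      intro W hW
      apply hgS W
      rw [Set.Finite.mem_toFinset, hT, Set.mem_iUnion₂]
      exact ⟨j, hj, hW⟩
    obtain ⟨n0, hn0⟩ := normDVRs_pow K (B j) (hdimB j) g hgW
    rw [Filter.eventually_atTop]
    exact ⟨n0, hn0⟩
  obtain ⟨n, hn⟩ := ((Filter.eventually_all_finset s).2 hev).exists
  refine ⟨g ^ n, hg.pow n, fun j hj => ?_⟩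
  rw [← inv_pow]
  exact hn j hj

end family


theorem S7665_main (K : Type u) [Field K] (r : ℕ) (hr : 1 ≤ r)
    (A : Fin r → Subring K) [∀ i, IsNoetherianRing (A i)] [∀ i, IsFractionRing (A i) K]
    (hdim : ∀ i, ringKrullDim (A i) = 1) (hsl : ∀ i, Finite (MaximalSpectrum (A i)))
    (hgen : ∀ i j, i ≠ j → A i ⊔ A j = ⊤) :
    IsNoetherianRing ↥(⨅ i, A i) ∧ ringKrullDim ↥(⨅ i, A i) = 1 ∧ Finite (MaximalSpectrum ↥(⨅ i, A i)) ∧
      IsFractionRing ↥(⨅ i, A i) K ∧
      (∀ i, IsOpenImmersion (Spec.map (CommRingCat.ofHom (Subring.inclusion (iInf_le A i))))) ∧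
      (⋃ i, Set.range (Spec.map (CommRingCat.ofHom (Subring.inclusion (iInf_le A i)))).base) = Set.univ ∧
      (∀ m : PrimeSpectrum ↥(⨅ i, A i), m.asIdeal.IsMaximal →
        ∃! i, m ∈ Set.range (Spec.map (CommRingCat.ofHom (Subring.inclusion (iInf_le A i)))).base) := by
  classical
  haveI : Nonempty (Fin r) := ⟨⟨0, hr⟩⟩
  have hkey : ∀ i : Fin r, ∃ g : K, Good (A i) g ∧ ∀ j ∈ Finset.univ.erase i, InJac (A j) g⁻¹ :=
    fun i => key_family K (A i) (hdim i) (hsl i) A hdim hsl (Finset.univ.erase i)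
      (fun j hj => hgen i j (Ne.symm (Finset.ne_of_mem_erase hj)))
  choose g hg hgj using hkey
  set t : Fin r → K := fun i => (g i)⁻¹ with ht
  set e : K := ∑ i, t i with he
  have htj : ∀ i j, j ≠ i → InJac (A j) (t i) := fun i j hji =>
    hgj i j (Finset.mem_erase.2 ⟨hji, Finset.mem_univ j⟩)
  have hegood : ∀ j, Good (A j) e := by
    intro j
    have h1 : InJac (A j) (t j - 1) := by
      have := (hg j).one_sub_inv.neg
      have e1 : -(1 - (g j)⁻¹) = t j - 1 := by rw [ht]; ring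
      rwa [e1] at this
    have h2 : InJac (A j) (∑ i ∈ Finset.univ.erase j, t i) :=
      InJac.sum K _ _ (fun i hi => htj i j (Ne.symm (Finset.ne_of_mem_erase hi)))
    have h3 := good_one_add (h1.add h2)
    have e2 : 1 + (t j - 1 + ∑ i ∈ Finset.univ.erase j, t i) = e := by
      rw [he, ← Finset.add_sum_erase Finset.univ t (Finset.mem_univ j)]; ring
    rwa [e2] at h3
  have htmem : ∀ i j, t i ∈ A j := by
    intro i j
    by_cases hji : j = i
    · subst hji; exact (hg j).2.1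
    · exact (htj i j hji).mem
  have ht0 : ∀ i, t i ≠ 0 := fun i => inv_ne_zero (hg i).2.2.1
  have he0 : e ≠ 0 := (hegood ⟨0, hr⟩).2.2.1
  set s : Fin r → K := fun i => t i * e⁻¹ with hs
  have hsA : ∀ i j, s i ∈ A j := fun i j => (A j).mul_mem (htmem i j) (hegood j).2.1
  have hsinv : ∀ i, (s i)⁻¹ ∈ A i := by
    intro i
    have : (s i)⁻¹ = g i * e := by rw [hs, ht]; simp; ring
    rw [this]
    exact (A i).mul_mem (hg i).1 (hegood i).1
  have hs0 : ∀ i, s i ≠ 0 := fun i => mul_ne_zero (ht0 i) (inv_ne_zero he0)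
  have hsjac : ∀ i j, j ≠ i → InJac (A j) (s i) := fun i j hji =>
    (htj i j hji).mul_right (hegood j).2.1
  have hsum : ∑ i, s i = 1 := by
    rw [hs, ← Finset.sum_mul, ← he, mul_inv_cancel₀ he0]
  exact multiglue K A hdim s hsA hsinv hs0 hsjac hsum hsl

end Groth.Agent.Lib.Helper4.Glue
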