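import Mathlib
import Groth.Agent.Lib.Helper4.Glue3

/-!
# Variants of the gluing toolkit (S1640, S1665)
-/

set_option autoImplicit false
set_option linter.unusedSectionVars false
set_option linter.style.haveILetI false

namespace Groth.Agent.Lib.Helper4.Glue

open AlgebraicGeometry CategoryTheory CategoryTheory.Limits IsDedekindDomain

universe u

section finset'
variable {K : Type u} [Field K] (A : Subring K)

theorem exists_mem_notMem_finset (S : Finset (ValuationSubring K))
    (hS : ∀ W ∈ S, IsDiscreteValuationRing W ∧ ∃ a : K, a ∈ A ∧ a ∉ W) :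
    ∃ x : K, x ∈ A ∧ x ≠ 0 ∧ ∀ W ∈ S, x ∉ W := by
  classical
  induction S using Finset.induction_on with
  | empty => exact ⟨1, A.one_mem, one_ne_zero, by simp⟩
  | insert q s hq ih =>
    obtain ⟨g', hg'A, -, hg's⟩ := ih (fun W hW => hS W (Finset.mem_insert_of_mem hW))
    obtain ⟨hqd, gq, hgq, hgqq⟩ := hS q (Finset.mem_insert_self q s)
    have hev1 : ∀ W ∈ s, ∀ᶠ m : ℕ in Filter.atTop, g' ^ m + gq ∉ W := by
      intro W hW
      have := (hS W (Finset.mem_insert_of_mem hW)).1
      exact eventually_pow_add_notMem W g' (hg's W hW) gq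
    have hev2 : ∀ᶠ m : ℕ in Filter.atTop, g' ^ m + gq ∉ q := by
      by_cases hg'q : g' ∈ q
      · refine Filter.Eventually.of_forall (fun m hmem => hgqq ?_)
        have e : gq = (g' ^ m + gq) - g' ^ m := by ring
        rw [e]
        exact sub_mem hmem (pow_mem hg'q m)
      · exact eventually_pow_add_notMem q g' hg'q gq
    have hev := ((Filter.eventually_all_finset s).2 hev1).and hev2
    obtain ⟨m, hm1, hm2⟩ := hev.exists
    refine ⟨g' ^ m + gq, A.add_mem (A.pow_mem hg'A m) hgq, ?_, ?_⟩
    · intro h0
      apply hm2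
      rw [h0]
      exact q.zero_mem
    · intro W hW
      rcases Finset.mem_insert.1 hW with rfl | hWs
      · exact hm2
      · exact hm1 W hWs

end finset'

theorem S1640_main (K : Type u) [Field K] (A : Subring K) [IsFractionRing A K]
    (r : ℕ) (B : Fin r → Subring K) [∀ i, IsNoetherianRing (B i)] [∀ i, IsFractionRing (B i) K]
    (hdim : ∀ i, ringKrullDim (B i) = 1) (hsl : ∀ i, Finite (MaximalSpectrum (B i)))
    (hgen : ∀ i, A ⊔ B i = ⊤) :
    ∃ x : K, x ∈ A ∧ x ≠ 0 ∧ ∀ i, ∃ hx : x⁻¹ ∈ B i, (⟨x⁻¹, hx⟩ : B i) ∈ (⊥ : Ideal (B i)).jacobson := by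
  classical
  set T : Set (ValuationSubring K) := ⋃ j, normDVRs K (B j) (hdim j) with hT
  have hTfin : T.Finite :=
    Set.finite_iUnion (fun j => normDVRs_finite K (B j) (hdim j) (hsl j))
  have hSprop : ∀ W ∈ hTfin.toFinset, IsDiscreteValuationRing W ∧ ∃ a : K, a ∈ A ∧ a ∉ W := by
    intro W hW
    rw [Set.Finite.mem_toFinset, hT, Set.mem_iUnion] at hW
    obtain ⟨j, hWj⟩ := hW
    obtain ⟨hdvr, hBW⟩ := normDVRs_prop K (B j) (hdim j) W hWj
    refine ⟨hdvr, ?_⟩
    have hnot : ¬ A ≤ W.toSubring := by
      intro hA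
      have hle : A ⊔ B j ≤ W.toSubring := sup_le hA hBW
      rw [hgen j] at hle
      exact dvr_not_all K W (fun k => hle (Subring.mem_top k))
    rw [SetLike.not_le_iff_exists] at hnot
    exact hnot
  obtain ⟨g, hgA, hg0, hgS⟩ := exists_mem_notMem_finset A hTfin.toFinset hSprop
  have hev : ∀ j, ∀ᶠ n : ℕ in Filter.atTop, InJac (B j) (g⁻¹ ^ n) := by
    intro j
    have hgW : ∀ W ∈ normDVRs K (B j) (hdim j), g ∉ W := by
      intro W hW
      apply hgS W
      rw [Set.Finite.mem_toFinset, hT, Set.mem_iUnion]
      exact ⟨j, hW⟩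
    obtain ⟨n0, hn0⟩ := normDVRs_pow K (B j) (hdim j) g hgW
    rw [Filter.eventually_atTop]
    exact ⟨n0, hn0⟩
  obtain ⟨n, hn⟩ := (Filter.eventually_all.2 hev).exists
  refine ⟨g ^ n, A.pow_mem hgA n, pow_ne_zero n hg0, fun j => ?_⟩
  have := hn j
  rw [inv_pow] at this
  exact this

section cond
variable (B : Type u) [CommRing B] [IsDomain B] [IsNoetherianRing B]

theorem S1665_main (hdim : ringKrullDim B = 1) (hsl : Finite (MaximalSpectrum B)) :
    IsDedekindDomain (integralClosure B (FractionRing B)) ∧ Finite (MaximalSpectrum (integralClosure B (FractionRing B))) ∧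
      ∀ x : integralClosure B (FractionRing B), x ≠ 0 → x ∈ (⊥ : Ideal (integralClosure B (FractionRing B))).jacobson →
        ∀ y : integralClosure B (FractionRing B), ∃ n : ℕ, (x ^ n * y).1 ∈ (algebraMap B (FractionRing B)).range := by
  classical
  set K := FractionRing B with hK
  obtain ⟨hded, -, hfib, -⟩ := KA.dedekind_main B K K (integralClosure B K) hdim
  have hint : Algebra.IsIntegral B (integralClosure B K) := inferInstance
  refine ⟨hded, ?_, ?_⟩
  · -- finitely many maximal ideals
    set T : Set (PrimeSpectrum (integralClosure B K)) :=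
      ⋃ m : MaximalSpectrum B, PrimeSpectrum.comap (algebraMap B (integralClosure B K)) ⁻¹'
        {m.toPrimeSpectrum} with hT
    have hTfin : T.Finite := Set.finite_iUnion (fun m => hfib m.toPrimeSpectrum)
    have hmem : ∀ v : MaximalSpectrum (integralClosure B K), v.toPrimeSpectrum ∈ T := by
      intro v
      have hmax : (v.asIdeal.comap (algebraMap B (integralClosure B K))).IsMaximal :=
        Ideal.isMaximal_comap_of_isIntegral_of_isMaximal (R := B) v.asIdeal
      rw [hT, Set.mem_iUnion]
      refine ⟨⟨_, hmax⟩, ?_⟩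
      rw [Set.mem_preimage, Set.mem_singleton_iff]
      rfl
    have := hTfin.to_subtype
    refine Finite.of_injective (fun v => (⟨_, hmem v⟩ : T)) ?_
    intro v w hvw
    have h1 := congrArg (fun t : T => t.1.asIdeal) hvw
    exact MaximalSpectrum.ext h1
  · intro x hx0 hxjac y
    have hxint : IsIntegral B (x : K) := x.2
    have hyint : IsIntegral B (y : K) := y.2
    set C : Subalgebra B K := Algebra.adjoin B {(x : K), (y : K)} with hC
    have hCfg : (Subalgebra.toSubmodule C).FG := by
      apply fg_adjoin_of_finite (Set.toFinite _)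
      intro z hz
      rcases hz with rfl | rfl
      · exact hxint
      · exact hyint
    obtain ⟨d, hd, hdint⟩ := FractionalIdeal.isFractional_of_fg (S := nonZeroDivisors B) hCfg
    have hd0 : d ≠ 0 := nonZeroDivisors.ne_zero hd
    have hCle : C ≤ integralClosure B K := by
      apply Algebra.adjoin_le
      intro z hz
      rcases hz with rfl | rfl
      · exact hxint
      · exact hyint
    have inj : Function.Injective (algebraMap C K) := Subtype.val_injective
    have hK1C : Ring.KrullDimLE 1 C := by
      apply Ring.KrullDimLE.mk₁'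
      intro n hn0 hnp
      obtain ⟨z, hz0, hzn⟩ := KA.exists_nonzero_mem B K K C inj n hn0
      exact (KA.primes_containing B hdim K K C inj z hz0).1 n hnp hzn
    have hxC : (x : K) ∈ C := Algebra.subset_adjoin (Set.mem_insert _ _)
    have hyC : (y : K) ∈ C := Algebra.subset_adjoin (Set.mem_insert_of_mem _ rfl)
    have hjac : (⟨x, hxC⟩ : C) ∈ Ideal.jacobson (⊥ : Ideal C) := by
      rw [Ideal.mem_jacobson_bot]
      intro c
      set z : K := (x : K) * c + 1 with hz
      have hzC : z ∈ C := C.add_mem (C.mul_mem hxC c.2) C.one_mem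
      -- z is a unit of the integral closure
      have hu : IsUnit (x * (⟨c, hCle c.2⟩ : integralClosure B K) + 1) :=
        (Ideal.mem_jacobson_bot.1 hxjac) _
      obtain ⟨u, hu'⟩ := hu
      have hzu : z = ((u : integralClosure B K) : K) := by
        rw [hu']; rfl
      have huinv : ((u : integralClosure B K) : K) * ((u⁻¹ : (integralClosure B K)ˣ) : integralClosure B K) = 1 := by
        have := congrArg Subtype.val u.mul_inv
        exact this
      have hz0 : z ≠ 0 := by
        intro h0
        rw [← hzu, h0, zero_mul] at huinv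
        exact zero_ne_one huinv
      have hzinv : z⁻¹ = (((u⁻¹ : (integralClosure B K)ˣ) : integralClosure B K) : K) := by
        rw [hzu]
        exact (eq_inv_of_mul_eq_one_right huinv).symm ▸ rfl
      have heint : IsIntegral B z⁻¹ := by
        rw [hzinv]
        exact ((u⁻¹ : (integralClosure B K)ˣ) : integralClosure B K).2
      have hinvC := inv_mem_of_isIntegral C z hzC hz0 heint
      refine IsUnit.of_mul_eq_one (⟨z⁻¹, hinvC⟩ : C) ?_
      apply Subtype.ext
      change ((x : K) * c + 1) * z⁻¹ = 1
      exact mul_inv_cancel₀ hz0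
    have hdC0 : algebraMap B C d ≠ 0 := by
      intro h
      apply hd0
      have := congrArg Subtype.val h
      exact (IsFractionRing.injective B K) (by rw [map_zero]; exact this)
    obtain ⟨n0, hn0⟩ := exists_pow_mem_span (⟨x, hxC⟩ : C) hjac (algebraMap B C d) hdC0
    rw [Ideal.mem_span_singleton'] at hn0
    obtain ⟨c0, hc0⟩ := hn0
    have hc0' : (c0 : K) * algebraMap B K d = (x : K) ^ n0 := by
      have := congrArg Subtype.val hc0
      exact this
    refine ⟨n0, ?_⟩
    have hmem : (c0 : K) * (y : K) ∈ Subalgebra.toSubmodule C := C.mul_mem c0.2 hyC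
    obtain ⟨b, hb⟩ := hdint _ hmem
    refine ⟨b, ?_⟩
    rw [hb]
    change d • ((c0 : K) * (y : K)) = (x : K) ^ n0 * (y : K)
    rw [Algebra.smul_def, ← hc0']
    ring

end cond

end Groth.Agent.Lib.Helper4.Glue
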