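import Mathlib
import Groth.Agent.Lib.Helper4.ZMTNormalPt1

/-!
# Valuative criterion for birational universally closed morphisms: iso near points whose local ring is a valuation ring (helper4)
-/

set_option backward.isDefEq.respectTransparency.types false
set_option synthInstance.maxHeartbeats 400000
set_option autoImplicit false
set_option linter.unusedSectionVars false
set_option linter.style.haveILetI false
set_option linter.unusedSimpArgs false
universe u v w
open CategoryTheory CategoryTheory.Limits AlgebraicGeometry TopologicalSpace IsLocalRing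
open Groth.Agent.Lib.Helper4.LocalIso Groth.Agent.Lib.Helper4.LocalIso2
open Groth.Agent.Lib.Helper4.ZMTBirational Groth.Agent.Lib.Helper4.ZMTNormalPt1

namespace Groth.Agent.Lib.Helper4.ValCritBirational1

/-- A lift of `Spec 𝒪_{Y,y} → Y` through `f` that is generically the generic point of the integral
scheme `X` gives a point over `y` at which the stalk map of `f` is bijective. -/
theorem bijective_stalkMap_of_lift {X Y : Scheme.{u}} [IsIntegral X] (f : X ⟶ Y) (y : Y)
    (l : Spec (Y.presheaf.stalk y) ⟶ X) (hl : l ≫ f = Y.fromSpecStalk y)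
    (a : Y.presheaf.stalk y ⟶ X.presheaf.stalk (genericPoint X))
    (hfac : Spec.map a ≫ l = X.fromSpecStalk (genericPoint X)) :
    ∃ x : X, f x = y ∧ Function.Bijective (f.stalkMap x).hom := by
  let x : X := l (closedPoint (Y.presheaf.stalk y))
  have hfx : f x = y := by
    show (l ≫ f) (closedPoint (Y.presheaf.stalk y)) = y
    rw [hl, Scheme.fromSpecStalk_closedPoint]
  refine ⟨x, hfx, ?_⟩
  let ρ : X.presheaf.stalk x ⟶ Y.presheaf.stalk y := Scheme.stalkClosedPointTo l
  have hρ : Spec.map ρ ≫ X.fromSpecStalk x = l := Scheme.Spec_stalkClosedPointTo_fromSpecStalk l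
  have hspX : genericPoint X ⤳ x := (genericPoint_spec X).specializes trivial
  -- ρ followed by a is the specialization map
  have h1 : ρ ≫ a = X.presheaf.stalkSpecializes hspX := by
    apply Spec.map_injective
    rw [← cancel_mono (X.fromSpecStalk x), Spec.map_comp, Category.assoc, hρ, hfac,
      Scheme.SpecMap_stalkSpecializes_fromSpecStalk]
  have hρinj : Function.Injective ρ.hom := by
    have : Function.Injective (ρ ≫ a).hom := by
      rw [h1]; exact stalkSpecializes_injective x hspX
    rw [CommRingCat.hom_comp] at this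
    exact Function.Injective.of_comp this
  -- the stalk map followed by ρ is a specialization map for an equality
  have hsp' : y ⤳ f x := specializes_of_eq hfx.symm
  have h2 : f.stalkMap x ≫ ρ = Y.presheaf.stalkSpecializes hsp' := by
    apply Spec.map_injective
    rw [← cancel_mono (Y.fromSpecStalk (f x)), Spec.map_comp, Category.assoc,
      Scheme.SpecMap_stalkMap_fromSpecStalk, reassoc_of% hρ, hl,
      Scheme.SpecMap_stalkSpecializes_fromSpecStalk]
  have hbij2 : Function.Bijective (Y.presheaf.stalkSpecializes hsp').hom := by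
    have : IsIso (Y.presheaf.stalkSpecializes hsp') :=
      (Y.presheaf.stalkCongr (Inseparable.of_eq hfx)).isIso_hom
    exact (ConcreteCategory.isIso_iff_bijective _).mp this
  have hbij3 : Function.Bijective (ρ.hom ∘ (f.stalkMap x).hom) := by
    have : (f.stalkMap x ≫ ρ).hom = (Y.presheaf.stalkSpecializes hsp').hom := by rw [h2]
    rw [CommRingCat.hom_comp] at this
    have h3 : ρ.hom ∘ (f.stalkMap x).hom = (Y.presheaf.stalkSpecializes hsp').hom := by
      ext t; exact congrArg (fun g => g t) this
    rw [h3]; exact hbij2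
  refine ⟨Function.Injective.of_comp hbij3.1, ?_⟩
  intro s
  obtain ⟨t, ht⟩ := hbij3.2 (ρ.hom s)
  exact ⟨t, hρinj ht⟩



/-- Existence part of the valuative criterion, unbundled. -/
theorem exists_lift_of_universallyClosed {X Y : Scheme.{u}} (f : X ⟶ Y) [UniversallyClosed f]
    (R : CommRingCat.{u}) [IsDomain R] [ValuationRing R] (K : CommRingCat.{u})
    (hK : IsField K) (a : R ⟶ K)
    (hfr : letI := a.hom.toAlgebra; IsFractionRing R K)
    (i₁ : Spec K ⟶ X) (i₂ : Spec R ⟶ Y) (h : i₁ ≫ f = Spec.map a ≫ i₂) :
    ∃ l : Spec R ⟶ X, Spec.map a ≫ l = i₁ ∧ l ≫ f = i₂ := by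
  have hex : ValuativeCriterion.Existence f := by
    have h : (ValuativeCriterion.Existence ⊓ @QuasiCompact) f := by
      rw [← UniversallyClosed.eq_valuativeCriterion]; infer_instance
    exact h.1
  letI fld : Field K := hK.toField
  letI alg : Algebra R K := a.hom.toAlgebra
  haveI : IsFractionRing R K := hfr
  let S : ValuativeCommSq f :=
    { R := R
      K := K
      i₁ := i₁
      i₂ := i₂
      commSq := ⟨h⟩ }
  obtain ⟨⟨l⟩⟩ := hex S
  exact ⟨l.l, l.fac_left, l.fac_right⟩



/-- Valuative criterion: a universally closed birational morphism of integral schemes has a point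
with bijective stalk map over every point whose local ring is a valuation ring. -/
theorem exists_bijective_stalkMap_of_valuationRing {X Y : Scheme.{u}} [IsIntegral X]
    [IsIntegral Y] (f : X ⟶ Y) [UniversallyClosed f]
    (hgen : f (genericPoint X) = genericPoint Y) (hbir : IsIso (f.stalkMap (genericPoint X)))
    (y : Y) [ValuationRing (Y.presheaf.stalk y)] :
    ∃ x : X, f x = y ∧ Function.Bijective (f.stalkMap x).hom := by
  have hspY : f (genericPoint X) ⤳ y := by
    rw [hgen]; exact (genericPoint_spec Y).specializes trivial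
  let a : Y.presheaf.stalk y ⟶ X.presheaf.stalk (genericPoint X) :=
    Y.presheaf.stalkSpecializes hspY ≫ f.stalkMap (genericPoint X)
  have hfr : letI := a.hom.toAlgebra;
      IsFractionRing (Y.presheaf.stalk y) (X.presheaf.stalk (genericPoint X)) := by
    letI alg1 : Algebra (Y.presheaf.stalk y) (Y.presheaf.stalk (f (genericPoint X))) :=
      (Y.presheaf.stalkSpecializes hspY).hom.toAlgebra
    haveI hfr1 : IsFractionRing (Y.presheaf.stalk y) (Y.presheaf.stalk (f (genericPoint X))) :=
      isFractionRing_stalkSpecializes _ _ hgen hspY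
    letI alg2 : Algebra (Y.presheaf.stalk y) (X.presheaf.stalk (genericPoint X)) :=
      a.hom.toAlgebra
    have hbij : Function.Bijective (f.stalkMap (genericPoint X)).hom :=
      (ConcreteCategory.isIso_iff_bijective _).mp hbir
    let e : Y.presheaf.stalk (f (genericPoint X)) ≃ₐ[Y.presheaf.stalk y]
        X.presheaf.stalk (genericPoint X) :=
      AlgEquiv.ofRingEquiv (f := RingEquiv.ofBijective (f.stalkMap (genericPoint X)).hom hbij)
        (fun t => rfl)
    exact IsLocalization.isLocalization_of_algEquiv _ e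
  have hK : IsField (X.presheaf.stalk (genericPoint X)) :=
    (inferInstance : Field X.functionField).toIsField
  obtain ⟨l, hl1, hl2⟩ := exists_lift_of_universallyClosed f (Y.presheaf.stalk y)
    (X.presheaf.stalk (genericPoint X)) hK a hfr (X.fromSpecStalk (genericPoint X))
    (Y.fromSpecStalk y) (by
      rw [Spec.map_comp, Category.assoc, Scheme.SpecMap_stalkSpecializes_fromSpecStalk,
          Scheme.SpecMap_stalkMap_fromSpecStalk])
  exact bijective_stalkMap_of_lift f y l hl2 a hl1



/-- A Noetherian integrally closed local domain of dimension at most one is a valuation ring. -/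
theorem valuationRing_of_dim_le_one (R : Type*) [CommRing R] [IsDomain R] [IsLocalRing R]
    [IsNoetherianRing R] [IsIntegrallyClosed R] (hdim : ringKrullDim R ≤ 1) :
    ValuationRing R := by
  by_cases hF : IsField R
  · letI := hF.toField
    infer_instance
  · haveI : Ring.KrullDimLE 1 R := ⟨by rw [Nat.cast_one]; exact hdim⟩
    have hm : maximalIdeal R ≠ ⊥ := fun h => hF (IsLocalRing.isField_iff_maximalIdeal_eq.mpr h)
    have h4 : IsIntegrallyClosed R ∧ ∃! P : Ideal R, P ≠ ⊥ ∧ P.IsPrime := by
      refine ⟨inferInstance, maximalIdeal R, ⟨hm, inferInstance⟩, ?_⟩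
      rintro P ⟨hP0, hP⟩
      have : P.IsMaximal := hP.isMaximal_of_ne_bot hP0
      exact IsLocalRing.eq_maximalIdeal this
    exact ((IsDiscreteValuationRing.TFAE R hF).out 3 1).mp h4



/-- A morphism of integral schemes that is an isomorphism over a nonempty open is birational. -/
theorem birational_of_isIso_restrict {X Y : Scheme.{u}} [IsIntegral X] [IsIntegral Y]
    (f : Y ⟶ X) (W : X.Opens) (hW : (W : Set X).Nonempty) (hfW : IsIso (f ∣_ W)) :
    f (genericPoint Y) = genericPoint X ∧ IsIso (f.stalkMap (genericPoint Y)) := by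
  obtain ⟨w, hw⟩ := hW
  have hsurjW : Function.Surjective (f ∣_ W) := (f ∣_ W).homeomorph.surjective
  obtain ⟨z, hz⟩ := hsurjW ⟨w, hw⟩
  have hne : ((f ⁻¹ᵁ W : Y.Opens) : Set Y).Nonempty := ⟨z.1, z.2⟩
  have hηW : genericPoint Y ∈ f ⁻¹ᵁ W :=
    ((genericPoint_spec Y).mem_open_set_iff (f ⁻¹ᵁ W).isOpen).mpr (by simpa using hne)
  haveI : IsOpenImmersion ((f ⁻¹ᵁ W).ι ≫ f) := by
    rw [← morphismRestrict_ι]; infer_instance
  have hbir : IsIso (f.stalkMap (genericPoint Y)) :=
    isIso_stalkMap_of_localIso f (genericPoint Y) (f ⁻¹ᵁ W) hηW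
  refine ⟨?_, hbir⟩
  have h1 : IsGenericPoint (f (genericPoint Y)) (closure (f '' Set.univ)) :=
    (genericPoint_spec Y).image f.continuous
  have hWsub : (W : Set X) ⊆ f '' Set.univ := by
    intro w' hw'
    obtain ⟨z', hz'⟩ := hsurjW ⟨w', hw'⟩
    refine ⟨z'.1, trivial, ?_⟩
    have := congrArg Subtype.val hz'
    simpa [morphismRestrict_base] using this
  have hdense : closure (W : Set X) = Set.univ := by
    have : Dense (W : Set X) := W.isOpen.dense ⟨w, hw⟩
    exact this.closure_eq
  have h2 : closure (f '' Set.univ) = Set.univ := by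
    apply Set.eq_univ_of_univ_subset
    rw [← hdense]
    exact closure_mono hWsub
  rw [h2] at h1
  exact (genericPoint_spec X).eq h1 |>.symm

theorem main_valuationRing {X Y : Scheme.{u}} [IsIntegral X] [IsIntegral Y] (f : X ⟶ Y)
    [IsSeparated f] [LocallyOfFiniteType f] [UniversallyClosed f]
    (hgen : f (genericPoint X) = genericPoint Y) (hbir : IsIso (f.stalkMap (genericPoint X)))
    (y : Y) [ValuationRing (Y.presheaf.stalk y)] :
    ∃ V : Y.Opens, y ∈ V ∧ IsIso (f ∣_ V) := by
  obtain ⟨x, rfl, hbij⟩ := exists_bijective_stalkMap_of_valuationRing f hgen hbir y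
  have hiso : IsIso (f.stalkMap x) := (ConcreteCategory.isIso_iff_bijective _).mpr hbij
  have hfin : (irreducibleComponents (Y : Type u)).Finite := by
    rw [irreducibleComponents_eq_singleton]; exact Set.finite_singleton _
  obtain ⟨U, hxU, hoi⟩ := S7659_main f hfin x hiso
  exact isIso_restrict_of_isOpenImmersion_ι_comp f U x hxU

theorem S14523_main (k : Type u) [Field k]
    (X Y : Scheme.{u}) [X.Over (Spec (CommRingCat.of k))] [Y.Over (Spec (CommRingCat.of k))]
    [IsIntegral X]
    [IsIntegral Y] [LocallyOfFiniteType (Y ↘ (Spec (CommRingCat.of k)))]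
    (hY : ∀ y : Y, IsIntegrallyClosed (Y.presheaf.stalk y))
    (f : X ⟶ Y) [IsProper f]
    (hbir : ∃ V : Y.Opens, (V : Set Y).Nonempty ∧ IsIso (f ∣_ V))
    (y : Y) (hy : ringKrullDim (Y.presheaf.stalk y) ≤ 1) :
    ∃ V : Y.Opens, y ∈ V ∧ IsIso (f ∣_ V) := by
  obtain ⟨W, hW, hfW⟩ := hbir
  obtain ⟨hgen, hb⟩ := birational_of_isIso_restrict f W hW hfW
  haveI : IsLocallyNoetherian Y :=
    LocallyOfFiniteType.isLocallyNoetherian (Y ↘ (Spec (CommRingCat.of k)))
  haveI := hY y
  haveI : ValuationRing (Y.presheaf.stalk y) := valuationRing_of_dim_le_one _ hy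
  exact main_valuationRing f hgen hb y


end Groth.Agent.Lib.Helper4.ValCritBirational1
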