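import Mathlib
import Groth.Agent.Lib.Helper4.ValCritBirational1
import Groth.Agent.Lib.Helper4.GenMap2
import Groth.Prelude.Def_Pi1

/-!
# Proper birational morphisms onto normal schemes: isomorphism in codimension one, curves (helper4)
-/

set_option backward.isDefEq.respectTransparency.types false
set_option synthInstance.maxHeartbeats 400000
set_option autoImplicit false
set_option linter.unusedSectionVars false
set_option linter.style.haveILetI false
set_option linter.unusedSimpArgs false
universe u v w
open CategoryTheory CategoryTheory.Limits AlgebraicGeometry TopologicalSpace IsLocalRing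
open Groth.Agent.Lib.Helper4.ValCritBirational1 Groth.Agent.Lib.Helper4.ZMTNormalPt1

namespace Groth.Agent.Lib.Helper4.BirationalNormal1

/-- The dimension of a local ring of a scheme is at most the dimension of the scheme. -/
theorem ringKrullDim_stalk_le_topologicalKrullDim (X : Scheme.{u}) (x : X) :
    ringKrullDim (X.presheaf.stalk x) ≤ topologicalKrullDim X := by
  rw [ringKrullDim_stalk_eq_coheight]
  have h1 : topologicalKrullDim X = Order.krullDim X := by
    have := Groth.Agent.Helper4.GM.topologicalKrullDim_eq_krullDim_specialization X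
    rw [this]
  rw [h1]
  exact Order.coheight_le_krullDim x



/-- A universally closed separated lft birational morphism of integral schemes onto a locally
Noetherian normal scheme of dimension at most one is an isomorphism. -/
theorem isIso_of_birational_of_dim_le_one {X Y : Scheme.{u}} [IsIntegral X] [IsIntegral Y]
    [IsLocallyNoetherian Y] (f : X ⟶ Y) [IsSeparated f] [LocallyOfFiniteType f]
    [UniversallyClosed f]
    (hY : ∀ y : Y, IsIntegrallyClosed (Y.presheaf.stalk y))
    (hdim : topologicalKrullDim Y ≤ 1)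
    (hgen : f (genericPoint X) = genericPoint Y) (hbir : IsIso (f.stalkMap (genericPoint X))) :
    IsIso f := by
  have hloc : ∀ y : Y, ∃ V : Y.Opens, y ∈ V ∧ IsIso (f ∣_ V) := by
    intro y
    haveI := hY y
    haveI : ValuationRing (Y.presheaf.stalk y) :=
      valuationRing_of_dim_le_one _ ((ringKrullDim_stalk_le_topologicalKrullDim Y y).trans hdim)
    exact main_valuationRing f hgen hbir y
  choose V hyV hV using hloc
  have hcov : ⨆ y, V y = ⊤ := by
    rw [eq_top_iff]
    intro y _
    exact Opens.mem_iSup.mpr ⟨y, hyV y⟩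
  show MorphismProperty.isomorphisms Scheme f
  rw [IsZariskiLocalAtTarget.iff_of_iSup_eq_top (P := MorphismProperty.isomorphisms Scheme) V hcov]
  exact hV

theorem S7830_main (k : Type u) [Field k] {C' C : Scheme.{u}}
    (p' : C' ⟶ Spec (CommRingCat.of k)) (p : C ⟶ Spec (CommRingCat.of k))
    [IsIntegral C'] [IsProper p']
    [IsIntegral C] [IsSeparated p] [LocallyOfFiniteType p]
    (h1 : topologicalKrullDim C = 1)
    (hN : Pi1.IsNormalScheme C) (f : C' ⟶ C) (hf : f ≫ p = p')
    (hdom : f.base (genericPoint C') = genericPoint C)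
    (hdeg : IsIso (f.stalkMap (genericPoint C'))) : IsIso f := by
  haveI : IsProper (f ≫ p) := by rw [hf]; infer_instance
  haveI : IsProper f := IsProper.of_comp f p
  haveI : IsLocallyNoetherian C := LocallyOfFiniteType.isLocallyNoetherian p
  exact isIso_of_birational_of_dim_le_one f (fun y => (hN y).2) h1.le hdom hdeg



set_option backward.isDefEq.respectTransparency false in
/-- Being an isomorphism over each member of a family of opens implies being an isomorphism over
their union. -/
theorem isIso_morphismRestrict_iSup {X Y : Scheme.{u}} (f : X ⟶ Y) {ι : Type*}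
    (U : ι → Y.Opens) (h : ∀ i, IsIso (f ∣_ U i)) : IsIso (f ∣_ ⨆ i, U i) := by
  show MorphismProperty.isomorphisms Scheme (f ∣_ ⨆ i, U i)
  rw [IsZariskiLocalAtTarget.iff_of_iSup_eq_top (P := MorphismProperty.isomorphisms Scheme)
    (U := fun i : ι ↦ (⨆ i, U i).ι ⁻¹ᵁ U i)]
  · intro i
    have heq : (⨆ i, U i).ι ''ᵁ ((⨆ i, U i).ι ⁻¹ᵁ U i) = U i := by
      simp [Scheme.Hom.image_preimage_eq_opensRange_inf, le_iSup U]
    rw [(MorphismProperty.isomorphisms Scheme).arrow_mk_iso_iff
      (morphismRestrictRestrict f _ _ ≪≫ morphismRestrictEq f heq)]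
    exact h i
  · apply (⨆ i, U i).ι.image_injective
    dsimp
    rw [Scheme.Hom.image_iSup, Scheme.Hom.image_top_eq_opensRange, Scheme.Opens.opensRange_ι]
    simp [Scheme.Hom.image_preimage_eq_opensRange_inf, le_iSup U]



theorem two_le_of_not_le_one (d : WithBot ℕ∞) (h : ¬ d ≤ 1) : 2 ≤ d := by
  induction d with
  | bot => exact absurd bot_le h
  | coe d =>
    induction d with
    | top => exact le_top
    | coe n =>
      have h' : ¬ n ≤ 1 := by
        intro hn
        apply h
        have h1 : ((n : ℕ∞) : WithBot ℕ∞) ≤ ((1 : ℕ∞) : WithBot ℕ∞) :=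
          WithBot.coe_le_coe.mpr (by exact_mod_cast hn)
        exact h1
      have h2 : 2 ≤ n := by omega
      have h3 : ((2 : ℕ∞) : WithBot ℕ∞) ≤ ((n : ℕ∞) : WithBot ℕ∞) :=
        WithBot.coe_le_coe.mpr (by exact_mod_cast h2)
      exact h3

theorem S11555_main {X Y : Scheme.{u}} (f : X ⟶ Y)
    [IsProper f] [IsIntegral X] [IsIntegral Y] [IsLocallyNoetherian Y] (hY : Pi1.IsNormalScheme Y)
    (hξ : f (genericPoint ↥X) = genericPoint ↥Y)
    (hbir : Function.Bijective (f.stalkMap (genericPoint ↥X))) :
    ∃ V : Y.Opens, IsIso (f ∣_ V) ∧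
      (∀ y : Y, y ∉ (V : Set Y) → ∀ x : ↥(f.fiber y), ¬ IsOpen ({x} : Set ↥(f.fiber y))) ∧
      (∀ y : Y, y ∉ (V : Set Y) → 2 ≤ ringKrullDim (Y.presheaf.stalk y)) := by
  have hbir' : IsIso (f.stalkMap (genericPoint X)) :=
    (ConcreteCategory.isIso_iff_bijective _).mpr hbir
  let I := {W : Y.Opens // IsIso (f ∣_ W)}
  let V : Y.Opens := ⨆ W : I, W.1
  have hV : IsIso (f ∣_ V) := isIso_morphismRestrict_iSup f (fun W : I => W.1) (fun W => W.2)
  have hmem : ∀ y : Y, (∃ W : Y.Opens, y ∈ W ∧ IsIso (f ∣_ W)) → y ∈ V := by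
    rintro y ⟨W, hyW, hW⟩
    exact Opens.mem_iSup.mpr ⟨⟨W, hW⟩, hyW⟩
  refine ⟨V, hV, ?_, ?_⟩
  · intro y hy x hx
    exact hy (hmem y (S5094_main f hξ hbir' y (hY y).2 x hx))
  · intro y hy
    apply two_le_of_not_le_one
    intro hdim
    haveI := (hY y).2
    haveI : ValuationRing (Y.presheaf.stalk y) := valuationRing_of_dim_le_one _ hdim
    exact hy (hmem y (main_valuationRing f hξ hbir' y))


end Groth.Agent.Lib.Helper4.BirationalNormal1
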