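import Mathlib
import Groth.Prelude.Def_Cyc
import Groth.Agent.Lib.Helper4.JacDim1

/-!
# Dense opens of Jacobson equidimensional schemes: S4881 (helper4)
-/

set_option backward.isDefEq.respectTransparency.types false
set_option synthInstance.maxHeartbeats 400000
set_option autoImplicit false
set_option linter.unusedSectionVars false
set_option linter.style.haveILetI false
set_option linter.unusedSimpArgs false
universe u v w
open CategoryTheory CategoryTheory.Limits AlgebraicGeometry TopologicalSpace IsLocalRing Opposite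
open Cardinal
open Groth.Agent.Lib.Helper4.DimIneq1 Groth.Agent.Lib.Helper4.DimFT2 Groth.Agent.Lib.Helper4.Catenary1
open Groth.Agent.Lib.Helper4.DimEq1 Groth.Agent.Lib.Helper4.DimIneq2 Groth.Agent.Lib.Helper4.DimEq2
open Groth.Agent.Lib.Helper4.DimIneq3 Groth.Agent.Lib.Helper4.DimIneq4
open Groth.Agent.Lib.Helper4.NormFibre2 Groth.Agent.Lib.Helper4.RadBir3 Groth.Agent.Lib.Helper4.DimFT3
open Groth.Agent.Lib.Helper4.FibDim1 Groth.Agent.Lib.Helper4.FibDim2 Groth.Agent.Lib.Helper4.LocUC1
open Groth.Agent.Lib.Helper4.FibDim3 Groth.Agent.Lib.Helper4.FibDim4 Groth.Agent.Lib.Helper4.FibDim5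
open Groth.Agent.Lib.Helper4.FibDim6 Groth.Agent.Lib.Helper4.FibDim7 Groth.Agent.Lib.Helper4.JacDim1

namespace Groth.Agent.Lib.Helper4.JacDim2

section DenseOpen

theorem closure_mem_irreducibleComponents_of_max {α : Type*} [TopologicalSpace α] [QuasiSober α]
    (w : α) (hw : ∀ b : α, b ⤳ w → w ⤳ b) :
    closure ({w} : Set α) ∈ irreducibleComponents α := by
  refine ⟨isIrreducible_singleton.closure, ?_⟩
  intro S hS hle
  have hScl : IsIrreducible (closure S) := hS.closure
  obtain ⟨g, hgen⟩ := QuasiSober.sober hScl isClosed_closure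
  have hwS : w ∈ closure S := subset_closure (hle (subset_closure (Set.mem_singleton w)))
  have h1 : g ⤳ w := hgen.specializes hwS
  have h2 : w ⤳ g := hw g h1
  intro a ha
  have h3 : g ⤳ a := hgen.specializes (subset_closure ha)
  exact (h2.trans h3).mem_closure

/-- a dense open subset of a locally Noetherian scheme contains every maximal point -/
theorem mem_of_dense_of_isMax (X : Scheme.{u}) [IsLocallyNoetherian X] (ξ : X)
    (hξ : ∀ t : X, t ⤳ ξ → t = ξ) (U : Set X) (hU : IsOpen U) (hd : Dense U) : ξ ∈ U := by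
  obtain ⟨W, hW, hξW, -⟩ := exists_isAffineOpen_mem_and_subset (U := (⊤ : X.Opens)) (x := ξ)
    trivial
  haveI : IsNoetherianRing Γ(X, W) := IsLocallyNoetherian.component_noetherian ⟨W, hW⟩
  haveI : NoetherianSpace ↥W := noetherianSpace_of_isAffineOpen W hW
  haveI : QuasiSober ↥W := W.isOpen.isOpenEmbedding_subtypeVal.quasiSober
  have hmax : ∀ b : ↥W, b ⤳ (⟨ξ, hξW⟩ : ↥W) → (⟨ξ, hξW⟩ : ↥W) ⤳ b := by
    intro b hb
    have hb1 : b.1 ⤳ ξ := Topology.IsInducing.subtypeVal.specializes_iff.mpr hb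
    have : b.1 = ξ := hξ b.1 hb1
    have hb' : b = ⟨ξ, hξW⟩ := Subtype.ext this
    rw [hb']
  have hcomp := closure_mem_irreducibleComponents_of_max (⟨ξ, hξW⟩ : ↥W) hmax
  obtain ⟨o, ho, hone, hoZ⟩ :=
    NoetherianSpace.exists_isOpen_nonempty_subset_irreducibleComponent _ hcomp
  have ho' : IsOpen (Subtype.val '' o : Set X) := W.isOpen.isOpenMap_subtype_val o ho
  obtain ⟨u, ⟨v, hvo, rfl⟩, huU⟩ := hd.inter_open_nonempty _ ho' (hone.image _)
  have h1 : (⟨ξ, hξW⟩ : ↥W) ⤳ v := specializes_iff_mem_closure.mpr (hoZ hvo)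
  have h2 : ξ ⤳ v.1 := Topology.IsInducing.subtypeVal.specializes_iff.mpr h1
  exact h2.mem_open hU huU

theorem S4881_main (X : Scheme.{u}) [IsLocallyNoetherian X] [JacobsonSpace X]
    (h3 : ∀ X' ∈ irreducibleComponents (X : Type u), ∀ x ∈ X', IsClosed ({x} : Set X) →
      topologicalKrullDim (↥X' : Type u) = topologicalKrullDim ↥{t : X | t ∈ X' ∧ t ⤳ x})
    (U : Set X) (hU : IsOpen U) (hd : Dense U) :
    topologicalKrullDim ↥U = topologicalKrullDim X := by
  apply le_antisymm (topologicalKrullDim_subspace_le X U)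
  rw [topologicalKrullDim_eq_krullDim X]
  unfold Order.krullDim
  refine iSup_le fun p => ?_
  obtain ⟨ξ, hle, hmax⟩ := exists_isMax_ge X p.last
  have hξmax : ∀ t : X, t ⤳ ξ → t = ξ := by
    intro t ht
    have h1 : ξ ≤ t := ht
    have h2 : ξ ⤳ t := hmax h1
    exact (ht.antisymm h2).eq
  have hcomp : closure ({ξ} : Set X) ∈ irreducibleComponents (X : Type u) :=
    closure_mem_irreducibleComponents_of_isMax X ξ hmax
  have hξU : ξ ∈ U := mem_of_dense_of_isMax X ξ hξmax U hU hd
  obtain ⟨x, ⟨hxX', hxU⟩, hxcl⟩ := nonempty_inter_closedPoints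
    (Z := closure ({ξ} : Set X) ∩ U) ⟨ξ, subset_closure (Set.mem_singleton ξ), hξU⟩
    (isClosed_closure.isLocallyClosed.inter hU.isLocallyClosed)
  have e := h3 _ hcomp x hxX' hxcl
  have hsub : {t : X | t ∈ closure ({ξ} : Set X) ∧ t ⤳ x} ⊆ U :=
    fun t ht => ht.2.mem_open hU hxU
  have h1 : topologicalKrullDim ↥(closure ({ξ} : Set X)) ≤ topologicalKrullDim ↥U := by
    rw [e]
    exact topologicalKrullDim_mono hsub
  refine le_trans ?_ h1
  rw [dim_closure_singleton X ξ]
  have h2 : (p.length : ℕ∞) ≤ Order.height p.last := Order.length_le_height_last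
  have h3' : Order.height p.last ≤ Order.height ξ := Order.height_mono hle
  exact_mod_cast h2.trans h3'

end DenseOpen

end Groth.Agent.Lib.Helper4.JacDim2
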