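import Mathlib
import Groth.Prelude.Def_Cyc
import Groth.Agent.Lib.Helper4.JacDim1
import Groth.Prelude.Def_EGA43
import Groth.Agent.Lib.Helper4.FibreStalkDim1
import Groth.Agent.Lib.Helper4.DimFT1
import Groth.Agent.Lib.Helper4.DimFT2
import Groth.Agent.Lib.Helper4.Chev8
import Groth.Agent.Lib.Helper4.FibDim7
import Groth.Agent.Lib.Helper4.EffCartierDim1
import Groth.Agent.Lib.Helper4.JacDim4
import Groth.Agent.Lib.Helper4.Chev9
import Groth.Agent.Lib.Helper4.Chev10
import Groth.Agent.Lib.Helper4.Chev11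
import Groth.Agent.Lib.Helper4.Equi1
import Groth.Agent.Lib.Helper4.Equi2
import Groth.Agent.Lib.Helper4.Equi3
import Groth.Agent.Lib.Helper4.Equi4
import Groth.Agent.Lib.Helper4.Equi5
import Groth.Agent.Lib.Helper4.Equi6
import Groth.Agent.Lib.Helper4.Equi7
import Groth.Agent.Lib.Helper4.Aff1
import Groth.Agent.Lib.Helper4.Aff2
import Groth.Agent.Lib.Helper4.Equi10
import Groth.Agent.Lib.Helper4.Val1
import Groth.Agent.Lib.Helper4.BaseChg1
import Groth.Agent.Lib.Helper4.UnivOpen1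
import Groth.Agent.Lib.Helper4.FibClosure1
import Groth.Agent.Lib.Helper4.OpenNoeth1
import Groth.Agent.Lib.Helper4.SecComp1
import Groth.Agent.Lib.Helper4.SecComp2
import Groth.Agent.Lib.Helper4.UnivOpen2
import Groth.Agent.Lib.Helper4.UnivOpenAt
import Groth.Agent.Lib.Helper4.RegularLocalCopy
import Groth.Agent.Lib.Helper4.ZMTNormalPt1
import Groth.Agent.Lib.Helper4.LocFinComp1
import Groth.Agent.Lib.Helper4.SecComp3
import Groth.Agent.Lib.Helper4.PropDim1
import Groth.Prelude.Def_FDesc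
import Groth.Prelude.Def_MoreMor
import Groth.Agent.Lib.Helper4.ChevCrit1
import Groth.Agent.Lib.Helper4.ChevCrit2
import Groth.Agent.Lib.Helper4.ChevCrit3
import Groth.Agent.Lib.Helper4.IrrCompDomain1
import Groth.Agent.Lib.Helper4.ChevCrit4
import Groth.Agent.Lib.Helper4.ChevCrit5
import Groth.Agent.Lib.Helper4.ChevCrit6
import Groth.Agent.Lib.Helper4.ChevCrit7
import Groth.Agent.Lib.Helper4.DedekindOpen1
import Groth.Agent.Lib.Helper4.UnivOpenT1
import Groth.Agent.Lib.Helper4.DvrFlat1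
import Groth.Agent.Lib.Helper4.SatChain1
import Groth.Agent.Lib.Helper4.FlatDimK1
import Groth.Agent.Lib.Helper4.BaseChgMax1
import Groth.Agent.Lib.Helper4.ProdDim1
import Groth.Agent.Lib.Helper4.FibDimBC1
import Groth.Agent.Lib.Helper4.FibMap1
import Groth.Agent.Lib.Helper4.GenFib1
import Groth.Agent.Lib.Helper4.EquiBC1
import Groth.Agent.Lib.Helper4.GenEqui1
import Groth.Agent.Lib.Helper4.LocNoethFib1
import Groth.Agent.Lib.Helper4.FibDimBC2
import Groth.Agent.Lib.Helper4.FibDimComp1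
import Groth.Agent.Lib.Helper4.HypDim1
import Groth.Agent.Lib.Helper4.FFlatDelta1
import Groth.Agent.Lib.Helper4.FTDim1

/-!
# morphisms with irreducible equidimensional closed fibres (S14369, S14370, S14378) (helper4)
-/

set_option backward.isDefEq.respectTransparency.types false
set_option synthInstance.maxHeartbeats 400000
set_option autoImplicit false
set_option linter.unusedSectionVars false
set_option linter.style.haveILetI false
set_option linter.unusedSimpArgs false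
universe u v w
open CategoryTheory CategoryTheory.Limits AlgebraicGeometry TopologicalSpace IsLocalRing Opposite
open Cardinal AffineSpace MvPolynomial
open Groth.Agent.Lib.Helper4.DimIneq1 Groth.Agent.Lib.Helper4.DimFT2 Groth.Agent.Lib.Helper4.Catenary1
open Groth.Agent.Lib.Helper4.DimEq1 Groth.Agent.Lib.Helper4.DimIneq2 Groth.Agent.Lib.Helper4.DimEq2
open Groth.Agent.Lib.Helper4.DimIneq3 Groth.Agent.Lib.Helper4.DimIneq4
open Groth.Agent.Lib.Helper4.NormFibre2 Groth.Agent.Lib.Helper4.RadBir3 Groth.Agent.Lib.Helper4.DimFT3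
open Groth.Agent.Lib.Helper4.FibDim1 Groth.Agent.Lib.Helper4.FibDim2 Groth.Agent.Lib.Helper4.LocUC1
open Groth.Agent.Lib.Helper4.FibDim3 Groth.Agent.Lib.Helper4.FibDim4 Groth.Agent.Lib.Helper4.FibDim5
open Groth.Agent.Lib.Helper4.FibDim6 Groth.Agent.Lib.Helper4.FibDim7 Groth.Agent.Lib.Helper4.JacDim1
open Groth.Agent.Lib.Helper4.DimFT1
open Groth.Agent.Lib.Helper4.Chev2 Groth.Agent.Lib.Helper4.Chev5 Groth.Agent.Lib.Helper4.Chev6 Groth.Agent.Lib.Helper4.Chev8
open Groth.Agent.Lib.Helper4.JacDim4 Groth.Agent.Lib.Helper4.EffCartierDim1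
open Groth.Agent.Lib.Helper4.Chev9 Groth.Agent.Lib.Helper4.Chev4
open Groth.Agent.Lib.Helper4.Chev10 Groth.Agent.Lib.Helper4.Chev11 Groth.Agent.Lib.Helper4.Chev3 Groth.Agent.Lib.Helper4.Equi1 Groth.Agent.Lib.Helper4.Equi2 Groth.Agent.Lib.Helper4.OpenAt1 Groth.Agent.Lib.Helper4.Equi3 Groth.Agent.Lib.Helper4.Equi4 Groth.Agent.Lib.Helper4.Equi5 Groth.Agent.Lib.Helper4.Equi6 Groth.Agent.Lib.Helper4.Equi7 Groth.Agent.Lib.Helper4.Aff1 Groth.Agent.Lib.Helper4.Aff2 Groth.Agent.Lib.Helper4.Equi10 Groth.Agent.Lib.Helper4.Val1 Groth.Agent.Lib.Helper4.BaseChg1 Groth.Agent.Lib.Helper4.UnivOpen1 Groth.Agent.Lib.Helper4.FibClosure1 Groth.Agent.Lib.Helper4.OpenNoeth1 Groth.Agent.Lib.Helper4.SecComp1 Groth.Agent.Lib.Helper4.SecComp2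
open Groth.Agent.Lib.Helper4.SecComp3 Groth.Agent.Lib.Helper4.PropDim1 Groth.Agent.Lib.Helper4.ZMTNormalPt1 Groth.Agent.Lib.Helper4.UO Groth.Agent.Lib.Helper4.UOp
open Groth.Agent.Lib.Helper4.ChevCrit1 Groth.Agent.Lib.Helper4.ChevCrit2 Groth.Agent.Lib.Helper4.ChevCrit3
open Groth.Agent.Lib.Helper4.IrrCompDomain1 Groth.Agent.Lib.Helper4.RadBir1
open Groth.Agent.Lib.Helper4.ChevCrit4
open Groth.Agent.Lib.Helper4.ChevCrit5
open Groth.Agent.Lib.Helper4.DedekindOpen1 Groth.Agent.Lib.Helper4.UnivOpenT1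
open Groth.Agent.Lib.Helper4.ChevCrit7
open Groth.Agent.Lib.Helper4.DvrFlat1 Groth.Agent.Lib.Helper4.FlatDimK1 Groth.Agent.Lib.Helper4.BaseChgMax1 Groth.Agent.Lib.Helper4.ProdDim1 Groth.Agent.Lib.Helper4.FibDimBC1 Groth.Agent.Lib.Helper4.FibMap1 Groth.Agent.Lib.Helper4.GenFib1 Groth.Agent.Lib.Helper4.EquiBC1 Groth.Agent.Lib.Helper4.GenEqui1 Groth.Agent.Lib.Helper4.LocNoethFib1 Groth.Agent.Lib.Helper4.FibDimBC2 Groth.Agent.Lib.Helper4.FibDimComp1 Groth.Agent.Lib.Helper4.HypDim1 Groth.Agent.Lib.Helper4.FFlatDelta1 Groth.Agent.Lib.Helper4.FTDim1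

namespace Groth.Agent.Lib.Helper4.IrrFib1

theorem isClosed_singleton_iff_tr (k : Type u) [Field k] {X : Scheme.{u}}
    (p : X ⟶ Spec (CommRingCat.of k)) [LocallyOfFiniteType p] (x : X) :
    IsClosed ({x} : Set X) ↔ tr p x = 0 := by
  constructor
  · intro h
    exact Groth.Agent.Lib.Helper4.JacDim1.tr_eq_zero_of_isClosed p x h
  · intro h
    rw [← closure_eq_iff_isClosed]
    apply Set.Subset.antisymm _ subset_closure
    intro x' hx'
    have hsp : x ⤳ x' := specializes_iff_mem_closure.mpr hx'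
    by_contra hne
    have := tr_lt_of_specializes_of_field k p x x' hsp (fun e => hne (by rw [e]; rfl))
    omega

/-- between a point and a specialization there is a point of the fibre of the specialization
whose residual transcendence degree is at least that of the generization -/
theorem exists_between_tr_ge {X Y : Scheme.{u}} (f : X ⟶ Y) [LocallyOfFiniteType f] (ζ x : X)
    (h : ζ ⤳ x) : ∃ z : X, ζ ⤳ z ∧ z ⤳ x ∧ f z = f x ∧ tr f ζ ≤ tr f z := by
  have hr : Set.range (Scheme.IdealSheafData.vanishingIdeal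
      (⟨closure ({ζ} : Set X), isClosed_closure⟩ : TopologicalSpace.Closeds X)).subschemeι =
      closure ({ζ} : Set X) := by
    rw [Scheme.IdealSheafData.range_subschemeι, Scheme.IdealSheafData.coe_support_vanishingIdeal]
    rfl
  obtain ⟨ι, hι⟩ : ∃ ι : (Scheme.IdealSheafData.vanishingIdeal
      (⟨closure ({ζ} : Set X), isClosed_closure⟩ : TopologicalSpace.Closeds X)).subscheme ⟶ X,
      ι = (Scheme.IdealSheafData.vanishingIdeal
      (⟨closure ({ζ} : Set X), isClosed_closure⟩ : TopologicalSpace.Closeds X)).subschemeι :=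
    ⟨_, rfl⟩
  haveI : IsClosedImmersion ι := by rw [hι]; infer_instance
  rw [← hι] at hr
  obtain ⟨wx, hwx⟩ : x ∈ Set.range ι := by
    rw [hr]; exact specializes_iff_mem_closure.mp h
  obtain ⟨wζ, hwζ⟩ : ζ ∈ Set.range ι := by
    rw [hr]; exact subset_closure rfl
  have hspw : wζ ⤳ wx := by
    rw [← ι.isEmbedding.isInducing.specializes_iff, hwx, hwζ]; exact h
  have h1 := tr_le_fibreDimAt' (ι ≫ f) wζ
  have h2 := fibreDimAt_mono_of_specializes (ι ≫ f) wζ wx hspw
  obtain ⟨wz, hwz1, hwz2, -, hwz3⟩ := exists_fibreMax_tr_eq (ι ≫ f) wx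
  rw [hwz3] at h2
  have h3 : tr (ι ≫ f) wζ ≤ tr (ι ≫ f) wz := by exact_mod_cast h1.trans h2
  rw [tr_comp_closedImmersion, tr_comp_closedImmersion, hwζ] at h3
  refine ⟨ι wz, ?_, ?_, ?_, h3⟩
  · rw [specializes_iff_mem_closure]
    have : ι wz ∈ Set.range ι := ⟨wz, rfl⟩
    rwa [hr] at this
  · rw [← hwx]; exact hwz2.map ι.continuous
  · have : f (ι wz) = f (ι wx) := hwz1
    rw [this, hwx]


section IrrFib
variable (k : Type u) [Field k] {X Y : Scheme.{u}} (qX : X ⟶ Spec (CommRingCat.of k))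
  (qY : Y ⟶ Spec (CommRingCat.of k))
  [LocallyOfFiniteType qX] [QuasiCompact qX] [LocallyOfFiniteType qY] [QuasiCompact qY]
  (f : X ⟶ Y) [LocallyOfFiniteType f] (hf : f ≫ qY = qX) (d : ℕ)

/-- every closed fibre has a generic point of residual transcendence degree `d` -/
def HasGenFib : Prop :=
  ∀ y : Y, IsClosed ({y} : Set Y) → ∃ φ : X, f φ = y ∧ (∀ x, f x = y → φ ⤳ x) ∧ tr f φ = d

theorem hasGenFib_of_irr
    (hirr : ∀ y : ↥Y, IsClosed ({y} : Set ↥Y) → IsIrreducible (f.base ⁻¹' {y}))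
    (hdim : ∀ y : ↥Y, IsClosed ({y} : Set ↥Y) → topologicalKrullDim ↥(f.base ⁻¹' {y}) = d) :
    HasGenFib f d := by
  intro y hy
  have hcl : IsClosed (f.base ⁻¹' {y}) := hy.preimage f.continuous
  obtain ⟨φ, hφ⟩ := QuasiSober.sober (hirr y hy) hcl
  have hφy : f φ = y := by
    have : φ ∈ f.base ⁻¹' {y} := by rw [← hφ.def]; exact subset_closure rfl
    exact this
  have hsp : ∀ x, f x = y → φ ⤳ x := by
    intro x hx
    rw [specializes_iff_mem_closure, hφ.def]
    exact hx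
  refine ⟨φ, hφy, hsp, ?_⟩
  have h1 := tr_le_dim_closed_fibre f Set.univ isClosed_univ y φ trivial hφy
  rw [Set.inter_univ, hdim y hy] at h1
  have h2 := dim_closed_fibre_le f Set.univ isClosed_univ y ((tr f φ : ℕ) : WithBot ℕ∞) (by
    intro ζ _ hζ
    have := tr_le_of_specializes f φ ζ (hsp ζ hζ) (hφy.trans hζ.symm)
    exact_mod_cast this)
  rw [Set.inter_univ, hdim y hy] at h2
  have h1' : tr f φ ≤ d := by exact_mod_cast h1
  have h2' : d ≤ tr f φ := by exact_mod_cast h2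
  omega

include hf in
theorem trX_eq (x : X) : tr qX x = tr qY (f x) + tr f x := by
  have h1 := Groth.Agent.Lib.Helper4.PropDim1.tr_comp f qY x
  have h2 : tr (f ≫ qY) x = tr qX x := by
    subst hf; rfl
  rw [h2] at h1
  exact h1

include hf in
theorem isClosed_map_point (x : X) (hx : IsClosed ({x} : Set X)) : IsClosed ({f x} : Set Y) := by
  rw [isClosed_singleton_iff_tr k qY]
  rw [isClosed_singleton_iff_tr k qX, trX_eq k qX qY f hf] at hx
  omega

variable {f d}

theorem eq_of_tr_ge (y : Y) (φ : X)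
    (hφ : f φ = y) (hsp : ∀ x, f x = y → φ ⤳ x) (hd : tr f φ = d) (z : X) (hz : f z = y)
    (hdz : d ≤ tr f z) : z = φ := by
  by_contra hne
  have := tr_lt_of_specializes f φ z (hsp z hz) (fun e => hne e.symm) (hφ.trans hz.symm)
  omega

include hf in
theorem tr_max_eq (H : HasGenFib f d) (ζ : X) (hζ : ∀ t : X, t ⤳ ζ → t = ζ) : tr f ζ = d := by
  haveI : NoetherianSpace ↥X := noetherianSpace_of_field k qX
  haveI : JacobsonSpace ↥X := LocallyOfFiniteType.jacobsonSpace qX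
  have hZ := Groth.Agent.Lib.Helper4.Chev6.closure_mem_irreducibleComponents_of_max ζ hζ
  obtain ⟨o, ho, hone, hoZ⟩ :=
    NoetherianSpace.exists_isOpen_nonempty_subset_irreducibleComponent _ hZ
  have hζo : ζ ∈ o := by
    obtain ⟨v, hv⟩ := hone
    exact (specializes_iff_mem_closure.mpr (hoZ hv)).mem_open ho hv
  obtain ⟨d', hd', O, hζO, hO⟩ := exists_open_fibreDimAt_le f ζ
  have hne : (o ∩ (O : Set X)).Nonempty := ⟨ζ, hζo, hζO⟩
  have hdense : Dense (closedPoints ↥X) := by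
    rw [dense_iff_closure_eq]; exact closure_closedPoints
  obtain ⟨x, ⟨hxo, hxO⟩, hxcl⟩ := hdense.inter_open_nonempty _ (ho.inter O.2) hne
  have hxcl' : IsClosed ({x} : Set X) := hxcl
  have hycl := isClosed_map_point k qX qY f hf x hxcl'
  obtain ⟨φ, hφy, hφsp, hφd⟩ := H (f x) hycl
  have hφx : φ ⤳ x := hφsp x rfl
  have hφo : φ ∈ o := hφx.mem_open ho hxo
  have hφO : φ ∈ O := hφx.mem_open O.2 hxO
  apply le_antisymm
  · have hζφ : ζ ⤳ φ := specializes_iff_mem_closure.mpr (hoZ hφo)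
    obtain ⟨z, hζz, hzφ, hfz, htr⟩ := exists_between_tr_ge f ζ φ hζφ
    have hφz : φ ⤳ z := hφsp z (hfz.trans hφy)
    have : z = φ := (hzφ.antisymm hφz).eq
    rw [this, hφd] at htr
    exact htr
  · have h1 := tr_le_fibreDimAt' f φ
    have h2 := hO φ hφO
    have h3 := fibreDimAt_eq_tr_of_max f ζ (fun z' _ hz' => hζ z' hz')
    rw [h3] at hd'
    have h4 : ((tr f φ : ℕ) : WithBot ℕ∞) ≤ ((tr f ζ : ℕ) : WithBot ℕ∞) := by
      rw [hd']; exact h1.trans h2
    rw [hφd] at h4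
    exact_mod_cast h4

include hf in
theorem specializes_of_fibre (H : HasGenFib f d) (ζ : X) (hζ : ∀ t : X, t ⤳ ζ → t = ζ) (x : X)
    (hζx : ζ ⤳ x) (hy : IsClosed ({f x} : Set Y)) (x' : X) (hx' : f x' = f x) : ζ ⤳ x' := by
  obtain ⟨φ, hφy, hφsp, hφd⟩ := H (f x) hy
  obtain ⟨z, hζz, hzx, hfz, htr⟩ := exists_between_tr_ge f ζ x hζx
  rw [tr_max_eq k qX qY hf H ζ hζ] at htr
  have : z = φ := eq_of_tr_ge (f x) φ hφy hφsp hφd z hfz htr
  rw [this] at hζz
  exact hζz.trans (hφsp x' hx')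


omit [QuasiCompact qX] [LocallyOfFiniteType f] in
include hf in
theorem lft_of_over : LocallyOfFiniteType f := by
  haveI : LocallyOfFiniteType (f ≫ qY) := by rw [hf]; infer_instance
  exact locallyOfFiniteType_of_comp f qY

theorem exists_max_closure_eq (Z : Set X) (hZ : Z ∈ irreducibleComponents ↥X) :
    ∃ ζ : X, (∀ t : X, t ⤳ ζ → t = ζ) ∧ closure ({ζ} : Set X) = Z := by
  obtain ⟨ζ, hmax, hcl⟩ := exists_isMax_closure_eq X Z hZ
  exact ⟨ζ, fun t ht => eq_of_isMax_of_specializes ζ hmax t ht, hcl⟩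

theorem closure_image_closure_singleton (ζ : X) :
    closure (f.base '' closure ({ζ} : Set X)) = closure ({f ζ} : Set Y) := by
  rw [closure_image_closure f.continuous, Set.image_singleton]

theorem dense_image_iff [IrreducibleSpace ↥Y] (ζ : X) :
    Dense (f.base '' closure ({ζ} : Set X)) ↔ f ζ = genericPoint ↥Y := by
  rw [dense_iff_closure_eq, closure_image_closure_singleton]
  constructor
  · intro h
    have h1 : f ζ ⤳ genericPoint ↥Y := by
      rw [specializes_iff_mem_closure, h]; trivial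
    exact (h1.antisymm (genericPoint_specializes _)).eq
  · intro h
    rw [h]
    exact (genericPoint_spec ↥Y).def

include hf in
theorem denseRange_of_hasGenFib (H : HasGenFib f d) : DenseRange f.base := by
  haveI : JacobsonSpace ↥Y := LocallyOfFiniteType.jacobsonSpace qY
  have hsub : closedPoints ↥Y ⊆ Set.range f.base := by
    intro y hy
    obtain ⟨φ, hφ, -, -⟩ := H y hy
    exact ⟨φ, hφ⟩
  intro y
  have : y ∈ closure (closedPoints ↥Y) := by rw [closure_closedPoints]; trivial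
  exact closure_mono hsub this

include hf in
/-- a neighbourhood of the generic point in the image of a nonempty open subset containing a
point over the generic point -/
theorem exists_open_subset_image [IrreducibleSpace ↥Y] (o : Set X) (ho : IsOpen o) (ζ : X)
    (hζo : ζ ∈ o) (hζ : f ζ = genericPoint ↥Y) :
    ∃ U : Set Y, IsOpen U ∧ genericPoint ↥Y ∈ U ∧ U ⊆ f.base '' o := by
  haveI : NoetherianSpace ↥X := noetherianSpace_of_field k qX
  haveI : IsLocallyNoetherian Y := LocallyOfFiniteType.isLocallyNoetherian qY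
  haveI : CompactSpace ↥Y := QuasiCompact.compactSpace_of_compactSpace qY
  haveI : IsNoetherian Y := {}
  haveI : LocallyOfFinitePresentation f :=
    LocallyOfFinitePresentation.iff_locallyOfFiniteType.2 inferInstance
  have hocons : Topology.IsConstructible o := by
    have h1 : IsRetrocompact o := fun U _ _ => NoetherianSpace.isCompact _
    exact h1.isConstructible ho
  have hE : Topology.IsConstructible (f.base '' o) := f.isConstructible_image hocons
  have hη : ∀ U : Set Y, IsOpen U → U.Nonempty → genericPoint ↥Y ∈ U := fun U hU hne =>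
    ((genericPoint_spec ↥Y).mem_open_set_iff hU).mpr (by rw [Set.univ_inter]; exact hne)
  rcases nhds_or_compl_nhds_of_isConstructible (genericPoint ↥Y) hη hE with h | h
  · obtain ⟨U, hUs, hUo, hηU⟩ := mem_nhds_iff.mp h
    exact ⟨U, hUo, hηU, hUs⟩
  · exfalso
    have : genericPoint ↥Y ∈ (f.base '' o)ᶜ := mem_of_mem_nhds h
    exact this ⟨ζ, hζo, hζ⟩

theorem S14378_main [IrreducibleSpace ↥Y]
    (hirr : ∀ y : ↥Y, IsClosed ({y} : Set ↥Y) → IsIrreducible (f.base ⁻¹' {y}))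
    (hdim : ∀ y : ↥Y, IsClosed ({y} : Set ↥Y) → topologicalKrullDim ↥(f.base ⁻¹' {y}) = d)
    (hf : f ≫ qY = qX) :
    (∃! Z : Set ↥X, Z ∈ irreducibleComponents ↥X ∧ Dense (f.base '' Z)) ∧
      ∀ Z ∈ irreducibleComponents ↥X,
        (∀ y : ↥Y, IsClosed ({y} : Set ↥Y) → (f.base ⁻¹' {y} ∩ Z).Nonempty → f.base ⁻¹' {y} ⊆ Z) ∧
        topologicalKrullDim ↥Z = d + topologicalKrullDim ↥(closure (f.base '' Z)) := by
  have H : HasGenFib f d := hasGenFib_of_irr f d hirr hdim
  haveI : NoetherianSpace ↥X := noetherianSpace_of_field k qX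
  haveI : JacobsonSpace ↥Y := LocallyOfFiniteType.jacobsonSpace qY
  constructor
  · -- existence
    obtain ⟨a, ha⟩ := exists_map_eq_genericPoint f.base f.continuous
      (denseRange_of_hasGenFib k qX qY hf H)
    obtain ⟨ζ, hζa, hζmax⟩ := exists_isMax_ge X a
    have hζa' : ζ ⤳ a := hζa
    have hζ : ∀ t : X, t ⤳ ζ → t = ζ := fun t ht => eq_of_isMax_of_specializes ζ hζmax t ht
    have hfζ : f ζ = genericPoint ↥Y := by
      have h1 : f ζ ⤳ genericPoint ↥Y := by rw [← ha]; exact hζa'.map f.continuous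
      exact (h1.antisymm (genericPoint_specializes _)).eq
    refine ⟨closure {ζ},
      ⟨Groth.Agent.Lib.Helper4.Chev6.closure_mem_irreducibleComponents_of_max ζ hζ,
        (dense_image_iff ζ).mpr hfζ⟩, ?_⟩
    rintro Z' ⟨hZ', hdense'⟩
    obtain ⟨ζ', hζ', rfl⟩ := exists_max_closure_eq Z' hZ'
    have hfζ' : f ζ' = genericPoint ↥Y := (dense_image_iff ζ').mp hdense'
    have hZ := Groth.Agent.Lib.Helper4.Chev6.closure_mem_irreducibleComponents_of_max ζ hζ
    obtain ⟨o, ho, hone, hoZ⟩ :=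
      NoetherianSpace.exists_isOpen_nonempty_subset_irreducibleComponent _ hZ
    obtain ⟨o', ho', hone', hoZ'⟩ :=
      NoetherianSpace.exists_isOpen_nonempty_subset_irreducibleComponent _ hZ'
    have hζo : ζ ∈ o := by
      obtain ⟨v, hv⟩ := hone
      exact (specializes_iff_mem_closure.mpr (hoZ hv)).mem_open ho hv
    have hζo' : ζ' ∈ o' := by
      obtain ⟨v, hv⟩ := hone'
      exact (specializes_iff_mem_closure.mpr (hoZ' hv)).mem_open ho' hv
    obtain ⟨U, hU, hηU, hUsub⟩ := exists_open_subset_image k qX qY hf o ho ζ hζo hfζ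
    obtain ⟨U', hU', hηU', hUsub'⟩ := exists_open_subset_image k qX qY hf o' ho' ζ' hζo' hfζ'
    have hdenseY : Dense (closedPoints ↥Y) := by
      rw [dense_iff_closure_eq]; exact closure_closedPoints
    obtain ⟨y, ⟨hyU, hyU'⟩, hycl⟩ := hdenseY.inter_open_nonempty _ (hU.inter hU')
      ⟨genericPoint ↥Y, hηU, hηU'⟩
    have hycl' : IsClosed ({y} : Set Y) := hycl
    obtain ⟨x, hxo, hxy⟩ := hUsub hyU
    obtain ⟨x', hxo', hxy'⟩ := hUsub' hyU'
    obtain ⟨φ, hφy, hφsp, -⟩ := H y hycl'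
    have hφo : φ ∈ o := (hφsp x hxy).mem_open ho hxo
    have hφo' : φ ∈ o' := (hφsp x' hxy').mem_open ho' hxo'
    have hζφ : ζ ⤳ φ := specializes_iff_mem_closure.mpr (hoZ hφo)
    have hζo'' : ζ ∈ o' := hζφ.mem_open ho' hφo'
    have hζ'ζ : ζ' ⤳ ζ := specializes_iff_mem_closure.mpr (hoZ' hζo'')
    rw [hζ ζ' hζ'ζ]
  · intro Z hZ
    obtain ⟨ζ, hζ, rfl⟩ := exists_max_closure_eq Z hZ
    constructor
    · rintro y hy ⟨x, hxy, hxZ⟩ x' hx'
      have hxy' : f x = y := hxy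
      have hζx : ζ ⤳ x := specializes_iff_mem_closure.mpr hxZ
      rw [← hxy'] at hy
      have := specializes_of_fibre k qX qY hf H ζ hζ x hζx hy x' (by
        have : f x' = y := hx'
        rw [this, hxy'])
      exact specializes_iff_mem_closure.mp this
    · rw [closure_image_closure_singleton, dim_closure_of_field k qX ζ,
        dim_closure_of_field k qY (f ζ), trX_eq k qX qY f hf ζ, tr_max_eq k qX qY hf H ζ hζ]
      push_cast
      exact add_comm _ _


theorem final_of_univ [IrreducibleSpace ↥Y] (Z₀ : Set X) (hZ₀ : Z₀ ∈ irreducibleComponents ↥X)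
    (huniv : Z₀ = Set.univ) (hdense : Dense (f.base '' Z₀))
    (hdimZ : topologicalKrullDim ↥Z₀ = d + topologicalKrullDim ↥(closure (f.base '' Z₀))) :
    IrreducibleSpace ↥X ∧ topologicalKrullDim ↥X = d + topologicalKrullDim ↥Y := by
  constructor
  · rw [irreducibleSpace_def]
    have h1 := hZ₀.1
    rw [huniv] at h1
    exact h1
  · rw [hdense.closure_eq, tdim_univ] at hdimZ
    rw [← hdimZ, huniv, tdim_univ]

theorem S14369_main [IrreducibleSpace ↥Y] (hcl : IsClosedMap f.base)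
    (hirr : ∀ y : ↥Y, IsClosed ({y} : Set ↥Y) → IsIrreducible (f.base ⁻¹' {y}))
    (hdim : ∀ y : ↥Y, IsClosed ({y} : Set ↥Y) → topologicalKrullDim ↥(f.base ⁻¹' {y}) = d)
    (hf : f ≫ qY = qX) :
    IrreducibleSpace ↥X ∧ topologicalKrullDim ↥X = d + topologicalKrullDim ↥Y := by
  obtain ⟨⟨Z₀, ⟨hZ₀, hdense⟩, -⟩, hall⟩ := S14378_main k qX qY hirr hdim hf
  obtain ⟨hfib, hdimZ⟩ := hall Z₀ hZ₀
  haveI : JacobsonSpace ↥X := LocallyOfFiniteType.jacobsonSpace qX
  have hZ₀cl : IsClosed Z₀ := isClosed_of_mem_irreducibleComponents Z₀ hZ₀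
  have himg : f.base '' Z₀ = Set.univ := by
    rw [← (hcl Z₀ hZ₀cl).closure_eq]
    exact hdense.closure_eq
  have hsub : closedPoints ↥X ⊆ Z₀ := by
    intro x hx
    have hx' : IsClosed ({x} : Set X) := hx
    have hy := isClosed_map_point k qX qY f hf x hx'
    obtain ⟨x₀, hx₀Z, hx₀⟩ : f x ∈ f.base '' Z₀ := by rw [himg]; trivial
    exact hfib (f x) hy ⟨x₀, hx₀, hx₀Z⟩ rfl
  have huniv : Z₀ = Set.univ := by
    apply Set.eq_univ_of_univ_subset
    rw [← closure_closedPoints (X := ↥X)]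
    exact closure_minimal hsub hZ₀cl
  exact final_of_univ Z₀ hZ₀ huniv hdense hdimZ

theorem S14370_main [IrreducibleSpace ↥Y]
    (hpure : ∀ Z ∈ irreducibleComponents (↥X), topologicalKrullDim ↥Z = topologicalKrullDim ↥X)
    (hirr : ∀ y : ↥Y, IsClosed ({y} : Set ↥Y) → IsIrreducible (f.base ⁻¹' {y}))
    (hdim : ∀ y : ↥Y, IsClosed ({y} : Set ↥Y) → topologicalKrullDim ↥(f.base ⁻¹' {y}) = d)
    (hf : f ≫ qY = qX) :
    IrreducibleSpace ↥X ∧ topologicalKrullDim ↥X = d + topologicalKrullDim ↥Y := by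
  have H : HasGenFib f d := hasGenFib_of_irr f d hirr hdim
  obtain ⟨⟨Z₀, ⟨hZ₀, hdense⟩, huniq⟩, hall⟩ := S14378_main k qX qY hirr hdim hf
  obtain ⟨-, hdimZ⟩ := hall Z₀ hZ₀
  obtain ⟨ζ₀, hζ₀, hZ₀eq⟩ := exists_max_closure_eq Z₀ hZ₀
  have hfζ₀ : f ζ₀ = genericPoint ↥Y := by
    rw [← hZ₀eq] at hdense
    exact (dense_image_iff ζ₀).mp hdense
  have hallZ : ∀ Z ∈ irreducibleComponents ↥X, Z = Z₀ := by
    intro Z hZ
    apply huniq Z ⟨hZ, ?_⟩
    obtain ⟨ζ, hζ, rfl⟩ := exists_max_closure_eq Z hZ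
    rw [dense_image_iff]
    have h1 := hpure _ hZ
    have h2 := hpure _ hZ₀
    rw [← hZ₀eq, dim_closure_of_field k qX ζ₀] at h2
    rw [dim_closure_of_field k qX ζ, ← h2] at h1
    have h3 : tr qX ζ = tr qX ζ₀ := by exact_mod_cast h1
    rw [trX_eq k qX qY f hf ζ, trX_eq k qX qY f hf ζ₀, tr_max_eq k qX qY hf H ζ hζ,
      tr_max_eq k qX qY hf H ζ₀ hζ₀, hfζ₀] at h3
    by_contra hne
    have := tr_lt_of_specializes_of_field k qY (genericPoint ↥Y) (f ζ)
      (genericPoint_specializes _) (fun e => hne e.symm)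
    omega
  have huniv : Z₀ = Set.univ := by
    apply Set.eq_univ_of_univ_subset
    rw [← sUnion_irreducibleComponents]
    apply Set.sUnion_subset
    intro Z hZ
    rw [hallZ Z hZ]
  exact final_of_univ Z₀ hZ₀ huniv hdense hdimZ

end IrrFib


theorem S14378_full (k : Type u) [Field k]
    {X Y : Scheme.{u}} (qX : X ⟶ Spec (CommRingCat.of k)) (qY : Y ⟶ Spec (CommRingCat.of k))
    [LocallyOfFiniteType qX] [QuasiCompact qX] [LocallyOfFiniteType qY] [QuasiCompact qY]
    (f : X ⟶ Y) (hf : f ≫ qY = qX) [IrreducibleSpace ↥Y] (d : ℕ)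
    (hirr : ∀ y : ↥Y, IsClosed ({y} : Set ↥Y) → IsIrreducible (f.base ⁻¹' {y}))
    (hdim : ∀ y : ↥Y, IsClosed ({y} : Set ↥Y) → topologicalKrullDim ↥(f.base ⁻¹' {y}) = d) :
    (∃! Z : Set ↥X, Z ∈ irreducibleComponents ↥X ∧ Dense (f.base '' Z)) ∧
      ∀ Z ∈ irreducibleComponents ↥X,
        (∀ y : ↥Y, IsClosed ({y} : Set ↥Y) → (f.base ⁻¹' {y} ∩ Z).Nonempty → f.base ⁻¹' {y} ⊆ Z) ∧
        topologicalKrullDim ↥Z = d + topologicalKrullDim ↥(closure (f.base '' Z)) := by
  haveI : LocallyOfFiniteType f := lft_of_over k qX qY hf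
  exact S14378_main k qX qY hirr hdim hf

theorem S14369_full (k : Type u) [Field k]
    {X Y : Scheme.{u}} (qX : X ⟶ Spec (CommRingCat.of k)) (qY : Y ⟶ Spec (CommRingCat.of k))
    [LocallyOfFiniteType qX] [QuasiCompact qX] [LocallyOfFiniteType qY] [QuasiCompact qY]
    (f : X ⟶ Y) (hf : f ≫ qY = qX) [IrreducibleSpace ↥Y] (hcl : IsClosedMap f.base) (d : ℕ)
    (hirr : ∀ y : ↥Y, IsClosed ({y} : Set ↥Y) → IsIrreducible (f.base ⁻¹' {y}))
    (hdim : ∀ y : ↥Y, IsClosed ({y} : Set ↥Y) → topologicalKrullDim ↥(f.base ⁻¹' {y}) = d) :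
    IrreducibleSpace ↥X ∧ topologicalKrullDim ↥X = d + topologicalKrullDim ↥Y := by
  haveI : LocallyOfFiniteType f := lft_of_over k qX qY hf
  exact S14369_main k qX qY hcl hirr hdim hf

theorem S14370_full (k : Type u) [Field k]
    {X Y : Scheme.{u}} (qX : X ⟶ Spec (CommRingCat.of k)) (qY : Y ⟶ Spec (CommRingCat.of k))
    [LocallyOfFiniteType qX] [QuasiCompact qX] [LocallyOfFiniteType qY] [QuasiCompact qY]
    (f : X ⟶ Y) (hf : f ≫ qY = qX) [IrreducibleSpace ↥Y]
    (hpure : ∀ Z ∈ irreducibleComponents (↥X), topologicalKrullDim ↥Z = topologicalKrullDim ↥X) (d : ℕ)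
    (hirr : ∀ y : ↥Y, IsClosed ({y} : Set ↥Y) → IsIrreducible (f.base ⁻¹' {y}))
    (hdim : ∀ y : ↥Y, IsClosed ({y} : Set ↥Y) → topologicalKrullDim ↥(f.base ⁻¹' {y}) = d) :
    IrreducibleSpace ↥X ∧ topologicalKrullDim ↥X = d + topologicalKrullDim ↥Y := by
  haveI : LocallyOfFiniteType f := lft_of_over k qX qY hf
  exact S14370_main k qX qY hpure hirr hdim hf

end Groth.Agent.Lib.Helper4.IrrFib1
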