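import Mathlib
import Groth.Prelude.Def_Cyc
import Groth.Agent.Lib.Helper4.JacDim1
import Groth.Agent.Lib.Helper4.JacDim2
import Groth.Prelude.Def_EGA43
import Groth.Agent.Lib.Helper4.FibreStalkDim1
import Groth.Agent.Lib.Helper4.DimFT1
import Groth.Agent.Lib.Helper4.DimFT2
import Groth.Agent.Lib.Helper4.Chev8
import Groth.Agent.Lib.Helper4.FibDim7
import Groth.Agent.Lib.Helper4.EffCartierDim1
import Groth.Agent.Lib.Helper4.JacDim4
import Groth.Agent.Lib.Helper4.Chev9
import Groth.Agent.Lib.Helper4.Chev10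
import Groth.Agent.Lib.Helper4.Chev11
import Groth.Agent.Lib.Helper4.Equi1
import Groth.Agent.Lib.Helper4.Equi2
import Groth.Agent.Lib.Helper4.Equi3
import Groth.Agent.Lib.Helper4.Equi4
import Groth.Agent.Lib.Helper4.Equi5
import Groth.Agent.Lib.Helper4.Equi6
import Groth.Agent.Lib.Helper4.Equi7
import Groth.Agent.Lib.Helper4.Aff1
import Groth.Agent.Lib.Helper4.Aff2
import Groth.Agent.Lib.Helper4.Equi10
import Groth.Agent.Lib.Helper4.Val1
import Groth.Agent.Lib.Helper4.BaseChg1
import Groth.Agent.Lib.Helper4.UnivOpen1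
import Groth.Agent.Lib.Helper4.FibClosure1
import Groth.Agent.Lib.Helper4.OpenNoeth1
import Groth.Agent.Lib.Helper4.SecComp1
import Groth.Agent.Lib.Helper4.SecComp2
import Groth.Agent.Lib.Helper4.UnivOpen2
import Groth.Agent.Lib.Helper4.UnivOpenAt
import Groth.Agent.Lib.Helper4.RegularLocalCopy
import Groth.Agent.Lib.Helper4.ZMTNormalPt1
import Groth.Agent.Lib.Helper4.LocFinComp1
import Groth.Agent.Lib.Helper4.SecComp3
import Groth.Agent.Lib.Helper4.PropDim1
import Groth.Prelude.Def_FDesc
import Groth.Prelude.Def_MoreMor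
import Groth.Agent.Lib.Helper4.ChevCrit1
import Groth.Agent.Lib.Helper4.ChevCrit2
import Groth.Agent.Lib.Helper4.ChevCrit3
import Groth.Agent.Lib.Helper4.IrrCompDomain1
import Groth.Agent.Lib.Helper4.ChevCrit4
import Groth.Agent.Lib.Helper4.ChevCrit5
import Groth.Agent.Lib.Helper4.ChevCrit6
import Groth.Agent.Lib.Helper4.ChevCrit7
import Groth.Agent.Lib.Helper4.DedekindOpen1
import Groth.Agent.Lib.Helper4.UnivOpenT1
import Groth.Agent.Lib.Helper4.DvrFlat1
import Groth.Agent.Lib.Helper4.SatChain1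
import Groth.Agent.Lib.Helper4.FlatDimK1
import Groth.Agent.Lib.Helper4.BaseChgMax1
import Groth.Agent.Lib.Helper4.ProdDim1
import Groth.Agent.Lib.Helper4.FibDimBC1
import Groth.Agent.Lib.Helper4.FibMap1
import Groth.Agent.Lib.Helper4.GenFib1
import Groth.Agent.Lib.Helper4.EquiBC1
import Groth.Agent.Lib.Helper4.GenEqui1
import Groth.Agent.Lib.Helper4.LocNoethFib1
import Groth.Agent.Lib.Helper4.FibDimBC2
import Groth.Agent.Lib.Helper4.FibDimComp1
import Groth.Agent.Lib.Helper4.HypDim1
import Groth.Agent.Lib.Helper4.FFlatDelta1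
import Groth.Agent.Lib.Helper4.FTDim1
import Groth.Agent.Lib.Helper4.IrrFib1

/-!
# finite fibres and curves of finite type over a field (S13792, S13532, S12129) (helper4)
-/

set_option backward.isDefEq.respectTransparency.types false
set_option synthInstance.maxHeartbeats 400000
set_option autoImplicit false
set_option linter.unusedSectionVars false
set_option linter.style.haveILetI false
set_option linter.unusedSimpArgs false
universe u v w
open CategoryTheory CategoryTheory.Limits AlgebraicGeometry TopologicalSpace IsLocalRing Opposite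
open Cardinal AffineSpace MvPolynomial
open Groth.Agent.Lib.Helper4.DimIneq1 Groth.Agent.Lib.Helper4.DimFT2 Groth.Agent.Lib.Helper4.Catenary1
open Groth.Agent.Lib.Helper4.DimEq1 Groth.Agent.Lib.Helper4.DimIneq2 Groth.Agent.Lib.Helper4.DimEq2
open Groth.Agent.Lib.Helper4.DimIneq3 Groth.Agent.Lib.Helper4.DimIneq4
open Groth.Agent.Lib.Helper4.NormFibre2 Groth.Agent.Lib.Helper4.RadBir3 Groth.Agent.Lib.Helper4.DimFT3
open Groth.Agent.Lib.Helper4.FibDim1 Groth.Agent.Lib.Helper4.FibDim2 Groth.Agent.Lib.Helper4.LocUC1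
open Groth.Agent.Lib.Helper4.FibDim3 Groth.Agent.Lib.Helper4.FibDim4 Groth.Agent.Lib.Helper4.FibDim5
open Groth.Agent.Lib.Helper4.FibDim6 Groth.Agent.Lib.Helper4.FibDim7 Groth.Agent.Lib.Helper4.JacDim1
open Groth.Agent.Lib.Helper4.DimFT1
open Groth.Agent.Lib.Helper4.Chev2 Groth.Agent.Lib.Helper4.Chev5 Groth.Agent.Lib.Helper4.Chev6 Groth.Agent.Lib.Helper4.Chev8
open Groth.Agent.Lib.Helper4.JacDim4 Groth.Agent.Lib.Helper4.EffCartierDim1
open Groth.Agent.Lib.Helper4.Chev9 Groth.Agent.Lib.Helper4.Chev4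
open Groth.Agent.Lib.Helper4.Chev10 Groth.Agent.Lib.Helper4.Chev11 Groth.Agent.Lib.Helper4.Chev3 Groth.Agent.Lib.Helper4.Equi1 Groth.Agent.Lib.Helper4.Equi2 Groth.Agent.Lib.Helper4.OpenAt1 Groth.Agent.Lib.Helper4.Equi3 Groth.Agent.Lib.Helper4.Equi4 Groth.Agent.Lib.Helper4.Equi5 Groth.Agent.Lib.Helper4.Equi6 Groth.Agent.Lib.Helper4.Equi7 Groth.Agent.Lib.Helper4.Aff1 Groth.Agent.Lib.Helper4.Aff2 Groth.Agent.Lib.Helper4.Equi10 Groth.Agent.Lib.Helper4.Val1 Groth.Agent.Lib.Helper4.BaseChg1 Groth.Agent.Lib.Helper4.UnivOpen1 Groth.Agent.Lib.Helper4.FibClosure1 Groth.Agent.Lib.Helper4.OpenNoeth1 Groth.Agent.Lib.Helper4.SecComp1 Groth.Agent.Lib.Helper4.SecComp2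
open Groth.Agent.Lib.Helper4.SecComp3 Groth.Agent.Lib.Helper4.PropDim1 Groth.Agent.Lib.Helper4.ZMTNormalPt1 Groth.Agent.Lib.Helper4.UO Groth.Agent.Lib.Helper4.UOp
open Groth.Agent.Lib.Helper4.ChevCrit1 Groth.Agent.Lib.Helper4.ChevCrit2 Groth.Agent.Lib.Helper4.ChevCrit3
open Groth.Agent.Lib.Helper4.IrrCompDomain1 Groth.Agent.Lib.Helper4.RadBir1
open Groth.Agent.Lib.Helper4.ChevCrit4
open Groth.Agent.Lib.Helper4.ChevCrit5
open Groth.Agent.Lib.Helper4.DedekindOpen1 Groth.Agent.Lib.Helper4.UnivOpenT1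
open Groth.Agent.Lib.Helper4.ChevCrit7
open Groth.Agent.Lib.Helper4.DvrFlat1 Groth.Agent.Lib.Helper4.FlatDimK1 Groth.Agent.Lib.Helper4.BaseChgMax1 Groth.Agent.Lib.Helper4.ProdDim1 Groth.Agent.Lib.Helper4.FibDimBC1 Groth.Agent.Lib.Helper4.FibMap1 Groth.Agent.Lib.Helper4.GenFib1 Groth.Agent.Lib.Helper4.EquiBC1 Groth.Agent.Lib.Helper4.GenEqui1 Groth.Agent.Lib.Helper4.LocNoethFib1 Groth.Agent.Lib.Helper4.FibDimBC2 Groth.Agent.Lib.Helper4.FibDimComp1 Groth.Agent.Lib.Helper4.HypDim1 Groth.Agent.Lib.Helper4.FFlatDelta1 Groth.Agent.Lib.Helper4.FTDim1 Groth.Agent.Lib.Helper4.IrrFib1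

namespace Groth.Agent.Lib.Helper4.FTDim2

/-- a scheme of finite type over a field all of whose points have residue field algebraic over
the base is finite -/
theorem finite_of_forall_tr_eq_zero (k : Type u) [Field k] {X : Scheme.{u}}
    (p : X ⟶ Spec (CommRingCat.of k)) [LocallyOfFiniteType p] [QuasiCompact p]
    (h : ∀ x : X, tr p x = 0) : Finite ↥X := by
  haveI : NoetherianSpace ↥X := noetherianSpace_of_field k p
  have hfin : (irreducibleComponents ↥X).Finite :=
    TopologicalSpace.NoetherianSpace.finite_irreducibleComponents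
  have hsing : ∀ C ∈ irreducibleComponents ↥X, C.Finite := by
    intro C hC
    obtain ⟨ζ, -, rfl⟩ := exists_max_closure_eq C hC
    have : IsClosed ({ζ} : Set X) := (isClosed_singleton_iff_tr k p ζ).mpr (h ζ)
    rw [this.closure_eq]
    exact Set.finite_singleton ζ
  have huniv : (Set.univ : Set X).Finite := by
    rw [← sUnion_irreducibleComponents]
    exact hfin.sUnion hsing
  exact Set.finite_univ_iff.mp huniv

/-- a fibre all of whose points have residue field algebraic over the base point is finite -/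
theorem finite_fibre_of_tr_eq_zero {X Y : Scheme.{u}} (f : X ⟶ Y) [LocallyOfFiniteType f]
    [QuasiCompact f] (y : Y) (h : ∀ x : X, f x = y → tr f x = 0) : (f.base ⁻¹' {y}).Finite := by
  haveI : Finite ↥(f.fiber y) := by
    apply finite_of_forall_tr_eq_zero (Y.residueField y) (f.fiberToSpecResidueField y)
    intro w
    rw [tr_fiber f y w]
    apply h
    have : f.fiberι y w ∈ Set.range (f.fiberι y) := ⟨w, rfl⟩
    rw [Scheme.Hom.range_fiberι] at this
    exact this
  rw [← Scheme.Hom.range_fiberι]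
  exact Set.finite_range _


theorem S13792_main {k : Type u} [Field k]
    {E G : Scheme.{u}} (f : E ⟶ Spec (CommRingCat.of k)) [LocallyOfFiniteType f] [QuasiCompact f]
    [IsIntegral E] (hdim : topologicalKrullDim ↥E = 1) (ι : G ⟶ E) [IsClosedImmersion ι] :
    IsIso ι ∨ IsFinite (ι ≫ f) := by
  by_cases hs : Function.Surjective ι.base
  · left
    haveI : Surjective ι := ⟨hs⟩
    exact isIso_of_isClosedImmersion_of_surjective ι
  · right
    have hgen : genericPoint ↥E ∉ Set.range ι.base := by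
      intro hmem
      apply hs
      rw [← Set.range_eq_univ]
      apply Set.eq_univ_of_univ_subset
      rw [← (genericPoint_spec ↥E).def]
      exact closure_minimal (Set.singleton_subset_iff.mpr hmem) ι.isClosedEmbedding.isClosed_range
    have hdimE := dim_eq_tr_genericPoint k f
    rw [hdim] at hdimE
    have htr1 : tr f (genericPoint ↥E) = 1 := by exact_mod_cast hdimE.symm
    have htr0 : ∀ g : G, tr (ι ≫ f) g = 0 := by
      intro g
      rw [tr_comp_closedImmersion]
      have hne : genericPoint ↥E ≠ ι g := fun e => hgen ⟨g, e.symm⟩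
      have := tr_lt_of_specializes_of_field k f (genericPoint ↥E) (ι g)
        (genericPoint_specializes _) hne
      omega
    haveI : Finite ↥G := finite_of_forall_tr_eq_zero k (ι ≫ f) htr0
    haveI : LocallyQuasiFinite (ι ≫ f) := by
      rw [locallyQuasiFinite_iff_finite_preimage_singleton]
      intro x
      exact Set.toFinite _
    exact IsFinite.of_locallyQuasiFinite (ι ≫ f)


theorem isMax_of_closure_mem_irreducibleComponents {X : Scheme.{u}} (ξ : X)
    (h : closure ({ξ} : Set X) ∈ irreducibleComponents ↥X) : ∀ t : X, t ⤳ ξ → t = ξ := by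
  intro t ht
  have h1 : closure ({ξ} : Set X) ≤ closure ({t} : Set X) :=
    closure_minimal (Set.singleton_subset_iff.mpr (specializes_iff_mem_closure.mp ht))
      isClosed_closure
  have h2 := h.2 isIrreducible_singleton.closure h1
  have h3 : ξ ⤳ t := specializes_iff_mem_closure.mpr (h2 (subset_closure rfl))
  exact (ht.antisymm h3).eq

theorem S13532_main {X Y : Scheme.{u}}
    [IsLocallyNoetherian X] [IsLocallyNoetherian Y] (f : Y ⟶ X) [LocallyOfFiniteType f] [QuasiCompact f]
    (U : X.Opens) (hU : Dense (U : Set X)) (hU' : Dense ((f ⁻¹ᵁ U : Y.Opens) : Set Y)) (hiso : IsIso (f ∣_ U))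
    (x : X) (hx : ringKrullDim (X.presheaf.stalk x) ≤ 1) :
    (f.base ⁻¹' {x}).Finite := by
  have htr0U : ∀ y : Y, y ∈ f ⁻¹ᵁ U → tr f y = 0 := by
    intro y hy
    have h1 := tr_eq_of_square (f ⁻¹ᵁ U).ι f (f ∣_ U) U.ι (morphismRestrict_ι f U).symm ⟨y, hy⟩
    have h2 := tr_eq_zero_of_locallyQuasiFinite (f ∣_ U) ⟨y, hy⟩
    rw [h2] at h1
    exact h1.symm
  have hmaxU : ∀ ξ : Y, (∀ t : Y, t ⤳ ξ → t = ξ) → ξ ∈ f ⁻¹ᵁ U := fun ξ hξ =>
    Groth.Agent.Lib.Helper4.JacDim2.mem_of_dense_of_isMax Y ξ hξ _ (f ⁻¹ᵁ U).2 hU'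
  apply finite_fibre_of_tr_eq_zero f x
  intro y hy
  by_cases hyU : y ∈ f ⁻¹ᵁ U
  · exact htr0U y hyU
  · have hineq := S9687_main f y (tr f y) 0 (tr_spec f y) (by
      intro ξ hξ _
      have hξmax := isMax_of_closure_mem_irreducibleComponents ξ hξ
      have := tr_spec f ξ
      rw [htr0U ξ (hmaxU ξ hξmax)] at this
      rw [this])
    rw [hy] at hineq
    have hnm : ¬ IsMax y := by
      intro hmax
      exact hyU (hmaxU y (fun t ht => eq_of_isMax_of_specializes y hmax t ht))
    have hco : Order.coheight y ≠ 0 := by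
      rw [Ne, Order.coheight_eq_zero]; exact hnm
    have hco1 : (1 : ℕ∞) ≤ Order.coheight y := Order.one_le_iff_ne_zero.mpr hco
    rw [ringKrullDim_stalk_eq_coheight y] at hineq
    have h1 : ((Order.coheight y : ℕ∞) : WithBot ℕ∞) + ((tr f y : ℕ) : WithBot ℕ∞) ≤ 1 := by
      refine le_trans hineq ?_
      simpa using hx
    have h2 : ((Order.coheight y + (tr f y : ℕ∞) : ℕ∞) : WithBot ℕ∞) ≤ ((1 : ℕ∞) : WithBot ℕ∞) := by
      push_cast
      exact h1
    rw [WithBot.coe_le_coe] at h2
    have h3 : (1 : ℕ∞) + (tr f y : ℕ∞) ≤ 1 := le_trans (add_le_add_left hco1 _) h2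
    have h4 : ((1 + tr f y : ℕ) : ℕ∞) ≤ ((1 : ℕ) : ℕ∞) := by push_cast; exact h3
    have h5 : 1 + tr f y ≤ 1 := by exact_mod_cast h4
    omega


theorem lt_iff_specializes_ne {X : Scheme.{u}} (a b : X) : a < b ↔ b ⤳ a ∧ a ≠ b := by
  rw [lt_iff_le_not_ge]
  constructor
  · rintro ⟨h1, h2⟩
    exact ⟨h1, fun e => h2 (by rw [e])⟩
  · rintro ⟨h1, h2⟩
    refine ⟨h1, fun h3 => h2 ?_⟩
    have h1' : b ⤳ a := h1
    have h3' : a ⤳ b := h3
    exact (h3'.antisymm h1').eq

theorem S12129_main (k : Type u) [Field k] (X : Scheme.{u}) (p : X ⟶ Spec (CommRingCat.of k))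
    [LocallyOfFiniteType p] [QuasiCompact p] :
    (∀ x : X, IsClosed ({x} : Set X) → ringKrullDim (X.presheaf.stalk x) = 1) ↔
      ((∀ F : Set X, IsClosed F → IsIrreducible F → F ∉ irreducibleComponents (X : Type u) →
          ∃ x : X, IsClosed ({x} : Set X) ∧ F = {x}) ∧
        ∀ x : X, IsClosed ({x} : Set X) → ({x} : Set X) ∉ irreducibleComponents (X : Type u)) := by
  haveI : IsLocallyNoetherian (Spec (CommRingCat.of k)) := inferInstance
  constructor
  · intro h
    constructor
    · intro F hFcl hFirr hFnc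
      obtain ⟨ξ, hξ⟩ := QuasiSober.sober hFirr hFcl
      have hnm : ¬ ∀ t : X, t ⤳ ξ → t = ξ := by
        intro hmax
        apply hFnc
        rw [← hξ.def]
        exact Groth.Agent.Lib.Helper4.Chev6.closure_mem_irreducibleComponents_of_max ξ hmax
      push Not at hnm
      obtain ⟨ζ, hζξ, hne⟩ := hnm
      obtain ⟨z, -, hξz, htr⟩ := exists_tr_eq_zero p ξ
      have hzcl : IsClosed ({z} : Set X) := (isClosed_singleton_iff_tr k p z).mpr htr
      have hzξ : z = ξ := by
        by_contra hne'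
        have h1 : z < ξ := (lt_iff_specializes_ne z ξ).mpr ⟨hξz, hne'⟩
        have h2 : ξ < ζ := (lt_iff_specializes_ne ξ ζ).mpr ⟨hζξ, fun e => hne e.symm⟩
        have h3 := Order.coheight_add_one_le h1
        have h4 := Order.coheight_add_one_le h2
        have h5 := h z hzcl
        rw [ringKrullDim_stalk_eq_coheight z] at h5
        have h6 : Order.coheight z = 1 := by exact_mod_cast h5
        rw [h6] at h3
        have h7 : Order.coheight ζ + 1 + 1 ≤ 1 := le_trans (add_le_add_left h4 1) h3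
        have h8 : (1 : ℕ∞) + 1 ≤ Order.coheight ζ + 1 + 1 := by
          rw [add_assoc]; exact le_add_self
        have := le_trans h8 h7
        norm_num at this
      refine ⟨ξ, hzξ ▸ hzcl, ?_⟩
      rw [← hξ.def, (hzξ ▸ hzcl : IsClosed ({ξ} : Set X)).closure_eq]
    · intro x hxcl hcomp
      rw [← hxcl.closure_eq] at hcomp
      have hmax := isMax_of_closure_mem_irreducibleComponents x hcomp
      have h1 := h x hxcl
      rw [ringKrullDim_stalk_eq_coheight x] at h1
      have h2 : Order.coheight x = 0 := by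
        rw [Order.coheight_eq_zero]
        exact isMax_of_forall x hmax
      rw [h2] at h1
      norm_num at h1
  · rintro ⟨h1, h2⟩ x hxcl
    rw [ringKrullDim_stalk_eq_coheight x]
    have hge : (1 : ℕ∞) ≤ Order.coheight x := by
      rw [Order.one_le_iff_ne_zero, Ne, Order.coheight_eq_zero]
      intro hmax
      apply h2 x hxcl
      rw [← hxcl.closure_eq]
      exact Groth.Agent.Lib.Helper4.Chev6.closure_mem_irreducibleComponents_of_max x
        (fun t ht => eq_of_isMax_of_specializes x hmax t ht)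
    have hle : Order.coheight x ≤ 1 := by
      by_contra hcon
      have h2le : ((2 : ℕ) : ℕ∞) ≤ Order.coheight x := by
        have : (1 : ℕ∞) < Order.coheight x := not_le.mp hcon
        have := Order.add_one_le_of_lt this
        exact_mod_cast this
      obtain ⟨q, hq0, hqlen⟩ := Order.exists_series_of_le_coheight x h2le
      have hlt1 : q ⟨0, by omega⟩ < q ⟨1, by omega⟩ := q.strictMono (by
        rw [Fin.lt_def]; simp)
      have hlt2 : q ⟨1, by omega⟩ < q ⟨2, by omega⟩ := q.strictMono (by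
        rw [Fin.lt_def]; simp)
      have hq0' : q ⟨0, by omega⟩ = x := hq0
      rw [hq0'] at hlt1
      obtain ⟨a, ha⟩ : ∃ a, a = q ⟨1, by omega⟩ := ⟨_, rfl⟩
      obtain ⟨b, hb⟩ : ∃ b, b = q ⟨2, by omega⟩ := ⟨_, rfl⟩
      rw [← ha] at hlt1 hlt2
      rw [← hb] at hlt2
      obtain ⟨hax, hxa⟩ := (lt_iff_specializes_ne x a).mp hlt1
      obtain ⟨hba, hab⟩ := (lt_iff_specializes_ne a b).mp hlt2
      have hnc : closure ({a} : Set X) ∉ irreducibleComponents (X : Type u) := by
        intro hc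
        exact hab (isMax_of_closure_mem_irreducibleComponents a hc b hba).symm
      obtain ⟨x', hx'cl, hx'⟩ := h1 _ isClosed_closure isIrreducible_singleton.closure hnc
      have hax' : a = x' := by
        have : a ∈ closure ({a} : Set X) := subset_closure rfl
        rw [hx'] at this
        exact this
      have hxx' : x = x' := by
        have : x ∈ closure ({a} : Set X) := specializes_iff_mem_closure.mp hax
        rw [hx'] at this
        exact this
      exact hxa (hxx'.trans hax'.symm)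
    have := le_antisymm hle hge
    rw [this]
    rfl

end Groth.Agent.Lib.Helper4.FTDim2
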