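import Mathlib
import Groth.Prelude.Def_Cyc
import Groth.Agent.Lib.Helper4.JacDim1
import Groth.Prelude.Def_EGA43
import Groth.Agent.Lib.Helper4.FibreStalkDim1
import Groth.Agent.Lib.Helper4.DimFT1
import Groth.Agent.Lib.Helper4.DimFT2
import Groth.Agent.Lib.Helper4.Chev8
import Groth.Agent.Lib.Helper4.FibDim7
import Groth.Agent.Lib.Helper4.EffCartierDim1
import Groth.Agent.Lib.Helper4.JacDim4
import Groth.Agent.Lib.Helper4.Chev9
import Groth.Agent.Lib.Helper4.Chev10
import Groth.Agent.Lib.Helper4.Chev11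
import Groth.Agent.Lib.Helper4.Equi1
import Groth.Agent.Lib.Helper4.Equi2
import Groth.Agent.Lib.Helper4.Equi3
import Groth.Agent.Lib.Helper4.Equi4
import Groth.Agent.Lib.Helper4.Equi5
import Groth.Agent.Lib.Helper4.Equi6
import Groth.Agent.Lib.Helper4.Equi7
import Groth.Agent.Lib.Helper4.Aff1
import Groth.Agent.Lib.Helper4.Aff2
import Groth.Agent.Lib.Helper4.Equi10
import Groth.Agent.Lib.Helper4.Val1
import Groth.Agent.Lib.Helper4.BaseChg1
import Groth.Agent.Lib.Helper4.UnivOpen1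
import Groth.Agent.Lib.Helper4.FibClosure1
import Groth.Agent.Lib.Helper4.OpenNoeth1
import Groth.Agent.Lib.Helper4.SecComp1
import Groth.Agent.Lib.Helper4.SecComp2
import Groth.Agent.Lib.Helper4.UnivOpen2
import Groth.Agent.Lib.Helper4.UnivOpenAt
import Groth.Agent.Lib.Helper4.RegularLocalCopy
import Groth.Agent.Lib.Helper4.ZMTNormalPt1
import Groth.Agent.Lib.Helper4.LocFinComp1
import Groth.Agent.Lib.Helper4.SecComp3
import Groth.Agent.Lib.Helper4.PropDim1
import Groth.Prelude.Def_FDesc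
import Groth.Prelude.Def_MoreMor
import Groth.Agent.Lib.Helper4.ChevCrit1
import Groth.Agent.Lib.Helper4.ChevCrit2
import Groth.Agent.Lib.Helper4.ChevCrit3
import Groth.Agent.Lib.Helper4.IrrCompDomain1
import Groth.Agent.Lib.Helper4.ChevCrit4
import Groth.Agent.Lib.Helper4.ChevCrit5
import Groth.Agent.Lib.Helper4.ChevCrit6
import Groth.Agent.Lib.Helper4.ChevCrit7
import Groth.Agent.Lib.Helper4.DedekindOpen1
import Groth.Agent.Lib.Helper4.UnivOpenT1
import Groth.Agent.Lib.Helper4.DvrFlat1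
import Groth.Agent.Lib.Helper4.SatChain1
import Groth.Agent.Lib.Helper4.FlatDimK1
import Groth.Agent.Lib.Helper4.BaseChgMax1
import Groth.Agent.Lib.Helper4.ProdDim1
import Groth.Agent.Lib.Helper4.FibDimBC1
import Groth.Agent.Lib.Helper4.FibMap1
import Groth.Agent.Lib.Helper4.GenFib1
import Groth.Agent.Lib.Helper4.EquiBC1
import Groth.Agent.Lib.Helper4.GenEqui1
import Groth.Agent.Lib.Helper4.LocNoethFib1
import Groth.Agent.Lib.Helper4.FibDimBC2
import Groth.Agent.Lib.Helper4.FibDimComp1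
import Groth.Agent.Lib.Helper4.HypDim1
import Groth.Agent.Lib.Helper4.FFlatDelta1
import Groth.Agent.Lib.Helper4.FTDim1
import Groth.Agent.Lib.Helper4.IrrFib1
import Groth.Agent.Lib.Helper4.FTDim2

/-!
# dimension of the image of a proper generically finite morphism (S17653) (helper4)
-/

set_option backward.isDefEq.respectTransparency.types false
set_option synthInstance.maxHeartbeats 400000
set_option autoImplicit false
set_option linter.unusedSectionVars false
set_option linter.style.haveILetI false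
set_option linter.unusedSimpArgs false
universe u v w
open CategoryTheory CategoryTheory.Limits AlgebraicGeometry TopologicalSpace IsLocalRing Opposite
open Cardinal AffineSpace MvPolynomial
open Groth.Agent.Lib.Helper4.DimIneq1 Groth.Agent.Lib.Helper4.DimFT2 Groth.Agent.Lib.Helper4.Catenary1
open Groth.Agent.Lib.Helper4.DimEq1 Groth.Agent.Lib.Helper4.DimIneq2 Groth.Agent.Lib.Helper4.DimEq2
open Groth.Agent.Lib.Helper4.DimIneq3 Groth.Agent.Lib.Helper4.DimIneq4
open Groth.Agent.Lib.Helper4.NormFibre2 Groth.Agent.Lib.Helper4.RadBir3 Groth.Agent.Lib.Helper4.DimFT3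
open Groth.Agent.Lib.Helper4.FibDim1 Groth.Agent.Lib.Helper4.FibDim2 Groth.Agent.Lib.Helper4.LocUC1
open Groth.Agent.Lib.Helper4.FibDim3 Groth.Agent.Lib.Helper4.FibDim4 Groth.Agent.Lib.Helper4.FibDim5
open Groth.Agent.Lib.Helper4.FibDim6 Groth.Agent.Lib.Helper4.FibDim7 Groth.Agent.Lib.Helper4.JacDim1
open Groth.Agent.Lib.Helper4.DimFT1
open Groth.Agent.Lib.Helper4.Chev2 Groth.Agent.Lib.Helper4.Chev5 Groth.Agent.Lib.Helper4.Chev6 Groth.Agent.Lib.Helper4.Chev8
open Groth.Agent.Lib.Helper4.JacDim4 Groth.Agent.Lib.Helper4.EffCartierDim1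
open Groth.Agent.Lib.Helper4.Chev9 Groth.Agent.Lib.Helper4.Chev4
open Groth.Agent.Lib.Helper4.Chev10 Groth.Agent.Lib.Helper4.Chev11 Groth.Agent.Lib.Helper4.Chev3 Groth.Agent.Lib.Helper4.Equi1 Groth.Agent.Lib.Helper4.Equi2 Groth.Agent.Lib.Helper4.OpenAt1 Groth.Agent.Lib.Helper4.Equi3 Groth.Agent.Lib.Helper4.Equi4 Groth.Agent.Lib.Helper4.Equi5 Groth.Agent.Lib.Helper4.Equi6 Groth.Agent.Lib.Helper4.Equi7 Groth.Agent.Lib.Helper4.Aff1 Groth.Agent.Lib.Helper4.Aff2 Groth.Agent.Lib.Helper4.Equi10 Groth.Agent.Lib.Helper4.Val1 Groth.Agent.Lib.Helper4.BaseChg1 Groth.Agent.Lib.Helper4.UnivOpen1 Groth.Agent.Lib.Helper4.FibClosure1 Groth.Agent.Lib.Helper4.OpenNoeth1 Groth.Agent.Lib.Helper4.SecComp1 Groth.Agent.Lib.Helper4.SecComp2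
open Groth.Agent.Lib.Helper4.SecComp3 Groth.Agent.Lib.Helper4.PropDim1 Groth.Agent.Lib.Helper4.ZMTNormalPt1 Groth.Agent.Lib.Helper4.UO Groth.Agent.Lib.Helper4.UOp
open Groth.Agent.Lib.Helper4.ChevCrit1 Groth.Agent.Lib.Helper4.ChevCrit2 Groth.Agent.Lib.Helper4.ChevCrit3
open Groth.Agent.Lib.Helper4.IrrCompDomain1 Groth.Agent.Lib.Helper4.RadBir1
open Groth.Agent.Lib.Helper4.ChevCrit4
open Groth.Agent.Lib.Helper4.ChevCrit5
open Groth.Agent.Lib.Helper4.DedekindOpen1 Groth.Agent.Lib.Helper4.UnivOpenT1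
open Groth.Agent.Lib.Helper4.ChevCrit7
open Groth.Agent.Lib.Helper4.DvrFlat1 Groth.Agent.Lib.Helper4.FlatDimK1 Groth.Agent.Lib.Helper4.BaseChgMax1 Groth.Agent.Lib.Helper4.ProdDim1 Groth.Agent.Lib.Helper4.FibDimBC1 Groth.Agent.Lib.Helper4.FibMap1 Groth.Agent.Lib.Helper4.GenFib1 Groth.Agent.Lib.Helper4.EquiBC1 Groth.Agent.Lib.Helper4.GenEqui1 Groth.Agent.Lib.Helper4.LocNoethFib1 Groth.Agent.Lib.Helper4.FibDimBC2 Groth.Agent.Lib.Helper4.FibDimComp1 Groth.Agent.Lib.Helper4.HypDim1 Groth.Agent.Lib.Helper4.FFlatDelta1 Groth.Agent.Lib.Helper4.FTDim1 Groth.Agent.Lib.Helper4.IrrFib1 Groth.Agent.Lib.Helper4.FTDim2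

namespace Groth.Agent.Lib.Helper4.ProperImgDim1

theorem dim_eq_of_isEmbedding {A B : Type*} [TopologicalSpace A] [TopologicalSpace B] (e : A → B)
    (he : Topology.IsEmbedding e) (S : Set B) (hS : Set.range e = S) :
    topologicalKrullDim A = topologicalKrullDim ↥S := by
  subst hS
  exact he.toHomeomorph.isHomeomorph.topologicalKrullDim_eq

/-- a bound for the dimension of a scheme all of whose irreducible components have dimension
at most `d` -/
theorem dim_le_of_components (Y : Scheme.{u}) (d : WithBot ℕ∞)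
    (hY : ∀ Z ∈ irreducibleComponents ↥Y, topologicalKrullDim ↥Z ≤ d) :
    topologicalKrullDim ↥Y ≤ d := by
  rw [← tdim_univ]
  haveI : QuasiSober ↥(Set.univ : Set Y) := isClosed_univ.isClosedEmbedding_subtypeVal.quasiSober
  apply tdim_le_of_forall
  intro t _
  obtain ⟨σ, hσt, hσmax⟩ := exists_isMax_ge Y t
  exact ⟨σ, hσt, hY _ (closure_mem_irreducibleComponents_of_isMax Y σ hσmax)⟩

/-- a point isolated in its fibre has residue field algebraic over that of its image -/
theorem tr_eq_zero_of_isolated {X Y : Scheme.{u}} [IsLocallyNoetherian Y] (π : X ⟶ Y)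
    [LocallyOfFiniteType π] (x : X) (U : X.Opens) (hxU : x ∈ U)
    (hU : ∀ x' ∈ U, π x' = π x → x' = x) : tr π x = 0 := by
  obtain ⟨z', hz'1, -, hz'2⟩ := exists_tr_eq_zero (U.ι ≫ π) ⟨x, hxU⟩
  have h1 : π z'.1 = π x := hz'1
  have h2 : z' = ⟨x, hxU⟩ := Subtype.ext (hU z'.1 z'.2 h1)
  rw [h2] at hz'2
  have h3 := Groth.Agent.Lib.Helper4.PropDim1.tr_comp U.ι π ⟨x, hxU⟩
  rw [hz'2] at h3
  have h4 : U.ι ⟨x, hxU⟩ = x := rfl
  rw [h4] at h3
  omega


/-- dimension bound: an irreducible closed subset with generic point `ζ` whose residue field is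
algebraic over that of its image has dimension at most that of the image, for a quasi-compact
morphism locally of finite type to a locally Noetherian scheme with closed range -/
theorem dim_closure_le_dim_range {X Y : Scheme.{u}} [IsLocallyNoetherian Y] (π : X ⟶ Y)
    [LocallyOfFiniteType π] [QuasiCompact π] (hcl : IsClosed (Set.range π.base)) (ζ : X)
    (hζ : tr π ζ = 0) :
    topologicalKrullDim ↥(closure ({ζ} : Set X)) ≤ topologicalKrullDim ↥(Set.range π.base) := by
  have hr : Set.range (Scheme.IdealSheafData.vanishingIdeal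
      (⟨closure ({ζ} : Set X), isClosed_closure⟩ : TopologicalSpace.Closeds X)).subschemeι =
      closure ({ζ} : Set X) := by
    rw [Scheme.IdealSheafData.range_subschemeι, Scheme.IdealSheafData.coe_support_vanishingIdeal]
    rfl
  haveI : IrreducibleSpace ↥(Scheme.IdealSheafData.vanishingIdeal
      (⟨closure ({ζ} : Set X), isClosed_closure⟩ : TopologicalSpace.Closeds X)).subscheme :=
    irreducibleSpace_vanishingIdeal_subscheme _ isIrreducible_singleton.closure
  obtain ⟨W, ι, hι, hr, hirr⟩ : ∃ (W : Scheme.{u}) (ι : W ⟶ X), IsClosedImmersion ι ∧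
      Set.range ι = closure ({ζ} : Set X) ∧ IrreducibleSpace ↥W :=
    ⟨_, _, inferInstance, hr, inferInstance⟩
  haveI := hι
  haveI := hirr
  have hgen : ι (genericPoint ↥W) = ζ := map_genericPoint_of_range ι ζ hr
  obtain ⟨g, hg⟩ : ∃ g : W ⟶ Y, g = ι ≫ π := ⟨_, rfl⟩
  haveI : QuasiCompact g := by rw [hg]; infer_instance
  haveI : LocallyOfFiniteType g := by rw [hg]; infer_instance
  obtain ⟨T, h, j, hj, hhj⟩ : ∃ (T : Scheme.{u}) (h : W ⟶ T) (j : T ⟶ Y), IsClosedImmersion j ∧
      h ≫ j = g ∧ Set.range j = closure (Set.range g) := by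
    refine ⟨g.image, g.toImage, g.imageι, inferInstance, g.toImage_imageι, ?_⟩
    rw [Scheme.Hom.imageι, Scheme.IdealSheafData.range_subschemeι, Scheme.Hom.support_ker]
  obtain ⟨hhj, hrj⟩ := hhj
  haveI := hj
  haveI : IsLocallyNoetherian T := LocallyOfFiniteType.isLocallyNoetherian j
  haveI : LocallyOfFiniteType (h ≫ j) := by rw [hhj]; infer_instance
  haveI : LocallyOfFiniteType h := locallyOfFiniteType_of_comp h j
  -- the generic point has transcendence degree zero over T
  have htrh : tr h (genericPoint ↥W) = 0 := by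
    have h1 := Groth.Agent.Lib.Helper4.PropDim1.tr_comp h j (genericPoint ↥W)
    have h2 : tr (h ≫ j) (genericPoint ↥W) = tr (ι ≫ π) (genericPoint ↥W) := by
      congr 1
      rw [hhj, hg]
    rw [h2, tr_comp_closedImmersion, hgen, hζ] at h1
    omega
  have hstalk : ∀ w : W, ringKrullDim (W.presheaf.stalk w) ≤ topologicalKrullDim ↥T := by
    intro w
    have hineq := S9687_main h w (tr h w) 0 (tr_spec h w) (by
      intro ξ hξ _
      have hξmax := isMax_of_closure_mem_irreducibleComponents ξ hξ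
      have hξgen : genericPoint ↥W = ξ := hξmax _ (genericPoint_specializes ξ)
      have := tr_spec h ξ
      rw [← hξgen, htrh] at this
      rw [← hξgen, this])
    have h1 : ringKrullDim (W.presheaf.stalk w) ≤
        ringKrullDim (W.presheaf.stalk w) + ((tr h w : ℕ) : WithBot ℕ∞) :=
      le_add_of_nonneg_right (by exact_mod_cast Nat.zero_le _)
    refine le_trans h1 (le_trans hineq ?_)
    simp only [Nat.cast_zero, add_zero]
    exact ringKrullDim_stalk_le T (h w)
  have hdimW : topologicalKrullDim ↥W ≤ topologicalKrullDim ↥T := by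
    rw [topologicalKrullDim_eq_iSup_stalk W]
    exact iSup_le hstalk
  rw [← dim_eq_of_isEmbedding ι ι.isEmbedding _ hr]
  refine le_trans hdimW ?_
  rw [dim_eq_of_isEmbedding j j.isEmbedding _ hrj]
  apply Groth.Agent.Lib.Helper4.DimFT2.topologicalKrullDim_mono
  apply closure_minimal _ hcl
  rintro _ ⟨w, rfl⟩
  rw [hg]
  exact ⟨ι w, rfl⟩

theorem S17653_main
    (X Y : Scheme.{u}) [IsLocallyNoetherian X] [IsLocallyNoetherian Y] (π : X ⟶ Y) [IsProper π]
    (d : WithBot ℕ∞) (hX : ∀ Z ∈ irreducibleComponents ↥X, topologicalKrullDim ↥Z = d)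
    (hY : ∀ Z ∈ irreducibleComponents ↥Y, topologicalKrullDim ↥Z = d)
    (x : ↥X) (hx : ∃ U : X.Opens, x ∈ U ∧ ∀ x' ∈ U, π x' = π x → x' = x) :
    topologicalKrullDim ↥(Set.range (fun z : ↥X => π z)) = topologicalKrullDim ↥Y := by
  apply le_antisymm (topologicalKrullDim_subspace_le _ _)
  obtain ⟨U, hxU, hU⟩ := hx
  have hdimY : topologicalKrullDim ↥Y ≤ d := dim_le_of_components Y d (fun Z hZ => (hY Z hZ).le)
  refine le_trans hdimY ?_
  obtain ⟨ζ, hζx, hζmax⟩ := exists_isMax_ge X x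
  have hζx' : ζ ⤳ x := hζx
  have hZ := closure_mem_irreducibleComponents_of_isMax X ζ hζmax
  rw [← hX _ hZ]
  have htrx : tr π x = 0 := tr_eq_zero_of_isolated π x U hxU hU
  have htrζ : tr π ζ = 0 := by
    obtain ⟨z, -, hzx, hfz, htr⟩ := exists_between_tr_ge π ζ x hζx'
    have hzU : z ∈ U := hzx.mem_open U.2 hxU
    rw [hU z hzU hfz, htrx] at htr
    omega
  exact dim_closure_le_dim_range π (π.isClosedMap.isClosed_range) ζ htrζ

end Groth.Agent.Lib.Helper4.ProperImgDim1
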