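import Mathlib
import Groth.Prelude.Def_Cyc
import Groth.Agent.Lib.Helper4.JacDim1
import Groth.Prelude.Def_EGA43
import Groth.Agent.Lib.Helper4.FibreStalkDim1
import Groth.Agent.Lib.Helper4.DimFT1
import Groth.Agent.Lib.Helper4.DimFT2
import Groth.Agent.Lib.Helper4.Chev8
import Groth.Agent.Lib.Helper4.FibDim7
import Groth.Agent.Lib.Helper4.EffCartierDim1
import Groth.Agent.Lib.Helper4.JacDim4
import Groth.Agent.Lib.Helper4.Chev9
import Groth.Agent.Lib.Helper4.Chev10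
import Groth.Agent.Lib.Helper4.Chev11
import Groth.Agent.Lib.Helper4.Equi1
import Groth.Agent.Lib.Helper4.Equi2
import Groth.Agent.Lib.Helper4.Equi3
import Groth.Agent.Lib.Helper4.Equi4
import Groth.Agent.Lib.Helper4.Equi5
import Groth.Agent.Lib.Helper4.Equi6
import Groth.Agent.Lib.Helper4.Equi7
import Groth.Agent.Lib.Helper4.Aff1
import Groth.Agent.Lib.Helper4.Aff2
import Groth.Agent.Lib.Helper4.Equi10
import Groth.Agent.Lib.Helper4.Val1
import Groth.Agent.Lib.Helper4.BaseChg1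
import Groth.Agent.Lib.Helper4.UnivOpen1
import Groth.Agent.Lib.Helper4.FibClosure1
import Groth.Agent.Lib.Helper4.OpenNoeth1
import Groth.Agent.Lib.Helper4.SecComp1
import Groth.Agent.Lib.Helper4.SecComp2
import Groth.Agent.Lib.Helper4.UnivOpen2
import Groth.Agent.Lib.Helper4.UnivOpenAt
import Groth.Agent.Lib.Helper4.RegularLocalCopy
import Groth.Agent.Lib.Helper4.ZMTNormalPt1
import Groth.Agent.Lib.Helper4.LocFinComp1
import Groth.Agent.Lib.Helper4.SecComp3
import Groth.Agent.Lib.Helper4.PropDim1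
import Groth.Prelude.Def_FDesc
import Groth.Prelude.Def_MoreMor
import Groth.Agent.Lib.Helper4.ChevCrit1
import Groth.Agent.Lib.Helper4.ChevCrit2
import Groth.Agent.Lib.Helper4.ChevCrit3
import Groth.Agent.Lib.Helper4.IrrCompDomain1
import Groth.Agent.Lib.Helper4.ChevCrit4
import Groth.Agent.Lib.Helper4.ChevCrit5
import Groth.Agent.Lib.Helper4.ChevCrit6
import Groth.Agent.Lib.Helper4.ChevCrit7
import Groth.Agent.Lib.Helper4.DedekindOpen1
import Groth.Agent.Lib.Helper4.UnivOpenT1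
import Groth.Agent.Lib.Helper4.DvrFlat1
import Groth.Agent.Lib.Helper4.SatChain1
import Groth.Agent.Lib.Helper4.FlatDimK1
import Groth.Agent.Lib.Helper4.BaseChgMax1
import Groth.Agent.Lib.Helper4.ProdDim1
import Groth.Agent.Lib.Helper4.FibDimBC1
import Groth.Agent.Lib.Helper4.FibMap1
import Groth.Agent.Lib.Helper4.GenFib1
import Groth.Agent.Lib.Helper4.EquiBC1
import Groth.Agent.Lib.Helper4.GenEqui1
import Groth.Agent.Lib.Helper4.LocNoethFib1
import Groth.Agent.Lib.Helper4.FibDimBC2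
import Groth.Agent.Lib.Helper4.FibDimComp1
import Groth.Agent.Lib.Helper4.HypDim1
import Groth.Agent.Lib.Helper4.FFlatDelta1
import Groth.Agent.Lib.Helper4.FTDim1
import Groth.Agent.Lib.Helper4.IrrFib1
import Groth.Agent.Lib.Helper4.FTDim2
import Groth.Agent.Lib.Helper4.ProperImgDim1

/-!
# dimension of the range of a morphism of finite type k-schemes (S14901) (helper4)
-/

set_option backward.isDefEq.respectTransparency.types false
set_option synthInstance.maxHeartbeats 400000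
set_option autoImplicit false
set_option linter.unusedSectionVars false
set_option linter.style.haveILetI false
set_option linter.unusedSimpArgs false
universe u v w
open CategoryTheory CategoryTheory.Limits AlgebraicGeometry TopologicalSpace IsLocalRing Opposite
open Cardinal AffineSpace MvPolynomial
open Groth.Agent.Lib.Helper4.DimIneq1 Groth.Agent.Lib.Helper4.DimFT2 Groth.Agent.Lib.Helper4.Catenary1
open Groth.Agent.Lib.Helper4.DimEq1 Groth.Agent.Lib.Helper4.DimIneq2 Groth.Agent.Lib.Helper4.DimEq2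
open Groth.Agent.Lib.Helper4.DimIneq3 Groth.Agent.Lib.Helper4.DimIneq4
open Groth.Agent.Lib.Helper4.NormFibre2 Groth.Agent.Lib.Helper4.RadBir3 Groth.Agent.Lib.Helper4.DimFT3
open Groth.Agent.Lib.Helper4.FibDim1 Groth.Agent.Lib.Helper4.FibDim2 Groth.Agent.Lib.Helper4.LocUC1
open Groth.Agent.Lib.Helper4.FibDim3 Groth.Agent.Lib.Helper4.FibDim4 Groth.Agent.Lib.Helper4.FibDim5
open Groth.Agent.Lib.Helper4.FibDim6 Groth.Agent.Lib.Helper4.FibDim7 Groth.Agent.Lib.Helper4.JacDim1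
open Groth.Agent.Lib.Helper4.DimFT1
open Groth.Agent.Lib.Helper4.Chev2 Groth.Agent.Lib.Helper4.Chev5 Groth.Agent.Lib.Helper4.Chev6 Groth.Agent.Lib.Helper4.Chev8
open Groth.Agent.Lib.Helper4.JacDim4 Groth.Agent.Lib.Helper4.EffCartierDim1
open Groth.Agent.Lib.Helper4.Chev9 Groth.Agent.Lib.Helper4.Chev4
open Groth.Agent.Lib.Helper4.Chev10 Groth.Agent.Lib.Helper4.Chev11 Groth.Agent.Lib.Helper4.Chev3 Groth.Agent.Lib.Helper4.Equi1 Groth.Agent.Lib.Helper4.Equi2 Groth.Agent.Lib.Helper4.OpenAt1 Groth.Agent.Lib.Helper4.Equi3 Groth.Agent.Lib.Helper4.Equi4 Groth.Agent.Lib.Helper4.Equi5 Groth.Agent.Lib.Helper4.Equi6 Groth.Agent.Lib.Helper4.Equi7 Groth.Agent.Lib.Helper4.Aff1 Groth.Agent.Lib.Helper4.Aff2 Groth.Agent.Lib.Helper4.Equi10 Groth.Agent.Lib.Helper4.Val1 Groth.Agent.Lib.Helper4.BaseChg1 Groth.Agent.Lib.Helper4.UnivOpen1 Groth.Agent.Lib.Helper4.FibClosure1 Groth.Agent.Lib.Helper4.OpenNoeth1 Groth.Agent.Lib.Helper4.SecComp1 Groth.Agent.Lib.Helper4.SecComp2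
open Groth.Agent.Lib.Helper4.SecComp3 Groth.Agent.Lib.Helper4.PropDim1 Groth.Agent.Lib.Helper4.ZMTNormalPt1 Groth.Agent.Lib.Helper4.UO Groth.Agent.Lib.Helper4.UOp
open Groth.Agent.Lib.Helper4.ChevCrit1 Groth.Agent.Lib.Helper4.ChevCrit2 Groth.Agent.Lib.Helper4.ChevCrit3
open Groth.Agent.Lib.Helper4.IrrCompDomain1 Groth.Agent.Lib.Helper4.RadBir1
open Groth.Agent.Lib.Helper4.ChevCrit4
open Groth.Agent.Lib.Helper4.ChevCrit5
open Groth.Agent.Lib.Helper4.DedekindOpen1 Groth.Agent.Lib.Helper4.UnivOpenT1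
open Groth.Agent.Lib.Helper4.ChevCrit7
open Groth.Agent.Lib.Helper4.DvrFlat1 Groth.Agent.Lib.Helper4.FlatDimK1 Groth.Agent.Lib.Helper4.BaseChgMax1 Groth.Agent.Lib.Helper4.ProdDim1 Groth.Agent.Lib.Helper4.FibDimBC1 Groth.Agent.Lib.Helper4.FibMap1 Groth.Agent.Lib.Helper4.GenFib1 Groth.Agent.Lib.Helper4.EquiBC1 Groth.Agent.Lib.Helper4.GenEqui1 Groth.Agent.Lib.Helper4.LocNoethFib1 Groth.Agent.Lib.Helper4.FibDimBC2 Groth.Agent.Lib.Helper4.FibDimComp1 Groth.Agent.Lib.Helper4.HypDim1 Groth.Agent.Lib.Helper4.FFlatDelta1 Groth.Agent.Lib.Helper4.FTDim1 Groth.Agent.Lib.Helper4.IrrFib1 Groth.Agent.Lib.Helper4.FTDim2 Groth.Agent.Lib.Helper4.ProperImgDim1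

namespace Groth.Agent.Lib.Helper4.RangeDim1

open Topology in
/-- the dimension of the range of a morphism of schemes of finite type over a field is at least
the transcendence degree of the residue field of each of its points -/
theorem tr_le_dim_range (k : Type u) [Field k] {S X : Scheme.{u}}
    (pS : S ⟶ Spec (CommRingCat.of k)) (pX : X ⟶ Spec (CommRingCat.of k))
    [LocallyOfFiniteType pS] [QuasiCompact pS] [LocallyOfFiniteType pX] [QuasiCompact pX]
    (f : S ⟶ X) (hf : f ≫ pX = pS) (ξ : S) :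
    ((tr pX (f ξ) : ℕ) : WithBot ℕ∞) ≤ topologicalKrullDim ↥(Set.range f.base) := by
  haveI : NoetherianSpace ↥S := noetherianSpace_of_field k pS
  haveI : NoetherianSpace ↥X := noetherianSpace_of_field k pX
  haveI : IsLocallyNoetherian X := LocallyOfFiniteType.isLocallyNoetherian pX
  haveI : CompactSpace ↥X := QuasiCompact.compactSpace_of_compactSpace pX
  haveI : IsNoetherian X := {}
  haveI : LocallyOfFiniteType f := lft_of_over k pS pX hf
  haveI : LocallyOfFinitePresentation f :=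
    LocallyOfFinitePresentation.iff_locallyOfFiniteType.2 inferInstance
  have hC : IsConstructible (Set.range f.base) := by
    rw [← Set.image_univ]
    exact f.isConstructible_image IsConstructible.univ
  obtain ⟨x₀, hx₀⟩ : ∃ x₀, x₀ = f ξ := ⟨_, rfl⟩
  rw [← hx₀]
  have hx₀r : x₀ ∈ Set.range f.base := ⟨ξ, hx₀.symm⟩
  have hC' : IsConstructible ((Subtype.val : ↥(closure ({x₀} : Set X)) → X) ⁻¹' Set.range f.base) :=
    hC.preimage continuous_subtype_val (fun s _ _ => fun U _ _ => NoetherianSpace.isCompact _)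
  have hη : ∀ V : Set ↥(closure ({x₀} : Set X)), IsOpen V → V.Nonempty →
      (⟨x₀, subset_closure rfl⟩ : ↥(closure ({x₀} : Set X))) ∈ V := by
    intro V hV ⟨v, hv⟩
    have h1 : x₀ ⤳ v.1 := specializes_iff_mem_closure.mpr v.2
    have h2 : (⟨x₀, subset_closure rfl⟩ : ↥(closure ({x₀} : Set X))) ⤳ v :=
      Topology.IsInducing.subtypeVal.specializes_iff.mp h1
    exact h2.mem_open hV hv
  obtain ⟨U, hUo, hx₀U, hUsub⟩ : ∃ U : Set X, IsOpen U ∧ x₀ ∈ U ∧
      U ∩ closure ({x₀} : Set X) ⊆ Set.range f.base := by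
    rcases nhds_or_compl_nhds_of_isConstructible _ hη hC' with h | h
    · obtain ⟨V', hV's, hV'o, hηV'⟩ := mem_nhds_iff.mp h
      obtain ⟨U, hUo, hUV'⟩ := isOpen_induced_iff.mp hV'o
      refine ⟨U, hUo, ?_, ?_⟩
      · have : (⟨x₀, subset_closure rfl⟩ : ↥(closure ({x₀} : Set X))) ∈ Subtype.val ⁻¹' U := by
          rw [hUV']; exact hηV'
        exact this
      · rintro a ⟨haU, haT⟩
        have : (⟨a, haT⟩ : ↥(closure ({x₀} : Set X))) ∈ V' := by
          rw [← hUV']; exact haU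
        exact hV's this
    · exfalso
      exact (mem_of_mem_nhds h) hx₀r
  -- the open subscheme
  obtain ⟨UU, hUU⟩ : ∃ UU : X.Opens, (UU : Set X) = U := ⟨⟨U, hUo⟩, rfl⟩
  have hx₀UU : x₀ ∈ UU := by
    change x₀ ∈ (UU : Set X)
    rw [hUU]; exact hx₀U
  obtain ⟨u₀, h3⟩ : ∃ u₀ : ↥(UU : Scheme.{u}), UU.ι u₀ = x₀ := ⟨⟨x₀, hx₀UU⟩, rfl⟩
  have h1 := dim_closure_of_field k (UU.ι ≫ pX) u₀
  have h2 := Groth.Agent.Lib.Helper4.PropDim1.tr_comp UU.ι pX u₀
  rw [tr_of_surjectiveOnStalks UU.ι, add_zero] at h2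
  rw [h3] at h2
  rw [h2] at h1
  rw [← h1]
  have hemb : Topology.IsEmbedding
      (UU.ι.base ∘ (Subtype.val : ↥(closure ({u₀} : Set ↥(UU : Scheme.{u}))) → ↥(UU : Scheme.{u}))) :=
    UU.ι.isEmbedding.comp Topology.IsEmbedding.subtypeVal
  have hrange : Set.range
      (UU.ι.base ∘ (Subtype.val : ↥(closure ({u₀} : Set ↥(UU : Scheme.{u}))) → ↥(UU : Scheme.{u}))) =
      U ∩ closure ({x₀} : Set X) := by
    rw [Set.range_comp, Subtype.range_coe, UU.ι.isEmbedding.closure_eq_preimage_closure_image,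
      Set.image_preimage_eq_inter_range, Set.image_singleton, h3, Set.inter_comm]
    congr 1
    rw [← hUU]
    exact Scheme.Opens.range_ι UU
  rw [dim_eq_of_isEmbedding _ hemb _ hrange]
  exact Groth.Agent.Lib.Helper4.DimFT2.topologicalKrullDim_mono hUsub


theorem wb_false (a b : WithBot ℕ∞) (C N : ℕ) (h1 : b ≤ (C : WithBot ℕ∞))
    (h2 : ((C : ℕ) : WithBot ℕ∞) ≤ a) (h3 : a + 1 ≤ b) (h4 : b ≤ (N : WithBot ℕ∞)) : False := by
  have h5 : a + 1 ≤ (N : WithBot ℕ∞) := h3.trans h4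
  induction a using WithBot.recBotCoe with
  | bot => simp at h2
  | coe a' =>
    induction a' using ENat.recTopCoe with
    | top =>
      have : ((⊤ : ℕ∞) : WithBot ℕ∞) + 1 = ((⊤ : ℕ∞) : WithBot ℕ∞) := rfl
      rw [this] at h5
      have h6 : ((⊤ : ℕ∞) : WithBot ℕ∞) ≤ ((N : ℕ∞) : WithBot ℕ∞) := h5
      rw [WithBot.coe_le_coe] at h6
      simp at h6
    | coe m =>
      have h7 : ((m : ℕ∞) : WithBot ℕ∞) + 1 ≤ (C : WithBot ℕ∞) := h3.trans h1
      have h8 : (((m + 1 : ℕ) : ℕ∞) : WithBot ℕ∞) ≤ (((C : ℕ) : ℕ∞) : WithBot ℕ∞) := by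
        push_cast; exact h7
      have h9 : (((C : ℕ) : ℕ∞) : WithBot ℕ∞) ≤ (((m : ℕ) : ℕ∞) : WithBot ℕ∞) := h2
      rw [WithBot.coe_le_coe] at h8 h9
      have h10 : m + 1 ≤ C := by exact_mod_cast h8
      have h11 : C ≤ m := by exact_mod_cast h9
      omega

theorem wb_cancel (a : WithBot ℕ∞) (C t : ℕ)
    (h : a + ((t : ℕ) : WithBot ℕ∞) ≤ ((C : ℕ) : WithBot ℕ∞) + ((t : ℕ) : WithBot ℕ∞)) :
    a ≤ ((C : ℕ) : WithBot ℕ∞) := by
  induction a using WithBot.recBotCoe with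
  | bot => exact bot_le
  | coe a' =>
    induction a' using ENat.recTopCoe with
    | top =>
      exfalso
      have h1 : ((⊤ : ℕ∞) : WithBot ℕ∞) + ((t : ℕ) : WithBot ℕ∞) = ((⊤ : ℕ∞) : WithBot ℕ∞) := rfl
      rw [h1] at h
      have h2 : ((C : ℕ) : WithBot ℕ∞) + ((t : ℕ) : WithBot ℕ∞) = (((C + t : ℕ) : ℕ∞) : WithBot ℕ∞) := by
        push_cast; rfl
      rw [h2, WithBot.coe_le_coe] at h
      simp at h
    | coe m =>
      have h1 : (((m : ℕ) : ℕ∞) : WithBot ℕ∞) + ((t : ℕ) : WithBot ℕ∞) =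
          (((m + t : ℕ) : ℕ∞) : WithBot ℕ∞) := by push_cast; rfl
      have h2 : ((C : ℕ) : WithBot ℕ∞) + ((t : ℕ) : WithBot ℕ∞) = (((C + t : ℕ) : ℕ∞) : WithBot ℕ∞) := by
        push_cast; rfl
      rw [h1, h2, WithBot.coe_le_coe] at h
      have h3 : m + t ≤ C + t := by exact_mod_cast h
      have h4 : m ≤ C := by omega
      exact_mod_cast h4

theorem S14901_main (k : Type u) [Field k] (S X : Scheme.{u})
    (pS : S ⟶ Spec (CommRingCat.of k)) (pX : X ⟶ Spec (CommRingCat.of k))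
    [LocallyOfFiniteType pS] [QuasiCompact pS]
    [LocallyOfFiniteType pX] [QuasiCompact pX]
    (f : S ⟶ X) (hf : f ≫ pX = pS) (Z : Set X)
    (h : ∀ s : S, f.base s ∈ Z →
      topologicalKrullDim (Set.range f.base) + 1 ≤ ringKrullDim (S.presheaf.stalk s)) :
    f.base ⁻¹' Z = ∅ := by
  haveI : LocallyOfFiniteType f := lft_of_over k pS pX hf
  rw [Set.eq_empty_iff_forall_notMem]
  intro s₀ hs₀
  obtain ⟨s, hss₀, hfs, hmax⟩ := exists_fibreMax_ge f s₀
  have hsZ : f s ∈ Z := by rw [hfs]; exact hs₀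
  obtain ⟨ξ, hξs, hξmax, hdim⟩ := exists_max_gen_stalk_dim k pS s
  have e1 := trX_eq k pS pX f hf s
  have e2 := trX_eq k pS pX f hf ξ
  have hle : tr f ξ ≤ tr f s := by
    have h1 := tr_le_fibreDimAt' f ξ
    have h2 := fibreDimAt_mono_of_specializes f ξ s hξs
    rw [fibreDimAt_eq_tr_of_max f s hmax] at h2
    exact_mod_cast h1.trans h2
  have hF2 := tr_le_dim_range k pS pX f hf ξ
  have hs := h s hsZ
  -- dim O_{S,s} ≤ tr pX (f ξ)
  have hb : ringKrullDim (S.presheaf.stalk s) ≤ ((tr pX (f ξ) : ℕ) : WithBot ℕ∞) := by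
    have h1 : ringKrullDim (S.presheaf.stalk s) + ((tr pS s : ℕ) : WithBot ℕ∞) ≤
        ((tr pX (f ξ) + tr pS s : ℕ) : WithBot ℕ∞) := by
      rw [hdim]
      have : tr pS ξ ≤ tr pX (f ξ) + tr pS s := by omega
      exact_mod_cast this
    have h2 : ((tr pX (f ξ) + tr pS s : ℕ) : WithBot ℕ∞) =
        ((tr pX (f ξ) : ℕ) : WithBot ℕ∞) + ((tr pS s : ℕ) : WithBot ℕ∞) := by push_cast; rfl
    rw [h2] at h1
    exact wb_cancel _ _ _ h1
  exact wb_false _ _ (tr pX (f ξ)) (tr pX (f ξ)) hb hF2 hs hb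

end Groth.Agent.Lib.Helper4.RangeDim1
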