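import Mathlib
import Groth.Prelude.Def_Cyc
import Groth.Agent.Lib.Helper4.JacDim1
import Groth.Prelude.Def_EGA43
import Groth.Agent.Lib.Helper4.FibreStalkDim1
import Groth.Agent.Lib.Helper4.DimFT1
import Groth.Agent.Lib.Helper4.DimFT2
import Groth.Agent.Lib.Helper4.Chev8
import Groth.Agent.Lib.Helper4.FibDim7
import Groth.Agent.Lib.Helper4.EffCartierDim1
import Groth.Agent.Lib.Helper4.JacDim4
import Groth.Agent.Lib.Helper4.Chev9
import Groth.Agent.Lib.Helper4.Chev10
import Groth.Agent.Lib.Helper4.Chev11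
import Groth.Agent.Lib.Helper4.Equi1
import Groth.Agent.Lib.Helper4.Equi2
import Groth.Agent.Lib.Helper4.Equi3
import Groth.Agent.Lib.Helper4.Equi4
import Groth.Agent.Lib.Helper4.Equi5
import Groth.Agent.Lib.Helper4.Equi6
import Groth.Agent.Lib.Helper4.Equi7
import Groth.Agent.Lib.Helper4.Aff1
import Groth.Agent.Lib.Helper4.Aff2
import Groth.Agent.Lib.Helper4.Equi10
import Groth.Agent.Lib.Helper4.Val1
import Groth.Agent.Lib.Helper4.BaseChg1
import Groth.Agent.Lib.Helper4.UnivOpen1
import Groth.Agent.Lib.Helper4.FibClosure1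
import Groth.Agent.Lib.Helper4.OpenNoeth1
import Groth.Agent.Lib.Helper4.SecComp1
import Groth.Agent.Lib.Helper4.SecComp2
import Groth.Agent.Lib.Helper4.UnivOpen2
import Groth.Agent.Lib.Helper4.UnivOpenAt
import Groth.Agent.Lib.Helper4.RegularLocalCopy
import Groth.Agent.Lib.Helper4.ZMTNormalPt1
import Groth.Agent.Lib.Helper4.LocFinComp1
import Groth.Agent.Lib.Helper4.SecComp3
import Groth.Agent.Lib.Helper4.PropDim1
import Groth.Prelude.Def_FDesc
import Groth.Prelude.Def_MoreMor
import Groth.Agent.Lib.Helper4.ChevCrit1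
import Groth.Agent.Lib.Helper4.ChevCrit2
import Groth.Agent.Lib.Helper4.ChevCrit3
import Groth.Agent.Lib.Helper4.IrrCompDomain1
import Groth.Agent.Lib.Helper4.ChevCrit4
import Groth.Agent.Lib.Helper4.ChevCrit5
import Groth.Agent.Lib.Helper4.ChevCrit6
import Groth.Agent.Lib.Helper4.ChevCrit7
import Groth.Agent.Lib.Helper4.DedekindOpen1
import Groth.Agent.Lib.Helper4.UnivOpenT1
import Groth.Agent.Lib.Helper4.DvrFlat1
import Groth.Agent.Lib.Helper4.SatChain1
import Groth.Agent.Lib.Helper4.FlatDimK1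
import Groth.Agent.Lib.Helper4.BaseChgMax1
import Groth.Agent.Lib.Helper4.ProdDim1
import Groth.Agent.Lib.Helper4.FibDimBC1
import Groth.Agent.Lib.Helper4.FibMap1
import Groth.Agent.Lib.Helper4.GenFib1
import Groth.Agent.Lib.Helper4.EquiBC1
import Groth.Agent.Lib.Helper4.GenEqui1
import Groth.Agent.Lib.Helper4.LocNoethFib1
import Groth.Agent.Lib.Helper4.FibDimBC2
import Groth.Agent.Lib.Helper4.FibDimComp1
import Groth.Agent.Lib.Helper4.HypDim1
import Groth.Agent.Lib.Helper4.FFlatDelta1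
import Groth.Agent.Lib.Helper4.FTDim1
import Groth.Agent.Lib.Helper4.IrrFib1
import Groth.Agent.Lib.Helper4.FTDim2
import Groth.Agent.Lib.Helper4.ProperImgDim1
import Groth.Agent.Lib.Helper4.RangeDim1

/-!
# well-intersecting closed subsets (S14483, S14484) (helper4)
-/

set_option backward.isDefEq.respectTransparency.types false
set_option synthInstance.maxHeartbeats 400000
set_option autoImplicit false
set_option linter.unusedSectionVars false
set_option linter.style.haveILetI false
set_option linter.unusedSimpArgs false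
universe u v w
open CategoryTheory CategoryTheory.Limits AlgebraicGeometry TopologicalSpace IsLocalRing Opposite
open Cardinal AffineSpace MvPolynomial
open Groth.Agent.Lib.Helper4.DimIneq1 Groth.Agent.Lib.Helper4.DimFT2 Groth.Agent.Lib.Helper4.Catenary1
open Groth.Agent.Lib.Helper4.DimEq1 Groth.Agent.Lib.Helper4.DimIneq2 Groth.Agent.Lib.Helper4.DimEq2
open Groth.Agent.Lib.Helper4.DimIneq3 Groth.Agent.Lib.Helper4.DimIneq4
open Groth.Agent.Lib.Helper4.NormFibre2 Groth.Agent.Lib.Helper4.RadBir3 Groth.Agent.Lib.Helper4.DimFT3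
open Groth.Agent.Lib.Helper4.FibDim1 Groth.Agent.Lib.Helper4.FibDim2 Groth.Agent.Lib.Helper4.LocUC1
open Groth.Agent.Lib.Helper4.FibDim3 Groth.Agent.Lib.Helper4.FibDim4 Groth.Agent.Lib.Helper4.FibDim5
open Groth.Agent.Lib.Helper4.FibDim6 Groth.Agent.Lib.Helper4.FibDim7 Groth.Agent.Lib.Helper4.JacDim1
open Groth.Agent.Lib.Helper4.DimFT1
open Groth.Agent.Lib.Helper4.Chev2 Groth.Agent.Lib.Helper4.Chev5 Groth.Agent.Lib.Helper4.Chev6 Groth.Agent.Lib.Helper4.Chev8
open Groth.Agent.Lib.Helper4.JacDim4 Groth.Agent.Lib.Helper4.EffCartierDim1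
open Groth.Agent.Lib.Helper4.Chev9 Groth.Agent.Lib.Helper4.Chev4
open Groth.Agent.Lib.Helper4.Chev10 Groth.Agent.Lib.Helper4.Chev11 Groth.Agent.Lib.Helper4.Chev3 Groth.Agent.Lib.Helper4.Equi1 Groth.Agent.Lib.Helper4.Equi2 Groth.Agent.Lib.Helper4.OpenAt1 Groth.Agent.Lib.Helper4.Equi3 Groth.Agent.Lib.Helper4.Equi4 Groth.Agent.Lib.Helper4.Equi5 Groth.Agent.Lib.Helper4.Equi6 Groth.Agent.Lib.Helper4.Equi7 Groth.Agent.Lib.Helper4.Aff1 Groth.Agent.Lib.Helper4.Aff2 Groth.Agent.Lib.Helper4.Equi10 Groth.Agent.Lib.Helper4.Val1 Groth.Agent.Lib.Helper4.BaseChg1 Groth.Agent.Lib.Helper4.UnivOpen1 Groth.Agent.Lib.Helper4.FibClosure1 Groth.Agent.Lib.Helper4.OpenNoeth1 Groth.Agent.Lib.Helper4.SecComp1 Groth.Agent.Lib.Helper4.SecComp2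
open Groth.Agent.Lib.Helper4.SecComp3 Groth.Agent.Lib.Helper4.PropDim1 Groth.Agent.Lib.Helper4.ZMTNormalPt1 Groth.Agent.Lib.Helper4.UO Groth.Agent.Lib.Helper4.UOp
open Groth.Agent.Lib.Helper4.ChevCrit1 Groth.Agent.Lib.Helper4.ChevCrit2 Groth.Agent.Lib.Helper4.ChevCrit3
open Groth.Agent.Lib.Helper4.IrrCompDomain1 Groth.Agent.Lib.Helper4.RadBir1
open Groth.Agent.Lib.Helper4.ChevCrit4
open Groth.Agent.Lib.Helper4.ChevCrit5
open Groth.Agent.Lib.Helper4.DedekindOpen1 Groth.Agent.Lib.Helper4.UnivOpenT1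
open Groth.Agent.Lib.Helper4.ChevCrit7
open Groth.Agent.Lib.Helper4.DvrFlat1 Groth.Agent.Lib.Helper4.FlatDimK1 Groth.Agent.Lib.Helper4.BaseChgMax1 Groth.Agent.Lib.Helper4.ProdDim1 Groth.Agent.Lib.Helper4.FibDimBC1 Groth.Agent.Lib.Helper4.FibMap1 Groth.Agent.Lib.Helper4.GenFib1 Groth.Agent.Lib.Helper4.EquiBC1 Groth.Agent.Lib.Helper4.GenEqui1 Groth.Agent.Lib.Helper4.LocNoethFib1 Groth.Agent.Lib.Helper4.FibDimBC2 Groth.Agent.Lib.Helper4.FibDimComp1 Groth.Agent.Lib.Helper4.HypDim1 Groth.Agent.Lib.Helper4.FFlatDelta1 Groth.Agent.Lib.Helper4.FTDim1 Groth.Agent.Lib.Helper4.IrrFib1 Groth.Agent.Lib.Helper4.FTDim2 Groth.Agent.Lib.Helper4.ProperImgDim1 Groth.Agent.Lib.Helper4.RangeDim1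

namespace Groth.Agent.Lib.Helper4.WellInt1

set_option backward.defeqAttrib.useBackward true in
theorem isPurelyInseparable_of_forall_mem_range_diagonal {X Y : Scheme.{u}} (f : X ⟶ Y) (x : X)
    (h : ∀ p : ↥(pullback f f), pullback.fst f f p = x → pullback.snd f f p = x →
      p ∈ Set.range (pullback.diagonal f)) :
    (f.residueFieldMap x).hom.IsPurelyInseparable := by
  algebraize [(f.residueFieldMap x).hom]
  rw [RingHom.IsPurelyInseparable, isPurelyInseparable_iff_subsingleton_emb, subsingleton_iff]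
  intro σ₁ σ₂
  apply AlgHom.coe_ringHom_injective
  let g₁ := (X.SpecToEquivOfField _).symm ⟨_, CommRingCat.ofHom σ₁.toRingHom⟩
  let g₂ := (X.SpecToEquivOfField _).symm ⟨_, CommRingCat.ofHom σ₂.toRingHom⟩
  suffices X.SpecToEquivOfField _ g₁ = X.SpecToEquivOfField _ g₂ by
    rw [Equiv.apply_symm_apply, Equiv.apply_symm_apply] at this
    exact congr($(this).2.hom)
  let q := pullback.lift (f := f) (g := f) g₁ g₂ <| by
    simp only [g₁, g₂, Scheme.SpecToEquivOfField_symm_apply, AlgHom.toRingHom_eq_coe,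
      Category.assoc, ← f.SpecMap_residueFieldMap_fromSpecResidueField x, ← Spec.map_comp_assoc]
    congr 2
    ext a
    simp only [CommRingCat.hom_comp, RingHom.comp_apply]
    exact (AlgHom.commutes σ₁ a).trans (AlgHom.commutes σ₂ a).symm
  have q_fst : q ≫ pullback.fst f f = g₁ := pullback.lift_fst _ _ _
  have q_snd : q ≫ pullback.snd f f = g₂ := pullback.lift_snd _ _ _
  rw [Scheme.SpecToEquivOfField_eq_iff, ← q_fst, ← q_snd]
  have hq1 : pullback.fst f f (q (IsLocalRing.closedPoint _)) = x := by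
    rw [← Scheme.Hom.comp_apply, q_fst]
    simp [g₁, Scheme.SpecToEquivOfField_symm_apply]
  have hq2 : pullback.snd f f (q (IsLocalRing.closedPoint _)) = x := by
    rw [← Scheme.Hom.comp_apply, q_snd]
    simp [g₂, Scheme.SpecToEquivOfField_symm_apply]
  obtain ⟨u, hu⟩ := h (q (IsLocalRing.closedPoint _)) hq1 hq2
  have hux : u = x := by
    have := congr(pullback.fst f f $(hu))
    rw [← Scheme.Hom.comp_apply, ← Scheme.Hom.comp_apply] at this
    simpa [Scheme.SpecToEquivOfField_symm_apply, q_fst, g₁] using this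
  refine ⟨by simp [g₁, g₂, q_fst, q_snd], ?_⟩
  dsimp
  simp only [Scheme.descResidueField_stalkClosedPointTo_comp, ← Category.assoc]
  congr 1
  rw [← cancel_mono (Scheme.residueFieldCongr (hux ▸ hu).symm).hom]
  have : Mono (Scheme.Hom.residueFieldMap (pullback.diagonal f) x) :=
    ConcreteCategory.mono_of_injective _ (RingHom.injective _)
  simp [← cancel_mono ((pullback.diagonal f).residueFieldMap x), ← Scheme.residueFieldMap_comp,
    (pullback.fst f f).residueFieldMap_congr', (pullback.snd f f).residueFieldMap_congr'_assoc,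
    Scheme.Hom.residueFieldMap_congr (pullback.diagonal_snd f),
    Scheme.Hom.residueFieldMap_congr (pullback.diagonal_fst f)]


/-- a subset containing a nonempty open part of the closure of a point has dimension at least
the transcendence degree of the residue field of that point -/
theorem tr_le_dim_of_open_inter (k : Type u) [Field k] {X : Scheme.{u}}
    (pX : X ⟶ Spec (CommRingCat.of k)) [LocallyOfFiniteType pX] (x₀ : X) (U : Set X)
    (hUo : IsOpen U) (hx₀U : x₀ ∈ U) (R : Set X) (hUsub : U ∩ closure ({x₀} : Set X) ⊆ R) :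
    ((tr pX x₀ : ℕ) : WithBot ℕ∞) ≤ topologicalKrullDim ↥R := by
  obtain ⟨UU, hUU⟩ : ∃ UU : X.Opens, (UU : Set X) = U := ⟨⟨U, hUo⟩, rfl⟩
  have hx₀UU : x₀ ∈ UU := by
    change x₀ ∈ (UU : Set X)
    rw [hUU]; exact hx₀U
  obtain ⟨u₀, h3⟩ : ∃ u₀ : ↥(UU : Scheme.{u}), UU.ι u₀ = x₀ := ⟨⟨x₀, hx₀UU⟩, rfl⟩
  have h1 := dim_closure_of_field k (UU.ι ≫ pX) u₀
  have h2 := Groth.Agent.Lib.Helper4.PropDim1.tr_comp UU.ι pX u₀
  rw [tr_of_surjectiveOnStalks UU.ι, add_zero] at h2
  rw [h3] at h2
  rw [h2] at h1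
  rw [← h1]
  have hemb : Topology.IsEmbedding
      (UU.ι.base ∘ (Subtype.val : ↥(closure ({u₀} : Set ↥(UU : Scheme.{u}))) → ↥(UU : Scheme.{u}))) :=
    UU.ι.isEmbedding.comp Topology.IsEmbedding.subtypeVal
  have hrange : Set.range
      (UU.ι.base ∘ (Subtype.val : ↥(closure ({u₀} : Set ↥(UU : Scheme.{u}))) → ↥(UU : Scheme.{u}))) =
      U ∩ closure ({x₀} : Set X) := by
    rw [Set.range_comp, Subtype.range_coe, UU.ι.isEmbedding.closure_eq_preimage_closure_image,
      Set.image_preimage_eq_inter_range, Set.image_singleton, h3, Set.inter_comm]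
    congr 1
    rw [← hUU]
    exact Scheme.Opens.range_ι UU
  rw [dim_eq_of_isEmbedding _ hemb _ hrange]
  exact Groth.Agent.Lib.Helper4.DimFT2.topologicalKrullDim_mono hUsub

theorem dim_le_of_forall_tr_mem (k : Type u) [Field k] {X : Scheme.{u}}
    (p : X ⟶ Spec (CommRingCat.of k)) [LocallyOfFiniteType p] (R : Set X) [QuasiSober ↥R]
    (D : WithBot ℕ∞) (h : ∀ r ∈ R, ((tr p r : ℕ) : WithBot ℕ∞) ≤ D) :
    topologicalKrullDim ↥R ≤ D := by
  apply tdim_le_of_forall
  intro t ht
  refine ⟨t, specializes_rfl, ?_⟩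
  rw [dim_closure_of_field k p t]
  exact h t ht

open Topology in
/-- a constructible subset of a Noetherian space whose closure contains a point `t₀` such that
the subset is contained in the closure of `t₀` contains `t₀` -/
theorem mem_of_mem_closure_of_isConstructible {T : Type*} [TopologicalSpace T] [NoetherianSpace T]
    (C : Set T) (hC : IsConstructible C) (t₀ : T) (hsub : C ⊆ closure {t₀})
    (hcl : t₀ ∈ closure C) : t₀ ∈ C := by
  have hC' : IsConstructible ((Subtype.val : ↥(closure ({t₀} : Set T)) → T) ⁻¹' C) :=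
    hC.preimage continuous_subtype_val (fun s _ _ => fun U _ _ => NoetherianSpace.isCompact _)
  have hη : ∀ V : Set ↥(closure ({t₀} : Set T)), IsOpen V → V.Nonempty →
      (⟨t₀, subset_closure rfl⟩ : ↥(closure ({t₀} : Set T))) ∈ V := by
    intro V hV ⟨v, hv⟩
    have h1 : t₀ ⤳ v.1 := specializes_iff_mem_closure.mpr v.2
    have h2 : (⟨t₀, subset_closure rfl⟩ : ↥(closure ({t₀} : Set T))) ⤳ v :=
      Topology.IsInducing.subtypeVal.specializes_iff.mp h1
    exact h2.mem_open hV hv
  rcases nhds_or_compl_nhds_of_isConstructible _ hη hC' with h | h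
  · have : (⟨t₀, subset_closure rfl⟩ : ↥(closure ({t₀} : Set T))) ∈
        (Subtype.val : ↥(closure ({t₀} : Set T)) → T) ⁻¹' C := mem_of_mem_nhds h
    exact this
  · exfalso
    obtain ⟨V', hV's, hV'o, hηV'⟩ := mem_nhds_iff.mp h
    obtain ⟨U, hUo, hUV'⟩ := isOpen_induced_iff.mp hV'o
    have ht₀U : t₀ ∈ U := by
      have : (⟨t₀, subset_closure rfl⟩ : ↥(closure ({t₀} : Set T))) ∈ Subtype.val ⁻¹' U := by
        rw [hUV']; exact hηV'
      exact this
    obtain ⟨c, hcU, hcC⟩ := mem_closure_iff.mp hcl U hUo ht₀U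
    have hcT : c ∈ closure ({t₀} : Set T) := hsub hcC
    have : (⟨c, hcT⟩ : ↥(closure ({t₀} : Set T))) ∈ V' := by
      rw [← hUV']; exact hcU
    exact hV's this hcC


section WI
variable (k : Type u) [Field k] {X S : Scheme.{u}}
    (q : S ⟶ Spec (CommRingCat.of k)) (f : X ⟶ S)
    [LocallyOfFiniteType q] [CompactSpace S] [LocallyOfFiniteType f] [CompactSpace X]

theorem qc_of_compact {R : CommRingCat.{u}} {S : Scheme.{u}} (q : S ⟶ Spec R) [CompactSpace S] :
    QuasiCompact q := (HasAffineProperty.iff_of_isAffine (P := @QuasiCompact)).mpr inferInstance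

/-- the off-diagonal part of `Y ×_S Z` -/
def offDiag (Y Z : Set X) : Set ↥(pullback f f) :=
  {p : ↥(pullback f f) | pullback.fst f f p ∈ Y ∧ pullback.snd f f p ∈ Z ∧
    p ∉ Set.range (pullback.diagonal f)}

/-- a point of the off-diagonal part bounds its dimension from below -/
theorem tr_le_dim_offDiag [IsSeparated f] (Y Z : Set X) (hYc : IsClosed Y) (hZc : IsClosed Z)
    (p : ↥(pullback f f)) (hp : p ∈ offDiag f Y Z) :
    ((tr (f ≫ q) (pullback.fst f f p) : ℕ) : WithBot ℕ∞) ≤ topologicalKrullDim ↥(offDiag f Y Z) := by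
  have hcl : IsClosed (Set.range (pullback.diagonal f)) :=
    (pullback.diagonal f).isClosedEmbedding.isClosed_range
  have h1 := tr_le_dim_of_open_inter k (pullback.fst f f ≫ f ≫ q) p
    (Set.range (pullback.diagonal f))ᶜ hcl.isOpen_compl hp.2.2 (offDiag f Y Z) (by
      rintro a ⟨haU, hacl⟩
      have hsp : p ⤳ a := specializes_iff_mem_closure.mpr hacl
      refine ⟨?_, ?_, haU⟩
      · exact (hsp.map (pullback.fst f f).continuous).mem_closed hYc hp.1
      · exact (hsp.map (pullback.snd f f).continuous).mem_closed hZc hp.2.1)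
  refine le_trans ?_ h1
  have h2 := Groth.Agent.Lib.Helper4.PropDim1.tr_comp (pullback.fst f f) (f ≫ q) p
  have : tr (f ≫ q) (pullback.fst f f p) ≤ tr (pullback.fst f f ≫ f ≫ q) p := by omega
  exact_mod_cast this


/-- dimension of a closed irreducible subset through its generic point -/
theorem exists_generic_dim (Y : Set X) (hYc : IsClosed Y) (hYi : IsIrreducible Y) :
    ∃ η : X, closure ({η} : Set X) = Y ∧
      topologicalKrullDim ↥Y = ((tr (f ≫ q) η : ℕ) : WithBot ℕ∞) := by
  obtain ⟨η, hη⟩ := QuasiSober.sober hYi hYc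
  refine ⟨η, hη.def, ?_⟩
  rw [← hη.def]
  exact dim_closure_of_field k (f ≫ q) η

theorem wb_cancel_left (a : WithBot ℕ∞) (C t : ℕ)
    (h : ((t : ℕ) : WithBot ℕ∞) + a ≤ ((t : ℕ) : WithBot ℕ∞) + ((C : ℕ) : WithBot ℕ∞)) :
    a ≤ ((C : ℕ) : WithBot ℕ∞) := by
  rw [add_comm _ a, add_comm _ ((C : ℕ) : WithBot ℕ∞)] at h
  exact wb_cancel a C t h

include q in
open Topology in
theorem S14484_main [IsSeparated f]
    (Y Z : Set X) (hYc : IsClosed Y) (hYi : IsIrreducible Y) (hZc : IsClosed Z) (hZi : IsIrreducible Z)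
    (hWI : topologicalKrullDim {p : ↥(pullback f f) | pullback.fst f f p ∈ Y ∧ pullback.snd f f p ∈ Z ∧ p ∉ Set.range (pullback.diagonal f)} + topologicalKrullDim S ≤ topologicalKrullDim Y + topologicalKrullDim Z)
    (hZS : topologicalKrullDim Z < topologicalKrullDim S)
    (hYZ : ¬ Y ⊆ Z) :
    ¬ (f.base '' Y ⊆ closure (f.base '' Y ∩ f.base '' Z)) ∧ ¬ (f.base '' Y ⊆ f.base '' Z) := by
  have key : ¬ (f.base '' Y ⊆ closure (f.base '' Y ∩ f.base '' Z)) := by
    intro hsub
    haveI : QuasiCompact q := qc_of_compact q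
    haveI : QuasiCompact (f ≫ q) := qc_of_compact (f ≫ q)
    haveI : NoetherianSpace ↥S := noetherianSpace_of_field k q
    haveI : NoetherianSpace ↥X := noetherianSpace_of_field k (f ≫ q)
    haveI : IsLocallyNoetherian S := LocallyOfFiniteType.isLocallyNoetherian q
    haveI : IsNoetherian S := {}
    haveI : LocallyOfFinitePresentation f :=
      LocallyOfFinitePresentation.iff_locallyOfFiniteType.2 inferInstance
    obtain ⟨ηY, hηY, hdimY⟩ := exists_generic_dim k q f Y hYc hYi
    obtain ⟨ηZ, hηZ, hdimZ⟩ := exists_generic_dim k q f Z hZc hZi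
    have hclosedCons : ∀ W : Set X, IsClosed W → IsConstructible W := by
      intro W hW
      have h1 : IsRetrocompact Wᶜ := fun U _ _ => NoetherianSpace.isCompact _
      exact (h1.isConstructible hW.isOpen_compl).of_compl
    have hC : IsConstructible (f.base '' Y ∩ f.base '' Z) :=
      (f.isConstructible_image (hclosedCons Y hYc)).inter
        (f.isConstructible_image (hclosedCons Z hZc))
    have hηYY : ηY ∈ Y := by rw [← hηY]; exact subset_closure rfl
    have hmem : f ηY ∈ f.base '' Y ∩ f.base '' Z := by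
      apply mem_of_mem_closure_of_isConstructible _ hC (f ηY)
      · rintro _ ⟨⟨y, hy, rfl⟩, -⟩
        have : ηY ⤳ y := by rw [specializes_iff_mem_closure, hηY]; exact hy
        exact specializes_iff_mem_closure.mp (this.map f.continuous)
      · exact hsub ⟨ηY, hηYY, rfl⟩
    obtain ⟨z, hzZ, hz⟩ := hmem.2
    obtain ⟨p, hp1, hp2⟩ := Scheme.Pullback.exists_preimage_pullback (f := f) (g := f) ηY z hz.symm
    have hpD : p ∈ offDiag f Y Z := by
      refine ⟨by rw [hp1]; exact hηYY, by rw [hp2]; exact hzZ, ?_⟩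
      rintro ⟨x, rfl⟩
      have e1 : pullback.fst f f (pullback.diagonal f x) = x := by
        rw [← Scheme.Hom.comp_apply, pullback.diagonal_fst]; rfl
      have e2 : pullback.snd f f (pullback.diagonal f x) = x := by
        rw [← Scheme.Hom.comp_apply, pullback.diagonal_snd]; rfl
      rw [e1] at hp1
      rw [e2] at hp2
      apply hYZ
      rw [← hηY]
      apply closure_minimal _ hZc
      rw [Set.singleton_subset_iff, ← hp1, hp2]
      exact hzZ
    have h1 := tr_le_dim_offDiag k q f Y Z hYc hZc p hpD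
    rw [hp1] at h1
    change _ ≤ topologicalKrullDim {p : ↥(pullback f f) | pullback.fst f f p ∈ Y ∧
      pullback.snd f f p ∈ Z ∧ p ∉ Set.range (pullback.diagonal f)} at h1
    rw [hdimY, hdimZ] at hWI
    rw [hdimZ] at hZS
    have h2 : ((tr (f ≫ q) ηY : ℕ) : WithBot ℕ∞) + topologicalKrullDim S ≤
        ((tr (f ≫ q) ηY : ℕ) : WithBot ℕ∞) + ((tr (f ≫ q) ηZ : ℕ) : WithBot ℕ∞) :=
      le_trans (add_le_add_left h1 _) hWI
    have h3 := wb_cancel_left _ _ _ h2
    exact absurd h3 (not_le.mpr hZS)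
  refine ⟨key, fun h => key ?_⟩
  intro a ha
  exact subset_closure ⟨ha, h ha⟩


include q in
open Topology in
theorem S14483_main [IsSeparated f]
    (Y : Set X) (hYc : IsClosed Y) (hYi : IsIrreducible Y)
    (hWI : topologicalKrullDim {p : ↥(pullback f f) | pullback.fst f f p ∈ Y ∧ pullback.snd f f p ∈ Y ∧ p ∉ Set.range (pullback.diagonal f)} + topologicalKrullDim S ≤ topologicalKrullDim Y + topologicalKrullDim Y)
    (hYS : topologicalKrullDim Y < topologicalKrullDim S) :
    ∃ V : Set X, IsOpen V ∧ (V ∩ Y).Nonempty ∧ Set.InjOn f.base (V ∩ Y) ∧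
      ∀ x ∈ V ∩ Y, (f.residueFieldMap x).hom.IsPurelyInseparable := by
  haveI : QuasiCompact q := qc_of_compact q
  haveI : QuasiCompact (f ≫ q) := qc_of_compact (f ≫ q)
  haveI : NoetherianSpace ↥S := noetherianSpace_of_field k q
  haveI : NoetherianSpace ↥X := noetherianSpace_of_field k (f ≫ q)
  haveI : IsLocallyNoetherian S := LocallyOfFiniteType.isLocallyNoetherian q
  haveI : IsLocallyNoetherian X := LocallyOfFiniteType.isLocallyNoetherian f
  haveI : IsNoetherian X := {}
  haveI : LocallyOfFinitePresentation f :=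
    LocallyOfFinitePresentation.iff_locallyOfFiniteType.2 inferInstance
  haveI : QuasiCompact (pullback.fst f f ≫ f ≫ q) := qc_of_compact _
  haveI : NoetherianSpace ↥(pullback f f) := noetherianSpace_of_field k (pullback.fst f f ≫ f ≫ q)
  obtain ⟨η, hη, hdimY⟩ := exists_generic_dim k q f Y hYc hYi
  have hηY : η ∈ Y := by rw [← hη]; exact subset_closure rfl
  have hclD : IsClosed (Set.range (pullback.diagonal f)) :=
    (pullback.diagonal f).isClosedEmbedding.isClosed_range
  -- no off-diagonal point over the generic point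
  have hno : ∀ p ∈ offDiag f Y Y, pullback.fst f f p ≠ η := by
    intro p hpD hpη
    have h1 := tr_le_dim_offDiag k q f Y Y hYc hYc p hpD
    rw [hpη] at h1
    change _ ≤ topologicalKrullDim {p : ↥(pullback f f) | pullback.fst f f p ∈ Y ∧
      pullback.snd f f p ∈ Y ∧ p ∉ Set.range (pullback.diagonal f)} at h1
    rw [hdimY] at hWI hYS
    have h2 : ((tr (f ≫ q) η : ℕ) : WithBot ℕ∞) + topologicalKrullDim S ≤
        ((tr (f ≫ q) η : ℕ) : WithBot ℕ∞) + ((tr (f ≫ q) η : ℕ) : WithBot ℕ∞) :=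
      le_trans (add_le_add_left h1 _) hWI
    have h3 := wb_cancel_left _ _ _ h2
    exact absurd h3 (not_le.mpr hYS)
  -- constructibility
  have hconsD : IsConstructible (offDiag f Y Y) := by
    have hA : IsClosed ((pullback.fst f f).base ⁻¹' Y ∩ (pullback.snd f f).base ⁻¹' Y) :=
      (hYc.preimage (pullback.fst f f).continuous).inter (hYc.preimage (pullback.snd f f).continuous)
    have h1 : IsRetrocompact ((pullback.fst f f).base ⁻¹' Y ∩ (pullback.snd f f).base ⁻¹' Y)ᶜ :=
      fun U _ _ => NoetherianSpace.isCompact _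
    have hAc : IsConstructible ((pullback.fst f f).base ⁻¹' Y ∩ (pullback.snd f f).base ⁻¹' Y) :=
      (h1.isConstructible hA.isOpen_compl).of_compl
    have h2 : IsRetrocompact (Set.range (pullback.diagonal f))ᶜ :=
      fun U _ _ => NoetherianSpace.isCompact _
    have hBc : IsConstructible (Set.range (pullback.diagonal f))ᶜ :=
      h2.isConstructible hclD.isOpen_compl
    have : offDiag f Y Y = ((pullback.fst f f).base ⁻¹' Y ∩ (pullback.snd f f).base ⁻¹' Y) ∩
        (Set.range (pullback.diagonal f))ᶜ := by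
      ext p
      simp only [offDiag, Set.mem_ofPred_eq, Set.mem_inter_iff, Set.mem_preimage, Set.mem_compl_iff,
        and_assoc]
    rw [this]
    exact hAc.inter hBc
  have hconsE : IsConstructible ((pullback.fst f f).base '' offDiag f Y Y) :=
    (pullback.fst f f).isConstructible_image hconsD
  have hEη : η ∉ (pullback.fst f f).base '' offDiag f Y Y := by
    rintro ⟨p, hpD, hpη⟩
    exact hno p hpD hpη
  have hEsub : (pullback.fst f f).base '' offDiag f Y Y ⊆ closure ({η} : Set X) := by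
    rintro _ ⟨p, hpD, rfl⟩
    rw [hη]
    exact hpD.1
  have hηcl : η ∉ closure ((pullback.fst f f).base '' offDiag f Y Y) := fun hmem =>
    hEη (mem_of_mem_closure_of_isConstructible _ hconsE η hEsub hmem)
  refine ⟨(closure ((pullback.fst f f).base '' offDiag f Y Y))ᶜ, isClosed_closure.isOpen_compl,
    ⟨η, hηcl, hηY⟩, ?_, ?_⟩
  · rintro x ⟨hxV, hxY⟩ x' ⟨hx'V, hx'Y⟩ hfx
    by_contra hne
    obtain ⟨p, hp1, hp2⟩ := Scheme.Pullback.exists_preimage_pullback (f := f) (g := f) x x' hfx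
    apply hxV
    apply subset_closure
    refine ⟨p, ⟨by rw [hp1]; exact hxY, by rw [hp2]; exact hx'Y, ?_⟩, hp1⟩
    rintro ⟨a, rfl⟩
    have e1 : pullback.fst f f (pullback.diagonal f a) = a := by
      rw [← Scheme.Hom.comp_apply, pullback.diagonal_fst]; rfl
    have e2 : pullback.snd f f (pullback.diagonal f a) = a := by
      rw [← Scheme.Hom.comp_apply, pullback.diagonal_snd]; rfl
    rw [e1] at hp1
    rw [e2] at hp2
    exact hne (hp1.symm.trans hp2)
  · rintro x ⟨hxV, hxY⟩
    apply isPurelyInseparable_of_forall_mem_range_diagonal f x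
    intro p hp1 hp2
    by_contra hpD
    apply hxV
    apply subset_closure
    exact ⟨p, ⟨by rw [hp1]; exact hxY, by rw [hp2]; exact hxY, hpD⟩, hp1⟩

end WI


end Groth.Agent.Lib.Helper4.WellInt1
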