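import Mathlib
import Groth.Prelude.Def_Cyc
import Groth.Agent.Lib.Helper4.JacDim1
import Groth.Prelude.Def_EGA43
import Groth.Agent.Lib.Helper4.FibreStalkDim1
import Groth.Agent.Lib.Helper4.DimFT1
import Groth.Agent.Lib.Helper4.DimFT2
import Groth.Agent.Lib.Helper4.Chev8
import Groth.Agent.Lib.Helper4.FibDim7
import Groth.Agent.Lib.Helper4.EffCartierDim1
import Groth.Agent.Lib.Helper4.JacDim4
import Groth.Agent.Lib.Helper4.Chev9
import Groth.Agent.Lib.Helper4.Chev10
import Groth.Agent.Lib.Helper4.Chev11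
import Groth.Agent.Lib.Helper4.Equi1
import Groth.Agent.Lib.Helper4.Equi2
import Groth.Agent.Lib.Helper4.Equi3
import Groth.Agent.Lib.Helper4.Equi4
import Groth.Agent.Lib.Helper4.Equi5
import Groth.Agent.Lib.Helper4.Equi6
import Groth.Agent.Lib.Helper4.Equi7
import Groth.Agent.Lib.Helper4.Aff1
import Groth.Agent.Lib.Helper4.Aff2
import Groth.Agent.Lib.Helper4.Equi10
import Groth.Agent.Lib.Helper4.Val1
import Groth.Agent.Lib.Helper4.BaseChg1
import Groth.Agent.Lib.Helper4.UnivOpen1
import Groth.Agent.Lib.Helper4.FibClosure1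
import Groth.Agent.Lib.Helper4.OpenNoeth1
import Groth.Agent.Lib.Helper4.SecComp1
import Groth.Agent.Lib.Helper4.SecComp2
import Groth.Agent.Lib.Helper4.UnivOpen2
import Groth.Agent.Lib.Helper4.UnivOpenAt
import Groth.Agent.Lib.Helper4.RegularLocalCopy
import Groth.Agent.Lib.Helper4.ZMTNormalPt1
import Groth.Agent.Lib.Helper4.LocFinComp1
import Groth.Agent.Lib.Helper4.SecComp3
import Groth.Agent.Lib.Helper4.PropDim1
import Groth.Prelude.Def_FDesc
import Groth.Prelude.Def_MoreMor
import Groth.Agent.Lib.Helper4.ChevCrit1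
import Groth.Agent.Lib.Helper4.ChevCrit2
import Groth.Agent.Lib.Helper4.ChevCrit3
import Groth.Agent.Lib.Helper4.IrrCompDomain1
import Groth.Agent.Lib.Helper4.ChevCrit4
import Groth.Agent.Lib.Helper4.ChevCrit5
import Groth.Agent.Lib.Helper4.ChevCrit6
import Groth.Agent.Lib.Helper4.ChevCrit7
import Groth.Agent.Lib.Helper4.DedekindOpen1
import Groth.Agent.Lib.Helper4.UnivOpenT1
import Groth.Agent.Lib.Helper4.DvrFlat1
import Groth.Agent.Lib.Helper4.SatChain1
import Groth.Agent.Lib.Helper4.FlatDimK1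
import Groth.Agent.Lib.Helper4.BaseChgMax1
import Groth.Agent.Lib.Helper4.ProdDim1
import Groth.Agent.Lib.Helper4.FibDimBC1
import Groth.Agent.Lib.Helper4.FibMap1
import Groth.Agent.Lib.Helper4.GenFib1
import Groth.Agent.Lib.Helper4.EquiBC1
import Groth.Agent.Lib.Helper4.GenEqui1
import Groth.Agent.Lib.Helper4.LocNoethFib1
import Groth.Agent.Lib.Helper4.FibDimBC2
import Groth.Agent.Lib.Helper4.FibDimComp1
import Groth.Agent.Lib.Helper4.HypDim1
import Groth.Agent.Lib.Helper4.FFlatDelta1
import Groth.Agent.Lib.Helper4.FTDim1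
import Groth.Agent.Lib.Helper4.IrrFib1
import Groth.Agent.Lib.Helper4.FTDim2
import Groth.Agent.Lib.Helper4.ProperImgDim1
import Groth.Agent.Lib.Helper4.RangeDim1
import Groth.Agent.Lib.Helper4.WellInt1

/-!
# well-intersection is invariant under base change with equidimensional fibres (S14485) (helper4)
-/

set_option backward.isDefEq.respectTransparency.types false
set_option synthInstance.maxHeartbeats 400000
set_option autoImplicit false
set_option linter.unusedSectionVars false
set_option linter.style.haveILetI false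
set_option linter.unusedSimpArgs false
universe u v w
open CategoryTheory CategoryTheory.Limits AlgebraicGeometry TopologicalSpace IsLocalRing Opposite
open Cardinal AffineSpace MvPolynomial
open Groth.Agent.Lib.Helper4.DimIneq1 Groth.Agent.Lib.Helper4.DimFT2 Groth.Agent.Lib.Helper4.Catenary1
open Groth.Agent.Lib.Helper4.DimEq1 Groth.Agent.Lib.Helper4.DimIneq2 Groth.Agent.Lib.Helper4.DimEq2
open Groth.Agent.Lib.Helper4.DimIneq3 Groth.Agent.Lib.Helper4.DimIneq4
open Groth.Agent.Lib.Helper4.NormFibre2 Groth.Agent.Lib.Helper4.RadBir3 Groth.Agent.Lib.Helper4.DimFT3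
open Groth.Agent.Lib.Helper4.FibDim1 Groth.Agent.Lib.Helper4.FibDim2 Groth.Agent.Lib.Helper4.LocUC1
open Groth.Agent.Lib.Helper4.FibDim3 Groth.Agent.Lib.Helper4.FibDim4 Groth.Agent.Lib.Helper4.FibDim5
open Groth.Agent.Lib.Helper4.FibDim6 Groth.Agent.Lib.Helper4.FibDim7 Groth.Agent.Lib.Helper4.JacDim1
open Groth.Agent.Lib.Helper4.DimFT1
open Groth.Agent.Lib.Helper4.Chev2 Groth.Agent.Lib.Helper4.Chev5 Groth.Agent.Lib.Helper4.Chev6 Groth.Agent.Lib.Helper4.Chev8
open Groth.Agent.Lib.Helper4.JacDim4 Groth.Agent.Lib.Helper4.EffCartierDim1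
open Groth.Agent.Lib.Helper4.Chev9 Groth.Agent.Lib.Helper4.Chev4
open Groth.Agent.Lib.Helper4.Chev10 Groth.Agent.Lib.Helper4.Chev11 Groth.Agent.Lib.Helper4.Chev3 Groth.Agent.Lib.Helper4.Equi1 Groth.Agent.Lib.Helper4.Equi2 Groth.Agent.Lib.Helper4.OpenAt1 Groth.Agent.Lib.Helper4.Equi3 Groth.Agent.Lib.Helper4.Equi4 Groth.Agent.Lib.Helper4.Equi5 Groth.Agent.Lib.Helper4.Equi6 Groth.Agent.Lib.Helper4.Equi7 Groth.Agent.Lib.Helper4.Aff1 Groth.Agent.Lib.Helper4.Aff2 Groth.Agent.Lib.Helper4.Equi10 Groth.Agent.Lib.Helper4.Val1 Groth.Agent.Lib.Helper4.BaseChg1 Groth.Agent.Lib.Helper4.UnivOpen1 Groth.Agent.Lib.Helper4.FibClosure1 Groth.Agent.Lib.Helper4.OpenNoeth1 Groth.Agent.Lib.Helper4.SecComp1 Groth.Agent.Lib.Helper4.SecComp2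
open Groth.Agent.Lib.Helper4.SecComp3 Groth.Agent.Lib.Helper4.PropDim1 Groth.Agent.Lib.Helper4.ZMTNormalPt1 Groth.Agent.Lib.Helper4.UO Groth.Agent.Lib.Helper4.UOp
open Groth.Agent.Lib.Helper4.ChevCrit1 Groth.Agent.Lib.Helper4.ChevCrit2 Groth.Agent.Lib.Helper4.ChevCrit3
open Groth.Agent.Lib.Helper4.IrrCompDomain1 Groth.Agent.Lib.Helper4.RadBir1
open Groth.Agent.Lib.Helper4.ChevCrit4
open Groth.Agent.Lib.Helper4.ChevCrit5
open Groth.Agent.Lib.Helper4.DedekindOpen1 Groth.Agent.Lib.Helper4.UnivOpenT1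
open Groth.Agent.Lib.Helper4.ChevCrit7
open Groth.Agent.Lib.Helper4.DvrFlat1 Groth.Agent.Lib.Helper4.FlatDimK1 Groth.Agent.Lib.Helper4.BaseChgMax1 Groth.Agent.Lib.Helper4.ProdDim1 Groth.Agent.Lib.Helper4.FibDimBC1 Groth.Agent.Lib.Helper4.FibMap1 Groth.Agent.Lib.Helper4.GenFib1 Groth.Agent.Lib.Helper4.EquiBC1 Groth.Agent.Lib.Helper4.GenEqui1 Groth.Agent.Lib.Helper4.LocNoethFib1 Groth.Agent.Lib.Helper4.FibDimBC2 Groth.Agent.Lib.Helper4.FibDimComp1 Groth.Agent.Lib.Helper4.HypDim1 Groth.Agent.Lib.Helper4.FFlatDelta1 Groth.Agent.Lib.Helper4.FTDim1 Groth.Agent.Lib.Helper4.IrrFib1 Groth.Agent.Lib.Helper4.FTDim2 Groth.Agent.Lib.Helper4.ProperImgDim1 Groth.Agent.Lib.Helper4.RangeDim1 Groth.Agent.Lib.Helper4.WellInt1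

namespace Groth.Agent.Lib.Helper4.WellInt2

section Cat
variable {C : Type*} [Category C] [HasPullbacks C] {X S S' : C} (f : X ⟶ S) (g : S' ⟶ S)

/-- the map `X' ×_{S'} X' ⟶ X ×_S X` for `X' = X ×_S S'` -/
noncomputable def piMap : pullback (pullback.snd f g) (pullback.snd f g) ⟶ pullback f f :=
  pullback.map (pullback.snd f g) (pullback.snd f g) f f (pullback.fst f g) (pullback.fst f g) g
    pullback.condition.symm pullback.condition.symm

theorem piMap_fst : piMap f g ≫ pullback.fst f f =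
    pullback.fst (pullback.snd f g) (pullback.snd f g) ≫ pullback.fst f g := by
  unfold piMap pullback.map
  exact pullback.lift_fst _ _ _

theorem piMap_snd : piMap f g ≫ pullback.snd f f =
    pullback.snd (pullback.snd f g) (pullback.snd f g) ≫ pullback.fst f g := by
  unfold piMap pullback.map
  exact pullback.lift_snd _ _ _

theorem isPullback_piMap_snd :
    IsPullback (piMap f g) (pullback.snd (pullback.snd f g) (pullback.snd f g))
      (pullback.snd f f) (pullback.fst f g) := by
  have sq1 : IsPullback (pullback.fst (pullback.snd f g) (pullback.snd f g))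
      (pullback.snd (pullback.snd f g) (pullback.snd f g)) (pullback.snd f g) (pullback.snd f g) :=
    IsPullback.of_hasPullback _ _
  have sq2 : IsPullback (pullback.fst f g) (pullback.snd f g) f g := IsPullback.of_hasPullback _ _
  have big := sq1.paste_horiz sq2
  have sqP : IsPullback (pullback.fst f f) (pullback.snd f f) f f := IsPullback.of_hasPullback _ _
  have big' : IsPullback (piMap f g ≫ pullback.fst f f)
      (pullback.snd (pullback.snd f g) (pullback.snd f g)) f (pullback.fst f g ≫ f) := by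
    rw [piMap_fst, pullback.condition (f := f) (g := g)]
    exact big
  exact IsPullback.of_right big' (piMap_snd f g) sqP

theorem isPullback_piMap :
    IsPullback (piMap f g)
      (pullback.snd (pullback.snd f g) (pullback.snd f g) ≫ pullback.snd f g)
      (pullback.snd f f ≫ f) g :=
  (isPullback_piMap_snd f g).paste_vert (IsPullback.of_hasPullback f g)

theorem diagonal_piMap : pullback.diagonal (pullback.snd f g) ≫ piMap f g =
    pullback.fst f g ≫ pullback.diagonal f := by
  apply pullback.hom_ext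
  · rw [Category.assoc, piMap_fst, pullback.diagonal_fst_assoc, Category.assoc, pullback.diagonal_fst,
      Category.comp_id]
  · rw [Category.assoc, piMap_snd, pullback.diagonal_snd_assoc, Category.assoc, pullback.diagonal_snd,
      Category.comp_id]

theorem isPullback_diagonal_piMap :
    IsPullback (pullback.diagonal (pullback.snd f g)) (pullback.fst f g) (piMap f g)
      (pullback.diagonal f) := by
  have right : IsPullback (pullback.snd (pullback.snd f g) (pullback.snd f g)) (piMap f g)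
      (pullback.fst f g) (pullback.snd f f) := (isPullback_piMap_snd f g).flip
  have big : IsPullback (pullback.diagonal (pullback.snd f g) ≫
      pullback.snd (pullback.snd f g) (pullback.snd f g)) (pullback.fst f g) (pullback.fst f g)
      (pullback.diagonal f ≫ pullback.snd f f) := by
    rw [pullback.diagonal_snd, pullback.diagonal_snd]
    exact IsPullback.of_horiz_isIso ⟨by simp⟩
  exact IsPullback.of_right big (diagonal_piMap f g) right

end Cat


theorem exists_tr_eq_of_dim_fiber {T' T : Scheme.{u}} (v : T' ⟶ T) [LocallyOfFiniteType v] (t : T)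
    (d : ℕ) (h : topologicalKrullDim ↥(v.fiber t) = d) : ∃ t' : T', v t' = t ∧ tr v t' = d := by
  by_contra hcon
  push Not at hcon
  have hlt : ∀ t' : T', v t' = t → tr v t' < d := by
    intro t' ht'
    have h1 := tr_le_dim_fiber' v t'
    rw [ht', h] at h1
    have h2 : tr v t' ≤ d := by exact_mod_cast h1
    exact lt_of_le_of_ne h2 (hcon t' ht')
  rcases Nat.eq_zero_or_pos d with h0 | hpos
  · have h1 := dim_fiber_le_of_forall v t ⊥ (by
      intro z hz
      have := hlt z hz
      omega)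
    rw [h, le_bot_iff] at h1
    simp at h1
  · have h1 := dim_fiber_le_of_forall v t ((d - 1 : ℕ) : WithBot ℕ∞) (by
      intro z hz
      have := hlt z hz
      have h2 : tr v z ≤ d - 1 := by omega
      exact_mod_cast h2)
    rw [h] at h1
    have h3 : d ≤ d - 1 := by exact_mod_cast h1
    omega

/-- dimension of the preimage of a locally closed subset under a morphism all of whose fibres
have dimension `d` -/
theorem dim_preimage_eq (k : Type u) [Field k] {T T' : Scheme.{u}}
    (pT : T ⟶ Spec (CommRingCat.of k)) [LocallyOfFiniteType pT] (v : T' ⟶ T)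
    [LocallyOfFiniteType v] (d : ℕ) (hd : ∀ t : T, topologicalKrullDim ↥(v.fiber t) = d)
    (U A : Set T) (hU : IsOpen U) (hA : IsClosed A) :
    topologicalKrullDim ↥(v.base ⁻¹' (U ∩ A)) = topologicalKrullDim ↥(U ∩ A) + (d : WithBot ℕ∞) := by
  have hU' : IsOpen (v.base ⁻¹' U) := hU.preimage v.continuous
  have hA' : IsClosed (v.base ⁻¹' A) := hA.preimage v.continuous
  haveI : QuasiSober ↥U := hU.isOpenEmbedding_subtypeVal.quasiSober
  haveI : QuasiSober ↥(U ∩ A) := QuasiSober.inter_of_isClosed_of_quasiSober_left U hA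
  haveI : QuasiSober ↥(v.base ⁻¹' U) := hU'.isOpenEmbedding_subtypeVal.quasiSober
  haveI : QuasiSober ↥(v.base ⁻¹' (U ∩ A)) := by
    rw [Set.preimage_inter]
    exact QuasiSober.inter_of_isClosed_of_quasiSober_left _ hA'
  have hlow : ∀ r ∈ U ∩ A, ((tr pT r : ℕ) : WithBot ℕ∞) ≤ topologicalKrullDim ↥(U ∩ A) := by
    intro r hr
    apply tr_le_dim_of_open_inter k pT r U hU hr.1
    rintro a ⟨haU, hacl⟩
    exact ⟨haU, (specializes_iff_mem_closure.mpr hacl).mem_closed hA hr.2⟩
  have hlow' : ∀ r' ∈ v.base ⁻¹' (U ∩ A), ((tr (v ≫ pT) r' : ℕ) : WithBot ℕ∞) ≤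
      topologicalKrullDim ↥(v.base ⁻¹' (U ∩ A)) := by
    intro r' hr'
    apply tr_le_dim_of_open_inter k (v ≫ pT) r' (v.base ⁻¹' U) hU' hr'.1
    rintro a ⟨haU, hacl⟩
    exact ⟨haU, (specializes_iff_mem_closure.mpr hacl).mem_closed hA' hr'.2⟩
  apply le_antisymm
  · apply dim_le_of_forall_tr_mem k (v ≫ pT)
    intro t' ht'
    have h1 := Groth.Agent.Lib.Helper4.PropDim1.tr_comp v pT t'
    have h2 := tr_le_dim_fiber' v t'
    rw [hd] at h2
    rw [h1]
    push_cast
    exact add_le_add (hlow (v t') ht') h2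
  · rw [add_le_iff_le_wsub]
    apply dim_le_of_forall_tr_mem k pT
    intro r hr
    rw [← add_le_iff_le_wsub]
    obtain ⟨t', ht', htr⟩ := exists_tr_eq_of_dim_fiber v r d (hd r)
    have h1 := Groth.Agent.Lib.Helper4.PropDim1.tr_comp v pT t'
    rw [ht', htr] at h1
    have h2 := hlow' t' (by change v t' ∈ U ∩ A; rw [ht']; exact hr)
    rw [h1] at h2
    exact_mod_cast h2


theorem exists_point_of_isPullback {P X Y Z : Scheme.{u}} {a : P ⟶ X} {b : P ⟶ Y} {c : X ⟶ Z}
    {e : Y ⟶ Z} (hsq : IsPullback a b c e) (x : X) (y : Y) (h : c x = e y) :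
    ∃ z : P, a z = x ∧ b z = y := by
  obtain ⟨w, hw1, hw2⟩ := Scheme.Pullback.exists_preimage_pullback (f := c) (g := e) x y h
  refine ⟨hsq.isoPullback.inv w, ?_, ?_⟩
  · rw [← Scheme.Hom.comp_apply, hsq.isoPullback_inv_fst]; exact hw1
  · rw [← Scheme.Hom.comp_apply, hsq.isoPullback_inv_snd]; exact hw2

theorem wb_add_le_add_iff (x w : WithBot ℕ∞) (n : ℕ) :
    x + ((n : ℕ) : WithBot ℕ∞) ≤ w + ((n : ℕ) : WithBot ℕ∞) ↔ x ≤ w := by
  constructor
  swap
  · intro h; exact add_le_add_left h _
  intro h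
  induction w using WithBot.recBotCoe with
  | bot =>
    rw [WithBot.bot_add, le_bot_iff] at h
    induction x using WithBot.recBotCoe with
    | bot => exact le_refl _
    | coe x' =>
      exfalso
      have : ((x' : ℕ∞) : WithBot ℕ∞) + ((n : ℕ) : WithBot ℕ∞) = ((x' + n : ℕ∞) : WithBot ℕ∞) := by
        push_cast; rfl
      rw [this] at h
      exact WithBot.coe_ne_bot h
  | coe w' =>
    induction x using WithBot.recBotCoe with
    | bot => exact bot_le
    | coe x' =>
      have h1 : ((x' : ℕ∞) : WithBot ℕ∞) + ((n : ℕ) : WithBot ℕ∞) = ((x' + n : ℕ∞) : WithBot ℕ∞) := by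
        push_cast; rfl
      have h2 : ((w' : ℕ∞) : WithBot ℕ∞) + ((n : ℕ) : WithBot ℕ∞) = ((w' + n : ℕ∞) : WithBot ℕ∞) := by
        push_cast; rfl
      rw [h1, h2, WithBot.coe_le_coe] at h
      rw [WithBot.coe_le_coe]
      exact (ENat.add_le_add_iff_right (ENat.natCast_ne_top n)).mp h


theorem S14485_main (k : Type u) [Field k] (X S S' : Scheme.{u})
    (q : S ⟶ Spec (CommRingCat.of k)) (f : X ⟶ S) (g : S' ⟶ S)
    [LocallyOfFiniteType q] [LocallyOfFiniteType f] [IsSeparated f] [LocallyOfFiniteType g]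
    (d : ℕ) (hd : ∀ s : S, topologicalKrullDim (g.fiber s) = d)
    (Y Z : Set X) (hYc : IsClosed Y) (hZc : IsClosed Z) :
    (topologicalKrullDim {p : ↥(pullback f f) | pullback.fst f f p ∈ Y ∧ pullback.snd f f p ∈ Z ∧ p ∉ Set.range (pullback.diagonal f)} + topologicalKrullDim S ≤ topologicalKrullDim Y + topologicalKrullDim Z) ↔
      (topologicalKrullDim {p : ↥(pullback (pullback.snd f g) (pullback.snd f g)) | pullback.fst (pullback.snd f g) (pullback.snd f g) p ∈ ((pullback.fst f g) ⁻¹' Y) ∧ pullback.snd (pullback.snd f g) (pullback.snd f g) p ∈ ((pullback.fst f g) ⁻¹' Z) ∧ p ∉ Set.range (pullback.diagonal (pullback.snd f g))} + topologicalKrullDim S' ≤ topologicalKrullDim ((pullback.fst f g) ⁻¹' Y) + topologicalKrullDim ((pullback.fst f g) ⁻¹' Z)) := by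
  -- fibre dimensions of the base changes
  have hdh : ∀ x : X, topologicalKrullDim ↥((pullback.fst f g).fiber x) = d := by
    intro x
    rw [S9777_main g f (pullback.fst f g) (pullback.snd f g) (IsPullback.of_hasPullback f g).flip x]
    exact hd (f x)
  haveI : LocallyOfFiniteType (piMap f g) :=
    MorphismProperty.of_isPullback (isPullback_piMap f g).flip inferInstance
  have hdπ : ∀ p : ↥(pullback f f), topologicalKrullDim ↥((piMap f g).fiber p) = d := by
    intro p
    rw [S9777_main g (pullback.snd f f ≫ f) (piMap f g)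
      (pullback.snd (pullback.snd f g) (pullback.snd f g) ≫ pullback.snd f g)
      (isPullback_piMap f g).flip p]
    exact hd _
  -- the four dimension formulas
  have dS : topologicalKrullDim ↥S' = topologicalKrullDim ↥S + (d : WithBot ℕ∞) := by
    have h := dim_preimage_eq k q g d hd Set.univ Set.univ isOpen_univ isClosed_univ
    rw [Set.univ_inter, Set.preimage_univ, tdim_univ, tdim_univ] at h
    exact h
  have dY : topologicalKrullDim ↥((pullback.fst f g).base ⁻¹' Y) =
      topologicalKrullDim ↥Y + (d : WithBot ℕ∞) := by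
    have h := dim_preimage_eq k (f ≫ q) (pullback.fst f g) d hdh Set.univ Y isOpen_univ hYc
    rw [Set.univ_inter] at h
    exact h
  have dZ : topologicalKrullDim ↥((pullback.fst f g).base ⁻¹' Z) =
      topologicalKrullDim ↥Z + (d : WithBot ℕ∞) := by
    have h := dim_preimage_eq k (f ≫ q) (pullback.fst f g) d hdh Set.univ Z isOpen_univ hZc
    rw [Set.univ_inter] at h
    exact h
  have hclD : IsClosed (Set.range (pullback.diagonal f)) :=
    (pullback.diagonal f).isClosedEmbedding.isClosed_range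
  have hA : IsClosed ((pullback.fst f f).base ⁻¹' Y ∩ (pullback.snd f f).base ⁻¹' Z) :=
    (hYc.preimage (pullback.fst f f).continuous).inter (hZc.preimage (pullback.snd f f).continuous)
  have dD := dim_preimage_eq k (pullback.fst f f ≫ f ≫ q) (piMap f g) d hdπ
    (Set.range (pullback.diagonal f))ᶜ
    ((pullback.fst f f).base ⁻¹' Y ∩ (pullback.snd f f).base ⁻¹' Z) hclD.isOpen_compl hA
  -- identification of the sets
  have hD : {p : ↥(pullback f f) | pullback.fst f f p ∈ Y ∧ pullback.snd f f p ∈ Z ∧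
      p ∉ Set.range (pullback.diagonal f)} =
      (Set.range (pullback.diagonal f))ᶜ ∩
        ((pullback.fst f f).base ⁻¹' Y ∩ (pullback.snd f f).base ⁻¹' Z) := by
    ext p
    simp only [Set.mem_ofPred_eq, Set.mem_inter_iff, Set.mem_preimage, Set.mem_compl_iff]
    tauto
  have hfst : ∀ p' : ↥(pullback (pullback.snd f g) (pullback.snd f g)),
      pullback.fst f g (pullback.fst (pullback.snd f g) (pullback.snd f g) p') =
        pullback.fst f f (piMap f g p') := by
    intro p'
    rw [← Scheme.Hom.comp_apply, ← Scheme.Hom.comp_apply, piMap_fst]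
  have hsnd : ∀ p' : ↥(pullback (pullback.snd f g) (pullback.snd f g)),
      pullback.fst f g (pullback.snd (pullback.snd f g) (pullback.snd f g) p') =
        pullback.snd f f (piMap f g p') := by
    intro p'
    rw [← Scheme.Hom.comp_apply, ← Scheme.Hom.comp_apply, piMap_snd]
  have hdiag : ∀ p' : ↥(pullback (pullback.snd f g) (pullback.snd f g)),
      p' ∈ Set.range (pullback.diagonal (pullback.snd f g)) ↔
        piMap f g p' ∈ Set.range (pullback.diagonal f) := by
    intro p'
    constructor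
    · rintro ⟨x', rfl⟩
      refine ⟨pullback.fst f g x', ?_⟩
      rw [← Scheme.Hom.comp_apply, ← Scheme.Hom.comp_apply, diagonal_piMap]
    · rintro ⟨x, hx⟩
      obtain ⟨x', hx'1, -⟩ := exists_point_of_isPullback (isPullback_diagonal_piMap f g).flip.flip
        p' x hx.symm
      exact ⟨x', hx'1⟩
  have hD' : {p : ↥(pullback (pullback.snd f g) (pullback.snd f g)) |
      pullback.fst (pullback.snd f g) (pullback.snd f g) p ∈ ((pullback.fst f g) ⁻¹' Y) ∧
      pullback.snd (pullback.snd f g) (pullback.snd f g) p ∈ ((pullback.fst f g) ⁻¹' Z) ∧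
      p ∉ Set.range (pullback.diagonal (pullback.snd f g))} =
      (piMap f g).base ⁻¹' ((Set.range (pullback.diagonal f))ᶜ ∩
        ((pullback.fst f f).base ⁻¹' Y ∩ (pullback.snd f f).base ⁻¹' Z)) := by
    ext p'
    simp only [Set.mem_ofPred_eq, Set.mem_inter_iff, Set.mem_preimage, Set.mem_compl_iff]
    rw [hdiag p']
    have e1 : (pullback.fst f g) (pullback.fst (pullback.snd f g) (pullback.snd f g) p') ∈ Y ↔
        (pullback.fst f f) (piMap f g p') ∈ Y := by rw [hfst]
    have e2 : (pullback.fst f g) (pullback.snd (pullback.snd f g) (pullback.snd f g) p') ∈ Z ↔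
        (pullback.snd f f) (piMap f g p') ∈ Z := by rw [hsnd]
    tauto
  rw [hD, hD']
  change _ ↔ (_ + _ ≤ topologicalKrullDim ↥((pullback.fst f g).base ⁻¹' Y) +
    topologicalKrullDim ↥((pullback.fst f g).base ⁻¹' Z))
  rw [dD, dS, dY, dZ]
  have e1 : ∀ a b : WithBot ℕ∞, a + (d : WithBot ℕ∞) + (b + (d : WithBot ℕ∞)) =
      a + b + ((d + d : ℕ) : WithBot ℕ∞) := by
    intro a b
    push_cast
    abel
  rw [e1, e1, wb_add_le_add_iff]

end Groth.Agent.Lib.Helper4.WellInt2
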