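import Mathlib

/-!
# Smooth over a field implies normal (stalks integrally closed) (helper4)
-/

set_option backward.isDefEq.respectTransparency.types false
set_option synthInstance.maxHeartbeats 400000
set_option autoImplicit false
set_option linter.unusedSectionVars false
set_option linter.style.haveILetI false
set_option linter.unusedSimpArgs false
universe u v w
open TensorProduct

namespace Groth.Agent.Lib.Helper4.SmoothNormal1

theorem algebraMap_injective_of_flat (P S : Type*) [CommRing P] [IsDomain P] [CommRing S] [Nontrivial S]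
    [Algebra P S] [Module.Flat P S] : Function.Injective (algebraMap P S) := by
  have : Module.IsTorsionFree P S := inferInstance
  exact FaithfulSMul.algebraMap_injective P S

/-- elements of `S ⊗[P] K` integral over `S` come from `S`, when `P` is integrally closed in `K`
and base change along `P → S` commutes with integral closure. -/
theorem mem_range_of_isIntegral {P S K : Type*} [CommRing P] [CommRing S] [Algebra P S]
    [CommRing K] [Algebra P K]
    (hbij : Function.Surjective (TensorProduct.toIntegralClosure P S K))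
    (hP : integralClosure P K = ⊥) (x : S ⊗[P] K) (hx : IsIntegral S x) :
    ∃ s : S, algebraMap S (S ⊗[P] K) s = x := by
  obtain ⟨z, hz⟩ := hbij ⟨x, hx⟩
  have hz' : ((TensorProduct.toIntegralClosure P S K) z : S ⊗[P] K) = x := by rw [hz]
  clear hz
  induction z using TensorProduct.induction_on generalizing x with
  | zero => exact ⟨0, by rw [← hz']; simp⟩
  | tmul s y =>
    obtain ⟨y, hy⟩ := y
    have hy' : y ∈ (⊥ : Subalgebra P K) := hP ▸ hy
    obtain ⟨p, rfl⟩ := Algebra.mem_bot.mp hy'
    refine ⟨p • s, ?_⟩
    rw [← hz']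
    simp only [TensorProduct.toIntegralClosure, Algebra.TensorProduct.algebraMap_apply, Algebra.smul_def]
    simp
    rw [← Algebra.smul_def, TensorProduct.smul_tmul, Algebra.smul_def, mul_one]
  | add a b ha hb =>
    obtain ⟨sa, hsa⟩ := ha _ ((TensorProduct.toIntegralClosure P S K) a).2 rfl
    obtain ⟨sb, hsb⟩ := hb _ ((TensorProduct.toIntegralClosure P S K) b).2 rfl
    exact ⟨sa + sb, by rw [map_add, hsa, hsb, ← hz', map_add]; rfl⟩


theorem isIntegrallyClosed_of_isStandardEtale (P S : Type u) [CommRing P] [IsDomain P]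
    [IsIntegrallyClosed P]
    [CommRing S] [IsDomain S] [Algebra P S] [Algebra.Etale P S] : IsIntegrallyClosed S := by
  have hflat : Module.Flat P S := inferInstance
  have hinj := algebraMap_injective_of_flat P S
  have hloc : IsLocalization (Algebra.algebraMapSubmonoid S (nonZeroDivisors P))
      (S ⊗[P] FractionRing P) := inferInstance
  have hM : Algebra.algebraMapSubmonoid S (nonZeroDivisors P) ≤ nonZeroDivisors S := by
    rintro _ ⟨p, hp, rfl⟩
    exact mem_nonZeroDivisors_of_ne_zero
      ((map_ne_zero_iff _ hinj).mpr (nonZeroDivisors.ne_zero hp))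
  have hdom : IsDomain (S ⊗[P] FractionRing P) :=
    IsLocalization.isDomain_of_le_nonZeroDivisors _ hM
  have hfield : IsField (S ⊗[P] FractionRing P) := by
    have h1 : Algebra.FormallyUnramified (FractionRing P) (FractionRing P ⊗[P] S) := inferInstance
    have h2 : Module.Finite (FractionRing P) (FractionRing P ⊗[P] S) :=
      Algebra.FormallyUnramified.finite_of_free (FractionRing P) _
    have e : (FractionRing P ⊗[P] S) ≃+* (S ⊗[P] FractionRing P) :=
      (Algebra.TensorProduct.comm P (FractionRing P) S).toRingEquiv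
    have h3 : IsDomain (FractionRing P ⊗[P] S) := e.toMulEquiv.isDomain _
    have h4 : IsField (FractionRing P ⊗[P] S) :=
      isField_of_isIntegral_of_isField' (R := FractionRing P) (Field.toIsField _)
    exact e.symm.toMulEquiv.isField h4
  have hfr : IsFractionRing S (S ⊗[P] FractionRing P) := by
    refine IsLocalization.of_le (Algebra.algebraMapSubmonoid S (nonZeroDivisors P)) _ hM ?_
    intro r hr
    have hinjL : Function.Injective (algebraMap S (S ⊗[P] FractionRing P)) :=
      IsLocalization.injective _ hM
    have : algebraMap S (S ⊗[P] FractionRing P) r ≠ 0 :=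
      (map_ne_zero_iff _ hinjL).mpr (nonZeroDivisors.ne_zero hr)
    exact isUnit_iff_exists_inv.mpr (hfield.mul_inv_cancel this)
  rw [isIntegrallyClosed_iff (S ⊗[P] FractionRing P)]
  intro x hx
  exact mem_range_of_isIntegral
    (TensorProduct.toIntegralClosure_bijective_of_smooth).2
    (IsIntegrallyClosed.integralClosure_eq_bot (R := P) (K := FractionRing P)) x hx


theorem isIntegrallyClosed_atPrime_of_smooth (k A : Type u) [Field k] [CommRing A] [IsDomain A]
    [Algebra k A] [Algebra.Smooth k A] (p : Ideal A) [p.IsPrime] (Ap : Type u) [CommRing Ap]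
    [Algebra A Ap] [IsLocalization.AtPrime Ap p] : IsIntegrallyClosed Ap := by
  have hsm : Algebra.IsSmoothAt k p := by
    have : Algebra.FormallySmooth k A := inferInstance
    have : Algebra.FormallySmooth A (Localization.AtPrime p) :=
      Algebra.FormallySmooth.of_isLocalization p.primeCompl
    exact Algebra.FormallySmooth.comp k A (Localization.AtPrime p)
  have hfp : Algebra.FinitePresentation k A := inferInstance
  obtain ⟨f, hfp, n, alg, htower, hse⟩ :=
    Algebra.IsSmoothAt.exists_isStandardEtale_mvPolynomial (R := k) (p := p)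
  have hf0 : f ≠ 0 := fun h => hfp (h ▸ p.zero_mem)
  have hle : Submonoid.powers f ≤ nonZeroDivisors A :=
    powers_le_nonZeroDivisors_of_noZeroDivisors hf0
  haveI : IsDomain (Localization.Away f) := IsLocalization.isDomain_of_le_nonZeroDivisors _ hle
  haveI : IsIntegrallyClosed (MvPolynomial (Fin n) k) := inferInstance
  haveI : IsIntegrallyClosed (Localization.Away f) :=
    isIntegrallyClosed_of_isStandardEtale (MvPolynomial (Fin n) k) (Localization.Away f)
  -- `Ap` is a localization of `A_f`
  have hunit : IsUnit (algebraMap A Ap f) :=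
    IsLocalization.map_units Ap (⟨f, hfp⟩ : p.primeCompl)
  letI algAp : Algebra (Localization.Away f) Ap := (IsLocalization.Away.lift f hunit).toAlgebra
  haveI : IsScalarTower A (Localization.Away f) Ap :=
    IsScalarTower.of_algebraMap_eq' (IsLocalization.Away.lift_comp f hunit).symm
  have hMN : Submonoid.powers f ≤ p.primeCompl := by
    rintro _ ⟨m, rfl⟩
    exact fun h => hfp (‹p.IsPrime›.mem_of_pow_mem m h)
  haveI := IsLocalization.isLocalization_of_submonoid_le (Localization.Away f) Ap
    (Submonoid.powers f) p.primeCompl hMN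
  refine isIntegrallyClosed_of_isLocalization Ap (p.primeCompl.map (algebraMap A (Localization.Away f))) ?_
  rintro _ ⟨a, ha, rfl⟩
  have ha0 : a ≠ 0 := fun h => ha (h ▸ p.zero_mem)
  exact mem_nonZeroDivisors_of_ne_zero
    ((map_ne_zero_iff _ (IsLocalization.injective _ hle)).mpr ha0)


open CategoryTheory AlgebraicGeometry TopologicalSpace in
theorem isIntegrallyClosed_stalk_of_smooth (k : Type u) [Field k] {X : Scheme.{u}} [IsIntegral X]
    (q : X ⟶ Spec (CommRingCat.of k)) [Smooth q] (x : X) :
    IsIntegrallyClosed (X.presheaf.stalk x) := by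
  obtain ⟨U, hU, hxU, -⟩ := Opens.isBasis_iff_nbhd.mp X.isBasis_affineOpens
    (show x ∈ (⊤ : X.Opens) from trivial)
  have hle : U ≤ q ⁻¹ᵁ (⊤ : (Spec (CommRingCat.of k)).Opens) := fun _ _ => trivial
  have hsm : (q.appLE ⊤ U hle).hom.Smooth :=
    HasRingHomProperty.appLE @Smooth q inferInstance ⟨⊤, isAffineOpen_top _⟩ ⟨U, hU⟩ hle
  have hbij : Function.Bijective (Scheme.ΓSpecIso (CommRingCat.of k)).inv.hom :=
    (ConcreteCategory.isIso_iff_bijective _).mp inferInstance
  obtain ⟨φ, hφdef⟩ : ∃ φ : k →+* Γ(X, U),
      φ = (q.appLE ⊤ U hle).hom.comp (Scheme.ΓSpecIso (CommRingCat.of k)).inv.hom := ⟨_, rfl⟩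
  have hφ : φ.Smooth := by
    rw [hφdef]
    exact (RingHom.Smooth.of_bijective hbij).comp hsm
  letI := φ.toAlgebra
  haveI : Algebra.Smooth k Γ(X, U) := hφ
  haveI : Nonempty U := ⟨⟨x, hxU⟩⟩
  haveI : IsDomain Γ(X, U) := inferInstance
  letI := X.presheaf.algebra_section_stalk (U := U) ⟨x, hxU⟩
  haveI := hU.isLocalization_stalk ⟨x, hxU⟩
  exact isIntegrallyClosed_atPrime_of_smooth k Γ(X, U) (hU.primeIdealOf ⟨x, hxU⟩).asIdeal
    (X.presheaf.stalk x)

end Groth.Agent.Lib.Helper4.SmoothNormal1
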