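import Mathlib
import Groth.Prelude.Def_Cyc
import Groth.Agent.Lib.Helper4.JacDim1
import Groth.Prelude.Def_EGA43
import Groth.Agent.Lib.Helper4.FibreStalkDim1
import Groth.Agent.Lib.Helper4.DimFT1
import Groth.Agent.Lib.Helper4.DimFT2
import Groth.Agent.Lib.Helper4.Chev8
import Groth.Agent.Lib.Helper4.FibDim7
import Groth.Agent.Lib.Helper4.EffCartierDim1
import Groth.Agent.Lib.Helper4.JacDim4
import Groth.Agent.Lib.Helper4.Chev9
import Groth.Agent.Lib.Helper4.Chev10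
import Groth.Agent.Lib.Helper4.Chev11
import Groth.Agent.Lib.Helper4.Equi1
import Groth.Agent.Lib.Helper4.Equi2
import Groth.Agent.Lib.Helper4.Equi3
import Groth.Agent.Lib.Helper4.Equi4
import Groth.Agent.Lib.Helper4.Equi5
import Groth.Agent.Lib.Helper4.Equi6
import Groth.Agent.Lib.Helper4.Equi7
import Groth.Agent.Lib.Helper4.Aff1
import Groth.Agent.Lib.Helper4.Aff2
import Groth.Agent.Lib.Helper4.Equi10
import Groth.Agent.Lib.Helper4.Val1
import Groth.Agent.Lib.Helper4.BaseChg1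
import Groth.Agent.Lib.Helper4.UnivOpen1
import Groth.Agent.Lib.Helper4.FibClosure1
import Groth.Agent.Lib.Helper4.OpenNoeth1
import Groth.Agent.Lib.Helper4.SecComp1
import Groth.Agent.Lib.Helper4.SecComp2
import Groth.Agent.Lib.Helper4.UnivOpen2
import Groth.Agent.Lib.Helper4.UnivOpenAt
import Groth.Agent.Lib.Helper4.RegularLocalCopy
import Groth.Agent.Lib.Helper4.ZMTNormalPt1
import Groth.Agent.Lib.Helper4.LocFinComp1
import Groth.Agent.Lib.Helper4.SecComp3
import Groth.Agent.Lib.Helper4.PropDim1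
import Groth.Prelude.Def_FDesc
import Groth.Prelude.Def_MoreMor
import Groth.Agent.Lib.Helper4.ChevCrit1
import Groth.Agent.Lib.Helper4.ChevCrit2
import Groth.Agent.Lib.Helper4.ChevCrit3
import Groth.Agent.Lib.Helper4.IrrCompDomain1
import Groth.Agent.Lib.Helper4.ChevCrit4
import Groth.Agent.Lib.Helper4.ChevCrit5
import Groth.Agent.Lib.Helper4.ChevCrit6
import Groth.Agent.Lib.Helper4.ChevCrit7
import Groth.Agent.Lib.Helper4.DedekindOpen1
import Groth.Agent.Lib.Helper4.UnivOpenT1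
import Groth.Agent.Lib.Helper4.DvrFlat1
import Groth.Agent.Lib.Helper4.SatChain1
import Groth.Agent.Lib.Helper4.FlatDimK1
import Groth.Agent.Lib.Helper4.BaseChgMax1
import Groth.Agent.Lib.Helper4.ProdDim1
import Groth.Agent.Lib.Helper4.FibDimBC1
import Groth.Agent.Lib.Helper4.FibMap1
import Groth.Agent.Lib.Helper4.GenFib1
import Groth.Agent.Lib.Helper4.EquiBC1
import Groth.Agent.Lib.Helper4.GenEqui1
import Groth.Agent.Lib.Helper4.LocNoethFib1
import Groth.Agent.Lib.Helper4.FibDimBC2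
import Groth.Agent.Lib.Helper4.FibDimComp1
import Groth.Agent.Lib.Helper4.HypDim1
import Groth.Agent.Lib.Helper4.FFlatDelta1
import Groth.Agent.Lib.Helper4.FTDim1
import Groth.Agent.Lib.Helper4.IrrFib1
import Groth.Agent.Lib.Helper4.FTDim2
import Groth.Agent.Lib.Helper4.ProperImgDim1
import Groth.Agent.Lib.Helper4.RangeDim1
import Groth.Agent.Lib.Helper4.WellInt1
import Groth.Agent.Lib.Helper4.WellInt2
import Groth.Agent.Lib.Helper4.FibStrat1
import Groth.Agent.Lib.Helper4.SmoothNormal1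
import Groth.Agent.Lib.Helper4.GenSmooth1
import Groth.Agent.Lib.Helper4.StalkEtale1
import Groth.Agent.Lib.Helper4.ZMTBirational

/-!
# Semi-proper intersection via fibre-dimension strata (S14482) (helper4)
-/

set_option backward.isDefEq.respectTransparency.types false
set_option synthInstance.maxHeartbeats 400000
set_option autoImplicit false
set_option linter.unusedSectionVars false
set_option linter.style.haveILetI false
set_option linter.unusedSimpArgs false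
universe u v w
open CategoryTheory CategoryTheory.Limits AlgebraicGeometry TopologicalSpace IsLocalRing Opposite
open Cardinal AffineSpace MvPolynomial
open Groth.Agent.Lib.Helper4.DimIneq1 Groth.Agent.Lib.Helper4.DimFT2 Groth.Agent.Lib.Helper4.Catenary1
open Groth.Agent.Lib.Helper4.DimEq1 Groth.Agent.Lib.Helper4.DimIneq2 Groth.Agent.Lib.Helper4.DimEq2
open Groth.Agent.Lib.Helper4.DimIneq3 Groth.Agent.Lib.Helper4.DimIneq4
open Groth.Agent.Lib.Helper4.NormFibre2 Groth.Agent.Lib.Helper4.RadBir3 Groth.Agent.Lib.Helper4.DimFT3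
open Groth.Agent.Lib.Helper4.FibDim1 Groth.Agent.Lib.Helper4.FibDim2 Groth.Agent.Lib.Helper4.LocUC1
open Groth.Agent.Lib.Helper4.FibDim3 Groth.Agent.Lib.Helper4.FibDim4 Groth.Agent.Lib.Helper4.FibDim5
open Groth.Agent.Lib.Helper4.FibDim6 Groth.Agent.Lib.Helper4.FibDim7 Groth.Agent.Lib.Helper4.JacDim1
open Groth.Agent.Lib.Helper4.DimFT1
open Groth.Agent.Lib.Helper4.Chev2 Groth.Agent.Lib.Helper4.Chev5 Groth.Agent.Lib.Helper4.Chev6 Groth.Agent.Lib.Helper4.Chev8
open Groth.Agent.Lib.Helper4.JacDim4 Groth.Agent.Lib.Helper4.EffCartierDim1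
open Groth.Agent.Lib.Helper4.Chev9 Groth.Agent.Lib.Helper4.Chev4
open Groth.Agent.Lib.Helper4.Chev10 Groth.Agent.Lib.Helper4.Chev11 Groth.Agent.Lib.Helper4.Chev3 Groth.Agent.Lib.Helper4.Equi1 Groth.Agent.Lib.Helper4.Equi2 Groth.Agent.Lib.Helper4.OpenAt1 Groth.Agent.Lib.Helper4.Equi3 Groth.Agent.Lib.Helper4.Equi4 Groth.Agent.Lib.Helper4.Equi5 Groth.Agent.Lib.Helper4.Equi6 Groth.Agent.Lib.Helper4.Equi7 Groth.Agent.Lib.Helper4.Aff1 Groth.Agent.Lib.Helper4.Aff2 Groth.Agent.Lib.Helper4.Equi10 Groth.Agent.Lib.Helper4.Val1 Groth.Agent.Lib.Helper4.BaseChg1 Groth.Agent.Lib.Helper4.UnivOpen1 Groth.Agent.Lib.Helper4.FibClosure1 Groth.Agent.Lib.Helper4.OpenNoeth1 Groth.Agent.Lib.Helper4.SecComp1 Groth.Agent.Lib.Helper4.SecComp2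
open Groth.Agent.Lib.Helper4.SecComp3 Groth.Agent.Lib.Helper4.PropDim1 Groth.Agent.Lib.Helper4.ZMTNormalPt1 Groth.Agent.Lib.Helper4.UO Groth.Agent.Lib.Helper4.UOp
open Groth.Agent.Lib.Helper4.ChevCrit1 Groth.Agent.Lib.Helper4.ChevCrit2 Groth.Agent.Lib.Helper4.ChevCrit3
open Groth.Agent.Lib.Helper4.IrrCompDomain1 Groth.Agent.Lib.Helper4.RadBir1
open Groth.Agent.Lib.Helper4.ChevCrit4
open Groth.Agent.Lib.Helper4.ChevCrit5
open Groth.Agent.Lib.Helper4.DedekindOpen1 Groth.Agent.Lib.Helper4.UnivOpenT1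
open Groth.Agent.Lib.Helper4.ChevCrit7
open Groth.Agent.Lib.Helper4.DvrFlat1 Groth.Agent.Lib.Helper4.FlatDimK1 Groth.Agent.Lib.Helper4.BaseChgMax1 Groth.Agent.Lib.Helper4.ProdDim1 Groth.Agent.Lib.Helper4.FibDimBC1 Groth.Agent.Lib.Helper4.FibMap1 Groth.Agent.Lib.Helper4.GenFib1 Groth.Agent.Lib.Helper4.EquiBC1 Groth.Agent.Lib.Helper4.GenEqui1 Groth.Agent.Lib.Helper4.LocNoethFib1 Groth.Agent.Lib.Helper4.FibDimBC2 Groth.Agent.Lib.Helper4.FibDimComp1 Groth.Agent.Lib.Helper4.HypDim1 Groth.Agent.Lib.Helper4.FFlatDelta1 Groth.Agent.Lib.Helper4.FTDim1 Groth.Agent.Lib.Helper4.IrrFib1 Groth.Agent.Lib.Helper4.FTDim2 Groth.Agent.Lib.Helper4.ProperImgDim1 Groth.Agent.Lib.Helper4.RangeDim1 Groth.Agent.Lib.Helper4.WellInt1 Groth.Agent.Lib.Helper4.WellInt2 Groth.Agent.Lib.Helper4.FibStrat1 Groth.Agent.Lib.Helper4.SmoothNormal1 Groth.Agent.Lib.Helper4.GenSmooth1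

namespace Groth.Agent.Lib.Helper4.WellInt3

/-- a locally closed subset of a scheme is quasi-sober, and points of it have `tr ≤ dim` -/
theorem quasiSober_of_isLocallyClosed {X : Scheme.{u}} (T : Set X) (hT : IsLocallyClosed T) :
    QuasiSober ↥T := by
  obtain ⟨O, Z, hO, hZ, rfl⟩ := hT
  haveI : QuasiSober ↥O := hO.isOpenEmbedding_subtypeVal.quasiSober
  exact QuasiSober.inter_of_isClosed_of_quasiSober_left O hZ

theorem tr_le_dim_of_isLocallyClosed (k : Type u) [Field k] {X : Scheme.{u}}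
    (p : X ⟶ Spec (CommRingCat.of k)) [LocallyOfFiniteType p] (T : Set X) (hT : IsLocallyClosed T)
    (x : X) (hx : x ∈ T) : ((tr p x : ℕ) : WithBot ℕ∞) ≤ topologicalKrullDim ↥T := by
  obtain ⟨O, Z, hO, hZ, rfl⟩ := hT
  refine tr_le_dim_of_open_inter k p x O hO hx.1 _ ?_
  rintro y ⟨hyO, hy⟩
  exact ⟨hyO, (closure_minimal (Set.singleton_subset_iff.mpr hx.2) hZ) hy⟩

theorem S14482_main (k : Type u) [Field k] (C X W : Scheme.{u})
    (q : X ⟶ Spec (CommRingCat.of k)) (π : C ⟶ X) (ι : W ⟶ X)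
    [LocallyOfFiniteType q] [LocallyOfFiniteType π] [IsImmersion ι]
    (n c : ℕ)
    (hC : ∀ P ∈ irreducibleComponents (C : Type u), topologicalKrullDim P = n)
    (hB : ∀ j : ℕ, IsClosed {x : X | (j : WithBot ℕ∞) ≤ topologicalKrullDim (π.fiber x)}) :
    (∀ j : ℕ, topologicalKrullDim {x : X | (j : WithBot ℕ∞) ≤ topologicalKrullDim (π.fiber x)} + (j : WithBot ℕ∞) ≤ n) ∧
      (topologicalKrullDim (π ⁻¹' Set.range ι : Set C) + (c : WithBot ℕ∞) ≤ n ↔
        ∀ j : ℕ, topologicalKrullDim (ι ⁻¹' {x : X | (j : WithBot ℕ∞) ≤ topologicalKrullDim (π.fiber x)} : Set W) + (c : WithBot ℕ∞) + (j : WithBot ℕ∞) ≤ n) := by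
  have hdimC : topologicalKrullDim C ≤ n := dim_le_of_components C n (fun Z hZ => (hC Z hZ).le)
  have hF1 : ∀ x : C, tr (π ≫ q) x ≤ n := by
    intro x
    have := (tr_le_dim k (π ≫ q) x).trans hdimC
    exact_mod_cast this
  have hTlc : IsLocallyClosed (π ⁻¹' Set.range ι : Set C) :=
    (ι.isLocallyClosed_range).preimage π.continuous
  have hF4 : ∀ w : W, tr (ι ≫ q) w = tr q (ι w) := by
    intro w
    have := Groth.Agent.Lib.Helper4.PropDim1.tr_comp ι q w
    rw [tr_of_surjectiveOnStalks ι, add_zero] at this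
    exact this
  refine ⟨?_, ?_, ?_⟩
  · intro j
    rw [add_le_iff_le_wsub]
    haveI : QuasiSober ↥{x : X | (j : WithBot ℕ∞) ≤ topologicalKrullDim (π.fiber x)} :=
      (hB j).isClosedEmbedding_subtypeVal.quasiSober
    apply dim_le_of_forall_tr_mem k q
    intro y hy
    rw [← add_le_iff_le_wsub]
    obtain ⟨z, hz, hjz⟩ := exists_tr_ge_of_le_dim_fiber π y j hy
    have h1 := Groth.Agent.Lib.Helper4.PropDim1.tr_comp π q z
    rw [hz] at h1
    have h2 := hF1 z
    have h5 : tr q y + j ≤ n := by omega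
    exact_mod_cast h5
  · intro hT j
    rw [add_le_iff_le_wsub, add_le_iff_le_wsub]
    have hcl : IsClosed (ι ⁻¹' {x : X | (j : WithBot ℕ∞) ≤ topologicalKrullDim (π.fiber x)} : Set W) :=
      (hB j).preimage ι.continuous
    haveI : QuasiSober ↥(ι ⁻¹' {x : X | (j : WithBot ℕ∞) ≤ topologicalKrullDim (π.fiber x)} : Set W) :=
      hcl.isClosedEmbedding_subtypeVal.quasiSober
    apply dim_le_of_forall_tr_mem k (ι ≫ q)
    intro w hw
    rw [← add_le_iff_le_wsub, ← add_le_iff_le_wsub]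
    obtain ⟨z, hz, hjz⟩ := exists_tr_ge_of_le_dim_fiber π (ι w) j hw
    have hzT : z ∈ (π ⁻¹' Set.range ι : Set C) := ⟨w, hz.symm⟩
    have h1 := Groth.Agent.Lib.Helper4.PropDim1.tr_comp π q z
    rw [hz] at h1
    have h2 := (tr_le_dim_of_isLocallyClosed k (π ≫ q) _ hTlc z hzT)
    have h3 : ((tr (π ≫ q) z : ℕ) : WithBot ℕ∞) + (c : WithBot ℕ∞) ≤ n :=
      (add_le_add_left h2 _).trans hT
    have h4 : tr (π ≫ q) z + c ≤ n := by exact_mod_cast h3
    have h5 : tr (ι ≫ q) w + c + j ≤ n := by rw [hF4 w]; omega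
    exact_mod_cast h5
  · intro h
    rw [add_le_iff_le_wsub]
    haveI : QuasiSober ↥(π ⁻¹' Set.range ι : Set C) := quasiSober_of_isLocallyClosed _ hTlc
    apply dim_le_of_forall_tr_mem k (π ≫ q)
    intro x hx
    rw [← add_le_iff_le_wsub]
    obtain ⟨w, hw⟩ := hx
    have h1 := Groth.Agent.Lib.Helper4.PropDim1.tr_comp π q x
    have hmem : ι w ∈ {x' : X | ((tr π x : ℕ) : WithBot ℕ∞) ≤ topologicalKrullDim (π.fiber x')} := by
      rw [hw]; exact tr_le_dim_fiber' π x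
    have hcl : IsClosed (ι ⁻¹' {x' : X | ((tr π x : ℕ) : WithBot ℕ∞) ≤ topologicalKrullDim (π.fiber x')} : Set W) :=
      (hB (tr π x)).preimage ι.continuous
    have h2 := tr_le_dim_of_isLocallyClosed k (ι ≫ q) _ hcl.isLocallyClosed w hmem
    have h3 := (add_le_add_left (add_le_add_left h2 (c : WithBot ℕ∞)) ((tr π x : ℕ) : WithBot ℕ∞)).trans (h (tr π x))
    have h4 : tr (ι ≫ q) w + c + tr π x ≤ n := by exact_mod_cast h3
    rw [hF4 w, hw] at h4
    have h5 : tr (π ≫ q) x + c ≤ n := by omega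
    exact_mod_cast h5

end Groth.Agent.Lib.Helper4.WellInt3
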