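import Mathlib
import Groth.Prelude.Def_Cyc
import Groth.Agent.Lib.Helper4.JacDim1
import Groth.Prelude.Def_EGA43
import Groth.Agent.Lib.Helper4.FibreStalkDim1
import Groth.Agent.Lib.Helper4.DimFT1
import Groth.Agent.Lib.Helper4.DimFT2
import Groth.Agent.Lib.Helper4.Chev8
import Groth.Agent.Lib.Helper4.FibDim7
import Groth.Agent.Lib.Helper4.EffCartierDim1
import Groth.Agent.Lib.Helper4.JacDim4
import Groth.Agent.Lib.Helper4.Chev9
import Groth.Agent.Lib.Helper4.Chev10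
import Groth.Agent.Lib.Helper4.Chev11
import Groth.Agent.Lib.Helper4.Equi1
import Groth.Agent.Lib.Helper4.Equi2
import Groth.Agent.Lib.Helper4.Equi3
import Groth.Agent.Lib.Helper4.Equi4
import Groth.Agent.Lib.Helper4.Equi5
import Groth.Agent.Lib.Helper4.Equi6
import Groth.Agent.Lib.Helper4.Equi7
import Groth.Agent.Lib.Helper4.Aff1
import Groth.Agent.Lib.Helper4.Aff2
import Groth.Agent.Lib.Helper4.Equi10
import Groth.Agent.Lib.Helper4.Val1
import Groth.Agent.Lib.Helper4.BaseChg1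
import Groth.Agent.Lib.Helper4.UnivOpen1
import Groth.Agent.Lib.Helper4.FibClosure1
import Groth.Agent.Lib.Helper4.OpenNoeth1
import Groth.Agent.Lib.Helper4.SecComp1
import Groth.Agent.Lib.Helper4.SecComp2
import Groth.Agent.Lib.Helper4.UnivOpen2
import Groth.Agent.Lib.Helper4.UnivOpenAt
import Groth.Agent.Lib.Helper4.RegularLocalCopy
import Groth.Agent.Lib.Helper4.ZMTNormalPt1
import Groth.Agent.Lib.Helper4.LocFinComp1
import Groth.Agent.Lib.Helper4.SecComp3
import Groth.Agent.Lib.Helper4.PropDim1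
import Groth.Prelude.Def_FDesc
import Groth.Prelude.Def_MoreMor
import Groth.Agent.Lib.Helper4.ChevCrit1
import Groth.Agent.Lib.Helper4.ChevCrit2
import Groth.Agent.Lib.Helper4.ChevCrit3
import Groth.Agent.Lib.Helper4.IrrCompDomain1
import Groth.Agent.Lib.Helper4.ChevCrit4
import Groth.Agent.Lib.Helper4.ChevCrit5
import Groth.Agent.Lib.Helper4.ChevCrit6
import Groth.Agent.Lib.Helper4.ChevCrit7
import Groth.Agent.Lib.Helper4.DedekindOpen1
import Groth.Agent.Lib.Helper4.UnivOpenT1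
import Groth.Agent.Lib.Helper4.DvrFlat1
import Groth.Agent.Lib.Helper4.SatChain1
import Groth.Agent.Lib.Helper4.FlatDimK1
import Groth.Agent.Lib.Helper4.BaseChgMax1
import Groth.Agent.Lib.Helper4.ProdDim1
import Groth.Agent.Lib.Helper4.FibDimBC1
import Groth.Agent.Lib.Helper4.FibMap1
import Groth.Agent.Lib.Helper4.GenFib1
import Groth.Agent.Lib.Helper4.EquiBC1
import Groth.Agent.Lib.Helper4.GenEqui1
import Groth.Agent.Lib.Helper4.LocNoethFib1
import Groth.Agent.Lib.Helper4.FibDimBC2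
import Groth.Agent.Lib.Helper4.FibDimComp1
import Groth.Agent.Lib.Helper4.HypDim1
import Groth.Agent.Lib.Helper4.FFlatDelta1
import Groth.Agent.Lib.Helper4.FTDim1
import Groth.Agent.Lib.Helper4.IrrFib1
import Groth.Agent.Lib.Helper4.FTDim2
import Groth.Agent.Lib.Helper4.ProperImgDim1
import Groth.Agent.Lib.Helper4.RangeDim1
import Groth.Agent.Lib.Helper4.WellInt1
import Groth.Agent.Lib.Helper4.WellInt2
import Groth.Agent.Lib.Helper4.FibStrat1
import Groth.Agent.Lib.Helper4.SmoothNormal1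
import Groth.Agent.Lib.Helper4.GenSmooth1
import Groth.Agent.Lib.Helper4.StalkEtale1
import Groth.Agent.Lib.Helper4.ZMTBirational
import Groth.Agent.Lib.Helper4.WellInt3

/-!
# Proper intersection with a regular immersion via Krull height theorem (S14481) (helper4)
-/

set_option backward.isDefEq.respectTransparency.types false
set_option synthInstance.maxHeartbeats 400000
set_option autoImplicit false
set_option linter.unusedSectionVars false
set_option linter.style.haveILetI false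
set_option linter.unusedSimpArgs false
universe u v w
open CategoryTheory CategoryTheory.Limits AlgebraicGeometry TopologicalSpace IsLocalRing Opposite
open Cardinal AffineSpace MvPolynomial
open Groth.Agent.Lib.Helper4.DimIneq1 Groth.Agent.Lib.Helper4.DimFT2 Groth.Agent.Lib.Helper4.Catenary1
open Groth.Agent.Lib.Helper4.DimEq1 Groth.Agent.Lib.Helper4.DimIneq2 Groth.Agent.Lib.Helper4.DimEq2
open Groth.Agent.Lib.Helper4.DimIneq3 Groth.Agent.Lib.Helper4.DimIneq4
open Groth.Agent.Lib.Helper4.NormFibre2 Groth.Agent.Lib.Helper4.RadBir3 Groth.Agent.Lib.Helper4.DimFT3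
open Groth.Agent.Lib.Helper4.FibDim1 Groth.Agent.Lib.Helper4.FibDim2 Groth.Agent.Lib.Helper4.LocUC1
open Groth.Agent.Lib.Helper4.FibDim3 Groth.Agent.Lib.Helper4.FibDim4 Groth.Agent.Lib.Helper4.FibDim5
open Groth.Agent.Lib.Helper4.FibDim6 Groth.Agent.Lib.Helper4.FibDim7 Groth.Agent.Lib.Helper4.JacDim1
open Groth.Agent.Lib.Helper4.DimFT1
open Groth.Agent.Lib.Helper4.Chev2 Groth.Agent.Lib.Helper4.Chev5 Groth.Agent.Lib.Helper4.Chev6 Groth.Agent.Lib.Helper4.Chev8
open Groth.Agent.Lib.Helper4.JacDim4 Groth.Agent.Lib.Helper4.EffCartierDim1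
open Groth.Agent.Lib.Helper4.Chev9 Groth.Agent.Lib.Helper4.Chev4
open Groth.Agent.Lib.Helper4.Chev10 Groth.Agent.Lib.Helper4.Chev11 Groth.Agent.Lib.Helper4.Chev3 Groth.Agent.Lib.Helper4.Equi1 Groth.Agent.Lib.Helper4.Equi2 Groth.Agent.Lib.Helper4.OpenAt1 Groth.Agent.Lib.Helper4.Equi3 Groth.Agent.Lib.Helper4.Equi4 Groth.Agent.Lib.Helper4.Equi5 Groth.Agent.Lib.Helper4.Equi6 Groth.Agent.Lib.Helper4.Equi7 Groth.Agent.Lib.Helper4.Aff1 Groth.Agent.Lib.Helper4.Aff2 Groth.Agent.Lib.Helper4.Equi10 Groth.Agent.Lib.Helper4.Val1 Groth.Agent.Lib.Helper4.BaseChg1 Groth.Agent.Lib.Helper4.UnivOpen1 Groth.Agent.Lib.Helper4.FibClosure1 Groth.Agent.Lib.Helper4.OpenNoeth1 Groth.Agent.Lib.Helper4.SecComp1 Groth.Agent.Lib.Helper4.SecComp2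
open Groth.Agent.Lib.Helper4.SecComp3 Groth.Agent.Lib.Helper4.PropDim1 Groth.Agent.Lib.Helper4.ZMTNormalPt1 Groth.Agent.Lib.Helper4.UO Groth.Agent.Lib.Helper4.UOp
open Groth.Agent.Lib.Helper4.ChevCrit1 Groth.Agent.Lib.Helper4.ChevCrit2 Groth.Agent.Lib.Helper4.ChevCrit3
open Groth.Agent.Lib.Helper4.IrrCompDomain1 Groth.Agent.Lib.Helper4.RadBir1
open Groth.Agent.Lib.Helper4.ChevCrit4
open Groth.Agent.Lib.Helper4.ChevCrit5
open Groth.Agent.Lib.Helper4.DedekindOpen1 Groth.Agent.Lib.Helper4.UnivOpenT1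
open Groth.Agent.Lib.Helper4.ChevCrit7
open Groth.Agent.Lib.Helper4.DvrFlat1 Groth.Agent.Lib.Helper4.FlatDimK1 Groth.Agent.Lib.Helper4.BaseChgMax1 Groth.Agent.Lib.Helper4.ProdDim1 Groth.Agent.Lib.Helper4.FibDimBC1 Groth.Agent.Lib.Helper4.FibMap1 Groth.Agent.Lib.Helper4.GenFib1 Groth.Agent.Lib.Helper4.EquiBC1 Groth.Agent.Lib.Helper4.GenEqui1 Groth.Agent.Lib.Helper4.LocNoethFib1 Groth.Agent.Lib.Helper4.FibDimBC2 Groth.Agent.Lib.Helper4.FibDimComp1 Groth.Agent.Lib.Helper4.HypDim1 Groth.Agent.Lib.Helper4.FFlatDelta1 Groth.Agent.Lib.Helper4.FTDim1 Groth.Agent.Lib.Helper4.IrrFib1 Groth.Agent.Lib.Helper4.FTDim2 Groth.Agent.Lib.Helper4.ProperImgDim1 Groth.Agent.Lib.Helper4.RangeDim1 Groth.Agent.Lib.Helper4.WellInt1 Groth.Agent.Lib.Helper4.WellInt2 Groth.Agent.Lib.Helper4.FibStrat1 Groth.Agent.Lib.Helper4.SmoothNormal1 Groth.Agent.Lib.Helper4.GenSmooth1 Groth.Agent.Lib.Helper4.WellInt3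

namespace Groth.Agent.Lib.Helper4.WellInt4

section HS'

theorem mem_zeroLocus_iff_of_le {X : Scheme.{u}} {U₀ : X.Opens} (f : Γ(X, U₀)) {U : X.Opens}
    (hU : IsAffineOpen U) (hUU : U ≤ U₀) (t : X) (ht : t ∈ U) :
    t ∈ X.zeroLocus (U := U₀) {f} ↔
      (X.presheaf.map (homOfLE hUU).op).hom f ∈ (hU.primeIdealOf ⟨t, ht⟩).asIdeal := by
  rw [mem_primeIdealOf_iff hU t ht, Scheme.basicOpen_res, Scheme.mem_zeroLocus_iff]
  constructor
  · intro h hmem
    exact h f rfl hmem.2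
  · intro h g hg hmem
    rw [Set.mem_singleton_iff] at hg
    subst hg
    exact h ⟨ht, hmem⟩

/-- Krull's Hauptidealsatz (local sections version). -/
theorem exists_hypersurface_point' (k : Type u) [Field k] {X : Scheme.{u}}
    (q : X ⟶ Spec (CommRingCat.of k)) [LocallyOfFiniteType q] (U₀ : X.Opens) (f : Γ(X, U₀)) (ξ x : X)
    (hxU₀ : x ∈ U₀)
    (hsp : ξ ⤳ x) (hξ : ξ ∉ X.zeroLocus (U := U₀) {f}) (hx : x ∈ X.zeroLocus (U := U₀) {f}) :
    ∃ y : X, ξ ⤳ y ∧ y ⤳ x ∧ y ∈ X.zeroLocus (U := U₀) {f} ∧ tr q y + 1 = tr q ξ := by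
  obtain ⟨V, hVdef⟩ : ∃ V : (Spec (CommRingCat.of k)).Opens, V = ⊤ := ⟨_, rfl⟩
  have hV : IsAffineOpen V := by rw [hVdef]; exact isAffineOpen_top _
  have hsV : x ∈ (q ⁻¹ᵁ V) ⊓ U₀ := ⟨by rw [hVdef]; trivial, hxU₀⟩
  obtain ⟨U, hU, hxU, hUVU⟩ := exists_isAffineOpen_mem_and_subset (U := (q ⁻¹ᵁ V) ⊓ U₀) (x := x) hsV
  have hUV : U ≤ q ⁻¹ᵁ V := hUVU.trans inf_le_left
  have hUU : U ≤ U₀ := hUVU.trans inf_le_right
  have hξU : ξ ∈ U := hsp.mem_open U.2 hxU
  letI alg : Algebra Γ(Spec (CommRingCat.of k), V) Γ(X, U) := (q.appLE V U hUV).hom.toAlgebra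
  haveI : IsLocallyNoetherian (Spec (CommRingCat.of k)) := inferInstance
  haveI : IsNoetherianRing Γ(Spec (CommRingCat.of k), V) :=
    IsLocallyNoetherian.component_noetherian ⟨V, hV⟩
  haveI : Algebra.FiniteType Γ(Spec (CommRingCat.of k), V) Γ(X, U) :=
    LocallyOfFiniteType.finiteType_appLE q hV hU hUV
  haveI : IsNoetherianRing Γ(X, U) :=
    Algebra.FiniteType.isNoetherianRing Γ(Spec (CommRingCat.of k), V) Γ(X, U)
  have e : Γ(Spec (CommRingCat.of k), V) ≃+* k := by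
    rw [hVdef]
    exact (Scheme.ΓSpecIso (CommRingCat.of k)).commRingCatIsoToRingEquiv
  have hUCA : UC Γ(Spec (CommRingCat.of k), V) := by
    letI algk : Algebra k Γ(Spec (CommRingCat.of k), V) := e.symm.toRingHom.toAlgebra
    haveI : Algebra.FiniteType k Γ(Spec (CommRingCat.of k), V) := by
      apply Algebra.FiniteType.of_surjective (Algebra.ofId k Γ(Spec (CommRingCat.of k), V))
      intro a
      exact ⟨e a, e.symm_apply_apply a⟩
    exact uc_of_finiteType k Γ(Spec (CommRingCat.of k), V)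
      (uc_of_isUniversallyCatenary k (isUniversallyCatenary_field k))
  -- the function in the chart
  obtain ⟨a, hadef⟩ : ∃ a : Γ(X, U), a = (X.presheaf.map (homOfLE hUU).op).hom f :=
    ⟨_, rfl⟩
  have haξ : a ∉ (hU.primeIdealOf ⟨ξ, hξU⟩).asIdeal := by
    rw [hadef, ← mem_zeroLocus_iff_of_le f hU hUU ξ hξU]
    exact hξ
  have hax : a ∈ (hU.primeIdealOf ⟨x, hxU⟩).asIdeal := by
    rw [hadef, ← mem_zeroLocus_iff_of_le f hU hUU x hxU]
    exact hx
  have hPM := (specializes_iff_primeIdealOf_le hU ⟨ξ, hξU⟩ ⟨x, hxU⟩).mp hsp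
  have hIM : (hU.primeIdealOf ⟨ξ, hξU⟩).asIdeal ⊔ Ideal.span {a} ≤
      (hU.primeIdealOf ⟨x, hxU⟩).asIdeal :=
    sup_le hPM ((Ideal.span_singleton_le_iff_mem _).mpr hax)
  obtain ⟨Q, hQmin, hQM⟩ := Ideal.exists_minimalPrimes_le hIM
  haveI hQp : Q.IsPrime := hQmin.1.1
  have hPQ : (hU.primeIdealOf ⟨ξ, hξU⟩).asIdeal ≤ Q := le_sup_left.trans hQmin.1.2
  have haQ : a ∈ Q := hQmin.1.2 (Ideal.mem_sup_right (Ideal.mem_span_singleton_self a))
  have hht := height_map_mk_eq_one (hU.primeIdealOf ⟨ξ, hξU⟩).asIdeal a haξ Q hQmin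
  -- the point
  obtain ⟨y, hydef⟩ : ∃ y : X, y = hU.fromSpec ⟨Q, hQp⟩ := ⟨_, rfl⟩
  have hyU : y ∈ U := by rw [hydef]; exact fromSpec_mem hU _
  have hyQ : (hU.primeIdealOf ⟨y, hyU⟩).asIdeal = Q := by
    have := primeIdealOf_fromSpec hU ⟨Q, hQp⟩
    have h2 : hU.primeIdealOf ⟨y, hyU⟩ =
        hU.primeIdealOf ⟨hU.fromSpec ⟨Q, hQp⟩, fromSpec_mem hU _⟩ := by
      congr 1
      exact Subtype.ext hydef
    rw [h2, this]
  refine ⟨y, ?_, ?_, ?_, ?_⟩
  · rw [specializes_iff_primeIdealOf_le hU ⟨ξ, hξU⟩ ⟨y, hyU⟩, hyQ]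
    exact hPQ
  · rw [specializes_iff_primeIdealOf_le hU ⟨y, hyU⟩ ⟨x, hxU⟩, hyQ]
    exact hQM
  · rw [mem_zeroLocus_iff_of_le f hU hUU y hyU, hyQ, ← hadef]
    exact haQ
  · haveI hlo := liesOver_chart q hV hU hUV y hyU rfl
    haveI hloξ := liesOver_chart q hV hU hUV ξ hξU rfl
    have hPy : (hU.primeIdealOf ⟨ξ, hξU⟩).asIdeal ≤ (hU.primeIdealOf ⟨y, hyU⟩).asIdeal := by
      rw [hyQ]; exact hPQ
    have key := dim_eq_rel Γ(Spec (CommRingCat.of k), V) Γ(X, U) hUCA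
      (hV.primeIdealOf ⟨q y, hUV hyU⟩).asIdeal
      (hU.primeIdealOf ⟨y, hyU⟩).asIdeal (hU.primeIdealOf ⟨ξ, hξU⟩).asIdeal hPy
    rw [tr_chart q hV hU hUV y hyU rfl] at key
    have h1 : Algebra.trdeg
        (Γ(Spec (CommRingCat.of k), V) ⧸
          (hU.primeIdealOf ⟨ξ, hξU⟩).asIdeal.under Γ(Spec (CommRingCat.of k), V))
        (Γ(X, U) ⧸ (hU.primeIdealOf ⟨ξ, hξU⟩).asIdeal) = (tr q ξ : Cardinal.{u}) := by
      rw [← tr_chart q hV hU hUV ξ hξU rfl]
      haveI : (hU.primeIdealOf ⟨ξ, hξU⟩).asIdeal.LiesOver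
        ((hU.primeIdealOf ⟨ξ, hξU⟩).asIdeal.under Γ(Spec (CommRingCat.of k), V)) := ⟨rfl⟩
      exact trdeg_quot_congr _ _ _ _ (by rw [hloξ.over]) rfl
    rw [h1] at key
    haveI : ((hU.primeIdealOf ⟨ξ, hξU⟩).asIdeal.under Γ(Spec (CommRingCat.of k), V)).IsPrime :=
      Ideal.comap_isPrime _ _
    have hbot : ∀ P : PrimeSpectrum Γ(Spec (CommRingCat.of k), V),
        (hU.primeIdealOf ⟨ξ, hξU⟩).asIdeal.under Γ(Spec (CommRingCat.of k), V) ≤ P.asIdeal := by
      intro P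
      rw [ideal_eq_bot_of_ringEquiv_field e
        ((hU.primeIdealOf ⟨ξ, hξU⟩).asIdeal.under Γ(Spec (CommRingCat.of k), V))
        (Ideal.IsPrime.ne_top inferInstance)]
      exact bot_le
    rw [height_map_mk_of_forall_le _ _ hbot] at key
    haveI : Nontrivial Γ(Spec (CommRingCat.of k), V) := e.nontrivial
    have h0 : (hV.primeIdealOf ⟨q y, hUV hyU⟩).asIdeal.height = 0 := by
      rw [ideal_eq_bot_of_ringEquiv_field e (hV.primeIdealOf ⟨q y, hUV hyU⟩).asIdeal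
        (Ideal.IsPrime.ne_top inferInstance)]
      exact Ideal.height_bot
    have hht' : ((hU.primeIdealOf ⟨y, hyU⟩).asIdeal.map
        (Ideal.Quotient.mk (hU.primeIdealOf ⟨ξ, hξU⟩).asIdeal)).height = 1 := by
      rw [hyQ]; exact hht
    rw [h0, hht'] at key
    have : ((1 + tr q y : ℕ) : Cardinal.{u}) = ((tr q ξ : ℕ) : Cardinal.{u}) := by
      push_cast
      simpa using key
    have := Nat.cast_injective this
    omega

end HS'


/-- Krull's height theorem in transcendence-degree form: cutting by `c` local equations drops the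
residual transcendence degree by at most `c`. -/
theorem exists_point_of_list (k : Type u) [Field k] {X : Scheme.{u}}
    (q : X ⟶ Spec (CommRingCat.of k)) [LocallyOfFiniteType q] (U₀ : X.Opens)
    (fs : List Γ(X, U₀)) (ξ x : X) (hxU₀ : x ∈ U₀) (hsp : ξ ⤳ x)
    (hx : ∀ f ∈ fs, x ∈ X.zeroLocus (U := U₀) {f}) :
    ∃ y : X, ξ ⤳ y ∧ y ⤳ x ∧ (∀ f ∈ fs, y ∈ X.zeroLocus (U := U₀) {f}) ∧
      tr q ξ ≤ tr q y + fs.length := by
  induction fs with
  | nil => exact ⟨ξ, specializes_rfl, hsp, by simp, by simp⟩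
  | cons f fs ih =>
    obtain ⟨y', h1, h2, h3, h4⟩ := ih (fun g hg => hx g (List.mem_cons_of_mem _ hg))
    by_cases hy' : y' ∈ X.zeroLocus (U := U₀) {f}
    · refine ⟨y', h1, h2, ?_, ?_⟩
      · intro g hg
        rcases List.mem_cons.mp hg with rfl | hg
        · exact hy'
        · exact h3 g hg
      · simp only [List.length_cons]; omega
    · obtain ⟨y, hy1, hy2, hy3, hy4⟩ := exists_hypersurface_point' k q U₀ f y' x hxU₀ h2 hy'
        (hx f List.mem_cons_self)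
      refine ⟨y, h1.trans hy1, hy2, ?_, ?_⟩
      · intro g hg
        rcases List.mem_cons.mp hg with rfl | hg
        · exact hy3
        · exact hy1.mem_closed (X.zeroLocus_isClosed _) (h3 g hg)
      · simp only [List.length_cons]; omega


theorem app_surjective_of_isClosedImmersion_restrict {W X : Scheme.{u}} (ι : W ⟶ X) (U : X.Opens)
    (hU : IsAffineOpen U) [IsClosedImmersion (ι ∣_ U)] :
    IsAffineOpen (ι ⁻¹ᵁ U) ∧ Function.Surjective (ι.app U).hom := by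
  haveI : IsAffine U.toScheme := hU
  have h := IsClosedImmersion.isAffine_surjective_of_isAffine (f := ι ∣_ U)
  refine ⟨h.1, ?_⟩
  have h2 := h.2
  rw [morphismRestrict_appTop] at h2
  have h3 : Function.Surjective (ι.app (U.ι ''ᵁ ⊤)).hom := by
    intro b
    obtain ⟨a, ha⟩ := h2 ((W.presheaf.map (eqToHom (image_morphismRestrict_preimage ι U ⊤)).op).hom b)
    refine ⟨a, ?_⟩
    have hinj : Function.Injective (W.presheaf.map (eqToHom (image_morphismRestrict_preimage ι U ⊤)).op).hom :=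
      ((ConcreteCategory.isIso_iff_bijective _).mp inferInstance).1
    apply hinj
    rw [← ha]
    rfl
  have key : ∀ U' : X.Opens, U' = U → Function.Surjective (ι.app U').hom →
      Function.Surjective (ι.app U).hom := by
    rintro _ rfl hs; exact hs
  exact key _ (by simp) h3

theorem mem_range_of_ker_le {W X : Scheme.{u}} (ι : W ⟶ X) (U : X.Opens) (hU : IsAffineOpen U)
    [IsClosedImmersion (ι ∣_ U)] (x : X) (hxU : x ∈ U)
    (hx : RingHom.ker (ι.app U).hom ≤ (hU.primeIdealOf ⟨x, hxU⟩).asIdeal) : x ∈ Set.range ι := by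
  obtain ⟨hV, hsurj⟩ := app_surjective_of_isClosedImmersion_restrict ι U hU
  haveI hp' : ((hU.primeIdealOf ⟨x, hxU⟩).asIdeal.map (ι.app U).hom).IsPrime :=
    Ideal.map_isPrime_of_surjective hsurj hx
  have hcomap : ((hU.primeIdealOf ⟨x, hxU⟩).asIdeal.map (ι.app U).hom).comap (ι.app U).hom =
      (hU.primeIdealOf ⟨x, hxU⟩).asIdeal := by
    rw [Ideal.comap_map_of_surjective _ hsurj]
    apply le_antisymm
    · exact sup_le le_rfl hx
    · exact le_sup_left
  obtain ⟨w, hwdef⟩ : ∃ w : W, w = hV.fromSpec ⟨_, hp'⟩ := ⟨_, rfl⟩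
  have hwV : w ∈ ι ⁻¹ᵁ U := by rw [hwdef]; exact fromSpec_mem hV _
  have hwp : hV.primeIdealOf ⟨w, hwV⟩ = ⟨_, hp'⟩ := by
    have := primeIdealOf_fromSpec hV ⟨_, hp'⟩
    have h2 : hV.primeIdealOf ⟨w, hwV⟩ =
        hV.primeIdealOf ⟨hV.fromSpec ⟨_, hp'⟩, fromSpec_mem hV _⟩ := by
      congr 1
      exact Subtype.ext hwdef
    rw [h2, this]
  have h3 := IsAffineOpen.comap_primeIdealOf_appLE (f := ι) (x := w) U hU (ι ⁻¹ᵁ U) hV le_rfl hwV
  rw [hwp] at h3
  have h4 : hU.primeIdealOf ⟨ι w, hwV⟩ = hU.primeIdealOf ⟨x, hxU⟩ := by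
    rw [← h3]
    apply PrimeSpectrum.ext
    have h7 : ι.appLE U (ι ⁻¹ᵁ U) le_rfl = ι.app U := (Scheme.Hom.app_eq_appLE ι).symm
    change Ideal.comap (ι.appLE U (ι ⁻¹ᵁ U) le_rfl).hom _ = _
    rw [h7]
    exact hcomap
  refine ⟨w, ?_⟩
  have h5 := hU.fromSpec_primeIdealOf ⟨ι w, hwV⟩
  have h6 := hU.fromSpec_primeIdealOf ⟨x, hxU⟩
  rw [h4] at h5
  exact h5.symm.trans h6


theorem mem_zeroLocus_app_iff {C X : Scheme.{u}} (π : C ⟶ X) (U : X.Opens) (hU : IsAffineOpen U)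
    (r : Γ(X, U)) (z : C) (hz : π z ∈ U) :
    z ∈ C.zeroLocus (U := π ⁻¹ᵁ U) {(π.app U).hom r} ↔
      r ∈ (hU.primeIdealOf ⟨π z, hz⟩).asIdeal := by
  rw [mem_primeIdealOf_iff hU (π z) hz, Scheme.mem_zeroLocus_iff]
  have hpre : π ⁻¹ᵁ X.basicOpen r = C.basicOpen ((π.app U).hom r) := Scheme.preimage_basicOpen π r
  constructor
  · intro h hmem
    have : z ∈ π ⁻¹ᵁ X.basicOpen r := hmem
    rw [hpre] at this
    exact h _ rfl this
  · intro h g hg hmem
    rw [Set.mem_singleton_iff] at hg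
    subst hg
    rw [← hpre] at hmem
    exact h hmem

theorem mem_range_iff_zeroLocus {C W X : Scheme.{u}} (π : C ⟶ X) (ι : W ⟶ X) (U : X.Opens)
    (hU : IsAffineOpen U) [IsClosedImmersion (ι ∣_ U)] (rs : List Γ(X, U))
    (hker : RingHom.ker (ι.app U).hom = Ideal.ofList rs) (z : C) (hz : π z ∈ U) :
    π z ∈ Set.range ι ↔
      ∀ f ∈ rs.map (π.app U).hom, z ∈ C.zeroLocus (U := π ⁻¹ᵁ U) {f} := by
  constructor
  · rintro ⟨w, hw⟩ f hf
    obtain ⟨r, hr, rfl⟩ := List.mem_map.mp hf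
    rw [mem_zeroLocus_app_iff π U hU r z hz, mem_primeIdealOf_iff hU (π z) hz]
    intro hmem
    rw [← hw] at hmem
    have h1 : w ∈ ι ⁻¹ᵁ X.basicOpen r := hmem
    rw [Scheme.preimage_basicOpen ι r] at h1
    have h2 : (ι.app U).hom r = 0 := by
      have : r ∈ RingHom.ker (ι.app U).hom := by
        rw [hker]; exact Ideal.subset_span hr
      exact this
    have h3 : W.basicOpen ((ι.app U).hom r) = ⊥ := by rw [h2]; exact Scheme.basicOpen_zero _ _
    change w ∈ W.basicOpen ((ι.app U).hom r) at h1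
    rw [h3] at h1
    exact h1
  · intro h
    apply mem_range_of_ker_le ι U hU (π z) hz
    rw [hker, Ideal.ofList, Ideal.span_le]
    intro r hr
    rw [SetLike.mem_coe, ← mem_zeroLocus_app_iff π U hU r z hz]
    exact h _ (List.mem_map.mpr ⟨r, hr, rfl⟩)


theorem exists_generic_of_irreducibleComponent {α : Type*} [TopologicalSpace α] [QuasiSober α]
    (Q : Set α) (hQ : Q ∈ irreducibleComponents α) :
    ∃ ζ : α, closure ({ζ} : Set α) = Q ∧ ∀ y : α, y ⤳ ζ → ζ ⤳ y := by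
  have hirr : IsIrreducible Q := hQ.1
  have hcl : IsClosed Q := isClosed_of_mem_irreducibleComponents Q hQ
  obtain ⟨ζ, hζ⟩ := QuasiSober.sober hirr hcl
  refine ⟨ζ, hζ.def, ?_⟩
  intro y hy
  have h1 : Q ≤ closure ({y} : Set α) := by
    rw [← hζ.def]
    exact closure_minimal (Set.singleton_subset_iff.mpr (specializes_iff_mem_closure.mp hy))
      isClosed_closure
  have h2 := hQ.2 isIrreducible_singleton.closure h1
  have h3 : y ∈ Q := h2 (subset_closure rfl)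
  rw [← hζ.def] at h3
  exact specializes_iff_mem_closure.mpr h3

/-- the image in `C` of a closed subset of a locally closed subspace is locally closed, and has
the same dimension -/
theorem image_val_isLocallyClosed {α : Type*} [TopologicalSpace α] (S : Set α)
    (hS : IsLocallyClosed S) (Q : Set ↥S) (hQ : IsClosed Q) :
    IsLocallyClosed (Subtype.val '' Q : Set α) := by
  obtain ⟨Z, hZ, rfl⟩ := isClosed_induced_iff.mp hQ
  have : (Subtype.val '' (Subtype.val ⁻¹' Z : Set ↥S) : Set α) = S ∩ Z := by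
    ext a
    constructor
    · rintro ⟨b, hb, rfl⟩; exact ⟨b.2, hb⟩
    · rintro ⟨h1, h2⟩; exact ⟨⟨a, h1⟩, h2, rfl⟩
  rw [this]
  exact hS.inter hZ.isLocallyClosed

theorem dim_image_val {α : Type*} [TopologicalSpace α] (S : Set α) (Q : Set ↥S) :
    topologicalKrullDim ↥Q = topologicalKrullDim ↥(Subtype.val '' Q : Set α) := by
  refine dim_eq_of_isEmbedding (fun a : ↥Q => (a.1.1 : α)) ?_ _ ?_
  · exact Topology.IsEmbedding.subtypeVal.comp Topology.IsEmbedding.subtypeVal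
  · ext a
    constructor
    · rintro ⟨b, rfl⟩; exact ⟨b.1, b.2, rfl⟩
    · rintro ⟨b, hb, rfl⟩; exact ⟨⟨b, hb⟩, rfl⟩


theorem S14481_main (k : Type u) [Field k] (C X W : Scheme.{u})
    (q : X ⟶ Spec (CommRingCat.of k)) (π : C ⟶ X) (ι : W ⟶ X)
    [LocallyOfFiniteType q] [LocallyOfFiniteType π] [IsImmersion ι] (n c : ℕ)
    (hι : ∀ w : W, ∃ U : X.affineOpens, ι w ∈ U.1 ∧ IsClosedImmersion (ι ∣_ U.1) ∧
      ∃ rs : List Γ(X, U.1), rs.length = c ∧ RingHom.ker (ι.app U.1).hom = Ideal.ofList rs)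
    (hC : ∀ P ∈ irreducibleComponents (C : Type u), topologicalKrullDim P = n) :
    (∀ P ∈ irreducibleComponents (C : Type u), ∀ Q ∈ irreducibleComponents (P ∩ π ⁻¹' Set.range ι : Set C),
        topologicalKrullDim Q + (c : WithBot ℕ∞) = n) ↔
      topologicalKrullDim (π ⁻¹' Set.range ι : Set C) + (c : WithBot ℕ∞) ≤ n := by
  have hTlc : IsLocallyClosed (π ⁻¹' Set.range ι : Set C) :=
    (ι.isLocallyClosed_range).preimage π.continuous
  have hSlc : ∀ P ∈ irreducibleComponents (C : Type u),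
      IsLocallyClosed (P ∩ π ⁻¹' Set.range ι : Set C) := fun P hP =>
    (isClosed_of_mem_irreducibleComponents P hP).isLocallyClosed.inter hTlc
  constructor
  · intro ha
    rw [add_le_iff_le_wsub]
    haveI : QuasiSober ↥(π ⁻¹' Set.range ι : Set C) := quasiSober_of_isLocallyClosed _ hTlc
    apply dim_le_of_forall_tr_mem k (π ≫ q)
    intro x hx
    rw [← add_le_iff_le_wsub]
    -- an irreducible component through x
    have hP := irreducibleComponent_mem_irreducibleComponents x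
    have hxP : x ∈ irreducibleComponent x := mem_irreducibleComponent
    obtain ⟨x₀, hx₀⟩ : ∃ x₀ : ↥(irreducibleComponent x ∩ π ⁻¹' Set.range ι : Set C), x₀.1 = x :=
      ⟨⟨x, hxP, hx⟩, rfl⟩
    have hQ := irreducibleComponent_mem_irreducibleComponents x₀
    have hx₀Q : x₀ ∈ irreducibleComponent x₀ := mem_irreducibleComponent
    have hdim := ha _ hP _ hQ
    have hRlc := image_val_isLocallyClosed _ (hSlc _ hP) (irreducibleComponent x₀)
      (isClosed_of_mem_irreducibleComponents _ hQ)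
    have hxR : x ∈ (Subtype.val '' irreducibleComponent x₀ : Set C) := ⟨x₀, hx₀Q, hx₀⟩
    have h1 := tr_le_dim_of_isLocallyClosed k (π ≫ q) _ hRlc x hxR
    rw [← dim_image_val] at h1
    rw [← hdim]
    exact add_le_add_left h1 _
  · intro hb P hP Q hQ
    haveI : QuasiSober ↥(P ∩ π ⁻¹' Set.range ι : Set C) := quasiSober_of_isLocallyClosed _ (hSlc P hP)
    obtain ⟨ζ₀, hζcl, hζmax⟩ := exists_generic_of_irreducibleComponent Q hQ
    have hζ₀Q : ζ₀ ∈ Q := by rw [← hζcl]; exact subset_closure rfl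
    obtain ⟨ζ, hζdef⟩ : ∃ ζ : C, ζ = ζ₀.1 := ⟨_, rfl⟩
    have hζP : ζ ∈ P := by rw [hζdef]; exact ζ₀.2.1
    have hζT : ζ ∈ (π ⁻¹' Set.range ι : Set C) := by rw [hζdef]; exact ζ₀.2.2
    have hRlc := image_val_isLocallyClosed _ (hSlc P hP) Q
      (isClosed_of_mem_irreducibleComponents _ hQ)
    have hζR : ζ ∈ (Subtype.val '' Q : Set C) := ⟨ζ₀, hζ₀Q, hζdef.symm⟩
    have hlow := tr_le_dim_of_isLocallyClosed k (π ≫ q) _ hRlc ζ hζR
    rw [← dim_image_val] at hlow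
    have hup : topologicalKrullDim ↥Q ≤ topologicalKrullDim ↥(π ⁻¹' Set.range ι : Set C) := by
      rw [dim_image_val]
      apply Groth.Agent.Lib.Helper4.DimFT2.topologicalKrullDim_mono
      rintro _ ⟨b, -, rfl⟩
      exact b.2.2
    -- Krull
    obtain ⟨ξ, -, hξcl⟩ := exists_max_closure_eq (X := C) P hP
    have htrξ : tr (π ≫ q) ξ = n := by
      have h1 := dim_closure_of_field k (π ≫ q) ξ
      have h2 : topologicalKrullDim ↥(closure ({ξ} : Set C)) = n := by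
        rw [hξcl]; exact hC P hP
      rw [h2] at h1
      exact_mod_cast h1.symm
    have hsp : ξ ⤳ ζ := by
      rw [specializes_iff_mem_closure, hξcl]; exact hζP
    obtain ⟨w, hw⟩ := hζT
    obtain ⟨U, hwU, hci, rs, hlen, hker⟩ := hι w
    haveI := hci
    have hζU : π ζ ∈ U.1 := by rw [← hw]; exact hwU
    have hzero := (mem_range_iff_zeroLocus π ι U.1 U.2 rs hker ζ hζU).mp ⟨w, hw⟩
    obtain ⟨y, hξy, hyζ, hy0, hytr⟩ := exists_point_of_list k (π ≫ q) (π ⁻¹ᵁ U.1)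
      (rs.map (π.app U.1).hom) ξ ζ hζU hsp hzero
    rw [List.length_map, hlen] at hytr
    have hyU : π y ∈ U.1 := hyζ.mem_open (π ⁻¹ᵁ U.1).2 hζU
    have hyT : y ∈ (π ⁻¹' Set.range ι : Set C) :=
      (mem_range_iff_zeroLocus π ι U.1 U.2 rs hker y hyU).mpr hy0
    have hyP : y ∈ P := by
      rw [← hξcl]; exact specializes_iff_mem_closure.mp hξy
    obtain ⟨y₀, hy₀⟩ : ∃ y₀ : ↥(P ∩ π ⁻¹' Set.range ι : Set C), y₀.1 = y := ⟨⟨y, hyP, hyT⟩, rfl⟩
    have h1 : y₀ ⤳ ζ₀ := by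
      apply (Topology.IsInducing.subtypeVal.specializes_iff).mp
      rw [hy₀, ← hζdef]; exact hyζ
    have h2 : ζ₀ ⤳ y₀ := hζmax y₀ h1
    have h3 : ζ ⤳ y := by
      have := (Topology.IsInducing.subtypeVal.specializes_iff).mpr h2
      rw [hy₀, ← hζdef] at this; exact this
    have hyeq : y = ζ := (hyζ.antisymm h3).eq
    rw [hyeq, htrξ] at hytr
    -- conclude
    apply le_antisymm
    · exact (add_le_add_left hup _).trans hb
    · have h4 : ((n : ℕ) : WithBot ℕ∞) ≤ ((tr (π ≫ q) ζ : ℕ) : WithBot ℕ∞) + (c : WithBot ℕ∞) := by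
        exact_mod_cast hytr
      exact h4.trans (add_le_add_left hlow _)

end Groth.Agent.Lib.Helper4.WellInt4
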