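import Mathlib
import Groth.Prelude.Def_Coh
import Groth.Prelude.Def_FlatMod2
import Groth.Agent.Lib.Helper4.FlatHom1
import Groth.Agent.Lib.Helper4.MumBC1
import Groth.Agent.Lib.Helper4.SepCover1

/-!
# Cohomology with flat cohomology modules commutes with arbitrary base change (affine base, separated) (helper4)
-/

set_option backward.isDefEq.respectTransparency.types false
set_option synthInstance.maxHeartbeats 400000
set_option autoImplicit false
set_option linter.unusedSectionVars false
set_option linter.style.haveILetI false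
set_option linter.unusedSimpArgs false
universe u v w
open CategoryTheory
open CategoryTheory.Limits
open AlgebraicGeometry
open TopologicalSpace
open Opposite
open TensorProduct
open MonoidalCategory
open Groth.Agent.Helper1
open Groth.Agent.Lib.Helper4.CechTen1
open Groth.Agent.Lib.Helper4.CechTen2
open Groth.Agent.Lib.Helper4.CechTen3
open Groth.Agent.Lib.Helper4.BCSec1
open Groth.Agent.Lib.Helper4.BCSec2
open Groth.Agent.Lib.Helper4.MumCx2
open Groth.Agent.Lib.Helper4.MumBC1
open Groth.Agent.Lib.Helper4.TruncAlg1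
open Groth.Agent.Lib.Helper4.ExchAlg1
open Groth.Agent.Lib.Helper4.FlatHom1

namespace Groth.Agent.Lib.Helper4.FlatCohBC1

/-- the `A`-module `A'`, via restriction of scalars, is the algebra module -/
noncomputable def rsEquiv (A A' : Type u) [CommRing A] [CommRing A'] [Algebra A A'] :
    (rs (algebraMap A A') (𝟙_ (ModuleCat.{u} A'))) ≃ₗ[A] A' where
  toFun x := x
  invFun x := x
  map_add' _ _ := rfl
  map_smul' a x := (Algebra.smul_def a (show A' from x)).symm
  left_inv _ := rfl
  right_inv _ := rfl

theorem s2445 (A A' : Type u) [CommRing A] [CommRing A']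
    [Algebra A A'] (X : Scheme.{u}) [X.Over (Spec (CommRingCat.of A))]
    [QuasiCompact (X ↘ Spec (CommRingCat.of A))] [IsSeparated (X ↘ Spec (CommRingCat.of A))]
    (F : X.Modules) [Coh.IsQCoh F] (hfl : FlatMod.IsFlatOver (X ↘ Spec (CommRingCat.of A)) F)
    (hH : ∀ p : ℕ, Module.Flat A (Coh.HH X F p)) (n : ℕ) :
    Nonempty (Coh.HH (pullback (X ↘ Spec (CommRingCat.of A)) (Spec.map (CommRingCat.ofHom (algebraMap A A'))))
        ((Scheme.Modules.pullback (pullback.fst (X ↘ Spec (CommRingCat.of A))
          (Spec.map (CommRingCat.ofHom (algebraMap A A'))))).obj F) n ≃+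
      TensorProduct A (Coh.HH X F n) A') := by
  haveI : F.IsQuasicoherent := ‹Coh.IsQCoh F›
  haveI : CompactSpace X := QuasiCompact.compactSpace_of_compactSpace (X ↘ Spec (CommRingCat.of A))
  haveI : QuasiSeparatedSpace X :=
    quasiSeparatedSpace_of_quasiSeparated (X ↘ Spec (CommRingCat.of A))
  obtain ⟨ι, hfin, U, hcov, haff⟩ :=
    Groth.Agent.Lib.Helper4.SepCover1.exists_cover (X ↘ Spec (CommRingCat.of A))
  obtain ⟨d, hd⟩ := exists_bound_HH (X := X)
  have hK : ∀ i, Module.Flat A ((CZ A F U).X i) := flat_CZ A F U hfl haff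
  have eH : ∀ q : ℕ, (CZ A F U).homology (q : ℤ) ≃ₗ[A] Coh.HH X F q := fun q =>
    ((CAN A F U).extendHomologyIso ComplexShape.embeddingUpNat (j := q) (j' := (q : ℤ))
      rfl).toLinearEquiv ≪≫ₗ linHH A F U haff hcov q
  have hHC : ∀ i, Module.Flat A ((CZ A F U).homology i) := by
    intro i
    by_cases hi : 0 ≤ i
    · obtain ⟨q, rfl⟩ := Int.eq_ofNat_of_zero_le hi
      haveI := hH q
      exact Module.Flat.of_linearEquiv (eH q)
    · have hz : (CZ A F U).ExactAt i := by
        apply HomologicalComplex.extend_exactAt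
        intro j hj
        apply hi
        rw [← hj]
        exact Int.natCast_nonneg j
      haveI := ModuleCat.subsingleton_of_isZero hz.isZero_homology
      infer_instance
  have hU : ∀ i, (d : ℤ) < i → UVan (CZ A F U) i := fun i hi M =>
    (exactAt_tensor_CZ A F U haff hcov d hd M i hi).isZero_homology
  letI : (pullback (X ↘ Spec (CommRingCat.of A))
      (Spec.map (CommRingCat.ofHom (algebraMap A A')))).Over (Spec (CommRingCat.of A')) :=
    ⟨pullback.snd _ _⟩
  have hsq : IsPullback (pullback.fst (X ↘ Spec (CommRingCat.of A))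
      (Spec.map (CommRingCat.ofHom (algebraMap A A'))))
      ((pullback (X ↘ Spec (CommRingCat.of A))
        (Spec.map (CommRingCat.ofHom (algebraMap A A')))) ↘ Spec (CommRingCat.of A'))
      (X ↘ Spec (CommRingCat.of A)) (Spec.map (CommRingCat.ofHom (algebraMap A A'))) :=
    IsPullback.of_hasPullback _ _
  let e1 := hhBC (algebraMap A A') (pullback.fst (X ↘ Spec (CommRingCat.of A))
      (Spec.map (CommRingCat.ofHom (algebraMap A A')))) F U hsq haff hcov n
  obtain ⟨e2⟩ := nonempty_homTensorEquiv (CZ A F U) hK hHC (d : ℤ) hU (n : ℤ)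
    (rs (algebraMap A A') (𝟙_ (ModuleCat.{u} A')))
  let e3 : ((CZ A F U).homology (n : ℤ)) ⊗[A] (rs (algebraMap A A') (𝟙_ (ModuleCat.{u} A')))
      ≃ₗ[A] (Coh.HH X F n) ⊗[A] A' := TensorProduct.congr (eH n) (rsEquiv A A')
  exact ⟨e1.trans (e2.toAddEquiv.trans e3.toAddEquiv)⟩

end Groth.Agent.Lib.Helper4.FlatCohBC1
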