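import Mathlib
import Groth.Agent.Lib.Lead.LimZ3
import Groth.Agent.Lib.Helper1.TwistSec

/-!
# eventual surjectivity of global sections from affine opens on a qcqs scheme (helper4)
-/

set_option backward.isDefEq.respectTransparency.types false
set_option synthInstance.maxHeartbeats 400000
set_option autoImplicit false
set_option linter.unusedSectionVars false
set_option linter.style.haveILetI false
set_option linter.unusedSimpArgs false
universe u v w
open CategoryTheory CategoryTheory.Limits AlgebraicGeometry TopologicalSpace Topology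

namespace Groth.Agent.Lib.Helper4.LimHomB

open Groth.Agent.Lead.BCU

section Common

variable {J : Type u} [SmallCategory J] [IsCofiltered J]

/-- finitely many eventually true conditions on morphisms into `k`, stable under precomposition,
hold for a common morphism -/
theorem common_of_finite {α : Type*} (s : Finset α) (k : J)
    (P : α → ∀ {l : J}, (l ⟶ k) → Prop)
    (hmono : ∀ (a : α) {l l' : J} (f : l ⟶ k) (g : l' ⟶ l), P a f → P a (g ≫ f))
    (h : ∀ a ∈ s, ∃ (l : J) (f : l ⟶ k), P a f) :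
    ∃ (l : J) (f : l ⟶ k), ∀ a ∈ s, P a f := by
  classical
  induction s using Finset.induction_on with
  | empty => exact ⟨k, 𝟙 k, fun a ha => absurd ha (Finset.notMem_empty a)⟩
  | insert a s _ ih =>
    obtain ⟨l₁, f₁, h₁⟩ := ih (fun b hb => h b (Finset.mem_insert_of_mem hb))
    obtain ⟨l₂, f₂, h₂⟩ := h a (Finset.mem_insert_self a s)
    obtain ⟨l, g₁, g₂, hg⟩ := IsCofiltered.cospan f₁ f₂
    refine ⟨l, g₁ ≫ f₁, ?_⟩
    intro b hb
    rcases Finset.mem_insert.1 hb with rfl | hb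
    · rw [hg]
      exact hmono _ f₂ g₂ h₂
    · exact hmono _ f₁ g₁ (h₁ b hb)

end Common

section Sheaf

variable {X : Scheme.{u}} {J : Type u} [SmallCategory J] [IsCofiltered J]
  (Hk : J → X.Modules) (H' : X.Modules)
  (T : ∀ {j k : J} (_ : k ⟶ j) (U : X.Opens), Γ(Hk j, U) → Γ(Hk k, U))
  (R : ∀ (k : J) (U : X.Opens), Γ(Hk k, U) → Γ(H', U))
  (hTres : ∀ {j k : J} (f : k ⟶ j) {U V : X.Opens} (i : V ≤ U) (x : Γ(Hk j, U)),
      T f V (res (Hk j) i x) = res (Hk k) i (T f U x))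
  (hRres : ∀ (k : J) {U V : X.Opens} (i : V ≤ U) (x : Γ(Hk k, U)),
      R k V (res (Hk k) i x) = res H' i (R k U x))
  (hTcomp : ∀ {j k l : J} (f : k ⟶ j) (g : l ⟶ k) (U : X.Opens) (x : Γ(Hk j, U)),
      T (g ≫ f) U x = T g U (T f U x))
  (hRT : ∀ {j k : J} (f : k ⟶ j) (U : X.Opens) (x : Γ(Hk j, U)), R k U (T f U x) = R j U x)

include hTres hRres hTcomp in
/-- eventual injectivity on affine opens implies eventual injectivity on quasi-compact opens -/
theorem inj_of_isCompact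
    (hinj : ∀ W : X.Opens, IsAffineOpen W → ∀ (k : J) (t t' : Γ(Hk k, W)), R k W t = R k W t' →
      ∃ (l : J) (f : l ⟶ k), T f W t = T f W t')
    (U : X.Opens) (hU : IsCompact (U : Set X)) (k : J) (t t' : Γ(Hk k, U))
    (h : R k U t = R k U t') : ∃ (l : J) (f : l ⟶ k), T f U t = T f U t' := by
  classical
  obtain ⟨S, hSfin, hScov⟩ := (isCompact_iff_finite_and_eq_biUnion_affineOpens
    (X := X) (U := U)).1 hU
  have hle : ∀ W ∈ S, (W : X.affineOpens).1 ≤ U := by
    intro W hW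
    rw [hScov]
    exact le_iSup₂ (f := fun (W : X.affineOpens) (_ : W ∈ S) => W.1) W hW
  obtain ⟨l, f, hf⟩ := common_of_finite hSfin.toFinset k
    (fun (W : X.affineOpens) {l : J} (f : l ⟶ k) => ∀ hW : W.1 ≤ U,
      T f W.1 (res (Hk k) hW t) = T f W.1 (res (Hk k) hW t'))
    (fun W l l' f g hP hW => by rw [hTcomp, hTcomp, hP hW])
    (fun W hW => by
      have hWU := hle W (hSfin.mem_toFinset.1 hW)
      obtain ⟨l, f, hf⟩ := hinj W.1 W.2 k (res (Hk k) hWU t) (res (Hk k) hWU t') (by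
        rw [hRres, hRres, h])
      exact ⟨l, f, fun _ => hf⟩)
  refine ⟨l, f, ?_⟩
  apply Groth.Agent.Helper1.TwistSec.eq_of_locally
  intro x hx
  rw [hScov] at hx
  simp only [TopologicalSpace.Opens.mem_iSup] at hx
  obtain ⟨W, hWS, hxW⟩ := hx
  refine ⟨W.1, hle W hWS, hxW, ?_⟩
  have h1 := hf W (hSfin.mem_toFinset.2 hWS) (hle W hWS)
  rw [hTres, hTres] at h1
  exact h1

include hTres hRres hTcomp hRT in
/-- eventual bijectivity on affine opens implies eventual surjectivity on global sections of a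
quasi-compact quasi-separated scheme -/
theorem surj_top [CompactSpace X] [QuasiSeparatedSpace X]
    (hsurj : ∀ W : X.Opens, IsAffineOpen W → ∀ s : Γ(H', W), ∃ (k : J) (t : Γ(Hk k, W)),
      R k W t = s)
    (hinj : ∀ W : X.Opens, IsAffineOpen W → ∀ (k : J) (t t' : Γ(Hk k, W)), R k W t = R k W t' →
      ∃ (l : J) (f : l ⟶ k), T f W t = T f W t')
    (s : Γ(H', ⊤)) : ∃ (k : J) (t : Γ(Hk k, ⊤)), R k ⊤ t = s := by
  classical
  obtain ⟨S, hSfin, hScov⟩ := (isCompact_iff_finite_and_eq_biUnion_affineOpens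
    (X := X) (U := ⊤)).1 isCompact_univ
  -- a common stage for local lifts
  obtain ⟨k, hk⟩ := Groth.Agent.Lead.LimZ.exists_common
    (fun (k : J) (W : X.affineOpens) => ∃ t : Γ(Hk k, W.1), R k W.1 t = res H' le_top s)
    (fun {j k} f W ⟨t, ht⟩ => ⟨T f W.1 t, by rw [hRT, ht]⟩) hSfin.toFinset
    (fun W _ => hsurj W.1 W.2 _)
  let ι := ↥(hSfin.toFinset)
  have hk' : ∀ i : ι, ∃ t : Γ(Hk k, i.1.1), R k i.1.1 t = res H' le_top s := fun i => hk i.1 i.2
  choose t ht using hk'
  -- agreement on overlaps at a later stage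
  have hpair : ∀ p ∈ (Finset.univ : Finset (ι × ι)), ∃ (l : J) (f : l ⟶ k),
      T f (p.1.1.1 ⊓ p.2.1.1) (res (Hk k) inf_le_left (t p.1)) =
        T f (p.1.1.1 ⊓ p.2.1.1) (res (Hk k) inf_le_right (t p.2)) := by
    intro p _
    apply inj_of_isCompact Hk H' T R hTres hRres hTcomp hinj
    · exact QuasiSeparatedSpace.inter_isCompact _ _ p.1.1.1.2 p.1.1.2.isCompact p.2.1.1.2
        p.2.1.2.isCompact
    · rw [hRres, hRres, ht, ht, res_res, res_res]
  obtain ⟨l, f, hf⟩ := common_of_finite (Finset.univ : Finset (ι × ι)) k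
    (fun (p : ι × ι) {l : J} (f : l ⟶ k) =>
      T f (p.1.1.1 ⊓ p.2.1.1) (res (Hk k) inf_le_left (t p.1)) =
        T f (p.1.1.1 ⊓ p.2.1.1) (res (Hk k) inf_le_right (t p.2)))
    (fun p l l' f g hP => by rw [hTcomp, hTcomp, hP]) hpair
  -- glue
  have hcov : (⊤ : X.Opens) ≤ ⨆ i : ι, i.1.1 := by
    rw [hScov]
    refine iSup₂_le fun W hW => ?_
    exact le_iSup (fun i : ι => i.1.1) ⟨W, hSfin.mem_toFinset.2 hW⟩
  obtain ⟨g, hg⟩ := Groth.Agent.Helper1.TwistSec.glue_of_compatible (Hk l)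
    (fun i : ι => i.1.1) ⊤ (fun _ => le_top) hcov (fun i => T f i.1.1 (t i)) (by
      intro i j
      have h1 := hf (i, j) (Finset.mem_univ _)
      rw [hTres, hTres] at h1
      exact h1)
  refine ⟨l, g, ?_⟩
  apply Groth.Agent.Helper1.TwistSec.eq_of_locally
  intro x hx
  have hx' := hcov hx
  simp only [TopologicalSpace.Opens.mem_iSup] at hx'
  obtain ⟨i, hxi⟩ := hx'
  refine ⟨i.1.1, le_top, hxi, ?_⟩
  have h2 : res (Hk l) le_top g = T f i.1.1 (t i) := hg i
  have h3 : res H' (le_top : i.1.1 ≤ ⊤) (R l ⊤ g) = R l i.1.1 (res (Hk l) le_top g) :=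
    (hRres l le_top g).symm
  refine h3.trans ?_
  rw [h2, hRT, ht]
  rfl

end Sheaf

end Groth.Agent.Lib.Helper4.LimHomB
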