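import Mathlib
import Groth.Agent.Lib.Helper4.LimHomB
import Groth.Agent.Lib.Helper4.LimHomE

/-!
# surjectivity of colim Hom(F_j, G_j) -> Hom(F, G) in a cofiltered limit of schemes (helper4)
-/

set_option backward.isDefEq.respectTransparency.types false
set_option synthInstance.maxHeartbeats 400000
set_option autoImplicit false
set_option linter.unusedSectionVars false
set_option linter.style.haveILetI false
set_option linter.unusedSimpArgs false
universe u v w
open CategoryTheory CategoryTheory.Limits AlgebraicGeometry TopologicalSpace Topology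

namespace Groth.Agent.Lib.Helper4.LimHomF

open Groth.Agent.Lead.BCU Groth.Agent.Lead.LimZ Groth.Agent.Lead.FBC Groth.Agent.Lead.RH
open Groth.Agent.Lib.Helper4.LimHomA Groth.Agent.Lib.Helper4.LimHomB
  Groth.Agent.Lib.Helper4.LimHomC Groth.Agent.Lib.Helper4.LimHomD Groth.Agent.Lib.Helper4.LimHomE

section Ext

/-- morphisms out of a quasi-coherent module which agree on the sections over the members of an
affine open cover are equal -/
theorem hom_ext_of_affine_cover {X : Scheme.{u}} {M N : X.Modules} [M.IsQuasicoherent]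
    (ψ ψ' : M ⟶ N)
    (h : ∀ x : X, ∃ V : X.Opens, IsAffineOpen V ∧ x ∈ V ∧ ∀ m : Γ(M, V), ψ.app V m = ψ'.app V m) :
    ψ = ψ' := by
  rw [← sub_eq_zero]
  apply hom_eq_zero_of_affine_cover
  intro x
  obtain ⟨V, hV, hxV, hm⟩ := h x
  refine ⟨V, hV, hxV, fun m => ?_⟩
  rw [Scheme.Modules.Hom.sub_app]
  change ψ.app V m - ψ'.app V m = 0
  rw [hm, sub_self]

end Ext

section Tri

variable {Y'' Y' Y : Scheme.{u}} (p : Y'' ⟶ Y') (q : Y' ⟶ Y) (q' : Y'' ⟶ Y) (e : p ≫ q = q')
  {F G : Y.Modules}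

/-- transposing a morphism between pullbacks to the source of a factorization -/
theorem homEquiv_tri (ψ : (Scheme.Modules.pullback q).obj F ⟶ (Scheme.Modules.pullback q).obj G) :
    (Scheme.Modules.pullbackPushforwardAdjunction q').homEquiv _ _
      (((compIso p q q' e).app F).inv ≫ (Scheme.Modules.pullback p).map ψ ≫
        ((compIso p q q' e).app G).hom) =
    (Scheme.Modules.pullbackPushforwardAdjunction q).homEquiv _ _ ψ ≫ tr p q q' e G := by
  apply Scheme.Modules.hom_ext
  intro U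
  ext m
  rw [Adjunction.homEquiv_unit, Adjunction.homEquiv_unit]
  show (((compIso p q q' e).app G).hom).app (q' ⁻¹ᵁ U)
      (((Scheme.Modules.pullback p).map ψ).app (q' ⁻¹ᵁ U)
        ((((compIso p q q' e).app F).inv).app (q' ⁻¹ᵁ U)
          (((Scheme.Modules.pullbackPushforwardAdjunction q').unit.app F).app U m))) =
    (tr p q q' e G).app U (ψ.app (q ⁻¹ᵁ U)
      (((Scheme.Modules.pullbackPushforwardAdjunction q).unit.app F).app U m))
  -- the unit of `q'` through the unit of `q`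
  have h1 := tr_unitRes p q q' e F U m
  rw [tr_app] at h1
  have h2 : unitRes q' F (le_refl (q' ⁻¹ᵁ U)) m =
      ((Scheme.Modules.pullbackPushforwardAdjunction q').unit.app F).app U m := res_self' _ _ _
  have h3 : unitRes q F (le_refl (q ⁻¹ᵁ U)) m =
      ((Scheme.Modules.pullbackPushforwardAdjunction q).unit.app F).app U m := res_self' _ _ _
  rw [h2, h3] at h1
  have h4 : (((compIso p q q' e).app F).inv).app (q' ⁻¹ᵁ U)
      (((Scheme.Modules.pullbackPushforwardAdjunction q').unit.app F).app U m) =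
      unitRes p ((Scheme.Modules.pullback q).obj F) (tri_le p q q' e U)
        (((Scheme.Modules.pullbackPushforwardAdjunction q).unit.app F).app U m) := by
    rw [← h1]
    have h5 := congrArg (fun φ => Scheme.Modules.Hom.app φ (q' ⁻¹ᵁ U))
      ((compIso p q q' e).app F).hom_inv_id
    exact congrArg (fun φ => φ (unitRes p ((Scheme.Modules.pullback q).obj F) (tri_le p q q' e U)
        (((Scheme.Modules.pullbackPushforwardAdjunction q).unit.app F).app U m))) h5
  rw [h4, unitRes_naturality, tr_app]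
  rfl

end Tri

section Main

variable {I : Type u} [SmallCategory I] [IsCofiltered I] (D : I ⥤ Scheme.{u}) (c : Cone D)
  (hc : IsLimit c) [∀ (i j : I) (f : i ⟶ j), IsAffineHom (D.map f)] (i₀ : I)
  (F₀ G₀ : (D.obj i₀).Modules) [F₀.IsQuasicoherent] [G₀.IsQuasicoherent]

omit [F₀.IsQuasicoherent] in
theorem Tm_comp {j k l : Over i₀} (f : k ⟶ j) (g : l ⟶ k) :
    Tm D i₀ G₀ (g ≫ f) = Tm D i₀ G₀ f ≫ Tm D i₀ G₀ g := by
  haveI := isQuasicoherent_Hk D i₀ G₀ j
  apply hom_ext_of_affine_cover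
  intro x
  obtain ⟨_, ⟨V, hV, rfl⟩, hxV, -⟩ :=
    (D.obj i₀).isBasis_affineOpens.exists_subset_of_mem_open (Set.mem_univ x) isOpen_univ
  exact ⟨V, hV, hxV, fun m => Ts_comp D i₀ G₀ hV f g m⟩

omit [F₀.IsQuasicoherent] in
theorem Tm_Rm {j k : Over i₀} (f : k ⟶ j) :
    Tm D i₀ G₀ f ≫ Rm D c i₀ G₀ k = Rm D c i₀ G₀ j := by
  haveI := isQuasicoherent_Hk D i₀ G₀ j
  apply hom_ext_of_affine_cover
  intro x
  obtain ⟨_, ⟨V, hV, rfl⟩, hxV, -⟩ :=
    (D.obj i₀).isBasis_affineOpens.exists_subset_of_mem_open (Set.mem_univ x) isOpen_univ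
  exact ⟨V, hV, hxV, fun m => Rs_Ts D c i₀ G₀ hV f m⟩

include hc in
/-- **surjectivity of `colim Hom(F_j, G_j) → Hom(F, G)`** -/
theorem S4811_main [CompactSpace (D.obj i₀)] [QuasiSeparatedSpace (D.obj i₀)]
    (hF₀ : CohB1.IsFP F₀)
    (h : (Scheme.Modules.pullback (c.π.app i₀)).obj F₀ ⟶
      (Scheme.Modules.pullback (c.π.app i₀)).obj G₀) :
    ∃ (j : I) (φ : j ⟶ i₀) (hj : (Scheme.Modules.pullback (D.map φ)).obj F₀ ⟶
        (Scheme.Modules.pullback (D.map φ)).obj G₀),
      ((Scheme.Modules.pullbackComp (c.π.app j) (D.map φ) ≪≫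
          Scheme.Modules.pullbackCongr (c.w φ)).app F₀).inv ≫
        (Scheme.Modules.pullback (c.π.app j)).map hj ≫
          ((Scheme.Modules.pullbackComp (c.π.app j) (D.map φ) ≪≫
            Scheme.Modules.pullbackCongr (c.w φ)).app G₀).hom = h := by
  let hflat := (Scheme.Modules.pullbackPushforwardAdjunction (c.π.app i₀)).homEquiv _ _ h
  obtain ⟨k, t, ht⟩ := surj_top (X := D.obj i₀) (J := Over i₀)
    (fun k : Over i₀ => RefHull.homSh F₀ (Hk D i₀ G₀ k))
    (RefHull.homSh F₀ (Hlim D c i₀ G₀))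
    (fun {j k : Over i₀} (f : k ⟶ j) U t => post (Tm D i₀ G₀ f) t)
    (fun (k : Over i₀) U t => post (Rm D c i₀ G₀ k) t)
    (fun {j k} f {U V} i x => (post_map (Tm D i₀ G₀ f) (homOfLE i) x).symm)
    (fun k {U V} i x => (post_map (Rm D c i₀ G₀ k) (homOfLE i) x).symm)
    (fun {j k l} f g U x => by rw [Tm_comp, post_comp])
    (fun {j k} f U x => by rw [← post_comp, Tm_Rm])
    (fun W hW s => hom_surj D c hc i₀ F₀ G₀ hW hF₀ s)
    (fun W hW k t t' h => hom_inj D c hc i₀ F₀ G₀ hW hF₀ k t t' h)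
    (RefHull.ofHom hflat ⊤)
  refine ⟨k.left, k.hom,
    ((Scheme.Modules.pullbackPushforwardAdjunction (D.map k.hom)).homEquiv _ _).symm (toHom t), ?_⟩
  apply ((Scheme.Modules.pullbackPushforwardAdjunction (c.π.app i₀)).homEquiv _ _).injective
  refine (homEquiv_tri (c.π.app k.left) (D.map k.hom) (c.π.app i₀) (c.w k.hom) _).trans ?_
  rw [Equiv.apply_symm_apply]
  have h1 : toHom t ≫ Rm D c i₀ G₀ k = hflat := by
    rw [← toHom_post, ht, toHom_ofHom]
  exact h1

end Main

end Groth.Agent.Lib.Helper4.LimHomF
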