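import Groth.Agent.Lib.Helper4.FlatIntegral

/-!
# Affine charts of scheme-theoretic fibres; fibre of `X_red` over a maximal point (helper4)
-/

set_option autoImplicit false
set_option linter.unusedSectionVars false
set_option linter.style.haveILetI false
universe u
open CategoryTheory CategoryTheory.Limits AlgebraicGeometry TopologicalSpace
open scoped TensorProduct
open Groth.Agent.Lib.Helper4.FlatIntegral

namespace Groth.Agent.Lib.Helper4.FiberChart


theorem fiberChart {X Y : Scheme.{u}} (f : X ⟶ Y) {V : Y.Opens} (hV : IsAffineOpen V)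
    {U : X.Opens} (hU : IsAffineOpen U) (e : U ≤ f ⁻¹ᵁ V) (y : Y) (hy : y ∈ V) :
    letI := (f.appLE V U e).hom.toAlgebra
    letI := (Y.evaluation V y hy).hom.toAlgebra
    ∃ l : Spec (.of (Γ(X, U) ⊗[Γ(Y, V)] (Y.residueField y))) ⟶ f.fiber y,
      IsOpenImmersion l ∧
      l ≫ f.fiberι y = Spec.map (CommRingCat.ofHom
        (Algebra.TensorProduct.includeLeftRingHom :
          Γ(X, U) →+* Γ(X, U) ⊗[Γ(Y, V)] (Y.residueField y))) ≫ hU.fromSpec ∧
      Set.range l = (f.fiberι y) ⁻¹' U := by
  let φ : Γ(Y, V) ⟶ Γ(X, U) := f.appLE V U e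
  let ψ : Γ(Y, V) ⟶ Y.residueField y := Y.evaluation V y hy
  algebraize [φ.hom, ψ.hom]
  have hpo := CommRingCat.isPushout_tensorProduct Γ(Y, V) Γ(X, U) (Y.residueField y)
  have hpb := isPullback_SpecMap_of_isPushout _ _ _ _ hpo
  have hpb2 := isPullback_comp_mono hpb hV.fromSpec
  have e1 : Spec.map (CommRingCat.ofHom (algebraMap Γ(Y, V) Γ(X, U))) ≫ hV.fromSpec
      = hU.fromSpec ≫ f := IsAffineOpen.SpecMap_appLE_fromSpec f hV hU e
  have e2 : Spec.map (CommRingCat.ofHom (algebraMap Γ(Y, V) (Y.residueField y))) ≫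
      hV.fromSpec = Y.fromSpecResidueField y := by
    change Spec.map (Y.presheaf.germ V y hy ≫ Y.residue _) ≫ hV.fromSpec = _
    rw [Spec.map_comp, Category.assoc]
    change _ ≫ hV.fromSpecStalk hy = _
    rw [hV.fromSpecStalk_eq_fromSpecStalk hy]
    rfl
  rw [e1, e2] at hpb2
  have hfib : IsPullback (f.fiberι y) (f.fiberToSpecResidueField y) f
      (Y.fromSpecResidueField y) := IsPullback.of_hasPullback _ _
  let l := hfib.lift _ _ (by rw [Category.assoc]; exact hpb2.w)
  have hl1 : l ≫ f.fiberι y = _ := hfib.lift_fst _ _ _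
  have hl2 : l ≫ f.fiberToSpecResidueField y = _ := hfib.lift_snd _ _ _
  have hsq : IsPullback l (Spec.map (CommRingCat.ofHom Algebra.TensorProduct.includeLeftRingHom))
      (f.fiberι y) hU.fromSpec := by
    refine IsPullback.of_right ?_ hl1 hfib.flip
    rw [hl2]
    exact hpb2.flip
  have hlo : IsOpenImmersion l :=
    MorphismProperty.of_isPullback (P := @IsOpenImmersion) hsq.flip inferInstance
  refine ⟨l, hlo, hl1, ?_⟩
  have h3 : l = hsq.isoPullback.hom ≫ pullback.fst _ _ := (hsq.isoPullback_hom_fst).symm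
  rw [h3, Scheme.Hom.comp_base, TopCat.coe_comp, Set.range_comp,
    Set.range_eq_univ.mpr hsq.isoPullback.hom.surjective, Set.image_univ,
    Scheme.Pullback.range_fst, hU.range_fromSpec]
theorem isReduced_tensor_of_nil {A B S κ : Type u} [CommRing A] [CommRing B] [CommRing S]
    [CommRing κ] [Algebra A B] [Algebra A S] [Algebra S κ] [Algebra A κ] [IsScalarTower A S κ]
    (M : Submonoid A) [IsLocalization M S] [_root_.IsReduced B]
    (hsurj : Function.Surjective (algebraMap S κ))
    (hnil : ∀ s : S, algebraMap S κ s = 0 → IsNilpotent s) :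
    _root_.IsReduced (B ⊗[A] κ) := by
  have hloc : IsLocalization (Algebra.algebraMapSubmonoid B M) (B ⊗[A] S) := inferInstance
  have hred : _root_.IsReduced (B ⊗[A] S) :=
    isReduced_localizationPreserves (Algebra.algebraMapSubmonoid B M) (B ⊗[A] S) inferInstance
  let g : S →ₐ[A] κ := IsScalarTower.toAlgHom A S κ
  have hg : Function.Surjective g := hsurj
  let π := Algebra.TensorProduct.map (AlgHom.id A B) g
  have hπs : Function.Surjective π :=
    Algebra.TensorProduct.map_surjective (AlgHom.id A B) g Function.surjective_id hg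
  have hker : RingHom.ker π = ⊥ := by
    rw [Algebra.TensorProduct.lTensor_ker g hg, Ideal.map_eq_bot_iff_le_ker]
    intro s hs
    have h1 : IsNilpotent s := hnil s hs
    have h2 : IsNilpotent ((Algebra.TensorProduct.includeRight : S →ₐ[A] B ⊗[A] S) s) :=
      h1.map _
    exact h2.eq_zero
  have hπi : Function.Injective π := (RingHom.injective_iff_ker_eq_bot π.toRingHom).mpr hker
  let e : (B ⊗[A] S) ≃+* (B ⊗[A] κ) := RingEquiv.ofBijective π.toRingHom ⟨hπi, hπs⟩
  exact isReduced_of_injective e.symm e.symm.injective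

lemma isNilpotent_of_residue_eq_zero {Y : Scheme.{u}} (η : Y) (W : Set Y)
    (hW : W ∈ irreducibleComponents Y) (hη : IsGenericPoint η W)
    (s : Y.presheaf.stalk η) (hs : (Y.residue η).hom s = 0) : IsNilpotent s := by
  have hsub : ∀ y : Y, y ⤳ η → y = η := by
    intro y hy
    have h1 : W ⊆ closure {y} := by
      rw [← hη.def]; exact hy.closure_subset
    have h2 : closure {y} = W := by
      have := hW.2 (y := closure {y}) isIrreducible_singleton.closure h1
      exact le_antisymm this h1
    have h3 : IsGenericPoint y W := h2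
    exact h3.eq hη
  have hss : Subsingleton (PrimeSpectrum (Y.presheaf.stalk η)) := by
    refine ⟨fun p q => ?_⟩
    apply (Y.fromSpecStalk η).isEmbedding.injective
    have hp : Y.fromSpecStalk η p ∈ Set.range (Y.fromSpecStalk η) := ⟨p, rfl⟩
    have hq : Y.fromSpecStalk η q ∈ Set.range (Y.fromSpecStalk η) := ⟨q, rfl⟩
    rw [Scheme.range_fromSpecStalk] at hp hq
    rw [hsub _ hp, hsub _ hq]
  have hm : s ∈ IsLocalRing.maximalIdeal (Y.presheaf.stalk η) := by
    rw [← IsLocalRing.ker_residue]; exact hs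
  rw [nilpotent_iff_mem_prime]
  intro J hJ
  have : (⟨J, hJ⟩ : PrimeSpectrum (Y.presheaf.stalk η)) = IsLocalRing.closedPoint _ :=
    Subsingleton.elim _ _
  have h2 : J = IsLocalRing.maximalIdeal _ := congrArg PrimeSpectrum.asIdeal this
  rw [h2]; exact hm

theorem isReduced_fiber_of_isReduced {X Y : Scheme.{u}} (g : X ⟶ Y) [IsReduced X] (η : Y)
    (W : Set Y) (hW : W ∈ irreducibleComponents Y) (hη : IsGenericPoint η W) :
    IsReduced (g.fiber η) := by
  obtain ⟨V, hV, hηV, -⟩ := Opens.isBasis_iff_nbhd.mp Y.isBasis_affineOpens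
    (show η ∈ (⊤ : Y.Opens) from trivial)
  have key : ∀ z : g.fiber η, ∃ (R : CommRingCat.{u}) (l : Spec R ⟶ g.fiber η),
      IsOpenImmersion l ∧ z ∈ Set.range l ∧ _root_.IsReduced R := by
    intro z
    have hz : g (g.fiberι η z) = η := by
      have : g.fiberι η z ∈ Set.range (g.fiberι η) := ⟨z, rfl⟩
      rw [g.range_fiberι] at this; exact this
    obtain ⟨U, hU, hxU, hUV⟩ := Opens.isBasis_iff_nbhd.mp X.isBasis_affineOpens
      (show g.fiberι η z ∈ g ⁻¹ᵁ V by change g _ ∈ V; rw [hz]; exact hηV)
    obtain ⟨l, hl, -, hrange⟩ := fiberChart g hV hU hUV η hηV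
    refine ⟨_, l, hl, ?_, ?_⟩
    · rw [hrange]; exact hxU
    · letI := (g.appLE V U hUV).hom.toAlgebra
      letI := (Y.evaluation V η hηV).hom.toAlgebra
      letI : Algebra Γ(Y, V) (Y.presheaf.stalk η) :=
        TopCat.Presheaf.algebra_section_stalk Y.presheaf ⟨η, hηV⟩
      letI : Algebra (Y.presheaf.stalk η) (Y.residueField η) := (Y.residue η).hom.toAlgebra
      haveI : IsScalarTower Γ(Y, V) (Y.presheaf.stalk η) (Y.residueField η) :=
        IsScalarTower.of_algebraMap_eq (fun x => rfl)
      haveI := hV.isLocalization_stalk ⟨η, hηV⟩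
      exact isReduced_tensor_of_nil (A := Γ(Y, V)) (B := Γ(X, U)) (S := Y.presheaf.stalk η)
        (κ := Y.residueField η) (hV.primeIdealOf ⟨η, hηV⟩).asIdeal.primeCompl
        IsLocalRing.residue_surjective
        (fun s hs => isNilpotent_of_residue_eq_zero η W hW hη s hs)
  choose R l hl hz hR using key
  let 𝒰 : (g.fiber η).OpenCover :=
    { I₀ := g.fiber η
      X := fun z => Spec (R z)
      f := l
      mem₀ := by
        rw [Scheme.presieve₀_mem_precoverage_iff]
        exact ⟨fun z => ⟨z, hz z⟩, hl⟩ }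
  have : ∀ i, IsReduced (𝒰.X i) := fun i => by
    change IsReduced (Spec (R i)); infer_instance
  exact IsReduced.of_openCover _ 𝒰

theorem isReduced_nilradical_subscheme (X : Scheme.{u}) : IsReduced X.nilradical.subscheme := by
  have key : ∀ U : X.nilradical.subschemeCover.openCover.I₀,
      IsReduced (X.nilradical.subschemeCover.openCover.X U) := by
    intro U
    change IsReduced (Spec (.of <| Γ(X, U.1) ⧸ X.nilradical.ideal U))
    have : _root_.IsReduced (Γ(X, U.1) ⧸ X.nilradical.ideal U) := by
      rw [← Ideal.isRadical_iff_quotient_reduced]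
      change ((⊥ : X.IdealSheafData).radical.ideal U).IsRadical
      exact Ideal.radical_isRadical _
    infer_instance
  exact AlgebraicGeometry.IsReduced.of_openCover _ X.nilradical.subschemeCover.openCover

theorem S1471_main {X Y : Scheme.{u}} (f : X ⟶ Y) (η : Y) (W : Set ↑Y)
    (hW : W ∈ irreducibleComponents ↑Y) (hη : IsGenericPoint η W) :
    IsReduced ((X.nilradical.subschemeι ≫ f).fiber η) := by
  haveI := isReduced_nilradical_subscheme X
  exact isReduced_fiber_of_isReduced _ η W hW hη
end Groth.Agent.Lib.Helper4.FiberChart
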