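import Mathlib
import Groth.Agent.Lib.Helper4.LimFlatD
import Groth.Agent.Lib.Helper4.ChartSq1
import Groth.Agent.Lib.Helper7.LimBC
import Groth.Agent.Lib.Helper2.LfpOfComp
import Groth.Agent.Lib.Lead.FP2
import Groth.Prelude.Def_CohB1

/-!
# Flatness of a pullback module descends to a stage of a cofiltered limit: global form (EGA IV 11.2.6) (helper4)
-/

set_option backward.isDefEq.respectTransparency.types false
set_option synthInstance.maxHeartbeats 400000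
set_option autoImplicit false
set_option linter.unusedSectionVars false
set_option linter.style.haveILetI false
set_option linter.unusedSimpArgs false
universe u v w
open CategoryTheory CategoryTheory.Limits AlgebraicGeometry TopologicalSpace Topology

namespace Groth.Agent.Lib.Helper4.LimFlatE

open Groth.Agent.Lib.Helper4 Groth.Agent.Helper7.LimBC

/-- flatness over the base at a point passes to a base change, for pullbacks of a module from a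
common scheme -/
theorem flat_mono {X₀ X1 Y1 X2 Y2 : Scheme.{u}} (F₀ : X₀.Modules) [F₀.IsQuasicoherent]
    {p2 : X2 ⟶ X1} {f2 : X2 ⟶ Y2} {f1 : X1 ⟶ Y1} {v : Y2 ⟶ Y1} (hc : IsPullback p2 f2 f1 v)
    (p1 : X1 ⟶ X₀) (q : X2 ⟶ X₀) (hq : p2 ≫ p1 = q) (z : X2)
    (h : FlatMod.IsFlatOverAt f1 ((Scheme.Modules.pullback p1).obj F₀) (p2 z)) :
    FlatMod.IsFlatOverAt f2 ((Scheme.Modules.pullback q).obj F₀) z := by
  haveI : ((Scheme.Modules.pullback p1).obj F₀).IsQuasicoherent :=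
    Groth.Agent.Lead.PB.isQuasicoherent_pullback _ _
  have key := Groth.Agent.Lead.FB.flat_baseChange hc ((Scheme.Modules.pullback p1).obj F₀) z h
  exact ChartSq1.isFlatOverAt_of_iso _
    ((Scheme.Modules.pullbackComp p2 p1).app F₀ ≪≫ (Scheme.Modules.pullbackCongr hq).app F₀) z key

variable {I : Type u} [SmallCategory I] [IsCofiltered I]
    (D : I ⥤ Scheme.{u}) (c : Limits.Cone D) (hc : Limits.IsLimit c)
    [∀ {i j : I} (φ : i ⟶ j), IsAffineHom (D.map φ)] (i₀ : I)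
    {X₀ Y₀ : Scheme.{u}} (f₀ : X₀ ⟶ Y₀) (g₀ : Y₀ ⟶ D.obj i₀)
    (F₀ : X₀.Modules) [F₀.IsQuasicoherent]
    {X Y : Scheme.{u}} (f : X ⟶ Y) (g : Y ⟶ c.pt) (qY : Y ⟶ Y₀) (qX : X ⟶ X₀)
    (hY : IsPullback qY g g₀ (c.π.app i₀)) (hX : IsPullback qX f f₀ qY)

include hY hX in
omit [IsCofiltered I] [∀ {i j : I} (φ : i ⟶ j), IsAffineHom (D.map φ)] in
/-- flatness at a stage implies flatness on the limit -/
theorem flat_of_stage {i : I} (φ : i ⟶ i₀) {Xi Yi : Scheme.{u}} (fi : Xi ⟶ Yi) (gi : Yi ⟶ D.obj i)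
    (pY : Yi ⟶ Y₀) (pX : Xi ⟶ X₀) (hYi : IsPullback pY gi g₀ (D.map φ))
    (hXi : IsPullback pX fi f₀ pY) (vY : Y ⟶ Yi) (vX : X ⟶ Xi) (h1 : vY ≫ pY = qY)
    (h3 : vX ≫ pX = qX) (h4 : vX ≫ fi = f ≫ vY) (x : X)
    (h : FlatMod.IsFlatOverAt fi ((Scheme.Modules.pullback pX).obj F₀) (vX x)) :
    FlatMod.IsFlatOverAt f ((Scheme.Modules.pullback qX).obj F₀) x := by
  have hsq : IsPullback vX f fi vY := by
    refine IsPullback.of_right ?_ h4 hXi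
    rw [h3, h1]
    exact hX
  exact flat_mono F₀ hsq pX qX h3 x h

include hY hX in
omit [IsCofiltered I] [∀ {i j : I} (φ : i ⟶ j), IsAffineHom (D.map φ)] in
/-- the canonical comparison maps to a stage -/
theorem exists_stage_maps {i : I} (φ : i ⟶ i₀) {Xi Yi : Scheme.{u}} (fi : Xi ⟶ Yi)
    (gi : Yi ⟶ D.obj i) (pY : Yi ⟶ Y₀) (pX : Xi ⟶ X₀) (hYi : IsPullback pY gi g₀ (D.map φ))
    (hXi : IsPullback pX fi f₀ pY) :
    ∃ (vY : Y ⟶ Yi) (vX : X ⟶ Xi), vY ≫ pY = qY ∧ vY ≫ gi = g ≫ c.π.app i ∧ vX ≫ pX = qX ∧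
      vX ≫ fi = f ≫ vY := by
  have w1 : qY ≫ g₀ = (g ≫ c.π.app i) ≫ D.map φ := by
    rw [hY.w, Category.assoc, c.w]
  refine ⟨hYi.lift qY (g ≫ c.π.app i) w1, hXi.lift qX (f ≫ hYi.lift qY (g ≫ c.π.app i) w1) ?_,
    hYi.lift_fst _ _ _, hYi.lift_snd _ _ _, hXi.lift_fst _ _ _, hXi.lift_snd _ _ _⟩
  rw [Category.assoc, hYi.lift_fst, hX.w]

set_option maxHeartbeats 1600000 in
include hc hY hX in
/-- **flatness on the limit descends to a stage (global form)** -/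
theorem exists_stage_flatOver [CompactSpace X₀] [LocallyOfFinitePresentation f₀]
    (hF₀ : CohB1.IsFP F₀)
    (hflat : FlatMod.IsFlatOver f ((Scheme.Modules.pullback qX).obj F₀)) :
    ∃ (i : I) (φ : i ⟶ i₀) (Xi Yi : Scheme.{u}) (fi : Xi ⟶ Yi) (gi : Yi ⟶ D.obj i)
      (pY : Yi ⟶ Y₀) (pX : Xi ⟶ X₀),
      IsPullback pY gi g₀ (D.map φ) ∧ IsPullback pX fi f₀ pY ∧
        FlatMod.IsFlatOver fi ((Scheme.Modules.pullback pX).obj F₀) := by
  classical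
  have hcE : IsLimit (bcCone hY) := isLimitBcCone hc hY
  obtain ⟨a, hadef⟩ : ∃ a : ∀ k : Over i₀, (bcDiagram D i₀ g₀).obj k ⟶ Y₀,
      a = fun k : Over i₀ => pullback.fst g₀ (D.map k.hom) := ⟨_, rfl⟩
  haveI haff : ∀ k : Over i₀, IsAffineHom (a k) := fun k => by
    rw [hadef]
    exact MorphismProperty.pullback_fst _ _ (inferInstance : IsAffineHom (D.map k.hom))
  choose V₀ U₀ hV₀ hU₀ hxU₀ hUV₀ using Groth.Agent.Lead.PB.exists_affine_pair f₀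
  obtain ⟨t, ht⟩ := CompactSpace.elim_nhds_subcover (fun x => ((U₀ x : X₀.Opens) : Set X₀))
    (fun x => (U₀ x).2.mem_nhds (hxU₀ x))
  have key : ∀ x₀ : X₀, ∃ k₁ : Over i₀, ∀ (k : Over i₀) (_ : k ⟶ k₁) (Xk : Scheme.{u})
      (pX : Xk ⟶ X₀) (fk : Xk ⟶ (bcDiagram D i₀ g₀).obj k)
      (_ : IsPullback pX fk f₀ (a k)) (z : Xk), z ∈ pX ⁻¹ᵁ U₀ x₀ →
      FlatMod.IsFlatOverAt fk ((Scheme.Modules.pullback pX).obj F₀) z := fun x₀ =>
    LimFlatD.exists_stage_flat_chart (bcDiagram D i₀ g₀) (bcCone hY) hcE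
      a (fun φ => by rw [hadef]; exact bcDiagram_map_fst D i₀ g₀ φ)
      qY (fun k => by rw [hadef]; exact bcCone_π_fst hY k) f₀ F₀ (hV₀ x₀) (hU₀ x₀) (hUV₀ x₀)
      (HasRingHomProperty.appLE (P := @LocallyOfFinitePresentation) f₀ inferInstance
        ⟨V₀ x₀, hV₀ x₀⟩ ⟨U₀ x₀, hU₀ x₀⟩ (hUV₀ x₀))
      (Groth.Agent.Lead.FP.fp_sections_of_isFP F₀ hF₀ (hU₀ x₀))
      qX f hX (fun x _ => hflat x)
  choose k₁ hk₁ using key
  obtain ⟨k, hk⟩ := IsCofiltered.inf_objs_exists (t.image k₁)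
  refine ⟨k.left, k.hom, pullback f₀ (pullback.fst g₀ (D.map k.hom)), pullback g₀ (D.map k.hom),
    pullback.snd _ _, pullback.snd _ _, pullback.fst _ _, pullback.fst _ _,
    IsPullback.of_hasPullback _ _, IsPullback.of_hasPullback _ _, ?_⟩
  intro z
  have hz : (pullback.fst f₀ (pullback.fst g₀ (D.map k.hom))) z ∈
      ⋃ x ∈ t, ((U₀ x : X₀.Opens) : Set X₀) := by
    rw [ht]; trivial
  obtain ⟨x₀, hx₀t, hzx₀⟩ := Set.mem_iUnion₂.1 hz
  obtain ⟨θ⟩ := hk (Finset.mem_image_of_mem k₁ hx₀t)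
  exact hk₁ x₀ k θ _ _ _ (by rw [hadef]; exact IsPullback.of_hasPullback _ _) z hzx₀

theorem S4849_main {I : Type u} [SmallCategory I] [IsCofiltered I]
    (D : I ⥤ Scheme.{u}) (c : Limits.Cone D) (hc : Limits.IsLimit c)
    [∀ (i j : I) (φ : i ⟶ j), IsAffineHom (D.map φ)] (i₀ : I) [CompactSpace (D.obj i₀)]
    {X₀ Y₀ : Scheme.{u}} (f₀ : X₀ ⟶ Y₀) (g₀ : Y₀ ⟶ D.obj i₀)
    [LocallyOfFinitePresentation g₀]
    [LocallyOfFinitePresentation (f₀ ≫ g₀)] [QuasiCompact (f₀ ≫ g₀)]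
    (F₀ : X₀.Modules) [Coh.IsQCoh F₀] (hF₀ : CohB1.IsFP F₀)
    {X Y : Scheme.{u}} (f : X ⟶ Y) (g : Y ⟶ c.pt) (qY : Y ⟶ Y₀) (qX : X ⟶ X₀)
    (hY : IsPullback qY g g₀ (c.π.app i₀)) (hX : IsPullback qX f f₀ qY) :
    FlatMod.IsFlatOver f ((Scheme.Modules.pullback qX).obj F₀) ↔
      ∃ (i : I) (φ : i ⟶ i₀) (Xi Yi : Scheme.{u}) (fi : Xi ⟶ Yi) (gi : Yi ⟶ D.obj i)
        (pY : Yi ⟶ Y₀) (pX : Xi ⟶ X₀),
        IsPullback pY gi g₀ (D.map φ) ∧ IsPullback pX fi f₀ pY ∧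
          FlatMod.IsFlatOver fi ((Scheme.Modules.pullback pX).obj F₀) := by
  haveI : ∀ {i j : I} (φ : i ⟶ j), IsAffineHom (D.map φ) := fun φ => inferInstance
  haveI : LocallyOfFinitePresentation f₀ :=
    Groth.Agent.Helper2.locallyOfFinitePresentation_of_comp f₀ g₀ inferInstance inferInstance
  haveI : CompactSpace X₀ := QuasiCompact.compactSpace_of_compactSpace (f₀ ≫ g₀)
  constructor
  · exact exists_stage_flatOver D c hc i₀ f₀ g₀ F₀ f g qY qX hY hX hF₀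
  · rintro ⟨i, φ, Xi, Yi, fi, gi, pY, pX, hYi, hXi, hfl⟩ x
    obtain ⟨vY, vX, h1, h2, h3, h4⟩ := exists_stage_maps D c i₀ f₀ g₀ f g qY qX hY hX φ fi gi pY pX
      hYi hXi
    exact flat_of_stage D c i₀ f₀ g₀ F₀ f g qY qX hY hX φ fi gi pY pX hYi hXi vY vX h1 h3 h4 x
      (hfl (vX x))

end Groth.Agent.Lib.Helper4.LimFlatE
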