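import Mathlib
import Groth.Agent.Lib.Helper4.LimFlatE
import Groth.Agent.Lib.Helper7.LimStage
import Groth.Agent.Lib.Lead.FlatLoc14
import Groth.Agent.Lib.Lead.LimZ4

/-!
# Flatness of a pullback module at a point descends to a stage of a cofiltered limit (EGA IV 11.2.6) (helper4)
-/

set_option backward.isDefEq.respectTransparency.types false
set_option synthInstance.maxHeartbeats 400000
set_option autoImplicit false
set_option linter.unusedSectionVars false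
set_option linter.style.haveILetI false
set_option linter.unusedSimpArgs false
universe u v w
open CategoryTheory CategoryTheory.Limits AlgebraicGeometry TopologicalSpace Topology

namespace Groth.Agent.Lib.Helper4.LimFlatF

open Groth.Agent.Lib.Helper4 Groth.Agent.Helper7.LimBC Groth.Agent.Helper7.LimStage

variable {I : Type u} [SmallCategory I] [IsCofiltered I]
    (D : I ⥤ Scheme.{u}) (c : Limits.Cone D) (hc : Limits.IsLimit c)
    [∀ {i j : I} (φ : i ⟶ j), IsAffineHom (D.map φ)] (i₀ : I)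
    {X₀ Y₀ : Scheme.{u}} (f₀ : X₀ ⟶ Y₀) (g₀ : Y₀ ⟶ D.obj i₀)
    (F₀ : X₀.Modules) [F₀.IsQuasicoherent]
    {X Y : Scheme.{u}} (f : X ⟶ Y) (g : Y ⟶ c.pt) (qY : Y ⟶ Y₀) (qX : X ⟶ X₀)
    (hY : IsPullback qY g g₀ (c.π.app i₀)) (hX : IsPullback qX f f₀ qY)

set_option backward.isDefEq.respectTransparency false in
omit [IsCofiltered I] [∀ {i j : I} (φ : i ⟶ j), IsAffineHom (D.map φ)] in
/-- naturality of the canonical base changes of `f₀` in the stage -/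
theorem bcHom_natural {k k' : Over i₀} (φ : k ⟶ k') :
    (bcDiagram D i₀ (f₀ ≫ g₀)).map φ ≫ bcHom f₀ g₀ (D.map k'.hom) =
      bcHom f₀ g₀ (D.map k.hom) ≫ (bcDiagram D i₀ g₀).map φ := by
  apply pullback.hom_ext
  · simp
  · simp

set_option backward.isDefEq.respectTransparency false in
omit [IsCofiltered I] [∀ {i j : I} (φ : i ⟶ j), IsAffineHom (D.map φ)] in
/-- compatibility of the projections of the two base-changed limits -/
theorem bcCone_bcHom (hX' : IsPullback qX (f ≫ g) (f₀ ≫ g₀) (c.π.app i₀)) (hw : qX ≫ f₀ = f ≫ qY)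
    (k : Over i₀) :
    (bcCone hX').π.app k ≫ bcHom f₀ g₀ (D.map k.hom) = f ≫ (bcCone hY).π.app k := by
  apply pullback.hom_ext
  · simp [hw]
  · simp

set_option maxHeartbeats 3200000 in
include hc hY hX in
/-- **flatness at a point of the limit descends to a stage** -/
theorem exists_stage_flatAt [LocallyOfFinitePresentation f₀] (hF₀ : CohB1.IsFP F₀) (x : X)
    (hflat : FlatMod.IsFlatOverAt f ((Scheme.Modules.pullback qX).obj F₀) x) :
    ∃ (i : I) (φ : i ⟶ i₀) (Xi Yi : Scheme.{u}) (fi : Xi ⟶ Yi) (gi : Yi ⟶ D.obj i)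
      (pY : Yi ⟶ Y₀) (pX : Xi ⟶ X₀) (vY : Y ⟶ Yi) (vX : X ⟶ Xi),
      IsPullback pY gi g₀ (D.map φ) ∧ IsPullback pX fi f₀ pY ∧
        vY ≫ pY = qY ∧ vY ≫ gi = g ≫ c.π.app i ∧ vX ≫ pX = qX ∧ vX ≫ fi = f ≫ vY ∧
        FlatMod.IsFlatOverAt fi ((Scheme.Modules.pullback pX).obj F₀) (vX x) := by
  classical
  have hcE : IsLimit (bcCone hY) := isLimitBcCone hc hY
  have hX' : IsPullback qX (f ≫ g) (f₀ ≫ g₀) (c.π.app i₀) := hX.paste_vert hY
  have hcE' : IsLimit (bcCone hX') := isLimitBcCone hc hX'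
  haveI : LocallyOfFinitePresentation f :=
    MorphismProperty.of_isPullback (P := @LocallyOfFinitePresentation) hX inferInstance
  haveI : ((Scheme.Modules.pullback qX).obj F₀).IsQuasicoherent :=
    Groth.Agent.Lead.PB.isQuasicoherent_pullback qX F₀
  have hopen := Groth.Agent.Lead.FlatLoc.isOpen_isFlatOverAt f ((Scheme.Modules.pullback qX).obj F₀)
    (Groth.Agent.Lead.LimZ.isFP_pullback qX F₀ hF₀)
  -- a neighbourhood coming from a stage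
  obtain ⟨W, hW, hxV', hV'Ω⟩ :=
    (isBasis_preimage_isAffineOpen (bcDiagram D i₀ (f₀ ≫ g₀)) (bcCone hX') hcE').exists_subset_of_mem_open
      (show x ∈ {x | FlatMod.IsFlatOverAt f ((Scheme.Modules.pullback qX).obj F₀) x} from hflat) hopen
  obtain ⟨_, ⟨j, V', hV', rfl⟩, rfl⟩ := hW
  -- the stage `j`
  obtain ⟨vXj, hvXj⟩ : ∃ v : X ⟶ pullback (f₀ ≫ g₀) (D.map j.hom), v = (bcCone hX').π.app j :=
    ⟨_, rfl⟩
  obtain ⟨vYj, hvYj⟩ : ∃ v : Y ⟶ pullback g₀ (D.map j.hom), v = (bcCone hY).π.app j := ⟨_, rfl⟩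
  rw [← hvXj] at hxV' hV'Ω
  have hAj : IsPullback (pullback.fst (f₀ ≫ g₀) (D.map j.hom)) (bcHom f₀ g₀ (D.map j.hom)) f₀
      (pullback.fst g₀ (D.map j.hom)) := isPullback_bcHom f₀ g₀ (D.map j.hom)
  have e1 : vXj ≫ pullback.fst (f₀ ≫ g₀) (D.map j.hom) = qX := by
    rw [hvXj]; exact bcCone_π_fst hX' j
  have e2 : vXj ≫ bcHom f₀ g₀ (D.map j.hom) = f ≫ vYj := by
    rw [hvXj, hvYj]; exact bcCone_bcHom D c i₀ f₀ g₀ f g qY qX hY hX' hX.w j
  have h2 : vYj ≫ pullback.fst g₀ (D.map j.hom) = qY := by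
    rw [hvYj]; exact bcCone_π_fst hY j
  have hsqj : IsPullback vXj f (bcHom f₀ g₀ (D.map j.hom)) vYj := by
    have hbig : IsPullback (vXj ≫ pullback.fst (f₀ ≫ g₀) (D.map j.hom)) f f₀
        (vYj ≫ pullback.fst g₀ (D.map j.hom)) := by
      rw [e1, h2]
      exact hX
    exact IsPullback.of_right hbig e2 hAj
  -- charts at the stage `j`
  obtain ⟨_, ⟨Vj, hVj, rfl⟩, hxVj, -⟩ :=
    (pullback g₀ (D.map j.hom)).isBasis_affineOpens.exists_subset_of_mem_open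
      (Set.mem_univ (bcHom f₀ g₀ (D.map j.hom) (vXj x))) isOpen_univ
  obtain ⟨_, ⟨Uj, hUj, rfl⟩, hxUj, hUjle⟩ :=
    (pullback (f₀ ≫ g₀) (D.map j.hom)).isBasis_affineOpens.exists_subset_of_mem_open
      (show vXj x ∈ ((bcHom f₀ g₀ (D.map j.hom) ⁻¹ᵁ Vj ⊓ V' :
        (pullback (f₀ ≫ g₀) (D.map j.hom)).Opens) : Set _) from ⟨hxVj, hxV'⟩)
      (bcHom f₀ g₀ (D.map j.hom) ⁻¹ᵁ Vj ⊓ V').isOpen
  have hUjV : Uj ≤ bcHom f₀ g₀ (D.map j.hom) ⁻¹ᵁ Vj := fun z hz => (hUjle hz).1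
  have hUjV' : Uj ≤ V' := fun z hz => (hUjle hz).2
  haveI : LocallyOfFinitePresentation (bcHom f₀ g₀ (D.map j.hom)) :=
    MorphismProperty.of_isPullback (P := @LocallyOfFinitePresentation) hAj inferInstance
  haveI : ((Scheme.Modules.pullback (pullback.fst (f₀ ≫ g₀) (D.map j.hom))).obj F₀).IsQuasicoherent :=
    Groth.Agent.Lead.PB.isQuasicoherent_pullback _ F₀
  have hFj := Groth.Agent.Lead.LimZ.isFP_pullback (pullback.fst (f₀ ≫ g₀) (D.map j.hom)) F₀ hF₀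
  -- the rebased diagram
  obtain ⟨E'', hE''⟩ : ∃ E'' : Over j ⥤ Scheme.{u}, E'' = Over.forget j ⋙ bcDiagram D i₀ g₀ :=
    ⟨_, rfl⟩
  have hcE'' : IsLimit ((bcCone hY).whisker (Over.forget j)) :=
    (Functor.Initial.isLimitWhiskerEquiv (Over.forget j) (bcCone hY)).symm hcE
  haveI : ∀ {k k' : Over j} (φ : k ⟶ k'),
      IsAffineHom ((Over.forget j ⋙ bcDiagram D i₀ g₀).map φ) := fun φ =>
    (inferInstance : IsAffineHom ((bcDiagram D i₀ g₀).map φ.left))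
  obtain ⟨a'', ha''def⟩ : ∃ a'' : ∀ k : Over j, (Over.forget j ⋙ bcDiagram D i₀ g₀).obj k ⟶
      pullback g₀ (D.map j.hom), a'' = fun k : Over j => (bcDiagram D i₀ g₀).map k.hom := ⟨_, rfl⟩
  haveI : ∀ k : Over j, IsAffineHom (a'' k) := fun k => by
    rw [ha''def]
    exact (inferInstance : IsAffineHom ((bcDiagram D i₀ g₀).map k.hom))
  have hflat' : ∀ x' : X, x' ∈ vXj ⁻¹ᵁ Uj →
      FlatMod.IsFlatOverAt f ((Scheme.Modules.pullback (vXj)).obj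
        ((Scheme.Modules.pullback (pullback.fst (f₀ ≫ g₀) (D.map j.hom))).obj F₀)) x' := by
    intro x' hx'
    have h1 : FlatMod.IsFlatOverAt f ((Scheme.Modules.pullback qX).obj F₀) x' :=
      hV'Ω (show x' ∈ vXj ⁻¹ᵁ V' from hUjV' hx')
    exact ChartSq1.isFlatOverAt_of_iso _
      ((Scheme.Modules.pullbackComp (vXj)
        (pullback.fst (f₀ ≫ g₀) (D.map j.hom))).app F₀ ≪≫
        (Scheme.Modules.pullbackCongr e1).app F₀).symm x' h1
  obtain ⟨k₁, hk₁⟩ := LimFlatD.exists_stage_flat_chart (Over.forget j ⋙ bcDiagram D i₀ g₀)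
    ((bcCone hY).whisker (Over.forget j)) hcE''
    a'' (fun {k k'} φ => by
      rw [ha''def]
      show (bcDiagram D i₀ g₀).map φ.left ≫ (bcDiagram D i₀ g₀).map k'.hom =
        (bcDiagram D i₀ g₀).map k.hom
      rw [← Functor.map_comp, Over.w φ])
    vYj (fun k => by
      rw [ha''def, hvYj]
      exact (bcCone hY).w k.hom)
    (bcHom f₀ g₀ (D.map j.hom))
    ((Scheme.Modules.pullback (pullback.fst (f₀ ≫ g₀) (D.map j.hom))).obj F₀) hVj hUj hUjV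
    (HasRingHomProperty.appLE (P := @LocallyOfFinitePresentation) (bcHom f₀ g₀ (D.map j.hom))
      inferInstance ⟨Vj, hVj⟩ ⟨Uj, hUj⟩ hUjV)
    (Groth.Agent.Lead.FP.fp_sections_of_isFP _ hFj hUj)
    vXj f hsqj hflat'
  -- the stage `l = k₁.left`
  have hAl : IsPullback (pullback.fst (f₀ ≫ g₀) (D.map k₁.left.hom))
      (bcHom f₀ g₀ (D.map k₁.left.hom)) f₀ (pullback.fst g₀ (D.map k₁.left.hom)) :=
    isPullback_bcHom f₀ g₀ (D.map k₁.left.hom)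
  have e3 : (bcDiagram D i₀ (f₀ ≫ g₀)).map k₁.hom ≫ pullback.fst (f₀ ≫ g₀) (D.map j.hom) =
      pullback.fst (f₀ ≫ g₀) (D.map k₁.left.hom) := bcDiagram_map_fst D i₀ (f₀ ≫ g₀) k₁.hom
  have e4 := bcHom_natural D i₀ f₀ g₀ k₁.hom
  have hpb : IsPullback ((bcDiagram D i₀ (f₀ ≫ g₀)).map k₁.hom) (bcHom f₀ g₀ (D.map k₁.left.hom))
      (bcHom f₀ g₀ (D.map j.hom)) (a'' k₁) := by
    rw [ha''def]
    show IsPullback _ _ _ ((bcDiagram D i₀ g₀).map k₁.hom)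
    refine IsPullback.of_right ?_ e4 hAj
    rw [e3, bcDiagram_map_fst D i₀ g₀ k₁.hom]
    exact hAl
  refine ⟨k₁.left.left, k₁.left.hom, pullback (f₀ ≫ g₀) (D.map k₁.left.hom),
    pullback g₀ (D.map k₁.left.hom), bcHom f₀ g₀ (D.map k₁.left.hom),
    pullback.snd g₀ (D.map k₁.left.hom), pullback.fst g₀ (D.map k₁.left.hom),
    pullback.fst (f₀ ≫ g₀) (D.map k₁.left.hom), (bcCone hY).π.app k₁.left,
    (bcCone hX').π.app k₁.left, IsPullback.of_hasPullback _ _, hAl, bcCone_π_fst hY _,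
    bcCone_π_snd hY _, bcCone_π_fst hX' _,
    bcCone_bcHom D c i₀ f₀ g₀ f g qY qX hY hX' hX.w k₁.left, ?_⟩
  have h5 := hk₁ k₁ (𝟙 k₁) _ _ _ hpb ((bcCone hX').π.app k₁.left x) (by
    show ((bcCone hX').π.app k₁.left ≫ (bcDiagram D i₀ (f₀ ≫ g₀)).map k₁.hom) x ∈ Uj
    rw [(bcCone hX').w k₁.hom, ← hvXj]
    exact hxUj)
  exact ChartSq1.isFlatOverAt_of_iso _
    ((Scheme.Modules.pullbackComp ((bcDiagram D i₀ (f₀ ≫ g₀)).map k₁.hom)
      (pullback.fst (f₀ ≫ g₀) (D.map j.hom))).app F₀ ≪≫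
      (Scheme.Modules.pullbackCongr e3).app F₀) _ h5

theorem S4900_main {I : Type u} [SmallCategory I] [IsCofiltered I]
    (D : I ⥤ Scheme.{u}) (c : Limits.Cone D) (hc : Limits.IsLimit c)
    [∀ (i j : I) (φ : i ⟶ j), IsAffineHom (D.map φ)] (i₀ : I)
    {X₀ Y₀ : Scheme.{u}} (f₀ : X₀ ⟶ Y₀) (g₀ : Y₀ ⟶ D.obj i₀)
    [LocallyOfFinitePresentation f₀]
    (F₀ : X₀.Modules) [Coh.IsQCoh F₀] (hF₀ : CohB1.IsFP F₀)
    {X Y : Scheme.{u}} (f : X ⟶ Y) (g : Y ⟶ c.pt) (qY : Y ⟶ Y₀) (qX : X ⟶ X₀)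
    (hY : IsPullback qY g g₀ (c.π.app i₀)) (hX : IsPullback qX f f₀ qY) (x : X) :
    FlatMod.IsFlatOverAt f ((Scheme.Modules.pullback qX).obj F₀) x ↔
      ∃ (i : I) (φ : i ⟶ i₀) (Xi Yi : Scheme.{u}) (fi : Xi ⟶ Yi) (gi : Yi ⟶ D.obj i)
        (pY : Yi ⟶ Y₀) (pX : Xi ⟶ X₀) (vY : Y ⟶ Yi) (vX : X ⟶ Xi),
        IsPullback pY gi g₀ (D.map φ) ∧ IsPullback pX fi f₀ pY ∧
          vY ≫ pY = qY ∧ vY ≫ gi = g ≫ c.π.app i ∧ vX ≫ pX = qX ∧ vX ≫ fi = f ≫ vY ∧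
          FlatMod.IsFlatOverAt fi ((Scheme.Modules.pullback pX).obj F₀) (vX x) := by
  haveI : ∀ {i j : I} (φ : i ⟶ j), IsAffineHom (D.map φ) := fun φ => inferInstance
  constructor
  · exact exists_stage_flatAt D c hc i₀ f₀ g₀ F₀ f g qY qX hY hX hF₀ x
  · rintro ⟨i, φ, Xi, Yi, fi, gi, pY, pX, vY, vX, hYi, hXi, h1, h2, h3, h4, hfl⟩
    exact LimFlatE.flat_of_stage D c i₀ f₀ g₀ F₀ f g qY qX hY hX φ fi gi pY pX hYi hXi vY vX h1 h3
      h4 x hfl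

end Groth.Agent.Lib.Helper4.LimFlatF
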