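import Mathlib
import Groth.Agent.Lib.Lead.FB1
import Groth.Agent.Lib.Lead.BCU3
import Groth.Agent.Lib.Lead.LimZ3

/-!
# Sections of the pullback of a map over a chart of a cartesian square: injectivity via base change (helper4)
-/

set_option backward.isDefEq.respectTransparency.types false
set_option synthInstance.maxHeartbeats 400000
set_option autoImplicit false
set_option linter.unusedSectionVars false
set_option linter.style.haveILetI false
set_option linter.unusedSimpArgs false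
universe u v w
open CategoryTheory CategoryTheory.Limits AlgebraicGeometry TopologicalSpace Topology

namespace Groth.Agent.Lib.Helper4.LimInjB

open TensorProduct Scheme.Modules Groth.Agent.Lead.FO Groth.Agent.Lead.SD Groth.Agent.Lead.FB
  Groth.Agent.Lead.BCU

/-- a map of modules on sections over a chart, as a linear map over the sections of the base -/
noncomputable def overMap {X S : Scheme.{u}} (f : X ⟶ S) {F G : X.Modules} (h : F ⟶ G)
    {US : S.Opens} {UX : X.Opens} (hUSX : UX ≤ f ⁻¹ᵁ US) :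
    @LinearMap Γ(S, US) Γ(S, US) _ _ (RingHom.id _) Γ(F, UX) Γ(G, UX) _ _
      (sectionsOver f F hUSX) (sectionsOver f G hUSX) :=
  letI := sectionsOver f F hUSX
  letI := sectionsOver f G hUSX
  { toFun := h.app UX
    map_add' := fun a b => map_add _ a b
    map_smul' := fun r m => Scheme.Modules.Hom.app_smul h _ m }

theorem overMap_apply {X S : Scheme.{u}} (f : X ⟶ S) {F G : X.Modules} (h : F ⟶ G)
    {US : S.Opens} {UX : X.Opens} (hUSX : UX ≤ f ⁻¹ᵁ US) (m : Γ(F, UX)) :
    overMap f h hUSX m = h.app UX m := rfl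

variable {X S X' S' : Scheme.{u}} {f : X ⟶ S} {f' : X' ⟶ S'} {g' : X' ⟶ X} {g : S' ⟶ S}

set_option maxHeartbeats 1600000 in
/-- sections of the pullback over a chart of a cartesian square are the base change, along the
map of the bases, of the sections over the chart below, compatibly with the unit -/
theorem exists_sections_equiv (hc : IsPullback g' f' f g) (F : X.Modules) [F.IsQuasicoherent]
    {US : S.Opens} {UT : S'.Opens} {UX : X.Opens}
    (hUS : IsAffineOpen US) (hUT : IsAffineOpen UT) (hUX : IsAffineOpen UX)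
    (hUST : UT ≤ g ⁻¹ᵁ US) (hUSX : UX ≤ f ⁻¹ᵁ US) {UY : X'.Opens}
    (hUY : UY = g' ⁻¹ᵁ UX ⊓ f' ⁻¹ᵁ UT) (hYT : UY ≤ f' ⁻¹ᵁ UT) (hYX : UY ≤ g' ⁻¹ᵁ UX) :
    letI a1 : Algebra Γ(S, US) Γ(S', UT) := (g.appLE US UT hUST).hom.toAlgebra
    letI m1 := sectionsOver f F hUSX
    letI m2 := sectionsOver f' ((Scheme.Modules.pullback g').obj F) hYT
    ∃ e : Γ((Scheme.Modules.pullback g').obj F, UY) ≃ₗ[Γ(S', UT)]
      Γ(S', UT) ⊗[Γ(S, US)] Γ(F, UX), ∀ m : Γ(F, UX), e (unitRes g' F hYX m) = 1 ⊗ₜ m := by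
  have hUYa : IsAffineOpen UY := chart_affine hc hUS hUT hUX hUST hUSX hUY
  have hpo := chart_isPushout hc hUS hUT hUX hUST hUSX hUY hYX hYT
  letI a1 : Algebra Γ(S, US) Γ(S', UT) := (g.appLE US UT hUST).hom.toAlgebra
  letI a2 : Algebra Γ(S, US) Γ(X, UX) := (f.appLE US UX hUSX).hom.toAlgebra
  letI a3 : Algebra Γ(S', UT) Γ(X', UY) := (f'.appLE UT UY hYT).hom.toAlgebra
  letI a4 : Algebra Γ(X, UX) Γ(X', UY) := (g'.appLE UX UY hYX).hom.toAlgebra
  letI a5 : Algebra Γ(S, US) Γ(X', UY) :=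
    ((g'.appLE UX UY hYX).hom.comp (f.appLE US UX hUSX).hom).toAlgebra
  haveI t1 : IsScalarTower Γ(S, US) Γ(X, UX) Γ(X', UY) := .of_algebraMap_eq' rfl
  haveI t2 : IsScalarTower Γ(S, US) Γ(S', UT) Γ(X', UY) := .of_algebraMap_eq' (by
    show (g'.appLE UX UY hYX).hom.comp (f.appLE US UX hUSX).hom =
      (f'.appLE UT UY hYT).hom.comp (g.appLE US UT hUST).hom
    have := congrArg CommRingCat.Hom.hom hpo.w
    simpa using this)
  haveI po : Algebra.IsPushout Γ(S, US) Γ(S', UT) Γ(X, UX) Γ(X', UY) := by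
    have hpo' : IsPushout (CommRingCat.ofHom (algebraMap Γ(S, US) Γ(X, UX)))
        (CommRingCat.ofHom (algebraMap Γ(S, US) Γ(S', UT)))
        (CommRingCat.ofHom (algebraMap Γ(X, UX) Γ(X', UY)))
        (CommRingCat.ofHom (algebraMap Γ(S', UT) Γ(X', UY))) := hpo
    exact (CommRingCat.isPushout_iff_isPushout.1 hpo').symm
  letI m1 : Module Γ(S, US) Γ(F, UX) := sectionsOver f F hUSX
  letI m2 : Module Γ(S', UT) Γ((Scheme.Modules.pullback g').obj F, UY) :=
    sectionsOver f' ((Scheme.Modules.pullback g').obj F) hYT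
  haveI t3 : IsScalarTower Γ(S, US) Γ(X, UX) Γ(F, UX) :=
    IsScalarTower.of_algebraMap_smul fun r m => rfl
  haveI t4 : IsScalarTower Γ(S', UT) Γ(X', UY) Γ((Scheme.Modules.pullback g').obj F, UY) :=
    IsScalarTower.of_algebraMap_smul fun r m => rfl
  letI m3 : Module Γ(X, UX) Γ((Scheme.Modules.pullback g').obj F, UY) :=
    Module.compHom _ (g'.appLE UX UY hYX).hom
  haveI t5 : IsScalarTower Γ(X, UX) Γ(X', UY) Γ((Scheme.Modules.pullback g').obj F, UY) :=
    ⟨fun a a' n => by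
      change ((g'.appLE UX UY hYX).hom a * a') • n = (g'.appLE UX UY hYX).hom a • a' • n
      exact mul_smul _ _ _⟩
  obtain ⟨l', hl', hb⟩ := isBC_unitRes g' F hUX hUYa hYX
  refine ⟨(hb.equiv.symm.restrictScalars Γ(S', UT)) ≪≫ₗ
    Algebra.IsPushout.cancelBaseChange Γ(S, US) Γ(S', UT) Γ(X, UX) Γ(X', UY) Γ(F, UX), fun m => ?_⟩
  rw [← hl' m]
  show Algebra.IsPushout.cancelBaseChange Γ(S, US) Γ(S', UT) Γ(X, UX) Γ(X', UY) Γ(F, UX)
    (hb.equiv.symm (l' m)) = _
  rw [hb.equiv_symm_apply, Algebra.IsPushout.cancelBaseChange_tmul]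



/-- comparison of a linear map between base changes with the base change of a linear map -/
theorem lin_compare {A T : Type*} [CommRing A] [CommRing T] [Algebra A T]
    {M N M' N' : Type*} [AddCommGroup M] [Module A M] [AddCommGroup N] [Module A N]
    [AddCommGroup M'] [Module T M'] [AddCommGroup N'] [Module T N']
    (eM : M' ≃ₗ[T] T ⊗[A] M) (eN : N' ≃ₗ[T] T ⊗[A] N) (lM : M → M') (lN : N → N')
    (hM : ∀ m, eM (lM m) = 1 ⊗ₜ m) (hN : ∀ n, eN (lN n) = 1 ⊗ₜ n)
    (ψ : M →ₗ[A] N) (ψ' : M' →ₗ[T] N') (hcomm : ∀ m, ψ' (lM m) = lN (ψ m)) (z : T ⊗[A] M) :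
    eN (ψ' (eM.symm z)) = ψ.baseChange T z := by
  induction z using TensorProduct.induction_on with
  | zero => simp
  | tmul t m =>
    have h1 : (t ⊗ₜ[A] m : T ⊗[A] M) = t • ((1 : T) ⊗ₜ[A] m) := by
      rw [TensorProduct.smul_tmul', smul_eq_mul, mul_one]
    have h2 : eM.symm ((1 : T) ⊗ₜ[A] m) = lM m := by
      rw [LinearEquiv.symm_apply_eq, hM]
    rw [h1, _root_.map_smul, h2, _root_.map_smul, hcomm, _root_.map_smul, hN, _root_.map_smul,
      LinearMap.baseChange_tmul]
  | add x y hx hy => rw [map_add, map_add, map_add, map_add, hx, hy]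

theorem lin_injective_iff {A T : Type*} [CommRing A] [CommRing T] [Algebra A T]
    {M N M' N' : Type*} [AddCommGroup M] [Module A M] [AddCommGroup N] [Module A N]
    [AddCommGroup M'] [Module T M'] [AddCommGroup N'] [Module T N']
    (eM : M' ≃ₗ[T] T ⊗[A] M) (eN : N' ≃ₗ[T] T ⊗[A] N) (lM : M → M') (lN : N → N')
    (hM : ∀ m, eM (lM m) = 1 ⊗ₜ m) (hN : ∀ n, eN (lN n) = 1 ⊗ₜ n)
    (ψ : M →ₗ[A] N) (ψ' : M' →ₗ[T] N') (hcomm : ∀ m, ψ' (lM m) = lN (ψ m)) :
    Function.Injective ψ' ↔ Function.Injective (ψ.lTensor T) := by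
  have key := lin_compare eM eN lM lN hM hN ψ ψ' hcomm
  have hco : ∀ z, ψ.lTensor T z = ψ.baseChange T z := fun z => rfl
  constructor
  · intro h z₁ z₂ hz
    rw [hco, hco, ← key, ← key] at hz
    exact eM.symm.injective (h (eN.injective hz))
  · intro h y₁ y₂ hy
    have h1 : ψ.lTensor T (eM y₁) = ψ.lTensor T (eM y₂) := by
      rw [hco, hco, ← key, ← key, LinearEquiv.symm_apply_apply, LinearEquiv.symm_apply_apply, hy]
    exact eM.injective (h h1)



set_option maxHeartbeats 1600000 in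
/-- injectivity on sections of the pullback of a map over a chart of a cartesian square, in terms
of the base change of the map on sections below -/
theorem sections_injective_iff (hc : IsPullback g' f' f g) {F G : X.Modules} [F.IsQuasicoherent]
    [G.IsQuasicoherent] (h : F ⟶ G)
    {US : S.Opens} {UT : S'.Opens} {UX : X.Opens}
    (hUS : IsAffineOpen US) (hUT : IsAffineOpen UT) (hUX : IsAffineOpen UX)
    (hUST : UT ≤ g ⁻¹ᵁ US) (hUSX : UX ≤ f ⁻¹ᵁ US) {UY : X'.Opens}
    (hUY : UY = g' ⁻¹ᵁ UX ⊓ f' ⁻¹ᵁ UT) (hYT : UY ≤ f' ⁻¹ᵁ UT) :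
    letI a1 : Algebra Γ(S, US) Γ(S', UT) := (g.appLE US UT hUST).hom.toAlgebra
    letI m1 := sectionsOver f F hUSX
    letI m2 := sectionsOver f G hUSX
    Function.Injective (((Scheme.Modules.pullback g').map h).app UY) ↔
      Function.Injective ((overMap f h hUSX).lTensor Γ(S', UT)) := by
  have hYX : UY ≤ g' ⁻¹ᵁ UX := by rw [hUY]; exact inf_le_left
  letI a1 : Algebra Γ(S, US) Γ(S', UT) := (g.appLE US UT hUST).hom.toAlgebra
  letI m1 := sectionsOver f F hUSX
  letI m2 := sectionsOver f G hUSX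
  letI m3 := sectionsOver f' ((Scheme.Modules.pullback g').obj F) hYT
  letI m4 := sectionsOver f' ((Scheme.Modules.pullback g').obj G) hYT
  obtain ⟨eF, heF⟩ := exists_sections_equiv hc F hUS hUT hUX hUST hUSX hUY hYT hYX
  obtain ⟨eG, heG⟩ := exists_sections_equiv hc G hUS hUT hUX hUST hUSX hUY hYT hYX
  exact lin_injective_iff eF eG (unitRes g' F hYX) (unitRes g' G hYX) heF heG
    (overMap f h hUSX) (overMap f' ((Scheme.Modules.pullback g').map h) hYT)
    (fun m => Groth.Agent.Lead.LimZ.unitRes_naturality g' h hYX m)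

end Groth.Agent.Lib.Helper4.LimInjB
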