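import Mathlib
import Groth.Agent.Lib.Helper3.KerFP1
import Groth.Agent.Lib.Helper4.RelEffCartierFlat1

/-!
# Finitely many obstructions to universal injectivity of a map with flat finitely presented cokernel (helper4)
-/

set_option backward.isDefEq.respectTransparency.types false
set_option synthInstance.maxHeartbeats 400000
set_option autoImplicit false
set_option linter.unusedSectionVars false
set_option linter.style.haveILetI false
set_option linter.unusedSimpArgs false
universe u v w
open CategoryTheory CategoryTheory.Limits AlgebraicGeometry TopologicalSpace Topology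

namespace Groth.Agent.Lib.Helper4.LimInjD

open TensorProduct

/-- **finitely many obstructions to universal injectivity**: for a finitely presented algebra
`B₁` over `A₁`, a map `h₁ : M₁ → N₁` of `B₁`-modules (`M₁` finite, `N₁` finitely presented) whose
cokernel `Q₁` is finitely presented and flat over `A₁`, there are finitely many elements of the
kernel of `h₁` such that, for any `A₁`-algebra `T` in which they die, `T ⊗ h₁` is injective. -/
theorem exists_finset_ker (A₁ B₁ : Type u) [CommRing A₁] [CommRing B₁] [Algebra A₁ B₁]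
    [Algebra.FinitePresentation A₁ B₁]
    {M₁ N₁ Q₁ : Type u} [AddCommGroup M₁] [Module B₁ M₁] [Module A₁ M₁] [IsScalarTower A₁ B₁ M₁]
    [Module.Finite B₁ M₁]
    [AddCommGroup N₁] [Module B₁ N₁] [Module A₁ N₁] [IsScalarTower A₁ B₁ N₁]
    [Module.FinitePresentation B₁ N₁]
    [AddCommGroup Q₁] [Module B₁ Q₁] [Module A₁ Q₁] [IsScalarTower A₁ B₁ Q₁]
    [Module.FinitePresentation B₁ Q₁] [Module.Flat A₁ Q₁]
    (h₁ : M₁ →ₗ[B₁] N₁) (π₁ : N₁ →ₗ[B₁] Q₁) (hex : Function.Exact h₁ π₁)
    (hsurj : Function.Surjective π₁) :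
    ∃ S : Finset M₁, (∀ κ ∈ S, h₁ κ = 0) ∧ ∀ (T : Type u) [CommRing T] [Algebra A₁ T],
      (∀ κ ∈ S, (1 : T) ⊗ₜ[A₁] κ = 0) →
        Function.Injective ((h₁.restrictScalars A₁).lTensor T) := by
  haveI hI : Module.FinitePresentation B₁ ↥(LinearMap.ker π₁) :=
    Groth.Agent.Helper3.KerFP.fp_ker_of_surjective_of_flat A₁ B₁ π₁ hsurj
  let p : M₁ →ₗ[B₁] ↥(LinearMap.ker π₁) :=
    h₁.codRestrict (LinearMap.ker π₁) (fun m => hex.apply_apply_eq_zero m)
  have hp : Function.Surjective p := by
    rintro ⟨n, hn⟩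
    obtain ⟨m, rfl⟩ := (hex n).1 hn
    exact ⟨m, rfl⟩
  have hfg : (LinearMap.ker p).FG := Module.FinitePresentation.fg_ker p hp
  obtain ⟨S, hS⟩ := hfg
  refine ⟨S, ?_, ?_⟩
  · intro κ hκ
    have h1 : κ ∈ LinearMap.ker p := hS ▸ Submodule.subset_span hκ
    exact congrArg Subtype.val (LinearMap.mem_ker.1 h1)
  · intro T _ _ hT
    haveI : SMulCommClass B₁ A₁ M₁ := IsScalarTower.to_smulCommClass'
    let Z : Submodule B₁ M₁ :=
      { carrier := {m | (1 : T) ⊗ₜ[A₁] m = 0}
        add_mem' := fun {a b} ha hb => by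
          show (1 : T) ⊗ₜ[A₁] (a + b) = 0
          rw [TensorProduct.tmul_add, ha, hb, add_zero]
        zero_mem' := TensorProduct.tmul_zero _ _
        smul_mem' := fun b m hm => by
          show (1 : T) ⊗ₜ[A₁] (b • m) = 0
          have h1 : (1 : T) ⊗ₜ[A₁] (b • m) =
              ((DistribSMul.toLinearMap A₁ M₁ b).lTensor T) ((1 : T) ⊗ₜ[A₁] m) := rfl
          rw [h1, hm, map_zero] }
    have hZ : LinearMap.ker p ≤ Z := by
      rw [← hS]
      exact Submodule.span_le.2 (fun κ hκ => hT κ hκ)
    let ι : ↥(LinearMap.ker π₁) →ₗ[A₁] N₁ := (LinearMap.ker π₁).subtype.restrictScalars A₁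
    have hι : Function.Injective (ι.lTensor T) :=
      Groth.Agent.Lib.Helper4.RelEffCartierFlat1.lTensor_injective_of_flat_coker ι
        (π₁.restrictScalars A₁) (LinearMap.exact_subtype_ker_map π₁) hsurj
        Subtype.val_injective T
    have hfac : (h₁.restrictScalars A₁).lTensor T =
        (ι.lTensor T) ∘ₗ ((p.restrictScalars A₁).lTensor T) := by
      rw [← LinearMap.lTensor_comp]
      rfl
    rw [hfac]
    refine hι.comp ?_
    have hexp : Function.Exact ((LinearMap.ker p).subtype.restrictScalars A₁)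
        (p.restrictScalars A₁) := LinearMap.exact_subtype_ker_map p
    have hex2 := lTensor_exact T hexp hp
    rw [injective_iff_map_eq_zero]
    intro y hy
    obtain ⟨w, rfl⟩ := (hex2 y).1 hy
    clear hy
    induction w using TensorProduct.induction_on with
    | zero => simp
    | tmul t κ =>
      rw [LinearMap.lTensor_tmul]
      have h1 : (1 : T) ⊗ₜ[A₁] (κ : M₁) = 0 := hZ κ.2
      have h2 : t ⊗ₜ[A₁] (κ : M₁) = t • ((1 : T) ⊗ₜ[A₁] (κ : M₁)) := by
        rw [TensorProduct.smul_tmul', smul_eq_mul, mul_one]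
      exact h2.trans (by rw [h1, smul_zero])
    | add x y hx hy =>
      rw [map_add, hx, hy, add_zero]

end Groth.Agent.Lib.Helper4.LimInjD
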