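import Mathlib
import Groth.Agent.Lib.Lead.LimZ3

/-!
# Elements of a module over sections of a stage dying on the limit die at a later stage (helper4)
-/

set_option backward.isDefEq.respectTransparency.types false
set_option synthInstance.maxHeartbeats 400000
set_option autoImplicit false
set_option linter.unusedSectionVars false
set_option linter.style.haveILetI false
set_option linter.unusedSimpArgs false
universe u v w
open CategoryTheory CategoryTheory.Limits AlgebraicGeometry TopologicalSpace Topology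

namespace Groth.Agent.Lib.Helper4.LimInjE

open TensorProduct Groth.Agent.Lead.LimZ

/-- vanishing of `t ⊗ 1` passes along a ring homomorphism of algebras -/
theorem tmul_one_eq_zero_of_ringHom {A B B' : Type*} [CommRing A] [CommRing B] [CommRing B']
    (φ : A →+* B) (φ' : A →+* B') (σ : B →+* B') (hσ : σ.comp φ = φ')
    {M : Type*} [AddCommGroup M] [Module A M] (t : M)
    (h : letI := φ.toAlgebra; t ⊗ₜ[A] (1 : B) = 0) :
    letI := φ'.toAlgebra; t ⊗ₜ[A] (1 : B') = 0 := by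
  letI := φ.toAlgebra
  letI := φ'.toAlgebra
  let σ' : B →ₐ[A] B' :=
    { toRingHom := σ
      commutes' := fun a => by
        have := congrArg (fun ψ : A →+* B' => ψ a) hσ
        exact this }
  have h1 := congrArg (LinearMap.lTensor M σ'.toLinearMap) h
  rw [LinearMap.lTensor_tmul, map_zero] at h1
  have h2 : σ'.toLinearMap (1 : B) = 1 := map_one σ
  rw [h2] at h1
  exact h1

/-- `1 ⊗ t = 0` from `t ⊗ 1 = 0` -/
theorem one_tmul_eq_zero_of_tmul_one {A B : Type*} [CommRing A] [CommRing B] [Algebra A B]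
    {M : Type*} [AddCommGroup M] [Module A M] (t : M) (h : t ⊗ₜ[A] (1 : B) = 0) :
    (1 : B) ⊗ₜ[A] t = 0 := by
  have h2 := congrArg (TensorProduct.comm A M B) h
  rw [TensorProduct.comm_tmul, map_zero] at h2
  exact h2

theorem tmul_one_eq_zero_of_one_tmul {A B : Type*} [CommRing A] [CommRing B] [Algebra A B]
    {M : Type*} [AddCommGroup M] [Module A M] (t : M) (h : (1 : B) ⊗ₜ[A] t = 0) :
    t ⊗ₜ[A] (1 : B) = 0 := by
  have h2 := congrArg (TensorProduct.comm A B M) h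
  rw [TensorProduct.comm_tmul, map_zero] at h2
  exact h2

variable {K : Type u} [SmallCategory K] [IsCofiltered K] (E : K ⥤ Scheme.{u}) (cE : Cone E)
  (hcE : IsLimit cE) [∀ {i j : K} (φ : i ⟶ j), IsAffineHom (E.map φ)]

set_option maxHeartbeats 1600000 in
include hcE in
/-- an element of a module over the sections over an affine open of a stage which dies after
base change to the sections of the limit dies after base change to the sections of a later stage -/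
theorem exists_stage_tmul_eq_zero (k₁ : K) {W : (E.obj k₁).Opens} (hW : IsAffineOpen W)
    {M : Type u} [AddCommGroup M] [Module Γ(E.obj k₁, W) M] (t : M)
    (ht : letI : Algebra Γ(E.obj k₁, W) Γ(cE.pt, cE.π.app k₁ ⁻¹ᵁ W) :=
        ((cE.π.app k₁).appLE W (cE.π.app k₁ ⁻¹ᵁ W) le_rfl).hom.toAlgebra
      t ⊗ₜ[Γ(E.obj k₁, W)] (1 : Γ(cE.pt, cE.π.app k₁ ⁻¹ᵁ W)) = 0) :
    ∃ j : Over k₁, letI := ((E.map j.hom).appLE W (E.map j.hom ⁻¹ᵁ W) le_rfl).hom.toAlgebra
      t ⊗ₜ[Γ(E.obj k₁, W)] (1 : Γ(E.obj j.left, E.map j.hom ⁻¹ᵁ W)) = 0 := by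
  haveI : ∀ (i j : K) (f : i ⟶ j), IsAffineHom (E.map f) := fun _ _ f => inferInstance
  letI : ∀ j : Over k₁, Algebra Γ(E.obj k₁, W) Γ(E.obj j.left, E.map j.hom ⁻¹ᵁ W) :=
    fun j => ((E.map j.hom).appLE W _ le_rfl).hom.toAlgebra
  letI : Algebra Γ(E.obj k₁, W) Γ(cE.pt, cE.π.app k₁ ⁻¹ᵁ W) :=
    ((cE.π.app k₁).appLE W _ le_rfl).hom.toAlgebra
  let τ : ∀ {j k : Over k₁}, (k ⟶ j) → (Γ(E.obj j.left, E.map j.hom ⁻¹ᵁ W) →ₐ[Γ(E.obj k₁, W)]
      Γ(E.obj k.left, E.map k.hom ⁻¹ᵁ W)) :=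
    fun {j k} f =>
      { toRingHom := ((E.map f.left).appLE _ _ (le_map E k₁ W f)).hom
        commutes' := fun a => by
          refine appLE_comp_eq (E.map f.left) (E.map j.hom) (E.map k.hom) ?_ _ _ _ a
          rw [← E.map_comp, Over.w f] }
  let ρ : ∀ j : Over k₁, (Γ(E.obj j.left, E.map j.hom ⁻¹ᵁ W) →ₐ[Γ(E.obj k₁, W)]
      Γ(cE.pt, cE.π.app k₁ ⁻¹ᵁ W)) :=
    fun j =>
      { toRingHom := ((cE.π.app j.left).appLE _ _ (le_pi E cE k₁ W j)).hom
        commutes' := fun a => by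
          refine appLE_comp_eq (cE.π.app j.left) (E.map j.hom) (cE.π.app k₁) ?_ _ _ _ a
          exact cE.w j.hom }
  have hτ : ∀ {j k l : Over k₁} (f : k ⟶ j) (g : l ⟶ k) (x : Γ(E.obj j.left, E.map j.hom ⁻¹ᵁ W)),
      τ (g ≫ f) x = τ g (τ f x) := by
    intro j k l f g x
    refine (appLE_comp_eq (E.map g.left) (E.map f.left) (E.map (g ≫ f).left) ?_ _ _ _ x).symm
    rw [← E.map_comp]
    rfl
  have hρ : ∀ {j k : Over k₁} (f : k ⟶ j) (x : Γ(E.obj j.left, E.map j.hom ⁻¹ᵁ W)),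
      ρ k (τ f x) = ρ j x := by
    intro j k f x
    refine appLE_comp_eq (cE.π.app k.left) (E.map f.left) (cE.π.app j.left) ?_ _ _ _ x
    exact cE.w f.left
  exact exists_tmul_one_eq_zero
    (fun j : Over k₁ => Γ(E.obj j.left, E.map j.hom ⁻¹ᵁ W)) τ hτ ρ hρ
    (fun b => hsurj_rings E cE hcE k₁ W hW b)
    (fun j x hx => hzero_rings E cE hcE k₁ W hW j x hx) t ht


omit [IsCofiltered K] [∀ {i j : K} (φ : i ⟶ j), IsAffineHom (E.map φ)] in
/-- vanishing at a stage persists at later stages -/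
theorem stage_tmul_mono (k₁ : K) (W : (E.obj k₁).Opens)
    {M : Type u} [AddCommGroup M] [Module Γ(E.obj k₁, W) M] {j k : Over k₁} (f : k ⟶ j) (t : M)
    (h : letI := ((E.map j.hom).appLE W (E.map j.hom ⁻¹ᵁ W) le_rfl).hom.toAlgebra
      t ⊗ₜ[Γ(E.obj k₁, W)] (1 : Γ(E.obj j.left, E.map j.hom ⁻¹ᵁ W)) = 0) :
    letI := ((E.map k.hom).appLE W (E.map k.hom ⁻¹ᵁ W) le_rfl).hom.toAlgebra
    t ⊗ₜ[Γ(E.obj k₁, W)] (1 : Γ(E.obj k.left, E.map k.hom ⁻¹ᵁ W)) = 0 := by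
  refine tmul_one_eq_zero_of_ringHom ((E.map j.hom).appLE W (E.map j.hom ⁻¹ᵁ W) le_rfl).hom
    ((E.map k.hom).appLE W (E.map k.hom ⁻¹ᵁ W) le_rfl).hom
    ((E.map f.left).appLE _ _ (le_map E k₁ W f)).hom ?_ t h
  ext a
  refine appLE_comp_eq (E.map f.left) (E.map j.hom) (E.map k.hom) ?_ _ _ _ a
  rw [← E.map_comp, Over.w f]

include hcE in
/-- finitely many elements dying on the limit die at a common stage -/
theorem exists_stage_tmul_eq_zero_finset (k₁ : K) {W : (E.obj k₁).Opens} (hW : IsAffineOpen W)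
    {M : Type u} [AddCommGroup M] [Module Γ(E.obj k₁, W) M] (S : Finset M)
    (hS : ∀ t ∈ S, letI : Algebra Γ(E.obj k₁, W) Γ(cE.pt, cE.π.app k₁ ⁻¹ᵁ W) :=
        ((cE.π.app k₁).appLE W (cE.π.app k₁ ⁻¹ᵁ W) le_rfl).hom.toAlgebra
      t ⊗ₜ[Γ(E.obj k₁, W)] (1 : Γ(cE.pt, cE.π.app k₁ ⁻¹ᵁ W)) = 0) :
    ∃ j : Over k₁, ∀ t ∈ S,
      letI := ((E.map j.hom).appLE W (E.map j.hom ⁻¹ᵁ W) le_rfl).hom.toAlgebra
      t ⊗ₜ[Γ(E.obj k₁, W)] (1 : Γ(E.obj j.left, E.map j.hom ⁻¹ᵁ W)) = 0 :=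
  exists_common (J := Over k₁)
    (fun (j : Over k₁) (t : M) =>
      letI := ((E.map j.hom).appLE W (E.map j.hom ⁻¹ᵁ W) le_rfl).hom.toAlgebra
      t ⊗ₜ[Γ(E.obj k₁, W)] (1 : Γ(E.obj j.left, E.map j.hom ⁻¹ᵁ W)) = 0)
    (fun {j k} f t h => stage_tmul_mono E k₁ W f t h) S
    (fun t ht => exists_stage_tmul_eq_zero E cE hcE k₁ hW t (hS t ht))

end Groth.Agent.Lib.Helper4.LimInjE
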