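import Mathlib
import Groth.Agent.Lib.Helper4.LimInjB
import Groth.Agent.Lib.Helper4.LimInjC
import Groth.Agent.Lib.Helper4.LimInjD
import Groth.Agent.Lib.Helper4.LimInjE
import Groth.Agent.Lib.Lead.LimZ4

/-!
# Injectivity with flat cokernel over a chart descends to a stage of a cofiltered limit (helper4)
-/

set_option backward.isDefEq.respectTransparency.types false
set_option synthInstance.maxHeartbeats 400000
set_option autoImplicit false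
set_option linter.unusedSectionVars false
set_option linter.style.haveILetI false
set_option linter.unusedSimpArgs false
universe u v w
open CategoryTheory CategoryTheory.Limits AlgebraicGeometry TopologicalSpace Topology

namespace Groth.Agent.Lib.Helper4.LimInjF

open TensorProduct Opposite Scheme.Modules Groth.Agent.Lead.FO Groth.Agent.Lead.SD
  Groth.Agent.Lib.Helper4.LimFlatA Groth.Agent.Lib.Helper4.LimFlatC Groth.Agent.Lib.Helper4.LimFlatD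
  Groth.Agent.Lib.Helper4.LimInjA Groth.Agent.Lib.Helper4.LimInjB Groth.Agent.Lib.Helper4.LimInjC
  Groth.Agent.Lib.Helper4.LimInjD Groth.Agent.Lib.Helper4.LimInjE
  Groth.Agent.Helper3.KerFP Groth.Agent.Helper3.RelFPS

section StalkOnly
variable {X : Scheme.{u}}

/-- injectivity of the stalk map is invariant under isomorphisms of arrows -/
theorem stalkInj_of_iso {F G F' G' : X.Modules} (h : F ⟶ G) (h' : F' ⟶ G') (e₁ : F ≅ F')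
    (e₂ : G ≅ G') (hw : h ≫ e₂.hom = e₁.hom ≫ h') (x : X) (H : Function.Injective (stk h x)) :
    Function.Injective (stk h' x) := by
  have hh' : h' = e₁.inv ≫ h ≫ e₂.hom := by
    rw [hw, Iso.inv_hom_id_assoc]
  intro a b hab
  rw [hh', stk_comp, stk_comp, stk_comp, stk_comp] at hab
  have h1 := H (stk_injective_of_mono e₂.hom x hab)
  exact stk_injective_of_mono e₁.inv x h1

theorem stalkInj_pullback_comp {X₀ X1 : Scheme.{u}} (p2 : X ⟶ X1)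
    (p1 : X1 ⟶ X₀) (q : X ⟶ X₀) (hq : p2 ≫ p1 = q) {F₀ G₀ : X₀.Modules} (h₀ : F₀ ⟶ G₀)
    (x : X)
    (H : Function.Injective (stk ((Scheme.Modules.pullback p2).map
      ((Scheme.Modules.pullback p1).map h₀)) x)) :
    Function.Injective (stk ((Scheme.Modules.pullback q).map h₀) x) :=
  stalkInj_of_iso _ _
    ((Scheme.Modules.pullbackComp p2 p1 ≪≫ Scheme.Modules.pullbackCongr hq).app F₀)
    ((Scheme.Modules.pullbackComp p2 p1 ≪≫ Scheme.Modules.pullbackCongr hq).app G₀)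
    ((Scheme.Modules.pullbackComp p2 p1 ≪≫ Scheme.Modules.pullbackCongr hq).hom.naturality h₀) x H

end StalkOnly

variable {K : Type u} [SmallCategory K] [IsCofiltered K] (E : K ⥤ Scheme.{u}) (cE : Cone E)
  (hcE : IsLimit cE) [∀ {i j : K} (φ : i ⟶ j), IsAffineHom (E.map φ)]
  {Y₀ : Scheme.{u}} (a : ∀ k, E.obj k ⟶ Y₀)
  (ha : ∀ {i j : K} (φ : i ⟶ j), E.map φ ≫ a j = a i) [∀ k, IsAffineHom (a k)]
  (b : cE.pt ⟶ Y₀) (hb : ∀ k, cE.π.app k ≫ a k = b)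

set_option maxHeartbeats 3200000 in
include hcE ha hb in
theorem exists_stage_injFlat_chart {X₀ : Scheme.{u}} (f₀ : X₀ ⟶ Y₀)
    [LocallyOfFinitePresentation f₀]
    {F₀ G₀ : X₀.Modules} [F₀.IsQuasicoherent] [G₀.IsQuasicoherent] (hF₀ : CohB1.IsFP F₀)
    (hG₀ : CohB1.IsFP G₀) (h₀ : F₀ ⟶ G₀)
    {V₀ : Y₀.Opens} (hV₀ : IsAffineOpen V₀) {U₀ : X₀.Opens} (hU₀ : IsAffineOpen U₀)
    (hUV₀ : U₀ ≤ f₀ ⁻¹ᵁ V₀)
    {X : Scheme.{u}} (qX : X ⟶ X₀) (f : X ⟶ cE.pt) (hX : IsPullback qX f f₀ b)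
    (H : ∀ x : X, x ∈ qX ⁻¹ᵁ U₀ → InjFlatAt f ((Scheme.Modules.pullback qX).map h₀) x) :
    ∃ k₂ : K, ∀ (k : K) (_ : k ⟶ k₂) (Xk : Scheme.{u}) (pX : Xk ⟶ X₀) (fk : Xk ⟶ E.obj k)
      (_ : IsPullback pX fk f₀ (a k)) (z : Xk), z ∈ pX ⁻¹ᵁ U₀ →
      InjFlatAt fk ((Scheme.Modules.pullback pX).map h₀) z := by
  -- Step A: the cokernel is flat at a stage
  haveI hQqc : (cokernel h₀).IsQuasicoherent :=
    Groth.Agent.Helper1.QcAbel.isQuasicoherent_cokernel h₀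
  have hQ₀ : CohB1.IsFP (cokernel h₀) := isFP_cokernel h₀ hG₀ hF₀
  have hflatQ : ∀ x : X, x ∈ qX ⁻¹ᵁ U₀ →
      FlatMod.IsFlatOverAt f ((Scheme.Modules.pullback qX).obj (cokernel h₀)) x :=
    fun x hx => (isFlatOverAt_coker_pullback_iff qX f h₀ x).1 (H x hx).2
  obtain ⟨k₁, hk₁⟩ := exists_stage_flat_chart E cE hcE a ha b hb f₀ (cokernel h₀) hV₀ hU₀ hUV₀
    (HasRingHomProperty.appLE (P := @LocallyOfFinitePresentation) f₀ inferInstance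
      ⟨V₀, hV₀⟩ ⟨U₀, hU₀⟩ hUV₀)
    (Groth.Agent.Lead.FP.fp_sections_of_isFP _ hQ₀ hU₀) qX f hX hflatQ
  -- Step B: the stage `k₁`
  obtain ⟨X₁, p₁, f₁, hpb₁⟩ : ∃ (X₁ : Scheme.{u}) (p₁ : X₁ ⟶ X₀) (f₁ : X₁ ⟶ E.obj k₁),
      IsPullback p₁ f₁ f₀ (a k₁) := ⟨_, _, _, IsPullback.of_hasPullback f₀ (a k₁)⟩
  haveI : LocallyOfFinitePresentation f₁ :=
    MorphismProperty.of_isPullback (P := @LocallyOfFinitePresentation) hpb₁ inferInstance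
  obtain ⟨V₁, hV₁def⟩ : ∃ V₁ : (E.obj k₁).Opens, V₁ = a k₁ ⁻¹ᵁ V₀ := ⟨_, rfl⟩
  have hV₁ : IsAffineOpen V₁ := hV₁def ▸ hV₀.preimage (a k₁)
  obtain ⟨U₁, hU₁def⟩ : ∃ U₁ : X₁.Opens, U₁ = p₁ ⁻¹ᵁ U₀ ⊓ f₁ ⁻¹ᵁ V₁ := ⟨_, rfl⟩
  have hU₁ : IsAffineOpen U₁ :=
    Groth.Agent.Lead.FB.chart_affine hpb₁ hV₀ hV₁ hU₀ (le_of_eq hV₁def) hUV₀ hU₁def
  have hU₁V₁ : U₁ ≤ f₁ ⁻¹ᵁ V₁ := by rw [hU₁def]; exact inf_le_right
  have hU₁U₀ : U₁ ≤ p₁ ⁻¹ᵁ U₀ := by rw [hU₁def]; exact inf_le_left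
  haveI : ((Scheme.Modules.pullback p₁).obj F₀).IsQuasicoherent :=
    Groth.Agent.Lead.PB.isQuasicoherent_pullback p₁ F₀
  haveI : ((Scheme.Modules.pullback p₁).obj G₀).IsQuasicoherent :=
    Groth.Agent.Lead.PB.isQuasicoherent_pullback p₁ G₀
  have hF₁ := Groth.Agent.Lead.LimZ.isFP_pullback p₁ F₀ hF₀
  have hG₁ := Groth.Agent.Lead.LimZ.isFP_pullback p₁ G₀ hG₀
  obtain ⟨h₁, hh₁⟩ : ∃ h₁ : (Scheme.Modules.pullback p₁).obj F₀ ⟶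
      (Scheme.Modules.pullback p₁).obj G₀, h₁ = (Scheme.Modules.pullback p₁).map h₀ := ⟨_, rfl⟩
  haveI : (cokernel h₁).IsQuasicoherent :=
    Groth.Agent.Helper1.QcAbel.isQuasicoherent_cokernel h₁
  have hQ₁ : CohB1.IsFP (cokernel h₁) := isFP_cokernel h₁ hG₁ hF₁
  have hfl₁ : ∀ z : X₁, z ∈ U₁ → FlatMod.IsFlatOverAt f₁ (cokernel h₁) z := fun z hz => by
    rw [hh₁]
    exact (isFlatOverAt_coker_pullback_iff p₁ f₁ h₀ z).2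
      (hk₁ k₁ (𝟙 k₁) X₁ p₁ f₁ hpb₁ z (hU₁U₀ hz))
  have hflat₁ : @Module.Flat Γ(E.obj k₁, V₁) Γ(cokernel h₁, U₁) _ _
      (sectionsOver f₁ (cokernel h₁) hU₁V₁) :=
    flat_sectionsOver_of_isFlatOverAt f₁ _ hU₁ hV₁ hU₁V₁ (fun z => hfl₁ z.1 z.2)
  letI a1 : Algebra Γ(E.obj k₁, V₁) Γ(X₁, U₁) := (f₁.appLE V₁ U₁ hU₁V₁).hom.toAlgebra
  letI mF := sectionsOver f₁ ((Scheme.Modules.pullback p₁).obj F₀) hU₁V₁
  letI mG := sectionsOver f₁ ((Scheme.Modules.pullback p₁).obj G₀) hU₁V₁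
  letI mQ := sectionsOver f₁ (cokernel h₁) hU₁V₁
  haveI tF : IsScalarTower Γ(E.obj k₁, V₁) Γ(X₁, U₁) Γ((Scheme.Modules.pullback p₁).obj F₀, U₁) :=
    IsScalarTower.of_algebraMap_smul fun r m => rfl
  haveI tG : IsScalarTower Γ(E.obj k₁, V₁) Γ(X₁, U₁) Γ((Scheme.Modules.pullback p₁).obj G₀, U₁) :=
    IsScalarTower.of_algebraMap_smul fun r m => rfl
  haveI tQ : IsScalarTower Γ(E.obj k₁, V₁) Γ(X₁, U₁) Γ(cokernel h₁, U₁) :=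
    IsScalarTower.of_algebraMap_smul fun r m => rfl
  haveI : Algebra.FinitePresentation Γ(E.obj k₁, V₁) Γ(X₁, U₁) :=
    HasRingHomProperty.appLE (P := @LocallyOfFinitePresentation) f₁ inferInstance
      ⟨V₁, hV₁⟩ ⟨U₁, hU₁⟩ hU₁V₁
  haveI : Module.FinitePresentation Γ(X₁, U₁) Γ((Scheme.Modules.pullback p₁).obj F₀, U₁) :=
    Groth.Agent.Lead.FP.fp_sections_of_isFP _ hF₁ hU₁
  haveI : Module.FinitePresentation Γ(X₁, U₁) Γ((Scheme.Modules.pullback p₁).obj G₀, U₁) :=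
    Groth.Agent.Lead.FP.fp_sections_of_isFP _ hG₁ hU₁
  haveI : Module.FinitePresentation Γ(X₁, U₁) Γ(cokernel h₁, U₁) :=
    Groth.Agent.Lead.FP.fp_sections_of_isFP _ hQ₁ hU₁
  haveI := hflat₁
  obtain ⟨S, hS0, hS⟩ := exists_finset_ker Γ(E.obj k₁, V₁) Γ(X₁, U₁) (appₗ h₁ U₁)
    (appₗ (cokernel.π h₁) U₁) (appₗ_cokernel_exact h₁ hU₁) (appₗ_cokernel_π_surjective h₁ hU₁)
  have hover : (appₗ h₁ U₁).restrictScalars Γ(E.obj k₁, V₁) = overMap f₁ h₁ hU₁V₁ := rfl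
  rw [hover] at hS
  -- Step C: the limit
  obtain ⟨v₁, hv₁p, hv₁f⟩ : ∃ v₁ : X ⟶ X₁, v₁ ≫ p₁ = qX ∧ v₁ ≫ f₁ = f ≫ cE.π.app k₁ :=
    ⟨hpb₁.lift qX (f ≫ cE.π.app k₁) (by rw [Category.assoc, hb k₁]; exact hX.w),
      hpb₁.lift_fst _ _ _, hpb₁.lift_snd _ _ _⟩
  have hsq₁ : IsPullback v₁ f f₁ (cE.π.app k₁) := by
    refine IsPullback.of_right ?_ hv₁f hpb₁
    rw [hv₁p, hb k₁]
    exact hX
  haveI : IsAffineHom (cE.π.app k₁) := isAffineHom_π_app E cE hcE k₁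
  have hVa : IsAffineOpen (cE.π.app k₁ ⁻¹ᵁ V₁) := hV₁.preimage (cE.π.app k₁)
  obtain ⟨UY, hUYdef⟩ : ∃ UY : X.Opens, UY = v₁ ⁻¹ᵁ U₁ ⊓ f ⁻¹ᵁ (cE.π.app k₁ ⁻¹ᵁ V₁) := ⟨_, rfl⟩
  have hUYa : IsAffineOpen UY :=
    Groth.Agent.Lead.FB.chart_affine hsq₁ hV₁ hVa hU₁ le_rfl hU₁V₁ hUYdef
  have hUYT : UY ≤ f ⁻¹ᵁ (cE.π.app k₁ ⁻¹ᵁ V₁) := by rw [hUYdef]; exact inf_le_right
  have hUYq : UY ≤ qX ⁻¹ᵁ U₀ := by
    intro x hx
    rw [hUYdef] at hx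
    have h1 : v₁ x ∈ U₁ := hx.1
    have h2 : p₁ (v₁ x) ∈ U₀ := hU₁U₀ h1
    show qX x ∈ U₀
    rw [← hv₁p]
    exact h2
  haveI : ((Scheme.Modules.pullback v₁).obj ((Scheme.Modules.pullback p₁).obj F₀)).IsQuasicoherent :=
    Groth.Agent.Lead.PB.isQuasicoherent_pullback v₁ _
  haveI : ((Scheme.Modules.pullback v₁).obj ((Scheme.Modules.pullback p₁).obj G₀)).IsQuasicoherent :=
    Groth.Agent.Lead.PB.isQuasicoherent_pullback v₁ _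
  have Hv : ∀ x : X, x ∈ UY → InjFlatAt f ((Scheme.Modules.pullback v₁).map h₁) x :=
    fun x hx => by
      rw [hh₁]
      exact (injFlatAt_pullback_comp_iff f v₁ p₁ qX hv₁p h₀ x).2 (H x (hUYq hx))
  have hinjY := (sections_of_injFlatAt f ((Scheme.Modules.pullback v₁).map h₁) hUYa hVa hUYT Hv).1
  have hinjT := (sections_injective_iff hsq₁ h₁ hV₁ hVa hU₁ le_rfl hU₁V₁ hUYdef hUYT).1 hinjY
  -- the finitely many obstructions die on the limit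
  have hSlim : ∀ t ∈ S, letI : Algebra Γ(E.obj k₁, V₁) Γ(cE.pt, cE.π.app k₁ ⁻¹ᵁ V₁) :=
        ((cE.π.app k₁).appLE V₁ (cE.π.app k₁ ⁻¹ᵁ V₁) le_rfl).hom.toAlgebra
      t ⊗ₜ[Γ(E.obj k₁, V₁)] (1 : Γ(cE.pt, cE.π.app k₁ ⁻¹ᵁ V₁)) = 0 := by
    intro t ht
    letI : Algebra Γ(E.obj k₁, V₁) Γ(cE.pt, cE.π.app k₁ ⁻¹ᵁ V₁) :=
        ((cE.π.app k₁).appLE V₁ (cE.π.app k₁ ⁻¹ᵁ V₁) le_rfl).hom.toAlgebra
    apply tmul_one_eq_zero_of_one_tmul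
    apply hinjT
    rw [map_zero, LinearMap.lTensor_tmul, overMap_apply]
    have := hS0 t ht
    rw [appₗ_apply] at this
    rw [this, TensorProduct.tmul_zero]
  obtain ⟨j, hj⟩ := exists_stage_tmul_eq_zero_finset E cE hcE k₁ hV₁ S hSlim
  -- Step E: the later stages
  refine ⟨j.left, fun k θ Xk pX fk hpb z hz => ?_⟩
  obtain ⟨φ, hφ⟩ : ∃ φ : k ⟶ k₁, φ = θ ≫ j.hom := ⟨_, rfl⟩
  refine ⟨?_, (isFlatOverAt_coker_pullback_iff pX fk h₀ z).2 (hk₁ k φ Xk pX fk hpb z hz)⟩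
  obtain ⟨pk, hpkp, hpkf⟩ : ∃ pk : Xk ⟶ X₁, pk ≫ p₁ = pX ∧ pk ≫ f₁ = fk ≫ E.map φ :=
    ⟨hpb₁.lift pX (fk ≫ E.map φ) (by rw [Category.assoc, ha φ]; exact hpb.w),
      hpb₁.lift_fst _ _ _, hpb₁.lift_snd _ _ _⟩
  have hsqk : IsPullback pk fk f₁ (E.map φ) := by
    refine IsPullback.of_right ?_ hpkf hpb₁
    rw [hpkp, ha φ]
    exact hpb
  obtain ⟨Vk, hVkdef⟩ : ∃ Vk : (E.obj k).Opens, Vk = E.map φ ⁻¹ᵁ V₁ := ⟨_, rfl⟩
  have hVk : IsAffineOpen Vk := hVkdef ▸ hV₁.preimage (E.map φ)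
  have hVkle : Vk ≤ E.map φ ⁻¹ᵁ V₁ := le_of_eq hVkdef
  obtain ⟨UZ, hUZdef⟩ : ∃ UZ : Xk.Opens, UZ = pk ⁻¹ᵁ U₁ ⊓ fk ⁻¹ᵁ Vk := ⟨_, rfl⟩
  have hUZa : IsAffineOpen UZ :=
    Groth.Agent.Lead.FB.chart_affine hsqk hV₁ hVk hU₁ hVkle hU₁V₁ hUZdef
  have hUZT : UZ ≤ fk ⁻¹ᵁ Vk := by rw [hUZdef]; exact inf_le_right
  have hzV₁ : E.map φ (fk z) ∈ V₁ := by
    rw [hV₁def]
    show (fk ≫ E.map φ ≫ a k₁) z ∈ V₀
    rw [ha φ, ← hpb.w]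
    exact hUV₀ hz
  have hzUZ : z ∈ UZ := by
    rw [hUZdef]
    refine ⟨?_, ?_⟩
    · show pk z ∈ U₁
      rw [hU₁def]
      refine ⟨?_, ?_⟩
      · show (pk ≫ p₁) z ∈ U₀
        rw [hpkp]
        exact hz
      · show (pk ≫ f₁) z ∈ V₁
        rw [hpkf]
        exact hzV₁
    · show fk z ∈ Vk
      rw [hVkdef]
      exact hzV₁
  haveI : ((Scheme.Modules.pullback pk).obj ((Scheme.Modules.pullback p₁).obj F₀)).IsQuasicoherent :=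
    Groth.Agent.Lead.PB.isQuasicoherent_pullback pk _
  haveI : ((Scheme.Modules.pullback pk).obj ((Scheme.Modules.pullback p₁).obj G₀)).IsQuasicoherent :=
    Groth.Agent.Lead.PB.isQuasicoherent_pullback pk _
  have key : Function.Injective (((Scheme.Modules.pullback pk).map h₁).app UZ) := by
    refine (sections_injective_iff hsqk h₁ hV₁ hVk hU₁ hVkle hU₁V₁ hUZdef hUZT).2 ?_
    letI : Algebra Γ(E.obj k₁, V₁) Γ(E.obj k, Vk) := ((E.map φ).appLE V₁ Vk hVkle).hom.toAlgebra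
    refine hS Γ(E.obj k, Vk) (fun κ hκ => ?_)
    apply one_tmul_eq_zero_of_tmul_one
    have hle : Vk ≤ E.map θ ⁻¹ᵁ (E.map j.hom ⁻¹ᵁ V₁) := by
      rw [hVkdef, hφ, E.map_comp, Scheme.Hom.comp_preimage]
    refine tmul_one_eq_zero_of_ringHom
      ((E.map j.hom).appLE V₁ (E.map j.hom ⁻¹ᵁ V₁) le_rfl).hom
      ((E.map φ).appLE V₁ Vk hVkle).hom
      ((E.map θ).appLE (E.map j.hom ⁻¹ᵁ V₁) Vk hle).hom ?_ κ (hj κ hκ)
    ext r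
    exact Groth.Agent.Lead.LimZ.appLE_comp_eq (E.map θ) (E.map j.hom) (E.map φ)
      (by rw [hφ, E.map_comp]) _ _ _ r
  have h3 : Function.Injective (stk ((Scheme.Modules.pullback pk).map h₁) z) :=
    stalk_injective_of_sections ((Scheme.Modules.pullback pk).map h₁) hUZa key z hzUZ
  rw [hh₁] at h3
  exact stalkInj_pullback_comp pk p₁ pX hpkp h₀ z h3

end Groth.Agent.Lib.Helper4.LimInjF
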