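import Mathlib
import Groth.Agent.Lib.Helper4.LimInjF
import Groth.Agent.Lib.Helper4.LimFlatF

/-!
# Injectivity with flat cokernel at a point descends to a stage of a cofiltered limit and base changes (EGA IV 11.2.6 ii) (helper4)
-/

set_option backward.isDefEq.respectTransparency.types false
set_option synthInstance.maxHeartbeats 400000
set_option autoImplicit false
set_option linter.unusedSectionVars false
set_option linter.style.haveILetI false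
set_option linter.unusedSimpArgs false
universe u v w
open CategoryTheory CategoryTheory.Limits AlgebraicGeometry TopologicalSpace Topology

namespace Groth.Agent.Lib.Helper4.LimInjG

open TensorProduct Scheme.Modules Groth.Agent.Lead.FO Groth.Agent.Lead.SD
  Groth.Agent.Lib.Helper4 Groth.Agent.Helper7.LimBC Groth.Agent.Helper7.LimStage
  Groth.Agent.Lib.Helper4.LimInjA Groth.Agent.Lib.Helper4.LimInjB Groth.Agent.Lib.Helper4.LimInjC
  Groth.Agent.Lib.Helper4.LimInjF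
  Groth.Agent.Helper3.KerFP Groth.Agent.Helper3.RelFPS

set_option maxHeartbeats 1600000 in
/-- **base change of injectivity with flat cokernel**: along a cartesian square, for a map of
finitely presented quasi-coherent modules on a scheme locally of finite presentation over the
base -/
theorem injFlatAt_baseChange {X₁ Y₁ X Y : Scheme.{u}} {f₁ : X₁ ⟶ Y₁} {f : X ⟶ Y} {vX : X ⟶ X₁}
    {vY : Y ⟶ Y₁} (hsq : IsPullback vX f f₁ vY) [LocallyOfFinitePresentation f₁]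
    {F₁ G₁ : X₁.Modules} [F₁.IsQuasicoherent] [G₁.IsQuasicoherent] (hF₁ : CohB1.IsFP F₁)
    (hG₁ : CohB1.IsFP G₁) (h₁ : F₁ ⟶ G₁) (x : X) (H : InjFlatAt f₁ h₁ (vX x)) :
    InjFlatAt f ((Scheme.Modules.pullback vX).map h₁) x := by
  haveI : (cokernel h₁).IsQuasicoherent :=
    Groth.Agent.Helper1.QcAbel.isQuasicoherent_cokernel h₁
  refine ⟨?_, (isFlatOverAt_coker_pullback_iff vX f h₁ x).2
    (Groth.Agent.Lead.FB.flat_baseChange hsq (cokernel h₁) x H.2)⟩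
  -- the open locus at the stage
  have hopen := S4851_main f₁ G₁ F₁ hG₁ hF₁ h₁
  obtain ⟨_, ⟨V₁, hV₁, rfl⟩, hxV₁, -⟩ :=
    Y₁.isBasis_affineOpens.exists_subset_of_mem_open (Set.mem_univ (f₁ (vX x))) isOpen_univ
  let Ω : X₁.Opens := ⟨{z : X₁ | InjFlatAt f₁ h₁ z}, hopen⟩
  obtain ⟨_, ⟨U₁, hU₁, rfl⟩, hxU₁, hU₁le⟩ :=
    X₁.isBasis_affineOpens.exists_subset_of_mem_open
      (show vX x ∈ ((f₁ ⁻¹ᵁ V₁ ⊓ Ω : X₁.Opens) : Set X₁) from ⟨hxV₁, H⟩) (f₁ ⁻¹ᵁ V₁ ⊓ Ω).isOpen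
  have hU₁V₁ : U₁ ≤ f₁ ⁻¹ᵁ V₁ := fun z hz => (hU₁le hz).1
  have hU₁Ω : ∀ z : X₁, z ∈ U₁ → InjFlatAt f₁ h₁ z := fun z hz => (hU₁le hz).2
  obtain ⟨hinj₁, hflat₁⟩ := sections_of_injFlatAt f₁ h₁ hU₁ hV₁ hU₁V₁ hU₁Ω
  -- an affine open of `Y` around `f x` over `V₁`
  obtain ⟨_, ⟨UT, hUT, rfl⟩, hxUT, hUTle⟩ :=
    Y.isBasis_affineOpens.exists_subset_of_mem_open
      (show f x ∈ ((vY ⁻¹ᵁ V₁ : Y.Opens) : Set Y) from by
        show (f ≫ vY) x ∈ V₁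
        rw [← hsq.w]
        exact hxV₁) (vY ⁻¹ᵁ V₁).isOpen
  have hUST : UT ≤ vY ⁻¹ᵁ V₁ := hUTle
  obtain ⟨UY, hUYdef⟩ : ∃ UY : X.Opens, UY = vX ⁻¹ᵁ U₁ ⊓ f ⁻¹ᵁ UT := ⟨_, rfl⟩
  have hUYa : IsAffineOpen UY :=
    Groth.Agent.Lead.FB.chart_affine hsq hV₁ hUT hU₁ hUST hU₁V₁ hUYdef
  have hUYT : UY ≤ f ⁻¹ᵁ UT := by rw [hUYdef]; exact inf_le_right
  have hxUY : x ∈ UY := by
    rw [hUYdef]
    exact ⟨hxU₁, hxUT⟩
  haveI : ((Scheme.Modules.pullback vX).obj F₁).IsQuasicoherent :=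
    Groth.Agent.Lead.PB.isQuasicoherent_pullback vX _
  haveI : ((Scheme.Modules.pullback vX).obj G₁).IsQuasicoherent :=
    Groth.Agent.Lead.PB.isQuasicoherent_pullback vX _
  have key : Function.Injective (((Scheme.Modules.pullback vX).map h₁).app UY) := by
    refine (sections_injective_iff hsq h₁ hV₁ hUT hU₁ hUST hU₁V₁ hUYdef hUYT).2 ?_
    letI : Algebra Γ(Y₁, V₁) Γ(Y, UT) := (vY.appLE V₁ UT hUST).hom.toAlgebra
    letI mF := sectionsOver f₁ F₁ hU₁V₁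
    letI mG := sectionsOver f₁ G₁ hU₁V₁
    letI mQ := sectionsOver f₁ (cokernel h₁) hU₁V₁
    haveI := hflat₁
    exact Groth.Agent.Lib.Helper4.RelEffCartierFlat1.lTensor_injective_of_flat_coker
      (overMap f₁ h₁ hU₁V₁) (overMap f₁ (cokernel.π h₁) hU₁V₁)
      (appₗ_cokernel_exact h₁ hU₁) (appₗ_cokernel_π_surjective h₁ hU₁) hinj₁ Γ(Y, UT)
  exact stalk_injective_of_sections ((Scheme.Modules.pullback vX).map h₁) hUYa key x hxUY

variable {I : Type u} [SmallCategory I] [IsCofiltered I]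
    (D : I ⥤ Scheme.{u}) (c : Limits.Cone D) (hc : Limits.IsLimit c)
    [∀ {i j : I} (φ : i ⟶ j), IsAffineHom (D.map φ)] (i₀ : I)
    {X₀ Y₀ : Scheme.{u}} (f₀ : X₀ ⟶ Y₀) (g₀ : Y₀ ⟶ D.obj i₀)
    {F₀ G₀ : X₀.Modules} [F₀.IsQuasicoherent] [G₀.IsQuasicoherent] (h₀ : F₀ ⟶ G₀)
    {X Y : Scheme.{u}} (f : X ⟶ Y) (g : Y ⟶ c.pt) (qY : Y ⟶ Y₀) (qX : X ⟶ X₀)
    (hY : IsPullback qY g g₀ (c.π.app i₀)) (hX : IsPullback qX f f₀ qY)

include hY hX in
omit [IsCofiltered I] [∀ {i j : I} (φ : i ⟶ j), IsAffineHom (D.map φ)] in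
/-- the property at a stage implies the property on the limit -/
theorem injFlat_of_stage [LocallyOfFinitePresentation f₀] (hF₀ : CohB1.IsFP F₀)
    (hG₀ : CohB1.IsFP G₀) {i : I} (φ : i ⟶ i₀) {Xi Yi : Scheme.{u}} (fi : Xi ⟶ Yi)
    (gi : Yi ⟶ D.obj i)
    (pY : Yi ⟶ Y₀) (pX : Xi ⟶ X₀) (hYi : IsPullback pY gi g₀ (D.map φ))
    (hXi : IsPullback pX fi f₀ pY) (vY : Y ⟶ Yi) (vX : X ⟶ Xi) (h1 : vY ≫ pY = qY)
    (h3 : vX ≫ pX = qX) (h4 : vX ≫ fi = f ≫ vY) (x : X)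
    (H : InjFlatAt fi ((Scheme.Modules.pullback pX).map h₀) (vX x)) :
    InjFlatAt f ((Scheme.Modules.pullback qX).map h₀) x := by
  have hsq : IsPullback vX f fi vY := by
    refine IsPullback.of_right ?_ h4 hXi
    rw [h3, h1]
    exact hX
  haveI : LocallyOfFinitePresentation fi :=
    MorphismProperty.of_isPullback (P := @LocallyOfFinitePresentation) hXi inferInstance
  haveI : ((Scheme.Modules.pullback pX).obj F₀).IsQuasicoherent :=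
    Groth.Agent.Lead.PB.isQuasicoherent_pullback pX F₀
  haveI : ((Scheme.Modules.pullback pX).obj G₀).IsQuasicoherent :=
    Groth.Agent.Lead.PB.isQuasicoherent_pullback pX G₀
  have key := injFlatAt_baseChange hsq (Groth.Agent.Lead.LimZ.isFP_pullback pX F₀ hF₀)
    (Groth.Agent.Lead.LimZ.isFP_pullback pX G₀ hG₀) ((Scheme.Modules.pullback pX).map h₀) x H
  exact (injFlatAt_pullback_comp_iff f vX pX qX h3 h₀ x).1 key

set_option maxHeartbeats 3200000 in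
include hc hY hX in
/-- **injectivity with flat cokernel at a point of the limit descends to a stage** -/
theorem exists_stage_injFlatAt [LocallyOfFinitePresentation f₀] (hF₀ : CohB1.IsFP F₀)
    (hG₀ : CohB1.IsFP G₀) (x : X)
    (H : InjFlatAt f ((Scheme.Modules.pullback qX).map h₀) x) :
    ∃ (i : I) (φ : i ⟶ i₀) (Xi Yi : Scheme.{u}) (fi : Xi ⟶ Yi) (gi : Yi ⟶ D.obj i)
      (pY : Yi ⟶ Y₀) (pX : Xi ⟶ X₀) (vY : Y ⟶ Yi) (vX : X ⟶ Xi),
      IsPullback pY gi g₀ (D.map φ) ∧ IsPullback pX fi f₀ pY ∧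
        vY ≫ pY = qY ∧ vY ≫ gi = g ≫ c.π.app i ∧ vX ≫ pX = qX ∧ vX ≫ fi = f ≫ vY ∧
        InjFlatAt fi ((Scheme.Modules.pullback pX).map h₀) (vX x) := by
  classical
  have hcE : IsLimit (bcCone hY) := isLimitBcCone hc hY
  have hX' : IsPullback qX (f ≫ g) (f₀ ≫ g₀) (c.π.app i₀) := hX.paste_vert hY
  have hcE' : IsLimit (bcCone hX') := isLimitBcCone hc hX'
  haveI : LocallyOfFinitePresentation f :=
    MorphismProperty.of_isPullback (P := @LocallyOfFinitePresentation) hX inferInstance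
  haveI : ((Scheme.Modules.pullback qX).obj F₀).IsQuasicoherent :=
    Groth.Agent.Lead.PB.isQuasicoherent_pullback qX F₀
  haveI : ((Scheme.Modules.pullback qX).obj G₀).IsQuasicoherent :=
    Groth.Agent.Lead.PB.isQuasicoherent_pullback qX G₀
  have hopen : IsOpen {x : X | InjFlatAt f ((Scheme.Modules.pullback qX).map h₀) x} :=
    S4851_main f _ _ (Groth.Agent.Lead.LimZ.isFP_pullback qX G₀ hG₀)
      (Groth.Agent.Lead.LimZ.isFP_pullback qX F₀ hF₀) ((Scheme.Modules.pullback qX).map h₀)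
  -- a neighbourhood coming from a stage
  obtain ⟨W, hW, hxV', hV'Ω⟩ :=
    (isBasis_preimage_isAffineOpen (bcDiagram D i₀ (f₀ ≫ g₀)) (bcCone hX') hcE').exists_subset_of_mem_open
      (show x ∈ {x | InjFlatAt f ((Scheme.Modules.pullback qX).map h₀) x} from H) hopen
  obtain ⟨_, ⟨j, V', hV', rfl⟩, rfl⟩ := hW
  -- the stage `j`
  obtain ⟨vXj, hvXj⟩ : ∃ v : X ⟶ pullback (f₀ ≫ g₀) (D.map j.hom), v = (bcCone hX').π.app j :=
    ⟨_, rfl⟩
  obtain ⟨vYj, hvYj⟩ : ∃ v : Y ⟶ pullback g₀ (D.map j.hom), v = (bcCone hY).π.app j := ⟨_, rfl⟩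
  rw [← hvXj] at hxV' hV'Ω
  have hAj : IsPullback (pullback.fst (f₀ ≫ g₀) (D.map j.hom)) (bcHom f₀ g₀ (D.map j.hom)) f₀
      (pullback.fst g₀ (D.map j.hom)) := isPullback_bcHom f₀ g₀ (D.map j.hom)
  have e1 : vXj ≫ pullback.fst (f₀ ≫ g₀) (D.map j.hom) = qX := by
    rw [hvXj]; exact bcCone_π_fst hX' j
  have e2 : vXj ≫ bcHom f₀ g₀ (D.map j.hom) = f ≫ vYj := by
    rw [hvXj, hvYj]; exact LimFlatF.bcCone_bcHom D c i₀ f₀ g₀ f g qY qX hY hX' hX.w j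
  have h2 : vYj ≫ pullback.fst g₀ (D.map j.hom) = qY := by
    rw [hvYj]; exact bcCone_π_fst hY j
  have hsqj : IsPullback vXj f (bcHom f₀ g₀ (D.map j.hom)) vYj := by
    have hbig : IsPullback (vXj ≫ pullback.fst (f₀ ≫ g₀) (D.map j.hom)) f f₀
        (vYj ≫ pullback.fst g₀ (D.map j.hom)) := by
      rw [e1, h2]
      exact hX
    exact IsPullback.of_right hbig e2 hAj
  -- charts at the stage `j`
  obtain ⟨_, ⟨Vj, hVj, rfl⟩, hxVj, -⟩ :=
    (pullback g₀ (D.map j.hom)).isBasis_affineOpens.exists_subset_of_mem_open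
      (Set.mem_univ (bcHom f₀ g₀ (D.map j.hom) (vXj x))) isOpen_univ
  obtain ⟨_, ⟨Uj, hUj, rfl⟩, hxUj, hUjle⟩ :=
    (pullback (f₀ ≫ g₀) (D.map j.hom)).isBasis_affineOpens.exists_subset_of_mem_open
      (show vXj x ∈ ((bcHom f₀ g₀ (D.map j.hom) ⁻¹ᵁ Vj ⊓ V' :
        (pullback (f₀ ≫ g₀) (D.map j.hom)).Opens) : Set _) from ⟨hxVj, hxV'⟩)
      (bcHom f₀ g₀ (D.map j.hom) ⁻¹ᵁ Vj ⊓ V').isOpen
  have hUjV : Uj ≤ bcHom f₀ g₀ (D.map j.hom) ⁻¹ᵁ Vj := fun z hz => (hUjle hz).1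
  have hUjV' : Uj ≤ V' := fun z hz => (hUjle hz).2
  haveI : LocallyOfFinitePresentation (bcHom f₀ g₀ (D.map j.hom)) :=
    MorphismProperty.of_isPullback (P := @LocallyOfFinitePresentation) hAj inferInstance
  haveI : ((Scheme.Modules.pullback (pullback.fst (f₀ ≫ g₀) (D.map j.hom))).obj F₀).IsQuasicoherent :=
    Groth.Agent.Lead.PB.isQuasicoherent_pullback _ F₀
  haveI : ((Scheme.Modules.pullback (pullback.fst (f₀ ≫ g₀) (D.map j.hom))).obj G₀).IsQuasicoherent :=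
    Groth.Agent.Lead.PB.isQuasicoherent_pullback _ G₀
  have hFj := Groth.Agent.Lead.LimZ.isFP_pullback (pullback.fst (f₀ ≫ g₀) (D.map j.hom)) F₀ hF₀
  have hGj := Groth.Agent.Lead.LimZ.isFP_pullback (pullback.fst (f₀ ≫ g₀) (D.map j.hom)) G₀ hG₀
  -- the rebased diagram
  have hcE'' : IsLimit ((bcCone hY).whisker (Over.forget j)) :=
    (Functor.Initial.isLimitWhiskerEquiv (Over.forget j) (bcCone hY)).symm hcE
  haveI : ∀ {k k' : Over j} (φ : k ⟶ k'),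
      IsAffineHom ((Over.forget j ⋙ bcDiagram D i₀ g₀).map φ) := fun φ =>
    (inferInstance : IsAffineHom ((bcDiagram D i₀ g₀).map φ.left))
  obtain ⟨a'', ha''def⟩ : ∃ a'' : ∀ k : Over j, (Over.forget j ⋙ bcDiagram D i₀ g₀).obj k ⟶
      pullback g₀ (D.map j.hom), a'' = fun k : Over j => (bcDiagram D i₀ g₀).map k.hom := ⟨_, rfl⟩
  haveI : ∀ k : Over j, IsAffineHom (a'' k) := fun k => by
    rw [ha''def]
    exact (inferInstance : IsAffineHom ((bcDiagram D i₀ g₀).map k.hom))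
  have H' : ∀ x' : X, x' ∈ vXj ⁻¹ᵁ Uj →
      InjFlatAt f ((Scheme.Modules.pullback (vXj)).map
        ((Scheme.Modules.pullback (pullback.fst (f₀ ≫ g₀) (D.map j.hom))).map h₀)) x' := by
    intro x' hx'
    have h1 : InjFlatAt f ((Scheme.Modules.pullback qX).map h₀) x' :=
      hV'Ω (show x' ∈ vXj ⁻¹ᵁ V' from hUjV' hx')
    exact (injFlatAt_pullback_comp_iff f vXj (pullback.fst (f₀ ≫ g₀) (D.map j.hom)) qX e1 h₀ x').2
      h1
  obtain ⟨k₁, hk₁⟩ := exists_stage_injFlat_chart (Over.forget j ⋙ bcDiagram D i₀ g₀)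
    ((bcCone hY).whisker (Over.forget j)) hcE''
    a'' (fun {k k'} φ => by
      rw [ha''def]
      show (bcDiagram D i₀ g₀).map φ.left ≫ (bcDiagram D i₀ g₀).map k'.hom =
        (bcDiagram D i₀ g₀).map k.hom
      rw [← Functor.map_comp, Over.w φ])
    vYj (fun k => by
      rw [ha''def, hvYj]
      exact (bcCone hY).w k.hom)
    (bcHom f₀ g₀ (D.map j.hom)) hFj hGj
    ((Scheme.Modules.pullback (pullback.fst (f₀ ≫ g₀) (D.map j.hom))).map h₀) hVj hUj hUjV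
    vXj f hsqj H'
  -- the stage `l = k₁.left`
  have hAl : IsPullback (pullback.fst (f₀ ≫ g₀) (D.map k₁.left.hom))
      (bcHom f₀ g₀ (D.map k₁.left.hom)) f₀ (pullback.fst g₀ (D.map k₁.left.hom)) :=
    isPullback_bcHom f₀ g₀ (D.map k₁.left.hom)
  have e3 : (bcDiagram D i₀ (f₀ ≫ g₀)).map k₁.hom ≫ pullback.fst (f₀ ≫ g₀) (D.map j.hom) =
      pullback.fst (f₀ ≫ g₀) (D.map k₁.left.hom) := bcDiagram_map_fst D i₀ (f₀ ≫ g₀) k₁.hom
  have e4 := LimFlatF.bcHom_natural D i₀ f₀ g₀ k₁.hom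
  have hpb : IsPullback ((bcDiagram D i₀ (f₀ ≫ g₀)).map k₁.hom) (bcHom f₀ g₀ (D.map k₁.left.hom))
      (bcHom f₀ g₀ (D.map j.hom)) (a'' k₁) := by
    rw [ha''def]
    show IsPullback _ _ _ ((bcDiagram D i₀ g₀).map k₁.hom)
    refine IsPullback.of_right ?_ e4 hAj
    rw [e3, bcDiagram_map_fst D i₀ g₀ k₁.hom]
    exact hAl
  refine ⟨k₁.left.left, k₁.left.hom, pullback (f₀ ≫ g₀) (D.map k₁.left.hom),
    pullback g₀ (D.map k₁.left.hom), bcHom f₀ g₀ (D.map k₁.left.hom),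
    pullback.snd g₀ (D.map k₁.left.hom), pullback.fst g₀ (D.map k₁.left.hom),
    pullback.fst (f₀ ≫ g₀) (D.map k₁.left.hom), (bcCone hY).π.app k₁.left,
    (bcCone hX').π.app k₁.left, IsPullback.of_hasPullback _ _, hAl, bcCone_π_fst hY _,
    bcCone_π_snd hY _, bcCone_π_fst hX' _,
    LimFlatF.bcCone_bcHom D c i₀ f₀ g₀ f g qY qX hY hX' hX.w k₁.left, ?_⟩
  have h5 := hk₁ k₁ (𝟙 k₁) _ _ _ hpb ((bcCone hX').π.app k₁.left x) (by
    show ((bcCone hX').π.app k₁.left ≫ (bcDiagram D i₀ (f₀ ≫ g₀)).map k₁.hom) x ∈ Uj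
    rw [(bcCone hX').w k₁.hom, ← hvXj]
    exact hxUj)
  exact (injFlatAt_pullback_comp_iff _ ((bcDiagram D i₀ (f₀ ≫ g₀)).map k₁.hom)
    (pullback.fst (f₀ ≫ g₀) (D.map j.hom)) _ e3 h₀ _).1 h5

theorem S4901_main {I : Type u} [SmallCategory I] [IsCofiltered I]
    (D : I ⥤ Scheme.{u}) (c : Limits.Cone D) (hc : Limits.IsLimit c)
    [∀ (i j : I) (φ : i ⟶ j), IsAffineHom (D.map φ)] (i₀ : I)
    {X₀ Y₀ : Scheme.{u}} (f₀ : X₀ ⟶ Y₀) (g₀ : Y₀ ⟶ D.obj i₀) [LocallyOfFinitePresentation f₀]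
    (F₀ G₀ : X₀.Modules) [Coh.IsQCoh F₀] [Coh.IsQCoh G₀] (hF₀ : CohB1.IsFP F₀) (hG₀ : CohB1.IsFP G₀)
    (h₀ : F₀ ⟶ G₀)
    {X Y : Scheme.{u}} (f : X ⟶ Y) (g : Y ⟶ c.pt) (qY : Y ⟶ Y₀) (qX : X ⟶ X₀)
    (hY : IsPullback qY g g₀ (c.π.app i₀)) (hX : IsPullback qX f f₀ qY) (x : X) :
    (Function.Injective ((TopCat.Presheaf.stalkFunctor Ab x).map
        (Scheme.Modules.Hom.mapPresheaf ((Scheme.Modules.pullback qX).map h₀))) ∧
      FlatMod.IsFlatOverAt f (cokernel ((Scheme.Modules.pullback qX).map h₀)) x) ↔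
      ∃ (i : I) (φ : i ⟶ i₀) (Xi Yi : Scheme.{u}) (fi : Xi ⟶ Yi) (gi : Yi ⟶ D.obj i)
        (pY : Yi ⟶ Y₀) (pX : Xi ⟶ X₀) (vY : Y ⟶ Yi) (vX : X ⟶ Xi),
        IsPullback pY gi g₀ (D.map φ) ∧ IsPullback pX fi f₀ pY ∧
          vY ≫ pY = qY ∧ vY ≫ gi = g ≫ c.π.app i ∧ vX ≫ pX = qX ∧ vX ≫ fi = f ≫ vY ∧
          Function.Injective ((TopCat.Presheaf.stalkFunctor Ab (vX x)).map
            (Scheme.Modules.Hom.mapPresheaf ((Scheme.Modules.pullback pX).map h₀))) ∧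
          FlatMod.IsFlatOverAt fi (cokernel ((Scheme.Modules.pullback pX).map h₀)) (vX x) := by
  haveI : ∀ {i j : I} (φ : i ⟶ j), IsAffineHom (D.map φ) := fun φ => inferInstance
  haveI : F₀.IsQuasicoherent := ‹Coh.IsQCoh F₀›
  haveI : G₀.IsQuasicoherent := ‹Coh.IsQCoh G₀›
  constructor
  · intro H
    exact exists_stage_injFlatAt D c hc i₀ f₀ g₀ h₀ f g qY qX hY hX hF₀ hG₀ x H
  · rintro ⟨i, φ, Xi, Yi, fi, gi, pY, pX, vY, vX, hYi, hXi, h1, h2, h3, h4, hinj, hfl⟩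
    exact injFlat_of_stage D c i₀ f₀ g₀ h₀ f g qY qX hY hX hF₀ hG₀ φ fi gi pY pX hYi hXi vY vX h1 h3
      h4 x ⟨hinj, hfl⟩

end Groth.Agent.Lib.Helper4.LimInjG
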