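import Mathlib
import Groth.Prelude.Def_RegImm

/-!
# Transversally regular sequences on a module: algebra (helper4) (helper4)
-/

set_option backward.isDefEq.respectTransparency.types false
set_option synthInstance.maxHeartbeats 400000
set_option autoImplicit false
set_option linter.unusedSectionVars false
set_option linter.style.haveILetI false
set_option linter.unusedSimpArgs false
universe u v w
open CategoryTheory CategoryTheory.Limits AlgebraicGeometry TopologicalSpace Topology

namespace Groth.Agent.Lib.Helper4.LimTRegB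

open RingTheory.Sequence

variable {A B : Type u} [CommRing A] [CommRing B] (φ : A →+* B)

/-- flatness over `A` of a `B`-module, through `φ : A →+* B` -/
def FlatVia (M : Type u) [AddCommGroup M] [Module B M] : Prop :=
  @Module.Flat A M _ _ (Module.compHom M φ)

theorem flatVia_congr {M M' : Type u} [AddCommGroup M] [Module B M] [AddCommGroup M']
    [Module B M'] (e : M ≃ₗ[B] M') (h : FlatVia φ M) : FlatVia φ M' := by
  letI : Module A M := Module.compHom M φ
  letI : Module A M' := Module.compHom M' φ
  haveI : Module.Flat A M := h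
  let e' : M ≃ₗ[A] M' :=
    { e.toAddEquiv with
      map_smul' := fun a m => e.map_smul (φ a) m }
  exact Module.Flat.of_linearEquiv e'.symm

theorem flatVia_congr_iff {M M' : Type u} [AddCommGroup M] [Module B M] [AddCommGroup M']
    [Module B M'] (e : M ≃ₗ[B] M') : FlatVia φ M ↔ FlatVia φ M' :=
  ⟨flatVia_congr φ e, flatVia_congr φ e.symm⟩

/-- transversal regularity of a sequence on a module -/
def TRMod (M : Type u) [AddCommGroup M] [Module B M] (rs : List B) : Prop :=
  IsWeaklyRegular M rs ∧
    ∀ j : ℕ, j ≤ rs.length → FlatVia φ (M ⧸ (Ideal.ofList (rs.take j) • ⊤ : Submodule B M))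

variable (M : Type u) [AddCommGroup M] [Module B M]

theorem flatVia_quot_nil_iff :
    FlatVia φ (M ⧸ (Ideal.ofList ([] : List B) • ⊤ : Submodule B M)) ↔ FlatVia φ M :=
  flatVia_congr_iff φ (Submodule.quotEquivOfEqBot _ (by rw [Ideal.ofList_nil, Submodule.bot_smul]))

theorem trMod_nil_iff : TRMod φ M [] ↔ FlatVia φ M := by
  constructor
  · intro h
    exact (flatVia_quot_nil_iff φ M).1 (h.2 0 le_rfl)
  · intro h
    refine ⟨IsWeaklyRegular.mk (fun i hi => absurd hi (by simp)), fun j hj => ?_⟩
    have : ([] : List B).take j = [] := List.take_nil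
    rw [this]
    exact (flatVia_quot_nil_iff φ M).2 h

theorem trMod_cons_iff (r : B) (rs : List B) :
    TRMod φ M (r :: rs) ↔ FlatVia φ M ∧ IsSMulRegular M r ∧ TRMod φ (QuotSMulTop r M) rs := by
  unfold TRMod
  rw [isWeaklyRegular_cons_iff]
  constructor
  · rintro ⟨⟨h1, h2⟩, h3⟩
    refine ⟨(flatVia_quot_nil_iff φ M).1 (h3 0 (Nat.zero_le _)), h1, h2, fun j hj => ?_⟩
    have := h3 (j + 1) (by simpa using hj)
    rw [List.take_succ_cons] at this
    exact flatVia_congr φ (Submodule.quotOfListConsSMulTopEquivQuotSMulTopInner M r (rs.take j)) this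
  · rintro ⟨h0, h1, h2, h3⟩
    refine ⟨⟨h1, h2⟩, fun j hj => ?_⟩
    rcases j with _ | j
    · exact (flatVia_quot_nil_iff φ M).2 h0
    · rw [List.take_succ_cons]
      exact flatVia_congr φ
        (Submodule.quotOfListConsSMulTopEquivQuotSMulTopInner M r (rs.take j)).symm
        (h3 j (by simpa using hj))

theorem TRMod.flatVia {rs : List B} (h : TRMod φ M rs) : FlatVia φ M := by
  have := h.2 0 (Nat.zero_le _)
  rw [List.take_zero] at this
  exact (flatVia_quot_nil_iff φ M).1 this

variable {M}

theorem trMod_congr {M' : Type u} [AddCommGroup M'] [Module B M'] (e : M ≃ₗ[B] M')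
    (rs : List B) : TRMod φ M rs ↔ TRMod φ M' rs := by
  induction rs generalizing M M' with
  | nil => rw [trMod_nil_iff, trMod_nil_iff]; exact flatVia_congr_iff φ e
  | cons r rs ih =>
    rw [trMod_cons_iff, trMod_cons_iff, flatVia_congr_iff φ e, e.isSMulRegular_congr r,
      ih (QuotSMulTop.congr r e)]


theorem flatVia_quot_ideal_iff (I : Ideal B) :
    FlatVia φ (B ⧸ (I • ⊤ : Submodule B B)) ↔
      (letI : Algebra A B := φ.toAlgebra
       Module.Flat A (B ⧸ I)) := by
  have hI : (I • ⊤ : Submodule B B) = I := by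
    rw [smul_eq_mul, Ideal.mul_top]
  rw [flatVia_congr_iff φ (Submodule.quotEquivOfEq _ _ hI)]
  letI : Algebra A B := φ.toAlgebra
  show @Module.Flat A (B ⧸ I) _ _ (Module.compHom (B ⧸ I) φ) ↔ Module.Flat A (B ⧸ I)
  let e' : @LinearEquiv A A _ _ (RingHom.id A) (RingHom.id A) _ _ (B ⧸ I) (B ⧸ I) _ _
      (Module.compHom (B ⧸ I) φ) inferInstance :=
    { AddEquiv.refl (B ⧸ I) with
      map_smul' := fun a x => by
        obtain ⟨b, rfl⟩ := Ideal.Quotient.mk_surjective x
        rfl }
  constructor
  · intro h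
    exact @Module.Flat.of_linearEquiv A (B ⧸ I) (B ⧸ I) _ _ (Module.compHom (B ⧸ I) φ) _ _ h
      e'.symm
  · intro h
    exact @Module.Flat.of_linearEquiv A (B ⧸ I) (B ⧸ I) _ _ _ _ (Module.compHom (B ⧸ I) φ) h e'

theorem trMod_self_iff (rs : List B) :
    TRMod φ B rs ↔ @RegImm.IsTransRegularSeq A B _ _ φ.toAlgebra rs := by
  unfold TRMod RegImm.IsTransRegularSeq
  refine and_congr Iff.rfl (forall_congr' fun j => forall_congr' fun _ => ?_)
  exact flatVia_quot_ideal_iff φ _

end Groth.Agent.Lib.Helper4.LimTRegB
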