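import Mathlib
import Groth.Agent.Lib.Helper4.LimTRegA
import Groth.Agent.Lib.Helper4.LimTRegB
import Groth.Agent.Lib.Helper4.LimInjG
import Groth.Agent.Lib.Helper1.QcPullGen
import Groth.Agent.Lib.Helper1.FPA8
import Groth.Agent.Lib.Helper1.IdealModL

/-!
# Sheaf-level transversal regularity of a sequence of global functions and its description on affine charts (helper4) (helper4)
-/

set_option backward.isDefEq.respectTransparency.types false
set_option synthInstance.maxHeartbeats 400000
set_option autoImplicit false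
set_option linter.unusedSectionVars false
set_option linter.style.haveILetI false
set_option linter.unusedSimpArgs false
universe u v w
open CategoryTheory CategoryTheory.Limits AlgebraicGeometry TopologicalSpace Topology

namespace Groth.Agent.Lib.Helper4.LimTRegC

open Scheme.Modules Groth.Agent.Lead.FO Groth.Agent.Lead.SD
  Groth.Agent.Lib.Helper4 Groth.Agent.Lib.Helper4.LimInjA Groth.Agent.Lib.Helper4.LimInjC
  Groth.Agent.Lib.Helper4.LimTRegA Groth.Agent.Lib.Helper4.LimTRegB
  Groth.Agent.Helper3.KerFP Groth.Agent.Helper3.RelFPS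

variable {X₀ X' S' : Scheme.{u}} (q : X' ⟶ X₀) (p : X' ⟶ S')

/-- pointwise sheaf-level transversal regularity of the pullback of a sequence of global
functions on the pullback of a module -/
noncomputable def TRAt : List Γ(X₀, ⊤) → X₀.Modules → X' → Prop
  | [], F₀, x => FlatMod.IsFlatOverAt p ((Scheme.Modules.pullback q).obj F₀) x
  | f :: fs, F₀, x => FlatMod.IsFlatOverAt p ((Scheme.Modules.pullback q).obj F₀) x ∧
      InjFlatAt p ((Scheme.Modules.pullback q).map (smulΓ F₀ f)) x ∧
      TRAt fs (cokernel (smulΓ F₀ f)) x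

theorem trAt_nil (F₀ : X₀.Modules) (x : X') :
    TRAt q p [] F₀ x ↔ FlatMod.IsFlatOverAt p ((Scheme.Modules.pullback q).obj F₀) x := Iff.rfl

theorem trAt_cons (f : Γ(X₀, ⊤)) (fs : List Γ(X₀, ⊤)) (F₀ : X₀.Modules) (x : X') :
    TRAt q p (f :: fs) F₀ x ↔ FlatMod.IsFlatOverAt p ((Scheme.Modules.pullback q).obj F₀) x ∧
      InjFlatAt p ((Scheme.Modules.pullback q).map (smulΓ F₀ f)) x ∧
      TRAt q p fs (cokernel (smulΓ F₀ f)) x := Iff.rfl

/-- restriction to `U` of the pullback of a global function -/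
noncomputable def resΓ (U : X'.Opens) (f : Γ(X₀, ⊤)) : Γ(X', U) :=
  (X'.presheaf.map (homOfLE (le_top : U ≤ ⊤)).op).hom (q.appTop.hom f)

theorem flat_sections_iff (F : X'.Modules) [F.IsQuasicoherent] {U : X'.Opens} {V : S'.Opens}
    (hU : IsAffineOpen U) (hV : IsAffineOpen V) (hUV : U ≤ p ⁻¹ᵁ V) :
    (∀ x : X', x ∈ U → FlatMod.IsFlatOverAt p F x) ↔ FlatVia (p.appLE V U hUV).hom Γ(F, U) :=
  ⟨fun H => flat_sectionsOver_of_isFlatOverAt p F hU hV hUV (fun z => H z.1 z.2),
    fun H x hx => LimFlatD.isFlatOverAt_of_flat_sections p F hU hV hUV H x hx⟩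

theorem trAt_sections_iff (fs : List Γ(X₀, ⊤)) (F₀ : X₀.Modules) [F₀.IsQuasicoherent]
    {U : X'.Opens} {V : S'.Opens}
    (hU : IsAffineOpen U) (hV : IsAffineOpen V) (hUV : U ≤ p ⁻¹ᵁ V) :
    (∀ x : X', x ∈ U → TRAt q p fs F₀ x) ↔
      TRMod (p.appLE V U hUV).hom Γ((Scheme.Modules.pullback q).obj F₀, U)
        (fs.map (resΓ q U)) := by
  induction fs generalizing F₀ with
  | nil =>
    haveI : ((Scheme.Modules.pullback q).obj F₀).IsQuasicoherent :=
      Groth.Agent.Lead.PB.isQuasicoherent_pullback q F₀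
    rw [List.map_nil, trMod_nil_iff]
    exact flat_sections_iff p _ hU hV hUV
  | cons f fs ih =>
    haveI : ((Scheme.Modules.pullback q).obj F₀).IsQuasicoherent :=
      Groth.Agent.Lead.PB.isQuasicoherent_pullback q F₀
    haveI : (cokernel (smulΓ F₀ f)).IsQuasicoherent :=
      Groth.Agent.Helper1.QcAbel.isQuasicoherent_cokernel _
    haveI : (cokernel ((Scheme.Modules.pullback q).map (smulΓ F₀ f))).IsQuasicoherent :=
      Groth.Agent.Helper1.QcAbel.isQuasicoherent_cokernel _
    have e : QuotSMulTop (resΓ q U f) Γ((Scheme.Modules.pullback q).obj F₀, U) ≃ₗ[Γ(X', U)]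
        Γ((Scheme.Modules.pullback q).obj (cokernel (smulΓ F₀ f)), U) := secQuotEquiv q F₀ f hU
    rw [List.map_cons, trMod_cons_iff, trMod_congr _ e,
      ← ih (cokernel (smulΓ F₀ f)), ← flat_sections_iff p _ hU hV hUV]
    have hreg : Function.Injective (appₗ ((Scheme.Modules.pullback q).map (smulΓ F₀ f)) U) ↔
        IsSMulRegular Γ((Scheme.Modules.pullback q).obj F₀, U) (resΓ q U f) := by
      unfold IsSMulRegular
      have : ⇑(appₗ ((Scheme.Modules.pullback q).map (smulΓ F₀ f)) U) =
          fun m => resΓ q U f • m := funext fun m => smulΓ_pullback_app q F₀ f U m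
      rw [this]
    constructor
    · intro H
      refine ⟨fun x hx => (H x hx).1, ?_, fun x hx => (H x hx).2.2⟩
      exact hreg.1 (sections_of_injFlatAt p _ hU hV hUV (fun x hx => (H x hx).2.1)).1
    · rintro ⟨H1, H2, H3⟩ x hx
      refine ⟨H1 x hx, ?_, H3 x hx⟩
      refine injFlatAt_of_sections p _ hU hV hUV (hreg.2 H2) ?_ x hx
      -- flatness of the sections of the cokernel
      have h3 : TRMod (p.appLE V U hUV).hom
          Γ((Scheme.Modules.pullback q).obj (cokernel (smulΓ F₀ f)), U) (fs.map (resΓ q U)) :=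
        (ih (cokernel (smulΓ F₀ f))).1 H3
      have h4 := h3.flatVia
      exact flatVia_congr _ (secEquiv (cokerPullbackIso q (smulΓ F₀ f)) U).symm h4


/-- sections of the structure sheaf, as a module -/
noncomputable def secUnitEquiv (U : X'.Opens) :
    Γ(Coh.structureModule X', U) ≃ₗ[Γ(X', U)] Γ(X', U) :=
  LinearEquiv.refl _ _

theorem trAt_unit_sections_iff (fs : List Γ(X₀, ⊤)) {U : X'.Opens} {V : S'.Opens}
    (hU : IsAffineOpen U) (hV : IsAffineOpen V) (hUV : U ≤ p ⁻¹ᵁ V) :
    (∀ x : X', x ∈ U → TRAt q p fs (Coh.structureModule X₀) x) ↔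
      @RegImm.IsTransRegularSeq Γ(S', V) Γ(X', U) _ _ (p.appLE V U hUV).hom.toAlgebra
        (fs.map (resΓ q U)) := by
  haveI : (Coh.structureModule X₀).IsQuasicoherent :=
    Groth.Agent.Helper1.IdealModL.isQuasicoherent_structureModule
  rw [trAt_sections_iff q p fs _ hU hV hUV, ← trMod_self_iff]
  exact trMod_congr _ ((secEquiv (Groth.Agent.Helper1.QcPullGen.pullbackUnitIso q) U).trans
    (secUnitEquiv U)) _

end Groth.Agent.Lib.Helper4.LimTRegC
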