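import Mathlib
import Groth.Agent.Lib.Helper4.LimTRegC
import Groth.Agent.Lib.Helper4.LimFlatE

/-!
# Sheaf-level transversal regularity descends to a stage of a cofiltered limit and base changes (helper4) (helper4)
-/

set_option backward.isDefEq.respectTransparency.types false
set_option synthInstance.maxHeartbeats 400000
set_option autoImplicit false
set_option linter.unusedSectionVars false
set_option linter.style.haveILetI false
set_option linter.unusedSimpArgs false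
universe u v w
open CategoryTheory CategoryTheory.Limits AlgebraicGeometry TopologicalSpace Topology

namespace Groth.Agent.Lib.Helper4.LimTRegD

open Scheme.Modules Groth.Agent.Lead.FO Groth.Agent.Lead.SD
  Groth.Agent.Lib.Helper4 Groth.Agent.Lib.Helper4.LimInjA Groth.Agent.Lib.Helper4.LimInjC
  Groth.Agent.Lib.Helper4.LimTRegA Groth.Agent.Lib.Helper4.LimTRegB
  Groth.Agent.Lib.Helper4.LimTRegC
  Groth.Agent.Helper3.KerFP Groth.Agent.Helper3.RelFPS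

variable {K : Type u} [SmallCategory K] [IsCofiltered K] (E : K ⥤ Scheme.{u}) (cE : Cone E)
  (hcE : IsLimit cE) [∀ {i j : K} (φ : i ⟶ j), IsAffineHom (E.map φ)]
  {Y₀ : Scheme.{u}} (a : ∀ k, E.obj k ⟶ Y₀)
  (ha : ∀ {i j : K} (φ : i ⟶ j), E.map φ ≫ a j = a i) [∀ k, IsAffineHom (a k)]
  (b : cE.pt ⟶ Y₀) (hb : ∀ k, cE.π.app k ≫ a k = b)

omit [∀ {i j : K} (φ : i ⟶ j), IsAffineHom (E.map φ)] [∀ k, IsAffineHom (a k)] in
/-- a property of the points of the stages which holds eventually over each affine chart of a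
quasi-compact scheme holds eventually -/
theorem exists_stage_of_charts {X₀ : Scheme.{u}} (f₀ : X₀ ⟶ Y₀) [CompactSpace X₀]
    (Pst : ∀ (k : K) (Xk : Scheme.{u}) (_ : Xk ⟶ X₀) (_ : Xk ⟶ E.obj k), Xk → Prop)
    (hloc : ∀ (V₀ : Y₀.Opens) (U₀ : X₀.Opens), IsAffineOpen V₀ → IsAffineOpen U₀ →
      U₀ ≤ f₀ ⁻¹ᵁ V₀ →
      ∃ k₂ : K, ∀ (k : K) (_ : k ⟶ k₂) (Xk : Scheme.{u}) (pX : Xk ⟶ X₀) (fk : Xk ⟶ E.obj k)
        (_ : IsPullback pX fk f₀ (a k)) (z : Xk), z ∈ pX ⁻¹ᵁ U₀ → Pst k Xk pX fk z) :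
    ∃ k₂ : K, ∀ (k : K) (_ : k ⟶ k₂) (Xk : Scheme.{u}) (pX : Xk ⟶ X₀) (fk : Xk ⟶ E.obj k)
      (_ : IsPullback pX fk f₀ (a k)) (z : Xk), Pst k Xk pX fk z := by
  classical
  choose V₀ U₀ hV₀ hU₀ hxU₀ hUV₀ using Groth.Agent.Lead.PB.exists_affine_pair f₀
  obtain ⟨t, ht⟩ := CompactSpace.elim_nhds_subcover (fun x => ((U₀ x : X₀.Opens) : Set X₀))
    (fun x => (U₀ x).2.mem_nhds (hxU₀ x))
  choose k₁ hk₁ using fun x₀ : X₀ => hloc (V₀ x₀) (U₀ x₀) (hV₀ x₀) (hU₀ x₀) (hUV₀ x₀)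
  obtain ⟨k, hk⟩ := IsCofiltered.inf_objs_exists (t.image k₁)
  refine ⟨k, fun k' θ' Xk pX fk hpb z => ?_⟩
  have hz : pX z ∈ ⋃ x ∈ t, ((U₀ x : X₀.Opens) : Set X₀) := by
    rw [ht]; trivial
  obtain ⟨x₀, hx₀t, hzx₀⟩ := Set.mem_iUnion₂.1 hz
  obtain ⟨θ⟩ := hk (Finset.mem_image_of_mem k₁ hx₀t)
  exact hk₁ x₀ k' (θ' ≫ θ) Xk pX fk hpb z hzx₀

variable {X₀ : Scheme.{u}} (f₀ : X₀ ⟶ Y₀) [CompactSpace X₀] [LocallyOfFinitePresentation f₀]
  {X : Scheme.{u}} (qX : X ⟶ X₀) (f : X ⟶ cE.pt) (hX : IsPullback qX f f₀ b)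

include hcE ha hb hX in
/-- flatness on the limit descends to a stage, uniformly below it -/
theorem exists_stage_flat (F₀ : X₀.Modules) [F₀.IsQuasicoherent] (hF₀ : CohB1.IsFP F₀)
    (H : ∀ x : X, FlatMod.IsFlatOverAt f ((Scheme.Modules.pullback qX).obj F₀) x) :
    ∃ k₂ : K, ∀ (k : K) (_ : k ⟶ k₂) (Xk : Scheme.{u}) (pX : Xk ⟶ X₀) (fk : Xk ⟶ E.obj k)
      (_ : IsPullback pX fk f₀ (a k)) (z : Xk),
      FlatMod.IsFlatOverAt fk ((Scheme.Modules.pullback pX).obj F₀) z := by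
  refine exists_stage_of_charts E a f₀
    (fun k Xk pX fk z => FlatMod.IsFlatOverAt fk ((Scheme.Modules.pullback pX).obj F₀) z) ?_
  intro V₀ U₀ hV₀ hU₀ hUV₀
  exact LimFlatD.exists_stage_flat_chart E cE hcE a ha b hb f₀ F₀ hV₀ hU₀ hUV₀
    (HasRingHomProperty.appLE (P := @LocallyOfFinitePresentation) f₀ inferInstance
      ⟨V₀, hV₀⟩ ⟨U₀, hU₀⟩ hUV₀)
    (Groth.Agent.Lead.FP.fp_sections_of_isFP F₀ hF₀ hU₀) qX f hX (fun x _ => H x)

include hcE ha hb hX in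
/-- injectivity with flat cokernel on the limit descends to a stage, uniformly below it -/
theorem exists_stage_injFlat {F₀ G₀ : X₀.Modules} [F₀.IsQuasicoherent] [G₀.IsQuasicoherent]
    (hF₀ : CohB1.IsFP F₀) (hG₀ : CohB1.IsFP G₀) (h₀ : F₀ ⟶ G₀)
    (H : ∀ x : X, InjFlatAt f ((Scheme.Modules.pullback qX).map h₀) x) :
    ∃ k₂ : K, ∀ (k : K) (_ : k ⟶ k₂) (Xk : Scheme.{u}) (pX : Xk ⟶ X₀) (fk : Xk ⟶ E.obj k)
      (_ : IsPullback pX fk f₀ (a k)) (z : Xk),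
      InjFlatAt fk ((Scheme.Modules.pullback pX).map h₀) z := by
  refine exists_stage_of_charts E a f₀
    (fun k Xk pX fk z => InjFlatAt fk ((Scheme.Modules.pullback pX).map h₀) z) ?_
  intro V₀ U₀ hV₀ hU₀ hUV₀
  exact LimInjF.exists_stage_injFlat_chart E cE hcE a ha b hb f₀ hF₀ hG₀ h₀ hV₀ hU₀ hUV₀
    qX f hX (fun x _ => H x)

include hcE ha hb hX in
/-- **sheaf-level transversal regularity on the limit descends to a stage** -/
theorem exists_stage_trAt (fs : List Γ(X₀, ⊤)) (F₀ : X₀.Modules) [F₀.IsQuasicoherent]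
    (hF₀ : CohB1.IsFP F₀) (H : ∀ x : X, TRAt qX f fs F₀ x) :
    ∃ k₂ : K, ∀ (k : K) (_ : k ⟶ k₂) (Xk : Scheme.{u}) (pX : Xk ⟶ X₀) (fk : Xk ⟶ E.obj k)
      (_ : IsPullback pX fk f₀ (a k)) (z : Xk), TRAt pX fk fs F₀ z := by
  induction fs generalizing F₀ with
  | nil => exact exists_stage_flat E cE hcE a ha b hb f₀ qX f hX F₀ hF₀ H
  | cons r fs ih =>
    haveI : (cokernel (smulΓ F₀ r)).IsQuasicoherent :=
      Groth.Agent.Helper1.QcAbel.isQuasicoherent_cokernel _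
    have hQ : CohB1.IsFP (cokernel (smulΓ F₀ r)) := isFP_cokernel _ hF₀ hF₀
    obtain ⟨k₁, hk₁⟩ := exists_stage_flat E cE hcE a ha b hb f₀ qX f hX F₀ hF₀
      (fun x => (H x).1)
    obtain ⟨k₂, hk₂⟩ := exists_stage_injFlat E cE hcE a ha b hb f₀ qX f hX hF₀ hF₀ (smulΓ F₀ r)
      (fun x => (H x).2.1)
    obtain ⟨k₃, hk₃⟩ := ih (cokernel (smulΓ F₀ r)) hQ (fun x => (H x).2.2)
    refine ⟨IsCofiltered.min (IsCofiltered.min k₁ k₂) k₃, fun k θ Xk pX fk hpb z => ?_⟩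
    exact ⟨hk₁ k (θ ≫ IsCofiltered.minToLeft _ _ ≫ IsCofiltered.minToLeft _ _) Xk pX fk hpb z,
      hk₂ k (θ ≫ IsCofiltered.minToLeft _ _ ≫ IsCofiltered.minToRight _ _) Xk pX fk hpb z,
      hk₃ k (θ ≫ IsCofiltered.minToRight _ _) Xk pX fk hpb z⟩


/-- sheaf-level transversal regularity is stable under base change -/
theorem trAt_baseChange {X₁ Y₁ X' Y' X₀' : Scheme.{u}} {f₁ : X₁ ⟶ Y₁} {f' : X' ⟶ Y'} {vX : X' ⟶ X₁}
    {vY : Y' ⟶ Y₁} (hsq : IsPullback vX f' f₁ vY) [LocallyOfFinitePresentation f₁]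
    (p₁ : X₁ ⟶ X₀') (q : X' ⟶ X₀') (hq : vX ≫ p₁ = q) (fs : List Γ(X₀', ⊤)) (F₀ : X₀'.Modules)
    [F₀.IsQuasicoherent] (hF₀ : CohB1.IsFP F₀) (x : X') (H : TRAt p₁ f₁ fs F₀ (vX x)) :
    TRAt q f' fs F₀ x := by
  induction fs generalizing F₀ with
  | nil => exact LimFlatE.flat_mono F₀ hsq p₁ q hq x H
  | cons r fs ih =>
    haveI : (cokernel (smulΓ F₀ r)).IsQuasicoherent :=
      Groth.Agent.Helper1.QcAbel.isQuasicoherent_cokernel _
    have hQ : CohB1.IsFP (cokernel (smulΓ F₀ r)) := isFP_cokernel _ hF₀ hF₀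
    haveI : ((Scheme.Modules.pullback p₁).obj F₀).IsQuasicoherent :=
      Groth.Agent.Lead.PB.isQuasicoherent_pullback p₁ F₀
    refine ⟨LimFlatE.flat_mono F₀ hsq p₁ q hq x H.1, ?_, ih _ hQ H.2.2⟩
    have key := LimInjG.injFlatAt_baseChange hsq (Groth.Agent.Lead.LimZ.isFP_pullback p₁ F₀ hF₀)
      (Groth.Agent.Lead.LimZ.isFP_pullback p₁ F₀ hF₀) ((Scheme.Modules.pullback p₁).map (smulΓ F₀ r))
      x H.2.1
    exact (injFlatAt_pullback_comp_iff f' vX p₁ q hq (smulΓ F₀ r) x).1 key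

end Groth.Agent.Lib.Helper4.LimTRegD
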