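import Mathlib
import Groth.Prelude.Def_Found
import Groth.Agent.Lib.Helper4.Japanese2

/-!
# Japanese schemes have finite normalization (helper4)
-/

set_option backward.isDefEq.respectTransparency.types false
set_option synthInstance.maxHeartbeats 400000
set_option autoImplicit false
set_option linter.unusedSectionVars false
set_option linter.style.haveILetI false
set_option linter.unusedSimpArgs false
universe u v w
open CategoryTheory CategoryTheory.Limits AlgebraicGeometry TopologicalSpace IsLocalRing

namespace Groth.Agent.Lib.Helper4.Japanese3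
open Groth.Agent.Lib.Helper4.NormalizationField1 Groth.Agent.Lib.Helper4.NormalizationField3
open Groth.Agent.Lib.Helper4.NormalizationField2
open Groth.Agent.Lib.Helper4.Japanese1 Groth.Agent.Lib.Helper4.Japanese2

theorem finite_integralClosure_of_equiv (A K L : Type*) [CommRing A] [CommRing K] [CommRing L]
    [Algebra A K] [Algebra A L] (ev : L →+* K) (hev : Function.Bijective ev)
    (hcomm : ∀ a, ev (algebraMap A L a) = algebraMap A K a)
    (h : Module.Finite A (integralClosure A K)) : Module.Finite A (integralClosure A L) := by
  let e : L ≃ₐ[A] K :=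
    { RingEquiv.ofBijective ev hev with
      commutes' := fun a => hcomm a }
  let ψ : integralClosure A K →ₗ[A] integralClosure A L :=
    { toFun := fun x => ⟨e.symm x.1, x.2.map e.symm.toAlgHom⟩
      map_add' := fun x y => Subtype.ext (map_add e.symm x.1 y.1)
      map_smul' := fun r x => Subtype.ext (map_smul e.symm r x.1) }
  have hψ : Function.Surjective ψ := by
    intro y
    refine ⟨⟨e y.1, y.2.map e.toAlgHom⟩, ?_⟩
    apply Subtype.ext
    exact e.symm_apply_apply y.1
  exact Module.Finite.of_surjective ψ hψ

theorem finite_integralClosure_of_isN2 (A K : Type u) [CommRing A] [IsDomain A] [Field K]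
    [Algebra A K] [IsFractionRing A K] (h : CAlg.IsN2 A) :
    Module.Finite A (integralClosure A K) := by
  letI : Algebra (FractionRing A) K := (FractionRing.algEquiv A K).toAlgHom.toRingHom.toAlgebra
  haveI : IsScalarTower A (FractionRing A) K :=
    IsScalarTower.of_algebraMap_eq (fun a => ((FractionRing.algEquiv A K).commutes a).symm)
  haveI : FiniteDimensional (FractionRing A) K :=
    Module.Finite.of_surjective (Algebra.linearMap (FractionRing A) K)
      (FractionRing.algEquiv A K).surjective
  exact h K inferInstance

theorem S9688_main (X : Scheme.{u}) [IsIntegral X] [QuasiCompact (X.fromSpecStalk (genericPoint ↥X))] [QuasiSeparated (X.fromSpecStalk (genericPoint ↥X))]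
    (hJ : ∀ (U : X.Opens), IsAffineOpen U → ∀ (hne : Nonempty ↥U),
      @CAlg.IsN2 ↑Γ(X, U) _ (@IsIntegral.component_integral X _ U hne)) :
    IsFinite (Curv2.normalizationι X) := by
  change IsFinite (X.fromSpecStalk (genericPoint X)).fromNormalization
  apply isFinite_fromNormalization_of_finite
  intro U hU
  letI algAL : Algebra Γ(X, U) Γ(Spec (X.presheaf.stalk (genericPoint X)),
    (X.fromSpecStalk (genericPoint X)) ⁻¹ᵁ U) := ((X.fromSpecStalk (genericPoint X)).app U).hom.toAlgebra
  by_cases hne : (U : Set X).Nonempty
  · have hηU : genericPoint X ∈ U :=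
      ((genericPoint_spec X).mem_open_set_iff U.isOpen).mpr (by simpa using hne)
    haveI hneU : Nonempty U := ⟨⟨_, hηU⟩⟩
    haveI : IsDomain Γ(X, U) := IsIntegral.component_integral (X := X) (U := U)
    haveI := functionField_isFractionRing_of_isAffineOpen X U hU
    have hfin : Module.Finite Γ(X, U) (integralClosure Γ(X, U) X.functionField) :=
      finite_integralClosure_of_isN2 Γ(X, U) X.functionField (hJ U hU hneU)
    have hgpt : (X.fromSpecStalk (genericPoint X)) (closedPoint (X.presheaf.stalk (genericPoint X))) =
        genericPoint X := fromSpecStalk_genericPoint_apply X _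
    have hV : closedPoint (X.presheaf.stalk (genericPoint X)) ∈
        (X.fromSpecStalk (genericPoint X)) ⁻¹ᵁ U := by
      show (X.fromSpecStalk (genericPoint X)) _ ∈ U
      rw [hgpt]; exact hηU
    have hU' : (X.fromSpecStalk (genericPoint X))
        (closedPoint (X.presheaf.stalk (genericPoint X))) ∈ U := hV
    have hKf : IsField (X.presheaf.stalk (genericPoint X)) := isField_functionField X
    refine finite_integralClosure_of_equiv Γ(X, U) X.functionField _
      (evClosed (X.presheaf.stalk (genericPoint X)) _ hV).hom
      (bijective_evClosed_of_isField _ hKf _ hV) ?_ hfin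
    intro a
    have h1 := stalkClosedPointTo_germ_eq_evClosed (X.presheaf.stalk (genericPoint X))
      (X.fromSpecStalk (genericPoint X)) U hU' _ le_rfl hV a
    have h2 := stalkClosedPointTo_germ_of_eq (X := X) X.functionField (RingHom.id _)
      (X.fromSpecStalk (genericPoint X)) (by
        have : CommRingCat.ofHom (RingHom.id X.functionField) = 𝟙 _ := rfl
        rw [this, Spec.map_id]
        exact (Category.id_comp _).symm) U hU' hηU a
    rw [h1] at h2
    rw [← Scheme.Hom.app_eq_appLE] at h2
    exact h2
  · have hUbot : U = ⊥ := by
      ext x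
      simp only [Opens.coe_bot, Set.mem_empty_iff_false, iff_false]
      exact fun hx => hne ⟨x, hx⟩
    haveI : Subsingleton Γ(Spec (X.presheaf.stalk (genericPoint X)),
        (X.fromSpecStalk (genericPoint X)) ⁻¹ᵁ U) := by
      rw [hUbot]
      have : (X.fromSpecStalk (genericPoint X)) ⁻¹ᵁ (⊥ : X.Opens) = ⊥ := rfl
      rw [this]
      infer_instance
    haveI : Subsingleton (integralClosure Γ(X, U) Γ(Spec (X.presheaf.stalk (genericPoint X)),
        (X.fromSpecStalk (genericPoint X)) ⁻¹ᵁ U)) := inferInstance
    exact Module.Finite.of_finite

end Groth.Agent.Lib.Helper4.Japanese3
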