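import Mathlib

/-!
# Sections over a valuation ring for closed separated morphisms (helper4)
-/

set_option backward.isDefEq.respectTransparency.types false
set_option synthInstance.maxHeartbeats 400000
set_option autoImplicit false
set_option linter.unusedSectionVars false
set_option linter.style.haveILetI false
set_option linter.unusedSimpArgs false
universe u
open CategoryTheory CategoryTheory.Limits AlgebraicGeometry IsLocalRing

namespace Groth.Agent.Lib.Helper4.ValSection


set_option backward.isDefEq.respectTransparency false in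
theorem exists_section (R : Type u) [CommRing R] [IsDomain R]
    [ValuationRing R] (K : Type u) [Field K] [Algebra R K] [IsFractionRing R K] (X : Scheme.{u})
    (f : X ⟶ Spec (CommRingCat.of R)) (hf : SpecializingMap f)
    (lft : Spec (CommRingCat.of K) ⟶ X)
    (hx : lft ≫ f = Spec.map (CommRingCat.ofHom (algebraMap R K))) :
    ∃ s : Spec (CommRingCat.of R) ⟶ X, s ≫ f = 𝟙 _ ∧
      Spec.map (CommRingCat.ofHom (algebraMap R K)) ≫ s = lft := by
  have : IsDomain (CommRingCat.of R) := ‹_›
  have : ValuationRing (CommRingCat.of R) := ‹_›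
  let : Field (CommRingCat.of K) := ‹_›
  have hsp : f (lft (closedPoint _)) ⤳ closedPoint R := specializes_closedPoint (R := R) _
  obtain ⟨x, h₁, h₂⟩ := hf hsp
  let e : CommRingCat.of R ≅ (Spec <| .of R).presheaf.stalk (f x) :=
    (stalkClosedPointIso (.of R)).symm ≪≫
      (Spec <| .of R).presheaf.stalkCongr (.of_eq h₂.symm)
  let α := e.hom ≫ f.stalkMap x
  have : IsLocalHom e.hom.hom := isLocalHom_of_isIso e.hom
  have : IsLocalHom α.hom := inferInstanceAs
    (IsLocalHom ((f.stalkMap x).hom.comp e.hom.hom))
  let β := X.presheaf.stalkSpecializes h₁ ≫ Scheme.stalkClosedPointTo lft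
  have hαβ : α ≫ β = CommRingCat.ofHom (algebraMap R K) := by
    simp only [CommRingCat.coe_of, Iso.trans_hom, Iso.symm_hom, TopCat.Presheaf.stalkCongr_hom,
      Category.assoc, α, e, β, stalkClosedPointIso_inv, StructureSheaf.toStalk]
    change (Scheme.ΓSpecIso (.of R)).inv ≫ (Spec <| .of R).presheaf.germ _ _ _ ≫ _ = _
    simp only [TopCat.Presheaf.germ_stalkSpecializes_assoc, Scheme.Hom.germ_stalkMap_assoc]
    simp only [TopologicalSpace.Opens.map_top]
    rw [Scheme.germ_stalkClosedPointTo lft ⊤ trivial]
    erw [← Scheme.Hom.comp_app_assoc lft f]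
    rw [hx]
    simp
  have hbij := (bijective_rangeRestrict_comp_of_valuationRing (R := R) (K := K) α.hom β.hom
    (CommRingCat.hom_ext_iff.mp hαβ))
  let φ : X.presheaf.stalk x ⟶ CommRingCat.of R := CommRingCat.ofHom <|
    (RingEquiv.ofBijective _ hbij).symm.toRingHom.comp β.hom.rangeRestrict
  have hαφ : α ≫ φ = 𝟙 _ := by ext x; exact (RingEquiv.ofBijective _ hbij).symm_apply_apply x
  have hαφ' : f.stalkMap x ≫ φ = e.inv := by
    rw [← cancel_epi e.hom, ← Category.assoc, hαφ, e.hom_inv_id]
  have hφβ : φ ≫ CommRingCat.ofHom (algebraMap R K) = β :=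
    hαβ ▸ CommRingCat.hom_ext (RingHom.ext fun x ↦ congr_arg Subtype.val
      ((RingEquiv.ofBijective _ hbij).apply_symm_apply (β.hom.rangeRestrict x)))
  refine ⟨Spec.map φ ≫ X.fromSpecStalk _, ?_, ?_⟩
  · rw [Category.assoc, ← Scheme.SpecMap_stalkMap_fromSpecStalk, ← Spec.map_comp_assoc, hαφ']
    simp only [Iso.trans_inv, TopCat.Presheaf.stalkCongr_inv, Iso.symm_inv, Spec.map_comp,
      Category.assoc, Scheme.SpecMap_stalkSpecializes_fromSpecStalk_assoc,
      Scheme.SpecMap_stalkSpecializes_fromSpecStalk, e]
    rw [← Spec_stalkClosedPointIso, ← Spec.map_comp, Iso.inv_hom_id, Spec.map_id]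
  · simp only [← Spec.map_comp_assoc, Category.assoc, hφβ]
    simp only [Spec.map_comp, Category.assoc, Scheme.SpecMap_stalkMap_fromSpecStalk,
      Scheme.SpecMap_stalkSpecializes_fromSpecStalk_assoc,
      Scheme.SpecMap_stalkSpecializes_fromSpecStalk, β]
    rw [Scheme.Spec_stalkClosedPointTo_fromSpecStalk]

theorem S4439_main (A : Type u) [CommRing A] [IsDomain A]
    [ValuationRing A] (K : Type u) [Field K] [Algebra A K] [IsFractionRing A K] (X : Scheme.{u})
    (f : X ⟶ Spec (CommRingCat.of A)) [IsSeparated f] (hf : IsClosedMap f.base)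
    (x : Spec (CommRingCat.of K) ⟶ X) (hx : x ≫ f = Spec.map (CommRingCat.ofHom (algebraMap A K))) :
    ∃! s : Spec (CommRingCat.of A) ⟶ X, s ≫ f = 𝟙 _ ∧
      Spec.map (CommRingCat.ofHom (algebraMap A K)) ≫ s = x := by
  obtain ⟨s, hs1, hs2⟩ := exists_section A K X f hf.specializingMap x hx
  refine ⟨s, ⟨hs1, hs2⟩, ?_⟩
  rintro s' ⟨h1, h2⟩
  have huniq := IsSeparated.valuativeCriterion f
  let S : ValuativeCommSq f :=
    { R := A, K := K, i₁ := x, i₂ := 𝟙 _, commSq := ⟨by rw [hx, Category.comp_id]⟩ }
  have hS := huniq S
  let l1 : S.commSq.LiftStruct := ⟨s, hs2, hs1⟩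
  let l2 : S.commSq.LiftStruct := ⟨s', h2, h1⟩
  have h12 : l1 = l2 := Subsingleton.elim l1 l2
  exact (congrArg CommSq.LiftStruct.l h12).symm

theorem S2342_main (A : Type u) [CommRing A] [IsDomain A] [ValuationRing A]
    (X : Scheme.{u}) [IsIntegral X] [X.IsSeparated] (f : X ⟶ Spec (CommRingCat.of A))
    (hf : IsClosedMap f.base)
    (x : X) (hx : f.base ⁻¹' {genericPoint (Spec (CommRingCat.of A))} = {x})
    (hres : Function.Bijective (f.residueFieldMap x).hom) : IsIso f := by
  have hfx : f x = genericPoint (Spec (CommRingCat.of A)) := by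
    have : x ∈ f.base ⁻¹' {genericPoint (Spec (CommRingCat.of A))} := by rw [hx]; rfl
    exact this
  have hsp : f x ⤳ genericPoint (Spec (CommRingCat.of A)) := specializes_of_eq hfx
  have hsp' : genericPoint (Spec (CommRingCat.of A)) ⤳ f x := specializes_of_eq hfx.symm
  let θ : (Spec (CommRingCat.of A)).functionField ⟶ X.residueField x :=
    (Spec (CommRingCat.of A)).presheaf.stalkSpecializes hsp ≫ f.stalkMap x ≫ X.residue x
  have hθi : Function.Injective θ.hom := θ.hom.injective
  have hθs : Function.Surjective θ.hom := by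
    have h1 : θ = (Spec (CommRingCat.of A)).presheaf.stalkSpecializes hsp ≫
        (Spec (CommRingCat.of A)).residue (f x) ≫ f.residueFieldMap x := by
      rw [Scheme.residue_residueFieldMap]
    rw [h1]
    have h2 : Function.Surjective ((Spec (CommRingCat.of A)).presheaf.stalkSpecializes hsp).hom := by
      intro t
      refine ⟨((Spec (CommRingCat.of A)).presheaf.stalkSpecializes hsp').hom t, ?_⟩
      rw [← CommRingCat.comp_apply, TopCat.Presheaf.stalkSpecializes_comp]
      simp
    have h3 : Function.Surjective ((Spec (CommRingCat.of A)).residue (f x)).hom :=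
      IsLocalRing.residue_surjective
    simp only [CommRingCat.hom_comp, RingHom.coe_comp]
    exact hres.surjective.comp (h3.comp h2)
  have : IsDomain (CommRingCat.of A) := ‹_›
  letI : Algebra A (Spec (CommRingCat.of A)).functionField :=
    AlgebraicGeometry.instAlgebraCarrierFunctionFieldSpec (CommRingCat.of A)
  haveI : IsFractionRing A (Spec (CommRingCat.of A)).functionField :=
    functionField_isFractionRing_of_affine (CommRingCat.of A)
  letI : Algebra A (X.residueField x) :=
    (θ.hom.comp (algebraMap A (Spec (CommRingCat.of A)).functionField)).toAlgebra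
  let e : (Spec (CommRingCat.of A)).functionField ≃ₐ[A] X.residueField x :=
    AlgEquiv.ofBijective ⟨θ.hom, fun r => rfl⟩ ⟨hθi, hθs⟩
  haveI : IsFractionRing A (X.residueField x) :=
    IsLocalization.isLocalization_of_algEquiv (nonZeroDivisors A) e
  have hx' : X.fromSpecResidueField x ≫ f =
      Spec.map (CommRingCat.ofHom (algebraMap A (X.residueField x))) := by
    have h0 : CommRingCat.ofHom (algebraMap A (X.residueField x)) =
        StructureSheaf.toStalk (CommRingCat.of A) (genericPoint (Spec (CommRingCat.of A))) ≫ θ := rfl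
    have h1 : Spec.map θ = Spec.map (X.residue x) ≫ Spec.map (f.stalkMap x) ≫
        Spec.map ((Spec (CommRingCat.of A)).presheaf.stalkSpecializes hsp) := by
      change Spec.map (_ ≫ _ ≫ _) = _
      rw [Spec.map_comp, Spec.map_comp, Category.assoc]
    calc X.fromSpecResidueField x ≫ f
        = (Spec.map (X.residue x) ≫ Spec.map (f.stalkMap x) ≫
            Spec.map ((Spec (CommRingCat.of A)).presheaf.stalkSpecializes hsp)) ≫
            (Spec (CommRingCat.of A)).fromSpecStalk (genericPoint (Spec (CommRingCat.of A))) := by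
          rw [Category.assoc, Category.assoc, Scheme.SpecMap_stalkSpecializes_fromSpecStalk,
            Scheme.SpecMap_stalkMap_fromSpecStalk]
          rfl
      _ = Spec.map θ ≫
            (Spec (CommRingCat.of A)).fromSpecStalk (genericPoint (Spec (CommRingCat.of A))) := by
          rw [h1]
      _ = Spec.map θ ≫ Spec.map (StructureSheaf.toStalk (CommRingCat.of A)
            (genericPoint (Spec (CommRingCat.of A)))) := by
          rw [Spec.fromSpecStalk_eq']
          rfl
      _ = Spec.map (StructureSheaf.toStalk (CommRingCat.of A)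
            (genericPoint (Spec (CommRingCat.of A))) ≫ θ) := (Spec.map_comp _ _).symm
      _ = _ := by rw [h0]
  obtain ⟨s, hs1, hs2⟩ := exists_section A (X.residueField x) X f hf.specializingMap _ hx'
  have hci : IsClosedImmersion s := by
    have : IsClosedImmersion (s ≫ f) := by rw [hs1]; infer_instance
    exact IsClosedImmersion.of_comp s f
  have hxgen : x = genericPoint X := by
    have h1 : genericPoint X ⤳ x := by
      rw [specializes_iff_mem_closure, (genericPoint_spec X).def]; trivial
    have h2 : f (genericPoint X) ⤳ f x := h1.map f.continuous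
    have h3 : genericPoint (Spec (CommRingCat.of A)) ⤳ f (genericPoint X) := by
      rw [specializes_iff_mem_closure, (genericPoint_spec _).def]; trivial
    have h4 : f (genericPoint X) = genericPoint (Spec (CommRingCat.of A)) :=
      ((hfx ▸ h2).antisymm h3).eq
    have h5 : genericPoint X ∈ f.base ⁻¹' {genericPoint (Spec (CommRingCat.of A))} := h4
    rw [hx] at h5
    exact h5.symm
  have hxs : x ∈ Set.range s := by
    refine ⟨(Spec.map (CommRingCat.ofHom (algebraMap A (X.residueField x))))
      (IsLocalRing.closedPoint _), ?_⟩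
    rw [← Scheme.Hom.comp_apply, hs2]
    exact Scheme.fromSpecResidueField_apply x _
  have hsurj : Surjective s := by
    constructor
    rw [← Set.range_eq_univ, ← Set.univ_subset_iff]
    have hcl : IsClosed (Set.range s) := s.isClosedEmbedding.isClosed_range
    have : closure {x} ⊆ Set.range s := hcl.closure_subset_iff.mpr (Set.singleton_subset_iff.mpr hxs)
    rw [hxgen, (genericPoint_spec X).def] at this
    exact this
  have hiso : IsIso s := isIso_of_isClosedImmersion_of_surjective s
  have : IsIso (s ≫ f) := by rw [hs1]; infer_instance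
  exact IsIso.of_isIso_comp_left s f
end Groth.Agent.Lib.Helper4.ValSection
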