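import Mathlib
import Groth.Agent.Lib.Helper4.ValSection
import Groth.Agent.Lib.Helper4.ValCritBirational1
import Groth.Agent.Lib.Helper4.LocClosedPt1

/-!
# Extension of rational sections and rational maps over points with valuation-ring stalks (helper4)
-/

set_option backward.isDefEq.respectTransparency.types false
set_option synthInstance.maxHeartbeats 400000
set_option autoImplicit false
set_option linter.unusedSectionVars false
set_option linter.style.haveILetI false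
set_option linter.unusedSimpArgs false
universe u v w
open CategoryTheory CategoryTheory.Limits AlgebraicGeometry TopologicalSpace IsLocalRing

namespace Groth.Agent.Lib.Helper4.RationalExt1

/-- A Noetherian local ring whose maximal ideal is principal and which has a prime ideal other
than the maximal ideal is a domain. -/
theorem bot_isPrime_of_principal_maximalIdeal (R : Type*) [CommRing R] [IsLocalRing R]
    [IsNoetherianRing R] (t : R) (ht : maximalIdeal R = Ideal.span {t})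
    (P : Ideal R) [hP : P.IsPrime] (hPm : P ≠ maximalIdeal R) : P = ⊥ := by
  have hPle : P ≤ maximalIdeal R := IsLocalRing.le_maximalIdeal hP.ne_top
  have htP : t ∉ P := by
    intro h
    apply hPm
    refine le_antisymm hPle ?_
    rw [ht, Ideal.span_singleton_le_iff_mem]
    exact h
  have hle : P ≤ maximalIdeal R • P := by
    intro x hx
    have hxm : x ∈ maximalIdeal R := hPle hx
    rw [ht, Ideal.mem_span_singleton'] at hxm
    obtain ⟨y, rfl⟩ := hxm
    have hy : y ∈ P := (hP.mem_or_mem hx).resolve_right htP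
    rw [mul_comm]
    have : t * y = t • y := rfl
    rw [this]
    exact Submodule.smul_mem_smul (ht ▸ Ideal.mem_span_singleton_self t) hy
  exact Submodule.eq_bot_of_le_smul_of_le_jacobson_bot (maximalIdeal R) P
    (IsNoetherian.noetherian P) hle (IsLocalRing.maximalIdeal_le_jacobson ⊥)




theorem exists_valuationRing_of_isRegularLocalRing_of_dim_le_one (R : Type*) [CommRing R]
    [IsRegularLocalRing R] (h : ringKrullDim R ≤ 1) : ∃ _ : IsDomain R, ValuationRing R := by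
  have hspan := IsRegularLocalRing.spanFinrank_maximalIdeal (R := R)
  have hfg : (maximalIdeal R).FG := IsNoetherian.noetherian _
  have hn : (maximalIdeal R).spanFinrank ≤ 1 := by
    have : ((maximalIdeal R).spanFinrank : WithBot ℕ∞) ≤ 1 := hspan ▸ h
    exact_mod_cast this
  obtain ⟨s, hs1, hs2⟩ := Submodule.FG.exists_span_finset_card_eq_spanFinrank hfg
  -- principal generator
  obtain ⟨t, ht⟩ : ∃ t : R, maximalIdeal R = Ideal.span {t} := by
    have hc : s.card ≤ 1 := hs1 ▸ hn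
    rcases Finset.card_le_one_iff_subset_singleton.mp hc with ⟨t, hst⟩
    rcases Finset.subset_singleton_iff.mp hst with hse | hse
    · subst hse
      refine ⟨0, ?_⟩
      simp only [Finset.coe_empty, Submodule.span_empty] at hs2
      rw [← hs2]; simp
    · subst hse
      refine ⟨t, ?_⟩
      rw [← hs2]; simp [Ideal.span]
  have hbot : (⊥ : Ideal R).IsPrime := by
    by_cases hm : maximalIdeal R = ⊥
    · rw [← hm]; infer_instance
    · have h0 : (maximalIdeal R).spanFinrank ≠ 0 := by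
        rw [Ne, Submodule.spanFinrank_eq_zero_iff_eq_bot hfg]; exact hm
      have h1 : (1 : ℕ) ≤ Order.krullDim (PrimeSpectrum R) := by
        have : ((1 : ℕ) : WithBot ℕ∞) ≤ ((maximalIdeal R).spanFinrank : WithBot ℕ∞) := by
          exact_mod_cast Nat.one_le_iff_ne_zero.mpr h0
        rw [hspan] at this
        exact this
      obtain ⟨l, hl⟩ := Order.le_krullDim_iff.mp h1
      let i0 : Fin (l.length + 1) := ⟨0, by omega⟩
      let i1 : Fin (l.length + 1) := ⟨1, by omega⟩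
      have hlt : l i0 < l i1 := l.strictMono (by simp [i0, i1, Fin.lt_def])
      have hPm : (l i0).asIdeal ≠ maximalIdeal R := by
        intro he
        have h2 : (l i1).asIdeal ≤ maximalIdeal R := IsLocalRing.le_maximalIdeal (l i1).2.ne_top
        have h3 : (l i0).asIdeal < (l i1).asIdeal := hlt
        exact absurd (he ▸ h3) (not_lt_of_ge h2)
      have := bot_isPrime_of_principal_maximalIdeal R t ht (l i0).asIdeal hPm
      rw [← this]; exact (l i0).2
  haveI : IsDomain R := IsDomain.of_bot_isPrime R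
  refine ⟨inferInstance, ?_⟩
  have hp : (maximalIdeal R).IsPrincipal := ⟨⟨t, ht⟩⟩
  exact ((tfae_of_isNoetherianRing_of_isLocalRing_of_isDomain R).out 4 1).mp hp



/-- In a quasi-sober space, if `y` has a Noetherian open neighbourhood and `ξ` specializes to
every generization of `y`, then `ξ` specializes to every point of a neighbourhood of `y`. -/
theorem exists_open_forall_specializes {X : Type*} [TopologicalSpace X] [QuasiSober X]
    (y ξ : X) (W : Set X) (hW : IsOpen W) (hyW : y ∈ W) [NoetherianSpace ↥W]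
    (hmax : ∀ z : X, z ⤳ y → ξ ⤳ z) :
    ∃ O : Set X, IsOpen O ∧ y ∈ O ∧ ∀ z ∈ O, ξ ⤳ z := by
  haveI : QuasiSober ↥W := hW.isOpenEmbedding_subtypeVal.quasiSober
  let y' : W := ⟨y, hyW⟩
  have hfin : (irreducibleComponents ↥W).Finite := NoetherianSpace.finite_irreducibleComponents
  let 𝒯 : Set (Set ↥W) := {T ∈ irreducibleComponents ↥W | y' ∉ T}
  have h𝒯fin : 𝒯.Finite := hfin.subset (fun T hT => hT.1)
  let F : Set ↥W := ⋃₀ 𝒯
  have hFc : IsClosed F := by
    show IsClosed (⋃₀ 𝒯)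
    rw [Set.sUnion_eq_biUnion]
    exact h𝒯fin.isClosed_biUnion (fun T hT => isClosed_of_mem_irreducibleComponents T hT.1)
  have hyF : y' ∉ F := by
    rintro ⟨T, hT, hyT⟩
    exact hT.2 hyT
  refine ⟨Subtype.val '' Fᶜ, hW.isOpenMap_subtype_val _ hFc.isOpen_compl, ⟨y', hyF, rfl⟩, ?_⟩
  rintro _ ⟨z', hz'F, rfl⟩
  let T := irreducibleComponent z'
  have hT : T ∈ irreducibleComponents ↥W := irreducibleComponent_mem_irreducibleComponents z'
  have hz'T : z' ∈ T := mem_irreducibleComponent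
  have hyT : y' ∈ T := by
    by_contra h
    exact hz'F ⟨T, ⟨hT, h⟩, hz'T⟩
  obtain ⟨ζ', hζ'⟩ := QuasiSober.sober hT.1 (isClosed_of_mem_irreducibleComponents T hT)
  have h1 : ζ' ⤳ y' := by
    rw [specializes_iff_mem_closure, hζ'.def]; exact hyT
  have h2 : ζ' ⤳ z' := by
    rw [specializes_iff_mem_closure, hζ'.def]; exact hz'T
  have h1' : (ζ' : X) ⤳ y := h1.map continuous_subtype_val
  have h2' : (ζ' : X) ⤳ (z' : X) := h2.map continuous_subtype_val
  exact (hmax _ h1').trans h2'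



theorem specMap_fractionMap_specializes (R : Type u) [CommRing R] [IsDomain R]
    (K : Type u) [Field K] [Algebra R K] [IsFractionRing R K]
    (pt : Spec (CommRingCat.of K)) (p : Spec (CommRingCat.of R)) :
    (Spec.map (CommRingCat.ofHom (algebraMap R K))) pt ⤳ p := by
  refine (PrimeSpectrum.le_iff_specializes
    ((Spec.map (CommRingCat.ofHom (algebraMap R K))) pt) p).mp ?_
  change Ideal.comap (algebraMap R K) pt.asIdeal ≤ p.asIdeal
  have : pt.asIdeal = ⊥ := Ideal.eq_bot_of_prime pt.asIdeal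
  rw [this, Ideal.comap_bot_of_injective _ (IsFractionRing.injective R K)]
  exact bot_le

theorem exists_noetherianSpace_nhd (Y : Scheme.{u}) [IsLocallyNoetherian Y] (y : Y) :
    ∃ W : Y.Opens, y ∈ W ∧ NoetherianSpace ↥W := by
  obtain ⟨W, hW, hyW, -⟩ := exists_isAffineOpen_mem_and_subset (x := y) (U := ⊤) trivial
  have : IsNoetherianRing Γ(Y, W) := IsLocallyNoetherian.component_noetherian ⟨W, hW⟩
  exact ⟨W, hyW, noetherianSpace_of_isAffineOpen W hW⟩



theorem specializingMap_snd_of_isClosedMap {X Y Z : Scheme.{u}} (f : X ⟶ Y)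
    (hcl : IsClosedMap f.base) (j : Z ⟶ Y) [IsPreimmersion j] :
    SpecializingMap (pullback.snd f j) := by
  intro p r' h
  have h1 : f (pullback.fst f j p) ⤳ j r' := by
    have : f (pullback.fst f j p) = j (pullback.snd f j p) := by
      rw [← Scheme.Hom.comp_apply, pullback.condition, Scheme.Hom.comp_apply]
    rw [this]
    exact h.map j.continuous
  obtain ⟨x', hx'1, hx'2⟩ := hcl.specializingMap h1
  obtain ⟨p', hp'1, hp'2⟩ := Scheme.Pullback.exists_preimage_pullback x' r' hx'2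
  refine ⟨p', ?_, hp'2⟩
  have hind : Topology.IsInducing (pullback.fst f j) :=
    (pullback.fst f j).isEmbedding.isInducing
  show p ⤳ p'
  rw [← hind.specializes_iff, hp'1]
  exact hx'1

theorem exists_lift_of_closed (R : Type u) [CommRing R] [IsDomain R] [ValuationRing R]
    (K : Type u) [Field K] [Algebra R K] [IsFractionRing R K] {X Y : Scheme.{u}}
    (f : X ⟶ Y) (hcl : IsClosedMap f.base) (j : Spec (CommRingCat.of R) ⟶ Y) [IsPreimmersion j]
    (l : Spec (CommRingCat.of K) ⟶ X)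
    (hl : l ≫ f = Spec.map (CommRingCat.ofHom (algebraMap R K)) ≫ j) :
    ∃ σ : Spec (CommRingCat.of R) ⟶ X, σ ≫ f = j ∧
      Spec.map (CommRingCat.ofHom (algebraMap R K)) ≫ σ = l := by
  obtain ⟨σ₀, h1, h2⟩ := Groth.Agent.Lib.Helper4.ValSection.exists_section R K (pullback f j)
    (pullback.snd f j) (specializingMap_snd_of_isClosedMap f hcl j)
    (pullback.lift l (Spec.map (CommRingCat.ofHom (algebraMap R K))) hl) (pullback.lift_snd _ _ _)
  refine ⟨σ₀ ≫ pullback.fst f j, ?_, ?_⟩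
  · rw [Category.assoc, pullback.condition, reassoc_of% h1]
  · rw [reassoc_of% h2, pullback.lift_fst]



/-- A morphism to `A` is dominant as soon as one point of its image specializes (after an
inducing map `e`) to every point. -/
theorem isDominant_of_forall_specializes {T A Y : Scheme.{u}} (ι : T ⟶ A) (e : A ⟶ Y)
    [IsOpenImmersion e] (t : T) (h : ∀ a' : A, e (ι t) ⤳ e a') : IsDominant ι := by
  constructor
  intro a'
  have h1 : ι t ⤳ a' := (e.isOpenEmbedding.isInducing.specializes_iff).mp (h a')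
  have h2 : ({ι t} : Set A) ⊆ Set.range ι := Set.singleton_subset_iff.mpr ⟨t, rfl⟩
  exact closure_mono h2 (specializes_iff_mem_closure.mp h1)

theorem exists_local_extension {X Y : Scheme.{u}} [IsLocallyNoetherian Y] [IsReduced Y]
    (f : X ⟶ Y) [IsSeparated f] [LocallyOfFiniteType f] (hcl : IsClosedMap f.base)
    (V : Y.Opens) (hV : Dense (V : Set Y)) (s : (V : Scheme.{u}) ⟶ X) (hs : s ≫ f = V.ι)
    (y : Y) [IsDomain (Y.presheaf.stalk y)] [ValuationRing (Y.presheaf.stalk y)] :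
    ∃ (U : Y.Opens) (_ : y ∈ U) (g : (U : Scheme.{u}) ⟶ X), g ≫ f = U.ι ∧
      pullback.fst U.ι V.ι ≫ g = pullback.snd U.ι V.ι ≫ s := by
  let K : Type u := FractionRing (Y.presheaf.stalk y)
  let a : Y.presheaf.stalk y ⟶ CommRingCat.of K :=
    CommRingCat.ofHom (algebraMap (Y.presheaf.stalk y) K)
  let j : Spec (Y.presheaf.stalk y) ⟶ Y := Y.fromSpecStalk y
  let pt : Spec (CommRingCat.of K) := closedPoint K
  have hξ : ∀ z : Y, z ⤳ y → (Spec.map a ≫ j) pt ⤳ z := by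
    intro z hz
    obtain ⟨p, rfl⟩ : z ∈ Set.range j := by rw [Scheme.range_fromSpecStalk]; exact hz
    rw [Scheme.Hom.comp_apply]
    have h := specMap_fractionMap_specializes (Y.presheaf.stalk y) K pt
    exact (h p).map j.continuous
  obtain ⟨W, hyW, hWn⟩ := exists_noetherianSpace_nhd Y y
  obtain ⟨O, hO, hyO, hOξ⟩ := exists_open_forall_specializes y ((Spec.map a ≫ j) pt) W W.2 hyW hξ
  have hξV : (Spec.map a ≫ j) pt ∈ V := by
    obtain ⟨z, hzO, hzV⟩ := hV.inter_open_nonempty O hO ⟨y, hyO⟩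
    exact (hOξ z hzO).mem_open V.2 hzV
  have hpt : ∀ pt' : Spec (CommRingCat.of K), pt' = pt := fun pt' => Subsingleton.elim _ _
  let κ : Spec (CommRingCat.of K) ⟶ V := IsOpenImmersion.lift V.ι (Spec.map a ≫ j) (by
    rintro _ ⟨pt', rfl⟩
    rw [hpt pt', Scheme.Opens.range_ι]
    exact hξV)
  have hκ : κ ≫ V.ι = Spec.map a ≫ j := IsOpenImmersion.lift_fac _ _ _
  have hlift := exists_lift_of_closed (Y.presheaf.stalk y) K f hcl
  obtain ⟨σ, hσ1, hσ2⟩ := hlift (Y.fromSpecStalk y) (κ ≫ s) (by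
    rw [Category.assoc, hs, hκ]; rfl)
  obtain ⟨U, hyU, g, hg1, hg2⟩ := spread_out_of_isGermInjective' (𝟙 Y) f σ (by
    rw [hσ1, Category.comp_id])
  rw [Category.comp_id] at hg2
  let O' : Y.Opens := ⟨O, hO⟩
  let U' : Y.Opens := U ⊓ O'
  have hyU' : y ∈ U' := ⟨hyU, hyO⟩
  have hU'U : U' ≤ U := inf_le_left
  refine ⟨U', hyU', Y.homOfLE hU'U ≫ g, ?_, ?_⟩
  · rw [Category.assoc, hg2, Scheme.homOfLE_ι]
  · have hξU' : (Spec.map a ≫ j) pt ∈ U' := (hξ y specializes_rfl).mem_open U'.2 hyU'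
    let κ' : Spec (CommRingCat.of K) ⟶ U' := IsOpenImmersion.lift U'.ι (Spec.map a ≫ j) (by
      rintro _ ⟨pt', rfl⟩
      rw [hpt pt', Scheme.Opens.range_ι]
      exact hξU')
    have hκ' : κ' ≫ U'.ι = Spec.map a ≫ j := IsOpenImmersion.lift_fac _ _ _
    let ιK : Spec (CommRingCat.of K) ⟶ pullback U'.ι V.ι := pullback.lift κ' κ (by rw [hκ', hκ])
    haveI : IsReduced (pullback U'.ι V.ι) :=
      isReduced_of_isOpenImmersion (pullback.fst U'.ι V.ι ≫ U'.ι)
    haveI : IsDominant ιK := by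
      refine isDominant_of_forall_specializes ιK (pullback.fst U'.ι V.ι ≫ U'.ι) pt ?_
      intro a'
      have e1 : (pullback.fst U'.ι V.ι ≫ U'.ι) (ιK pt) = (Spec.map a ≫ j) pt := by
        rw [← Scheme.Hom.comp_apply, pullback.lift_fst_assoc, hκ']
      rw [e1]
      apply hOξ
      rw [Scheme.Hom.comp_apply]
      exact (pullback.fst U'.ι V.ι a').2.2
    refine ext_of_isDominant_of_isSeparated f ?_ ιK ?_
    · simp only [Category.assoc, hg2, hs, Scheme.homOfLE_ι]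
      exact pullback.condition
    · have e2 : κ' ≫ Y.homOfLE hU'U = Spec.map a ≫ U.fromSpecStalkOfMem y hyU := by
        rw [← cancel_mono U.ι, Category.assoc, Scheme.homOfLE_ι, hκ', Category.assoc,
          Scheme.Opens.fromSpecStalkOfMem_ι]
      rw [pullback.lift_fst_assoc, pullback.lift_snd_assoc, reassoc_of% e2, ← hg1]
      exact hσ2



theorem isDominant_fst_of_dense {A Y : Scheme.{u}} (a : A ⟶ Y) [IsOpenImmersion a]
    (V : Y.Opens) (hV : Dense (V : Set Y)) : IsDominant (pullback.fst a V.ι) := by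
  constructor
  show Dense (Set.range (pullback.fst a V.ι))
  rw [Scheme.Pullback.range_fst, Scheme.Opens.range_ι]
  exact hV.preimage a.isOpenEmbedding.isOpenMap

theorem agree_transfer {X Y : Scheme.{u}} (V : Y.Opens) (s : (V : Scheme.{u}) ⟶ X)
    (U : Y.Opens) (g : (U : Scheme.{u}) ⟶ X)
    (hg : pullback.fst U.ι V.ι ≫ g = pullback.snd U.ι V.ι ≫ s) {A : Scheme.{u}}
    (u : A ⟶ U) :
    pullback.fst (u ≫ U.ι) V.ι ≫ u ≫ g = pullback.snd (u ≫ U.ι) V.ι ≫ s := by
  let l : pullback (u ≫ U.ι) V.ι ⟶ pullback U.ι V.ι :=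
    pullback.lift (pullback.fst (u ≫ U.ι) V.ι ≫ u) (pullback.snd (u ≫ U.ι) V.ι)
      (by rw [Category.assoc]; exact pullback.condition)
  have h1 : l ≫ pullback.fst U.ι V.ι = pullback.fst (u ≫ U.ι) V.ι ≫ u := pullback.lift_fst _ _ _
  have h2 : l ≫ pullback.snd U.ι V.ι = pullback.snd (u ≫ U.ι) V.ι := pullback.lift_snd _ _ _
  rw [← reassoc_of% h1, hg, reassoc_of% h2]

theorem comp_eq_comp_of_agree {X Y : Scheme.{u}} [IsReduced Y] (f : X ⟶ Y) [IsSeparated f]
    (V : Y.Opens) (hV : Dense (V : Set Y)) (s : (V : Scheme.{u}) ⟶ X)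
    (U₁ U₂ : Y.Opens) (g₁ : (U₁ : Scheme.{u}) ⟶ X) (g₂ : (U₂ : Scheme.{u}) ⟶ X)
    (hg₁ : g₁ ≫ f = U₁.ι) (hg₂ : g₂ ≫ f = U₂.ι)
    (c₁ : pullback.fst U₁.ι V.ι ≫ g₁ = pullback.snd U₁.ι V.ι ≫ s)
    (c₂ : pullback.fst U₂.ι V.ι ≫ g₂ = pullback.snd U₂.ι V.ι ≫ s)
    {A : Scheme.{u}} (u₁ : A ⟶ U₁) (u₂ : A ⟶ U₂) (hu : u₁ ≫ U₁.ι = u₂ ≫ U₂.ι)
    (hu₁ : IsOpenImmersion u₁) : u₁ ≫ g₁ = u₂ ≫ g₂ := by
  haveI : IsOpenImmersion (u₁ ≫ U₁.ι) := IsOpenImmersion.comp _ _
  have t₁ := agree_transfer V s U₁ g₁ c₁ u₁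
  have t₂ := agree_transfer V s U₂ g₂ c₂ u₂
  have key : ∀ (a₂ : A ⟶ Y) (_ : u₁ ≫ U₁.ι = a₂)
      (_ : pullback.fst a₂ V.ι ≫ u₂ ≫ g₂ = pullback.snd a₂ V.ι ≫ s),
      pullback.fst (u₁ ≫ U₁.ι) V.ι ≫ u₂ ≫ g₂ = pullback.snd (u₁ ≫ U₁.ι) V.ι ≫ s := by
    rintro _ rfl c; exact c
  have t₂' := key _ hu t₂
  haveI : IsReduced A := isReduced_of_isOpenImmersion (u₁ ≫ U₁.ι)
  haveI := isDominant_fst_of_dense (u₁ ≫ U₁.ι) V hV
  refine ext_of_isDominant_of_isSeparated f ?_ (pullback.fst (u₁ ≫ U₁.ι) V.ι) (t₁.trans t₂'.symm)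
  rw [Category.assoc, Category.assoc, hg₁, hg₂, hu]

theorem glue_family {X Y : Scheme.{u}} [IsReduced Y] (f : X ⟶ Y) [IsSeparated f]
    (V : Y.Opens) (hV : Dense (V : Set Y)) (s : (V : Scheme.{u}) ⟶ X)
    {J : Type u} (𝒱 : J → Y.Opens) (g : ∀ j, ((𝒱 j : Y.Opens) : Scheme.{u}) ⟶ X)
    (hg : ∀ j, g j ≫ f = (𝒱 j).ι)
    (hc : ∀ j, pullback.fst (𝒱 j).ι V.ι ≫ g j = pullback.snd (𝒱 j).ι V.ι ≫ s) :
    ∃ s' : ((⨆ j, 𝒱 j : Y.Opens) : Scheme.{u}) ⟶ X, s' ≫ f = (⨆ j, 𝒱 j).ι ∧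
      ∀ j, Y.homOfLE (le_iSup 𝒱 j) ≫ s' = g j := by
  let 𝒰 := Scheme.Opens.iSupOpenCover 𝒱
  have compat : ∀ j₁ j₂ : J, pullback.fst (𝒰.f j₁) (𝒰.f j₂) ≫ g j₁ =
      pullback.snd (𝒰.f j₁) (𝒰.f j₂) ≫ g j₂ := by
    intro j₁ j₂
    have hu : pullback.fst (𝒰.f j₁) (𝒰.f j₂) ≫ (𝒱 j₁).ι =
        pullback.snd (𝒰.f j₁) (𝒰.f j₂) ≫ (𝒱 j₂).ι := by
      have e1 : (𝒱 j₁).ι = 𝒰.f j₁ ≫ (⨆ j, 𝒱 j).ι := (Scheme.homOfLE_ι Y (le_iSup 𝒱 j₁)).symm
      have e2 : (𝒱 j₂).ι = 𝒰.f j₂ ≫ (⨆ j, 𝒱 j).ι := (Scheme.homOfLE_ι Y (le_iSup 𝒱 j₂)).symm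
      rw [e1, e2, pullback.condition_assoc]
    haveI : IsOpenImmersion (𝒰.f j₂) := 𝒰.map_prop j₂
    have hoi : IsOpenImmersion (pullback.fst (𝒰.f j₁) (𝒰.f j₂)) := inferInstance
    exact comp_eq_comp_of_agree f V hV s (𝒱 j₁) (𝒱 j₂) (g j₁) (g j₂) (hg j₁) (hg j₂) (hc j₁) (hc j₂)
      (pullback.fst (𝒰.f j₁) (𝒰.f j₂)) (pullback.snd (𝒰.f j₁) (𝒰.f j₂)) hu hoi
  refine ⟨𝒰.glueMorphisms g compat, ?_, ?_⟩
  · refine 𝒰.hom_ext _ _ fun j => ?_
    rw [Scheme.Cover.ι_glueMorphisms_assoc]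
    exact (hg j).trans (Scheme.homOfLE_ι Y (le_iSup 𝒱 j)).symm
  · intro j
    exact 𝒰.ι_glueMorphisms _ compat j

theorem extend_main {X Y : Scheme.{u}} [IsLocallyNoetherian Y] [IsReduced Y]
    (f : X ⟶ Y) [IsSeparated f] [LocallyOfFiniteType f] (hcl : IsClosedMap f.base)
    (V : Y.Opens) (hV : Dense (V : Set Y)) (s : (V : Scheme.{u}) ⟶ X) (hs : s ≫ f = V.ι)
    (D : Set Y)
    (hD : ∀ y ∈ D, ∃ _ : IsDomain (Y.presheaf.stalk y), ValuationRing (Y.presheaf.stalk y)) :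
    ∃ (U : Y.Opens) (hVU : V ≤ U) (s' : (U : Scheme.{u}) ⟶ X), s' ≫ f = U.ι ∧
      Y.homOfLE hVU ≫ s' = s ∧ ∀ y ∈ D, y ∈ U := by
  let J : Type u := { p : Σ U : Y.Opens, ((U : Scheme.{u}) ⟶ X) //
    p.2 ≫ f = p.1.ι ∧ pullback.fst p.1.ι V.ι ≫ p.2 = pullback.snd p.1.ι V.ι ≫ s }
  let j₀ : J := ⟨⟨V, s⟩, hs, by
    have : pullback.fst V.ι V.ι = pullback.snd V.ι V.ι := by
      rw [← cancel_mono V.ι]; exact pullback.condition
    show pullback.fst V.ι V.ι ≫ s = pullback.snd V.ι V.ι ≫ s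
    rw [this]⟩
  obtain ⟨s', hs'1, hs'2⟩ := glue_family f V hV s (J := J) (fun j => j.1.1) (fun j => j.1.2)
    (fun j => j.2.1) (fun j => j.2.2)
  refine ⟨⨆ j : J, j.1.1, le_iSup (fun j : J => j.1.1) j₀, s', hs'1, hs'2 j₀, ?_⟩
  intro y hy
  obtain ⟨_, _⟩ := hD y hy
  obtain ⟨U, hyU, g, hg1, hg2⟩ := exists_local_extension f hcl V hV s hs y
  exact Opens.mem_iSup.mpr ⟨⟨⟨U, g⟩, hg1, hg2⟩, hyU⟩



theorem S2354_main {X Y : Scheme.{u}} [IsLocallyNoetherian Y] [IsReduced Y]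
    (hreg : ∀ y : Y, ringKrullDim (Y.presheaf.stalk y) ≤ 1 → IsRegularLocalRing (Y.presheaf.stalk y))
    (f : X ⟶ Y) [IsSeparated f] [LocallyOfFiniteType f] (hcl : IsClosedMap f.base)
    (V : Y.Opens) (hV : Dense (V : Set Y)) (s : (V : Scheme.{u}) ⟶ X) (hs : s ≫ f = V.ι) :
    ∃ (U : Y.Opens) (hVU : V ≤ U) (s' : (U : Scheme.{u}) ⟶ X), s' ≫ f = U.ι ∧ Y.homOfLE hVU ≫ s' = s ∧
      ∀ y : Y, ringKrullDim (Y.presheaf.stalk y) ≤ 1 → y ∈ U := by
  refine extend_main f hcl V hV s hs {y | ringKrullDim (Y.presheaf.stalk y) ≤ 1} ?_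
  intro y hy
  haveI := hreg y hy
  exact exists_valuationRing_of_isRegularLocalRing_of_dim_le_one _ hy

/-- Maps to a proper scheme: the version with a set `D` of points with valuation-ring stalks. -/
theorem extend_to_proper {S X Y : Scheme.{u}}
    (p : X ⟶ S) [IsProper p] (q : Y ⟶ S) [IsLocallyNoetherian Y] [IsReduced Y]
    (D : Set Y)
    (hD : ∀ y ∈ D, ∃ _ : IsDomain (Y.presheaf.stalk y), ValuationRing (Y.presheaf.stalk y))
    (V : Y.Opens) (hV : Dense (V : Set Y)) (g : (V : Scheme.{u}) ⟶ X) (hg : g ≫ p = V.ι ≫ q) :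
    ∃ (U : Y.Opens) (hVU : V ≤ U) (g' : (U : Scheme.{u}) ⟶ X), g' ≫ p = U.ι ≫ q ∧
      Y.homOfLE hVU ≫ g' = g ∧ ∀ y ∈ D, y ∈ U := by
  obtain ⟨U, hVU, s', h1, h2, h3⟩ := extend_main (pullback.snd p q)
    (pullback.snd p q).isClosedMap V hV (pullback.lift g V.ι hg) (pullback.lift_snd _ _ _) D hD
  refine ⟨U, hVU, s' ≫ pullback.fst p q, ?_, ?_, h3⟩
  · rw [Category.assoc, pullback.condition, reassoc_of% h1]
  · rw [reassoc_of% h2, pullback.lift_fst]

theorem S4440_main {S X Y : Scheme.{u}}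
    (p : X ⟶ S) [IsProper p] (q : Y ⟶ S) [IsLocallyNoetherian Y] [IsReduced Y]
    (hreg : ∀ y : Y, ringKrullDim (Y.presheaf.stalk y) ≤ 1 → IsRegularLocalRing (Y.presheaf.stalk y))
    (V : Y.Opens) (hV : Dense (V : Set Y)) (g : (V : Scheme.{u}) ⟶ X) (hg : g ≫ p = V.ι ≫ q) :
    ∃ (U : Y.Opens) (hVU : V ≤ U) (g' : (U : Scheme.{u}) ⟶ X), g' ≫ p = U.ι ≫ q ∧ Y.homOfLE hVU ≫ g' = g ∧
      ∀ y : Y, ringKrullDim (Y.presheaf.stalk y) ≤ 1 → y ∈ U := by
  refine extend_to_proper p q {y | ringKrullDim (Y.presheaf.stalk y) ≤ 1} ?_ V hV g hg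
  intro y hy
  haveI := hreg y hy
  exact exists_valuationRing_of_isRegularLocalRing_of_dim_le_one _ hy



/-- On a locally Noetherian scheme whose closed points have local rings of dimension at most
`1`, every local ring has dimension at most `1`. -/
theorem ringKrullDim_stalk_le_of_closedPoints (X : Scheme.{u}) [IsLocallyNoetherian X] (n : ℕ)
    (h : ∀ x : X, IsClosed ({x} : Set X) → ringKrullDim (X.presheaf.stalk x) ≤ n) (x : X) :
    ringKrullDim (X.presheaf.stalk x) ≤ n := by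
  obtain ⟨y, hy, hycl⟩ := Groth.Agent.Lib.Helper4.LocClosedPt1.exists_closedPoint X
    (closure {x}) isClosed_closure ⟨x, subset_closure rfl⟩
  have hxy : x ⤳ y := specializes_iff_mem_closure.mpr hy
  have h1 := h y hycl
  rw [ringKrullDim_stalk_eq_coheight] at h1 ⊢
  have h2 : Order.coheight x ≤ Order.coheight y := Order.coheight_anti hxy
  exact (WithBot.coe_le_coe.mpr h2).trans h1

/-- Extension of a rational map from a locally Noetherian scheme all of whose local rings are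
valuation rings to a proper scheme. -/
theorem exists_unique_extension_of_valuationRing {S X Y : Scheme.{u}}
    (p : X ⟶ S) [IsProper p] (q : Y ⟶ S) [IsLocallyNoetherian Y] [IsReduced Y]
    (hD : ∀ y : Y, ∃ _ : IsDomain (Y.presheaf.stalk y), ValuationRing (Y.presheaf.stalk y))
    (V : Y.Opens) (hV : Dense (V : Set Y)) (g : (V : Scheme.{u}) ⟶ X) (hg : g ≫ p = V.ι ≫ q) :
    ∃! g' : Y ⟶ X, V.ι ≫ g' = g ∧ g' ≫ p = q := by
  obtain ⟨U, hVU, g', h1, h2, h3⟩ := extend_to_proper p q Set.univ (fun y _ => hD y) V hV g hg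
  obtain rfl : U = ⊤ := by
    ext y; simpa using h3 y trivial
  haveI : IsDominant V.ι := by
    constructor
    show Dense (Set.range V.ι)
    rw [Scheme.Opens.range_ι]; exact hV
  have e1 : Y.homOfLE hVU = V.ι ≫ Y.topIso.inv := by
    rw [← cancel_mono (⊤ : Y.Opens).ι, Category.assoc, Scheme.toIso_inv_ι, Category.comp_id,
      Scheme.homOfLE_ι]
  refine ⟨Y.topIso.inv ≫ g', ⟨?_, ?_⟩, ?_⟩
  · rw [← Category.assoc, ← e1, h2]
  · rw [Category.assoc, h1, Scheme.toIso_inv_ι_assoc]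
  · rintro g'' ⟨h4, h5⟩
    refine ext_of_isDominant_of_isSeparated p ?_ V.ι ?_
    · rw [h5, Category.assoc, h1, Scheme.toIso_inv_ι_assoc]
    · rw [h4, ← Category.assoc, ← e1, h2]

theorem S2344_main (k : Type u) [Field k] (X Y : Scheme.{u}) [X.Over (Spec (CommRingCat.of k))]
    [Y.Over (Spec (CommRingCat.of k))]
    [LocallyOfFiniteType (X ↘ (Spec (CommRingCat.of k)))]
    (hcurve : (∀ x : X, IsClosed ({x} : Set X) → ringKrullDim (X.presheaf.stalk x) = 1))
    (hnorm : ∀ x : X, IsDomain (X.presheaf.stalk x) ∧ IsIntegrallyClosed (X.presheaf.stalk x))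
    [IsProper (Y ↘ (Spec (CommRingCat.of k)))] (U : X.Opens) (hU : Dense (U : Set X))
    (g : (U : Scheme.{u}) ⟶ Y)
    (hg : g ≫ (Y ↘ (Spec (CommRingCat.of k))) = U.ι ≫ (X ↘ (Spec (CommRingCat.of k)))) :
    ∃! g' : X ⟶ Y, U.ι ≫ g' = g ∧
      g' ≫ (Y ↘ (Spec (CommRingCat.of k))) = X ↘ (Spec (CommRingCat.of k)) := by
  haveI : IsLocallyNoetherian X :=
    LocallyOfFiniteType.isLocallyNoetherian (X ↘ (Spec (CommRingCat.of k)))
  haveI : ∀ x : X, _root_.IsReduced (X.presheaf.stalk x) := fun x => by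
    haveI := (hnorm x).1
    infer_instance
  haveI : IsReduced X := isReduced_of_isReduced_stalk X
  refine exists_unique_extension_of_valuationRing (Y ↘ (Spec (CommRingCat.of k)))
    (X ↘ (Spec (CommRingCat.of k))) ?_ U hU g hg
  intro x
  haveI := (hnorm x).1
  haveI := (hnorm x).2
  refine ⟨inferInstance, ?_⟩
  exact Groth.Agent.Lib.Helper4.ValCritBirational1.valuationRing_of_dim_le_one _
    (ringKrullDim_stalk_le_of_closedPoints X 1 (fun y hy => by rw [hcurve y hy]; rfl) x)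


end Groth.Agent.Lib.Helper4.RationalExt1
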