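import Mathlib
import Groth.Prelude.Def_CurvBase
import Groth.Agent.Lib.Helper4.RationalExt1

/-!
# Morphisms from a normal curve to a proper curve from function-field embeddings (helper4)
-/

set_option backward.isDefEq.respectTransparency.types false
set_option synthInstance.maxHeartbeats 400000
set_option autoImplicit false
set_option linter.unusedSectionVars false
set_option linter.style.haveILetI false
set_option linter.unusedSimpArgs false
universe u v w
open CategoryTheory CategoryTheory.Limits AlgebraicGeometry TopologicalSpace IsLocalRing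

namespace Groth.Agent.Lib.Helper4.RationalExt2

open Groth.Agent.Lib.Helper4.RationalExt1

/-- A morphism to an affine scheme factors through the affinization. -/
theorem eq_toSpecΓ_comp {X : Scheme.{u}} (A : CommRingCat.{u}) (f : X ⟶ Spec A) :
    f = X.toSpecΓ ≫ Spec.map ((Scheme.ΓSpecIso A).inv ≫ f.appTop) := by
  rw [Spec.map_comp, ← Scheme.toSpecΓ_naturality_assoc, ← SpecMap_ΓSpecIso_hom, ← Spec.map_comp,
    Iso.inv_hom_id, Spec.map_id, Category.comp_id]

theorem fromSpecStalk_over (k : Type u) [Field k] (X : Scheme.{u})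
    [X.Over (Spec (CommRingCat.of k))] (x : X) :
    X.fromSpecStalk x ≫ (X ↘ (Spec (CommRingCat.of k))) =
      Spec.map (CommRingCat.ofHom (Curv2.stalkMap k X x)) := by
  conv_lhs => rw [eq_toSpecΓ_comp (CommRingCat.of k) (X ↘ (Spec (CommRingCat.of k)))]
  rw [Scheme.fromSpecStalk_toSpecΓ_assoc, ← Spec.map_comp]
  rfl



open Groth.Agent.Lib.Helper4.RationalExt1

/-- The morphism `Spec K(X) ⟶ Y` attached to a map of stalks at the generic points determines
the behaviour at the generic point. -/
theorem generic_of_fromSpecStalk_comp {X Y : Scheme.{u}} [IsIntegral X] [IsIntegral Y]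
    (u : X ⟶ Y) (ψ : Y.presheaf.stalk (genericPoint Y) ⟶ X.presheaf.stalk (genericPoint X))
    (h : X.fromSpecStalk (genericPoint X) ≫ u = Spec.map ψ ≫ Y.fromSpecStalk (genericPoint Y)) :
    ∃ hu : u (genericPoint X) = genericPoint Y,
      Y.presheaf.stalkSpecializes (specializes_of_eq hu) ≫ u.stalkMap (genericPoint X) = ψ := by
  have hu : u (genericPoint X) = genericPoint Y := by
    have h1 := congrArg (fun t => t (closedPoint (X.presheaf.stalk (genericPoint X)))) h
    simp only [Scheme.Hom.comp_apply] at h1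
    rw [Scheme.fromSpecStalk_closedPoint] at h1
    rw [h1]
    have hF : IsField (Y.presheaf.stalk (genericPoint Y)) := by
      have := Field.toIsField (Y.functionField)
      exact this
    haveI : Subsingleton (Spec (Y.presheaf.stalk (genericPoint Y))) :=
      (PrimeSpectrum.t1Space_iff_isField.mpr hF) |> fun _ => by
        letI := hF.toField
        exact inferInstanceAs (Subsingleton (PrimeSpectrum (Y.presheaf.stalk (genericPoint Y))))
    rw [Subsingleton.elim (Spec.map ψ (closedPoint _))
      (closedPoint (Y.presheaf.stalk (genericPoint Y))), Scheme.fromSpecStalk_closedPoint]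
  refine ⟨hu, ?_⟩
  apply Spec.map_injective
  rw [← cancel_mono (Y.fromSpecStalk (genericPoint Y)), ← h, Spec.map_comp, Category.assoc,
    Scheme.SpecMap_stalkSpecializes_fromSpecStalk, Scheme.SpecMap_stalkMap_fromSpecStalk]



open Groth.Agent.Lib.Helper4.RationalExt1

theorem fromSpecStalk_comp_of_generic {X Y : Scheme.{u}} [IsIntegral X] [IsIntegral Y]
    (u : X ⟶ Y) (ψ : Y.presheaf.stalk (genericPoint Y) ⟶ X.presheaf.stalk (genericPoint X))
    (hu : u (genericPoint X) = genericPoint Y)
    (h : Y.presheaf.stalkSpecializes (specializes_of_eq hu) ≫ u.stalkMap (genericPoint X) = ψ) :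
    X.fromSpecStalk (genericPoint X) ≫ u = Spec.map ψ ≫ Y.fromSpecStalk (genericPoint Y) := by
  rw [← h, Spec.map_comp, Category.assoc, Scheme.SpecMap_stalkSpecializes_fromSpecStalk,
    Scheme.SpecMap_stalkMap_fromSpecStalk]

theorem isDominant_fromSpecStalk_genericPoint (X : Scheme.{u}) [IsIntegral X] :
    IsDominant (X.fromSpecStalk (genericPoint X)) := by
  constructor
  intro x
  have h1 : genericPoint X ⤳ x := genericPoint_specializes x
  have h2 : ({genericPoint X} : Set X) ⊆ Set.range (X.fromSpecStalk (genericPoint X)) :=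
    Set.singleton_subset_iff.mpr ⟨closedPoint _, Scheme.fromSpecStalk_closedPoint⟩
  exact closure_mono h2 (specializes_iff_mem_closure.mp h1)

theorem S4445_main (k : Type u) [Field k] (X Y : Scheme.{u})
    [X.Over (Spec (CommRingCat.of k))] [LocallyOfFiniteType (X ↘ (Spec (CommRingCat.of k)))]
    [IsIntegral X]
    (hX : ∀ x : X, IsClosed ({x} : Set X) → ringKrullDim (X.presheaf.stalk x) = 1)
    (hnorm : ∀ x : X, IsDomain (X.presheaf.stalk x) ∧ IsIntegrallyClosed (X.presheaf.stalk x))
    [Y.Over (Spec (CommRingCat.of k))] [IsProper (Y ↘ (Spec (CommRingCat.of k)))] [IsIntegral Y]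
    (φ : Y.functionField →+* X.functionField)
    (hφ : φ.comp (Curv2.stalkMap k Y (genericPoint Y)) = Curv2.stalkMap k X (genericPoint X)) :
    ∃! u : X ⟶ Y, u ≫ (Y ↘ (Spec (CommRingCat.of k))) = X ↘ (Spec (CommRingCat.of k)) ∧
      ∃ hu : u.base (genericPoint X) = genericPoint Y,
        (Y.presheaf.stalkSpecializes (specializes_of_eq hu) ≫
          u.stalkMap (genericPoint X)).hom = φ := by
  haveI : IsLocallyNoetherian X :=
    LocallyOfFiniteType.isLocallyNoetherian (X ↘ (Spec (CommRingCat.of k)))
  let ψ : Y.presheaf.stalk (genericPoint Y) ⟶ X.presheaf.stalk (genericPoint X) :=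
    CommRingCat.ofHom φ
  let φ₀ : Spec (X.presheaf.stalk (genericPoint X)) ⟶ Y :=
    Spec.map ψ ≫ Y.fromSpecStalk (genericPoint Y)
  have h0 : φ₀ ≫ (Y ↘ (Spec (CommRingCat.of k))) =
      X.fromSpecStalk (genericPoint X) ≫ (X ↘ (Spec (CommRingCat.of k))) := by
    rw [Category.assoc, fromSpecStalk_over, fromSpecStalk_over, ← Spec.map_comp, ← hφ]
    rfl
  obtain ⟨U, hηU, g, hg1, hg2⟩ := spread_out_of_isGermInjective'
    (X ↘ (Spec (CommRingCat.of k))) (Y ↘ (Spec (CommRingCat.of k))) φ₀ h0
  have hU : Dense (U : Set X) := by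
    have h1 : Dense ({genericPoint X} : Set X) := by
      intro x
      exact specializes_iff_mem_closure.mp (genericPoint_specializes x)
    exact h1.mono (Set.singleton_subset_iff.mpr hηU)
  have hD : ∀ x : X, ∃ _ : IsDomain (X.presheaf.stalk x), ValuationRing (X.presheaf.stalk x) := by
    intro x
    haveI := (hnorm x).1
    haveI := (hnorm x).2
    refine ⟨inferInstance, ?_⟩
    exact Groth.Agent.Lib.Helper4.ValCritBirational1.valuationRing_of_dim_le_one _
      (ringKrullDim_stalk_le_of_closedPoints X 1 (fun y hy => by rw [hX y hy]; rfl) x)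
  obtain ⟨u, ⟨hu1, hu2⟩, -⟩ := exists_unique_extension_of_valuationRing
    (Y ↘ (Spec (CommRingCat.of k))) (X ↘ (Spec (CommRingCat.of k))) hD U hU g hg2
  have hu3 : X.fromSpecStalk (genericPoint X) ≫ u =
      Spec.map ψ ≫ Y.fromSpecStalk (genericPoint Y) := by
    rw [← Scheme.Opens.fromSpecStalkOfMem_ι U (genericPoint X) hηU, Category.assoc, hu1, ← hg1]
  refine ⟨u, ⟨hu2, ?_⟩, ?_⟩
  · obtain ⟨hu, h⟩ := generic_of_fromSpecStalk_comp u ψ hu3
    exact ⟨hu, by rw [h]; rfl⟩
  · rintro u' ⟨hu'1, hu', h'⟩
    have hu'3 := fromSpecStalk_comp_of_generic u' ψ hu' (CommRingCat.hom_ext h')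
    haveI := isDominant_fromSpecStalk_genericPoint X
    exact ext_of_isDominant_of_isSeparated (Y ↘ (Spec (CommRingCat.of k)))
      (hu'1.trans hu2.symm) (X.fromSpecStalk (genericPoint X)) (hu'3.trans hu3.symm)


end Groth.Agent.Lib.Helper4.RationalExt2
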