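import Mathlib
import Groth.Agent.Lib.Helper4.ValCritBirational1

/-!
# Valuation rings of the function field dominating local rings (universally closed morphisms) (helper4)
-/

set_option backward.isDefEq.respectTransparency.types false
set_option synthInstance.maxHeartbeats 400000
set_option autoImplicit false
set_option linter.unusedSectionVars false
set_option linter.style.haveILetI false
set_option linter.unusedSimpArgs false
universe u v w
open CategoryTheory CategoryTheory.Limits AlgebraicGeometry TopologicalSpace IsLocalRing

namespace Groth.Agent.Lib.Helper4.ValDominate1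

open Groth.Agent.Lib.Helper4.ValCritBirational1

/-- A morphism `l : Spec R ⟶ X` from a local ring restricting to the generic point on
`Spec K(X)`: the local ring of the image of the closed point maps to `R` compatibly with the
inclusion into the function field. -/
theorem stalkClosedPointTo_comp_eq_stalkSpecializes {X : Scheme.{u}} [IsIntegral X]
    (R : CommRingCat.{u}) [IsLocalRing R] (a : R ⟶ X.presheaf.stalk (genericPoint X))
    (l : Spec R ⟶ X) (hl : Spec.map a ≫ l = X.fromSpecStalk (genericPoint X)) :
    Scheme.stalkClosedPointTo l ≫ a =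
      X.presheaf.stalkSpecializes ((genericPoint_spec X).specializes trivial) := by
  apply Spec.map_injective
  rw [← cancel_mono (X.fromSpecStalk (l (closedPoint R))), Spec.map_comp, Category.assoc,
    Scheme.Spec_stalkClosedPointTo_fromSpecStalk, hl,
    Scheme.SpecMap_stalkSpecializes_fromSpecStalk]

theorem S4441_main {X Y : Scheme.{u}} [IsIntegral X] [IsIntegral Y]
    (f : X ⟶ Y) [UniversallyClosed f]
    (R : ValuationSubring X.functionField) (y : Y) (hy : f.base (genericPoint X) ⤳ y)
    (hdom : ∀ a : Y.presheaf.stalk y,
      (Y.presheaf.stalkSpecializes hy ≫ f.stalkMap (genericPoint X)).hom a ∈ R) :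
    ∃ x : X, (∀ a : X.presheaf.stalk x, algebraMap (X.presheaf.stalk x) X.functionField a ∈ R) ∧
      ∀ a ∈ IsLocalRing.maximalIdeal (X.presheaf.stalk x),
        R.valuation (algebraMap (X.presheaf.stalk x) X.functionField a) < 1 := by
  let Rc : CommRingCat.{u} := CommRingCat.of R
  let a : Rc ⟶ X.presheaf.stalk (genericPoint X) := CommRingCat.ofHom R.subtype
  let α : Y.presheaf.stalk y ⟶ X.presheaf.stalk (genericPoint X) :=
    Y.presheaf.stalkSpecializes hy ≫ f.stalkMap (genericPoint X)
  let θ : Y.presheaf.stalk y ⟶ Rc :=
    CommRingCat.ofHom (α.hom.codRestrict R.toSubring hdom)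
  have hθa : θ ≫ a = α := by
    ext t; rfl
  have hK : IsField (X.presheaf.stalk (genericPoint X)) := Field.toIsField (X.functionField)
  have hfr : letI := a.hom.toAlgebra; IsFractionRing Rc (X.presheaf.stalk (genericPoint X)) := by
    exact inferInstanceAs (IsFractionRing R X.functionField)
  obtain ⟨l, hl1, hl2⟩ := exists_lift_of_universallyClosed f Rc
    (X.presheaf.stalk (genericPoint X)) hK a hfr (X.fromSpecStalk (genericPoint X))
    (Spec.map θ ≫ Y.fromSpecStalk y) (by
      rw [← Spec.map_comp_assoc, hθa, Spec.map_comp, Category.assoc,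
        Scheme.SpecMap_stalkSpecializes_fromSpecStalk, Scheme.SpecMap_stalkMap_fromSpecStalk])
  have key := stalkClosedPointTo_comp_eq_stalkSpecializes Rc a l hl1
  have key' : ∀ t : X.presheaf.stalk (l (closedPoint Rc)),
      algebraMap (X.presheaf.stalk (l (closedPoint Rc))) X.functionField t =
        ((Scheme.stalkClosedPointTo l).hom t : X.functionField) := by
    intro t
    have := congrArg (fun φ => φ.hom t) key
    exact this.symm
  refine ⟨l (closedPoint Rc), ?_, ?_⟩
  · intro t
    rw [key' t]
    exact ((Scheme.stalkClosedPointTo l).hom t).2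
  · intro t ht
    rw [key' t, ← ValuationSubring.valuation_lt_one_iff]
    have hnu : ¬ IsUnit t := (IsLocalRing.mem_maximalIdeal t).mp ht
    rw [IsLocalRing.mem_maximalIdeal]
    intro hu
    exact hnu (isUnit_of_map_unit (Scheme.stalkClosedPointTo l).hom t hu)

end Groth.Agent.Lib.Helper4.ValDominate1
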