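import Mathlib
import Groth.Prelude.Def_CurvBase
import Groth.Agent.Lib.Helper4.RationalExt2
import Groth.Agent.Lib.Helper4.ValDominate1

/-!
# Local rings of a normal complete curve are the valuation rings of its function field (helper4)
-/

set_option backward.isDefEq.respectTransparency.types false
set_option synthInstance.maxHeartbeats 400000
set_option autoImplicit false
set_option linter.unusedSectionVars false
set_option linter.style.haveILetI false
set_option linter.unusedSimpArgs false
universe u v w
open CategoryTheory CategoryTheory.Limits AlgebraicGeometry TopologicalSpace IsLocalRing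

namespace Groth.Agent.Lib.Helper4.CurveValRings1

/-- The image of a valuation ring in its fraction field, as a valuation subring. -/
def valSubringOfRange (A : Type*) [CommRing A] [IsDomain A] [ValuationRing A] (K : Type*)
    [Field K] [Algebra A K] [IsFractionRing A K] : ValuationSubring K :=
  { (algebraMap A K).range with
    mem_or_inv_mem' := fun k => by
      rcases ValuationRing.isInteger_or_isInteger A k with ⟨t, ht⟩ | ⟨t, ht⟩
      · exact Or.inl ⟨t, ht⟩
      · exact Or.inr ⟨t, ht⟩ }

theorem coe_valSubringOfRange (A : Type*) [CommRing A] [IsDomain A] [ValuationRing A] (K : Type*)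
    [Field K] [Algebra A K] [IsFractionRing A K] :
    (valSubringOfRange A K : Set K) = Set.range (algebraMap A K) := rfl

/-- A valuation subring of the fraction field dominating a valuation ring equals it. -/
theorem eq_range_of_dominates (A : Type*) [CommRing A] [IsDomain A] [ValuationRing A] (K : Type*)
    [Field K] [Algebra A K] [IsFractionRing A K] (R : ValuationSubring K)
    (β : A →+* R) [IsLocalHom β] (hβ : ∀ t : A, (β t : K) = algebraMap A K t) :
    (R : Set K) = Set.range (algebraMap A K) := by
  apply Set.Subset.antisymm
  · intro r hr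
    rcases ValuationRing.isInteger_or_isInteger A r with ⟨t, ht⟩ | ⟨t, ht⟩
    · exact ⟨t, ht⟩
    · by_cases hr0 : r = 0
      · exact ⟨0, by rw [hr0, map_zero]⟩
      -- t ↦ r⁻¹; β t * r = 1 in R so β t is a unit, hence t is a unit
      have hu : IsUnit (β t) := by
        refine IsUnit.of_mul_eq_one (⟨r, hr⟩ : R) ?_
        apply Subtype.ext
        show (β t : K) * r = 1
        rw [hβ t]
        have : algebraMap A K t = r⁻¹ := ht
        rw [this, inv_mul_cancel₀ hr0]
      have ht' : IsUnit t := isUnit_of_map_unit β t hu
      obtain ⟨v, hv⟩ := ht'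
      refine ⟨(v⁻¹ : Aˣ), ?_⟩
      have h1 : algebraMap A K (v⁻¹ : Aˣ) * algebraMap A K t = 1 := by
        rw [← map_mul, ← hv, Units.inv_mul, map_one]
      have h2 : algebraMap A K t = r⁻¹ := ht
      rw [h2] at h1
      field_simp at h1
      exact h1
  · rintro _ ⟨t, rfl⟩
    rw [← hβ t]
    exact (β t).2



/-- A point of an irreducible scheme whose local ring has dimension zero is the generic point. -/
theorem eq_genericPoint_of_ringKrullDim_stalk_le_zero (X : Scheme.{u}) [IrreducibleSpace X]
    (x : X) (h : ringKrullDim (X.presheaf.stalk x) ≤ 0) : x = genericPoint X := by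
  rw [ringKrullDim_stalk_eq_coheight] at h
  have h0 : Order.coheight x = 0 := by
    have : Order.coheight x ≤ 0 := by exact_mod_cast h
    exact le_antisymm this bot_le
  rw [Order.coheight_eq_zero] at h0
  have h1 : genericPoint X ⤳ x := genericPoint_specializes x
  have h2 : x ≤ genericPoint X := h1
  have h3 : genericPoint X ≤ x := h0 h2
  have h4 : x ⤳ genericPoint X := h3
  exact (h4.antisymm h1).eq

theorem eq_genericPoint_of_isField_stalk (X : Scheme.{u}) [IrreducibleSpace X]
    (x : X) (h : IsField (X.presheaf.stalk x)) : x = genericPoint X := by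
  apply eq_genericPoint_of_ringKrullDim_stalk_le_zero
  letI := h.toField
  rw [ringKrullDim_eq_zero_of_field]



theorem isDominant_SpecMap_of_injective {A B : CommRingCat.{u}} (φ : A ⟶ B)
    (h : Function.Injective φ.hom) : IsDominant (Spec.map φ) := by
  constructor
  have := PrimeSpectrum.denseRange_comap_iff_ker_le_nilRadical (f := φ.hom) |>.mpr (by
    rw [(RingHom.injective_iff_ker_eq_bot _).mp h]; exact bot_le)
  exact this

/-- In an integral separated scheme, an inclusion of local rings inside the function field
forces a specialization. -/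
theorem specializes_of_range_subset (X : Scheme.{u}) [IsIntegral X] [X.IsSeparated] (x x' : X)
    (h : Set.range (algebraMap (X.presheaf.stalk x') X.functionField) ⊆
      Set.range (algebraMap (X.presheaf.stalk x) X.functionField)) : x ⤳ x' := by
  let ax : X.presheaf.stalk x →+* X.functionField := algebraMap (X.presheaf.stalk x) X.functionField
  let ax' : X.presheaf.stalk x' →+* X.functionField :=
    algebraMap (X.presheaf.stalk x') X.functionField
  have hinj : Function.Injective ax := IsFractionRing.injective (X.presheaf.stalk x) X.functionField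
  let ex : X.presheaf.stalk x ≃+* ax.range :=
    RingEquiv.ofBijective ax.rangeRestrict
      ⟨fun a b hab => hinj (congrArg Subtype.val hab), ax.rangeRestrict_surjective⟩
  let e : X.presheaf.stalk x' →+* X.presheaf.stalk x :=
    (ex.symm : ax.range →+* X.presheaf.stalk x).comp
      (ax'.codRestrict ax.range (fun t => h ⟨t, rfl⟩))
  have he : ∀ t, ax (e t) = ax' t := by
    intro t
    have h1 : ex (e t) = ax'.codRestrict ax.range (fun t => h ⟨t, rfl⟩) t := by
      simp [e]
    have h2 := congrArg Subtype.val h1
    exact h2
  let ε : X.presheaf.stalk x' ⟶ X.presheaf.stalk x := CommRingCat.ofHom e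
  have hsp : genericPoint X ⤳ x := genericPoint_specializes x
  have hsp' : genericPoint X ⤳ x' := genericPoint_specializes x'
  have hε : ε ≫ X.presheaf.stalkSpecializes hsp = X.presheaf.stalkSpecializes hsp' := by
    ext t
    exact he t
  haveI : IsDominant (Spec.map (X.presheaf.stalkSpecializes hsp)) :=
    isDominant_SpecMap_of_injective _ hinj
  have hl : X.fromSpecStalk x = Spec.map ε ≫ X.fromSpecStalk x' := by
    refine ext_of_isDominant_of_isSeparated (terminal.from X) (terminal.hom_ext _ _)
      (Spec.map (X.presheaf.stalkSpecializes hsp)) ?_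
    rw [Scheme.SpecMap_stalkSpecializes_fromSpecStalk, ← Spec.map_comp_assoc, hε,
      Scheme.SpecMap_stalkSpecializes_fromSpecStalk]
  have h1 : x ∈ Set.range (X.fromSpecStalk x) := by
    rw [Scheme.range_fromSpecStalk]; exact specializes_rfl
  rw [hl] at h1
  obtain ⟨z, hz⟩ := h1
  have h2 : x ∈ Set.range (X.fromSpecStalk x') := ⟨Spec.map ε z, hz⟩
  rw [Scheme.range_fromSpecStalk] at h2
  exact h2



open Groth.Agent.Lib.Helper4.RationalExt1 Groth.Agent.Lib.Helper4.RationalExt2
open Groth.Agent.Lib.Helper4.ValDominate1 Groth.Agent.Lib.Helper4.ValCritBirational1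

theorem S4451_main (k : Type u) [Field k] (X : Scheme.{u})
    [X.Over (Spec (CommRingCat.of k))] [IsProper (X ↘ (Spec (CommRingCat.of k)))] [IsIntegral X]
    (hX : ∀ x : X, IsClosed ({x} : Set X) → ringKrullDim (X.presheaf.stalk x) = 1)
    (hnorm : ∀ x : X, IsDomain (X.presheaf.stalk x) ∧ IsIntegrallyClosed (X.presheaf.stalk x)) :
    (∀ x : X, x ≠ genericPoint X → ∃ R : ValuationSubring X.functionField, R ≠ ⊤ ∧
        (R : Set X.functionField) =
          Set.range (algebraMap (X.presheaf.stalk x) X.functionField)) ∧
      ∀ R : ValuationSubring X.functionField, R ≠ ⊤ →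
        (∀ c : k, Curv2.stalkMap k X (genericPoint X) c ∈ R) →
        ∃! x : X, (R : Set X.functionField) =
          Set.range (algebraMap (X.presheaf.stalk x) X.functionField) := by
  haveI : IsLocallyNoetherian X :=
    LocallyOfFiniteType.isLocallyNoetherian (X ↘ (Spec (CommRingCat.of k)))
  have hV : ∀ x : X, ValuationRing (X.presheaf.stalk x) := by
    intro x
    haveI := (hnorm x).2
    exact valuationRing_of_dim_le_one _
      (ringKrullDim_stalk_le_of_closedPoints X 1 (fun y hy => by rw [hX y hy]; rfl) x)
  haveI : X.IsSeparated := by
    have e : terminal.from X =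
        (X ↘ (Spec (CommRingCat.of k))) ≫ terminal.from (Spec (CommRingCat.of k)) :=
      terminal.hom_ext _ _
    refine ⟨?_⟩
    rw [e]
    infer_instance
  refine ⟨?_, ?_⟩
  · intro x hx
    haveI := hV x
    refine ⟨valSubringOfRange (X.presheaf.stalk x) X.functionField, ?_,
      coe_valSubringOfRange _ _⟩
    intro htop
    apply hx
    apply eq_genericPoint_of_isField_stalk
    have hsurj : Function.Surjective (algebraMap (X.presheaf.stalk x) X.functionField) := by
      intro z
      have : z ∈ (valSubringOfRange (X.presheaf.stalk x) X.functionField : Set X.functionField) := by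
        rw [htop]; trivial
      rw [coe_valSubringOfRange] at this
      exact this
    have hbij : Function.Bijective (algebraMap (X.presheaf.stalk x) X.functionField) :=
      ⟨IsFractionRing.injective _ _, hsurj⟩
    exact MulEquiv.isField (Field.toIsField X.functionField)
      (RingEquiv.ofBijective _ hbij).toMulEquiv
  · intro R hR hk
    let Rc : CommRingCat.{u} := CommRingCat.of R
    let a : Rc ⟶ X.presheaf.stalk (genericPoint X) := CommRingCat.ofHom R.subtype
    let κ : CommRingCat.of k ⟶ Rc :=
      CommRingCat.ofHom ((Curv2.stalkMap k X (genericPoint X)).codRestrict R.toSubring hk)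
    have hκa : κ ≫ a = CommRingCat.ofHom (Curv2.stalkMap k X (genericPoint X)) := by
      ext t; rfl
    have hK : IsField (X.presheaf.stalk (genericPoint X)) := Field.toIsField (X.functionField)
    have hfr : letI := a.hom.toAlgebra;
        IsFractionRing Rc (X.presheaf.stalk (genericPoint X)) := by
      exact inferInstanceAs (IsFractionRing R X.functionField)
    obtain ⟨l, hl1, hl2⟩ := exists_lift_of_universallyClosed (X ↘ (Spec (CommRingCat.of k))) Rc
      (X.presheaf.stalk (genericPoint X)) hK a hfr (X.fromSpecStalk (genericPoint X))
      (Spec.map κ) (by rw [fromSpecStalk_over, ← Spec.map_comp, hκa])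
    have key := stalkClosedPointTo_comp_eq_stalkSpecializes Rc a l hl1
    have hex : (R : Set X.functionField) = Set.range
        (algebraMap (X.presheaf.stalk (l (closedPoint Rc))) X.functionField) := by
      haveI := hV (l (closedPoint Rc))
      refine eq_range_of_dominates (X.presheaf.stalk (l (closedPoint Rc))) X.functionField R
        (Scheme.stalkClosedPointTo l).hom ?_
      intro t
      have := congrArg (fun φ => φ.hom t) key
      exact this
    refine ⟨l (closedPoint Rc), hex, ?_⟩
    intro x' hx'
    have h1 : x' ⤳ l (closedPoint Rc) := specializes_of_range_subset X _ _ (by rw [← hx', ← hex])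
    have h2 : l (closedPoint Rc) ⤳ x' := specializes_of_range_subset X _ _ (by rw [← hx', ← hex])
    exact (h1.antisymm h2).eq


end Groth.Agent.Lib.Helper4.CurveValRings1
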