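import Mathlib
import Groth.Agent.Lib.Helper4.KrullAkizuki

/-!
# Generically finite proper morphisms are finite over codimension-one points (helper4)
-/

set_option backward.isDefEq.respectTransparency.types false
set_option synthInstance.maxHeartbeats 400000
set_option autoImplicit false
set_option linter.unusedSectionVars false
set_option linter.style.haveILetI false
set_option linter.unusedSimpArgs false
universe u v w
open CategoryTheory CategoryTheory.Limits AlgebraicGeometry TopologicalSpace IsLocalRing

namespace Groth.Agent.Lib.Helper4.GenFiniteDimOne1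

attribute [local instance] FractionRing.liftAlgebra Localization.AtPrime.liftAlgebra

theorem primesOver_finite_frac (B S : Type u) [CommRing B] [CommRing S] [IsDomain B] [IsDomain S]
    [Algebra B S] [FaithfulSMul B S] [IsNoetherianRing B]
    [FiniteDimensional (FractionRing B) (FractionRing S)] (p : Ideal B) [p.IsPrime]
    (hdim : ringKrullDim (Localization.AtPrime p) = 1) : (p.primesOver S).Finite := by
  have hM : Algebra.algebraMapSubmonoid S p.primeCompl ≤ nonZeroDivisors S :=
    algebraMapSubmonoid_le_nonZeroDivisors_of_faithfulSMul _ p.primeCompl_le_nonZeroDivisors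
  haveI : IsDomain (Localization (Algebra.algebraMapSubmonoid S p.primeCompl)) :=
    IsLocalization.isDomain_localization hM
  haveI : IsDomain (Localization.AtPrime p) :=
    IsLocalization.isDomain_localization p.primeCompl_le_nonZeroDivisors
  have key := (Groth.Agent.Lib.Helper4.KA.primesOver_main (Localization.AtPrime p)
    (Localization (Algebra.algebraMapSubmonoid S p.primeCompl))
    (FractionRing B) (FractionRing S) hdim).2.1
  have hdisj : ∀ q ∈ p.primesOver S,
      Disjoint (Algebra.algebraMapSubmonoid S p.primeCompl : Set S) (q : Set S) := by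
    rintro q ⟨hq, hqo⟩
    rw [Set.disjoint_left]
    rintro _ ⟨b, hb, rfl⟩ hbq
    apply hb
    rw [hqo.over]
    exact hbq
  refine Set.Finite.of_finite_image (f := Ideal.map (algebraMap S
    (Localization (Algebra.algebraMapSubmonoid S p.primeCompl)))) (key.subset ?_) ?_
  · rintro _ ⟨q, hq, rfl⟩
    have hd := hdisj q hq
    obtain ⟨hqp, hqo⟩ := hq
    have hn : (Ideal.map (algebraMap S
      (Localization (Algebra.algebraMapSubmonoid S p.primeCompl))) q).IsPrime :=
      IsLocalization.isPrime_of_isPrime_disjoint _ _ q hqp hd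
    have hc := IsLocalization.under_map_of_isPrime_disjoint
      (Algebra.algebraMapSubmonoid S p.primeCompl)
      (Localization (Algebra.algebraMapSubmonoid S p.primeCompl)) hqp hd
    refine ⟨hn, ⟨?_⟩⟩
    rw [← IsLocalization.map_under p.primeCompl (Localization.AtPrime p)
      (IsLocalRing.maximalIdeal (Localization.AtPrime p)),
      ← IsLocalization.map_under p.primeCompl (Localization.AtPrime p)
      (Ideal.under (Localization.AtPrime p) (Ideal.map (algebraMap S
      (Localization (Algebra.algebraMapSubmonoid S p.primeCompl))) q))]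
    congr 1
    rw [IsLocalization.AtPrime.under_maximalIdeal (Localization.AtPrime p) p]
    rw [Ideal.under, Ideal.comap_comap,
      ← IsScalarTower.algebraMap_eq B (Localization.AtPrime p),
      IsScalarTower.algebraMap_eq B S, ← Ideal.comap_comap]
    rw [Ideal.under] at hc
    rw [hc]
    exact hqo.over
  · intro q hq q' hq' h
    have hc := IsLocalization.under_map_of_isPrime_disjoint
      (Algebra.algebraMapSubmonoid S p.primeCompl)
      (Localization (Algebra.algebraMapSubmonoid S p.primeCompl)) hq.1 (hdisj q hq)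
    have hc' := IsLocalization.under_map_of_isPrime_disjoint
      (Algebra.algebraMapSubmonoid S p.primeCompl)
      (Localization (Algebra.algebraMapSubmonoid S p.primeCompl)) hq'.1 (hdisj q' hq')
    rw [← hc, ← hc']
    exact congrArg _ h

theorem primesOver_finite (B S K L : Type u) [CommRing B] [CommRing S] [IsDomain B] [IsDomain S]
    [Algebra B S] [IsNoetherianRing B] [Field K] [Field L] [Algebra B K] [IsFractionRing B K]
    [Algebra S L] [IsFractionRing S L] [Algebra K L] [Algebra B L] [IsScalarTower B K L]
    [IsScalarTower B S L] [FiniteDimensional K L] (p : Ideal B) [p.IsPrime]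
    (hdim : ringKrullDim (Localization.AtPrime p) = 1) : (p.primesOver S).Finite := by
  haveI : FaithfulSMul B S := by
    rw [faithfulSMul_iff_algebraMap_injective]
    have h1 : Function.Injective (algebraMap B L) := by
      rw [IsScalarTower.algebraMap_eq B K L]
      exact (algebraMap K L).injective.comp (IsFractionRing.injective B K)
    rw [IsScalarTower.algebraMap_eq B S L] at h1
    exact Function.Injective.of_comp h1
  haveI : FiniteDimensional (FractionRing B) (FractionRing S) := by
    refine Module.Finite.of_equiv_equiv (A₁ := K) (B₁ := L)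
      (FractionRing.algEquiv B K).symm.toRingEquiv (FractionRing.algEquiv S L).symm.toRingEquiv ?_
    apply IsLocalization.ringHom_ext (nonZeroDivisors B)
    ext b
    simp only [RingHom.coe_comp, Function.comp_apply, RingHom.coe_coe, AlgEquiv.coe_ringEquiv,
      AlgEquiv.commutes]
    rw [← IsScalarTower.algebraMap_apply B K L, IsScalarTower.algebraMap_apply B S L,
      AlgEquiv.commutes, ← IsScalarTower.algebraMap_apply B (FractionRing B) (FractionRing S),
      ← IsScalarTower.algebraMap_apply B S (FractionRing S)]
  exact primesOver_finite_frac B S p hdim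



/-- the stalk map at the generic point is finite if the residue field map is. -/
theorem stalkMap_finite_of_residueFieldMap {X Y : Scheme.{u}} [IsIntegral X]
    (f : X ⟶ Y) (hfin : (f.residueFieldMap (genericPoint X)).hom.Finite) :
    (f.stalkMap (genericPoint X)).hom.Finite := by
  have hinj : Function.Injective (X.residue (genericPoint X)).hom :=
    RingHom.injective (R := X.functionField) _
  have hsurj : Function.Surjective (X.residue (genericPoint X)).hom :=
    IsLocalRing.residue_surjective
  let e : X.presheaf.stalk (genericPoint X) ≃+* X.residueField (genericPoint X) :=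
    RingEquiv.ofBijective (X.residue (genericPoint X)).hom ⟨hinj, hsurj⟩
  have h1 : (f.stalkMap (genericPoint X)).hom = e.symm.toRingHom.comp
      ((f.residueFieldMap (genericPoint X)).hom.comp (Y.residue (f (genericPoint X))).hom) := by
    ext a
    apply e.injective
    simp only [RingHom.coe_comp, Function.comp_apply, RingEquiv.toRingHom_eq_coe,
      RingHom.coe_coe, RingEquiv.apply_symm_apply]
    have := congrArg (fun φ => CommRingCat.Hom.hom φ a) (Scheme.residue_residueFieldMap f (genericPoint X))
    simp only [CommRingCat.hom_comp, RingHom.coe_comp, Function.comp_apply] at this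
    rw [this]
    rfl
  rw [h1]
  exact RingHom.Finite.comp (RingHom.Finite.of_surjective _ e.symm.surjective)
    (RingHom.Finite.comp hfin (RingHom.Finite.of_surjective _ IsLocalRing.residue_surjective))



theorem finite_fibre_inter_affine {X Y : Scheme.{u}} [IsIntegral X] [IsIntegral Y]
    [IsLocallyNoetherian Y] (f : X ⟶ Y) (hgen : f (genericPoint X) = genericPoint Y)
    (hfin : (f.residueFieldMap (genericPoint X)).hom.Finite) (ξ : Y)
    (hξ : ringKrullDim (Y.presheaf.stalk ξ) = 1) (V : Y.Opens) (hV : IsAffineOpen V)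
    (hξV : ξ ∈ V) (U : X.Opens) (hU : IsAffineOpen U) (hUV : U ≤ f ⁻¹ᵁ V) :
    {x | x ∈ U ∧ f x = ξ}.Finite := by
  rcases Set.eq_empty_or_nonempty {x | x ∈ U ∧ f x = ξ} with h0 | ⟨x0, hx0U, hx0⟩
  · rw [h0]; exact Set.finite_empty
  haveI : Nonempty U := ⟨⟨x0, hx0U⟩⟩
  haveI : Nonempty V := ⟨⟨ξ, hξV⟩⟩
  haveI : IsNoetherianRing Γ(Y, V) := IsLocallyNoetherian.component_noetherian ⟨V, hV⟩
  letI : Algebra Γ(Y, V) Γ(X, U) := (f.appLE V U hUV).hom.toAlgebra
  have hspec : f (genericPoint X) ⤳ genericPoint Y := hgen ▸ specializes_rfl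
  letI : Algebra Y.functionField X.functionField :=
    (Y.presheaf.stalkSpecializes hspec ≫ f.stalkMap (genericPoint X)).hom.toAlgebra
  letI : Algebra Γ(Y, V) X.functionField :=
    ((algebraMap Y.functionField X.functionField).comp
      (algebraMap Γ(Y, V) Y.functionField)).toAlgebra
  haveI : IsScalarTower Γ(Y, V) Y.functionField X.functionField :=
    IsScalarTower.of_algebraMap_eq' rfl
  haveI : IsScalarTower Γ(Y, V) Γ(X, U) X.functionField := by
    apply IsScalarTower.of_algebraMap_eq'
    simp only [RingHom.algebraMap_toAlgebra]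
    rw [← CommRingCat.hom_comp, ← CommRingCat.hom_comp]
    congr 1
    rw [Scheme.germToFunctionField, Scheme.germToFunctionField,
      TopCat.Presheaf.germ_stalkSpecializes_assoc, Scheme.Hom.germ_stalkMap,
      Scheme.Hom.appLE, Category.assoc, TopCat.Presheaf.germ_res]
  haveI : IsFractionRing Γ(Y, V) Y.functionField :=
    functionField_isFractionRing_of_isAffineOpen Y V hV
  haveI : IsFractionRing Γ(X, U) X.functionField :=
    functionField_isFractionRing_of_isAffineOpen X U hU
  haveI : FiniteDimensional Y.functionField X.functionField := by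
    change (Y.presheaf.stalkSpecializes hspec ≫ f.stalkMap (genericPoint X)).hom.Finite
    rw [CommRingCat.hom_comp]
    refine RingHom.Finite.comp (stalkMap_finite_of_residueFieldMap f hfin)
      (RingHom.Finite.of_surjective _ ?_)
    have : IsIso (Y.presheaf.stalkSpecializes hspec) := by
      have := (Y.presheaf.stalkCongr (Inseparable.of_eq hgen.symm)).isIso_hom
      exact this
    exact ((ConcreteCategory.bijective_of_isIso (Y.presheaf.stalkSpecializes hspec))).2
  -- the prime of ξ
  have hdim : ringKrullDim (Localization.AtPrime (hV.primeIdealOf ⟨ξ, hξV⟩).asIdeal) = 1 := by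
    letI := Y.presheaf.algebra_section_stalk ⟨ξ, hξV⟩
    haveI := hV.isLocalization_stalk ⟨ξ, hξV⟩
    rw [← hξ]
    exact ringKrullDim_eq_of_ringEquiv (IsLocalization.algEquiv
      (hV.primeIdealOf ⟨ξ, hξV⟩).asIdeal.primeCompl
      (Localization.AtPrime (hV.primeIdealOf ⟨ξ, hξV⟩).asIdeal) (Y.presheaf.stalk ξ)).toRingEquiv
  have key := primesOver_finite Γ(Y, V) Γ(X, U) Y.functionField X.functionField
    (hV.primeIdealOf ⟨ξ, hξV⟩).asIdeal hdim
  classical
  refine Set.Finite.of_finite_image (f := fun x => if hx : x ∈ U then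
    (hU.primeIdealOf ⟨x, hx⟩).asIdeal else ⊥) (key.subset ?_) ?_
  · rintro _ ⟨x, ⟨hxU, hx⟩, rfl⟩
    simp only [dif_pos hxU]
    refine ⟨(hU.primeIdealOf ⟨x, hxU⟩).isPrime, ⟨?_⟩⟩
    have := IsAffineOpen.comap_primeIdealOf_appLE (f := f) V hV U hU hUV hxU
    have h2 := congrArg PrimeSpectrum.asIdeal this
    simp only [hx] at h2
    rw [← h2]
    rfl
  · rintro x ⟨hxU, hx⟩ x' ⟨hxU', hx'⟩ h
    simp only [dif_pos hxU, dif_pos hxU'] at h
    have h2 : hU.primeIdealOf ⟨x, hxU⟩ = hU.primeIdealOf ⟨x', hxU'⟩ := PrimeSpectrum.ext h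
    have := hU.fromSpec_primeIdealOf ⟨x, hxU⟩
    rw [h2, hU.fromSpec_primeIdealOf] at this
    exact this.symm



theorem finite_fibre {X Y : Scheme.{u}} [IsIntegral X] [IsIntegral Y]
    [IsLocallyNoetherian Y] (f : X ⟶ Y) [QuasiCompact f]
    (hgen : f (genericPoint X) = genericPoint Y)
    (hfin : (f.residueFieldMap (genericPoint X)).hom.Finite) (ξ : Y)
    (hξ : ringKrullDim (Y.presheaf.stalk ξ) = 1) : (f ⁻¹' {ξ}).Finite := by
  obtain ⟨V, hV, hξV, -⟩ := exists_isAffineOpen_mem_and_subset (x := ξ) (U := ⊤) trivial
  have hc : IsCompact (f ⁻¹' (V : Set Y)) :=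
    QuasiCompact.isCompact_preimage (f := f) _ V.isOpen hV.isCompact
  obtain ⟨s, hs, hsU⟩ := isCompact_and_isOpen_iff_finite_and_eq_biUnion_affineOpens.mp
    ⟨hc, V.isOpen.preimage f.continuous⟩
  have hfinU : (⋃ i ∈ s, {x | x ∈ (i : X.Opens) ∧ f x = ξ}).Finite := by
    refine hs.biUnion fun i hi => ?_
    refine finite_fibre_inter_affine f hgen hfin ξ hξ V hV hξV i.1 i.2 ?_
    intro x hx
    have : x ∈ f ⁻¹' (V : Set Y) := by
      rw [hsU]
      exact Set.mem_biUnion hi hx
    exact this
  refine hfinU.subset ?_
  intro x hx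
  have hx' : f x = ξ := hx
  have : x ∈ f ⁻¹' (V : Set Y) := by
    change f x ∈ V
    rw [hx']; exact hξV
  rw [hsU] at this
  obtain ⟨i, hi, hxi⟩ := Set.mem_iUnion₂.mp this
  exact Set.mem_biUnion hi ⟨hxi, hx'⟩

theorem S1867_main (X Y : Scheme.{u}) [IsIntegral X] [IsIntegral Y] [IsLocallyNoetherian Y]
    (f : X ⟶ Y) [IsProper f] (hgen : f (genericPoint X) = genericPoint Y)
    (hfin : (f.residueFieldMap (genericPoint X)).hom.Finite) (ξ : Y)
    (hξ : ringKrullDim (Y.presheaf.stalk ξ) = 1) :
    ∃ V : Y.Opens, ξ ∈ V ∧ IsFinite (f ∣_ V) :=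
  exists_isFinite_morphismRestrict_of_finite_preimage_singleton f ξ
    (finite_fibre f hgen hfin ξ hξ)


end Groth.Agent.Lib.Helper4.GenFiniteDimOne1
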