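import Mathlib
import Groth.Agent.Lib.Helper4.ClBridge4
import Groth.Agent.Lib.Helper4.LinBridge1
import Groth.Agent.Lib.Helper4.Hyp3
import Groth.Agent.Lib.Helper5.Misc.ClosedPushMod

/-!
# Mumford's lemma on closed subschemes of projective space via the linear bridge (helper4)
-/

set_option backward.isDefEq.respectTransparency.types false
set_option synthInstance.maxHeartbeats 400000
set_option autoImplicit false
set_option linter.unusedSectionVars false
set_option linter.style.haveILetI false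
set_option linter.unusedSimpArgs false
universe u v w
open CategoryTheory CategoryTheory.Limits AlgebraicGeometry
open TopologicalSpace Opposite
open Groth.Agent.Helper1
open Groth.Agent.Lib.Helper4 Groth.Agent.Lib.Helper4.ClBridge2 Groth.Agent.Lib.Helper4.ClBridge4

namespace Groth.Agent.Lib.Helper4.ClBridge5

variable {X : Scheme.{u}}

section Exact
variable {Y : Scheme.{u}} (i : X ⟶ Y) [IsClosedImmersion i]

/-- the direct image along a closed immersion is exact -/
theorem shortExact_push {S : ShortComplex X.Modules} (hS : S.ShortExact) :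
    (S.map (Scheme.Modules.pushforward i)).ShortExact := by
  haveI : PreservesFiniteLimits (Scheme.Modules.pushforward i) := by
    have := (Scheme.Modules.pullbackPushforwardAdjunction i).rightAdjoint_preservesLimits
    infer_instance
  haveI : PreservesFiniteColimits (Scheme.Modules.pushforward i) := by
    have := Groth.Agent.Lib.Helper5.ClosedPushMod.preservesColimits_pushforward i
    infer_instance
  exact hS.map_of_exact _

end Exact

section Reg
variable (k : Type u) [Field k] (n : ℕ) [X.Over (Spec (CommRingCat.of k))]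
  (i : X ⟶ CohB1.ProjSpace n k) [IsClosedImmersion i]
  (hi : i ≫ CohB1.ProjSpace.toSpec n k = X ↘ Spec (CommRingCat.of k))

include hi in
/-- the `k`-linear bridge for twists -/
theorem nonempty_linearEquiv_twOn (F : X.Modules) [Coh.IsQCoh F] (d : ℤ) (j : ℕ) :
    Nonempty (Coh.HH (CohB1.ProjSpace n k)
      (CohB1.tensorMod ((Scheme.Modules.pushforward i).obj F) (Twist.twistProjSpace n k d)) j ≃ₗ[k]
        Coh.HH X (twOn n k i F d) j) := by
  haveI := isQCoh_twOn n k i F d
  obtain ⟨φ⟩ := nonempty_projFormula i F (Twist.twistProjSpace n k d) (isInvertible_twist n k d)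
  exact ⟨(HHFin1.HHequiv k φ j).trans (LinBridge1.lerayEquiv i (twOn n k i F d) k hi j)⟩

include hi in
theorem finrank_twOn (F : X.Modules) [Coh.IsQCoh F] (d : ℤ) (j : ℕ) :
    Module.finrank k (Coh.HH X (twOn n k i F d) j) =
      Module.finrank k (Coh.HH (CohB1.ProjSpace n k)
        (CohB1.tensorMod ((Scheme.Modules.pushforward i).obj F) (Twist.twistProjSpace n k d)) j) := by
  obtain ⟨e⟩ := nonempty_linearEquiv_twOn k n i hi F d j
  exact e.finrank_eq.symm

/-- regularity on projective space is invariant under isomorphism -/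
theorem isMRegular_of_iso {G G' : (CohB1.ProjSpace n k).Modules} (e : G ≅ G') (m : ℤ)
    (h : Curv2.IsMRegular k n G m) : Curv2.IsMRegular k n G' m := by
  intro q hq hqn
  exact subsingleton_HH_of_iso ((SerreVan.Tw n k (m - q)).mapIso e) q (h q hq hqn)

theorem nonempty_cokerIso {C : Type*} [Category C] [Abelian C] {A' A B G : C} (φ : A' ≅ A)
    (f : A ⟶ B) (g : B ⟶ G) (w : f ≫ g = 0) (hS : (ShortComplex.mk f g w).ShortExact) :
    Nonempty (cokernel (φ.hom ≫ f) ≅ G) := by
  haveI : Epi (ShortComplex.mk f g w).g := hS.epi_g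
  have h1 : IsColimit (CokernelCofork.ofπ g w) := hS.exact.gIsCokernel
  exact ⟨cokernelEpiComp φ.hom f ≪≫
    IsColimit.coconePointUniqueUpToIso (cokernelIsCokernel f) h1⟩

include hi in
theorem s12112_aux (F G : X.Modules) (hF : Coh.IsCoh F) (hG : Coh.IsCoh G)
    (f : twOn n k i F (-1) ⟶ F) (g : F ⟶ G) (hfg : f ≫ g = 0)
    (hS : (ShortComplex.mk f g hfg).ShortExact)
    (m : ℤ) (hGm : Pic13.IsMRegular k i G m) :
    (∀ (q : ℕ) (n' : ℤ), 2 ≤ q → m - q ≤ n' → Subsingleton (Coh.HH X (twOn n k i F n') q)) ∧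
    (∀ n' : ℤ, m - 1 ≤ n' →
      Module.finrank k (Coh.HH X (twOn n k i F n') 1) ≤ Module.finrank k (Coh.HH X (twOn n k i F (n' - 1)) 1)) ∧
    (∀ n' : ℤ, (m - 1) + (Module.finrank k (Coh.HH X (twOn n k i F (m - 1)) 1) : ℤ) ≤ n' →
      Subsingleton (Coh.HH X (twOn n k i F n') 1)) ∧
    Pic13.IsMRegular k i F (m + Module.finrank k (Coh.HH X (twOn n k i F (m - 1)) 1)) := by
  haveI : Coh.IsQCoh F := hF.1
  haveI : Coh.IsQCoh G := hG.1
  let P := Scheme.Modules.pushforward i
  have hc : Coh.IsCoh (P.obj F) := FinPush.isCoh_pushforward i F hF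
  obtain ⟨φ⟩ := nonempty_projFormula i F (Twist.twistProjSpace n k (-1)) (isInvertible_twist n k (-1))
  have hS' : (ShortComplex.mk (P.map f) (P.map g)
      (by rw [← P.map_comp, hfg, P.map_zero])).ShortExact := shortExact_push i hS
  let ι' : CohB1.tensorMod (P.obj F) (Twist.twistProjSpace n k (-1)) ⟶ P.obj F := φ.hom ≫ P.map f
  have hmf : Mono (P.map f) := hS'.mono_f
  haveI : Mono ι' := @mono_comp _ _ _ _ _ φ.hom inferInstance (P.map f) hmf
  obtain ⟨eG⟩ := nonempty_cokerIso φ (P.map f) (P.map g) _ hS'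
  have hG' : Curv2.IsMRegular k n (cokernel ι') m :=
    isMRegular_of_iso k n eG.symm m (isMRegular_push k n i G m hGm)
  obtain ⟨h1, h2, h3, h4⟩ := Hyp3.s11296 n k (P.obj F) ι' hc m hG'
  have hfr : ∀ d : ℤ, Module.finrank k (Coh.HH X (twOn n k i F d) 1) =
      Module.finrank k (Coh.HH (CohB1.ProjSpace n k)
        (CohB1.tensorMod (P.obj F) (Twist.twistProjSpace n k d)) 1) :=
    fun d => finrank_twOn k n i hi F d 1
  refine ⟨?_, ?_, ?_, ?_⟩
  · intro q n' hq hn'
    rw [subsingleton_twOn_iff]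
    exact h1 q n' hq hn'
  · intro n' hn'
    rw [hfr, hfr]
    exact h2 n' hn'
  · intro n' hn'
    rw [subsingleton_twOn_iff]
    rw [hfr] at hn'
    exact h3 n' hn'
  · rw [hfr]
    exact isMRegular_of_push k n i F _ h4

include hi in
theorem s12112 (F G : X.Modules) (hF : Coh.IsCoh F) (hG : Coh.IsCoh G)
    (f : Pic13.twistOn k i F (-1) ⟶ F) (g : F ⟶ G) (hfg : f ≫ g = 0)
    (hS : (ShortComplex.mk f g hfg).ShortExact)
    (m : ℤ) (hGm : Pic13.IsMRegular k i G m) :
    (∀ (q : ℕ) (n' : ℤ), 2 ≤ q → m - q ≤ n' → Subsingleton (Coh.HH X (Pic13.twistOn k i F n') q)) ∧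
    (∀ n' : ℤ, m - 1 ≤ n' →
      Module.finrank k (Coh.HH X (Pic13.twistOn k i F n') 1) ≤ Module.finrank k (Coh.HH X (Pic13.twistOn k i F (n' - 1)) 1)) ∧
    (∀ n' : ℤ, (m - 1) + (Module.finrank k (Coh.HH X (Pic13.twistOn k i F (m - 1)) 1) : ℤ) ≤ n' →
      Subsingleton (Coh.HH X (Pic13.twistOn k i F n') 1)) ∧
    Pic13.IsMRegular k i F (m + Module.finrank k (Coh.HH X (Pic13.twistOn k i F (m - 1)) 1)) :=
  s12112_aux k n i hi F G hF hG f g hfg hS m hGm

end Reg

end Groth.Agent.Lib.Helper4.ClBridge5
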