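import Mathlib
import Groth.Agent.Lib.Helper8.IntegralDim

namespace Groth.Agent.Helper4.NN

open Groth.Agent.Helper8.Depth

universe u

theorem ringKrullDim_eq_of_finite_injective {R S : Type*} [CommRing R] [CommRing S]
    (φ : R →+* S) (hfin : φ.Finite) (hinj : Function.Injective φ) :
    ringKrullDim S = ringKrullDim R := by
  algebraize [φ]
  have : Algebra.IsIntegral R S := Algebra.IsIntegral.of_finite R S
  rw [ringKrullDim_eq_quotient_ker_of_isIntegral R S]
  have hker : RingHom.ker (algebraMap R S) = ⊥ := (RingHom.injective_iff_ker_eq_bot _).mp hinj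
  rw [hker]
  exact ringKrullDim_eq_of_ringEquiv (RingEquiv.quotientBot R)

theorem ringKrullDim_mvPolynomial_fin (k : Type*) [Field k] (d : ℕ) :
    ringKrullDim (MvPolynomial (Fin d) k) = (d : WithBot ℕ∞) := by
  rw [MvPolynomial.ringKrullDim_of_isNoetherianRing, ringKrullDim_eq_zero_of_field, zero_add,
    Nat.card_fin]

/-- S10843 -/
theorem ringKrullDim_eq_iff_exists_finite_injective (k A : Type u) [Field k]
    [CommRing A] [Nontrivial A] [Algebra k A] [Algebra.FiniteType k A] (d : ℕ) :
    ringKrullDim A = (d : WithBot ℕ∞) ↔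
      ∃ φ : MvPolynomial (Fin d) k →ₐ[k] A, φ.toRingHom.Finite ∧ Function.Injective φ := by
  constructor
  · intro h
    obtain ⟨s, g, hinj, hfin⟩ := exists_finite_inj_algHom_of_fg k A
    have h1 := ringKrullDim_eq_of_finite_injective g.toRingHom hfin hinj
    rw [h, ringKrullDim_mvPolynomial_fin] at h1
    have hsd : d = s := by exact_mod_cast h1
    subst hsd
    exact ⟨g, hfin, hinj⟩
  · rintro ⟨φ, hfin, hinj⟩
    rw [ringKrullDim_eq_of_finite_injective φ.toRingHom hfin hinj, ringKrullDim_mvPolynomial_fin]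

end Groth.Agent.Helper4.NN
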