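import Mathlib

/-!
# splicing short exact sequences into a resolution (helper4)
-/

set_option backward.isDefEq.respectTransparency.types false
set_option synthInstance.maxHeartbeats 400000
set_option autoImplicit false
set_option linter.unusedSectionVars false
set_option linter.style.haveILetI false
set_option linter.unusedSimpArgs false
universe u v w
open CategoryTheory CategoryTheory.Limits

namespace Groth.Agent.Lib.Helper4.Splice4

section Splice
variable {C : Type u} [Category.{v} C] [Abelian C]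
variable (X Z : ℕ → C) (a : ∀ k, X k ⟶ Z k) (b : ∀ k, Z (k + 1) ⟶ X k)
  (w : ∀ k, b k ≫ a k = 0)

/-- the spliced differential -/
def sd (k : ℕ) : X (k + 1) ⟶ X k := a (k + 1) ≫ b k

include w in
lemma sd_comp_sd (k : ℕ) : sd X Z a b (k + 1) ≫ sd X Z a b k = 0 := by
  unfold sd
  rw [Category.assoc, reassoc_of% (w (k + 1)), zero_comp, comp_zero]

include w in
lemma sd_comp_a (k : ℕ) : sd X Z a b k ≫ a k = 0 := by
  unfold sd
  rw [Category.assoc, w k, comp_zero]

variable (hex : ∀ k, (ShortComplex.mk (b k) (a k) (w k)).Exact) (hepi : ∀ k, Epi (a k))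
  (hmono : ∀ k, Mono (b k))

include hex hepi in
lemma exact_sd_a (k : ℕ) : (ShortComplex.mk (sd X Z a b k) (a k) (sd_comp_a X Z a b w k)).Exact := by
  let φ : ShortComplex.mk (sd X Z a b k) (a k) (sd_comp_a X Z a b w k) ⟶
      ShortComplex.mk (b k) (a k) (w k) :=
    { τ₁ := a (k + 1)
      τ₂ := 𝟙 _
      τ₃ := 𝟙 _
      comm₁₂ := by simp [sd]
      comm₂₃ := by simp }
  haveI : Epi φ.τ₁ := hepi (k + 1)
  haveI : IsIso φ.τ₂ := by dsimp [φ]; infer_instance
  haveI : Mono φ.τ₃ := by dsimp [φ]; infer_instance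
  rw [ShortComplex.exact_iff_of_epi_of_isIso_of_mono φ]
  exact hex k

include hex hepi hmono in
lemma exact_sd_sd (k : ℕ) :
    (ShortComplex.mk (sd X Z a b (k + 1)) (sd X Z a b k) (sd_comp_sd X Z a b w k)).Exact := by
  let φ : ShortComplex.mk (sd X Z a b (k + 1)) (a (k + 1)) (sd_comp_a X Z a b w (k + 1)) ⟶
      ShortComplex.mk (sd X Z a b (k + 1)) (sd X Z a b k) (sd_comp_sd X Z a b w k) :=
    { τ₁ := 𝟙 _
      τ₂ := 𝟙 _
      τ₃ := b k
      comm₁₂ := by simp
      comm₂₃ := by simp [sd] }
  haveI : Epi φ.τ₁ := by dsimp [φ]; infer_instance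
  haveI : IsIso φ.τ₂ := by dsimp [φ]; infer_instance
  haveI : Mono φ.τ₃ := hmono k
  rw [← ShortComplex.exact_iff_of_epi_of_isIso_of_mono φ]
  exact exact_sd_a X Z a b w hex hepi (k + 1)

/-- the spliced complex -/
noncomputable abbrev scx : ChainComplex C ℕ :=
  ChainComplex.of X (sd X Z a b) (sd_comp_sd X Z a b w)

/-- the augmentation -/
noncomputable def saug : scx X Z a b w ⟶ (ChainComplex.single₀ C).obj (Z 0) :=
  (ChainComplex.toSingle₀Equiv _ _).symm ⟨a 0, by
    have : (scx X Z a b w).d 1 0 = sd X Z a b 0 := by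
      exact ChainComplex.of_d X (sd X Z a b) 0
    rw [this]; exact sd_comp_a X Z a b w 0⟩

include hex hepi hmono in
lemma scx_exactAt_succ (k : ℕ) : (scx X Z a b w).ExactAt (k + 1) := by
  rw [HomologicalComplex.exactAt_iff' _ (k + 1 + 1) (k + 1) k (by simp) (by simp)]
  have h1 : (scx X Z a b w).d (k + 1 + 1) (k + 1) = sd X Z a b (k + 1) := by
    exact ChainComplex.of_d X (sd X Z a b) (k + 1)
  have h2 : (scx X Z a b w).d (k + 1) k = sd X Z a b k := by
    exact ChainComplex.of_d X (sd X Z a b) k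
  refine (ShortComplex.exact_iff_of_iso ?_).2 (exact_sd_sd X Z a b w hex hepi hmono k)
  exact ShortComplex.isoMk (Iso.refl _) (Iso.refl _) (Iso.refl _)
    (by change 𝟙 _ ≫ sd X Z a b (k + 1) = (scx X Z a b w).d (k + 1 + 1) (k + 1) ≫ 𝟙 _
        rw [h1, Category.comp_id, Category.id_comp])
    (by change 𝟙 _ ≫ sd X Z a b k = (scx X Z a b w).d (k + 1) k ≫ 𝟙 _
        rw [h2, Category.comp_id, Category.id_comp])

include hex hepi hmono in
theorem quasiIso_saug : QuasiIso (saug X Z a b w) := ⟨fun k => by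
    cases k
    · rw [ChainComplex.quasiIsoAt₀_iff, ShortComplex.quasiIso_iff_of_zeros']
      · refine (ShortComplex.exact_and_epi_g_iff_of_iso ?_).2
          ⟨exact_sd_a X Z a b w hex hepi 0, by dsimp; exact hepi 0⟩
        have h2 : (scx X Z a b w).d 1 0 = sd X Z a b 0 := by
          exact ChainComplex.of_d X (sd X Z a b) 0
        exact ShortComplex.isoMk (Iso.refl _) (Iso.refl _) (Iso.refl _)
          (by change 𝟙 _ ≫ sd X Z a b 0 = (scx X Z a b w).d 1 0 ≫ 𝟙 _
              rw [h2, Category.comp_id, Category.id_comp])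
          (by
            have h3 : (saug X Z a b w).f 0 = a 0 :=
              ChainComplex.toSingle₀Equiv_symm_apply_f_zero _ _
            change 𝟙 _ ≫ a 0 = (saug X Z a b w).f 0 ≫ 𝟙 _
            rw [h3, Category.comp_id, Category.id_comp])
      all_goals rfl
    · rw [quasiIsoAt_iff_exactAt']
      · exact scx_exactAt_succ X Z a b w hex hepi hmono _
      · apply ChainComplex.exactAt_succ_single_obj⟩

end Splice

end Groth.Agent.Lib.Helper4.Splice4
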