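import Mathlib
import Groth.Prelude.Def_KRR
import Groth.Agent.Lib.Helper4.KrrL
import Groth.Agent.Lib.Helper4.Splice4
import Groth.Agent.Lib.Helper5.KFlatSite2.Symm
import Groth.Agent.Lib.Helper5.LTen.Flf
import Groth.Agent.Lib.Helper4.PnC7
import Groth.Agent.Lib.Helper1.TwistAmpleOpen

/-!
# the canonical resolution of a regular sheaf on P^n_Y: S20013 (helper4)
-/

set_option backward.isDefEq.respectTransparency.types false
set_option synthInstance.maxHeartbeats 400000
set_option autoImplicit false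
set_option linter.unusedSectionVars false
set_option linter.style.haveILetI false
set_option linter.unusedSimpArgs false
universe u v w
open CategoryTheory CategoryTheory.Limits AlgebraicGeometry TopologicalSpace Opposite
open Groth.Agent.Helper1 Groth.Agent.Helper3
open Groth.Agent.Lib.Helper4
open Groth.Agent.Lib.Helper4.KrrB Groth.Agent.Lib.Helper4.KrrC Groth.Agent.Lib.Helper4.KrrI Groth.Agent.Lib.Helper4.KrrH

namespace Groth.Agent.Lib.Helper4.KrrM

section Gen
variable {X : Scheme.{u}} (L : X.Modules)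

/-- left and right tensoring agree -/
noncomputable def leftRightIso :
    (DCoh.tensorBi (X := X)).obj L ≅ DCoh.tensorRightMod L :=
  ((Groth.Agent.Lib.Helper5.KFlatSiteQ.flipIso X.sheaf).app L).symm ≪≫
    NatIso.ofComponents (fun M => Iso.refl _) (by
      intro M M' f
      rfl)

theorem shortExact_map_tensorBi (hL : PicF.IsInvertible L) {S : ShortComplex X.Modules}
    (hS : S.ShortExact) : (S.map ((DCoh.tensorBi (X := X)).obj L)).ShortExact := by
  have h1 := TwExact.shortExact_map (TwExact.locGen_of_isInvertible L hL) hS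
  exact ShortComplex.shortExact_of_iso (S.mapNatIso (leftRightIso L)).symm h1

end Gen

section Tw
variable (n : ℕ) (Y : Scheme.{u})

/-- the twisting functor `O(d) ⊗ -` on `P^n_Y` -/
noncomputable abbrev twFun (d : ℤ) : (KRR.PY n Y).Modules ⥤ (KRR.PY n Y).Modules :=
  (DCoh.tensorBi (X := KRR.PY n Y)).obj (Twist.twistOver n Y d)

theorem twFun_shortExact {S : ShortComplex (KRR.PY n Y).Modules} (hS : S.ShortExact) (d : ℤ) :
    (S.map (twFun n Y d)).ShortExact :=
  shortExact_map_tensorBi _ (KrrJ.isInvertible_twistOver n Y d) hS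

theorem nonempty_twistOver_zero :
    Nonempty (Twist.twistOver n Y 0 ≅ Coh.structureModule (KRR.PY n Y)) := by
  obtain ⟨e⟩ := PnC7.nonempty_iso_twist_zero n (ULift.{u} ℤ)
  exact ⟨(Scheme.Modules.pullback _).mapIso e ≪≫ PullSec.unitIso _⟩

theorem nonempty_twF_zero (F : (KRR.PY n Y).Modules) (c : ℤ) (hc : c = 0) :
    Nonempty (KRR.twF n Y c F ≅ F) := by
  subst hc
  obtain ⟨e0⟩ := nonempty_twistOver_zero n Y
  obtain ⟨e1⟩ := TwistAmpleOpen.nonempty_tensorMod_unit_iso F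
  exact ⟨Groth.Agent.Lead.TilT.tensorModCongr e0 (Iso.refl F) ≪≫ e1⟩

/-- `O(a) ⊗ (O(1) ⊗ Q) ≅ O(c) ⊗ Q` for `c = a + 1` -/
theorem nonempty_twF_twF_one (Q : (KRR.PY n Y).Modules) (a c : ℤ) (hc : c = a + 1) :
    Nonempty (KRR.twF n Y a (KRR.twF n Y 1 Q) ≅ KRR.twF n Y c Q) := by
  obtain ⟨e⟩ := KrrJ.nonempty_twF_tensor_iso n Y Q a 1 c hc
  exact ⟨(twFun n Y a).mapIso (KrrA.tensorModComm (Twist.twistOver n Y 1) Q) ≪≫ e ≪≫
    KrrA.tensorModComm _ _⟩

end Tw

section Res
variable (n : ℕ) (Y : Scheme.{u})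

/-- the counit `p^* p_* G → G` -/
noncomputable abbrev cou (G : (KRR.PY n Y).Modules) :
    (Scheme.Modules.pullback (KRR.pr n Y)).obj ((Scheme.Modules.pushforward (KRR.pr n Y)).obj G) ⟶ G :=
  (Scheme.Modules.pullbackPushforwardAdjunction (KRR.pr n Y)).counit.app G

theorem isQCoh_pp (G : (KRR.PY n Y).Modules) [G.IsQuasicoherent] :
    ((Scheme.Modules.pullback (KRR.pr n Y)).obj
      ((Scheme.Modules.pushforward (KRR.pr n Y)).obj G)).IsQuasicoherent := by
  haveI : ((Scheme.Modules.pushforward (KRR.pr n Y)).obj G).IsQuasicoherent :=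
    PushQc.isQuasicoherent_pushforward (KRR.pr n Y) G
  exact QcPullGen.isQuasicoherent_pullback _ _

theorem isQCoh_Kof (G : (KRR.PY n Y).Modules) [G.IsQuasicoherent] :
    (KrrL.Kof n Y G).IsQuasicoherent := by
  haveI := isQCoh_pp n Y G
  exact QcAbel.isQuasicoherent_kernel (cou n Y G)

/-- a stage of the canonical resolution -/
structure Stage where
  G : (KRR.PY n Y).Modules
  qc : G.IsQuasicoherent
  reg : KRR.IsRegSheaf n Y G

/-- the next stage -/
noncomputable def Stage.next (s : Stage n Y) : Stage n Y where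
  G := KRR.twF n Y 1 (KrrL.Kof n Y s.G)
  qc := by
    haveI := s.qc
    haveI := isQCoh_Kof n Y s.G
    exact isQCoh_twF n Y 1 _
  reg := by
    haveI := s.qc
    exact (s3755_qcoh n Y s.G s.reg).2

/-- the stages -/
noncomputable def stage (s₀ : Stage n Y) : ℕ → Stage n Y
  | 0 => s₀
  | k + 1 => (stage s₀ k).next

variable (s₀ : Stage n Y)

theorem stage_succ_G (k : ℕ) :
    (stage n Y s₀ (k + 1)).G = KRR.twF n Y 1 (KrrL.Kof n Y (stage n Y s₀ k).G) := rfl

theorem epi_cou (s : Stage n Y) : Epi (cou n Y s.G) := by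
  haveI := s.qc
  exact (s3755_qcoh n Y s.G s.reg).1

/-- partial regularity of the kernels -/
theorem pv_stage (W : Y.Opens) (hW : IsAffineOpen W) :
    ∀ k : ℕ, k ≤ n → KrrL.PV n Y W hW k (KrrL.Kof n Y (stage n Y s₀ k).G) := by
  intro k
  induction k with
  | zero =>
    intro _
    haveI := (stage n Y s₀ 0).qc
    exact KrrL.pv_zero n Y W hW _
  | succ k ih =>
    intro hk
    haveI := (stage n Y s₀ k).qc
    haveI := isQCoh_Kof n Y (stage n Y s₀ k).G
    exact KrrL.pv_succ n Y W hW (KrrL.Kof n Y (stage n Y s₀ k).G) k hk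
      (epi_cou n Y (stage n Y s₀ (k + 1))) (ih (by omega))

theorem isZero_Kof_stage : IsZero (KrrL.Kof n Y (stage n Y s₀ n).G) := by
  haveI := (stage n Y s₀ n).qc
  exact KrrL.isZero_Kof_of_pv n Y _ (isQCoh_Kof n Y _) (fun W hW => pv_stage n Y s₀ W hW n le_rfl)

theorem isZero_stage_G : ∀ k : ℕ, n < k → IsZero (stage n Y s₀ k).G := by
  have hstep : ∀ k, IsZero (KrrL.Kof n Y (stage n Y s₀ k).G) → IsZero (stage n Y s₀ (k + 1)).G := by
    intro k hk
    exact (twFun n Y 1).map_isZero hk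
  have hK : ∀ k, IsZero (stage n Y s₀ k).G → IsZero (KrrL.Kof n Y (stage n Y s₀ k).G) := by
    intro k hk
    have h1 : IsZero ((Scheme.Modules.pullback (KRR.pr n Y)).obj
        ((Scheme.Modules.pushforward (KRR.pr n Y)).obj (stage n Y s₀ k).G)) :=
      (Scheme.Modules.pullback (KRR.pr n Y)).map_isZero
        ((Scheme.Modules.pushforward (KRR.pr n Y)).map_isZero hk)
    exact IsZero.of_mono (kernel.ι (cou n Y (stage n Y s₀ k).G)) h1
  intro k hk
  obtain ⟨m, rfl⟩ : ∃ m, k = n + 1 + m := ⟨k - (n + 1), by omega⟩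
  induction m with
  | zero => exact hstep n (isZero_Kof_stage n Y s₀)
  | succ m ih => exact hstep _ (hK _ (ih (by omega)))

/-- the terms of the resolution -/
noncomputable abbrev Xk (k : ℕ) : (KRR.PY n Y).Modules :=
  (twFun n Y (-(k : ℤ))).obj ((Scheme.Modules.pullback (KRR.pr n Y)).obj
    ((Scheme.Modules.pushforward (KRR.pr n Y)).obj (stage n Y s₀ k).G))

/-- the twisted syzygies -/
noncomputable abbrev Zk (k : ℕ) : (KRR.PY n Y).Modules :=
  (twFun n Y (-(k : ℤ))).obj (stage n Y s₀ k).G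

/-- the twisted counits -/
noncomputable def ak (k : ℕ) : Xk n Y s₀ k ⟶ Zk n Y s₀ k :=
  (twFun n Y (-(k : ℤ))).map (cou n Y (stage n Y s₀ k).G)

/-- the identification of the next syzygy -/
noncomputable def thetak (k : ℕ) :
    Zk n Y s₀ (k + 1) ≅ (twFun n Y (-(k : ℤ))).obj (KrrL.Kof n Y (stage n Y s₀ k).G) :=
  (nonempty_twF_twF_one n Y (KrrL.Kof n Y (stage n Y s₀ k).G) (-((k + 1 : ℕ) : ℤ)) (-(k : ℤ))
    (by push_cast; ring)).some

/-- the twisted inclusions of the kernels -/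
noncomputable def bk (k : ℕ) : Zk n Y s₀ (k + 1) ⟶ Xk n Y s₀ k :=
  (thetak n Y s₀ k).hom ≫ (twFun n Y (-(k : ℤ))).map (kernel.ι (cou n Y (stage n Y s₀ k).G))

theorem bk_ak (k : ℕ) : bk n Y s₀ k ≫ ak n Y s₀ k = 0 := by
  unfold bk ak
  rw [Category.assoc, ← Functor.map_comp, kernel.condition, Functor.map_zero, comp_zero]

theorem shortExact_k (k : ℕ) :
    (ShortComplex.mk (bk n Y s₀ k) (ak n Y s₀ k) (bk_ak n Y s₀ k)).ShortExact := by
  haveI := epi_cou n Y (stage n Y s₀ k)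
  have hS := SerreFin.kerSeq_shortExact (cou n Y (stage n Y s₀ k).G)
  have hS1 := twFun_shortExact n Y hS (-(k : ℤ))
  refine ShortComplex.shortExact_of_iso ?_ hS1
  refine ShortComplex.isoMk (thetak n Y s₀ k).symm (Iso.refl _) (Iso.refl _) ?_ ?_
  · change (thetak n Y s₀ k).inv ≫ bk n Y s₀ k =
      (twFun n Y (-(k : ℤ))).map (kernel.ι (cou n Y (stage n Y s₀ k).G)) ≫ 𝟙 _
    unfold bk
    rw [Category.comp_id, Iso.inv_hom_id_assoc]
  · change 𝟙 _ ≫ ak n Y s₀ k = (twFun n Y (-(k : ℤ))).map (cou n Y (stage n Y s₀ k).G) ≫ 𝟙 _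
    unfold ak
    rw [Category.comp_id, Category.id_comp]

theorem isZero_Xk (k : ℕ) (hk : n < k) : IsZero (Xk n Y s₀ k) :=
  (twFun n Y (-(k : ℤ))).map_isZero
    ((Scheme.Modules.pullback (KRR.pr n Y)).map_isZero
      ((Scheme.Modules.pushforward (KRR.pr n Y)).map_isZero (isZero_stage_G n Y s₀ k hk)))

end Res

section Main

theorem s20013 (n : ℕ) (T : Scheme.{u})
    (F : (KRR.PY n T).Modules) (hF : Coh.IsQCoh F) (hreg : KRR.IsRegSheaf n T F) :
    ∃ (Tm : ℕ → T.Modules) (L : ChainComplex (KRR.PY n T).Modules ℕ)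
      (π : L ⟶ (ChainComplex.single₀ (KRR.PY n T).Modules).obj F),
      (∀ i, Coh.IsQCoh (Tm i)) ∧
      (∀ i, i ≤ n → Nonempty (L.X i ≅
        KRR.twF n T (-(i : ℤ)) ((Scheme.Modules.pullback (KRR.pr n T)).obj (Tm i)))) ∧
      (∀ i, n < i → IsZero (L.X i)) ∧ QuasiIso π := by
  let s₀ : Stage n T := ⟨F, hF, hreg⟩
  obtain ⟨e0⟩ := nonempty_twF_zero n T F (-((0 : ℕ) : ℤ)) (by simp)
  have hse := shortExact_k n T s₀
  let L := Splice4.scx (Xk n T s₀) (Zk n T s₀) (ak n T s₀) (bk n T s₀) (bk_ak n T s₀)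
  let π₀ := Splice4.saug (Xk n T s₀) (Zk n T s₀) (ak n T s₀) (bk n T s₀) (bk_ak n T s₀)
  have hq : QuasiIso π₀ := Splice4.quasiIso_saug _ _ _ _ _ (fun k => (hse k).exact)
    (fun k => (hse k).epi_g) (fun k => (hse k).mono_f)
  let e0' : Zk n T s₀ 0 ≅ F := e0
  refine ⟨fun k => (Scheme.Modules.pushforward (KRR.pr n T)).obj (stage n T s₀ k).G, L,
    π₀ ≫ (ChainComplex.single₀ (KRR.PY n T).Modules).map e0'.hom, ?_, ?_, ?_, ?_⟩
  · intro i
    haveI := (stage n T s₀ i).qc
    exact PushQc.isQuasicoherent_pushforward (KRR.pr n T) _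
  · intro i _
    exact ⟨Iso.refl _⟩
  · intro i hi
    exact isZero_Xk n T s₀ i hi
  · haveI := hq
    infer_instance

end Main

end Groth.Agent.Lib.Helper4.KrrM
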