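import Mathlib
import Groth.Prelude.Def_ega3
import Groth.Agent.Lib.Helper4.BCSec2

/-!
# Lifting sections from a fibre when the first cohomology vanishes universally (helper4)
-/

set_option backward.isDefEq.respectTransparency.types false
set_option synthInstance.maxHeartbeats 400000
set_option autoImplicit false
set_option linter.unusedSectionVars false
set_option linter.style.haveILetI false
set_option linter.unusedSimpArgs false
universe u v w
open CategoryTheory
open CategoryTheory.Limits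
open AlgebraicGeometry
open TopologicalSpace
open Opposite
open TensorProduct
open Groth.Agent.Helper1
open Groth.Agent.Helper1.QcCech
open Groth.Agent.Lib.Helper4.LocCech1
open Groth.Agent.Lib.Helper4.BaseChgRing1
open Groth.Agent.Lib.Helper4.TenSec2
open Groth.Agent.Lib.Helper4.CechTen1
open Groth.Agent.Lib.Helper4.CechTen2
open Groth.Agent.Lib.Helper4.BCSec1
open Groth.Agent.Lib.Helper4.BCSec2

namespace Groth.Agent.Lib.Helper4.FibLift1

section Alg
variable {A : Type u} [CommRing A] {C0 C1 C2 N : Type u}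
  [AddCommGroup C0] [Module A C0] [AddCommGroup C1] [Module A C1] [AddCommGroup C2] [Module A C2]
  [AddCommGroup N] [Module A N]

/-- common denominators: every tensor is, up to a denominator, a pure tensor against `e` -/
theorem exists_denominator (S : Submonoid A) (e : N)
    (hfrac : ∀ n : N, ∃ a s : A, s ∈ S ∧ s • n = a • e) (ξ : C0 ⊗[A] N) :
    ∃ (s : A) (c : C0), s ∈ S ∧ s • ξ = c ⊗ₜ[A] e := by
  induction ξ using TensorProduct.induction_on with
  | zero => exact ⟨1, 0, S.one_mem, by rw [smul_zero, TensorProduct.zero_tmul]⟩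
  | tmul c n =>
    obtain ⟨a, s, hs, h⟩ := hfrac n
    refine ⟨s, a • c, hs, ?_⟩
    rw [TensorProduct.smul_tmul', TensorProduct.smul_tmul, h, ← TensorProduct.smul_tmul]
  | add x y hx hy =>
    obtain ⟨s₁, c₁, hs₁, h₁⟩ := hx
    obtain ⟨s₂, c₂, hs₂, h₂⟩ := hy
    refine ⟨s₁ * s₂, s₂ • c₁ + s₁ • c₂, S.mul_mem hs₁ hs₂, ?_⟩
    rw [smul_add, TensorProduct.add_tmul, mul_comm s₁ s₂, mul_smul, h₁, mul_comm s₂ s₁, mul_smul, h₂,
      TensorProduct.smul_tmul', TensorProduct.smul_tmul']

/-- **lifting cocycles**: if `H^1(C ⊗ M)` vanishes for all `M`, then a `0`-cocycle of `C ⊗ N`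
lifts, up to a denominator, to a `0`-cocycle of `C` -/
theorem lift_cocycle [Module.Flat A C1] [Module.Flat A C2]
    (d0 : C0 →ₗ[A] C1) (d1 : C1 →ₗ[A] C2) (hd : d1 ∘ₗ d0 = 0)
    (H1 : ∀ (M : Type u) [AddCommGroup M] [Module A M] (x : C1 ⊗[A] M),
      d1.rTensor M x = 0 → ∃ w : C0 ⊗[A] M, d0.rTensor M w = x)
    (S : Submonoid A) (e : N)
    (hfrac : ∀ n : N, ∃ a s : A, s ∈ S ∧ s • n = a • e)
    (ξ : C0 ⊗[A] N) (hξ : d0.rTensor N ξ = 0) :
    ∃ (z : C0) (s : A), s ∈ S ∧ d0 z = 0 ∧ z ⊗ₜ[A] e = s • ξ := by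
  obtain ⟨s, c, hs, hsc⟩ := exists_denominator S e hfrac ξ
  -- the cocycle condition for `c ⊗ e`
  have h2 : (d0 c) ⊗ₜ[A] e = 0 := by
    have := congrArg (d0.rTensor N) hsc
    rw [map_smul, hξ, smul_zero, LinearMap.rTensor_tmul] at this
    exact this.symm
  -- the map `a ↦ a • e` and its kernel
  let ψ : A →ₗ[A] N := LinearMap.toSpanSingleton A N e
  have hψ1 : ψ 1 = e := one_smul A e
  let I : Submodule A A := LinearMap.ker ψ
  let ψb : (A ⧸ I) →ₗ[A] N := I.liftQ ψ le_rfl
  have hψb : Function.Injective ψb := by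
    rw [← LinearMap.ker_eq_bot]
    exact Submodule.ker_liftQ_eq_bot _ _ _ le_rfl
  have hinj1 : Function.Injective (ψb.lTensor C1) :=
    Module.Flat.lTensor_preserves_injective_linearMap ψb hψb
  have h3 : (d0 c) ⊗ₜ[A] (I.mkQ 1) = 0 := by
    apply hinj1
    rw [map_zero, LinearMap.lTensor_tmul]
    have : ψb (I.mkQ 1) = e := by
      change I.liftQ ψ le_rfl (Submodule.Quotient.mk 1) = e
      rw [Submodule.liftQ_apply]
      exact hψ1
    rw [this]
    exact h2
  have hex : Function.Exact (I.subtype.lTensor C1) (I.mkQ.lTensor C1) :=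
    lTensor_exact C1 (LinearMap.exact_subtype_mkQ I) (Submodule.mkQ_surjective I)
  obtain ⟨x, hx⟩ := (hex ((d0 c) ⊗ₜ[A] (1 : A))).1 (by rw [LinearMap.lTensor_tmul]; exact h3)
  -- `x` is a cocycle
  have hinj2 : Function.Injective (I.subtype.lTensor C2) :=
    Module.Flat.lTensor_preserves_injective_linearMap I.subtype (Submodule.subtype_injective I)
  have h4 : d1.rTensor I x = 0 := by
    apply hinj2
    rw [map_zero, ← LinearMap.comp_apply, LinearMap.lTensor_comp_rTensor,
      ← LinearMap.rTensor_comp_lTensor, LinearMap.comp_apply, hx, LinearMap.rTensor_tmul]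
    have : d1 (d0 c) = 0 := LinearMap.congr_fun hd c
    rw [this, TensorProduct.zero_tmul]
  obtain ⟨w, hw⟩ := H1 I x h4
  -- the correction term
  let c' : C0 := TensorProduct.rid A C0 (I.subtype.lTensor C0 w)
  have hc' : c' ⊗ₜ[A] (1 : A) = I.subtype.lTensor C0 w := by
    have := (TensorProduct.rid A C0).symm_apply_apply (I.subtype.lTensor C0 w)
    rw [TensorProduct.rid_symm_apply] at this
    exact this
  have hdc' : d0 c' = d0 c := by
    have h5 : (d0 c') ⊗ₜ[A] (1 : A) = (d0 c) ⊗ₜ[A] (1 : A) := by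
      rw [← LinearMap.rTensor_tmul, hc', ← LinearMap.comp_apply, LinearMap.rTensor_comp_lTensor,
        ← LinearMap.lTensor_comp_rTensor, LinearMap.comp_apply, hw, hx]
    have := congrArg (TensorProduct.rid A C1) h5
    rw [TensorProduct.rid_tmul, TensorProduct.rid_tmul, one_smul, one_smul] at this
    exact this
  have hc'e : c' ⊗ₜ[A] e = 0 := by
    have h6 : c' ⊗ₜ[A] e = ψ.lTensor C0 (c' ⊗ₜ[A] (1 : A)) := by
      rw [LinearMap.lTensor_tmul, hψ1]
    rw [h6, hc', ← LinearMap.comp_apply, ← LinearMap.lTensor_comp]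
    have : ψ ∘ₗ I.subtype = 0 := by
      apply LinearMap.ext
      intro a
      exact a.2
    rw [this, LinearMap.lTensor_zero, LinearMap.zero_apply]
  refine ⟨c - c', s, hs, ?_, ?_⟩
  · rw [map_sub, hdc', sub_self]
  · rw [TensorProduct.sub_tmul, hc'e, sub_zero, hsc]

end Alg

section Sheaf
variable {X : Scheme.{u}} (F : X.Modules) {ι : Type u} (U : ι → X.Opens)

/-- the constant `1`-tuple -/
abbrev cst (i : ι) : Fin 1 → ι := fun _ => i

theorem le_W_cst (i : ι) : U i ≤ TCx.W U (cst i) := TCx.le_W U _ _ (fun _ => le_rfl)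

theorem eq_cst (a : Fin 1 → ι) : a = cst (a 0) := by
  funext k
  rw [Subsingleton.elim k 0]

/-- transport of components along an equality of index tuples -/
theorem res_congr {n : ℕ} (z : Co F U n) {a b : Fin (n + 1) → ι} (h : a = b) {O : X.Opens}
    (ha : O ≤ TCx.W U a) (hb : O ≤ TCx.W U b) : res F ha (z a) = res F hb (z b) := by
  subst h
  rfl

/-- a `0`-cocycle is compatible on overlaps -/
theorem cocycle_compat (z : Co F U 0) (hz : Dd F U 0 z = 0) (i j : ι) {O : X.Opens}
    (hi : O ≤ TCx.W U (cst i)) (hj : O ≤ TCx.W U (cst j)) :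
    res F hi (z (cst i)) = res F hj (z (cst j)) := by
  let a : Fin 2 → ι := ![i, j]
  have hO : O ≤ TCx.W U a := by
    apply TCx.le_W
    intro k
    fin_cases k
    · exact hi.trans (TCx.W_le U (cst i) 0)
    · exact hj.trans (TCx.W_le U (cst j) 0)
  have h1 := congrFun hz a
  rw [Dd_apply, Fin.sum_univ_two] at h1
  simp only [Fin.val_zero, pow_zero, one_smul, Fin.val_one, pow_one, neg_smul] at h1
  have h2 := congrArg (res F hO) h1
  rw [map_add, map_neg, res_res, res_res] at h2
  change _ = res F hO 0 at h2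
  rw [map_zero, add_neg_eq_zero] at h2
  have e0 : (fun k => a ((0 : Fin 2).succAbove k)) = cst j := by
    funext k
    fin_cases k
    rfl
  have e1 : (fun k => a ((1 : Fin 2).succAbove k)) = cst i := by
    funext k
    fin_cases k
    rfl
  rw [res_congr F U z e0 _ hj, res_congr F U z e1 _ hi] at h2
  exact h2.symm

/-- **sheaf condition**: a `0`-cocycle for a covering family is the family of restrictions of a
global section -/
theorem exists_section_of_cocycle (hcov : iSup U = ⊤) (z : Co F U 0) (hz : Dd F U 0 z = 0) :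
    ∃ s : Γ(F, ⊤), ∀ a : Fin 1 → ι, z a = res F le_top s := by
  let sf : ∀ i, Γ(F, U i) := fun i => res F (le_W_cst U i) (z (cst i))
  have hcomp : ∀ i j : ι, res F (inf_le_left : U i ⊓ U j ≤ U i) (sf i) =
      res F (inf_le_right : U i ⊓ U j ≤ U j) (sf j) := by
    intro i j
    change res F _ (res F _ _) = res F _ (res F _ _)
    rw [res_res, res_res]
    exact cocycle_compat F U z hz i j _ _
  obtain ⟨s, hs, -⟩ := TopCat.Sheaf.existsUnique_gluing'
    (⟨F.presheaf, F.isSheaf⟩ : TopCat.Sheaf Ab X) U ⊤ (fun i => homOfLE le_top)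
    (by rw [hcov]) sf hcomp
  refine ⟨s, fun a => ?_⟩
  have hs' : res F (le_top : U (a 0) ≤ ⊤) s = sf (a 0) := hs (a 0)
  have h1 : z a = res F (TCx.W_le U a 0) (sf (a 0)) := by
    change z a = res F _ (res F _ _)
    rw [res_res]
    have := res_congr F U z (eq_cst a) (le_refl _) ((TCx.W_le U a 0).trans (le_W_cst U (a 0)))
    rw [← this]
    exact (res_self F _ _).symm
  rw [h1, ← hs', res_res]

/-- sections agreeing on a covering family agree -/
theorem section_ext (hcov : iSup U = ⊤) (s t : Γ(F, ⊤))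
    (h : ∀ i, res F (le_top : U i ≤ ⊤) s = res F le_top t) : s = t := by
  apply TopCat.Sheaf.eq_of_locally_eq' (⟨F.presheaf, F.isSheaf⟩ : TopCat.Sheaf Ab X) U ⊤
    (fun i => homOfLE le_top) (by rw [hcov])
  intro i
  exact h i

end Sheaf

section Lift
variable {A L : Type u} [CommRing A] [Field L] (φ : A →+* L)
variable {X X' : Scheme.{u}} [X.Over (Spec (CommRingCat.of A))] [X'.Over (Spec (CommRingCat.of L))]
variable (g : X' ⟶ X) (F : X.Modules) {ι : Type u} (U : ι → X.Opens)

attribute [local instance] secMod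

variable (hw : g ≫ (X ↘ Spec (CommRingCat.of A)) =
      (X' ↘ Spec (CommRingCat.of L)) ≫ Spec.map (CommRingCat.ofHom φ))

include hw in
theorem gamX_d (M' : ModuleCat.{u} L) (n : ℕ) (x : (Co F U n) ⊗[A] (rs φ M')) :
    gamX φ g F U hw M' (n + 1) (LinearMap.rTensor (rs φ M') (DdA A F U n) x) =
      LinearMap.rTensor M' (DdA L (Fp g F) (Up g U) n) (gamX φ g F U hw M' n x) := by
  induction x using TensorProduct.induction_on with
  | zero => rw [map_zero, map_zero, map_zero, map_zero]
  | tmul y m =>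
    rw [LinearMap.rTensor_tmul, gamX_tmul, gamX_tmul, LinearMap.rTensor_tmul, DdA_apply,
      DdA_apply, uCo_Dd]
  | add x y hx hy => rw [map_add, map_add, hx, hy, map_add, map_add]

include hw in
theorem gamX_smul (M' : ModuleCat.{u} L) (n : ℕ) (a : A) (x : (Co F U n) ⊗[A] (rs φ M')) :
    gamX φ g F U hw M' n (a • x) = φ a • gamX φ g F U hw M' n x := by
  induction x using TensorProduct.induction_on with
  | zero => rw [smul_zero, map_zero, smul_zero]
  | tmul y m =>
    rw [TensorProduct.smul_tmul', gamX_tmul, gamX_tmul, uCo_smulA φ g F U hw,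
      TensorProduct.smul_tmul']
  | add x y hx hy => rw [smul_add, map_add, hx, hy, map_add, smul_add]

variable [Finite ι] [F.IsQuasicoherent]
  (hsq : IsPullback g (X' ↘ Spec (CommRingCat.of L)) (X ↘ Spec (CommRingCat.of A))
      (Spec.map (CommRingCat.ofHom φ)))
  (haff : ∀ (n : ℕ) (a : Fin (n + 1) → ι), IsAffineOpen (TCx.W U a)) (hcov : iSup U = ⊤)

include hsq haff hcov in
/-- **sections of the base change to a field of fractions lift, up to a denominator**, when the
first cohomology of the Čech complex vanishes universally -/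
theorem exists_lift_section
    (hflat : ∀ n, Module.Flat A (Co F U n))
    (H1 : ∀ (M : Type u) [AddCommGroup M] [Module A M] (x : (Co F U 1) ⊗[A] M),
      (DdA A F U 1).rTensor M x = 0 → ∃ w : (Co F U 0) ⊗[A] M, (DdA A F U 0).rTensor M w = x)
    (hfrac : ∀ b : L, ∃ a s : A, φ s ≠ 0 ∧ b * φ s = φ a)
    (t : Γ(Fp g F, ⊤)) :
    ∃ (s : Γ(F, ⊤)) (b : A), φ b ≠ 0 ∧
      uAdd g F (le_top : (⊤ : X'.Opens) ≤ g ⁻¹ᵁ ⊤) s = φ b • t := by
  let M' : ModuleCat.{u} L := ModuleCat.of L L
  -- the cocycle of `t`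
  let τ : Co (Fp g F) (Up g U) 0 := fun a => res (Fp g F) le_top t
  have hτ : DdA L (Fp g F) (Up g U) 0 τ = 0 := by
    rw [DdA_apply]
    funext a
    rw [Dd_apply, Fin.sum_univ_two]
    simp only [Fin.val_zero, pow_zero, one_smul, Fin.val_one, pow_one, neg_smul]
    change res (Fp g F) _ (res (Fp g F) _ t) + -res (Fp g F) _ (res (Fp g F) _ t) = 0
    rw [res_res, res_res, add_neg_cancel]
  obtain ⟨ξ, hξ⟩ := (gamX_bijective φ g F U hsq haff M' 0).2 (τ ⊗ₜ[L] (1 : L))
  have hξd : (DdA A F U 0).rTensor (rs φ M') ξ = 0 := by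
    apply (gamX_bijective φ g F U hsq haff M' 1).1
    rw [gamX_d φ g F U hsq.w M' 0 ξ, hξ, LinearMap.rTensor_tmul, hτ, TensorProduct.zero_tmul,
      map_zero]
  -- the denominators
  let S : Submonoid A :=
    { carrier := {s | φ s ≠ 0}
      mul_mem' := fun {a b} ha hb => by
        change φ (a * b) ≠ 0
        rw [map_mul]
        exact mul_ne_zero ha hb
      one_mem' := by
        change φ 1 ≠ 0
        rw [map_one]
        exact one_ne_zero }
  let e : rs φ M' := (1 : L)
  have hfrac' : ∀ n : rs φ M', ∃ a s : A, s ∈ S ∧ s • n = a • e := by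
    intro n
    obtain ⟨a, s, hs, h⟩ := hfrac n
    refine ⟨a, s, hs, ?_⟩
    change φ s * (show L from n) = φ a * (1 : L)
    rw [mul_one, mul_comm]
    exact h
  haveI := hflat 1
  haveI := hflat 2
  have hdd : (DdA A F U 1) ∘ₗ (DdA A F U 0) = 0 := by
    apply LinearMap.ext
    intro y
    change DdA A F U 1 (DdA A F U 0 y) = 0
    rw [DdA_apply, DdA_apply, Dd_Dd]
  obtain ⟨z, s, hs, hz, hze⟩ := lift_cocycle (DdA A F U 0) (DdA A F U 1) hdd H1 S e hfrac' ξ hξd
  -- transport to the base change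
  have h1 : (uCo g F U 0 z) ⊗ₜ[L] (1 : L) = (φ s • τ) ⊗ₜ[L] (1 : L) := by
    have := congrArg (gamX φ g F U hsq.w M' 0) hze
    rw [gamX_tmul, gamX_smul φ g F U hsq.w M' 0 s ξ, hξ, TensorProduct.smul_tmul'] at this
    exact this
  have h2 : uCo g F U 0 z = φ s • τ := by
    have := congrArg (TensorProduct.rid L (Co (Fp g F) (Up g U) 0)) h1
    rw [TensorProduct.rid_tmul, TensorProduct.rid_tmul, one_smul, one_smul] at this
    exact this
  -- the global section
  have hz' : Dd F U 0 z = 0 := by rw [← DdA_apply A F U 0 z]; exact hz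
  obtain ⟨s₀, hs₀⟩ := exists_section_of_cocycle F U hcov z hz'
  refine ⟨s₀, s, hs, ?_⟩
  apply section_ext (Fp g F) (Up g U) (iSup_Up g U hcov)
  intro i
  have h3 := congrFun h2 (cst i)
  rw [uCo_apply, hs₀ (cst i)] at h3
  have h4 := uAdd_res g F (le_top : (⊤ : X'.Opens) ≤ g ⁻¹ᵁ ⊤) (Wp_eq g U (cst i)).le
    (le_top : TCx.W U (cst i) ≤ ⊤) (le_top : TCx.W (Up g U) (cst i) ≤ ⊤) s₀
  have h5 : res (Fp g F) (le_top : TCx.W (Up g U) (cst i) ≤ ⊤)
      (uAdd g F (le_top : (⊤ : X'.Opens) ≤ g ⁻¹ᵁ ⊤) s₀) =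
      res (Fp g F) (le_top : TCx.W (Up g U) (cst i) ≤ ⊤) (φ s • t) := by
    rw [h4, h3]
    change φ s • res (Fp g F) _ t = _
    exact ((resA L (Fp g F) (le_top : TCx.W (Up g U) (cst i) ≤ ⊤)).map_smul (φ s) t).symm
  have h6 := congrArg (res (Fp g F) (le_W_cst (Up g U) i)) h5
  rw [res_res, res_res] at h6
  exact h6

end Lift

end Groth.Agent.Lib.Helper4.FibLift1
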