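import Mathlib
import Groth.Prelude.Def_ega3
import Groth.Agent.Lib.Helper4.Grauert3

/-!
# Locally free higher direct images in all degrees give locally constant fibre ranks; descending induction on cokernels (helper4)
-/

set_option backward.isDefEq.respectTransparency.types false
set_option synthInstance.maxHeartbeats 400000
set_option autoImplicit false
set_option linter.unusedSectionVars false
set_option linter.style.haveILetI false
set_option linter.unusedSimpArgs false
universe u v w
open CategoryTheory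
open CategoryTheory.Limits
open AlgebraicGeometry
open TopologicalSpace
open Opposite
open TensorProduct
open Topology
open Groth.Agent.Helper1.FlatCxL
open Groth.Agent.Lib.Helper4.RedRank1
open Groth.Agent.Lib.Helper4.FibRank1
open Groth.Agent.Lib.Helper4.ExchAlg1
open Groth.Agent.Lib.Helper4.ExchAlg2
open Groth.Agent.Lib.Helper4.TruncAlg1
open Groth.Agent.Lib.Helper4.AlgFib1
open Groth.Agent.Lib.Helper4.LocAlg1
open Groth.Agent.Lib.Helper4.ChartFib1
open Groth.Agent.Lib.Helper4.ChartPkg1
open Groth.Agent.Lib.Helper4.GrauertAlg1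
open Groth.Agent.Lib.Helper4.Grauert1
open Groth.Agent.Lib.Helper4.Grauert2
open Groth.Agent.Lib.Helper4.Grauert3

namespace Groth.Agent.Lib.Helper4.Grauert4

section Alg
variable {A : Type u} [CommRing A] (K : CochainComplex (ModuleCat.{u} A) ℤ)
variable (p q r : ℤ) (hpq : p + 1 = q) (hqr : q + 1 = r)

include hpq hqr in
/-- the descending step: if `W^r` is flat and `H^q` is projective then `W^q` is flat -/
theorem flat_Wq_step [IsNoetherianRing A]
    [Module.Finite A (K.X q)] [Module.Finite A (K.X r)] [Module.Projective A (K.X r)]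
    [Module.Flat A (Wq K q r)] [Module.Projective A (K.homology q)] :
    Module.Flat A (Wq K p q) := by
  haveI : Module.FinitePresentation A (Wq K q r) := Module.finitePresentation_of_finite A _
  haveI hW2 : Module.Projective A (Wq K q r) := Module.Flat.projective_of_finitePresentation
  obtain ⟨s2, hs2⟩ := Module.projective_lifting_property (mkW K q r) LinearMap.id
    (Submodule.mkQ_surjective _)
  have hex2 : Function.Exact (Bq K q r).subtype (mkW K q r) :=
    (LinearMap.exact_subtype_mkQ (Bq K q r))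
  let e2 := (hex2.splitSurjectiveEquiv (Submodule.subtype_injective _) ⟨s2, hs2⟩).1
  haveI hB : Module.Projective A (Bq K q r) :=
    Module.Projective.of_split (e2.symm.toLinearMap ∘ₗ LinearMap.inl A _ _)
      (LinearMap.fst A (Bq K q r) (Wq K q r) ∘ₗ e2.toLinearMap) (by
        ext x
        simp)
  let σ : Wq K p q →ₗ[A] Bq K q r := LinearMap.codRestrict (Bq K q r) (dbar K p q r) (fun w => by
    rw [← range_dbar K p q r]
    exact ⟨w, rfl⟩)
  have hσ : Function.Surjective σ := by
    rintro ⟨b, hb⟩
    rw [← range_dbar K p q r] at hb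
    obtain ⟨w, rfl⟩ := hb
    exact ⟨w, rfl⟩
  obtain ⟨s1, hs1⟩ := Module.projective_lifting_property σ LinearMap.id hσ
  have hex1 : Function.Exact (LinearMap.ker (dbar K p q r)).subtype σ := by
    intro w
    constructor
    · intro h
      have h1 : dbar K p q r w = 0 := congrArg Subtype.val h
      exact ⟨⟨w, h1⟩, rfl⟩
    · rintro ⟨⟨w', hw'⟩, rfl⟩
      exact Subtype.ext hw'
  let e1 := (hex1.splitSurjectiveEquiv (Submodule.subtype_injective _) ⟨s1, hs1⟩).1
  haveI : Module.Projective A (LinearMap.ker (dbar K p q r)) :=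
    Module.Projective.of_equiv (homEquivKer K p q r hpq hqr)
  haveI : Module.Projective A (Wq K p q) := Module.Projective.of_equiv e1.symm
  infer_instance

/-- **descending induction**: for a bounded above complex of finite projective modules whose
homology is projective in degrees `≥ n`, the cokernels `W^i` are flat for `i ≥ n` -/
theorem flat_Wq_descending [IsNoetherianRing A]
    (hK : ∀ i, Module.Finite A (K.X i) ∧ Module.Projective A (K.X i))
    (b : ℤ) (hb : ∀ i, b < i → IsZero (K.X i)) (n : ℤ)
    (hH : ∀ i, n ≤ i → Module.Projective A (K.homology i)) :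
    ∀ p q : ℤ, p + 1 = q → n ≤ q → Module.Flat A (Wq K p q) := by
  haveI : ∀ i, Module.Finite A (K.X i) := fun i => (hK i).1
  haveI : ∀ i, Module.Projective A (K.X i) := fun i => (hK i).2
  have hbig : ∀ p q : ℤ, b < q → Module.Flat A (Wq K p q) := by
    intro p q hq
    haveI : Subsingleton (K.X q) := ModuleCat.subsingleton_of_isZero (hb q hq)
    haveI : Subsingleton (Wq K p q) := Function.Surjective.subsingleton (Submodule.mkQ_surjective _)
    infer_instance
  have key : ∀ k : ℕ, ∀ p q : ℤ, p + 1 = q → q + k = b + 1 → n ≤ q → Module.Flat A (Wq K p q) := by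
    intro k
    induction k with
    | zero =>
      intro p q hpq hq hn
      exact hbig p q (by omega)
    | succ k ih =>
      intro p q hpq hq hn
      haveI := ih q (q + 1) rfl (by push_cast at hq; omega) (by omega)
      haveI := hH q hn
      exact flat_Wq_step K p q (q + 1) hpq rfl
  intro p q hpq hn
  by_cases hq : b < q
  · exact hbig p q hq
  · obtain ⟨k, hk⟩ := Int.eq_ofNat_of_zero_le (by omega : 0 ≤ b + 1 - q)
    exact key k p q hpq (by omega) hn

end Alg

section Chart
variable {X S : Scheme.{u}} (f : X ⟶ S) [IsProper f] [IsLocallyNoetherian S]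
  [HasInjectiveResolutions X.Modules]
  (F : X.Modules) (hF : Coh.IsCoh F) (hfl : FlatMod.IsFlatOver f F) {V : S.Opens}
  (hV : IsAffineOpen V)

include hF hfl in
theorem locConst_chart
    (hlf : ∀ i : ℕ, FlatMod.IsFinLocFree ((Coh.Rpush f i).obj F)) (i0 : ℕ) :
    IsLocallyConstant (fun y' : PrimeSpectrum Γ(S, V) =>
      CohIII.fiberRank f F i0 (hV.fromSpec y')) := by
  haveI : F.IsQuasicoherent := hF.1
  haveI : IsNoetherianRing Γ(S, V) := IsLocallyNoetherian.component_noetherian ⟨V, hV⟩
  obtain ⟨K, hff, hneg, ⟨b, hb⟩, hsec, hrank, hvan⟩ := exists_chart_complex f F hF hfl hV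
  haveI : ∀ i, Module.Finite Γ(S, V) (K.X i) := fun i => (hff i).1
  haveI : ∀ i, Module.Free Γ(S, V) (K.X i) := fun i => (hff i).2
  have hHn : ∀ j : ℕ, Module.Finite Γ(S, V) (K.homology (j : ℤ)) ∧
      Module.Projective Γ(S, V) (K.homology (j : ℤ)) := by
    intro j
    haveI : ((Coh.Rpush f j).obj F).IsQuasicoherent :=
      Groth.Agent.Lib.Helper5.RpushClassic.isQuasicoherent_rpush f F j
    obtain ⟨h1, h2⟩ := (Groth.Agent.Lead.FLF.isFinLocFree_iff_affineOpens _).1 (hlf j) V hV
    obtain ⟨e⟩ := hsec j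
    exact ⟨Module.Finite.equiv e, Module.Projective.of_equiv e⟩
  have hH : ∀ i : ℤ, 0 ≤ i → Module.Projective Γ(S, V) (K.homology i) := by
    intro i hi
    obtain ⟨j, rfl⟩ := Int.eq_ofNat_of_zero_le hi
    exact (hHn j).2
  have hW := flat_Wq_descending K (fun i => ⟨inferInstance, inferInstance⟩) b hb 0 hH
  haveI f1 : Module.Flat Γ(S, V) (Wq K ((i0 : ℤ) - 1) (i0 : ℤ)) :=
    hW _ _ (by ring) (Int.natCast_nonneg i0)
  haveI f2 : Module.Flat Γ(S, V) (Wq K (i0 : ℤ) ((i0 : ℤ) + 1)) :=
    hW _ _ rfl (by positivity)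
  obtain ⟨h1, h2, h3⟩ := projective_homology K ((i0 : ℤ) - 1) (i0 : ℤ) ((i0 : ℤ) + 1) (by omega) rfl
  haveI := h1
  haveI := h2
  haveI : Module.FinitePresentation Γ(S, V) (K.homology (i0 : ℤ)) :=
    Module.finitePresentation_of_finite _ _
  have hfun : (fun y' : PrimeSpectrum Γ(S, V) => CohIII.fiberRank f F i0 (hV.fromSpec y')) =
      Module.rankAtStalk (R := Γ(S, V)) (K.homology (i0 : ℤ)) := by
    funext y'
    rw [Module.rankAtStalk_eq y']
    have a1 := h3 y'
    have a2 := hrank i0 y'
    change _ = fibreRank (K.homology (i0 : ℤ)) y'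
    omega
  rw [hfun]
  exact Module.isLocallyConstant_rankAtStalk

end Chart

section Main

/-- local constancy can be checked on affine charts -/
theorem isLocallyConstant_of_charts {S : Scheme.{u}} {α : Type*} (g : S → α)
    (h : ∀ (V : S.Opens) (hV : IsAffineOpen V),
      IsLocallyConstant (fun y' : PrimeSpectrum Γ(S, V) => g (hV.fromSpec y'))) :
    IsLocallyConstant g := by
  rw [IsLocallyConstant.iff_exists_open]
  intro y
  obtain ⟨_, ⟨V, hV, rfl⟩, hyV, -⟩ := S.isBasis_affineOpens.exists_subset_of_mem_open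
    (Set.mem_univ y) isOpen_univ
  let y' : PrimeSpectrum Γ(S, V) := hV.primeIdealOf ⟨y, hyV⟩
  have hy' : hV.fromSpec y' = y := hV.fromSpec_primeIdealOf ⟨y, hyV⟩
  obtain ⟨U', hU', hyU', hconst⟩ := (IsLocallyConstant.iff_exists_open _).1 (h V hV) y'
  refine ⟨hV.fromSpec '' U', hV.fromSpec.isOpenEmbedding.isOpenMap U' hU', ⟨y', hyU', hy'⟩, ?_⟩
  rintro _ ⟨z, hz, rfl⟩
  have := hconst z hz
  simp only at this
  rw [this, hy']

theorem s2441 {X Y : Scheme.{u}} (f : X ⟶ Y) [IsProper f] [IsLocallyNoetherian Y]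
    (F : X.Modules) (hF : Coh.IsCoh F) (hfl : FlatMod.IsFlatOver f F)
    [HasInjectiveResolutions X.Modules] (hlf : ∀ i : ℕ, FlatMod.IsFinLocFree ((Coh.Rpush f i).obj F)) (i : ℕ) :
    IsLocallyConstant (CohIII.fiberRank f F i) :=
  isLocallyConstant_of_charts _ (fun V hV => locConst_chart f F hF hfl hV hlf i)

end Main

end Groth.Agent.Lib.Helper4.Grauert4
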