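import Mathlib
import Groth.Prelude.Def_ega3
import Groth.Agent.Lib.Helper4.Grauert4

/-!
# Vanishing higher direct images: fibre cohomology vanishes and the pushforward is locally free (helper4)
-/

set_option backward.isDefEq.respectTransparency.types false
set_option synthInstance.maxHeartbeats 400000
set_option autoImplicit false
set_option linter.unusedSectionVars false
set_option linter.style.haveILetI false
set_option linter.unusedSimpArgs false
universe u v w
open CategoryTheory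
open CategoryTheory.Limits
open AlgebraicGeometry
open TopologicalSpace
open Opposite
open TensorProduct
open Topology
open Groth.Agent.Helper1.FlatCxL
open Groth.Agent.Lib.Helper4.RedRank1
open Groth.Agent.Lib.Helper4.FibRank1
open Groth.Agent.Lib.Helper4.ExchAlg1
open Groth.Agent.Lib.Helper4.ExchAlg2
open Groth.Agent.Lib.Helper4.TruncAlg1
open Groth.Agent.Lib.Helper4.AlgFib1
open Groth.Agent.Lib.Helper4.HomEl1
open Groth.Agent.Lib.Helper4.LocAlg1
open Groth.Agent.Lib.Helper4.ChartFib1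
open Groth.Agent.Lib.Helper4.ChartPkg1
open Groth.Agent.Lib.Helper4.GrauertAlg1
open Groth.Agent.Lib.Helper4.Grauert1
open Groth.Agent.Lib.Helper4.Grauert2
open Groth.Agent.Lib.Helper4.Grauert3
open Groth.Agent.Lib.Helper4.Grauert4

namespace Groth.Agent.Lib.Helper4.Grauert5

section Alg
variable {A : Type u} [CommRing A] (K : CochainComplex (ModuleCat.{u} A) ℤ)
variable (p q r : ℤ) (hpq : p + 1 = q) (hqr : q + 1 = r)

include hpq hqr in
/-- vanishing homology in degree `q` and a flat cokernel `W^r` give universal vanishing of `T^q` -/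
theorem uvan_of_flat_of_subsingleton [Module.Flat A (K.X r)] [Module.Flat A (Wq K q r)]
    [Subsingleton (K.homology q)] : UVan K q := by
  have hinj : Function.Injective (dbar K p q r) := by
    haveI : Subsingleton (LinearMap.ker (dbar K p q r)) :=
      (homEquivKer K p q r hpq hqr).symm.toEquiv.subsingleton
    rw [← LinearMap.ker_eq_bot]
    exact Submodule.eq_bot_of_subsingleton
  have hflat : Module.Flat A (K.X r ⧸ LinearMap.range (dbar K p q r)) :=
    Module.Flat.of_linearEquiv (Submodule.quotEquivOfEq _ _ (range_dbar K p q r))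
  intro M
  have h1 := rTensor_injective_of_flat_coker (dbar K p q r) hflat hinj M
  have hex : Function.Exact ((K.d p q).hom.rTensor M) ((mkW K p q).rTensor M) :=
    rTensor_exact M (K.d p q).hom.exact_map_mkQ_range (Submodule.mkQ_surjective _)
  haveI : Subsingleton ((KM K M).homology q) := by
    refine ⟨fun a b => ?_⟩
    suffices h : ∀ c : (KM K M).homology q, c = 0 by rw [h a, h b]
    intro c
    obtain ⟨z, rfl⟩ := cls_surjective (KM K M) q r hqr c
    refine (cls_eq_zero_iff (KM K M) p q r hpq hqr _).2 ?_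
    have hz : (K.d q r).hom.rTensor M z.1 = 0 := z.2
    have hw : (mkW K p q).rTensor M z.1 = 0 := by
      apply h1
      rw [map_zero, ← LinearMap.comp_apply, ← LinearMap.rTensor_comp, dbar_comp_mk]
      exact hz
    obtain ⟨y, hy⟩ := (hex _).1 hw
    exact ⟨y, hy⟩
  exact ModuleCat.isZero_of_subsingleton ((KM K M).homology q)

end Alg

section Chart
variable {X S : Scheme.{u}} (f : X ⟶ S) [IsProper f] [IsLocallyNoetherian S]
  [HasInjectiveResolutions X.Modules]
  (F : X.Modules) (hF : Coh.IsCoh F) (hfl : FlatMod.IsFlatOver f F) {V : S.Opens}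
  (hV : IsAffineOpen V)

include hF hfl in
theorem chart_2390 (hR : ∀ i : ℕ, 0 < i → IsZero ((Coh.Rpush f i).obj F)) :
    (∀ (y' : ↑(Spec (CommRingCat.of Γ(S, V)))) (i : ℕ), 0 < i →
        Subsingleton (CohIII.fiberH f F (hV.fromSpec y') i)) ∧
    Module.Finite Γ(S, V) Γ((Coh.Rpush f 0).obj F, V) ∧
      Module.Projective Γ(S, V) Γ((Coh.Rpush f 0).obj F, V) ∧
      ∀ y' : ↑(Spec (CommRingCat.of Γ(S, V))),
        fibreRank Γ((Coh.Rpush f 0).obj F, V) y' = CohIII.fiberRank f F 0 (hV.fromSpec y') := by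
  haveI : F.IsQuasicoherent := hF.1
  haveI : IsNoetherianRing Γ(S, V) := IsLocallyNoetherian.component_noetherian ⟨V, hV⟩
  obtain ⟨K, hff, hneg, ⟨b, hb⟩, hsec, hrank, hvan⟩ := exists_chart_complex f F hF hfl hV
  haveI : ∀ i, Module.Finite Γ(S, V) (K.X i) := fun i => (hff i).1
  haveI : ∀ i, Module.Free Γ(S, V) (K.X i) := fun i => (hff i).2
  have hHsub : ∀ j : ℕ, 0 < j → Subsingleton (K.homology (j : ℤ)) := by
    intro j hj
    obtain ⟨e⟩ := hsec j
    haveI : Subsingleton Γ((Coh.Rpush f j).obj F, V) :=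
      ⟨fun a b => (Groth.Agent.Helper1.QcAbel.sections_eq_zero_of_isZero (hR j hj) V a).trans
        (Groth.Agent.Helper1.QcAbel.sections_eq_zero_of_isZero (hR j hj) V b).symm⟩
    exact e.symm.toEquiv.subsingleton
  have hH : ∀ i : ℤ, 1 ≤ i → Module.Projective Γ(S, V) (K.homology i) := by
    intro i hi
    obtain ⟨j, rfl⟩ := Int.eq_ofNat_of_zero_le (by omega : 0 ≤ i)
    haveI := hHsub j (by omega)
    infer_instance
  have hW := flat_Wq_descending K (fun i => ⟨inferInstance, inferInstance⟩) b hb 1 hH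
  refine ⟨?_, ?_⟩
  · intro y' i hi
    haveI := hHsub i hi
    haveI : Module.Flat Γ(S, V) (Wq K (i : ℤ) ((i : ℤ) + 1)) := hW _ _ rfl (by omega)
    have huv : UVan K (i : ℤ) :=
      uvan_of_flat_of_subsingleton K ((i : ℤ) - 1) (i : ℤ) ((i : ℤ) + 1) (by omega) rfl
    exact (hvan i y').2 (ModuleCat.subsingleton_of_isZero (huv _))
  · haveI f1 : Module.Flat Γ(S, V) (Wq K (((0 : ℕ) : ℤ) - 1) ((0 : ℕ) : ℤ)) := by
      haveI := projective_Wq_of_uvan K (((0 : ℕ) : ℤ) - 1 - 1) (((0 : ℕ) : ℤ) - 1) ((0 : ℕ) : ℤ)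
        (by omega) (by omega) (hneg _ (by omega))
      infer_instance
    haveI f2 : Module.Flat Γ(S, V) (Wq K ((0 : ℕ) : ℤ) (((0 : ℕ) : ℤ) + 1)) :=
      hW _ _ rfl (by omega)
    obtain ⟨h1, h2, h3⟩ := projective_homology K (((0 : ℕ) : ℤ) - 1) ((0 : ℕ) : ℤ)
      (((0 : ℕ) : ℤ) + 1) (by omega) rfl
    obtain ⟨e⟩ := hsec 0
    refine ⟨Module.Finite.equiv e.symm, Module.Projective.of_equiv e.symm, fun y' => ?_⟩
    have := h3 y'
    have := hrank 0 y'
    rw [fibreRank_congr e y']
    omega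

end Chart

section Main

theorem s2390 {X Y : Scheme.{u}} (f : X ⟶ Y) [IsProper f] [IsLocallyNoetherian Y]
    (F : X.Modules) (hF : Coh.IsCoh F) (hfl : FlatMod.IsFlatOver f F)
    [HasInjectiveResolutions X.Modules] (hR : ∀ i : ℕ, 0 < i → IsZero ((Coh.Rpush f i).obj F)) :
    (∀ y : Y, ∀ i : ℕ, 0 < i → Subsingleton (CohIII.fiberH f F y i)) ∧
      ∀ y : Y, ∃ U : Y.Opens, y ∈ U ∧
        Nonempty (((Coh.push f).obj F).restrict U.ι ≅ FlatMod.freeMod (↑U) (CohIII.fiberRank f F 0 y)) := by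
  haveI : F.IsQuasicoherent := hF.1
  haveI : ((Coh.Rpush f 0).obj F).IsQuasicoherent :=
    Groth.Agent.Lib.Helper5.RpushClassic.isQuasicoherent_rpush f F 0
  constructor
  · intro y i hi
    obtain ⟨_, ⟨V, hV, rfl⟩, hyV, -⟩ := Y.isBasis_affineOpens.exists_subset_of_mem_open
      (Set.mem_univ y) isOpen_univ
    have hy' : hV.fromSpec (hV.primeIdealOf ⟨y, hyV⟩) = y := hV.fromSpec_primeIdealOf ⟨y, hyV⟩
    have := (chart_2390 f F hF hfl hV hR).1 (hV.primeIdealOf ⟨y, hyV⟩) i hi
    rw [hy'] at this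
    exact this
  · intro y
    obtain ⟨U, hyU, ⟨e⟩⟩ := (locFree_of_charts ((Coh.Rpush f 0).obj F) (CohIII.fiberRank f F 0)
      (fun V hV => (chart_2390 f F hF hfl hV hR).2)).2 y
    refine ⟨U, hyU, ⟨?_ ≪≫ e⟩⟩
    exact (Scheme.Modules.restrictFunctor U.ι).mapIso
      ((Scheme.Modules.pushforward f).rightDerivedZeroIsoSelf.app F).symm

end Main

end Groth.Agent.Lib.Helper4.Grauert5
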