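import Mathlib
import Groth.Prelude.Def_ega3
import Groth.Agent.Lib.Helper4.Grauert5

/-!
# Openness of fibrewise vanishing (algebra), fibrewise to universal vanishing, Cech exactness (helper4)
-/

set_option backward.isDefEq.respectTransparency.types false
set_option synthInstance.maxHeartbeats 400000
set_option autoImplicit false
set_option linter.unusedSectionVars false
set_option linter.style.haveILetI false
set_option linter.unusedSimpArgs false
universe u v w
open CategoryTheory
open CategoryTheory.Limits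
open AlgebraicGeometry
open TopologicalSpace
open Opposite
open TensorProduct
open Groth.Agent.Helper1
open Groth.Agent.Helper1.QcCech
open Groth.Agent.Lib.Helper4.LocCech1
open Groth.Agent.Lib.Helper4.TenSec2
open Groth.Agent.Lib.Helper4.CechTen1
open Groth.Agent.Lib.Helper4.CechTen2
open Groth.Agent.Lib.Helper4.MumBC2
open Groth.Agent.Lib.Helper4.HomEl1
open Groth.Agent.Lib.Helper4.ExchAlg1
open Groth.Agent.Lib.Helper4.ExchAlg2
open Groth.Agent.Lib.Helper4.TruncAlg1
open Groth.Agent.Lib.Helper4.AlgFib1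
open Groth.Agent.Lib.Helper4.LocAlg1
open Groth.Agent.Lib.Helper4.GrauertAlg1
open Groth.Agent.Lib.Helper4.Grauert2
open Groth.Agent.Lib.Helper4.Grauert5

namespace Groth.Agent.Lib.Helper4.OpenVan1

section A1
variable {A : Type u} [CommRing A] {W Q : Type u} [AddCommGroup W] [Module A W]
  [AddCommGroup Q] [Module A Q] (l : W →ₗ[A] Q)

/-- **spreading out a local retraction**: if `l ⊗ κ(p)` is injective, then `l` has a retraction up
to a denominator not in `p` -/
theorem exists_uniform_retraction [Module.Finite A W] [Module.Finite A Q] [Module.Free A Q]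
    (p : Ideal A) [p.IsPrime] {κ : Type u} [Field κ] (ψ : A →+* κ) (hψ : RingHom.ker ψ = p)
    (hinj : letI : Module A κ := Module.compHom κ ψ
      Function.Injective (l.lTensor κ)) :
    ∃ (g : A) (l'' : Q →ₗ[A] W), g ∉ p ∧ l'' ∘ₗ l = g • LinearMap.id := by
  classical
  obtain ⟨l', hl'⟩ := exists_retraction_baseChange l p ψ hψ hinj
  let Ap := Localization.AtPrime p
  let mk : W →ₗ[A] Ap ⊗[A] W := TensorProduct.mk A Ap W 1
  haveI : IsLocalizedModule p.primeCompl mk := inferInstance
  let b := Module.Free.chooseBasis A Q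
  -- denominators for the images of the basis vectors
  have h1 : ∀ i, ∃ (s : A) (w : W), s ∉ p ∧ s • l' ((1 : Ap) ⊗ₜ[A] b i) = mk w := by
    intro i
    obtain ⟨⟨w, s⟩, h⟩ := IsLocalizedModule.surj p.primeCompl mk (l' ((1 : Ap) ⊗ₜ[A] b i))
    exact ⟨s.1, w, s.2, h⟩
  choose s w hs hsw using h1
  let s₀ : A := ∏ i, s i
  have hs₀ : s₀ ∉ p := by
    intro h
    obtain ⟨i, -, hi⟩ := (Ideal.IsPrime.prod_mem_iff).1 h
    exact hs i hi
  have h2 : ∀ i, ∃ w' : W, s₀ • l' ((1 : Ap) ⊗ₜ[A] b i) = mk w' := by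
    intro i
    obtain ⟨c, hc⟩ : ∃ c : A, s₀ = c * s i :=
      ⟨∏ j ∈ Finset.univ.erase i, s j, by
        rw [mul_comm]; exact (Finset.mul_prod_erase Finset.univ s (Finset.mem_univ i)).symm⟩
    refine ⟨c • w i, ?_⟩
    rw [hc, mul_smul, hsw i, map_smul]
  choose w' hw' using h2
  let l₂ : Q →ₗ[A] W := b.constr A w'
  have h3' : mk ∘ₗ l₂ = s₀ • ((l'.restrictScalars A) ∘ₗ (TensorProduct.mk A Ap Q 1)) := by
    apply b.ext
    intro i
    simp only [LinearMap.comp_apply, LinearMap.smul_apply, LinearMap.restrictScalars_apply,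
      TensorProduct.mk_apply]
    rw [hw' i]
    congr 1
    exact b.constr_basis A w' i
  have h3 : ∀ x : Q, mk (l₂ x) = s₀ • l' ((1 : Ap) ⊗ₜ[A] x) := fun x => LinearMap.congr_fun h3' x
  have h4 : ∀ x : W, mk (l₂ (l x) - s₀ • x) = 0 := by
    intro x
    rw [map_sub, h3, map_smul]
    have := LinearMap.congr_fun hl' ((1 : Ap) ⊗ₜ[A] x)
    simp only [LinearMap.comp_apply, LinearMap.baseChange_tmul, LinearMap.id_apply] at this
    rw [this]
    exact sub_self _
  -- a common annihilator on generators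
  obtain ⟨G, hG⟩ := (Module.Finite.fg_top : (⊤ : Submodule A W).FG)
  have h5 : ∀ x : W, ∃ t : A, t ∉ p ∧ t • (l₂ (l x) - s₀ • x) = 0 := by
    intro x
    obtain ⟨t, ht⟩ := (IsLocalizedModule.eq_zero_iff p.primeCompl mk).1 (h4 x)
    exact ⟨t.1, t.2, ht⟩
  choose t htp ht using h5
  let t₀ : A := ∏ x ∈ G, t x
  have ht₀ : t₀ ∉ p := by
    intro h
    obtain ⟨i, -, hi⟩ := (Ideal.IsPrime.prod_mem_iff).1 h
    exact htp i hi
  have h6 : ∀ x ∈ G, t₀ • (l₂ (l x) - s₀ • x) = 0 := by
    intro x hx
    obtain ⟨c, hc⟩ : ∃ c : A, t₀ = c * t x :=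
      ⟨∏ j ∈ G.erase x, t j, by
        rw [mul_comm]; exact (Finset.mul_prod_erase G t hx).symm⟩
    rw [hc, mul_smul, ht x, smul_zero]
  refine ⟨t₀ * s₀, t₀ • l₂, ?_, ?_⟩
  · intro h
    rcases (Ideal.IsPrime.mem_or_mem inferInstance h) with h | h
    · exact ht₀ h
    · exact hs₀ h
  · have h7 : (t₀ • l₂) ∘ₗ l - (t₀ * s₀) • LinearMap.id = 0 := by
      apply LinearMap.ext_on_range (v := fun x : G => (x : W))
      · rw [Subtype.range_coe_subtype]
        exact hG
      · intro x
        have := h6 x.1 x.2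
        simp only [LinearMap.sub_apply, LinearMap.comp_apply, LinearMap.smul_apply,
          LinearMap.id_apply, LinearMap.zero_apply]
        rw [mul_smul, ← smul_sub]
        exact this
    exact sub_eq_zero.1 h7

end A1

section A2
variable {A : Type u} [CommRing A] {W Q : Type u} [AddCommGroup W] [Module A W]
  [AddCommGroup Q] [Module A Q] (l : W →ₗ[A] Q)

/-- a retraction up to `g` makes `l ⊗ κ'` injective at every field-valued point where `g` does not
vanish -/
theorem injective_rTensor_of_retraction (g : A) (l'' : Q →ₗ[A] W)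
    (h : l'' ∘ₗ l = g • LinearMap.id) {κ' : Type u} [Field κ'] (ψ' : A →+* κ') (hg : ψ' g ≠ 0) :
    Function.Injective
      (l.rTensor ((ModuleCat.restrictScalars ψ').obj (ModuleCat.of κ' κ'))) := by
  let M : ModuleCat.{u} A := (ModuleCat.restrictScalars ψ').obj (ModuleCat.of κ' κ')
  let inv : M →ₗ[A] M :=
    { toFun := fun m => (show M from ((ψ' g)⁻¹ * (show κ' from m) : κ'))
      map_add' := fun x y => by
        change ((ψ' g)⁻¹ * ((show κ' from x) + (show κ' from y)) : κ') = _
        rw [mul_add]; rfl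
      map_smul' := fun a x => by
        change ((ψ' g)⁻¹ * (ψ' a * (show κ' from x)) : κ') = ψ' a * ((ψ' g)⁻¹ * (show κ' from x))
        ring }
  have hginv : g • inv = LinearMap.id := by
    apply LinearMap.ext
    intro m
    change (ψ' g * ((ψ' g)⁻¹ * (show κ' from m)) : κ') = (show κ' from m)
    rw [← mul_assoc, mul_inv_cancel₀ hg, one_mul]
  rw [injective_iff_map_eq_zero]
  intro z hz
  have h1 : g • z = 0 := by
    have := congrArg (l''.rTensor M) hz
    rw [map_zero, ← LinearMap.comp_apply, ← LinearMap.rTensor_comp, h, LinearMap.rTensor_smul,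
      LinearMap.rTensor_id, LinearMap.smul_apply, LinearMap.id_apply] at this
    exact this
  have h2 : z = (inv.lTensor W) (g • z) := by
    rw [map_smul, ← LinearMap.smul_apply, ← LinearMap.lTensor_smul, hginv, LinearMap.lTensor_id,
      LinearMap.id_apply]
  rw [h2, h1, map_zero]

end A2

section A3
variable {A : Type u} [CommRing A] (K : CochainComplex (ModuleCat.{u} A) ℤ)
variable (p q r : ℤ) (hpq : p + 1 = q) (hqr : q + 1 = r)

include hpq hqr in
/-- converse of `kerM_eq_bot` -/
theorem subsingleton_homology_of_injective (M : ModuleCat.{u} A)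
    (h1 : Function.Injective ((dbar K p q r).rTensor M)) :
    Subsingleton ((KM K M).homology q) := by
  have hex : Function.Exact ((K.d p q).hom.rTensor M) ((mkW K p q).rTensor M) :=
    rTensor_exact M (K.d p q).hom.exact_map_mkQ_range (Submodule.mkQ_surjective _)
  refine ⟨fun a b => ?_⟩
  suffices h : ∀ c : (KM K M).homology q, c = 0 by rw [h a, h b]
  intro c
  obtain ⟨z, rfl⟩ := cls_surjective (KM K M) q r hqr c
  refine (cls_eq_zero_iff (KM K M) p q r hpq hqr _).2 ?_
  have hz : (K.d q r).hom.rTensor M z.1 = 0 := z.2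
  have hw : (mkW K p q).rTensor M z.1 = 0 := by
    apply h1
    rw [map_zero, ← LinearMap.comp_apply, ← LinearMap.rTensor_comp, dbar_comp_mk]
    exact hz
  obtain ⟨y, hy⟩ := (hex _).1 hw
  exact ⟨y, hy⟩

include hpq hqr in
/-- **openness of fibrewise vanishing, algebraic form** -/
theorem exists_away_subsingleton_T [Module.Finite A (K.X q)] [Module.Finite A (K.X r)]
    [Module.Free A (K.X r)] (P : Ideal A) [P.IsPrime] {κ : Type u} [Field κ] (ψ : A →+* κ)
    (hψ : RingHom.ker ψ = P)
    (hsub : Subsingleton ((CohIII.TFun K q).obj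
      ((ModuleCat.restrictScalars ψ).obj (ModuleCat.of κ κ)))) :
    ∃ g : A, g ∉ P ∧ ∀ (κ' : Type u) [Field κ'] (ψ' : A →+* κ'), ψ' g ≠ 0 →
      Subsingleton ((CohIII.TFun K q).obj
        ((ModuleCat.restrictScalars ψ').obj (ModuleCat.of κ' κ'))) := by
  have hker := kerM_eq_bot K p q r hpq hqr _ hsub
  have hinj : letI : Module A κ := Module.compHom κ ψ
      Function.Injective ((dbar K p q r).lTensor κ) := by
    letI : Module A κ := Module.compHom κ ψ
    rw [LinearMap.lTensor_inj_iff_rTensor_inj]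
    exact LinearMap.ker_eq_bot.1 hker
  obtain ⟨g, l'', hg, hl''⟩ := exists_uniform_retraction (dbar K p q r) P ψ hψ hinj
  refine ⟨g, hg, fun κ' _ ψ' hg' => ?_⟩
  exact subsingleton_homology_of_injective K p q r hpq hqr _
    (injective_rTensor_of_retraction (dbar K p q r) g l'' hl'' ψ' hg')

include hpq hqr in
/-- **fibrewise vanishing gives universal vanishing** -/
theorem uvan_of_fibVan [IsNoetherianRing A] [Module.Finite A (K.X q)] [Module.Flat A (K.X q)]
    [Module.Finite A (K.X r)] [Module.Projective A (K.X r)] (hf : FibVan K q) : UVan K q := by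
  obtain ⟨h1, h2, h3⟩ := flat_W_of_fibVan K p q r hpq hqr hf
  haveI := h2
  haveI : Subsingleton (K.homology q) := by
    haveI : Subsingleton (LinearMap.ker (dbar K p q r)) := by
      rw [LinearMap.ker_eq_bot.2 h3]
      infer_instance
    exact (homEquivKer K p q r hpq hqr).toEquiv.subsingleton
  exact uvan_of_flat_of_subsingleton K p q r hpq hqr

end A3

section P3
variable {A : Type u} [CommRing A] [IsNoetherianRing A] {X : Scheme.{u}}
  [X.Over (Spec (CommRingCat.of A))] {F : X.Modules} (D : MData A X F)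

attribute [local instance] secMod

/-- universal vanishing of `T^1` gives universal exactness of the Čech complex in degree one -/
theorem MData.cech_exact_of_uvan (n : ℕ) (h : UVan D.K ((n + 1 : ℕ) : ℤ))
    (M : Type u) [AddCommGroup M] [Module A M] (x : (Co F D.U (n + 1)) ⊗[A] M)
    (hx : (DdA A F D.U (n + 1)).rTensor M x = 0) :
    ∃ w : (Co F D.U n) ⊗[A] M, (DdA A F D.U n).rTensor M w = x := by
  let M' : ModuleCat.{u} A := ModuleCat.of A M
  have h1 : IsZero ((CohIII.TFun (CZ A F D.U) ((n + 1 : ℕ) : ℤ)).obj M') :=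
    (h M').of_iso ((D.eK ((n + 1 : ℕ) : ℤ)).app M').symm
  have h2 : IsZero ((CohIII.tensorObj (CAN A F D.U) M').homology (n + 1)) :=
    h1.of_iso (isoA A F D.U M' (n + 1)).symm
  rw [← HomologicalComplex.exactAt_iff_isZero_homology,
    HomologicalComplex.exactAt_iff' _ n (n + 1) (n + 2) (by simp) (by simp),
    ShortComplex.moduleCat_exact_iff] at h2
  have hd : ∀ (k : ℕ) (z : (Co F D.U k) ⊗[A] M),
      ((CohIII.tensorObj (CAN A F D.U) M').d k (k + 1)).hom z =
        (DdA A F D.U k).rTensor M z := by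
    intro k z
    change (MonoidalCategory.whiskerRight ((CAN A F D.U).d k (k + 1)) M').hom z = _
    rw [CAN_d]
    rfl
  obtain ⟨w, hw⟩ := h2 x ((hd (n + 1) x).trans hx)
  exact ⟨w, (hd n w).symm.trans hw⟩

end P3

end Groth.Agent.Lib.Helper4.OpenVan1
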