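import Mathlib
import Groth.Prelude.Def_ega3
import Groth.Agent.Lib.Helper1.PullSec
import Groth.Agent.Lib.Helper1.PullGen

/-!
# Pulling back sections through a factorization by an open immersion (helper4)
-/

set_option backward.isDefEq.respectTransparency.types false
set_option synthInstance.maxHeartbeats 400000
set_option autoImplicit false
set_option linter.unusedSectionVars false
set_option linter.style.haveILetI false
set_option linter.unusedSimpArgs false
universe u v w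
open CategoryTheory
open CategoryTheory.Limits
open AlgebraicGeometry
open TopologicalSpace
open Opposite
open Groth.Agent.Helper1
open Groth.Agent.Helper1.QcCech

namespace Groth.Agent.Lib.Helper4.SigmaFac1

section Tr
variable {X Y' Z : Scheme.{u}} (j : Y' ⟶ X) [IsOpenImmersion j] (F : X.Modules)

theorem res_restrict {O O' : Y'.Opens} (h : O' ≤ O) (x : Γ(F.restrict j, O)) :
    res (F.restrict j) h x =
      res F (show j ''ᵁ O' ≤ j ''ᵁ O from j.image_mono h) (show Γ(F, j ''ᵁ O) from x) := rfl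

variable (g : Z ⟶ Y') (φ : Z ⟶ X) (hg : g ≫ j = φ)

/-- the comparison of the two pullbacks through a factorization by an open immersion -/
noncomputable def facIso :
    (Scheme.Modules.pullback g).obj (F.restrict j) ≅ (Scheme.Modules.pullback φ).obj F :=
  (Scheme.Modules.pullback g).mapIso ((Scheme.Modules.restrictFunctorIsoPullback j).app F) ≪≫
    (Scheme.Modules.pullbackComp g j).app F ≪≫ (Scheme.Modules.pullbackCongr hg).app F

/-- **pulling back sections through a factorization by an open immersion** -/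
theorem sigma_factor (W : X.Opens) (s₀ : Γ(F.restrict j, ⊤)) (m : Γ(F, W))
    (hm : res F (j.image_preimage_le W) m =
      res F (show j ''ᵁ (j ⁻¹ᵁ W) ≤ j ''ᵁ ⊤ from j.image_mono le_top)
        (show Γ(F, j ''ᵁ ⊤) from s₀))
    (hle : (⊤ : Z.Opens) ≤ φ ⁻¹ᵁ W) :
    res ((Scheme.Modules.pullback φ).obj F) hle (PullSec.σ φ F W m) =
      (facIso j F g φ hg).hom.app ⊤
        (res _ (le_top : (⊤ : Z.Opens) ≤ g ⁻¹ᵁ ⊤) (PullSec.σ g (F.restrict j) ⊤ s₀)) := by
  subst hg
  let P := (Scheme.Modules.pullback j).obj F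
  let ρ : F.restrict j ⟶ P := (Scheme.Modules.restrictFunctorIsoPullback j).hom.app F
  have e1 : res P (le_top : j ⁻¹ᵁ W ≤ ⊤) (ρ.app ⊤ s₀) = PullSec.σ j F W m := by
    have h := PullSec.σ_openImmersion j F W m
    rw [← h, ← QcExt.app_res]
    congr 1
    rw [res_restrict]
    exact hm.symm
  have e2 := PullSec.σ_natural g ρ ⊤ s₀
  have e3 := PullSec.σ_comp g j F W m
  let A := (Scheme.Modules.pullback g).map ρ
  let B := (Scheme.Modules.pullbackComp g j).app F
  have hC : ∀ x : Γ((Scheme.Modules.pullback (g ≫ j)).obj F, ⊤),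
      ((Scheme.Modules.pullbackCongr (rfl : g ≫ j = g ≫ j)).app F).hom.app ⊤ x = x := by
    intro x
    simp [Scheme.Modules.pullbackCongr]
  have hA : A.app ⊤ (res _ (le_top : (⊤ : Z.Opens) ≤ g ⁻¹ᵁ ⊤) (PullSec.σ g (F.restrict j) ⊤ s₀)) =
      res _ (le_top : (⊤ : Z.Opens) ≤ g ⁻¹ᵁ ⊤) (PullSec.σ g P ⊤ (ρ.app ⊤ s₀)) := by
    exact (QcExt.app_res A (O := g ⁻¹ᵁ ⊤) (O' := ⊤) le_top
      (PullSec.σ g (F.restrict j) ⊤ s₀)).trans (congrArg _ e2)
  have hle2 : (⊤ : Z.Opens) ≤ g ⁻¹ᵁ (j ⁻¹ᵁ W) := hle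
  have h4 : res _ hle2 (PullSec.σ g P (j ⁻¹ᵁ W) (PullSec.σ j F W m)) =
      res _ (le_top : (⊤ : Z.Opens) ≤ g ⁻¹ᵁ ⊤) (PullSec.σ g P ⊤ (ρ.app ⊤ s₀)) := by
    rw [← e1, ← PullSec.σ_res g P (le_top : j ⁻¹ᵁ W ≤ ⊤), res_res]
    rfl
  have hB : B.hom.app ⊤ (res _ hle2 (PullSec.σ g P (j ⁻¹ᵁ W) (PullSec.σ j F W m))) =
      res _ hle (PullSec.σ (g ≫ j) F W m) := by
    have h5 : res _ hle2 (PullSec.σ g P (j ⁻¹ᵁ W) (PullSec.σ j F W m)) =
        B.inv.app ⊤ (res _ hle (PullSec.σ (g ≫ j) F W m)) := by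
      rw [← e3]
      exact (QcExt.app_res B.inv hle (PullSec.σ (g ≫ j) F W m)).symm
    exact (congrArg (B.hom.app ⊤) h5).trans (PullGen.iso_hom_inv_app B ⊤ _)
  change _ = ((Scheme.Modules.pullbackCongr (rfl : g ≫ j = g ≫ j)).app F).hom.app ⊤
    (B.hom.app ⊤ (A.app ⊤ _))
  exact ((hC _).trans ((congrArg (B.hom.app ⊤) (hA.trans h4.symm)).trans hB)).symm

end Tr

end Groth.Agent.Lib.Helper4.SigmaFac1
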