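import Mathlib
import Groth.Prelude.Def_ega3
import Groth.Agent.Lib.Helper4.ChartPkg1
import Groth.Agent.Lib.Helper4.OpenVan1
import Groth.Agent.Lib.Helper4.FibLift1
import Groth.Agent.Lib.Helper4.SigmaFac1

/-!
# Openness of vanishing of fibre cohomology and lifting of sections from a fibre (proper flat case) (helper4)
-/

set_option backward.isDefEq.respectTransparency.types false
set_option synthInstance.maxHeartbeats 400000
set_option autoImplicit false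
set_option linter.unusedSectionVars false
set_option linter.style.haveILetI false
set_option linter.unusedSimpArgs false
universe u v w
open CategoryTheory
open CategoryTheory.Limits
open AlgebraicGeometry
open TopologicalSpace
open Opposite
open TensorProduct
open MonoidalCategory
open Groth.Agent.Helper1
open Groth.Agent.Helper1.QcCech
open Groth.Agent.Helper1.RpushLoc
open Groth.Agent.Lib.Helper4.LocCech1
open Groth.Agent.Lib.Helper4.TenSec2
open Groth.Agent.Lib.Helper4.CechTen1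
open Groth.Agent.Lib.Helper4.CechTen2
open Groth.Agent.Lib.Helper4.BaseChgRing1
open Groth.Agent.Lib.Helper4.BCSec1
open Groth.Agent.Lib.Helper4.BCSec2
open Groth.Agent.Lib.Helper4.MumBC1
open Groth.Agent.Lib.Helper4.MumBC2
open Groth.Agent.Lib.Helper4.TruncAlg1
open Groth.Agent.Lib.Helper4.ChartSq1
open Groth.Agent.Lib.Helper4.ChartFib1
open Groth.Agent.Lib.Helper4.ChartPkg1
open Groth.Agent.Lib.Helper4.RpushCoh1
open Groth.Agent.Lib.Helper4.HModDelta1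
open Groth.Agent.Lib.Helper4.OpenVan1
open Groth.Agent.Lib.Helper4.FibLift1
open Groth.Agent.Lib.Helper4.SigmaFac1

namespace Groth.Agent.Lib.Helper4.FibLift2

section Chart
variable {X S : Scheme.{u}} (f : X ⟶ S) [IsProper f] [IsLocallyNoetherian S]
  (F : X.Modules) (hF : Coh.IsCoh F) (hfl : FlatMod.IsFlatOver f F)

attribute [local instance] secMod

/-- the fibre cohomology at a point of a chart, in terms of Mumford's complex of the chart -/
theorem chart_fibre_iff {V : S.Opens} (hV : IsAffineOpen V)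
    (D : letI : (↑(f ⁻¹ᵁ V) : Scheme.{u}).Over (Spec (CommRingCat.of Γ(S, V))) := ⟨strMap f hV⟩
      MData Γ(S, V) (↑(f ⁻¹ᵁ V) : Scheme.{u}) (F.restrict (f ⁻¹ᵁ V).ι))
    (hq : (F.restrict (f ⁻¹ᵁ V).ι).IsQuasicoherent)
    (p : ℕ) (y' : ↑(Spec (CommRingCat.of Γ(S, V)))) :
    letI : (↑(f ⁻¹ᵁ V) : Scheme.{u}).Over (Spec (CommRingCat.of Γ(S, V))) := ⟨strMap f hV⟩
    Subsingleton (CohIII.fiberH f F (hV.fromSpec y') p) ↔
      Subsingleton ((CohIII.TFun D.K (p : ℤ)).obj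
        ((ModuleCat.restrictScalars (phiV hV y')).obj
          (ModuleCat.of (S.residueField (hV.fromSpec y'))
            (S.residueField (hV.fromSpec y'))))) := by
  letI : (↑(f ⁻¹ᵁ V) : Scheme.{u}).Over (Spec (CommRingCat.of Γ(S, V))) := ⟨strMap f hV⟩
  haveI : IsProper ((↑(f ⁻¹ᵁ V) : Scheme.{u}) ↘ Spec (CommRingCat.of Γ(S, V))) :=
    isProper_strMap f hV
  haveI : IsNoetherianRing Γ(S, V) := IsLocallyNoetherian.component_noetherian ⟨V, hV⟩
  obtain ⟨g, hg1, hsq⟩ := exists_fibre_square f hV y'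
  letI : (f.fiber (hV.fromSpec y')).Over
      (Spec (CommRingCat.of (S.residueField (hV.fromSpec y')))) :=
    CohIII.fiberOver f (hV.fromSpec y')
  let e1 := ((HModF (S.residueField (hV.fromSpec y'))
    (f.fiber (hV.fromSpec y')) p).mapIso (fibModIso f hV y' F g hg1)).toLinearEquiv
  let e2 := MData.squareEquiv D (phiV hV y') g hsq p
  exact ⟨fun h => @Function.Injective.subsingleton _ _ _
      (e2.symm.trans e1.toAddEquiv).injective h,
    fun h => @Function.Injective.subsingleton _ _ _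
      (e1.toAddEquiv.symm.trans e2).injective h⟩

include hF hfl in
/-- **openness of the vanishing of fibre cohomology** -/
theorem exists_open_fibre_vanishing (y : S) (n : ℕ)
    (h : Subsingleton (CohIII.fiberH f F y n)) :
    ∃ U : S.Opens, y ∈ U ∧ ∀ y' ∈ U, Subsingleton (CohIII.fiberH f F y' n) := by
  obtain ⟨_, ⟨V, hV, rfl⟩, hyV, -⟩ := S.isBasis_affineOpens.exists_subset_of_mem_open
    (Set.mem_univ y) isOpen_univ
  letI : (↑(f ⁻¹ᵁ V) : Scheme.{u}).Over (Spec (CommRingCat.of Γ(S, V))) := ⟨strMap f hV⟩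
  haveI : IsProper ((↑(f ⁻¹ᵁ V) : Scheme.{u}) ↘ Spec (CommRingCat.of Γ(S, V))) :=
    isProper_strMap f hV
  haveI : IsNoetherianRing Γ(S, V) := IsLocallyNoetherian.component_noetherian ⟨V, hV⟩
  haveI : F.IsQuasicoherent := hF.1
  have hFV : Coh.IsCoh (F.restrict (f ⁻¹ᵁ V).ι) :=
    Groth.Agent.Helper1.FinPush.isCoh_restrict _ F hF
  have hq : (F.restrict (f ⁻¹ᵁ V).ι).IsQuasicoherent := hFV.1
  have hflV : FlatMod.IsFlatOver ((↑(f ⁻¹ᵁ V) : Scheme.{u}) ↘ Spec (CommRingCat.of Γ(S, V)))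
      (F.restrict (f ⁻¹ᵁ V).ι) := isFlatOver_restrict f hV F hfl
  obtain ⟨D⟩ := nonempty_mdata Γ(S, V) (↑(f ⁻¹ᵁ V) : Scheme.{u}) (F.restrict (f ⁻¹ᵁ V).ι) hFV hflV
  haveI : ∀ i, Module.Finite Γ(S, V) (D.K.X i) := fun i => (D.hff i).1
  haveI : ∀ i, Module.Free Γ(S, V) (D.K.X i) := fun i => (D.hff i).2
  let y₀ : ↑(Spec (CommRingCat.of Γ(S, V))) := hV.primeIdealOf ⟨y, hyV⟩
  have hy₀ : hV.fromSpec y₀ = y := hV.fromSpec_primeIdealOf ⟨y, hyV⟩
  have hsub := (chart_fibre_iff f F hV D hq n y₀).1 (by rw [hy₀]; exact h)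
  haveI : y₀.asIdeal.IsPrime := y₀.isPrime
  obtain ⟨g, hg, hall⟩ := exists_away_subsingleton_T D.K ((n : ℤ) - 1) (n : ℤ) ((n : ℤ) + 1)
    (by ring) rfl y₀.asIdeal (phiV hV y₀) (ker_phiV hV y₀) hsub
  refine ⟨S.basicOpen g, ?_, ?_⟩
  · have h4 : y₀ ∈ hV.fromSpec ⁻¹ᵁ S.basicOpen g := by
      rw [hV.fromSpec_preimage_basicOpen]
      exact hg
    have h5 : hV.fromSpec y₀ ∈ S.basicOpen g := h4
    rw [hy₀] at h5
    exact h5
  · intro y' hy'
    have hy'V : y' ∈ V := S.basicOpen_le g hy'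
    let y₁ : ↑(Spec (CommRingCat.of Γ(S, V))) := hV.primeIdealOf ⟨y', hy'V⟩
    have hy₁ : hV.fromSpec y₁ = y' := hV.fromSpec_primeIdealOf ⟨y', hy'V⟩
    have h6 : y₁ ∈ hV.fromSpec ⁻¹ᵁ S.basicOpen g := by
      change hV.fromSpec y₁ ∈ S.basicOpen g
      rw [hy₁]
      exact hy'
    rw [hV.fromSpec_preimage_basicOpen] at h6
    have h7 : phiV hV y₁ g ≠ 0 := by
      intro h0
      have : g ∈ RingHom.ker (phiV hV y₁) := h0
      rw [ker_phiV] at this
      exact h6 this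
    have h8 := (chart_fibre_iff f F hV D hq n y₁).2 (hall _ (phiV hV y₁) h7)
    rw [hy₁] at h8
    exact h8

include hF hfl in
/-- **lifting sections from a fibre**: if `H^1` of the fibre vanishes, a section of the restriction
of `F` to the fibre lifts, up to a unit, to a section of `F` over the preimage of a neighbourhood -/
theorem exists_lift_fibre_section (y : S) (h1 : Subsingleton (CohIII.fiberH f F y 1))
    (t : Γ(CohIII.fiberMod f F y, ⊤)) :
    ∃ (V : S.Opens) (_ : y ∈ V) (s : Γ(F, f ⁻¹ᵁ V)) (u : Γ(f.fiber y, ⊤))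
      (hle : (⊤ : (f.fiber y).Opens) ≤ (f.fiberι y) ⁻¹ᵁ (f ⁻¹ᵁ V)), IsUnit u ∧
      res (CohIII.fiberMod f F y) hle (PullSec.σ (f.fiberι y) F (f ⁻¹ᵁ V) s) = u • t := by
  obtain ⟨U₀, hyU₀, hU₀⟩ := exists_open_fibre_vanishing f F hF hfl y 1 h1
  obtain ⟨_, ⟨V, hV, rfl⟩, hyV, hVU⟩ := S.isBasis_affineOpens.exists_subset_of_mem_open
    hyU₀ U₀.isOpen
  letI : (↑(f ⁻¹ᵁ V) : Scheme.{u}).Over (Spec (CommRingCat.of Γ(S, V))) := ⟨strMap f hV⟩
  haveI : IsProper ((↑(f ⁻¹ᵁ V) : Scheme.{u}) ↘ Spec (CommRingCat.of Γ(S, V))) :=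
    isProper_strMap f hV
  haveI : IsNoetherianRing Γ(S, V) := IsLocallyNoetherian.component_noetherian ⟨V, hV⟩
  haveI : F.IsQuasicoherent := hF.1
  have hFV : Coh.IsCoh (F.restrict (f ⁻¹ᵁ V).ι) :=
    Groth.Agent.Helper1.FinPush.isCoh_restrict _ F hF
  have hq : (F.restrict (f ⁻¹ᵁ V).ι).IsQuasicoherent := hFV.1
  haveI := hq
  have hflV : FlatMod.IsFlatOver ((↑(f ⁻¹ᵁ V) : Scheme.{u}) ↘ Spec (CommRingCat.of Γ(S, V)))
      (F.restrict (f ⁻¹ᵁ V).ι) := isFlatOver_restrict f hV F hfl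
  obtain ⟨D⟩ := nonempty_mdata Γ(S, V) (↑(f ⁻¹ᵁ V) : Scheme.{u}) (F.restrict (f ⁻¹ᵁ V).ι) hFV hflV
  haveI : ∀ i, Module.Finite Γ(S, V) (D.K.X i) := fun i => (D.hff i).1
  haveI : ∀ i, Module.Free Γ(S, V) (D.K.X i) := fun i => (D.hff i).2
  haveI := D.fin
  -- universal vanishing of `T^1`
  have hfib : FibVan D.K ((1 : ℕ) : ℤ) := by
    intro m hm
    let y' : ↑(Spec (CommRingCat.of Γ(S, V))) := ⟨m, hm.isPrime⟩
    have hy'V : hV.fromSpec y' ∈ (V : Set S) := by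
      rw [← hV.range_fromSpec]
      exact Set.mem_range_self y'
    exact ⟨S.residueField (hV.fromSpec y'), inferInstance, phiV hV y', ker_phiV hV y',
      (chart_fibre_iff f F hV D hq 1 y').1 (hU₀ _ (hVU hy'V))⟩
  have huv : UVan D.K ((0 + 1 : ℕ) : ℤ) :=
    uvan_of_fibVan D.K (((1 : ℕ) : ℤ) - 1) ((1 : ℕ) : ℤ) (((1 : ℕ) : ℤ) + 1) (by ring) rfl hfib
  have H1 := MData.cech_exact_of_uvan D 0 huv
  have hflat : ∀ n, Module.Flat Γ(S, V) (Co (F.restrict (f ⁻¹ᵁ V).ι) D.U n) := fun n =>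
    flat_CAN Γ(S, V) (F.restrict (f ⁻¹ᵁ V).ι) D.U hflV D.haff n
  -- the point of the chart
  obtain ⟨y₀, rfl⟩ : ∃ y₀ : ↑(Spec (CommRingCat.of Γ(S, V))), hV.fromSpec y₀ = y :=
    ⟨hV.primeIdealOf ⟨y, hyV⟩, hV.fromSpec_primeIdealOf ⟨y, hyV⟩⟩
  obtain ⟨g, hg1, hsq⟩ := exists_fibre_square f hV y₀
  letI : (f.fiber (hV.fromSpec y₀)).Over
      (Spec (CommRingCat.of (S.residueField (hV.fromSpec y₀)))) :=
    CohIII.fiberOver f (hV.fromSpec y₀)
  let E := fibModIso f hV y₀ F g hg1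
  let t' : Γ(Fp g (F.restrict (f ⁻¹ᵁ V).ι), ⊤) := E.inv.app ⊤ t
  obtain ⟨s₀, b, hb, hs₀⟩ := exists_lift_section (phiV hV y₀) g (F.restrict (f ⁻¹ᵁ V).ι) D.U hsq
    D.haff D.hcov hflat H1 (hfrac_phiV hV y₀) t'
  -- translation to sections over opens of `X`
  let j := (f ⁻¹ᵁ V).ι
  let W : X.Opens := f ⁻¹ᵁ V
  have hjW : j ''ᵁ ⊤ = W := Scheme.Opens.ι_image_top _
  let m : Γ(F, W) := res F (le_of_eq hjW.symm) (show Γ(F, j ''ᵁ ⊤) from s₀)
  have hjpre : j ⁻¹ᵁ W = ⊤ := Scheme.Opens.ι_preimage_self _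
  have hle : (⊤ : (f.fiber (hV.fromSpec y₀)).Opens) ≤ (f.fiberι (hV.fromSpec y₀)) ⁻¹ᵁ W := by
    rw [← hg1]
    intro x _
    change j (g x) ∈ W
    exact (g x).2
  refine ⟨V, hyV, m, alphaRing (S.residueField (hV.fromSpec y₀)) (f.fiber (hV.fromSpec y₀)) ⊤
    (phiV hV y₀ b), hle, ?_, ?_⟩
  · exact (IsUnit.mk0 _ hb).map _
  · have hm : res F (j.image_preimage_le W) m =
        res F (show j ''ᵁ (j ⁻¹ᵁ W) ≤ j ''ᵁ ⊤ from j.image_mono le_top)
          (show Γ(F, j ''ᵁ ⊤) from s₀) := res_res F _ _ _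
    have key := sigma_factor j F g (f.fiberι (hV.fromSpec y₀)) hg1 W s₀ m hm hle
    refine key.trans ?_
    change E.hom.app ⊤ (uAdd g (F.restrict (f ⁻¹ᵁ V).ι) le_top s₀) = _
    rw [hs₀]
    change E.hom.app ⊤ (alphaRing (S.residueField (hV.fromSpec y₀)) (f.fiber (hV.fromSpec y₀)) ⊤
      (phiV hV y₀ b) • t') = _
    refine (Scheme.Modules.Hom.app_smul E.hom _ t').trans ?_
    exact congrArg (fun z => alphaRing (S.residueField (hV.fromSpec y₀))
      (f.fiber (hV.fromSpec y₀)) ⊤ (phiV hV y₀ b) • z) (PullGen.iso_hom_inv_app E ⊤ t)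

end Chart

end Groth.Agent.Lib.Helper4.FibLift2
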