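import Mathlib
import Groth.Prelude.Def_ega3
import Groth.Agent.Lib.Helper4.FibLift2

/-!
# The structure map of the coordinate ring of a chart is the map on sections (helper4)
-/

set_option backward.isDefEq.respectTransparency.types false
set_option synthInstance.maxHeartbeats 400000
set_option autoImplicit false
set_option linter.unusedSectionVars false
set_option linter.style.haveILetI false
set_option linter.unusedSimpArgs false
universe u v w
open CategoryTheory
open CategoryTheory.Limits
open AlgebraicGeometry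
open TopologicalSpace
open Opposite
open Groth.Agent.Helper1
open Groth.Agent.Helper1.QcCech
open Groth.Agent.Helper1.RpushLoc
open Groth.Agent.Lib.Helper4.BaseChgRing1

namespace Groth.Agent.Lib.Helper4.ChartAlpha1

variable {X S : Scheme.{u}} (f : X ⟶ S) {V : S.Opens} (hV : IsAffineOpen V)

/-- the structure map of the coordinate ring of the chart over an affine open is the map on
sections of `f` -/
theorem alphaRing_chart (a : Γ(S, V)) :
    letI : (↑(f ⁻¹ᵁ V) : Scheme.{u}).Over (Spec (CommRingCat.of Γ(S, V))) := ⟨strMap f hV⟩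
    alphaRing Γ(S, V) (↑(f ⁻¹ᵁ V) : Scheme.{u}) ⊤ a =
      (X.presheaf.map (homOfLE (le_of_eq (Scheme.Opens.ι_image_top (f ⁻¹ᵁ V)))).op).hom
        ((f.app V).hom a) := by
  letI : (↑(f ⁻¹ᵁ V) : Scheme.{u}).Over (Spec (CommRingCat.of Γ(S, V))) := ⟨strMap f hV⟩
  unfold alphaRing
  change ((strMap f hV).appLE ⊤ ⊤ le_top).hom ((Scheme.ΓSpecIso (CommRingCat.of Γ(S, V))).inv.hom a) = _
  unfold strMap
  have h1 : Scheme.Hom.app hV.isoSpec.hom ⊤ =
      (Scheme.ΓSpecIso (CommRingCat.of Γ(S, V))).hom ≫ V.topIso.inv :=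
    hV.isoSpec_hom_appTop
  have H : (Scheme.ΓSpecIso (CommRingCat.of Γ(S, V))).inv ≫
      ((f ∣_ V) ≫ hV.isoSpec.hom).appLE ⊤ ⊤ le_top =
      f.app V ≫ X.presheaf.map (homOfLE (le_of_eq (Scheme.Opens.ι_image_top (f ⁻¹ᵁ V)))).op := by
    rw [Iso.inv_comp_eq, Scheme.Hom.comp_appLE, morphismRestrict_appLE, h1]
    refine (Category.assoc _ _ _).trans ?_
    refine congrArg (fun m => (Scheme.ΓSpecIso (CommRingCat.of Γ(S, V))).hom ≫ m) ?_
    exact Scheme.Hom.map_appLE f _ (eqToHom V.ι_image_top).op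
  exact congrArg (fun ψ => ψ.hom a) H

end Groth.Agent.Lib.Helper4.ChartAlpha1
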