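import Mathlib
import Groth.Prelude.Def_ega3
import Groth.Agent.Lib.Helper4.OpenVan1

/-!
# Degree-zero classes of the Cech complex tensored with a module: explicit cocycles (helper4)
-/

set_option backward.isDefEq.respectTransparency.types false
set_option synthInstance.maxHeartbeats 400000
set_option autoImplicit false
set_option linter.unusedSectionVars false
set_option linter.style.haveILetI false
set_option linter.unusedSimpArgs false
universe u v w
open CategoryTheory
open CategoryTheory.Limits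
open AlgebraicGeometry
open TopologicalSpace
open TensorProduct
open Opposite
open Groth.Agent.Helper1
open Groth.Agent.Helper1.QcCech
open Groth.Agent.Lib.Helper4.LocCech1
open Groth.Agent.Lib.Helper4.TenSec2
open Groth.Agent.Lib.Helper4.CechTen1
open Groth.Agent.Lib.Helper4.CechTen2
open Groth.Agent.Lib.Helper4.HomEl1
open Groth.Agent.Lib.Helper4.ExchAlg1
open Groth.Agent.Lib.Helper4.ExchAlg2
open Groth.Agent.Lib.Helper4.OpenVan1

namespace Groth.Agent.Lib.Helper4.CechCls1

theorem tensor_eq_zero_of_subsingleton {A : Type u} [CommRing A] {P M : Type u} [AddCommGroup P]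
    [Module A P] [AddCommGroup M] [Module A M] [Subsingleton P] (w : P ⊗[A] M) : w = 0 := by
  induction w using TensorProduct.induction_on with
  | zero => rfl
  | tmul x m => rw [Subsingleton.elim x 0, TensorProduct.zero_tmul]
  | add x y hx hy => rw [hx, hy, add_zero]

section L2
variable (A : Type u) [CommRing A] {X : Scheme.{u}} [X.Over (Spec (CommRingCat.of A))]
variable (F : X.Modules) {ι : Type u} (U : ι → X.Opens)
attribute [local instance] secMod

/-- degree zero of the extended Čech complex -/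
noncomputable def ex0 : (CZ A F U).X 0 ≅ ModuleCat.of A (Co F U 0) :=
  HomologicalComplex.extendXIso (CAN A F U) ComplexShape.embeddingUpNat (i := 0) (i' := (0 : ℤ)) rfl

/-- degree one of the extended Čech complex -/
noncomputable def ex1 : (CZ A F U).X 1 ≅ ModuleCat.of A (Co F U 1) :=
  HomologicalComplex.extendXIso (CAN A F U) ComplexShape.embeddingUpNat (i := 1) (i' := (1 : ℤ)) rfl

theorem CZ_d01 : (CZ A F U).d 0 1 =
    (ex0 A F U).hom ≫ ModuleCat.ofHom (DdA A F U 0) ≫ (ex1 A F U).inv := by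
  rw [← CAN_d]
  exact HomologicalComplex.extend_d_eq _ _ rfl rfl

theorem isZero_CZ_neg : IsZero ((CZ A F U).X (-1)) := by
  apply HomologicalComplex.isZero_extend_X
  intro i hi
  have : (0 : ℤ) ≤ (i : ℤ) := Int.natCast_nonneg i
  change (i : ℤ) = -1 at hi
  omega


variable (M : ModuleCat.{u} A)

/-- cocycles of degree zero with coefficients in `M` -/
noncomputable abbrev ZC : Submodule A ((Co F U 0) ⊗[A] M) := LinearMap.ker ((DdA A F U 0).rTensor M)

theorem ex_mem (ξ : ZC A F U M) :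
    ((ex0 A F U).inv.hom.rTensor M) ξ.1 ∈ Zs (KM (CZ A F U) M) 0 1 := by
  change ((CZ A F U).d 0 1).hom.rTensor M (((ex0 A F U).inv.hom.rTensor M) ξ.1) = 0
  rw [← LinearMap.comp_apply, ← LinearMap.rTensor_comp]
  have h1 : ((CZ A F U).d 0 1).hom ∘ₗ (ex0 A F U).inv.hom =
      (ex1 A F U).inv.hom ∘ₗ (DdA A F U 0) := by
    have := congrArg (fun m => (ex0 A F U).inv ≫ m) (CZ_d01 A F U)
    simp only [Iso.inv_hom_id_assoc] at this
    exact congrArg ModuleCat.Hom.hom this
  rw [h1, LinearMap.rTensor_comp, LinearMap.comp_apply]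
  have : (DdA A F U 0).rTensor M ξ.1 = 0 := ξ.2
  rw [this, map_zero]

/-- the class of a cocycle -/
noncomputable def clsC : ZC A F U M →ₗ[A] (CohIII.TFun (CZ A F U) 0).obj M :=
  cls (KM (CZ A F U) M) 0 1 rfl ∘ₗ LinearMap.codRestrict (Zs (KM (CZ A F U) M) 0 1)
    (((ex0 A F U).inv.hom.rTensor M) ∘ₗ (ZC A F U M).subtype) (ex_mem A F U M)

theorem clsC_apply (ξ : ZC A F U M) :
    clsC A F U M ξ = cls (KM (CZ A F U) M) 0 1 rfl
      ⟨((ex0 A F U).inv.hom.rTensor M) ξ.1, ex_mem A F U M ξ⟩ := rfl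

theorem ex0_hom_inv (x : (CZ A F U).X 0 ⊗[A] M) :
    ((ex0 A F U).inv.hom.rTensor M) (((ex0 A F U).hom.hom.rTensor M) x) = x := by
  rw [← LinearMap.comp_apply, ← LinearMap.rTensor_comp]
  have : (ex0 A F U).inv.hom ∘ₗ (ex0 A F U).hom.hom = LinearMap.id :=
    congrArg ModuleCat.Hom.hom (ex0 A F U).hom_inv_id
  rw [this, LinearMap.rTensor_id, LinearMap.id_apply]

theorem ex0_inv_hom (x : (Co F U 0) ⊗[A] M) :
    ((ex0 A F U).hom.hom.rTensor M) (((ex0 A F U).inv.hom.rTensor M) x) = x := by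
  rw [← LinearMap.comp_apply, ← LinearMap.rTensor_comp]
  have : (ex0 A F U).hom.hom ∘ₗ (ex0 A F U).inv.hom = LinearMap.id :=
    congrArg ModuleCat.Hom.hom (ex0 A F U).inv_hom_id
  rw [this, LinearMap.rTensor_id, LinearMap.id_apply]

theorem clsC_injective : Function.Injective (clsC A F U M) := by
  rw [injective_iff_map_eq_zero]
  intro ξ hξ
  rw [clsC_apply] at hξ
  obtain ⟨w, hw⟩ := (cls_eq_zero_iff (KM (CZ A F U) M) (-1) 0 1 (by norm_num) rfl _).1 hξ
  haveI : Subsingleton ((CZ A F U).X (-1)) := ModuleCat.subsingleton_of_isZero (isZero_CZ_neg A F U)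
  have hw0 : w = 0 :=
    tensor_eq_zero_of_subsingleton (A := A) (P := (CZ A F U).X (-1)) (M := M) w
  rw [hw0, map_zero] at hw
  apply Subtype.ext
  have h2 : ((ex0 A F U).inv.hom.rTensor M) ξ.1 = 0 := hw.symm
  have := congrArg ((ex0 A F U).hom.hom.rTensor M) h2
  rw [ex0_inv_hom, map_zero] at this
  exact this

theorem clsC_surjective : Function.Surjective (clsC A F U M) := by
  intro c
  obtain ⟨z, rfl⟩ := cls_surjective (KM (CZ A F U) M) 0 1 rfl c
  have hmem : ((ex0 A F U).hom.hom.rTensor M) z.1 ∈ ZC A F U M := by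
    change (DdA A F U 0).rTensor M (((ex0 A F U).hom.hom.rTensor M) z.1) = 0
    have hz : ((CZ A F U).d 0 1).hom.rTensor M z.1 = 0 := z.2
    have h1 : ((CZ A F U).d 0 1).hom =
        (ex1 A F U).inv.hom ∘ₗ (DdA A F U 0) ∘ₗ (ex0 A F U).hom.hom :=
      congrArg ModuleCat.Hom.hom (CZ_d01 A F U)
    rw [h1, LinearMap.rTensor_comp, LinearMap.rTensor_comp, LinearMap.comp_apply,
      LinearMap.comp_apply] at hz
    have := congrArg ((ex1 A F U).hom.hom.rTensor M) hz
    rw [map_zero, ← LinearMap.comp_apply, ← LinearMap.rTensor_comp] at this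
    have h2 : (ex1 A F U).hom.hom ∘ₗ (ex1 A F U).inv.hom = LinearMap.id :=
      congrArg ModuleCat.Hom.hom (ex1 A F U).inv_hom_id
    rw [h2, LinearMap.rTensor_id, LinearMap.id_apply] at this
    exact this
  refine ⟨⟨_, hmem⟩, ?_⟩
  rw [clsC_apply]
  congr 1
  apply Subtype.ext
  exact ex0_hom_inv A F U M z.1

variable {M} in
theorem ZC_map_mem {M' : ModuleCat.{u} A} (g : M ⟶ M') (ξ : ZC A F U M) :
    g.hom.lTensor (Co F U 0) ξ.1 ∈ ZC A F U M' := by
  change (DdA A F U 0).rTensor M' (g.hom.lTensor (Co F U 0) ξ.1) = 0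
  rw [← LinearMap.comp_apply, LinearMap.rTensor_comp_lTensor, ← LinearMap.lTensor_comp_rTensor,
    LinearMap.comp_apply]
  have : (DdA A F U 0).rTensor M ξ.1 = 0 := ξ.2
  rw [this, map_zero]

variable {M} in
theorem clsC_natural {M' : ModuleCat.{u} A} (g : M ⟶ M') (ξ : ZC A F U M) :
    ((CohIII.TFun (CZ A F U) 0).map g).hom (clsC A F U M ξ) =
      clsC A F U M' ⟨_, ZC_map_mem A F U g ξ⟩ := by
  rw [clsC_apply, clsC_apply]
  refine (map_cls (CohIII.tensorMap (CZ A F U) g) 0 1 rfl _).trans ?_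
  congr 1
  apply Subtype.ext
  change g.hom.lTensor ((CZ A F U).X 0) (((ex0 A F U).inv.hom.rTensor M) ξ.1) =
    ((ex0 A F U).inv.hom.rTensor M') (g.hom.lTensor (Co F U 0) ξ.1)
  rw [← LinearMap.comp_apply, ← LinearMap.comp_apply, LinearMap.lTensor_comp_rTensor,
    LinearMap.rTensor_comp_lTensor]

end L2
end Groth.Agent.Lib.Helper4.CechCls1
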