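import Mathlib
import Groth.Prelude.Def_ega3
import Groth.Agent.Lib.Helper4.OpenVan1

/-!
# A corepresentable functor spanned at a residue field by one element is locally free of rank one on it (helper4)
-/

set_option backward.isDefEq.respectTransparency.types false
set_option synthInstance.maxHeartbeats 400000
set_option autoImplicit false
set_option linter.unusedSectionVars false
set_option linter.style.haveILetI false
set_option linter.unusedSimpArgs false
universe u v w
open CategoryTheory
open CategoryTheory.Limits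
open TensorProduct
open Opposite
open Groth.Agent.Lib.Helper4.OpenVan1

namespace Groth.Agent.Lib.Helper4.CorepGen1

variable {A : Type u} [CommRing A]

/-- injectivity of `l ⊗ κ` from the fact that every functional `Q → κ` is a fraction multiple of
`ψ ∘ l` -/
theorem injective_lTensor_of_functionals {Q : Type u} [AddCommGroup Q] [Module A Q]
    (l : Q →ₗ[A] A) {κ : Type u} [Field κ] (ψ : A →+* κ)
    (H : letI : Module A κ := Module.compHom κ ψ
      ∀ χ : Q →ₗ[A] κ, ∃ s a : A, ψ s ≠ 0 ∧ ∀ q, ψ s * χ q = ψ a * ψ (l q)) :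
    letI : Module A κ := Module.compHom κ ψ
    Function.Injective (l.lTensor κ) := by
  letI : Algebra A κ := ψ.toAlgebra
  intro ω ω' hωω'
  rw [← sub_eq_zero]
  have hω : (l.lTensor κ) (ω - ω') = 0 := by rw [map_sub, hωω', sub_self]
  generalize ω - ω' = v at hω
  by_contra hne
  obtain ⟨lam, hlam⟩ : ∃ lam : Module.Dual κ (κ ⊗[A] Q), lam v ≠ 0 := by
    by_contra hcon
    push Not at hcon
    exact hne ((Module.forall_dual_apply_eq_zero_iff κ v).1 hcon)
  let χ : Q →ₗ[A] κ :=
    { toFun := fun q => lam ((1 : κ) ⊗ₜ[A] q)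
      map_add' := fun q q' => by rw [TensorProduct.tmul_add, map_add]
      map_smul' := fun a q => by
        rw [RingHom.id_apply, TensorProduct.tmul_smul]
        exact lam.map_smul_of_tower a _ }
  obtain ⟨s, a, hs, hsa⟩ := H χ
  have key : ∀ w : κ ⊗[A] Q, ψ s * lam w = ψ a * (TensorProduct.rid A κ ((l.lTensor κ) w)) := by
    intro w
    induction w using TensorProduct.induction_on with
    | zero => simp
    | tmul c q =>
      have h1 : c ⊗ₜ[A] q = c • ((1 : κ) ⊗ₜ[A] q) := by
        rw [TensorProduct.smul_tmul', smul_eq_mul, mul_one]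
      rw [h1, map_smul, smul_eq_mul, ← h1, LinearMap.lTensor_tmul, TensorProduct.rid_tmul]
      have h2 := hsa q
      change ψ s * lam ((1 : κ) ⊗ₜ[A] q) = _ at h2
      have h3 : (l q) • c = ψ (l q) * c := rfl
      rw [h3]
      calc ψ s * (c * lam ((1 : κ) ⊗ₜ[A] q)) = c * (ψ s * lam ((1 : κ) ⊗ₜ[A] q)) := by ring
        _ = c * (ψ a * ψ (l q)) := by rw [h2]
        _ = ψ a * (ψ (l q) * c) := by ring
    | add x y hx hy => rw [map_add, mul_add, hx, hy, map_add, map_add, mul_add]
  have := key v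
  rw [hω, map_zero, mul_zero] at this
  rcases mul_eq_zero.1 this with h | h
  · exact hs h
  · exact hlam h


/-- **Lemma F**: a corepresentable functor whose value at a residue field is spanned by the image of
an element `e` of its value at `A` is, near the prime, free of rank one on `e` -/
theorem exists_generator_of_corep (T : ModuleCat.{u} A ⥤ ModuleCat.{u} A) (Q : ModuleCat.{u} A)
    [Module.Finite A Q]
    (η : (linearCoyoneda A (ModuleCat.{u} A)).obj (op Q) ≅ T)
    (p : Ideal A) [p.IsPrime] {κ : Type u} [Field κ] (ψ : A →+* κ) (hψ : RingHom.ker ψ = p)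
    (ι : ModuleCat.of A A ⟶ (ModuleCat.restrictScalars ψ).obj (ModuleCat.of κ κ))
    (hι : ∀ a : A, ι.hom a = (show ((ModuleCat.restrictScalars ψ).obj (ModuleCat.of κ κ)) from ψ a))
    (e : T.obj (ModuleCat.of A A))
    (H1 : ∀ x : T.obj ((ModuleCat.restrictScalars ψ).obj (ModuleCat.of κ κ)),
      ∃ s a : A, ψ s ≠ 0 ∧ s • x = a • (T.map ι).hom e)
    (H2 : (T.map ι).hom e ≠ 0) :
    ∃ h : A, ψ h ≠ 0 ∧ (∀ z : T.obj (ModuleCat.of A A), ∃ a : A, h • z = a • e) ∧
      (∀ a : A, a • e = 0 → h * a = 0) := by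
  let Mκ : ModuleCat.{u} A := (ModuleCat.restrictScalars ψ).obj (ModuleCat.of κ κ)
  let Φ : ∀ N : ModuleCat.{u} A, (Q ⟶ N) →ₗ[A] T.obj N := fun N => (η.hom.app N).hom
  have hb : ∀ N, Function.Bijective (Φ N) := fun N =>
    ConcreteCategory.bijective_of_isIso (η.hom.app N)
  have hnat : ∀ {M M' : ModuleCat.{u} A} (g : M ⟶ M') (χ : Q ⟶ M),
      Φ M' (χ ≫ g) = (T.map g).hom (Φ M χ) := fun g χ =>
    ConcreteCategory.congr_hom (η.hom.naturality g) χ
  obtain ⟨e', he'⟩ := (hb (ModuleCat.of A A)).2 e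
  let l : Q →ₗ[A] A := e'.hom
  -- every functional is a fraction multiple
  have hfun : ∀ χ : Q ⟶ Mκ, ∃ s a : A, ψ s ≠ 0 ∧ s • χ = a • (e' ≫ ι) := by
    intro χ
    obtain ⟨s, a, hs, h⟩ := H1 (Φ Mκ χ)
    refine ⟨s, a, hs, (hb Mκ).1 ?_⟩
    rw [map_smul, map_smul, h, hnat ι e', he']
  have hinj : letI : Module A κ := Module.compHom κ ψ
      Function.Injective (l.lTensor κ) := by
    apply injective_lTensor_of_functionals l ψ
    letI : Module A κ := Module.compHom κ ψ
    intro χ
    obtain ⟨s, a, hs, h⟩ := hfun (ModuleCat.ofHom (show Q →ₗ[A] Mκ from χ))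
    refine ⟨s, a, hs, fun q => ?_⟩
    have h2 := congrArg (fun (m : Q ⟶ Mκ) => m.hom q) h
    change (show Mκ from (ψ s * χ q : κ)) = a • ι.hom (l q) at h2
    rw [hι] at h2
    exact h2
  obtain ⟨g, l'', hg, hl''⟩ := exists_uniform_retraction l p ψ hψ hinj
  let q₁ : Q := l'' 1
  have hq₁ : ∀ q : Q, g • q = l q • q₁ := by
    intro q
    have := LinearMap.congr_fun hl'' q
    rw [LinearMap.comp_apply, LinearMap.smul_apply, LinearMap.id_apply] at this
    rw [← this]
    change l'' (l q) = l q • l'' 1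
    rw [← map_smul, smul_eq_mul, mul_one]
  -- a point where `e'` is a unit mod `p`
  have hne : e' ≫ ι ≠ 0 := by
    intro h0
    apply H2
    rw [← he', ← hnat ι e', h0, map_zero]
  obtain ⟨q₀, hq₀⟩ : ∃ q₀ : Q, ψ (l q₀) ≠ 0 := by
    by_contra hcon
    push Not at hcon
    apply hne
    apply ModuleCat.hom_ext
    apply LinearMap.ext
    intro q
    change ι.hom (l q) = 0
    rw [hι, hcon q]
    rfl
  have hgψ : ψ g ≠ 0 := by
    intro h0
    apply hg
    rw [← hψ]
    exact h0
  refine ⟨g * l q₀, ?_, ?_, ?_⟩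
  · rw [map_mul]
    exact mul_ne_zero hgψ hq₀
  · intro z
    obtain ⟨z', rfl⟩ := (hb (ModuleCat.of A A)).2 z
    refine ⟨l q₀ * z'.hom q₁, ?_⟩
    rw [← he', ← map_smul, ← map_smul]
    congr 1
    apply ModuleCat.hom_ext
    apply LinearMap.ext
    intro q
    change (g * l q₀) * z'.hom q = (l q₀ * z'.hom q₁) * l q
    have h1 : g * z'.hom q = l q * z'.hom q₁ := by
      have := congrArg z'.hom (hq₁ q)
      rw [map_smul, map_smul, smul_eq_mul, smul_eq_mul] at this
      exact this
    calc (g * l q₀) * z'.hom q = l q₀ * (g * z'.hom q) := by ring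
      _ = l q₀ * (l q * z'.hom q₁) := by rw [h1]
      _ = (l q₀ * z'.hom q₁) * l q := by ring
  · intro a ha
    have h1 : a • e' = 0 := by
      apply (hb (ModuleCat.of A A)).1
      rw [map_smul, he', ha, map_zero]
    have h2 : a * l q₀ = 0 := by
      have := congrArg (fun (m : Q ⟶ ModuleCat.of A A) => m.hom q₀) h1
      exact this
    calc g * l q₀ * a = g * (a * l q₀) := by ring
      _ = 0 := by rw [h2, mul_zero]

end Groth.Agent.Lib.Helper4.CorepGen1
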