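import Mathlib
import Groth.Prelude.Def_ega3
import Groth.Agent.Lib.Helper4.OpenVan1
import Groth.Agent.Lib.Helper4.FibLift1
import Groth.Agent.Lib.Helper4.CorepGen1
import Groth.Agent.Lib.Helper4.CechCls1

/-!
# Degree-zero exchange with an explicit generator: fibre sections spanned by a global section (helper4)
-/

set_option backward.isDefEq.respectTransparency.types false
set_option synthInstance.maxHeartbeats 400000
set_option autoImplicit false
set_option linter.unusedSectionVars false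
set_option linter.style.haveILetI false
set_option linter.unusedSimpArgs false
universe u v w
open CategoryTheory
open CategoryTheory.Limits
open AlgebraicGeometry
open TopologicalSpace
open TensorProduct
open Opposite
open Groth.Agent.Helper1
open Groth.Agent.Helper1.QcCech
open Groth.Agent.Lib.Helper4.LocCech1
open Groth.Agent.Lib.Helper4.BaseChgRing1
open Groth.Agent.Lib.Helper4.TenSec2
open Groth.Agent.Lib.Helper4.CechTen1
open Groth.Agent.Lib.Helper4.CechTen2
open Groth.Agent.Lib.Helper4.BCSec1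
open Groth.Agent.Lib.Helper4.BCSec2
open Groth.Agent.Lib.Helper4.MumBC2
open Groth.Agent.Lib.Helper4.HomEl1
open Groth.Agent.Lib.Helper4.ExchAlg1
open Groth.Agent.Lib.Helper4.ExchAlg2
open Groth.Agent.Lib.Helper4.TruncAlg1
open Groth.Agent.Lib.Helper4.OpenVan1
open Groth.Agent.Lib.Helper4.FibLift1
open Groth.Agent.Lib.Helper4.CorepGen1
open Groth.Agent.Lib.Helper4.CechCls1

namespace Groth.Agent.Lib.Helper4.ExchZero1

section Sec
variable {X : Scheme.{u}} (F : X.Modules) {ι : Type u} (U : ι → X.Opens)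

/-- the cochain of restrictions of a global section -/
noncomputable def zOf (b : Γ(F, ⊤)) : Co F U 0 := fun a => res F le_top b

theorem zOf_apply (b : Γ(F, ⊤)) (a : Fin 1 → ι) : zOf F U b a = res F le_top b := rfl

theorem Dd_zOf (b : Γ(F, ⊤)) : Dd F U 0 (zOf F U b) = 0 := by
  funext a
  rw [Dd_apply, Fin.sum_univ_two]
  simp only [Fin.val_zero, pow_zero, one_smul, Fin.val_one, pow_one, neg_smul]
  change res F _ (res F _ b) + -res F _ (res F _ b) = 0
  rw [res_res, res_res, add_neg_cancel]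

theorem zOf_injective (hcov : iSup U = ⊤) (b b' : Γ(F, ⊤)) (h : zOf F U b = zOf F U b') : b = b' := by
  apply section_ext F U hcov
  intro i
  have h1 := congrFun h (cst i)
  rw [zOf_apply, zOf_apply] at h1
  have h2 := congrArg (res F (le_W_cst U i)) h1
  rw [res_res, res_res] at h2
  exact h2

end Sec


section L3
variable {A L : Type u} [CommRing A] [Field L] (φ : A →+* L)
variable {X X' : Scheme.{u}} [X.Over (Spec (CommRingCat.of A))] [X'.Over (Spec (CommRingCat.of L))]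
variable (g : X' ⟶ X) (F : X.Modules) {ι : Type u} (U : ι → X.Opens)

attribute [local instance] secMod

/-- the residue field as an `A`-module -/
noncomputable abbrev Mk : ModuleCat.{u} A := rs φ (ModuleCat.of L L)

/-- `A → κ` as a morphism of `A`-modules -/
noncomputable def iotaK : ModuleCat.of A A ⟶ Mk φ :=
  ModuleCat.ofHom (X := A) (Y := Mk φ)
    { toFun := fun a => (show Mk φ from φ a)
      map_add' := fun a b => by
        change (show Mk φ from φ (a + b)) = (show Mk φ from (φ a + φ b : L))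
        rw [map_add]
      map_smul' := fun a b => by
        change (show Mk φ from φ (a * b)) = (show Mk φ from (φ a * φ b : L))
        rw [map_mul] }

theorem iotaK_apply (a : A) : (iotaK φ).hom a = (show Mk φ from φ a) := rfl

variable [Finite ι] [F.IsQuasicoherent]
  (hsq : IsPullback g (X' ↘ Spec (CommRingCat.of L)) (X ↘ Spec (CommRingCat.of A))
      (Spec.map (CommRingCat.ofHom φ)))
  (haff : ∀ (n : ℕ) (a : Fin (n + 1) → ι), IsAffineOpen (TCx.W U a)) (hcov : iSup U = ⊤)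

include hsq haff hcov in
/-- cocycles of the base change to the residue field are fraction multiples of the unit cocycle -/
theorem cocycle_fraction
    (hfrac : ∀ b : L, ∃ a s : A, φ s ≠ 0 ∧ b * φ s = φ a)
    (e₀ : Γ(F, ⊤))
    (G1 : ∀ t : Γ(Fp g F, ⊤), ∃ c : L, t = c • uAdd g F (le_top : (⊤ : X'.Opens) ≤ g ⁻¹ᵁ ⊤) e₀)
    (ξ : ZC A F U (Mk φ)) :
    ∃ s a : A, φ s ≠ 0 ∧ s • ξ.1 = a • ((zOf F U e₀) ⊗ₜ[A] (show Mk φ from (1 : L))) := by
  let M' : ModuleCat.{u} L := ModuleCat.of L L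
  have hξ : (DdA A F U 0).rTensor (Mk φ) ξ.1 = 0 := ξ.2
  let γ := gamX φ g F U hsq.w M' 0 ξ.1
  have hγ : LinearMap.rTensor M' (DdA L (Fp g F) (Up g U) 0) γ = 0 := by
    rw [← gamX_d φ g F U hsq.w M' 0 ξ.1, hξ, map_zero]
  let τ : Co (Fp g F) (Up g U) 0 := TensorProduct.rid L _ γ
  have hγτ : γ = τ ⊗ₜ[L] (1 : L) := by
    have := (TensorProduct.rid L (Co (Fp g F) (Up g U) 0)).symm_apply_apply γ
    rw [TensorProduct.rid_symm_apply] at this
    exact this.symm
  have hτ : Dd (Fp g F) (Up g U) 0 τ = 0 := by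
    rw [← DdA_apply L (Fp g F) (Up g U) 0 τ]
    have h1 := hγ
    rw [hγτ, LinearMap.rTensor_tmul] at h1
    have := congrArg (TensorProduct.rid L _) h1
    rw [TensorProduct.rid_tmul, one_smul, map_zero] at this
    exact this
  obtain ⟨t, ht⟩ := exists_section_of_cocycle (Fp g F) (Up g U) (iSup_Up g U hcov) τ hτ
  obtain ⟨c, hc⟩ := G1 t
  obtain ⟨a, s, hs, hcs⟩ := hfrac c
  refine ⟨s, a, hs, ?_⟩
  have h2 : φ s • τ = φ a • uCo g F U 0 (zOf F U e₀) := by
    funext i
    change φ s • τ i = φ a • uCo g F U 0 (zOf F U e₀) i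
    rw [ht i, hc, uCo_apply, zOf_apply]
    have h3 := uAdd_res g F (le_top : (⊤ : X'.Opens) ≤ g ⁻¹ᵁ ⊤) (Wp_eq g U i).le
      (le_top : TCx.W U i ≤ ⊤) (le_top : TCx.W (Up g U) i ≤ ⊤) e₀
    rw [← h3]
    have h4 : res (Fp g F) (le_top : TCx.W (Up g U) i ≤ ⊤)
        (c • uAdd g F (le_top : (⊤ : X'.Opens) ≤ g ⁻¹ᵁ ⊤) e₀) =
        c • res (Fp g F) (le_top : TCx.W (Up g U) i ≤ ⊤)
          (uAdd g F (le_top : (⊤ : X'.Opens) ≤ g ⁻¹ᵁ ⊤) e₀) :=
      (resA L (Fp g F) (le_top : TCx.W (Up g U) i ≤ ⊤)).map_smul c _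
    rw [h4, smul_smul, mul_comm, hcs]
  apply (gamX_bijective φ g F U hsq haff M' 0).1
  rw [gamX_smul φ g F U hsq.w M' 0 s ξ.1, gamX_smul φ g F U hsq.w M' 0 a, gamX_tmul]
  change φ s • γ = _
  rw [hγτ, TensorProduct.smul_tmul', h2, TensorProduct.smul_tmul']


include hsq haff hcov in
/-- the unit cocycle does not vanish on the fibre -/
theorem unit_cocycle_ne_zero (e₀ : Γ(F, ⊤))
    (G2 : uAdd g F (le_top : (⊤ : X'.Opens) ≤ g ⁻¹ᵁ ⊤) e₀ ≠ 0) :
    (zOf F U e₀) ⊗ₜ[A] (show Mk φ from (1 : L)) ≠ 0 := by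
  intro h0
  let M' : ModuleCat.{u} L := ModuleCat.of L L
  have h1 := congrArg (gamX φ g F U hsq.w M' 0) h0
  rw [gamX_tmul, map_zero] at h1
  have h2 := congrArg (TensorProduct.rid L (Co (Fp g F) (Up g U) 0)) h1
  rw [map_zero] at h2
  change TensorProduct.rid L _ ((uCo g F U 0 (zOf F U e₀)) ⊗ₜ[L] (1 : L)) = 0 at h2
  rw [TensorProduct.rid_tmul, one_smul] at h2
  apply G2
  apply section_ext (Fp g F) (Up g U) (iSup_Up g U hcov)
  intro i
  have h3 := congrFun h2 (cst i)
  rw [uCo_apply, zOf_apply] at h3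
  have h4 := uAdd_res g F (le_top : (⊤ : X'.Opens) ≤ g ⁻¹ᵁ ⊤) (Wp_eq g U (cst i)).le
    (le_top : TCx.W U (cst i) ≤ ⊤) (le_top : TCx.W (Up g U) (cst i) ≤ ⊤) e₀
  have h5 : res (Fp g F) (le_top : TCx.W (Up g U) (cst i) ≤ ⊤)
      (uAdd g F (le_top : (⊤ : X'.Opens) ≤ g ⁻¹ᵁ ⊤) e₀) = 0 := h4.trans h3
  have h6 := congrArg (res (Fp g F) (le_W_cst (Up g U) i)) h5
  rw [res_res, map_zero] at h6
  rw [h6, map_zero]

end L3


section L3b
variable {A L : Type u} [CommRing A] [IsNoetherianRing A] [Field L] (φ : A →+* L)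
variable {X X' : Scheme.{u}} [X.Over (Spec (CommRingCat.of A))] [X'.Over (Spec (CommRingCat.of L))]
variable (g : X' ⟶ X) {F : X.Modules}

attribute [local instance] secMod

/-- **degree-zero exchange with an explicit generator**: if the global sections of the restriction
of `F` to the fibre are spanned by the image of a global section `e₀`, then near the point the
module of global sections of `F` is free of rank one on `e₀` -/
theorem exists_local_generator [IsProper (X ↘ Spec (CommRingCat.of A))] [F.IsQuasicoherent]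
    (D : MData A X F)
    (hsq : IsPullback g (X' ↘ Spec (CommRingCat.of L)) (X ↘ Spec (CommRingCat.of A))
      (Spec.map (CommRingCat.ofHom φ)))
    (hfrac : ∀ b : L, ∃ a s : A, φ s ≠ 0 ∧ b * φ s = φ a)
    (e₀ : Γ(F, ⊤))
    (G1 : ∀ t : Γ(Fp g F, ⊤), ∃ c : L, t = c • uAdd g F (le_top : (⊤ : X'.Opens) ≤ g ⁻¹ᵁ ⊤) e₀)
    (G2 : uAdd g F (le_top : (⊤ : X'.Opens) ≤ g ⁻¹ᵁ ⊤) e₀ ≠ 0) :
    ∃ h : A, φ h ≠ 0 ∧ (∀ b : Γ(F, ⊤), ∃ a : A, h • b = a • e₀) ∧
      (∀ a : A, a • e₀ = 0 → h * a = 0) := by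
  haveI := D.fin
  haveI : ∀ i, Module.Finite A (D.K.X i) := fun i => (D.hff i).1
  haveI : ∀ i, Module.Free A (D.K.X i) := fun i => (D.hff i).2
  haveI : Module.Projective A (Wq D.K (-1) 0) :=
    projective_Wq_of_uvan D.K (-2) (-1) 0 (by norm_num) (by norm_num) (D.hneg (-1) (by norm_num))
  let η : (linearCoyoneda A (ModuleCat.{u} A)).obj (op (ModuleCat.of A (Qm D.K (-1) 0 1))) ≅
      CohIII.TFun (CZ A F D.U) 0 :=
    corepIso D.K (-1) 0 1 (by norm_num) rfl ≪≫ D.eK 0
  haveI : Module.Finite A (ModuleCat.of A (Qm D.K (-1) 0 1)) := finite_Qm D.K (-1) 0 1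
  haveI : (RingHom.ker φ).IsPrime := RingHom.ker_isPrime φ
  -- the unit cocycle
  have hz₀ : ∀ b : Γ(F, ⊤), (zOf F D.U b) ⊗ₜ[A] (1 : A) ∈ ZC A F D.U (ModuleCat.of A A) := by
    intro b
    change (DdA A F D.U 0).rTensor _ ((zOf F D.U b) ⊗ₜ[A] (1 : A)) = 0
    rw [LinearMap.rTensor_tmul, DdA_apply, Dd_zOf, TensorProduct.zero_tmul]
  let ξ₀ : ZC A F D.U (ModuleCat.of A A) := ⟨_, hz₀ e₀⟩
  let e := clsC A F D.U (ModuleCat.of A A) ξ₀
  have hmap : ∀ b : Γ(F, ⊤), ((CohIII.TFun (CZ A F D.U) 0).map (iotaK φ)).hom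
      (clsC A F D.U (ModuleCat.of A A) ⟨_, hz₀ b⟩) =
      clsC A F D.U (Mk φ) ⟨(zOf F D.U b) ⊗ₜ[A] (show Mk φ from (1 : L)),
        by
          change (DdA A F D.U 0).rTensor _ ((zOf F D.U b) ⊗ₜ[A] (show Mk φ from (1 : L))) = 0
          rw [LinearMap.rTensor_tmul, DdA_apply, Dd_zOf, TensorProduct.zero_tmul]⟩ := by
    intro b
    rw [clsC_natural]
    congr 1
    apply Subtype.ext
    change (iotaK φ).hom.lTensor (Co F D.U 0) ((zOf F D.U b) ⊗ₜ[A] (1 : A)) = _
    rw [LinearMap.lTensor_tmul, iotaK_apply, map_one]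
  obtain ⟨h, hh, CK, CK2⟩ := exists_generator_of_corep (CohIII.TFun (CZ A F D.U) 0)
    (ModuleCat.of A (Qm D.K (-1) 0 1)) η (RingHom.ker φ) φ rfl (iotaK φ) (iotaK_apply φ) e
    (by
      intro x
      obtain ⟨ξ, rfl⟩ := clsC_surjective A F D.U (Mk φ) x
      obtain ⟨s, a, hs, hsa⟩ := cocycle_fraction φ g F D.U hsq D.haff D.hcov hfrac e₀ G1 ξ
      refine ⟨s, a, hs, ?_⟩
      rw [hmap e₀, ← map_smul, ← map_smul]
      congr 1
      apply Subtype.ext
      exact hsa)
    (by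
      rw [hmap e₀]
      intro h0
      have h1 := clsC_injective A F D.U (Mk φ) (h0.trans (map_zero _).symm)
      exact unit_cocycle_ne_zero φ g F D.U hsq D.haff D.hcov e₀ G2 (congrArg Subtype.val h1))
  refine ⟨h, hh, ?_, ?_⟩
  · intro b
    obtain ⟨a, ha⟩ := CK (clsC A F D.U (ModuleCat.of A A) ⟨_, hz₀ b⟩)
    refine ⟨a, ?_⟩
    change h • clsC A F D.U (ModuleCat.of A A) ⟨_, hz₀ b⟩ =
      a • clsC A F D.U (ModuleCat.of A A) ξ₀ at ha
    rw [← map_smul, ← map_smul] at ha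
    have h1 := congrArg Subtype.val (clsC_injective A F D.U (ModuleCat.of A A) ha)
    change h • ((zOf F D.U b) ⊗ₜ[A] (1 : A)) = a • ((zOf F D.U e₀) ⊗ₜ[A] (1 : A)) at h1
    rw [TensorProduct.smul_tmul', TensorProduct.smul_tmul'] at h1
    have h2 := congrArg (TensorProduct.rid A (Co F D.U 0)) h1
    rw [TensorProduct.rid_tmul, TensorProduct.rid_tmul, one_smul, one_smul] at h2
    apply zOf_injective F D.U D.hcov
    funext i
    have h3 := congrFun h2 i
    change h • res F le_top b = a • res F le_top e₀ at h3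
    rw [zOf_apply, zOf_apply]
    exact ((resA A F (le_top : TCx.W D.U i ≤ ⊤)).map_smul h b).trans
      (h3.trans ((resA A F (le_top : TCx.W D.U i ≤ ⊤)).map_smul a e₀).symm)
  · intro a ha
    apply CK2
    change a • clsC A F D.U (ModuleCat.of A A) ξ₀ = 0
    rw [← map_smul]
    have : a • ξ₀ = 0 := by
      apply Subtype.ext
      change a • ((zOf F D.U e₀) ⊗ₜ[A] (1 : A)) = 0
      rw [TensorProduct.smul_tmul']
      have : a • zOf F D.U e₀ = 0 := by
        funext i
        change a • res F le_top e₀ = 0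
        have h7 := (resA A F (le_top : TCx.W D.U i ≤ ⊤)).map_smul a e₀
        rw [ha, map_zero] at h7
        exact h7.symm
      rw [this, TensorProduct.zero_tmul]
    rw [this, map_zero]

end L3b

end Groth.Agent.Lib.Helper4.ExchZero1
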