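import Mathlib
import Groth.Agent.Lib.Helper6.SteinUC

/-!
# Isomorphism on sections over a basic open from injectivity and surjectivity up to powers (helper4)
-/

set_option backward.isDefEq.respectTransparency.types false
set_option synthInstance.maxHeartbeats 400000
set_option autoImplicit false
set_option linter.unusedSectionVars false
set_option linter.style.haveILetI false
set_option linter.unusedSimpArgs false
universe u v w
open CategoryTheory
open CategoryTheory.Limits
open AlgebraicGeometry
open TopologicalSpace
open Opposite

namespace Groth.Agent.Lib.Helper4.LocIso1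

/-- a ring map between localizations away from `r` and `φ r` lying over a ring map `φ` which is
injective and surjective up to powers of `r` is bijective -/
theorem bijective_of_away_of_local {A B A' B' : Type*} [CommRing A] [CommRing B] [CommRing A']
    [CommRing B'] [Algebra A A'] [Algebra B B'] (φ : A →+* B) (r : A)
    (hinj : ∀ a, φ a = 0 → ∃ n, r ^ n * a = 0)
    (hsurj : ∀ b, ∃ a m, φ a = φ r ^ m * b)
    [IsLocalization.Away r A'] [IsLocalization.Away (φ r) B'] (ψ : A' →+* B')
    (h : ψ.comp (algebraMap A A') = (algebraMap B B').comp φ) : Function.Bijective ψ := by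
  have e : ψ = IsLocalization.Away.map A' B' φ r := by
    apply IsLocalization.ringHom_ext (Submonoid.powers r)
    rw [h, IsLocalization.Away.map, IsLocalization.map_comp]
  rw [e]
  exact ⟨(IsLocalization.Away.map_injective_iff (S := A') (Q := B') φ r).2 hinj,
    (IsLocalization.Away.map_surjective_iff (S := A') (Q := B') φ r).2 hsurj⟩

/-- sections over a basic open of an affine open with qcqs preimage, when the map on sections over
the affine open is injective and surjective up to powers of the function -/
theorem isIso_app_basicOpen_of_local {X Y : Scheme.{u}} (g : X ⟶ Y) (W : Y.Opens)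
    (hW : IsAffineOpen W) (hc : IsCompact (g ⁻¹ᵁ W).1) (hqs : IsQuasiSeparated (g ⁻¹ᵁ W).1)
    (r : Γ(Y, W))
    (hinj : ∀ a, (g.app W).hom a = 0 → ∃ n, r ^ n * a = 0)
    (hsurj : ∀ b, ∃ a m, (g.app W).hom a = (g.app W).hom r ^ m * b) :
    IsIso (g.app (Y.basicOpen r)) := by
  have hpre : g ⁻¹ᵁ (Y.basicOpen r) = X.basicOpen ((g.app W).hom r) :=
    Scheme.Hom.preimage_basicOpen g r
  have h1 : IsLocalization.Away r Γ(Y, Y.basicOpen r) := hW.isLocalization_basicOpen r
  have h2 : IsLocalization.Away ((g.app W).hom r) Γ(X, X.basicOpen ((g.app W).hom r)) :=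
    isLocalization_basicOpen_of_qcqs hc hqs _
  have key : Function.Bijective
      (g.app (Y.basicOpen r) ≫ X.presheaf.map (eqToHom hpre.symm).op).hom := by
    apply bijective_of_away_of_local (g.app W).hom r hinj hsurj
    ext x
    simp only [RingHom.algebraMap_toAlgebra, ← CommRingCat.hom_comp]
    congr 2
    rw [Scheme.Hom.naturality_assoc, ← Functor.map_comp]
    rfl
  have : IsIso (g.app (Y.basicOpen r) ≫ X.presheaf.map (eqToHom hpre.symm).op) :=
    (ConcreteCategory.isIso_iff_bijective _).mpr key
  exact IsIso.of_isIso_comp_right _ (X.presheaf.map (eqToHom hpre.symm).op)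

end Groth.Agent.Lib.Helper4.LocIso1
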