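import Mathlib
import Groth.Prelude.Def_ega3
import Groth.Agent.Lib.Helper4.FibLift2
import Groth.Agent.Lib.Helper4.ExchZero1
import Groth.Agent.Lib.Helper4.LocIso1
import Groth.Agent.Lib.Helper4.ChartAlpha1
import Groth.Agent.Lib.Helper7.GeomConn.ZarNormal
import Groth.Agent.Lib.Lead.ParaF1
import Groth.Agent.Lib.Helper1.InvInv2
import Groth.Agent.Lib.Helper1.Dv21
import Groth.Agent.Lib.Helper5.Perf.RelPerf
import Groth.Agent.Lib.Helper1.TwForm3

/-!
# Fibre functions reduced to the residue field: the structure sheaf pushes forward isomorphically near the point (helper4)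
-/

set_option backward.isDefEq.respectTransparency.types false
set_option synthInstance.maxHeartbeats 400000
set_option autoImplicit false
set_option linter.unusedSectionVars false
set_option linter.style.haveILetI false
set_option linter.unusedSimpArgs false
universe u v w
open CategoryTheory
open CategoryTheory.Limits
open AlgebraicGeometry
open TopologicalSpace
open Opposite
open TensorProduct
open MonoidalCategory
open Groth.Agent.Helper1
open Groth.Agent.Helper1.QcCech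
open Groth.Agent.Helper1.RpushLoc
open Groth.Agent.Lib.Helper4.LocCech1
open Groth.Agent.Lib.Helper4.TenSec2
open Groth.Agent.Lib.Helper4.CechTen1
open Groth.Agent.Lib.Helper4.CechTen2
open Groth.Agent.Lib.Helper4.BaseChgRing1
open Groth.Agent.Lib.Helper4.BCSec1
open Groth.Agent.Lib.Helper4.BCSec2
open Groth.Agent.Lib.Helper4.MumBC1
open Groth.Agent.Lib.Helper4.MumBC2
open Groth.Agent.Lib.Helper4.ChartSq1
open Groth.Agent.Lib.Helper4.ChartFib1
open Groth.Agent.Lib.Helper4.ChartPkg1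
open Groth.Agent.Lib.Helper4.RpushCoh1
open Groth.Agent.Lib.Helper4.SigmaFac1
open Groth.Agent.Lib.Helper4.ExchZero1
open Groth.Agent.Lib.Helper4.LocIso1
open Groth.Agent.Lib.Helper4.ChartAlpha1

namespace Groth.Agent.Lib.Helper4.FibFunc1

section Fib
variable {X S : Scheme.{u}} (f : X ⟶ S) {V : S.Opens} (hV : IsAffineOpen V)
  (y' : ↑(Spec (CommRingCat.of Γ(S, V))))

/-- the unit section of the chart -/
noncomputable def oneChart : Γ((Coh.structureModule X).restrict (f ⁻¹ᵁ V).ι, ⊤) :=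
  TwForm.one' (X := X) ((f ⁻¹ᵁ V).ι ''ᵁ ⊤)

/-- the comparison of sections of the pullback of the structure sheaf of the chart to the fibre with
functions on the fibre -/
noncomputable def thetaFib (g : f.fiber (hV.fromSpec y') ⟶ (↑(f ⁻¹ᵁ V) : Scheme.{u}))
    (hg : g ≫ (f ⁻¹ᵁ V).ι = f.fiberι (hV.fromSpec y'))
    (t : Γ(Fp g ((Coh.structureModule X).restrict (f ⁻¹ᵁ V).ι), ⊤)) :
    Γ(Coh.structureModule (f.fiber (hV.fromSpec y')), ⊤) :=
  (PullSec.unitIso (f.fiberι (hV.fromSpec y'))).hom.app ⊤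
    ((fibModIso f hV y' (Coh.structureModule X) g hg).hom.app ⊤ t)

theorem thetaFib_injective (g : f.fiber (hV.fromSpec y') ⟶ (↑(f ⁻¹ᵁ V) : Scheme.{u}))
    (hg : g ≫ (f ⁻¹ᵁ V).ι = f.fiberι (hV.fromSpec y')) :
    Function.Injective (thetaFib f hV y' g hg) := by
  intro t t' h
  unfold thetaFib at h
  have h1 := congrArg ((PullSec.unitIso (f.fiberι (hV.fromSpec y'))).inv.app ⊤) h
  rw [PullGen.iso_inv_hom_app, PullGen.iso_inv_hom_app] at h1
  have h2 := congrArg ((fibModIso f hV y' (Coh.structureModule X) g hg).inv.app ⊤) h1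
  rw [PullGen.iso_inv_hom_app, PullGen.iso_inv_hom_app] at h2
  exact h2

theorem thetaFib_one (g : f.fiber (hV.fromSpec y') ⟶ (↑(f ⁻¹ᵁ V) : Scheme.{u}))
    (hg : g ≫ (f ⁻¹ᵁ V).ι = f.fiberι (hV.fromSpec y')) :
    thetaFib f hV y' g hg (uAdd g ((Coh.structureModule X).restrict (f ⁻¹ᵁ V).ι)
      (le_top : (⊤ : (f.fiber (hV.fromSpec y')).Opens) ≤ g ⁻¹ᵁ ⊤) (oneChart f)) =
      TwForm.one' ⊤ := by
  let F := Coh.structureModule X
  let j := (f ⁻¹ᵁ V).ι
  let W : X.Opens := f ⁻¹ᵁ V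
  have hjW : j ''ᵁ ⊤ = W := Scheme.Opens.ι_image_top _
  let m : Γ(F, W) := TwForm.one' W
  have hle : (⊤ : (f.fiber (hV.fromSpec y')).Opens) ≤ (f.fiberι (hV.fromSpec y')) ⁻¹ᵁ W := by
    rw [← hg]
    intro x _
    change j (g x) ∈ W
    exact (g x).2
  have hm : res F (j.image_preimage_le W) m =
      res F (show j ''ᵁ (j ⁻¹ᵁ W) ≤ j ''ᵁ ⊤ from j.image_mono le_top)
        (show Γ(F, j ''ᵁ ⊤) from oneChart f) := by
    change res F _ (TwForm.one' W) = res F _ (TwForm.one' (j ''ᵁ ⊤))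
    rw [TwForm.res_one', TwForm.res_one']
  have key := sigma_factor j F g (f.fiberι (hV.fromSpec y')) hg W (oneChart f) m hm hle
  unfold thetaFib
  have h1 : (fibModIso f hV y' F g hg).hom.app ⊤ (uAdd g (F.restrict j) le_top (oneChart f)) =
      res _ hle (PullSec.σ (f.fiberι (hV.fromSpec y')) F W m) := key.symm
  rw [h1, QcExt.app_res]
  have h2 := PullSec.unitIso_σ (f.fiberι (hV.fromSpec y')) W (1 : Γ(X, W))
  change (PullSec.unitIso (f.fiberι (hV.fromSpec y'))).hom.app _ (PullSec.σ _ F W m) = _ at h2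
  rw [h2, map_one]
  exact TwForm.res_one' _

end Fib


theorem appLE_top_top {Z W : Scheme.{u}} (q : Z ⟶ W) : q.appLE ⊤ ⊤ le_top = q.appTop :=
  Scheme.Hom.appLE_eq_app q

theorem presheaf_map_injective_of_eq {X : Scheme.{u}} {W W' : X.Opens} (e : W' = W)
    (x y : Γ(X, W))
    (h : (X.presheaf.map (homOfLE (le_of_eq e)).op).hom x =
      (X.presheaf.map (homOfLE (le_of_eq e)).op).hom y) : x = y := by
  subst e
  have h1 : (homOfLE (le_of_eq (rfl : W' = W'))).op = 𝟙 (op W') := Subsingleton.elim _ _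
  rw [h1, CategoryTheory.Functor.map_id] at h
  exact h

/-- the scalar action of functions on the open subscheme on sections of the restriction of the
structure sheaf -/
theorem smul_restrict_structure {X : Scheme.{u}} (U : X.Opens) (r : Γ(↑U, ⊤))
    (s : Γ((Coh.structureModule X).restrict U.ι, ⊤)) :
    r • s = (show Γ((Coh.structureModule X).restrict U.ι, ⊤) from
      ((show Γ(X, U.ι ''ᵁ ⊤) from r) * (show Γ(X, U.ι ''ᵁ ⊤) from s) : Γ(X, U.ι ''ᵁ ⊤))) := by
  change (((Scheme.Hom.appIso U.ι ⊤).inv).hom r : Γ(X, U.ι ''ᵁ ⊤)) * (show Γ(X, U.ι ''ᵁ ⊤) from s) = _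
  rw [Scheme.Opens.ι_appIso]
  rfl

section Tr
variable {X Y : Scheme.{u}} (f : X ⟶ Y) {V : Y.Opens} (hV : IsAffineOpen V)

attribute [local instance] secMod

/-- the restriction of functions from the preimage of `V` to the chart -/
noncomputable def toChart (b : Γ(X, f ⁻¹ᵁ V)) : Γ((Coh.structureModule X).restrict (f ⁻¹ᵁ V).ι, ⊤) :=
  (X.presheaf.map (homOfLE (le_of_eq (Scheme.Opens.ι_image_top (f ⁻¹ᵁ V)))).op).hom b

theorem toChart_injective (b b' : Γ(X, f ⁻¹ᵁ V)) (h : toChart f b = toChart f b') : b = b' :=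
  presheaf_map_injective_of_eq (Scheme.Opens.ι_image_top (f ⁻¹ᵁ V)) b b' h

theorem smul_toChart (a : Γ(Y, V)) (b : Γ(X, f ⁻¹ᵁ V)) :
    letI : (↑(f ⁻¹ᵁ V) : Scheme.{u}).Over (Spec (CommRingCat.of Γ(Y, V))) := ⟨strMap f hV⟩
    a • toChart f b = toChart f ((f.app V).hom a * b) := by
  letI : (↑(f ⁻¹ᵁ V) : Scheme.{u}).Over (Spec (CommRingCat.of Γ(Y, V))) := ⟨strMap f hV⟩
  rw [secMod_smul, smul_restrict_structure]
  unfold toChart
  rw [map_mul]
  have h1 := alphaRing_chart f hV a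
  exact congrArg (fun z : Γ(X, (f ⁻¹ᵁ V).ι ''ᵁ ⊤) =>
    (show Γ((Coh.structureModule X).restrict (f ⁻¹ᵁ V).ι, ⊤) from
      z * (X.presheaf.map (homOfLE (le_of_eq (Scheme.Opens.ι_image_top (f ⁻¹ᵁ V)))).op).hom b)) h1

theorem oneChart_eq : oneChart f (V := V) = toChart f (1 : Γ(X, f ⁻¹ᵁ V)) := by
  unfold toChart oneChart
  rw [map_one]
  rfl

/-- translation of the conclusions on the chart into statements about the map on sections -/
theorem chart_to_sections (h : Γ(Y, V))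
    (CK : letI : (↑(f ⁻¹ᵁ V) : Scheme.{u}).Over (Spec (CommRingCat.of Γ(Y, V))) := ⟨strMap f hV⟩
      ∀ b : Γ((Coh.structureModule X).restrict (f ⁻¹ᵁ V).ι, ⊤), ∃ a : Γ(Y, V),
        h • b = a • oneChart f)
    (CK2 : letI : (↑(f ⁻¹ᵁ V) : Scheme.{u}).Over (Spec (CommRingCat.of Γ(Y, V))) := ⟨strMap f hV⟩
      ∀ a : Γ(Y, V), a • oneChart f (V := V) = 0 → h * a = 0) :
    (∀ a, (f.app V).hom a = 0 → ∃ n, h ^ n * a = 0) ∧
      (∀ b, ∃ a m, (f.app V).hom a = (f.app V).hom h ^ m * b) := by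
  letI : (↑(f ⁻¹ᵁ V) : Scheme.{u}).Over (Spec (CommRingCat.of Γ(Y, V))) := ⟨strMap f hV⟩
  constructor
  · intro a ha
    refine ⟨1, ?_⟩
    rw [pow_one]
    apply CK2
    rw [oneChart_eq, smul_toChart f hV, mul_one, ha]
    unfold toChart
    rw [map_zero]
    rfl
  · intro b
    obtain ⟨a, ha⟩ := CK (toChart f b)
    refine ⟨a, 1, ?_⟩
    rw [pow_one]
    apply toChart_injective f
    rw [oneChart_eq, smul_toChart f hV, smul_toChart f hV, mul_one] at ha
    exact ha.symm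

end Tr

section Main

attribute [local instance] secMod

theorem s2393 {X Y : Scheme.{u}} (f : X ⟶ Y) [IsProper f] [Flat f] [IsLocallyNoetherian Y] (y : Y)
    (hy : Function.Bijective (algebraMap (Y.residueField y) Γ(f.fiber y, ⊤))) :
    ∃ U : Y.Opens, y ∈ U ∧ ∀ V : Y.Opens, V ≤ U → IsIso (f.app V) := by
  obtain ⟨_, ⟨V, hV, rfl⟩, hyV, -⟩ := Y.isBasis_affineOpens.exists_subset_of_mem_open
    (Set.mem_univ y) isOpen_univ
  letI : (↑(f ⁻¹ᵁ V) : Scheme.{u}).Over (Spec (CommRingCat.of Γ(Y, V))) := ⟨strMap f hV⟩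
  haveI : IsProper ((↑(f ⁻¹ᵁ V) : Scheme.{u}) ↘ Spec (CommRingCat.of Γ(Y, V))) :=
    isProper_strMap f hV
  haveI : IsNoetherianRing Γ(Y, V) := IsLocallyNoetherian.component_noetherian ⟨V, hV⟩
  let F := Coh.structureModule X
  have hF : Coh.IsCoh F := Groth.Agent.Helper1.Dv.isCoh_structureModule X
  haveI : F.IsQuasicoherent := hF.1
  have hfl : FlatMod.IsFlatOver f F :=
    Groth.Agent.Lib.Helper5.LpullLib.isFlatOver_of_isFinLocFree f F
      (InvInv2.isFinLocFree_of_isInvertible Groth.Agent.Lead.ParaF.isInvertible_unit)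
  have hFV : Coh.IsCoh (F.restrict (f ⁻¹ᵁ V).ι) :=
    Groth.Agent.Helper1.FinPush.isCoh_restrict _ F hF
  have hq : (F.restrict (f ⁻¹ᵁ V).ι).IsQuasicoherent := hFV.1
  haveI := hq
  have hflV : FlatMod.IsFlatOver ((↑(f ⁻¹ᵁ V) : Scheme.{u}) ↘ Spec (CommRingCat.of Γ(Y, V)))
      (F.restrict (f ⁻¹ᵁ V).ι) := isFlatOver_restrict f hV F hfl
  obtain ⟨D⟩ := nonempty_mdata Γ(Y, V) (↑(f ⁻¹ᵁ V) : Scheme.{u}) (F.restrict (f ⁻¹ᵁ V).ι) hFV hflV
  obtain ⟨y₀, rfl⟩ : ∃ y₀ : ↑(Spec (CommRingCat.of Γ(Y, V))), hV.fromSpec y₀ = y :=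
    ⟨hV.primeIdealOf ⟨y, hyV⟩, hV.fromSpec_primeIdealOf ⟨y, hyV⟩⟩
  obtain ⟨g, hg1, hsq⟩ := exists_fibre_square f hV y₀
  letI : (f.fiber (hV.fromSpec y₀)).Over
      (Spec (CommRingCat.of (Y.residueField (hV.fromSpec y₀)))) :=
    CohIII.fiberOver f (hV.fromSpec y₀)
  -- the hypotheses on the fibre
  have halg : ∀ c : Y.residueField (hV.fromSpec y₀),
      alphaRing (Y.residueField (hV.fromSpec y₀)) (f.fiber (hV.fromSpec y₀)) ⊤ c =
        algebraMap (Y.residueField (hV.fromSpec y₀)) Γ(f.fiber (hV.fromSpec y₀), ⊤) c := by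
    intro c
    have h0 := appLE_top_top ((f.fiber (hV.fromSpec y₀)) ↘
        Spec (CommRingCat.of (Y.residueField (hV.fromSpec y₀))))
    unfold alphaRing
    rw [h0]
    rfl
  have hsm : ∀ (c : Y.residueField (hV.fromSpec y₀))
      (t : Γ(Fp g (F.restrict (f ⁻¹ᵁ V).ι), ⊤)),
      thetaFib f hV y₀ g hg1 (c • t) =
        alphaRing (Y.residueField (hV.fromSpec y₀)) (f.fiber (hV.fromSpec y₀)) ⊤ c •
          thetaFib f hV y₀ g hg1 t := by
    intro c t
    unfold thetaFib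
    rw [secMod_smul, Scheme.Modules.Hom.app_smul, Scheme.Modules.Hom.app_smul]
  have G1 : ∀ t : Γ(Fp g (F.restrict (f ⁻¹ᵁ V).ι), ⊤), ∃ c : Y.residueField (hV.fromSpec y₀),
      t = c • uAdd g (F.restrict (f ⁻¹ᵁ V).ι)
        (le_top : (⊤ : (f.fiber (hV.fromSpec y₀)).Opens) ≤ g ⁻¹ᵁ ⊤) (oneChart f) := by
    intro t
    obtain ⟨c, hc⟩ := hy.2 (show Γ(f.fiber (hV.fromSpec y₀), ⊤) from thetaFib f hV y₀ g hg1 t)
    refine ⟨c, thetaFib_injective f hV y₀ g hg1 ?_⟩
    rw [hsm, thetaFib_one, TwForm.smul_one', halg, hc]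
  have G2 : uAdd g (F.restrict (f ⁻¹ᵁ V).ι)
      (le_top : (⊤ : (f.fiber (hV.fromSpec y₀)).Opens) ≤ g ⁻¹ᵁ ⊤) (oneChart f) ≠ 0 := by
    intro h0
    have h1 := thetaFib_one f hV y₀ g hg1
    rw [h0] at h1
    have h2 : thetaFib f hV y₀ g hg1 0 = 0 := by
      unfold thetaFib
      rw [map_zero, map_zero]
    rw [h2] at h1
    have h3 : (1 : Γ(f.fiber (hV.fromSpec y₀), ⊤)) = 0 := h1.symm
    have h4 : algebraMap (Y.residueField (hV.fromSpec y₀)) Γ(f.fiber (hV.fromSpec y₀), ⊤) 1 =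
        algebraMap (Y.residueField (hV.fromSpec y₀)) Γ(f.fiber (hV.fromSpec y₀), ⊤) 0 := by
      rw [map_one, map_zero, h3]
    exact one_ne_zero (hy.1 h4)
  obtain ⟨h, hh, CK, CK2⟩ := exists_local_generator (phiV hV y₀) g D hsq (hfrac_phiV hV y₀)
    (oneChart f) G1 G2
  have hhp : h ∉ y₀.asIdeal := by
    intro hmem
    apply hh
    rw [← ker_phiV hV y₀] at hmem
    exact hmem
  have hc : IsCompact (f ⁻¹ᵁ V).1 := f.isCompact_preimage hV.isCompact
  have hqs : IsQuasiSeparated (f ⁻¹ᵁ V).1 := f.isQuasiSeparated_preimage hV.isQuasiSeparated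
  obtain ⟨hinj, hsurj⟩ := chart_to_sections f hV h CK CK2
  have hiso : IsIso (f.app (Y.basicOpen h)) :=
    isIso_app_basicOpen_of_local f V hV hc hqs h hinj hsurj
  have hUaff : IsAffineOpen (Y.basicOpen h) := hV.basicOpen h
  refine ⟨Y.basicOpen h, ?_, ?_⟩
  · have h4 : y₀ ∈ hV.fromSpec ⁻¹ᵁ Y.basicOpen h := by
      rw [hV.fromSpec_preimage_basicOpen]
      exact hhp
    exact h4
  · exact Groth.Agent.Helper7.GeomConn.ZC.isIso_app_of_le f _
      (fun W' hW' hle => Groth.Agent.Helper7.GeomConn.ZC.isIso_app_of_le_affine f _ hUaff hiso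
        W' hW' hle)

end Main

end Groth.Agent.Lib.Helper4.FibFunc1
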