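import Mathlib
import Groth.Prelude.Def_ega3
import Groth.Agent.Lib.Helper1.VT13
import Groth.Agent.Lib.Helper1.PullGen2
import Groth.Agent.Lib.Helper1.TwForm4

/-!
# Spreading out a free generator of an invertible module from a fibre of a proper morphism (helper4)
-/

set_option backward.isDefEq.respectTransparency.types false
set_option synthInstance.maxHeartbeats 400000
set_option autoImplicit false
set_option linter.unusedSectionVars false
set_option linter.style.haveILetI false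
set_option linter.unusedSimpArgs false
universe u v w
open CategoryTheory
open CategoryTheory.Limits
open AlgebraicGeometry
open TopologicalSpace
open Opposite
open Groth.Agent.Helper1
open Groth.Agent.Helper1.QcCech
open Groth.Agent.Helper1.LGen
open Groth.Agent.Helper1.PullSec
open Groth.Agent.Helper1.PullGen
open Groth.Agent.Helper1.TwForm
open Groth.Agent.Helper1.VT

namespace Groth.Agent.Lib.Helper4.FibGen1

section G
variable {X S : Scheme.{u}} (f : X ⟶ S) {N : X.Modules} (hN : PicF.IsInvertible N)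

include hN in
/-- a section over the preimage of a neighbourhood of `y` whose pullback to the fibre is a free
generator generates `N` at every point of the fibre -/
theorem fibre_le_gl (y : S) (V : S.Opens) (s : Γ(N, f ⁻¹ᵁ V))
    (t : Γ((Scheme.Modules.pullback (f.fiberι y)).obj N, ⊤))
    (ht : IsGen ((Scheme.Modules.pullback (f.fiberι y)).obj N) ⊤ t)
    (c : Γ(f.fiber y, ⊤)) (hc : IsUnit c)
    (hle : (⊤ : (f.fiber y).Opens) ≤ (f.fiberι y) ⁻¹ᵁ (f ⁻¹ᵁ V))
    (hs : res _ hle (σ (f.fiberι y) N (f ⁻¹ᵁ V) s) = c • t) (x' : f.fiber y) :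
    f.fiberι y x' ∈ gl N s := by
  let φ := f.fiberι y
  obtain ⟨W₁, a, hxW₁, ha⟩ := exists_isGen hN (φ x')
  let W₂ : X.Opens := W₁ ⊓ f ⁻¹ᵁ V
  have hW₂V : W₂ ≤ f ⁻¹ᵁ V := inf_le_right
  have hx'V : φ x' ∈ f ⁻¹ᵁ V := hle (show x' ∈ (⊤ : (f.fiber y).Opens) from trivial)
  have hxW₂ : φ x' ∈ W₂ := ⟨hxW₁, hx'V⟩
  let a₂ : Γ(N, W₂) := res N inf_le_left a
  have ha₂ : IsGen N W₂ a₂ := ha.res _
  let s₂ : Γ(N, W₂) := res N hW₂V s
  obtain ⟨r, hr⟩ := ha₂.exists_coeff s₂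
  let O' : (f.fiber y).Opens := φ ⁻¹ᵁ W₂
  let r' : Γ(f.fiber y, O') := (φ.app W₂).hom r
  -- the pullback of `s₂` in two ways
  have h1 : σ φ N W₂ s₂ = r' • σ φ N W₂ a₂ := by
    rw [← hr, σ_smul]
  have h2 : σ φ N W₂ s₂ = resR (le_top : O' ≤ ⊤) c • res _ (le_top : O' ≤ ⊤) t := by
    have e1 := σ_res φ N hW₂V s
    rw [← res_smul, ← hs, res_res]
    exact e1.symm
  have hg1 : IsGen ((Scheme.Modules.pullback φ).obj N) O' (σ φ N W₂ a₂) := isGen_σ φ ha₂
  have hg2 : IsGen ((Scheme.Modules.pullback φ).obj N) O' (r' • σ φ N W₂ a₂) := by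
    rw [← h1, h2]
    exact IsGen.smul_unit (ht.res (le_top : O' ≤ ⊤)) (hc.map (resR (le_top : O' ≤ ⊤))).unit
  have hr' : IsUnit r' := isUnit_of_isGen_smul hg1 hg2
  -- the point lies in the basic open of `r`
  have hx3 : φ x' ∈ X.basicOpen r := by
    have e1 : φ ⁻¹ᵁ X.basicOpen r = (f.fiber y).basicOpen r' := Scheme.preimage_basicOpen φ r
    have e2 : (f.fiber y).basicOpen r' = O' := (f.fiber y).basicOpen_of_isUnit hr'
    have : x' ∈ φ ⁻¹ᵁ X.basicOpen r := by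
      rw [e1, e2]
      exact hxW₂
    exact this
  let W₃ : X.Opens := X.basicOpen r
  have hW₃ : W₃ ≤ W₂ := X.basicOpen_le r
  have hu : IsUnit (resR hW₃ r) := X.toRingedSpace.isUnit_res_basicOpen r
  have hg3 : IsGen N W₃ (res N (hW₃.trans hW₂V) s) := by
    have e : res N (hW₃.trans hW₂V) s = resR hW₃ r • res N hW₃ a₂ := by
      rw [← res_smul, hr, res_res]
    rw [e]
    exact IsGen.smul_unit (ha₂.res hW₃) hu.unit
  exact le_gl N s (hW₃.trans hW₂V) hg3 hx3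

include hN in
/-- **spreading out a generator from a fibre** (proper case) -/
theorem exists_isGen_preimage [IsProper f] (y : S) (V : S.Opens) (hyV : y ∈ V)
    (s : Γ(N, f ⁻¹ᵁ V))
    (t : Γ((Scheme.Modules.pullback (f.fiberι y)).obj N, ⊤))
    (ht : IsGen ((Scheme.Modules.pullback (f.fiberι y)).obj N) ⊤ t)
    (c : Γ(f.fiber y, ⊤)) (hc : IsUnit c)
    (hle : (⊤ : (f.fiber y).Opens) ≤ (f.fiberι y) ⁻¹ᵁ (f ⁻¹ᵁ V))
    (hs : res _ hle (σ (f.fiberι y) N (f ⁻¹ᵁ V) s) = c • t) :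
    ∃ (U : S.Opens) (hU : f ⁻¹ᵁ U ≤ f ⁻¹ᵁ V), y ∈ U ∧ IsGen N (f ⁻¹ᵁ U) (res N hU s) := by
  let G : X.Opens := gl N s
  have hfib : ∀ x : X, f x = y → x ∈ G := by
    intro x hx
    have : x ∈ Set.range (f.fiberι y) := by
      rw [Scheme.Hom.range_fiberι]
      exact hx
    obtain ⟨x', rfl⟩ := this
    exact fibre_le_gl f hN y V s t ht c hc hle hs x'
  have hcl : IsClosed (f '' (G : Set X)ᶜ) := f.isClosedMap _ G.isOpen.isClosed_compl
  let U : S.Opens := V ⊓ ⟨(f '' (G : Set X)ᶜ)ᶜ, hcl.isOpen_compl⟩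
  have hUG : f ⁻¹ᵁ U ≤ G := by
    intro x hx
    by_contra hxG
    exact hx.2 ⟨x, hxG, rfl⟩
  refine ⟨U, hUG.trans (gl_le N s), ⟨hyV, ?_⟩, isGen_of_le_gl N s hUG⟩
  rintro ⟨x, hxG, hxy⟩
  exact hxG (hfib x hxy)

end G

end Groth.Agent.Lib.Helper4.FibGen1
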