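import Mathlib
import Groth.Prelude.Def_ega3
import Groth.Agent.Lib.Helper4.FibLift2
import Groth.Agent.Lib.Helper4.ExchZero1
import Groth.Agent.Lib.Helper4.Grauert1

/-!
# Lifting sections from a fibre over a reduced base when h^0 of the fibres is locally constant (exchange property from flatness of the cokernel) (helper4) (helper4)
-/

set_option backward.isDefEq.respectTransparency.types false
set_option synthInstance.maxHeartbeats 400000
set_option autoImplicit false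
set_option linter.unusedSectionVars false
set_option linter.style.haveILetI false
set_option linter.unusedSimpArgs false
universe u v w
open CategoryTheory
open CategoryTheory.Limits
open AlgebraicGeometry
open TopologicalSpace
open Opposite
open TensorProduct
open MonoidalCategory
open Topology
open Groth.Agent.Helper1
open Groth.Agent.Helper1.QcCech
open Groth.Agent.Helper1.RpushLoc
open Groth.Agent.Helper1.FlatCxL
open Groth.Agent.Lib.Helper4.LocCech1
open Groth.Agent.Lib.Helper4.TenSec2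
open Groth.Agent.Lib.Helper4.CechTen1
open Groth.Agent.Lib.Helper4.CechTen2
open Groth.Agent.Lib.Helper4.BaseChgRing1
open Groth.Agent.Lib.Helper4.BCSec1
open Groth.Agent.Lib.Helper4.BCSec2
open Groth.Agent.Lib.Helper4.MumBC1
open Groth.Agent.Lib.Helper4.MumBC2
open Groth.Agent.Lib.Helper4.HomEl1
open Groth.Agent.Lib.Helper4.ExchAlg1
open Groth.Agent.Lib.Helper4.ExchAlg2
open Groth.Agent.Lib.Helper4.TruncAlg1
open Groth.Agent.Lib.Helper4.RedRank1
open Groth.Agent.Lib.Helper4.FibRank1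
open Groth.Agent.Lib.Helper4.ChartSq1
open Groth.Agent.Lib.Helper4.ChartFib1
open Groth.Agent.Lib.Helper4.ChartPkg1
open Groth.Agent.Lib.Helper4.RpushCoh1
open Groth.Agent.Lib.Helper4.HModDelta1
open Groth.Agent.Lib.Helper4.OpenVan1
open Groth.Agent.Lib.Helper4.FibLift1
open Groth.Agent.Lib.Helper4.FibLift2
open Groth.Agent.Lib.Helper4.SigmaFac1
open Groth.Agent.Lib.Helper4.CechCls1
open Groth.Agent.Lib.Helper4.GrauertAlg1

namespace Groth.Agent.Lib.Helper4.SeesawLift1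

section LiftP
variable {A L : Type u} [CommRing A] [IsNoetherianRing A] [Field L] (φ : A →+* L)
variable {X X' : Scheme.{u}} [X.Over (Spec (CommRingCat.of A))] [X'.Over (Spec (CommRingCat.of L))]
variable (g : X' ⟶ X) {F : X.Modules}

attribute [local instance] secMod

/-- **sections of the base change to a field of fractions lift, up to a denominator**, when the
degree-zero functor `T^0` of Mumford's complex preserves surjections -/
theorem exists_lift_section_of_presSurj [IsProper (X ↘ Spec (CommRingCat.of A))] [F.IsQuasicoherent]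
    (D : MData A X F)
    (hsq : IsPullback g (X' ↘ Spec (CommRingCat.of L)) (X ↘ Spec (CommRingCat.of A))
      (Spec.map (CommRingCat.ofHom φ)))
    (hP : PresSurj D.K 0)
    (hflat1 : Module.Flat A (Co F D.U 1))
    (hfrac : ∀ b : L, ∃ a s : A, φ s ≠ 0 ∧ b * φ s = φ a)
    (t : Γ(Fp g F, ⊤)) :
    ∃ (s : Γ(F, ⊤)) (b : A), φ b ≠ 0 ∧
      uAdd g F (le_top : (⊤ : X'.Opens) ≤ g ⁻¹ᵁ ⊤) s = φ b • t := by
  haveI := D.fin
  let M' : ModuleCat.{u} L := ModuleCat.of L L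
  -- the cocycle of `t`
  let τ : Co (Fp g F) (Up g D.U) 0 := fun a => res (Fp g F) le_top t
  have hτ : DdA L (Fp g F) (Up g D.U) 0 τ = 0 := by
    rw [DdA_apply]
    funext a
    rw [Dd_apply, Fin.sum_univ_two]
    simp only [Fin.val_zero, pow_zero, one_smul, Fin.val_one, pow_one, neg_smul]
    change res (Fp g F) _ (res (Fp g F) _ t) + -res (Fp g F) _ (res (Fp g F) _ t) = 0
    rw [res_res, res_res, add_neg_cancel]
  obtain ⟨ξ, hξ⟩ := (gamX_bijective φ g F D.U hsq D.haff M' 0).2 (τ ⊗ₜ[L] (1 : L))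
  have hξd : (DdA A F D.U 0).rTensor (rs φ M') ξ = 0 := by
    apply (gamX_bijective φ g F D.U hsq D.haff M' 1).1
    rw [gamX_d φ g F D.U hsq.w M' 0 ξ, hξ, LinearMap.rTensor_tmul, hτ, TensorProduct.zero_tmul,
      map_zero]
  -- the denominators
  let S : Submonoid A :=
    { carrier := {s | φ s ≠ 0}
      mul_mem' := fun {a b} ha hb => by
        change φ (a * b) ≠ 0
        rw [map_mul]
        exact mul_ne_zero ha hb
      one_mem' := by
        change φ 1 ≠ 0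
        rw [map_one]
        exact one_ne_zero }
  let e : rs φ M' := (1 : L)
  have hfrac' : ∀ n : rs φ M', ∃ a s : A, s ∈ S ∧ s • n = a • e := by
    intro n
    obtain ⟨a, s, hs, h⟩ := hfrac n
    refine ⟨a, s, hs, ?_⟩
    change φ s * (show L from n) = φ a * (1 : L)
    rw [mul_one, mul_comm]
    exact h
  obtain ⟨s, c, hs, hsc⟩ := exists_denominator (C0 := Co F D.U 0) S e hfrac' ξ
  -- the cocycle condition for `c ⊗ e`
  have h2 : (DdA A F D.U 0 c) ⊗ₜ[A] e = 0 := by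
    have := congrArg ((DdA A F D.U 0).rTensor (rs φ M')) hsc
    rw [map_smul, hξd, smul_zero, LinearMap.rTensor_tmul] at this
    exact this.symm
  -- the map `a ↦ a • e` and its kernel
  let ψ : A →ₗ[A] (rs φ M') := LinearMap.toSpanSingleton A (rs φ M') e
  have hψ1 : ψ 1 = e := one_smul A e
  let I : Submodule A A := LinearMap.ker ψ
  let ψb : (A ⧸ I) →ₗ[A] (rs φ M') := I.liftQ ψ le_rfl
  have hψb : Function.Injective ψb := by
    rw [← LinearMap.ker_eq_bot]
    exact Submodule.ker_liftQ_eq_bot _ _ _ le_rfl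
  have hψbe : ψb (I.mkQ 1) = e := by
    change I.liftQ ψ le_rfl (Submodule.Quotient.mk 1) = e
    rw [Submodule.liftQ_apply]
    exact hψ1
  have hinj1 : Function.Injective (ψb.lTensor (Co F D.U 1)) :=
    Module.Flat.lTensor_preserves_injective_linearMap ψb hψb
  have h3 : (DdA A F D.U 0 c) ⊗ₜ[A] (I.mkQ 1) = 0 := by
    apply hinj1
    rw [map_zero, LinearMap.lTensor_tmul, hψbe]
    exact h2
  -- `c ⊗ 1` is a cocycle with coefficients in `A ⧸ I`
  let N₀ : ModuleCat.{u} A := ModuleCat.of A (A ⧸ I)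
  have hc0 : c ⊗ₜ[A] (I.mkQ (1 : A)) ∈ ZC A F D.U N₀ := by
    change (DdA A F D.U 0).rTensor N₀ (c ⊗ₜ[A] (I.mkQ (1 : A))) = 0
    rw [LinearMap.rTensor_tmul]
    exact h3
  -- the exchange property lifts its class
  let q : ModuleCat.of A A ⟶ N₀ := ModuleCat.ofHom I.mkQ
  have hq : Function.Surjective q.hom := Submodule.mkQ_surjective I
  have hsurj : Function.Surjective ((CohIII.TFun (CZ A F D.U) 0).map q).hom := by
    intro x
    obtain ⟨w, hw⟩ := hP _ _ q hq (((D.eK 0).inv.app N₀).hom x)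
    refine ⟨((D.eK 0).hom.app _).hom w, ?_⟩
    have hnat : ((D.eK 0).hom.app N₀).hom (((CohIII.TFun D.K 0).map q).hom w) =
        ((CohIII.TFun (CZ A F D.U) 0).map q).hom (((D.eK 0).hom.app _).hom w) :=
      ConcreteCategory.congr_hom ((D.eK 0).hom.naturality q) w
    rw [← hnat, hw]
    exact ConcreteCategory.congr_hom ((D.eK 0).inv_hom_id_app N₀) x
  obtain ⟨cl, hcl⟩ := hsurj (clsC A F D.U N₀ ⟨_, hc0⟩)
  obtain ⟨ζ, rfl⟩ := clsC_surjective A F D.U (ModuleCat.of A A) cl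
  rw [clsC_natural] at hcl
  have hζ := congrArg Subtype.val (clsC_injective A F D.U N₀ hcl)
  change q.hom.lTensor (Co F D.U 0) ζ.1 = c ⊗ₜ[A] (I.mkQ (1 : A)) at hζ
  let z : Co F D.U 0 := TensorProduct.rid A (Co F D.U 0) ζ.1
  have hz1 : ζ.1 = z ⊗ₜ[A] (1 : A) := by
    have := (TensorProduct.rid A (Co F D.U 0)).symm_apply_apply ζ.1
    rw [TensorProduct.rid_symm_apply] at this
    exact this.symm
  have hzd : DdA A F D.U 0 z = 0 := by
    have h5 : (DdA A F D.U 0).rTensor (ModuleCat.of A A) ζ.1 = 0 := ζ.2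
    rw [hz1, LinearMap.rTensor_tmul] at h5
    have := congrArg (TensorProduct.rid A (Co F D.U 1)) h5
    rw [TensorProduct.rid_tmul, one_smul, map_zero] at this
    exact this
  have hze : z ⊗ₜ[A] e = s • ξ := by
    have h6 : z ⊗ₜ[A] (I.mkQ (1 : A)) = c ⊗ₜ[A] (I.mkQ (1 : A)) := by
      rw [hz1, LinearMap.lTensor_tmul] at hζ
      exact hζ
    have h7 := congrArg (ψb.lTensor (Co F D.U 0)) h6
    rw [LinearMap.lTensor_tmul, LinearMap.lTensor_tmul, hψbe] at h7
    rw [h7, hsc]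
  -- transport to the base change
  have h1 : (uCo g F D.U 0 z) ⊗ₜ[L] (1 : L) = (φ s • τ) ⊗ₜ[L] (1 : L) := by
    have := congrArg (gamX φ g F D.U hsq.w M' 0) hze
    rw [gamX_tmul, gamX_smul φ g F D.U hsq.w M' 0 s ξ, hξ, TensorProduct.smul_tmul'] at this
    exact this
  have h2' : uCo g F D.U 0 z = φ s • τ := by
    have := congrArg (TensorProduct.rid L (Co (Fp g F) (Up g D.U) 0)) h1
    rw [TensorProduct.rid_tmul, TensorProduct.rid_tmul, one_smul, one_smul] at this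
    exact this
  -- the global section
  have hz' : Dd F D.U 0 z = 0 := by rw [← DdA_apply A F D.U 0 z]; exact hzd
  obtain ⟨s₀, hs₀⟩ := exists_section_of_cocycle F D.U D.hcov z hz'
  refine ⟨s₀, s, hs, ?_⟩
  apply section_ext (Fp g F) (Up g D.U) (iSup_Up g D.U D.hcov)
  intro i
  have h3' := congrFun h2' (cst i)
  rw [uCo_apply, hs₀ (cst i)] at h3'
  have h4 := uAdd_res g F (le_top : (⊤ : X'.Opens) ≤ g ⁻¹ᵁ ⊤) (Wp_eq g D.U (cst i)).le
    (le_top : TCx.W D.U (cst i) ≤ ⊤) (le_top : TCx.W (Up g D.U) (cst i) ≤ ⊤) s₀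
  have h5 : res (Fp g F) (le_top : TCx.W (Up g D.U) (cst i) ≤ ⊤)
      (uAdd g F (le_top : (⊤ : X'.Opens) ≤ g ⁻¹ᵁ ⊤) s₀) =
      res (Fp g F) (le_top : TCx.W (Up g D.U) (cst i) ≤ ⊤) (φ s • t) := by
    rw [h4, h3']
    change φ s • res (Fp g F) _ t = _
    exact ((resA L (Fp g F) (le_top : TCx.W (Up g D.U) (cst i) ≤ ⊤)).map_smul (φ s) t).symm
  have h6 := congrArg (res (Fp g F) (le_W_cst (Up g D.U) i)) h5
  rw [res_res, res_res] at h6
  exact h6

end LiftP

section Chart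
variable {X S : Scheme.{u}} (f : X ⟶ S) [IsProper f] [IsLocallyNoetherian S]
  (F : X.Modules) (hF : Coh.IsCoh F) (hfl : FlatMod.IsFlatOver f F)

attribute [local instance] secMod

include hF hfl in
/-- over a reduced base, local constancy of `h^0` of the fibres makes `T^0` of the chart complex
preserve surjections -/
theorem presSurj_chart [IsReduced S] {V : S.Opens} (hV : IsAffineOpen V)
    (hconst : IsLocallyConstant (CohIII.fiberRank f F 0))
    (D : letI : (↑(f ⁻¹ᵁ V) : Scheme.{u}).Over (Spec (CommRingCat.of Γ(S, V))) := ⟨strMap f hV⟩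
      MData Γ(S, V) (↑(f ⁻¹ᵁ V) : Scheme.{u}) (F.restrict (f ⁻¹ᵁ V).ι))
    (hq : (F.restrict (f ⁻¹ᵁ V).ι).IsQuasicoherent) :
    letI : (↑(f ⁻¹ᵁ V) : Scheme.{u}).Over (Spec (CommRingCat.of Γ(S, V))) := ⟨strMap f hV⟩
    PresSurj D.K 0 := by
  letI : (↑(f ⁻¹ᵁ V) : Scheme.{u}).Over (Spec (CommRingCat.of Γ(S, V))) := ⟨strMap f hV⟩
  haveI : IsProper ((↑(f ⁻¹ᵁ V) : Scheme.{u}) ↘ Spec (CommRingCat.of Γ(S, V))) :=
    isProper_strMap f hV
  haveI : IsNoetherianRing Γ(S, V) := IsLocallyNoetherian.component_noetherian ⟨V, hV⟩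
  haveI : IsReduced Γ(S, V) := inferInstance
  haveI := hq
  haveI : ∀ i, Module.Finite Γ(S, V) (D.K.X i) := fun i => (D.hff i).1
  haveI : ∀ i, Module.Free Γ(S, V) (D.K.X i) := fun i => (D.hff i).2
  have hrank : ∀ (y' : ↑(Spec (CommRingCat.of Γ(S, V)))),
      CohIII.fiberRank f F 0 (hV.fromSpec y') + fibreRank (D.K.X (((0 : ℕ) : ℤ) + 1)) y' =
        fibreRank (Wq D.K (((0 : ℕ) : ℤ) - 1) ((0 : ℕ) : ℤ)) y' +
          fibreRank (Wq D.K ((0 : ℕ) : ℤ) (((0 : ℕ) : ℤ) + 1)) y' := by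
    intro y'
    obtain ⟨g, hg1, hsq⟩ := exists_fibre_square f hV y'
    letI : (f.fiber (hV.fromSpec y')).Over
        (Spec (CommRingCat.of (S.residueField (hV.fromSpec y')))) :=
      CohIII.fiberOver f (hV.fromSpec y')
    rw [fiberRank_eq_chart f hV y' F g hg1 0]
    exact MData.rank_add_of_square D (phiV hV y') (hfrac_phiV hV y') g hsq y' (ker_phiV hV y') 0
  have hρ : IsLocallyConstant (fibreRank (A := Γ(S, V)) (D.K.X (((0 : ℕ) : ℤ) + 1))) := by
    have : fibreRank (A := Γ(S, V)) (D.K.X (((0 : ℕ) : ℤ) + 1)) =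
        fun _ => Module.finrank Γ(S, V) (D.K.X (((0 : ℕ) : ℤ) + 1)) :=
      funext fun x => fibreRank_free _ x
    rw [this]
    exact IsLocallyConstant.const _
  have hh : IsLocallyConstant (fun y' : PrimeSpectrum Γ(S, V) =>
      CohIII.fiberRank f F 0 (hV.fromSpec y')) :=
    hconst.comp_continuous hV.fromSpec.continuous
  obtain ⟨hl1, hl2⟩ := isLocallyConstant_of_add
    (fibreRank (A := Γ(S, V)) (Wq D.K (((0 : ℕ) : ℤ) - 1) ((0 : ℕ) : ℤ)))
    (fibreRank (A := Γ(S, V)) (Wq D.K ((0 : ℕ) : ℤ) (((0 : ℕ) : ℤ) + 1)))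
    (fun y' : PrimeSpectrum Γ(S, V) => CohIII.fiberRank f F 0 (hV.fromSpec y'))
    (fibreRank (A := Γ(S, V)) (D.K.X (((0 : ℕ) : ℤ) + 1)))
    (fun x₀ => eventually_fibreRank_le _ x₀) (fun x₀ => eventually_fibreRank_le _ x₀)
    hh hρ (fun y => hrank y)
  have f2 : Module.Flat Γ(S, V) (Wq D.K ((0 : ℕ) : ℤ) (((0 : ℕ) : ℤ) + 1)) :=
    flat_of_isLocallyConstant_fibreRank _ hl2
  have h01 : ((0 : ℕ) : ℤ) = 0 := Nat.cast_zero
  rw [h01] at f2
  have h1 : (0 : ℤ) + 1 = 1 := by norm_num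
  rw [h1] at f2
  exact (presSurj_iff_flat D.K (-1) 0 1 (by norm_num) (by norm_num)).2 f2

include hF hfl in
/-- **lifting sections from a fibre over a reduced base**: if `h^0` of the fibres is locally
constant, a section of the restriction of `F` to the fibre lifts, up to a unit, to a section of `F`
over the preimage of a neighbourhood -/
theorem exists_lift_fibre_section_of_const [IsReduced S] (y : S)
    (hconst : IsLocallyConstant (CohIII.fiberRank f F 0))
    (t : Γ(CohIII.fiberMod f F y, ⊤)) :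
    ∃ (V : S.Opens) (_ : y ∈ V) (s : Γ(F, f ⁻¹ᵁ V)) (u : Γ(f.fiber y, ⊤))
      (hle : (⊤ : (f.fiber y).Opens) ≤ (f.fiberι y) ⁻¹ᵁ (f ⁻¹ᵁ V)), IsUnit u ∧
      res (CohIII.fiberMod f F y) hle (PullSec.σ (f.fiberι y) F (f ⁻¹ᵁ V) s) = u • t := by
  obtain ⟨_, ⟨V, hV, rfl⟩, hyV, -⟩ := S.isBasis_affineOpens.exists_subset_of_mem_open
    (Set.mem_univ y) isOpen_univ
  letI : (↑(f ⁻¹ᵁ V) : Scheme.{u}).Over (Spec (CommRingCat.of Γ(S, V))) := ⟨strMap f hV⟩
  haveI : IsProper ((↑(f ⁻¹ᵁ V) : Scheme.{u}) ↘ Spec (CommRingCat.of Γ(S, V))) :=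
    isProper_strMap f hV
  haveI : IsNoetherianRing Γ(S, V) := IsLocallyNoetherian.component_noetherian ⟨V, hV⟩
  haveI : F.IsQuasicoherent := hF.1
  have hFV : Coh.IsCoh (F.restrict (f ⁻¹ᵁ V).ι) :=
    Groth.Agent.Helper1.FinPush.isCoh_restrict _ F hF
  have hq : (F.restrict (f ⁻¹ᵁ V).ι).IsQuasicoherent := hFV.1
  haveI := hq
  have hflV : FlatMod.IsFlatOver ((↑(f ⁻¹ᵁ V) : Scheme.{u}) ↘ Spec (CommRingCat.of Γ(S, V)))
      (F.restrict (f ⁻¹ᵁ V).ι) := isFlatOver_restrict f hV F hfl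
  obtain ⟨D⟩ := nonempty_mdata Γ(S, V) (↑(f ⁻¹ᵁ V) : Scheme.{u}) (F.restrict (f ⁻¹ᵁ V).ι) hFV hflV
  haveI := D.fin
  have hP : PresSurj D.K 0 := presSurj_chart f F hF hfl hV hconst D hq
  have hflat : ∀ n, Module.Flat Γ(S, V) (Co (F.restrict (f ⁻¹ᵁ V).ι) D.U n) := fun n =>
    flat_CAN Γ(S, V) (F.restrict (f ⁻¹ᵁ V).ι) D.U hflV D.haff n
  -- the point of the chart
  obtain ⟨y₀, rfl⟩ : ∃ y₀ : ↑(Spec (CommRingCat.of Γ(S, V))), hV.fromSpec y₀ = y :=
    ⟨hV.primeIdealOf ⟨y, hyV⟩, hV.fromSpec_primeIdealOf ⟨y, hyV⟩⟩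
  obtain ⟨g, hg1, hsq⟩ := exists_fibre_square f hV y₀
  letI : (f.fiber (hV.fromSpec y₀)).Over
      (Spec (CommRingCat.of (S.residueField (hV.fromSpec y₀)))) :=
    CohIII.fiberOver f (hV.fromSpec y₀)
  let E := fibModIso f hV y₀ F g hg1
  let t' : Γ(Fp g (F.restrict (f ⁻¹ᵁ V).ι), ⊤) := E.inv.app ⊤ t
  obtain ⟨s₀, b, hb, hs₀⟩ := exists_lift_section_of_presSurj (phiV hV y₀) g D hsq hP (hflat 1)
    (hfrac_phiV hV y₀) t'
  -- translation to sections over opens of `X`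
  let j := (f ⁻¹ᵁ V).ι
  let W : X.Opens := f ⁻¹ᵁ V
  have hjW : j ''ᵁ ⊤ = W := Scheme.Opens.ι_image_top _
  let m : Γ(F, W) := res F (le_of_eq hjW.symm) (show Γ(F, j ''ᵁ ⊤) from s₀)
  have hjpre : j ⁻¹ᵁ W = ⊤ := Scheme.Opens.ι_preimage_self _
  have hle : (⊤ : (f.fiber (hV.fromSpec y₀)).Opens) ≤ (f.fiberι (hV.fromSpec y₀)) ⁻¹ᵁ W := by
    rw [← hg1]
    intro x _
    change j (g x) ∈ W
    exact (g x).2
  refine ⟨V, hyV, m, alphaRing (S.residueField (hV.fromSpec y₀)) (f.fiber (hV.fromSpec y₀)) ⊤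
    (phiV hV y₀ b), hle, ?_, ?_⟩
  · exact (IsUnit.mk0 _ hb).map _
  · have hm : res F (j.image_preimage_le W) m =
        res F (show j ''ᵁ (j ⁻¹ᵁ W) ≤ j ''ᵁ ⊤ from j.image_mono le_top)
          (show Γ(F, j ''ᵁ ⊤) from s₀) := res_res F _ _ _
    have key := sigma_factor j F g (f.fiberι (hV.fromSpec y₀)) hg1 W s₀ m hm hle
    refine key.trans ?_
    change E.hom.app ⊤ (uAdd g (F.restrict (f ⁻¹ᵁ V).ι) le_top s₀) = _
    rw [hs₀]
    change E.hom.app ⊤ (alphaRing (S.residueField (hV.fromSpec y₀)) (f.fiber (hV.fromSpec y₀)) ⊤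
      (phiV hV y₀ b) • t') = _
    refine (Scheme.Modules.Hom.app_smul E.hom _ t').trans ?_
    exact congrArg (fun z => alphaRing (S.residueField (hV.fromSpec y₀))
      (f.fiber (hV.fromSpec y₀)) ⊤ (phiV hV y₀ b) • z) (PullGen.iso_hom_inv_app E ⊤ t)

end Chart

end Groth.Agent.Lib.Helper4.SeesawLift1
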