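import Mathlib
import Groth.Prelude.Def_ega3
import Groth.Prelude.Def_Pic
import Groth.Agent.Lib.Helper4.SeesawLift1
import Groth.Agent.Lib.Helper4.FibGen1
import Groth.Agent.Lib.Helper4.FibFunc1
import Groth.Agent.Lib.Helper1.InvFt
import Groth.Agent.Lib.Helper1.InvInv2
import Groth.Agent.Lib.Helper1.AmpleLib2
import Groth.Agent.Lib.Helper1.HH0
import Groth.Agent.Lib.Helper1.AdjBC
import Groth.Agent.Lib.Helper5.Perf.RelPerf

/-!
# The seesaw theorem over a reduced base: a line bundle trivial on the fibres of a proper flat morphism with h^0(O_{X_y}) = 1 is pulled back from the base, its direct image is invertible and the counit is an isomorphism (helper4) (helper4)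
-/

set_option backward.isDefEq.respectTransparency.types false
set_option synthInstance.maxHeartbeats 400000
set_option autoImplicit false
set_option linter.unusedSectionVars false
set_option linter.style.haveILetI false
set_option linter.unusedSimpArgs false
universe u v w
open CategoryTheory
open CategoryTheory.Limits
open AlgebraicGeometry
open TopologicalSpace
open Opposite
open Groth.Agent.Helper1
open Groth.Agent.Helper1.QcCech
open Groth.Agent.Helper1.LGen
open Groth.Agent.Helper1.PullSec
open Groth.Agent.Helper1.PullGen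
open Groth.Agent.Helper1.TwForm
open Groth.Agent.Helper1.InvInv
open Groth.Agent.Lib.Helper4.FibGen1
open Groth.Agent.Lib.Helper4.FibFunc1
open Groth.Agent.Lib.Helper4.HModDelta1
open Groth.Agent.Lib.Helper4.SeesawLift1

namespace Groth.Agent.Lib.Helper4.Seesaw1

section A
variable {X Y : Scheme.{u}} (f : X ⟶ Y)

/-- `h^0` of a module trivial on the fibre -/
theorem fiberRank_zero_eq_one (L : X.Modules) (y : Y)
    (h0 : Module.finrank (Y.residueField y) Γ(f.fiber y, ⊤) = 1)
    (τ : CohIII.fiberMod f L y ≅ Coh.structureModule (f.fiber y)) :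
    CohIII.fiberRank f L 0 y = 1 := by
  letI : (f.fiber y).Over (Spec (CommRingCat.of (Y.residueField y))) := CohIII.fiberOver f y
  let e1 := ((HModF (Y.residueField y) (f.fiber y) 0).mapIso τ).toLinearEquiv
  let E := Groth.Agent.Helper1.HH0.equiv (f.fiber y) (Coh.structureModule (f.fiber y))
  let toG : ↑((Coh.structureModule (f.fiber y)).val.obj (op ⊤)) → Γ(f.fiber y, ⊤) := fun m => m
  let ofG : Γ(f.fiber y, ⊤) → ↑((Coh.structureModule (f.fiber y)).val.obj (op ⊤)) := fun m => m
  let e2 : Coh.HH (f.fiber y) (Coh.structureModule (f.fiber y)) 0 ≃ₗ[Y.residueField y]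
      Γ(f.fiber y, ⊤) :=
    { toFun := fun x => toG (E x)
      invFun := fun s => E.symm (ofG s)
      map_add' := fun x y => by
        show toG (E (x + y)) = toG (E x) + toG (E y)
        rw [map_add]; rfl
      map_smul' := fun a x => by
        show toG (E (a • x)) = algebraMap (Y.residueField y) Γ(f.fiber y, ⊤) a * toG (E x)
        rw [Groth.Agent.Helper1.HH0.equiv_smul_over]
        rfl
      left_inv := fun x => E.left_inv x
      right_inv := fun s => E.right_inv (ofG s) }
  have h1 := LinearEquiv.finrank_eq (e1.trans e2)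
  unfold CohIII.fiberRank
  exact h1.trans h0

theorem bijective_algebraMap_of_finrank (y : Y)
    (h0 : Module.finrank (Y.residueField y) Γ(f.fiber y, ⊤) = 1) :
    Function.Bijective (algebraMap (Y.residueField y) Γ(f.fiber y, ⊤)) :=
  (Algebra.finrank_eq_one_iff_bijective_algebraMap).1 h0

/-- a generator over the preimage of an open, where functions descend, generates the direct image -/
theorem isGen_pushforward (L : X.Modules) {U : Y.Opens} (s : Γ(L, f ⁻¹ᵁ U))
    (hgen : IsGen L (f ⁻¹ᵁ U) s)
    (hb : ∀ V : Y.Opens, V ≤ U → Function.Bijective (f.app V)) :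
    IsGen ((Scheme.Modules.pushforward f).obj L) U
      (show Γ((Scheme.Modules.pushforward f).obj L, U) from s) := by
  intro V hV
  have h1 := hgen (f ⁻¹ᵁ V) (f.preimage_mono hV)
  have h2 := hb V hV
  have : (fun r : Γ(Y, V) => r • res ((Scheme.Modules.pushforward f).obj L) hV
      (show Γ((Scheme.Modules.pushforward f).obj L, U) from s)) =
      (fun r' : Γ(X, f ⁻¹ᵁ V) => r' • res L (f.preimage_mono hV) s) ∘ (f.app V) := by
    funext r
    rfl
  rw [this]
  exact h1.comp h2

/-- the counit sends the pullback of a section of the direct image to the section -/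
theorem counit_app_σ (L : X.Modules) (U : Y.Opens) (s : Γ(L, f ⁻¹ᵁ U)) :
    ((Scheme.Modules.pullbackPushforwardAdjunction f).counit.app L).app (f ⁻¹ᵁ U)
      (σ f ((Scheme.Modules.pushforward f).obj L) U
        (show Γ((Scheme.Modules.pushforward f).obj L, U) from s)) = s := by
  have h := (Scheme.Modules.pullbackPushforwardAdjunction f).right_triangle_components L
  have h2 := congrArg (fun ψ => Scheme.Modules.Hom.app ψ U
    (show Γ((Scheme.Modules.pushforward f).obj L, U) from s)) h
  exact h2

theorem isInvertible_pushforward_of_locGen (L : X.Modules)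
    (h : ∀ y : Y, ∃ (U : Y.Opens) (s : Γ(L, f ⁻¹ᵁ U)), y ∈ U ∧ IsGen L (f ⁻¹ᵁ U) s ∧
      ∀ V : Y.Opens, V ≤ U → Function.Bijective (f.app V)) :
    PicF.IsInvertible ((Scheme.Modules.pushforward f).obj L) := by
  apply isInvertible_of_locGen
  intro y
  obtain ⟨U, s, hyU, hgen, hb⟩ := h y
  exact ⟨U, s, hyU, isGen_pushforward f L s hgen hb⟩

theorem isIso_counit_of_locGen (L : X.Modules)
    (h : ∀ y : Y, ∃ (U : Y.Opens) (s : Γ(L, f ⁻¹ᵁ U)), y ∈ U ∧ IsGen L (f ⁻¹ᵁ U) s ∧
      ∀ V : Y.Opens, V ≤ U → Function.Bijective (f.app V)) :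
    IsIso ((Scheme.Modules.pullbackPushforwardAdjunction f).counit.app L) := by
  apply AdjBC.isIso_of_restrict
  intro x
  obtain ⟨U, s, hyU, hgen, hb⟩ := h (f x)
  refine ⟨↑(f ⁻¹ᵁ U), (f ⁻¹ᵁ U).ι, inferInstance, by simpa using hyU, ?_⟩
  apply isIso_of_app_bijective
  intro W
  let ε := (Scheme.Modules.pullbackPushforwardAdjunction f).counit.app L
  let W' : X.Opens := (f ⁻¹ᵁ U).ι ''ᵁ W
  have hW' : W' ≤ f ⁻¹ᵁ U := (f ⁻¹ᵁ U).ι_image_le W
  change Function.Bijective (ε.app W')
  have hgP := isGen_σ f (isGen_pushforward f L s hgen hb)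
  have h1 := hgP W' hW'
  have h2 := hgen W' hW'
  have hcomp : (ε.app W') ∘ (fun r : Γ(X, W') => r • res _ hW'
      (σ f ((Scheme.Modules.pushforward f).obj L) U
        (show Γ((Scheme.Modules.pushforward f).obj L, U) from s))) =
      fun r => r • res L hW' s := by
    funext r
    change ε.app W' (r • res _ hW' (σ f ((Scheme.Modules.pushforward f).obj L) U
        (show Γ((Scheme.Modules.pushforward f).obj L, U) from s))) = r • res L hW' s
    rw [Scheme.Modules.Hom.app_smul]
    have h3 := QcExt.app_res ε hW' (σ f ((Scheme.Modules.pushforward f).obj L) U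
        (show Γ((Scheme.Modules.pushforward f).obj L, U) from s))
    have h4 := counit_app_σ f L U s
    refine congrArg (fun z => r • z) (h3.trans ?_)
    exact congrArg (res L hW') h4
  rw [← hcomp] at h2
  exact (Function.Bijective.of_comp_iff (ε.app W') h1).1 h2

/-- a module with a global free generator is trivial -/
theorem nonempty_iso_of_isGen_top {Z : Scheme.{u}} {A : Z.Modules} {a : Γ(A, ⊤)}
    (ha : IsGen A ⊤ a) : Nonempty (A ≅ Coh.structureModule Z) := by
  let φ := TwistAmple.homOfSec A a
  haveI : IsIso φ := by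
    apply isIso_of_app_bijective
    intro V
    exact ha V le_top
  exact ⟨(asIso φ).symm⟩

/-- a module pulled back from the base is trivial on every fibre -/
theorem trivial_on_fibre (M : Y.Modules) (hM : PicF.IsInvertible M) (L : X.Modules)
    (e : (Scheme.Modules.pullback f).obj M ≅ L) (y : Y) :
    Nonempty (CohIII.fiberMod f L y ≅ Coh.structureModule (f.fiber y)) := by
  obtain ⟨W, a, hyW, ha⟩ := exists_isGen hM y
  have h1 : IsGen ((Scheme.Modules.pullback f).obj M) (f ⁻¹ᵁ W) (σ f M W a) := isGen_σ f ha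
  have h2 : IsGen L (f ⁻¹ᵁ W) (e.hom.app _ (σ f M W a)) := PullGen.isGen_of_iso_app e h1
  have h3 := isGen_σ (f.fiberι y) h2
  have htop : (⊤ : (f.fiber y).Opens) ≤ (f.fiberι y) ⁻¹ᵁ (f ⁻¹ᵁ W) := by
    intro x _
    have hx : f.fiberι y x ∈ f ⁻¹' {y} := by
      rw [← Scheme.Hom.range_fiberι]
      exact Set.mem_range_self x
    change f (f.fiberι y x) ∈ W
    rw [show f (f.fiberι y x) = y from hx]
    exact hyW
  exact nonempty_iso_of_isGen_top (h3.res htop)

end A

section Main
variable {X Y : Scheme.{u}} (f : X ⟶ Y) [IsProper f] [Flat f] [IsLocallyNoetherian Y] [IsReduced Y]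

/-- near every fibre on which `L` is trivial, `L` has a free generator over the preimage of a
neighbourhood, and functions descend there -/
theorem exists_isGen_near_fibre
    (h0 : ∀ y : Y, Module.finrank (Y.residueField y) Γ(f.fiber y, ⊤) = 1)
    (L : X.Modules) (hL : PicF.IsInvertible L)
    (htriv : ∀ y : Y, Nonempty (CohIII.fiberMod f L y ≅ Coh.structureModule (f.fiber y))) (y : Y) :
    ∃ (U : Y.Opens) (s : Γ(L, f ⁻¹ᵁ U)), y ∈ U ∧ IsGen L (f ⁻¹ᵁ U) s ∧
      ∀ V : Y.Opens, V ≤ U → Function.Bijective (f.app V) := by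
  have hLcoh : Coh.IsCoh L := InvQc.isCoh_of_isInvertible L hL
  have hLfl : FlatMod.IsFlatOver f L :=
    Groth.Agent.Lib.Helper5.LpullLib.isFlatOver_of_isFinLocFree f L
      (InvInv2.isFinLocFree_of_isInvertible hL)
  have hconst : IsLocallyConstant (CohIII.fiberRank f L 0) := by
    have : CohIII.fiberRank f L 0 = fun _ => 1 := funext fun y' => by
      obtain ⟨τ⟩ := htriv y'
      exact fiberRank_zero_eq_one f L y' (h0 y') τ
    rw [this]
    exact IsLocallyConstant.const _
  obtain ⟨τ⟩ := htriv y
  let t : Γ(CohIII.fiberMod f L y, ⊤) := τ.inv.app ⊤ (TwForm.one' ⊤)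
  have ht : IsGen (CohIII.fiberMod f L y) ⊤ t :=
    PullGen.isGen_of_iso_app τ.symm (AmpleLib.isGen_one' ⊤)
  obtain ⟨V, hyV, s, c, hle, hc, hs⟩ :=
    exists_lift_fibre_section_of_const f L hLcoh hLfl y hconst t
  obtain ⟨U, hU, hyU, hgen⟩ := exists_isGen_preimage f hL y V hyV s t ht c hc hle hs
  obtain ⟨U₁, hyU₁, hU₁⟩ := s2393 f y (bijective_algebraMap_of_finrank f y (h0 y))
  refine ⟨U ⊓ U₁, res L (f.preimage_mono inf_le_left) (res L hU s), ⟨hyU, hyU₁⟩,
    hgen.res _, ?_⟩
  intro V' hV'
  have := hU₁ V' (hV'.trans inf_le_right)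
  exact (ConcreteCategory.isIso_iff_bijective _).1 this

theorem main
    (h0 : ∀ y : Y, Module.finrank (Y.residueField y) Γ(f.fiber y, ⊤) = 1)
    (L : X.Modules) (hL : PicF.IsInvertible L) :
    ((∃ M : Y.Modules, PicF.IsInvertible M ∧ Nonempty ((Scheme.Modules.pullback f).obj M ≅ L)) ↔
        ∀ y : Y, Nonempty (CohIII.fiberMod f L y ≅ Coh.structureModule (f.fiber y))) ∧
      ((∀ y : Y, Nonempty (CohIII.fiberMod f L y ≅ Coh.structureModule (f.fiber y))) →
        PicF.IsInvertible ((Scheme.Modules.pushforward f).obj L) ∧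
          IsIso ((Scheme.Modules.pullbackPushforwardAdjunction f).counit.app L)) := by
  have B : (∀ y : Y, Nonempty (CohIII.fiberMod f L y ≅ Coh.structureModule (f.fiber y))) →
      PicF.IsInvertible ((Scheme.Modules.pushforward f).obj L) ∧
        IsIso ((Scheme.Modules.pullbackPushforwardAdjunction f).counit.app L) := by
    intro htriv
    have hloc := fun y => exists_isGen_near_fibre f h0 L hL htriv y
    exact ⟨isInvertible_pushforward_of_locGen f L hloc, isIso_counit_of_locGen f L hloc⟩
  refine ⟨⟨?_, ?_⟩, B⟩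
  · rintro ⟨M, hM, ⟨e⟩⟩ y
    exact trivial_on_fibre f M hM L e y
  · intro htriv
    obtain ⟨h1, h2⟩ := B htriv
    haveI := h2
    exact ⟨_, h1, ⟨asIso ((Scheme.Modules.pullbackPushforwardAdjunction f).counit.app L)⟩⟩

end Main

end Groth.Agent.Lib.Helper4.Seesaw1
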