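import Mathlib
import Groth.Agent.Lib.Helper4.Hartogs4

/-!
# Connected components of U and X agree when depth >= 2 off U (S5153); Noetherian spaces are locally connected (helper4)
-/

set_option backward.isDefEq.respectTransparency.types false
set_option synthInstance.maxHeartbeats 400000
set_option autoImplicit false
set_option linter.unusedSectionVars false
set_option linter.style.haveILetI false
set_option linter.unusedSimpArgs false
universe u v w
open CategoryTheory CategoryTheory.Limits AlgebraicGeometry TopologicalSpace IsLocalRing Opposite Topology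
open Groth.Agent.Lib.Helper4.Hartogs4

namespace Groth.Agent.Lib.Helper4.ConnHartogs1

section top
variable {α : Type*} [TopologicalSpace α]

theorem isOpen_connectedComponent_of_noetherian [NoetherianSpace α] (y : α) :
    IsOpen (connectedComponent y) := by
  have hfin : (irreducibleComponents α).Finite := NoetherianSpace.finite_irreducibleComponents
  have hcompl : (connectedComponent y)ᶜ =
      ⋃ Z ∈ {Z ∈ irreducibleComponents α | ¬ Z ⊆ connectedComponent y}, Z := by
    ext z
    simp only [Set.mem_compl_iff, Set.mem_iUnion, Set.mem_setOf_eq, exists_prop]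
    constructor
    · intro hz
      refine ⟨irreducibleComponent z, ⟨irreducibleComponent_mem_irreducibleComponents z, ?_⟩,
        mem_irreducibleComponent⟩
      intro hsub
      exact hz (hsub mem_irreducibleComponent)
    · rintro ⟨Z, ⟨hZ, hsub⟩, hzZ⟩ hz
      apply hsub
      have hZpre : IsPreconnected Z := hZ.1.isPreirreducible.isPreconnected
      have : Z ⊆ connectedComponent z := hZpre.subset_connectedComponent hzZ
      rwa [← connectedComponent_eq hz] at this
  rw [← isClosed_compl_iff, hcompl]
  apply Set.Finite.isClosed_biUnion (hfin.subset (fun Z hZ => hZ.1))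
  intro Z hZ
  exact isClosed_of_mem_irreducibleComponents Z hZ.1

theorem locallyConnectedSpace_of_noetherian [NoetherianSpace α] : LocallyConnectedSpace α := by
  rw [locallyConnectedSpace_iff_connectedComponentIn_open]
  intro F hF x hx
  rw [connectedComponentIn_eq_image hx]
  haveI : NoetherianSpace F := inferInstance
  exact hF.isOpenMap_subtype_val _ (isOpen_connectedComponent_of_noetherian _)

theorem locallyConnectedSpace_of_open_cover
    (h : ∀ x : α, ∃ V : Set α, IsOpen V ∧ x ∈ V ∧ LocallyConnectedSpace V) :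
    LocallyConnectedSpace α := by
  rw [locallyConnectedSpace_iff_subsets_isOpen_isConnected]
  intro x N hN
  obtain ⟨V, hVo, hxV, hV⟩ := h x
  have hN' : (Subtype.val ⁻¹' N : Set V) ∈ 𝓝 (⟨x, hxV⟩ : V) :=
    continuous_subtype_val.continuousAt.preimage_mem_nhds hN
  obtain ⟨W, hWN, hWo, hxW, hWc⟩ :=
    (locallyConnectedSpace_iff_subsets_isOpen_isConnected.1 hV) ⟨x, hxV⟩ _ hN'
  refine ⟨Subtype.val '' W, ?_, hVo.isOpenMap_subtype_val _ hWo, ⟨⟨x, hxV⟩, hxW, rfl⟩,
    hWc.image _ continuous_subtype_val.continuousOn⟩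
  rintro _ ⟨w, hw, rfl⟩
  exact hWN hw

end top

instance locallyConnectedSpace_of_isLocallyNoetherian (X : Scheme.{u}) [IsLocallyNoetherian X] :
    LocallyConnectedSpace X := by
  apply locallyConnectedSpace_of_open_cover
  intro x
  obtain ⟨V, hV, hxV, -⟩ := Opens.isBasis_iff_nbhd.1 (X.isBasis_affineOpens) (show x ∈ (⊤ : X.Opens) from trivial)
  refine ⟨V, V.isOpen, hxV, ?_⟩
  haveI : IsNoetherianRing Γ(X, V) := IsLocallyNoetherian.component_noetherian ⟨V, hV⟩
  haveI : NoetherianSpace V := noetherianSpace_of_isAffineOpen V hV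
  exact locallyConnectedSpace_of_noetherian (α := V)


section main
variable {X : Scheme.{u}} (U : X.Opens)
  (hbij : ∀ W : X.Opens, Function.Bijective (X.presheaf.map (homOfLE (inf_le_left : W ⊓ U ≤ W)).op))

include hbij in
lemma eq_bot_of_inf_eq_bot (W : X.Opens) (hW : W ⊓ U = ⊥) : W = ⊥ := by
  by_contra hne
  have hne' : (W : Set X).Nonempty := by
    rw [Set.nonempty_iff_ne_empty]
    intro h
    exact hne (SetLike.ext' h)
  haveI : Nonempty W := hne'.to_subtype
  haveI : Nontrivial Γ(X, W) := inferInstance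
  haveI : Subsingleton Γ(X, W ⊓ U) := by rw [hW]; infer_instance
  exact zero_ne_one ((hbij W).1 (Subsingleton.elim _ _))

/-- the two-element cover -/
def Uf (A B : X.Opens) : ULift.{u} Bool → X.Opens := fun b => cond b.down A B

include hbij in
lemma not_separated (W A B : X.Opens) (hA : A ≤ W ⊓ U) (hB : B ≤ W ⊓ U) (hAB : A ⊓ B = ⊥)
    (hcov : W ⊓ U ≤ A ⊔ B) (hWconn : _root_.IsPreconnected (W : Set X))
    (hAne : (A : Set X).Nonempty) (hBne : (B : Set X).Nonempty) : False := by
  -- glue e
  have hBA : B ⊓ A = ⊥ := by rw [inf_comm]; exact hAB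
  obtain ⟨e, he, -⟩ := X.sheaf.existsUnique_gluing' (Uf A B) (W ⊓ U)
    (fun b => match b with
      | ⟨true⟩ => homOfLE hA
      | ⟨false⟩ => homOfLE hB)
    (by
      intro x hx
      rcases hcov hx with h | h
      · exact Opens.mem_iSup.2 ⟨⟨true⟩, h⟩
      · exact Opens.mem_iSup.2 ⟨⟨false⟩, h⟩)
    (fun b => match b with
      | ⟨true⟩ => (1 : Γ(X, A))
      | ⟨false⟩ => (0 : Γ(X, B)))
    (by
      rintro ⟨_ | _⟩ ⟨_ | _⟩
      · show X.presheaf.map _ (0 : Γ(X, B)) = X.presheaf.map _ (0 : Γ(X, B))
        rw [map_zero, map_zero]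
      · haveI : Subsingleton Γ(X, B ⊓ A) := by rw [hBA]; infer_instance
        exact Subsingleton.elim (α := Γ(X, B ⊓ A)) _ _
      · haveI : Subsingleton Γ(X, A ⊓ B) := by rw [hAB]; infer_instance
        exact Subsingleton.elim (α := Γ(X, A ⊓ B)) _ _
      · show X.presheaf.map _ (1 : Γ(X, A)) = X.presheaf.map _ (1 : Γ(X, A))
        rw [map_one, map_one])
  have heA : X.presheaf.map (homOfLE hA).op e = 1 := he ⟨true⟩
  have heB : X.presheaf.map (homOfLE hB).op e = 0 := he ⟨false⟩
  obtain ⟨e', he'⟩ := (hbij W).2 e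
  have hAW : A ≤ W := hA.trans inf_le_left
  have hBW : B ≤ W := hB.trans inf_le_left
  have he'A : X.presheaf.map (homOfLE hAW).op e' = 1 := by
    rw [← heA, ← he', res_res]
  have he'B : X.presheaf.map (homOfLE hBW).op e' = 0 := by
    rw [← heB, ← he', res_res]
  have h1A : X.presheaf.map (homOfLE hAW).op (1 - e') = 0 := by
    rw [map_sub, map_one, he'A, sub_self]
  have h1B : X.presheaf.map (homOfLE hBW).op (1 - e') = 1 := by
    rw [map_sub, map_one, he'B, sub_zero]
  -- basic opens
  have hAD1 : A ≤ X.basicOpen e' := by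
    have := X.basicOpen_res e' (homOfLE hAW).op
    rw [he'A, Scheme.basicOpen_one] at this
    rw [this]; exact inf_le_right
  have hBD2 : B ≤ X.basicOpen (1 - e') := by
    have := X.basicOpen_res (1 - e') (homOfLE hBW).op
    rw [h1B, Scheme.basicOpen_one] at this
    rw [this]; exact inf_le_right
  have hAD2 : A ⊓ X.basicOpen (1 - e') = ⊥ := by
    have := X.basicOpen_res (1 - e') (homOfLE hAW).op
    rw [h1A, Scheme.basicOpen_zero] at this
    exact this.symm
  have hBD1 : B ⊓ X.basicOpen e' = ⊥ := by
    have := X.basicOpen_res e' (homOfLE hBW).op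
    rw [he'B, Scheme.basicOpen_zero] at this
    exact this.symm
  have hdisj : X.basicOpen e' ⊓ X.basicOpen (1 - e') = ⊥ := by
    apply eq_bot_of_inf_eq_bot U hbij
    rw [eq_bot_iff]
    intro x hx
    have hxW : x ∈ W := X.basicOpen_le e' hx.1.1
    rcases hcov ⟨hxW, hx.2⟩ with h | h
    · have : x ∈ A ⊓ X.basicOpen (1 - e') := ⟨h, hx.1.2⟩
      rw [hAD2] at this; exact this
    · have : x ∈ B ⊓ X.basicOpen e' := ⟨h, hx.1.1⟩
      rw [hBD1] at this; exact this
  have hcovW : (W : Set X) ⊆ (X.basicOpen e' : Set X) ∪ (X.basicOpen (1 - e') : Set X) := by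
    intro x hx
    rcases IsLocalRing.isUnit_or_isUnit_one_sub_self (X.presheaf.germ W x hx e') with h | h
    · left
      exact (X.mem_basicOpen e' x hx).2 h
    · right
      rw [← map_one (X.presheaf.germ W x hx).hom, ← map_sub] at h
      exact (X.mem_basicOpen (1 - e') x hx).2 h
  obtain ⟨a, ha⟩ := hAne
  obtain ⟨b, hb⟩ := hBne
  obtain ⟨x, -, hx1, hx2⟩ := hWconn _ _ (X.basicOpen e').isOpen (X.basicOpen (1 - e')).isOpen hcovW
    ⟨a, hAW ha, hAD1 ha⟩ ⟨b, hBW hb, hBD2 hb⟩
  have : x ∈ X.basicOpen e' ⊓ X.basicOpen (1 - e') := ⟨hx1, hx2⟩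
  rw [hdisj] at this
  exact this

include hbij in
theorem pi0_bijective [LocallyConnectedSpace X] :
    Function.Bijective (Continuous.connectedComponentsMap
      (continuous_subtype_val : Continuous (fun x : U => (x : X)))) := by
  haveI h1 : LocallyConnectedSpace (U : Set X) := U.isOpen.locallyConnectedSpace
  haveI h2 : LocallyConnectedSpace U := h1
  constructor
  · intro a b hab
    obtain ⟨u, rfl⟩ := ConnectedComponents.surjective_coe a
    obtain ⟨u', rfl⟩ := ConnectedComponents.surjective_coe b
    rw [Continuous.connectedComponentsMap_mk, Continuous.connectedComponentsMap_mk,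
      ConnectedComponents.coe_eq_coe] at hab
    rw [ConnectedComponents.coe_eq_coe]
    by_contra hne
    -- the opens
    have hCo : IsOpen (connectedComponent (u : X)) := isOpen_connectedComponent
    have hAo : IsOpen (Subtype.val '' (connectedComponent u) : Set X) :=
      U.isOpen.isOpenMap_subtype_val _ isOpen_connectedComponent
    have hBo : IsOpen (Subtype.val '' (connectedComponent u)ᶜ : Set X) :=
      U.isOpen.isOpenMap_subtype_val _ isClosed_connectedComponent.isOpen_compl
    have hAsub : (Subtype.val '' (connectedComponent u) : Set X) ⊆ connectedComponent (u : X) := by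
      apply IsPreconnected.subset_connectedComponent
      · exact isPreconnected_connectedComponent.image _ continuous_subtype_val.continuousOn
      · exact ⟨u, mem_connectedComponent, rfl⟩
    apply not_separated U hbij ⟨connectedComponent (u : X), hCo⟩
      ⟨Subtype.val '' (connectedComponent u), hAo⟩
      ⟨Subtype.val '' (connectedComponent u)ᶜ ∩ connectedComponent (u : X), hBo.inter hCo⟩
    · rintro _ ⟨w, hw, rfl⟩
      exact ⟨hAsub ⟨w, hw, rfl⟩, w.2⟩
    · rintro _ ⟨⟨w, hw, rfl⟩, hC⟩
      exact ⟨hC, w.2⟩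
    · rw [eq_bot_iff]
      rintro _ ⟨⟨w, hw, rfl⟩, ⟨⟨w', hw', hww'⟩, -⟩⟩
      have : w' = w := Subtype.ext hww'
      subst this
      exact hw' hw
    · rintro x ⟨hxC, hxU⟩
      by_cases hx : (⟨x, hxU⟩ : U) ∈ connectedComponent u
      · left; exact ⟨⟨x, hxU⟩, hx, rfl⟩
      · right; exact ⟨⟨⟨x, hxU⟩, hx, rfl⟩, hxC⟩
    · exact isPreconnected_connectedComponent
    · exact ⟨u, u, mem_connectedComponent, rfl⟩
    · refine ⟨u', ⟨u', ?_, rfl⟩, ?_⟩
      · intro h
        exact hne (connectedComponent_eq h)
      · show (u' : X) ∈ connectedComponent (u : X)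
        rw [hab]; exact mem_connectedComponent
  · intro c
    obtain ⟨x, rfl⟩ := ConnectedComponents.surjective_coe c
    have hCo : IsOpen (connectedComponent x) := isOpen_connectedComponent
    have hne : (⟨connectedComponent x, hCo⟩ : X.Opens) ⊓ U ≠ ⊥ := by
      intro h
      have := eq_bot_of_inf_eq_bot U hbij _ h
      have hx : x ∈ (⟨connectedComponent x, hCo⟩ : X.Opens) := mem_connectedComponent
      rw [this] at hx
      exact hx
    obtain ⟨y, hy⟩ : ((⟨connectedComponent x, hCo⟩ : X.Opens) ⊓ U : Set X).Nonempty := by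
      rw [Set.nonempty_iff_ne_empty]
      intro h
      exact hne (SetLike.ext' h)
    refine ⟨ConnectedComponents.mk (⟨y, hy.2⟩ : U), ?_⟩
    rw [Continuous.connectedComponentsMap_mk, ConnectedComponents.coe_eq_coe]
    exact (connectedComponent_eq hy.1).symm

end main

theorem S5153_main (X : Scheme.{u}) [IsLocallyNoetherian X] (U : X.Opens)
    (h : ∀ x : X, x ∉ (U : Set X) → (2 : ℕ∞) ≤ LocCoh.depth (X.presheaf.stalk x) (X.presheaf.stalk x)) :
    Function.Bijective (Continuous.connectedComponentsMap
      (continuous_subtype_val : Continuous (fun x : U => (x : X)))) := by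
  apply pi0_bijective U
  have h' : ∀ V : X.Opens, IsAffineOpen V →
      Function.Bijective (X.presheaf.map (homOfLE (inf_le_left : V ⊓ U ≤ V)).op) := by
    intro V hV
    have := affine_res_isIso U h V hV
    rw [ConcreteCategory.isIso_iff_bijective] at this
    exact this
  intro W
  exact ⟨res_injective U (fun V hV => (h' V hV).1) W, res_surjective U h' W⟩

end Groth.Agent.Lib.Helper4.ConnHartogs1
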