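import Mathlib
import Groth.Agent.Lib.Helper4.ConnHartogs1

/-!
# Connected components of fibres are exhausted by connected components of fibres of quasi-compact open subschemes (helper4) (helper4)
-/

set_option backward.isDefEq.respectTransparency.types false
set_option synthInstance.maxHeartbeats 400000
set_option autoImplicit false
set_option linter.unusedSectionVars false
set_option linter.style.haveILetI false
set_option linter.unusedSimpArgs false
universe u v w
open CategoryTheory CategoryTheory.Limits AlgebraicGeometry TopologicalSpace Topology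
open Groth.Agent.Lib.Helper4.ConnHartogs1

namespace Groth.Agent.Lib.Helper4.QCRed1

/-- In a locally connected space covered by a family of open sets closed under binary unions,
every point of the connected component of `p` lies in the connected component of `p` in a
member of the family. -/
theorem exists_mem_connectedComponentIn_of_cover {T : Type*} [TopologicalSpace T]
    [LocallyConnectedSpace T] (𝒲 : Set (Set T)) (hopen : ∀ W ∈ 𝒲, IsOpen W)
    (hunion : ∀ W₁ ∈ 𝒲, ∀ W₂ ∈ 𝒲, W₁ ∪ W₂ ∈ 𝒲) (hcov : ∀ t : T, ∃ W ∈ 𝒲, t ∈ W) (p t : T)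
    (ht : t ∈ connectedComponent p) :
    ∃ W ∈ 𝒲, p ∈ W ∧ t ∈ connectedComponentIn W p := by
  let C : Set T := {t | ∃ W ∈ 𝒲, p ∈ W ∧ t ∈ connectedComponentIn W p}
  have hpC : p ∈ C := by
    obtain ⟨W, hW, hpW⟩ := hcov p
    exact ⟨W, hW, hpW, mem_connectedComponentIn hpW⟩
  have hCopen : IsOpen C := by
    rw [isOpen_iff_forall_mem_open]
    rintro t ⟨W, hW, hpW, htW⟩
    refine ⟨connectedComponentIn W p, ?_, (hopen W hW).connectedComponentIn, htW⟩
    intro t' ht'
    exact ⟨W, hW, hpW, ht'⟩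
  have hCclosed : IsClosed C := by
    rw [← closure_subset_iff_isClosed]
    intro t ht
    obtain ⟨W₁, hW₁, htW₁⟩ := hcov t
    have hNopen : IsOpen (connectedComponentIn W₁ t) := (hopen W₁ hW₁).connectedComponentIn
    have htN : t ∈ connectedComponentIn W₁ t := mem_connectedComponentIn htW₁
    obtain ⟨c, hcN, W, hW, hpW, hcW⟩ := mem_closure_iff.mp ht _ hNopen htN
    refine ⟨W ∪ W₁, hunion W hW W₁ hW₁, Or.inl hpW, ?_⟩
    have hpre : IsPreconnected (connectedComponentIn W p ∪ connectedComponentIn W₁ t) :=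
      IsPreconnected.union c hcW hcN isPreconnected_connectedComponentIn
        isPreconnected_connectedComponentIn
    have hsub : connectedComponentIn W p ∪ connectedComponentIn W₁ t ⊆ W ∪ W₁ :=
      Set.union_subset_union (connectedComponentIn_subset W p) (connectedComponentIn_subset W₁ t)
    exact hpre.subset_connectedComponentIn (Or.inl (mem_connectedComponentIn hpW)) hsub
      (Or.inr htN)
  have hclopen : IsClopen C := ⟨hCclosed, hCopen⟩
  exact hclopen.connectedComponent_subset hpC ht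

/-- a point of the connected component of `p` in a fibre of a morphism locally of finite type
lies in the connected component of `p` in the fibre of a quasi-compact open subscheme -/
theorem exists_compact_open_connectedComponentIn {X Y : Scheme.{u}} (f : X ⟶ Y)
    [LocallyOfFiniteType f] (y : Y) (p x : X) (hx : x ∈ connectedComponentIn (f ⁻¹' {y}) p) :
    ∃ W : X.Opens, IsCompact (W : Set X) ∧ p ∈ W ∧
      x ∈ connectedComponentIn ((W : Set X) ∩ f ⁻¹' {y}) p := by
  have hpF : p ∈ f ⁻¹' {y} := by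
    by_contra h
    rw [connectedComponentIn_eq_empty h] at hx
    exact hx
  haveI : LocallyOfFiniteType (f.fiberToSpecResidueField y) :=
    MorphismProperty.pullback_snd (P := @LocallyOfFiniteType) _ _ inferInstance
  haveI : IsLocallyNoetherian (f.fiber y) :=
    LocallyOfFiniteType.isLocallyNoetherian (f.fiberToSpecResidueField y)
  haveI : LocallyConnectedSpace ↥(f.fiber y) :=
    locallyConnectedSpace_of_isLocallyNoetherian (f.fiber y)
  haveI : LocallyConnectedSpace ↥(f ⁻¹' {y}) :=
    (f.fiberHomeo y).symm.isOpenEmbedding.locallyConnectedSpace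
  let 𝒲 : Set (Set ↥(f ⁻¹' {y})) :=
    {W' | ∃ W : X.Opens, IsCompact (W : Set X) ∧ W' = Subtype.val ⁻¹' (W : Set X)}
  have hopen : ∀ W' ∈ 𝒲, IsOpen W' := by
    rintro _ ⟨W, -, rfl⟩
    exact W.isOpen.preimage continuous_subtype_val
  have hunion : ∀ W₁ ∈ 𝒲, ∀ W₂ ∈ 𝒲, W₁ ∪ W₂ ∈ 𝒲 := by
    rintro _ ⟨W₁, h₁, rfl⟩ _ ⟨W₂, h₂, rfl⟩
    exact ⟨W₁ ⊔ W₂, by rw [Opens.coe_sup]; exact h₁.union h₂, by rw [Opens.coe_sup]; rfl⟩
  have hcov : ∀ t : ↥(f ⁻¹' {y}), ∃ W' ∈ 𝒲, t ∈ W' := by
    intro t
    obtain ⟨_, ⟨W, hW, rfl⟩, htW, -⟩ :=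
      X.isBasis_affineOpens.exists_subset_of_mem_open (Set.mem_univ t.1) isOpen_univ
    have hW' : IsAffineOpen W := hW
    exact ⟨_, ⟨W, hW'.isCompact, rfl⟩, htW⟩
  have hxF : x ∈ f ⁻¹' {y} := connectedComponentIn_subset _ _ hx
  have hx' : (⟨x, hxF⟩ : ↥(f ⁻¹' {y})) ∈ connectedComponent (⟨p, hpF⟩ : ↥(f ⁻¹' {y})) := by
    rw [connectedComponentIn_eq_image hpF] at hx
    obtain ⟨t, ht, htx⟩ := hx
    have : t = ⟨x, hxF⟩ := Subtype.ext htx
    rwa [← this]
  obtain ⟨_, ⟨W, hWc, rfl⟩, hpW, htW⟩ :=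
    exists_mem_connectedComponentIn_of_cover 𝒲 hopen hunion hcov _ _ hx'
  refine ⟨W, hWc, hpW, ?_⟩
  have hpre : _root_.IsPreconnected ((Subtype.val : ↥(f ⁻¹' {y}) → X) ''
      connectedComponentIn (Subtype.val ⁻¹' (W : Set X)) ⟨p, hpF⟩) :=
    isPreconnected_connectedComponentIn.image _ continuous_subtype_val.continuousOn
  refine hpre.subset_connectedComponentIn ⟨_, mem_connectedComponentIn hpW, rfl⟩ ?_
    ⟨_, htW, rfl⟩
  rintro _ ⟨t, ht, rfl⟩
  exact ⟨(connectedComponentIn_subset (Subtype.val ⁻¹' (W : Set X)) _) ht, t.2⟩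

end Groth.Agent.Lib.Helper4.QCRed1
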