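import Mathlib
import Groth.Agent.S0421
import Groth.Agent.Lib.Helper4.ConnHartogs1
import Groth.Agent.Lib.Helper7.GeomConn.SectionComp
import Groth.Agent.Lib.Helper7.NearGen.Fibres

/-!
# Two points of Spec of a DVR; connected components of closed fibres are relatively open (helper4)
-/

set_option backward.isDefEq.respectTransparency.types false
set_option synthInstance.maxHeartbeats 400000
set_option autoImplicit false
set_option linter.unusedSectionVars false
set_option linter.style.haveILetI false
set_option linter.unusedSimpArgs false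
universe u v w
open CategoryTheory CategoryTheory.Limits AlgebraicGeometry TopologicalSpace Topology
open Groth.Agent.Helper7.GeomConn Groth.Agent.Lib.Helper4.ConnHartogs1

namespace Groth.Agent.Lib.Helper4.DVRSec1

/-- The spectrum of a discrete valuation ring has exactly two points. -/
theorem eq_generic_of_ne_closedPoint {R : Type u} [CommRing R] [IsDomain R]
    [IsDiscreteValuationRing R] (t : PrimeSpectrum R) (ht : t ≠ IsLocalRing.closedPoint R) :
    t = ⟨⊥, Ideal.isPrime_bot⟩ := by
  by_contra hne
  apply ht
  have h1 : t.asIdeal ≠ ⊥ := fun h => hne (PrimeSpectrum.ext h)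
  have h2 : t.asIdeal.IsMaximal := Ring.DimensionLEOne.maximalOfPrime h1 t.2
  exact PrimeSpectrum.ext (IsLocalRing.eq_maximalIdeal h2)

/-- The connected component of a point in a closed locally Noetherian fibre is relatively open:
its complement in the fibre is closed in the ambient space. -/
theorem isClosed_fibre_diff_connectedComponentIn {X Y : Scheme.{u}} (f : X ⟶ Y)
    [LocallyOfFiniteType f] (y : Y) (hy : IsClosed ({y} : Set Y)) (x₀ : X) (hx₀ : f x₀ = y) :
    IsClosed (f ⁻¹' {y} \ connectedComponentIn (f ⁻¹' {y}) x₀) := by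
  haveI : LocallyOfFiniteType (f.fiberToSpecResidueField y) :=
    MorphismProperty.pullback_snd (P := @LocallyOfFiniteType) _ _ inferInstance
  haveI : IsLocallyNoetherian (f.fiber y) :=
    LocallyOfFiniteType.isLocallyNoetherian (f.fiberToSpecResidueField y)
  obtain ⟨z₀, rfl⟩ := Groth.Agent.Helper7.NearGen.exists_fiberι_eq f y x₀ hx₀
  rw [connectedComponentIn_range_embedding (f.fiberι y).isEmbedding _ (f.range_fiberι y)]
  have hopen : IsOpen (connectedComponent z₀) := isOpen_connectedComponent
  obtain ⟨W, hW, hWz⟩ := (f.fiberι y).isEmbedding.isInducing.isOpen_iff.mp hopen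
  have : f ⁻¹' {y} \ (f.fiberι y) '' connectedComponent z₀ = f ⁻¹' {y} \ W := by
    ext x
    constructor
    · rintro ⟨hx1, hx2⟩
      refine ⟨hx1, fun hxW => hx2 ?_⟩
      obtain ⟨z, rfl⟩ := Groth.Agent.Helper7.NearGen.exists_fiberι_eq f y x hx1
      refine ⟨z, ?_, rfl⟩
      rw [← hWz]
      exact hxW
    · rintro ⟨hx1, hx2⟩
      refine ⟨hx1, ?_⟩
      rintro ⟨z, hz, rfl⟩
      apply hx2
      rw [← hWz] at hz
      exact hz
  rw [this]
  exact (hy.preimage f.continuous).sdiff hW

end Groth.Agent.Lib.Helper4.DVRSec1
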