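import Mathlib

/-!
# Common localization of two finitely generated subalgebras of a field (helper4)
-/

set_option backward.isDefEq.respectTransparency.types false
set_option synthInstance.maxHeartbeats 400000
set_option autoImplicit false
set_option linter.unusedSectionVars false
set_option linter.style.haveILetI false
set_option linter.unusedSimpArgs false
universe u v w

namespace Groth.Agent.Lib.Helper4.GIBir1

section LocSub

variable {R : Type*} [CommRing R] {L : Type*} [Field L] [Algebra R L]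

/-- the subalgebra `X[1/h]` of a field, for `h ∈ X` -/
def locSub (X : Subalgebra R L) (h : X) : Subalgebra R L where
  carrier := {z | ∃ n : ℕ, z * (h : L) ^ n ∈ X}
  mul_mem' := by
    rintro a b ⟨n, hn⟩ ⟨m, hm⟩
    refine ⟨n + m, ?_⟩
    have : a * b * (h : L) ^ (n + m) = (a * (h : L) ^ n) * (b * (h : L) ^ m) := by ring
    rw [this]
    exact X.mul_mem hn hm
  add_mem' := by
    rintro a b ⟨n, hn⟩ ⟨m, hm⟩
    refine ⟨n + m, ?_⟩
    have : (a + b) * (h : L) ^ (n + m) =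
        (a * (h : L) ^ n) * (h : L) ^ m + (b * (h : L) ^ m) * (h : L) ^ n := by ring
    rw [this]
    exact X.add_mem (X.mul_mem hn (X.pow_mem h.2 m)) (X.mul_mem hm (X.pow_mem h.2 n))
  algebraMap_mem' := fun r => ⟨0, by simpa using X.algebraMap_mem r⟩

lemma mem_locSub {X : Subalgebra R L} {h : X} {z : L} :
    z ∈ locSub X h ↔ ∃ n : ℕ, z * (h : L) ^ n ∈ X := Iff.rfl

lemma le_locSub (X : Subalgebra R L) (h : X) : X ≤ locSub X h :=
  fun z hz => ⟨0, by simpa using hz⟩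

lemma inv_mem_locSub (X : Subalgebra R L) (h : X) (h0 : (h : L) ≠ 0) :
    (h : L)⁻¹ ∈ locSub X h :=
  ⟨1, by rw [pow_one, inv_mul_cancel₀ h0]; exact X.one_mem⟩

lemma locSub_le {X Y : Subalgebra R L} {h : X} (hXY : X ≤ Y) (hinv : (h : L)⁻¹ ∈ Y)
    (h0 : (h : L) ≠ 0) : locSub X h ≤ Y := by
  rintro z ⟨n, hn⟩
  have : z = (z * (h : L) ^ n) * ((h : L)⁻¹) ^ n := by
    rw [mul_assoc, ← mul_pow, mul_inv_cancel₀ h0, one_pow, mul_one]
  rw [this]
  exact Y.mul_mem (hXY hn) (Y.pow_mem hinv n)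

/-- `X[1/h]` is the localization of `X` away from `h` -/
theorem isLocalization_away_of_eq_locSub {X D : Subalgebra R L} (h : X) (h0 : (h : L) ≠ 0)
    (hD : D = locSub X h) :
    letI : Algebra X D := (Subalgebra.inclusion (hD ▸ le_locSub X h)).toRingHom.toAlgebra
    IsLocalization.Away h D := by
  letI : Algebra X D := (Subalgebra.inclusion (hD ▸ le_locSub X h)).toRingHom.toAlgebra
  have halg : ∀ x : X, ((algebraMap X D x : D) : L) = (x : L) := fun x => rfl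
  have hinvD : (h : L)⁻¹ ∈ D := hD ▸ inv_mem_locSub X h h0
  refine ⟨?_, ?_, ?_⟩
  · rintro ⟨_, n, rfl⟩
    rw [isUnit_iff_exists_inv]
    refine ⟨⟨((h : L)⁻¹) ^ n, D.pow_mem hinvD n⟩, ?_⟩
    apply Subtype.ext
    simp only [map_pow, MulMemClass.coe_mul, SubmonoidClass.coe_pow, halg, OneMemClass.coe_one]
    rw [← mul_pow, mul_inv_cancel₀ h0, one_pow]
  · intro z
    have hz : (z : L) ∈ locSub X h := hD ▸ z.2
    obtain ⟨n, hn⟩ := hz
    refine ⟨(⟨_, hn⟩, ⟨h ^ n, n, rfl⟩), ?_⟩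
    apply Subtype.ext
    simp only [map_pow, MulMemClass.coe_mul, SubmonoidClass.coe_pow, halg]
  · intro x y hxy
    refine ⟨1, ?_⟩
    have : (x : L) = (y : L) := by
      rw [← halg x, ← halg y, hxy]
    simp only [OneMemClass.coe_one, one_mul]
    exact Subtype.ext this


lemma locSub_mono_mul {X : Subalgebra R L} (h x : X) : locSub X h ≤ locSub X (h * x) := by
  rintro z ⟨n, hn⟩
  refine ⟨n, ?_⟩
  have : z * ((h * x : X) : L) ^ n = (z * (h : L) ^ n) * (x : L) ^ n := by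
    push_cast; ring
  rw [this]
  exact X.mul_mem hn (X.pow_mem x.2 n)

/-- a finitely generated subalgebra all of whose elements are fractions from `X` lies in
some `X[1/h]` -/
lemma exists_le_locSub (X Y : Subalgebra R L) (hY : Y.FG)
    (hfrac : ∀ z : L, ∃ x y : X, (y : L) ≠ 0 ∧ z * (y : L) = (x : L)) :
    ∃ h : X, (h : L) ≠ 0 ∧ Y ≤ locSub X h := by
  classical
  obtain ⟨S, rfl⟩ := hY
  choose x y hy hxy using hfrac
  refine ⟨∏ s ∈ S, y s, ?_, ?_⟩
  · push_cast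
    exact Finset.prod_ne_zero_iff.mpr fun s _ => hy s
  · apply Algebra.adjoin_le
    intro s hs
    refine ⟨1, ?_⟩
    rw [pow_one]
    have h1 : (∏ t ∈ S, y t : X) = y s * ∏ t ∈ S.erase s, y t :=
      (Finset.mul_prod_erase S y hs).symm
    rw [h1]
    push_cast
    rw [← mul_assoc, hxy s]
    exact X.mul_mem (x s).2 (Subalgebra.prod_mem _ fun t _ => (y t).2)

/-- **Birational lemma**: two finitely generated subalgebras of a field, each having the
whole field as its field of fractions, have a common localization. -/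
theorem exists_locSub_eq (X₁ X₂ : Subalgebra R L) (hfg₁ : X₁.FG) (hfg₂ : X₂.FG)
    (hfrac₁ : ∀ z : L, ∃ x y : X₁, (y : L) ≠ 0 ∧ z * (y : L) = (x : L))
    (hfrac₂ : ∀ z : L, ∃ x y : X₂, (y : L) ≠ 0 ∧ z * (y : L) = (x : L)) :
    ∃ (h : X₁) (g : X₂), (h : L) ≠ 0 ∧ (g : L) ≠ 0 ∧ locSub X₁ h = locSub X₂ g := by
  obtain ⟨h₀, hh₀, hle₂⟩ := exists_le_locSub X₁ X₂ hfg₂ hfrac₁
  obtain ⟨g₀, hg₀, hle₁⟩ := exists_le_locSub X₂ X₁ hfg₁ hfrac₂
  obtain ⟨k, hk⟩ := hle₁ h₀.2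
  obtain ⟨m, hm⟩ := hle₂ g₀.2
  -- x₂ = h₀ g₀^k ∈ X₂, x₁ = g₀ h₀^m ∈ X₁
  let x₂ : X₂ := ⟨_, hk⟩
  let x₁ : X₁ := ⟨_, hm⟩
  have hx₂ : (x₂ : L) = (h₀ : L) * (g₀ : L) ^ k := rfl
  have hx₁ : (x₁ : L) = (g₀ : L) * (h₀ : L) ^ m := rfl
  have hx₂0 : (x₂ : L) ≠ 0 := by rw [hx₂]; exact mul_ne_zero hh₀ (pow_ne_zero _ hg₀)
  have hx₁0 : (x₁ : L) ≠ 0 := by rw [hx₁]; exact mul_ne_zero hg₀ (pow_ne_zero _ hh₀)
  refine ⟨h₀ * x₁, g₀ * x₂, ?_, ?_, ?_⟩
  · push_cast; exact mul_ne_zero hh₀ hx₁0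
  · push_cast; exact mul_ne_zero hg₀ hx₂0
  · have hh : ((h₀ * x₁ : X₁) : L) ≠ 0 := by push_cast; exact mul_ne_zero hh₀ hx₁0
    have hg : ((g₀ * x₂ : X₂) : L) ≠ 0 := by push_cast; exact mul_ne_zero hg₀ hx₂0
    set D₁ := locSub X₁ (h₀ * x₁) with hD₁
    set D₂ := locSub X₂ (g₀ * x₂) with hD₂
    have h1 : (h₀ : L)⁻¹ ∈ D₁ := by
      refine ⟨1, ?_⟩
      rw [pow_one]
      push_cast
      rw [← mul_assoc, inv_mul_cancel₀ hh₀, one_mul]
      exact x₁.2
    have h2 : (g₀ : L)⁻¹ ∈ D₁ := by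
      refine ⟨1, ?_⟩
      rw [pow_one]
      push_cast
      rw [hx₁]
      have : (g₀ : L)⁻¹ * ((h₀ : L) * ((g₀ : L) * (h₀ : L) ^ m)) = (h₀ : L) ^ (m + 1) := by
        field_simp
        ring
      rw [this]
      exact X₁.pow_mem h₀.2 _
    have h3 : (g₀ : L)⁻¹ ∈ D₂ := by
      refine ⟨1, ?_⟩
      rw [pow_one]
      push_cast
      rw [← mul_assoc, inv_mul_cancel₀ hg₀, one_mul]
      exact x₂.2
    have h4 : (h₀ : L)⁻¹ ∈ D₂ := by
      refine ⟨1, ?_⟩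
      rw [pow_one]
      push_cast
      rw [hx₂]
      have : (h₀ : L)⁻¹ * ((g₀ : L) * ((h₀ : L) * (g₀ : L) ^ k)) = (g₀ : L) ^ (k + 1) := by
        field_simp
        ring
      rw [this]
      exact X₂.pow_mem g₀.2 _
    have hX₂D₁ : X₂ ≤ D₁ := hle₂.trans (locSub_mono_mul h₀ x₁)
    have hX₁D₂ : X₁ ≤ D₂ := hle₁.trans (locSub_mono_mul g₀ x₂)
    apply le_antisymm
    · apply locSub_le hX₁D₂ _ hh
      push_cast
      rw [mul_inv, hx₁, mul_inv, ← inv_pow]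
      exact D₂.mul_mem h4 (D₂.mul_mem h3 (D₂.pow_mem h4 _))
    · apply locSub_le hX₂D₁ _ hg
      push_cast
      rw [mul_inv, hx₂, mul_inv, ← inv_pow]
      exact D₁.mul_mem h2 (D₁.mul_mem h1 (D₁.pow_mem h2 _))

end LocSub

end Groth.Agent.Lib.Helper4.GIBir1
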