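import Mathlib
import Groth.Agent.Lib.Helper7.NowDense.Alg
import Groth.Agent.Lib.Helper7.NearGen.Alg

/-!
# Generic density of basic opens and generic nilpotence in fibre rings (helper4)
-/

set_option backward.isDefEq.respectTransparency.types false
set_option synthInstance.maxHeartbeats 400000
set_option autoImplicit false
set_option linter.unusedSectionVars false
set_option linter.style.haveILetI false
set_option linter.unusedSimpArgs false
universe u v w
open TensorProduct
open Groth.Agent.Helper7.NowDense Groth.Agent.Helper7.NearGen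

namespace Groth.Agent.Lib.Helper4.GIDense1

section Dense

variable {R : Type u} [CommRing R] [IsDomain R] (K₀ : Type u) [Field K₀] [Algebra R K₀]
  [IsFractionRing R K₀] {X : Type u} [CommRing X] [Algebra R X]
  {L : Type u} [Field L] [Algebra K₀ L] [Algebra R L] [IsScalarTower R K₀ L]

/-- the generic fibre ring of an algebra embedded in a field embeds in that field -/
theorem injective_lift_of_injective (ι : X →ₐ[R] L) (hι : Function.Injective ι) :
    Function.Injective (Algebra.TensorProduct.lift (Algebra.ofId K₀ L) ι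
      (fun _ _ => Commute.all _ _) : K₀ ⊗[R] X →ₐ[K₀] L) := by
  rw [injective_iff_map_eq_zero]
  intro z hz
  obtain ⟨t, c, ht, htz⟩ := exists_smul_eq_tmul (R := R) (C := X) K₀ z
  have h1 : (Algebra.TensorProduct.lift (Algebra.ofId K₀ L) ι
      (fun _ _ => Commute.all _ _) : K₀ ⊗[R] X →ₐ[K₀] L) (t • z) = 0 := by
    rw [← algebraMap_smul K₀ t z, map_smul, hz, smul_zero]
  rw [htz, Algebra.TensorProduct.lift_tmul, map_one, one_mul] at h1
  have hc : c = 0 := hι (by rw [h1, map_zero])
  apply eq_zero_of_smul_eq_zero (R := R) (C := X) K₀ t ht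
  rw [htz, hc, TensorProduct.tmul_zero]

theorem isDomain_generic_of_injective (ι : X →ₐ[R] L) (hι : Function.Injective ι) :
    IsDomain (K₀ ⊗[R] X) :=
  (injective_lift_of_injective K₀ ι hι).isDomain _

/-- for an element of a finite type algebra embedded in a field, the basic open is dense in
the fibres over a nonempty open of the base -/
theorem exists_dense_basicOpen {R : Type u} [CommRing R] [IsDomain R] (K₀ : Type u) [Field K₀]
    [Algebra R K₀] [IsFractionRing R K₀] {X : Type u} [CommRing X] [Algebra R X]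
    {L : Type u} [Field L] [Algebra K₀ L] [Algebra R L] [IsScalarTower R K₀ L]
    [Algebra.FiniteType R X] (ι : X →ₐ[R] L)
    (hι : Function.Injective ι) (x : X) (hx : x ≠ 0) :
    ∃ a : R, a ≠ 0 ∧ ∀ (κ : Type u) [Field κ] [Algebra R κ], algebraMap R κ a ≠ 0 →
      Dense (PrimeSpectrum.basicOpen ((1 : κ) ⊗ₜ[R] x) : Set (PrimeSpectrum (κ ⊗[R] X))) := by
  haveI := isDomain_generic_of_injective K₀ ι hι
  have h0 : IsNowhereDense (PrimeSpectrum.zeroLocus
      ((fun c : X => (1 : K₀) ⊗ₜ[R] c) '' {x})) := by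
    rw [isNowhereDense_zeroLocus_iff]
    intro c hc
    have h1 := hc _ ⟨x, rfl, rfl⟩
    have h2 : c * (1 : K₀) ⊗ₜ[R] x = 0 := h1.eq_zero
    have h3 : (1 : K₀) ⊗ₜ[R] x ≠ 0 := by
      intro h
      have := congrArg (Algebra.TensorProduct.lift (Algebra.ofId K₀ L) ι
        (fun _ _ => Commute.all _ _) : K₀ ⊗[R] X →ₐ[K₀] L) h
      rw [Algebra.TensorProduct.lift_tmul, map_one, one_mul, map_zero] at this
      exact hx (hι (by rw [this, map_zero]))
    rcases mul_eq_zero.mp h2 with h | h
    · rw [h]; exact IsNilpotent.zero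
    · exact absurd h h3
  obtain ⟨a, ha, hall⟩ := exists_forall_isNowhereDense_of_isDomain K₀ ({x} : Set X) h0
  refine ⟨a, ha, ?_⟩
  intro κ _ _ hκ
  have h1 := hall κ hκ
  rw [Set.image_singleton] at h1
  have h2 : (PrimeSpectrum.basicOpen ((1 : κ) ⊗ₜ[R] x) : Set (PrimeSpectrum (κ ⊗[R] X))) =
      (PrimeSpectrum.zeroLocus {(1 : κ) ⊗ₜ[R] x})ᶜ :=
    PrimeSpectrum.basicOpen_eq_zeroLocus_compl _
  rw [h2]
  rw [← interior_eq_empty_iff_dense_compl]
  exact (PrimeSpectrum.isClosed_zeroLocus _).isNowhereDense_iff.mp h1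

end Dense

/-- elements nilpotent in the generic fibre ring of a finite type algebra are nilpotent in the
fibre rings over a nonempty open of the base, uniformly -/
theorem exists_forall_isNilpotent {R : Type u} [CommRing R] [IsDomain R] (K₀ : Type u) [Field K₀]
    [Algebra R K₀] [IsFractionRing R K₀] {C : Type u} [CommRing C] [Algebra R C]
    [Algebra.FiniteType R C] :
    ∃ a : R, a ≠ 0 ∧ ∀ b : C, IsNilpotent ((1 : K₀) ⊗ₜ[R] b) →
      ∀ (κ : Type u) [Field κ] [Algebra R κ], algebraMap R κ a ≠ 0 →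
        IsNilpotent ((1 : κ) ⊗ₜ[R] b) := by
  obtain ⟨a₀, ha₀, htors⟩ := exists_torsion_bound (R := R) (C := C)
  refine ⟨a₀, ha₀, ?_⟩
  intro b hb κ _ _ hκ
  obtain ⟨n, hn⟩ := hb
  rw [Algebra.TensorProduct.tmul_pow, one_pow] at hn
  obtain ⟨r, hr, hrb⟩ := exists_smul_eq_zero_of_tmul_eq_zero (R := R) (C := C) K₀ (b ^ n) hn
  obtain ⟨m, hm⟩ := htors (b ^ n) r hr hrb
  refine ⟨n, ?_⟩
  rw [Algebra.TensorProduct.tmul_pow, one_pow]
  have h1 : (algebraMap R κ (a₀ ^ m)) • ((1 : κ) ⊗ₜ[R] (b ^ n)) = 0 := by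
    rw [algebraMap_smul, TensorProduct.smul_tmul', TensorProduct.smul_tmul, hm,
      TensorProduct.tmul_zero]
  have h2 : algebraMap R κ (a₀ ^ m) ≠ 0 := by
    rw [map_pow]; exact pow_ne_zero _ hκ
  exact (smul_eq_zero.mp h1).resolve_left h2

end Groth.Agent.Lib.Helper4.GIDense1
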