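import Mathlib

/-!
# Fraction field of a polynomial ring inside a field extension (helper4)
-/

set_option backward.isDefEq.respectTransparency.types false
set_option synthInstance.maxHeartbeats 400000
set_option autoImplicit false
set_option linter.unusedSectionVars false
set_option linter.style.haveILetI false
set_option linter.unusedSimpArgs false
universe u v w
open MvPolynomial

namespace Groth.Agent.Lib.Helper4.GIFrac1

section FracMv

variable {R : Type*} [CommRing R] [IsDomain R] {K₀ : Type*} [Field K₀] [Algebra R K₀]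
  [IsFractionRing R K₀]

/-- clearing denominators of a multivariate polynomial over a fraction field -/
theorem exists_smul_eq_map {ι : Type*} (p : MvPolynomial ι K₀) :
    ∃ (b : R) (x : MvPolynomial ι R), b ≠ 0 ∧
      MvPolynomial.map (algebraMap R K₀) x = algebraMap R K₀ b • p := by
  classical
  obtain ⟨b, hb⟩ := IsLocalization.exist_integer_multiples_of_finset (nonZeroDivisors R) p.coeffs
  have hmem : algebraMap R K₀ (b : R) • p ∈ Set.range (MvPolynomial.map (algebraMap R K₀)) := by
    rw [mem_range_map_iff_coeffs_subset]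
    intro c hc
    obtain ⟨m, hm, rfl⟩ := mem_coeffs_iff.mp hc
    rw [coeff_smul]
    by_cases h0 : coeff m p = 0
    · rw [h0, smul_zero]; exact ⟨0, map_zero _⟩
    · obtain ⟨w, hw⟩ := hb (coeff m p) (mem_coeffs_iff.mpr ⟨m, mem_support_iff.mpr h0, rfl⟩)
      refine ⟨w, ?_⟩
      rw [hw, Algebra.smul_def, smul_eq_mul]
  obtain ⟨x, hx⟩ := hmem
  exact ⟨b, x, nonZeroDivisors.ne_zero b.2, hx⟩

variable {L : Type*} [Field L] [Algebra K₀ L] [Algebra R L] [IsScalarTower R K₀ L]
  {ι : Type*} (t : ι → L)

lemma aeval_mem_adjoin (p : MvPolynomial ι R) :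
    (aeval t p : L) ∈ IntermediateField.adjoin K₀ (Set.range t) := by
  have h1 : (aeval t p : L) = aeval t (MvPolynomial.map (algebraMap R K₀) p) := by
    rw [MvPolynomial.aeval_map_algebraMap]
  rw [h1]
  apply IntermediateField.algebra_adjoin_le_adjoin K₀ (Set.range t)
  rw [Algebra.adjoin_range_eq_range_aeval]
  exact ⟨_, rfl⟩

/-- the evaluation map into the field generated by the `t i` -/
noncomputable def evF : MvPolynomial ι R →+* IntermediateField.adjoin K₀ (Set.range t) :=
  RingHom.codRestrict (aeval t : MvPolynomial ι R →ₐ[R] L).toRingHom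
    (IntermediateField.adjoin K₀ (Set.range t)) (aeval_mem_adjoin t)

lemma evF_coe (p : MvPolynomial ι R) : ((evF (K₀ := K₀) t p : _) : L) = aeval t p := rfl

theorem isFractionRing_evF (ht : AlgebraicIndependent K₀ t) :
    letI := (evF (R := R) (K₀ := K₀) t).toAlgebra
    IsFractionRing (MvPolynomial ι R) (IntermediateField.adjoin K₀ (Set.range t)) := by
  letI := (evF (R := R) (K₀ := K₀) t).toAlgebra
  have hinjR : Function.Injective (algebraMap R K₀) := IsFractionRing.injective R K₀
  have htR : AlgebraicIndependent R t := ht.restrictScalars hinjR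
  have hinj : Function.Injective (evF (R := R) (K₀ := K₀) t) := by
    intro p q hpq
    apply htR
    have := congrArg Subtype.val hpq
    exact this
  haveI : FaithfulSMul (MvPolynomial ι R) (IntermediateField.adjoin K₀ (Set.range t)) :=
    (faithfulSMul_iff_algebraMap_injective _ _).mpr hinj
  apply IsFractionRing.of_field
  intro z
  obtain ⟨r, s, hz⟩ := (IntermediateField.mem_adjoin_range_iff K₀ t (z : L)).mp z.2
  obtain ⟨b₁, x₁, hb₁, hx₁⟩ := exists_smul_eq_map (R := R) r
  obtain ⟨b₂, x₂, hb₂, hx₂⟩ := exists_smul_eq_map (R := R) s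
  refine ⟨C b₂ * x₁, C b₁ * x₂, ?_⟩
  apply Subtype.ext
  have hb₁' : (algebraMap R K₀ b₁ : K₀) ≠ 0 := by
    rwa [Ne, map_eq_zero_iff _ hinjR]
  have hb₂' : (algebraMap R K₀ b₂ : K₀) ≠ 0 := by
    rwa [Ne, map_eq_zero_iff _ hinjR]
  have e1 : (aeval t x₁ : L) = algebraMap K₀ L (algebraMap R K₀ b₁) * aeval t r := by
    have : (aeval t x₁ : L) = aeval t (MvPolynomial.map (algebraMap R K₀) x₁) := by
      rw [MvPolynomial.aeval_map_algebraMap]
    rw [this, hx₁, map_smul, Algebra.smul_def]
  have e2 : (aeval t x₂ : L) = algebraMap K₀ L (algebraMap R K₀ b₂) * aeval t s := by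
    have : (aeval t x₂ : L) = aeval t (MvPolynomial.map (algebraMap R K₀) x₂) := by
      rw [MvPolynomial.aeval_map_algebraMap]
    rw [this, hx₂, map_smul, Algebra.smul_def]
  change (z : L) = ((evF (K₀ := K₀) t (C b₂ * x₁) : _) : L) / ((evF (K₀ := K₀) t (C b₁ * x₂) : _) : L)
  rw [evF_coe, evF_coe, map_mul, map_mul, e1, e2, hz, aeval_C, aeval_C,
    IsScalarTower.algebraMap_apply R K₀ L b₁, IsScalarTower.algebraMap_apply R K₀ L b₂]
  have h1 : (algebraMap K₀ L (algebraMap R K₀ b₁) : L) ≠ 0 := by
    rwa [Ne, map_eq_zero_iff _ (algebraMap K₀ L).injective]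
  have h2 : (algebraMap K₀ L (algebraMap R K₀ b₂) : L) ≠ 0 := by
    rwa [Ne, map_eq_zero_iff _ (algebraMap K₀ L).injective]
  field_simp

end FracMv

end Groth.Agent.Lib.Helper4.GIFrac1
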