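import Mathlib

/-!
# Primitive element model over a domain (helper4)
-/

set_option backward.isDefEq.respectTransparency.types false
set_option synthInstance.maxHeartbeats 400000
set_option autoImplicit false
set_option linter.unusedSectionVars false
set_option linter.style.haveILetI false
set_option linter.unusedSimpArgs false
universe u v w
open Polynomial IntermediateField

namespace Groth.Agent.Lib.Helper4.GIModel1

/-- Primitive element model over a domain: a finite separable extension `L` of the fraction
field `F` of a domain `W` is generated by a root `θ` of a monic polynomial `P` over `W` which is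
the minimal polynomial of `θ` over `F`. -/
theorem exists_model_aux {W : Type*} [CommRing W] [IsDomain W] {F : Type*} [Field F] [Algebra W F]
    [IsFractionRing W F] {L : Type*} [Field L] [Algebra F L] [Algebra W L] [IsScalarTower W F L]
    [FiniteDimensional F L] [Algebra.IsSeparable F L] :
    ∃ (θ : L) (P : W[X]), P.Monic ∧ P.map (algebraMap W F) = minpoly F θ ∧ F⟮θ⟯ = ⊤ := by
  classical
  obtain ⟨θ₁, hθ₁⟩ := Field.exists_primitive_element F L
  set μ := minpoly F θ₁ with hμ
  have hint₁ : IsIntegral F θ₁ := Algebra.IsIntegral.isIntegral θ₁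
  have hμm : μ.Monic := minpoly.monic hint₁
  -- clear denominators of coefficients
  obtain ⟨c, hc⟩ := IsLocalization.exist_integer_multiples_of_finset (nonZeroDivisors W)
    (μ.support.image μ.coeff)
  have hc0 : (c : W) ≠ 0 := nonZeroDivisors.ne_zero c.2
  have hcF : algebraMap W F c ≠ 0 := by
    rw [Ne, map_eq_zero_iff _ (IsFractionRing.injective W F)]; exact hc0
  set θ : L := algebraMap F L (algebraMap W F c) * θ₁ with hθ
  set μ' := scaleRoots μ (algebraMap W F c) with hμ'
  have hμ'm : μ'.Monic := (monic_scaleRoots_iff _).mpr hμm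
  have hμ'θ : aeval θ μ' = 0 := scaleRoots_aeval_eq_zero (minpoly.aeval F θ₁)
  have hlifts : μ' ∈ lifts (algebraMap W F) := by
    rw [lifts_iff_coeff_lifts]
    intro i
    rw [hμ', coeff_scaleRoots]
    by_cases hi : i ∈ μ.support
    · by_cases hlt : i < μ.natDegree
      · obtain ⟨w, hw⟩ := hc (μ.coeff i) (Finset.mem_image_of_mem _ hi)
        refine ⟨w * c ^ (μ.natDegree - i - 1), ?_⟩
        rw [map_mul, hw, map_pow, Algebra.smul_def]
        have : μ.natDegree - i = (μ.natDegree - i - 1) + 1 := by omega
        conv_rhs => rw [this, pow_succ]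
        ring
      · have : i = μ.natDegree := le_antisymm (le_natDegree_of_mem_supp _ hi) (not_lt.mp hlt)
        subst this
        refine ⟨1, ?_⟩
        rw [tsub_self, pow_zero, mul_one, map_one]
        exact hμm.symm
    · rw [notMem_support_iff.mp hi, zero_mul]
      exact ⟨0, map_zero _⟩
  obtain ⟨P, hPmap, hPdeg, hPm⟩ := lifts_and_natDegree_eq_and_monic hlifts hμ'm
  -- θ is still primitive
  have hθprim : F⟮θ⟯ = ⊤ := by
    rw [eq_top_iff, ← hθ₁]
    rw [adjoin_simple_le_iff]
    have h1 : θ ∈ F⟮θ⟯ := mem_adjoin_simple_self F θ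
    have h2 : algebraMap F L (algebraMap W F c) ∈ F⟮θ⟯ := F⟮θ⟯.algebraMap_mem _
    have h3 : θ₁ = (algebraMap F L (algebraMap W F c))⁻¹ * θ := by
      rw [hθ, ← mul_assoc, inv_mul_cancel₀, one_mul]
      rw [Ne, map_eq_zero_iff _ (algebraMap F L).injective]; exact hcF
    rw [h3]
    exact F⟮θ⟯.mul_mem (F⟮θ⟯.inv_mem h2) h1
  have hintθ : IsIntegral F θ := Algebra.IsIntegral.isIntegral θ
  have hdegθ : (minpoly F θ).natDegree = Module.finrank F L := by
    rw [← adjoin.finrank hintθ, hθprim, finrank_top']
  have hdegθ₁ : μ.natDegree = Module.finrank F L := by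
    rw [hμ, ← adjoin.finrank hint₁, hθ₁, finrank_top']
  have hμ'eq : μ' = minpoly F θ := by
    apply eq_of_monic_of_dvd_of_natDegree_le (minpoly.monic hintθ) hμ'm (minpoly.dvd F θ hμ'θ)
    rw [hμ', natDegree_scaleRoots, hdegθ₁, hdegθ]
  exact ⟨θ, P, hPm, hPmap.trans hμ'eq, hθprim⟩


section Conseq

variable {W : Type*} [CommRing W] [IsDomain W] {F : Type*} [Field F] [Algebra W F]
    [IsFractionRing W F] {L : Type*} [Field L] [Algebra F L] [Algebra W L] [IsScalarTower W F L]
    [FiniteDimensional F L] (θ : L) (P : W[X]) (hPm : P.Monic)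
    (hP : P.map (algebraMap W F) = minpoly F θ)

include hPm hP in
theorem model_dvd_of_aeval_eq_zero (G : W[X]) (hG : aeval θ G = 0) : P ∣ G := by
  rw [← modByMonic_eq_zero_iff_dvd hPm]
  set Rem := G %ₘ P with hRem
  have hPθ : aeval θ P = 0 := by
    have := minpoly.aeval F θ
    rw [← hP, aeval_map_algebraMap] at this
    exact this
  have hRemθ : aeval θ Rem = 0 := by
    have h1 := modByMonic_add_div G P
    have h2 : aeval θ G = aeval θ (Rem + P * (G /ₘ P)) := by rw [h1]
    rw [map_add, map_mul, hPθ, zero_mul, add_zero, hG] at h2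
    exact h2.symm
  by_contra hne
  have hinj : Function.Injective (algebraMap W F) := IsFractionRing.injective W F
  have hne' : Rem.map (algebraMap W F) ≠ 0 := by
    rwa [Ne, Polynomial.map_eq_zero_iff hinj]
  have h3 : aeval θ (Rem.map (algebraMap W F)) = 0 := by
    rw [aeval_map_algebraMap]; exact hRemθ
  have h4 := minpoly.degree_le_of_ne_zero F θ hne' h3
  rw [← hP, degree_map_eq_of_injective hinj, degree_map_eq_of_injective hinj] at h4
  have h5 : Rem.degree < P.degree := degree_modByMonic_lt G hPm
  exact absurd h4 (not_le.mpr h5)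

include hP in
theorem model_separable [Algebra.IsSeparable F L] {E : Type*} [Field E] (g : W →+* E)
    (hg : Function.Injective g) : (P.map g).Separable := by
  have h1 : (minpoly F θ).Separable := Algebra.IsSeparable.isSeparable F θ
  have h2 : P.map g = (P.map (algebraMap W F)).map (IsFractionRing.lift hg) := by
    rw [Polynomial.map_map]
    congr 1
    ext x
    simp
  rw [h2, hP]
  exact h1.map

include hP in
theorem model_frac (hprim : F⟮θ⟯ = ⊤) (z : L) :
    ∃ (p : W[X]) (r : W), r ≠ 0 ∧ z * algebraMap W L r = aeval θ p := by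
  have hint : IsIntegral F θ := Algebra.IsIntegral.isIntegral θ
  have hz : z ∈ F⟮θ⟯ := by rw [hprim]; trivial
  have h1 : z ∈ (F⟮θ⟯).toSubalgebra := hz
  rw [adjoin_simple_toSubalgebra_of_isAlgebraic hint.isAlgebraic,
    Algebra.adjoin_singleton_eq_range_aeval] at h1
  obtain ⟨q, rfl⟩ := h1
  obtain ⟨b, hb, hbq⟩ := IsLocalization.integerNormalization_spec (nonZeroDivisors W) q
  refine ⟨IsLocalization.integerNormalization (nonZeroDivisors W) q, b,
    nonZeroDivisors.ne_zero hb, ?_⟩
  have : aeval θ ((IsLocalization.integerNormalization (nonZeroDivisors W) q).map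
      (algebraMap W F)) = aeval θ (b • q) := by rw [hbq]
  rw [aeval_map_algebraMap] at this
  rw [this, ← IsScalarTower.algebraMap_smul F b q, map_smul, Algebra.smul_def, mul_comm,
    ← IsScalarTower.algebraMap_apply]
  rfl

end Conseq

end Groth.Agent.Lib.Helper4.GIModel1
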