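import Mathlib
import Groth.Agent.Lib.Helper4.GIModel1
import Groth.Agent.Lib.Helper4.GIFrac1

/-!
# Hypersurface model of a finitely generated extension of a perfect fraction field (helper4)
-/

set_option backward.isDefEq.respectTransparency.types false
set_option synthInstance.maxHeartbeats 400000
set_option autoImplicit false
set_option linter.unusedSectionVars false
set_option linter.style.haveILetI false
set_option linter.unusedSimpArgs false
universe u v w
open Polynomial IntermediateField
open Groth.Agent.Lib.Helper4.GIModel1 Groth.Agent.Lib.Helper4.GIFrac1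

namespace Groth.Agent.Lib.Helper4.GIModel2

/-- **Hypersurface model** of a finitely generated extension `L` of a perfect fraction field
`K₀ = Frac R`: algebraically independent `t`, a generator `θ` and a monic separable polynomial
`P` over `R[t]` presenting `R[t][θ] ⊆ L`, with `L = Frac R[t][θ]`. -/
theorem exists_model {R : Type u} [CommRing R] [IsDomain R] (K₀ : Type u) [Field K₀] [Algebra R K₀]
    [IsFractionRing R K₀] [PerfectField K₀] (L : Type u) [Field L] [Algebra K₀ L] [Algebra R L]
    [IsScalarTower R K₀ L] [Algebra.EssFiniteType K₀ L] :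
    ∃ (d : ℕ) (t : Fin d → L) (θ : L) (P : Polynomial (MvPolynomial (Fin d) R)),
      P.Monic ∧ Function.Injective (MvPolynomial.aeval t : MvPolynomial (Fin d) R →ₐ[R] L) ∧
      (∀ G : Polynomial (MvPolynomial (Fin d) R),
        G.eval₂ (MvPolynomial.aeval t : MvPolynomial (Fin d) R →ₐ[R] L).toRingHom θ = 0 ↔ P ∣ G) ∧
      (∀ z : L, ∃ (p : Polynomial (MvPolynomial (Fin d) R)) (r : MvPolynomial (Fin d) R), r ≠ 0 ∧
         z * MvPolynomial.aeval t r =
          p.eval₂ (MvPolynomial.aeval t : MvPolynomial (Fin d) R →ₐ[R] L).toRingHom θ) ∧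
      (∀ (E : Type u) [Field E] (g : MvPolynomial (Fin d) R →+* E), Function.Injective g →
        (P.map g).Separable) := by
  classical
  obtain ⟨s, hs, hsep⟩ := exists_isTranscendenceBasis_and_isSeparable_of_perfectField K₀ L
  let e := s.equivFin
  let t : Fin s.card → L := fun i => ((e.symm i : s) : L)
  have hrange : Set.range t = (s : Set L) := by
    ext x
    constructor
    · rintro ⟨i, rfl⟩; exact (e.symm i).2
    · intro hx; exact ⟨e ⟨x, hx⟩, by simp [t]⟩
  have ht : AlgebraicIndependent K₀ t := hs.1.comp (fun i => e.symm i) e.symm.injective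
  haveI hsep' : Algebra.IsSeparable (adjoin K₀ (Set.range t)) L := hrange.symm ▸ hsep
  haveI halg : Algebra.IsAlgebraic (adjoin K₀ (Set.range t)) L := by
    have h1 := hs.isAlgebraic_field
    have h2 : Set.range (Subtype.val : ↥s → L) = Set.range t := by
      rw [Subtype.range_coe, hrange]
    exact h2 ▸ h1
  haveI : Algebra.EssFiniteType (adjoin K₀ (Set.range t)) L :=
    Algebra.EssFiniteType.of_comp K₀ _ L
  haveI : Module.Finite (adjoin K₀ (Set.range t)) L :=
    Algebra.finite_of_essFiniteType_of_isAlgebraic
  letI algWF : Algebra (MvPolynomial (Fin s.card) R) (adjoin K₀ (Set.range t)) :=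
    (evF (R := R) (K₀ := K₀) t).toAlgebra
  letI algWL : Algebra (MvPolynomial (Fin s.card) R) L :=
    (MvPolynomial.aeval t : MvPolynomial (Fin s.card) R →ₐ[R] L).toRingHom.toAlgebra
  haveI : IsScalarTower (MvPolynomial (Fin s.card) R) (adjoin K₀ (Set.range t)) L :=
    IsScalarTower.of_algebraMap_eq (fun x => rfl)
  haveI : IsFractionRing (MvPolynomial (Fin s.card) R) (adjoin K₀ (Set.range t)) :=
    isFractionRing_evF t ht
  obtain ⟨θ, P, hPm, hP, hprim⟩ := exists_model_aux (W := MvPolynomial (Fin s.card) R)
    (F := adjoin K₀ (Set.range t)) (L := L)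
  have hinjR : Function.Injective (algebraMap R K₀) := IsFractionRing.injective R K₀
  refine ⟨s.card, t, θ, P, hPm, ht.restrictScalars hinjR, ?_, ?_, ?_⟩
  · intro G
    constructor
    · intro hG
      exact model_dvd_of_aeval_eq_zero (F := adjoin K₀ (Set.range t)) θ P hPm hP G hG
    · rintro ⟨Q, rfl⟩
      have hPθ : aeval θ P = 0 := by
        have := minpoly.aeval (adjoin K₀ (Set.range t)) θ
        rw [← hP, aeval_map_algebraMap] at this
        exact this
      change aeval θ (P * Q) = 0
      rw [map_mul, hPθ, zero_mul]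
  · intro z
    obtain ⟨p, r, hr, hz⟩ := model_frac (F := adjoin K₀ (Set.range t)) θ P hP hprim z
    exact ⟨p, r, hr, hz⟩
  · intro E _ g hg
    exact model_separable (F := adjoin K₀ (Set.range t)) (L := L) θ P hP g hg

end Groth.Agent.Lib.Helper4.GIModel2
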