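import Mathlib

/-!
# Irreducibility of polynomials spreads out from the generic point (EGA IV 9.7.5) (helper4)
-/

set_option backward.isDefEq.respectTransparency.types false
set_option synthInstance.maxHeartbeats 400000
set_option autoImplicit false
set_option linter.unusedSectionVars false
set_option linter.style.haveILetI false
set_option linter.unusedSimpArgs false
universe u v w
open MvPolynomial

namespace Groth.Agent.Lib.Helper4.GIPoly1

/-- A constructible subset of the spectrum of a domain missing the generic point lies in a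
proper principal closed subset. -/
theorem exists_ne_zero_subset_zeroLocus {A : Type*} [CommRing A] [IsDomain A]
    (T : Set (PrimeSpectrum A)) (hT : Topology.IsConstructible T)
    (h0 : (⟨⊥, Ideal.isPrime_bot⟩ : PrimeSpectrum A) ∉ T) :
    ∃ a : A, a ≠ 0 ∧ T ⊆ PrimeSpectrum.zeroLocus {a} := by
  classical
  obtain ⟨S, rfl⟩ := PrimeSpectrum.exists_constructibleSetData_iff.mpr hT
  have key : ∀ C ∈ S, ∃ a : A, a ≠ 0 ∧ C.toSet ⊆ PrimeSpectrum.zeroLocus {a} := by
    intro C hC
    have hC0 : (⟨⊥, Ideal.isPrime_bot⟩ : PrimeSpectrum A) ∉ C.toSet := by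
      intro h
      exact h0 (Set.mem_biUnion hC h)
    by_cases hg : ∀ i, C.g i = 0
    · -- then f = 0
      have hf : C.f = 0 := by
        by_contra hf
        apply hC0
        refine ⟨?_, ?_⟩
        · rintro _ ⟨i, rfl⟩
          simp [hg i]
        · intro h
          have : C.f ∈ (⊥ : Ideal A) := h (Set.mem_singleton _)
          exact hf (by simpa using this)
      refine ⟨1, one_ne_zero, ?_⟩
      intro p hp
      exfalso
      apply hp.2
      rw [hf]
      intro x hx
      rw [Set.mem_singleton_iff.mp hx]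
      exact Ideal.zero_mem _
    · push Not at hg
      obtain ⟨i, hi⟩ := hg
      refine ⟨C.g i, hi, ?_⟩
      intro p hp
      intro x hx
      rw [Set.mem_singleton_iff.mp hx]
      exact hp.1 ⟨i, rfl⟩
  choose! a ha using key
  refine ⟨∏ C ∈ S, a C, Finset.prod_ne_zero_iff.mpr fun C hC => (ha C hC).1, ?_⟩
  intro p hp
  simp only [PrimeSpectrum.ConstructibleSetData.toSet, Set.mem_iUnion] at hp
  obtain ⟨C, hC, hpC⟩ := hp
  intro x hx
  rw [Set.mem_singleton_iff.mp hx]
  have h1 : a C ∈ p.asIdeal := (ha C hC).2 hpC (Set.mem_singleton _)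
  change ∏ C ∈ S, a C ∈ p.asIdeal
  rw [← Finset.mul_prod_erase S a hC]
  exact Ideal.mul_mem_right _ _ h1


section PolyIrr

variable {σ : Type} [Fintype σ] [DecidableEq σ]

/-- the monomial with exponent vector `i` (each exponent bounded by `D`) -/
noncomputable def boxMon (D : ℕ) (i : σ → Fin (D + 1)) : σ →₀ ℕ :=
  Finsupp.equivFunOnFinite.symm (fun j => (i j : ℕ))

@[simp] lemma boxMon_apply (D : ℕ) (i : σ → Fin (D + 1)) (j : σ) : boxMon D i j = (i j : ℕ) := rfl

lemma boxMon_injective (D : ℕ) : Function.Injective (boxMon (σ := σ) D) := by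
  intro i i' h
  funext j
  have := DFunLike.congr_fun h j
  simp only [boxMon_apply] at this
  exact Fin.ext this

lemma exists_boxMon_eq (D : ℕ) (m : σ →₀ ℕ) (hm : ∀ j, m j ≤ D) : ∃ i, boxMon D i = m := by
  refine ⟨fun j => ⟨m j, Nat.lt_succ_of_le (hm j)⟩, ?_⟩
  ext j
  simp

lemma boxMon_eq_zero_iff (D : ℕ) (i : σ → Fin (D + 1)) : boxMon D i = 0 ↔ i = fun _ => 0 := by
  constructor
  · intro h
    funext j
    have := DFunLike.congr_fun h j
    simp only [boxMon_apply, Finsupp.coe_zero, Pi.zero_apply] at this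
    exact Fin.ext this
  · rintro rfl
    ext j
    simp

variable {R : Type*} [CommRing R]

/-- a polynomial all of whose exponents are at most `D` is the sum of its box monomials -/
lemma eq_sum_box (D : ℕ) (q : MvPolynomial σ R) (hq : ∀ m ∈ q.support, ∀ j, m j ≤ D) :
    q = ∑ i : σ → Fin (D + 1), monomial (boxMon D i) (coeff (boxMon D i) q) := by
  classical
  ext m
  rw [coeff_sum]
  simp only [coeff_monomial]
  by_cases hm : ∀ j, m j ≤ D
  · obtain ⟨i₀, rfl⟩ := exists_boxMon_eq D m hm
    rw [Finset.sum_eq_single i₀]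
    · simp
    · intro i _ hi
      rw [if_neg]
      exact fun h => hi (boxMon_injective D h)
    · intro h; exact absurd (Finset.mem_univ _) h
  · have h0 : coeff m q = 0 := by
      by_contra h
      exact hm (hq m (mem_support_iff.mpr h))
    rw [h0]
    symm
    apply Finset.sum_eq_zero
    intro i _
    rw [if_neg]
    rintro rfl
    apply hm
    intro j
    simp only [boxMon_apply]
    exact Nat.lt_succ_iff.mp (i j).2


/-- the universal polynomial with box monomials and coefficients the variables `X (k i)` -/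
noncomputable def univPoly (A : Type*) [CommRing A] (D : ℕ) {τ : Type*} (k : (σ → Fin (D + 1)) → τ) :
    MvPolynomial σ (MvPolynomial τ A) :=
  ∑ i : σ → Fin (D + 1), monomial (boxMon D i) (X (k i))

lemma map_univPoly {A : Type*} [CommRing A] (D : ℕ) {τ : Type*} (k : (σ → Fin (D + 1)) → τ)
    {κ : Type*} [CommRing κ] (ψ : MvPolynomial τ A →+* κ) :
    map ψ (univPoly A D k) = ∑ i : σ → Fin (D + 1), monomial (boxMon D i) (ψ (X (k i))) := by
  simp [univPoly, map_sum, map_monomial]

lemma coeff_sum_boxMon {κ : Type*} [CommRing κ] (D : ℕ) (c : (σ → Fin (D + 1)) → κ)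
    (i₀ : σ → Fin (D + 1)) :
    coeff (boxMon D i₀) (∑ i : σ → Fin (D + 1), monomial (boxMon D i) (c i)) = c i₀ := by
  classical
  rw [coeff_sum]
  simp only [coeff_monomial]
  rw [Finset.sum_eq_single i₀]
  · simp
  · intro i _ hi
    rw [if_neg]
    exact fun h => hi (boxMon_injective D h)
  · intro h; exact absurd (Finset.mem_univ _) h

/-- nonunit nonzero polynomial over a field has a nonzero nonconstant coefficient -/
lemma exists_ne_zero_mem_support {κ : Type*} [Field κ] (q : MvPolynomial σ κ) (hq : q ≠ 0)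
    (hu : ¬ IsUnit q) : ∃ m ∈ q.support, m ≠ 0 := by
  by_contra h
  push Not at h
  apply hu
  rw [MvPolynomial.isUnit_iff]
  refine ⟨?_, ?_⟩
  · rw [isUnit_iff_ne_zero]
    intro h0
    apply hq
    ext m
    by_cases hm : m = 0
    · rw [hm, h0]; simp
    · by_contra hc
      exact hm (h m (mem_support_iff.mpr hc))
  · intro i hi
    have : coeff i q = 0 := by
      by_contra hc
      exact hi (h i (mem_support_iff.mpr hc))
    rw [this]
    exact IsNilpotent.zero

lemma not_isUnit_of_coeff_ne_zero {κ : Type*} [Field κ] (q : MvPolynomial σ κ) (m : σ →₀ ℕ)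
    (hm : m ≠ 0) (hc : coeff m q ≠ 0) : ¬ IsUnit q := by
  intro hu
  rw [MvPolynomial.isUnit_iff] at hu
  exact hc (hu.2 m hm).eq_zero


/-- **Irreducibility of a polynomial over the generic point spreads out** (EGA IV 9.7.5).
If `P` stays irreducible over every field containing the domain `A`, then there is `a ≠ 0` such
that `P` is irreducible over every field `κ` receiving `A` with `a ↦ nonzero`. -/
theorem exists_forall_irreducible_map {A : Type u} [CommRing A] [IsDomain A]
    (P : MvPolynomial σ A)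
    (hP : ∀ (Ω : Type u) [Field Ω] (φ : A →+* Ω), Function.Injective φ → Irreducible (map φ P)) :
    ∃ a : A, a ≠ 0 ∧ ∀ (κ : Type u) [Field κ] (φ : A →+* κ), φ a ≠ 0 →
      Irreducible (map φ P) := by
  classical
  set D := P.totalDegree with hD
  -- a nonconstant monomial of P
  obtain ⟨m₀, hm₀s, hm₀⟩ : ∃ m ∈ P.support, m ≠ 0 := by
    have h1 := hP (FractionRing A) (algebraMap A (FractionRing A)) (IsFractionRing.injective A _)
    obtain ⟨m, hm, hm0⟩ := exists_ne_zero_mem_support _ h1.ne_zero h1.not_isUnit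
    refine ⟨m, ?_, hm0⟩
    rw [mem_support_iff] at hm ⊢
    intro h
    apply hm
    rw [coeff_map, h, map_zero]
  set c₀ := coeff m₀ P with hc₀
  have hc₀ne : c₀ ≠ 0 := mem_support_iff.mp hm₀s
  let ι := σ → Fin (D + 1)
  let N := MvPolynomial (ι ⊕ ι) A
  let Q₁ : MvPolynomial σ N := univPoly A D (Sum.inl : ι → ι ⊕ ι)
  let Q₂ : MvPolynomial σ N := univPoly A D (Sum.inr : ι → ι ⊕ ι)
  let R : MvPolynomial σ N := Q₁ * Q₂ - map (C : A →+* N) P
  let s : Finset N := R.support.image (fun m => coeff m R)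
  let z : ι := fun _ => 0
  let S : Set (PrimeSpectrum N) :=
    (PrimeSpectrum.zeroLocus (s : Set N) ∩
      ⋃ i ∈ {i : ι | i ≠ z}, (PrimeSpectrum.basicOpen (X (Sum.inl i) : N) : Set _)) ∩
      ⋃ i ∈ {i : ι | i ≠ z}, (PrimeSpectrum.basicOpen (X (Sum.inr i) : N) : Set _)
  have hS : Topology.IsConstructible S := by
    refine Topology.IsConstructible.inter (Topology.IsConstructible.inter ?_ ?_) ?_
    · rw [← Topology.isConstructible_compl]
      exact (PrimeSpectrum.isRetrocompact_zeroLocus_compl s.finite_toSet).isConstructible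
        (PrimeSpectrum.isClosed_zeroLocus _).isOpen_compl
    · exact Topology.IsConstructible.biUnion (Set.toFinite _)
        fun i _ => PrimeSpectrum.isConstructible_basicOpen
    · exact Topology.IsConstructible.biUnion (Set.toFinite _)
        fun i _ => PrimeSpectrum.isConstructible_basicOpen
  have hfp : (C : A →+* N).FinitePresentation := by
    rw [← MvPolynomial.algebraMap_eq]
    exact RingHom.finitePresentation_algebraMap.mpr inferInstance
  have hT : Topology.IsConstructible (PrimeSpectrum.comap (C : A →+* N) '' S) :=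
    PrimeSpectrum.isConstructible_comap_image hfp hS
  -- key: membership in S for a point given by a ring hom into a field
  have hmemR : ∀ {κ : Type u} [Field κ] (ψ : N →+* κ), (∀ x ∈ s, ψ x = 0) → map ψ R = 0 := by
    intro κ _ ψ h
    ext m
    rw [coeff_map, coeff_zero]
    by_cases hm : m ∈ R.support
    · exact h _ (Finset.mem_image_of_mem _ hm)
    · rw [notMem_support_iff.mp hm, map_zero]
  have hmapR : ∀ {κ : Type u} [Field κ] (ψ : N →+* κ),
      map ψ R = map ψ Q₁ * map ψ Q₂ - map (ψ.comp C) P := by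
    intro κ _ ψ
    simp only [R, map_sub, map_mul, MvPolynomial.map_map]
  have h0 : (⟨⊥, Ideal.isPrime_bot⟩ : PrimeSpectrum A) ∉ PrimeSpectrum.comap (C : A →+* N) '' S := by
    rintro ⟨p, hpS, hp0⟩
    let Ω := p.asIdeal.ResidueField
    let ψ : N →+* Ω := algebraMap N Ω
    have hker : RingHom.ker ψ = p.asIdeal := Ideal.ker_algebraMap_residueField _
    have hinj : Function.Injective (ψ.comp C) := by
      rw [RingHom.injective_iff_ker_eq_bot, ← RingHom.comap_ker, hker]
      exact congrArg PrimeSpectrum.asIdeal hp0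
    have hirr := hP Ω (ψ.comp C) hinj
    have hR0 : map ψ R = 0 := by
      apply hmemR
      intro x hx
      have : x ∈ RingHom.ker ψ := by rw [hker]; exact hpS.1.1 hx
      exact this
    rw [hmapR, sub_eq_zero] at hR0
    obtain ⟨i₁, hi₁, hp₁⟩ := Set.mem_iUnion₂.mp hpS.1.2
    obtain ⟨i₂, hi₂, hp₂⟩ := Set.mem_iUnion₂.mp hpS.2
    have hX₁ : ψ (X (Sum.inl i₁)) ≠ 0 := by
      intro h
      have : (X (Sum.inl i₁) : N) ∈ RingHom.ker ψ := h
      rw [hker] at this
      exact hp₁ this
    have hX₂ : ψ (X (Sum.inr i₂)) ≠ 0 := by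
      intro h
      have : (X (Sum.inr i₂) : N) ∈ RingHom.ker ψ := h
      rw [hker] at this
      exact hp₂ this
    have hn₁ : ¬ IsUnit (map ψ Q₁) := by
      apply not_isUnit_of_coeff_ne_zero _ (boxMon D i₁)
      · rw [Ne, boxMon_eq_zero_iff]; exact hi₁
      · rw [map_univPoly, coeff_sum_boxMon]; exact hX₁
    have hn₂ : ¬ IsUnit (map ψ Q₂) := by
      apply not_isUnit_of_coeff_ne_zero _ (boxMon D i₂)
      · rw [Ne, boxMon_eq_zero_iff]; exact hi₂
      · rw [map_univPoly, coeff_sum_boxMon]; exact hX₂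
    rcases hirr.isUnit_or_isUnit hR0.symm with h | h
    · exact hn₁ h
    · exact hn₂ h
  obtain ⟨a₁, ha₁, hTa⟩ := exists_ne_zero_subset_zeroLocus _ hT h0
  refine ⟨a₁ * c₀, mul_ne_zero ha₁ hc₀ne, ?_⟩
  intro κ _ φ hφ
  have hφa : φ a₁ ≠ 0 := fun h => hφ (by rw [map_mul, h, zero_mul])
  have hφc : φ c₀ ≠ 0 := fun h => hφ (by rw [map_mul, h, mul_zero])
  have hcoef : coeff m₀ (map φ P) ≠ 0 := by rw [coeff_map]; exact hφc
  have hne : map φ P ≠ 0 := fun h => hcoef (by rw [h, coeff_zero])
  refine ⟨not_isUnit_of_coeff_ne_zero _ m₀ hm₀ hcoef, ?_⟩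
  intro q₁ q₂ hq
  by_contra hcon
  push Not at hcon
  obtain ⟨hu₁, hu₂⟩ := hcon
  have hq₁ : q₁ ≠ 0 := fun h => hne (by rw [hq, h, zero_mul])
  have hq₂ : q₂ ≠ 0 := fun h => hne (by rw [hq, h, mul_zero])
  have hdeg : q₁.totalDegree + q₂.totalDegree ≤ D := by
    rw [← totalDegree_mul_of_isDomain hq₁ hq₂, ← hq]
    exact Finset.sup_mono (support_map_subset _ _)
  have hbox : ∀ (q : MvPolynomial σ κ), q.totalDegree ≤ D → ∀ m ∈ q.support, ∀ j, m j ≤ D := by
    intro q hqD m hm j
    refine le_trans ?_ (le_trans (le_totalDegree hm) hqD)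
    by_cases hj : j ∈ m.support
    · exact Finset.single_le_sum (f := fun j => m j) (fun _ _ => Nat.zero_le _) hj
    · rw [Finsupp.notMem_support_iff.mp hj]; exact Nat.zero_le _
  have hb₁ := hbox q₁ (by omega)
  have hb₂ := hbox q₂ (by omega)
  obtain ⟨m₁, hm₁s, hm₁⟩ := exists_ne_zero_mem_support q₁ hq₁ hu₁
  obtain ⟨m₂, hm₂s, hm₂⟩ := exists_ne_zero_mem_support q₂ hq₂ hu₂
  let ψ : N →+* κ := eval₂Hom φ
    (Sum.elim (fun i => coeff (boxMon D i) q₁) (fun i => coeff (boxMon D i) q₂))
  have hψC : ψ.comp C = φ := by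
    ext x
    exact eval₂Hom_C _ _ _
  have hψ₁ : map ψ Q₁ = q₁ := by
    rw [map_univPoly]
    conv_rhs => rw [eq_sum_box D q₁ hb₁]
    simp [ψ]
  have hψ₂ : map ψ Q₂ = q₂ := by
    rw [map_univPoly]
    conv_rhs => rw [eq_sum_box D q₂ hb₂]
    simp [ψ]
  have hR0 : map ψ R = 0 := by
    rw [hmapR, hψ₁, hψ₂, hψC, hq, sub_self]
  let p : PrimeSpectrum N := ⟨RingHom.ker ψ, RingHom.ker_isPrime ψ⟩
  have hpS : p ∈ S := by
    refine ⟨⟨?_, ?_⟩, ?_⟩
    · intro x hx
      obtain ⟨m, hm, rfl⟩ := Finset.mem_image.mp hx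
      change ψ (coeff m R) = 0
      rw [← coeff_map, hR0, coeff_zero]
    · obtain ⟨i, hi⟩ := exists_boxMon_eq D m₁ (hb₁ m₁ hm₁s)
      refine Set.mem_iUnion₂.mpr ⟨i, ?_, ?_⟩
      · intro h
        apply hm₁
        rw [← hi, boxMon_eq_zero_iff]; exact h
      · change ψ (X (Sum.inl i)) ≠ 0
        rw [show ψ (X (Sum.inl i)) = coeff (boxMon D i) q₁ from eval₂Hom_X' _ _ _, hi]
        exact mem_support_iff.mp hm₁s
    · obtain ⟨i, hi⟩ := exists_boxMon_eq D m₂ (hb₂ m₂ hm₂s)
      refine Set.mem_iUnion₂.mpr ⟨i, ?_, ?_⟩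
      · intro h
        apply hm₂
        rw [← hi, boxMon_eq_zero_iff]; exact h
      · change ψ (X (Sum.inr i)) ≠ 0
        rw [show ψ (X (Sum.inr i)) = coeff (boxMon D i) q₂ from eval₂Hom_X' _ _ _, hi]
        exact mem_support_iff.mp hm₂s
  have hmem : PrimeSpectrum.comap (C : A →+* N) p ∈ PrimeSpectrum.zeroLocus {a₁} :=
    hTa ⟨p, hpS, rfl⟩
  have : a₁ ∈ (PrimeSpectrum.comap (C : A →+* N) p).asIdeal := hmem (Set.mem_singleton _)
  have h2 : ψ (C a₁) = 0 := this
  apply hφa
  rw [← hψC]
  exact h2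

end PolyIrr

end Groth.Agent.Lib.Helper4.GIPoly1
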