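import Mathlib

/-!
# Separable monic polynomial with irreducible zero locus is irreducible (helper4)
-/

set_option backward.isDefEq.respectTransparency.types false
set_option synthInstance.maxHeartbeats 400000
set_option autoImplicit false
set_option linter.unusedSectionVars false
set_option linter.style.haveILetI false
set_option linter.unusedSimpArgs false
universe u v w
open Polynomial

namespace Groth.Agent.Lib.Helper4.GISep1

/-- A monic polynomial over a UFD whose image over some field is separable and whose
vanishing locus is irreducible is irreducible. -/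
theorem irreducible_of_separable_of_radical_isPrime {W : Type*} [CommRing W] [IsDomain W]
    [UniqueFactorizationMonoid W] (P : W[X]) (hm : P.Monic) {E : Type*} [Field E] (g : W →+* E)
    (hg : Function.Injective g) (hsep : (P.map g).Separable)
    (hrad : (Ideal.span {P}).radical.IsPrime) : Irreducible P := by
  have hP0 : P ≠ 0 := hm.ne_zero
  have hPu : ¬ IsUnit P := by
    intro hu
    apply hrad.ne_top
    rw [Ideal.radical_eq_top, Ideal.span_singleton_eq_top]
    exact hu
  obtain ⟨π, hπ, hπP⟩ := WfDvdMonoid.exists_irreducible_factor hPu hP0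
  have hπp : Prime π := UniqueFactorizationMonoid.irreducible_iff_prime.mp hπ
  have hsq : ¬ π * π ∣ P := by
    intro hdvd
    have h1 : π.map g * π.map g ∣ P.map g := by
      rw [← Polynomial.map_mul]
      exact Polynomial.map_dvd g hdvd
    have h2 : IsUnit (π.map g) := hsep.squarefree _ h1
    have h3 : (π.map g).natDegree = 0 := Polynomial.natDegree_eq_zero_of_isUnit h2
    rw [Polynomial.natDegree_map_eq_of_injective hg] at h3
    obtain ⟨Q, hQ⟩ := hπP
    have h4 : π.leadingCoeff * Q.leadingCoeff = 1 := by
      rw [← Polynomial.leadingCoeff_mul, ← hQ]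
      exact hm
    have h5 : IsUnit π.leadingCoeff := IsUnit.of_mul_eq_one _ h4
    apply hπ.not_isUnit
    rw [Polynomial.eq_C_of_natDegree_eq_zero h3]
    have : π.coeff 0 = π.leadingCoeff := by
      rw [Polynomial.leadingCoeff, h3]
    rw [this]
    exact Polynomial.isUnit_C.mpr h5
  obtain ⟨Q, hQ⟩ := hπP
  have hmem : π * Q ∈ (Ideal.span {P}).radical := by
    rw [← hQ]
    exact Ideal.le_radical (Ideal.mem_span_singleton_self P)
  rcases hrad.mem_or_mem hmem with h | h
  · obtain ⟨m, hm'⟩ := h
    rw [Ideal.mem_span_singleton] at hm'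
    obtain ⟨i, hi, hassoc⟩ := (dvd_prime_pow hπp m).mp hm'
    rcases i with _ | _ | i
    · exfalso
      apply hPu
      rw [pow_zero] at hassoc
      exact hassoc.symm.isUnit_iff.mp isUnit_one |> fun h => h
    · rw [zero_add, pow_one] at hassoc
      exact hassoc.symm.irreducible hπ
    · exfalso
      apply hsq
      refine dvd_trans ?_ hassoc.symm.dvd
      exact ⟨π ^ i, by ring⟩
  · exfalso
    obtain ⟨m, hm'⟩ := h
    rw [Ideal.mem_span_singleton] at hm'
    have h1 : π ∣ Q ^ m := dvd_trans ⟨Q, hQ⟩ hm'
    have h2 : π ∣ Q := hπp.dvd_of_dvd_pow h1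
    apply hsq
    rw [hQ]
    exact mul_dvd_mul_left π h2


theorem optionEquivLeft_map {R S : Type*} [CommRing R] [CommRing S] {σ : Type*} (φ : R →+* S)
    (p : MvPolynomial (Option σ) R) :
    MvPolynomial.optionEquivLeft S σ (MvPolynomial.map φ p) =
      Polynomial.map (MvPolynomial.map φ) (MvPolynomial.optionEquivLeft R σ p) := by
  have : ((MvPolynomial.optionEquivLeft S σ).toRingEquiv.toRingHom.comp (MvPolynomial.map φ)) =
      (Polynomial.mapRingHom (MvPolynomial.map φ)).comp
        (MvPolynomial.optionEquivLeft R σ).toRingEquiv.toRingHom := by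
    apply MvPolynomial.ringHom_ext
    · intro r
      simp [MvPolynomial.optionEquivLeft_C]
    · intro i
      cases i with
      | none => simp [MvPolynomial.optionEquivLeft_X_none]
      | some j => simp [MvPolynomial.optionEquivLeft_X_some]
  exact RingHom.congr_fun this p

/-- irreducibility transfers along `optionEquivLeft` -/
theorem irreducible_optionEquivLeft_iff {R : Type*} [CommRing R] {σ : Type*}
    (p : MvPolynomial (Option σ) R) :
    Irreducible (MvPolynomial.optionEquivLeft R σ p) ↔ Irreducible p :=
  MulEquiv.irreducible_iff (MvPolynomial.optionEquivLeft R σ).toMulEquiv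


/-- A polynomial in `MvPolynomial (Option σ) Ω` over a field, monic and separable in the
distinguished variable, whose vanishing locus is irreducible, is irreducible. -/
theorem irreducible_of_radical_isPrime_option {Ω : Type*} [Field Ω] {σ : Type*}
    (Q : MvPolynomial (Option σ) Ω) (hm : (MvPolynomial.optionEquivLeft Ω σ Q).Monic)
    {E : Type*} [Field E] (g : MvPolynomial σ Ω →+* E) (hg : Function.Injective g)
    (hsep : ((MvPolynomial.optionEquivLeft Ω σ Q).map g).Separable)
    (hrad : (Ideal.span {Q}).radical.IsPrime) : Irreducible Q := by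
  rw [← irreducible_optionEquivLeft_iff]
  apply irreducible_of_separable_of_radical_isPrime _ hm g hg hsep
  let e := (MvPolynomial.optionEquivLeft Ω σ).toRingEquiv
  have h1 : Ideal.span {MvPolynomial.optionEquivLeft Ω σ Q} = (Ideal.span {Q}).comap e.symm := by
    rw [Ideal.comap_symm, Ideal.map_span, Set.image_singleton]
    rfl
  rw [h1, ← Ideal.comap_radical]
  exact Ideal.comap_isPrime _ _

end Groth.Agent.Lib.Helper4.GISep1
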