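import Mathlib

/-!
# Fibre-ring transfer lemmas for irreducibility (localization, nil quotient, hypersurface presentation) (helper4)
-/

set_option backward.isDefEq.respectTransparency.types false
set_option synthInstance.maxHeartbeats 400000
set_option autoImplicit false
set_option linter.unusedSectionVars false
set_option linter.style.haveILetI false
set_option linter.unusedSimpArgs false
universe u v w
open TensorProduct

namespace Groth.Agent.Lib.Helper4.GITop1

section Top

variable {X Y : Type*} [TopologicalSpace X] [TopologicalSpace Y]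

theorem irreducibleSpace_of_isOpenEmbedding_of_dense {j : Y → X} (hj : Topology.IsOpenEmbedding j)
    [IrreducibleSpace Y] (hd : Dense (Set.range j)) : IrreducibleSpace X := by
  have h1 : IsIrreducible (Set.range j) := by
    rw [← Set.image_univ]
    exact (IrreducibleSpace.isIrreducible_univ Y).image j hj.continuous.continuousOn
  have h2 : IsIrreducible (closure (Set.range j)) := h1.closure
  rw [hd.closure_eq] at h2
  exact (irreducibleSpace_def X).mpr h2

theorem irreducibleSpace_of_isOpenEmbedding_of_nonempty {j : Y → X}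
    (hj : Topology.IsOpenEmbedding j) [IrreducibleSpace X] (hn : (Set.range j).Nonempty) :
    IrreducibleSpace Y := by
  haveI : Nonempty Y := by
    obtain ⟨_, y, _⟩ := hn
    exact ⟨y⟩
  exact hj.irreducibleSpace

end Top

section Loc

variable {R : Type*} [CommRing R] (κ : Type*) [CommRing κ] [Algebra R κ]
  {X D : Type*} [CommRing X] [CommRing D] [Algebra R X] [Algebra R D] [Algebra X D]
  [IsScalarTower R X D]

/-- the base change of the structure map `X → D` -/
noncomputable def bcMap : κ ⊗[R] X →ₐ[κ] κ ⊗[R] D :=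
  Algebra.TensorProduct.map (AlgHom.id κ κ) (IsScalarTower.toAlgHom R X D)

@[simp] lemma bcMap_tmul (c : κ) (x : X) :
    bcMap κ (R := R) (X := X) (D := D) (c ⊗ₜ x) = c ⊗ₜ algebraMap X D x := by
  simp [bcMap]

theorem isLocalization_away_bcMap (h : X) [IsLocalization.Away h D] :
    letI := (bcMap κ (R := R) (X := X) (D := D)).toRingHom.toAlgebra
    IsLocalization.Away ((1 : κ) ⊗ₜ[R] h) (κ ⊗[R] D) := by
  letI := (bcMap κ (R := R) (X := X) (D := D)).toRingHom.toAlgebra
  haveI : IsScalarTower κ (κ ⊗[R] X) (κ ⊗[R] D) :=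
    IsScalarTower.of_algebraMap_eq (fun c => by
      change _ = bcMap κ (algebraMap κ (κ ⊗[R] X) c)
      simp [Algebra.TensorProduct.algebraMap_apply])
  have H := IsLocalization.tensorProduct_tensorProduct_right R κ (Submonoid.powers h) D (by
    ext x
    change bcMap κ ((1 : κ) ⊗ₜ[R] x) = (1 : κ) ⊗ₜ[R] algebraMap X D x
    simp)
  rw [Submonoid.map_powers] at H
  exact H


theorem isOpenEmbedding_comap_bcMap (h : X) [IsLocalization.Away h D] :
    Topology.IsOpenEmbedding (PrimeSpectrum.comap (bcMap κ (R := R) (X := X) (D := D)).toRingHom) := by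
  letI := (bcMap κ (R := R) (X := X) (D := D)).toRingHom.toAlgebra
  haveI := isLocalization_away_bcMap κ (R := R) (X := X) (D := D) h
  exact PrimeSpectrum.localization_away_isOpenEmbedding (κ ⊗[R] D) ((1 : κ) ⊗ₜ[R] h)

theorem range_comap_bcMap (h : X) [IsLocalization.Away h D] :
    Set.range (PrimeSpectrum.comap (bcMap κ (R := R) (X := X) (D := D)).toRingHom) =
      PrimeSpectrum.basicOpen ((1 : κ) ⊗ₜ[R] h) := by
  letI := (bcMap κ (R := R) (X := X) (D := D)).toRingHom.toAlgebra
  haveI := isLocalization_away_bcMap κ (R := R) (X := X) (D := D) h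
  exact PrimeSpectrum.localization_away_comap_range (κ ⊗[R] D) ((1 : κ) ⊗ₜ[R] h)

/-- irreducibility of the fibre of a localization gives irreducibility of the fibre, when the
basic open is dense in the fibre -/
theorem irreducibleSpace_of_loc (h : X) [IsLocalization.Away h D]
    [IrreducibleSpace (PrimeSpectrum (κ ⊗[R] D))]
    (hd : Dense (PrimeSpectrum.basicOpen ((1 : κ) ⊗ₜ[R] h) : Set (PrimeSpectrum (κ ⊗[R] X)))) :
    IrreducibleSpace (PrimeSpectrum (κ ⊗[R] X)) := by
  apply irreducibleSpace_of_isOpenEmbedding_of_dense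
    (isOpenEmbedding_comap_bcMap κ (R := R) (X := X) (D := D) h)
  rw [range_comap_bcMap κ (R := R) (X := X) (D := D) h]
  exact hd

theorem irreducibleSpace_loc (h : X) [IsLocalization.Away h D]
    [IrreducibleSpace (PrimeSpectrum (κ ⊗[R] X))]
    (hn : (PrimeSpectrum.basicOpen ((1 : κ) ⊗ₜ[R] h) : Set (PrimeSpectrum (κ ⊗[R] X))).Nonempty) :
    IrreducibleSpace (PrimeSpectrum (κ ⊗[R] D)) := by
  apply irreducibleSpace_of_isOpenEmbedding_of_nonempty
    (isOpenEmbedding_comap_bcMap κ (R := R) (X := X) (D := D) h)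
  rw [range_comap_bcMap κ (R := R) (X := X) (D := D) h]
  exact hn

end Loc

section Quot

variable {R : Type*} [CommRing R] (κ : Type*) [CommRing κ] [Algebra R κ]
  {B X : Type*} [CommRing B] [CommRing X] [Algebra R B] [Algebra R X]

/-- if every element of the kernel of a surjection `B → X` becomes nilpotent in the fibre ring,
then the fibres of `B` and `X` have homeomorphic spectra -/
theorem irreducibleSpace_iff_of_surjective (ρ : B →ₐ[R] X) (hρ : Function.Surjective ρ)
    (hnil : ∀ b ∈ RingHom.ker ρ, IsNilpotent ((1 : κ) ⊗ₜ[R] b)) :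
    IrreducibleSpace (PrimeSpectrum (κ ⊗[R] B)) ↔ IrreducibleSpace (PrimeSpectrum (κ ⊗[R] X)) := by
  let g : κ ⊗[R] B →ₐ[R] κ ⊗[R] X := Algebra.TensorProduct.map (AlgHom.id R κ) ρ
  have hg : Function.Surjective g :=
    Algebra.TensorProduct.map_surjective _ _ Function.surjective_id hρ
  have hker : RingHom.ker g = (RingHom.ker ρ).map Algebra.TensorProduct.includeRight :=
    Algebra.TensorProduct.lTensor_ker ρ hρ
  have hemb := PrimeSpectrum.isClosedEmbedding_comap_of_surjective (κ ⊗[R] X) g.toRingHom hg
  have hrange : Set.range (PrimeSpectrum.comap g.toRingHom) = Set.univ := by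
    rw [range_comap_of_surjective _ _ hg]
    rw [Set.eq_univ_iff_forall]
    intro p
    change RingHom.ker g ≤ p.asIdeal
    rw [hker, Ideal.map_le_iff_le_comap]
    intro b hb
    obtain ⟨n, hn⟩ := hnil b hb
    exact p.2.mem_of_pow_mem n (hn ▸ p.asIdeal.zero_mem)
  have hsurj : Function.Surjective (PrimeSpectrum.comap g.toRingHom) :=
    Set.range_eq_univ.mp hrange
  let e : PrimeSpectrum (κ ⊗[R] X) ≃ₜ PrimeSpectrum (κ ⊗[R] B) :=
    (Equiv.ofBijective _ ⟨hemb.injective, hsurj⟩).toHomeomorphOfIsInducing hemb.toIsInducing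
  exact e.irreducibleSpace_iff.symm

end Quot


section Hyper

open MvPolynomial

variable {R : Type*} [CommRing R] {σ : Type*} (κ : Type*) [Field κ] [Algebra R κ]
  {X : Type*} [CommRing X] [Algebra R X]

/-- the presentation of the fibre ring of a hypersurface ring as a quotient of a polynomial ring
over the field -/
noncomputable def fibPres (f : MvPolynomial σ R →ₐ[R] X) : MvPolynomial σ κ →+* κ ⊗[R] X :=
  (Algebra.TensorProduct.map (AlgHom.id R κ) f).toRingHom.comp
    (MvPolynomial.algebraTensorAlgEquiv R κ (σ := σ)).symm.toRingEquiv.toRingHom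

theorem fibPres_surjective (f : MvPolynomial σ R →ₐ[R] X) (hf : Function.Surjective f) :
    Function.Surjective (fibPres κ f) := by
  unfold fibPres
  exact (Algebra.TensorProduct.map_surjective _ _ Function.surjective_id hf).comp
    (MvPolynomial.algebraTensorAlgEquiv R κ (σ := σ)).symm.surjective

theorem ker_fibPres (f : MvPolynomial σ R →ₐ[R] X) (hf : Function.Surjective f)
    (P : MvPolynomial σ R) (hker : RingHom.ker f = Ideal.span {P}) :
    RingHom.ker (fibPres κ f) = Ideal.span {MvPolynomial.map (algebraMap R κ) P} := by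
  unfold fibPres
  rw [← RingHom.comap_ker]
  have h1 : RingHom.ker (Algebra.TensorProduct.map (AlgHom.id R κ) f).toRingHom =
      (RingHom.ker f).map Algebra.TensorProduct.includeRight :=
    Algebra.TensorProduct.lTensor_ker f hf
  rw [h1, hker, Ideal.map_span, Set.image_singleton]
  have h2 := Ideal.comap_symm (I := Ideal.span {(Algebra.TensorProduct.includeRight :
      MvPolynomial σ R →ₐ[R] κ ⊗[R] MvPolynomial σ R) P})
    (MvPolynomial.algebraTensorAlgEquiv R κ (σ := σ)).toRingEquiv
  change Ideal.comap (MvPolynomial.algebraTensorAlgEquiv R κ (σ := σ)).toRingEquiv.symm _ = _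
  rw [h2, Ideal.map_span, Set.image_singleton]
  congr 2
  change MvPolynomial.algebraTensorAlgEquiv R κ ((1 : κ) ⊗ₜ[R] P) = _
  rw [MvPolynomial.algebraTensorAlgEquiv_tmul, one_smul]

theorem irreducibleSpace_fibre_of_irreducible (f : MvPolynomial σ R →ₐ[R] X)
    (hf : Function.Surjective f) (P : MvPolynomial σ R) (hker : RingHom.ker f = Ideal.span {P})
    (hirr : Irreducible (MvPolynomial.map (algebraMap R κ) P)) :
    IrreducibleSpace (PrimeSpectrum (κ ⊗[R] X)) := by
  have hs := fibPres_surjective κ f hf
  have hk := ker_fibPres κ f hf P hker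
  have hprime : (RingHom.ker (fibPres κ f)).IsPrime := by
    rw [hk, Ideal.span_singleton_prime hirr.ne_zero]
    exact hirr.prime
  have e := RingHom.quotientKerEquivOfSurjective hs
  haveI : IsDomain (MvPolynomial σ κ ⧸ RingHom.ker (fibPres κ f)) :=
    (Ideal.Quotient.isDomain_iff_prime _).mpr hprime
  haveI : IsDomain (κ ⊗[R] X) := e.symm.toMulEquiv.isDomain _
  infer_instance

theorem radical_isPrime_of_irreducibleSpace_fibre (f : MvPolynomial σ R →ₐ[R] X)
    (hf : Function.Surjective f) (P : MvPolynomial σ R) (hker : RingHom.ker f = Ideal.span {P})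
    [IrreducibleSpace (PrimeSpectrum (κ ⊗[R] X))] :
    (Ideal.span {MvPolynomial.map (algebraMap R κ) P}).radical.IsPrime := by
  have hs := fibPres_surjective κ f hf
  have hk := ker_fibPres κ f hf P hker
  have hnil : (nilradical (κ ⊗[R] X)).IsPrime :=
    (PrimeSpectrum.irreducibleSpace_iff_isPrime_nilradical).mp inferInstance
  have h1 : (Ideal.span {MvPolynomial.map (algebraMap R κ) P}).radical =
      (nilradical (κ ⊗[R] X)).comap (fibPres κ f) := by
    rw [← hk]
    ext x
    simp only [Ideal.mem_comap, mem_nilradical, Ideal.mem_radical_iff, RingHom.mem_ker]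
    constructor
    · rintro ⟨n, hn⟩
      exact ⟨n, by rw [← map_pow]; exact hn⟩
    · rintro ⟨n, hn⟩
      exact ⟨n, by rw [map_pow]; exact hn⟩
  rw [h1]
  exact Ideal.comap_isPrime _ _

end Hyper

end Groth.Agent.Lib.Helper4.GITop1
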