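import Mathlib
import Groth.Agent.Lib.Helper4.GITop1
import Groth.Agent.Lib.Helper4.GISep1
import Groth.Agent.Lib.Helper4.GIBir1
import Groth.Agent.Lib.Helper4.GIModel2
import Groth.Agent.Lib.Helper4.GIPoly1
import Groth.Agent.Lib.Helper4.GIDense1

/-!
# Geometric irreducibility of the generic fibre spreads out: ring core over a domain with perfect fraction field (helper4)
-/

set_option backward.isDefEq.respectTransparency.types false
set_option synthInstance.maxHeartbeats 400000
set_option autoImplicit false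
set_option linter.unusedSectionVars false
set_option linter.style.haveILetI false
set_option linter.unusedSimpArgs false
universe u v w
open TensorProduct
open Groth.Agent.Lib.Helper4.GITop1 Groth.Agent.Lib.Helper4.GISep1 Groth.Agent.Lib.Helper4.GIBir1
open Groth.Agent.Lib.Helper4.GIModel2 Groth.Agent.Lib.Helper4.GIPoly1 Groth.Agent.Lib.Helper4.GIDense1
open Groth.Agent.Helper7.NowDense

namespace Groth.Agent.Lib.Helper4.GICore1

section Generic

variable {R : Type u} [CommRing R] [IsDomain R] (K₀ : Type u) [Field K₀] [Algebra R K₀]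
    [IsFractionRing R K₀] (C : Type u) [CommRing C] [Algebra R C]
    (N : Ideal (K₀ ⊗[R] C)) [N.IsPrime]

/-- the map from `C` to the residue field of a prime of the generic fibre ring -/
noncomputable def genMap : C →ₐ[R] N.ResidueField :=
  ((IsScalarTower.toAlgHom R (K₀ ⊗[R] C) N.ResidueField)).comp
    (Algebra.TensorProduct.includeRight : C →ₐ[R] K₀ ⊗[R] C)

lemma genMap_apply (c : C) :
    genMap K₀ C N c = algebraMap (K₀ ⊗[R] C) N.ResidueField ((1 : K₀) ⊗ₜ[R] c) := rfl

lemma mem_of_genMap_eq_zero (c : C) (hc : genMap K₀ C N c = 0) : (1 : K₀) ⊗ₜ[R] c ∈ N := by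
  rw [genMap_apply] at hc
  have : (1 : K₀) ⊗ₜ[R] c ∈ RingHom.ker (algebraMap (K₀ ⊗[R] C) N.ResidueField) := hc
  rwa [Ideal.ker_algebraMap_residueField] at this

lemma algebraMap_eq_div_genMap (z : K₀ ⊗[R] C) :
    ∃ (t : R) (c : C), t ≠ 0 ∧
      algebraMap R N.ResidueField t * algebraMap (K₀ ⊗[R] C) N.ResidueField z = genMap K₀ C N c := by
  obtain ⟨t, c, ht, htz⟩ := exists_smul_eq_tmul (R := R) (C := C) K₀ z
  refine ⟨t, c, ht, ?_⟩
  rw [genMap_apply, ← htz, Algebra.smul_def, map_mul, ← IsScalarTower.algebraMap_apply]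

lemma algebraMap_R_injective : Function.Injective (algebraMap R N.ResidueField) := by
  rw [IsScalarTower.algebraMap_eq R K₀ N.ResidueField]
  exact (algebraMap K₀ N.ResidueField).injective.comp (IsFractionRing.injective R K₀)

/-- every element of the residue field is a fraction of elements coming from `C` -/
theorem genMap_frac (z : N.ResidueField) :
    ∃ c₁ c₂ : C, genMap K₀ C N c₂ ≠ 0 ∧ z * genMap K₀ C N c₂ = genMap K₀ C N c₁ := by
  obtain ⟨x, y, hy, rfl⟩ : ∃ (x y : (K₀ ⊗[R] C) ⧸ N), y ≠ 0 ∧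
      z = algebraMap _ N.ResidueField x / algebraMap _ N.ResidueField y := by
    obtain ⟨x, y, hy, h⟩ := IsFractionRing.div_surjective (A := (K₀ ⊗[R] C) ⧸ N) z
    exact ⟨x, y, nonZeroDivisors.ne_zero hy, h.symm⟩
  obtain ⟨x, rfl⟩ := Ideal.Quotient.mk_surjective x
  obtain ⟨y, rfl⟩ := Ideal.Quotient.mk_surjective y
  obtain ⟨t₁, c₁, ht₁, h₁⟩ := algebraMap_eq_div_genMap K₀ C N x
  obtain ⟨t₂, c₂, ht₂, h₂⟩ := algebraMap_eq_div_genMap K₀ C N y
  have hinj := algebraMap_R_injective K₀ C N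
  have ht₁' : algebraMap R N.ResidueField t₁ ≠ 0 := by
    rwa [Ne, map_eq_zero_iff _ hinj]
  have ht₂' : algebraMap R N.ResidueField t₂ ≠ 0 := by
    rwa [Ne, map_eq_zero_iff _ hinj]
  have hx : algebraMap ((K₀ ⊗[R] C) ⧸ N) N.ResidueField (Ideal.Quotient.mk N x) =
      algebraMap (K₀ ⊗[R] C) N.ResidueField x := rfl
  have hy' : algebraMap ((K₀ ⊗[R] C) ⧸ N) N.ResidueField (Ideal.Quotient.mk N y) =
      algebraMap (K₀ ⊗[R] C) N.ResidueField y := rfl
  have hy0 : algebraMap (K₀ ⊗[R] C) N.ResidueField y ≠ 0 := by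
    rw [← hy', Ne, map_eq_zero_iff _ (Ideal.injective_algebraMap_quotient_residueField N)]
    exact hy
  refine ⟨t₂ • c₁, t₁ • c₂, ?_, ?_⟩
  · rw [map_smul, Algebra.smul_def, ← h₂]
    exact mul_ne_zero ht₁' (mul_ne_zero ht₂' hy0)
  · rw [map_smul, map_smul, Algebra.smul_def, Algebra.smul_def, ← h₁, ← h₂, hx, hy']
    field_simp

end Generic


section OptionAeval

open MvPolynomial

variable {R : Type*} [CommRing R] {L : Type*} [CommRing L] [Algebra R L] {σ : Type*}

/-- evaluating a polynomial in `Option σ` variables through `optionEquivLeft` -/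
theorem aeval_option_eq_eval₂ (t : σ → L) (θ : L) (p : MvPolynomial (Option σ) R) :
    aeval (fun o : Option σ => o.elim θ t) p =
      Polynomial.eval₂ (aeval t : MvPolynomial σ R →ₐ[R] L).toRingHom θ
        (optionEquivLeft R σ p) := by
  have : (aeval (fun o : Option σ => o.elim θ t) : MvPolynomial (Option σ) R →ₐ[R] L).toRingHom =
      (Polynomial.eval₂RingHom (aeval t : MvPolynomial σ R →ₐ[R] L).toRingHom θ).comp
        (optionEquivLeft R σ).toRingEquiv.toRingHom := by
    apply MvPolynomial.ringHom_ext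
    · intro r
      simp [optionEquivLeft_C]
    · intro i
      cases i with
      | none => simp [optionEquivLeft_X_none]
      | some j => simp [optionEquivLeft_X_some]
  exact RingHom.congr_fun this p

end OptionAeval

section Core

open MvPolynomial

/-- **Core, perfect case**: over a domain with perfect fraction field, geometric irreducibility of
the generic fibre of a finite type algebra spreads out to a nonempty open of the base. -/
theorem perfCore {R : Type u} [CommRing R] [IsDomain R] (K₀ : Type u) [Field K₀] [Algebra R K₀]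
    [IsFractionRing R K₀] [PerfectField K₀] {C : Type u} [CommRing C] [Algebra R C]
    [Algebra.FiniteType R C]
    (H : ∀ (Ω : Type u) [Field Ω] [Algebra R Ω], Function.Injective (algebraMap R Ω) →
      IrreducibleSpace (PrimeSpectrum (Ω ⊗[R] C))) :
    ∃ a : R, a ≠ 0 ∧ ∀ (κ : Type u) [Field κ] [Algebra R κ], algebraMap R κ a ≠ 0 →
      IrreducibleSpace (PrimeSpectrum (κ ⊗[R] C)) := by
  classical
  have hinjK : Function.Injective (algebraMap R K₀) := IsFractionRing.injective R K₀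
  haveI hG : IrreducibleSpace (PrimeSpectrum (K₀ ⊗[R] C)) := H K₀ hinjK
  let N : Ideal (K₀ ⊗[R] C) := nilradical (K₀ ⊗[R] C)
  haveI hNp : N.IsPrime := PrimeSpectrum.irreducibleSpace_iff_isPrime_nilradical.mp hG
  let L := N.ResidueField
  haveI : Algebra.EssFiniteType K₀ L := Algebra.EssFiniteType.comp K₀ (K₀ ⊗[R] C) _
  let ψ : C →ₐ[R] L := genMap K₀ C N
  -- the model
  obtain ⟨d, t, θ, P, hPm, htinj, hker, hfrac, hsep⟩ := exists_model (R := R) K₀ L
  let σ := Option (Fin d)
  let P' : MvPolynomial σ R := (optionEquivLeft R (Fin d)).symm P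
  have hP' : optionEquivLeft R (Fin d) P' = P := (optionEquivLeft R (Fin d)).apply_symm_apply P
  let f : MvPolynomial σ R →ₐ[R] L := aeval (fun o : Option (Fin d) => o.elim θ t)
  have hf : ∀ p, f p = Polynomial.eval₂ (aeval t : MvPolynomial (Fin d) R →ₐ[R] L).toRingHom θ
      (optionEquivLeft R (Fin d) p) := aeval_option_eq_eval₂ t θ
  have hkerf : RingHom.ker f = Ideal.span {P'} := by
    ext p
    rw [RingHom.mem_ker, hf, hker, Ideal.mem_span_singleton]
    constructor
    · rintro ⟨Q, hQ⟩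
      refine ⟨(optionEquivLeft R (Fin d)).symm Q, ?_⟩
      apply (optionEquivLeft R (Fin d)).injective
      rw [hQ, map_mul, hP', AlgEquiv.apply_symm_apply]
    · rintro ⟨Q, rfl⟩
      exact ⟨optionEquivLeft R (Fin d) Q, by rw [map_mul, hP']⟩
  -- the two subalgebras
  let X₁ : Subalgebra R L := ψ.range
  let X₂ : Subalgebra R L := f.range
  have hfg₁ : X₁.FG := by
    have := (Algebra.FiniteType.out : (⊤ : Subalgebra R C).FG)
    have h := this.map ψ
    rwa [Algebra.map_top] at h
  have hfg₂ : X₂.FG := by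
    have := (Algebra.FiniteType.out : (⊤ : Subalgebra R (MvPolynomial σ R)).FG)
    have h := this.map f
    rwa [Algebra.map_top] at h
  have hfrac₁ : ∀ z : L, ∃ x y : X₁, (y : L) ≠ 0 ∧ z * (y : L) = (x : L) := by
    intro z
    obtain ⟨c₁, c₂, h0, h⟩ := genMap_frac K₀ C N z
    exact ⟨⟨ψ c₁, c₁, rfl⟩, ⟨ψ c₂, c₂, rfl⟩, h0, h⟩
  have hfrac₂ : ∀ z : L, ∃ x y : X₂, (y : L) ≠ 0 ∧ z * (y : L) = (x : L) := by
    intro z
    obtain ⟨p, r, hr, h⟩ := hfrac z
    refine ⟨⟨f ((optionEquivLeft R (Fin d)).symm p), _, rfl⟩,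
      ⟨f ((optionEquivLeft R (Fin d)).symm (Polynomial.C r)), _, rfl⟩, ?_, ?_⟩
    · change f _ ≠ 0
      rw [hf, AlgEquiv.apply_symm_apply, Polynomial.eval₂_C]
      intro h0
      exact hr (htinj (by rw [map_zero]; exact h0))
    · change z * f _ = f _
      rw [hf, hf, AlgEquiv.apply_symm_apply, AlgEquiv.apply_symm_apply, Polynomial.eval₂_C]
      exact h
  obtain ⟨h, g, hh0, hg0, hD⟩ := exists_locSub_eq X₁ X₂ hfg₁ hfg₂ hfrac₁ hfrac₂
  let D : Subalgebra R L := locSub X₁ h
  have hle₁ : X₁ ≤ D := le_locSub X₁ h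
  have hle₂ : X₂ ≤ D := by
    change X₂ ≤ locSub X₁ h
    rw [hD]
    exact le_locSub X₂ g
  letI alg₁ : Algebra X₁ D := (Subalgebra.inclusion hle₁).toRingHom.toAlgebra
  letI alg₂ : Algebra X₂ D := (Subalgebra.inclusion hle₂).toRingHom.toAlgebra
  haveI : IsScalarTower R X₁ D := IsScalarTower.of_algebraMap_eq (fun r => rfl)
  haveI : IsScalarTower R X₂ D := IsScalarTower.of_algebraMap_eq (fun r => rfl)
  haveI loc₁ : IsLocalization.Away h D := isLocalization_away_of_eq_locSub h hh0 rfl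
  haveI loc₂ : IsLocalization.Away g D := isLocalization_away_of_eq_locSub g hg0 hD
  haveI : Algebra.FiniteType R X₁ := ⟨(Subalgebra.fg_top X₁).mpr hfg₁⟩
  haveI : Algebra.FiniteType R X₂ := ⟨(Subalgebra.fg_top X₂).mpr hfg₂⟩
  have hh0' : h ≠ 0 := fun e => hh0 (by rw [e]; rfl)
  have hg0' : g ≠ 0 := fun e => hg0 (by rw [e]; rfl)
  -- generic elements
  obtain ⟨a₁, ha₁, hnil⟩ := exists_forall_isNilpotent (R := R) K₀ (C := C)
  obtain ⟨a₂, ha₂, hden₁⟩ := exists_dense_basicOpen (R := R) K₀ (X := X₁) (L := L) X₁.val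
    Subtype.val_injective h hh0'
  obtain ⟨a₃, ha₃, hden₂⟩ := exists_dense_basicOpen (R := R) K₀ (X := X₂) (L := L) X₂.val
    Subtype.val_injective g hg0'
  -- surjections
  let ρ₁ : C →ₐ[R] X₁ := ψ.rangeRestrict
  have hρ₁ : Function.Surjective ρ₁ := ψ.rangeRestrict_surjective
  let ρ₂ : MvPolynomial σ R →ₐ[R] X₂ := f.rangeRestrict
  have hρ₂ : Function.Surjective ρ₂ := f.rangeRestrict_surjective
  have hkerρ₂ : RingHom.ker ρ₂ = Ideal.span {P'} := by
    rw [← hkerf]
    ext p
    simp only [RingHom.mem_ker]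
    constructor
    · intro hp; exact congrArg Subtype.val hp
    · intro hp; exact Subtype.ext hp
  have hnil' : ∀ (κ : Type u) [Field κ] [Algebra R κ], algebraMap R κ a₁ ≠ 0 →
      ∀ b ∈ RingHom.ker ρ₁, IsNilpotent ((1 : κ) ⊗ₜ[R] b) := by
    intro κ _ _ hκ b hb
    apply hnil b _ κ hκ
    have hb' : ψ b = 0 := congrArg Subtype.val hb
    have := mem_of_genMap_eq_zero K₀ C N b hb'
    exact this
  -- transfer between C and X₂ for a field in which a₁ a₂ a₃ is nonzero
  have htrans : ∀ (κ : Type u) [Field κ] [Algebra R κ], algebraMap R κ (a₁ * a₂ * a₃) ≠ 0 →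
      (IrreducibleSpace (PrimeSpectrum (κ ⊗[R] C)) ↔
        IrreducibleSpace (PrimeSpectrum (κ ⊗[R] X₂))) := by
    intro κ _ _ hκ
    have hκ₁ : algebraMap R κ a₁ ≠ 0 := fun e => hκ (by rw [map_mul, map_mul, e]; ring)
    have hκ₂ : algebraMap R κ a₂ ≠ 0 := fun e => hκ (by rw [map_mul, map_mul, e]; ring)
    have hκ₃ : algebraMap R κ a₃ ≠ 0 := fun e => hκ (by rw [map_mul, map_mul, e]; ring)
    rw [irreducibleSpace_iff_of_surjective κ ρ₁ hρ₁ (hnil' κ hκ₁)]
    have hd₁ := hden₁ κ hκ₂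
    have hd₂ := hden₂ κ hκ₃
    constructor
    · intro hirr
      haveI := hirr
      haveI : IrreducibleSpace (PrimeSpectrum (κ ⊗[R] D)) :=
        irreducibleSpace_loc κ (R := R) (X := X₁) (D := D) h hd₁.nonempty
      exact irreducibleSpace_of_loc κ (R := R) (X := X₂) (D := D) g hd₂
    · intro hirr
      haveI := hirr
      haveI : IrreducibleSpace (PrimeSpectrum (κ ⊗[R] D)) :=
        irreducibleSpace_loc κ (R := R) (X := X₂) (D := D) g hd₂.nonempty
      exact irreducibleSpace_of_loc κ (R := R) (X := X₁) (D := D) h hd₁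
  have ha123 : a₁ * a₂ * a₃ ≠ 0 := mul_ne_zero (mul_ne_zero ha₁ ha₂) ha₃
  -- absolute irreducibility of P'
  have habs : ∀ (Ω : Type u) [Field Ω] (φ : R →+* Ω), Function.Injective φ →
      Irreducible (MvPolynomial.map φ P') := by
    intro Ω _ φ hφ
    letI : Algebra R Ω := φ.toAlgebra
    have hinj : Function.Injective (algebraMap R Ω) := hφ
    haveI := H Ω hinj
    have hne : algebraMap R Ω (a₁ * a₂ * a₃) ≠ 0 := by
      rw [Ne, map_eq_zero_iff _ hinj]; exact ha123
    haveI : IrreducibleSpace (PrimeSpectrum (Ω ⊗[R] X₂)) := (htrans Ω hne).mp inferInstance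
    have hrad := radical_isPrime_of_irreducibleSpace_fibre Ω ρ₂ hρ₂ P' hkerρ₂
    have hQ : optionEquivLeft Ω (Fin d) (MvPolynomial.map (algebraMap R Ω) P') =
        Polynomial.map (MvPolynomial.map (algebraMap R Ω)) P := by
      rw [optionEquivLeft_map, hP']
    let E := FractionRing (MvPolynomial (Fin d) Ω)
    refine irreducible_of_radical_isPrime_option (MvPolynomial.map (algebraMap R Ω) P') ?_
      (algebraMap (MvPolynomial (Fin d) Ω) E) (IsFractionRing.injective _ _) ?_ hrad
    · rw [hQ]; exact hPm.map _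
    · rw [hQ, Polynomial.map_map]
      apply hsep E
      exact (IsFractionRing.injective _ _).comp (MvPolynomial.map_injective _ hinj)
  obtain ⟨a₄, ha₄, hirrP⟩ := exists_forall_irreducible_map P' habs
  refine ⟨a₁ * a₂ * a₃ * a₄, mul_ne_zero ha123 ha₄, ?_⟩
  intro κ _ _ hκ
  have hκ123 : algebraMap R κ (a₁ * a₂ * a₃) ≠ 0 := fun e => hκ (by rw [map_mul, e, zero_mul])
  have hκ4 : algebraMap R κ a₄ ≠ 0 := fun e => hκ (by rw [map_mul, e, mul_zero])
  rw [htrans κ hκ123]
  exact irreducibleSpace_fibre_of_irreducible κ ρ₂ hρ₂ P' hkerρ₂ (hirrP κ (algebraMap R κ) hκ4)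

end Core

end Groth.Agent.Lib.Helper4.GICore1
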