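import Mathlib
import Groth.Agent.Lib.Helper4.GICore1

/-!
# Geometric irreducibility spreads out: ring core over an arbitrary domain (perfection in char p) (helper4)
-/

set_option backward.isDefEq.respectTransparency.types false
set_option synthInstance.maxHeartbeats 400000
set_option autoImplicit false
set_option linter.unusedSectionVars false
set_option linter.style.haveILetI false
set_option linter.unusedSimpArgs false
universe u v w
open TensorProduct
open Groth.Agent.Lib.Helper4.GICore1

namespace Groth.Agent.Lib.Helper4.GIDom1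

theorem irreducibleSpace_of_ringEquiv {A B : Type*} [CommRing A] [CommRing B] (e : A ≃+* B)
    [IrreducibleSpace (PrimeSpectrum A)] : IrreducibleSpace (PrimeSpectrum B) :=
  (PrimeSpectrum.homeomorphOfRingEquiv e).irreducibleSpace_iff.mp inferInstance

/-- Irreducibility of the spectrum descends along a field extension. -/
theorem irreducibleSpace_of_fieldExt (κ κ' : Type*) [Field κ] [Field κ'] [Algebra κ κ']
    (S : Type*) [CommRing S] [Algebra κ S] [IrreducibleSpace (PrimeSpectrum (κ' ⊗[κ] S))] :
    IrreducibleSpace (PrimeSpectrum S) := by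
  haveI : IrreducibleSpace (PrimeSpectrum (S ⊗[κ] κ')) :=
    irreducibleSpace_of_ringEquiv (Algebra.TensorProduct.comm κ κ' S).toRingEquiv
  exact (PrimeSpectrum.comap_surjective_of_faithfullyFlat (A := S) (B := S ⊗[κ] κ')).irreducibleSpace
    (PrimeSpectrum.continuous_comap _)

section PC

variable (R : Type u) [CommRing R] [IsDomain R] (p : ℕ) [Fact p.Prime] [CharP R p]

instance isDomain_perfectClosure : IsDomain (PerfectClosure R p) := by
  haveI : NoZeroDivisors (PerfectClosure R p) := by
    refine ⟨fun {x y} hxy => ?_⟩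
    obtain ⟨⟨n, a⟩, rfl⟩ := PerfectClosure.mk_surjective R p x
    obtain ⟨⟨m, b⟩, rfl⟩ := PerfectClosure.mk_surjective R p y
    rw [PerfectClosure.mk_mul_mk, ← PerfectClosure.mk_zero_right (K := R) (p := p) (n + m),
      PerfectClosure.eq_iff] at hxy
    simp only [iterate_frobenius, map_zero, zero_pow_eq_zero, mul_pow, mul_eq_zero,
      pow_eq_zero_iff] at hxy
    have hp : p ≠ 0 := (Fact.out : p.Prime).ne_zero
    have h0 : (0 : R) ^ p ^ (n + m) = 0 := zero_pow (pow_ne_zero _ hp)
    rw [h0, mul_eq_zero] at hxy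
    rcases hxy with h | h
    · left
      have : a = 0 := pow_eq_zero_iff (pow_ne_zero _ hp) |>.mp (pow_eq_zero_iff (pow_ne_zero _ hp) |>.mp h)
      rw [this, PerfectClosure.mk_zero_right]
    · right
      have : b = 0 := pow_eq_zero_iff (pow_ne_zero _ hp) |>.mp (pow_eq_zero_iff (pow_ne_zero _ hp) |>.mp h)
      rw [this, PerfectClosure.mk_zero_right]
  exact NoZeroDivisors.to_isDomain _

theorem of_injective : Function.Injective (PerfectClosure.of R p) := by
  intro x y h
  rw [PerfectClosure.of_apply, PerfectClosure.of_apply, PerfectClosure.eq_iff] at h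
  simpa using h

theorem perfectField_fractionRing (A : Type u) [CommRing A] [IsDomain A] [CharP A p]
    [PerfectRing A p] : PerfectField (FractionRing A) := by
  haveI : CharP (FractionRing A) p :=
    charP_of_injective_algebraMap (IsFractionRing.injective A (FractionRing A)) p
  haveI : ExpChar (FractionRing A) p := ExpChar.prime Fact.out
  haveI : PerfectRing (FractionRing A) p := by
    refine PerfectRing.ofSurjective _ p fun x => ?_
    obtain ⟨a, b, hb, rfl⟩ := IsFractionRing.div_surjective (A := A) x
    obtain ⟨a', rfl⟩ := surjective_frobenius A p a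
    obtain ⟨b', rfl⟩ := surjective_frobenius A p b
    refine ⟨algebraMap A _ a' / algebraMap A _ b', ?_⟩
    simp [frobenius_def, div_pow]
  exact PerfectRing.toPerfectField _ p

end PC


theorem charP_of_algebraMap {R κ : Type*} [CommRing R] [Field κ] [Algebra R κ] (p : ℕ)
    [hp : Fact p.Prime] [CharP R p] : CharP κ p := by
  have h0 : ((p : ℕ) : κ) = 0 := by
    have : ((p : ℕ) : R) = 0 := CharP.cast_eq_zero R p
    rw [← map_natCast (algebraMap R κ), this, map_zero]
  have hdvd : ringChar κ ∣ p := ringChar.dvd h0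
  have hne : ringChar κ ≠ 1 := CharP.ringChar_ne_one
  have : ringChar κ = p := ((Nat.dvd_prime hp.out).mp hdvd).resolve_left hne
  exact this ▸ ringChar.charP κ

theorem domCore_charP {R : Type u} [CommRing R] [IsDomain R] (p : ℕ) [Fact p.Prime] [CharP R p]
    {C : Type u} [CommRing C] [Algebra R C] [Algebra.FiniteType R C]
    (H : ∀ (Ω : Type u) [Field Ω] [Algebra R Ω], Function.Injective (algebraMap R Ω) →
      IrreducibleSpace (PrimeSpectrum (Ω ⊗[R] C))) :
    ∃ a : R, a ≠ 0 ∧ ∀ (κ : Type u) [Field κ] [Algebra R κ], algebraMap R κ a ≠ 0 →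
      IrreducibleSpace (PrimeSpectrum (κ ⊗[R] C)) := by
  let R' := PerfectClosure R p
  letI : Algebra R R' := (PerfectClosure.of R p).toAlgebra
  haveI : PerfectField (FractionRing R') := perfectField_fractionRing p R'
  have H' : ∀ (Ω : Type u) [Field Ω] [Algebra R' Ω], Function.Injective (algebraMap R' Ω) →
      IrreducibleSpace (PrimeSpectrum (Ω ⊗[R'] (R' ⊗[R] C))) := by
    intro Ω _ _ hinj
    letI : Algebra R Ω := ((algebraMap R' Ω).comp (algebraMap R R')).toAlgebra
    haveI : IsScalarTower R R' Ω := IsScalarTower.of_algebraMap_eq (fun _ => rfl)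
    haveI : IrreducibleSpace (PrimeSpectrum (Ω ⊗[R] C)) :=
      H Ω (hinj.comp (of_injective R p))
    exact irreducibleSpace_of_ringEquiv
      (Algebra.TensorProduct.cancelBaseChange R R' Ω Ω C).symm.toRingEquiv
  obtain ⟨a', ha', hmain⟩ := perfCore (R := R') (FractionRing R') (C := R' ⊗[R] C) H'
  obtain ⟨⟨n, a⟩, rfl⟩ := PerfectClosure.mk_surjective R p a'
  refine ⟨a, fun h => ha' (by rw [h, PerfectClosure.mk_zero_right]), fun κ _ _ hκ => ?_⟩
  haveI : CharP κ p := charP_of_algebraMap (R := R) p
  let κ' := PerfectClosure κ p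
  letI : Algebra κ κ' := (PerfectClosure.of κ p).toAlgebra
  let g : R' →+* κ' := PerfectClosure.lift R p κ' ((PerfectClosure.of κ p).comp (algebraMap R κ))
  letI : Algebra R' κ' := g.toAlgebra
  letI : Algebra R κ' := ((PerfectClosure.of κ p).comp (algebraMap R κ)).toAlgebra
  haveI : IsScalarTower R κ κ' := IsScalarTower.of_algebraMap_eq (fun _ => rfl)
  have hg : g.comp (PerfectClosure.of R p) = (PerfectClosure.of κ p).comp (algebraMap R κ) :=
    (PerfectClosure.lift R p κ').left_inv _
  haveI : IsScalarTower R R' κ' := IsScalarTower.of_algebraMap_eq (fun x => by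
    change ((PerfectClosure.of κ p).comp (algebraMap R κ)) x = g (PerfectClosure.of R p x)
    rw [← hg]; rfl)
  have hga : algebraMap R' κ' (PerfectClosure.mk R p (n, a)) ≠ 0 := by
    intro h0
    have h1 : g ((frobenius R' p)^[n] (PerfectClosure.mk R p (n, a))) = 0 := by
      rw [iterate_frobenius, map_pow]
      change (algebraMap R' κ' _) ^ _ = 0
      rw [h0, zero_pow (pow_ne_zero _ (Fact.out : p.Prime).ne_zero)]
    rw [PerfectClosure.iterate_frobenius_mk] at h1
    have h2 : (PerfectClosure.of κ p) (algebraMap R κ a) = 0 := by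
      rw [← RingHom.comp_apply, ← hg]; exact h1
    exact hκ ((PerfectClosure.of κ p).injective (h2.trans (map_zero (PerfectClosure.of κ p)).symm))
  haveI h1 : IrreducibleSpace (PrimeSpectrum (κ' ⊗[R'] (R' ⊗[R] C))) := hmain κ' hga
  haveI h2 : IrreducibleSpace (PrimeSpectrum (κ' ⊗[R] C)) :=
    irreducibleSpace_of_ringEquiv
      (Algebra.TensorProduct.cancelBaseChange R R' κ' κ' C).toRingEquiv
  haveI h3 : IrreducibleSpace (PrimeSpectrum (κ' ⊗[κ] (κ ⊗[R] C))) :=
    irreducibleSpace_of_ringEquiv
      (Algebra.TensorProduct.cancelBaseChange R κ κ' κ' C).symm.toRingEquiv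
  exact irreducibleSpace_of_fieldExt κ κ' (κ ⊗[R] C)


theorem domCore {R : Type u} [CommRing R] [IsDomain R]
    {C : Type u} [CommRing C] [Algebra R C] [Algebra.FiniteType R C]
    (H : ∀ (Ω : Type u) [Field Ω] [Algebra R Ω], Function.Injective (algebraMap R Ω) →
      IrreducibleSpace (PrimeSpectrum (Ω ⊗[R] C))) :
    ∃ a : R, a ≠ 0 ∧ ∀ (κ : Type u) [Field κ] [Algebra R κ], algebraMap R κ a ≠ 0 →
      IrreducibleSpace (PrimeSpectrum (κ ⊗[R] C)) := by
  obtain ⟨p, hp⟩ := CharP.exists R
  rcases CharP.char_is_prime_or_zero R p with hpp | h0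
  · haveI : Fact p.Prime := ⟨hpp⟩
    exact domCore_charP p H
  · subst h0
    haveI : CharZero R := CharP.charP_to_charZero R
    haveI : CharZero (FractionRing R) :=
      charZero_of_injective_algebraMap (IsFractionRing.injective R (FractionRing R))
    exact perfCore (FractionRing R) H

end Groth.Agent.Lib.Helper4.GIDom1
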