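import Mathlib
import Groth.Agent.Lib.Helper4.GITop1
import Groth.Agent.Lib.Helper4.GIDom1

/-!
# Ring-level geometric irreducibility of algebras over fields and of their components; stability under field extension (helper4)
-/

set_option backward.isDefEq.respectTransparency.types false
set_option synthInstance.maxHeartbeats 400000
set_option autoImplicit false
set_option linter.unusedSectionVars false
set_option linter.style.haveILetI false
set_option linter.unusedSimpArgs false
universe u v w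
open TensorProduct
open Groth.Agent.Lib.Helper4.GITop1 Groth.Agent.Lib.Helper4.GIDom1

namespace Groth.Agent.Lib.Helper4.GI2Alg1

/-- ring-level geometric irreducibility of an algebra over a field -/
def GeomIrrAlg (k S : Type u) [Field k] [CommRing S] [Algebra k S] : Prop :=
  ∀ (Ω : Type u) [Field Ω] [Algebra k Ω], IrreducibleSpace (PrimeSpectrum (Ω ⊗[k] S))

/-- all irreducible components (with reduced structure) are geometrically irreducible -/
def GeomIrrComps (k S : Type u) [Field k] [CommRing S] [Algebra k S] : Prop :=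
  ∀ q : Ideal S, q ∈ minimalPrimes S → GeomIrrAlg k (S ⧸ q)

theorem GeomIrrAlg.of_algEquiv {k S S' : Type u} [Field k] [CommRing S] [CommRing S'] [Algebra k S]
    [Algebra k S'] (e : S ≃ₐ[k] S') (h : GeomIrrAlg k S) : GeomIrrAlg k S' := by
  intro Ω _ _
  haveI := h Ω
  exact irreducibleSpace_of_ringEquiv
    (Algebra.TensorProduct.congr (AlgEquiv.refl (R := k) (A₁ := Ω)) e).toRingEquiv

theorem GeomIrrComps.of_algEquiv {k S S' : Type u} [Field k] [CommRing S] [CommRing S']
    [Algebra k S] [Algebra k S'] (e : S ≃ₐ[k] S') (h : GeomIrrComps k S) : GeomIrrComps k S' := by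
  intro q' hq'
  let q : Ideal S := q'.comap e.toRingEquiv
  have hq : q ∈ minimalPrimes S := by
    have := Ideal.minimalPrimes_comap_of_surjective (f := (e : S →+* S')) e.surjective
      (I := ⊥) (J := q') hq'
    have h0 : (⊥ : Ideal S').comap (e : S →+* S') = ⊥ := by
      rw [← RingHom.ker_eq_comap_bot]
      exact (RingHom.injective_iff_ker_eq_bot _).mp e.injective
    rw [h0] at this
    exact this
  have hmap : q.map (e : S →+* S') = q' := Ideal.map_comap_of_surjective _ e.surjective q'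
  exact (h q hq).of_algEquiv (Ideal.quotientEquivAlg q q' e hmap.symm)


theorem GeomIrrComps.baseChange {k k' S : Type u} [Field k] [Field k'] [Algebra k k'] [CommRing S]
    [Algebra k S] (h : GeomIrrComps k S) : GeomIrrComps k' (k' ⊗[k] S) := by
  intro Q hQ
  haveI hQp : Q.IsPrime := hQ.1.1
  let inc : S →ₐ[k] k' ⊗[k] S := Algebra.TensorProduct.includeRight
  let q : Ideal S := Q.comap inc
  haveI : q.IsPrime := Ideal.comap_isPrime _ _
  obtain ⟨q₀, hq₀, hq₀q⟩ := Ideal.exists_minimalPrimes_le (I := (⊥ : Ideal S)) (J := q) bot_le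
  haveI hq₀p : q₀.IsPrime := hq₀.1.1
  have hG := h q₀ hq₀
  -- the quotient map on tensor products
  let π : k' ⊗[k] S →ₐ[k'] k' ⊗[k] (S ⧸ q₀) :=
    Algebra.TensorProduct.map (AlgHom.id k' k') (Ideal.Quotient.mkₐ k q₀)
  have hπ : Function.Surjective π :=
    Algebra.TensorProduct.map_surjective _ _ Function.surjective_id
      (Ideal.Quotient.mkₐ_surjective k q₀)
  have hkerπ : RingHom.ker π = q₀.map inc := by
    have h1 := Algebra.TensorProduct.lTensor_ker (A := k') (Ideal.Quotient.mkₐ k q₀)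
      (Ideal.Quotient.mkₐ_surjective k q₀)
    have h2 : RingHom.ker (Ideal.Quotient.mkₐ k q₀) = q₀ := by
      ext a
      rw [RingHom.mem_ker]
      exact Ideal.Quotient.eq_zero_iff_mem
    rw [h2] at h1
    rw [← h1]
    rfl
  have hkerQ : RingHom.ker π ≤ Q := by
    rw [hkerπ, Ideal.map_le_iff_le_comap]
    exact hq₀q
  haveI hirr : IrreducibleSpace (PrimeSpectrum (k' ⊗[k] (S ⧸ q₀))) := hG k'
  have hnilp : (nilradical (k' ⊗[k] (S ⧸ q₀))).IsPrime :=
    PrimeSpectrum.irreducibleSpace_iff_isPrime_nilradical.mp hirr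
  have hN₀p : ((nilradical (k' ⊗[k] (S ⧸ q₀))).comap π).IsPrime := Ideal.comap_isPrime _ _
  have hN₀Q : (nilradical (k' ⊗[k] (S ⧸ q₀))).comap π ≤ Q := by
    intro x hx
    obtain ⟨n, hn⟩ := (show IsNilpotent (π x) from hx)
    have : x ^ n ∈ RingHom.ker π := by rw [RingHom.mem_ker, map_pow, hn]
    exact hQp.mem_of_pow_mem n (hkerQ this)
  have hQN₀ : Q ≤ (nilradical (k' ⊗[k] (S ⧸ q₀))).comap π :=
    hQ.2 ⟨hN₀p, bot_le⟩ hN₀Q
  -- the comparison map
  have hkerinc : ∀ a ∈ q₀, ((Ideal.Quotient.mkₐ k Q).comp inc) a = 0 := by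
    intro a ha
    change Ideal.Quotient.mk Q (inc a) = 0
    rw [Ideal.Quotient.eq_zero_iff_mem]
    exact hq₀q ha
  let ρ₀ : (S ⧸ q₀) →ₐ[k] (k' ⊗[k] S) ⧸ Q :=
    Ideal.Quotient.liftₐ q₀ ((Ideal.Quotient.mkₐ k Q).comp inc) hkerinc
  let ρ : k' ⊗[k] (S ⧸ q₀) →ₐ[k'] (k' ⊗[k] S) ⧸ Q :=
    Algebra.TensorProduct.lift (Algebra.ofId k' _) ρ₀ (fun _ _ => Commute.all _ _)
  have hρπ : ∀ x : k' ⊗[k] S, ρ (π x) = Ideal.Quotient.mk Q x := by
    intro x
    induction x using TensorProduct.induction_on with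
    | zero => simp
    | tmul c s =>
      change ρ (c ⊗ₜ (Ideal.Quotient.mk q₀ s)) = _
      rw [Algebra.TensorProduct.lift_tmul]
      change algebraMap k' _ c * Ideal.Quotient.mk Q (inc s) = _
      rw [← Ideal.Quotient.mk_algebraMap, ← map_mul, Algebra.TensorProduct.algebraMap_apply]
      congr 1
      change (c ⊗ₜ[k] (1 : S)) * ((1 : k') ⊗ₜ[k] s) = _
      rw [Algebra.TensorProduct.tmul_mul_tmul, mul_one, one_mul]
    | add x y hx hy => rw [map_add, map_add, hx, hy, map_add]
  have hρsurj : Function.Surjective ρ := by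
    intro z
    obtain ⟨x, rfl⟩ := Ideal.Quotient.mk_surjective z
    exact ⟨π x, hρπ x⟩
  have hρnil : ∀ b ∈ RingHom.ker ρ, IsNilpotent b := by
    intro b hb
    obtain ⟨x, rfl⟩ := hπ b
    rw [RingHom.mem_ker] at hb
    have hb' : ρ (π x) = 0 := hb
    rw [hρπ, Ideal.Quotient.eq_zero_iff_mem] at hb'
    exact hQN₀ hb'
  intro Ω _ _
  letI : Algebra k Ω := ((algebraMap k' Ω).comp (algebraMap k k')).toAlgebra
  haveI : IsScalarTower k k' Ω := IsScalarTower.of_algebraMap_eq (fun _ => rfl)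
  haveI h1 : IrreducibleSpace (PrimeSpectrum (Ω ⊗[k] (S ⧸ q₀))) := hG Ω
  haveI h2 : IrreducibleSpace (PrimeSpectrum (Ω ⊗[k'] (k' ⊗[k] (S ⧸ q₀)))) :=
    irreducibleSpace_of_ringEquiv
      (Algebra.TensorProduct.cancelBaseChange k k' Ω Ω (S ⧸ q₀)).symm.toRingEquiv
  exact (irreducibleSpace_iff_of_surjective Ω ρ hρsurj
    (fun b hb => ((hρnil b hb).map (Algebra.TensorProduct.includeRight :
      k' ⊗[k] (S ⧸ q₀) →ₐ[k'] Ω ⊗[k'] (k' ⊗[k] (S ⧸ q₀)))))).mp h2

end Groth.Agent.Lib.Helper4.GI2Alg1
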