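import Mathlib
import Groth.Agent.Lib.Helper4.GI2Alg1
import Groth.Agent.Lib.Helper7.GeomConn.IrrCount

/-!
# Ring-level geometric irreducibility: scheme-level comparison, separably closed base, descent along field extensions (helper4)
-/

set_option backward.isDefEq.respectTransparency.types false
set_option synthInstance.maxHeartbeats 400000
set_option autoImplicit false
set_option linter.unusedSectionVars false
set_option linter.style.haveILetI false
set_option linter.unusedSimpArgs false
universe u v w
open TensorProduct CategoryTheory AlgebraicGeometry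
open Groth.Agent.Lib.Helper4.GITop1 Groth.Agent.Lib.Helper4.GIDom1 Groth.Agent.Lib.Helper4.GI2Alg1

namespace Groth.Agent.Lib.Helper4.GI2Alg2

/-- ring-level and scheme-level geometric irreducibility agree for affine schemes over a field -/
theorem geomIrrAlg_iff (k S : Type u) [Field k] [CommRing S] [Algebra k S] :
    GeomIrrAlg k S ↔
      GeometricallyIrreducible (Spec.map (CommRingCat.ofHom (algebraMap k S))) := by
  constructor
  · intro h
    refine ⟨geometrically_iff_of_commRing_of_isClosedUnderIsomorphisms.mpr fun Ω _ _ => ?_⟩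
    rw [(pullbackSpecIso k S Ω).hom.homeomorph.irreducibleSpace_iff]
    haveI := h Ω
    exact irreducibleSpace_of_ringEquiv (Algebra.TensorProduct.comm k Ω S).toRingEquiv
  · intro h Ω _ _
    have h1 := geometrically_iff_of_commRing_of_isClosedUnderIsomorphisms.mp
      h.geometrically_irreducibleSpace Ω
    rw [(pullbackSpecIso k S Ω).hom.homeomorph.irreducibleSpace_iff] at h1
    haveI : IrreducibleSpace (PrimeSpectrum (S ⊗[k] Ω)) := h1
    exact irreducibleSpace_of_ringEquiv (Algebra.TensorProduct.comm k S Ω).toRingEquiv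

theorem geomIrrAlg_of_isSepClosed (L S : Type u) [Field L] [IsSepClosed L] [CommRing S] [Algebra L S]
    [IrreducibleSpace (PrimeSpectrum S)] : GeomIrrAlg L S := by
  rw [geomIrrAlg_iff]
  haveI : IrreducibleSpace (Spec (CommRingCat.of S)) :=
    inferInstanceAs (IrreducibleSpace (PrimeSpectrum S))
  exact Groth.Agent.Helper7.GeomConn.geometricallyIrreducible_of_isSepClosed _

/-- ring-level geometric irreducibility descends along field extensions -/
theorem GeomIrrAlg.descend {k k' S : Type u} [Field k] [Field k'] [Algebra k k'] [CommRing S]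
    [Algebra k S] (h : GeomIrrAlg k' (k' ⊗[k] S)) : GeomIrrAlg k S := by
  intro Ω _ _
  obtain ⟨Ω', _, b, c, hbc⟩ := Groth.Agent.S1609.exists_compositum k k' Ω (algebraMap k k')
    (algebraMap k Ω)
  letI : Algebra k' Ω' := b.toAlgebra
  letI : Algebra Ω Ω' := c.toAlgebra
  letI : Algebra k Ω' := (b.comp (algebraMap k k')).toAlgebra
  haveI : IsScalarTower k k' Ω' := IsScalarTower.of_algebraMap_eq (fun _ => rfl)
  haveI : IsScalarTower k Ω Ω' := IsScalarTower.of_algebraMap_eq (fun x => by
    change (b.comp (algebraMap k k')) x = c (algebraMap k Ω x)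
    rw [hbc]; rfl)
  haveI h1 : IrreducibleSpace (PrimeSpectrum (Ω' ⊗[k'] (k' ⊗[k] S))) := h Ω'
  haveI h2 : IrreducibleSpace (PrimeSpectrum (Ω' ⊗[k] S)) :=
    irreducibleSpace_of_ringEquiv
      (Algebra.TensorProduct.cancelBaseChange k k' Ω' Ω' S).toRingEquiv
  haveI h3 : IrreducibleSpace (PrimeSpectrum (Ω' ⊗[Ω] (Ω ⊗[k] S))) :=
    irreducibleSpace_of_ringEquiv
      (Algebra.TensorProduct.cancelBaseChange k Ω Ω' Ω' S).symm.toRingEquiv
  exact irreducibleSpace_of_fieldExt Ω Ω' (Ω ⊗[k] S)

end Groth.Agent.Lib.Helper4.GI2Alg2
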