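import Mathlib
import Groth.Agent.Lib.Helper4.NormFibre2

/-!
# Affine charts of arbitrary fibre products X ×_Y Spec K; K-points of affine opens (helper4)
-/

set_option backward.isDefEq.respectTransparency.types false
set_option synthInstance.maxHeartbeats 400000
set_option autoImplicit false
set_option linter.unusedSectionVars false
set_option linter.style.haveILetI false
set_option linter.unusedSimpArgs false
universe u v w
open CategoryTheory CategoryTheory.Limits AlgebraicGeometry TopologicalSpace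
open scoped TensorProduct

namespace Groth.Agent.Lib.Helper4.GIChart1

lemma isPullback_comp_mono {C : Type*} [Category C] {P X Y W Z : C} {fst : P ⟶ X} {snd : P ⟶ Y}
    {f : X ⟶ W} {g : Y ⟶ W} (h : IsPullback fst snd f g) (i : W ⟶ Z) [Mono i] :
    IsPullback fst snd (f ≫ i) (g ≫ i) :=
  IsPullback.of_isLimit' ⟨by rw [← Category.assoc, h.w, Category.assoc]⟩
    (PullbackCone.isLimitOfCompMono f g i _ h.isLimit)

/-- Any `K`-point of `Y` landing in an affine open `V` is given by a ring map `Γ(Y, V) → K`. -/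
theorem exists_eq_SpecMap_fromSpec {Y : Scheme.{u}} {V : Y.Opens} (hV : IsAffineOpen V)
    (K : Type u) [Field K] (y : Spec (.of K) ⟶ Y) (hy : Set.range y ⊆ V) :
    ∃ ψ : Γ(Y, V) →+* K, y = Spec.map (CommRingCat.ofHom ψ) ≫ hV.fromSpec := by
  have hr : Set.range y ⊆ Set.range hV.fromSpec := by
    rw [hV.range_fromSpec]; exact hy
  obtain ⟨φ, hφ⟩ := Spec.map_surjective (IsOpenImmersion.lift hV.fromSpec y hr)
  refine ⟨φ.hom, ?_⟩
  have : CommRingCat.ofHom φ.hom = φ := rfl
  rw [this, hφ, IsOpenImmersion.lift_fac]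

/-- Affine chart of an arbitrary fibre product `X ×_Y Spec K`. -/
theorem genChart {X Y : Scheme.{u}} (f : X ⟶ Y) {V : Y.Opens} (hV : IsAffineOpen V)
    {U : X.Opens} (hU : IsAffineOpen U) (e : U ≤ f ⁻¹ᵁ V) (K : Type u) [Field K]
    (ψ : Γ(Y, V) →+* K) {Z : Scheme.{u}} (fst : Z ⟶ X) (snd : Z ⟶ Spec (.of K))
    (hpb : IsPullback fst snd f (Spec.map (CommRingCat.ofHom ψ) ≫ hV.fromSpec)) :
    letI := (f.appLE V U e).hom.toAlgebra
    letI := ψ.toAlgebra
    ∃ l : Spec (.of (Γ(X, U) ⊗[Γ(Y, V)] K)) ⟶ Z,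
      IsOpenImmersion l ∧
      l ≫ fst = Spec.map (CommRingCat.ofHom
        (Algebra.TensorProduct.includeLeftRingHom :
          Γ(X, U) →+* Γ(X, U) ⊗[Γ(Y, V)] K)) ≫ hU.fromSpec ∧
      Set.range l = fst ⁻¹' U := by
  let φ : Γ(Y, V) ⟶ Γ(X, U) := f.appLE V U e
  algebraize [φ.hom, ψ]
  have hpo := CommRingCat.isPushout_tensorProduct Γ(Y, V) Γ(X, U) K
  have hpb1 := isPullback_SpecMap_of_isPushout _ _ _ _ hpo
  have hpb2 := isPullback_comp_mono hpb1 hV.fromSpec
  have e1 : Spec.map (CommRingCat.ofHom (algebraMap Γ(Y, V) Γ(X, U))) ≫ hV.fromSpec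
      = hU.fromSpec ≫ f := IsAffineOpen.SpecMap_appLE_fromSpec f hV hU e
  rw [e1] at hpb2
  let l := hpb.lift _ _ (by rw [Category.assoc]; exact hpb2.w)
  have hl1 : l ≫ fst = _ := hpb.lift_fst _ _ _
  have hl2 : l ≫ snd = _ := hpb.lift_snd _ _ _
  have hsq : IsPullback l (Spec.map (CommRingCat.ofHom Algebra.TensorProduct.includeLeftRingHom))
      fst hU.fromSpec := by
    refine IsPullback.of_right ?_ hl1 hpb.flip
    rw [hl2]
    exact hpb2.flip
  have hlo : IsOpenImmersion l :=
    MorphismProperty.of_isPullback (P := @IsOpenImmersion) hsq.flip inferInstance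
  refine ⟨l, hlo, hl1, ?_⟩
  have h3 : l = hsq.isoPullback.hom ≫ pullback.fst _ _ := (hsq.isoPullback_hom_fst).symm
  rw [h3, Scheme.Hom.comp_base, TopCat.coe_comp, Set.range_comp,
    Set.range_eq_univ.mpr hsq.isoPullback.hom.surjective, Set.image_univ,
    Scheme.Pullback.range_fst, hU.range_fromSpec]


theorem SpecMap_evaluation_fromSpec {Y : Scheme.{u}} {V : Y.Opens} (hV : IsAffineOpen V) (y : Y)
    (hy : y ∈ V) :
    Spec.map (Y.evaluation V y hy) ≫ hV.fromSpec = Y.fromSpecResidueField y := by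
  change Spec.map (Y.presheaf.germ V y hy ≫ Y.residue _) ≫ hV.fromSpec = _
  rw [Spec.map_comp, Category.assoc]
  change _ ≫ hV.fromSpecStalk hy = _
  rw [hV.fromSpecStalk_eq_fromSpecStalk hy]
  rfl

/-- A `K`-point `Spec K → Spec Γ(Y,V) → Y` given by `ψ`: the ring map factors through the
evaluation at the image point. -/
theorem exists_factor_evaluation {Y : Scheme.{u}} {V : Y.Opens} (hV : IsAffineOpen V)
    (K : Type u) [Field K] (ψ : Γ(Y, V) →+* K) :
    ∃ (hy : (Spec.map (CommRingCat.ofHom ψ) ≫ hV.fromSpec) (IsLocalRing.closedPoint K) ∈ V)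
      (ι : Y.residueField ((Spec.map (CommRingCat.ofHom ψ) ≫ hV.fromSpec)
        (IsLocalRing.closedPoint K)) →+* K),
      ψ = ι.comp (Y.evaluation V _ hy).hom := by
  set y := Spec.map (CommRingCat.ofHom ψ) ≫ hV.fromSpec with hydef
  have hy : y (IsLocalRing.closedPoint K) ∈ V := by
    have : y (IsLocalRing.closedPoint K) ∈ Set.range hV.fromSpec :=
      ⟨Spec.map (CommRingCat.ofHom ψ) (IsLocalRing.closedPoint K), rfl⟩
    rw [hV.range_fromSpec] at this
    exact this
  refine ⟨hy, (Y.descResidueField (Scheme.stalkClosedPointTo y)).hom, ?_⟩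
  have h1 := Scheme.descResidueField_stalkClosedPointTo_fromSpecResidueField K Y y
  rw [← SpecMap_evaluation_fromSpec hV _ hy, ← Category.assoc, ← Spec.map_comp] at h1
  have h2 : Spec.map (Y.evaluation V (y (IsLocalRing.closedPoint K)) hy ≫
      Y.descResidueField (Scheme.stalkClosedPointTo y)) = Spec.map (CommRingCat.ofHom ψ) :=
    (cancel_mono hV.fromSpec).mp h1
  have h3 := Spec.map_injective h2
  have h4 := congrArg CommRingCat.Hom.hom h3
  exact h4.symm

end Groth.Agent.Lib.Helper4.GIChart1
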