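import Mathlib
import Groth.Agent.Lib.Helper4.GI2Alg2
import Groth.Agent.Lib.Helper4.GIChart1

/-!
# Geometric irreducibility of closed subsets over a field: closed-subscheme independence and affine chart criterion for irreducible components (helper4)
-/

set_option backward.isDefEq.respectTransparency.types false
set_option synthInstance.maxHeartbeats 400000
set_option autoImplicit false
set_option linter.unusedSectionVars false
set_option linter.style.haveILetI false
set_option linter.unusedSimpArgs false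
universe u v w
open CategoryTheory CategoryTheory.Limits AlgebraicGeometry TopologicalSpace
open scoped TensorProduct
open Groth.Agent.Lib.Helper4.GITop1 Groth.Agent.Lib.Helper4.GIDom1 Groth.Agent.Lib.Helper4.GI2Alg1 Groth.Agent.Lib.Helper4.GI2Alg2
open Groth.Agent.Lib.Helper4.GIChart1

namespace Groth.Agent.Lib.Helper4.GI2Sch1

/-- A subset of the source of `t : T ⟶ S` is geometrically irreducible over `S` if its preimage
in every base change of `T` to a field is irreducible. -/
def GeomIrrSet {T S : Scheme.{u}} (t : T ⟶ S) (Z : Set T) : Prop :=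
  ∀ ⦃Ω : Type u⦄ [Field Ω] (y : Spec (.of Ω) ⟶ S) ⦃P : Scheme.{u}⦄ (fst : P ⟶ T)
    (snd : P ⟶ Spec (.of Ω)), IsPullback fst snd t y → IsIrreducible (fst ⁻¹' Z)

theorem range_of_isPullback {A B C D : Scheme.{u}} {a : A ⟶ B} {b : A ⟶ C} {c : B ⟶ D}
    {d : C ⟶ D} (h : IsPullback a b c d) : Set.range b = d ⁻¹' Set.range c := by
  have h3 : b = h.isoPullback.hom ≫ pullback.snd _ _ := (h.isoPullback_hom_snd).symm
  rw [h3, Scheme.Hom.comp_base, TopCat.coe_comp, Set.range_comp,
    Set.range_eq_univ.mpr h.isoPullback.hom.surjective, Set.image_univ,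
    Scheme.Pullback.range_snd]

/-- geometric irreducibility of a closed subscheme only depends on the underlying closed set -/
theorem geometricallyIrreducible_comp_iff {W T S : Scheme.{u}} (i : W ⟶ T) [IsClosedImmersion i]
    (t : T ⟶ S) : GeometricallyIrreducible (i ≫ t) ↔ GeomIrrSet t (Set.range i) := by
  constructor
  · intro h Ω _ y P fst snd hpb
    -- base change of `i` along `fst`
    have hsq : IsPullback (pullback.fst i fst) (pullback.snd i fst) i fst :=
      IsPullback.of_hasPullback _ _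
    have hbig : IsPullback (pullback.fst i fst) (pullback.snd i fst ≫ snd) (i ≫ t) y :=
      hsq.paste_vert hpb
    haveI : IrreducibleSpace ↥(pullback i fst) := h.geometrically_irreducibleSpace y _ _ hbig
    rw [← range_of_isPullback hsq, ← Set.image_univ]
    exact (IrreducibleSpace.isIrreducible_univ _).image _
      (pullback.snd i fst).continuous.continuousOn
  · intro h
    refine ⟨fun Ω _ y P' fst' snd' hpb' => ?_⟩
    have hP : IsPullback (pullback.fst t y) (pullback.snd t y) t y := IsPullback.of_hasPullback _ _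
    let j : P' ⟶ pullback t y := hP.lift (fst' ≫ i) snd' (by rw [Category.assoc]; exact hpb'.w)
    have hj1 : j ≫ pullback.fst t y = fst' ≫ i := hP.lift_fst _ _ _
    have hj2 : j ≫ pullback.snd t y = snd' := hP.lift_snd _ _ _
    have hsq : IsPullback fst' j i (pullback.fst t y) := by
      refine IsPullback.of_bot ?_ hj1.symm hP
      rw [hj2]
      exact hpb'
    haveI : IsClosedImmersion j :=
      MorphismProperty.of_isPullback (P := @IsClosedImmersion) hsq inferInstance
    have hirr : IsIrreducible (Set.range j) := by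
      rw [range_of_isPullback hsq]
      exact h y _ _ hP
    have hemb : Topology.IsEmbedding j := j.isClosedEmbedding.isEmbedding
    haveI : IrreducibleSpace (Set.range j) := (isIrreducible_iff_irreducibleSpace).mp hirr
    exact (hemb.toHomeomorph).symm.surjective.irreducibleSpace (hemb.toHomeomorph).symm.continuous


/-- Affine chart of a base change `T ×_k Ω` of a `k`-scheme, over an affine chart of `T`. -/
theorem chartPB {k : Type u} [Field k] {T : Scheme.{u}} (t : T ⟶ Spec (.of k))
    {R : Type u} [CommRing R] [Algebra k R] (l : Spec (.of R) ⟶ T) [IsOpenImmersion l]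
    (hl : l ≫ t = Spec.map (CommRingCat.ofHom (algebraMap k R)))
    (Ω : Type u) [Field Ω] [Algebra k Ω] {P : Scheme.{u}} (fst : P ⟶ T)
    (snd : P ⟶ Spec (.of Ω))
    (hpb : IsPullback fst snd t (Spec.map (CommRingCat.ofHom (algebraMap k Ω)))) :
    ∃ l' : Spec (.of (Ω ⊗[k] R)) ⟶ P, IsOpenImmersion l' ∧
      l' ≫ fst = Spec.map (CommRingCat.ofHom
        (Algebra.TensorProduct.includeRight (R := k) (A := Ω) (B := R)).toRingHom) ≫ l ∧
      Set.range l' = fst ⁻¹' Set.range l := by
  have hpo := CommRingCat.isPushout_tensorProduct k Ω R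
  have hpb1 := (isPullback_SpecMap_of_isPushout _ _ _ _ hpo).flip
  rw [← hl] at hpb1
  let l' := hpb.lift _ _ (by rw [Category.assoc]; exact hpb1.w)
  have hl1 : l' ≫ fst = _ := hpb.lift_fst _ _ _
  have hl2 : l' ≫ snd = _ := hpb.lift_snd _ _ _
  have hsq : IsPullback l' (Spec.map (CommRingCat.ofHom
      (Algebra.TensorProduct.includeRight (R := k) (A := Ω) (B := R)).toRingHom)) fst l := by
    refine IsPullback.of_right ?_ hl1 hpb.flip
    rw [hl2]
    exact hpb1.flip
  have hlo : IsOpenImmersion l' :=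
    MorphismProperty.of_isPullback (P := @IsOpenImmersion) hsq.flip inferInstance
  refine ⟨l', hlo, hl1, ?_⟩
  exact range_of_isPullback hsq.flip

theorem isIrreducible_zeroLocus_of_quotient {A : Type*} [CommRing A] (J : Ideal A)
    [IrreducibleSpace (PrimeSpectrum (A ⧸ J))] :
    IsIrreducible (PrimeSpectrum.zeroLocus (J : Set A)) := by
  have h1 := range_comap_of_surjective (A ⧸ J) (Ideal.Quotient.mk J) Ideal.Quotient.mk_surjective
  rw [Ideal.mk_ker] at h1
  rw [← h1, ← Set.image_univ]
  exact (IrreducibleSpace.isIrreducible_univ _).image _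
    (PrimeSpectrum.continuous_comap _).continuousOn

/-- chart criterion for geometric irreducibility of an irreducible closed subset -/
theorem geomIrrSet_of_chart {k : Type u} [Field k] {T : Scheme.{u}} (t : T ⟶ Spec (.of k))
    {R : Type u} [CommRing R] [Algebra k R] (l : Spec (.of R) ⟶ T) [IsOpenImmersion l]
    (hl : l ≫ t = Spec.map (CommRingCat.ofHom (algebraMap k R)))
    (Z : Set T) (hZc : IsClosed Z) (hZi : IsIrreducible Z) (hne : (Z ∩ Set.range l).Nonempty)
    (q : Ideal R) (hq : l ⁻¹' Z = PrimeSpectrum.zeroLocus (q : Set R))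
    (hG : GeomIrrAlg k (R ⧸ q)) : GeomIrrSet t Z := by
  intro Ω _ y P fst snd hpb
  obtain ⟨φ, rfl⟩ := Spec.map_surjective y
  algebraize [φ.hom]
  have hpb' : IsPullback fst snd t (Spec.map (CommRingCat.ofHom (algebraMap k Ω))) := hpb
  obtain ⟨l', hlo, hl1, hl2⟩ := chartPB t l hl Ω fst snd hpb'
  -- the trace on the chart
  have hpre : l' ⁻¹' (fst ⁻¹' Z) = PrimeSpectrum.zeroLocus
      ((q.map (Algebra.TensorProduct.includeRight (R := k) (A := Ω) (B := R)) :
        Ideal (Ω ⊗[k] R)) : Set (Ω ⊗[k] R)) := by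
    rw [← Set.preimage_comp, ← TopCat.coe_comp, ← Scheme.Hom.comp_base, hl1, Scheme.Hom.comp_base,
      TopCat.coe_comp, Set.preimage_comp, hq]
    change PrimeSpectrum.comap _ ⁻¹' _ = _
    rw [PrimeSpectrum.preimage_comap_zeroLocus, Ideal.map, PrimeSpectrum.zeroLocus_span]
    rfl
  haveI h1 : IrreducibleSpace (PrimeSpectrum (Ω ⊗[k] (R ⧸ q))) := hG Ω
  haveI h2 : IrreducibleSpace (PrimeSpectrum ((Ω ⊗[k] R) ⧸
      q.map (Algebra.TensorProduct.includeRight (R := k) (A := Ω) (B := R)))) :=
    irreducibleSpace_of_ringEquiv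
      (Algebra.TensorProduct.tensorQuotientEquiv (R := k) k R Ω q).toRingEquiv
  have hirr : IsIrreducible (l' ⁻¹' (fst ⁻¹' Z)) := by
    rw [hpre]
    exact isIrreducible_zeroLocus_of_quotient _
  have hirr2 : IsIrreducible (l' '' (l' ⁻¹' (fst ⁻¹' Z))) :=
    hirr.image _ l'.continuous.continuousOn
  rw [Set.image_preimage_eq_inter_range, hl2] at hirr2
  -- density
  have hcl : IsClosed (fst ⁻¹' Z) := hZc.preimage fst.continuous
  haveI : UniversallyOpen (Spec.map φ) := inferInstance
  haveI : UniversallyOpen fst :=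
    MorphismProperty.of_isPullback (P := @UniversallyOpen) hpb.flip inferInstance
  have hdense : fst ⁻¹' Z ⊆ closure (fst ⁻¹' Z ∩ fst ⁻¹' Set.range l) := by
    intro p hp
    rw [mem_closure_iff]
    intro U hU hpU
    have hfU : IsOpen (fst '' U) := fst.isOpenMap U hU
    have h3 : (Z ∩ (fst '' U ∩ Set.range l)).Nonempty := by
      have := hZi.2 (fst '' U) (Set.range l) hfU l.isOpenEmbedding.isOpen_range
        ⟨fst p, hp, ⟨p, hpU, rfl⟩⟩ hne
      exact this
    obtain ⟨z, hzZ, ⟨p', hp'U, rfl⟩, hzl⟩ := h3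
    exact ⟨p', hp'U, hzZ, hzl⟩
  have heq : fst ⁻¹' Z = closure (fst ⁻¹' Z ∩ fst ⁻¹' Set.range l) :=
    Set.Subset.antisymm hdense (closure_minimal Set.inter_subset_left hcl)
  rw [heq]
  exact hirr2.closure


/-- chart criterion for all irreducible components -/
theorem geomIrrSet_component_of_charts {k : Type u} [Field k] {T : Scheme.{u}}
    (t : T ⟶ Spec (.of k)) {ι : Type*} (R : ι → Type u) [∀ i, CommRing (R i)]
    [∀ i, Algebra k (R i)] (l : ∀ i, Spec (.of (R i)) ⟶ T) [∀ i, IsOpenImmersion (l i)]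
    (hl : ∀ i, l i ≫ t = Spec.map (CommRingCat.ofHom (algebraMap k (R i))))
    (hcov : ⋃ i, Set.range (l i) = Set.univ) (hG : ∀ i, GeomIrrComps k (R i))
    (Z : Set T) (hZ : Z ∈ irreducibleComponents T) : GeomIrrSet t Z := by
  obtain ⟨z, hz⟩ := hZ.1.1
  have hzc : z ∈ ⋃ i, Set.range (l i) := by rw [hcov]; exact Set.mem_univ z
  obtain ⟨i, hi⟩ := Set.mem_iUnion.mp hzc
  have hcomp : (l i) ⁻¹' Z ∈ irreducibleComponents (Spec (.of (R i))) :=
    preimage_mem_irreducibleComponents hZ (l i).isOpenEmbedding ⟨z, hz, hi⟩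
  have hcomp' : (l i) ⁻¹' Z ∈ irreducibleComponents (PrimeSpectrum (R i)) := hcomp
  have hclosed : IsClosed ((l i) ⁻¹' Z : Set (PrimeSpectrum (R i))) :=
    isClosed_of_mem_irreducibleComponents _ hcomp'
  have hq : PrimeSpectrum.vanishingIdeal ((l i) ⁻¹' Z : Set (PrimeSpectrum (R i))) ∈
      minimalPrimes (R i) := by
    rw [← PrimeSpectrum.vanishingIdeal_irreducibleComponents]
    exact Set.mem_image_of_mem _ hcomp'
  refine geomIrrSet_of_chart t (l i) (hl i) Z (isClosed_of_mem_irreducibleComponents Z hZ) hZ.1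
    ⟨z, hz, hi⟩ _ ?_ (hG i _ hq)
  change ((l i) ⁻¹' Z : Set (PrimeSpectrum (R i))) = _
  rw [PrimeSpectrum.zeroLocus_vanishingIdeal_eq_closure, hclosed.closure_eq]

/-- scheme-level form -/
theorem geometricallyIrreducible_component_of_charts {k : Type u} [Field k] {T : Scheme.{u}}
    (t : T ⟶ Spec (.of k)) {ι : Type*} (R : ι → Type u) [∀ i, CommRing (R i)]
    [∀ i, Algebra k (R i)] (l : ∀ i, Spec (.of (R i)) ⟶ T) [∀ i, IsOpenImmersion (l i)]
    (hl : ∀ i, l i ≫ t = Spec.map (CommRingCat.ofHom (algebraMap k (R i))))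
    (hcov : ⋃ i, Set.range (l i) = Set.univ) (hG : ∀ i, GeomIrrComps k (R i))
    (Z : Set T) (hZ : Z ∈ irreducibleComponents T) :
    GeometricallyIrreducible ((Scheme.IdealSheafData.vanishingIdeal
      (⟨Z, isClosed_of_mem_irreducibleComponents Z hZ⟩ : TopologicalSpace.Closeds T)).subschemeι
        ≫ t) := by
  rw [geometricallyIrreducible_comp_iff, Scheme.IdealSheafData.range_subschemeι,
    Scheme.IdealSheafData.coe_support_vanishingIdeal]
  exact geomIrrSet_component_of_charts t R l hl hcov hG Z hZ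

end Groth.Agent.Lib.Helper4.GI2Sch1
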