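import Mathlib
import Groth.Agent.Lib.Helper4.GIDom1

/-!
# Geometric irreducibility spreads out: ring core over a ring with nilpotent prime (helper4)
-/

set_option backward.isDefEq.respectTransparency.types false
set_option synthInstance.maxHeartbeats 400000
set_option autoImplicit false
set_option linter.unusedSectionVars false
set_option linter.style.haveILetI false
set_option linter.unusedSimpArgs false
universe u v w
open TensorProduct
open Groth.Agent.Lib.Helper4.GIDom1

namespace Groth.Agent.Lib.Helper4.GIGen1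

theorem genCore {A B : Type u} [CommRing A] [CommRing B] [Algebra A B] [Algebra.FiniteType A B]
    (p₀ : Ideal A) [p₀.IsPrime] (hp₀ : ∀ x ∈ p₀, IsNilpotent x)
    (H : ∀ (Ω : Type u) [Field Ω] (ψ : A →+* Ω), RingHom.ker ψ = p₀ →
      letI := ψ.toAlgebra
      IrreducibleSpace (PrimeSpectrum (Ω ⊗[A] B))) :
    ∃ a : A, a ∉ p₀ ∧ ∀ (κ : Type u) [Field κ] [Algebra A κ], algebraMap A κ a ≠ 0 →
      IrreducibleSpace (PrimeSpectrum (κ ⊗[A] B)) := by
  let R := A ⧸ p₀
  have H' : ∀ (Ω : Type u) [Field Ω] [Algebra R Ω], Function.Injective (algebraMap R Ω) →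
      IrreducibleSpace (PrimeSpectrum (Ω ⊗[R] (R ⊗[A] B))) := by
    intro Ω _ _ hinj
    letI : Algebra A Ω := ((algebraMap R Ω).comp (algebraMap A R)).toAlgebra
    haveI : IsScalarTower A R Ω := IsScalarTower.of_algebraMap_eq (fun _ => rfl)
    haveI : IrreducibleSpace (PrimeSpectrum (Ω ⊗[A] B)) := by
      apply H Ω ((algebraMap R Ω).comp (algebraMap A R))
      ext x
      rw [RingHom.mem_ker]
      change algebraMap R Ω (algebraMap A R x) = 0 ↔ _
      rw [map_eq_zero_iff _ hinj]
      exact Ideal.Quotient.eq_zero_iff_mem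
    exact irreducibleSpace_of_ringEquiv
      (Algebra.TensorProduct.cancelBaseChange A R Ω Ω B).symm.toRingEquiv
  obtain ⟨a', ha', hmain⟩ := domCore (R := R) (C := R ⊗[A] B) H'
  obtain ⟨a, rfl⟩ := Ideal.Quotient.mk_surjective a'
  refine ⟨a, fun h => ha' (Ideal.Quotient.eq_zero_iff_mem.mpr h), fun κ _ _ hκ => ?_⟩
  have hker : p₀ ≤ RingHom.ker (algebraMap A κ) := by
    intro x hx
    rw [RingHom.mem_ker]
    exact ((hp₀ x hx).map (algebraMap A κ)).eq_zero
  letI : Algebra R κ := (Ideal.Quotient.lift p₀ (algebraMap A κ) hker).toAlgebra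
  haveI : IsScalarTower A R κ := IsScalarTower.of_algebraMap_eq (fun x => by
    change _ = Ideal.Quotient.lift p₀ (algebraMap A κ) hker (Ideal.Quotient.mk p₀ x)
    rw [Ideal.Quotient.lift_mk])
  haveI h1 : IrreducibleSpace (PrimeSpectrum (κ ⊗[R] (R ⊗[A] B))) := by
    apply hmain κ
    change Ideal.Quotient.lift p₀ (algebraMap A κ) hker (Ideal.Quotient.mk p₀ a) ≠ 0
    rw [Ideal.Quotient.lift_mk]; exact hκ
  exact irreducibleSpace_of_ringEquiv
      (Algebra.TensorProduct.cancelBaseChange A R κ κ B).toRingEquiv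

end Groth.Agent.Lib.Helper4.GIGen1
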