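import Mathlib
import Groth.Agent.Lib.Helper4.GIGen1
import Groth.Agent.Lib.Helper4.GIChart1
import Groth.Agent.Lib.Helper7.NearGen.Fibres

/-!
# Geometric irreducibility spreads out: irreducibility of affine charts of fibres near the generic point (helper4)
-/

set_option backward.isDefEq.respectTransparency.types false
set_option synthInstance.maxHeartbeats 400000
set_option autoImplicit false
set_option linter.unusedSectionVars false
set_option linter.style.haveILetI false
set_option linter.unusedSimpArgs false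
universe u v w
open CategoryTheory CategoryTheory.Limits AlgebraicGeometry TopologicalSpace
open scoped TensorProduct
open Groth.Agent.Lib.Helper4.GIGen1 Groth.Agent.Lib.Helper4.GIChart1 Groth.Agent.Lib.Helper4.GIDom1

namespace Groth.Agent.Lib.Helper4.GIChartIrr1

/-- Points of an affine open are determined by the kernel of the evaluation map. -/
theorem eq_of_ker_evaluation_eq {Y : Scheme.{u}} {V : Y.Opens} (hV : IsAffineOpen V) (y₁ y₂ : Y)
    (h₁ : y₁ ∈ V) (h₂ : y₂ ∈ V)
    (h : RingHom.ker (Y.evaluation V y₁ h₁).hom = RingHom.ker (Y.evaluation V y₂ h₂).hom) :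
    y₁ = y₂ := by
  have e1 := Groth.Agent.Lib.Helper4.NormFibre2.ker_rho hV y₁ h₁
  have e2 := Groth.Agent.Lib.Helper4.NormFibre2.ker_rho hV y₂ h₂
  have h3 : hV.primeIdealOf ⟨y₁, h₁⟩ = hV.primeIdealOf ⟨y₂, h₂⟩ := by
    apply PrimeSpectrum.ext
    rw [← e1, ← e2]
    exact h
  have h4 := congrArg hV.fromSpec h3
  rw [hV.fromSpec_primeIdealOf, hV.fromSpec_primeIdealOf] at h4
  exact h4


/-- pasting the fibre square with a base change of the fibre -/
theorem isPullback_fiber_paste {X Y : Scheme.{u}} (f : X ⟶ Y) (y₀ : Y) {K : Type u} [Field K]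
    (ι : Y.residueField y₀ ⟶ .of K) {P : Scheme.{u}} (p₁ : P ⟶ f.fiber y₀)
    (p₂ : P ⟶ Spec (.of K))
    (h : IsPullback p₁ p₂ (f.fiberToSpecResidueField y₀) (Spec.map ι)) :
    IsPullback (p₁ ≫ f.fiberι y₀) p₂ f (Spec.map ι ≫ Y.fromSpecResidueField y₀) := by
  have hfib : IsPullback (f.fiberι y₀) (f.fiberToSpecResidueField y₀) f
      (Y.fromSpecResidueField y₀) := IsPullback.of_hasPullback _ _
  exact (h.flip.paste_vert hfib.flip).flip

theorem exists_chart_irreducible {X Y : Scheme.{u}} (f : X ⟶ Y) [IrreducibleSpace Y]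
    [LocallyOfFiniteType f] {V : Y.Opens} (hV : IsAffineOpen V) {W : X.Opens}
    (hW : IsAffineOpen W) (e : W ≤ f ⁻¹ᵁ V) (hη : genericPoint Y ∈ V) (ξ : X) (hξW : ξ ∈ W)
    (hξ : f ξ = genericPoint Y)
    (h : GeometricallyIrreducible (f.fiberToSpecResidueField (genericPoint Y))) :
    ∃ a : Γ(Y, V), genericPoint Y ∈ Y.basicOpen a ∧
      ∀ (K : Type u) [Field K] (ψ : Γ(Y, V) →+* K), ψ a ≠ 0 →
        letI := (f.appLE V W e).hom.toAlgebra
        letI := ψ.toAlgebra
        IrreducibleSpace (PrimeSpectrum (K ⊗[Γ(Y, V)] Γ(X, W))) := by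
  letI algB : Algebra Γ(Y, V) Γ(X, W) := (f.appLE V W e).hom.toAlgebra
  haveI : Algebra.FiniteType Γ(Y, V) Γ(X, W) :=
    LocallyOfFiniteType.finiteType_appLE f hV hW e
  set η := genericPoint Y with hηdef
  let p₀ : Ideal Γ(Y, V) := RingHom.ker (Y.evaluation V η hη).hom
  haveI : p₀.IsPrime := RingHom.ker_isPrime _
  have hp₀ : ∀ x ∈ p₀, IsNilpotent x := by
    intro t ht
    have h1 : η ∉ Y.basicOpen t := fun hmem =>
      (Y.evaluation_ne_zero_iff_mem_basicOpen η hη t).mpr hmem ht
    have h2 : Y.basicOpen t = ⊥ := by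
      by_contra hne
      obtain ⟨y, hy⟩ : ((Y.basicOpen t : Y.Opens) : Set Y).Nonempty := by
        rw [Set.nonempty_iff_ne_empty]
        intro h0
        apply hne
        ext x
        simp [← SetLike.mem_coe, h0]
      exact h1 (((genericPoint_spec Y).mem_open_set_iff (Y.basicOpen t).isOpen).mpr
        ⟨y, trivial, hy⟩)
    have h3 : PrimeSpectrum.basicOpen t = ⊥ := by
      rw [← hV.fromSpec_preimage_basicOpen, h2]; rfl
    exact (PrimeSpectrum.basicOpen_eq_bot_iff t).mp h3
  have H : ∀ (Ω : Type u) [Field Ω] (ψ : Γ(Y, V) →+* Ω),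
      RingHom.ker ψ = p₀ →
      letI := ψ.toAlgebra
      IrreducibleSpace (PrimeSpectrum (Ω ⊗[Γ(Y, V)] Γ(X, W))) := by
    intro Ω _ ψ hker
    letI := ψ.toAlgebra
    have hfe := exists_factor_evaluation hV Ω ψ
    generalize hydef : Spec.map (CommRingCat.ofHom ψ) ≫ hV.fromSpec = y at hfe
    obtain ⟨hy₀, ι₀, hψ⟩ := hfe
    -- the image point is the generic point
    have hy₀η : y (IsLocalRing.closedPoint Ω) = η := by
      apply eq_of_ker_evaluation_eq hV _ _ hy₀ hη
      change _ = p₀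
      rw [← hker]
      conv_rhs => rw [hψ]
      ext t
      rw [RingHom.mem_ker, RingHom.mem_ker, RingHom.comp_apply]
      exact (map_eq_zero_iff ι₀ ι₀.injective).symm
    have hfac : ∃ ι : Y.residueField η ⟶ .of Ω, y = Spec.map ι ≫ Y.fromSpecResidueField η := by
      have h1 := Scheme.descResidueField_stalkClosedPointTo_fromSpecResidueField Ω Y y
      revert h1
      generalize Y.descResidueField (Scheme.stalkClosedPointTo y) = ι'
      revert ι'
      rw [hy₀η]
      intro ι' h1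
      exact ⟨ι', h1.symm⟩
    obtain ⟨ι, hι⟩ := hfac
    let P := pullback (f.fiberToSpecResidueField η) (Spec.map ι)
    haveI hP : IrreducibleSpace P :=
      h.geometrically_irreducibleSpace (Spec.map ι) _ _ (IsPullback.of_hasPullback _ _)
    have hpb : IsPullback (pullback.fst (f.fiberToSpecResidueField η) (Spec.map ι) ≫ f.fiberι η)
        (pullback.snd (f.fiberToSpecResidueField η) (Spec.map ι)) f
        (Spec.map (CommRingCat.ofHom ψ) ≫ hV.fromSpec) := by
      rw [hydef, hι]
      exact isPullback_fiber_paste f η ι _ _ (IsPullback.of_hasPullback _ _)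
    obtain ⟨l, hlo, hl1, hl2⟩ := genChart f hV hW e Ω ψ _ _ hpb
    -- nonemptiness
    obtain ⟨z, hz⟩ := Groth.Agent.Helper7.NearGen.exists_fiberι_eq f η ξ hξ
    obtain ⟨p, hp⟩ := (pullback.fst (f.fiberToSpecResidueField η) (Spec.map ι)).surjective z
    have hpl : p ∈ Set.range l := by
      rw [hl2]
      change (pullback.fst (f.fiberToSpecResidueField η) (Spec.map ι) ≫ f.fiberι η) p ∈ W
      rw [Scheme.Hom.comp_apply, hp, hz]
      exact hξW
    haveI : Nonempty (Spec (.of (Γ(X, W) ⊗[Γ(Y, V)] Ω))) := by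
      obtain ⟨w, -⟩ := hpl
      exact ⟨w⟩
    haveI h5 : IrreducibleSpace (Spec (.of (Γ(X, W) ⊗[Γ(Y, V)] Ω))) :=
      l.isOpenEmbedding.irreducibleSpace
    haveI h6 : IrreducibleSpace (PrimeSpectrum (Γ(X, W) ⊗[Γ(Y, V)] Ω)) := h5
    exact irreducibleSpace_of_ringEquiv
      (Algebra.TensorProduct.comm Γ(Y, V) Γ(X, W) Ω).toRingEquiv
  obtain ⟨a, ha, hmain⟩ := genCore p₀ hp₀ H
  refine ⟨a, (Y.evaluation_ne_zero_iff_mem_basicOpen η hη a).mp ha, fun K _ ψ hψ => ?_⟩
  letI := ψ.toAlgebra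
  exact hmain K hψ

end Groth.Agent.Lib.Helper4.GIChartIrr1
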