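import Mathlib
import Groth.Agent.Lib.Helper4.GIChartIrr1
import Groth.Agent.Lib.Helper4.GITop1
import Groth.Agent.Lib.Helper7.NowDense.Main

/-!
# EGA IV 9.7.7 backbone: geometric irreducibility of the generic fibre spreads out to fibres over a nonempty open (helper4)
-/

set_option backward.isDefEq.respectTransparency.types false
set_option synthInstance.maxHeartbeats 400000
set_option autoImplicit false
set_option linter.unusedSectionVars false
set_option linter.style.haveILetI false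
set_option linter.unusedSimpArgs false
universe u v w
open CategoryTheory CategoryTheory.Limits AlgebraicGeometry TopologicalSpace
open scoped TensorProduct
open Groth.Agent.Lib.Helper4.GIGen1 Groth.Agent.Lib.Helper4.GIChart1 Groth.Agent.Lib.Helper4.GIDom1
open Groth.Agent.Lib.Helper4.GIChartIrr1 Groth.Agent.Lib.Helper4.GITop1

namespace Groth.Agent.Lib.Helper4.GIMain1

/-- The comparison map from an arbitrary fibre product `X ×_Y Spec K` to the fibre over the
image point is (universally) open. -/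
theorem exists_open_to_fiber {X Y : Scheme.{u}} (f : X ⟶ Y) {K : Type u} [Field K]
    (y : Spec (.of K) ⟶ Y) {Z : Scheme.{u}} (fst : Z ⟶ X) (snd : Z ⟶ Spec (.of K))
    (hpb : IsPullback fst snd f y) :
    ∃ q : Z ⟶ f.fiber (y (IsLocalRing.closedPoint K)), IsOpenMap q ∧
      q ≫ f.fiberι _ = fst := by
  set y₀ := y (IsLocalRing.closedPoint K) with hy₀
  let ι₀ : Y.residueField y₀ ⟶ .of K := Y.descResidueField (Scheme.stalkClosedPointTo y)
  have hfac : Spec.map ι₀ ≫ Y.fromSpecResidueField y₀ = y :=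
    Scheme.descResidueField_stalkClosedPointTo_fromSpecResidueField K Y y
  have hfib : IsPullback (f.fiberι y₀) (f.fiberToSpecResidueField y₀) f
      (Y.fromSpecResidueField y₀) := IsPullback.of_hasPullback _ _
  let q : Z ⟶ f.fiber y₀ := hfib.lift fst (snd ≫ Spec.map ι₀)
    (by rw [hpb.w, Category.assoc, hfac])
  have hq1 : q ≫ f.fiberι y₀ = fst := hfib.lift_fst _ _ _
  have hq2 : q ≫ f.fiberToSpecResidueField y₀ = snd ≫ Spec.map ι₀ := hfib.lift_snd _ _ _
  have hsq : IsPullback q snd (f.fiberToSpecResidueField y₀) (Spec.map ι₀) := by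
    refine IsPullback.of_right ?_ hq2 hfib
    rw [hq1, hfac]
    exact hpb
  haveI : UniversallyOpen (Spec.map ι₀) := inferInstance
  haveI : UniversallyOpen q :=
    MorphismProperty.of_isPullback (P := @UniversallyOpen) hsq.flip inferInstance
  exact ⟨q, q.isOpenMap, hq1⟩


theorem mem_basicOpen_iff_of_SpecMap {Y : Scheme.{u}} {V : Y.Opens} (hV : IsAffineOpen V)
    (K : Type u) [Field K] (ψ : Γ(Y, V) →+* K) (a : Γ(Y, V)) :
    (Spec.map (CommRingCat.ofHom ψ) ≫ hV.fromSpec) (IsLocalRing.closedPoint K) ∈ Y.basicOpen a ↔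
      ψ a ≠ 0 := by
  obtain ⟨hy, ι, hψ⟩ := exists_factor_evaluation hV K ψ
  rw [← Y.evaluation_ne_zero_iff_mem_basicOpen _ hy a]
  conv_rhs => rw [hψ]
  rw [RingHom.comp_apply, Ne, Ne, map_eq_zero_iff ι ι.injective]

theorem main {X Y : Scheme.{u}} (f : X ⟶ Y) [IrreducibleSpace ↑Y] [LocallyOfFiniteType f]
    [QuasiCompact f]
    (h : GeometricallyIrreducible (f.fiberToSpecResidueField (genericPoint ↑Y))) :
    ∃ V : Y.Opens, (V : Set ↑Y).Nonempty ∧ GeometricallyIrreducible (f ∣_ V) := by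
  set η := genericPoint Y with hηdef
  -- an affine open neighbourhood of the generic point
  obtain ⟨V₀, hV₀, hηV₀⟩ : ∃ V : Y.Opens, IsAffineOpen V ∧ η ∈ V := by
    obtain ⟨_, ⟨V, hV, rfl⟩, hy, -⟩ := (Y.isBasis_affineOpens).exists_subset_of_mem_open
      (Set.mem_univ η) isOpen_univ
    exact ⟨V, hV, hy⟩
  -- the generic fibre is irreducible
  haveI hirr : IrreducibleSpace (f.fiber η) :=
    GeometricallyIrreducible.irreducibleSpace_of_subsingleton (f.fiberToSpecResidueField η)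
  obtain ⟨z₀⟩ : Nonempty (f.fiber η) := inferInstance
  set ξ := f.fiberι η z₀ with hξdef
  have hξ : f ξ = η := Groth.Agent.Helper7.NearGen.base_fiberι f η z₀
  have hξV : ξ ∈ f ⁻¹ᵁ V₀ := by
    change f ξ ∈ V₀
    rw [hξ]; exact hηV₀
  obtain ⟨W, hW, hξW, hWV⟩ : ∃ W : X.Opens, IsAffineOpen W ∧ ξ ∈ W ∧ W ≤ f ⁻¹ᵁ V₀ := by
    obtain ⟨_, ⟨W, hW, rfl⟩, hx, hle⟩ := (X.isBasis_affineOpens).exists_subset_of_mem_open
      hξV (f ⁻¹ᵁ V₀).isOpen
    exact ⟨W, hW, hx, hle⟩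
  -- the complement of `W` is nowhere dense on the generic fibre
  have hZ : IsClosed ((W : Set X)ᶜ) := W.isOpen.isClosed_compl
  have hnd : IsNowhereDense ((f.fiberι η) ⁻¹' ((W : Set X)ᶜ)) := by
    have hcl : IsClosed ((f.fiberι η) ⁻¹' ((W : Set X)ᶜ)) := hZ.preimage (f.fiberι η).continuous
    rw [hcl.isNowhereDense_iff, interior_eq_empty_iff_dense_compl]
    have hopen : IsOpen ((f.fiberι η) ⁻¹' (W : Set X)) := W.isOpen.preimage (f.fiberι η).continuous
    have hne : ((f.fiberι η) ⁻¹' (W : Set X)).Nonempty := ⟨z₀, hξW⟩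
    rw [Set.preimage_compl, compl_compl]
    exact hopen.dense hne
  obtain ⟨V₁, hηV₁, hV₁⟩ :=
    Groth.Agent.Helper7.NowDense.nowhereDense_fibres_near_generic f _ hZ hnd
  obtain ⟨a, hηa, ha⟩ := exists_chart_irreducible f hV₀ hW hWV hηV₀ ξ hξW hξ h
  refine ⟨V₁ ⊓ Y.basicOpen a, ⟨η, hηV₁, hηa⟩, ⟨?_⟩⟩
  intro K _ y Z fst snd hpb
  -- paste with the restriction square
  have hpb' : IsPullback (fst ≫ (f ⁻¹ᵁ (V₁ ⊓ Y.basicOpen a)).ι) snd f
      (y ≫ (V₁ ⊓ Y.basicOpen a).ι) := by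
    have h1 := isPullback_morphismRestrict f (V₁ ⊓ Y.basicOpen a)
    exact (hpb.flip.paste_vert h1).flip
  set y' := y ≫ (V₁ ⊓ Y.basicOpen a).ι with hy'def
  have hrange : Set.range y' ⊆ (V₁ ⊓ Y.basicOpen a : Y.Opens) := by
    rintro _ ⟨t, rfl⟩
    rw [hy'def, Scheme.Hom.comp_apply]
    exact (y t).2
  have hrange₀ : Set.range y' ⊆ V₀ := fun t ht =>
    Y.basicOpen_le a (hrange ht).2
  obtain ⟨ψ, hψ⟩ := exists_eq_SpecMap_fromSpec hV₀ K y' hrange₀
  have hy'V₁ : y' (IsLocalRing.closedPoint K) ∈ V₁ := (hrange ⟨_, rfl⟩).1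
  have hψa : ψ a ≠ 0 := by
    rw [← mem_basicOpen_iff_of_SpecMap hV₀ K ψ a, ← hψ]
    exact (hrange ⟨_, rfl⟩).2
  -- the chart
  have hpb'' := hpb'
  rw [hψ] at hpb''
  obtain ⟨l, hlo, hl1, hl2⟩ := genChart f hV₀ hW hWV K ψ _ _ hpb''
  letI := (f.appLE V₀ W hWV).hom.toAlgebra
  letI := ψ.toAlgebra
  haveI h1 : IrreducibleSpace (PrimeSpectrum (K ⊗[Γ(Y, V₀)] Γ(X, W))) := ha K ψ hψa
  haveI h2 : IrreducibleSpace (PrimeSpectrum (Γ(X, W) ⊗[Γ(Y, V₀)] K)) :=
    irreducibleSpace_of_ringEquiv (Algebra.TensorProduct.comm Γ(Y, V₀) K Γ(X, W)).toRingEquiv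
  haveI h3 : IrreducibleSpace (Spec (.of (Γ(X, W) ⊗[Γ(Y, V₀)] K))) := h2
  -- density
  obtain ⟨q, hqo, hq⟩ := exists_open_to_fiber f y' _ _ hpb'
  have hdense : Dense (Set.range l) := by
    rw [hl2, ← compl_compl (⇑(fst ≫ (f ⁻¹ᵁ (V₁ ⊓ Y.basicOpen a)).ι) ⁻¹' (W : Set X)),
      ← interior_eq_empty_iff_dense_compl, ← Set.preimage_compl]
    have hS := hV₁ _ hy'V₁
    have hScl : IsClosed ((f.fiberι (y' (IsLocalRing.closedPoint K))) ⁻¹' ((W : Set X)ᶜ)) :=
      hZ.preimage (f.fiberι _).continuous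
    rw [hScl.isNowhereDense_iff] at hS
    have : (⇑(fst ≫ (f ⁻¹ᵁ (V₁ ⊓ Y.basicOpen a)).ι) ⁻¹' ((W : Set X)ᶜ)) =
        q ⁻¹' ((f.fiberι (y' (IsLocalRing.closedPoint K))) ⁻¹' ((W : Set X)ᶜ)) := by
      rw [← Set.preimage_comp, ← TopCat.coe_comp, ← Scheme.Hom.comp_base, hq]
    rw [this, ← hqo.preimage_interior_eq_interior_preimage q.continuous, hS, Set.preimage_empty]
  exact irreducibleSpace_of_isOpenEmbedding_of_dense l.isOpenEmbedding hdense

end Groth.Agent.Lib.Helper4.GIMain1
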