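import Mathlib
import Groth.Agent.Lib.Helper4.GIMain1
import Groth.Agent.Lib.Helper4.GI2Sch1

/-!
# Geometric fibres over a point: connectedness of all geometric fibres, base change and descent (helper4)
-/

set_option backward.isDefEq.respectTransparency.types false
set_option synthInstance.maxHeartbeats 400000
set_option autoImplicit false
set_option linter.unusedSectionVars false
set_option linter.style.haveILetI false
set_option linter.unusedSimpArgs false
universe u v w
open CategoryTheory CategoryTheory.Limits AlgebraicGeometry TopologicalSpace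
open scoped TensorProduct
open Groth.Agent.Lib.Helper4.GI2Sch1

namespace Groth.Agent.Lib.Helper4.GCDef1

/-- All geometric fibres of `f` over the point `y` are connected. -/
def GeomFibConn {X Y : Scheme.{u}} (f : X ⟶ Y) (y : Y) : Prop :=
  ∀ ⦃Ω : Type u⦄ [Field Ω] (yb : Spec (.of Ω) ⟶ Y) ⦃P : Scheme.{u}⦄ (fst : P ⟶ X)
    (snd : P ⟶ Spec (.of Ω)), yb (IsLocalRing.closedPoint Ω) = y → IsPullback fst snd f yb →
      ConnectedSpace P

/-- The preimage of `C` in every geometric fibre of `f` over the point `y` is irreducible. -/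
def GeomFibIrrSet {X Y : Scheme.{u}} (f : X ⟶ Y) (C : Set X) (y : Y) : Prop :=
  ∀ ⦃Ω : Type u⦄ [Field Ω] (yb : Spec (.of Ω) ⟶ Y) ⦃P : Scheme.{u}⦄ (fst : P ⟶ X)
    (snd : P ⟶ Spec (.of Ω)), yb (IsLocalRing.closedPoint Ω) = y → IsPullback fst snd f yb →
      IsIrreducible (fst ⁻¹' C)

/-- Comparison of an arbitrary geometric fibre with the scheme-theoretic fibre. -/
theorem exists_isPullback_to_fiber {X Y : Scheme.{u}} (f : X ⟶ Y) {K : Type u} [Field K]
    (y : Spec (.of K) ⟶ Y) {Z : Scheme.{u}} (fst : Z ⟶ X) (snd : Z ⟶ Spec (.of K))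
    (hpb : IsPullback fst snd f y) :
    ∃ (q : Z ⟶ f.fiber (y (IsLocalRing.closedPoint K)))
      (ι₀ : Y.residueField (y (IsLocalRing.closedPoint K)) ⟶ .of K),
      IsPullback q snd (f.fiberToSpecResidueField _) (Spec.map ι₀) ∧
      q ≫ f.fiberι _ = fst ∧ Spec.map ι₀ ≫ Y.fromSpecResidueField _ = y := by
  set y₀ := y (IsLocalRing.closedPoint K) with hy₀
  let ι₀ : Y.residueField y₀ ⟶ .of K := Y.descResidueField (Scheme.stalkClosedPointTo y)
  have hfac : Spec.map ι₀ ≫ Y.fromSpecResidueField y₀ = y :=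
    Scheme.descResidueField_stalkClosedPointTo_fromSpecResidueField K Y y
  have hfib : IsPullback (f.fiberι y₀) (f.fiberToSpecResidueField y₀) f
      (Y.fromSpecResidueField y₀) := IsPullback.of_hasPullback _ _
  let q : Z ⟶ f.fiber y₀ := hfib.lift fst (snd ≫ Spec.map ι₀)
    (by rw [hpb.w, Category.assoc, hfac])
  have hq1 : q ≫ f.fiberι y₀ = fst := hfib.lift_fst _ _ _
  have hq2 : q ≫ f.fiberToSpecResidueField y₀ = snd ≫ Spec.map ι₀ := hfib.lift_snd _ _ _
  have hsq : IsPullback q snd (f.fiberToSpecResidueField y₀) (Spec.map ι₀) := by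
    refine IsPullback.of_right ?_ hq2 hfib
    rw [hq1, hfac]
    exact hpb
  exact ⟨q, ι₀, hsq, hq1, hfac⟩

theorem geomFibConn_of_fiber {X Y : Scheme.{u}} (f : X ⟶ Y) (y : Y)
    (h : GeometricallyConnected (f.fiberToSpecResidueField y)) : GeomFibConn f y := by
  intro Ω _ yb P fst snd hy hpb
  subst hy
  obtain ⟨q, ι₀, hsq, -, -⟩ := exists_isPullback_to_fiber f yb fst snd hpb
  exact h.geometrically_connectedSpace _ _ _ hsq

/-- the closed point of `Spec` of a field is the only point -/
theorem eq_closedPoint {Ω : Type u} [Field Ω] (t : Spec (.of Ω)) :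
    t = IsLocalRing.closedPoint Ω := Subsingleton.elim _ _

theorem geometricallyConnected_restrict {X Y : Scheme.{u}} (f : X ⟶ Y) (V : Y.Opens)
    (h : ∀ y ∈ V, GeomFibConn f y) : GeometricallyConnected (f ∣_ V) := by
  refine ⟨?_⟩
  intro K _ y Z fst snd hpb
  have hpb' : IsPullback (fst ≫ (f ⁻¹ᵁ V).ι) snd f (y ≫ V.ι) := by
    have h1 := isPullback_morphismRestrict f V
    exact (hpb.flip.paste_vert h1).flip
  refine h _ ?_ (y ≫ V.ι) _ _ rfl hpb'
  rw [Scheme.Hom.comp_apply]
  exact (y _).2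

/-- Geometric fibres of a base change are geometric fibres of the original morphism. -/
theorem GeomFibConn.baseChange {X Y X' Y' : Scheme.{u}} {f : X ⟶ Y} {f' : X' ⟶ Y'} {g' : X' ⟶ X}
    {g : Y' ⟶ Y} (sq : IsPullback g' f' f g) (y' : Y') (h : GeomFibConn f (g y')) :
    GeomFibConn f' y' := by
  intro Ω _ yb P fst snd hy hpb
  refine h (yb ≫ g) (fst ≫ g') snd ?_ (hpb.paste_horiz sq)
  rw [Scheme.Hom.comp_apply, hy]

/-- Lifting a geometric point along a morphism hitting its image point, after enlarging the field. -/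
theorem exists_lift_geomPoint {Y Y' : Scheme.{u}} (g : Y' ⟶ Y) (y' : Y') {Ω : Type u} [Field Ω]
    (yb : Spec (.of Ω) ⟶ Y) (hy : yb (IsLocalRing.closedPoint Ω) = g y') :
    ∃ (Ω' : Type u) (_ : Field Ω') (a : Spec (.of Ω') ⟶ Spec (.of Ω)) (b : Spec (.of Ω') ⟶ Y'),
      a ≫ yb = b ≫ g ∧ b (IsLocalRing.closedPoint Ω') = y' := by
  obtain ⟨q, hq1, hq2⟩ := Scheme.Pullback.exists_preimage_pullback (f := yb) (g := g) _ _ hy
  refine ⟨(pullback yb g).residueField q, inferInstance,
    (pullback yb g).fromSpecResidueField q ≫ pullback.fst yb g,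
    (pullback yb g).fromSpecResidueField q ≫ pullback.snd yb g, ?_, ?_⟩
  · rw [Category.assoc, Category.assoc, pullback.condition]
  · rw [Scheme.Hom.comp_apply]
    erw [Scheme.fromSpecResidueField_apply]
    exact hq2

theorem GeomFibConn.descend {X Y X' Y' : Scheme.{u}} {f : X ⟶ Y} {f' : X' ⟶ Y'} {g' : X' ⟶ X}
    {g : Y' ⟶ Y} (sq : IsPullback g' f' f g) (y' : Y') (h : GeomFibConn f' y') :
    GeomFibConn f (g y') := by
  intro Ω _ yb P fst snd hy hpb
  obtain ⟨Ω', _, a, b, hab, hb⟩ := exists_lift_geomPoint g y' yb hy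
  have hP' : IsPullback (pullback.fst snd a) (pullback.snd snd a) snd a :=
    IsPullback.of_hasPullback _ _
  have hbig : IsPullback (pullback.fst snd a ≫ fst) (pullback.snd snd a) f (a ≫ yb) :=
    hP'.paste_horiz hpb
  let r : pullback snd a ⟶ X' := sq.lift (pullback.fst snd a ≫ fst) (pullback.snd snd a ≫ b)
    (by rw [Category.assoc, Category.assoc, ← hab]; exact hbig.w)
  have hr1 : r ≫ g' = pullback.fst snd a ≫ fst := sq.lift_fst _ _ _
  have hr2 : r ≫ f' = pullback.snd snd a ≫ b := sq.lift_snd _ _ _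
  have hsq : IsPullback r (pullback.snd snd a) f' b := by
    refine IsPullback.of_right ?_ hr2 sq
    rw [hr1, ← hab]
    exact hbig
  haveI : ConnectedSpace ↥(pullback snd a) := h b r _ hb hsq
  haveI : Surjective a := ⟨fun t => ⟨IsLocalRing.closedPoint Ω', Subsingleton.elim _ _⟩⟩
  have hs : Function.Surjective (pullback.fst snd a) := (pullback.fst snd a).surjective
  exact hs.connectedSpace (pullback.fst snd a).continuous

end Groth.Agent.Lib.Helper4.GCDef1
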