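import Mathlib
import Groth.Agent.Lib.Helper4.GIMain1
import Groth.Agent.Lib.Helper4.GI2Sch1
import Groth.Agent.Lib.Helper4.GCDef1

/-!
# EGA IV 9.7.7 for closed subsets: geometric irreducibility of a closed subset of the generic fibre spreads out (helper4)
-/

set_option backward.isDefEq.respectTransparency.types false
set_option synthInstance.maxHeartbeats 400000
set_option autoImplicit false
set_option linter.unusedSectionVars false
set_option linter.style.haveILetI false
set_option linter.unusedSimpArgs false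
universe u v w
open CategoryTheory CategoryTheory.Limits AlgebraicGeometry TopologicalSpace
open scoped TensorProduct
open Groth.Agent.Lib.Helper4.GI2Sch1 Groth.Agent.Lib.Helper4.GCDef1

namespace Groth.Agent.Lib.Helper4.GCIrr1

/-- Restricting a geometric fibre over a point of an open `V` to `V`. -/
theorem exists_restrict_geomFib {X Y : Scheme.{u}} (f : X ⟶ Y) (V : Y.Opens)
    {Ω : Type u} [Field Ω] (yb : Spec (.of Ω) ⟶ Y) {P : Scheme.{u}} (fst : P ⟶ X)
    (snd : P ⟶ Spec (.of Ω)) (hy : yb (IsLocalRing.closedPoint Ω) ∈ V)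
    (hpb : IsPullback fst snd f yb) :
    ∃ (yV : Spec (.of Ω) ⟶ (V : Scheme.{u})) (fstV : P ⟶ (f ⁻¹ᵁ V : Scheme.{u})),
      yV ≫ V.ι = yb ∧ fstV ≫ (f ⁻¹ᵁ V).ι = fst ∧ IsPullback fstV snd (f ∣_ V) yV := by
  have hr1 : Set.range yb ⊆ Set.range V.ι := by
    rintro _ ⟨t, rfl⟩
    rw [Scheme.Opens.range_ι, Subsingleton.elim t (IsLocalRing.closedPoint Ω)]
    exact hy
  have hr2 : Set.range fst ⊆ Set.range (f ⁻¹ᵁ V).ι := by
    rintro _ ⟨p, rfl⟩
    rw [Scheme.Opens.range_ι]
    change f (fst p) ∈ V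
    rw [← Scheme.Hom.comp_apply, hpb.w, Scheme.Hom.comp_apply,
      Subsingleton.elim (snd p) (IsLocalRing.closedPoint Ω)]
    exact hy
  refine ⟨IsOpenImmersion.lift V.ι yb hr1, IsOpenImmersion.lift (f ⁻¹ᵁ V).ι fst hr2,
    IsOpenImmersion.lift_fac _ _ _, IsOpenImmersion.lift_fac _ _ _, ?_⟩
  have h1 := (isPullback_morphismRestrict f V).flip
  refine IsPullback.of_right ?_ ?_ h1
  · rw [IsOpenImmersion.lift_fac, IsOpenImmersion.lift_fac]
    exact hpb
  · rw [← cancel_mono V.ι, Category.assoc, Category.assoc, IsOpenImmersion.lift_fac,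
      ← h1.w, IsOpenImmersion.lift_fac_assoc]
    exact hpb.w

theorem geomFibIrrSet_range_of_comp {W X Y : Scheme.{u}} (i : W ⟶ X) (f : X ⟶ Y) (V : Y.Opens)
    (hV : GeometricallyIrreducible ((i ≫ f) ∣_ V)) (y : Y) (hy : y ∈ V) :
    GeomFibIrrSet f (Set.range i) y := by
  intro Ω _ yb P fst snd hyb hpb
  subst hyb
  have hsq : IsPullback (pullback.fst i fst) (pullback.snd i fst) i fst :=
    IsPullback.of_hasPullback _ _
  have hbig : IsPullback (pullback.fst i fst) (pullback.snd i fst ≫ snd) (i ≫ f) yb :=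
    hsq.paste_vert hpb
  obtain ⟨yV, fstV, h1, h2, h3⟩ := exists_restrict_geomFib (i ≫ f) V yb _ _ hy hbig
  haveI : IrreducibleSpace ↥(pullback i fst) := hV.geometrically_irreducibleSpace yV _ _ h3
  rw [← range_of_isPullback hsq, ← Set.image_univ]
  exact (IrreducibleSpace.isIrreducible_univ _).image _
    (pullback.snd i fst).continuous.continuousOn

theorem exists_open_geomFibIrrSet {X Y : Scheme.{u}} (f : X ⟶ Y) [IrreducibleSpace Y]
    [LocallyOfFiniteType f] [QuasiCompact f] (C : Set X) (hC : IsClosed C)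
    (h : GeomIrrSet (f.fiberToSpecResidueField (genericPoint Y))
      ((f.fiberι (genericPoint Y)) ⁻¹' C)) :
    ∃ V : Y.Opens, genericPoint Y ∈ V ∧ ∀ y ∈ V, GeomFibIrrSet f C y := by
  let i := (Scheme.IdealSheafData.vanishingIdeal (⟨C, hC⟩ : Closeds X)).subschemeι
  have hri : Set.range i = C := by
    rw [Scheme.IdealSheafData.range_subschemeι, Scheme.IdealSheafData.coe_support_vanishingIdeal]
    rfl
  have hfib : IsPullback (f.fiberι (genericPoint Y)) (f.fiberToSpecResidueField (genericPoint Y)) f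
      (Y.fromSpecResidueField (genericPoint Y)) := IsPullback.of_hasPullback _ _
  have hfib' : IsPullback ((i ≫ f).fiberι (genericPoint Y))
      ((i ≫ f).fiberToSpecResidueField (genericPoint Y)) (i ≫ f)
      (Y.fromSpecResidueField (genericPoint Y)) := IsPullback.of_hasPullback _ _
  let j : (i ≫ f).fiber (genericPoint Y) ⟶ f.fiber (genericPoint Y) :=
    hfib.lift ((i ≫ f).fiberι (genericPoint Y) ≫ i)
    ((i ≫ f).fiberToSpecResidueField (genericPoint Y)) (by rw [Category.assoc]; exact hfib'.w)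
  have hj1 : j ≫ f.fiberι (genericPoint Y) = (i ≫ f).fiberι (genericPoint Y) ≫ i :=
    hfib.lift_fst _ _ _
  have hj2 : j ≫ f.fiberToSpecResidueField (genericPoint Y) =
      (i ≫ f).fiberToSpecResidueField (genericPoint Y) :=
    hfib.lift_snd _ _ _
  have hsq : IsPullback ((i ≫ f).fiberι (genericPoint Y)) j i (f.fiberι (genericPoint Y)) := by
    refine IsPullback.of_bot ?_ hj1.symm hfib
    rw [hj2]
    exact hfib'
  haveI : IsClosedImmersion j :=
    MorphismProperty.of_isPullback (P := @IsClosedImmersion) hsq inferInstance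
  have hgi : GeometricallyIrreducible ((i ≫ f).fiberToSpecResidueField (genericPoint Y)) := by
    rw [← hj2, geometricallyIrreducible_comp_iff, range_of_isPullback hsq, hri]
    exact h
  obtain ⟨V, hVne, hV⟩ := Groth.Agent.Lib.Helper4.GIMain1.main (i ≫ f) hgi
  have hηV : genericPoint Y ∈ V := by
    have := ((genericPoint_spec Y).mem_open_set_iff V.isOpen).mpr (by simpa using hVne)
    exact this
  refine ⟨V, hηV, fun y hy => ?_⟩
  rw [← hri]
  exact geomFibIrrSet_range_of_comp i f V hV y hy

end Groth.Agent.Lib.Helper4.GCIrr1
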