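import Mathlib

/-!
# Connectedness of a space covered by finitely many closed connected sets with connected intersection graph (helper4)
-/

set_option backward.isDefEq.respectTransparency.types false
set_option synthInstance.maxHeartbeats 400000
set_option autoImplicit false
set_option linter.unusedSectionVars false
set_option linter.style.haveILetI false
set_option linter.unusedSimpArgs false
universe u v w
open TopologicalSpace Set

namespace Groth.Agent.Lib.Helper4.GCTop1

/-- Closed version of `IsPreconnected.transGen_of_iUnion` for finitely many closed sets. -/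
theorem transGen_of_iUnion_closed {α : Type*} [TopologicalSpace α] {ι : Type*} [Finite ι]
    {s : ι → Set α}
    (hs : IsPreconnected (⋃ n, s n)) (hs' : ∀ i, IsClosed (s i)) (i j : ι) (hi : (s i).Nonempty)
    (hj : (s j).Nonempty) : Relation.TransGen (fun a b ↦ (s a ∩ s b).Nonempty) i j := by
  by_contra hij
  let S : Set ι := {k | Relation.TransGen (fun a b ↦ (s a ∩ s b).Nonempty) i k}
  let U : Set α := ⋃ k ∈ S, s k
  let V : Set α := ⋃ k ∈ Sᶜ, s k
  have hsplit : (⋃ n, s n) = U ∪ V := iSup_split s (· ∈ S)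
  obtain ⟨a, ha⟩ := hi
  obtain ⟨b, hb⟩ := hj
  let hi_S : i ∈ S := Relation.TransGen.single ⟨a, ha, ha⟩
  have hUne : ((⋃ n, s n) ∩ U).Nonempty := ⟨a, mem_iUnion_of_mem i ha, mem_iUnion₂_of_mem hi_S ha⟩
  have hVne : ((⋃ n, s n) ∩ V).Nonempty := ⟨b, mem_iUnion_of_mem j hb, mem_iUnion₂_of_mem hij hb⟩
  obtain ⟨x, -, hxU, hxV⟩ := (isPreconnected_closed_iff.mp hs) U V
    ((Set.toFinite S).isClosed_biUnion fun i _ ↦ hs' i)
    ((Set.toFinite Sᶜ).isClosed_biUnion fun i _ ↦ hs' i) hsplit.le hUne hVne
  simp only [mem_iUnion, exists_prop, mem_compl_iff, U, V] at hxU hxV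
  obtain ⟨k, hk, hxk⟩ := hxU
  obtain ⟨l, hl, hxl⟩ := hxV
  exact hl (hk.tail ⟨x, hxk, hxl⟩)

/-- A space covered by connected subsets indexed by `ι`, whose intersection graph contains a
connected graph `R`, is connected. -/
theorem connectedSpace_of_cover {α : Type*} [TopologicalSpace α] {ι : Type*} [Nonempty ι]
    {s : ι → Set α} (H : ∀ i, IsConnected (s i)) (hcov : ⋃ i, s i = Set.univ)
    (R : ι → ι → Prop) (hR : ∀ i j, R i j → (s i ∩ s j).Nonempty)
    (K : ∀ i j, Relation.ReflTransGen R i j) : ConnectedSpace α := by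
  rw [connectedSpace_iff_univ, ← hcov]
  exact IsConnected.iUnion_of_reflTransGen H fun i j => Relation.ReflTransGen.mono hR i j (K i j)

end Groth.Agent.Lib.Helper4.GCTop1
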