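import Mathlib
import Groth.Agent.Lib.Helper4.GCDef1
import Groth.Agent.Lib.Helper4.GCTop1
import Groth.Agent.Lib.Helper4.GCIrr1
import Groth.Agent.Lib.Helper7.NearGen.Fibres

/-!
# Connected generic fibre with geometrically irreducible components: geometric fibres are connected over a nonempty open (helper4)
-/

set_option backward.isDefEq.respectTransparency.types false
set_option synthInstance.maxHeartbeats 400000
set_option autoImplicit false
set_option linter.unusedSectionVars false
set_option linter.style.haveILetI false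
set_option linter.unusedSimpArgs false
universe u v w
open CategoryTheory CategoryTheory.Limits AlgebraicGeometry TopologicalSpace
open scoped TensorProduct
open Groth.Agent.Lib.Helper4.GI2Sch1 Groth.Agent.Lib.Helper4.GCDef1 Groth.Agent.Lib.Helper4.GCTop1
open Groth.Agent.Lib.Helper4.GCIrr1 Groth.Agent.Helper7.NearGen

namespace Groth.Agent.Lib.Helper4.GCCore1

theorem exists_preimage_of_isPullback {P X Y S : Scheme.{u}} {fst : P ⟶ X} {snd : P ⟶ Y}
    {f : X ⟶ S} {g : Y ⟶ S} (h : IsPullback fst snd f g) (x : X) (y : Y) (hxy : f x = g y) :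
    ∃ p : P, fst p = x ∧ snd p = y := by
  obtain ⟨z, hz1, hz2⟩ := Scheme.Pullback.exists_preimage_pullback (f := f) (g := g) x y hxy
  refine ⟨h.isoPullback.inv z, ?_, ?_⟩
  · rw [← Scheme.Hom.comp_apply, h.isoPullback_inv_fst, hz1]
  · rw [← Scheme.Hom.comp_apply, h.isoPullback_inv_snd, hz2]

theorem core {X Y : Scheme.{u}} (f : X ⟶ Y) [IrreducibleSpace Y] [LocallyOfFiniteType f]
    [QuasiCompact f]
    (hconn : PreconnectedSpace (f.fiber (genericPoint Y)))
    (hne : Nonempty (f.fiber (genericPoint Y)))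
    (hcomp : ∀ Z ∈ irreducibleComponents (f.fiber (genericPoint Y)),
       GeomIrrSet (f.fiberToSpecResidueField (genericPoint Y)) Z) :
    ∃ V : Y.Opens, genericPoint Y ∈ V ∧ ∀ y ∈ V, GeomFibConn f y := by
  classical
  haveI : LocallyOfFiniteType (f.fiberToSpecResidueField (genericPoint Y)) :=
    MorphismProperty.pullback_snd (P := @LocallyOfFiniteType) _ _ inferInstance
  haveI : IsNoetherian (f.fiber (genericPoint Y)) :=
    { __ := LocallyOfFiniteType.isLocallyNoetherian
        (f.fiberToSpecResidueField (genericPoint Y)) }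
  have hfin : (irreducibleComponents (f.fiber (genericPoint Y))).Finite :=
    NoetherianSpace.finite_irreducibleComponents
  haveI : Finite ↥(irreducibleComponents (f.fiber (genericPoint Y))) := hfin.to_subtype
  haveI : Nonempty ↥(irreducibleComponents (f.fiber (genericPoint Y))) := by
    obtain ⟨z⟩ := hne
    exact ⟨⟨irreducibleComponent z, irreducibleComponent_mem_irreducibleComponents z⟩⟩
  let Z : ↥(irreducibleComponents (f.fiber (genericPoint Y))) →
    Set (f.fiber (genericPoint Y)) := fun c => c.1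
  have hcov : ⋃ c, Z c = Set.univ := by
    rw [← sUnion_irreducibleComponents, Set.sUnion_eq_iUnion]
  have hclosed : ∀ c, IsClosed (Z c) := fun c => isClosed_of_mem_irreducibleComponents c.1 c.2
  let T : ↥(irreducibleComponents (f.fiber (genericPoint Y))) → Set X :=
    fun c => closure (f.fiberι (genericPoint Y) '' Z c)
  have hTZ : ∀ c, (f.fiberι (genericPoint Y)) ⁻¹' T c = Z c := by
    intro c
    rw [← (f.fiberι (genericPoint Y)).isEmbedding.isInducing.closure_eq_preimage_closure_image,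
      (hclosed c).closure_eq]
  have h1 : ∀ c, ∃ V : Y.Opens, genericPoint Y ∈ V ∧ ∀ y ∈ V, GeomFibIrrSet f (T c) y :=
    fun c => exists_open_geomFibIrrSet f (T c) isClosed_closure
      (by rw [hTZ c]; exact hcomp c.1 c.2)
  choose V1 hV1η hV1 using h1
  obtain ⟨V2, hV2η, hV2⟩ := fibres_covered f Z hcov
  have h3 : ∀ p : {p : ↥(irreducibleComponents (f.fiber (genericPoint Y))) ×
      ↥(irreducibleComponents (f.fiber (genericPoint Y))) // (Z p.1 ∩ Z p.2).Nonempty},
      ∃ V : Y.Opens, genericPoint Y ∈ V ∧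
        ∀ y ∈ V, ∃ x ∈ T p.1.1 ∩ T p.1.2, x ∈ (⊤ : X.Opens) ∧ f x = y := by
    intro p
    obtain ⟨z, hz1, hz2⟩ := p.2
    exact exists_open_of_locallyClosed f (T p.1.1 ∩ T p.1.2)
      (isClosed_closure.inter isClosed_closure) ⊤ (f.fiberι _ z)
      ⟨subset_closure ⟨z, hz1, rfl⟩, subset_closure ⟨z, hz2, rfl⟩⟩ trivial (base_fiberι f _ z)
  choose V3 hV3η hV3 using h3
  have hgraph : ∀ c c', Relation.ReflTransGen (fun a b => (Z a ∩ Z b).Nonempty) c c' := by
    intro c c'
    have hpre : _root_.IsPreconnected (⋃ c, Z c) := by rw [hcov]; exact isPreconnected_univ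
    exact (transGen_of_iUnion_closed hpre hclosed c c' (c.2.1.nonempty)
      (c'.2.1.nonempty)).to_reflTransGen
  refine ⟨⟨((V2 : Set Y) ∩ ⋂ c, (V1 c : Set Y)) ∩ ⋂ p, (V3 p : Set Y),
    (V2.isOpen.inter (isOpen_iInter_of_finite fun c => (V1 c).isOpen)).inter
      (isOpen_iInter_of_finite fun p => (V3 p).isOpen)⟩,
    ⟨⟨hV2η, Set.mem_iInter.mpr hV1η⟩, Set.mem_iInter.mpr hV3η⟩, ?_⟩
  intro y hy
  have hy2 : y ∈ V2 := hy.1.1
  have hy1 : ∀ c, y ∈ V1 c := fun c => Set.mem_iInter.mp hy.1.2 c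
  have hy3 : ∀ p, y ∈ V3 p := fun p => Set.mem_iInter.mp hy.2 p
  intro Ω _ yb P fst snd hyb hpb
  have hfst : ∀ p : P, f (fst p) = y := by
    intro p
    rw [← Scheme.Hom.comp_apply, hpb.w, Scheme.Hom.comp_apply,
      Subsingleton.elim (snd p) (IsLocalRing.closedPoint Ω), hyb]
  refine connectedSpace_of_cover (s := fun c => fst ⁻¹' T c)
    (fun c => (hV1 c y (hy1 c) yb fst snd hyb hpb).isConnected) ?_
    (fun a b => (Z a ∩ Z b).Nonempty) ?_ hgraph
  · rw [Set.eq_univ_iff_forall]
    intro p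
    obtain ⟨w, hw⟩ := exists_fiberι_eq f y (fst p) (hfst p)
    have hw' : w ∈ ⋃ i, (f.fiberι y) ⁻¹' closure ((f.fiberι (genericPoint Y)) '' Z i) := by
      rw [hV2 y hy2]; exact Set.mem_univ w
    obtain ⟨c, hc⟩ := Set.mem_iUnion.mp hw'
    refine Set.mem_iUnion.mpr ⟨c, ?_⟩
    change fst p ∈ T c
    rw [← hw]
    exact hc
  · intro a b hab
    obtain ⟨x, hxT, -, hfx⟩ := hV3 ⟨(a, b), hab⟩ y (hy3 _)
    obtain ⟨p, hp1, -⟩ := exists_preimage_of_isPullback hpb x (IsLocalRing.closedPoint Ω)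
      (by rw [hfx, hyb])
    exact ⟨p, by change fst p ∈ T a; rw [hp1]; exact hxT.1,
      by change fst p ∈ T b; rw [hp1]; exact hxT.2⟩

end Groth.Agent.Lib.Helper4.GCCore1
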