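import Mathlib

/-!
# Counting irreducible and connected components from a finite closed cover (helper4)
-/

set_option backward.isDefEq.respectTransparency.types false
set_option synthInstance.maxHeartbeats 400000
set_option autoImplicit false
set_option linter.unusedSectionVars false
set_option linter.style.haveILetI false
set_option linter.unusedSimpArgs false
universe u v w
open TopologicalSpace Set

namespace Groth.Agent.Lib.Helper4.GCTop2

/-- A finite cover by closed irreducible pairwise incomparable subsets: these are exactly the
irreducible components. -/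
theorem encard_irreducibleComponents_eq {F : Type*} [TopologicalSpace F] {ι : Type*} [Finite ι]
    (S : ι → Set F) (hS : ∀ c, IsClosed (S c)) (hirr : ∀ c, IsIrreducible (S c))
    (hcov : ⋃ c, S c = Set.univ) (hinc : ∀ c c', S c ⊆ S c' → c = c') :
    (irreducibleComponents F).encard = ENat.card ι := by
  classical
  cases nonempty_fintype ι
  -- every irreducible set lies in some member
  have hsub : ∀ t : Set F, IsIrreducible t → ∃ c, t ⊆ S c := by
    intro t ht
    obtain ⟨z, hz, hzs⟩ := (isIrreducible_iff_sUnion_isClosed.mp ht)
      (Finset.univ.image S)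
      (by
        intro z hz
        obtain ⟨c', -, rfl⟩ := Finset.mem_image.mp hz
        exact hS c')
      (by
        intro x _
        have hx : x ∈ ⋃ c, S c := by rw [hcov]; exact Set.mem_univ x
        obtain ⟨c', hc'⟩ := Set.mem_iUnion.mp hx
        exact Set.mem_sUnion.mpr ⟨S c', by simp, hc'⟩)
    obtain ⟨c', -, rfl⟩ := Finset.mem_image.mp hz
    exact ⟨c', hzs⟩
  have hrange : irreducibleComponents F = Set.range S := by
    ext t
    constructor
    · intro ht
      obtain ⟨c, hc⟩ := hsub t ht.1
      exact ⟨c, (Set.Subset.antisymm (ht.2 (hirr c) hc) hc)⟩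
    · rintro ⟨c, rfl⟩
      refine ⟨hirr c, fun t ht hct => ?_⟩
      obtain ⟨c', hc'⟩ := hsub t ht
      have : c = c' := hinc c c' (hct.trans hc')
      subst this
      exact hc'
  have hinj : Function.Injective S := fun c c' h => hinc c c' h.le
  rw [hrange, ← Set.image_univ, hinj.encard_image, Set.encard_univ]

/-- A finite cover by closed connected subsets: the connected components correspond to the
connected components of the intersection graph. -/
theorem card_connectedComponents_eq {α : Type*} [TopologicalSpace α] {ι : Type*} [Finite ι]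
    (s : ι → Set α) (hs : ∀ i, IsClosed (s i)) (hc : ∀ i, IsConnected (s i))
    (hcov : ⋃ i, s i = Set.univ) (R : ι → ι → Prop)
    (hR : ∀ a b, R a b ↔ (s a ∩ s b).Nonempty) :
    ENat.card (ConnectedComponents α) = ENat.card (Quot R) := by
  classical
  have hw : ∀ i, ∃ x, x ∈ s i := fun i => (hc i).nonempty
  choose w hw using hw
  have hcomp : ∀ i x, x ∈ s i → connectedComponent x = connectedComponent (w i) := by
    intro i x hx
    exact connectedComponent_eq ((hc i).isPreconnected.subset_connectedComponent hx (hw i))
  let φ : Quot R → ConnectedComponents α := Quot.lift (fun i => (w i : ConnectedComponents α)) (by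
    intro a b hab
    obtain ⟨x, hxa, hxb⟩ := (hR a b).mp hab
    rw [ConnectedComponents.coe_eq_coe, ← hcomp a x hxa, ← hcomp b x hxb])
  have hsurj : Function.Surjective φ := by
    intro c
    obtain ⟨x, rfl⟩ := ConnectedComponents.surjective_coe c
    have hx : x ∈ ⋃ i, s i := by rw [hcov]; exact Set.mem_univ x
    obtain ⟨i, hi⟩ := Set.mem_iUnion.mp hx
    refine ⟨Quot.mk R i, ?_⟩
    change (w i : ConnectedComponents α) = x
    rw [ConnectedComponents.coe_eq_coe, hcomp i x hi]
  have hinj : Function.Injective φ := by
    intro qa qb hab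
    obtain ⟨a, rfl⟩ := Quot.exists_rep qa
    obtain ⟨b, rfl⟩ := Quot.exists_rep qb
    change (w a : ConnectedComponents α) = w b at hab
    rw [ConnectedComponents.coe_eq_coe] at hab
    let S : Set ι := {d | Quot.mk R d = Quot.mk R a}
    let U : Set α := ⋃ d ∈ S, s d
    let V : Set α := ⋃ d ∈ Sᶜ, s d
    have hUc : IsClosed U := (Set.toFinite S).isClosed_biUnion fun i _ ↦ hs i
    have hVc : IsClosed V := (Set.toFinite Sᶜ).isClosed_biUnion fun i _ ↦ hs i
    have hUV : U = Vᶜ := by
      ext x
      simp only [U, V, Set.mem_iUnion, Set.mem_compl_iff, exists_prop, not_exists, not_and]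
      constructor
      · rintro ⟨d, hd, hxd⟩ d' hd' hxd'
        exact hd' ((Quot.sound ((hR d d').mpr ⟨x, hxd, hxd'⟩)).symm.trans hd)
      · intro h
        have hx : x ∈ ⋃ i, s i := by rw [hcov]; exact Set.mem_univ x
        obtain ⟨i, hi⟩ := Set.mem_iUnion.mp hx
        refine ⟨i, ?_, hi⟩
        by_contra hiS
        exact h i hiS hi
    have hclopen : IsClopen U := ⟨hUc, by rw [hUV]; exact hVc.isOpen_compl⟩
    have hwa : w a ∈ U := Set.mem_iUnion₂.mpr ⟨a, rfl, hw a⟩
    have hwb : w b ∈ U := by
      have := hclopen.connectedComponent_subset hwa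
      rw [hab] at this
      exact this mem_connectedComponent
    obtain ⟨d, hd, hbd⟩ := Set.mem_iUnion₂.mp hwb
    have : Quot.mk R b = Quot.mk R d := Quot.sound ((hR b d).mpr ⟨w b, hw b, hbd⟩)
    exact (this.trans hd).symm
  exact (ENat.card_congr (Equiv.ofBijective φ ⟨hinj, hsurj⟩)).symm

end Groth.Agent.Lib.Helper4.GCTop2
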