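import Mathlib
import Groth.Agent.Lib.Helper4.GCDef1
import Groth.Agent.Lib.Helper4.GCTop1
import Groth.Agent.Lib.Helper4.GCTop2
import Groth.Agent.Lib.Helper4.GCIrr1
import Groth.Agent.Lib.Helper4.GCCore1
import Groth.Agent.Lib.Helper7.NearGen.Fibres

/-!
# Structure of geometric fibres near the generic point when generic-fibre components are geometrically irreducible (helper4)
-/

set_option backward.isDefEq.respectTransparency.types false
set_option synthInstance.maxHeartbeats 400000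
set_option autoImplicit false
set_option linter.unusedSectionVars false
set_option linter.style.haveILetI false
set_option linter.unusedSimpArgs false
universe u v w
open CategoryTheory CategoryTheory.Limits AlgebraicGeometry TopologicalSpace
open scoped TensorProduct
open Groth.Agent.Lib.Helper4.GI2Sch1 Groth.Agent.Lib.Helper4.GCDef1 Groth.Agent.Lib.Helper4.GCTop1
open Groth.Agent.Lib.Helper4.GCIrr1 Groth.Agent.Helper7.NearGen Groth.Agent.Lib.Helper4.GCCore1
open Groth.Agent.Lib.Helper4.GCTop2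

namespace Groth.Agent.Lib.Helper4.GCStruct1

theorem finite_irreducibleComponents_fiber {X Y : Scheme.{u}} (f : X ⟶ Y)
    [LocallyOfFiniteType f] [QuasiCompact f] (y : Y) :
    (irreducibleComponents (f.fiber y)).Finite := by
  haveI : LocallyOfFiniteType (f.fiberToSpecResidueField y) :=
    MorphismProperty.pullback_snd (P := @LocallyOfFiniteType) _ _ inferInstance
  haveI : IsNoetherian (f.fiber y) :=
    { __ := LocallyOfFiniteType.isLocallyNoetherian (f.fiberToSpecResidueField y) }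
  exact NoetherianSpace.finite_irreducibleComponents

/-- Structure of the geometric fibres near the generic point, when the irreducible components
of the generic fibre are geometrically irreducible: the closures of these components cut out,
on every geometric fibre over a nonempty open, irreducible closed subsets which cover, are
pairwise incomparable, and meet exactly when the original components meet. -/
theorem struct {X Y : Scheme.{u}} (f : X ⟶ Y) [IrreducibleSpace Y] [LocallyOfFiniteType f]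
    [QuasiCompact f]
    (hcomp : ∀ Z ∈ irreducibleComponents (f.fiber (genericPoint Y)),
       GeomIrrSet (f.fiberToSpecResidueField (genericPoint Y)) Z) :
    ∃ V : Y.Opens, genericPoint Y ∈ V ∧ ∀ y ∈ V,
      ∀ ⦃Ω : Type u⦄ [Field Ω] (yb : Spec (.of Ω) ⟶ Y) ⦃P : Scheme.{u}⦄ (fst : P ⟶ X)
        (snd : P ⟶ Spec (.of Ω)), yb (IsLocalRing.closedPoint Ω) = y → IsPullback fst snd f yb →
        (∀ c : ↥(irreducibleComponents (f.fiber (genericPoint Y))),
          IsIrreducible (fst ⁻¹' closure (f.fiberι (genericPoint Y) '' c.1))) ∧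
        (⋃ c : ↥(irreducibleComponents (f.fiber (genericPoint Y))),
          fst ⁻¹' closure (f.fiberι (genericPoint Y) '' c.1) = Set.univ) ∧
        (∀ a b : ↥(irreducibleComponents (f.fiber (genericPoint Y))),
          (a.1 ∩ b.1).Nonempty ↔ (fst ⁻¹' closure (f.fiberι (genericPoint Y) '' a.1) ∩
            fst ⁻¹' closure (f.fiberι (genericPoint Y) '' b.1)).Nonempty) ∧
        (∀ a b : ↥(irreducibleComponents (f.fiber (genericPoint Y))),
          fst ⁻¹' closure (f.fiberι (genericPoint Y) '' a.1) ⊆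
            fst ⁻¹' closure (f.fiberι (genericPoint Y) '' b.1) → a = b) := by
  classical
  have hfin : (irreducibleComponents (f.fiber (genericPoint Y))).Finite :=
    finite_irreducibleComponents_fiber f _
  haveI : Finite ↥(irreducibleComponents (f.fiber (genericPoint Y))) := hfin.to_subtype
  let Z : ↥(irreducibleComponents (f.fiber (genericPoint Y))) →
    Set (f.fiber (genericPoint Y)) := fun c => c.1
  have hcov : ⋃ c, Z c = Set.univ := by
    rw [← sUnion_irreducibleComponents, Set.sUnion_eq_iUnion]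
  have hclosed : ∀ c, IsClosed (Z c) := fun c => isClosed_of_mem_irreducibleComponents c.1 c.2
  let T : ↥(irreducibleComponents (f.fiber (genericPoint Y))) → Set X :=
    fun c => closure (f.fiberι (genericPoint Y) '' Z c)
  have hTZ : ∀ c, (f.fiberι (genericPoint Y)) ⁻¹' T c = Z c := by
    intro c
    rw [← (f.fiberι (genericPoint Y)).isEmbedding.isInducing.closure_eq_preimage_closure_image,
      (hclosed c).closure_eq]
  -- (1) irreducibility
  have h1 : ∀ c, ∃ V : Y.Opens, genericPoint Y ∈ V ∧ ∀ y ∈ V, GeomFibIrrSet f (T c) y :=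
    fun c => exists_open_geomFibIrrSet f (T c) isClosed_closure
      (by rw [hTZ c]; exact hcomp c.1 c.2)
  choose V1 hV1η hV1 using h1
  -- (2) covering
  obtain ⟨V2, hV2η, hV2⟩ := fibres_covered f Z hcov
  -- (3) adjacency
  have h3 : ∀ p : {p : ↥(irreducibleComponents (f.fiber (genericPoint Y))) ×
      ↥(irreducibleComponents (f.fiber (genericPoint Y))) // (Z p.1 ∩ Z p.2).Nonempty},
      ∃ V : Y.Opens, genericPoint Y ∈ V ∧
        ∀ y ∈ V, ∃ x ∈ T p.1.1 ∩ T p.1.2, x ∈ (⊤ : X.Opens) ∧ f x = y := by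
    intro p
    obtain ⟨z, hz1, hz2⟩ := p.2
    exact exists_open_of_locallyClosed f (T p.1.1 ∩ T p.1.2)
      (isClosed_closure.inter isClosed_closure) ⊤ (f.fiberι _ z)
      ⟨subset_closure ⟨z, hz1, rfl⟩, subset_closure ⟨z, hz2, rfl⟩⟩ trivial (base_fiberι f _ z)
  choose V3 hV3η hV3 using h3
  have h4 : ∀ p : {p : ↥(irreducibleComponents (f.fiber (genericPoint Y))) ×
      ↥(irreducibleComponents (f.fiber (genericPoint Y))) // ¬ (Z p.1 ∩ Z p.2).Nonempty},
      ∃ V : Y.Opens, genericPoint Y ∈ V ∧ ∀ x ∈ T p.1.1 ∩ T p.1.2, f x ∉ V := by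
    intro p
    refine exists_open_of_closed f (T p.1.1 ∩ T p.1.2) (isClosed_closure.inter isClosed_closure) ?_
    intro x hx hfx
    obtain ⟨z, rfl⟩ := exists_fiberι_eq f _ x hfx
    have hz1 : z ∈ Z p.1.1 := by rw [← hTZ]; exact hx.1
    have hz2 : z ∈ Z p.1.2 := by rw [← hTZ]; exact hx.2
    exact p.2 ⟨z, hz1, hz2⟩
  choose V4 hV4η hV4 using h4
  -- (4) incomparability
  have hgen : ∀ c : ↥(irreducibleComponents (f.fiber (genericPoint Y))),
      ∃ ξ : f.fiber (genericPoint Y), IsGenericPoint ξ c.1 := fun c =>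
    QuasiSober.sober c.2.1 (hclosed c)
  choose ξ hξ using hgen
  have hx : ∀ c c', f.fiberι (genericPoint Y) (ξ c) ∈ T c' ↔ c' = c := by
    intro c c'
    constructor
    · intro hmem
      have h1 : ξ c ∈ Z c' := by rw [← hTZ]; exact hmem
      have h2 : c.1 ⊆ c'.1 := by
        rw [← (hξ c).def]
        exact (hclosed c').closure_subset_iff.mpr (Set.singleton_subset_iff.mpr h1)
      have h3 : c'.1 ⊆ c.1 := c.2.2 c'.2.1 h2
      exact Subtype.ext (Set.Subset.antisymm h3 h2)
    · rintro rfl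
      exact subset_closure ⟨ξ c', (hξ c').mem, rfl⟩
  have hTcl : ∀ c, IsClosed (⋃ c' : {c' // c' ≠ c}, T c'.1) := fun c =>
    isClosed_iUnion_of_finite fun c' : {c' // c' ≠ c} => isClosed_closure
  let U : ↥(irreducibleComponents (f.fiber (genericPoint Y))) → X.Opens := fun c =>
    ⟨(⋃ c' : {c' // c' ≠ c}, T c'.1)ᶜ, (hTcl c).isOpen_compl⟩
  have hxU : ∀ c, f.fiberι (genericPoint Y) (ξ c) ∈ U c := by
    intro c hmem
    obtain ⟨c', hc'⟩ := Set.mem_iUnion.mp hmem
    exact c'.2 ((hx c c'.1).mp hc')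
  have h5 : ∀ c, ∃ V : Y.Opens, genericPoint Y ∈ V ∧
      ∀ y ∈ V, ∃ x ∈ T c, x ∈ U c ∧ f x = y := fun c =>
    exists_open_of_locallyClosed f (T c) isClosed_closure (U c) _ ((hx c c).mpr rfl) (hxU c)
      (base_fiberι f _ _)
  choose V5 hV5η hV5 using h5
  refine ⟨⟨((((V2 : Set Y) ∩ ⋂ c, (V1 c : Set Y)) ∩ ⋂ p, (V3 p : Set Y)) ∩
      ⋂ p, (V4 p : Set Y)) ∩ ⋂ c, (V5 c : Set Y),
    (((V2.isOpen.inter (isOpen_iInter_of_finite fun c => (V1 c).isOpen)).inter
      (isOpen_iInter_of_finite fun p => (V3 p).isOpen)).inter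
      (isOpen_iInter_of_finite fun p => (V4 p).isOpen)).inter
      (isOpen_iInter_of_finite fun c => (V5 c).isOpen)⟩,
    ⟨⟨⟨⟨hV2η, Set.mem_iInter.mpr hV1η⟩, Set.mem_iInter.mpr hV3η⟩, Set.mem_iInter.mpr hV4η⟩,
      Set.mem_iInter.mpr hV5η⟩, ?_⟩
  intro y hy
  have hy2 : y ∈ V2 := hy.1.1.1.1
  have hy1 : ∀ c, y ∈ V1 c := fun c => Set.mem_iInter.mp hy.1.1.1.2 c
  have hy3 : ∀ p, y ∈ V3 p := fun p => Set.mem_iInter.mp hy.1.1.2 p
  have hy4 : ∀ p, y ∈ V4 p := fun p => Set.mem_iInter.mp hy.1.2 p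
  have hy5 : ∀ c, y ∈ V5 c := fun c => Set.mem_iInter.mp hy.2 c
  intro Ω _ yb P fst snd hyb hpb
  have hfst : ∀ p : P, f (fst p) = y := by
    intro p
    rw [← Scheme.Hom.comp_apply, hpb.w, Scheme.Hom.comp_apply,
      Subsingleton.elim (snd p) (IsLocalRing.closedPoint Ω), hyb]
  have hlift : ∀ x : X, f x = y → ∃ p : P, fst p = x := by
    intro x hfx
    obtain ⟨p, hp1, -⟩ := exists_preimage_of_isPullback hpb x (IsLocalRing.closedPoint Ω)
      (by rw [hfx, hyb])
    exact ⟨p, hp1⟩
  refine ⟨fun c => hV1 c y (hy1 c) yb fst snd hyb hpb, ?_, ?_, ?_⟩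
  · rw [Set.eq_univ_iff_forall]
    intro p
    obtain ⟨w, hw⟩ := exists_fiberι_eq f y (fst p) (hfst p)
    have hw' : w ∈ ⋃ i, (f.fiberι y) ⁻¹' closure ((f.fiberι (genericPoint Y)) '' Z i) := by
      rw [hV2 y hy2]; exact Set.mem_univ w
    obtain ⟨c, hc⟩ := Set.mem_iUnion.mp hw'
    refine Set.mem_iUnion.mpr ⟨c, ?_⟩
    change fst p ∈ T c
    rw [← hw]
    exact hc
  · intro a b
    constructor
    · intro hab
      obtain ⟨x, hxT, -, hfx⟩ := hV3 ⟨(a, b), hab⟩ y (hy3 _)
      obtain ⟨p, hp1⟩ := hlift x hfx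
      exact ⟨p, by change fst p ∈ T a; rw [hp1]; exact hxT.1,
        by change fst p ∈ T b; rw [hp1]; exact hxT.2⟩
    · rintro ⟨p, hpa, hpb'⟩
      by_contra hab
      have := hV4 ⟨(a, b), hab⟩ (fst p) ⟨hpa, hpb'⟩
      rw [hfst p] at this
      exact this (hy4 _)
  · intro a b hab
    obtain ⟨x, hxT, hxU, hfx⟩ := hV5 a y (hy5 a)
    obtain ⟨p, hp1⟩ := hlift x hfx
    have hpa : p ∈ fst ⁻¹' T a := by change fst p ∈ T a; rw [hp1]; exact hxT
    have hpb' : fst p ∈ T b := hab hpa
    by_contra hne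
    rw [hp1] at hpb'
    exact hxU (Set.mem_iUnion.mpr ⟨⟨b, fun h => hne h.symm⟩, hpb'⟩)

end Groth.Agent.Lib.Helper4.GCStruct1
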