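import Mathlib
import Groth.Agent.Lib.Helper3.MonoSep

/-!
# Lifting a monic separable polynomial from the residue field of the generic point to an affine neighbourhood; irreducibility of the spectrum of the quotient (helper4)
-/

set_option backward.isDefEq.respectTransparency.types false
set_option synthInstance.maxHeartbeats 400000
set_option autoImplicit false
set_option linter.unusedSectionVars false
set_option linter.style.haveILetI false
set_option linter.unusedSimpArgs false
universe u v w
open CategoryTheory CategoryTheory.Limits AlgebraicGeometry TopologicalSpace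
open Polynomial

namespace Groth.Agent.Lib.Helper4.GI2Spread1

section Alg

variable {A : Type u} [CommRing A] {K : Type u} [Field K] (ev : A →+* K)
  (hnil : ∀ a, ev a = 0 → IsNilpotent a)

include hnil in
theorem isNilpotent_of_map_eq_zero (p : A[X]) (h : p.map ev = 0) : IsNilpotent p := by
  rw [Polynomial.isNilpotent_iff]
  intro n
  apply hnil
  have := congrArg (fun q => q.coeff n) h
  simpa [Polynomial.coeff_map] using this

include hnil in
/-- a monic lift of a separable polynomial is separable as soon as Bézout coefficients lift -/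
theorem separable_of_map (mt : A[X]) (u v : A[X])
    (h : (u.map ev) * (mt.map ev) + (v.map ev) * derivative (mt.map ev) = 1) : mt.Separable := by
  have h1 : (u * mt + v * derivative mt - 1).map ev = 0 := by
    rw [Polynomial.map_sub, Polynomial.map_add, Polynomial.map_mul, Polynomial.map_mul,
      ← Polynomial.derivative_map, Polynomial.map_one, h, sub_self]
  have h2 := isNilpotent_of_map_eq_zero ev hnil _ h1
  have h3 : IsUnit (u * mt + v * derivative mt) := by
    have : u * mt + v * derivative mt = 1 + (u * mt + v * derivative mt - 1) := by ring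
    rw [this]
    exact IsNilpotent.isUnit_one_add h2
  obtain ⟨w, hw⟩ := h3.exists_left_inv
  exact ⟨w * u, w * v, by rw [← hw]; ring⟩

include hnil in
/-- the spectrum of `A[T]/(m̃)` is irreducible if the image of `m̃` is irreducible over `K` -/
theorem irreducibleSpace_adjoinRoot (mt : A[X]) (hmt : mt.Monic)
    (hirr : Irreducible (mt.map ev)) : IrreducibleSpace (PrimeSpectrum (AdjoinRoot mt)) := by
  haveI : Fact (Irreducible (mt.map ev)) := ⟨hirr⟩
  haveI : Nontrivial A := ev.domain_nontrivial
  let φ : AdjoinRoot mt →+* AdjoinRoot (mt.map ev) :=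
    AdjoinRoot.map ev mt (mt.map ev) dvd_rfl
  rw [PrimeSpectrum.irreducibleSpace_iff_isPrime_nilradical]
  have hker : nilradical (AdjoinRoot mt) = RingHom.ker φ := by
    apply le_antisymm
    · intro x hx
      rw [RingHom.mem_ker]
      exact (IsNilpotent.map (show IsNilpotent x from hx) φ).eq_zero
    · intro x hx
      rw [RingHom.mem_ker] at hx
      obtain ⟨g, rfl⟩ := AdjoinRoot.mk_surjective x
      have hmod : AdjoinRoot.mk mt g = AdjoinRoot.mk mt (g %ₘ mt) := by
        rw [AdjoinRoot.mk_eq_mk]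
        have := Polynomial.modByMonic_add_div g mt
        refine ⟨g /ₘ mt, ?_⟩
        nth_rewrite 1 [← this]; ring
      rw [hmod] at hx ⊢
      have hφ : φ (AdjoinRoot.mk mt (g %ₘ mt)) =
          AdjoinRoot.mk (mt.map ev) ((g %ₘ mt).map ev) := by
        calc φ (AdjoinRoot.mk mt (g %ₘ mt))
            = (g %ₘ mt).eval₂ ((AdjoinRoot.of (mt.map ev)).comp ev) (AdjoinRoot.root _) :=
              AdjoinRoot.lift_mk _ _
          _ = ((g %ₘ mt).map ev).eval₂ (AdjoinRoot.of (mt.map ev)) (AdjoinRoot.root _) :=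
              (Polynomial.eval₂_map _ _ _).symm
          _ = AdjoinRoot.mk (mt.map ev) ((g %ₘ mt).map ev) := by
              rw [← AdjoinRoot.aeval_eq]; rfl
      rw [hφ, AdjoinRoot.mk_eq_zero] at hx
      have hdeg : ((g %ₘ mt).map ev).degree < (mt.map ev).degree := by
        rw [hmt.degree_map]
        exact lt_of_le_of_lt (Polynomial.degree_map_le) (Polynomial.degree_modByMonic_lt g hmt)
      have h0 : (g %ₘ mt).map ev = 0 := Polynomial.eq_zero_of_dvd_of_degree_lt hx hdeg
      exact (isNilpotent_of_map_eq_zero ev hnil _ h0).map (AdjoinRoot.mk mt)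
  rw [hker]
  exact RingHom.ker_isPrime φ

end Alg


theorem evaluation_res {Y : Scheme.{u}} {V V₁ : Y.Opens} (h : V ≤ V₁) (y : Y) (hy : y ∈ V)
    (t : Γ(Y, V₁)) :
    (Y.evaluation V y hy).hom ((Y.presheaf.map (homOfLE h).op).hom t) =
      (Y.evaluation V₁ y (h hy)).hom t := by
  change (Y.residue y).hom ((Y.presheaf.germ V y hy).hom ((Y.presheaf.map (homOfLE h).op).hom t)) =
    (Y.residue y).hom ((Y.presheaf.germ V₁ y (h hy)).hom t)
  congr 1
  exact TopCat.Presheaf.germ_res_apply Y.presheaf (homOfLE h) y hy t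

theorem exists_affine_nhd_lifts {Y : Scheme.{u}} (y : Y) (V₀ : Y.Opens) (hy₀ : y ∈ V₀)
    (S : Finset (Y.residueField y)) :
    ∃ (V : Y.Opens) (_ : IsAffineOpen V) (hy : y ∈ V), V ≤ V₀ ∧
      ∀ c ∈ S, c ∈ Set.range (Y.evaluation V y hy).hom := by
  classical
  have haff : ∀ U : Y.Opens, y ∈ U → ∃ V : Y.Opens, IsAffineOpen V ∧ y ∈ V ∧ V ≤ U := by
    intro U hU
    obtain ⟨_, ⟨V, hV, rfl⟩, hyV, hle⟩ :=
      (Y.isBasis_affineOpens).exists_subset_of_mem_open hU U.isOpen
    exact ⟨V, hV, hyV, hle⟩
  induction S using Finset.induction_on with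
  | empty =>
    obtain ⟨V, hV, hyV, hle⟩ := haff V₀ hy₀
    exact ⟨V, hV, hyV, hle, fun c hc => absurd hc (Finset.notMem_empty c)⟩
  | insert c S hc ih =>
    obtain ⟨V₁, hV₁, hyV₁, hle₁, hS⟩ := ih
    obtain ⟨s, rfl⟩ := IsLocalRing.residue_surjective (R := Y.presheaf.stalk y) c
    obtain ⟨U, hyU, t, rfl⟩ := TopCat.Presheaf.exists_germ_eq Y.presheaf s
    obtain ⟨V, hV, hyV, hle⟩ := haff (V₁ ⊓ U) ⟨hyV₁, hyU⟩
    refine ⟨V, hV, hyV, hle.trans (inf_le_left.trans hle₁), fun c' hc' => ?_⟩
    rcases Finset.mem_insert.mp hc' with rfl | hc'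
    · exact ⟨(Y.presheaf.map (homOfLE (hle.trans inf_le_right)).op).hom t,
        evaluation_res (hle.trans inf_le_right) y hyV t⟩
    · obtain ⟨t', rfl⟩ := hS c' hc'
      exact ⟨(Y.presheaf.map (homOfLE (hle.trans inf_le_left)).op).hom t',
        evaluation_res (hle.trans inf_le_left) y hyV t'⟩


theorem isNilpotent_of_evaluation_genericPoint_eq_zero {Y : Scheme.{u}} [IrreducibleSpace Y]
    {V : Y.Opens} (hV : IsAffineOpen V) (hη : genericPoint Y ∈ V) (t : Γ(Y, V))
    (ht : (Y.evaluation V (genericPoint Y) hη).hom t = 0) : IsNilpotent t := by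
  have h1 : genericPoint Y ∉ Y.basicOpen t := fun hmem =>
    (Y.evaluation_ne_zero_iff_mem_basicOpen (genericPoint Y) hη t).mpr hmem ht
  have h2 : Y.basicOpen t = ⊥ := by
    by_contra hne
    obtain ⟨y, hy⟩ : ((Y.basicOpen t : Y.Opens) : Set Y).Nonempty := by
      rw [Set.nonempty_iff_ne_empty]
      intro h0
      apply hne
      ext x
      simp [← SetLike.mem_coe, h0]
    exact h1 (((genericPoint_spec Y).mem_open_set_iff (Y.basicOpen t).isOpen).mpr
      ⟨y, trivial, hy⟩)
  have h3 : PrimeSpectrum.basicOpen t = ⊥ := by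
    rw [← hV.fromSpec_preimage_basicOpen, h2]; rfl
  exact (PrimeSpectrum.basicOpen_eq_bot_iff t).mp h3

theorem mem_lifts_of_coeffs {A K : Type*} [CommRing A] [Field K] (ev : A →+* K) (p : K[X])
    (h : ∀ c ∈ p.coeffs, c ∈ Set.range ev) : p ∈ Polynomial.lifts ev := by
  rw [Polynomial.lifts_iff_coeff_lifts]
  intro n
  by_cases hn : p.coeff n = 0
  · rw [hn]; exact ⟨0, map_zero ev⟩
  · exact h _ (Polynomial.coeff_mem_coeffs hn)

/-- a monic separable polynomial over the residue field of the generic point lifts to a monic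
separable polynomial over an affine open neighbourhood -/
theorem exists_monic_separable_lift {Y : Scheme.{u}} [IrreducibleSpace Y] (V₀ : Y.Opens)
    (hη₀ : genericPoint Y ∈ V₀) (m : (Y.residueField (genericPoint Y))[X]) (hm : m.Monic)
    (hs : m.Separable) :
    ∃ (V : Y.Opens) (_ : IsAffineOpen V) (hη : genericPoint Y ∈ V), V ≤ V₀ ∧
      ∃ mt : Γ(Y, V)[X], mt.Monic ∧ mt.Separable ∧
        mt.map (Y.evaluation V (genericPoint Y) hη).hom = m := by
  classical
  obtain ⟨u, v, huv⟩ := hs
  obtain ⟨V, hV, hη, hle, hS⟩ := exists_affine_nhd_lifts (genericPoint Y) V₀ hη₀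
    (m.coeffs ∪ u.coeffs ∪ v.coeffs)
  refine ⟨V, hV, hη, hle, ?_⟩
  set ev := (Y.evaluation V (genericPoint Y) hη).hom with hev
  have hml : m ∈ Polynomial.lifts ev := mem_lifts_of_coeffs ev m (fun c hc =>
    hS c (Finset.mem_union_left _ (Finset.mem_union_left _ hc)))
  have hul : u ∈ Polynomial.lifts ev := mem_lifts_of_coeffs ev u (fun c hc =>
    hS c (Finset.mem_union_left _ (Finset.mem_union_right _ hc)))
  have hvl : v ∈ Polynomial.lifts ev := mem_lifts_of_coeffs ev v (fun c hc =>
    hS c (Finset.mem_union_right _ hc))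
  obtain ⟨mt, hmt1, -, hmt3⟩ := Polynomial.lifts_and_degree_eq_and_monic hml hm
  obtain ⟨ut, hut⟩ := (Polynomial.mem_lifts _).mp hul
  obtain ⟨vt, hvt⟩ := (Polynomial.mem_lifts _).mp hvl
  refine ⟨mt, hmt3, ?_, hmt1⟩
  refine separable_of_map ev
    (fun a ha => isNilpotent_of_evaluation_genericPoint_eq_zero hV hη a ha) mt ut vt ?_
  rw [hut, hvt, hmt1]
  exact huv

end Groth.Agent.Lib.Helper4.GI2Spread1
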