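import Mathlib
import Groth.Agent.Lib.Helper4.GI2Spread1
import Groth.Agent.Lib.Helper4.GIChart1

/-!
# A finite separable simple extension of the generic residue field spreads out to a finite etale surjective cover of an affine neighbourhood with irreducible affine total space (helper4)
-/

set_option backward.isDefEq.respectTransparency.types false
set_option synthInstance.maxHeartbeats 400000
set_option autoImplicit false
set_option linter.unusedSectionVars false
set_option linter.style.haveILetI false
set_option linter.unusedSimpArgs false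
universe u v w
open CategoryTheory CategoryTheory.Limits AlgebraicGeometry TopologicalSpace
open Polynomial
open Groth.Agent.Lib.Helper4.GI2Spread1 Groth.Agent.Lib.Helper4.GIChart1

namespace Groth.Agent.Lib.Helper4.GI2Cover1

/-- the image of the generic point under a dominant morphism of irreducible schemes -/
theorem map_genericPoint_of_dense {X Y : Scheme.{u}} [IrreducibleSpace X] [IrreducibleSpace Y]
    (h : X ⟶ Y) (hd : Dense (Set.range h)) : h (genericPoint X) = genericPoint Y := by
  have h1 : IsGenericPoint (h (genericPoint X)) (⊤ : Set Y) := by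
    rw [IsGenericPoint, Set.top_eq_univ, ← Set.univ_subset_iff, ← hd.closure_eq]
    have h2 : Set.range h ⊆ closure {h (genericPoint X)} := by
      rintro _ ⟨x, rfl⟩
      have hx : x ∈ closure ({genericPoint X} : Set X) := by
        rw [(genericPoint_spec X).def]; trivial
      have := image_closure_subset_closure_image h.continuous ⟨x, hx, rfl⟩
      rwa [Set.image_singleton] at this
    exact closure_minimal h2 isClosed_closure
  exact h1.eq (genericPoint_spec Y)


/-- a finite separable simple extension of the residue field of the generic point spreads out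
to a finite étale surjective cover of an affine open neighbourhood, with irreducible affine
total space whose generic residue field contains a root of the given polynomial -/
theorem exists_finite_etale_cover {Y : Scheme.{u}} [IrreducibleSpace Y] (V₀ : Y.Opens)
    (hη₀ : genericPoint Y ∈ V₀) (m : (Y.residueField (genericPoint Y))[X]) (hm : m.Monic)
    (hirr : Irreducible m) (hs : m.Separable) :
    ∃ (V : Y.Opens) (Y' : Scheme.{u}) (g : Y' ⟶ (V : Scheme.{u})) (hY' : IrreducibleSpace Y'),
      genericPoint Y ∈ V ∧ V ≤ V₀ ∧ IsAffine Y' ∧ Surjective g ∧ IsFinite g ∧ Etale g ∧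
      ∃ (ι : Y.residueField (genericPoint Y) →+* Y'.residueField (genericPoint Y'))
        (r : Y'.residueField (genericPoint Y')),
        Y'.fromSpecResidueField (genericPoint Y') ≫ g ≫ V.ι =
          Spec.map (CommRingCat.ofHom ι) ≫ Y.fromSpecResidueField (genericPoint Y) ∧
        (m.map ι).eval r = 0 := by
  obtain ⟨V, hV, hη, hle, mt, hmt, hmts, hmap⟩ := exists_monic_separable_lift V₀ hη₀ m hm hs
  set ev := (Y.evaluation V (genericPoint Y) hη).hom with hev
  have hnil : ∀ a, ev a = 0 → IsNilpotent a := fun a ha =>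
    isNilpotent_of_evaluation_genericPoint_eq_zero hV hη a ha
  let A' := AdjoinRoot mt
  haveI hirrA' : IrreducibleSpace (PrimeSpectrum A') :=
    irreducibleSpace_adjoinRoot ev hnil mt hmt (by rw [hmap]; exact hirr)
  haveI hfin : Module.Finite Γ(Y, V) A' := hmt.finite_adjoinRoot
  haveI hfree : Module.Free Γ(Y, V) A' := hmt.free_adjoinRoot
  haveI het : Algebra.Etale Γ(Y, V) A' :=
    Algebra.Etale.of_equiv (Groth.Agent.Helper3.MonoSep.pairRingEquiv mt hmt hmts)
  haveI : Nonempty (PrimeSpectrum A') := hirrA'.toNonempty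
  haveI : Nontrivial A' := (PrimeSpectrum.nonempty_iff_nontrivial).mp inferInstance
  haveI hff : Module.FaithfullyFlat Γ(Y, V) A' := inferInstance
  let φ : Γ(Y, V) ⟶ CommRingCat.of A' := CommRingCat.ofHom (algebraMap Γ(Y, V) A')
  let Y' : Scheme.{u} := Spec (.of A')
  let g : Y' ⟶ (V : Scheme.{u}) := Spec.map φ ≫ hV.isoSpec.inv
  haveI hY' : IrreducibleSpace Y' := hirrA'
  have hgι : g ≫ V.ι = Spec.map φ ≫ hV.fromSpec := by
    rw [Category.assoc, IsAffineOpen.isoSpec_inv_ι]
  have hsurjφ : Function.Surjective (Spec.map φ) :=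
    PrimeSpectrum.comap_surjective_of_faithfullyFlat (A := Γ(Y, V)) (B := A')
  have hgsurj : Surjective g := by
    refine ⟨?_⟩
    rw [Scheme.Hom.comp_base, TopCat.coe_comp]
    exact (hV.isoSpec.inv.surjective).comp hsurjφ
  haveI hgfin : IsFinite (Spec.map φ) := by
    rw [IsFinite.SpecMap_iff]
    exact (RingHom.finite_algebraMap).mpr hfin
  haveI hget : Etale (Spec.map φ) := by
    rw [HasRingHomProperty.Spec_iff (P := @Etale)]
    exact (RingHom.etale_algebraMap).mpr het
  refine ⟨V, Y', g, hY', hη, hle, inferInstance, hgsurj, inferInstance, inferInstance, ?_⟩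
  -- the generic point maps to the generic point
  have hdense : Dense (Set.range (g ≫ V.ι)) := by
    have hr : Set.range (g ≫ V.ι) = V := by
      rw [Scheme.Hom.comp_base, TopCat.coe_comp, Set.range_comp,
        Set.range_eq_univ.mpr hgsurj.surj, Set.image_univ, Scheme.Opens.range_ι]
    rw [hr]
    exact V.isOpen.dense ⟨genericPoint Y, hη⟩
  have hgen : (g ≫ V.ι) (genericPoint Y') = genericPoint Y :=
    map_genericPoint_of_dense (g ≫ V.ι) hdense
  obtain ⟨ρ, hρ⟩ := Spec.map_surjective (Y'.fromSpecResidueField (genericPoint Y'))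
  let ψ : Γ(Y, V) →+* Y'.residueField (genericPoint Y') :=
    ρ.hom.comp (algebraMap Γ(Y, V) A')
  have hy' : Y'.fromSpecResidueField (genericPoint Y') ≫ g ≫ V.ι =
      Spec.map (CommRingCat.ofHom ψ) ≫ hV.fromSpec := by
    rw [hgι, ← hρ, ← Category.assoc, ← Spec.map_comp]
    rfl
  have hfe := exists_factor_evaluation hV (Y'.residueField (genericPoint Y')) ψ
  have hpt : (Spec.map (CommRingCat.ofHom ψ) ≫ hV.fromSpec)
      (IsLocalRing.closedPoint (Y'.residueField (genericPoint Y'))) = genericPoint Y := by
    rw [← hy', Scheme.Hom.comp_apply, Scheme.fromSpecResidueField_apply]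
    exact hgen
  have hfac : ∃ ι : Y.residueField (genericPoint Y) →+* Y'.residueField (genericPoint Y'),
      ψ = ι.comp ev := by
    revert hfe
    generalize (Spec.map (CommRingCat.ofHom ψ) ≫ hV.fromSpec)
      (IsLocalRing.closedPoint (Y'.residueField (genericPoint Y'))) = pt at hpt
    subst hpt
    rintro ⟨hy, ι, hι⟩
    exact ⟨ι, hι⟩
  obtain ⟨ι, hι⟩ := hfac
  refine ⟨ι, ρ.hom (AdjoinRoot.root mt), ?_, ?_⟩
  · rw [hy', hι]
    have : CommRingCat.ofHom (ι.comp ev) =
        Y.evaluation V (genericPoint Y) hη ≫ CommRingCat.ofHom ι := rfl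
    rw [this, Spec.map_comp, Category.assoc, SpecMap_evaluation_fromSpec]
    rfl
  · rw [← hmap, Polynomial.map_map, ← hι, Polynomial.eval_map]
    change Polynomial.eval₂ (ρ.hom.comp (algebraMap Γ(Y, V) A')) (ρ.hom (AdjoinRoot.root mt)) mt = 0
    rw [← Polynomial.hom_eval₂]
    have : Polynomial.eval₂ (algebraMap Γ(Y, V) A') (AdjoinRoot.root mt) mt = 0 :=
      AdjoinRoot.eval₂_root mt
    rw [this, map_zero]

end Groth.Agent.Lib.Helper4.GI2Cover1
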