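import Mathlib
import Groth.Agent.Lib.Helper4.GIChart1
import Groth.Agent.Lib.Helper4.GI2Sch1

/-!
# Affine chart of an arbitrary fibre product (field-first tensor order, compatible with both projections) (helper4)
-/

set_option backward.isDefEq.respectTransparency.types false
set_option synthInstance.maxHeartbeats 400000
set_option autoImplicit false
set_option linter.unusedSectionVars false
set_option linter.style.haveILetI false
set_option linter.unusedSimpArgs false
universe u v w
open CategoryTheory CategoryTheory.Limits AlgebraicGeometry TopologicalSpace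
open scoped TensorProduct
open Groth.Agent.Lib.Helper4.GIChart1 Groth.Agent.Lib.Helper4.GI2Sch1

namespace Groth.Agent.Lib.Helper4.GI2Chart2

/-- Affine chart of an arbitrary fibre product `X ×_Y Spec K` (field-first tensor order, with
compatibility with the second projection). -/
theorem genChart' {X Y : Scheme.{u}} (f : X ⟶ Y) {V : Y.Opens} (hV : IsAffineOpen V)
    {U : X.Opens} (hU : IsAffineOpen U) (e : U ≤ f ⁻¹ᵁ V) (K : Type u) [Field K]
    (ψ : Γ(Y, V) →+* K) {Z : Scheme.{u}} (fst : Z ⟶ X) (snd : Z ⟶ Spec (.of K))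
    (hpb : IsPullback fst snd f (Spec.map (CommRingCat.ofHom ψ) ≫ hV.fromSpec)) :
    letI := (f.appLE V U e).hom.toAlgebra
    letI := ψ.toAlgebra
    ∃ l : Spec (.of (K ⊗[Γ(Y, V)] Γ(X, U))) ⟶ Z,
      IsOpenImmersion l ∧
      l ≫ fst = Spec.map (CommRingCat.ofHom
        (Algebra.TensorProduct.includeRight (R := Γ(Y, V)) (A := K) (B := Γ(X, U))).toRingHom) ≫
          hU.fromSpec ∧
      l ≫ snd = Spec.map (CommRingCat.ofHom (algebraMap K (K ⊗[Γ(Y, V)] Γ(X, U)))) ∧
      Set.range l = fst ⁻¹' U := by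
  let φ : Γ(Y, V) ⟶ Γ(X, U) := f.appLE V U e
  algebraize [φ.hom, ψ]
  have hpo := CommRingCat.isPushout_tensorProduct Γ(Y, V) K Γ(X, U)
  have hpb1 := (isPullback_SpecMap_of_isPushout _ _ _ _ hpo).flip
  have hpb2 := isPullback_comp_mono hpb1 hV.fromSpec
  have e1 : Spec.map (CommRingCat.ofHom (algebraMap Γ(Y, V) Γ(X, U))) ≫ hV.fromSpec
      = hU.fromSpec ≫ f := IsAffineOpen.SpecMap_appLE_fromSpec f hV hU e
  rw [e1] at hpb2
  let l := hpb.lift _ _ (by rw [Category.assoc]; exact hpb2.w)
  have hl1 : l ≫ fst = _ := hpb.lift_fst _ _ _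
  have hl2 : l ≫ snd = _ := hpb.lift_snd _ _ _
  have hsq : IsPullback l (Spec.map (CommRingCat.ofHom
      (Algebra.TensorProduct.includeRight (R := Γ(Y, V)) (A := K) (B := Γ(X, U))).toRingHom))
      fst hU.fromSpec := by
    refine IsPullback.of_right ?_ hl1 hpb.flip
    rw [hl2]
    exact hpb2.flip
  have hlo : IsOpenImmersion l :=
    MorphismProperty.of_isPullback (P := @IsOpenImmersion) hsq.flip inferInstance
  refine ⟨l, hlo, hl1, hl2, ?_⟩
  rw [range_of_isPullback hsq.flip, hU.range_fromSpec]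

end Groth.Agent.Lib.Helper4.GI2Chart2
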