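import Mathlib
import Groth.Agent.Lib.Helper4.GI2Alg1
import Groth.Agent.Lib.Helper4.GI2Alg2

/-!
# EGA IV 4.5.11 (affine form): after a finite subextension of a separably closed algebraic extension all irreducible components are geometrically irreducible (helper4)
-/

set_option backward.isDefEq.respectTransparency.types false
set_option synthInstance.maxHeartbeats 400000
set_option autoImplicit false
set_option linter.unusedSectionVars false
set_option linter.style.haveILetI false
set_option linter.unusedSimpArgs false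
universe u v w
open TensorProduct
open Groth.Agent.Lib.Helper4.GITop1 Groth.Agent.Lib.Helper4.GIDom1 Groth.Agent.Lib.Helper4.GI2Alg1 Groth.Agent.Lib.Helper4.GI2Alg2

namespace Groth.Agent.Lib.Helper4.GI2Field1

section IF

variable {K : Type u} [Field K] {L : Type u} [Field L] [Algebra K L]

/-- An intermediate field as an opaque type (to avoid instance diamonds on tensor products). -/
def IF (E : IntermediateField K L) : Type u := ↥E

noncomputable instance (E : IntermediateField K L) : Field (IF E) := inferInstanceAs (Field ↥E)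
noncomputable instance (E : IntermediateField K L) : Algebra K (IF E) :=
  inferInstanceAs (Algebra K ↥E)
noncomputable instance (E : IntermediateField K L) : Algebra (IF E) L :=
  inferInstanceAs (Algebra ↥E L)
instance (E : IntermediateField K L) : IsScalarTower K (IF E) L :=
  inferInstanceAs (IsScalarTower K ↥E L)

/-- elements of the wrapper -/
def IF.mk (E : IntermediateField K L) (l : L) (h : l ∈ E) : IF E := (⟨l, h⟩ : ↥E)

@[simp] lemma IF.algebraMap_mk (E : IntermediateField K L) (l : L) (h : l ∈ E) :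
    algebraMap (IF E) L (IF.mk E l h) = l := rfl

lemma IF.algebraMap_mem (E : IntermediateField K L) (e : IF E) : algebraMap (IF E) L e ∈ E :=
  (e : ↥E).2

lemma IF.algebraMap_injective (E : IntermediateField K L) :
    Function.Injective (algebraMap (IF E) L) := (algebraMap (IF E) L).injective

theorem IF.finiteDimensional (E : IntermediateField K L) [h : FiniteDimensional K E] :
    FiniteDimensional K (IF E) := h

end IF

section Main

variable {K : Type u} [Field K] (L : Type u) [Field L] [Algebra K L]
  (B : Type u) [CommRing B] [Algebra K B]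
  (E : Type u) [Field E] [Algebra K E] [Algebra E L] [IsScalarTower K E L]

/-- the comparison map `E ⊗ B → L ⊗ B` for an abstract intermediate field `E` -/
noncomputable def jA : E ⊗[K] B →ₐ[K] L ⊗[K] B :=
  Algebra.TensorProduct.map (IsScalarTower.toAlgHom K E L) (AlgHom.id K B)

@[simp] lemma jA_tmul (e : E) (b : B) :
    jA L B E (e ⊗ₜ[K] b) = (algebraMap E L e) ⊗ₜ[K] b := rfl

theorem jA_injective : Function.Injective (jA (K := K) L B E) := by
  have : ⇑(jA (K := K) L B E) = ⇑(LinearMap.rTensor B (IsScalarTower.toAlgHom K E L).toLinearMap) := by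
    ext x
    induction x using TensorProduct.induction_on with
    | zero => simp
    | tmul e b => rfl
    | add x y hx hy => rw [map_add, map_add, hx, hy]
  rw [this]
  exact Module.Flat.rTensor_preserves_injective_linearMap _ (algebraMap E L).injective

/-- the key isomorphism: `L ⊗_E ((E ⊗ B)/q) ≅ (L ⊗ B)/Q` when `Q` is generated by `q`. -/
theorem irreducibleSpace_tensor_quotient (Q : Ideal (L ⊗[K] B))
    [Q.IsPrime]
    (hmap : (Q.comap (jA L B E).toRingHom).map (jA L B E).toRingHom = Q) :
    IrreducibleSpace (PrimeSpectrum (L ⊗[E] ((E ⊗[K] B) ⧸ Q.comap (jA L B E).toRingHom))) := by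
  set q : Ideal (E ⊗[K] B) := Q.comap (jA L B E).toRingHom with hq
  let c : L ⊗[E] (E ⊗[K] B) ≃ₐ[L] L ⊗[K] B := Algebra.TensorProduct.cancelBaseChange K E L L B
  let π : L ⊗[E] (E ⊗[K] B) →ₐ[L] L ⊗[E] ((E ⊗[K] B) ⧸ q) :=
    Algebra.TensorProduct.map (AlgHom.id L L) (Ideal.Quotient.mkₐ E q)
  have hπ : Function.Surjective π :=
    Algebra.TensorProduct.map_surjective _ _ Function.surjective_id
      (Ideal.Quotient.mkₐ_surjective E q)
  let inc : E ⊗[K] B →ₐ[E] L ⊗[E] (E ⊗[K] B) := Algebra.TensorProduct.includeRight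
  have hkerπ : RingHom.ker π = q.map inc := by
    have h1 := Algebra.TensorProduct.lTensor_ker (A := L) (Ideal.Quotient.mkₐ E q)
      (Ideal.Quotient.mkₐ_surjective E q)
    have h2 : RingHom.ker (Ideal.Quotient.mkₐ E q) = q := by
      ext a
      rw [RingHom.mem_ker]
      exact Ideal.Quotient.eq_zero_iff_mem
    rw [h2] at h1
    rw [← h1]
    rfl
  -- `c ∘ inc = jA`
  have hcinc : ∀ x : E ⊗[K] B, c (inc x) = jA L B E x := by
    intro x
    induction x using TensorProduct.induction_on with
    | zero => simp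
    | tmul e b =>
      change c ((1 : L) ⊗ₜ[E] (e ⊗ₜ[K] b)) = _
      rw [Algebra.TensorProduct.cancelBaseChange_tmul]
      change (e • (1 : L)) ⊗ₜ[K] b = (algebraMap E L e) ⊗ₜ[K] b
      rw [Algebra.smul_def, mul_one]
    | add x y hx hy => rw [map_add, map_add, hx, hy, map_add]
  let ρ : L ⊗[K] B →ₐ[L] L ⊗[E] ((E ⊗[K] B) ⧸ q) := π.comp c.symm.toAlgHom
  have hρ : Function.Surjective ρ := hπ.comp c.symm.surjective
  have hkerρ : RingHom.ker ρ = Q := by
    ext x
    change c.symm x ∈ RingHom.ker π ↔ _
    rw [hkerπ]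
    constructor
    · intro hx
      have h3 : q.map inc ≤ Q.comap c.toAlgHom := by
        rw [Ideal.map_le_iff_le_comap]
        intro y hy
        rw [Ideal.mem_comap, Ideal.mem_comap]
        change c (inc y) ∈ Q
        rw [hcinc y]
        exact hy
      have h5 := h3 hx
      rw [Ideal.mem_comap] at h5
      change c (c.symm x) ∈ Q at h5
      rwa [c.apply_symm_apply] at h5
    · intro hx
      rw [← hmap] at hx
      have h4 : (q.map (jA L B E).toRingHom) ≤ (q.map inc).comap c.symm.toAlgHom := by
        rw [Ideal.map_le_iff_le_comap]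
        intro y hy
        rw [Ideal.mem_comap, Ideal.mem_comap]
        change c.symm (jA L B E y) ∈ _
        rw [← hcinc y, c.symm_apply_apply]
        exact Ideal.mem_map_of_mem inc hy
      exact h4 hx
  haveI : IsDomain ((L ⊗[K] B) ⧸ RingHom.ker ρ) := by
    rw [hkerρ]; exact Ideal.Quotient.isDomain Q
  have e : ((L ⊗[K] B) ⧸ RingHom.ker ρ) ≃+* (L ⊗[E] ((E ⊗[K] B) ⧸ q)) :=
    (Ideal.quotientKerAlgEquivOfSurjective hρ).toRingEquiv
  exact irreducibleSpace_of_ringEquiv (A := (L ⊗[K] B) ⧸ RingHom.ker ρ)
    (B := L ⊗[E] ((E ⊗[K] B) ⧸ q)) e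

theorem map_comap_jA_eq (Q : Ideal (L ⊗[K] B))
    (s : Finset (L ⊗[K] B)) (hQ : Ideal.span (s : Set (L ⊗[K] B)) = Q)
    (hs : ∀ x ∈ s, x ∈ (jA L B E).range) :
    (Q.comap (jA L B E).toRingHom).map (jA L B E).toRingHom = Q := by
  apply le_antisymm Ideal.map_comap_le
  subst hQ
  rw [Ideal.span_le]
  intro x hx
  obtain ⟨y, rfl⟩ := hs x hx
  apply Ideal.mem_map_of_mem
  rw [Ideal.mem_comap]
  exact Ideal.subset_span hx

end Main

section Lim

variable {K : Type u} [Field K] (L : Type u) [Field L] [Algebra K L] [Algebra.IsAlgebraic K L]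
  (B : Type u) [CommRing B] [Algebra K B]

theorem range_jA_mono {E E' : IntermediateField K L} (h : E ≤ E') :
    (jA (K := K) L B (IF E)).range ≤ (jA (K := K) L B (IF E')).range := by
  rintro _ ⟨x, rfl⟩
  change jA (K := K) L B (IF E) x ∈ _
  induction x using TensorProduct.induction_on with
  | zero => rw [map_zero]; exact Subalgebra.zero_mem _
  | tmul e b =>
    exact ⟨(IF.mk E' (algebraMap (IF E) L e) (h (IF.algebraMap_mem E e))) ⊗ₜ b, rfl⟩
  | add x y hx hy =>
    rw [map_add]; exact Subalgebra.add_mem _ hx hy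

theorem exists_finite_mem_range (x : L ⊗[K] B) :
    ∃ E : IntermediateField K L, FiniteDimensional K E ∧ x ∈ (jA L B (IF E)).range := by
  induction x using TensorProduct.induction_on with
  | zero => exact ⟨⊥, inferInstance, Subalgebra.zero_mem _⟩
  | tmul l b =>
    refine ⟨IntermediateField.adjoin K {l}, ?_, ?_⟩
    · exact IntermediateField.adjoin.finiteDimensional (Algebra.IsIntegral.isIntegral l)
    · exact ⟨(IF.mk (IntermediateField.adjoin K {l}) l
        (IntermediateField.mem_adjoin_simple_self K l)) ⊗ₜ b, rfl⟩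
  | add x y hx hy =>
    obtain ⟨E₁, h₁, hx⟩ := hx
    obtain ⟨E₂, h₂, hy⟩ := hy
    refine ⟨E₁ ⊔ E₂, IntermediateField.finiteDimensional_sup E₁ E₂, ?_⟩
    exact Subalgebra.add_mem _ (range_jA_mono L B le_sup_left hx) (range_jA_mono L B le_sup_right hy)

theorem exists_finite_forall_mem_range (s : Finset (L ⊗[K] B)) :
    ∃ E : IntermediateField K L, FiniteDimensional K E ∧ ∀ x ∈ s, x ∈ (jA L B (IF E)).range := by
  classical
  induction s using Finset.induction_on with
  | empty => exact ⟨⊥, inferInstance, fun x hx => absurd hx (Finset.notMem_empty x)⟩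
  | insert a s ha ih =>
    obtain ⟨E₁, h₁, hs⟩ := ih
    obtain ⟨E₂, h₂, hx⟩ := exists_finite_mem_range L B a
    refine ⟨E₁ ⊔ E₂, IntermediateField.finiteDimensional_sup E₁ E₂, fun x hx' => ?_⟩
    rcases Finset.mem_insert.mp hx' with rfl | hx'
    · exact range_jA_mono L B le_sup_right hx
    · exact range_jA_mono L B le_sup_left (hs x hx')

end Lim

section S1

variable {K : Type u} [Field K] (L : Type u) [Field L] [Algebra K L] [Algebra.IsAlgebraic K L]
  [IsSepClosed L] (B : Type u) [CommRing B] [Algebra K B] [Algebra.FiniteType K B]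

/-- a finite set of generators for all minimal primes of `L ⊗ B` -/
theorem exists_gens : ∃ s : Finset (L ⊗[K] B), ∀ Q ∈ minimalPrimes (L ⊗[K] B),
    ∃ t : Finset (L ⊗[K] B), t ⊆ s ∧ Ideal.span (t : Set (L ⊗[K] B)) = Q := by
  classical
  haveI : IsNoetherianRing (L ⊗[K] B) := Algebra.FiniteType.isNoetherianRing L _
  have hfin := minimalPrimes.finite_of_isNoetherianRing (L ⊗[K] B)
  have hfg : ∀ Q : Ideal (L ⊗[K] B), ∃ s : Finset (L ⊗[K] B),
      Ideal.span (s : Set (L ⊗[K] B)) = Q := fun Q => (IsNoetherian.noetherian Q)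
  choose gen hgen using hfg
  refine ⟨hfin.toFinset.biUnion gen, fun Q hQ => ⟨gen Q, ?_, hgen Q⟩⟩
  exact Finset.subset_biUnion_of_mem gen (hfin.mem_toFinset.mpr hQ)

/-- abstract core: if generators of all minimal primes of `L ⊗ B` come from `E ⊗ B`, then all
components of `E ⊗ B` are geometrically irreducible. -/
theorem geomIrrComps_of_gens (E : Type u) [Field E] [Algebra K E] [Algebra E L]
    [IsScalarTower K E L] (s : Finset (L ⊗[K] B))
    (hs : ∀ Q ∈ minimalPrimes (L ⊗[K] B),
      ∃ t : Finset (L ⊗[K] B), t ⊆ s ∧ Ideal.span (t : Set (L ⊗[K] B)) = Q)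
    (hrange : ∀ x ∈ s, x ∈ (jA L B E).range) : GeomIrrComps E (E ⊗[K] B) := by
  intro q hq
  have hbot : (⊥ : Ideal (L ⊗[K] B)).comap (jA L B E).toRingHom = ⊥ := by
    rw [← RingHom.ker_eq_comap_bot]
    exact (RingHom.injective_iff_ker_eq_bot _).mp (jA_injective L B E)
  have hq' : q ∈ ((⊥ : Ideal (L ⊗[K] B)).comap (jA L B E).toRingHom).minimalPrimes := by
    rw [hbot]; exact hq
  obtain ⟨Q, hQ, rfl⟩ := Ideal.exists_minimalPrimes_comap_eq (jA L B E).toRingHom q hq'
  haveI : Q.IsPrime := hQ.1.1
  obtain ⟨t, hts, ht⟩ := hs Q hQ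
  have hmap := map_comap_jA_eq L B E Q t ht (fun x hx => hrange x (hts hx))
  haveI := irreducibleSpace_tensor_quotient L B E Q hmap
  apply GeomIrrAlg.descend (k' := L)
  exact geomIrrAlg_of_isSepClosed L _

/-- EGA IV 4.5.11-type statement (affine form): after a finite subextension of a separably closed
algebraic extension, all irreducible components are geometrically irreducible; moreover this
holds for all larger intermediate fields. -/
theorem exists_finite_geomIrrComps :
    ∃ E₀ : IntermediateField K L, FiniteDimensional K E₀ ∧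
      ∀ E : IntermediateField K L, E₀ ≤ E → GeomIrrComps (IF E) (IF E ⊗[K] B) := by
  obtain ⟨s, hs⟩ := exists_gens (K := K) L B
  obtain ⟨E₀, hE₀, hr⟩ := exists_finite_forall_mem_range L B s
  exact ⟨E₀, hE₀, fun E hE => geomIrrComps_of_gens L B (IF E) s hs
    (fun x hx => range_jA_mono L B hE (hr x hx))⟩

end S1

end Groth.Agent.Lib.Helper4.GI2Field1
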