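import Mathlib
import Groth.Agent.Lib.Helper4.GI2Chart2
import Groth.Agent.Lib.Helper4.GI2Cover1
import Groth.Agent.Lib.Helper4.GI2Field1
import Groth.Agent.Lib.Helper7.NowDense.Main

/-!
# EGA IV 9.7.7-type: a finite etale base change making all irreducible components of the generic fibre geometrically irreducible (helper4)
-/

set_option backward.isDefEq.respectTransparency.types false
set_option synthInstance.maxHeartbeats 400000
set_option autoImplicit false
set_option linter.unusedSectionVars false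
set_option linter.style.haveILetI false
set_option linter.unusedSimpArgs false
universe u v w
open CategoryTheory CategoryTheory.Limits AlgebraicGeometry TopologicalSpace
open scoped TensorProduct
open Groth.Agent.Lib.Helper4.GIChart1 Groth.Agent.Lib.Helper4.GI2Sch1 Groth.Agent.Lib.Helper4.GI2Chart2
open Groth.Agent.Lib.Helper4.GI2Cover1 Groth.Agent.Lib.Helper4.GI2Field1 Groth.Agent.Lib.Helper4.GI2Alg1
open Groth.Agent.Lib.Helper4.GI2Alg2

namespace Groth.Agent.Lib.Helper4.GI2Main1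

/-- transfer of `GeomIrrComps` along the chain of base changes `K → E → κ'` and `A₀ → K → κ'` -/
theorem geomIrrComps_chain {A₀ K E κ' Γ : Type u} [CommRing A₀] [Field K] [Field E] [Field κ']
    [CommRing Γ] [Algebra A₀ K] [Algebra A₀ Γ] [Algebra K E] [Algebra K κ'] [Algebra E κ']
    [IsScalarTower K E κ'] [Algebra A₀ κ'] [IsScalarTower A₀ K κ']
    (h : GeomIrrComps E (E ⊗[K] (K ⊗[A₀] Γ))) : GeomIrrComps κ' (κ' ⊗[A₀] Γ) := by
  have h1 : GeomIrrComps κ' (κ' ⊗[E] (E ⊗[K] (K ⊗[A₀] Γ))) := h.baseChange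
  have h2 : GeomIrrComps κ' (κ' ⊗[K] (K ⊗[A₀] Γ)) :=
    h1.of_algEquiv (Algebra.TensorProduct.cancelBaseChange K E κ' κ' (K ⊗[A₀] Γ))
  exact h2.of_algEquiv (Algebra.TensorProduct.cancelBaseChange A₀ K κ' κ' Γ)


theorem main {X Y : Scheme.{u}} (f : X ⟶ Y) [IrreducibleSpace ↑Y] [LocallyOfFiniteType f]
    [QuasiCompact f] :
    ∃ (V : Y.Opens) (Y' : Scheme.{u}) (g : Y' ⟶ (V : Scheme.{u})) (hY' : IrreducibleSpace ↑Y'),
      (V : Set ↑Y).Nonempty ∧ IsAffine Y' ∧ Surjective g ∧ IsFinite g ∧ Etale g ∧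
      ∀ (Z : Set ↑((pullback.snd f (g ≫ V.ι)).fiber (genericPoint ↑Y')))
        (hZ : Z ∈ irreducibleComponents ↑((pullback.snd f (g ≫ V.ι)).fiber (genericPoint ↑Y'))),
        GeometricallyIrreducible ((Scheme.IdealSheafData.vanishingIdeal
          (⟨Z, isClosed_of_mem_irreducibleComponents Z hZ⟩ : TopologicalSpace.Closeds _)).subschemeι ≫
          (pullback.snd f (g ≫ V.ι)).fiberToSpecResidueField (genericPoint ↑Y')) := by
  classical
  set η := genericPoint Y with hηdef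
  obtain ⟨V₀, hV₀, hηV₀⟩ : ∃ V : Y.Opens, IsAffineOpen V ∧ η ∈ V := by
    obtain ⟨_, ⟨V, hV, rfl⟩, hy, -⟩ := (Y.isBasis_affineOpens).exists_subset_of_mem_open
      (Set.mem_univ η) isOpen_univ
    exact ⟨V, hV, hy⟩
  have hcomp : IsCompact ((f ⁻¹ᵁ V₀ : X.Opens) : Set X) :=
    QuasiCompact.isCompact_preimage (f := f) _ V₀.isOpen hV₀.isCompact
  obtain ⟨t, ht1, ht2⟩ :=
    Groth.Agent.Helper7.FinType.exists_finset_affine_cover (f ⁻¹ᵁ V₀) hcomp
  -- algebra structures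
  let K := Y.residueField η
  let ev₀ : Γ(Y, V₀) →+* K := (Y.evaluation V₀ η hηV₀).hom
  letI algK : Algebra Γ(Y, V₀) K := ev₀.toAlgebra
  letI algW : ∀ W : t, Algebra Γ(Y, V₀) Γ(X, W.1) := fun W =>
    (f.appLE V₀ W.1 (ht1 W.1 W.2).2).hom.toAlgebra
  haveI hft : ∀ W : t, Algebra.FiniteType Γ(Y, V₀) Γ(X, W.1) := fun W =>
    LocallyOfFiniteType.finiteType_appLE f hV₀ (ht1 W.1 W.2).1 (ht1 W.1 W.2).2
  -- the finite separable extension
  have hS1 : ∀ W : t, ∃ E₀ : IntermediateField K (SeparableClosure K), FiniteDimensional K E₀ ∧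
      ∀ E : IntermediateField K (SeparableClosure K), E₀ ≤ E →
        GeomIrrComps (IF E) (IF E ⊗[K] (K ⊗[Γ(Y, V₀)] Γ(X, W.1))) := fun W =>
    exists_finite_geomIrrComps (SeparableClosure K) (K ⊗[Γ(Y, V₀)] Γ(X, W.1))
  choose EW hEWfin hEW using hS1
  let E₀ : IntermediateField K (SeparableClosure K) := ⨆ W : t, EW W
  haveI : ∀ W : t, FiniteDimensional K (EW W) := hEWfin
  haveI hE₀fin : FiniteDimensional K E₀ := IntermediateField.finiteDimensional_iSup_of_finite
  have hE₀ : ∀ W : t, GeomIrrComps (IF E₀) (IF E₀ ⊗[K] (K ⊗[Γ(Y, V₀)] Γ(X, W.1))) := fun W =>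
    hEW W E₀ (le_iSup EW W)
  -- primitive element
  haveI : FiniteDimensional K (IF E₀) := hE₀fin
  haveI : Algebra.IsSeparable K (IF E₀) :=
    inferInstanceAs (Algebra.IsSeparable K ↥E₀)
  let pb : PowerBasis K (IF E₀) := Field.powerBasisOfFiniteOfSeparable K (IF E₀)
  let m := minpoly K pb.gen
  have hint : IsIntegral K pb.gen := Algebra.IsIntegral.isIntegral pb.gen
  obtain ⟨V, Y', g, hY', hηV, hVle, hYaff, hgsurj, hgfin, hget, ι, r, hcompat, hroot⟩ :=
    exists_finite_etale_cover V₀ hηV₀ m (minpoly.monic hint) (minpoly.irreducible hint)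
      (Algebra.IsSeparable.isSeparable K pb.gen)
  refine ⟨V, Y', g, hY', ⟨η, hηV⟩, hYaff, hgsurj, hgfin, hget, ?_⟩
  -- algebra structures on the generic residue field of the cover
  let κ' := Y'.residueField (genericPoint Y')
  letI algKκ : Algebra K κ' := ι.toAlgebra
  have haev : Polynomial.aeval r (minpoly K pb.gen) = 0 := by
    rw [Polynomial.aeval_def, ← Polynomial.eval_map]
    exact hroot
  let σ : IF E₀ →ₐ[K] κ' := pb.lift r haev
  letI algEκ : Algebra (IF E₀) κ' := σ.toRingHom.toAlgebra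
  haveI : IsScalarTower K (IF E₀) κ' := IsScalarTower.of_algebraMap_eq (fun x => (σ.commutes x).symm)
  letI algAκ : Algebra Γ(Y, V₀) κ' := (ι.comp ev₀).toAlgebra
  haveI : IsScalarTower Γ(Y, V₀) K κ' := IsScalarTower.of_algebraMap_eq (fun _ => rfl)
  have hGI : ∀ W : t, GeomIrrComps κ' (κ' ⊗[Γ(Y, V₀)] Γ(X, W.1)) := fun W =>
    geomIrrComps_chain (hE₀ W)
  -- the fibre as a fibre product over `Y`
  set f' := pullback.snd f (g ≫ V.ι) with hf'
  have hfib : IsPullback (f'.fiberι (genericPoint Y')) (f'.fiberToSpecResidueField (genericPoint Y')) f'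
      (Y'.fromSpecResidueField (genericPoint Y')) := IsPullback.of_hasPullback _ _
  have hX' : IsPullback (pullback.fst f (g ≫ V.ι)) f' f (g ≫ V.ι) := IsPullback.of_hasPullback _ _
  have hpbT : IsPullback (f'.fiberι (genericPoint Y') ≫ pullback.fst f (g ≫ V.ι))
      (f'.fiberToSpecResidueField (genericPoint Y')) f (Y'.fromSpecResidueField (genericPoint Y') ≫ g ≫ V.ι) :=
    hfib.paste_horiz hX'
  have hy' : Y'.fromSpecResidueField (genericPoint Y') ≫ g ≫ V.ι =
      Spec.map (CommRingCat.ofHom (ι.comp ev₀)) ≫ hV₀.fromSpec := by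
    rw [hcompat, ← SpecMap_evaluation_fromSpec hV₀ η hηV₀, ← Category.assoc, ← Spec.map_comp]
    rfl
  rw [hy'] at hpbT
  have hcharts : ∀ W : t, ∃ l : Spec (.of (κ' ⊗[Γ(Y, V₀)] Γ(X, W.1))) ⟶ f'.fiber (genericPoint Y'),
      IsOpenImmersion l ∧
      l ≫ (f'.fiberι (genericPoint Y') ≫ pullback.fst f (g ≫ V.ι)) = Spec.map (CommRingCat.ofHom
        (Algebra.TensorProduct.includeRight (R := Γ(Y, V₀)) (A := κ') (B := Γ(X, W.1))).toRingHom) ≫
          (ht1 W.1 W.2).1.fromSpec ∧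
      l ≫ f'.fiberToSpecResidueField (genericPoint Y') =
        Spec.map (CommRingCat.ofHom (algebraMap κ' (κ' ⊗[Γ(Y, V₀)] Γ(X, W.1)))) ∧
      Set.range l = (f'.fiberι (genericPoint Y') ≫ pullback.fst f (g ≫ V.ι)) ⁻¹' W.1 := fun W =>
    genChart' f hV₀ (ht1 W.1 W.2).1 (ht1 W.1 W.2).2 κ' (ι.comp ev₀) _ _ hpbT
  choose l hlo hl1 hl2 hl3 using hcharts
  haveI : ∀ W : t, IsOpenImmersion (l W) := hlo
  have hcov : ⋃ W : t, Set.range (l W) = Set.univ := by
    rw [Set.eq_univ_iff_forall]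
    intro p
    have hp : (f'.fiberι (genericPoint Y') ≫ pullback.fst f (g ≫ V.ι)) p ∈ f ⁻¹ᵁ V₀ := by
      change f ((f'.fiberι (genericPoint Y') ≫ pullback.fst f (g ≫ V.ι)) p) ∈ V₀
      rw [← Scheme.Hom.comp_apply, hpbT.w, Scheme.Hom.comp_apply]
      have : (Spec.map (CommRingCat.ofHom (ι.comp ev₀)) ≫ hV₀.fromSpec)
          ((f'.fiberToSpecResidueField (genericPoint Y')) p) ∈ Set.range hV₀.fromSpec := ⟨_, rfl⟩
      rw [hV₀.range_fromSpec] at this
      exact this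
    obtain ⟨W, hWt, hpW⟩ := ht2 _ hp
    refine Set.mem_iUnion.mpr ⟨⟨W, hWt⟩, ?_⟩
    rw [hl3]
    exact hpW
  intro Z hZ
  exact geometricallyIrreducible_component_of_charts (k := ↑κ')
    (f'.fiberToSpecResidueField (genericPoint Y'))
    (fun W : t => κ' ⊗[Γ(Y, V₀)] Γ(X, W.1)) l hl2 hcov hGI Z hZ

end Groth.Agent.Lib.Helper4.GI2Main1
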