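import Mathlib
import Groth.Agent.Lib.Helper4.GCStruct1
import Groth.Agent.Lib.Helper4.GI2Main1
import Groth.Agent.Lib.Helper4.GI2Cover1
import Groth.Agent.Lib.Helper7.GeomConn.IrrCount
import Groth.Prelude.Def_MoreMor

/-!
# Numbers of geometric irreducible/connected components of fibres near the generic point when generic-fibre components are geometrically irreducible (helper4)
-/

set_option backward.isDefEq.respectTransparency.types false
set_option synthInstance.maxHeartbeats 400000
set_option autoImplicit false
set_option linter.unusedSectionVars false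
set_option linter.style.haveILetI false
set_option linter.unusedSimpArgs false
universe u v w
open CategoryTheory CategoryTheory.Limits AlgebraicGeometry TopologicalSpace
open scoped TensorProduct
open Groth.Agent.Lib.Helper4.GI2Sch1 Groth.Agent.Lib.Helper4.GCDef1 Groth.Agent.Lib.Helper4.GCTop1
open Groth.Agent.Lib.Helper4.GCIrr1 Groth.Agent.Helper7.NearGen Groth.Agent.Lib.Helper4.GCCore1
open Groth.Agent.Lib.Helper4.GCTop2 Groth.Agent.Lib.Helper4.GCStruct1

namespace Groth.Agent.Lib.Helper4.GCCount1

theorem isPullback_geomFiber {X Y : Scheme.{u}} (f : X ⟶ Y) (y : Y) :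
    IsPullback
      (pullback.fst (f.fiberToSpecResidueField y) (Spec.map (CommRingCat.ofHom
        (algebraMap (Y.residueField y) (SeparableClosure (Y.residueField y))))) ≫ f.fiberι y)
      (pullback.snd (f.fiberToSpecResidueField y) (Spec.map (CommRingCat.ofHom
        (algebraMap (Y.residueField y) (SeparableClosure (Y.residueField y))))))
      f
      (Spec.map (CommRingCat.ofHom
        (algebraMap (Y.residueField y) (SeparableClosure (Y.residueField y)))) ≫
        Y.fromSpecResidueField y) :=
  (IsPullback.of_hasPullback _ _).paste_horiz (IsPullback.of_hasPullback f _)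

theorem count {X Y : Scheme.{u}} (f : X ⟶ Y) [IrreducibleSpace Y] [LocallyOfFiniteType f]
    [QuasiCompact f]
    (hcomp : ∀ Z ∈ irreducibleComponents (f.fiber (genericPoint Y)),
       GeomIrrSet (f.fiberToSpecResidueField (genericPoint Y)) Z) :
    ∃ V : Y.Opens, genericPoint Y ∈ V ∧ ∀ y ∈ V,
      MoreMor.nGeomIrredComp f y =
        ENat.card ↥(irreducibleComponents (f.fiber (genericPoint Y))) ∧
      MoreMor.nGeomConnComp f y =
        ENat.card (Quot fun a b : ↥(irreducibleComponents (f.fiber (genericPoint Y))) =>
          (a.1 ∩ b.1).Nonempty) := by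
  obtain ⟨V, hηV, hV⟩ := struct f hcomp
  refine ⟨V, hηV, fun y hy => ?_⟩
  have hfin : (irreducibleComponents (f.fiber (genericPoint Y))).Finite :=
    finite_irreducibleComponents_fiber f _
  haveI : Finite ↥(irreducibleComponents (f.fiber (genericPoint Y))) := hfin.to_subtype
  obtain ⟨h1, h2, h3, h4⟩ := hV y hy _ _ _ (by
    rw [Scheme.Hom.comp_apply]
    erw [Scheme.fromSpecResidueField_apply]) (isPullback_geomFiber f y)
  have hcl : ∀ c : ↥(irreducibleComponents (f.fiber (genericPoint Y))),
      IsClosed ((pullback.fst (f.fiberToSpecResidueField y) (Spec.map (CommRingCat.ofHom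
        (algebraMap (Y.residueField y) (SeparableClosure (Y.residueField y))))) ≫ f.fiberι y) ⁻¹'
        closure (f.fiberι (genericPoint Y) '' c.1)) := fun c =>
    isClosed_closure.preimage (Scheme.Hom.continuous _)
  constructor
  · unfold MoreMor.nGeomIrredComp MoreMor.geomFiber
    exact encard_irreducibleComponents_eq _ hcl h1 h2 h4
  · unfold MoreMor.nGeomConnComp MoreMor.geomFiber
    exact card_connectedComponents_eq _ hcl (fun c => (h1 c).isConnected) h2 _ h3

end Groth.Agent.Lib.Helper4.GCCount1
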