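import Mathlib
import Groth.Agent.Lib.Helper4.GCCount1
import Groth.Agent.Lib.Helper4.GI2Main1
import Groth.Agent.Lib.Helper4.GI2Cover1
import Groth.Agent.Lib.Helper7.GeomConn.IrrCount
import Groth.Prelude.Def_MoreMor

/-!
# EGA IV 9.7.8: the numbers of geometric irreducible and connected components of the fibres are constant near the generic point (helper4)
-/

set_option backward.isDefEq.respectTransparency.types false
set_option synthInstance.maxHeartbeats 400000
set_option autoImplicit false
set_option linter.unusedSectionVars false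
set_option linter.style.haveILetI false
set_option linter.unusedSimpArgs false
universe u v w
open CategoryTheory CategoryTheory.Limits AlgebraicGeometry TopologicalSpace
open scoped TensorProduct
open Groth.Agent.Lib.Helper4.GI2Sch1 Groth.Agent.Lib.Helper4.GCDef1 Groth.Agent.Lib.Helper4.GCTop1
open Groth.Agent.Lib.Helper4.GCIrr1 Groth.Agent.Helper7.NearGen Groth.Agent.Lib.Helper4.GCCore1
open Groth.Agent.Lib.Helper4.GCTop2 Groth.Agent.Lib.Helper4.GCStruct1 Groth.Agent.Lib.Helper4.GCCount1

namespace Groth.Agent.Lib.Helper4.GCCount2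

/-- The numbers of geometric irreducible and connected components of the fibres are constant on
a nonempty open of an irreducible base. -/
theorem count_near_generic {X Y : Scheme.{u}} (f : X ⟶ Y) [IrreducibleSpace ↑Y]
    [LocallyOfFiniteType f] [QuasiCompact f] :
    ∃ V : Y.Opens, genericPoint Y ∈ V ∧ ∀ y ∈ V,
      MoreMor.nGeomIrredComp f y = MoreMor.nGeomIrredComp f (genericPoint Y) ∧
      MoreMor.nGeomConnComp f y = MoreMor.nGeomConnComp f (genericPoint Y) := by
  obtain ⟨V₁, Y', g, hY', hV₁ne, hAff, hsurj, hfin, het, hcomp⟩ :=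
    Groth.Agent.Lib.Helper4.GI2Main1.main f
  have sq : IsPullback (pullback.fst f (g ≫ V₁.ι)) (pullback.snd f (g ≫ V₁.ι)) f (g ≫ V₁.ι) :=
    IsPullback.of_hasPullback _ _
  have hdense : Dense (Set.range (g ≫ V₁.ι)) := by
    have hr : Set.range (g ≫ V₁.ι) = (V₁ : Set Y) := by
      rw [Scheme.Hom.comp_base, TopCat.coe_comp, Set.range_comp,
        Set.range_eq_univ.mpr g.surjective, Set.image_univ, Scheme.Opens.range_ι]
    rw [hr]
    exact V₁.isOpen.dense hV₁ne
  have hη : (g ≫ V₁.ι) (genericPoint Y') = genericPoint Y :=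
    Groth.Agent.Lib.Helper4.GI2Cover1.map_genericPoint_of_dense _ hdense
  obtain ⟨U, hηU, hU⟩ := count (pullback.snd f (g ≫ V₁.ι))
    (fun Z hZ => by
      have := hcomp Z hZ
      rw [geometricallyIrreducible_comp_iff, Scheme.IdealSheafData.range_subschemeι,
        Scheme.IdealSheafData.coe_support_vanishingIdeal] at this
      exact this)
  haveI : UniversallyOpen (g ≫ V₁.ι) := inferInstance
  have hopen : IsOpen ((g ≫ V₁.ι) '' (U : Set Y')) := (g ≫ V₁.ι).isOpenMap _ U.isOpen
  refine ⟨⟨_, hopen⟩, ⟨genericPoint Y', hηU, hη⟩, ?_⟩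
  rintro _ ⟨y', hy', rfl⟩
  have e1 := Groth.Agent.Helper7.GeomConn.nGeomIrredComp_baseChange f _ _ _ sq y'
  have e2 := Groth.Agent.Helper7.GeomConn.nGeomIrredComp_baseChange f _ _ _ sq (genericPoint Y')
  have e3 := Groth.Agent.Helper7.GeomConn.nGeomConnComp_baseChange f _ _ _ sq y'
  have e4 := Groth.Agent.Helper7.GeomConn.nGeomConnComp_baseChange f _ _ _ sq (genericPoint Y')
  rw [hη] at e2 e4
  rw [← e1, ← e2, ← e3, ← e4, (hU y' hy').1, (hU y' hy').2, (hU _ hηU).1, (hU _ hηU).2]
  exact ⟨rfl, rfl⟩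

end Groth.Agent.Lib.Helper4.GCCount2
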