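import Mathlib
import Groth.Agent.Lib.Helper4.GCCount2

/-!
# EGA IV 9.7.8 at an arbitrary point: the numbers of geometric irreducible/connected components of fibres are constant on a neighbourhood of y in its closure (helper4)
-/

set_option backward.isDefEq.respectTransparency.types false
set_option synthInstance.maxHeartbeats 400000
set_option autoImplicit false
set_option linter.unusedSectionVars false
set_option linter.style.haveILetI false
set_option linter.unusedSimpArgs false
universe u v w
open CategoryTheory CategoryTheory.Limits AlgebraicGeometry TopologicalSpace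
open scoped TensorProduct
open Groth.Agent.Lib.Helper4.GCCount2

namespace Groth.Agent.Lib.Helper4.GCCount3

/-- Reduction to the closure of a point: a closed immersion onto `closure {y}` from an
irreducible scheme whose generic point maps to `y`. -/
theorem exists_closure_subscheme {Y : Scheme.{u}} (y : Y) :
    ∃ (Z : Scheme.{u}) (i : Z ⟶ Y) (_ : IsClosedImmersion i) (_ : IrreducibleSpace Z),
      Set.range i = closure {y} ∧ i (genericPoint Z) = y := by
  let i := (Scheme.IdealSheafData.vanishingIdeal
    (⟨closure {y}, isClosed_closure⟩ : Closeds Y)).subschemeι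
  have hri : Set.range i = closure {y} := by
    rw [Scheme.IdealSheafData.range_subschemeι, Scheme.IdealSheafData.coe_support_vanishingIdeal]
    rfl
  have hemb : Topology.IsEmbedding i := i.isClosedEmbedding.isEmbedding
  have hirr : IsIrreducible (Set.range i) := by
    rw [hri]; exact isIrreducible_singleton.closure
  haveI : IrreducibleSpace (Set.range i) := (isIrreducible_iff_irreducibleSpace).mp hirr
  haveI hZ : IrreducibleSpace ↥(Scheme.IdealSheafData.vanishingIdeal
      (⟨closure {y}, isClosed_closure⟩ : Closeds Y)).subscheme :=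
    (hemb.toHomeomorph).symm.surjective.irreducibleSpace (hemb.toHomeomorph).symm.continuous
  refine ⟨_, i, inferInstance, hZ, hri, ?_⟩
  have h1 : IsGenericPoint (i (genericPoint _)) (closure {y}) := by
    rw [IsGenericPoint, ← Set.image_singleton, ← closure_image_closure i.continuous,
      (genericPoint_spec _).def, Set.image_univ, hri, closure_closure]
  exact h1.eq isGenericPoint_closure

/-- Transfer of a neighbourhood of the generic point of `closure {y}`. -/
theorem exists_nhd_in_closure {X Y : Scheme.{u}} (f : X ⟶ Y) [LocallyOfFiniteType f]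
    [QuasiCompact f] (y : Y) :
    ∃ V : Set ↑Y, V ⊆ closure {y} ∧ y ∈ V ∧
      IsOpen (Subtype.val ⁻¹' V : Set ↑(closure ({y} : Set ↑Y))) ∧
      ∀ y' ∈ V, MoreMor.nGeomIrredComp f y' = MoreMor.nGeomIrredComp f y ∧
        MoreMor.nGeomConnComp f y' = MoreMor.nGeomConnComp f y := by
  obtain ⟨Z, i, hi, hZ, hri, hiη⟩ := exists_closure_subscheme y
  have sq : IsPullback (pullback.fst f i) (pullback.snd f i) f i := IsPullback.of_hasPullback _ _
  obtain ⟨U, hηU, hU⟩ := count_near_generic (pullback.snd f i)
  refine ⟨i '' (U : Set Z), ?_, ⟨_, hηU, hiη⟩, ?_, ?_⟩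
  · rw [← hri]; exact Set.image_subset_range _ _
  · obtain ⟨W, hW, hWU⟩ := i.isClosedEmbedding.isEmbedding.isInducing.isOpen_iff.mp U.isOpen
    have : (Subtype.val ⁻¹' (i '' (U : Set Z)) : Set ↑(closure ({y} : Set ↑Y))) =
        Subtype.val ⁻¹' W := by
      ext ⟨t, ht⟩
      simp only [Set.mem_preimage]
      constructor
      · rintro ⟨z, hz, rfl⟩
        rw [← hWU] at hz
        exact hz
      · intro htW
        rw [← hri] at ht
        obtain ⟨z, rfl⟩ := ht
        refine ⟨z, ?_, rfl⟩
        rw [← hWU]
        exact htW
    rw [this]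
    exact hW.preimage continuous_subtype_val
  · rintro _ ⟨z, hz, rfl⟩
    have e1 := Groth.Agent.Helper7.GeomConn.nGeomIrredComp_baseChange f _ _ _ sq z
    have e2 := Groth.Agent.Helper7.GeomConn.nGeomIrredComp_baseChange f _ _ _ sq (genericPoint Z)
    have e3 := Groth.Agent.Helper7.GeomConn.nGeomConnComp_baseChange f _ _ _ sq z
    have e4 := Groth.Agent.Helper7.GeomConn.nGeomConnComp_baseChange f _ _ _ sq (genericPoint Z)
    rw [hiη] at e2 e4
    rw [← e1, ← e2, ← e3, ← e4]
    exact hU z hz

end Groth.Agent.Lib.Helper4.GCCount3
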