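import Mathlib
import Groth.Agent.Lib.Helper4.GCDef1
import Groth.Agent.Lib.Helper4.GCTop1
import Groth.Agent.Lib.Helper4.GCIrr1
import Groth.Agent.Lib.Helper4.GCCore1
import Groth.Agent.Lib.Helper4.GI2Main1
import Groth.Agent.Lib.Helper4.GI2Cover1

/-!
# EGA IV 9.7.7: geometric connectedness of the generic fibre spreads out to fibres over a nonempty open (helper4)
-/

set_option backward.isDefEq.respectTransparency.types false
set_option synthInstance.maxHeartbeats 400000
set_option autoImplicit false
set_option linter.unusedSectionVars false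
set_option linter.style.haveILetI false
set_option linter.unusedSimpArgs false
universe u v w
open CategoryTheory CategoryTheory.Limits AlgebraicGeometry TopologicalSpace
open scoped TensorProduct
open Groth.Agent.Lib.Helper4.GI2Sch1 Groth.Agent.Lib.Helper4.GCDef1 Groth.Agent.Lib.Helper4.GCTop1
open Groth.Agent.Lib.Helper4.GCIrr1 Groth.Agent.Lib.Helper4.GCCore1

namespace Groth.Agent.Lib.Helper4.GCMain1

/-- A geometrically connected fibre is connected (in the sense of all geometric fibres). -/
theorem connectedSpace_fiber_of_geomFibConn {X Y : Scheme.{u}} (f : X ⟶ Y) (y : Y)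
    (h : GeomFibConn f y) : ConnectedSpace (f.fiber y) := by
  refine h (Y.fromSpecResidueField y) (f.fiberι y) (f.fiberToSpecResidueField y) ?_
    (IsPullback.of_hasPullback _ _)
  erw [Scheme.fromSpecResidueField_apply]

theorem main {X Y : Scheme.{u}} (f : X ⟶ Y) [IrreducibleSpace ↑Y] [LocallyOfFiniteType f]
    [QuasiCompact f]
    (h : GeometricallyConnected (f.fiberToSpecResidueField (genericPoint ↑Y))) :
    ∃ V : Y.Opens, (V : Set ↑Y).Nonempty ∧ GeometricallyConnected (f ∣_ V) := by
  obtain ⟨V₁, Y', g, hY', hV₁ne, hAff, hsurj, hfin, het, hcomp⟩ :=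
    Groth.Agent.Lib.Helper4.GI2Main1.main f
  have sq : IsPullback (pullback.fst f (g ≫ V₁.ι)) (pullback.snd f (g ≫ V₁.ι)) f (g ≫ V₁.ι) :=
    IsPullback.of_hasPullback _ _
  -- the generic point of `Y'` maps to the generic point of `Y`
  have hdense : Dense (Set.range (g ≫ V₁.ι)) := by
    have hr : Set.range (g ≫ V₁.ι) = (V₁ : Set Y) := by
      rw [Scheme.Hom.comp_base, TopCat.coe_comp, Set.range_comp,
        Set.range_eq_univ.mpr g.surjective, Set.image_univ, Scheme.Opens.range_ι]
    rw [hr]
    exact V₁.isOpen.dense hV₁ne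
  have hη : (g ≫ V₁.ι) (genericPoint Y') = genericPoint Y :=
    Groth.Agent.Lib.Helper4.GI2Cover1.map_genericPoint_of_dense _ hdense
  -- the generic fibre of the base change is geometrically connected
  have hgc' : GeomFibConn (pullback.snd f (g ≫ V₁.ι)) (genericPoint Y') :=
    GeomFibConn.baseChange sq _ (by rw [hη]; exact geomFibConn_of_fiber f _ h)
  haveI hconn := connectedSpace_fiber_of_geomFibConn _ _ hgc'
  obtain ⟨U, hηU, hU⟩ := core (pullback.snd f (g ≫ V₁.ι)) inferInstance inferInstance
    (fun Z hZ => by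
      have := hcomp Z hZ
      rw [geometricallyIrreducible_comp_iff, Scheme.IdealSheafData.range_subschemeι,
        Scheme.IdealSheafData.coe_support_vanishingIdeal] at this
      exact this)
  -- descend to `Y`
  haveI : UniversallyOpen (g ≫ V₁.ι) := inferInstance
  have hopen : IsOpen ((g ≫ V₁.ι) '' (U : Set Y')) := (g ≫ V₁.ι).isOpenMap _ U.isOpen
  refine ⟨⟨_, hopen⟩, ⟨_, genericPoint Y', hηU, rfl⟩, ?_⟩
  refine geometricallyConnected_restrict f _ ?_
  rintro _ ⟨y', hy', rfl⟩
  exact GeomFibConn.descend sq y' (hU y' hy')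

end Groth.Agent.Lib.Helper4.GCMain1
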