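import Mathlib
import Groth.Agent.Lib.Helper4.GCMain1
import Groth.Agent.Lib.Helper4.ConnHartogs1
import Groth.Agent.Lib.Helper7.GeomConn.SectionComp

/-!
# Connected components of rational points are geometrically connected; pointwise version of EGA IV 9.7.7 for connectedness (helper4)
-/

set_option backward.isDefEq.respectTransparency.types false
set_option synthInstance.maxHeartbeats 400000
set_option autoImplicit false
set_option linter.unusedSectionVars false
set_option linter.style.haveILetI false
set_option linter.unusedSimpArgs false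
universe u v w
open CategoryTheory CategoryTheory.Limits AlgebraicGeometry TopologicalSpace
open scoped TensorProduct
open Groth.Agent.Lib.Helper4.GI2Sch1 Groth.Agent.Lib.Helper4.GCDef1 Groth.Agent.Lib.Helper4.GCTop1
open Groth.Agent.Lib.Helper4.GCIrr1 Groth.Agent.Lib.Helper4.GCCore1 Groth.Agent.Lib.Helper4.GCMain1
open Groth.Agent.Helper7.GeomConn

namespace Groth.Agent.Lib.Helper4.GCSec1

/-- Variant of `GCMain1.main` giving connectedness of all geometric fibres over points of an open
neighbourhood of the generic point. -/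
theorem main' {X Y : Scheme.{u}} (f : X ⟶ Y) [IrreducibleSpace ↑Y] [LocallyOfFiniteType f]
    [QuasiCompact f]
    (h : GeometricallyConnected (f.fiberToSpecResidueField (genericPoint ↑Y))) :
    ∃ V : Y.Opens, genericPoint Y ∈ V ∧ ∀ y ∈ V, GeomFibConn f y := by
  obtain ⟨V₁, Y', g, hY', hV₁ne, hAff, hsurj, hfin, het, hcomp⟩ :=
    Groth.Agent.Lib.Helper4.GI2Main1.main f
  have sq : IsPullback (pullback.fst f (g ≫ V₁.ι)) (pullback.snd f (g ≫ V₁.ι)) f (g ≫ V₁.ι) :=
    IsPullback.of_hasPullback _ _
  have hdense : Dense (Set.range (g ≫ V₁.ι)) := by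
    have hr : Set.range (g ≫ V₁.ι) = (V₁ : Set Y) := by
      rw [Scheme.Hom.comp_base, TopCat.coe_comp, Set.range_comp,
        Set.range_eq_univ.mpr g.surjective, Set.image_univ, Scheme.Opens.range_ι]
    rw [hr]
    exact V₁.isOpen.dense hV₁ne
  have hη : (g ≫ V₁.ι) (genericPoint Y') = genericPoint Y :=
    Groth.Agent.Lib.Helper4.GI2Cover1.map_genericPoint_of_dense _ hdense
  have hgc' : GeomFibConn (pullback.snd f (g ≫ V₁.ι)) (genericPoint Y') :=
    GeomFibConn.baseChange sq _ (by rw [hη]; exact geomFibConn_of_fiber f _ h)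
  haveI hconn := connectedSpace_fiber_of_geomFibConn _ _ hgc'
  obtain ⟨U, hηU, hU⟩ := core (pullback.snd f (g ≫ V₁.ι)) inferInstance inferInstance
    (fun Z hZ => by
      have := hcomp Z hZ
      rw [geometricallyIrreducible_comp_iff, Scheme.IdealSheafData.range_subschemeι,
        Scheme.IdealSheafData.coe_support_vanishingIdeal] at this
      exact this)
  haveI : UniversallyOpen (g ≫ V₁.ι) := inferInstance
  have hopen : IsOpen ((g ≫ V₁.ι) '' (U : Set Y')) := (g ≫ V₁.ι).isOpenMap _ U.isOpen
  refine ⟨⟨_, hopen⟩, ⟨genericPoint Y', hηU, hη⟩, ?_⟩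
  rintro _ ⟨y', hy', rfl⟩
  exact GeomFibConn.descend sq y' (hU y' hy')

/-- The preimage, in a base field extension, of the connected component of a rational point is
connected. -/
theorem isConnected_preimage_connectedComponent_of_section {k K : Type u} [Field k] [Field K]
    (φ : CommRingCat.of k ⟶ CommRingCat.of K) {V W : Scheme.{u}} (b : V ⟶ Spec (.of k))
    (a : W ⟶ Spec (.of K)) (t : W ⟶ V) (h : IsPullback t a b (Spec.map φ))
    (σ : Spec (.of k) ⟶ V) (hσ : σ ≫ b = 𝟙 _) (v₀ : V) (hv₀ : v₀ ∈ Set.range σ) :
    _root_.IsConnected (t ⁻¹' connectedComponent v₀) := by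
  obtain ⟨w₀, hw₀, -⟩ := Groth.Agent.Helper7.GeomConn.exists_preimage_of_isPullback h v₀ (IsLocalRing.closedPoint K)
    (Subsingleton.elim (α := PrimeSpectrum k) _ _)
  have : t ⁻¹' connectedComponent v₀ = connectedComponent w₀ := by
    apply Set.Subset.antisymm
    · intro w hw
      exact mem_connectedComponent_of_section φ b a t h σ hσ v₀ hv₀ w₀ hw₀ w hw
    · intro w hw
      have := t.continuous.image_connectedComponent_subset w₀ ⟨w, hw, rfl⟩
      rwa [hw₀] at this
  rw [this]
  exact isConnected_connectedComponent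

/-- geometric connectedness of a closed subscheme only depends on the underlying closed set -/
theorem geometricallyConnected_comp_of_forall {W T S : Scheme.{u}} (i : W ⟶ T)
    [IsClosedImmersion i] (t : T ⟶ S)
    (h : ∀ ⦃Ω : Type u⦄ [Field Ω] (y : Spec (.of Ω) ⟶ S) ⦃P : Scheme.{u}⦄ (fst : P ⟶ T)
      (snd : P ⟶ Spec (.of Ω)), IsPullback fst snd t y → _root_.IsConnected (fst ⁻¹' Set.range i)) :
    GeometricallyConnected (i ≫ t) := by
  refine ⟨fun Ω _ y P' fst' snd' hpb' => ?_⟩
  have hP : IsPullback (pullback.fst t y) (pullback.snd t y) t y := IsPullback.of_hasPullback _ _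
  let j : P' ⟶ pullback t y := hP.lift (fst' ≫ i) snd' (by rw [Category.assoc]; exact hpb'.w)
  have hj1 : j ≫ pullback.fst t y = fst' ≫ i := hP.lift_fst _ _ _
  have hj2 : j ≫ pullback.snd t y = snd' := hP.lift_snd _ _ _
  have hsq : IsPullback fst' j i (pullback.fst t y) := by
    refine IsPullback.of_bot ?_ hj1.symm hP
    rw [hj2]
    exact hpb'
  haveI : IsClosedImmersion j :=
    MorphismProperty.of_isPullback (P := @IsClosedImmersion) hsq inferInstance
  have hconn : _root_.IsConnected (Set.range j) := by
    rw [range_of_isPullback hsq]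
    exact h y _ _ hP
  have hemb : Topology.IsEmbedding j := j.isClosedEmbedding.isEmbedding
  haveI : ConnectedSpace (Set.range j) := (isConnected_iff_connectedSpace).mp hconn
  exact (hemb.toHomeomorph).symm.surjective.connectedSpace (hemb.toHomeomorph).symm.continuous

end Groth.Agent.Lib.Helper4.GCSec1
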