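import Mathlib
import Groth.Agent.Lib.Helper4.GCSec1
import Groth.Agent.Lib.Helper7.NearGen.Fibres

/-!
# Section components near the generic point are cut out by a closed subset which is open over a neighbourhood of the generic point (helper4)
-/

set_option backward.isDefEq.respectTransparency.types false
set_option synthInstance.maxHeartbeats 400000
set_option autoImplicit false
set_option linter.unusedSectionVars false
set_option linter.style.haveILetI false
set_option linter.unusedSimpArgs false
universe u v w
open CategoryTheory CategoryTheory.Limits AlgebraicGeometry TopologicalSpace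
open scoped TensorProduct
open Groth.Agent.Lib.Helper4.GI2Sch1 Groth.Agent.Lib.Helper4.GCDef1 Groth.Agent.Lib.Helper4.GCTop1
open Groth.Agent.Lib.Helper4.GCIrr1 Groth.Agent.Lib.Helper4.GCCore1 Groth.Agent.Lib.Helper4.GCMain1
open Groth.Agent.Helper7.GeomConn Groth.Agent.Lib.Helper4.GCSec1 Groth.Agent.Helper7.NearGen
open Groth.Agent.Lib.Helper4.ConnHartogs1

namespace Groth.Agent.Lib.Helper4.GCSec2

/-- Near the generic point, the section components are cut out by the closure of the connected
component of the section in the generic fibre, and this closed set is also open over a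
neighbourhood of the generic point. -/
theorem sectionComponents_near_generic {X Y : Scheme.{u}} (f : X ⟶ Y) (s : Y ⟶ X)
    (hs : s ≫ f = 𝟙 Y) [IrreducibleSpace Y] [LocallyOfFiniteType f] [QuasiCompact f] :
    ∃ (V : Y.Opens) (T T' : Set X), genericPoint Y ∈ V ∧ IsClosed T ∧ IsClosed T' ∧
      (∀ x, f x ∈ V → (x ∈ MoreMor.sectionComponents f s ↔ x ∈ T)) ∧
      (∀ x, f x ∈ V → (x ∉ T ↔ x ∈ T')) := by
  classical
  haveI : LocallyOfFiniteType (f.fiberToSpecResidueField (genericPoint Y)) :=
    MorphismProperty.pullback_snd (P := @LocallyOfFiniteType) _ _ inferInstance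
  haveI : IsNoetherian (f.fiber (genericPoint Y)) :=
    { __ := LocallyOfFiniteType.isLocallyNoetherian
        (f.fiberToSpecResidueField (genericPoint Y)) }
  let z₀ := fibrePt f s hs (genericPoint Y)
  let Z : Set (f.fiber (genericPoint Y)) := connectedComponent z₀
  have hZc : IsClosed Z := isClosed_connectedComponent
  have hZo : IsOpen Z := isOpen_connectedComponent_of_noetherian z₀
  have hZc' : IsClosed Zᶜ := hZo.isClosed_compl
  let T : Set X := closure (f.fiberι (genericPoint Y) '' Z)
  let T' : Set X := closure (f.fiberι (genericPoint Y) '' Zᶜ)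
  have hTZ : (f.fiberι (genericPoint Y)) ⁻¹' T = Z := by
    rw [← (f.fiberι (genericPoint Y)).isEmbedding.isInducing.closure_eq_preimage_closure_image,
      hZc.closure_eq]
  have hTZ' : (f.fiberι (genericPoint Y)) ⁻¹' T' = Zᶜ := by
    rw [← (f.fiberι (genericPoint Y)).isEmbedding.isInducing.closure_eq_preimage_closure_image,
      hZc'.closure_eq]
  -- covering
  obtain ⟨V1, hV1η, hV1⟩ := fibres_covered f (fun b : Bool => if b then Z else Zᶜ) (by
    rw [Set.eq_univ_iff_forall]
    intro z
    by_cases hz : z ∈ Z
    · exact Set.mem_iUnion.mpr ⟨true, by simpa using hz⟩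
    · exact Set.mem_iUnion.mpr ⟨false, by simpa using hz⟩)
  have hcov : ∀ x, f x ∈ V1 → x ∈ T ∪ T' := by
    intro x hx
    obtain ⟨w, hw⟩ := exists_fiberι_eq f (f x) x rfl
    have hw' : w ∈ ⋃ i : Bool, (f.fiberι (f x)) ⁻¹'
        closure ((f.fiberι (genericPoint Y)) '' (if i then Z else Zᶜ)) := by
      rw [hV1 (f x) hx]; exact Set.mem_univ w
    obtain ⟨b, hb⟩ := Set.mem_iUnion.mp hw'
    rw [Set.mem_preimage, hw] at hb
    cases b
    · right; simpa using hb
    · left; simpa using hb
  -- disjointness
  obtain ⟨V2, hV2η, hV2⟩ := exists_open_of_closed f (T ∩ T')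
    (isClosed_closure.inter isClosed_closure) (by
      intro x hx hfx
      obtain ⟨z, rfl⟩ := exists_fiberι_eq f _ x hfx
      have hz1 : z ∈ Z := by rw [← hTZ]; exact hx.1
      have hz2 : z ∈ Zᶜ := by rw [← hTZ']; exact hx.2
      exact hz2 hz1)
  -- connectedness
  let i := (Scheme.IdealSheafData.vanishingIdeal (⟨T, isClosed_closure⟩ : Closeds X)).subschemeι
  have hri : Set.range i = T := by
    rw [Scheme.IdealSheafData.range_subschemeι, Scheme.IdealSheafData.coe_support_vanishingIdeal]
    rfl
  have hfib : IsPullback (f.fiberι (genericPoint Y)) (f.fiberToSpecResidueField (genericPoint Y)) f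
      (Y.fromSpecResidueField (genericPoint Y)) := IsPullback.of_hasPullback _ _
  have hfib' : IsPullback ((i ≫ f).fiberι (genericPoint Y))
      ((i ≫ f).fiberToSpecResidueField (genericPoint Y)) (i ≫ f)
      (Y.fromSpecResidueField (genericPoint Y)) := IsPullback.of_hasPullback _ _
  let j : (i ≫ f).fiber (genericPoint Y) ⟶ f.fiber (genericPoint Y) :=
    hfib.lift ((i ≫ f).fiberι (genericPoint Y) ≫ i)
    ((i ≫ f).fiberToSpecResidueField (genericPoint Y)) (by rw [Category.assoc]; exact hfib'.w)
  have hj1 : j ≫ f.fiberι (genericPoint Y) = (i ≫ f).fiberι (genericPoint Y) ≫ i :=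
    hfib.lift_fst _ _ _
  have hj2 : j ≫ f.fiberToSpecResidueField (genericPoint Y) =
      (i ≫ f).fiberToSpecResidueField (genericPoint Y) :=
    hfib.lift_snd _ _ _
  have hsq : IsPullback ((i ≫ f).fiberι (genericPoint Y)) j i (f.fiberι (genericPoint Y)) := by
    refine IsPullback.of_bot ?_ hj1.symm hfib
    rw [hj2]
    exact hfib'
  haveI : IsClosedImmersion j :=
    MorphismProperty.of_isPullback (P := @IsClosedImmersion) hsq inferInstance
  have hgc : GeometricallyConnected ((i ≫ f).fiberToSpecResidueField (genericPoint Y)) := by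
    rw [← hj2]
    apply geometricallyConnected_comp_of_forall
    intro Ω _ y P fst snd hpb
    rw [range_of_isPullback hsq, hri, hTZ]
    obtain ⟨φ, rfl⟩ := Spec.map_surjective y
    exact isConnected_preimage_connectedComponent_of_section φ _ snd fst hpb
      (fibreSection f s hs (genericPoint Y)) (fibreSection_toSpec f s hs (genericPoint Y)) z₀
      ⟨_, rfl⟩
  obtain ⟨V3, hV3η, hV3⟩ := main' (i ≫ f) hgc
  have hconn : ∀ y ∈ V3, _root_.IsPreconnected (T ∩ f ⁻¹' {y}) := by
    intro y hy
    haveI := connectedSpace_fiber_of_geomFibConn _ _ (hV3 y hy)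
    have : T ∩ f ⁻¹' {y} = Set.range ((i ≫ f).fiberι y ≫ i) := by
      rw [Scheme.Hom.comp_base, TopCat.coe_comp, Set.range_comp, (i ≫ f).range_fiberι y]
      ext x
      constructor
      · rintro ⟨hxT, hxy⟩
        obtain ⟨w, rfl⟩ := hri.ge hxT
        exact ⟨w, hxy, rfl⟩
      · rintro ⟨w, hw, rfl⟩
        exact ⟨hri.le ⟨w, rfl⟩, hw⟩
    rw [this]
    exact isPreconnected_range (Scheme.Hom.continuous _)
  -- the section lies in `T`
  have hsT : ∀ y, s y ∈ T := by
    have hcl : IsClosed (s ⁻¹' T) := isClosed_closure.preimage s.continuous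
    have hη : genericPoint Y ∈ s ⁻¹' T := by
      change s (genericPoint Y) ∈ T
      rw [← fiberι_fibrePt f s hs (genericPoint Y)]
      exact subset_closure ⟨z₀, mem_connectedComponent, rfl⟩
    intro y
    have : closure {genericPoint Y} ⊆ s ⁻¹' T :=
      hcl.closure_subset_iff.mpr (Set.singleton_subset_iff.mpr hη)
    rw [(genericPoint_spec Y).def] at this
    exact this trivial
  have hfs : ∀ y, f (s y) = y := fun y => by
    rw [← Scheme.Hom.comp_apply, hs]; rfl
  refine ⟨V1 ⊓ V2 ⊓ V3, T, T', ⟨⟨hV1η, hV2η⟩, hV3η⟩, isClosed_closure, isClosed_closure, ?_, ?_⟩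
  · intro x hx
    obtain ⟨⟨hx1, hx2⟩, hx3⟩ := hx
    unfold MoreMor.sectionComponents
    rw [Set.mem_ofPred_eq]
    have hsy : s (f x) ∈ f ⁻¹' {f x} := hfs (f x)
    constructor
    · intro hxC
      have hpre : _root_.IsPreconnected (connectedComponentIn (f ⁻¹' {f x}) (s (f x))) :=
        isPreconnected_connectedComponentIn
      have hsub : connectedComponentIn (f ⁻¹' {f x}) (s (f x)) ⊆ f ⁻¹' {f x} :=
        connectedComponentIn_subset _ _
      rcases (isPreconnected_iff_subset_of_disjoint_closed.mp hpre) T T' isClosed_closure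
        isClosed_closure (fun w hw => hcov w (by rw [hsub hw]; exact hx1)) (by
          rw [Set.eq_empty_iff_forall_notMem]
          rintro w ⟨hw, hwT⟩
          have := hV2 w hwT
          rw [hsub hw] at this
          exact this hx2) with h | h
      · exact h hxC
      · exfalso
        have h1 : s (f x) ∈ T' := h (mem_connectedComponentIn hsy)
        have := hV2 (s (f x)) ⟨hsT _, h1⟩
        rw [hfs] at this
        exact this hx2
    · intro hxT
      exact (hconn (f x) hx3).subset_connectedComponentIn ⟨hsT _, hsy⟩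
        Set.inter_subset_right ⟨hxT, rfl⟩
  · intro x hx
    obtain ⟨⟨hx1, hx2⟩, hx3⟩ := hx
    constructor
    · intro hxT
      rcases hcov x hx1 with h | h
      · exact absurd h hxT
      · exact h
    · intro hxT' hxT
      exact hV2 x ⟨hxT, hxT'⟩ hx2

end Groth.Agent.Lib.Helper4.GCSec2
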