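import Mathlib
import Groth.Agent.Lib.Helper4.GCSec2
import Groth.Agent.Lib.Helper4.GCCount3

/-!
# EGA IV 9.7.12 (first part): section components are open and closed over a neighbourhood of a point in its closure (helper4)
-/

set_option backward.isDefEq.respectTransparency.types false
set_option synthInstance.maxHeartbeats 400000
set_option autoImplicit false
set_option linter.unusedSectionVars false
set_option linter.style.haveILetI false
set_option linter.unusedSimpArgs false
universe u v w
open CategoryTheory CategoryTheory.Limits AlgebraicGeometry TopologicalSpace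
open scoped TensorProduct
open Groth.Agent.Helper7.GeomConn Groth.Agent.Lib.Helper4.GCSec2 Groth.Agent.Lib.Helper4.GCCount3

namespace Groth.Agent.Lib.Helper4.GCSec3

/-- Structure of the section components over a neighbourhood of `y` in its closure: they are
the trace of a closed subset `T`, and so is their complement. -/
theorem sectionComponents_near_point {X Y : Scheme.{u}} (f : X ⟶ Y) (s : Y ⟶ X)
    (hs : s ≫ f = 𝟙 Y) [LocallyOfFiniteType f] [QuasiCompact f] (y : Y) :
    ∃ (V : Set Y) (T T' : Set X), V ⊆ closure {y} ∧ y ∈ V ∧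
      IsOpen (Subtype.val ⁻¹' V : Set ↑(closure ({y} : Set ↑Y))) ∧ IsClosed T ∧ IsClosed T' ∧
      (∀ x, f x ∈ V → (x ∈ MoreMor.sectionComponents f s ↔ x ∈ T)) ∧
      (∀ x, f x ∈ V → (x ∉ MoreMor.sectionComponents f s ↔ x ∈ T')) := by
  obtain ⟨Z, i, hi, hZ, hri, hiη⟩ := exists_closure_subscheme y
  have sq : IsPullback (pullback.fst f i) (pullback.snd f i) f i := IsPullback.of_hasPullback _ _
  let sZ : Z ⟶ pullback f i := pullback.lift (i ≫ s) (𝟙 Z) (by
    rw [Category.assoc, hs, Category.comp_id, Category.id_comp])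
  have hsZ : sZ ≫ pullback.snd f i = 𝟙 Z := pullback.lift_snd _ _ _
  have hsZ' : sZ ≫ pullback.fst f i = i ≫ s := pullback.lift_fst _ _ _
  have hbc : MoreMor.sectionComponents (pullback.snd f i) sZ =
      (pullback.fst f i) ⁻¹' MoreMor.sectionComponents f s :=
    sectionComponents_baseChange f s hs _ _ _ sq sZ hsZ hsZ'
  obtain ⟨U, T, T', hηU, hT, hT', h1, h2⟩ := sectionComponents_near_generic (pullback.snd f i) sZ hsZ
  have hp : Topology.IsClosedEmbedding (pullback.fst f i) :=
    (pullback.fst f i).isClosedEmbedding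
  have hlift : ∀ x, f x ∈ i '' (U : Set Z) →
      ∃ w : ↥(pullback f i), pullback.fst f i w = x ∧ pullback.snd f i w ∈ U := by
    rintro x ⟨z, hz, hzx⟩
    obtain ⟨w, hw1, hw2⟩ := exists_preimage_of_isPullback sq x z hzx.symm
    exact ⟨w, hw1, hw2 ▸ hz⟩
  refine ⟨i '' (U : Set Z), pullback.fst f i '' T, pullback.fst f i '' T', ?_, ⟨_, hηU, hiη⟩, ?_,
    hp.isClosedMap _ hT, hp.isClosedMap _ hT', ?_, ?_⟩
  · rw [← hri]; exact Set.image_subset_range _ _
  · obtain ⟨W, hW, hWU⟩ := i.isClosedEmbedding.isEmbedding.isInducing.isOpen_iff.mp U.isOpen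
    have : (Subtype.val ⁻¹' (i '' (U : Set Z)) : Set ↑(closure ({y} : Set ↑Y))) =
        Subtype.val ⁻¹' W := by
      ext ⟨t, ht⟩
      simp only [Set.mem_preimage]
      constructor
      · rintro ⟨z, hz, rfl⟩
        rw [← hWU] at hz
        exact hz
      · intro htW
        rw [← hri] at ht
        obtain ⟨z, rfl⟩ := ht
        refine ⟨z, ?_, rfl⟩
        rw [← hWU]
        exact htW
    rw [this]
    exact hW.preimage continuous_subtype_val
  · intro x hx
    obtain ⟨w, rfl, hwU⟩ := hlift x hx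
    rw [hp.injective.mem_set_image, ← h1 w hwU, hbc]
    rfl
  · intro x hx
    obtain ⟨w, rfl, hwU⟩ := hlift x hx
    rw [hp.injective.mem_set_image, ← h2 w hwU, ← h1 w hwU, hbc]
    rfl

theorem sectionComponents_clopen {X Y : Scheme.{u}} (f : X ⟶ Y) (s : Y ⟶ X) (hs : s ≫ f = 𝟙 Y)
    [LocallyOfFiniteType f] [QuasiCompact f] (y : Y) :
    ∃ V : Set ↑Y, V ⊆ closure {y} ∧ y ∈ V ∧
      IsOpen (Subtype.val ⁻¹' V : Set ↑(closure ({y} : Set ↑Y))) ∧
      IsClopen (Subtype.val ⁻¹' MoreMor.sectionComponents f s : Set ↑(f ⁻¹' V)) := by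
  obtain ⟨V, T, T', hV1, hV2, hV3, hT, hT', h1, h2⟩ := sectionComponents_near_point f s hs y
  refine ⟨V, hV1, hV2, hV3, ?_, ?_⟩
  · have : (Subtype.val ⁻¹' MoreMor.sectionComponents f s : Set ↑(f ⁻¹' V)) =
        Subtype.val ⁻¹' T := by
      ext ⟨x, hx⟩
      exact h1 x hx
    rw [this]
    exact hT.preimage continuous_subtype_val
  · rw [← isClosed_compl_iff]
    have : (Subtype.val ⁻¹' MoreMor.sectionComponents f s : Set ↑(f ⁻¹' V))ᶜ =
        Subtype.val ⁻¹' T' := by
      ext ⟨x, hx⟩
      exact h2 x hx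
    rw [this]
    exact hT'.preimage continuous_subtype_val

end Groth.Agent.Lib.Helper4.GCSec3
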