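import Mathlib
import Groth.Agent.Lib.Helper4.GCSec3
import Groth.Agent.Lib.Helper7.GRLocus.Top

/-!
# Section components: constructibility over a Noetherian source, diagonal trick and its base change (helper4)
-/

set_option backward.isDefEq.respectTransparency.types false
set_option synthInstance.maxHeartbeats 400000
set_option autoImplicit false
set_option linter.unusedSectionVars false
set_option linter.style.haveILetI false
set_option linter.unusedSimpArgs false
universe u v w
open CategoryTheory CategoryTheory.Limits AlgebraicGeometry TopologicalSpace Topology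
open scoped TensorProduct
open Groth.Agent.Helper7.GeomConn Groth.Agent.Lib.Helper4.GCSec3

namespace Groth.Agent.Lib.Helper4.GCSec4

/-- Over a Noetherian source, the section components form a constructible subset. -/
theorem isConstructible_sectionComponents_of_noetherianSpace {X Y : Scheme.{u}} (f : X ⟶ Y)
    (s : Y ⟶ X) (hs : s ≫ f = 𝟙 Y) [LocallyOfFiniteType f] [QuasiCompact f]
    [NoetherianSpace X] : IsConstructible (MoreMor.sectionComponents f s) := by
  apply Groth.Agent.Helper7.GRLocus.isConstructible_of_forall_irreducible_or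
  intro Yc hYc hYirr
  obtain ⟨x, hx⟩ := QuasiSober.sober hYirr hYc
  have hYx : closure {x} = Yc := hx.def
  obtain ⟨V, T, T', hV1, hV2, hV3, hT, hT', h1, h2⟩ := sectionComponents_near_point f s hs (f x)
  obtain ⟨W, hW, hWV⟩ := isOpen_induced_iff.mp hV3
  have hWV' : ∀ t ∈ closure ({f x} : Set Y), (t ∈ W ↔ t ∈ V) := by
    intro t ht
    have := congrArg (fun A : Set ↑(closure ({f x} : Set Y)) => (⟨t, ht⟩ : ↑(closure ({f x} : Set Y))) ∈ A) hWV
    simpa using this
  have hfY : ∀ x' ∈ Yc, f x' ∈ closure ({f x} : Set Y) := by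
    intro x' hx'
    rw [← hYx] at hx'
    have := image_closure_subset_closure_image f.continuous ⟨x', hx', rfl⟩
    rwa [Set.image_singleton] at this
  have hxY : x ∈ Yc := hYx ▸ subset_closure rfl
  refine ⟨f ⁻¹' W, hW.preimage f.continuous, ⟨x, (hWV' _ (subset_closure rfl)).mpr hV2, hxY⟩, ?_⟩
  by_cases hxE : x ∈ MoreMor.sectionComponents f s
  · left
    have hxT : x ∈ T := (h1 x hV2).mp hxE
    have hYT : Yc ⊆ T := by
      rw [← hYx]; exact hT.closure_subset_iff.mpr (Set.singleton_subset_iff.mpr hxT)
    rintro x' ⟨hx'W, hx'Y⟩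
    exact (h1 x' ((hWV' _ (hfY x' hx'Y)).mp hx'W)).mpr (hYT hx'Y)
  · right
    have hxT : x ∈ T' := (h2 x hV2).mp hxE
    have hYT : Yc ⊆ T' := by
      rw [← hYx]; exact hT'.closure_subset_iff.mpr (Set.singleton_subset_iff.mpr hxT)
    rintro x' ⟨hx'W, hx'Y⟩
    exact (h2 x' ((hWV' _ (hfY x' hx'Y)).mp hx'W)).mpr (hYT hx'Y)

/-- The section components of `(f, s)` are pulled back from those of the second projection of
`X ×_Y X` with its diagonal section. -/
theorem sectionComponents_eq_preimage_diagonal {X Y : Scheme.{u}} (f : X ⟶ Y) (s : Y ⟶ X)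
    (hs : s ≫ f = 𝟙 Y) :
    MoreMor.sectionComponents f s =
      (pullback.lift (𝟙 X) (f ≫ s) (by rw [Category.id_comp, Category.assoc, hs,
        Category.comp_id])) ⁻¹' MoreMor.sectionComponents (pullback.snd f f) (pullback.diagonal f) := by
  have hA : IsPullback (pullback.fst f f) (pullback.snd f f) f f := IsPullback.of_hasPullback _ _
  have h1 : pullback.lift (𝟙 X) (f ≫ s) (by rw [Category.id_comp, Category.assoc, hs,
      Category.comp_id]) ≫ pullback.fst f f = 𝟙 X := pullback.lift_fst _ _ _
  have h2 : pullback.lift (𝟙 X) (f ≫ s) (by rw [Category.id_comp, Category.assoc, hs,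
      Category.comp_id]) ≫ pullback.snd f f = f ≫ s := pullback.lift_snd _ _ _
  have hB : IsPullback (pullback.lift (𝟙 X) (f ≫ s) (by rw [Category.id_comp, Category.assoc, hs,
      Category.comp_id])) f (pullback.snd f f) s := by
    refine IsPullback.of_right ?_ h2 hA
    rw [h1, hs]
    exact IsPullback.of_horiz_isIso ⟨by rw [Category.id_comp, Category.comp_id]⟩
  refine sectionComponents_baseChange (pullback.snd f f) (pullback.diagonal f)
    (pullback.diagonal_snd f) f _ s hB s hs ?_
  apply pullback.hom_ext
  · rw [Category.assoc, h1, Category.assoc, pullback.diagonal_fst]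
  · rw [Category.assoc, h2, Category.assoc, pullback.diagonal_snd, ← Category.assoc, hs,
      Category.id_comp, Category.comp_id]

/-- Base change for the section components of the second projection with its diagonal section. -/
theorem sectionComponents_diagonal_baseChange {X' S' X₀ S₀ : Scheme.{u}} {f' : X' ⟶ S'}
    {f₀ : X₀ ⟶ S₀} {q : X' ⟶ X₀} {π : S' ⟶ S₀} (hpb : IsPullback q f' f₀ π) :
    MoreMor.sectionComponents (pullback.snd f' f') (pullback.diagonal f') =
      (pullback.map f' f' f₀ f₀ q q π hpb.w.symm hpb.w.symm) ⁻¹'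
        MoreMor.sectionComponents (pullback.snd f₀ f₀) (pullback.diagonal f₀) := by
  have hA₀ : IsPullback (pullback.fst f₀ f₀) (pullback.snd f₀ f₀) f₀ f₀ :=
    IsPullback.of_hasPullback _ _
  have hA' : IsPullback (pullback.fst f' f') (pullback.snd f' f') f' f' :=
    IsPullback.of_hasPullback _ _
  have h1 : pullback.map f' f' f₀ f₀ q q π hpb.w.symm hpb.w.symm ≫ pullback.fst f₀ f₀ =
      pullback.fst f' f' ≫ q := pullback.lift_fst _ _ _
  have h2 : pullback.map f' f' f₀ f₀ q q π hpb.w.symm hpb.w.symm ≫ pullback.snd f₀ f₀ =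
      pullback.snd f' f' ≫ q := pullback.lift_snd _ _ _
  have hB : IsPullback (pullback.map f' f' f₀ f₀ q q π hpb.w.symm hpb.w.symm) (pullback.snd f' f')
      (pullback.snd f₀ f₀) q := by
    refine IsPullback.of_right ?_ h2 hA₀
    rw [h1, hpb.w]
    exact hA'.paste_horiz hpb
  refine sectionComponents_baseChange (pullback.snd f₀ f₀) (pullback.diagonal f₀)
    (pullback.diagonal_snd f₀) (pullback.snd f' f') _ q hB (pullback.diagonal f')
    (pullback.diagonal_snd f') ?_
  apply pullback.hom_ext
  · rw [Category.assoc, h1, ← Category.assoc, pullback.diagonal_fst, Category.id_comp,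
      Category.assoc, pullback.diagonal_fst, Category.comp_id]
  · rw [Category.assoc, h2, ← Category.assoc, pullback.diagonal_snd, Category.id_comp,
      Category.assoc, pullback.diagonal_snd, Category.comp_id]

end Groth.Agent.Lib.Helper4.GCSec4
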