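import Mathlib
import Groth.Agent.Lib.Helper4.GCSec4
import Groth.Agent.Lib.Helper7.FibTop.Main

/-!
# EGA IV 9.7.12: the section components of a morphism of finite presentation with a section are locally constructible (helper4)
-/

set_option backward.isDefEq.respectTransparency.types false
set_option synthInstance.maxHeartbeats 400000
set_option autoImplicit false
set_option linter.unusedSectionVars false
set_option linter.style.haveILetI false
set_option linter.unusedSimpArgs false
universe u v w
open CategoryTheory CategoryTheory.Limits AlgebraicGeometry TopologicalSpace Topology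
open scoped TensorProduct
open Groth.Agent.Helper7.GeomConn Groth.Agent.Lib.Helper4.GCSec3 Groth.Agent.Lib.Helper4.GCSec4
open Groth.Agent.Helper7.ProConsLib Groth.Agent.Helper7.ConsPair Groth.Agent.Helper7.FibTop

namespace Groth.Agent.Lib.Helper4.GCSec5

theorem isLocallyConstructible_sectionComponents_spec (A : Type u) [CommRing A] {X : Scheme.{u}}
    (f : X ⟶ Spec (CommRingCat.of A)) (s : Spec (CommRingCat.of A) ⟶ X) (hs : s ≫ f = 𝟙 _)
    [LocallyOfFinitePresentation f] [QuasiCompact f] [QuasiSeparated f] :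
    IsLocallyConstructible (MoreMor.sectionComponents f s) := by
  rw [sectionComponents_eq_preimage_diagonal f s hs]
  apply isLocallyConstructible_preimage
  obtain ⟨A₀, _, _, π, X₀, f₀, q, Z₀, Z₀', hlfp, hqc, hpb, -⟩ :=
    exists_noetherian_model_sets A f ∅ ∅ IsConstructible.empty IsConstructible.empty
  rw [sectionComponents_diagonal_baseChange hpb]
  apply isLocallyConstructible_preimage
  apply IsConstructible.isLocallyConstructible
  haveI : IsLocallyNoetherian X₀ := LocallyOfFiniteType.isLocallyNoetherian f₀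
  haveI : CompactSpace X₀ := QuasiCompact.compactSpace_of_compactSpace f₀
  haveI : IsLocallyNoetherian (pullback f₀ f₀) :=
    LocallyOfFiniteType.isLocallyNoetherian (pullback.snd f₀ f₀)
  haveI : CompactSpace ↥(pullback f₀ f₀) :=
    QuasiCompact.compactSpace_of_compactSpace (pullback.snd f₀ f₀)
  haveI : IsNoetherian (pullback f₀ f₀) := {}
  exact isConstructible_sectionComponents_of_noetherianSpace (pullback.snd f₀ f₀)
    (pullback.diagonal f₀) (pullback.diagonal_snd f₀)

theorem isLocallyConstructible_sectionComponents_of_isAffine {X S : Scheme.{u}} [IsAffine S]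
    (f : X ⟶ S) (s : S ⟶ X) (hs : s ≫ f = 𝟙 S)
    [LocallyOfFinitePresentation f] [QuasiCompact f] [QuasiSeparated f] :
    IsLocallyConstructible (MoreMor.sectionComponents f s) := by
  have hc : IsPullback (𝟙 X) (f ≫ S.isoSpec.hom) f S.isoSpec.inv :=
    IsPullback.of_horiz_isIso ⟨by simp⟩
  have h1 := sectionComponents_baseChange f s hs (f ≫ S.isoSpec.hom) (𝟙 X) S.isoSpec.inv hc
    (S.isoSpec.inv ≫ s) (by simp [reassoc_of% hs]) (by simp)
  have h2 := isLocallyConstructible_sectionComponents_spec ↑Γ(S, ⊤) (f ≫ S.isoSpec.hom)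
    (S.isoSpec.inv ≫ s) (by simp [reassoc_of% hs])
  rw [h1] at h2
  exact h2

theorem isLocallyConstructible_sectionComponents {X Y : Scheme.{u}} (f : X ⟶ Y) (s : Y ⟶ X)
    (hs : s ≫ f = 𝟙 Y) [LocallyOfFinitePresentation f] [QuasiCompact f] [QuasiSeparated f] :
    IsLocallyConstructible (MoreMor.sectionComponents f s) := by
  refine IsLocallyConstructible.of_isOpenCover (U := fun V : Y.affineOpens => f ⁻¹ᵁ V.1) ?_ ?_
  · apply IsOpenCover.mk
    rw [eq_top_iff]
    intro x _
    obtain ⟨_, ⟨V, hV, rfl⟩, hxV, -⟩ := (Y.isBasis_affineOpens).exists_subset_of_mem_open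
      (Set.mem_univ (f x)) isOpen_univ
    exact Opens.mem_iSup.mpr ⟨⟨V, hV⟩, hxV⟩
  · intro V
    haveI : IsAffine (V.1 : Scheme.{u}) := V.2
    have hr : Set.range (V.1.ι ≫ s) ⊆ Set.range (f ⁻¹ᵁ V.1).ι := by
      rintro _ ⟨t, rfl⟩
      rw [Scheme.Opens.range_ι]
      change f ((V.1.ι ≫ s) t) ∈ V.1
      rw [← Scheme.Hom.comp_apply, Category.assoc, hs, Category.comp_id]
      exact t.2
    let sV : (V.1 : Scheme.{u}) ⟶ (f ⁻¹ᵁ V.1 : Scheme.{u}) :=
      IsOpenImmersion.lift (f ⁻¹ᵁ V.1).ι (V.1.ι ≫ s) hr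
    have hsV1 : sV ≫ (f ⁻¹ᵁ V.1).ι = V.1.ι ≫ s := IsOpenImmersion.lift_fac _ _ _
    have hsV2 : sV ≫ f ∣_ V.1 = 𝟙 _ := by
      rw [← cancel_mono V.1.ι, Category.assoc, morphismRestrict_ι, ← Category.assoc, hsV1,
        Category.assoc, hs, Category.comp_id, Category.id_comp]
    have h1 := sectionComponents_baseChange f s hs (f ∣_ V.1) (f ⁻¹ᵁ V.1).ι V.1.ι
      (isPullback_morphismRestrict f V.1).flip sV hsV2 hsV1
    have h2 := isLocallyConstructible_sectionComponents_of_isAffine (f ∣_ V.1) sV hsV2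
    rw [h1] at h2
    exact h2

end Groth.Agent.Lib.Helper4.GCSec5
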