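import Mathlib
import Groth.Prelude.Def_FDesc
import Groth.Agent.Lib.Helper4.SecNbhd1

/-!
# Geometric reducedness at a point: ascent and descent along extensions of the base field and cartesian squares (helper4) (helper4)
-/

set_option backward.isDefEq.respectTransparency.types false
set_option synthInstance.maxHeartbeats 400000
set_option autoImplicit false
set_option linter.unusedSectionVars false
set_option linter.style.haveILetI false
set_option linter.unusedSimpArgs false
universe u v w
open CategoryTheory CategoryTheory.Limits AlgebraicGeometry TopologicalSpace Topology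

namespace Groth.Agent.Lib.Helper4.GeomRedAt1

/-- reducedness of local rings descends along flat morphisms -/
theorem isReduced_stalk_of_flat {X Y : Scheme.{u}} (r : X ⟶ Y) [Flat r] (x : X)
    (h : _root_.IsReduced (X.presheaf.stalk x)) : _root_.IsReduced (Y.presheaf.stalk (r x)) := by
  have hinj : Function.Injective (r.stalkMap x).hom := by
    algebraize [(r.stalkMap x).hom]
    have : Module.FaithfullyFlat (Y.presheaf.stalk (r x)) (X.presheaf.stalk x) :=
      @Module.FaithfullyFlat.of_flat_of_isLocalHom _ _ _ _ _ _ _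
        (Flat.stalkMap r x) (r.toLRSHom.prop x)
    exact ‹RingHom.FaithfullyFlat _›.injective
  exact isReduced_of_injective _ hinj

/-- key step of the descent of geometric reducedness: a common field-valued point -/
theorem isReduced_stalk_of_common_point {k K L Ω : Type u} [Field k] [Field K] [Field L] [Field Ω]
    [Algebra k L] {Z Z' : Scheme.{u}}
    (F : Z ⟶ Spec (CommRingCat.of k)) (F' : Z' ⟶ Spec (CommRingCat.of K))
    (φ : CommRingCat.of k ⟶ CommRingCat.of K) (q : Z' ⟶ Z)
    (hpb : IsPullback q F' F (Spec.map φ))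
    (a : Spec (CommRingCat.of Ω) ⟶ FBase.bc F L) (b : Spec (CommRingCat.of Ω) ⟶ Z')
    (hab : a ≫ FBase.bcπ F L = b ≫ q)
    (h : FBase.IsGeomReducedAt F' (b (IsLocalRing.closedPoint Ω))) :
    _root_.IsReduced ((FBase.bc F L).presheaf.stalk (a (IsLocalRing.closedPoint Ω))) := by
  let α : CommRingCat.of L ⟶ CommRingCat.of Ω := Spec.preimage (a ≫ FBase.bcStr F L)
  let β : CommRingCat.of K ⟶ CommRingCat.of Ω := Spec.preimage (b ≫ F')
  have hα : Spec.map α = a ≫ FBase.bcStr F L := Spec.map_preimage _
  have hβ : Spec.map β = b ≫ F' := Spec.map_preimage _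
  letI : Algebra K Ω := β.hom.toAlgebra
  have hβ' : Spec.map (CommRingCat.ofHom (algebraMap K Ω)) = b ≫ F' := hβ
  have hcondL : FBase.bcπ F L ≫ F =
      FBase.bcStr F L ≫ Spec.map (CommRingCat.ofHom (algebraMap k L)) := pullback.condition
  have hcondΩ : FBase.bcπ F' Ω ≫ F' =
      FBase.bcStr F' Ω ≫ Spec.map (CommRingCat.ofHom (algebraMap K Ω)) := pullback.condition
  have key : Spec.map (CommRingCat.ofHom (algebraMap K Ω)) ≫ Spec.map φ =
      Spec.map α ≫ Spec.map (CommRingCat.ofHom (algebraMap k L)) := by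
    rw [hβ', hα, Category.assoc, Category.assoc, ← hcondL, ← hpb.w, reassoc_of% hab]
  -- the canonical point of the base change
  let σ : Spec (CommRingCat.of Ω) ⟶ FBase.bc F' Ω :=
    pullback.lift b (𝟙 _) (by rw [Category.id_comp]; exact hβ'.symm)
  have hσ1 : σ ≫ FBase.bcπ F' Ω = b := pullback.lift_fst _ _ _
  have hσ2 : σ ≫ FBase.bcStr F' Ω = 𝟙 _ := pullback.lift_snd _ _ _
  -- the flat morphism
  let r : FBase.bc F' Ω ⟶ FBase.bc F L :=
    pullback.lift (FBase.bcπ F' Ω ≫ q) (FBase.bcStr F' Ω ≫ Spec.map α) (by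
      rw [Category.assoc, Category.assoc, hpb.w, reassoc_of% hcondΩ, key])
  have hr1 : r ≫ FBase.bcπ F L = FBase.bcπ F' Ω ≫ q := pullback.lift_fst _ _ _
  have hr2 : r ≫ FBase.bcStr F L = FBase.bcStr F' Ω ≫ Spec.map α := pullback.lift_snd _ _ _
  have hsq : IsPullback r (FBase.bcStr F' Ω) (FBase.bcStr F L) (Spec.map α) := by
    have t : IsPullback (FBase.bcπ F L) (FBase.bcStr F L) F
        (Spec.map (CommRingCat.ofHom (algebraMap k L))) := IsPullback.of_hasPullback _ _
    have s1 : IsPullback (FBase.bcπ F' Ω) (FBase.bcStr F' Ω) F'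
        (Spec.map (CommRingCat.ofHom (algebraMap K Ω))) := IsPullback.of_hasPullback _ _
    have s2 := s1.paste_horiz hpb
    rw [key, ← hr1] at s2
    exact IsPullback.of_right s2 hr2 t
  haveI : Flat (Spec.map α) := by
    rw [HasRingHomProperty.Spec_iff (P := @Flat)]
    letI : Algebra L Ω := α.hom.toAlgebra
    show Module.Flat L Ω
    infer_instance
  haveI : Flat r := MorphismProperty.of_isPullback (P := @Flat) hsq.flip inferInstance
  have hσr : σ ≫ r = a := by
    apply pullback.hom_ext
    · show (σ ≫ r) ≫ FBase.bcπ F L = a ≫ FBase.bcπ F L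
      rw [Category.assoc, hr1, reassoc_of% hσ1, hab]
    · show (σ ≫ r) ≫ FBase.bcStr F L = a ≫ FBase.bcStr F L
      rw [Category.assoc, hr2, reassoc_of% hσ2, hα]
  have h1 := h Ω (σ (IsLocalRing.closedPoint Ω)) (by
    rw [← Scheme.Hom.comp_apply]
    show (σ ≫ FBase.bcπ F' Ω) _ = _
    rw [hσ1])
  have h2 := isReduced_stalk_of_flat r _ h1
  rw [← Scheme.Hom.comp_apply, hσr] at h2
  exact h2

/-- geometric reducedness at a point descends along extensions of the base field -/
theorem isGeomReducedAt_descend {k K : Type u} [Field k] [Field K] {Z Z' : Scheme.{u}}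
    (F : Z ⟶ Spec (CommRingCat.of k)) (F' : Z' ⟶ Spec (CommRingCat.of K))
    (φ : CommRingCat.of k ⟶ CommRingCat.of K) (q : Z' ⟶ Z)
    (hpb : IsPullback q F' F (Spec.map φ)) (z' : Z')
    (h : FBase.IsGeomReducedAt F' z') : FBase.IsGeomReducedAt F (q z') := by
  intro L _ _ w hw
  obtain ⟨p, hp1, hp2⟩ := Scheme.Pullback.exists_preimage_pullback (f := FBase.bcπ F L) (g := q)
    w z' hw
  let ip : Spec (CommRingCat.of ↑((pullback (FBase.bcπ F L) q).residueField p)) ⟶
      pullback (FBase.bcπ F L) q := (pullback (FBase.bcπ F L) q).fromSpecResidueField p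
  have hip : ip (IsLocalRing.closedPoint _) = p :=
    Scheme.fromSpecResidueField_apply _ _
  have hab : (ip ≫ pullback.fst _ _) ≫ FBase.bcπ F L = (ip ≫ pullback.snd _ _) ≫ q := by
    simp only [Category.assoc, pullback.condition]
  have key := isReduced_stalk_of_common_point F F' φ q hpb (ip ≫ pullback.fst _ _)
    (ip ≫ pullback.snd _ _) hab (by
      rw [Scheme.Hom.comp_apply, hip, hp2]
      exact h)
  rw [Scheme.Hom.comp_apply, hip, hp1] at key
  exact key

/-- geometric reducedness at a point ascends along extensions of the base field -/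
theorem isGeomReducedAt_ascend {k K : Type u} [Field k] [Field K] {Z Z' : Scheme.{u}}
    (F : Z ⟶ Spec (CommRingCat.of k)) (F' : Z' ⟶ Spec (CommRingCat.of K))
    (φ : CommRingCat.of k ⟶ CommRingCat.of K) (q : Z' ⟶ Z)
    (hpb : IsPullback q F' F (Spec.map φ)) (z' : Z')
    (h : FBase.IsGeomReducedAt F (q z')) : FBase.IsGeomReducedAt F' z' := by
  intro K' _ _ w hw
  have s1 : IsPullback (FBase.bcπ F' K') (FBase.bcStr F' K') F'
      (Spec.map (CommRingCat.ofHom (algebraMap K K'))) := IsPullback.of_hasPullback _ _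
  have s2 := s1.paste_horiz hpb
  rw [← Spec.map_comp] at s2
  refine Groth.Agent.Lib.Helper4.SecNbhd1.isReduced_stalk_of_isGeomReducedAt F
    (φ ≫ CommRingCat.ofHom (algebraMap K K')) (FBase.bcπ F' K' ≫ q) (FBase.bcStr F' K') s2 w ?_
  rw [Scheme.Hom.comp_apply, hw]
  exact h

section Sch
open Groth.Agent.Helper7.GeomConn

variable {X Y X' Y' : Scheme.{u}} (f : X ⟶ Y) (f' : X' ⟶ Y') (g' : X' ⟶ X) (g : Y' ⟶ Y)
  (hc : IsPullback g' f' f g)

theorem isGeomReducedAt_fibre_ascend (y' : Y') (z' : ↥(f'.fiber y'))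
    (h : FBase.IsGeomReducedAt (f.fiberToSpecResidueField (g y')) (fibreMap f f' g' g hc y' z')) :
    FBase.IsGeomReducedAt (f'.fiberToSpecResidueField y') z' :=
  isGeomReducedAt_ascend (f.fiberToSpecResidueField (g y')) (f'.fiberToSpecResidueField y')
    (g.residueFieldMap y') (fibreMap f f' g' g hc y') (isPullback_fibreMap f f' g' g hc y') z' h

theorem isGeomReducedAt_fibre_descend (y' : Y') (z' : ↥(f'.fiber y'))
    (h : FBase.IsGeomReducedAt (f'.fiberToSpecResidueField y') z') :
    FBase.IsGeomReducedAt (f.fiberToSpecResidueField (g y')) (fibreMap f f' g' g hc y' z') :=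
  isGeomReducedAt_descend (f.fiberToSpecResidueField (g y')) (f'.fiberToSpecResidueField y')
    (g.residueFieldMap y') (fibreMap f f' g' g hc y') (isPullback_fibreMap f f' g' g hc y') z' h

/-- the map between fibres induced by a cartesian square is surjective -/
theorem fibreMap_surjective (y' : Y') : Function.Surjective (fibreMap f f' g' g hc y') := by
  haveI : Surjective (Spec.map (g.residueFieldMap y')) := by
    constructor
    intro t
    refine ⟨IsLocalRing.closedPoint _, ?_⟩
    exact Subsingleton.elim _ _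
  have : Surjective (fibreMap f f' g' g hc y') :=
    MorphismProperty.of_isPullback (P := @Surjective) (isPullback_fibreMap f f' g' g hc y').flip
      inferInstance
  exact this.surj

end Sch

end Groth.Agent.Lib.Helper4.GeomRedAt1
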