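import Mathlib
import Groth.Agent.Lib.Helper4.SecNbhd1
import Groth.Agent.Lib.Helper4.GeomRedAt1
import Groth.Agent.Lib.Helper3.FlatModel3
import Groth.Agent.Lib.Helper7.FGSub2

/-!
# EGA IV 15.6.5: for a flat morphism of finite presentation with a section, the section components are a neighbourhood of a geometrically reduced component (helper4) (helper4)
-/

set_option backward.isDefEq.respectTransparency.types false
set_option synthInstance.maxHeartbeats 400000
set_option autoImplicit false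
set_option linter.unusedSectionVars false
set_option linter.style.haveILetI false
set_option linter.unusedSimpArgs false
universe u v w
open CategoryTheory CategoryTheory.Limits AlgebraicGeometry TopologicalSpace Topology Opposite
open Groth.Agent.Helper7.GeomConn Groth.Agent.Lib.Helper4.SecNbhd1
open Groth.Agent.Lib.Helper4.GeomRedAt1

namespace Groth.Agent.Lib.Helper4.SecNbhd4

/-- a flat morphism of finite presentation to an affine scheme is a base change of such a
morphism to the spectrum of a Noetherian ring -/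
theorem exists_flat_noetherian_model (A : Type u) [CommRing A] {X : Scheme.{u}}
    (f : X ⟶ Spec (CommRingCat.of A)) [Flat f] [LocallyOfFinitePresentation f] [QuasiCompact f]
    [QuasiSeparated f] :
    ∃ (A₀ : Type u) (_ : CommRing A₀) (_ : IsNoetherianRing A₀)
      (π : Spec (CommRingCat.of A) ⟶ Spec (CommRingCat.of A₀)) (X₀ : Scheme.{u})
      (f₀ : X₀ ⟶ Spec (CommRingCat.of A₀)) (q : X ⟶ X₀),
      Flat f₀ ∧ LocallyOfFinitePresentation f₀ ∧ QuasiCompact f₀ ∧ QuasiSeparated f₀ ∧
        IsPullback q f f₀ π := by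
  obtain ⟨A₀, hfg, X₀, f₀, q, hP, hlfp, hqc, hqs, hpb⟩ :=
    Groth.Agent.Helper7.FGSub.exists_model A Groth.Agent.Helper3.FlatModel.FlatLfp
      (fun h _ _ _ hh => by
        haveI : Flat h := hh.1
        obtain ⟨j, _, M, hM⟩ := Groth.Agent.Helper3.FlatModel.exists_model_flatLfp_over
          (Groth.Agent.Helper7.FGSub.isLimit_specCone A).some
          (op (⟨⊥, Subalgebra.fg_bot⟩ : Groth.Agent.Helper7.FGSub.Idx A)) h
        exact ⟨j, M, hM⟩) f ⟨inferInstance, inferInstance⟩
  have hN : IsNoetherianRing ↥A₀ := by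
    have : Algebra.FiniteType ℤ ↥A₀ := (Subalgebra.fg_iff_finiteType _).mp hfg
    exact Algebra.FiniteType.isNoetherianRing ℤ _
  exact ⟨↥A₀, inferInstance, hN, _, X₀, f₀, q, hP.1, hlfp, hqc, hqs, hpb⟩

/-- EGA IV 15.6.5 over an affine base -/
theorem affine_case (A : Type u) [CommRing A] {X : Scheme.{u}}
    (f : X ⟶ Spec (CommRingCat.of A)) [Flat f] [LocallyOfFinitePresentation f] [QuasiCompact f]
    [QuasiSeparated f] (g : Spec (CommRingCat.of A) ⟶ X) (hg : g ≫ f = 𝟙 _)
    (y : ↥(Spec (CommRingCat.of A)))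
    (hred : ∀ x' : ↥(f.fiber y), (f.fiberι y) x' ∈ connectedComponentIn (f ⁻¹' {y}) (g y) →
      FBase.IsGeomReducedAt (f.fiberToSpecResidueField y) x') :
    connectedComponentIn (f ⁻¹' {y}) (g y) ⊆ interior (MoreMor.sectionComponents f g) := by
  obtain ⟨A₀, _, _, π, X₀, f₀, q, hflat, hlfp, hqc, hqs, hpb⟩ := exists_flat_noetherian_model A f
  haveI := hflat
  haveI := hlfp
  haveI := hqc
  haveI := hqs
  haveI : IsLocallyNoetherian X₀ := LocallyOfFiniteType.isLocallyNoetherian f₀
  have hΔ : pullback.diagonal f₀ ≫ pullback.snd f₀ f₀ = 𝟙 _ := pullback.diagonal_snd f₀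
  have hψc : q ≫ f₀ = (f ≫ g ≫ q) ≫ f₀ := by
    rw [Category.assoc, Category.assoc, hpb.w, reassoc_of% hg]
  have hψ1 : pullback.lift q (f ≫ g ≫ q) hψc ≫ pullback.fst f₀ f₀ = q := pullback.lift_fst _ _ _
  have hψ2 : pullback.lift q (f ≫ g ≫ q) hψc ≫ pullback.snd f₀ f₀ = f ≫ g ≫ q :=
    pullback.lift_snd _ _ _
  have hgqπ : (g ≫ q) ≫ f₀ = π := by
    rw [Category.assoc, hpb.w, reassoc_of% hg]
  have hΨ : IsPullback (pullback.lift q (f ≫ g ≫ q) hψc) f (pullback.snd f₀ f₀) (g ≫ q) := by
    have t : IsPullback (pullback.fst f₀ f₀) (pullback.snd f₀ f₀) f₀ f₀ :=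
      IsPullback.of_hasPullback _ _
    have s : IsPullback (pullback.lift q (f ≫ g ≫ q) hψc ≫ pullback.fst f₀ f₀) f f₀
        ((g ≫ q) ≫ f₀) := by
      rw [hψ1, hgqπ]
      exact hpb
    exact IsPullback.of_right s hψ2 t
  have hsec : g ≫ pullback.lift q (f ≫ g ≫ q) hψc = (g ≫ q) ≫ pullback.diagonal f₀ := by
    apply pullback.hom_ext
    · rw [Category.assoc, hψ1, Category.assoc, Category.assoc, pullback.diagonal_fst,
        Category.comp_id]
    · rw [Category.assoc, hψ2, reassoc_of% hg, Category.assoc, Category.assoc,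
        pullback.diagonal_snd, Category.comp_id]
  have hbc := sectionComponents_baseChange (pullback.snd f₀ f₀) (pullback.diagonal f₀) hΔ f
    (pullback.lift q (f ≫ g ≫ q) hψc) (g ≫ q) hΨ g hg hsec
  generalize pullback.lift q (f ≫ g ≫ q) hψc = ψ at *
  have hp₀ψ : ∀ x₁ : X, f x₁ = y → (pullback.snd f₀ f₀) (ψ x₁) = (g ≫ q) y := by
    intro x₁ hx₁
    rw [← Scheme.Hom.comp_apply, hΨ.w, Scheme.Hom.comp_apply, hx₁]
  -- membership transfer
  have hmem : ∀ x₁ : X, f x₁ = y →
      (ψ x₁ ∈ connectedComponentIn ((pullback.snd f₀ f₀) ⁻¹' {(g ≫ q) y})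
        ((pullback.diagonal f₀) ((g ≫ q) y)) ↔
        x₁ ∈ connectedComponentIn (f ⁻¹' {y}) (g y)) := by
    intro x₁ hx₁
    rw [← mem_sectionComponents_of_eq f g x₁ y hx₁, hbc, Set.mem_preimage,
      mem_sectionComponents_of_eq _ _ (ψ x₁) _ (hp₀ψ x₁ hx₁)]
  intro x hx
  have hfx : f x = y := (connectedComponentIn_subset (f ⁻¹' {y}) (g y)) hx
  have key := nflat (pullback.snd f₀ f₀) (pullback.diagonal f₀) hΔ ((g ≫ q) y) ?_
    ((hmem x hfx).mpr hx)
  · rw [hbc]
    exact preimage_interior_subset_interior_preimage ψ.continuous key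
  · intro w hw
    obtain ⟨z, rfl⟩ := fibreMap_surjective (pullback.snd f₀ f₀) f ψ (g ≫ q) hΨ y w
    refine isGeomReducedAt_fibre_descend (pullback.snd f₀ f₀) f ψ (g ≫ q) hΨ y z (hred z ?_)
    have h0 : f (f.fiberι y z) = y := by
      have h0' : f.fiberι y z ∈ f ⁻¹' {y} := by
        rw [← f.range_fiberι y]
        exact Set.mem_range_self z
      exact h0'
    refine (hmem _ h0).mp ?_
    have h3 : (pullback.snd f₀ f₀).fiberι ((g ≫ q) y)
        (fibreMap (pullback.snd f₀ f₀) f ψ (g ≫ q) hΨ y z) = ψ (f.fiberι y z) := by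
      rw [← Scheme.Hom.comp_apply, fibreMap_fiberι, Scheme.Hom.comp_apply]
    rw [← h3]
    exact hw

/-- EGA IV 15.6.5 -/
theorem main {X Y : Scheme.{u}} (f : X ⟶ Y) [Flat f] [LocallyOfFinitePresentation f]
    [QuasiCompact f] [QuasiSeparated f] (g : Y ⟶ X) (hg : g ≫ f = 𝟙 Y) (y : Y)
    (hred : ∀ x' : ↥(f.fiber y), (f.fiberι y) x' ∈ connectedComponentIn (f ⁻¹' {y}) (g y) →
      FBase.IsGeomReducedAt (f.fiberToSpecResidueField y) x') :
    connectedComponentIn (f ⁻¹' {y}) (g y) ⊆ interior (MoreMor.sectionComponents f g) := by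
  obtain ⟨_, ⟨V, hV, rfl⟩, hyV, -⟩ :=
    Y.isBasis_affineOpens.exists_subset_of_mem_open (Set.mem_univ y) isOpen_univ
  have hV' : IsAffineOpen V := hV
  haveI : IsOpenImmersion hV'.fromSpec := hV'.isOpenImmersion_fromSpec
  have hc : IsPullback (pullback.fst f hV'.fromSpec) (pullback.snd f hV'.fromSpec) f hV'.fromSpec :=
    IsPullback.of_hasPullback _ _
  have hg'c : (hV'.fromSpec ≫ g) ≫ f = 𝟙 _ ≫ hV'.fromSpec := by
    rw [Category.assoc, hg, Category.comp_id, Category.id_comp]
  have hg' : pullback.lift (hV'.fromSpec ≫ g) (𝟙 _) hg'c ≫ pullback.snd f hV'.fromSpec = 𝟙 _ :=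
    pullback.lift_snd _ _ _
  have hg'pr : pullback.lift (hV'.fromSpec ≫ g) (𝟙 _) hg'c ≫ pullback.fst f hV'.fromSpec =
      hV'.fromSpec ≫ g := pullback.lift_fst _ _ _
  have hbc := sectionComponents_baseChange f g hg (pullback.snd f hV'.fromSpec)
    (pullback.fst f hV'.fromSpec) hV'.fromSpec hc _ hg' hg'pr
  have hrange : Set.range (pullback.fst f hV'.fromSpec) = f ⁻¹' Set.range hV'.fromSpec :=
    Scheme.Pullback.range_fst f hV'.fromSpec
  have hpro : IsOpenImmersion (pullback.fst f hV'.fromSpec) := inferInstance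
  have hflat : Flat (pullback.snd f hV'.fromSpec) := inferInstance
  have hlfp : LocallyOfFinitePresentation (pullback.snd f hV'.fromSpec) := inferInstance
  have hqc : QuasiCompact (pullback.snd f hV'.fromSpec) := inferInstance
  have hqs : QuasiSeparated (pullback.snd f hV'.fromSpec) := inferInstance
  generalize pullback.lift (hV'.fromSpec ≫ g) (𝟙 _) hg'c = g' at *
  generalize pullback.snd f hV'.fromSpec = f' at *
  generalize pullback.fst f hV'.fromSpec = pr at *
  have hjinj : Function.Injective hV'.fromSpec := hV'.fromSpec.isOpenEmbedding.injective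
  obtain ⟨y', rfl⟩ : ∃ y', hV'.fromSpec y' = y := by
    have : y ∈ Set.range hV'.fromSpec := by
      rw [hV'.range_fromSpec]
      exact hyV
    exact this
  -- membership transfer
  have hmem : ∀ x' : ↥(pullback f hV'.fromSpec), f' x' = y' →
      (x' ∈ connectedComponentIn (f' ⁻¹' {y'}) (g' y') ↔
        pr x' ∈ connectedComponentIn (f ⁻¹' {hV'.fromSpec y'}) (g (hV'.fromSpec y'))) := by
    intro x' hx'
    have h1 : f (pr x') = hV'.fromSpec y' := by
      rw [← Scheme.Hom.comp_apply, hc.w, Scheme.Hom.comp_apply, hx']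
    rw [← mem_sectionComponents_of_eq f' g' x' y' hx', hbc, Set.mem_preimage,
      mem_sectionComponents_of_eq f g (pr x') _ h1]
  intro x hx
  have hfx : f x = hV'.fromSpec y' :=
    (connectedComponentIn_subset (f ⁻¹' {hV'.fromSpec y'}) (g (hV'.fromSpec y'))) hx
  obtain ⟨x', rfl⟩ : x ∈ Set.range pr := by
    rw [hrange]
    exact ⟨y', hfx.symm⟩
  have hf'x' : f' x' = y' := by
    apply hjinj
    rw [← Scheme.Hom.comp_apply, ← hc.w, Scheme.Hom.comp_apply, hfx]
  have key := affine_case Γ(Y, V) f' g' hg' y' ?_ ((hmem x' hf'x').mpr hx)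
  · rw [mem_interior_iff_mem_nhds] at key ⊢
    have h1 : pr '' (MoreMor.sectionComponents f' g') ∈ nhds (pr x') :=
      pr.isOpenEmbedding.image_mem_nhds.mpr key
    refine Filter.mem_of_superset h1 ?_
    rintro _ ⟨w, hw, rfl⟩
    rw [hbc] at hw
    exact hw
  · intro z' hz'
    refine isGeomReducedAt_fibre_ascend f f' pr hV'.fromSpec hc y' z' (hred _ ?_)
    have h0 : f' (f'.fiberι y' z') = y' := by
      have h0' : f'.fiberι y' z' ∈ f' ⁻¹' {y'} := by
        rw [← f'.range_fiberι y']
        exact Set.mem_range_self z'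
      exact h0'
    have h3 : f.fiberι (hV'.fromSpec y') (fibreMap f f' pr hV'.fromSpec hc y' z') =
        pr (f'.fiberι y' z') := by
      rw [← Scheme.Hom.comp_apply, fibreMap_fiberι, Scheme.Hom.comp_apply]
    rw [h3]
    exact (hmem _ h0).mp hz'

/-- a geometrically reduced scheme over a field is geometrically reduced at every point -/
theorem isGeomReducedAt_of_geometricallyReduced {k : Type u} [Field k] {Z : Scheme.{u}}
    (F : Z ⟶ Spec (CommRingCat.of k)) [hF : GeometricallyReduced F] (z : Z) :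
    FBase.IsGeomReducedAt F z := by
  intro K _ _ w _
  haveI : AlgebraicGeometry.IsReduced (FBase.bc F K) :=
    hF.geometrically_isReduced _ _ _ (IsPullback.of_hasPullback _ _)
  infer_instance

/-- EGA IV 15.6.5 for a geometrically reduced fibre -/
theorem main' {X Y : Scheme.{u}} (f : X ⟶ Y) [Flat f] [LocallyOfFinitePresentation f]
    [QuasiCompact f] [QuasiSeparated f] (g : Y ⟶ X) (hg : g ≫ f = 𝟙 Y) (y : Y)
    (hy : GeometricallyReduced (f.fiberToSpecResidueField y)) :
    connectedComponentIn (f ⁻¹' {y}) (g y) ⊆ interior (MoreMor.sectionComponents f g) :=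
  main f g hg y fun x' _ =>
    @isGeomReducedAt_of_geometricallyReduced _ _ _ (f.fiberToSpecResidueField y) hy x'

end Groth.Agent.Lib.Helper4.SecNbhd4
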