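import Mathlib
import Groth.Prelude.Def_MoreMor

/-!
# Restriction of a morphism with a section to a quasi-compact open subscheme and its section components (helper4) (helper4)
-/

set_option backward.isDefEq.respectTransparency.types false
set_option synthInstance.maxHeartbeats 400000
set_option autoImplicit false
set_option linter.unusedSectionVars false
set_option linter.style.haveILetI false
set_option linter.unusedSimpArgs false
universe u v w
open CategoryTheory CategoryTheory.Limits AlgebraicGeometry TopologicalSpace Topology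

namespace Groth.Agent.Lib.Helper4.SecRestrict1

section
variable {X Y : Scheme.{u}} (f : X ⟶ Y) (g : Y ⟶ X) (U : X.Opens) (V : Y.Opens)
  (f' : (U : Scheme.{u}) ⟶ V) (g' : (V : Scheme.{u}) ⟶ U)
  (hf' : f' ≫ V.ι = U.ι ≫ f) (hg' : g' ≫ U.ι = V.ι ≫ g)

include hf' hg' in
/-- section components of a restriction are contained in the section components -/
theorem mem_sectionComponents_of_restrict (u : ↥(U : Scheme.{u}))
    (hu : u ∈ MoreMor.sectionComponents f' g') : U.ι u ∈ MoreMor.sectionComponents f g := by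
  unfold MoreMor.sectionComponents at hu ⊢
  rw [Set.mem_ofPred_eq] at hu ⊢
  have hpre : _root_.IsPreconnected (U.ι '' connectedComponentIn (f' ⁻¹' {f' u}) (g' (f' u))) :=
    isPreconnected_connectedComponentIn.image _ U.ι.continuous.continuousOn
  have hfu : f (U.ι u) = V.ι (f' u) := by
    rw [← Scheme.Hom.comp_apply, ← hf', Scheme.Hom.comp_apply]
  have hgu : g (f (U.ι u)) = U.ι (g' (f' u)) := by
    rw [hfu, ← Scheme.Hom.comp_apply, ← hg', Scheme.Hom.comp_apply]
  have hmem : g' (f' u) ∈ f' ⁻¹' {f' u} := by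
    by_contra h
    rw [connectedComponentIn_eq_empty h] at hu
    exact hu
  rw [hgu]
  refine hpre.subset_connectedComponentIn ⟨_, mem_connectedComponentIn hmem, rfl⟩ ?_
    ⟨u, hu, rfl⟩
  rintro _ ⟨w, hw, rfl⟩
  have hw' : f' w = f' u := (connectedComponentIn_subset (f' ⁻¹' {f' u}) _) hw
  show f (U.ι w) = f (U.ι u)
  rw [← Scheme.Hom.comp_apply, ← hf', Scheme.Hom.comp_apply, hw', hfu]

include hf' hg' in
/-- connected components in fibres of the open subscheme -/
theorem mem_connectedComponentIn_restrict (v : ↥(V : Scheme.{u})) (x : X)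
    (hx : x ∈ connectedComponentIn ((U : Set X) ∩ f ⁻¹' {V.ι v}) (g (V.ι v))) :
    ∃ u : ↥(U : Scheme.{u}), U.ι u = x ∧ u ∈ connectedComponentIn (f' ⁻¹' {v}) (g' v) := by
  have hxS : x ∈ (U : Set X) ∩ f ⁻¹' {V.ι v} := (connectedComponentIn_subset _ _) hx
  have hgS : g (V.ι v) ∈ (U : Set X) ∩ f ⁻¹' {V.ι v} := by
    by_contra h
    rw [connectedComponentIn_eq_empty h] at hx
    exact hx
  have hind : IsInducing (U.ι : ↥(U : Scheme.{u}) → X) := U.ι.isOpenEmbedding.isInducing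
  have hrange : Set.range (U.ι : ↥(U : Scheme.{u}) → X) = (U : Set X) := by
    simpa using U.range_ι
  let S := connectedComponentIn ((U : Set X) ∩ f ⁻¹' {V.ι v}) (g (V.ι v))
  have hSU : S ⊆ Set.range (U.ι : ↥(U : Scheme.{u}) → X) := by
    rw [hrange]
    exact (connectedComponentIn_subset _ _).trans Set.inter_subset_left
  have hpre : _root_.IsPreconnected ((U.ι : ↥(U : Scheme.{u}) → X) ⁻¹' S) := by
    apply hind.isPreconnected_image.mp
    rw [Set.image_preimage_eq_of_subset hSU]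
    exact isPreconnected_connectedComponentIn
  obtain ⟨u, rfl⟩ : x ∈ Set.range (U.ι : ↥(U : Scheme.{u}) → X) := hSU hx
  refine ⟨u, rfl, ?_⟩
  have hg'v : U.ι (g' v) = g (V.ι v) := by
    rw [← Scheme.Hom.comp_apply, hg', Scheme.Hom.comp_apply]
  refine hpre.subset_connectedComponentIn ?_ ?_ hx
  · show U.ι (g' v) ∈ S
    rw [hg'v]
    exact mem_connectedComponentIn hgS
  · intro w hw
    have hw' : U.ι w ∈ (U : Set X) ∩ f ⁻¹' {V.ι v} := (connectedComponentIn_subset _ _) hw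
    have h1 : f (U.ι w) = V.ι v := hw'.2
    rw [← Scheme.Hom.comp_apply, ← hf', Scheme.Hom.comp_apply] at h1
    exact V.ι.isOpenEmbedding.injective h1

end

/-- restriction of a morphism with a section to an open subscheme of the source, over the open
subscheme of the target where the section lands in it -/
theorem exists_restrict {X Y : Scheme.{u}} (f : X ⟶ Y) (g : Y ⟶ X) (hg : g ≫ f = 𝟙 Y)
    (W : X.Opens) :
    ∃ (V : Y.Opens) (U : X.Opens) (f' : (U : Scheme.{u}) ⟶ V) (g' : (V : Scheme.{u}) ⟶ U),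
      V = g ⁻¹ᵁ W ∧ U = W ⊓ f ⁻¹ᵁ V ∧ f' ≫ V.ι = U.ι ≫ f ∧ g' ≫ U.ι = V.ι ≫ g ∧
      g' ≫ f' = 𝟙 _ := by
  have hfg : ∀ t, f (g t) = t := fun t => by
    rw [← Scheme.Hom.comp_apply, hg]; rfl
  let V : Y.Opens := g ⁻¹ᵁ W
  let U : X.Opens := W ⊓ f ⁻¹ᵁ V
  have h1 : Set.range (U.ι ≫ f) ⊆ Set.range V.ι := by
    rintro _ ⟨u, rfl⟩
    rw [Scheme.Opens.range_ι]
    have hu : U.ι u ∈ U := u.2
    exact hu.2
  have h2 : Set.range (V.ι ≫ g) ⊆ Set.range U.ι := by
    rintro _ ⟨v, rfl⟩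
    rw [Scheme.Opens.range_ι]
    have hv : V.ι v ∈ V := v.2
    refine ⟨hv, ?_⟩
    show f ((V.ι ≫ g) v) ∈ V
    rw [Scheme.Hom.comp_apply, hfg]
    exact hv
  let f' : (U : Scheme.{u}) ⟶ V := IsOpenImmersion.lift V.ι (U.ι ≫ f) h1
  let g' : (V : Scheme.{u}) ⟶ U := IsOpenImmersion.lift U.ι (V.ι ≫ g) h2
  have hf' : f' ≫ V.ι = U.ι ≫ f := IsOpenImmersion.lift_fac _ _ _
  have hg' : g' ≫ U.ι = V.ι ≫ g := IsOpenImmersion.lift_fac _ _ _
  refine ⟨V, U, f', g', rfl, rfl, hf', hg', ?_⟩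
  rw [← cancel_mono V.ι, Category.assoc, hf', reassoc_of% hg', hg, Category.id_comp,
    Category.comp_id]

/-- the restriction is quasi-compact when the open subscheme of the source is -/
theorem quasiCompact_restrict {X Y : Scheme.{u}} [QuasiSeparatedSpace Y] (f : X ⟶ Y)
    (W : X.Opens) (hW : IsCompact (W : Set X)) (U : X.Opens) (V : Y.Opens)
    (f' : (U : Scheme.{u}) ⟶ V) (hf' : f' ≫ V.ι = U.ι ≫ f) (hU : U = W ⊓ f ⁻¹ᵁ V) :
    QuasiCompact f' := by
  haveI : CompactSpace ↥(W : Scheme.{u}) := isCompact_iff_compactSpace.mp hW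
  haveI : QuasiCompact (W.ι ≫ f) := inferInstance
  constructor
  intro K hKo hKc
  have hK'o : IsOpen (V.ι '' K) := V.ι.isOpenEmbedding.isOpenMap _ hKo
  have hK'c : IsCompact (V.ι '' K) := hKc.image V.ι.continuous
  have hC : IsCompact ((W.ι ≫ f) ⁻¹' (V.ι '' K)) :=
    QuasiCompact.isCompact_preimage _ hK'o hK'c
  have hC' : IsCompact (W.ι '' ((W.ι ≫ f) ⁻¹' (V.ι '' K))) := hC.image W.ι.continuous
  have heq : U.ι '' (f' ⁻¹' K) = W.ι '' ((W.ι ≫ f) ⁻¹' (V.ι '' K)) := by
    ext x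
    constructor
    · rintro ⟨u, hu, rfl⟩
      have huU' : U.ι u ∈ U := u.2
      have huU : U.ι u ∈ W ⊓ f ⁻¹ᵁ V := hU.le huU'
      refine ⟨⟨U.ι u, huU.1⟩, ?_, rfl⟩
      show f (U.ι u) ∈ V.ι '' K
      refine ⟨f' u, hu, ?_⟩
      rw [← Scheme.Hom.comp_apply, hf', Scheme.Hom.comp_apply]
    · rintro ⟨w, ⟨k, hk, hkw⟩, rfl⟩
      have hkw' : V.ι k = f (W.ι w) := hkw
      have hwU : W.ι w ∈ U := by
        apply hU.ge
        refine ⟨w.2, ?_⟩
        show f (W.ι w) ∈ V
        rw [← hkw']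
        exact k.2
      refine ⟨⟨W.ι w, hwU⟩, ?_, rfl⟩
      show f' ⟨W.ι w, hwU⟩ ∈ K
      have : f' ⟨W.ι w, hwU⟩ = k := by
        apply V.ι.isOpenEmbedding.injective
        rw [← Scheme.Hom.comp_apply, hf', Scheme.Hom.comp_apply, hkw']
        rfl
      rw [this]
      exact hk
  rw [U.ι.isOpenEmbedding.isInducing.isCompact_iff, heq]
  exact hC'

end Groth.Agent.Lib.Helper4.SecRestrict1
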