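import Mathlib
import Groth.Agent.Lib.Helper4.SecNbhd4
import Groth.Agent.Lib.Helper4.QCRed1
import Groth.Agent.Lib.Helper4.SecRestrict1
import Groth.Agent.Lib.Helper7.SmoothBC.GeomRed

/-!
# The section components of a smooth morphism with a section are open (no quasi-compactness) (helper4) (helper4)
-/

set_option backward.isDefEq.respectTransparency.types false
set_option synthInstance.maxHeartbeats 400000
set_option autoImplicit false
set_option linter.unusedSectionVars false
set_option linter.style.haveILetI false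
set_option linter.unusedSimpArgs false
universe u v w
open CategoryTheory CategoryTheory.Limits AlgebraicGeometry TopologicalSpace Topology Opposite
open Groth.Agent.Helper7.GeomConn Groth.Agent.Lib.Helper4.SecNbhd1
open Groth.Agent.Lib.Helper4.QCRed1 Groth.Agent.Lib.Helper4.SecRestrict1

namespace Groth.Agent.Lib.Helper4.SecNbhd5

/-- smooth morphisms are geometrically reduced -/
theorem geometricallyReduced_of_smooth {X Y : Scheme.{u}} (f : X ⟶ Y) [Smooth f] :
    GeometricallyReduced f := by
  constructor
  intro K _ y Z fst snd h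
  haveI : Smooth snd := MorphismProperty.of_isPullback (P := @Smooth) h inferInstance
  exact Groth.Agent.Helper7.SmoothBC.isReduced_of_smooth_over_field K snd

/-- a property stable under base change descends from `f' ≫ i` to `f'` when `i` is a
monomorphism -/
theorem of_comp_mono (P : MorphismProperty Scheme.{u}) [P.IsStableUnderBaseChange]
    {U V S : Scheme.{u}} (f' : U ⟶ V) (i : V ⟶ S) [Mono i] (h : P (f' ≫ i)) : P f' := by
  have h1 : IsPullback (𝟙 V) (𝟙 V) i i := (IsKernelPair.id_of_mono i)
  have h2 : IsPullback (𝟙 U) f' f' (𝟙 V) := IsPullback.of_horiz_isIso ⟨by simp⟩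
  have h3 := h2.paste_vert h1
  rw [Category.comp_id] at h3
  exact MorphismProperty.of_isPullback (P := P) h3 h

/-- the section components of a smooth morphism with a section from a quasi-separated scheme
are open -/
theorem isOpen_sectionComponents_of_smooth {S X : Scheme.{u}} [QuasiSeparatedSpace ↥X]
    (f : X ⟶ S) [Smooth f] (e : S ⟶ X) (he : e ≫ f = 𝟙 S) :
    IsOpen (MoreMor.sectionComponents f e) := by
  haveI : Mono e := mono_of_mono_fac he
  haveI : QuasiSeparatedSpace ↥S := quasiSeparatedSpace_of_quasiSeparated e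
  rw [← subset_interior_iff_isOpen]
  intro x hx
  have hx' : x ∈ connectedComponentIn (f ⁻¹' {f x}) (e (f x)) := hx
  generalize f x = y at hx'
  rw [mem_interior_iff_mem_nhds]
  obtain ⟨W, hWc, hgW, hxW⟩ := exists_compact_open_connectedComponentIn f y (e y) x hx'
  obtain ⟨V, U, f', g', hV, hU, hf', hg', hgf'⟩ := exists_restrict f e he W
  have hyV : y ∈ V := by
    apply hV.ge
    exact hgW
  obtain ⟨v, rfl⟩ : ∃ v : ↥(V : Scheme.{u}), V.ι v = y := ⟨⟨y, hyV⟩, rfl⟩
  have hUW : (U : Set X) ∩ f ⁻¹' {V.ι v} = (W : Set X) ∩ f ⁻¹' {V.ι v} := by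
    ext w
    constructor
    · rintro ⟨hw, hfw⟩
      exact ⟨(hU.le hw).1, hfw⟩
    · rintro ⟨hw, hfw⟩
      refine ⟨hU.ge ⟨hw, ?_⟩, hfw⟩
      show f w ∈ V
      rw [hfw]
      exact hyV
  obtain ⟨u, hux, hu⟩ := mem_connectedComponentIn_restrict f e U V f' g' hf' hg' v x
    (by rw [hUW]; exact hxW)
  haveI : Smooth (f' ≫ V.ι) := by rw [hf']; infer_instance
  haveI : Smooth f' := of_comp_mono @Smooth f' V.ι inferInstance
  haveI : QuasiCompact f' := quasiCompact_restrict f W hWc U V f' hf' hU
  haveI : QuasiSeparatedSpace ↥(U : Scheme.{u}) :=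
    U.ι.isOpenEmbedding.quasiSeparatedSpace
  haveI : QuasiSeparated f' := inferInstance
  haveI : GeometricallyReduced f' := geometricallyReduced_of_smooth f'
  have key := Groth.Agent.Lib.Helper4.SecNbhd4.main' f' g' hgf' v inferInstance hu
  rw [mem_interior_iff_mem_nhds] at key
  have h1 : U.ι '' (MoreMor.sectionComponents f' g') ∈ nhds (U.ι u) :=
    U.ι.isOpenEmbedding.image_mem_nhds.mpr key
  rw [hux] at h1
  refine Filter.mem_of_superset h1 ?_
  rintro _ ⟨w, hw, rfl⟩
  exact mem_sectionComponents_of_restrict f e U V f' g' hf' hg' w hw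

end Groth.Agent.Lib.Helper4.SecNbhd5
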