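import Mathlib
import Groth.Prelude.Def_ega3
import Groth.Prelude.Def_Pic
import Groth.Agent.Lib.Helper4.Seesaw1
import Groth.Agent.Lib.Helper4.SeesawLift2
import Groth.Agent.Lib.Lead.CanonSeesaw

/-!
# The seesaw theorem without reducedness: fibres with h^0(O)=1 and H^1(O)=0; pluricanonical evaluation (helper4)
-/

set_option backward.isDefEq.respectTransparency.types false
set_option synthInstance.maxHeartbeats 400000
set_option autoImplicit false
set_option linter.unusedSectionVars false
set_option linter.style.haveILetI false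
set_option linter.unusedSimpArgs false
universe u v w
open CategoryTheory
open CategoryTheory.Limits
open AlgebraicGeometry
open TopologicalSpace
open Opposite
open Groth.Agent.Helper1
open Groth.Agent.Helper1.QcCech
open Groth.Agent.Helper1.LGen
open Groth.Agent.Helper1.PullSec
open Groth.Agent.Helper1.PullGen
open Groth.Agent.Helper1.TwForm
open Groth.Agent.Helper1.InvInv
open Groth.Agent.Lib.Helper4.FibGen1
open Groth.Agent.Lib.Helper4.FibFunc1
open Groth.Agent.Lib.Helper4.HModDelta1
open Groth.Agent.Lib.Helper4.SeesawLift1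
open Groth.Agent.Lib.Helper4.SeesawLift2
open Groth.Agent.Lib.Helper4.Seesaw1

namespace Groth.Agent.Lib.Helper4.Seesaw2

section A
variable {X Y : Scheme.{u}} (f : X ⟶ Y)

/-- `H^p` of a module trivial on the fibre vanishes when `H^p` of the structure sheaf of the fibre
does -/
theorem subsingleton_fiberH_of_trivial (L : X.Modules) (y : Y) (p : ℕ)
    (τ : CohIII.fiberMod f L y ≅ Coh.structureModule (f.fiber y))
    (h : Subsingleton (Coh.HH (f.fiber y) (Coh.structureModule (f.fiber y)) p)) :
    Subsingleton (CohIII.fiberH f L y p) := by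
  letI : (f.fiber y).Over (Spec (CommRingCat.of (Y.residueField y))) := CohIII.fiberOver f y
  let e1 := ((HModF (Y.residueField y) (f.fiber y) p).mapIso τ).toLinearEquiv
  exact @Function.Injective.subsingleton _ _ _ e1.injective h

end A

section Main
variable {X Y : Scheme.{u}} (f : X ⟶ Y) [IsProper f] [Flat f] [IsLocallyNoetherian Y]

/-- near a fibre on which `L` is trivial, with `h^0(O) = 1` and `H^1(L_y) = 0`, `L` has a free
generator over the preimage of a neighbourhood, and functions descend there (no reducedness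
assumption on the base) -/
theorem exists_isGen_near_fibre_of_h1 (L : X.Modules) (hL : PicF.IsInvertible L) (y : Y)
    (h0 : Module.finrank (Y.residueField y) Γ(f.fiber y, ⊤) = 1)
    (τ : CohIII.fiberMod f L y ≅ Coh.structureModule (f.fiber y))
    (hH1 : Subsingleton (CohIII.fiberH f L y 1)) :
    ∃ (U : Y.Opens) (s : Γ(L, f ⁻¹ᵁ U)), y ∈ U ∧ IsGen L (f ⁻¹ᵁ U) s ∧
      ∀ V : Y.Opens, V ≤ U → Function.Bijective (f.app V) := by
  have hLcoh : Coh.IsCoh L := InvQc.isCoh_of_isInvertible L hL
  have hLfl : FlatMod.IsFlatOver f L :=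
    Groth.Agent.Lib.Helper5.LpullLib.isFlatOver_of_isFinLocFree f L
      (InvInv2.isFinLocFree_of_isInvertible hL)
  let t : Γ(CohIII.fiberMod f L y, ⊤) := τ.inv.app ⊤ (TwForm.one' ⊤)
  have ht : IsGen (CohIII.fiberMod f L y) ⊤ t :=
    PullGen.isGen_of_iso_app τ.symm (AmpleLib.isGen_one' ⊤)
  obtain ⟨V, hyV, s, c, hle, hc, hs⟩ :=
    exists_lift_fibre_section_of_h1 f L hLcoh hLfl y hH1 t
  obtain ⟨U, hU, hyU, hgen⟩ := exists_isGen_preimage f hL y V hyV s t ht c hc hle hs
  obtain ⟨U₁, hyU₁, hU₁⟩ := s2393 f y (bijective_algebraMap_of_finrank f y h0)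
  refine ⟨U ⊓ U₁, res L (f.preimage_mono inf_le_left) (res L hU s), ⟨hyU, hyU₁⟩,
    hgen.res _, ?_⟩
  intro V' hV'
  have := hU₁ V' (hV'.trans inf_le_right)
  exact (ConcreteCategory.isIso_iff_bijective _).1 this

/-- **seesaw without reducedness**: if `L` is trivial on every fibre, `h^0(O_{X_y}) = 1` and
`H^1(O_{X_y}) = 0` for all `y`, then `f_* L` is invertible and the counit `f^* f_* L → L` is an
isomorphism -/
theorem seesaw_of_h1
    (h0 : ∀ y : Y, Module.finrank (Y.residueField y) Γ(f.fiber y, ⊤) = 1)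
    (L : X.Modules) (hL : PicF.IsInvertible L)
    (htriv : ∀ y : Y, Nonempty (CohIII.fiberMod f L y ≅ Coh.structureModule (f.fiber y)))
    (hH1 : ∀ y : Y, Subsingleton (Coh.HH (f.fiber y) (Coh.structureModule (f.fiber y)) 1)) :
    PicF.IsInvertible ((Scheme.Modules.pushforward f).obj L) ∧
      IsIso ((Scheme.Modules.pullbackPushforwardAdjunction f).counit.app L) := by
  have hloc : ∀ y : Y, ∃ (U : Y.Opens) (s : Γ(L, f ⁻¹ᵁ U)), y ∈ U ∧ IsGen L (f ⁻¹ᵁ U) s ∧
      ∀ V : Y.Opens, V ≤ U → Function.Bijective (f.app V) := by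
    intro y
    obtain ⟨τ⟩ := htriv y
    exact exists_isGen_near_fibre_of_h1 f L hL y (h0 y) τ
      (subsingleton_fiberH_of_trivial f L y 1 τ (hH1 y))
  exact ⟨isInvertible_pushforward_of_locGen f L hloc, isIso_counit_of_locGen f L hloc⟩

end Main

section Canon

theorem s19498
    {X S : Scheme.{u}} [IsLocallyNoetherian S] (f : X ⟶ S)
    (hproj : RedSub.IsLocallyProjective (Over.mk f))
    (n : ℕ) [SmoothOfRelativeDimension n f] [GeometricallyConnected f]
    (ω : X.Modules) (hω : Canon.IsTopDiff f n ω) (m : ℕ)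
    (htriv : ∀ s : ↥S, Nonempty ((Scheme.Modules.pullback (f.fiberι s)).obj (CohB1.tensorPow ω m) ≅
      Coh.structureModule (f.fiber s)))
    (hH1 : ∀ s : ↥S, Subsingleton (Coh.HH (f.fiber s) (Coh.structureModule (f.fiber s)) 1)) :
    IsIso ((Scheme.Modules.pullbackPushforwardAdjunction f).counit.app (CohB1.tensorPow ω m)) := by
  haveI : Smooth f := SmoothOfRelativeDimension.smooth n f
  haveI : IsProper f := Groth.Agent.Lead.CanonSeesaw.isProper_of_isLocallyProjective f hproj
  haveI : GeometricallyReduced f :=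
    Groth.Agent.Lib.Helper4.SecNbhd5.geometricallyReduced_of_smooth f
  have hωinv : PicF.IsInvertible ω := Groth.Agent.Lead.CanonSeesaw.isInvertible_of_isTopDiff f n ω hω
  have hL := Groth.Agent.Helper1.TwForm.isInvertible_tensorPow hωinv m
  exact (seesaw_of_h1 f (Groth.Agent.Lead.SeesawCor.finrank_fiber_eq_one f) _ hL htriv hH1).2

end Canon

end Groth.Agent.Lib.Helper4.Seesaw2
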