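import Mathlib

/-!
# Shear maps for group objects; image of T x W -> G open for group schemes over a field (helper4)
-/

set_option backward.isDefEq.respectTransparency.types false
set_option synthInstance.maxHeartbeats 400000
set_option autoImplicit false
set_option linter.unusedSectionVars false
set_option linter.style.haveILetI false
set_option linter.unusedSimpArgs false
universe u v w
open CategoryTheory CategoryTheory.Limits AlgebraicGeometry TopologicalSpace IsLocalRing Opposite
open MonoidalCategory CartesianMonoidalCategory MonObj GrpObj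

namespace Groth.Agent.Lib.Helper4.GrpShear1

section Shear
variable {C : Type*} [Category C] [CartesianMonoidalCategory C] {G : C} [GrpObj G]

/-- the shear map `(t, g) ↦ (t, a(t) * g)` -/
def shear {T : C} (a : T ⟶ G) : T ⊗ G ⟶ T ⊗ G :=
  lift (fst T G) ((fst T G ≫ a) * snd T G)

lemma shear_fst {T : C} (a : T ⟶ G) : shear a ≫ fst T G = fst T G := by simp [shear]
lemma shear_snd {T : C} (a : T ⟶ G) : shear a ≫ snd T G = (fst T G ≫ a) * snd T G := by simp [shear]

lemma shear_comp {T : C} (a b : T ⟶ G) : shear a ≫ shear b = shear (b * a) := by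
  apply CartesianMonoidalCategory.hom_ext
  · simp [shear_fst]
  · rw [Category.assoc, shear_snd, MonObj.comp_mul, ← Category.assoc, shear_fst, shear_snd, shear_snd,
      MonObj.comp_mul, _root_.mul_assoc]

lemma shear_one {T : C} : shear (1 : T ⟶ G) = 𝟙 _ := by
  apply CartesianMonoidalCategory.hom_ext
  · simp [shear_fst]
  · rw [shear_snd, MonObj.comp_one, _root_.one_mul]; simp

instance {T : C} (a : T ⟶ G) : IsIso (shear a) :=
  ⟨shear a⁻¹, by rw [shear_comp, inv_mul_cancel, shear_one], by rw [shear_comp, mul_inv_cancel, shear_one]⟩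

lemma tensor_mul_eq {T W : C} (a : T ⟶ G) (w : W ⟶ G) :
    (a ⊗ₘ w) ≫ μ[G] = (T ◁ w) ≫ shear a ≫ snd T G := by
  rw [shear_snd, MonObj.comp_mul]
  rw [Hom.mul_def]
  congr 1
  apply CartesianMonoidalCategory.hom_ext <;> simp

end Shear

section Sch
variable {K : Type u} [Field K] {G : Over (Spec (CommRingCat.of K))} [GrpObj G]

lemma isOpenMap_snd_left (T H : Over (Spec (CommRingCat.of K))) : IsOpenMap (snd T H).left := by
  rw [Over.snd_left]
  exact (pullback.snd T.hom H.hom).isOpenMap

instance whiskerLeft_isOpenImmersion (T : Over (Spec (CommRingCat.of K))) {W H : Over (Spec (CommRingCat.of K))}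
    (w : W ⟶ H) [IsOpenImmersion w.left] : IsOpenImmersion (T ◁ w).left := by
  rw [Over.whiskerLeft_left]
  infer_instance

theorem isOpen_range_tensor_mul {T W : Over (Spec (CommRingCat.of K))} (a : T ⟶ G) (w : W ⟶ G)
    [IsOpenImmersion w.left] : IsOpen (Set.range ((a ⊗ₘ w) ≫ μ[G]).left) := by
  rw [tensor_mul_eq, Over.comp_left, Over.comp_left]
  have h1 : IsOpenMap ((T ◁ w).left ≫ (shear a).left ≫ (snd T G).left) := by
    have e1 : IsOpenMap (T ◁ w).left := (T ◁ w).left.isOpenEmbedding.isOpenMap
    have : IsIso (shear a).left := inferInstanceAs (IsIso ((Over.forget _).map (shear a)))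
    have e2 : IsOpenMap (shear a).left := (shear a).left.isOpenEmbedding.isOpenMap
    have e3 := isOpenMap_snd_left T G
    simpa using e3.comp (e2.comp e1)
  exact h1.isOpen_range

end Sch

theorem S7459_main (K : Type u) [Field K] (G : Over (Spec (CommRingCat.of K))) [GrpObj G] (W : G.left.Opens) (T : Scheme.{u}) (f : T ⟶ G.left) : IsOpen (Set.range ⇑(((Over.homMk f rfl : Over.mk (f ≫ G.hom) ⟶ G) ⊗ₘ (Over.homMk W.ι rfl : Over.mk (W.ι ≫ G.hom) ⟶ G)) ≫ μ[G]).left) := by
  have : IsOpenImmersion (Over.homMk W.ι rfl : Over.mk (W.ι ≫ G.hom) ⟶ G).left := by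
    simp only [Over.homMk_left]; infer_instance
  exact isOpen_range_tensor_mul _ _

end Groth.Agent.Lib.Helper4.GrpShear1
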