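import Mathlib
import Groth.Agent.S2500
import Groth.Agent.Lib.Helper4.GrpShear1

/-!
# Group schemes over a field: unique irreducible component through each point (Stacks 047J) (helper4)
-/

set_option backward.isDefEq.respectTransparency.types false
set_option synthInstance.maxHeartbeats 400000
set_option autoImplicit false
set_option linter.unusedSectionVars false
set_option linter.style.haveILetI false
set_option linter.unusedSimpArgs false
universe u v w
open CategoryTheory CategoryTheory.Limits AlgebraicGeometry TopologicalSpace IsLocalRing Opposite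
open MonoidalCategory CartesianMonoidalCategory MonObj GrpObj
open Groth.Agent.Lib.Helper4.GrpShear1

namespace Groth.Agent.Lib.Helper4.GrpIrr1

variable {K : Type u} [Field K] (G : Over (Spec (CommRingCat.of K))) [GrpObj G]

/-- the identity point of a group scheme over a field -/
noncomputable def ept : G.left := η[G].left (IsLocalRing.closedPoint K)

lemma eta_apply (t : (𝟙_ (Over (Spec (CommRingCat.of K)))).left) : η[G].left t = ept G := by
  have : Subsingleton (𝟙_ (Over (Spec (CommRingCat.of K)))).left :=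
    inferInstanceAs (Subsingleton (Spec (CommRingCat.of K)))
  rw [ept]; congr 1; exact Subsingleton.elim _ _

/-- closure of the image of an irreducible set is irreducible: helper -/
lemma eq_of_subset_irred {X : Type*} [TopologicalSpace X] {Z₁ Z₂ P : Set X}
    (h₁ : Z₁ ∈ irreducibleComponents X) (h₂ : Z₂ ∈ irreducibleComponents X)
    (hP : IsIrreducible P) (h1 : Z₁ ⊆ closure P) (h2 : Z₂ ⊆ closure P) : Z₁ = Z₂ := by
  have hc : IsIrreducible (closure P) := hP.closure
  have a1 : closure P ⊆ Z₁ := h₁.2 hc h1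
  have a2 : closure P ⊆ Z₂ := h₂.2 hc h2
  exact le_antisymm (h1.trans a2) (h2.trans a1)

/-- a closed irreducible subset is the range of a closed immersion from an irreducible scheme -/
lemma exists_closedImmersion_of_irreducible {X : Scheme.{u}} (Z : Set X) (hc : IsClosed Z)
    (hZ : IsIrreducible Z) :
    ∃ (Z' : Scheme.{u}) (i : Z' ⟶ X), IsClosedImmersion i ∧ IrreducibleSpace Z' ∧ Set.range i = Z := by
  obtain ⟨I, hI⟩ : ∃ I, I = Scheme.IdealSheafData.vanishingIdeal ⟨Z, hc⟩ := ⟨_, rfl⟩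
  have r : Set.range I.subschemeι = Z := by
    rw [Scheme.IdealSheafData.range_subschemeι, hI, Scheme.IdealSheafData.coe_support_vanishingIdeal]
    rfl
  refine ⟨I.subscheme, I.subschemeι, inferInstance, ?_, r⟩
  have hemb := I.subschemeι.isEmbedding
  have h3 : IrreducibleSpace (Set.range I.subschemeι) := by
    rw [r]; exact Subtype.irreducibleSpace hZ
  exact (hemb.toHomeomorph.irreducibleSpace_iff).mpr h3

theorem irreducibleComponent_unique_algClosed [IsAlgClosed K] (Z₁ Z₂ : Set G.left)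
    (h₁ : Z₁ ∈ irreducibleComponents G.left) (h₂ : Z₂ ∈ irreducibleComponents G.left)
    (e₁ : ept G ∈ Z₁) (e₂ : ept G ∈ Z₂) : Z₁ = Z₂ := by
  have hc₁ : IsClosed Z₁ := isClosed_of_mem_irreducibleComponents _ h₁
  have hc₂ : IsClosed Z₂ := isClosed_of_mem_irreducibleComponents _ h₂
  obtain ⟨Z₁', i₁, _, _, r₁⟩ := exists_closedImmersion_of_irreducible Z₁ hc₁ h₁.1
  obtain ⟨Z₂', i₂, _, _, r₂⟩ := exists_closedImmersion_of_irreducible Z₂ hc₂ h₂.1
  obtain ⟨W₁, hW₁⟩ : ∃ W : Over (Spec (CommRingCat.of K)), W = Over.mk (i₁ ≫ G.hom) := ⟨_, rfl⟩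
  obtain ⟨W₂, hW₂⟩ : ∃ W : Over (Spec (CommRingCat.of K)), W = Over.mk (i₂ ≫ G.hom) := ⟨_, rfl⟩
  subst hW₁ hW₂
  obtain ⟨j₁, hj₁⟩ : ∃ j : Over.mk (i₁ ≫ G.hom) ⟶ G, j = Over.homMk i₁ rfl := ⟨_, rfl⟩
  obtain ⟨j₂, hj₂⟩ : ∃ j : Over.mk (i₂ ≫ G.hom) ⟶ G, j = Over.homMk i₂ rfl := ⟨_, rfl⟩
  have hj₁l : j₁.left = i₁ := by rw [hj₁]; rfl
  have hj₂l : j₂.left = i₂ := by rw [hj₂]; rfl
  have gi : GeometricallyIrreducible (Over.mk (i₁ ≫ G.hom)).hom := by
    have : IrreducibleSpace (Over.mk (i₁ ≫ G.hom)).left := ‹IrreducibleSpace Z₁'›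
    exact Groth.Agent.S2500.result _
  have irrP : IrreducibleSpace (Over.mk (i₁ ≫ G.hom) ⊗ Over.mk (i₂ ≫ G.hom)).left := by
    have : IrreducibleSpace (Over.mk (i₂ ≫ G.hom)).left := ‹IrreducibleSpace Z₂'›
    rw [Over.tensorObj_left]
    infer_instance
  have hP : Set.range (j₁ ⊗ₘ j₂).left = (fst G G).left ⁻¹' Z₁ ∩ (snd G G).left ⁻¹' Z₂ := by
    rw [Over.tensorHom_left, Scheme.Pullback.range_map, hj₁l, hj₂l, r₁, r₂, Over.fst_left, Over.snd_left]
  have hPirr : IsIrreducible (μ[G].left '' Set.range (j₁ ⊗ₘ j₂).left) := by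
    rw [← Set.range_comp, ← Set.image_univ]
    exact (IrreducibleSpace.isIrreducible_univ _).image _
      ((μ[G].left.continuous.comp (j₁ ⊗ₘ j₂).left.continuous).continuousOn)
  refine eq_of_subset_irred h₁ h₂ hPirr (subset_trans ?_ subset_closure) (subset_trans ?_ subset_closure)
  · intro z hz
    refine ⟨(lift (𝟙 G) (toUnit G ≫ η[G])).left z, ?_, ?_⟩
    · rw [hP]
      constructor
      · show (fst G G).left ((lift (𝟙 G) (toUnit G ≫ η[G])).left z) ∈ Z₁
        rw [← Scheme.Hom.comp_apply, ← Over.comp_left, lift_fst]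
        simpa using hz
      · show (snd G G).left ((lift (𝟙 G) (toUnit G ≫ η[G])).left z) ∈ Z₂
        rw [← Scheme.Hom.comp_apply, ← Over.comp_left, lift_snd, Over.comp_left, Scheme.Hom.comp_apply,
          eta_apply]
        exact e₂
    · rw [← Scheme.Hom.comp_apply, ← Over.comp_left, MonObj.lift_comp_one_right]
      simp
  · intro z hz
    refine ⟨(lift (toUnit G ≫ η[G]) (𝟙 G)).left z, ?_, ?_⟩
    · rw [hP]
      constructor
      · show (fst G G).left ((lift (toUnit G ≫ η[G]) (𝟙 G)).left z) ∈ Z₁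
        rw [← Scheme.Hom.comp_apply, ← Over.comp_left, lift_fst, Over.comp_left, Scheme.Hom.comp_apply,
          eta_apply]
        exact e₁
      · show (snd G G).left ((lift (toUnit G ≫ η[G]) (𝟙 G)).left z) ∈ Z₂
        rw [← Scheme.Hom.comp_apply, ← Over.comp_left, lift_snd]
        simpa using hz
    · rw [← Scheme.Hom.comp_apply, ← Over.comp_left, MonObj.lift_comp_one_left]
      simp



/-- "at most one irreducible component through `x`" -/
def UniqComp {X : Type*} [TopologicalSpace X] (x : X) : Prop :=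
  ∀ Z₁ ∈ irreducibleComponents X, ∀ Z₂ ∈ irreducibleComponents X, x ∈ Z₁ → x ∈ Z₂ → Z₁ = Z₂

lemma uniqComp_descend {X Y : Type*} [TopologicalSpace X] [TopologicalSpace Y] [QuasiSober X]
    (π : Y → X) (hc : Continuous π) (hg : GeneralizingMap π) (y : Y) (hy : UniqComp y) :
    UniqComp (π y) := by
  intro Z₁ h₁ Z₂ h₂ m₁ m₂
  have hc₁ : IsClosed Z₁ := isClosed_of_mem_irreducibleComponents _ h₁
  have hc₂ : IsClosed Z₂ := isClosed_of_mem_irreducibleComponents _ h₂
  obtain ⟨ξ₁, hξ₁⟩ := QuasiSober.sober h₁.1 hc₁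
  obtain ⟨ξ₂, hξ₂⟩ := QuasiSober.sober h₂.1 hc₂
  have s₁ : ξ₁ ⤳ π y := by rw [specializes_iff_mem_closure, hξ₁.def]; exact m₁
  have s₂ : ξ₂ ⤳ π y := by rw [specializes_iff_mem_closure, hξ₂.def]; exact m₂
  obtain ⟨ξ₁', t₁, rfl⟩ := hg s₁
  obtain ⟨ξ₂', t₂, rfl⟩ := hg s₂
  have k₁ : y ∈ irreducibleComponent ξ₁' :=
    (t₁.mem_closed isClosed_irreducibleComponent mem_irreducibleComponent)
  have k₂ : y ∈ irreducibleComponent ξ₂' :=
    (t₂.mem_closed isClosed_irreducibleComponent mem_irreducibleComponent)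
  have heq := hy _ (irreducibleComponent_mem_irreducibleComponents ξ₁')
    _ (irreducibleComponent_mem_irreducibleComponents ξ₂') k₁ k₂
  have hirr : IsIrreducible (π '' irreducibleComponent ξ₁') :=
    isIrreducible_irreducibleComponent.image _ hc.continuousOn
  refine eq_of_subset_irred h₁ h₂ hirr ?_ ?_
  · rw [← hξ₁.def]
    exact closure_mono (Set.singleton_subset_iff.mpr ⟨ξ₁', mem_irreducibleComponent, rfl⟩)
  · rw [← hξ₂.def]
    refine closure_mono (Set.singleton_subset_iff.mpr ⟨ξ₂', ?_, rfl⟩)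
    rw [heq]; exact mem_irreducibleComponent

section BC
variable (L : Type u) [Field L] [Algebra K L]

/-- base change functor along a field extension -/
noncomputable abbrev bcF : Over (Spec (CommRingCat.of K)) ⥤ Over (Spec (CommRingCat.of L)) :=
  Over.pullback (Spec.map (CommRingCat.ofHom (algebraMap K L)))

noncomputable instance bcGrp : GrpObj ((bcF L).obj G) := Functor.grpObjObj

/-- the projection `G_L → G` -/
noncomputable def bcπ : ((bcF L).obj G).left ⟶ G.left :=
  pullback.fst G.hom (Spec.map (CommRingCat.ofHom (algebraMap K L)))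

instance : Flat (bcπ G L) := by
  have : Flat (Spec.map (CommRingCat.ofHom (algebraMap K L))) := by
    rw [HasRingHomProperty.Spec_iff (P := @Flat)]
    simp only [CommRingCat.hom_ofHom, RingHom.Flat]
    infer_instance
  unfold bcπ; infer_instance

lemma bcπ_ept : bcπ G L (ept ((bcF L).obj G)) = ept G := by
  rw [ept, Functor.obj.η_def, Over.comp_left, Scheme.Hom.comp_apply, ← Scheme.Hom.comp_apply _ (bcπ G L)]
  have : ((bcF L).map η[G]).left ≫ bcπ G L =
      pullback.fst _ _ ≫ η[G].left := by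
    simp only [bcπ, bcF, Over.pullback, Over.homMk_left]
    exact pullback.lift_fst _ _ _
  rw [this, Scheme.Hom.comp_apply, eta_apply]

end BC


section LTrans
variable {C : Type*} [Category C] [CartesianMonoidalCategory C] {H : C} [GrpObj H]

/-- left translation by a global point -/
def ltrans (a : 𝟙_ C ⟶ H) : H ⟶ H := (toUnit H ≫ a) * 𝟙 H

lemma ltrans_comp (a b : 𝟙_ C ⟶ H) : ltrans a ≫ ltrans b = ltrans (b * a) := by
  unfold ltrans
  rw [MonObj.comp_mul, Category.comp_id, ← Category.assoc, toUnit_unique (_ ≫ toUnit H) (toUnit H),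
    ← _root_.mul_assoc, ← MonObj.comp_mul]

lemma ltrans_one : ltrans (1 : 𝟙_ C ⟶ H) = 𝟙 H := by
  unfold ltrans
  rw [MonObj.comp_one, _root_.one_mul]

instance (a : 𝟙_ C ⟶ H) : IsIso (ltrans a) :=
  ⟨ltrans a⁻¹, by rw [ltrans_comp, inv_mul_cancel, ltrans_one],
    by rw [ltrans_comp, mul_inv_cancel, ltrans_one]⟩

lemma eta_ltrans (a : 𝟙_ C ⟶ H) : η[H] ≫ ltrans a = a := by
  unfold ltrans
  rw [MonObj.comp_mul, Category.comp_id, ← Category.assoc, toUnit_unique (_ ≫ toUnit H) (𝟙 _),
    Category.id_comp]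
  have : (η[H] : 𝟙_ C ⟶ H) = 1 := by rw [Hom.one_def, toUnit_unique (toUnit _) (𝟙 _), Category.id_comp]
  rw [this, _root_.mul_one]

end LTrans

theorem uniqComp_ept : UniqComp (ept G) := by
  have h := uniqComp_descend (bcπ G (AlgebraicClosure K)) (bcπ G (AlgebraicClosure K)).continuous
    (Flat.generalizingMap _) (ept ((bcF (AlgebraicClosure K)).obj G))
    (fun Z₁ h₁ Z₂ h₂ m₁ m₂ => irreducibleComponent_unique_algClosed _ Z₁ Z₂ h₁ h₂ m₁ m₂)
  rwa [bcπ_ept] at h

theorem uniqComp_of_point (a : 𝟙_ (Over (Spec (CommRingCat.of K))) ⟶ G) :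
    UniqComp (a.left (IsLocalRing.closedPoint K)) := by
  have : IsIso (ltrans a).left := inferInstanceAs (IsIso ((Over.forget _).map (ltrans a)))
  have h := uniqComp_descend (ltrans a).left (ltrans a).left.continuous (Flat.generalizingMap _)
    (ept G) (uniqComp_ept G)
  have e : (ltrans a).left (ept G) = a.left (IsLocalRing.closedPoint K) := by
    rw [ept, ← Scheme.Hom.comp_apply, ← Over.comp_left, eta_ltrans]
  rwa [e] at h


theorem uniqComp_all (x : G.left) : UniqComp x := by
  obtain ⟨φ, hφ⟩ : ∃ φ : CommRingCat.of K ⟶ G.left.residueField x,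
      Spec.map φ = G.left.fromSpecResidueField x ≫ G.hom := ⟨Spec.preimage _, Spec.map_preimage _⟩
  letI alg : Algebra K (G.left.residueField x) := φ.hom.toAlgebra
  have hφ' : Spec.map (CommRingCat.ofHom (algebraMap K (G.left.residueField x))) =
      G.left.fromSpecResidueField x ≫ G.hom := by
    rw [← hφ]; rfl
  obtain ⟨σl, hσl⟩ : ∃ σl : Spec (CommRingCat.of (G.left.residueField x)) ⟶
      ((bcF (G.left.residueField x)).obj G).left,
      σl = pullback.lift (G.left.fromSpecResidueField x) (𝟙 _) (by rw [Category.id_comp, hφ']) :=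
    ⟨_, rfl⟩
  have h1 : σl ≫ bcπ G (G.left.residueField x) = G.left.fromSpecResidueField x := by
    rw [hσl, bcπ]; exact pullback.lift_fst _ _ _
  have h2 : σl ≫ ((bcF (G.left.residueField x)).obj G).hom = 𝟙 _ := by
    rw [hσl]; exact pullback.lift_snd _ _ _
  obtain ⟨σ, hσ⟩ : ∃ σ : 𝟙_ (Over (Spec (CommRingCat.of (G.left.residueField x)))) ⟶
      (bcF (G.left.residueField x)).obj G, σ.left = σl := ⟨Over.homMk σl h2, rfl⟩
  have h := uniqComp_of_point ((bcF (G.left.residueField x)).obj G) σ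
  have h3 := uniqComp_descend (bcπ G (G.left.residueField x)) (bcπ G (G.left.residueField x)).continuous
    (Flat.generalizingMap _) _ h
  have e : bcπ G (G.left.residueField x)
      (σ.left (IsLocalRing.closedPoint (G.left.residueField x))) = x := by
    rw [hσ, ← Scheme.Hom.comp_apply, h1]
    exact G.left.fromSpecResidueField_apply x _
  rwa [e] at h3


theorem minimalPrimes_subsingleton_of_uniqComp {X : Scheme.{u}} (x : X) (hx : UniqComp x) :
    (minimalPrimes (X.presheaf.stalk x)).Subsingleton := by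
  obtain ⟨ζ, hζ⟩ := QuasiSober.sober (isIrreducible_irreducibleComponent (x := x))
    isClosed_irreducibleComponent
  have s0 : ζ ⤳ x := by
    rw [specializes_iff_mem_closure, hζ.def]; exact mem_irreducibleComponent
  have hr := Scheme.range_fromSpecStalk (X := X) (x := x)
  obtain ⟨p₀, hp₀⟩ : ζ ∈ Set.range (X.fromSpecStalk x) := by rw [hr]; exact s0
  have key : ∀ q : PrimeSpectrum (X.presheaf.stalk x), p₀.asIdeal ≤ q.asIdeal := by
    intro q
    have sy : X.fromSpecStalk x q ⤳ x := by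
      have : X.fromSpecStalk x q ∈ Set.range (X.fromSpecStalk x) := ⟨q, rfl⟩
      rw [hr] at this; exact this
    have hy : X.fromSpecStalk x q ∈ irreducibleComponent x := by
      have k : x ∈ irreducibleComponent (X.fromSpecStalk x q) :=
        sy.mem_closed isClosed_irreducibleComponent mem_irreducibleComponent
      rw [← hx _ (irreducibleComponent_mem_irreducibleComponents (X.fromSpecStalk x q))
        _ (irreducibleComponent_mem_irreducibleComponents x) k mem_irreducibleComponent]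
      exact mem_irreducibleComponent
    have s1 : ζ ⤳ X.fromSpecStalk x q := by
      rw [specializes_iff_mem_closure, hζ.def]; exact hy
    rw [← hp₀] at s1
    have s2 : p₀ ⤳ q := (X.fromSpecStalk x).isEmbedding.isInducing.specializes_iff.mp s1
    exact (PrimeSpectrum.le_iff_specializes p₀ q).mpr s2
  intro p₁ h₁ p₂ h₂
  have a1 : p₁ = p₀.asIdeal :=
    le_antisymm (h₁.2 ⟨p₀.2, bot_le⟩ (key ⟨p₁, h₁.1.1⟩)) (key ⟨p₁, h₁.1.1⟩)
  have a2 : p₂ = p₀.asIdeal :=
    le_antisymm (h₂.2 ⟨p₀.2, bot_le⟩ (key ⟨p₂, h₂.1.1⟩)) (key ⟨p₂, h₂.1.1⟩)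
  rw [a1, a2]


theorem S0350_main (K : Type u) [Field K] (G : Over (Spec (CommRingCat.of K))) [GrpObj G] : (∀ x : G.left, (minimalPrimes (G.left.presheaf.stalk x)).Subsingleton) ∧ ∃! Z : Set G.left, Z ∈ irreducibleComponents (G.left : Type u) ∧ η[G].left (IsLocalRing.closedPoint K) ∈ Z := by
  refine ⟨fun x => minimalPrimes_subsingleton_of_uniqComp x (uniqComp_all G x), ?_⟩
  refine ⟨irreducibleComponent (ept G), ⟨irreducibleComponent_mem_irreducibleComponents _,
    mem_irreducibleComponent⟩, ?_⟩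
  rintro Z ⟨hZ, hm⟩
  exact uniqComp_ept G Z hZ _ (irreducibleComponent_mem_irreducibleComponents _) hm
    mem_irreducibleComponent

end Groth.Agent.Lib.Helper4.GrpIrr1
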