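import Mathlib
import Groth.Agent.Lib.Helper4.GrpShear1
import Groth.Agent.Lib.Helper4.GrpIrr1

/-!
# LFT group schemes over a field: components open, conn comp = irr comp; U*U^-1 covers G0 (S15352) (helper4)
-/

set_option backward.isDefEq.respectTransparency.types false
set_option synthInstance.maxHeartbeats 400000
set_option autoImplicit false
set_option linter.unusedSectionVars false
set_option linter.style.haveILetI false
set_option linter.unusedSimpArgs false
universe u v w
open CategoryTheory CategoryTheory.Limits AlgebraicGeometry TopologicalSpace IsLocalRing Opposite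
open MonoidalCategory CartesianMonoidalCategory MonObj GrpObj
open Groth.Agent.Lib.Helper4.GrpShear1 Groth.Agent.Lib.Helper4.GrpIrr1

namespace Groth.Agent.Lib.Helper4.GrpIrr3

lemma finite_components_meeting {X : Type*} [TopologicalSpace X] (W : Set X) (hW : IsOpen W)
    [NoetherianSpace W] : {C | C ∈ irreducibleComponents X ∧ (C ∩ W).Nonempty}.Finite := by
  have hne : ∀ C : {C | C ∈ irreducibleComponents X ∧ (C ∩ W).Nonempty},
      (C.1 ∩ Set.range (Subtype.val : W → X)).Nonempty := by
    intro C; rw [Subtype.range_coe]; exact C.2.2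
  let φ : {C | C ∈ irreducibleComponents X ∧ (C ∩ W).Nonempty} → irreducibleComponents W :=
    fun C => ⟨Subtype.val ⁻¹' C.1,
      preimage_mem_irreducibleComponents C.2.1 hW.isOpenEmbedding_subtypeVal (hne C)⟩
  have hφ : Function.Injective φ := by
    intro C C' h
    have h' : (Subtype.val : W → X) ⁻¹' C.1 = Subtype.val ⁻¹' C'.1 := congrArg Subtype.val h
    have e1 := closure_image_preimage_of_isPreirreducible (Subtype.val : W → X)
      hW.isOpenEmbedding_subtypeVal.isOpenMap C.1
      (by obtain ⟨x, hx, ⟨w, rfl⟩⟩ := hne C; exact ⟨w, hx⟩) C.2.1.1.2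
      (isClosed_of_mem_irreducibleComponents _ C.2.1)
    have e2 := closure_image_preimage_of_isPreirreducible (Subtype.val : W → X)
      hW.isOpenEmbedding_subtypeVal.isOpenMap C'.1
      (by obtain ⟨x, hx, ⟨w, rfl⟩⟩ := hne C'; exact ⟨w, hx⟩) C'.2.1.1.2
      (isClosed_of_mem_irreducibleComponents _ C'.2.1)
    apply Subtype.ext
    rw [← e1, ← e2, h']
  have : Finite (irreducibleComponents W) :=
    Set.finite_coe_iff.mpr NoetherianSpace.finite_irreducibleComponents
  exact Set.finite_coe_iff.mp (Finite.of_injective φ hφ)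

lemma isOpen_of_mem_irreducibleComponents {X : Scheme.{u}} [IsLocallyNoetherian X]
    (h : ∀ x : X, UniqComp x) {Z : Set X} (hZ : Z ∈ irreducibleComponents X) : IsOpen Z := by
  rw [isOpen_iff_mem_nhds]
  intro x hx
  obtain ⟨W, hW, hxW, -⟩ := exists_isAffineOpen_mem_and_subset (x := x) (U := ⊤) trivial
  haveI : IsNoetherianRing Γ(X, W) := IsLocallyNoetherian.component_noetherian ⟨W, hW⟩
  have hWn : NoetherianSpace ↥(W : Set X) := noetherianSpace_of_isAffineOpen W hW
  have hfin := finite_components_meeting (W : Set X) W.isOpen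
  have hSfin : {C | C ∈ irreducibleComponents X ∧ (C ∩ W).Nonempty ∧ C ≠ Z}.Finite :=
    hfin.subset (fun C hC => ⟨hC.1, hC.2.1⟩)
  have hcl : IsClosed (⋃₀ {C | C ∈ irreducibleComponents X ∧ (C ∩ W).Nonempty ∧ C ≠ Z}) :=
    by rw [Set.sUnion_eq_biUnion]
       exact hSfin.isClosed_biUnion (fun C hC => isClosed_of_mem_irreducibleComponents _ hC.1)
  have hxn : x ∉ ⋃₀ {C | C ∈ irreducibleComponents X ∧ (C ∩ W).Nonempty ∧ C ≠ Z} := by
    rintro ⟨C, ⟨hC, -, hne⟩, hxC⟩
    exact hne (h x C hC Z hZ hxC hx)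
  refine Filter.mem_of_superset ((W.isOpen.inter hcl.isOpen_compl).mem_nhds ⟨hxW, hxn⟩) ?_
  rintro y ⟨hyW, hyn⟩
  by_contra hyZ
  exact hyn ⟨irreducibleComponent y, ⟨irreducibleComponent_mem_irreducibleComponents y,
    ⟨y, mem_irreducibleComponent, hyW⟩, fun heq => hyZ (heq ▸ mem_irreducibleComponent)⟩,
    mem_irreducibleComponent⟩


section LFT
variable {K : Type u} [Field K] (G : Over (Spec (CommRingCat.of K))) [GrpObj G]
  [LocallyOfFiniteType G.hom]

lemma isOpen_irreducibleComponent (x : G.left) : IsOpen (irreducibleComponent x) := by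
  haveI : IsLocallyNoetherian G.left := LocallyOfFiniteType.isLocallyNoetherian G.hom
  exact isOpen_of_mem_irreducibleComponents (uniqComp_all G)
    (irreducibleComponent_mem_irreducibleComponents x)

lemma connectedComponent_eq_irreducibleComponent (x : G.left) :
    connectedComponent x = irreducibleComponent x := by
  apply subset_antisymm
  · exact IsClopen.connectedComponent_subset
      ⟨isClosed_irreducibleComponent, isOpen_irreducibleComponent G x⟩ mem_irreducibleComponent
  · exact isIrreducible_irreducibleComponent.isConnected.isPreconnected.subset_connectedComponent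
      mem_irreducibleComponent

end LFT


section AlgClosed
variable {K : Type u} [Field K] [IsAlgClosed K] (G : Over (Spec (CommRingCat.of K))) [GrpObj G]
  [LocallyOfFiniteType G.hom]

lemma exists_point_of_closed (x : G.left) (hx : IsClosed ({x} : Set G.left)) :
    ∃ a : 𝟙_ (Over (Spec (CommRingCat.of K))) ⟶ G, a.left (IsLocalRing.closedPoint K) = x :=
  ⟨Over.homMk (pointOfClosedPoint G.hom x hx) (pointOfClosedPoint_comp G.hom x hx),
    pointOfClosedPoint_apply G.hom x hx _⟩

lemma exists_closed_mem (S : Set G.left) (hS : IsLocallyClosed S) (hne : S.Nonempty) :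
    ∃ x ∈ S, IsClosed ({x} : Set G.left) := by
  have : JacobsonSpace ↥G.left := LocallyOfFiniteType.jacobsonSpace G.hom
  have h := JacobsonSpace.closure_inter_closedPoints_eq_closure hS
  have h2 : (S ∩ closedPoints G.left).Nonempty := by
    by_contra hcon
    rw [Set.not_nonempty_iff_eq_empty] at hcon
    rw [hcon, closure_empty] at h
    exact (hne.mono subset_closure).ne_empty h.symm
  obtain ⟨x, hxS, hx⟩ := h2
  exact ⟨x, hxS, hx⟩


/-- image of a global point -/
lemma comp_ltrans (a b : 𝟙_ (Over (Spec (CommRingCat.of K))) ⟶ G) : b ≫ ltrans a = a * b := by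
  unfold ltrans
  rw [MonObj.comp_mul, Category.comp_id, ← Category.assoc, toUnit_unique (b ≫ toUnit G) (𝟙 _),
    Category.id_comp]

lemma exists_lift_point (U : G.left.Opens) (b : 𝟙_ (Over (Spec (CommRingCat.of K))) ⟶ G)
    (hb : b.left (IsLocalRing.closedPoint K) ∈ U) :
    ∃ b' : 𝟙_ (Over (Spec (CommRingCat.of K))) ⟶ Over.mk (U.ι ≫ G.hom),
      b' ≫ (Over.homMk U.ι rfl : Over.mk (U.ι ≫ G.hom) ⟶ G) = b := by
  have hr : Set.range b.left ⊆ Set.range U.ι := by
    rintro _ ⟨t, rfl⟩
    have : Subsingleton (𝟙_ (Over (Spec (CommRingCat.of K)))).left :=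
      inferInstanceAs (Subsingleton (Spec (CommRingCat.of K)))
    rw [Scheme.Opens.range_ι, Subsingleton.elim t (IsLocalRing.closedPoint K)]
    exact hb
  refine ⟨Over.homMk (IsOpenImmersion.lift U.ι b.left hr) ?_, ?_⟩
  · simp only [Over.mk_hom]
    rw [IsOpenImmersion.lift_fac_assoc]
    exact Over.w b
  · ext1
    simp only [Over.comp_left, Over.homMk_left]
    exact IsOpenImmersion.lift_fac _ _ _

theorem closed_point_mem_range (U : G.left.Opens) (hne : (U : Set ↥G.left).Nonempty)
    (hU : (U : Set ↥G.left) ⊆ connectedComponent (ept G))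
    (a : 𝟙_ (Over (Spec (CommRingCat.of K))) ⟶ G)
    (ha : a.left (IsLocalRing.closedPoint K) ∈ connectedComponent (ept G)) :
    a.left (IsLocalRing.closedPoint K) ∈ Set.range
      ((((Over.homMk U.ι rfl : Over.mk (U.ι ≫ G.hom) ⟶ G) ⊗ₘ
          ((Over.homMk U.ι rfl : Over.mk (U.ι ≫ G.hom) ⟶ G) ≫ ι[G])) ≫ μ[G]).left) := by
  have : IsIso (ltrans a).left := inferInstanceAs (IsIso ((Over.forget _).map (ltrans a)))
  -- x U
  have hxU_open : IsOpen ((ltrans a).left '' (U : Set G.left)) :=
    (ltrans a).left.isOpenEmbedding.isOpenMap _ U.isOpen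
  have hxU_sub : (ltrans a).left '' (U : Set G.left) ⊆ connectedComponent (ept G) := by
    have h1 : (ltrans a).left '' connectedComponent (ept G) ⊆
        connectedComponent (a.left (IsLocalRing.closedPoint K)) := by
      refine (isPreconnected_connectedComponent.image _
        (ltrans a).left.continuous.continuousOn).subset_connectedComponent ⟨ept G, mem_connectedComponent, ?_⟩
      rw [ept, ← Scheme.Hom.comp_apply, ← Over.comp_left, eta_ltrans]
    rw [← connectedComponent_eq ha] at h1
    exact (Set.image_mono hU).trans h1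
  rw [connectedComponent_eq_irreducibleComponent] at hU hxU_sub
  obtain ⟨u₀, hu₀⟩ := hne
  have hmeet := (isIrreducible_irreducibleComponent (x := ept G)).2 _ _ U.isOpen hxU_open
    ⟨u₀, hU hu₀, hu₀⟩ ⟨_, hxU_sub ⟨u₀, hu₀, rfl⟩, ⟨u₀, hu₀, rfl⟩⟩
  obtain ⟨y, ⟨hyU, u₂, hu₂, hyu₂⟩, hy⟩ := exists_closed_mem G ((U : Set G.left) ∩ (ltrans a).left '' (U : Set G.left))
    (U.isOpen.inter hxU_open).isLocallyClosed (hmeet.mono Set.inter_subset_right)
  obtain ⟨b, hb⟩ := exists_point_of_closed G y hy
  -- c = a⁻¹ * b has value u₂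
  have hc : (a⁻¹ * b).left (IsLocalRing.closedPoint K) = u₂ := by
    rw [← comp_ltrans, Over.comp_left, Scheme.Hom.comp_apply, hb, ← hyu₂, ← Scheme.Hom.comp_apply,
      ← Over.comp_left, ltrans_comp, inv_mul_cancel, ltrans_one]
    rfl
  obtain ⟨b', hb'⟩ := exists_lift_point G U b (by rw [hb]; exact hyU)
  obtain ⟨c', hc'⟩ := exists_lift_point G U (a⁻¹ * b) (by rw [hc]; exact hu₂)
  refine ⟨(lift b' c').left (IsLocalRing.closedPoint K), ?_⟩
  rw [← Scheme.Hom.comp_apply, ← Over.comp_left]
  congr 2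
  rw [← Category.assoc, lift_map, hb', ← Category.assoc, hc', ← Hom.mul_def, ← Hom.inv_def]
  group


end AlgClosed

theorem S15352_main (k : Type u) [Field k] [IsAlgClosed k]
    (G : Over (Spec (CommRingCat.of k))) [GrpObj G] [LocallyOfFiniteType G.hom] (U : G.left.Opens)
    (hne : (U : Set ↥G.left).Nonempty)
    (hU : (U : Set ↥G.left) ⊆ connectedComponent (η[G].left.base (IsLocalRing.closedPoint k))) :
    connectedComponent (η[G].left.base (IsLocalRing.closedPoint k)) ⊆ Set.range
      ((((Over.homMk U.ι rfl : Over.mk (U.ι ≫ G.hom) ⟶ G) ⊗ₘ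
          ((Over.homMk U.ι rfl : Over.mk (U.ι ≫ G.hom) ⟶ G) ≫ ι[G])) ≫ μ[G]).left.base) := by
  change connectedComponent (ept G) ⊆ _
  change (U : Set ↥G.left) ⊆ connectedComponent (ept G) at hU
  have hopen : IsOpen (Set.range
      ((((Over.homMk U.ι rfl : Over.mk (U.ι ≫ G.hom) ⟶ G) ⊗ₘ
          ((Over.homMk U.ι rfl : Over.mk (U.ι ≫ G.hom) ⟶ G) ≫ ι[G])) ≫ μ[G]).left)) := by
    have : IsOpenImmersion ((Over.homMk U.ι rfl : Over.mk (U.ι ≫ G.hom) ⟶ G) ≫ ι[G]).left := by
      have : IsIso ι[G].left := inferInstanceAs (IsIso ((Over.forget _).map ι[G]))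
      rw [Over.comp_left]
      have : IsOpenImmersion (Over.homMk U.ι rfl : Over.mk (U.ι ≫ G.hom) ⟶ G).left :=
        inferInstanceAs (IsOpenImmersion U.ι)
      infer_instance
    exact isOpen_range_tensor_mul _ _
  by_contra hcon
  rw [Set.not_subset] at hcon
  obtain ⟨z, hz, hzn⟩ := hcon
  obtain ⟨x, ⟨hx1, hx2⟩, hx⟩ := exists_closed_mem G
    (connectedComponent (ept G) ∩ (Set.range
      ((((Over.homMk U.ι rfl : Over.mk (U.ι ≫ G.hom) ⟶ G) ⊗ₘ
          ((Over.homMk U.ι rfl : Over.mk (U.ι ≫ G.hom) ⟶ G) ≫ ι[G])) ≫ μ[G]).left))ᶜ)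
    (isClosed_connectedComponent.inter hopen.isClosed_compl).isLocallyClosed ⟨z, hz, hzn⟩
  obtain ⟨a, ha⟩ := exists_point_of_closed G x hx
  apply hx2
  rw [← ha]
  exact closed_point_mem_range G U hne hU a (by rw [ha]; exact hx1)

end Groth.Agent.Lib.Helper4.GrpIrr3
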