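import Mathlib
import Groth.Agent.Lib.Helper4.GrpIrr1

/-!
# Group scheme over a field: clopen neighbourhood of e that is a countable union of affine opens (helper4)
-/

set_option backward.isDefEq.respectTransparency.types false
set_option synthInstance.maxHeartbeats 400000
set_option autoImplicit false
set_option linter.unusedSectionVars false
set_option linter.style.haveILetI false
set_option linter.unusedSimpArgs false
universe u v w
open CategoryTheory CategoryTheory.Limits AlgebraicGeometry TopologicalSpace IsLocalRing Opposite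
open MonoidalCategory CartesianMonoidalCategory MonObj GrpObj
open Groth.Agent.Lib.Helper4.GrpShear1 Groth.Agent.Lib.Helper4.GrpIrr1

namespace Groth.Agent.Lib.Helper4.GrpOpenSub1

variable {K : Type u} [Field K] (G : Over (Spec (CommRingCat.of K))) [GrpObj G]

/-- open subscheme as an object over `k` -/
noncomputable def ov (U : G.left.Opens) : Over (Spec (CommRingCat.of K)) := Over.mk (U.ι ≫ G.hom)

/-- inclusion of an open subscheme, over `k` -/
noncomputable def ovι (U : G.left.Opens) : ov G U ⟶ G := Over.homMk U.ι rfl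

lemma ovι_left (U : G.left.Opens) : (ovι G U).left = U.ι := rfl

instance (U : G.left.Opens) : IsOpenImmersion (ovι G U).left := by
  simp only [ovι, Over.homMk_left]
  exact inferInstanceAs (IsOpenImmersion U.ι)

/-- the "product" `A · B` of two opens of a group scheme over a field -/
noncomputable def mulOpens (A B : G.left.Opens) : G.left.Opens :=
  ⟨Set.range ((ovι G A ⊗ₘ ovι G B) ≫ μ[G]).left, isOpen_range_tensor_mul _ _⟩

lemma range_tensor (A B : G.left.Opens) :
    Set.range (ovι G A ⊗ₘ ovι G B).left =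
      (fst G G).left ⁻¹' (A : Set G.left) ∩ (snd G G).left ⁻¹' (B : Set G.left) := by
  rw [Over.tensorHom_left, Scheme.Pullback.range_map, Over.fst_left, Over.snd_left]
  have hA : Set.range (ovι G A).left = (A : Set G.left) := A.range_ι
  have hB : Set.range (ovι G B).left = (B : Set G.left) := B.range_ι
  rw [hA, hB]

lemma mem_mulOpens (A B : G.left.Opens) (z : (G ⊗ G).left) (h1 : (fst G G).left z ∈ A)
    (h2 : (snd G G).left z ∈ B) : μ[G].left z ∈ mulOpens G A B := by
  have : z ∈ Set.range (ovι G A ⊗ₘ ovι G B).left := by rw [range_tensor]; exact ⟨h1, h2⟩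
  obtain ⟨w, rfl⟩ := this
  exact ⟨w, by rw [Over.comp_left]; rfl⟩

lemma mem_mulOpens_iff (A B : G.left.Opens) (x : G.left) :
    x ∈ mulOpens G A B ↔ ∃ z : (G ⊗ G).left, (fst G G).left z ∈ A ∧ (snd G G).left z ∈ B ∧
      μ[G].left z = x := by
  constructor
  · rintro ⟨w, rfl⟩
    refine ⟨(ovι G A ⊗ₘ ovι G B).left w, ?_, ?_, by rw [Over.comp_left]; rfl⟩
    · have : (ovι G A ⊗ₘ ovι G B).left w ∈ Set.range (ovι G A ⊗ₘ ovι G B).left := ⟨w, rfl⟩
      rw [range_tensor] at this
      exact this.1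
    · have : (ovι G A ⊗ₘ ovι G B).left w ∈ Set.range (ovι G A ⊗ₘ ovι G B).left := ⟨w, rfl⟩
      rw [range_tensor] at this
      exact this.2
  · rintro ⟨z, h1, h2, rfl⟩
    exact mem_mulOpens G A B z h1 h2

lemma isCompact_mulOpens (A B : G.left.Opens) (hA : IsCompact (A : Set G.left))
    (hB : IsCompact (B : Set G.left)) : IsCompact (mulOpens G A B : Set G.left) := by
  have hA' : CompactSpace ↥(A.toScheme) := isCompact_iff_compactSpace.mp hA
  have hB' : CompactSpace ↥(B.toScheme) := isCompact_iff_compactSpace.mp hB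
  have hq : QuasiCompact (B.ι ≫ G.hom) :=
    (HasAffineProperty.iff_of_isAffine (P := @QuasiCompact)).mpr hB'
  have : CompactSpace ↥(pullback (A.ι ≫ G.hom) (B.ι ≫ G.hom)) := inferInstance
  have hc : CompactSpace ↥(ov G A ⊗ ov G B).left := this
  exact isCompact_range (((ovι G A ⊗ₘ ovι G B) ≫ μ[G]).left).continuous

/-- residue field point as an object over `k` -/
noncomputable def pt (x : G.left) : Over (Spec (CommRingCat.of K)) :=
  Over.mk (G.left.fromSpecResidueField x ≫ G.hom)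

noncomputable def ptι (x : G.left) : pt G x ⟶ G := Over.homMk (G.left.fromSpecResidueField x) rfl

lemma ptι_apply (x : G.left) (t : (pt G x).left) : (ptι G x).left t = x := by
  have : (ptι G x).left t ∈ Set.range (G.left.fromSpecResidueField x) := ⟨t, rfl⟩
  rw [Scheme.range_fromSpecResidueField] at this
  exact this

instance (x : G.left) : Nonempty (pt G x).left :=
  inferInstanceAs (Nonempty (Spec (G.left.residueField x)))

theorem closure_subset_mulOpens (A B : G.left.Opens) (he : ept G ∈ B)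
    (hsymm : ∀ y ∈ B, ι[G].left y ∈ B) : closure (A : Set G.left) ⊆ mulOpens G A B := by
  intro x hx
  obtain ⟨ν, hν⟩ : ∃ ν : G ⊗ G ⟶ G, ν = (fst G G)⁻¹ * snd G G := ⟨_, rfl⟩
  obtain ⟨a, ha⟩ : ∃ a : pt G x ⟶ G, a = ptι G x := ⟨_, rfl⟩
  obtain ⟨j, hj⟩ : ∃ j : pt G x ⊗ G ⟶ G ⊗ G, j = a ▷ G := ⟨_, rfl⟩
  have hjf : j ≫ fst G G = fst _ _ ≫ a := by rw [hj]; simp
  have hjs : j ≫ snd G G = snd _ _ := by rw [hj]; simp
  have hE' : IsOpen ((j ≫ ν).left ⁻¹' (B : Set G.left)) := B.2.preimage (j ≫ ν).left.continuous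
  have hV : IsOpen ((snd (pt G x) G).left '' ((j ≫ ν).left ⁻¹' (B : Set G.left))) :=
    isOpenMap_snd_left _ _ _ hE'
  have hxV : x ∈ (snd (pt G x) G).left '' ((j ≫ ν).left ⁻¹' (B : Set G.left)) := by
    obtain ⟨d, hd⟩ : ∃ d : pt G x ⟶ pt G x ⊗ G, d = lift (𝟙 _) a := ⟨_, rfl⟩
    obtain ⟨t⟩ : Nonempty (pt G x).left := inferInstance
    refine ⟨d.left t, ?_, ?_⟩
    · show (j ≫ ν).left (d.left t) ∈ B
      have h1 : d ≫ j ≫ ν = toUnit _ ≫ η[G] := by
        rw [hν, MonObj.comp_mul, MonObj.comp_mul, GrpObj.comp_inv, GrpObj.comp_inv, hjf, hjs, hd]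
        simp [Hom.one_def]
      rw [← Scheme.Hom.comp_apply, ← Over.comp_left, h1, Over.comp_left, Scheme.Hom.comp_apply,
        eta_apply]
      exact he
    · rw [← Scheme.Hom.comp_apply, ← Over.comp_left, hd, lift_snd, ha]
      exact ptι_apply G x t
  obtain ⟨y, hyV, hyA⟩ := mem_closure_iff.mp hx _ hV hxV
  obtain ⟨w, hw, rfl⟩ := hyV
  refine (mem_mulOpens_iff G A B x).mpr ?_
  refine ⟨(lift (snd G G) ν⁻¹).left (j.left w), ?_, ?_, ?_⟩
  · rw [← Scheme.Hom.comp_apply, ← Over.comp_left, lift_fst, ← Scheme.Hom.comp_apply,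
      ← Over.comp_left, hjs]
    exact hyA
  · rw [← Scheme.Hom.comp_apply, ← Over.comp_left, lift_snd, Hom.inv_def, Over.comp_left,
      Scheme.Hom.comp_apply]
    apply hsymm
    rw [← Scheme.Hom.comp_apply, ← Over.comp_left]
    exact hw
  · have h2 : lift (snd G G) ν⁻¹ ≫ μ[G] = fst G G := by
      rw [← Hom.mul_def, hν]
      simp
    rw [← Scheme.Hom.comp_apply, ← Over.comp_left, h2, ← Scheme.Hom.comp_apply, ← Over.comp_left,
      hjf, Over.comp_left, Scheme.Hom.comp_apply, ha]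
    exact ptι_apply G x _

/-- iterated products `B, B·B, (B·B)·B, …` -/
noncomputable def Kseq (B : G.left.Opens) : ℕ → G.left.Opens
  | 0 => B
  | n + 1 => mulOpens G (Kseq B n) B

lemma isCompact_Kseq (B : G.left.Opens) (hB : IsCompact (B : Set G.left)) (n : ℕ) :
    IsCompact (Kseq G B n : Set G.left) := by
  induction n with
  | zero => exact hB
  | succ n ih => exact isCompact_mulOpens G _ _ ih hB

lemma inv_inv_apply (y : G.left) : ι[G].left (ι[G].left y) = y := by
  rw [← Scheme.Hom.comp_apply, ← Over.comp_left, GrpObj.inv_comp_inv]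
  rfl

theorem S1865_main (K : Type u) [Field K] (G : Over (Spec (CommRingCat.of K))) [GrpObj G] :
    ∃ U : G.left.Opens, IsClosed (U : Set G.left) ∧
      η[G].left (IsLocalRing.closedPoint K) ∈ U ∧
      ∃ V : ℕ → G.left.Opens, (∀ n, IsAffineOpen (V n)) ∧
        (U : Set G.left) = ⋃ n, (V n : Set G.left) := by
  obtain ⟨U₀, hU₀, heU₀, -⟩ := exists_isAffineOpen_mem_and_subset (x := ept G)
    (U := (⊤ : G.left.Opens)) trivial
  have hiso : IsIso ι[G].left := inferInstanceAs (IsIso ((Over.forget _).map ι[G]))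
  obtain ⟨B, hBdef⟩ : ∃ B : G.left.Opens, B = U₀ ⊔ ι[G].left ⁻¹ᵁ U₀ := ⟨_, rfl⟩
  have hBc : IsCompact (B : Set G.left) := by
    rw [hBdef]
    have h1 : IsCompact (U₀ : Set G.left) := hU₀.isCompact
    have h2 : IsCompact ((ι[G].left ⁻¹ᵁ U₀ : G.left.Opens) : Set G.left) :=
      (hU₀.preimage_of_isIso ι[G].left).isCompact
    simpa using h1.union h2
  have heB : ept G ∈ B := by rw [hBdef]; exact Or.inl heU₀
  have hsymm : ∀ y ∈ B, ι[G].left y ∈ B := by
    intro y hy
    rw [hBdef] at hy ⊢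
    rcases hy with hy | hy
    · refine Or.inr ?_
      show ι[G].left (ι[G].left y) ∈ U₀
      rw [inv_inv_apply]; exact hy
    · exact Or.inl hy
  obtain ⟨H, hH⟩ : ∃ H : G.left.Opens, H = ⨆ n, Kseq G B n := ⟨_, rfl⟩
  have hmem : ∀ x, x ∈ H ↔ ∃ n, x ∈ Kseq G B n := by
    intro x; rw [hH]; exact Opens.mem_iSup
  have hsub : mulOpens G H B ≤ H := by
    intro x hx
    obtain ⟨z, h1, h2, rfl⟩ := (mem_mulOpens_iff G H B x).mp hx
    obtain ⟨n, hn⟩ := (hmem _).mp h1
    exact (hmem _).mpr ⟨n + 1, mem_mulOpens G _ _ z hn h2⟩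
  have hclosed : IsClosed (H : Set G.left) := by
    rw [← closure_subset_iff_isClosed]
    exact (closure_subset_mulOpens G H B heB hsymm).trans hsub
  refine ⟨H, hclosed, (hmem _).mpr ⟨0, heB⟩, ?_⟩
  -- countable union of affine opens
  have hfin : ∀ n, ∃ s : Set G.left.affineOpens, s.Finite ∧
      (Kseq G B n : Set G.left) = ⋃ i ∈ s, (i : Set G.left) := fun n =>
    isCompact_and_isOpen_iff_finite_and_eq_biUnion_affineOpens.mp
      ⟨isCompact_Kseq G B hBc n, (Kseq G B n).2⟩
  choose s hsfin hs using hfin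
  have hcount : (⋃ n, s n).Countable := Set.countable_iUnion fun n => (hsfin n).countable
  have hne : (⋃ n, s n).Nonempty := by
    have : ept G ∈ (Kseq G B 0 : Set G.left) := heB
    rw [hs 0] at this
    obtain ⟨i, hi, -⟩ := Set.mem_iUnion₂.mp this
    exact ⟨i, Set.mem_iUnion.mpr ⟨0, hi⟩⟩
  obtain ⟨f, hf⟩ := hcount.exists_eq_range hne
  refine ⟨fun m => (f m : G.left.Opens), fun m => (f m).2, ?_⟩
  ext x
  constructor
  · intro hx
    obtain ⟨n, hn⟩ := (hmem x).mp hx
    have hn' : x ∈ (Kseq G B n : Set G.left) := hn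
    rw [hs n] at hn'
    obtain ⟨i, hi, hxi⟩ := Set.mem_iUnion₂.mp hn'
    have : i ∈ Set.range f := by rw [← hf]; exact Set.mem_iUnion.mpr ⟨n, hi⟩
    obtain ⟨m, rfl⟩ := this
    exact Set.mem_iUnion.mpr ⟨m, hxi⟩
  · intro hx
    obtain ⟨m, hm⟩ := Set.mem_iUnion.mp hx
    have : f m ∈ ⋃ n, s n := by rw [hf]; exact ⟨m, rfl⟩
    obtain ⟨n, hn⟩ := Set.mem_iUnion.mp this
    refine (hmem x).mpr ⟨n, ?_⟩
    show x ∈ (Kseq G B n : Set G.left)
    rw [hs n]
    exact Set.mem_iUnion₂.mpr ⟨f m, hn, hm⟩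

end Groth.Agent.Lib.Helper4.GrpOpenSub1
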