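import Mathlib
import Groth.Prelude.Def_SGA3x
import Groth.Agent.Lib.Helper4.GrpOpenSub1
import Groth.Agent.Lib.Helper4.GrpIrr3

/-!
# lft group over artinian local ring: reduction to residue field; components quasi-compact (S5345) (helper4) (helper4)
-/

set_option backward.isDefEq.respectTransparency.types false
set_option synthInstance.maxHeartbeats 400000
set_option autoImplicit false
set_option linter.unusedSectionVars false
set_option linter.style.haveILetI false
set_option linter.unusedSimpArgs false
universe u v w
open CategoryTheory CategoryTheory.Limits AlgebraicGeometry TopologicalSpace Opposite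
open MonoidalCategory CartesianMonoidalCategory MonObj GrpObj
open Groth.Agent.Lib.Helper4.GrpIrr1 Groth.Agent.Lib.Helper4.GrpOpenSub1 Groth.Agent.Lib.Helper4.GrpIrr3

namespace Groth.Agent.Lib.Helper4.GrpArtin1

lemma homeo_image_cc {X Y : Type*} [TopologicalSpace X] [TopologicalSpace Y] (h : X ≃ₜ Y) (x : X) :
    h '' connectedComponent x = connectedComponent (h x) := by
  apply subset_antisymm
  · exact h.continuous.image_connectedComponent_subset x
  · intro y hy
    have := h.symm.continuous.image_connectedComponent_subset (h x) ⟨y, hy, rfl⟩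
    rw [h.symm_apply_apply] at this
    exact ⟨h.symm y, this, h.apply_symm_apply y⟩

section Field
variable {K : Type u} [Field K] (G : Over (Spec (CommRingCat.of K))) [GrpObj G]

/-- a symmetric quasi-compact open neighbourhood of the unit -/
theorem exists_symm_compact_nhd : ∃ B : G.left.Opens, IsCompact (B : Set G.left) ∧ ept G ∈ B ∧
    ∀ y ∈ B, ι[G].left y ∈ B := by
  obtain ⟨U₀, hU₀, heU₀, -⟩ := exists_isAffineOpen_mem_and_subset (x := ept G)
    (U := (⊤ : G.left.Opens)) trivial
  have hiso : IsIso ι[G].left := inferInstanceAs (IsIso ((Over.forget _).map ι[G]))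
  obtain ⟨B, hBdef⟩ : ∃ B : G.left.Opens, B = U₀ ⊔ ι[G].left ⁻¹ᵁ U₀ := ⟨_, rfl⟩
  refine ⟨B, ?_, ?_, ?_⟩
  · rw [hBdef]
    have h1 : IsCompact (U₀ : Set G.left) := hU₀.isCompact
    have h2 : IsCompact ((ι[G].left ⁻¹ᵁ U₀ : G.left.Opens) : Set G.left) :=
      (hU₀.preimage_of_isIso ι[G].left).isCompact
    simpa using h1.union h2
  · rw [hBdef]; exact Or.inl heU₀
  · intro y hy
    rw [hBdef] at hy ⊢
    rcases hy with hy | hy
    · refine Or.inr ?_
      show ι[G].left (ι[G].left y) ∈ U₀
      rw [inv_inv_apply]; exact hy
    · exact Or.inl hy

theorem isCompact_connectedComponent_field [LocallyOfFiniteType G.hom] (g : G.left) :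
    IsCompact (connectedComponent g) := by
  obtain ⟨B, hBc, heB, hsymm⟩ := exists_symm_compact_nhd G
  have hCo : IsOpen (connectedComponent g) := by
    rw [connectedComponent_eq_irreducibleComponent]; exact isOpen_irreducibleComponent G g
  obtain ⟨A, hA, hgA, hAC⟩ := exists_isAffineOpen_mem_and_subset (x := g)
    (U := ⟨connectedComponent g, hCo⟩) mem_connectedComponent
  have hirr : IsIrreducible (connectedComponent g) := by
    rw [connectedComponent_eq_irreducibleComponent]; exact isIrreducible_irreducibleComponent
  have hsub : connectedComponent g ⊆ closure (A : Set G.left) := by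
    have := subset_closure_inter_of_isPreirreducible_of_isOpen hirr.isPreirreducible A.isOpen
      ⟨g, mem_connectedComponent, hgA⟩
    exact this.trans (closure_mono Set.inter_subset_right)
  have h2 := closure_subset_mulOpens G A B heB hsymm
  have hM := isCompact_mulOpens G A B hA.isCompact hBc
  exact hM.of_isClosed_subset isClosed_connectedComponent (hsub.trans h2)

end Field

section Artin
variable (A : Type u) [CommRing A] [IsArtinianRing A] [IsLocalRing A]

/-- the closed point `Spec k → Spec A` -/
noncomputable def resMap : Spec (CommRingCat.of (IsLocalRing.ResidueField A)) ⟶ Spec (CommRingCat.of A) :=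
  Spec.map (CommRingCat.ofHom (IsLocalRing.residue A))

instance : IsClosedImmersion (resMap A) :=
  IsClosedImmersion.spec_of_surjective _ IsLocalRing.residue_surjective

instance : Subsingleton ↥(Spec (CommRingCat.of A)) :=
  inferInstanceAs (Subsingleton (PrimeSpectrum A))

instance : Surjective (resMap A) :=
  ⟨fun y => ⟨IsLocalRing.closedPoint _, Subsingleton.elim _ _⟩⟩

variable {A} (G : Over (Spec (CommRingCat.of A))) [GrpObj G]

/-- the projection `G_k → G` -/
noncomputable def resπ : (Red.bc (resMap A) G).left ⟶ G.left := pullback.fst G.hom (resMap A)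

instance : IsClosedImmersion (resπ G) := by unfold resπ; infer_instance
instance : Surjective (resπ G) := by unfold resπ; infer_instance

instance [LocallyOfFiniteType G.hom] : LocallyOfFiniteType (Red.bc (resMap A) G).hom := by
  show LocallyOfFiniteType (pullback.snd G.hom (resMap A))
  infer_instance

/-- `G_k → G` is a homeomorphism -/
noncomputable def resHomeo : (Red.bc (resMap A) G).left ≃ₜ G.left :=
  (resπ G).isClosedEmbedding.isEmbedding.toHomeomorphOfSurjective (resπ G).surjective

lemma resHomeo_apply (x : (Red.bc (resMap A) G).left) : resHomeo G x = resπ G x := rfl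

theorem main (A : Type u) [CommRing A] [IsArtinianRing A] [IsLocalRing A] (G : Over (Spec (CommRingCat.of A))) [GrpObj G] [LocallyOfFiniteType G.hom]
    (g : G.left) : IsCompact (connectedComponent g) := by
  obtain ⟨x, rfl⟩ := (resHomeo G).surjective g
  rw [← homeo_image_cc (resHomeo G)]
  exact (isCompact_connectedComponent_field _ x).image (resHomeo G).continuous

end Artin
end Groth.Agent.Lib.Helper4.GrpArtin1
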