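import Mathlib
import Groth.Agent.Lib.Helper4.UnivOpen

set_option backward.isDefEq.respectTransparency.types false
set_option synthInstance.maxHeartbeats 400000
set_option autoImplicit false
set_option linter.unusedSectionVars false
set_option linter.style.haveILetI false

namespace Groth.Agent.Lib.Helper4.UOp

universe u
open CategoryTheory CategoryTheory.Limits AlgebraicGeometry EGA43
open scoped Topology

theorem universallyOpen_of_subsingleton_spec (A : CommRingCat.{u}) [Subsingleton (PrimeSpectrum A)]
    {X : Scheme.{u}} (f : X ⟶ Spec A) : UniversallyOpen f := by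
  apply universallyOpen_of_forall_isUnivOpenAt
  intro x
  haveI : Nontrivial A := by
    by_contra hnt
    rw [not_nontrivial_iff_subsingleton] at hnt
    have : IsEmpty (PrimeSpectrum A) := inferInstance
    exact this.false (f.base x)
  obtain ⟨m, hm⟩ := Ideal.exists_maximal A
  letI : Field (A ⧸ m) := Ideal.Quotient.field m
  let v : Spec (.of (A ⧸ m)) ⟶ Spec A := Spec.map (CommRingCat.ofHom (Ideal.Quotient.mk m))
  haveI : IsClosedImmersion v :=
    IsClosedImmersion.spec_of_surjective _ Ideal.Quotient.mk_surjective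
  haveI : Surjective v := ⟨fun p => ⟨(⟨⊥, Ideal.isPrime_bot⟩ : PrimeSpectrum (A ⧸ m)),
    Subsingleton.elim (α := PrimeSpectrum A) _ _⟩⟩
  haveI : IsIntegral (Spec (.of (A ⧸ m))) := inferInstance
  haveI : Subsingleton (Spec (.of (A ⧸ m))) :=
    inferInstanceAs (Subsingleton (PrimeSpectrum (A ⧸ m)))
  apply UO.S4942_main v f x
  intro x₁ _
  exact isUnivOpenAt_of_universallyOpen _ x₁

theorem S2505_main {X Y : Scheme.{u}} (f : X ⟶ Y) [DiscreteTopology Y] : UniversallyOpen f := by
  let U : Y → Y.Opens := fun y => ⟨{y}, isOpen_discrete _⟩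
  have hsup : iSup U = ⊤ := by
    rw [eq_top_iff]
    intro y _
    exact TopologicalSpace.Opens.mem_iSup.2 ⟨y, rfl⟩
  rw [IsZariskiLocalAtTarget.iff_of_iSup_eq_top (P := @UniversallyOpen) U hsup]
  intro y
  haveI : Subsingleton ↥(U y).toScheme := ⟨fun a b => Subtype.ext (a.2.trans b.2.symm)⟩
  haveI : IsAffine (U y).toScheme := by
    let z : ↥(U y).toScheme := ⟨y, rfl⟩
    obtain ⟨_, ⟨W, hW, rfl⟩, hzW, -⟩ := (U y).toScheme.isBasis_affineOpens.exists_subset_of_mem_open
      (Set.mem_univ z) isOpen_univ
    have hWtop : W = ⊤ := by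
      rw [eq_top_iff]
      intro a _
      rw [Subsingleton.elim a z]
      exact hzW
    have hW' : IsAffineOpen W := hW
    rw [hWtop] at hW'
    haveI : IsAffine (⊤ : (U y).toScheme.Opens).toScheme := hW'
    exact IsAffine.of_isIso (U y).toScheme.topIso.inv
  haveI : Subsingleton (PrimeSpectrum Γ((U y).toScheme, ⊤)) :=
    (U y).toScheme.isoSpec.inv.homeomorph.subsingleton
  rw [← MorphismProperty.cancel_right_of_respectsIso (P := @UniversallyOpen) _
    (U y).toScheme.isoSpec.hom]
  exact universallyOpen_of_subsingleton_spec _ _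

end Groth.Agent.Lib.Helper4.UOp
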