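import Mathlib
import Groth.Prelude.Def_SGA3x
import Groth.Agent.Lib.Helper4.GrpArtin1
import Groth.Agent.Lib.Helper4.GCSec1
import Groth.Agent.Lib.Helper4.UnivOpen4
import Groth.Agent.Lib.Helper7.GeomConn.SectionComp

/-!
# connected product over one-point base; neutral component open, stable, normal (S5344) (helper4) (helper4)
-/

set_option backward.isDefEq.respectTransparency.types false
set_option synthInstance.maxHeartbeats 400000
set_option autoImplicit false
set_option linter.unusedSectionVars false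
set_option linter.style.haveILetI false
set_option linter.unusedSimpArgs false
universe u v w
open CategoryTheory CategoryTheory.Limits AlgebraicGeometry TopologicalSpace Opposite
open MonoidalCategory CartesianMonoidalCategory MonObj GrpObj
open Groth.Agent.Lib.Helper4.GrpIrr1 Groth.Agent.Lib.Helper4.GrpOpenSub1 Groth.Agent.Lib.Helper4.GrpIrr3
open Groth.Agent.Lib.Helper4.GrpArtin1

namespace Groth.Agent.Lib.Helper4.GrpArtin2

section General
variable {Y S : Scheme.{u}} (b : Y ⟶ S) (σ : S ⟶ Y) (hσ : σ ≫ b = 𝟙 S)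

include hσ in
open Groth.Agent.Helper7.GeomConn in
theorem geomConn_fibre (s : S) [ConnectedSpace (b.fiber s)] :
    GeometricallyConnected (b.fiberToSpecResidueField s) := by
  refine ⟨fun K _ y Z t a h => ?_⟩
  obtain ⟨φ, rfl⟩ := Spec.map_surjective y
  have hc := Groth.Agent.Lib.Helper4.GCSec1.isConnected_preimage_connectedComponent_of_section φ
    (b.fiberToSpecResidueField s) a t h (fibreSection b σ hσ s) (fibreSection_toSpec b σ hσ s)
    (fibrePt b σ hσ s) ⟨_, rfl⟩
  rw [PreconnectedSpace.connectedComponent_eq_univ, Set.preimage_univ] at hc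
  exact connectedSpace_iff_univ.mpr hc

theorem connectedSpace_fiber [Subsingleton S] [ConnectedSpace Y] (s : S) :
    ConnectedSpace (b.fiber s) := by
  have hr : Function.Surjective (b.fiberι s) := by
    rw [← Set.range_eq_univ, b.range_fiberι]
    exact Set.eq_univ_of_forall fun y => Subsingleton.elim (α := S) _ _
  let e := (b.fiberι s).isEmbedding.toHomeomorphOfSurjective hr
  exact e.connectedSpace_iff.mpr inferInstance

include hσ in
theorem geomConn [Subsingleton S] [ConnectedSpace Y] : GeometricallyConnected b := by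
  rw [GeometricallyConnected.iff_geometricallyConnected_fiber]
  intro s
  haveI := connectedSpace_fiber b s
  exact geomConn_fibre b σ hσ s

include hσ in
theorem connectedSpace_pullback [Subsingleton S] [ConnectedSpace Y] {X : Scheme.{u}} (a : X ⟶ S)
    [ConnectedSpace X] : ConnectedSpace ↥(pullback a b) := by
  haveI := geomConn b σ hσ
  haveI : UniversallyOpen b := Groth.Agent.Lib.Helper4.UOp.S2505_main b
  infer_instance

end General

section Grp
variable {S : Scheme.{u}} [Subsingleton S] (G : Over S) [GrpObj G] (pt : (𝟙_ (Over S)).left)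

lemma eta_apply' (p : (𝟙_ (Over S)).left) : η[G].left p = η[G].left pt := by
  congr 1; exact Subsingleton.elim (α := S) _ _

lemma lift_fst_apply {T : Over S} (g h : T ⟶ G) (t : T.left) :
    (fst G G).left ((lift g h).left t) = g.left t := by
  rw [← Scheme.Hom.comp_apply, ← Over.comp_left, lift_fst]

lemma lift_snd_apply {T : Over S} (g h : T ⟶ G) (t : T.left) :
    (snd G G).left ((lift g h).left t) = h.left t := by
  rw [← Scheme.Hom.comp_apply, ← Over.comp_left, lift_snd]

theorem key (C : G.left.Opens) (hC : (C : Set G.left) = connectedComponent (η[G].left pt))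
    {X : Scheme.{u}} [ConnectedSpace X] (ξ : X ⟶ G.left) (κ : G ⊗ G ⟶ G)
    (z₁ : (G ⊗ G).left) (hz₁f : (fst G G).left z₁ ∈ Set.range ξ) (hz₁s : (snd G G).left z₁ ∈ C)
    (hz₁ : κ.left z₁ = η[G].left pt)
    (z : (G ⊗ G).left) (hzf : (fst G G).left z ∈ Set.range ξ) (hzs : (snd G G).left z ∈ C) :
    κ.left z ∈ connectedComponent (η[G].left pt) := by
  haveI : ConnectedSpace ↥C.toScheme :=
    isConnected_iff_connectedSpace.mp (hC ▸ isConnected_connectedComponent)
  have hrange : Set.range η[G].left ⊆ Set.range C.ι := by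
    rintro _ ⟨p, rfl⟩
    rw [Scheme.Opens.range_ι, hC, eta_apply' G pt p]; exact mem_connectedComponent
  obtain ⟨b, hb⟩ : ∃ b : C.toScheme ⟶ S, b = C.ι ≫ G.hom := ⟨_, rfl⟩
  obtain ⟨σ, hσdef⟩ : ∃ σ : S ⟶ C.toScheme, σ ≫ C.ι = η[G].left :=
    ⟨IsOpenImmersion.lift C.ι η[G].left hrange, IsOpenImmersion.lift_fac _ _ _⟩
  have hσ : σ ≫ b = 𝟙 S := by
    rw [hb, ← Category.assoc, hσdef]; exact Over.w η[G]
  haveI := connectedSpace_pullback b σ hσ (ξ ≫ G.hom)
  obtain ⟨m, hm⟩ : ∃ m : pullback (ξ ≫ G.hom) b ⟶ (G ⊗ G).left,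
      Set.range m = (fst G G).left ⁻¹' Set.range ξ ∩ (snd G G).left ⁻¹' (C : Set G.left) := by
    refine ⟨pullback.map (ξ ≫ G.hom) b G.hom G.hom ξ C.ι (𝟙 S) (by simp) (by simp [hb]), ?_⟩
    rw [Scheme.Pullback.range_map, Scheme.Opens.range_ι]
    rfl
  have hconn : _root_.IsConnected (Set.range (m ≫ κ.left)) := isConnected_range (m ≫ κ.left).continuous
  obtain ⟨w₁, hw₁⟩ : z₁ ∈ Set.range m := by rw [hm]; exact ⟨hz₁f, hz₁s⟩
  obtain ⟨w, hw⟩ : z ∈ Set.range m := by rw [hm]; exact ⟨hzf, hzs⟩
  have he : η[G].left pt ∈ Set.range (m ≫ κ.left) :=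
    ⟨w₁, by rw [Scheme.Hom.comp_apply, hw₁, hz₁]⟩
  have := hconn.isPreconnected.subset_connectedComponent he
  exact this ⟨w, by rw [Scheme.Hom.comp_apply, hw]⟩

theorem stable_mul_inv (hopen : IsOpen (connectedComponent (η[G].left pt)))
    (T : Over S) (g h : T ⟶ G)
    (hg : Set.range g.left ⊆ connectedComponent (η[G].left pt))
    (hh : Set.range h.left ⊆ connectedComponent (η[G].left pt)) :
    Set.range (g * h⁻¹).left ⊆ connectedComponent (η[G].left pt) := by
  rintro _ ⟨t, rfl⟩
  obtain ⟨C, hC⟩ : ∃ C : G.left.Opens, (C : Set G.left) = connectedComponent (η[G].left pt) :=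
    ⟨⟨_, hopen⟩, rfl⟩
  haveI : ConnectedSpace ↥C.toScheme :=
    isConnected_iff_connectedSpace.mp (hC ▸ isConnected_connectedComponent)
  obtain ⟨ν, hν⟩ : ∃ ν : G ⊗ G ⟶ G, ν = fst G G * (snd G G)⁻¹ := ⟨_, rfl⟩
  have hcomp : ∀ {T' : Over S} (g' h' : T' ⟶ G), lift g' h' ≫ ν = g' * h'⁻¹ := by
    intro T' g' h'
    rw [hν, MonObj.comp_mul, GrpObj.comp_inv, lift_fst, lift_snd]
  have hmemC : ∀ x, x ∈ connectedComponent (η[G].left pt) → x ∈ Set.range C.ι := by
    intro x hx; rw [Scheme.Opens.range_ι, hC]; exact hx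
  have hk := key G pt C hC C.ι ν ((lift η[G] η[G]).left pt)
    (by rw [lift_fst_apply]; exact hmemC _ mem_connectedComponent)
    (by rw [lift_snd_apply]; show _ ∈ (C : Set G.left); rw [hC]; exact mem_connectedComponent)
    (by rw [← Scheme.Hom.comp_apply, ← Over.comp_left, hcomp, mul_inv_cancel, ← MonObj.one_eq_one])
    ((lift g h).left t)
    (by rw [lift_fst_apply]; exact hmemC _ (hg ⟨t, rfl⟩))
    (by rw [lift_snd_apply]; show _ ∈ (C : Set G.left); rw [hC]; exact hh ⟨t, rfl⟩)
  rw [← Scheme.Hom.comp_apply, ← Over.comp_left, hcomp] at hk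
  exact hk

theorem stable_conj (hopen : IsOpen (connectedComponent (η[G].left pt)))
    (T : Over S) (g n : T ⟶ G)
    (hn : Set.range n.left ⊆ connectedComponent (η[G].left pt)) :
    Set.range (g * n * g⁻¹).left ⊆ connectedComponent (η[G].left pt) := by
  rintro _ ⟨t, rfl⟩
  obtain ⟨C, hC⟩ : ∃ C : G.left.Opens, (C : Set G.left) = connectedComponent (η[G].left pt) :=
    ⟨⟨_, hopen⟩, rfl⟩
  obtain ⟨κ, hκ⟩ : ∃ κ : G ⊗ G ⟶ G, κ = fst G G * snd G G * (fst G G)⁻¹ := ⟨_, rfl⟩
  have hcomp : ∀ {T' : Over S} (g' n' : T' ⟶ G), lift g' n' ≫ κ = g' * n' * g'⁻¹ := by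
    intro T' g' n'
    rw [hκ, MonObj.comp_mul, MonObj.comp_mul, GrpObj.comp_inv, lift_fst, lift_snd]
  obtain ⟨x, hx⟩ : ∃ x : G.left, x = g.left t := ⟨_, rfl⟩
  let T' : Over S := Over.mk (G.left.fromSpecResidueField x ≫ G.hom)
  let g' : T' ⟶ G := Over.homMk (G.left.fromSpecResidueField x) rfl
  let t' : T'.left := IsLocalRing.closedPoint (G.left.residueField x)
  have hg't : ∀ q : T'.left, g'.left q = x := fun q => Scheme.fromSpecResidueField_apply x q
  haveI : ConnectedSpace ↥(Spec (G.left.residueField x)) := inferInstance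
  have h1 : (fst G G).left ((lift g' (1 : T' ⟶ G)).left t') ∈
      Set.range (G.left.fromSpecResidueField x) := by
    rw [lift_fst_apply]; exact ⟨t', rfl⟩
  have hone : ∀ q : T'.left, (1 : T' ⟶ G).left q = η[G].left pt := by
    intro q
    rw [Hom.one_def, Over.comp_left, Scheme.Hom.comp_apply, eta_apply' G pt]
  have h2 : (snd G G).left ((lift g' (1 : T' ⟶ G)).left t') ∈ C := by
    rw [lift_snd_apply]; show _ ∈ (C : Set G.left)
    rw [hC, hone]
    exact mem_connectedComponent
  have h3 : κ.left ((lift g' (1 : T' ⟶ G)).left t') = η[G].left pt := by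
    rw [← Scheme.Hom.comp_apply, ← Over.comp_left, hcomp, _root_.mul_one, mul_inv_cancel, hone]
  have h4 : (fst G G).left ((lift g n).left t) ∈ Set.range (G.left.fromSpecResidueField x) := by
    rw [lift_fst_apply]; exact ⟨t', (hg't t').trans hx⟩
  have h5 : (snd G G).left ((lift g n).left t) ∈ C := by
    rw [lift_snd_apply]; show _ ∈ (C : Set G.left); rw [hC]; exact hn ⟨t, rfl⟩
  have hk := key G pt C hC (G.left.fromSpecResidueField x) κ _ h1 h2 h3 _ h4 h5
  rw [← Scheme.Hom.comp_apply, ← Over.comp_left, hcomp] at hk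
  exact hk

end Grp

theorem isOpen_cc_artin (A : Type u) [CommRing A] [IsArtinianRing A] [IsLocalRing A]
    (G : Over (Spec (CommRingCat.of A))) [GrpObj G] [LocallyOfFiniteType G.hom] (g : G.left) :
    IsOpen (connectedComponent g) := by
  obtain ⟨x, rfl⟩ := (resHomeo G).surjective g
  rw [← homeo_image_cc (resHomeo G)]
  apply (resHomeo G).isOpenMap
  rw [connectedComponent_eq_irreducibleComponent]; exact isOpen_irreducibleComponent _ x

theorem main (A : Type u) [CommRing A] [IsArtinianRing A] [IsLocalRing A] (G : Over (Spec (CommRingCat.of A))) [GrpObj G] [LocallyOfFiniteType G.hom]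
    (pt : ↥(𝟙_ (Over (Spec (CommRingCat.of A)))).left) :
    IsOpen (connectedComponent (η[G].left.base pt)) ∧
    (∀ (T : Over (Spec (CommRingCat.of A))) (g h : T ⟶ G), Set.range g.left.base ⊆ connectedComponent (η[G].left.base pt) →
      Set.range h.left.base ⊆ connectedComponent (η[G].left.base pt) →
      Set.range (g * h⁻¹).left.base ⊆ connectedComponent (η[G].left.base pt)) ∧
    ∀ (T : Over (Spec (CommRingCat.of A))) (g n : T ⟶ G), Set.range n.left.base ⊆ connectedComponent (η[G].left.base pt) →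
      Set.range (g * n * g⁻¹).left.base ⊆ connectedComponent (η[G].left.base pt) :=
  ⟨isOpen_cc_artin A G _,
    fun T g h hg hh => stable_mul_inv G pt (isOpen_cc_artin A G _) T g h hg hh,
    fun T g n hn => stable_conj G pt (isOpen_cc_artin A G _) T g n hn⟩

end Groth.Agent.Lib.Helper4.GrpArtin2
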