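import Mathlib

/-!
# Closed representability via content ideals: a closed subscheme of P is cut out along P → X when P is covered by charts affine and projective over X (helper4)
-/

set_option backward.isDefEq.respectTransparency.types false
set_option synthInstance.maxHeartbeats 400000
set_option autoImplicit false
set_option linter.unusedSectionVars false
set_option linter.style.haveILetI false
set_option linter.unusedSimpArgs false
universe u v w
open CategoryTheory CategoryTheory.Limits AlgebraicGeometry TopologicalSpace Opposite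

namespace Groth.Agent.Lib.Helper4.ContentRep1

section Alg

/-- The content ideal of an ideal `N` of an `A`-algebra `R`: generated by the values `l n`, `l` an
`A`-linear functional on `R`, `n ∈ N`. -/
noncomputable def contentIdeal (A : Type u) {R : Type u} [CommRing A] [CommRing R] [Algebra A R]
    (N : Ideal R) : Ideal A :=
  ⨆ l : R →ₗ[A] A, Submodule.map l (N.restrictScalars A)

theorem mem_contentIdeal {A R : Type u} [CommRing A] [CommRing R] [Algebra A R]
    (N : Ideal R) (l : R →ₗ[A] A) {n : R} (hn : n ∈ N) : l n ∈ contentIdeal A N := by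
  have h1 : l n ∈ Submodule.map l (N.restrictScalars A) := ⟨n, hn, rfl⟩
  exact (le_iSup (fun l : R →ₗ[A] A => Submodule.map l (N.restrictScalars A)) l) h1

theorem contentIdeal_le_iff {A R : Type u} [CommRing A] [CommRing R] [Algebra A R]
    (N : Ideal R) (K : Ideal A) :
    contentIdeal A N ≤ K ↔ ∀ (l : R →ₗ[A] A) (n : R), n ∈ N → l n ∈ K := by
  constructor
  · intro h l n hn
    exact h (mem_contentIdeal N l hn)
  · intro h
    refine iSup_le fun l => ?_
    rintro _ ⟨n, hn, rfl⟩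
    exact h l n hn

variable {A R C R' : Type u} [CommRing A] [CommRing R] [CommRing C] [CommRing R']
  [Algebra A R] [Algebra A C] [Algebra R R'] [Algebra C R'] [Algebra A R']
  [IsScalarTower A R R'] [IsScalarTower A C R']

theorem contentIdeal_le_ker_of_map_eq_zero [Algebra.IsPushout A C R R'] (N : Ideal R)
    (h : ∀ n ∈ N, algebraMap R R' n = 0) :
    contentIdeal A N ≤ RingHom.ker (algebraMap A C) := by
  rw [contentIdeal_le_iff]
  intro l n hn
  have hb : IsBaseChange C (IsScalarTower.toAlgHom A R R').toLinearMap :=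
    Algebra.IsPushout.out
  let g : R →ₗ[A] C := (Algebra.linearMap A C) ∘ₗ l
  have h1 : hb.lift g ((IsScalarTower.toAlgHom A R R').toLinearMap n) = g n := hb.lift_eq g n
  have h2 : (IsScalarTower.toAlgHom A R R').toLinearMap n = 0 := h n hn
  rw [h2, map_zero] at h1
  rw [RingHom.mem_ker]
  exact h1.symm

theorem map_eq_zero_of_contentIdeal_le_ker [Module.Projective A R] (N : Ideal R)
    (h : contentIdeal A N ≤ RingHom.ker (algebraMap A C)) :
    ∀ n ∈ N, algebraMap R R' n = 0 := by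
  intro n hn
  obtain ⟨s, hs⟩ := (Module.projective_def' (R := A) (P := R)).1 inferInstance
  have h1 : n = Finsupp.linearCombination A id (s n) := by
    have := congrArg (fun f => f n) hs
    simpa using this.symm
  rw [h1, Finsupp.linearCombination_apply, Finsupp.sum, map_sum]
  refine Finset.sum_eq_zero fun m _ => ?_
  have h2 : (s n) m ∈ RingHom.ker (algebraMap A C) := by
    apply h
    exact mem_contentIdeal N ((Finsupp.lapply m) ∘ₗ s) hn
  rw [RingHom.mem_ker] at h2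
  simp only [id_eq]
  rw [Algebra.smul_def, map_mul, ← IsScalarTower.algebraMap_apply A R R',
    IsScalarTower.algebraMap_apply A C R', h2, map_zero, zero_mul]

end Alg

section AlgHom

variable {A R C R' : Type u} [CommRing A] [CommRing R] [CommRing C] [CommRing R']

theorem content_le_ker_of_pushout (a : A →+* R) (b : A →+* C) (a' : C →+* R') (b' : R →+* R')
    (h : IsPushout (CommRingCat.ofHom b) (CommRingCat.ofHom a) (CommRingCat.ofHom a')
      (CommRingCat.ofHom b')) (N : Ideal R) (hN : ∀ n ∈ N, b' n = 0) :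
    @contentIdeal A R _ _ a.toAlgebra N ≤ RingHom.ker b := by
  letI : Algebra A C := b.toAlgebra
  letI : Algebra A R := a.toAlgebra
  letI : Algebra C R' := a'.toAlgebra
  letI : Algebra R R' := b'.toAlgebra
  letI : Algebra A R' := (a'.comp b).toAlgebra
  haveI : IsScalarTower A C R' := .of_algebraMap_eq' rfl
  have hw : a'.comp b = b'.comp a := by
    have := h.w
    rw [← CommRingCat.ofHom_comp, ← CommRingCat.ofHom_comp] at this
    exact congrArg CommRingCat.Hom.hom this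
  haveI : IsScalarTower A R R' := .of_algebraMap_eq' hw
  haveI hP : Algebra.IsPushout A C R R' := CommRingCat.isPushout_iff_isPushout.mp h
  exact contentIdeal_le_ker_of_map_eq_zero (C := C) (R' := R') N hN

theorem map_eq_zero_of_pushout (a : A →+* R) (b : A →+* C) (a' : C →+* R') (b' : R →+* R')
    (h : IsPushout (CommRingCat.ofHom b) (CommRingCat.ofHom a) (CommRingCat.ofHom a')
      (CommRingCat.ofHom b'))
    (hproj : @Module.Projective A _ R _ a.toAlgebra.toModule) (N : Ideal R)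
    (hN : @contentIdeal A R _ _ a.toAlgebra N ≤ RingHom.ker b) : ∀ n ∈ N, b' n = 0 := by
  letI : Algebra A C := b.toAlgebra
  letI : Algebra A R := a.toAlgebra
  letI : Algebra C R' := a'.toAlgebra
  letI : Algebra R R' := b'.toAlgebra
  letI : Algebra A R' := (a'.comp b).toAlgebra
  haveI : IsScalarTower A C R' := .of_algebraMap_eq' rfl
  have hw : a'.comp b = b'.comp a := by
    have := h.w
    rw [← CommRingCat.ofHom_comp, ← CommRingCat.ofHom_comp] at this
    exact congrArg CommRingCat.Hom.hom this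
  haveI : IsScalarTower A R R' := .of_algebraMap_eq' hw
  haveI hP : Algebra.IsPushout A C R R' := CommRingCat.isPushout_iff_isPushout.mp h
  haveI : Module.Projective A R := hproj
  exact map_eq_zero_of_contentIdeal_le_ker (C := C) (R' := R') N hN

end AlgHom

section CatHom

theorem content_le_ker_of_pushout' {A R C R' : CommRingCat.{u}} (a : A ⟶ R) (b : A ⟶ C)
    (a' : C ⟶ R') (b' : R ⟶ R') (h : IsPushout b a a' b') (N : Ideal R)
    (hN : ∀ n ∈ N, b'.hom n = 0) :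
    @contentIdeal A R _ _ a.hom.toAlgebra N ≤ RingHom.ker b.hom :=
  content_le_ker_of_pushout a.hom b.hom a'.hom b'.hom (by simpa using h) N hN

theorem map_eq_zero_of_pushout' {A R C R' : CommRingCat.{u}} (a : A ⟶ R) (b : A ⟶ C)
    (a' : C ⟶ R') (b' : R ⟶ R') (h : IsPushout b a a' b')
    (hproj : @Module.Projective A _ R _ a.hom.toAlgebra.toModule) (N : Ideal R)
    (hN : @contentIdeal A R _ _ a.hom.toAlgebra N ≤ RingHom.ker b.hom) :
    ∀ n ∈ N, b'.hom n = 0 :=
  map_eq_zero_of_pushout a.hom b.hom a'.hom b'.hom (by simpa using h) hproj N hN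

theorem ideal_eq_of_forall_hom {A : Type u} [CommRing A] (J₁ J₂ : Ideal A)
    (h : ∀ (C : CommRingCat.{u}) (ψ : A →+* C), J₁ ≤ RingHom.ker ψ ↔ J₂ ≤ RingHom.ker ψ) :
    J₁ = J₂ := by
  apply le_antisymm
  · have := (h (CommRingCat.of (A ⧸ J₂)) (Ideal.Quotient.mk J₂)).2 (by rw [Ideal.mk_ker])
    rwa [Ideal.mk_ker] at this
  · have := (h (CommRingCat.of (A ⧸ J₁)) (Ideal.Quotient.mk J₁)).1 (by rw [Ideal.mk_ker])
    rwa [Ideal.mk_ker] at this

end CatHom

section Geo

variable {P X : Scheme.{u}} (π : P ⟶ X)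

/-- the chart opens -/
abbrev Wop (Pv : P.Opens) (U : X.Opens) : P.Opens := Pv ⊓ π ⁻¹ᵁ U

theorem Wop_mono (Pv : P.Opens) {U U' : X.Opens} (h : U' ≤ U) : Wop π Pv U' ≤ Wop π Pv U :=
  inf_le_inf_left Pv (π.preimage_mono h)

theorem isPushout_res (Pv : P.Opens) {U U' : X.Opens} (hU : IsAffineOpen U)
    (hU' : IsAffineOpen U') (hle : U' ≤ U) (hW : IsAffineOpen (Wop π Pv U)) :
    IsPushout (X.presheaf.map (homOfLE hle).op) (π.appLE U (Wop π Pv U) inf_le_right)
      (π.appLE U' (Wop π Pv U') inf_le_right)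
      (P.presheaf.map (homOfLE (Wop_mono π Pv hle)).op) := by
  have H : IsPullback (𝟙 P) π π (𝟙 X) := IsPullback.of_horiz_isIso ⟨by simp⟩
  have hUY : Wop π Pv U' = (𝟙 P) ⁻¹ᵁ (Wop π Pv U) ⊓ π ⁻¹ᵁ U' := by
    apply le_antisymm
    · exact le_inf (Wop_mono π Pv hle) inf_le_right
    · exact le_inf (inf_le_left.trans inf_le_left) inf_le_right
  have h1 := (isIso_pushoutSection_iff H (show U' ≤ (𝟙 X) ⁻¹ᵁ U from hle)
    (show Wop π Pv U ≤ π ⁻¹ᵁ U from inf_le_right) hUY).mp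
    (isIso_pushoutSection_of_isAffineOpen H (show U' ≤ (𝟙 X) ⁻¹ᵁ U from hle)
      (show Wop π Pv U ≤ π ⁻¹ᵁ U from inf_le_right) hUY hU hU' hW)
  have h2 := h1.flip
  convert h2 using 1
  · simp only [Scheme.Hom.appLE, Scheme.Hom.id_app]
    exact (Category.id_comp _).symm
  · simp only [Scheme.Hom.appLE, Scheme.Hom.id_app]
    exact (Category.id_comp _).symm

/-- chart hypotheses -/
structure Charts {ι : Type w} (Pv : ι → P.Opens) : Prop where
  cover : ⨆ v, Pv v = ⊤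
  affine : ∀ (v : ι) (U : X.Opens), IsAffineOpen U → IsAffineOpen (Wop π (Pv v) U)
  proj : ∀ (v : ι) (U : X.Opens), IsAffineOpen U →
    @Module.Projective Γ(X, U) _ Γ(P, Wop π (Pv v) U) _
      (π.appLE U (Wop π (Pv v) U) inf_le_right).hom.toAlgebra.toModule

variable {π} {ι : Type w} {Pv : ι → P.Opens} (hc : Charts π Pv) (𝓘 : P.IdealSheafData)

/-- the affine open `W v U` as an element of `P.affineOpens` -/
abbrev Waff (v : ι) (U : X.affineOpens) : P.affineOpens :=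
  ⟨Wop π (Pv v) U.1, hc.affine v U.1 U.2⟩

/-- per-chart content ideal -/
noncomputable def Jv (v : ι) (U : X.affineOpens) : Ideal Γ(X, U.1) :=
  @contentIdeal Γ(X, U.1) Γ(P, Wop π (Pv v) U.1) _ _
    (π.appLE U.1 (Wop π (Pv v) U.1) inf_le_right).hom.toAlgebra
    (𝓘.ideal (Waff hc v U))

theorem Jv_le_ker_iff (v : ι) (U : X.affineOpens) {C R' : CommRingCat.{u}}
    (ψ : Γ(X, U.1) ⟶ C) (inl : C ⟶ R') (inr : Γ(P, Wop π (Pv v) U.1) ⟶ R')
    (h : IsPushout ψ (π.appLE U.1 (Wop π (Pv v) U.1) inf_le_right) inl inr) :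
    Jv hc 𝓘 v U ≤ RingHom.ker ψ.hom ↔ ∀ n ∈ 𝓘.ideal (Waff hc v U), inr.hom n = 0 := by
  constructor
  · intro h1
    exact map_eq_zero_of_pushout' _ ψ inl inr h (hc.proj v U.1 U.2) _ h1
  · intro h1
    exact content_le_ker_of_pushout' _ ψ inl inr h _ h1

theorem Jv_map (v : ι) {U U' : X.affineOpens} (hle : U' ≤ U) :
    (Jv hc 𝓘 v U).map (X.presheaf.map (homOfLE hle).op).hom = Jv hc 𝓘 v U' := by
  apply ideal_eq_of_forall_hom
  intro C ψ
  let ψ' : Γ(X, U'.1) ⟶ C := CommRingCat.ofHom ψ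
  have sq2 := IsPushout.of_hasPushout ψ' (π.appLE U'.1 (Wop π (Pv v) U'.1) inf_le_right)
  have sq1 := isPushout_res π (Pv v) U.2 U'.2 hle (hc.affine v U.1 U.2)
  have sq12 := sq1.paste_horiz sq2
  have hW : Waff hc v U' ≤ Waff hc v U := Wop_mono π (Pv v) hle
  have hI : (𝓘.ideal (Waff hc v U)).map (P.presheaf.map (homOfLE hW).op).hom =
      𝓘.ideal (Waff hc v U') := 𝓘.map_ideal hW
  have e1 : (Jv hc 𝓘 v U).map (X.presheaf.map (homOfLE hle).op).hom ≤ RingHom.ker ψ ↔
      Jv hc 𝓘 v U ≤ RingHom.ker (X.presheaf.map (homOfLE hle).op ≫ ψ').hom := by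
    rw [Ideal.map_le_iff_le_comap, RingHom.comap_ker]
    rfl
  refine e1.trans ((Jv_le_ker_iff hc 𝓘 v U _ _ _ sq12).trans ?_)
  refine Iff.trans ?_ (Jv_le_ker_iff hc 𝓘 v U' ψ' _ _ sq2).symm
  constructor
  · intro h1 n₁ hn₁
    have h2 : 𝓘.ideal (Waff hc v U') ≤ RingHom.ker
        (pushout.inr ψ' (π.appLE U'.1 (Wop π (Pv v) U'.1) inf_le_right)).hom := by
      rw [← hI, Ideal.map_le_iff_le_comap]
      intro n hn
      rw [Ideal.mem_comap, RingHom.mem_ker]
      exact h1 n hn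
    exact h2 hn₁
  · intro h1 n hn
    have h2 : (P.presheaf.map (homOfLE hW).op).hom n ∈ 𝓘.ideal (Waff hc v U') := by
      rw [← hI]
      exact Ideal.mem_map_of_mem _ hn
    exact h1 _ h2

/-- the ideal sheaf -/
noncomputable def Jsheaf : X.IdealSheafData where
  ideal U := ⨆ v, Jv hc 𝓘 v U
  map_ideal_basicOpen U f := by
    rw [Ideal.map_iSup]
    refine iSup_congr fun v => ?_
    exact Jv_map hc 𝓘 v (U := U) (U' := X.affineBasicOpen f) (X.basicOpen_le f)

theorem Jsheaf_ideal (U : X.affineOpens) : (Jsheaf hc 𝓘).ideal U = ⨆ v, Jv hc 𝓘 v U := rfl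

end Geo

section UP

theorem section_eq_zero_of_locally {Q : Scheme.{u}} {V : Q.Opens} (s : Γ(Q, V))
    (h : ∀ z ∈ V, ∃ (O : Q.Opens) (hO : O ≤ V), z ∈ O ∧
      (Q.presheaf.map (homOfLE hO).op).hom s = 0) : s = 0 := by
  choose O hO hz hs using h
  apply Q.sheaf.eq_of_locally_eq' (fun z : V => O z.1 z.2) V (fun z => homOfLE (hO z.1 z.2))
  · intro z hzV
    rw [Opens.mem_iSup]
    exact ⟨⟨z, hzV⟩, hz z hzV⟩
  · intro z
    refine (hs z.1 z.2).trans ?_
    exact (map_zero _).symm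

variable {P X : Scheme.{u}} {π : P ⟶ X} {ι : Type w} {Pv : ι → P.Opens} (hc : Charts π Pv)
  (𝓘 : P.IdealSheafData) {T Q : Scheme.{u}} {x : T ⟶ X} {g : Q ⟶ P} {π' : Q ⟶ T}
  (H : IsPullback g π' π x)

include hc H in
theorem sq_chart (v : ι) (U : X.affineOpens) (T' : T.Opens) (hT' : IsAffineOpen T')
    (hle : T' ≤ x ⁻¹ᵁ U.1) :
    IsPushout (x.appLE U.1 T' hle) (π.appLE U.1 (Wop π (Pv v) U.1) inf_le_right)
      (π'.appLE T' (g ⁻¹ᵁ (Wop π (Pv v) U.1) ⊓ π' ⁻¹ᵁ T') inf_le_right)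
      (g.appLE (Wop π (Pv v) U.1) (g ⁻¹ᵁ (Wop π (Pv v) U.1) ⊓ π' ⁻¹ᵁ T') inf_le_left) :=
  ((isIso_pushoutSection_iff H hle (show Wop π (Pv v) U.1 ≤ π ⁻¹ᵁ U.1 from inf_le_right) rfl).mp
    (isIso_pushoutSection_of_isAffineOpen H hle
      (show Wop π (Pv v) U.1 ≤ π ⁻¹ᵁ U.1 from inf_le_right) rfl U.2 hT'
      (hc.affine v U.1 U.2))).flip

include H in
theorem up_of_ker_g (hg : ∀ W : P.affineOpens, 𝓘.ideal W ≤ RingHom.ker (g.app W.1).hom)
    (U : X.affineOpens) : (Jsheaf hc 𝓘).ideal U ≤ RingHom.ker (x.app U.1).hom := by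
  rw [Jsheaf_ideal]
  refine iSup_le fun v => ?_
  intro a ha
  rw [RingHom.mem_ker]
  apply section_eq_zero_of_locally
  intro t ht
  obtain ⟨T', hT', htT', hT'U⟩ := Opens.isBasis_iff_nbhd.1 (T.isBasis_affineOpens) ht
  refine ⟨T', hT'U, htT', ?_⟩
  have sq := sq_chart hc H v U T' hT' hT'U
  have h1 : Jv hc 𝓘 v U ≤ RingHom.ker (x.appLE U.1 T' hT'U).hom := by
    rw [Jv_le_ker_iff hc 𝓘 v U _ _ _ sq]
    intro n hn
    have h2 : (g.app (Wop π (Pv v) U.1)).hom n = 0 := hg (Waff hc v U) hn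
    show ((g.app (Wop π (Pv v) U.1) ≫ Q.presheaf.map (homOfLE _).op)).hom n = 0
    rw [CommRingCat.comp_apply, h2, map_zero]
  have h3 := h1 ha
  rw [RingHom.mem_ker] at h3
  exact h3

include H in
theorem ker_g_of_up
    (hx : ∀ U : X.affineOpens, (Jsheaf hc 𝓘).ideal U ≤ RingHom.ker (x.app U.1).hom)
    (W : P.affineOpens) : 𝓘.ideal W ≤ RingHom.ker (g.app W.1).hom := by
  intro n hn
  rw [RingHom.mem_ker]
  apply section_eq_zero_of_locally
  intro z hz
  have hp : g z ∈ W.1 := hz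
  obtain ⟨v, hv⟩ : ∃ v, g z ∈ Pv v := by
    have : g z ∈ (⨆ v, Pv v) := by rw [hc.cover]; trivial
    exact Opens.mem_iSup.1 this
  obtain ⟨U, hU, hξU, -⟩ := Opens.isBasis_iff_nbhd.1 (X.isBasis_affineOpens)
    (show π (g z) ∈ (⊤ : X.Opens) from trivial)
  have hxt : x (π' z) = π (g z) := by
    have := congrArg (fun f : Q ⟶ X => f z) H.w
    simpa using this.symm
  have ht : π' z ∈ x ⁻¹ᵁ U := by
    show x (π' z) ∈ U
    rw [hxt]; exact hξU
  obtain ⟨T', hT', htT', hT'U⟩ := Opens.isBasis_iff_nbhd.1 (T.isBasis_affineOpens) ht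
  let Ua : X.affineOpens := ⟨U, hU⟩
  have hpW₀ : g z ∈ Wop π (Pv v) U := ⟨hv, hξU⟩
  obtain ⟨W₁, hW₁, hpW₁, hW₁le⟩ := Opens.isBasis_iff_nbhd.1 (P.isBasis_affineOpens)
    (show g z ∈ W.1 ⊓ Wop π (Pv v) U from ⟨hp, hpW₀⟩)
  let W₁a : P.affineOpens := ⟨W₁, hW₁⟩
  have hW₁W : W₁a ≤ W := hW₁le.trans inf_le_left
  have hW₁W₀ : W₁a ≤ Waff hc v Ua := hW₁le.trans inf_le_right
  let O : Q.Opens := g ⁻¹ᵁ W₁ ⊓ π' ⁻¹ᵁ T'
  have hOW : O ≤ g ⁻¹ᵁ W.1 := inf_le_left.trans (g.preimage_mono hW₁W)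
  refine ⟨O, hOW, ⟨hpW₁, htT'⟩, ?_⟩
  have sq := sq_chart hc H v Ua T' hT' hT'U
  have h1 : Jv hc 𝓘 v Ua ≤ RingHom.ker (x.appLE U T' hT'U).hom := by
    intro a ha
    have h2 : a ∈ (Jsheaf hc 𝓘).ideal Ua := by
      rw [Jsheaf_ideal]; exact (le_iSup (fun v => Jv hc 𝓘 v Ua) v) ha
    have h3 := hx Ua h2
    rw [RingHom.mem_ker] at h3 ⊢
    show ((x.app U ≫ T.presheaf.map (homOfLE _).op)).hom a = 0
    rw [CommRingCat.comp_apply, h3, map_zero]
  have h4 := (Jv_le_ker_iff hc 𝓘 v Ua _ _ _ sq).1 h1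
  have hOUY : O ≤ g ⁻¹ᵁ (Wop π (Pv v) U) ⊓ π' ⁻¹ᵁ T' :=
    inf_le_inf_right _ (g.preimage_mono hW₁W₀)
  have h5 : 𝓘.ideal W₁a ≤ RingHom.ker (g.appLE W₁ O inf_le_left).hom := by
    rw [← 𝓘.map_ideal hW₁W₀, Ideal.map_le_iff_le_comap]
    intro m hm
    rw [Ideal.mem_comap, RingHom.mem_ker]
    have h6 := h4 m hm
    have e : P.presheaf.map (homOfLE hW₁W₀).op ≫ g.appLE W₁ O inf_le_left =
        g.appLE (Wop π (Pv v) U) _ inf_le_left ≫ Q.presheaf.map (homOfLE hOUY).op := by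
      rw [Scheme.Hom.map_appLE, Scheme.Hom.appLE_map]
    have := congrArg (fun f => f.hom m) e
    simp only [CommRingCat.comp_apply] at this
    rw [this, h6, map_zero]
  have h7 : (P.presheaf.map (homOfLE hW₁W).op).hom n ∈ 𝓘.ideal W₁a :=
    𝓘.ideal_le_comap_ideal hW₁W hn
  have h8 := h5 h7
  rw [RingHom.mem_ker] at h8
  have e2 : g.app W.1 ≫ Q.presheaf.map (homOfLE hOW).op =
      P.presheaf.map (homOfLE hW₁W).op ≫ g.appLE W₁ O inf_le_left := by
    rw [Scheme.Hom.map_appLE]; rfl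
  have := congrArg (fun f => f.hom n) e2
  simp only [CommRingCat.comp_apply] at this
  rw [this]; exact h8

end UP

section Star

theorem lift_iff_ker {Z X T : Scheme.{u}} (j : Z ⟶ X) [IsClosedImmersion j] (x : T ⟶ X) :
    (∃ l : T ⟶ Z, l ≫ j = x) ↔
      ∀ U : X.affineOpens, j.ker.ideal U ≤ RingHom.ker (x.app U.1).hom := by
  constructor
  · rintro ⟨l, rfl⟩ U
    exact ((Scheme.Hom.le_ker_comp l j) U).trans (Scheme.Hom.ideal_ker_le _ U)
  · intro h
    have h1 : j.ker ≤ x.ker := by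
      rw [Scheme.Hom.ker]
      exact Scheme.IdealSheafData.le_ofIdeals_iff.2 h
    exact ⟨IsClosedImmersion.lift j x h1, IsClosedImmersion.lift_fac j x h1⟩

theorem main_star {P X E : Scheme.{u}} (π : P ⟶ X) {ι : Type w} (Pv : ι → P.Opens)
    (hc : Charts π Pv) (i : E ⟶ P) [IsClosedImmersion i] :
    ∃ (Z : Scheme.{u}) (j : Z ⟶ X), IsClosedImmersion j ∧
      ∀ (T Q : Scheme.{u}) (x : T ⟶ X) (g : Q ⟶ P) (π' : Q ⟶ T), IsPullback g π' π x →
        ((∃ l : Q ⟶ E, l ≫ i = g) ↔ ∃ z : T ⟶ Z, z ≫ j = x) := by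
  refine ⟨(Jsheaf hc i.ker).subscheme, (Jsheaf hc i.ker).subschemeι, inferInstance, ?_⟩
  intro T Q x g π' H
  rw [lift_iff_ker, lift_iff_ker, Scheme.IdealSheafData.ker_subschemeι]
  exact ⟨fun h => up_of_ker_g hc i.ker H h, fun h => ker_g_of_up hc i.ker H h⟩

end Star

end Groth.Agent.Lib.Helper4.ContentRep1
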