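import Mathlib
import Groth.Agent.Lib.Helper4.ContentRep1

/-!
# Closed representability over a field: loci cut out along Y ×_k X → X (helper4)
-/

set_option backward.isDefEq.respectTransparency.types false
set_option synthInstance.maxHeartbeats 400000
set_option autoImplicit false
set_option linter.unusedSectionVars false
set_option linter.style.haveILetI false
set_option linter.unusedSimpArgs false
universe u v w
open CategoryTheory CategoryTheory.Limits AlgebraicGeometry TopologicalSpace Opposite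
open MonoidalCategory CartesianMonoidalCategory

namespace Groth.Agent.Lib.Helper4.ContentRep2
open Groth.Agent.Lib.Helper4.ContentRep1

theorem projective_of_pushout_field {K A B R : CommRingCat.{u}} (hK : IsField K) (ka : K ⟶ A)
    (kb : K ⟶ B) (ar : A ⟶ R) (br : B ⟶ R) (h : IsPushout ka kb ar br) :
    @Module.Projective A _ R _ ar.hom.toAlgebra.toModule := by
  letI : Algebra K A := ka.hom.toAlgebra
  letI : Algebra K B := kb.hom.toAlgebra
  letI : Algebra A R := ar.hom.toAlgebra
  letI : Algebra B R := br.hom.toAlgebra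
  letI : Algebra K R := (ar.hom.comp ka.hom).toAlgebra
  haveI : IsScalarTower K A R := .of_algebraMap_eq' rfl
  have hw : ar.hom.comp ka.hom = br.hom.comp kb.hom := by
    have := h.w
    rw [← CommRingCat.hom_comp, ← CommRingCat.hom_comp, this]
  haveI : IsScalarTower K B R := .of_algebraMap_eq' hw
  have hP : Algebra.IsPushout K A B R :=
    CommRingCat.isPushout_iff_isPushout.mp h
  have hb : IsBaseChange A (IsScalarTower.toAlgHom K B R).toLinearMap := hP.out
  haveI hfree : Module.Free K B := by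
    letI : Field K := hK.toField
    exact Module.Free.of_divisionRing K B
  haveI : Module.Free A R := hb.free
  infer_instance

section Field

variable {S : Scheme.{u}} (Y X : Over S)

theorem isPullback_tensor : IsPullback (fst Y X).left (snd Y X).left Y.hom X.hom := by
  rw [Over.fst_left, Over.snd_left]
  exact IsPullback.of_hasPullback _ _

theorem isPullback_whiskerLeft {T : Over S} (x : T ⟶ X) :
    IsPullback (Y ◁ x).left (snd Y T).left (snd Y X).left x.left := by
  have t := isPullback_tensor Y X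
  have s0 := isPullback_tensor Y T
  have e1 : (Y ◁ x).left ≫ (fst Y X).left = (fst Y T).left := by
    rw [Over.fst_left, Over.fst_left]; exact Over.whiskerLeft_left_fst x
  have e2 : x.left ≫ X.hom = T.hom := Over.w x
  have p : (Y ◁ x).left ≫ (snd Y X).left = (snd Y T).left ≫ x.left := by
    rw [Over.snd_left, Over.snd_left]; exact Over.whiskerLeft_left_snd x
  have s1 : IsPullback ((Y ◁ x).left ≫ (fst Y X).left) (snd Y T).left Y.hom (x.left ≫ X.hom) := by
    rw [e1, e2]; exact s0
  exact IsPullback.of_right s1 p t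

theorem charts_field [IsAffine S] (hK : IsField Γ(S, ⊤)) :
    Charts (snd Y X).left (fun V : Y.left.affineOpens => (fst Y X).left ⁻¹ᵁ V.1) := by
  have H := isPullback_tensor Y X
  have hS : IsAffineOpen (⊤ : S.Opens) := isAffineOpen_top S
  refine ⟨?_, ?_, ?_⟩
  · rw [← Scheme.Hom.preimage_iSup, iSup_affineOpens_eq_top]
    rfl
  · intro V U hU
    have hUST : U ≤ X.hom ⁻¹ᵁ ⊤ := le_top
    have hUSX : V.1 ≤ Y.hom ⁻¹ᵁ ⊤ := le_top
    haveI : IsAffine (⊤ : S.Opens).toScheme := hS
    haveI : IsAffine U.toScheme := hU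
    haveI : IsAffine V.1.toScheme := V.2
    exact IsAffine.of_isIso (Scheme.Hom.isPullback_resLE H hUST hUSX rfl).isoPullback.hom
  · intro V U hU
    have hUST : U ≤ X.hom ⁻¹ᵁ ⊤ := le_top
    have hUSX : V.1 ≤ Y.hom ⁻¹ᵁ ⊤ := le_top
    have sq := (isIso_pushoutSection_iff H hUST hUSX rfl).mp
      (isIso_pushoutSection_of_isAffineOpen H hUST hUSX rfl hS hU V.2)
    exact projective_of_pushout_field hK _ _ _ _ sq.flip

theorem isField_Γ_Spec (k : Type u) [Field k] :
    IsField Γ(Spec (CommRingCat.of k), ⊤) :=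
  (Scheme.ΓSpecIso (CommRingCat.of k)).commRingCatIsoToRingEquiv.toMulEquiv.isField
    (Field.toIsField k)

theorem field_rep (k : Type u) [Field k] (Y X : Over (Spec (CommRingCat.of k)))
    {E : Scheme.{u}} (i : E ⟶ (Y ⊗ X).left) [IsClosedImmersion i] :
    ∃ (Z : Over (Spec (CommRingCat.of k))) (j : Z ⟶ X), IsClosedImmersion j.left ∧
      ∀ (T : Over (Spec (CommRingCat.of k))) (x : T ⟶ X),
        (∃ l : (Y ⊗ T).left ⟶ E, l ≫ i = (Y ◁ x).left) ↔ ∃ z : T ⟶ Z, z ≫ j = x := by
  obtain ⟨Z₀, j₀, hj₀, hrep⟩ := main_star (snd Y X).left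
    (fun V : Y.left.affineOpens => (fst Y X).left ⁻¹ᵁ V.1)
    (charts_field Y X (isField_Γ_Spec k)) i
  refine ⟨Over.mk (j₀ ≫ X.hom), Over.homMk j₀ rfl, hj₀, ?_⟩
  intro T x
  rw [hrep T.left (Y ⊗ T).left x.left (Y ◁ x).left (snd Y T).left (isPullback_whiskerLeft Y X x)]
  constructor
  · rintro ⟨z₀, hz₀⟩
    refine ⟨Over.homMk z₀ ?_, ?_⟩
    · show z₀ ≫ j₀ ≫ X.hom = T.hom
      rw [← Category.assoc, hz₀]; exact Over.w x
    · ext; exact hz₀
  · rintro ⟨z, rfl⟩
    exact ⟨z.left, rfl⟩

end Field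

section Eq

theorem lift_equalizer_iff {S : Scheme.{u}} {Q W : Over S} (a b : Q ⟶ W) {Q' : Over S}
    (h : Q' ⟶ Q) :
    (∃ l : Q'.left ⟶ (equalizer a b).left, l ≫ (equalizer.ι a b).left = h.left) ↔
      h ≫ a = h ≫ b := by
  constructor
  · rintro ⟨l, hl⟩
    ext
    rw [Over.comp_left, Over.comp_left, ← hl, Category.assoc, Category.assoc, ← Over.comp_left,
      ← Over.comp_left, equalizer.condition]
  · intro e
    refine ⟨(equalizer.lift h e).left, ?_⟩
    rw [← Over.comp_left, equalizer.lift_ι]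

theorem eq_rep (k : Type u) [Field k] (Y X W : Over (Spec (CommRingCat.of k)))
    [IsSeparated W.hom] (a b : Y ⊗ X ⟶ W) :
    ∃ (Z : Over (Spec (CommRingCat.of k))) (j : Z ⟶ X), IsClosedImmersion j.left ∧
      ∀ (T : Over (Spec (CommRingCat.of k))) (x : T ⟶ X),
        (Y ◁ x) ≫ a = (Y ◁ x) ≫ b ↔ ∃ z : T ⟶ Z, z ≫ j = x := by
  obtain ⟨Z, j, hj, hrep⟩ := field_rep k Y X (equalizer.ι a b).left
  refine ⟨Z, j, hj, fun T x => ?_⟩
  rw [← hrep T x, lift_equalizer_iff]

end Eq

end Groth.Agent.Lib.Helper4.ContentRep2
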