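import Mathlib
import Groth.Prelude.Def_AlgGrp
import Groth.Agent.Lib.Helper4.ContentRep2
import Groth.Agent.Lib.Helper6.GrpSchSep

/-!
# Fixed loci and transporters over a field are closed subschemes (helper4)
-/

set_option backward.isDefEq.respectTransparency.types false
set_option synthInstance.maxHeartbeats 400000
set_option autoImplicit false
set_option linter.unusedSectionVars false
set_option linter.style.haveILetI false
set_option linter.unusedSimpArgs false
universe u v w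
open CategoryTheory CategoryTheory.Limits AlgebraicGeometry TopologicalSpace Opposite
open MonoidalCategory CartesianMonoidalCategory MonObj GrpObj

namespace Groth.Agent.Lib.Helper4.ContentRep3
open Groth.Agent.Lib.Helper4.ContentRep2

theorem main_S18816 (k : Type u) [Field k]
    (X Y : Over (Spec (CommRingCat.of k))) [IsSeparated X.hom] (a : Y ⊗ X ⟶ X) :
    ∃ (Z : Over (Spec (CommRingCat.of k))) (j : Z ⟶ X), IsClosedImmersion j.left ∧
      (Y ◁ j) ≫ a = CartesianMonoidalCategory.snd Y Z ≫ j ∧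
      ∀ (T : Over (Spec (CommRingCat.of k))) (x : T ⟶ X),
        (Y ◁ x) ≫ a = CartesianMonoidalCategory.snd Y T ≫ x → ∃ z : T ⟶ Z, z ≫ j = x := by
  obtain ⟨Z, j, hj, hrep⟩ := eq_rep k Y X X a (snd Y X)
  have key : ∀ (T : Over (Spec (CommRingCat.of k))) (x : T ⟶ X),
      (Y ◁ x) ≫ a = snd Y T ≫ x ↔ ∃ z : T ⟶ Z, z ≫ j = x := by
    intro T x
    rw [← hrep T x, whiskerLeft_snd]
  refine ⟨Z, j, hj, (key Z j).2 ⟨𝟙 Z, Category.id_comp j⟩, fun T x h => (key T x).1 h⟩

section Cart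
variable {C : Type v} [Category.{w} C] [CartesianMonoidalCategory C]

theorem lift_fst_snd_comp {Y T X : C} (f : T ⟶ X) : lift (fst Y T) (snd Y T ≫ f) = Y ◁ f := by
  apply CartesianMonoidalCategory.hom_ext
  · rw [lift_fst, whiskerLeft_fst]
  · rw [lift_snd, whiskerLeft_snd]

theorem lift_comp_whiskerLeft {Y T T' X : C} (g : T' ⟶ Y) (t : T' ⟶ T) (f : T ⟶ X) :
    lift g t ≫ (Y ◁ f) = lift g (t ≫ f) := by
  apply CartesianMonoidalCategory.hom_ext
  · rw [Category.assoc, whiskerLeft_fst, lift_fst, lift_fst]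
  · rw [Category.assoc, whiskerLeft_snd, lift_snd_assoc, lift_snd]

end Cart

theorem main_S7978 (k : Type u) [Field k]
    (G X : Over (Spec (CommRingCat.of k))) [GrpObj G] [IsSeparated X.hom] (a : AlgGrp.Action G X) :
    ∃ (Z : Over (Spec (CommRingCat.of k))) (incl : Z ⟶ X), IsClosedImmersion incl.left ∧
      ∀ (T : Over (Spec (CommRingCat.of k))) (f : T ⟶ X),
        (∀ (T' : Over (Spec (CommRingCat.of k))) (t : T' ⟶ T) (g : T' ⟶ G),
          lift g (t ≫ f) ≫ a.act = t ≫ f) ↔ ∃ f' : T ⟶ Z, f' ≫ incl = f := by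
  obtain ⟨Z, j, hj, hrep⟩ := eq_rep k G X X a.act (snd G X)
  refine ⟨Z, j, hj, fun T f => ?_⟩
  rw [← hrep T f, whiskerLeft_snd]
  constructor
  · intro h
    have := h (G ⊗ T) (snd G T) (fst G T)
    rwa [lift_fst_snd_comp] at this
  · intro h T' t g
    rw [← lift_comp_whiskerLeft, Category.assoc, h, lift_snd_assoc]

theorem main_S5357 (k : Type u) [Field k] (G X : Over (Spec (CommRingCat.of k))) [GrpObj G]
    (u v : X ⟶ G) :
    ∃ (T : Over (Spec (CommRingCat.of k))) (t : T ⟶ G), IsClosedImmersion t.left ∧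
      ∀ (S' : Over (Spec (CommRingCat.of k))) (g : S' ⟶ G), (∃ z : S' ⟶ T, z ≫ t = g) ↔
        ∀ (S'' : Over (Spec (CommRingCat.of k))) (s : S'' ⟶ S') (x : S'' ⟶ X),
          (s ≫ g) * (x ≫ u) * (s ≫ g)⁻¹ = x ≫ v := by
  haveI : DiscreteTopology ↥(Spec (CommRingCat.of k)) :=
    inferInstanceAs (DiscreteTopology (PrimeSpectrum k))
  haveI : IsSeparated G.hom := Groth.Agent.Helper6.GrpSchSep.isSeparated_of_discrete G
  obtain ⟨Z, j, hj, hrep⟩ := eq_rep k X G G
    ((snd X G) * (fst X G ≫ u) * (snd X G)⁻¹) (fst X G ≫ v)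
  refine ⟨Z, j, hj, fun S' g => ?_⟩
  rw [← hrep S' g]
  have e1 : (X ◁ g) ≫ ((snd X G) * (fst X G ≫ u) * (snd X G)⁻¹) =
      (snd X S' ≫ g) * (fst X S' ≫ u) * (snd X S' ≫ g)⁻¹ := by
    rw [MonObj.comp_mul, MonObj.comp_mul, GrpObj.comp_inv, whiskerLeft_snd, whiskerLeft_fst_assoc]
  have e2 : (X ◁ g) ≫ (fst X G ≫ v) = fst X S' ≫ v := by
    rw [whiskerLeft_fst_assoc]
  rw [e1, e2]
  constructor
  · intro h S'' s x
    have := congrArg (fun m => lift x s ≫ m) h
    simp only [MonObj.comp_mul, GrpObj.comp_inv, lift_snd_assoc, lift_fst_assoc] at this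
    exact this
  · intro h
    exact h (X ⊗ S') (snd X S') (fst X S')

end Groth.Agent.Lib.Helper4.ContentRep3
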