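import Mathlib
import Groth.Prelude.Def_AlgGrp
import Groth.Agent.Lib.Helper4.ContentRep3

/-!
# Rigidity lemma for anti-affine schemes over a field (Kunneth + closed representability + Krull) (helper4)
-/

set_option backward.isDefEq.respectTransparency.types false
set_option synthInstance.maxHeartbeats 400000
set_option autoImplicit false
set_option linter.unusedSectionVars false
set_option linter.style.haveILetI false
set_option linter.unusedSimpArgs false
universe u v w
open CategoryTheory CategoryTheory.Limits AlgebraicGeometry TopologicalSpace Opposite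
open MonoidalCategory CartesianMonoidalCategory

namespace Groth.Agent.Lib.Helper4.AntiAffRigid1
open Groth.Agent.Lib.Helper4.ContentRep2

section Kun
variable {S : Scheme.{u}} (X T : Over S)

/-- Künneth for global sections when `Γ(X) = Γ(S)` -/
theorem isIso_snd_appTop [IsAffine S] [IsAffine T.left] [Flat T.hom] [CompactSpace X.left]
    [QuasiSeparatedSpace X.left] (hX : IsIso X.hom.appTop) : IsIso (snd X T).left.appTop := by
  have H := isPullback_tensor X T
  have hUST : (⊤ : T.left.Opens) ≤ T.hom ⁻¹ᵁ ⊤ := le_top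
  have hUSX : (⊤ : X.left.Opens) ≤ X.hom ⁻¹ᵁ ⊤ := le_top
  have hUY : (⊤ : (X ⊗ T).left.Opens) = (fst X T).left ⁻¹ᵁ ⊤ ⊓ (snd X T).left ⁻¹ᵁ ⊤ := by simp
  have h1 := isIso_pushoutSection_of_isQuasiSeparated_of_flat_right H hUST hUSX hUY
    (isAffineOpen_top S) (isAffineOpen_top T.left) isCompact_univ isQuasiSeparated_univ
  have sq := (isIso_pushoutSection_iff H hUST hUSX hUY).mp h1
  haveI : IsIso (X.hom.appLE ⊤ ⊤ hUSX) := by
    have : X.hom.appLE ⊤ ⊤ hUSX = X.hom.appTop := Scheme.Hom.appLE_eq_app _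
    rw [this]; exact hX
  have h2 := sq.isIso_inr_of_isIso
  have : (snd X T).left.appLE ⊤ ⊤ (by simp) = (snd X T).left.appTop := Scheme.Hom.appLE_eq_app _
  rw [← this]
  exact h2

end Kun

section Rigid
variable (k : Type u) [Field k]

theorem rigid_thick (X T Z : Over (Spec (CommRingCat.of k))) [IsAffine T.left]
    [CompactSpace X.left] [QuasiSeparatedSpace X.left] (hX : IsIso X.hom.appTop)
    (x₀ : 𝟙_ (Over (Spec (CommRingCat.of k))) ⟶ X) (t₀ : 𝟙_ (Over (Spec (CommRingCat.of k))) ⟶ T)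
    (ht₀ : Surjective t₀.left) (z₀ : 𝟙_ (Over (Spec (CommRingCat.of k))) ⟶ Z) (φ : X ⊗ T ⟶ Z)
    (h : (X ◁ t₀) ≫ φ = toUnit _ ≫ z₀) :
    φ = snd X T ≫ lift (toUnit T ≫ x₀) (𝟙 T) ≫ φ := by
  haveI : Subsingleton ↥(Spec (CommRingCat.of k)) :=
    inferInstanceAs (Subsingleton (PrimeSpectrum k))
  haveI : Flat T.hom := inferInstance
  haveI := isIso_snd_appTop X T hX
  have hsπ : lift (toUnit T ≫ x₀) (𝟙 T) ≫ snd X T = 𝟙 T := lift_snd _ _
  obtain ⟨pt⟩ : Nonempty ↥(Spec (CommRingCat.of k)) :=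
    inferInstanceAs (Nonempty (PrimeSpectrum k))
  obtain ⟨U, hU, hzU⟩ : ∃ U : Z.left.Opens, IsAffineOpen U ∧ z₀.left pt ∈ U := by
    obtain ⟨_, ⟨U, hU, rfl⟩, hxU, -⟩ := Z.left.isBasis_affineOpens.exists_subset_of_mem_open
      (Set.mem_univ (z₀.left pt)) isOpen_univ
    exact ⟨U, hU, hxU⟩
  have hsurj : Surjective (X ◁ t₀).left :=
    MorphismProperty.of_isPullback (P := @Surjective) (isPullback_whiskerLeft X T t₀).flip ht₀
  have hrange : ∀ p, φ.left p ∈ U := by
    intro p
    obtain ⟨p', rfl⟩ := hsurj.surj p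
    rw [← Scheme.Hom.comp_apply, ← Over.comp_left, h, Over.comp_left, Scheme.Hom.comp_apply]
    have : (toUnit (X ⊗ 𝟙_ (Over (Spec (CommRingCat.of k))))).left p' = pt :=
      @Subsingleton.elim ↥(Spec (CommRingCat.of k)) _ _ _
    rw [this]; exact hzU
  have hr : Set.range φ.left ⊆ Set.range U.ι := by
    rw [Scheme.Opens.range_ι]; rintro _ ⟨p, rfl⟩; exact hrange p
  have hφU : IsOpenImmersion.lift U.ι φ.left hr ≫ U.ι = φ.left := IsOpenImmersion.lift_fac _ _ _
  haveI : IsAffine U.toScheme := hU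
  have e1 : (snd X T).left.appTop ≫ (lift (toUnit T ≫ x₀) (𝟙 T)).left.appTop = 𝟙 _ := by
    rw [← Scheme.Hom.comp_appTop, ← Over.comp_left, hsπ]; simp
  have e2 : (lift (toUnit T ≫ x₀) (𝟙 T)).left.appTop ≫ (snd X T).left.appTop = 𝟙 _ := by
    rw [← cancel_epi (snd X T).left.appTop, ← Category.assoc, e1, Category.id_comp,
      Category.comp_id]
  have key : IsOpenImmersion.lift U.ι φ.left hr =
      (snd X T).left ≫ (lift (toUnit T ≫ x₀) (𝟙 T)).left ≫ IsOpenImmersion.lift U.ι φ.left hr := by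
    apply ext_of_isAffine
    rw [Scheme.Hom.comp_appTop, Scheme.Hom.comp_appTop, Category.assoc, e2, Category.comp_id]
  apply Over.OverMorphism.ext
  rw [Over.comp_left, Over.comp_left, ← hφU, ← Category.assoc, ← Category.assoc,
    Category.assoc (snd X T).left, ← key]

end Rigid

section Main
variable (k : Type u) [Field k]

theorem subsingleton_spec_quot_pow {O : Type u} [CommRing O] [IsLocalRing O] (n : ℕ) :
    Subsingleton (PrimeSpectrum (O ⧸ IsLocalRing.maximalIdeal O ^ (n + 1))) := by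
  constructor
  intro p q
  have key : ∀ r : PrimeSpectrum (O ⧸ IsLocalRing.maximalIdeal O ^ (n + 1)),
      r.asIdeal.comap (Ideal.Quotient.mk (IsLocalRing.maximalIdeal O ^ (n + 1))) =
        IsLocalRing.maximalIdeal O := by
    intro r
    haveI : (r.asIdeal.comap (Ideal.Quotient.mk (IsLocalRing.maximalIdeal O ^ (n + 1)))).IsPrime :=
      Ideal.comap_isPrime _ _
    have h1 : IsLocalRing.maximalIdeal O ^ (n + 1) ≤
        r.asIdeal.comap (Ideal.Quotient.mk (IsLocalRing.maximalIdeal O ^ (n + 1))) := by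
      intro a ha
      rw [Ideal.mem_comap, Ideal.Quotient.eq_zero_iff_mem.2 ha]
      exact Ideal.zero_mem _
    have h2 := Ideal.IsPrime.le_of_pow_le h1
    exact ((IsLocalRing.maximalIdeal.isMaximal O).eq_of_le (Ideal.IsPrime.ne_top inferInstance)
      h2).symm
  apply PrimeSpectrum.ext
  apply Ideal.comap_injective_of_surjective _ Ideal.Quotient.mk_surjective
  rw [key p, key q]

/-- A closed subscheme of a Noetherian local spectrum containing every infinitesimal neighbourhood
of the closed point is everything. -/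
theorem isIso_of_forall_thick {O : Type u} [CommRing O] [IsLocalRing O] [IsNoetherianRing O]
    {P : Scheme.{u}} (q : P ⟶ Spec (CommRingCat.of O)) [IsClosedImmersion q]
    (h : ∀ n : ℕ, ∃ u : Spec (CommRingCat.of (O ⧸ IsLocalRing.maximalIdeal O ^ (n + 1))) ⟶ P,
      u ≫ q = Spec.map (CommRingCat.ofHom
        (Ideal.Quotient.mk (IsLocalRing.maximalIdeal O ^ (n + 1))))) :
    IsIso q := by
  obtain ⟨I', e, he⟩ := IsClosedImmersion.Spec_iff.1 (inferInstance : IsClosedImmersion q)
  have hI' : I' = ⊥ := by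
    rw [eq_bot_iff, ← Ideal.iInf_pow_eq_bot_of_isLocalRing (IsLocalRing.maximalIdeal O)
      (Ideal.IsPrime.ne_top inferInstance)]
    refine le_iInf fun i => ?_
    cases i with
    | zero => simp
    | succ n =>
      obtain ⟨u, hu⟩ := h n
      intro a ha
      have h1 : Spec.map (CommRingCat.ofHom
          (Ideal.Quotient.mk (IsLocalRing.maximalIdeal O ^ (n + 1)))) =
          Spec.map (CommRingCat.ofHom (Ideal.Quotient.mk I') ≫ Spec.preimage (u ≫ e.hom)) := by
        rw [Spec.map_comp, Spec.map_preimage, Category.assoc, ← he, hu]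
      have h2 := Spec.map_injective h1
      have h3 := congrArg (fun ψ => ψ.hom a) h2
      simp only [CommRingCat.hom_comp, CommRingCat.hom_ofHom, RingHom.comp_apply] at h3
      rw [(Ideal.Quotient.eq_zero_iff_mem).2 ha, map_zero] at h3
      exact Ideal.Quotient.eq_zero_iff_mem.1 h3
  subst hI'
  haveI : IsIso (CommRingCat.ofHom (Ideal.Quotient.mk (⊥ : Ideal O))) := by
    rw [ConcreteCategory.isIso_iff_bijective]
    refine ⟨?_, Ideal.Quotient.mk_surjective⟩
    show Function.Injective (Ideal.Quotient.mk (⊥ : Ideal O))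
    rw [RingHom.injective_iff_ker_eq_bot]
    exact Ideal.mk_ker
  rw [he]; infer_instance

theorem main_S14577 (X Y Z : Over (Spec (CommRingCat.of k))) [QuasiCompact X.hom]
    [IsSeparated X.hom]
    (hX : Function.Bijective ((Scheme.ΓSpecIso (CommRingCat.of k)).inv ≫ X.hom.appTop).hom)
    [IsSeparated Y.hom] [IsLocallyNoetherian Y.left] [IrreducibleSpace ↥Y.left] [IsReduced Y.left]
    [IsSeparated Z.hom]
    (x₀ : 𝟙_ (Over (Spec (CommRingCat.of k))) ⟶ X) (y₀ : 𝟙_ (Over (Spec (CommRingCat.of k))) ⟶ Y)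
    (f : X ⊗ Y ⟶ Z)
    (hf : (X ◁ y₀) ≫ f = toUnit _ ≫ lift x₀ y₀ ≫ f) :
    f = snd X Y ≫ lift (toUnit Y ≫ x₀) (𝟙 Y) ≫ f := by
  haveI : CompactSpace X.left := (quasiCompact_iff_compactSpace X.hom).1 inferInstance
  haveI : QuasiSeparatedSpace X.left := (quasiSeparated_iff_quasiSeparatedSpace X.hom).1 inferInstance
  have hX' : IsIso X.hom.appTop := by
    haveI : IsIso ((Scheme.ΓSpecIso (CommRingCat.of k)).inv ≫ X.hom.appTop) :=
      (ConcreteCategory.isIso_iff_bijective _).2 hX
    exact IsIso.of_isIso_comp_left (Scheme.ΓSpecIso (CommRingCat.of k)).inv _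
  obtain ⟨W, j, hj, hrep⟩ := eq_rep k X Y Z f (snd X Y ≫ lift (toUnit Y ≫ x₀) (𝟙 Y) ≫ f)
  haveI := hj
  suffices hs : ∃ z : Y ⟶ W, z ≫ j = 𝟙 Y by
    have := (hrep Y (𝟙 Y)).2 hs
    rwa [MonoidalCategory.whiskerLeft_id, Category.id_comp, Category.id_comp] at this
  -- the point and its local ring
  obtain ⟨yl, hyl⟩ : ∃ yl : Spec (CommRingCat.of k) ⟶ Y.left, yl = y₀.left := ⟨_, rfl⟩
  obtain ⟨y, hy⟩ : ∃ y : Y.left, y = yl (IsLocalRing.closedPoint k) := ⟨_, rfl⟩
  obtain ⟨θ, hθ⟩ : ∃ θ : Y.left.presheaf.stalk y ⟶ CommRingCat.of k,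
      IsLocalHom θ.hom ∧ Spec.map θ ≫ Y.left.fromSpecStalk y = yl := by
    subst hy
    exact ⟨Scheme.stalkClosedPointTo yl, inferInstance,
      Scheme.Spec_stalkClosedPointTo_fromSpecStalk yl⟩
  obtain ⟨hθloc, hθ⟩ := hθ
  have hθm : ∀ a ∈ IsLocalRing.maximalIdeal (Y.left.presheaf.stalk y), θ.hom a = 0 := by
    intro a ha
    by_contra hne
    have h1 : IsUnit (θ.hom a) := isUnit_iff_ne_zero.2 hne
    have h2 : IsUnit a := hθloc.map_nonunit a h1
    exact ha h2
  -- factor σ through j.left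
  have hσ : ∃ l : Spec (Y.left.presheaf.stalk y) ⟶ W.left,
      l ≫ j.left = Y.left.fromSpecStalk y := by
    haveI : IsIso (pullback.snd j.left (Y.left.fromSpecStalk y)) := by
      apply isIso_of_forall_thick (O := ↑(Y.left.presheaf.stalk y))
      intro n
      -- the thickening
      obtain ⟨τ, hτ⟩ : ∃ τ : Spec (CommRingCat.of (↑(Y.left.presheaf.stalk y) ⧸
          IsLocalRing.maximalIdeal ↑(Y.left.presheaf.stalk y) ^ (n + 1))) ⟶
          Spec (Y.left.presheaf.stalk y), τ = Spec.map (CommRingCat.ofHom (Ideal.Quotient.mk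
            (IsLocalRing.maximalIdeal ↑(Y.left.presheaf.stalk y) ^ (n + 1)))) := ⟨_, rfl⟩
      have hθn : ∀ a ∈ IsLocalRing.maximalIdeal ↑(Y.left.presheaf.stalk y) ^ (n + 1),
          θ.hom a = 0 := fun a ha => hθm a (Ideal.pow_le_self (Nat.succ_ne_zero n) ha)
      have hτθ : Spec.map (CommRingCat.ofHom (Ideal.Quotient.lift _ θ.hom hθn)) ≫ τ =
          Spec.map θ := by
        rw [hτ, ← Spec.map_comp]
        congr 1
      let Tn : Over (Spec (CommRingCat.of k)) := Over.mk (τ ≫ Y.left.fromSpecStalk y ≫ Y.hom)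
      let yn : Tn ⟶ Y := Over.homMk (τ ≫ Y.left.fromSpecStalk y) (Category.assoc _ _ _)
      have ht₀w : Spec.map (CommRingCat.ofHom (Ideal.Quotient.lift _ θ.hom hθn)) ≫ Tn.hom =
          (𝟙_ (Over (Spec (CommRingCat.of k)))).hom := by
        show _ ≫ τ ≫ _ ≫ _ = _
        rw [← Category.assoc, hτθ, ← Category.assoc, hθ, hyl]
        exact Over.w y₀
      let t₀ : 𝟙_ (Over (Spec (CommRingCat.of k))) ⟶ Tn := Over.homMk
        (Spec.map (CommRingCat.ofHom (Ideal.Quotient.lift _ θ.hom hθn))) ht₀w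
      have ht₀y : t₀ ≫ yn = y₀ := by
        apply Over.OverMorphism.ext
        show Spec.map _ ≫ τ ≫ _ = _
        rw [← Category.assoc, hτθ, hθ, hyl]
      haveI : IsAffine Tn.left := inferInstanceAs (IsAffine (Spec _))
      have ht₀s : Surjective t₀.left := by
        haveI := subsingleton_spec_quot_pow (O := ↑(Y.left.presheaf.stalk y)) n
        constructor
        intro p
        obtain ⟨pt⟩ : Nonempty ↥(Spec (CommRingCat.of k)) :=
          inferInstanceAs (Nonempty (PrimeSpectrum k))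
        exact ⟨pt, @Subsingleton.elim (PrimeSpectrum (↑(Y.left.presheaf.stalk y) ⧸
          IsLocalRing.maximalIdeal ↑(Y.left.presheaf.stalk y) ^ (n + 1))) _ _ _⟩
      have hφ : (X ◁ t₀) ≫ (X ◁ yn) ≫ f = toUnit _ ≫ lift x₀ y₀ ≫ f := by
        rw [← Category.assoc, ← MonoidalCategory.whiskerLeft_comp, ht₀y, hf]
      have hrig := rigid_thick k X Tn Z hX' x₀ t₀ ht₀s (lift x₀ y₀ ≫ f) ((X ◁ yn) ≫ f) hφ
      have hsw : lift (toUnit Tn ≫ x₀) (𝟙 Tn) ≫ (X ◁ yn) =
          yn ≫ lift (toUnit Y ≫ x₀) (𝟙 Y) := by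
        apply CartesianMonoidalCategory.hom_ext
        · simp
        · simp
      have heq : (X ◁ yn) ≫ f = (X ◁ yn) ≫ snd X Y ≫ lift (toUnit Y ≫ x₀) (𝟙 Y) ≫ f := by
        rw [whiskerLeft_snd_assoc, ← Category.assoc yn, ← hsw, Category.assoc]
        exact hrig
      obtain ⟨z, hz⟩ := (hrep Tn yn).1 heq
      have hzl : z.left ≫ j.left = τ ≫ Y.left.fromSpecStalk y := by
        rw [← Over.comp_left, hz]; rfl
      refine ⟨pullback.lift z.left τ hzl, ?_⟩
      rw [pullback.lift_snd, hτ]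
    exact ⟨inv (pullback.snd j.left (Y.left.fromSpecStalk y)) ≫
      pullback.fst j.left (Y.left.fromSpecStalk y), by
      rw [Category.assoc, pullback.condition, IsIso.inv_hom_id_assoc]⟩
  obtain ⟨l, hl⟩ := hσ
  -- dominance
  haveI : IsDominant (Y.left.fromSpecStalk y) := by
    constructor
    have hη : genericPoint Y.left ∈ Set.range (Y.left.fromSpecStalk y) := by
      rw [Scheme.range_fromSpecStalk]; exact genericPoint_specializes y
    rw [DenseRange, dense_iff_closure_eq]
    apply Set.eq_univ_of_univ_subset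
    have h0 : closure ({genericPoint Y.left} : Set Y.left) = Set.univ := genericPoint_closure _
    rw [← h0]
    exact closure_mono (Set.singleton_subset_iff.2 hη)
  haveI : IsSchemeTheoreticallyDominant (Y.left.fromSpecStalk y) :=
    IsSchemeTheoreticallyDominant.of_isDominant _
  have hk : j.left.ker ≤ Scheme.Hom.ker (𝟙 Y.left) := by
    have h2 : j.left.ker ≤ (Y.left.fromSpecStalk y).ker := by
      rw [← hl]; exact Scheme.Hom.le_ker_comp _ _
    rw [Scheme.Hom.ker_eq_bot (Y.left.fromSpecStalk y)] at h2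
    exact h2.trans bot_le
  have hl' := IsClosedImmersion.lift_fac j.left (𝟙 Y.left) hk
  exact ⟨Over.homMk (IsClosedImmersion.lift j.left (𝟙 Y.left) hk)
    (by rw [← Over.w j, ← Category.assoc, hl', Category.id_comp]), by ext; exact hl'⟩

end Main

end Groth.Agent.Lib.Helper4.AntiAffRigid1
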