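import Mathlib
import Groth.Agent.Lib.Helper4.ContentRep1

/-!
# closed loci of stable submodules in a scheme representing a Grassmannian functor (S12441, S14853) (helper4)
-/

set_option backward.isDefEq.respectTransparency.types false
set_option synthInstance.maxHeartbeats 400000
set_option autoImplicit false
set_option linter.unusedSectionVars false
set_option linter.style.haveILetI false
set_option linter.unusedSimpArgs false
universe u v w
open CategoryTheory CategoryTheory.Limits AlgebraicGeometry TopologicalSpace Opposite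
open scoped TensorProduct

namespace Groth.Agent.Lib.Helper4.GrassClosed1

section KL1
variable {C : Type u} [CommRing C] {P : Type u} [AddCommGroup P] [Module C P] (N : Submodule C P)
  {𝒜 : Type v} (ψ : 𝒜 → (P →ₗ[C] P))

/-- the obstruction ideal -/
def obsIdeal : Ideal C :=
  Ideal.span {c | ∃ (a : 𝒜) (n : P) (_ : n ∈ N) (l : (P ⧸ N) →ₗ[C] C), c = l (N.mkQ (ψ a n))}

theorem obs_le_ker_iff [Module.Finite C (P ⧸ N)] [Module.Projective C (P ⧸ N)]
    (D : Type u) [CommRing D] [Algebra C D] :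
    obsIdeal N ψ ≤ RingHom.ker (algebraMap C D) ↔
      ∀ (a : 𝒜) (z : D ⊗[C] P), (N.mkQ.baseChange D) z = 0 →
        ((N.mkQ ∘ₗ ψ a).baseChange D) z = 0 := by
  constructor
  · intro hJ a z hz
    obtain ⟨σ, hσ⟩ := Module.projective_lifting_property N.mkQ LinearMap.id N.mkQ_surjective
    let ρ : P →ₗ[C] P := LinearMap.id - σ ∘ₗ N.mkQ
    have hρN : ∀ p, ρ p ∈ N := by
      intro p
      rw [← N.ker_mkQ, LinearMap.mem_ker]
      have h1 : N.mkQ (σ (N.mkQ p)) = N.mkQ p := LinearMap.congr_fun hσ (N.mkQ p)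
      simp only [ρ, LinearMap.sub_apply, LinearMap.id_apply, LinearMap.comp_apply, map_sub, h1,
        sub_self]
    have hid : (LinearMap.id : P →ₗ[C] P) = ρ + σ ∘ₗ N.mkQ := by
      simp only [ρ, sub_add_cancel]
    have hz' : z = ρ.baseChange D z := by
      have h2 := congrArg (fun m : P →ₗ[C] P => m.baseChange D z) hid
      simp only [LinearMap.baseChange_id, LinearMap.id_apply, LinearMap.baseChange_add,
        LinearMap.add_apply, LinearMap.baseChange_comp, LinearMap.comp_apply, hz, map_zero,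
        add_zero] at h2
      exact h2
    let θ : P →ₗ[C] (P ⧸ N) := (N.mkQ ∘ₗ ψ a) ∘ₗ ρ
    have hθ : ∀ (p : P) (l : (P ⧸ N) →ₗ[C] C), algebraMap C D (l (θ p)) = 0 := by
      intro p l
      have : l (θ p) ∈ obsIdeal N ψ := Ideal.subset_span ⟨a, ρ p, hρN p, l, rfl⟩
      exact hJ this
    obtain ⟨n, f, g, -, -, hfg⟩ := Module.Finite.exists_comp_eq_id_of_projective C (P ⧸ N)
    have hθD : ∀ z : D ⊗[C] P, θ.baseChange D z = 0 := by
      intro z
      induction z using TensorProduct.induction_on with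
      | zero => simp
      | tmul d p =>
        rw [LinearMap.baseChange_tmul]
        have h1 : θ p = ∑ k, (g (θ p) k) • f (fun j => if k = j then 1 else 0) := by
          rw [← LinearMap.pi_apply_eq_sum_univ f (g (θ p))]
          exact (LinearMap.congr_fun hfg (θ p)).symm
        rw [h1, TensorProduct.tmul_sum]
        refine Finset.sum_eq_zero fun k _ => ?_
        rw [← TensorProduct.smul_tmul, Algebra.smul_def]
        have := hθ p ((LinearMap.proj k) ∘ₗ g)
        simp only [LinearMap.comp_apply, LinearMap.proj_apply] at this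
        rw [this, zero_mul, TensorProduct.zero_tmul]
      | add x y hx hy => rw [map_add, hx, hy, add_zero]
    rw [hz']
    have h3 : θ.baseChange D = (N.mkQ ∘ₗ ψ a).baseChange D ∘ₗ ρ.baseChange D :=
      LinearMap.baseChange_comp _ _
    have h4 := LinearMap.congr_fun h3 z
    rw [LinearMap.comp_apply] at h4
    rw [← h4, hθD]
  · intro H
    refine Ideal.span_le.2 ?_
    rintro c ⟨a, n, hn, l, rfl⟩
    have h0 : (N.mkQ.baseChange D) ((1 : D) ⊗ₜ[C] n) = 0 := by
      rw [LinearMap.baseChange_tmul]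
      have : N.mkQ n = 0 := (Submodule.Quotient.mk_eq_zero N).2 hn
      rw [this, TensorProduct.tmul_zero]
    have h1 := H a _ h0
    rw [LinearMap.baseChange_tmul] at h1
    have h2 := congrArg (fun t => TensorProduct.rid C D (l.baseChange D t)) h1
    simp only [LinearMap.baseChange_tmul, TensorProduct.rid_tmul, map_zero] at h2
    show l (N.mkQ (ψ a n)) ∈ RingHom.ker (algebraMap C D)
    rw [RingHom.mem_ker, Algebra.algebraMap_eq_smul_one]
    exact h2

end KL1

section KL2
open Module Module.Grassmannian TensorProduct.AlgebraTensorModule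
variable {R : Type u} [CommRing R] {M : Type u} [AddCommGroup M] [Module R M] {k : ℕ}
  {𝒜 : Type v} (φ : 𝒜 → (M →ₗ[R] M))

/-- stability of a submodule of `C ⊗ M` under the base-changed operators -/
def Stable {C : Type u} [CommRing C] [Algebra R C] (N : Submodule C (C ⊗[R] M)) : Prop :=
  ∀ (a : 𝒜) (x : C ⊗[R] M), x ∈ N → (φ a).baseChange C x ∈ N

/-- the obstruction ideal for stability -/
def obs {C : Type u} [CommRing C] [Algebra R C] (N : Submodule C (C ⊗[R] M)) : Ideal C :=
  obsIdeal N (fun a => (φ a).baseChange C)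

theorem baseChangeMkQ_baseChange {C D : Type u} [CommRing C] [CommRing D] [Algebra R C]
    [Algebra R D] [Algebra C D] [IsScalarTower R C D] (N : Submodule C (C ⊗[R] M))
    (ϕ : M →ₗ[R] M) (y : D ⊗[R] M) :
    baseChangeMkQ D N (ϕ.baseChange D y) =
      ((N.mkQ ∘ₗ ϕ.baseChange C).baseChange D) ((cancelBaseChange R C D D M).symm y) := by
  induction y using TensorProduct.induction_on with
  | zero => simp
  | tmul d m =>
    simp [baseChangeMkQ, LinearMap.baseChange_tmul, cancelBaseChange_symm_tmul]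
  | add x y hx hy => simp only [map_add, hx, hy]

theorem stable_ker_iff {C D : Type u} [CommRing C] [CommRing D] [Algebra R C]
    [Algebra R D] [Algebra C D] [IsScalarTower R C D] (N : Submodule C (C ⊗[R] M))
    [Module.Finite C ((C ⊗[R] M) ⧸ N)] [Module.Projective C ((C ⊗[R] M) ⧸ N)] :
    Stable φ (LinearMap.ker (baseChangeMkQ D N)) ↔ obs φ N ≤ RingHom.ker (algebraMap C D) := by
  rw [obs, obs_le_ker_iff]
  constructor
  · intro hS a z hz
    have hy : cancelBaseChange R C D D M z ∈ LinearMap.ker (baseChangeMkQ D N) := by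
      rw [LinearMap.mem_ker]
      show (N.mkQ.baseChange D) ((cancelBaseChange R C D D M).symm (cancelBaseChange R C D D M z)) = 0
      rw [LinearEquiv.symm_apply_apply]; exact hz
    have h1 := hS a _ hy
    rw [LinearMap.mem_ker, baseChangeMkQ_baseChange, LinearEquiv.symm_apply_apply] at h1
    exact h1
  · intro H a y hy
    rw [LinearMap.mem_ker, baseChangeMkQ_baseChange]
    apply H a
    exact hy

theorem stable_map_iff {C D : Type u} [CommRing C] [CommRing D] [Algebra R C] [Algebra R D]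
    (f : C →ₐ[R] D) (N : G(k, C ⊗[R] M; C)) :
    Stable φ (Module.Grassmannian.map f N).toSubmodule ↔
      obs φ N.toSubmodule ≤ RingHom.ker (f : C →+* D) := by
  letI : Algebra C D := f.toAlgebra
  haveI : IsScalarTower R C D :=
    IsScalarTower.of_algebraMap_eq' (by ext r; exact (f.commutes r).symm)
  exact stable_ker_iff φ N.toSubmodule

theorem stable_iff_obs_bot {C : Type u} [CommRing C] [Algebra R C] (N : G(k, C ⊗[R] M; C)) :
    Stable φ N.toSubmodule ↔ obs φ N.toSubmodule = ⊥ := by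
  have h1 := stable_map_iff φ (AlgHom.id R C) N
  have h2 : Module.Grassmannian.map (AlgHom.id R C) N = N :=
    Module.Grassmannian.map_id k (CommAlgCat.of R C) N
  rw [h2] at h1
  rw [h1, ← le_bot_iff]
  have : RingHom.ker ((AlgHom.id R C : C →ₐ[R] C) : C →+* C) = ⊥ := by
    ext x; simp [RingHom.mem_ker]
  rw [this]

theorem obs_map {C D : Type u} [CommRing C] [CommRing D] [Algebra R C] [Algebra R D]
    (f : C →ₐ[R] D) (N : G(k, C ⊗[R] M; C)) :
    obs φ (Module.Grassmannian.map f N).toSubmodule =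
      (obs φ N.toSubmodule).map (f : C →+* D) := by
  apply Groth.Agent.Lib.Helper4.ContentRep1.ideal_eq_of_forall_hom
  intro E ψ
  letI : Algebra R E := (ψ.comp (algebraMap R D)).toAlgebra
  let ψ' : D →ₐ[R] E := ⟨ψ, fun r => rfl⟩
  have h1 := stable_map_iff φ ψ' (Module.Grassmannian.map f N)
  have h2 := stable_map_iff φ (ψ'.comp f) N
  rw [Module.Grassmannian.map_comp] at h2
  have e1 : ((ψ' : D →ₐ[R] E) : D →+* E) = ψ := rfl
  rw [e1] at h1
  rw [← h1, h2, Ideal.map_le_iff_le_comap, RingHom.comap_ker]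
  rfl

end KL2

section Fac

theorem local_lift {Z X T : Scheme.{u}} (ι : Z ⟶ X) [Mono ι] (𝒰 : T.OpenCover) (x : T ⟶ X)
    (h : ∀ i, ∃ l : 𝒰.X i ⟶ Z, l ≫ ι = 𝒰.f i ≫ x) : ∃ l : T ⟶ Z, l ≫ ι = x := by
  choose l hl using h
  refine ⟨𝒰.glueMorphisms l ?_, ?_⟩
  · intro i j
    rw [← cancel_mono ι, Category.assoc, Category.assoc, hl, hl, ← Category.assoc,
      ← Category.assoc, pullback.condition]
  · apply 𝒰.hom_ext
    intro i
    rw [← Category.assoc, 𝒰.ι_glueMorphisms, hl]

set_option backward.isDefEq.respectTransparency false in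
theorem factor_of_le {Y : Scheme.{u}} (𝓘 : Y.IdealSheafData) (U : Y.affineOpens)
    {E : CommRingCat.{u}} (χ : Γ(Y, U.1) ⟶ E) (h : 𝓘.ideal U ≤ RingHom.ker χ.hom) :
    ∃ l : Spec E ⟶ 𝓘.subscheme, l ≫ 𝓘.subschemeι = Spec.map χ ≫ U.2.fromSpec := by
  refine ⟨Spec.map (CommRingCat.ofHom (Ideal.Quotient.lift _ χ.hom
    (fun a ha => RingHom.mem_ker.1 (h ha)))) ≫ 𝓘.subschemeCover.f U, ?_⟩
  rw [Category.assoc, 𝓘.subschemeCover_map_subschemeι, 𝓘.glueDataObjι_ι, ← Category.assoc,
    ← Spec.map_comp]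
  congr 2

set_option backward.isDefEq.respectTransparency false in
theorem le_of_factor {Y : Scheme.{u}} (𝓘 : Y.IdealSheafData) (U : Y.affineOpens)
    {E : CommRingCat.{u}} (χ : Γ(Y, U.1) ⟶ E) (l : Spec E ⟶ 𝓘.subscheme)
    (hl : l ≫ 𝓘.subschemeι = Spec.map χ ≫ U.2.fromSpec) :
    𝓘.ideal U ≤ RingHom.ker χ.hom := by
  have hr : Set.range l ⊆ Set.range (𝓘.subschemeCover.f U) := by
    rintro _ ⟨t, rfl⟩
    have h1 : l t ∈ (𝓘.subschemeCover.f U).opensRange := by
      rw [𝓘.opensRange_subschemeCover_map]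
      show 𝓘.subschemeι (l t) ∈ U.1
      have h2 : 𝓘.subschemeι (l t) = U.2.fromSpec (Spec.map χ t) := by
        have := congrArg (fun m : Spec E ⟶ Y => m t) hl
        simpa using this
      rw [h2]
      have h3 : U.2.fromSpec (Spec.map χ t) ∈ Set.range U.2.fromSpec := ⟨_, rfl⟩
      rw [U.2.range_fromSpec] at h3
      exact h3
    exact h1
  let l' := IsOpenImmersion.lift (𝓘.subschemeCover.f U) l hr
  have hl' : l' ≫ 𝓘.subschemeCover.f U = l := IsOpenImmersion.lift_fac _ _ _
  let χ' := Spec.preimage l'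
  have e : Spec.map (CommRingCat.ofHom (Ideal.Quotient.mk (𝓘.ideal U)) ≫ χ') = Spec.map χ := by
    rw [← cancel_mono U.2.fromSpec, Spec.map_comp, Category.assoc, ← 𝓘.glueDataObjι_ι,
      ← 𝓘.subschemeCover_map_subschemeι, Spec.map_preimage, ← Category.assoc, hl', hl]
  have e' := Spec.map_injective e
  intro s hs
  rw [RingHom.mem_ker, ← e']
  show χ'.hom (Ideal.Quotient.mk _ s) = 0
  rw [Ideal.Quotient.eq_zero_iff_mem.2 hs]
  exact map_zero _

theorem eq_zero_of_span_away {E : Type u} [CommRing E] (𝒮 : Set E) (hS : Ideal.span 𝒮 = ⊤)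
    (e : E) (hc : ∀ c ∈ 𝒮, algebraMap E (Localization.Away c) e = 0) : e = 0 := by
  by_contra hne
  have hI : (Submodule.span E ({e} : Set E)).annihilator ≠ ⊤ := by
    intro h
    have : (1 : E) ∈ (Submodule.span E ({e} : Set E)).annihilator := by rw [h]; trivial
    rw [Submodule.mem_annihilator_span_singleton, one_smul] at this
    exact hne this
  obtain ⟨𝔪, hmax, hle⟩ := Ideal.exists_le_maximal _ hI
  have : ∃ c ∈ 𝒮, c ∉ 𝔪 := by
    by_contra hcon
    have hcon' : ∀ c ∈ 𝒮, c ∈ 𝔪 := fun c hc => by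
      by_contra h'
      exact hcon ⟨c, hc, h'⟩
    have : Ideal.span 𝒮 ≤ 𝔪 := Ideal.span_le.2 hcon'
    rw [hS] at this
    exact hmax.ne_top (top_le_iff.1 this)
  obtain ⟨c, hcS, hcm⟩ := this
  obtain ⟨⟨_, n, rfl⟩, hm⟩ := (IsLocalization.map_eq_zero_iff (Submonoid.powers c)
    (Localization.Away c) e).1 (hc c hcS)
  have h1 : c ^ n ∈ (Submodule.span E ({e} : Set E)).annihilator := by
    rw [Submodule.mem_annihilator_span_singleton, smul_eq_mul]
    exact hm
  exact hcm (hmax.isPrime.mem_of_pow_mem n (hle h1))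

end Fac

section Geo
open Module Module.Grassmannian
variable {R : Type u} [CommRing R] {M : Type u} [AddCommGroup M] [Module R M] {k : ℕ}
  {𝒜 : Type v} (φ : 𝒜 → (M →ₗ[R] M))
  (X : Over (Spec (CommRingCat.of R)))

/-- the affine test object -/
noncomputable abbrev SpecO (B : CommAlgCat.{u} R) : Over (Spec (CommRingCat.of R)) :=
  Over.mk (Spec.map (CommRingCat.ofHom (algebraMap R B)))

noncomputable def rho {E : CommRingCat.{u}} (y : Spec E ⟶ X.left) : CommRingCat.of R ⟶ E :=
  Spec.preimage (y ≫ X.hom)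

theorem map_rho {E : CommRingCat.{u}} (y : Spec E ⟶ X.left) :
    Spec.map (rho X y) = y ≫ X.hom := Spec.map_preimage _

noncomputable abbrev algOf {E : CommRingCat.{u}} (y : Spec E ⟶ X.left) : Algebra R E :=
  (rho X y).hom.toAlgebra

noncomputable def objOf {E : CommRingCat.{u}} (y : Spec E ⟶ X.left) : CommAlgCat.{u} R :=
  @CommAlgCat.of R _ E _ (algOf X y)

noncomputable def ptOf {E : CommRingCat.{u}} (y : Spec E ⟶ X.left) : SpecO (objOf X y) ⟶ X :=
  Over.homMk y (map_rho X y).symm

variable (eX : ∀ B : CommAlgCat.{u} R,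
      (SpecO B ⟶ X) ≃ (Module.Grassmannian.functor (R := R) (M := M) k).obj B)
  (heX : ∀ (B C : CommAlgCat.{u} R) (φ' : B ⟶ C) (g : SpecO B ⟶ X) (g' : SpecO C ⟶ X),
      g'.left = Spec.map (CommRingCat.ofHom φ'.hom.toRingHom) ≫ g.left →
        eX C g' = (Module.Grassmannian.functor (R := R) (M := M) k).map φ' (eX B g))

include heX in
set_option backward.isDefEq.respectTransparency false in
theorem transfer (B : CommAlgCat.{u} R) (g : SpecO B ⟶ X) {E : CommRingCat.{u}}
    (y : Spec E ⟶ X.left) (ξ : CommRingCat.of B ⟶ E) (h : y = Spec.map ξ ≫ g.left) :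
    ∃ ξ' : B →ₐ[R] (objOf X y), (ξ' : ↑B →+* ↑(objOf X y)) = ξ.hom ∧
      eX (objOf X y) (ptOf X y) = Module.Grassmannian.map ξ' (eX B g) := by
  have hR : rho X y = CommRingCat.ofHom (algebraMap R B) ≫ ξ := by
    apply Spec.map_injective
    rw [map_rho, h, Spec.map_comp, Category.assoc]
    congr 1
    exact Over.w g
  letI : Algebra R E := algOf X y
  let ξ'' : (B : Type u) →ₐ[R] (E : Type u) := ⟨ξ.hom, fun r => by
    have := congrArg (fun m => m.hom r) hR
    exact this.symm⟩
  refine ⟨ξ'', rfl, ?_⟩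
  exact heX B (objOf X y) (CommAlgCat.ofHom (R := R) (X := B) (Y := E) ξ'') g (ptOf X y) h

include heX in
set_option backward.isDefEq.respectTransparency false in
theorem transfer_stable (B : CommAlgCat.{u} R) (g : SpecO B ⟶ X) {E : CommRingCat.{u}}
    (y : Spec E ⟶ X.left) (ξ : CommRingCat.of B ⟶ E) (h : y = Spec.map ξ ≫ g.left) :
    Stable φ (eX (objOf X y) (ptOf X y)).toSubmodule ↔
      obs φ (eX B g).toSubmodule ≤ RingHom.ker ξ.hom := by
  obtain ⟨ξ', h1, h2⟩ := transfer X eX heX B g y ξ h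
  rw [h2, stable_map_iff, h1]

/-- the obstruction ideal of an affine point -/
noncomputable def Jy {E : CommRingCat.{u}} (y : Spec E ⟶ X.left) : Ideal (objOf X y) :=
  obs φ (eX (objOf X y) (ptOf X y)).toSubmodule

include heX in
set_option backward.isDefEq.respectTransparency false in
theorem transfer_obs (B : CommAlgCat.{u} R) (g : SpecO B ⟶ X) {E : CommRingCat.{u}}
    (y : Spec E ⟶ X.left) (ξ : CommRingCat.of B ⟶ E) (h : y = Spec.map ξ ≫ g.left) :
    Jy φ X eX y = (obs φ (eX B g).toSubmodule).map ξ.hom := by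
  obtain ⟨ξ', h1, h2⟩ := transfer X eX heX B g y ξ h
  unfold Jy
  rw [h2, obs_map, h1]

/-- the ideal attached to an affine open -/
noncomputable def JU (U : X.left.affineOpens) : Ideal Γ(X.left, U.1) :=
  Jy φ X eX U.2.fromSpec

/-- the ideal sheaf of the stable locus -/
noncomputable def Jsh : X.left.IdealSheafData where
  ideal U := JU φ X eX U
  map_ideal_basicOpen U f := by
    have h1 := transfer_obs φ X eX heX (objOf X U.2.fromSpec) (ptOf X U.2.fromSpec)
      (X.left.affineBasicOpen f).2.fromSpec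
      (X.left.presheaf.map (homOfLE (X.left.basicOpen_le f)).op)
      (U.2.map_fromSpec (X.left.affineBasicOpen f).2 (homOfLE (X.left.basicOpen_le f)).op).symm
    exact h1.symm

theorem span_S {E : CommRingCat.{u}} (y : Spec E ⟶ X.left) :
    Ideal.span {c : E | ∃ U : X.left.affineOpens,
      Set.range (Spec.map (CommRingCat.ofHom (algebraMap E (Localization.Away c))) ≫ y) ⊆
        (U.1 : Set X.left)} = ⊤ := by
  by_contra h
  obtain ⟨𝔪, hmax, hle⟩ := Ideal.exists_le_maximal _ h
  let p : Spec E := (⟨𝔪, hmax.isPrime⟩ : PrimeSpectrum E)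
  obtain ⟨U, hU, hpU, -⟩ := Opens.isBasis_iff_nbhd.1 X.left.isBasis_affineOpens
    (Opens.mem_top (y p))
  obtain ⟨_, ⟨c, rfl⟩, hpc, hcU⟩ := Opens.isBasis_iff_nbhd.1
    (PrimeSpectrum.isBasis_basic_opens (R := E)) (show p ∈ y ⁻¹ᵁ U from hpU)
  have hc : c ∈ 𝔪 := by
    apply hle
    apply Ideal.subset_span
    refine ⟨⟨U, hU⟩, ?_⟩
    rintro _ ⟨t, rfl⟩
    have ht : (Spec.map (CommRingCat.ofHom (algebraMap E (Localization.Away c)))) t ∈
        Set.range (PrimeSpectrum.comap (algebraMap E (Localization.Away c))) := ⟨t, rfl⟩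
    rw [PrimeSpectrum.localization_away_comap_range (Localization.Away c) c] at ht
    exact hcU ht
  exact hpc hc

include heX in
theorem key_c {E : CommRingCat.{u}} (y : Spec E ⟶ X.left) (c : E) (U : X.left.affineOpens)
    (hc : Set.range (Spec.map (CommRingCat.ofHom (algebraMap E (Localization.Away c))) ≫ y) ⊆
      (U.1 : Set X.left)) :
    ∃ χ : Γ(X.left, U.1) ⟶ CommRingCat.of (Localization.Away c),
      Spec.map χ ≫ U.2.fromSpec =
        Spec.map (CommRingCat.ofHom (algebraMap E (Localization.Away c))) ≫ y ∧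
      (obs φ (eX (objOf X y) (ptOf X y)).toSubmodule ≤
          RingHom.ker (algebraMap E (Localization.Away c)) ↔
        JU φ X eX U ≤ RingHom.ker χ.hom) := by
  obtain ⟨yc, hyc⟩ : ∃ yc, yc =
    Spec.map (CommRingCat.ofHom (algebraMap E (Localization.Away c))) ≫ y := ⟨_, rfl⟩
  rw [← hyc] at hc ⊢
  have hr : Set.range yc ⊆ Set.range U.2.fromSpec := by rw [U.2.range_fromSpec]; exact hc
  let l := IsOpenImmersion.lift U.2.fromSpec yc hr
  have hl : l ≫ U.2.fromSpec = yc := IsOpenImmersion.lift_fac _ _ _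
  let χ := Spec.preimage l
  have hχ : Spec.map χ ≫ U.2.fromSpec = yc := by rw [Spec.map_preimage]; exact hl
  refine ⟨χ, hχ, ?_⟩
  have s1 := transfer_stable φ X eX heX (objOf X y) (ptOf X y) yc
    (CommRingCat.ofHom (algebraMap E (Localization.Away c))) hyc
  have s2 := transfer_stable φ X eX heX (objOf X U.2.fromSpec) (ptOf X U.2.fromSpec) yc χ
    hχ.symm
  exact s1.symm.trans s2

include heX in
theorem main' {E : CommRingCat.{u}} (y : Spec E ⟶ X.left) :
    (∃ h : Spec E ⟶ (Jsh φ X eX heX).subscheme, h ≫ (Jsh φ X eX heX).subschemeι = y) ↔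
      Stable φ (eX (objOf X y) (ptOf X y)).toSubmodule := by
  rw [stable_iff_obs_bot]
  have hS := span_S X y
  constructor
  · rintro ⟨h, hh⟩
    rw [eq_bot_iff]
    intro e he
    refine eq_zero_of_span_away _ hS e ?_
    rintro c ⟨U, hU⟩
    obtain ⟨χ, hχ, hiff⟩ := key_c φ X eX heX y c U hU
    have h1 : JU φ X eX U ≤ RingHom.ker χ.hom :=
      le_of_factor (Jsh φ X eX heX) U χ
        (Spec.map (CommRingCat.ofHom (algebraMap E (Localization.Away c))) ≫ h)
        (by rw [Category.assoc, hh, hχ])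
    exact hiff.2 h1 he
  · intro hbot
    have hS' : Ideal.span (Set.range (fun c : {c : E | ∃ U : X.left.affineOpens,
      Set.range (Spec.map (CommRingCat.ofHom (algebraMap E (Localization.Away c))) ≫ y) ⊆
        (U.1 : Set X.left)} => (c : E))) = ⊤ := by
      rw [Subtype.range_coe]; exact hS
    apply local_lift (Jsh φ X eX heX).subschemeι
      (Scheme.affineOpenCoverOfSpanRangeEqTop _ hS').openCover y
    rintro ⟨c, U, hU⟩
    obtain ⟨χ, hχ, hiff⟩ := key_c φ X eX heX y c U hU
    have h1 : JU φ X eX U ≤ RingHom.ker χ.hom := hiff.1 (by rw [hbot]; exact bot_le)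
    obtain ⟨l, hl⟩ := factor_of_le (Jsh φ X eX heX) U χ h1
    exact ⟨l, hl.trans hχ⟩

include heX in
theorem main_general : ∃ (Z : Scheme.{u}) (ι : Z ⟶ X.left), IsClosedImmersion ι ∧
    ∀ (B : CommAlgCat.{u} R) (g : SpecO B ⟶ X),
      (∃ h : (SpecO B).left ⟶ Z, h ≫ ι = g.left) ↔ Stable φ (eX B g).toSubmodule := by
  refine ⟨_, (Jsh φ X eX heX).subschemeι, inferInstance, fun B g => ?_⟩
  have h1 := main' φ X eX heX (E := CommRingCat.of B) g.left
  refine h1.trans ?_
  have s1 := transfer_stable φ X eX heX B g (E := CommRingCat.of B) g.left (𝟙 _)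
    (by rw [Spec.map_id, Category.id_comp])
  refine s1.trans ?_
  rw [stable_iff_obs_bot, ← le_bot_iff]
  have : RingHom.ker (CommRingCat.Hom.hom (𝟙 (CommRingCat.of ↑B))) = ⊥ := by
    ext x; simp [RingHom.mem_ker]
  rw [this]

end Geo

section Final
open Module Module.Grassmannian

theorem baseChange_mulLeft {R : Type u} [CommRing R] {A : Type u} [Ring A] [Algebra R A]
    (B : Type u) [CommRing B] [Algebra R B] (a : A) (x : B ⊗[R] A) :
    (LinearMap.mulLeft R a).baseChange B x = ((1 : B) ⊗ₜ[R] a) * x := by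
  induction x using TensorProduct.induction_on with
  | zero => simp
  | tmul b m => simp [LinearMap.baseChange_tmul, Algebra.TensorProduct.tmul_mul_tmul]
  | add x y hx hy => rw [map_add, hx, hy, mul_add]

theorem main_S12441 (k : Type u) [Field k] (A : Type u) [Ring A] [Algebra k A]
    (e : ℕ) (X : Over (Spec (CommRingCat.of k)))
    (eX : ∀ B : CommAlgCat.{u} k,
      ((Over.mk (Spec.map (CommRingCat.ofHom (algebraMap k B)))) ⟶ X) ≃ (Module.Grassmannian.functor (R := k) (M := A) e).obj B)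
    (heX : ∀ (B C : CommAlgCat.{u} k) (φ : B ⟶ C)
      (g : Over.mk (Spec.map (CommRingCat.ofHom (algebraMap k B))) ⟶ X) (g' : Over.mk (Spec.map (CommRingCat.ofHom (algebraMap k C))) ⟶ X),
      g'.left = Spec.map (CommRingCat.ofHom φ.hom.toRingHom) ≫ g.left →
        eX C g' = (Module.Grassmannian.functor (R := k) (M := A) e).map φ (eX B g)) :
    ∃ (Z : Scheme.{u}) (ι : Z ⟶ X.left), IsClosedImmersion ι ∧
      ∀ (B : CommAlgCat.{u} k) (g : Over.mk (Spec.map (CommRingCat.ofHom (algebraMap k B))) ⟶ X),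
        (∃ h : (Over.mk (Spec.map (CommRingCat.ofHom (algebraMap k B)))).left ⟶ Z, h ≫ ι = g.left) ↔
          ∀ (a : A) (x : ↑B ⊗[k] A), x ∈ (eX B g).toSubmodule →
            ((1 : ↑B) ⊗ₜ[k] a) * x ∈ (eX B g).toSubmodule := by
  obtain ⟨Z, ι, hι, hrep⟩ := main_general (fun a : A => LinearMap.mulLeft k a) X eX heX
  refine ⟨Z, ι, hι, fun B g => (hrep B g).trans ?_⟩
  constructor
  · intro h a x hx
    rw [← baseChange_mulLeft]; exact h a x hx
  · intro h a x hx
    show (LinearMap.mulLeft k a).baseChange B x ∈ _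
    rw [baseChange_mulLeft]; exact h a x hx

theorem main_S14853 (R : Type u) [CommRing R]
    (B : Type u) [CommRing B] [Algebra R B]
    (e : ℕ) (X : Over (Spec (CommRingCat.of R)))
    (eX : ∀ A : CommAlgCat.{u} R,
      ((Over.mk (Spec.map (CommRingCat.ofHom (algebraMap R A)))) ⟶ X) ≃ (Module.Grassmannian.functor (R := R) (M := B) e).obj A)
    (heX : ∀ (A C : CommAlgCat.{u} R) (φ : A ⟶ C)
      (g : Over.mk (Spec.map (CommRingCat.ofHom (algebraMap R A))) ⟶ X) (g' : Over.mk (Spec.map (CommRingCat.ofHom (algebraMap R C))) ⟶ X),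
      g'.left = Spec.map (CommRingCat.ofHom φ.hom.toRingHom) ≫ g.left →
        eX C g' = (Module.Grassmannian.functor (R := R) (M := B) e).map φ (eX A g)) :
    ∃ (Z : Scheme.{u}) (ι : Z ⟶ X.left), IsClosedImmersion ι ∧
      ∀ (A : CommAlgCat.{u} R) (g : Over.mk (Spec.map (CommRingCat.ofHom (algebraMap R A))) ⟶ X),
        (∃ h : (Over.mk (Spec.map (CommRingCat.ofHom (algebraMap R A)))).left ⟶ Z, h ≫ ι = g.left) ↔
          ∀ (b : B) (x : ↑A ⊗[R] B), x ∈ (eX A g).toSubmodule →
            ((1 : ↑A) ⊗ₜ[R] b) * x ∈ (eX A g).toSubmodule := by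
  obtain ⟨Z, ι, hι, hrep⟩ := main_general (fun b : B => LinearMap.mulLeft R b) X eX heX
  refine ⟨Z, ι, hι, fun A g => (hrep A g).trans ?_⟩
  constructor
  · intro h b x hx
    have := h b x hx
    rw [baseChange_mulLeft] at this; exact this
  · intro h b x hx
    show (LinearMap.mulLeft R b).baseChange A x ∈ _
    rw [baseChange_mulLeft]; exact h b x hx

end Final

end Groth.Agent.Lib.Helper4.GrassClosed1
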