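import Mathlib
import Groth.Prelude.Def_AlgGrp
import Groth.Agent.Lib.Helper4.AntiAffRigid1
import Groth.Agent.Lib.Helper4.GrassClosed1

/-!
# Anti-affine rigidity over an algebraically closed field with connected parameter space (helper4)
-/

set_option backward.isDefEq.respectTransparency.types false
set_option synthInstance.maxHeartbeats 400000
set_option autoImplicit false
set_option linter.unusedSectionVars false
set_option linter.style.haveILetI false
set_option linter.unusedSimpArgs false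
universe u v w
open CategoryTheory CategoryTheory.Limits AlgebraicGeometry TopologicalSpace Opposite
open MonoidalCategory CartesianMonoidalCategory

namespace Groth.Agent.Lib.Helper4.AntiAffRigid2
open Groth.Agent.Lib.Helper4.ContentRep1 Groth.Agent.Lib.Helper4.ContentRep2
  Groth.Agent.Lib.Helper4.AntiAffRigid1 Groth.Agent.Lib.Helper4.GrassClosed1

section Fac

theorem factor_iff_image {Z Y T : Scheme.{u}} (j : Z ⟶ Y) [IsClosedImmersion j] (x : T ⟶ Y) :
    (∃ l : T ⟶ Z, l ≫ j = x) ↔ ∃ l : T ⟶ j.ker.subscheme, l ≫ j.ker.subschemeι = x := by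
  constructor
  · rintro ⟨l, rfl⟩
    refine ⟨l ≫ j.toImage, ?_⟩
    rw [Category.assoc]
    congr 1
    exact j.toImage_imageι
  · rintro ⟨l, rfl⟩
    refine ⟨l ≫ inv j.toImage, ?_⟩
    rw [Category.assoc]
    congr 1
    rw [IsIso.inv_comp_eq]
    exact j.toImage_imageι.symm

variable {Y : Scheme.{u}} (𝓘 : Y.IdealSheafData)

/-- the points whose local scheme factors through the closed subscheme -/
def stalkLocus : Set Y :=
  {y | ∃ l : Spec (Y.presheaf.stalk y) ⟶ 𝓘.subscheme, l ≫ 𝓘.subschemeι = Y.fromSpecStalk y}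

theorem stalkLocus_subset_range : stalkLocus 𝓘 ⊆ Set.range 𝓘.subschemeι := by
  rintro y ⟨l, hl⟩
  refine ⟨l (IsLocalRing.closedPoint _), ?_⟩
  rw [← Scheme.Hom.comp_apply, hl]
  exact Scheme.fromSpecStalk_closedPoint

theorem ideal_le_ker_germ {y : Y} (hy : y ∈ stalkLocus 𝓘) (U : Y.affineOpens) (hyU : y ∈ U.1) :
    𝓘.ideal U ≤ RingHom.ker (Y.presheaf.germ U.1 y hyU).hom := by
  obtain ⟨l, hl⟩ := hy
  refine le_of_factor 𝓘 U (Y.presheaf.germ U.1 y hyU) l ?_
  rw [hl, ← U.2.fromSpecStalk_eq_fromSpecStalk hyU]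
  rfl

theorem mem_stalkLocus_of_le {y : Y} (U : Y.affineOpens) (hyU : y ∈ U.1)
    (h : 𝓘.ideal U ≤ RingHom.ker (Y.presheaf.germ U.1 y hyU).hom) : y ∈ stalkLocus 𝓘 := by
  obtain ⟨l, hl⟩ := factor_of_le 𝓘 U (Y.presheaf.germ U.1 y hyU) h
  refine ⟨l, ?_⟩
  rw [hl, ← U.2.fromSpecStalk_eq_fromSpecStalk hyU]
  rfl

theorem exists_nhd_res_eq_zero {y : Y} (U : Y.Opens) (hyU : y ∈ U) (a : Γ(Y, U))
    (ha : (Y.presheaf.germ U y hyU).hom a = 0) :
    ∃ (V : Y.Opens) (hV : V ≤ U), y ∈ V ∧ (Y.presheaf.map (homOfLE hV).op).hom a = 0 := by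
  have h0 : (Y.presheaf.germ U y hyU).hom a = (Y.presheaf.germ U y hyU).hom 0 := by
    rw [ha]; exact (map_zero _).symm
  obtain ⟨W, m, iU, iV, e⟩ := Y.presheaf.germ_eq y hyU hyU a 0 h0
  refine ⟨W, iU.le, m, ?_⟩
  have e' : (Y.presheaf.map iU.op).hom a = (Y.presheaf.map iV.op).hom 0 := e
  rw [show homOfLE iU.le = iU from Subsingleton.elim _ _, e']
  exact map_zero _

theorem exists_nhd_finset_res_eq_zero {y : Y} (U : Y.Opens) (hyU : y ∈ U) (s : Finset Γ(Y, U))
    (hs : ∀ a ∈ s, (Y.presheaf.germ U y hyU).hom a = 0) :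
    ∃ (V : Y.Opens) (hV : V ≤ U), y ∈ V ∧ ∀ a ∈ s, (Y.presheaf.map (homOfLE hV).op).hom a = 0 := by
  classical
  induction s using Finset.induction_on with
  | empty => exact ⟨U, le_rfl, hyU, fun a ha => absurd ha (Finset.notMem_empty a)⟩
  | insert b s hb ih =>
    obtain ⟨V, hV, hyV, hVs⟩ := ih (fun a ha => hs a (Finset.mem_insert_of_mem ha))
    obtain ⟨V', hV', hyV', hb'⟩ := exists_nhd_res_eq_zero U hyU b (hs b (Finset.mem_insert_self b s))
    refine ⟨V ⊓ V', inf_le_left.trans hV, ⟨hyV, hyV'⟩, ?_⟩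
    intro a ha
    rcases Finset.mem_insert.1 ha with rfl | ha
    · have : (Y.presheaf.map (homOfLE (inf_le_left.trans hV : V ⊓ V' ≤ U)).op) =
          Y.presheaf.map (homOfLE hV').op ≫ Y.presheaf.map (homOfLE (inf_le_right : V ⊓ V' ≤ V')).op := by
        rw [← Functor.map_comp]; rfl
      rw [this, CommRingCat.hom_comp, RingHom.comp_apply, hb']
      exact map_zero _
    · have : (Y.presheaf.map (homOfLE (inf_le_left.trans hV : V ⊓ V' ≤ U)).op) =
          Y.presheaf.map (homOfLE hV).op ≫ Y.presheaf.map (homOfLE (inf_le_left : V ⊓ V' ≤ V)).op := by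
        rw [← Functor.map_comp]; rfl
      rw [this, CommRingCat.hom_comp, RingHom.comp_apply, hVs a ha]
      exact map_zero _

theorem isOpen_stalkLocus [IsLocallyNoetherian Y] : IsOpen (stalkLocus 𝓘) := by
  rw [isOpen_iff_forall_mem_open]
  intro y hy
  obtain ⟨_, ⟨U₀, hU₀, rfl⟩, hyU, -⟩ := Y.isBasis_affineOpens.exists_subset_of_mem_open
    (Set.mem_univ y) isOpen_univ
  obtain ⟨U, hU⟩ : ∃ U : Y.affineOpens, U = ⟨U₀, hU₀⟩ := ⟨_, rfl⟩
  have hyU' : y ∈ U.1 := by rw [hU]; exact hyU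
  have hle := ideal_le_ker_germ 𝓘 hy U hyU'
  haveI : IsNoetherianRing Γ(Y, U.1) := IsLocallyNoetherian.component_noetherian U
  obtain ⟨s, hs⟩ : (𝓘.ideal U).FG := IsNoetherian.noetherian _
  obtain ⟨V, hV, hyV, hVs⟩ := exists_nhd_finset_res_eq_zero U.1 hyU' s (fun a ha =>
    RingHom.mem_ker.1 (hle (hs ▸ Ideal.subset_span ha)))
  have hres : 𝓘.ideal U ≤ RingHom.ker (Y.presheaf.map (homOfLE hV).op).hom := by
    rw [← hs, Ideal.span_le]
    intro a ha
    exact RingHom.mem_ker.2 (hVs a ha)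
  refine ⟨V, ?_, V.2, hyV⟩
  intro y' hy'
  apply mem_stalkLocus_of_le 𝓘 U (hV hy')
  intro a ha
  rw [RingHom.mem_ker]
  have h1 : (Y.presheaf.germ U.1 y' (hV hy')).hom a =
      (Y.presheaf.germ V y' hy').hom ((Y.presheaf.map (homOfLE hV).op).hom a) :=
    (TopCat.Presheaf.germ_res_apply Y.presheaf (homOfLE hV) y' hy' a).symm
  rw [h1, RingHom.mem_ker.1 (hres ha)]
  exact map_zero _

theorem eq_bot_of_stalkLocus_eq_univ (h : stalkLocus 𝓘 = Set.univ) : 𝓘 = ⊥ := by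
  rw [eq_bot_iff]
  intro U a ha
  have : a = 0 := by
    apply section_eq_zero_of_locally
    intro z hz
    have hzN : z ∈ stalkLocus 𝓘 := h ▸ Set.mem_univ z
    have h1 := ideal_le_ker_germ 𝓘 hzN U hz ha
    obtain ⟨V, hV, hzV, hV0⟩ := exists_nhd_res_eq_zero U.1 hz a (RingHom.mem_ker.1 h1)
    exact ⟨V, hV, hzV, hV0⟩
  rw [this]
  exact Ideal.zero_mem _

end Fac

section Thick
variable (k : Type u) [Field k]

/-- If `f` is constant along `X × y₀`, then the local scheme of `Y` at `y₀` lies in the closed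
subscheme where `f(x, y) = f(x₀, y)`. -/
theorem thick_factor (X Y Z : Over (Spec (CommRingCat.of k))) [CompactSpace X.left]
    [QuasiSeparatedSpace X.left] (hX' : IsIso X.hom.appTop) [IsLocallyNoetherian Y.left]
    (x₀ : 𝟙_ (Over (Spec (CommRingCat.of k))) ⟶ X) (f : X ⊗ Y ⟶ Z)
    (W : Over (Spec (CommRingCat.of k))) (j : W ⟶ Y) [IsClosedImmersion j.left]
    (hrep : ∀ (T : Over (Spec (CommRingCat.of k))) (x : T ⟶ Y),
      (X ◁ x) ≫ f = (X ◁ x) ≫ snd X Y ≫ lift (toUnit Y ≫ x₀) (𝟙 Y) ≫ f ↔ ∃ z : T ⟶ W, z ≫ j = x)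
    (y₀ : 𝟙_ (Over (Spec (CommRingCat.of k))) ⟶ Y) (z₀ : 𝟙_ (Over (Spec (CommRingCat.of k))) ⟶ Z)
    (hf : (X ◁ y₀) ≫ f = toUnit _ ≫ z₀)
    (yl : Spec (CommRingCat.of k) ⟶ Y.left) (hyl : yl = y₀.left)
    (y : Y.left) (hy : y = yl (IsLocalRing.closedPoint k)) :
    ∃ l : Spec (Y.left.presheaf.stalk y) ⟶ W.left, l ≫ j.left = Y.left.fromSpecStalk y := by
  obtain ⟨θ, hθ⟩ : ∃ θ : Y.left.presheaf.stalk y ⟶ CommRingCat.of k,
      IsLocalHom θ.hom ∧ Spec.map θ ≫ Y.left.fromSpecStalk y = yl := by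
    subst hy
    exact ⟨Scheme.stalkClosedPointTo yl, inferInstance,
      Scheme.Spec_stalkClosedPointTo_fromSpecStalk yl⟩
  obtain ⟨hθloc, hθ⟩ := hθ
  have hθm : ∀ a ∈ IsLocalRing.maximalIdeal (Y.left.presheaf.stalk y), θ.hom a = 0 := by
    intro a ha
    by_contra hne
    have h1 : IsUnit (θ.hom a) := isUnit_iff_ne_zero.2 hne
    have h2 : IsUnit a := hθloc.map_nonunit a h1
    exact ha h2
  haveI : IsIso (pullback.snd j.left (Y.left.fromSpecStalk y)) := by
    apply isIso_of_forall_thick (O := ↑(Y.left.presheaf.stalk y))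
    intro n
    obtain ⟨τ, hτ⟩ : ∃ τ : Spec (CommRingCat.of (↑(Y.left.presheaf.stalk y) ⧸
        IsLocalRing.maximalIdeal ↑(Y.left.presheaf.stalk y) ^ (n + 1))) ⟶
        Spec (Y.left.presheaf.stalk y), τ = Spec.map (CommRingCat.ofHom (Ideal.Quotient.mk
          (IsLocalRing.maximalIdeal ↑(Y.left.presheaf.stalk y) ^ (n + 1)))) := ⟨_, rfl⟩
    have hθn : ∀ a ∈ IsLocalRing.maximalIdeal ↑(Y.left.presheaf.stalk y) ^ (n + 1),
        θ.hom a = 0 := fun a ha => hθm a (Ideal.pow_le_self (Nat.succ_ne_zero n) ha)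
    have hτθ : Spec.map (CommRingCat.ofHom (Ideal.Quotient.lift _ θ.hom hθn)) ≫ τ =
        Spec.map θ := by
      rw [hτ, ← Spec.map_comp]
      congr 1
    let Tn : Over (Spec (CommRingCat.of k)) := Over.mk (τ ≫ Y.left.fromSpecStalk y ≫ Y.hom)
    let yn : Tn ⟶ Y := Over.homMk (τ ≫ Y.left.fromSpecStalk y) (Category.assoc _ _ _)
    have ht₀w : Spec.map (CommRingCat.ofHom (Ideal.Quotient.lift _ θ.hom hθn)) ≫ Tn.hom =
        (𝟙_ (Over (Spec (CommRingCat.of k)))).hom := by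
      show _ ≫ τ ≫ _ ≫ _ = _
      rw [← Category.assoc, hτθ, ← Category.assoc, hθ, hyl]
      exact Over.w y₀
    let t₀ : 𝟙_ (Over (Spec (CommRingCat.of k))) ⟶ Tn := Over.homMk
      (Spec.map (CommRingCat.ofHom (Ideal.Quotient.lift _ θ.hom hθn))) ht₀w
    have ht₀y : t₀ ≫ yn = y₀ := by
      apply Over.OverMorphism.ext
      show Spec.map _ ≫ τ ≫ _ = _
      rw [← Category.assoc, hτθ, hθ, hyl]
    haveI : IsAffine Tn.left := inferInstanceAs (IsAffine (Spec _))
    have ht₀s : Surjective t₀.left := by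
      haveI := subsingleton_spec_quot_pow (O := ↑(Y.left.presheaf.stalk y)) n
      constructor
      intro p
      obtain ⟨pt⟩ : Nonempty ↥(Spec (CommRingCat.of k)) :=
        inferInstanceAs (Nonempty (PrimeSpectrum k))
      exact ⟨pt, @Subsingleton.elim (PrimeSpectrum (↑(Y.left.presheaf.stalk y) ⧸
        IsLocalRing.maximalIdeal ↑(Y.left.presheaf.stalk y) ^ (n + 1))) _ _ _⟩
    have hφ : (X ◁ t₀) ≫ (X ◁ yn) ≫ f = toUnit _ ≫ z₀ := by
      rw [← Category.assoc, ← MonoidalCategory.whiskerLeft_comp, ht₀y, hf]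
    have hrig := rigid_thick k X Tn Z hX' x₀ t₀ ht₀s z₀ ((X ◁ yn) ≫ f) hφ
    have hsw : lift (toUnit Tn ≫ x₀) (𝟙 Tn) ≫ (X ◁ yn) =
        yn ≫ lift (toUnit Y ≫ x₀) (𝟙 Y) := by
      apply CartesianMonoidalCategory.hom_ext
      · simp
      · simp
    have heq : (X ◁ yn) ≫ f = (X ◁ yn) ≫ snd X Y ≫ lift (toUnit Y ≫ x₀) (𝟙 Y) ≫ f := by
      rw [whiskerLeft_snd_assoc, ← Category.assoc yn, ← hsw, Category.assoc]
      exact hrig
    obtain ⟨z, hz⟩ := (hrep Tn yn).1 heq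
    have hzl : z.left ≫ j.left = τ ≫ Y.left.fromSpecStalk y := by
      rw [← Over.comp_left, hz]; rfl
    refine ⟨pullback.lift z.left τ hzl, ?_⟩
    rw [pullback.lift_snd, hτ]
  exact ⟨inv (pullback.snd j.left (Y.left.fromSpecStalk y)) ≫
    pullback.fst j.left (Y.left.fromSpecStalk y), by
    rw [Category.assoc, pullback.condition, IsIso.inv_hom_id_assoc]⟩

end Thick

section Main
variable (k : Type u) [Field k] [IsAlgClosed k]

theorem main_S11395 (X Y Z : Over (Spec (CommRingCat.of k))) [LocallyOfFiniteType X.hom]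
    [QuasiCompact X.hom] [LocallyOfFiniteType Y.hom] [QuasiCompact Y.hom]
    (hX : Function.Bijective ((Scheme.ΓSpecIso (CommRingCat.of k)).inv ≫ X.hom.appTop).hom)
    [ConnectedSpace ↥Y.left] [IsSeparated Z.hom]
    (f : X ⊗ Y ⟶ Z) (y₀ : 𝟙_ (Over (Spec (CommRingCat.of k))) ⟶ Y)
    (z₀ : 𝟙_ (Over (Spec (CommRingCat.of k))) ⟶ Z)
    (hf : (X ◁ y₀) ≫ f = toUnit _ ≫ z₀) :
    ∃! g : Y ⟶ Z, f = snd X Y ≫ g := by
  haveI : IsLocallyNoetherian X.left := LocallyOfFiniteType.isLocallyNoetherian X.hom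
  haveI : IsLocallyNoetherian Y.left := LocallyOfFiniteType.isLocallyNoetherian Y.hom
  haveI : CompactSpace X.left := (quasiCompact_iff_compactSpace X.hom).1 inferInstance
  haveI : CompactSpace Y.left := (quasiCompact_iff_compactSpace Y.hom).1 inferInstance
  haveI : QuasiSeparatedSpace X.left := inferInstance
  have hX' : IsIso X.hom.appTop := by
    haveI : IsIso ((Scheme.ΓSpecIso (CommRingCat.of k)).inv ≫ X.hom.appTop) :=
      (ConcreteCategory.isIso_iff_bijective _).2 hX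
    exact IsIso.of_isIso_comp_left (Scheme.ΓSpecIso (CommRingCat.of k)).inv _
  -- a rational point of X
  haveI : Nonempty X.left := by
    by_contra hne
    rw [not_nonempty_iff] at hne
    have h01 := hX.1 (Subsingleton.elim
      (((Scheme.ΓSpecIso (CommRingCat.of k)).inv ≫ X.hom.appTop).hom (0 : k))
      (((Scheme.ΓSpecIso (CommRingCat.of k)).inv ≫ X.hom.appTop).hom (1 : k)))
    exact zero_ne_one h01
  obtain ⟨x, -, hx⟩ := IsClosed.exists_closed_singleton (X := X.left) isClosed_univ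
    Set.univ_nonempty
  obtain ⟨x₀, -⟩ : ∃ x₀ : 𝟙_ (Over (Spec (CommRingCat.of k))) ⟶ X, True :=
    ⟨Over.homMk (pointOfClosedPoint X.hom x hx) (pointOfClosedPoint_comp X.hom x hx), trivial⟩
  obtain ⟨W, j, hj, hrep⟩ := eq_rep k X Y Z f (snd X Y ≫ lift (toUnit Y ≫ x₀) (𝟙 Y) ≫ f)
  haveI := hj
  suffices hs : ∃ z : Y ⟶ W, z ≫ j = 𝟙 Y by
    have h1 := (hrep Y (𝟙 Y)).2 hs
    rw [MonoidalCategory.whiskerLeft_id, Category.id_comp, Category.id_comp] at h1
    refine ⟨lift (toUnit Y ≫ x₀) (𝟙 Y) ≫ f, h1, ?_⟩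
    intro g' hg'
    rw [hg', ← Category.assoc, lift_snd, Category.id_comp]
  -- the locus
  have hNopen : IsOpen (stalkLocus j.left.ker) := isOpen_stalkLocus _
  have hNsub := stalkLocus_subset_range j.left.ker
  have hWclosed : IsClosed (Set.range j.left.ker.subschemeι) :=
    j.left.ker.subschemeι.isClosedEmbedding.isClosed_range
  have hrange : Set.range j.left.ker.subschemeι = Set.range j.left := by
    apply Set.Subset.antisymm
    · rintro _ ⟨p, rfl⟩
      obtain ⟨l, hl⟩ := (factor_iff_image j.left j.left.ker.subschemeι).2 ⟨𝟙 _, Category.id_comp _⟩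
      exact ⟨l p, by rw [← Scheme.Hom.comp_apply, hl]⟩
    · rintro _ ⟨p, rfl⟩
      obtain ⟨l, hl⟩ := (factor_iff_image j.left j.left).1 ⟨𝟙 _, Category.id_comp _⟩
      exact ⟨l p, by rw [← Scheme.Hom.comp_apply, hl]⟩
  have hsndU : ∀ (y' : 𝟙_ (Over (Spec (CommRingCat.of k))) ⟶ Y),
      (X ◁ y') ≫ snd X Y ≫ lift (toUnit Y ≫ x₀) (𝟙 Y) ≫ f =
        toUnit _ ≫ (y' ≫ lift (toUnit Y ≫ x₀) (𝟙 Y) ≫ f) := by
    intro y'
    rw [whiskerLeft_snd_assoc]
    congr 1
    exact toUnit_unique _ _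
  -- closed points of W lie in the locus
  have hA : ∀ y ∈ Set.range j.left, IsClosed ({y} : Set Y.left) → y ∈ stalkLocus j.left.ker := by
    rintro y ⟨w₀, hw₀⟩ hyc
    have hw₀c : IsClosed ({w₀} : Set W.left) := by
      have : ({w₀} : Set W.left) = j.left ⁻¹' {y} := by
        ext w
        simp only [Set.mem_singleton_iff, Set.mem_preimage]
        rw [← hw₀]
        exact (j.left.isClosedEmbedding.injective.eq_iff).symm
      rw [this]; exact hyc.preimage j.left.continuous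
    haveI : LocallyOfFiniteType W.hom := by rw [← Over.w j]; infer_instance
    obtain ⟨y', hy'⟩ : ∃ y' : 𝟙_ (Over (Spec (CommRingCat.of k))) ⟶ Y,
        y'.left = pointOfClosedPoint Y.hom y hyc :=
      ⟨Over.homMk (pointOfClosedPoint Y.hom y hyc) (pointOfClosedPoint_comp Y.hom y hyc), rfl⟩
    obtain ⟨w, hw⟩ : ∃ w : 𝟙_ (Over (Spec (CommRingCat.of k))) ⟶ W,
        w.left = pointOfClosedPoint W.hom w₀ hw₀c :=
      ⟨Over.homMk (pointOfClosedPoint W.hom w₀ hw₀c) (pointOfClosedPoint_comp W.hom w₀ hw₀c), rfl⟩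
    have hwj : w ≫ j = y' := by
      apply Over.OverMorphism.ext
      rw [Over.comp_left, hw, hy']
      apply ext_of_apply_closedPoint_eq Y.hom
      · rw [Category.assoc, Over.w j]; exact pointOfClosedPoint_comp W.hom w₀ hw₀c
      · exact pointOfClosedPoint_comp Y.hom y hyc
      · rw [Scheme.Hom.comp_apply, pointOfClosedPoint_apply, pointOfClosedPoint_apply, hw₀]
    have hcond := (hrep _ y').2 ⟨w, hwj⟩
    rw [hsndU] at hcond
    obtain ⟨l, hl⟩ := thick_factor k X Y Z hX' x₀ f W j hrep y' _ hcond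
      (pointOfClosedPoint Y.hom y hyc) hy'.symm y (pointOfClosedPoint_apply Y.hom y hyc _).symm
    exact (factor_iff_image j.left _).1 ⟨l, hl⟩
  have hNW : stalkLocus j.left.ker = Set.range j.left.ker.subschemeι := by
    apply Set.Subset.antisymm hNsub
    by_contra hne
    have hC : IsClosed (Set.range j.left.ker.subschemeι \ stalkLocus j.left.ker) :=
      hWclosed.sdiff hNopen
    have hCne : (Set.range j.left.ker.subschemeι \ stalkLocus j.left.ker).Nonempty :=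
      Set.nonempty_of_not_subset hne
    obtain ⟨y, ⟨hyW, hyN⟩, hyc⟩ := hC.exists_closed_singleton hCne
    exact hyN (hA y (hrange ▸ hyW) hyc)
  have hNuniv : stalkLocus j.left.ker = Set.univ := by
    apply IsClopen.eq_univ ⟨hNW ▸ hWclosed, hNopen⟩
    -- the point y₀
    have e1 : y₀ ≫ lift (toUnit Y ≫ x₀) (𝟙 Y) = lift x₀ (𝟙 _) ≫ (X ◁ y₀) := by
      apply CartesianMonoidalCategory.hom_ext
      · rw [Category.assoc, lift_fst, Category.assoc, whiskerLeft_fst, lift_fst, ← Category.assoc,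
          toUnit_unique (y₀ ≫ toUnit Y) (𝟙 _), Category.id_comp]
      · rw [Category.assoc, lift_snd, Category.assoc, whiskerLeft_snd, lift_snd_assoc,
          Category.comp_id, Category.id_comp]
    have e2 : (X ◁ y₀) ≫ f = (X ◁ y₀) ≫ snd X Y ≫ lift (toUnit Y ≫ x₀) (𝟙 Y) ≫ f := by
      rw [hsndU, ← Category.assoc y₀, e1, Category.assoc, hf, ← Category.assoc (lift x₀ (𝟙 _)),
        toUnit_unique (lift x₀ (𝟙 _) ≫ toUnit _) (𝟙 _), Category.id_comp]
    obtain ⟨z, hz⟩ := (hrep _ y₀).1 e2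
    obtain ⟨yl, hyl⟩ : ∃ yl : Spec (CommRingCat.of k) ⟶ Y.left, yl = y₀.left := ⟨_, rfl⟩
    have hyw : yl ≫ Y.hom = 𝟙 _ := by rw [hyl]; exact Over.w y₀
    refine ⟨yl (IsLocalRing.closedPoint k), hA _ ?_ ?_⟩
    · refine ⟨z.left (IsLocalRing.closedPoint k), ?_⟩
      rw [← Scheme.Hom.comp_apply, ← Over.comp_left, hz, hyl]
    · exact ((pointEquivClosedPoint Y.hom) ⟨yl, hyw⟩).2
  have hbot : j.left.ker = ⊥ := eq_bot_of_stalkLocus_eq_univ _ hNuniv
  haveI : IsIso j.left := IsClosedImmersion.isIso_iff_ker_eq_bot.2 hbot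
  refine ⟨Over.homMk (inv j.left) ?_, ?_⟩
  · rw [IsIso.inv_comp_eq]; exact (Over.w j).symm
  · apply Over.OverMorphism.ext
    rw [Over.comp_left]
    exact IsIso.inv_hom_id _

end Main

end Groth.Agent.Lib.Helper4.AntiAffRigid2
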