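import Mathlib
import Groth.Prelude.Def_AlgGrp
import Groth.Agent.Lib.Helper4.AntiAffRigid2
import Groth.Agent.Lib.Helper4.GrpArtin2
import Groth.Agent.Lib.Helper7.GeomConn.SchemeGlue
import Groth.Agent.Lib.Helper6.GrpSch.Sep

/-!
# anti-affine rigidity over any field; anti-affine groups are connected and commutative; pointed maps from anti-affine groups are homs and central (S14578, S3293, S7996) (helper4)
-/

set_option backward.isDefEq.respectTransparency.types false
set_option synthInstance.maxHeartbeats 400000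
set_option autoImplicit false
set_option linter.unusedSectionVars false
set_option linter.style.haveILetI false
set_option linter.unusedSimpArgs false
universe u v w
open CategoryTheory CategoryTheory.Limits AlgebraicGeometry TopologicalSpace Opposite
open MonoidalCategory CartesianMonoidalCategory MonObj GrpObj

namespace Groth.Agent.Lib.Helper4.AntiAffRigid3

variable {k : Type u} [Field k]

/-- anti-affineness is preserved by field extension -/
theorem antiAffine_bc (X : Over (Spec (CommRingCat.of k))) [QuasiCompact X.hom]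
    [QuasiSeparated X.hom]
    (hX : Function.Bijective ((Scheme.ΓSpecIso (CommRingCat.of k)).inv ≫ X.hom.appTop).hom)
    (K : Type u) [Field K] [Algebra k K] :
    Function.Bijective ((Scheme.ΓSpecIso (CommRingCat.of K)).inv ≫
      ((Over.pullback (Spec.map (CommRingCat.ofHom (algebraMap k K)))).obj X).hom.appTop).hom := by
  haveI : CompactSpace X.left := (quasiCompact_iff_compactSpace X.hom).1 inferInstance
  haveI : QuasiSeparatedSpace X.left :=
    (quasiSeparated_iff_quasiSeparatedSpace X.hom).1 inferInstance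
  have hX' : IsIso X.hom.appTop := by
    haveI : IsIso ((Scheme.ΓSpecIso (CommRingCat.of k)).inv ≫ X.hom.appTop) :=
      (ConcreteCategory.isIso_iff_bijective _).2 hX
    exact IsIso.of_isIso_comp_left (Scheme.ΓSpecIso (CommRingCat.of k)).inv _
  obtain ⟨g, hg⟩ : ∃ g : Spec (CommRingCat.of K) ⟶ Spec (CommRingCat.of k),
      g = Spec.map (CommRingCat.ofHom (algebraMap k K)) := ⟨_, rfl⟩
  rw [← hg]
  haveI : Flat g := by
    rw [hg, HasRingHomProperty.Spec_iff (P := @Flat)]
    simp only [CommRingCat.hom_ofHom, RingHom.Flat]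
    infer_instance
  haveI : Flat (Over.mk g).hom := ‹Flat g›
  haveI : IsAffine (Over.mk g).left := inferInstanceAs (IsAffine (Spec (CommRingCat.of K)))
  have h1 := Groth.Agent.Lib.Helper4.AntiAffRigid1.isIso_snd_appTop X (Over.mk g) hX'
  have h2 : IsIso ((Over.pullback g).obj X).hom.appTop := h1
  haveI := h2
  exact (ConcreteCategory.isIso_iff_bijective _).1 inferInstance


/-- whiskering a point in lift form -/
lemma whiskerLeft_point (X Y : Over (Spec (CommRingCat.of k)))
    (y₀ : 𝟙_ (Over (Spec (CommRingCat.of k))) ⟶ Y) :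
    X ◁ y₀ = (ρ_ X).hom ≫ lift (𝟙 X) (toUnit X ≫ y₀) := by
  apply CartesianMonoidalCategory.hom_ext
  · simp only [whiskerLeft_fst, Category.assoc, lift_fst, Category.comp_id]
    exact (rightUnitor_hom X).symm
  · simp only [whiskerLeft_snd, Category.assoc, lift_snd]
    rw [← Category.assoc, toUnit_unique ((ρ_ X).hom ≫ toUnit X) (snd X (𝟙_ _))]

/-- rigidity for an anti-affine scheme with a rational point, over any field -/
theorem rigidity_antiAffine (X Y Z : Over (Spec (CommRingCat.of k))) [LocallyOfFiniteType X.hom]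
    [QuasiCompact X.hom] [LocallyOfFiniteType Y.hom] [QuasiCompact Y.hom]
    (hX : Function.Bijective ((Scheme.ΓSpecIso (CommRingCat.of k)).inv ≫ X.hom.appTop).hom)
    [ConnectedSpace ↥Y.left] [IsSeparated Z.hom]
    (f : X ⊗ Y ⟶ Z) (x₀ : 𝟙_ (Over (Spec (CommRingCat.of k))) ⟶ X)
    (y₀ : 𝟙_ (Over (Spec (CommRingCat.of k))) ⟶ Y)
    (z₀ : 𝟙_ (Over (Spec (CommRingCat.of k))) ⟶ Z)
    (hf : lift (𝟙 X) (toUnit X ≫ y₀) ≫ f = toUnit X ≫ z₀) :
    f = snd X Y ≫ lift (toUnit Y ≫ x₀) (𝟙 Y) ≫ f := by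
  let g := Spec.map (CommRingCat.ofHom <| algebraMap k (AlgebraicClosure k))
  let F := Over.pullback g
  let X' := F.obj X
  let Y' := F.obj Y
  let Z' := F.obj Z
  haveI : LocallyOfFiniteType X'.hom := by dsimp [X', F]; infer_instance
  haveI : QuasiCompact X'.hom := by dsimp [X', F]; infer_instance
  haveI : LocallyOfFiniteType Y'.hom := by dsimp [Y', F]; infer_instance
  haveI : QuasiCompact Y'.hom := by dsimp [Y', F]; infer_instance
  haveI : IsSeparated Z'.hom := by dsimp [Z', F]; infer_instance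
  haveI : Subsingleton ↥(Spec (CommRingCat.of k)) :=
    inferInstanceAs (Subsingleton (PrimeSpectrum k))
  haveI : GeometricallyConnected Y.hom :=
    Groth.Agent.Lib.Helper4.GrpArtin2.geomConn Y.hom y₀.left (Over.w y₀)
  haveI : ConnectedSpace ↥Y'.left :=
    GeometricallyConnected.geometrically_connectedSpace (f := Y.hom) g _ _
      (IsPullback.of_hasPullback Y.hom g)
  haveI : IsLocallyNoetherian X.left := LocallyOfFiniteType.isLocallyNoetherian X.hom
  haveI : CompactSpace X.left := (quasiCompact_iff_compactSpace X.hom).1 inferInstance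
  haveI : QuasiSeparatedSpace X.left := inferInstance
  haveI : QuasiSeparated X.hom := (quasiSeparated_iff_quasiSeparatedSpace X.hom).2 inferInstance
  have hX' := antiAffine_bc X hX (AlgebraicClosure k)
  obtain ⟨f', hf'def⟩ : ∃ f' : X' ⊗ Y' ⟶ Z', f' = Functor.LaxMonoidal.μ F X Y ≫ F.map f :=
    ⟨_, rfl⟩
  obtain ⟨x₀', hx₀'⟩ : ∃ x₀' : 𝟙_ _ ⟶ X', x₀' = Functor.LaxMonoidal.ε F ≫ F.map x₀ := ⟨_, rfl⟩
  obtain ⟨y₀', hy₀'⟩ : ∃ y₀' : 𝟙_ _ ⟶ Y', y₀' = Functor.LaxMonoidal.ε F ≫ F.map y₀ := ⟨_, rfl⟩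
  obtain ⟨z₀', hz₀'⟩ : ∃ z₀' : 𝟙_ _ ⟶ Z', z₀' = Functor.LaxMonoidal.ε F ≫ F.map z₀ := ⟨_, rfl⟩
  have hV : lift (𝟙 X') (toUnit X' ≫ y₀') ≫ f' = toUnit X' ≫ z₀' := by
    rw [hf'def, hy₀', hz₀']
    rw [← Category.assoc (toUnit X'), Functor.Monoidal.toUnit_ε, ← Functor.map_comp,
      ← F.map_id, Functor.Monoidal.lift_μ_assoc, ← Functor.map_comp, hf, Functor.map_comp,
      ← Functor.Monoidal.toUnit_ε_assoc]
  have hf2 : (X' ◁ y₀') ≫ f' = toUnit _ ≫ z₀' := by
    rw [whiskerLeft_point, Category.assoc, hV, ← Category.assoc]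
    congr 1
  obtain ⟨g', hg', -⟩ := Groth.Agent.Lib.Helper4.AntiAffRigid2.main_S11395 (AlgebraicClosure k)
    X' Y' Z' hX' f' y₀' z₀' hf2
  have hg'' : g' = lift (toUnit Y' ≫ x₀') (𝟙 Y') ≫ f' := by
    rw [hg', ← Category.assoc, lift_snd, Category.id_comp]
  have key : f' = snd X' Y' ≫ lift (toUnit Y' ≫ x₀') (𝟙 Y') ≫ f' := by
    rw [← hg'']; exact hg'
  apply F.map_injective
  rw [← cancel_epi (Functor.Monoidal.μIso F X Y).hom]
  simp only [Functor.Monoidal.μIso_hom]
  rw [← hf'def, key, hf'def, hx₀', Functor.map_comp, Functor.map_comp,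
    ← Functor.Monoidal.μ_snd_assoc]
  congr 2
  rw [← Category.assoc (toUnit Y'), Functor.Monoidal.toUnit_ε, ← F.map_id,
    ← F.map_comp (toUnit Y) x₀, Functor.Monoidal.lift_μ_assoc, ← F.map_comp]

/-- an anti-affine group scheme is connected -/
theorem connectedSpace_of_antiAffine (G : Over (Spec (CommRingCat.of k))) [GrpObj G]
    (hX : Function.Bijective ((Scheme.ΓSpecIso (CommRingCat.of k)).inv ≫ G.hom.appTop).hom) :
    ConnectedSpace ↥G.left := by
  let e := RingEquiv.ofBijective _ hX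
  haveI : IsDomain Γ(G.left, ⊤) := e.symm.toMulEquiv.isDomain
  haveI : Nonempty ↥(Spec (CommRingCat.of k)) := inferInstanceAs (Nonempty (PrimeSpectrum k))
  haveI : Nonempty ↥G.left := ⟨η[G].left (Classical.arbitrary ↥(Spec (CommRingCat.of k)))⟩
  apply Groth.Agent.Helper7.GeomConn.connectedSpace_of_idempotent_trivial
  intro a ha
  exact IsIdempotentElem.iff_eq_zero_or_one.1 ha

theorem main_S14578 (k : Type u) [Field k]
    (H G : Over (Spec (CommRingCat.of k))) [GrpObj H] [GrpObj G] [LocallyOfFiniteType H.hom] [QuasiCompact H.hom]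
    [LocallyOfFiniteType G.hom] [QuasiCompact G.hom]
    (hH : Function.Bijective ((Scheme.ΓSpecIso (CommRingCat.of k)).inv ≫ H.hom.appTop).hom) (f : H ⟶ G) (hf : η[H] ≫ f = η[G]) : IsMonHom f := by
  haveI : Subsingleton ↥(Spec (CommRingCat.of k)) :=
    inferInstanceAs (Subsingleton (PrimeSpectrum k))
  haveI : ConnectedSpace ↥H.left := connectedSpace_of_antiAffine H hH
  haveI : IsSeparated G.hom := Groth.Agent.Lib.Helper6.GrpSch.Sep.isSeparated_of_subsingleton G
  obtain ⟨d, hd⟩ : ∃ d : H ⊗ H ⟶ G, d = (μ[H] ≫ f) * ((fst H H ≫ f) * (snd H H ≫ f))⁻¹ :=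
    ⟨_, rfl⟩
  have hone : (toUnit H ≫ η[H] : H ⟶ H) = 1 := rfl
  have honeC : (toUnit H ≫ η[G] : H ⟶ G) = 1 := rfl
  have hV : lift (𝟙 H) (toUnit H ≫ η[H]) ≫ d = toUnit H ≫ η[G] := by
    have h1 : lift (𝟙 H) (toUnit H ≫ η[H]) ≫ μ[H] = 𝟙 H := by
      rw [← Hom.mul_def, hone]; exact _root_.mul_one _
    rw [hd, MonObj.comp_mul, GrpObj.comp_inv, MonObj.comp_mul, ← Category.assoc,
      ← Category.assoc, ← Category.assoc, lift_fst, lift_snd, h1, Category.id_comp,
      Category.assoc, hf, honeC, _root_.mul_one, mul_inv_cancel]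
  have hW : lift (toUnit H ≫ η[H]) (𝟙 H) ≫ d = toUnit H ≫ η[G] := by
    have h1 : lift (toUnit H ≫ η[H]) (𝟙 H) ≫ μ[H] = 𝟙 H := by
      rw [← Hom.mul_def, hone]; exact _root_.one_mul _
    rw [hd, MonObj.comp_mul, GrpObj.comp_inv, MonObj.comp_mul, ← Category.assoc,
      ← Category.assoc, ← Category.assoc, lift_fst, lift_snd, h1, Category.id_comp,
      Category.assoc, hf, honeC, _root_.one_mul, mul_inv_cancel]
  have key := rigidity_antiAffine H H G hH d η[H] η[H] η[G] hV
  rw [hW] at key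
  have h1 : d = 1 := by
    rw [key, ← Category.assoc, toUnit_unique (snd H H ≫ toUnit H) (toUnit _)]; rfl
  have hmul : μ[H] ≫ f = (fst H H ≫ f) * (snd H H ≫ f) := by
    rw [hd] at h1
    exact mul_inv_eq_one.mp h1
  refine { one_hom := hf, mul_hom := ?_ }
  rw [hmul, Hom.mul_def]
  congr 1

theorem main_S3293 (k : Type u) [Field k]
    (G : Over (Spec (CommRingCat.of k))) [GrpObj G] [LocallyOfFiniteType G.hom] [QuasiCompact G.hom]
    (hO : Function.Bijective ((Scheme.ΓSpecIso (CommRingCat.of k)).inv ≫ G.hom.appTop).hom) :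
    ConnectedSpace G.left ∧ IsCommMonObj G := by
  haveI : Subsingleton ↥(Spec (CommRingCat.of k)) :=
    inferInstanceAs (Subsingleton (PrimeSpectrum k))
  haveI : ConnectedSpace ↥G.left := connectedSpace_of_antiAffine G hO
  haveI : IsSeparated G.hom := Groth.Agent.Lib.Helper6.GrpSch.Sep.isSeparated_of_subsingleton G
  refine ⟨inferInstance, ?_⟩
  rw [isCommMonObj_iff_commutator_eq_toUnit_η]
  have hone : (toUnit G ≫ η[G] : G ⟶ G) = 1 := rfl
  have hV : lift (𝟙 G) (toUnit G ≫ η[G]) ≫ GrpObj.commutator G = toUnit G ≫ η[G] := by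
    rw [GrpObj.lift_commutator_eq_mul_mul_inv_inv, hone, inv_one, _root_.mul_one, _root_.mul_one,
      mul_inv_cancel]
  have hW : lift (toUnit G ≫ η[G]) (𝟙 G) ≫ GrpObj.commutator G = toUnit G ≫ η[G] := by
    rw [GrpObj.lift_commutator_eq_mul_mul_inv_inv, hone, inv_one, _root_.one_mul, _root_.mul_one,
      mul_inv_cancel]
  have key := rigidity_antiAffine G G G hO (GrpObj.commutator G) η[G] η[G] η[G] hV
  rw [hW] at key
  rw [key, ← Category.assoc, toUnit_unique (snd G G ≫ toUnit G) (toUnit _)]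

theorem main_S7996 (k : Type u) [Field k]
    (H G : Over (Spec (CommRingCat.of k))) [GrpObj H] [GrpObj G]
    [LocallyOfFiniteType H.hom] [QuasiCompact H.hom] [LocallyOfFiniteType G.hom] [QuasiCompact G.hom]
    [ConnectedSpace G.left]
    (hO : Function.Bijective ((Scheme.ΓSpecIso (CommRingCat.of k)).inv ≫ H.hom.appTop).hom)
    (φ : H ⟶ G) [IsMonHom φ] (X : Over (Spec (CommRingCat.of k))) (h : X ⟶ H)
    (X' : Over (Spec (CommRingCat.of k))) (x : X' ⟶ X) (g : X' ⟶ G) :
    (x ≫ h ≫ φ) * g = g * (x ≫ h ≫ φ) := by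
  haveI : Subsingleton ↥(Spec (CommRingCat.of k)) :=
    inferInstanceAs (Subsingleton (PrimeSpectrum k))
  haveI : IsSeparated G.hom := Groth.Agent.Lib.Helper6.GrpSch.Sep.isSeparated_of_subsingleton G
  obtain ⟨c, hc⟩ : ∃ c : H ⊗ G ⟶ G,
      c = ((fst H G ≫ φ) * snd H G) * (snd H G * (fst H G ≫ φ))⁻¹ := ⟨_, rfl⟩
  have honeH : (toUnit H ≫ η[G] : H ⟶ G) = 1 := rfl
  have honeG : (toUnit G ≫ η[G] : G ⟶ G) = 1 := rfl
  have hφ : η[H] ≫ φ = η[G] := IsMonHom.one_hom φ
  have hV : lift (𝟙 H) (toUnit H ≫ η[G]) ≫ c = toUnit H ≫ η[G] := by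
    rw [hc, MonObj.comp_mul, GrpObj.comp_inv, MonObj.comp_mul, MonObj.comp_mul,
      ← Category.assoc, lift_fst, lift_snd, Category.id_comp, honeH, _root_.mul_one,
      _root_.one_mul, mul_inv_cancel]
  have hW : lift (toUnit G ≫ η[H]) (𝟙 G) ≫ c = toUnit G ≫ η[G] := by
    rw [hc, MonObj.comp_mul, GrpObj.comp_inv, MonObj.comp_mul, MonObj.comp_mul,
      ← Category.assoc, lift_fst, lift_snd, Category.assoc, hφ, honeG, _root_.mul_one,
      _root_.one_mul, mul_inv_cancel]
  have key := rigidity_antiAffine H G G hO c η[H] η[G] η[G] hV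
  rw [hW] at key
  have h1 : c = 1 := by
    rw [key, ← Category.assoc, toUnit_unique (snd H G ≫ toUnit G) (toUnit _)]; rfl
  have hcomm : (fst H G ≫ φ) * snd H G = snd H G * (fst H G ≫ φ) := by
    rw [hc] at h1
    exact mul_inv_eq_one.mp h1
  have := congrArg (fun t => lift (x ≫ h) g ≫ t) hcomm
  simp only [MonObj.comp_mul] at this
  rw [← Category.assoc, lift_fst, lift_snd, Category.assoc] at this
  exact this

end Groth.Agent.Lib.Helper4.AntiAffRigid3
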