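import Mathlib
import Groth.Prelude.Def_FlatMod2
import Groth.Agent.Lib.Helper1.AdjBC
import Groth.Agent.Lib.Helper1.PullSec
import Groth.Agent.Lib.Helper1.TwForm1
import Groth.Agent.Lib.Helper5.Stalk.RpushRes
import Groth.Agent.Lib.Helper5.Perf.Shrink

/-!
# the unit N -> f_* f^* N is an isomorphism for finite locally free N when O_S = f_* O_X; S3222 (helper4)
-/

set_option backward.isDefEq.respectTransparency.types false
set_option synthInstance.maxHeartbeats 400000
set_option autoImplicit false
set_option linter.unusedSectionVars false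
set_option linter.style.haveILetI false
set_option linter.unusedSimpArgs false
universe u v w
open CategoryTheory CategoryTheory.Limits AlgebraicGeometry TopologicalSpace Opposite MonoidalCategory
open Groth.Agent.Helper1

namespace Groth.Agent.Lib.Helper4.UnitFLF1

section A
variable {X S : Scheme.{u}} (f : X ⟶ S)

/-- the unit at the structure sheaf is an isomorphism when `O_S → f_* O_X` is bijective -/
theorem isIso_unit_structure (hf : ∀ U : S.Opens, Function.Bijective (f.app U)) :
    IsIso ((Scheme.Modules.pullbackPushforwardAdjunction f).unit.app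
      (SheafOfModules.unit S.ringCatSheaf)) := by
  haveI : (Opens.map f.base).Final := PullSec.final_opensMap f
  have h := SheafOfModules.pullbackPushforwardAdjunction_homEquiv_pullbackObjUnitToUnit
    f.toRingCatSheafHom
  rw [Adjunction.homEquiv_unit] at h
  have h2 : IsIso (SheafOfModules.unitToPushforwardObjUnit f.toRingCatSheafHom) := by
    refine TwForm.isIso_of_app_bijective
      (M := SheafOfModules.unit S.ringCatSheaf)
      (N := (Scheme.Modules.pushforward f).obj (SheafOfModules.unit X.ringCatSheaf)) _ ?_
    intro U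
    exact hf U
  have h' : (Scheme.Modules.pullbackPushforwardAdjunction f).unit.app (Coh.structureModule S) ≫
      (Scheme.Modules.pushforward f).map (PullSec.unitIso f).hom =
        SheafOfModules.unitToPushforwardObjUnit f.toRingCatSheafHom := h
  have h3 : IsIso ((Scheme.Modules.pullbackPushforwardAdjunction f).unit.app (Coh.structureModule S) ≫
      (Scheme.Modules.pushforward f).map (PullSec.unitIso f).hom) := by
    rw [h']; exact h2
  exact IsIso.of_isIso_comp_right _ ((Scheme.Modules.pushforward f).map (PullSec.unitIso f).hom)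

end A

section B
variable {C D : Type*} [Category C] [Category D]

/-- a natural transformation between coproduct preserving functors is an isomorphism at a coproduct
of objects at which it is an isomorphism -/
theorem isIso_app_sigma {F G : C ⥤ D} (α : F ⟶ G) {ι : Type*} (Xs : ι → C) [HasCoproduct Xs]
    [HasCoproduct fun i => F.obj (Xs i)] [HasCoproduct fun i => G.obj (Xs i)]
    [PreservesColimit (Discrete.functor Xs) F] [PreservesColimit (Discrete.functor Xs) G]
    (h : ∀ i, IsIso (α.app (Xs i))) : IsIso (α.app (∐ Xs)) := by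
  have key : Limits.Sigma.map (fun i => α.app (Xs i)) ≫ sigmaComparison G Xs =
      sigmaComparison F Xs ≫ α.app (∐ Xs) := by
    apply Limits.Sigma.hom_ext
    intro i
    simp
  haveI : ∀ i, IsIso (α.app (Xs i)) := h
  haveI : IsIso (Limits.Sigma.map (fun i => α.app (Xs i))) :=
    ⟨⟨Limits.Sigma.map (fun i => inv (α.app (Xs i))),
      by apply Limits.Sigma.hom_ext; intro i; simp,
      by apply Limits.Sigma.hom_ext; intro i; simp⟩⟩
  have h1 : IsIso (Limits.Sigma.map (fun i => α.app (Xs i)) ≫ sigmaComparison G Xs) := inferInstance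
  rw [key] at h1
  exact IsIso.of_isIso_comp_left (sigmaComparison F Xs) _

end B

section C
variable {X S : Scheme.{u}} (f : X ⟶ S)

theorem isIso_unit_free (hf : ∀ U : S.Opens, Function.Bijective (f.app U)) (n : ℕ) :
    IsIso ((Scheme.Modules.pullbackPushforwardAdjunction f).unit.app (FlatMod.freeMod S n)) := by
  haveI : PreservesColimit (Discrete.functor fun _ : Fin n => Coh.structureModule S)
      (Scheme.Modules.pullback f ⋙ Scheme.Modules.pushforward f) := inferInstance
  exact isIso_app_sigma (Scheme.Modules.pullbackPushforwardAdjunction f).unit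
    (fun _ : Fin n => Coh.structureModule S) (fun _ => isIso_unit_structure f hf)


variable (U : S.Opens)

/-- `f^* ⋙ (-)|_{f⁻¹U} ≅ (-)|_U ⋙ (f|_U)^*` -/
noncomputable def pullRestrictIso :
    Scheme.Modules.pullback f ⋙ Scheme.Modules.restrictFunctor (f ⁻¹ᵁ U).ι ≅
      Scheme.Modules.restrictFunctor U.ι ⋙ Scheme.Modules.pullback (f ∣_ U) :=
  Functor.isoWhiskerLeft _ (Scheme.Modules.restrictFunctorIsoPullback _) ≪≫
    Scheme.Modules.pullbackComp (f ⁻¹ᵁ U).ι f ≪≫
    Scheme.Modules.pullbackCongr (morphismRestrict_ι f U).symm ≪≫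
    (Scheme.Modules.pullbackComp (f ∣_ U) U.ι).symm ≪≫
    Functor.isoWhiskerRight (Scheme.Modules.restrictFunctorIsoPullback U.ι).symm _

/-- the functor `f^* ⋙ f_* ⋙ (-)|_U` factors through restriction to `U` -/
noncomputable def ppRestrictIso :
    (Scheme.Modules.pullback f ⋙ Scheme.Modules.pushforward f) ⋙
        Scheme.Modules.restrictFunctor U.ι ≅
      Scheme.Modules.restrictFunctor U.ι ⋙
        (Scheme.Modules.pullback (f ∣_ U) ⋙ Scheme.Modules.pushforward (f ∣_ U)) :=
  Functor.associator _ _ _ ≪≫
    Functor.isoWhiskerLeft _ (Groth.Agent.Lib.Helper5.RpushRes.pushRestrictIso f U) ≪≫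
    (Functor.associator _ _ _).symm ≪≫
    Functor.isoWhiskerRight (pullRestrictIso f U) _ ≪≫ Functor.associator _ _ _

theorem isIso_restrict_pp {M M' : S.Modules} (φ : M ⟶ M')
    (h : IsIso ((Scheme.Modules.restrictFunctor U.ι).map φ)) :
    IsIso ((Scheme.Modules.restrictFunctor U.ι).map
      ((Scheme.Modules.pushforward f).map ((Scheme.Modules.pullback f).map φ))) := by
  have h1 : IsIso ((Scheme.Modules.restrictFunctor U.ι ⋙
        (Scheme.Modules.pullback (f ∣_ U) ⋙ Scheme.Modules.pushforward (f ∣_ U))).map φ) := by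
    change IsIso ((Scheme.Modules.pullback (f ∣_ U) ⋙ Scheme.Modules.pushforward (f ∣_ U)).map
      ((Scheme.Modules.restrictFunctor U.ι).map φ))
    infer_instance
  exact (NatIso.isIso_map_iff (ppRestrictIso f U) φ).2 h1

theorem isIso_restrict_radj_unit (M : S.Modules) :
    IsIso ((Scheme.Modules.restrictFunctor U.ι).map
      ((Scheme.Modules.restrictAdjunction U.ι).unit.app M)) := by
  have h := (Scheme.Modules.restrictAdjunction U.ι).left_triangle_components M
  have h1 : IsIso ((Scheme.Modules.restrictFunctor U.ι).map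
      ((Scheme.Modules.restrictAdjunction U.ι).unit.app M) ≫
      (Scheme.Modules.restrictAdjunction U.ι).counit.app
        ((Scheme.Modules.restrictFunctor U.ι).obj M)) := by
    rw [h]; infer_instance
  exact IsIso.of_isIso_comp_right _ ((Scheme.Modules.restrictAdjunction U.ι).counit.app
        ((Scheme.Modules.restrictFunctor U.ι).obj M))

theorem isIso_restrict_unit_of_iso {M M' : S.Modules} (e : M.restrict U.ι ≅ M'.restrict U.ι)
    (h' : IsIso ((Scheme.Modules.pullbackPushforwardAdjunction f).unit.app M')) :
    IsIso ((Scheme.Modules.restrictFunctor U.ι).map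
      ((Scheme.Modules.pullbackPushforwardAdjunction f).unit.app M)) := by
  let ρ := Scheme.Modules.restrictFunctor U.ι
  let radj := Scheme.Modules.restrictAdjunction U.ι
  let adj := Scheme.Modules.pullbackPushforwardAdjunction f
  let A : S.Modules := (Scheme.Modules.pushforward U.ι).obj (M'.restrict U.ι)
  let φ' : M' ⟶ A := radj.unit.app M'
  let φ : M ⟶ A := radj.unit.app M ≫ (Scheme.Modules.pushforward U.ι).map e.hom
  haveI hφ' : IsIso (ρ.map φ') := isIso_restrict_radj_unit U M'
  haveI hφ : IsIso (ρ.map φ) := by
    haveI := isIso_restrict_radj_unit U M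
    change IsIso (ρ.map (radj.unit.app M ≫ (Scheme.Modules.pushforward U.ι).map e.hom))
    rw [Functor.map_comp]
    infer_instance
  haveI hG' : IsIso (ρ.map ((Scheme.Modules.pushforward f).map ((Scheme.Modules.pullback f).map φ'))) :=
    isIso_restrict_pp f U φ' hφ'
  haveI hG : IsIso (ρ.map ((Scheme.Modules.pushforward f).map ((Scheme.Modules.pullback f).map φ))) :=
    isIso_restrict_pp f U φ hφ
  have n' : ρ.map φ' ≫ ρ.map (adj.unit.app A) = ρ.map (adj.unit.app M') ≫
      ρ.map ((Scheme.Modules.pushforward f).map ((Scheme.Modules.pullback f).map φ')) := by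
    rw [← Functor.map_comp, ← Functor.map_comp]
    congr 1
    exact adj.unit.naturality φ'
  have n : ρ.map φ ≫ ρ.map (adj.unit.app A) = ρ.map (adj.unit.app M) ≫
      ρ.map ((Scheme.Modules.pushforward f).map ((Scheme.Modules.pullback f).map φ)) := by
    rw [← Functor.map_comp, ← Functor.map_comp]
    congr 1
    exact adj.unit.naturality φ
  haveI hA : IsIso (ρ.map (adj.unit.app A)) := by
    haveI : IsIso (ρ.map (adj.unit.app M')) := Functor.map_isIso _ _
    have h1 : IsIso (ρ.map φ' ≫ ρ.map (adj.unit.app A)) := by rw [n']; infer_instance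
    exact IsIso.of_isIso_comp_left (ρ.map φ') _
  have h2 : IsIso (ρ.map (adj.unit.app M) ≫
      ρ.map ((Scheme.Modules.pushforward f).map ((Scheme.Modules.pullback f).map φ))) := by
    rw [← n]; infer_instance
  exact IsIso.of_isIso_comp_right _
    (ρ.map ((Scheme.Modules.pushforward f).map ((Scheme.Modules.pullback f).map φ)))

/-- **the unit `N ⟶ f_* f^* N` is an isomorphism for finite locally free `N` when
`O_S ≅ f_* O_X`** -/
theorem isIso_unit_of_isFinLocFree (hf : ∀ U : S.Opens, Function.Bijective (f.app U))
    (N : S.Modules) (hN : FlatMod.IsFinLocFree N) :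
    IsIso ((Scheme.Modules.pullbackPushforwardAdjunction f).unit.app N) := by
  apply AdjBC.isIso_of_restrict
  intro y
  obtain ⟨U, n, hyU, ⟨e⟩⟩ := hN y
  refine ⟨U, U.ι, inferInstance, by simpa using hyU, ?_⟩
  exact isIso_restrict_unit_of_iso f U
    (e ≪≫ (Groth.Agent.Lib.Helper5.Shrink.restrictFreeIso U.ι n).symm) (isIso_unit_free f hf n)

theorem s3222 (hf : ∀ U : S.Opens, Function.Bijective (f.app U))
    (N N' : S.Modules) (hN : FlatMod.IsFinLocFree N) (hN' : FlatMod.IsFinLocFree N') :
    Function.Bijective (fun φ : N ⟶ N' => (Scheme.Modules.pullback f).map φ) := by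
  haveI := isIso_unit_of_isFinLocFree f hf N' hN'
  let adj := Scheme.Modules.pullbackPushforwardAdjunction f
  have h : (fun φ : N ⟶ N' => (Scheme.Modules.pullback f).map φ) =
      (fun φ : N ⟶ N' => (adj.homEquiv N ((Scheme.Modules.pullback f).obj N')).symm
        (φ ≫ adj.unit.app N')) := by
    funext φ
    rw [Adjunction.homEquiv_counit, Functor.map_comp, Category.assoc,
      adj.left_triangle_components, Category.comp_id]
  rw [h]
  refine (adj.homEquiv N ((Scheme.Modules.pullback f).obj N')).symm.bijective.comp ?_
  constructor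
  · intro a b hab
    exact (cancel_mono (adj.unit.app N')).1 hab
  · intro c
    exact ⟨c ≫ inv (adj.unit.app N'), by simp⟩

end C
end Groth.Agent.Lib.Helper4.UnitFLF1
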