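import Mathlib
import Groth.Prelude.Def_ClSub2
import Groth.Prelude.Def_Coh
import Groth.Prelude.Def_CohB1
import Groth.Prelude.Def_FlatMod2
import Groth.Prelude.Def_Pic
import Groth.Agent.Lib.Helper4.UnitFLF1
import Groth.Agent.Lib.Lead.FLF1
import Groth.Agent.Lib.Helper1.InvInv2

/-!
# pullbacks of vector bundles and the counit; units at invertible modules: S7816, S17583 (helper4)
-/

set_option backward.isDefEq.respectTransparency.types false
set_option synthInstance.maxHeartbeats 400000
set_option autoImplicit false
set_option linter.unusedSectionVars false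
set_option linter.style.haveILetI false
set_option linter.unusedSimpArgs false
universe u v w
open CategoryTheory CategoryTheory.Limits AlgebraicGeometry TopologicalSpace Opposite MonoidalCategory
open Groth.Agent.Helper1 Groth.Agent.Lib.Helper4.UnitFLF1

namespace Groth.Agent.Lib.Helper4.UnitFLF2
variable {X S : Scheme.{u}} (f : X ⟶ S)

theorem s7816 (hf : ∀ U : S.Opens, IsIso (f.app U))
    (E : X.Modules) (hE : FlatMod.IsFinLocFree E) :
    (∃ M : S.Modules, FlatMod.IsFinLocFree M ∧ Nonempty (E ≅ (Scheme.Modules.pullback f).obj M)) ↔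
      (FlatMod.IsFinLocFree ((Scheme.Modules.pushforward f).obj E) ∧
        IsIso ((Scheme.Modules.pullbackPushforwardAdjunction f).counit.app E)) := by
  have hf' : ∀ U : S.Opens, Function.Bijective (f.app U) :=
    fun U => (ConcreteCategory.isIso_iff_bijective _).1 (hf U)
  let adj := Scheme.Modules.pullbackPushforwardAdjunction f
  constructor
  · rintro ⟨M, hM, ⟨e⟩⟩
    haveI hu : IsIso (adj.unit.app M) := isIso_unit_of_isFinLocFree f hf' M hM
    constructor
    · exact Groth.Agent.Lead.FLF.isFinLocFree_of_iso
        (asIso (adj.unit.app M) ≪≫ (Scheme.Modules.pushforward f).mapIso e.symm) hM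
    · rw [NatTrans.isIso_app_iff_of_iso adj.counit e]
      have h := adj.left_triangle_components M
      haveI : IsIso ((Scheme.Modules.pullback f).map (adj.unit.app M)) := Functor.map_isIso _ _
      have h1 : IsIso ((Scheme.Modules.pullback f).map (adj.unit.app M) ≫
          adj.counit.app ((Scheme.Modules.pullback f).obj M)) := by rw [h]; infer_instance
      exact IsIso.of_isIso_comp_left ((Scheme.Modules.pullback f).map (adj.unit.app M)) _
  · rintro ⟨hM, hc⟩
    haveI := hc
    exact ⟨_, hM, ⟨(asIso (adj.counit.app E)).symm⟩⟩


theorem bijective_app_of_isIso_unitToPush (hfs : IsIso (ClSub.unitToPush f)) (U : S.Opens) :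
    Function.Bijective (f.app U) := by
  have h1 : IsIso ((ClSub.unitToPush f).app U) := inferInstance
  have h2 := (ConcreteCategory.isIso_iff_bijective _).1 h1
  exact h2

theorem s17583_gen (hfs : IsIso (ClSub.unitToPush f)) (L : S.Modules) (hL : PicF.IsInvertible L) :
    IsIso ((Scheme.Modules.pullbackPushforwardAdjunction f).unit.app L) :=
  isIso_unit_of_isFinLocFree f (bijective_app_of_isIso_unitToPush f hfs) L
    (InvInv2.isFinLocFree_of_isInvertible hL)

end Groth.Agent.Lib.Helper4.UnitFLF2
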