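import Mathlib
import Groth.Prelude.Def_ega3
import Groth.Agent.Lib.Helper4.ExchZero1

/-!
# Degree-zero exchange with an explicit generator, universal form: cocycles with arbitrary coefficients are multiples of the unit cocycle; base change of global sections (helper4) (helper4)
-/

set_option backward.isDefEq.respectTransparency.types false
set_option synthInstance.maxHeartbeats 400000
set_option autoImplicit false
set_option linter.unusedSectionVars false
set_option linter.style.haveILetI false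
set_option linter.unusedSimpArgs false
universe u v w
open CategoryTheory
open CategoryTheory.Limits
open AlgebraicGeometry
open TopologicalSpace
open TensorProduct
open Opposite
open Groth.Agent.Helper1
open Groth.Agent.Helper1.QcCech
open Groth.Agent.Lib.Helper4.LocCech1
open Groth.Agent.Lib.Helper4.BaseChgRing1
open Groth.Agent.Lib.Helper4.TenSec2
open Groth.Agent.Lib.Helper4.CechTen1
open Groth.Agent.Lib.Helper4.CechTen2
open Groth.Agent.Lib.Helper4.BCSec1
open Groth.Agent.Lib.Helper4.BCSec2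
open Groth.Agent.Lib.Helper4.MumBC2
open Groth.Agent.Lib.Helper4.HomEl1
open Groth.Agent.Lib.Helper4.ExchAlg1
open Groth.Agent.Lib.Helper4.ExchAlg2
open Groth.Agent.Lib.Helper4.TruncAlg1
open Groth.Agent.Lib.Helper4.OpenVan1
open Groth.Agent.Lib.Helper4.FibLift1
open Groth.Agent.Lib.Helper4.CorepGen1
open Groth.Agent.Lib.Helper4.CechCls1
open Groth.Agent.Lib.Helper4.ExchZero1

namespace Groth.Agent.Lib.Helper4.UnivBC1

section Alg
variable {A : Type u} [CommRing A]

/-- the map `A → N`, `a ↦ a • n` -/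
noncomputable def muN (N : ModuleCat.{u} A) (n : N) : ModuleCat.of A A ⟶ N :=
  ModuleCat.ofHom (X := A) (Y := N) (LinearMap.toSpanSingleton A N n)

theorem muN_apply (N : ModuleCat.{u} A) (n : N) (a : A) : (muN N n).hom a = a • n := rfl

/-- **Lemma F, universal form**: a corepresentable functor whose value at a residue field is
spanned by the image of an element `e` of its value at `A` is, near the prime, free of rank one on
`e` after any base change on which the denominator acts invertibly -/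
theorem exists_generator_of_corep' (T : ModuleCat.{u} A ⥤ ModuleCat.{u} A) (Q : ModuleCat.{u} A)
    [Module.Finite A Q]
    (η : (linearCoyoneda A (ModuleCat.{u} A)).obj (op Q) ≅ T)
    (p : Ideal A) [p.IsPrime] {κ : Type u} [Field κ] (ψ : A →+* κ) (hψ : RingHom.ker ψ = p)
    (ι : ModuleCat.of A A ⟶ (ModuleCat.restrictScalars ψ).obj (ModuleCat.of κ κ))
    (hι : ∀ a : A, ι.hom a = (show ((ModuleCat.restrictScalars ψ).obj (ModuleCat.of κ κ)) from ψ a))
    (e : T.obj (ModuleCat.of A A))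
    (H1 : ∀ x : T.obj ((ModuleCat.restrictScalars ψ).obj (ModuleCat.of κ κ)),
      ∃ s a : A, ψ s ≠ 0 ∧ s • x = a • (T.map ι).hom e)
    (H2 : (T.map ι).hom e ≠ 0) :
    ∃ h : A, ψ h ≠ 0 ∧ ∀ (N : ModuleCat.{u} A), Function.Bijective (fun n : N => h • n) →
      Function.Bijective (fun n : N => (T.map (muN N n)).hom e) := by
  let Mκ : ModuleCat.{u} A := (ModuleCat.restrictScalars ψ).obj (ModuleCat.of κ κ)
  let Φ : ∀ N : ModuleCat.{u} A, (Q ⟶ N) →ₗ[A] T.obj N := fun N => (η.hom.app N).hom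
  have hb : ∀ N, Function.Bijective (Φ N) := fun N =>
    ConcreteCategory.bijective_of_isIso (η.hom.app N)
  have hnat : ∀ {M M' : ModuleCat.{u} A} (g : M ⟶ M') (χ : Q ⟶ M),
      Φ M' (χ ≫ g) = (T.map g).hom (Φ M χ) := fun g χ =>
    ConcreteCategory.congr_hom (η.hom.naturality g) χ
  obtain ⟨e', he'⟩ := (hb (ModuleCat.of A A)).2 e
  let l : Q →ₗ[A] A := e'.hom
  -- every functional is a fraction multiple
  have hfun : ∀ χ : Q ⟶ Mκ, ∃ s a : A, ψ s ≠ 0 ∧ s • χ = a • (e' ≫ ι) := by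
    intro χ
    obtain ⟨s, a, hs, h⟩ := H1 (Φ Mκ χ)
    refine ⟨s, a, hs, (hb Mκ).1 ?_⟩
    rw [map_smul, map_smul, h, hnat ι e', he']
  have hinj : letI : Module A κ := Module.compHom κ ψ
      Function.Injective (l.lTensor κ) := by
    apply injective_lTensor_of_functionals l ψ
    letI : Module A κ := Module.compHom κ ψ
    intro χ
    obtain ⟨s, a, hs, h⟩ := hfun (ModuleCat.ofHom (show Q →ₗ[A] Mκ from χ))
    refine ⟨s, a, hs, fun q => ?_⟩
    have h2 := congrArg (fun (m : Q ⟶ Mκ) => m.hom q) h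
    change (show Mκ from (ψ s * χ q : κ)) = a • ι.hom (l q) at h2
    rw [hι] at h2
    exact h2
  obtain ⟨g, l'', hg, hl''⟩ := exists_uniform_retraction l p ψ hψ hinj
  let q₁ : Q := l'' 1
  have hq₁ : ∀ q : Q, g • q = l q • q₁ := by
    intro q
    have := LinearMap.congr_fun hl'' q
    rw [LinearMap.comp_apply, LinearMap.smul_apply, LinearMap.id_apply] at this
    rw [← this]
    change l'' (l q) = l q • l'' 1
    rw [← map_smul, smul_eq_mul, mul_one]
  -- a point where `e'` is a unit mod `p`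
  have hne : e' ≫ ι ≠ 0 := by
    intro h0
    apply H2
    rw [← he', ← hnat ι e', h0, map_zero]
  obtain ⟨q₀, hq₀⟩ : ∃ q₀ : Q, ψ (l q₀) ≠ 0 := by
    by_contra hcon
    push Not at hcon
    apply hne
    apply ModuleCat.hom_ext
    apply LinearMap.ext
    intro q
    change ι.hom (l q) = 0
    rw [hι, hcon q]
    rfl
  have hgψ : ψ g ≠ 0 := by
    intro h0
    apply hg
    rw [← hψ]
    exact h0
  refine ⟨g * l q₀, ?_, ?_⟩
  · rw [map_mul]
    exact mul_ne_zero hgψ hq₀
  intro N hN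
  have hginj : ∀ n : N, g • n = 0 → n = 0 := by
    intro n hn
    apply hN.1
    change (g * l q₀) • n = (g * l q₀) • (0 : N)
    rw [smul_zero, mul_comm, mul_smul, hn, smul_zero]
  have huinj : ∀ n : N, l q₀ • n = 0 → n = 0 := by
    intro n hn
    apply hN.1
    change (g * l q₀) • n = (g * l q₀) • (0 : N)
    rw [smul_zero, mul_smul, hn, smul_zero]
  have hgsurj : ∀ n : N, ∃ n' : N, g • n' = n := by
    intro n
    obtain ⟨n', hn'⟩ := hN.2 n
    refine ⟨l q₀ • n', ?_⟩
    rw [← mul_smul]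
    exact hn'
  have hfac : (fun n : N => (T.map (muN N n)).hom e) = (Φ N) ∘ (fun n : N => e' ≫ muN N n) := by
    funext n
    rw [Function.comp, hnat (muN N n) e', he']
  rw [hfac]
  refine (hb N).comp ⟨?_, ?_⟩
  · intro n n' hnn'
    have h1 := congrArg (fun (m : Q ⟶ N) => m.hom q₀) hnn'
    change l q₀ • n = l q₀ • n' at h1
    have h0 : l q₀ • (n - n') = 0 := by rw [smul_sub, h1, sub_self]
    exact sub_eq_zero.1 (huinj _ h0)
  · intro χ
    obtain ⟨n, hn⟩ := hgsurj (χ.hom q₁)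
    refine ⟨n, ?_⟩
    apply ModuleCat.hom_ext
    apply LinearMap.ext
    intro q
    change l q • n = χ.hom q
    have h1 : g • (l q • n) = g • χ.hom q := by
      rw [smul_comm, hn, ← map_smul, ← hq₁ q, map_smul]
    have h0 : g • (l q • n - χ.hom q) = 0 := by rw [smul_sub, h1, sub_self]
    exact sub_eq_zero.1 (hginj _ h0)

end Alg

section L3c
variable {A L : Type u} [CommRing A] [IsNoetherianRing A] [Field L] (φ : A →+* L)
variable {X X' : Scheme.{u}} [X.Over (Spec (CommRingCat.of A))] [X'.Over (Spec (CommRingCat.of L))]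
variable (g : X' ⟶ X) {F : X.Modules}

attribute [local instance] secMod

/-- **degree-zero exchange with an explicit generator, universal form**: if the global sections of
the restriction of `F` to the fibre are spanned by the image of a global section `e₀`, then near
the point the degree-zero cocycles with coefficients in any module are the multiples of `e₀` -/
theorem exists_local_generator' [IsProper (X ↘ Spec (CommRingCat.of A))] [F.IsQuasicoherent]
    (D : MData A X F)
    (hsq : IsPullback g (X' ↘ Spec (CommRingCat.of L)) (X ↘ Spec (CommRingCat.of A))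
      (Spec.map (CommRingCat.ofHom φ)))
    (hfrac : ∀ b : L, ∃ a s : A, φ s ≠ 0 ∧ b * φ s = φ a)
    (e₀ : Γ(F, ⊤))
    (G1 : ∀ t : Γ(Fp g F, ⊤), ∃ c : L, t = c • uAdd g F (le_top : (⊤ : X'.Opens) ≤ g ⁻¹ᵁ ⊤) e₀)
    (G2 : uAdd g F (le_top : (⊤ : X'.Opens) ≤ g ⁻¹ᵁ ⊤) e₀ ≠ 0) :
    ∃ h : A, φ h ≠ 0 ∧ ∀ (N : ModuleCat.{u} A), Function.Bijective (fun n : N => h • n) →
      (∀ ξ : (Co F D.U 0) ⊗[A] N, (DdA A F D.U 0).rTensor N ξ = 0 →
        ∃ n : N, ξ = (zOf F D.U e₀) ⊗ₜ[A] n) ∧
      (∀ n : N, (zOf F D.U e₀) ⊗ₜ[A] n = 0 → n = 0) := by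
  haveI := D.fin
  haveI : ∀ i, Module.Finite A (D.K.X i) := fun i => (D.hff i).1
  haveI : ∀ i, Module.Free A (D.K.X i) := fun i => (D.hff i).2
  haveI : Module.Projective A (Wq D.K (-1) 0) :=
    projective_Wq_of_uvan D.K (-2) (-1) 0 (by norm_num) (by norm_num) (D.hneg (-1) (by norm_num))
  let η : (linearCoyoneda A (ModuleCat.{u} A)).obj (op (ModuleCat.of A (Qm D.K (-1) 0 1))) ≅
      CohIII.TFun (CZ A F D.U) 0 :=
    corepIso D.K (-1) 0 1 (by norm_num) rfl ≪≫ D.eK 0
  haveI : Module.Finite A (ModuleCat.of A (Qm D.K (-1) 0 1)) := finite_Qm D.K (-1) 0 1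
  haveI : (RingHom.ker φ).IsPrime := RingHom.ker_isPrime φ
  -- the unit cocycle
  have hzN : ∀ (N : ModuleCat.{u} A) (b : Γ(F, ⊤)) (n : N),
      (zOf F D.U b) ⊗ₜ[A] n ∈ ZC A F D.U N := by
    intro N b n
    change (DdA A F D.U 0).rTensor _ ((zOf F D.U b) ⊗ₜ[A] n) = 0
    rw [LinearMap.rTensor_tmul, DdA_apply, Dd_zOf, TensorProduct.zero_tmul]
  let ξ₀ : ZC A F D.U (ModuleCat.of A A) := ⟨_, hzN (ModuleCat.of A A) e₀ (1 : A)⟩
  let e := clsC A F D.U (ModuleCat.of A A) ξ₀
  have hmapN : ∀ (N : ModuleCat.{u} A) (n : N),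
      ((CohIII.TFun (CZ A F D.U) 0).map (muN N n)).hom e =
        clsC A F D.U N ⟨_, hzN N e₀ n⟩ := by
    intro N n
    change ((CohIII.TFun (CZ A F D.U) 0).map (muN N n)).hom (clsC A F D.U (ModuleCat.of A A) ξ₀) = _
    rw [clsC_natural]
    congr 1
    apply Subtype.ext
    change (muN N n).hom.lTensor (Co F D.U 0) ((zOf F D.U e₀) ⊗ₜ[A] (1 : A)) = _
    rw [LinearMap.lTensor_tmul, muN_apply, one_smul]
  have hmap : ((CohIII.TFun (CZ A F D.U) 0).map (iotaK φ)).hom e =
      clsC A F D.U (Mk φ) ⟨_, hzN (Mk φ) e₀ (show Mk φ from (1 : L))⟩ := by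
    change ((CohIII.TFun (CZ A F D.U) 0).map (iotaK φ)).hom
      (clsC A F D.U (ModuleCat.of A A) ξ₀) = _
    rw [clsC_natural]
    congr 1
    apply Subtype.ext
    change (iotaK φ).hom.lTensor (Co F D.U 0) ((zOf F D.U e₀) ⊗ₜ[A] (1 : A)) = _
    rw [LinearMap.lTensor_tmul, iotaK_apply, map_one]
  obtain ⟨h, hh, HB⟩ := exists_generator_of_corep' (CohIII.TFun (CZ A F D.U) 0)
    (ModuleCat.of A (Qm D.K (-1) 0 1)) η (RingHom.ker φ) φ rfl (iotaK φ) (iotaK_apply φ) e
    (by
      intro x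
      obtain ⟨ξ, rfl⟩ := clsC_surjective A F D.U (Mk φ) x
      obtain ⟨s, a, hs, hsa⟩ := cocycle_fraction φ g F D.U hsq D.haff D.hcov hfrac e₀ G1 ξ
      refine ⟨s, a, hs, ?_⟩
      rw [hmap, ← map_smul, ← map_smul]
      congr 1
      apply Subtype.ext
      exact hsa)
    (by
      rw [hmap]
      intro h0
      have h1 := clsC_injective A F D.U (Mk φ) (h0.trans (map_zero _).symm)
      exact unit_cocycle_ne_zero φ g F D.U hsq D.haff D.hcov e₀ G2 (congrArg Subtype.val h1))
  refine ⟨h, hh, fun N hN => ⟨?_, ?_⟩⟩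
  · intro ξ hξ
    obtain ⟨n, hn⟩ := (HB N hN).2 (clsC A F D.U N ⟨ξ, hξ⟩)
    refine ⟨n, ?_⟩
    change ((CohIII.TFun (CZ A F D.U) 0).map (muN N n)).hom e = _ at hn
    rw [hmapN N n] at hn
    exact (congrArg Subtype.val (clsC_injective A F D.U N hn)).symm
  · intro n hn
    apply (HB N hN).1
    change ((CohIII.TFun (CZ A F D.U) 0).map (muN N n)).hom e =
      ((CohIII.TFun (CZ A F D.U) 0).map (muN N 0)).hom e
    rw [hmapN N n, hmapN N 0]
    congr 1
    apply Subtype.ext
    change (zOf F D.U e₀) ⊗ₜ[A] n = (zOf F D.U e₀) ⊗ₜ[A] (0 : N)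
    rw [hn, TensorProduct.tmul_zero]

end L3c

section BC
variable {A B : Type u} [CommRing A] [CommRing B] (θ : A →+* B)
variable {X X' : Scheme.{u}} [X.Over (Spec (CommRingCat.of A))] [X'.Over (Spec (CommRingCat.of B))]
variable (k : X' ⟶ X) (F : X.Modules) {ι : Type u} (U : ι → X.Opens)

attribute [local instance] secMod

variable [Finite ι] [F.IsQuasicoherent]
  (hsq : IsPullback k (X' ↘ Spec (CommRingCat.of B)) (X ↘ Spec (CommRingCat.of A))
      (Spec.map (CommRingCat.ofHom θ)))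
  (haff : ∀ (n : ℕ) (a : Fin (n + 1) → ι), IsAffineOpen (TCx.W U a)) (hcov : iSup U = ⊤)

omit [Finite ι] [F.IsQuasicoherent] in
theorem gamX_d' (hw : k ≫ (X ↘ Spec (CommRingCat.of A)) =
      (X' ↘ Spec (CommRingCat.of B)) ≫ Spec.map (CommRingCat.ofHom θ))
    (M' : ModuleCat.{u} B) (n : ℕ) (x : (Co F U n) ⊗[A] (rs θ M')) :
    gamX θ k F U hw M' (n + 1) (LinearMap.rTensor (rs θ M') (DdA A F U n) x) =
      LinearMap.rTensor M' (DdA B (Fp k F) (Up k U) n) (gamX θ k F U hw M' n x) := by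
  induction x using TensorProduct.induction_on with
  | zero => rw [map_zero, map_zero, map_zero, map_zero]
  | tmul y m =>
    rw [LinearMap.rTensor_tmul, gamX_tmul, gamX_tmul, LinearMap.rTensor_tmul, DdA_apply,
      DdA_apply, uCo_Dd]
  | add x y hx hy => rw [map_add, map_add, hx, hy, map_add, map_add]

include hsq haff hcov in
/-- if the degree-zero cocycles with coefficients in `B` are freely the multiples of the unit
cocycle of `e₀`, then the global sections of the base change are free of rank one over `B` on the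
pullback of `e₀` -/
theorem bijective_smul_uAdd (e₀ : Γ(F, ⊤))
    (hex : ∀ ξ : (Co F U 0) ⊗[A] (rs θ (ModuleCat.of B B)),
      (DdA A F U 0).rTensor (rs θ (ModuleCat.of B B)) ξ = 0 →
        ∃ n : rs θ (ModuleCat.of B B), ξ = (zOf F U e₀) ⊗ₜ[A] n)
    (hinj : ∀ n : rs θ (ModuleCat.of B B), (zOf F U e₀) ⊗ₜ[A] n = 0 → n = 0) :
    Function.Bijective (fun b : B => b • uAdd k F (le_top : (⊤ : X'.Opens) ≤ k ⁻¹ᵁ ⊤) e₀) := by
  let M' : ModuleCat.{u} B := ModuleCat.of B B
  -- the components of the pulled back unit cocycle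
  have huz : ∀ (c : B) (a : Fin 1 → ι), c • uCo k F U 0 (zOf F U e₀) a =
      res (Fp k F) (le_top : TCx.W (Up k U) a ≤ ⊤)
        (c • uAdd k F (le_top : (⊤ : X'.Opens) ≤ k ⁻¹ᵁ ⊤) e₀) := by
    intro c a
    rw [uCo_apply, zOf_apply]
    have h4 := uAdd_res k F (le_top : (⊤ : X'.Opens) ≤ k ⁻¹ᵁ ⊤) (Wp_eq k U a).le
      (le_top : TCx.W U a ≤ ⊤) (le_top : TCx.W (Up k U) a ≤ ⊤) e₀
    rw [← h4]
    exact ((resA B (Fp k F) (le_top : TCx.W (Up k U) a ≤ ⊤)).map_smul c _).symm
  have htm : ∀ c : B, (uCo k F U 0 (zOf F U e₀)) ⊗ₜ[B] (c : B) =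
      (c • uCo k F U 0 (zOf F U e₀)) ⊗ₜ[B] (1 : B) := by
    intro c
    rw [TensorProduct.smul_tmul, smul_eq_mul, mul_one]
  constructor
  · intro b b' hbb'
    have h0 : (b - b') • uAdd k F (le_top : (⊤ : X'.Opens) ≤ k ⁻¹ᵁ ⊤) e₀ = 0 := by
      rw [sub_smul]
      exact sub_eq_zero.2 hbb'
    have h1 : (b - b') • uCo k F U 0 (zOf F U e₀) = 0 := by
      funext a
      change (b - b') • uCo k F U 0 (zOf F U e₀) a = 0
      rw [huz, h0, map_zero]
    have h2 : (zOf F U e₀) ⊗ₜ[A] (show rs θ M' from (b - b' : B)) = 0 := by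
      apply (gamX_bijective θ k F U hsq haff M' 0).1
      rw [gamX_tmul, map_zero]
      change (uCo k F U 0 (zOf F U e₀)) ⊗ₜ[B] (b - b' : B) = 0
      rw [htm, h1, TensorProduct.zero_tmul]
    have h3 := hinj _ h2
    exact sub_eq_zero.1 h3
  · intro t
    let τ : Co (Fp k F) (Up k U) 0 := fun a => res (Fp k F) le_top t
    have hτ : DdA B (Fp k F) (Up k U) 0 τ = 0 := by
      rw [DdA_apply]
      funext a
      rw [Dd_apply, Fin.sum_univ_two]
      simp only [Fin.val_zero, pow_zero, one_smul, Fin.val_one, pow_one, neg_smul]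
      change res (Fp k F) _ (res (Fp k F) _ t) + -res (Fp k F) _ (res (Fp k F) _ t) = 0
      rw [res_res, res_res, add_neg_cancel]
    obtain ⟨ξ, hξ⟩ := (gamX_bijective θ k F U hsq haff M' 0).2 (τ ⊗ₜ[B] (1 : B))
    have hξd : (DdA A F U 0).rTensor (rs θ M') ξ = 0 := by
      apply (gamX_bijective θ k F U hsq haff M' 1).1
      rw [gamX_d' θ k F U hsq.w M' 0 ξ, hξ, LinearMap.rTensor_tmul, hτ, TensorProduct.zero_tmul,
        map_zero]
    obtain ⟨n, hn⟩ := hex ξ hξd
    let c : B := (show B from n)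
    refine ⟨c, ?_⟩
    have h1 : (c • uCo k F U 0 (zOf F U e₀)) ⊗ₜ[B] (1 : B) = τ ⊗ₜ[B] (1 : B) := by
      rw [← htm, ← hξ, hn, gamX_tmul]
    have h2 : c • uCo k F U 0 (zOf F U e₀) = τ := by
      have := congrArg (TensorProduct.rid B (Co (Fp k F) (Up k U) 0)) h1
      rw [TensorProduct.rid_tmul, TensorProduct.rid_tmul, one_smul, one_smul] at this
      exact this
    change c • uAdd k F (le_top : (⊤ : X'.Opens) ≤ k ⁻¹ᵁ ⊤) e₀ = t
    apply section_ext (Fp k F) (Up k U) (iSup_Up k U hcov)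
    intro i
    have h3 := congrFun h2 (cst i)
    change c • uCo k F U 0 (zOf F U e₀) (cst i) = res (Fp k F) le_top t at h3
    rw [huz] at h3
    have h6 := congrArg (res (Fp k F) (le_W_cst (Up k U) i)) h3
    rw [res_res, res_res] at h6
    exact h6

end BC

end Groth.Agent.Lib.Helper4.UnivBC1
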