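import Mathlib
import Groth.Prelude.Def_ega3
import Groth.Agent.Lib.Helper4.UnivBC1
import Groth.Agent.Lib.Helper4.FibFunc1
import Groth.Agent.Lib.Helper4.UnitFLF2
import Groth.Agent.Lib.Helper1.AdjBC

/-!
# Functions on the fibres of a proper flat morphism are the residue fields iff functions descend after every base change (helper4) (helper4)
-/

set_option backward.isDefEq.respectTransparency.types false
set_option synthInstance.maxHeartbeats 400000
set_option autoImplicit false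
set_option linter.unusedSectionVars false
set_option linter.style.haveILetI false
set_option linter.unusedSimpArgs false
universe u v w
open CategoryTheory
open CategoryTheory.Limits
open AlgebraicGeometry
open TopologicalSpace
open Opposite
open TensorProduct
open MonoidalCategory
open Groth.Agent.Helper1
open Groth.Agent.Helper1.QcCech
open Groth.Agent.Helper1.RpushLoc
open Groth.Agent.Lib.Helper4.LocCech1
open Groth.Agent.Lib.Helper4.TenSec2
open Groth.Agent.Lib.Helper4.CechTen1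
open Groth.Agent.Lib.Helper4.CechTen2
open Groth.Agent.Lib.Helper4.BaseChgRing1
open Groth.Agent.Lib.Helper4.BCSec1
open Groth.Agent.Lib.Helper4.BCSec2
open Groth.Agent.Lib.Helper4.MumBC1
open Groth.Agent.Lib.Helper4.MumBC2
open Groth.Agent.Lib.Helper4.ChartSq1
open Groth.Agent.Lib.Helper4.ChartFib1
open Groth.Agent.Lib.Helper4.ChartPkg1
open Groth.Agent.Lib.Helper4.RpushCoh1
open Groth.Agent.Lib.Helper4.SigmaFac1
open Groth.Agent.Lib.Helper4.ExchZero1
open Groth.Agent.Lib.Helper4.LocIso1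
open Groth.Agent.Lib.Helper4.ChartAlpha1
open Groth.Agent.Lib.Helper4.FibFunc1
open Groth.Agent.Lib.Helper4.UnivBC1

namespace Groth.Agent.Lib.Helper4.UnivBC2

section Sq
variable {X Y T : Scheme.{u}} (f : X ⟶ Y) (g : T ⟶ Y)

/-- the chart of the base change over an affine open mapping into an affine open of the base, as a
base change of the chart -/
theorem exists_chart_square {V : Y.Opens} (hV : IsAffineOpen V) {W : T.Opens} (hW : IsAffineOpen W)
    (hWV : W ≤ g ⁻¹ᵁ V) :
    ∃ k : (↑((pullback.snd f g) ⁻¹ᵁ W) : Scheme.{u}) ⟶ (↑(f ⁻¹ᵁ V) : Scheme.{u}),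
      k ≫ (f ⁻¹ᵁ V).ι = ((pullback.snd f g) ⁻¹ᵁ W).ι ≫ pullback.fst f g ∧
      IsPullback k (strMap (pullback.snd f g) hW) (strMap f hV)
        (Spec.map (CommRingCat.ofHom (g.appLE V W hWV).hom)) := by
  have hc := isPullback_chart f hV
  have hc' := isPullback_chart (pullback.snd f g) hW
  have h2 : hW.fromSpec ≫ g =
      Spec.map (CommRingCat.ofHom (g.appLE V W hWV).hom) ≫ hV.fromSpec :=
    (IsAffineOpen.SpecMap_appLE_fromSpec g hV hW hWV).symm
  have hbig : IsPullback (((pullback.snd f g) ⁻¹ᵁ W).ι ≫ pullback.fst f g)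
      (strMap (pullback.snd f g) hW) f
      (Spec.map (CommRingCat.ofHom (g.appLE V W hWV).hom) ≫ hV.fromSpec) := by
    have h1 := hc'.paste_horiz (IsPullback.of_hasPullback f g)
    exact (congrArg (fun z => IsPullback (((pullback.snd f g) ⁻¹ᵁ W).ι ≫ pullback.fst f g)
      (strMap (pullback.snd f g) hW) f z) h2).mp h1
  let k := hc.lift (((pullback.snd f g) ⁻¹ᵁ W).ι ≫ pullback.fst f g)
    (strMap (pullback.snd f g) hW ≫ Spec.map (CommRingCat.ofHom (g.appLE V W hWV).hom))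
    (by rw [Category.assoc]; exact hbig.w)
  have hk1 : k ≫ (f ⁻¹ᵁ V).ι = ((pullback.snd f g) ⁻¹ᵁ W).ι ≫ pullback.fst f g :=
    hc.lift_fst _ _ _
  have hk2 : k ≫ strMap f hV = strMap (pullback.snd f g) hW ≫
      Spec.map (CommRingCat.ofHom (g.appLE V W hWV).hom) := hc.lift_snd _ _ _
  refine ⟨k, hk1, ?_⟩
  refine IsPullback.of_right ?_ hk2 hc
  rw [hk1]
  exact hbig

end Sq

section Theta
variable {X Z : Scheme.{u}} (W : X.Opens) (k : Z ⟶ (↑W : Scheme.{u})) (φ' : Z ⟶ X)
  (hk : k ≫ W.ι = φ')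

/-- the unit section of the open subscheme -/
noncomputable def oneW : Γ((Coh.structureModule X).restrict W.ι, ⊤) :=
  TwForm.one' (X := X) (W.ι ''ᵁ ⊤)

/-- the comparison of sections of the pullback of the structure sheaf of the open subscheme with
functions -/
noncomputable def thetaG (t : Γ(Fp k ((Coh.structureModule X).restrict W.ι), ⊤)) :
    Γ(Coh.structureModule Z, ⊤) :=
  (PullSec.unitIso φ').hom.app ⊤ ((facIso W.ι (Coh.structureModule X) k φ' hk).hom.app ⊤ t)

theorem thetaG_bijective : Function.Bijective (thetaG W k φ' hk) := by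
  have h1 : Function.Bijective ((facIso W.ι (Coh.structureModule X) k φ' hk).hom.app ⊤) := by
    have : IsIso ((facIso W.ι (Coh.structureModule X) k φ' hk).hom.app ⊤) := inferInstance
    exact (ConcreteCategory.isIso_iff_bijective _).1 this
  have h2 : Function.Bijective ((PullSec.unitIso φ').hom.app ⊤) := by
    have : IsIso ((PullSec.unitIso φ').hom.app ⊤) := inferInstance
    exact (ConcreteCategory.isIso_iff_bijective _).1 this
  exact h2.comp h1

theorem thetaG_smul (r : Γ(Z, ⊤)) (t : Γ(Fp k ((Coh.structureModule X).restrict W.ι), ⊤)) :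
    thetaG W k φ' hk (r • t) = r • thetaG W k φ' hk t := by
  unfold thetaG
  rw [Scheme.Modules.Hom.app_smul, Scheme.Modules.Hom.app_smul]

theorem thetaG_one :
    thetaG W k φ' hk (uAdd k ((Coh.structureModule X).restrict W.ι)
      (le_top : (⊤ : Z.Opens) ≤ k ⁻¹ᵁ ⊤) (oneW W)) = TwForm.one' ⊤ := by
  let F := Coh.structureModule X
  let j := W.ι
  have hjW : j ''ᵁ ⊤ = W := Scheme.Opens.ι_image_top _
  let m : Γ(F, W) := TwForm.one' W
  have hle : (⊤ : Z.Opens) ≤ φ' ⁻¹ᵁ W := by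
    rw [← hk]
    intro x _
    change j (k x) ∈ W
    exact (k x).2
  have hm : res F (j.image_preimage_le W) m =
      res F (show j ''ᵁ (j ⁻¹ᵁ W) ≤ j ''ᵁ ⊤ from j.image_mono le_top)
        (show Γ(F, j ''ᵁ ⊤) from oneW W) := by
    change res F _ (TwForm.one' W) = res F _ (TwForm.one' (j ''ᵁ ⊤))
    rw [TwForm.res_one', TwForm.res_one']
  have key := sigma_factor j F k φ' hk W (oneW W) m hm hle
  unfold thetaG
  have h1 : (facIso j F k φ' hk).hom.app ⊤ (uAdd k (F.restrict j) le_top (oneW W)) =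
      res _ hle (PullSec.σ φ' F W m) := key.symm
  rw [h1, QcExt.app_res]
  have h2 := PullSec.unitIso_σ φ' W (1 : Γ(X, W))
  change (PullSec.unitIso φ').hom.app _ (PullSec.σ _ F W m) = _ at h2
  rw [h2, map_one]
  exact TwForm.res_one' _

end Theta

theorem presheaf_map_bijective_of_eq {X : Scheme.{u}} {W W' : X.Opens} (e : W' = W) :
    Function.Bijective (X.presheaf.map (homOfLE (le_of_eq e)).op).hom := by
  subst e
  have h1 : (homOfLE (le_of_eq (rfl : W' = W'))).op = 𝟙 (op W') := Subsingleton.elim _ _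
  rw [h1, CategoryTheory.Functor.map_id]
  exact Function.bijective_id

theorem isUnit_of_basicOpen_eq {Z : Scheme.{u}} {W : Z.Opens} (s : Γ(Z, W))
    (h : Z.basicOpen s = W) : IsUnit s := by
  apply RingedSpace.isUnit_of_isUnit_germ Z.toRingedSpace W s
  intro x hx
  have hx' : x ∈ Z.basicOpen s := by rw [h]; exact hx
  exact (Scheme.mem_basicOpen Z s x hx).1 hx'

section AlphaApp
variable {X Y : Scheme.{u}} (f : X ⟶ Y) {V : Y.Opens} (hV : IsAffineOpen V)

/-- bijectivity of the structure map of the coordinate ring of a chart is bijectivity of the map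
on sections -/
theorem bijective_app_of_alphaRing
    (h : letI : (↑(f ⁻¹ᵁ V) : Scheme.{u}).Over (Spec (CommRingCat.of Γ(Y, V))) := ⟨strMap f hV⟩
      Function.Bijective (fun b : Γ(Y, V) => alphaRing Γ(Y, V) (↑(f ⁻¹ᵁ V) : Scheme.{u}) ⊤ b)) :
    Function.Bijective (f.app V) := by
  letI : (↑(f ⁻¹ᵁ V) : Scheme.{u}).Over (Spec (CommRingCat.of Γ(Y, V))) := ⟨strMap f hV⟩
  have hρ := presheaf_map_bijective_of_eq (X := X) (Scheme.Opens.ι_image_top (f ⁻¹ᵁ V))
  have h4 : (fun b : Γ(Y, V) => alphaRing Γ(Y, V) (↑(f ⁻¹ᵁ V) : Scheme.{u}) ⊤ b) =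
      (X.presheaf.map (homOfLE (le_of_eq (Scheme.Opens.ι_image_top (f ⁻¹ᵁ V)))).op).hom ∘
        (f.app V).hom := funext (fun b => alphaRing_chart f hV b)
  rw [h4] at h
  exact (Function.Bijective.of_comp_iff' hρ _).1 h

end AlphaApp

section Main

attribute [local instance] secMod

/-- **universal descent of functions near a point**: if the functions on the fibre at `y` are the
residue field, then near `y` functions descend after every base change -/
theorem exists_nhd_universal {X Y : Scheme.{u}} (f : X ⟶ Y) [IsProper f] [Flat f]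
    [IsLocallyNoetherian Y] (y : Y)
    (hy : Function.Bijective (algebraMap (Y.residueField y) Γ(f.fiber y, ⊤))) :
    ∃ U : Y.Opens, y ∈ U ∧ ∀ (T : Scheme.{u}) (g : T ⟶ Y) (W : T.Opens), IsAffineOpen W →
      W ≤ g ⁻¹ᵁ U → Function.Bijective ((pullback.snd f g).app W) := by
  obtain ⟨_, ⟨V, hV, rfl⟩, hyV, -⟩ := Y.isBasis_affineOpens.exists_subset_of_mem_open
    (Set.mem_univ y) isOpen_univ
  letI : (↑(f ⁻¹ᵁ V) : Scheme.{u}).Over (Spec (CommRingCat.of Γ(Y, V))) := ⟨strMap f hV⟩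
  haveI : IsProper ((↑(f ⁻¹ᵁ V) : Scheme.{u}) ↘ Spec (CommRingCat.of Γ(Y, V))) :=
    isProper_strMap f hV
  haveI : IsNoetherianRing Γ(Y, V) := IsLocallyNoetherian.component_noetherian ⟨V, hV⟩
  let F := Coh.structureModule X
  have hF : Coh.IsCoh F := Groth.Agent.Helper1.Dv.isCoh_structureModule X
  haveI : F.IsQuasicoherent := hF.1
  have hfl : FlatMod.IsFlatOver f F :=
    Groth.Agent.Lib.Helper5.LpullLib.isFlatOver_of_isFinLocFree f F
      (InvInv2.isFinLocFree_of_isInvertible Groth.Agent.Lead.ParaF.isInvertible_unit)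
  have hFV : Coh.IsCoh (F.restrict (f ⁻¹ᵁ V).ι) :=
    Groth.Agent.Helper1.FinPush.isCoh_restrict _ F hF
  have hq : (F.restrict (f ⁻¹ᵁ V).ι).IsQuasicoherent := hFV.1
  haveI := hq
  have hflV : FlatMod.IsFlatOver ((↑(f ⁻¹ᵁ V) : Scheme.{u}) ↘ Spec (CommRingCat.of Γ(Y, V)))
      (F.restrict (f ⁻¹ᵁ V).ι) := isFlatOver_restrict f hV F hfl
  obtain ⟨D⟩ := nonempty_mdata Γ(Y, V) (↑(f ⁻¹ᵁ V) : Scheme.{u}) (F.restrict (f ⁻¹ᵁ V).ι) hFV hflV
  haveI := D.fin
  obtain ⟨y₀, rfl⟩ : ∃ y₀ : ↑(Spec (CommRingCat.of Γ(Y, V))), hV.fromSpec y₀ = y :=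
    ⟨hV.primeIdealOf ⟨y, hyV⟩, hV.fromSpec_primeIdealOf ⟨y, hyV⟩⟩
  obtain ⟨g₀, hg1, hsq⟩ := exists_fibre_square f hV y₀
  letI : (f.fiber (hV.fromSpec y₀)).Over
      (Spec (CommRingCat.of (Y.residueField (hV.fromSpec y₀)))) :=
    CohIII.fiberOver f (hV.fromSpec y₀)
  -- the hypotheses on the fibre
  have halg : ∀ c : Y.residueField (hV.fromSpec y₀),
      alphaRing (Y.residueField (hV.fromSpec y₀)) (f.fiber (hV.fromSpec y₀)) ⊤ c =
        algebraMap (Y.residueField (hV.fromSpec y₀)) Γ(f.fiber (hV.fromSpec y₀), ⊤) c := by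
    intro c
    have h0 := appLE_top_top ((f.fiber (hV.fromSpec y₀)) ↘
        Spec (CommRingCat.of (Y.residueField (hV.fromSpec y₀))))
    unfold alphaRing
    rw [h0]
    rfl
  have hsm : ∀ (c : Y.residueField (hV.fromSpec y₀))
      (t : Γ(Fp g₀ (F.restrict (f ⁻¹ᵁ V).ι), ⊤)),
      thetaFib f hV y₀ g₀ hg1 (c • t) =
        alphaRing (Y.residueField (hV.fromSpec y₀)) (f.fiber (hV.fromSpec y₀)) ⊤ c •
          thetaFib f hV y₀ g₀ hg1 t := by
    intro c t
    unfold thetaFib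
    rw [secMod_smul, Scheme.Modules.Hom.app_smul, Scheme.Modules.Hom.app_smul]
  have G1 : ∀ t : Γ(Fp g₀ (F.restrict (f ⁻¹ᵁ V).ι), ⊤), ∃ c : Y.residueField (hV.fromSpec y₀),
      t = c • uAdd g₀ (F.restrict (f ⁻¹ᵁ V).ι)
        (le_top : (⊤ : (f.fiber (hV.fromSpec y₀)).Opens) ≤ g₀ ⁻¹ᵁ ⊤) (oneChart f) := by
    intro t
    obtain ⟨c, hc⟩ := hy.2 (show Γ(f.fiber (hV.fromSpec y₀), ⊤) from thetaFib f hV y₀ g₀ hg1 t)
    refine ⟨c, thetaFib_injective f hV y₀ g₀ hg1 ?_⟩
    rw [hsm, thetaFib_one, TwForm.smul_one', halg, hc]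
  have G2 : uAdd g₀ (F.restrict (f ⁻¹ᵁ V).ι)
      (le_top : (⊤ : (f.fiber (hV.fromSpec y₀)).Opens) ≤ g₀ ⁻¹ᵁ ⊤) (oneChart f) ≠ 0 := by
    intro h0
    have h1 := thetaFib_one f hV y₀ g₀ hg1
    rw [h0] at h1
    have h2 : thetaFib f hV y₀ g₀ hg1 0 = 0 := by
      unfold thetaFib
      rw [map_zero, map_zero]
    rw [h2] at h1
    have h3 : (1 : Γ(f.fiber (hV.fromSpec y₀), ⊤)) = 0 := h1.symm
    have h4 : algebraMap (Y.residueField (hV.fromSpec y₀)) Γ(f.fiber (hV.fromSpec y₀), ⊤) 1 =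
        algebraMap (Y.residueField (hV.fromSpec y₀)) Γ(f.fiber (hV.fromSpec y₀), ⊤) 0 := by
      rw [map_one, map_zero, h3]
    exact one_ne_zero (hy.1 h4)
  obtain ⟨h, hh, HB⟩ := exists_local_generator' (phiV hV y₀) g₀ D hsq (hfrac_phiV hV y₀)
    (oneChart f) G1 G2
  have hhp : h ∉ y₀.asIdeal := by
    intro hmem
    apply hh
    rw [← ker_phiV hV y₀] at hmem
    exact hmem
  refine ⟨Y.basicOpen h, ?_, ?_⟩
  · have h4 : y₀ ∈ hV.fromSpec ⁻¹ᵁ Y.basicOpen h := by
      rw [hV.fromSpec_preimage_basicOpen]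
      exact hhp
    exact h4
  · intro T g W hW hWU
    have hWV : W ≤ g ⁻¹ᵁ V := hWU.trans (fun x hx => Y.basicOpen_le h hx)
    obtain ⟨k, hk1, hksq⟩ := exists_chart_square f g hV hW hWV
    letI : (↑((pullback.snd f g) ⁻¹ᵁ W) : Scheme.{u}).Over (Spec (CommRingCat.of Γ(T, W))) :=
      ⟨strMap (pullback.snd f g) hW⟩
    let θ : Γ(Y, V) →+* Γ(T, W) := (g.appLE V W hWV).hom
    have hunit : IsUnit (θ h) := by
      apply isUnit_of_basicOpen_eq
      change T.basicOpen ((g.appLE V W hWV).hom h) = W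
      rw [Scheme.basicOpen_appLE]
      exact inf_eq_left.2 hWU
    let N : ModuleCat.{u} Γ(Y, V) := rs θ (ModuleCat.of Γ(T, W) Γ(T, W))
    have hN : Function.Bijective (fun n : N => h • n) := by
      have h5 : Function.Bijective (fun n : Γ(T, W) => θ h * n) :=
        IsUnit.isUnit_iff_mulLeft_bijective.mp hunit
      exact h5
    obtain ⟨hex, hinj⟩ := HB N hN
    have hbij := bijective_smul_uAdd θ k (F.restrict (f ⁻¹ᵁ V).ι) D.U hksq D.haff D.hcov
      (oneChart f) hex hinj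
    let u₀ : Γ(Fp k (F.restrict (f ⁻¹ᵁ V).ι), ⊤) := uAdd k (F.restrict (f ⁻¹ᵁ V).ι)
        (le_top : (⊤ : (↑((pullback.snd f g) ⁻¹ᵁ W) : Scheme.{u}).Opens) ≤ k ⁻¹ᵁ ⊤)
        (oneChart f)
    have hone : thetaG (f ⁻¹ᵁ V) k _ hk1 u₀ = TwForm.one' ⊤ := thetaG_one (f ⁻¹ᵁ V) k _ hk1
    have hbij' : Function.Bijective (fun b : Γ(T, W) =>
        alphaRing Γ(T, W) (↑((pullback.snd f g) ⁻¹ᵁ W) : Scheme.{u}) ⊤ b • u₀) := hbij
    have hcomp : Function.Bijective (fun b : Γ(T, W) =>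
        alphaRing Γ(T, W) (↑((pullback.snd f g) ⁻¹ᵁ W) : Scheme.{u}) ⊤ b) := by
      have h1 := (thetaG_bijective (f ⁻¹ᵁ V) k _ hk1).comp hbij'
      have h2 : (thetaG (f ⁻¹ᵁ V) k _ hk1) ∘ (fun b : Γ(T, W) =>
          alphaRing Γ(T, W) (↑((pullback.snd f g) ⁻¹ᵁ W) : Scheme.{u}) ⊤ b • u₀) =
          fun b : Γ(T, W) => (show Γ(Coh.structureModule
              (↑((pullback.snd f g) ⁻¹ᵁ W) : Scheme.{u}), ⊤) from
            alphaRing Γ(T, W) (↑((pullback.snd f g) ⁻¹ᵁ W) : Scheme.{u}) ⊤ b) := by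
        funext b
        simp only [Function.comp_apply]
        refine (thetaG_smul (f ⁻¹ᵁ V) k _ hk1
            (alphaRing Γ(T, W) (↑((pullback.snd f g) ⁻¹ᵁ W) : Scheme.{u}) ⊤ b) u₀).trans ?_
        refine (congrArg (fun z => alphaRing Γ(T, W)
          (↑((pullback.snd f g) ⁻¹ᵁ W) : Scheme.{u}) ⊤ b • z) hone).trans ?_
        exact TwForm.smul_one' ⊤ _
      rw [h2] at h1
      exact h1
    exact bijective_app_of_alphaRing (pullback.snd f g) hW hcomp

end Main

section Glob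

/-- **functions on the fibres are the residue fields iff functions descend universally** -/
theorem main {X Y : Scheme.{u}} (f : X ⟶ Y) [IsProper f] [Flat f] [IsLocallyNoetherian Y] :
    (∀ y : Y, Module.finrank (Y.residueField y) Γ(f.fiber y, ⊤) = 1) ↔
      ∀ (T : Scheme.{u}) (g : T ⟶ Y) (U : T.Opens), IsIso ((pullback.snd f g).app U) := by
  constructor
  · intro h0 T g U
    have hloc : ∀ t : T, ∃ Ut : T.Opens, t ∈ Ut ∧ ∀ V : T.Opens, V ≤ Ut →
        Function.Bijective ((pullback.snd f g).app V) := by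
      intro t
      obtain ⟨U₀, hyU₀, hU₀⟩ := exists_nhd_universal f (g t)
        ((Algebra.finrank_eq_one_iff_bijective_algebraMap).1 (h0 (g t)))
      refine ⟨g ⁻¹ᵁ U₀, hyU₀, fun V hV => ?_⟩
      have := Groth.Agent.Helper7.GeomConn.ZC.isIso_app_of_le (pullback.snd f g) (g ⁻¹ᵁ U₀)
        (fun W hW hWU => (ConcreteCategory.isIso_iff_bijective _).2 (hU₀ T g W hW hWU)) V hV
      exact (ConcreteCategory.isIso_iff_bijective _).1 this
    have hiso : IsIso (ClSub.unitToPush (pullback.snd f g)) := by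
      apply AdjBC.isIso_of_restrict
      intro t
      obtain ⟨Ut, htU, hUt⟩ := hloc t
      refine ⟨↑Ut, Ut.ι, inferInstance, by simpa using htU, ?_⟩
      apply TwForm.isIso_of_app_bijective
      intro W'
      change Function.Bijective ((ClSub.unitToPush (pullback.snd f g)).app (Ut.ι ''ᵁ W'))
      exact hUt (Ut.ι ''ᵁ W') (Ut.ι_image_le W')
    have := Groth.Agent.Lib.Helper4.UnitFLF2.bijective_app_of_isIso_unitToPush
      (pullback.snd f g) hiso U
    exact (ConcreteCategory.isIso_iff_bijective _).2 this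
  · intro h y
    have h1 := h (Spec (Y.residueField y)) (Y.fromSpecResidueField y) ⊤
    have h2 : Function.Bijective ((f.fiberToSpecResidueField y).appTop) :=
      (ConcreteCategory.isIso_iff_bijective _).1 h1
    have h4 : Function.Bijective ((Scheme.ΓSpecIso (Y.residueField y)).inv) := by
      have : IsIso ((Scheme.ΓSpecIso (Y.residueField y)).inv) := inferInstance
      exact (ConcreteCategory.isIso_iff_bijective _).1 this
    have h3 : Function.Bijective (algebraMap (Y.residueField y) Γ(f.fiber y, ⊤)) := h2.comp h4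
    exact (Algebra.finrank_eq_one_iff_bijective_algebraMap).2 h3

end Glob

end Groth.Agent.Lib.Helper4.UnivBC2
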