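import Mathlib
import Groth.Prelude
import Groth.Agent.Lib.Helper4.UnivBC2

/-!
# rigidity lemma (proper flat case) via universal O_S = f_* O_X and schematic density (helper4)
-/

set_option backward.isDefEq.respectTransparency.types false
set_option synthInstance.maxHeartbeats 400000
set_option autoImplicit false
set_option linter.unusedSectionVars false
set_option linter.style.haveILetI false
set_option linter.unusedSimpArgs false
universe u v w
open CategoryTheory CategoryTheory.Limits AlgebraicGeometry Opposite TopologicalSpace Groth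

namespace Groth.Agent.Lib.Helper4.RigidProper1

/-- morphisms to an affine scheme are detected by a morphism injective on global sections. -/
theorem eq_of_comp_eq_of_isAffine {X T Z : Scheme.{u}} (h : X ⟶ T)
    (hinj : Function.Injective h.appTop.hom) [IsAffine Z] (a b : T ⟶ Z) (hab : h ≫ a = h ≫ b) :
    a = b := by
  apply ext_of_isAffine
  have h1 : a.appTop ≫ h.appTop = b.appTop ≫ h.appTop := by
    rw [← Scheme.Hom.comp_appTop, ← Scheme.Hom.comp_appTop, hab]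
  ext x
  apply hinj
  exact congrArg (fun φ => φ.hom x) h1

/-- factorization through a morphism inducing an isomorphism on global sections, affine target. -/
theorem exists_fac_of_isIso_appTop {X' T V : Scheme.{u}} (h : X' ⟶ T) [IsIso h.appTop]
    [IsAffine V] (ρ : X' ⟶ V) : ∃ τ : T ⟶ V, h ≫ τ = ρ := by
  refine ⟨T.toSpecΓ ≫ Spec.map (ρ.appTop ≫ inv h.appTop) ≫ inv V.toSpecΓ, ?_⟩
  have h1 : h ≫ T.toSpecΓ ≫ Spec.map (ρ.appTop ≫ inv h.appTop) = ρ ≫ V.toSpecΓ := by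
    rw [← Category.assoc, Scheme.toSpecΓ_naturality, Category.assoc, ← Spec.map_comp,
      Category.assoc, IsIso.inv_hom_id, Category.comp_id, ← Scheme.toSpecΓ_naturality]
  calc h ≫ T.toSpecΓ ≫ Spec.map (ρ.appTop ≫ inv h.appTop) ≫ inv V.toSpecΓ
      = (h ≫ T.toSpecΓ ≫ Spec.map (ρ.appTop ≫ inv h.appTop)) ≫ inv V.toSpecΓ := by
        simp only [Category.assoc]
    _ = ρ := by rw [h1, Category.assoc, IsIso.hom_inv_id, Category.comp_id]

/-- morphisms over a separated base agreeing on a scheme-theoretically dominant part agree. -/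
theorem ext_of_isSchemeTheoreticallyDominant {W X Y Z : Scheme.{u}} {a b : X ⟶ Y}
    (s : Y ⟶ Z) [IsSeparated s] (h : a ≫ s = b ≫ s)
    (ι : W ⟶ X) [IsSchemeTheoreticallyDominant ι] (hU : ι ≫ a = ι ≫ b) : a = b := by
  let X' : Over Z := Over.mk (a ≫ s)
  let Y' : Over Z := Over.mk s
  let U' : Over Z := Over.mk (ι ≫ a ≫ s)
  let f' : X' ⟶ Y' := Over.homMk a
  let g' : X' ⟶ Y' := Over.homMk b h.symm
  let ι' : U' ⟶ X' := Over.homMk ι
  have : IsSeparated Y'.hom := ‹_›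
  have hcond : ι' ≫ f' = ι' ≫ g' := by ext1; exact hU
  have hlift : (equalizer.lift ι' hcond).left ≫ (equalizer.ι f' g').left = ι := by
    rw [← Over.comp_left, equalizer.lift_ι]; rfl
  have hker : (equalizer.ι f' g').left.ker = ⊥ := by
    have h1 := Scheme.Hom.le_ker_comp (equalizer.lift ι' hcond).left (equalizer.ι f' g').left
    rw [hlift, IsSchemeTheoreticallyDominant.ker_eq_bot ι] at h1
    exact le_bot_iff.1 h1
  have := IsClosedImmersion.isIso_iff_ker_eq_bot.2 hker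
  rw [← cancel_epi (equalizer.ι f' g').left]
  exact congr($(equalizer.condition f' g').left)


/-- the factorization property of `π` over an open `U ⊆ S`. -/
def FacOn {X Y S : Scheme.{u}} (f : X ⟶ S) (π : X ⟶ Y) (U : S.Opens) (τ : (U : Scheme.{u}) ⟶ Y) :
    Prop :=
  pullback.fst f U.ι ≫ π = pullback.snd f U.ι ≫ τ

theorem FacOn.eq {X Y S : Scheme.{u}} {f : X ⟶ S} {π : X ⟶ Y} {U : S.Opens}
    {τ : (U : Scheme.{u}) ⟶ Y} (hτ : FacOn f π U τ) {W : Scheme.{u}} (w : W ⟶ X)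
    (u : W ⟶ (U : Scheme.{u})) (hwu : w ≫ f = u ≫ U.ι) : w ≫ π = u ≫ τ := by
  calc w ≫ π = (pullback.lift w u hwu ≫ pullback.fst f U.ι) ≫ π := by rw [pullback.lift_fst]
    _ = pullback.lift w u hwu ≫ pullback.snd f U.ι ≫ τ := by rw [Category.assoc, hτ]
    _ = u ≫ τ := by rw [← Category.assoc, pullback.lift_snd]

theorem FacOn.apply {X Y S : Scheme.{u}} {f : X ⟶ S} {π : X ⟶ Y} {U : S.Opens}
    {τ : (U : Scheme.{u}) ⟶ Y} (hτ : FacOn f π U τ) (x : X) (hx : f x ∈ U) :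
    π x = τ ⟨f x, hx⟩ := by
  obtain ⟨z, hz1, hz2⟩ := Scheme.Pullback.exists_preimage_pullback (f := f) (g := U.ι) x
    ⟨f x, hx⟩ rfl
  have h1 : (pullback.fst f U.ι ≫ π) z = (pullback.snd f U.ι ≫ τ) z := by rw [hτ]
  rw [Scheme.Hom.comp_apply, Scheme.Hom.comp_apply, hz1, hz2] at h1
  exact h1

section Univ

variable {X S : Scheme.{u}} (f : X ⟶ S)
  (hall : ∀ (T : Scheme.{u}) (g : T ⟶ S) (U : T.Opens), IsIso ((pullback.snd f g).app U))

include hall in
/-- every base change of `f` is an epimorphism of schemes. -/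
theorem epi_pullback_snd [Surjective f] {V : Scheme.{u}} (v : V ⟶ S) :
    Epi (pullback.snd f v) := by
  constructor
  intro Z a b hab
  have hpt : ∀ t : V, a t = b t := by
    intro t
    obtain ⟨x, rfl⟩ := (pullback.snd f v).surjective t
    rw [← Scheme.Hom.comp_apply, hab, Scheme.Hom.comp_apply]
  apply Scheme.hom_ext_of_forall
  intro t
  obtain ⟨_, ⟨(W : Z.Opens), hW, rfl⟩, htW, -⟩ :=
    Z.isBasis_affineOpens.exists_subset_of_mem_open (Set.mem_univ (a t)) isOpen_univ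
  refine ⟨a ⁻¹ᵁ W, htW, ?_⟩
  have hra : Set.range (((a ⁻¹ᵁ W).ι ≫ a)) ⊆ Set.range W.ι := by
    rintro _ ⟨z, rfl⟩
    rw [Scheme.Opens.range_ι, Scheme.Hom.comp_apply]
    exact z.2
  have hrb : Set.range (((a ⁻¹ᵁ W).ι ≫ b)) ⊆ Set.range W.ι := by
    rintro _ ⟨z, rfl⟩
    rw [Scheme.Opens.range_ι, Scheme.Hom.comp_apply, ← hpt]
    exact z.2
  haveI : IsAffine (W : Scheme.{u}) := hW
  have key : IsOpenImmersion.lift W.ι ((a ⁻¹ᵁ W).ι ≫ a) hra =
      IsOpenImmersion.lift W.ι ((a ⁻¹ᵁ W).ι ≫ b) hrb := by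
    have hiso := hall _ ((a ⁻¹ᵁ W).ι ≫ v) ⊤
    refine eq_of_comp_eq_of_isAffine (pullback.snd f ((a ⁻¹ᵁ W).ι ≫ v)) ?_ _ _ ?_
    · exact ((ConcreteCategory.isIso_iff_bijective _).1 hiso).1
    · rw [← cancel_mono W.ι]
      simp only [Category.assoc, IsOpenImmersion.lift_fac]
      obtain ⟨m, hm⟩ : ∃ m : pullback f ((a ⁻¹ᵁ W).ι ≫ v) ⟶ pullback f v,
          m ≫ pullback.snd f v = pullback.snd f ((a ⁻¹ᵁ W).ι ≫ v) ≫ (a ⁻¹ᵁ W).ι :=
        ⟨pullback.lift (pullback.fst f ((a ⁻¹ᵁ W).ι ≫ v))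
            (pullback.snd f ((a ⁻¹ᵁ W).ι ≫ v) ≫ (a ⁻¹ᵁ W).ι)
            (by rw [pullback.condition, Category.assoc]), pullback.lift_snd _ _ _⟩
      rw [← Category.assoc, ← Category.assoc, ← hm, Category.assoc, Category.assoc, hab]
  calc (a ⁻¹ᵁ W).ι ≫ a = IsOpenImmersion.lift W.ι ((a ⁻¹ᵁ W).ι ≫ a) hra ≫ W.ι := by
        rw [IsOpenImmersion.lift_fac]
    _ = (a ⁻¹ᵁ W).ι ≫ b := by rw [key, IsOpenImmersion.lift_fac]

include hall in
theorem epi_self [Surjective f] : Epi f := by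
  haveI := epi_pullback_snd f hall (𝟙 S)
  have h1 : f = inv (pullback.fst f (𝟙 S)) ≫ pullback.snd f (𝟙 S) := by
    rw [IsIso.eq_inv_comp, pullback.condition, Category.comp_id]
  rw [h1]
  infer_instance

include hall in
/-- if `π` is constant on the fibre over `s`, it factors through `f` near `s`. -/
theorem exists_facOn_near [UniversallyClosed f] {Y : Scheme.{u}} (π : X ⟶ Y) (s : S) (x₀ : X)
    (hs : ∀ x : X, f x = s → π x = π x₀) :
    ∃ (U : S.Opens) (τ : (U : Scheme.{u}) ⟶ Y), s ∈ U ∧ FacOn f π U τ := by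
  obtain ⟨_, ⟨(V : Y.Opens), hV, rfl⟩, hyV, -⟩ :=
    Y.isBasis_affineOpens.exists_subset_of_mem_open (Set.mem_univ (π x₀)) isOpen_univ
  have hC : IsClosed ((π ⁻¹ᵁ V : Set X)ᶜ) := (π ⁻¹ᵁ V).isOpen.isClosed_compl
  have hfC : IsClosed (f '' ((π ⁻¹ᵁ V : Set X)ᶜ)) := f.isClosedMap _ hC
  let U : S.Opens := ⟨(f '' ((π ⁻¹ᵁ V : Set X)ᶜ))ᶜ, hfC.isOpen_compl⟩
  have hsU : s ∈ U := by
    rintro ⟨x, hxC, hxs⟩
    apply hxC
    change π x ∈ V
    rw [hs x hxs]
    exact hyV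
  have hrange : Set.range (pullback.fst f U.ι ≫ π) ⊆ Set.range V.ι := by
    rintro _ ⟨z, rfl⟩
    rw [Scheme.Opens.range_ι, Scheme.Hom.comp_apply]
    by_contra hcon
    have h1 : f (pullback.fst f U.ι z) ∈ f '' ((π ⁻¹ᵁ V : Set X)ᶜ) := ⟨_, hcon, rfl⟩
    have h2 : f (pullback.fst f U.ι z) = U.ι (pullback.snd f U.ι z) := by
      rw [← Scheme.Hom.comp_apply, pullback.condition, Scheme.Hom.comp_apply]
    rw [h2] at h1
    exact (pullback.snd f U.ι z).2 h1
  haveI : IsAffine (V : Scheme.{u}) := hV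
  haveI : IsIso (pullback.snd f U.ι).appTop := hall _ U.ι ⊤
  obtain ⟨τ₀, hτ₀⟩ := exists_fac_of_isIso_appTop (pullback.snd f U.ι)
    (IsOpenImmersion.lift V.ι (pullback.fst f U.ι ≫ π) hrange)
  refine ⟨U, τ₀ ≫ V.ι, hsU, ?_⟩
  change pullback.fst f U.ι ≫ π = pullback.snd f U.ι ≫ τ₀ ≫ V.ι
  rw [← Category.assoc, hτ₀, IsOpenImmersion.lift_fac]

end Univ


/-- constancy on fibres is stable under specialization (flatness + schematic density). -/
theorem const_of_specializes {X Y S : Scheme.{u}} [IsLocallyNoetherian S] (f : X ⟶ S) [Flat f]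
    (g : Y ⟶ S) [IsSeparated g] (π : X ⟶ Y) (hπ : π ≫ g = f) {η s₀ : S} (hsp : η ⤳ s₀)
    (U : S.Opens) (hηU : η ∈ U) (τ : (U : Scheme.{u}) ⟶ Y) (hτ : FacOn f π U τ)
    (x₁ x₂ : X) (h₁ : f x₁ = s₀) (h₂ : f x₂ = s₀) : π x₁ = π x₂ := by
  obtain ⟨𝔭, h𝔭⟩ : η ∈ Set.range (S.fromSpecStalk s₀) := by
    rw [Scheme.range_fromSpecStalk]; exact hsp
  haveI : 𝔭.asIdeal.IsPrime := 𝔭.isPrime
  let A := (S.presheaf.stalk s₀) ⧸ 𝔭.asIdeal
  let c : Spec (CommRingCat.of A) ⟶ Spec (S.presheaf.stalk s₀) :=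
    Spec.map (CommRingCat.ofHom (Ideal.Quotient.mk 𝔭.asIdeal))
  let j : Spec (CommRingCat.of A) ⟶ S := c ≫ S.fromSpecStalk s₀
  have hrange : ∀ q : Spec (S.presheaf.stalk s₀), 𝔭.asIdeal ≤ q.asIdeal →
      ∃ t : Spec (CommRingCat.of A), c t = q := by
    intro q hq
    have h1 : q ∈ Set.range (PrimeSpectrum.comap (Ideal.Quotient.mk 𝔭.asIdeal)) := by
      rw [_root_.range_comap_of_surjective _ _ Ideal.Quotient.mk_surjective, Ideal.mk_ker]
      exact hq
    obtain ⟨t, ht⟩ := h1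
    exact ⟨t, ht⟩
  obtain ⟨t₁, ht₁⟩ := hrange 𝔭 le_rfl
  obtain ⟨t₀, ht₀⟩ := hrange (IsLocalRing.closedPoint (S.presheaf.stalk s₀))
    (IsLocalRing.le_maximalIdeal 𝔭.isPrime.ne_top)
  have hjt₁ : j t₁ = η := by
    change (c ≫ S.fromSpecStalk s₀) t₁ = η
    rw [Scheme.Hom.comp_apply, ht₁, h𝔭]
  have hjt₀ : j t₀ = s₀ := by
    change (c ≫ S.fromSpecStalk s₀) t₀ = s₀
    rw [Scheme.Hom.comp_apply, ht₀, Scheme.fromSpecStalk_closedPoint]
  haveI : IsDomain (CommRingCat.of A) := inferInstanceAs (IsDomain A)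
  haveI : IsNoetherianRing (CommRingCat.of A) := inferInstanceAs (IsNoetherianRing A)
  haveI : IsIntegral (Spec (CommRingCat.of A)) := inferInstance
  haveI : IsLocallyNoetherian (Spec (CommRingCat.of A)) := inferInstance
  let UT : (Spec (CommRingCat.of A)).Opens := j ⁻¹ᵁ U
  have ht₁U : t₁ ∈ UT := by
    change j t₁ ∈ U
    rw [hjt₁]; exact hηU
  haveI : IsDominant UT.ι := by
    refine ⟨?_⟩
    rw [DenseRange, Scheme.Opens.range_ι]
    exact UT.isOpen.dense ⟨t₁, ht₁U⟩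
  haveI : IsSchemeTheoreticallyDominant UT.ι := .of_isDominant _
  let h := pullback.snd f j
  let q₁ := pullback.fst h h
  let q₂ := pullback.snd h h
  let r := q₁ ≫ h
  haveI : Flat h := inferInstance
  haveI : Flat q₁ := inferInstance
  haveI : Flat r := inferInstance
  let W := r ⁻¹ᵁ UT
  haveI : IsSchemeTheoreticallyDominant W.ι :=
    IsSchemeTheoreticallyDominant.of_isPullback (isPullback_morphismRestrict r UT)
  let a₁ := q₁ ≫ pullback.fst f j ≫ π
  let a₂ := q₂ ≫ pullback.fst f j ≫ π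
  have hq : q₁ ≫ h = q₂ ≫ h := pullback.condition
  have hfj : pullback.fst f j ≫ f = h ≫ j := pullback.condition
  have hg : a₁ ≫ g = a₂ ≫ g := by
    simp only [a₁, a₂, Category.assoc, hπ, hfj]
    rw [← Category.assoc, hq, Category.assoc]
  have hWr : Set.range (W.ι ≫ r ≫ j) ⊆ Set.range U.ι := by
    rintro _ ⟨z, rfl⟩
    rw [Scheme.Opens.range_ι, Scheme.Hom.comp_apply, Scheme.Hom.comp_apply]
    exact z.2
  let u : (W : Scheme.{u}) ⟶ (U : Scheme.{u}) := IsOpenImmersion.lift U.ι (W.ι ≫ r ≫ j) hWr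
  have hu : u ≫ U.ι = W.ι ≫ r ≫ j := IsOpenImmersion.lift_fac _ _ _
  have hw₁ : (W.ι ≫ q₁ ≫ pullback.fst f j) ≫ f = u ≫ U.ι := by
    rw [hu]; simp only [Category.assoc, hfj, r]
  have hw₂ : (W.ι ≫ q₂ ≫ pullback.fst f j) ≫ f = u ≫ U.ι := by
    rw [hu]; simp only [Category.assoc, hfj, r]
    rw [← Category.assoc q₂, ← hq, Category.assoc]
  have hU' : W.ι ≫ a₁ = W.ι ≫ a₂ := by
    have e₁ := hτ.eq _ u hw₁
    have e₂ := hτ.eq _ u hw₂
    simp only [Category.assoc] at e₁ e₂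
    exact e₁.trans e₂.symm
  have hEq : a₁ = a₂ := ext_of_isSchemeTheoreticallyDominant g hg W.ι hU'
  obtain ⟨z₁, hz₁x, hz₁t⟩ := Scheme.Pullback.exists_preimage_pullback (f := f) (g := j) x₁ t₀
    (h₁.trans hjt₀.symm)
  obtain ⟨z₂, hz₂x, hz₂t⟩ := Scheme.Pullback.exists_preimage_pullback (f := f) (g := j) x₂ t₀
    (h₂.trans hjt₀.symm)
  obtain ⟨w, hw1, hw2⟩ := Scheme.Pullback.exists_preimage_pullback (f := h) (g := h) z₁ z₂
    (hz₁t.trans hz₂t.symm)
  have e₁ : a₁ w = π x₁ := by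
    change (q₁ ≫ pullback.fst f j ≫ π) w = π x₁
    rw [Scheme.Hom.comp_apply, Scheme.Hom.comp_apply, hw1, hz₁x]
  have e₂ : a₂ w = π x₂ := by
    change (q₂ ≫ pullback.fst f j ≫ π) w = π x₂
    rw [Scheme.Hom.comp_apply, Scheme.Hom.comp_apply, hw2, hz₂x]
  rw [← e₁, ← e₂, hEq]

/-- in a locally noetherian scheme, an open set stable under specialization is closed. -/
theorem isClosed_of_isOpen_of_stableUnderSpecialization {S : Scheme.{u}} [IsLocallyNoetherian S]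
    (Sg : Set S) (ho : IsOpen Sg) (hsp : StableUnderSpecialization Sg) : IsClosed Sg := by
  rw [← closure_subset_iff_isClosed]
  intro s₀ hs₀
  obtain ⟨_, ⟨(U : S.Opens), hU, rfl⟩, hsU, -⟩ :=
    S.isBasis_affineOpens.exists_subset_of_mem_open (Set.mem_univ s₀) isOpen_univ
  haveI : IsNoetherianRing Γ(S, U) := IsLocallyNoetherian.component_noetherian ⟨U, hU⟩
  have hcl : IsClosed ((hU.fromSpec) ⁻¹' Sg) := by
    refine PrimeSpectrum.isClosed_of_stableUnderSpecialization_of_isConstructible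
      (hsp.preimage hU.fromSpec.continuous) ?_
    exact IsRetrocompact.isConstructible (ho.preimage hU.fromSpec.continuous)
      (fun V _ _ => TopologicalSpace.NoetherianSpace.isCompact _)
  obtain ⟨p₀, hp₀⟩ : s₀ ∈ Set.range hU.fromSpec := by
    rw [hU.range_fromSpec]; exact hsU
  have h1 : p₀ ∈ closure ((hU.fromSpec) ⁻¹' Sg) := by
    rw [← hU.fromSpec.isOpenEmbedding.isOpenMap.preimage_closure_eq_closure_preimage
      hU.fromSpec.continuous Sg]
    change hU.fromSpec p₀ ∈ closure Sg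
    rw [hp₀]; exact hs₀
  rw [hcl.closure_eq] at h1
  change hU.fromSpec p₀ ∈ Sg at h1
  rwa [hp₀] at h1

/-- **Rigidity lemma (proper case)**: a proper flat surjective `f : X ⟶ S` with `O_S ≅ f_* O_X`
universally, `S` connected locally noetherian; a morphism `π : X ⟶ Y` over `S` to a separated
`S`-scheme which contracts one fibre factors through a section of `Y`. -/
theorem rigidity_proper {X Y S : Scheme.{u}} [IsLocallyNoetherian S] [ConnectedSpace S]
    (f : X ⟶ S) [IsProper f] [Flat f] [Surjective f]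
    (hall : ∀ (T : Scheme.{u}) (g : T ⟶ S) (U : T.Opens), IsIso ((pullback.snd f g).app U))
    (g : Y ⟶ S) [IsSeparated g] (π : X ⟶ Y) (hπ : π ≫ g = f) (s : S)
    (hs : ∀ x₁ x₂ : X, f x₁ = s → f x₂ = s → π x₁ = π x₂) :
    ∃ σ : S ⟶ Y, σ ≫ g = 𝟙 S ∧ π = f ≫ σ := by
  let Sg : Set S := {s | ∀ x₁ x₂ : X, f x₁ = s → f x₂ = s → π x₁ = π x₂}
  have hloc : ∀ s ∈ Sg, ∃ (U : S.Opens) (τ : (U : Scheme.{u}) ⟶ Y), s ∈ U ∧ FacOn f π U τ := by
    intro s hs
    obtain ⟨x₀, hx₀⟩ := f.surjective s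
    exact exists_facOn_near f hall π s x₀ (fun x hx => hs x x₀ hx hx₀)
  have hsub : ∀ (U : S.Opens) (τ : (U : Scheme.{u}) ⟶ Y), FacOn f π U τ → (U : Set S) ⊆ Sg := by
    intro U τ hτ s' hs' x₁ x₂ h₁ h₂
    have e₁ := hτ.apply x₁ (by rw [h₁]; exact hs')
    have e₂ := hτ.apply x₂ (by rw [h₂]; exact hs')
    rw [e₁, e₂]
    congr 1
    exact Subtype.ext (h₁.trans h₂.symm)
  have hopen : IsOpen Sg := by
    rw [isOpen_iff_forall_mem_open]
    intro s hs
    obtain ⟨U, τ, hsU, hτ⟩ := hloc s hs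
    exact ⟨U, hsub U τ hτ, U.isOpen, hsU⟩
  have hspec : StableUnderSpecialization Sg := by
    intro η s₀ hsp hη x₁ x₂ h₁ h₂
    obtain ⟨U, τ, hηU, hτ⟩ := hloc η hη
    exact const_of_specializes f g π hπ hsp U hηU τ hτ x₁ x₂ h₁ h₂
  have hclosed := isClosed_of_isOpen_of_stableUnderSpecialization Sg hopen hspec
  have huniv : Sg = Set.univ := IsClopen.eq_univ ⟨hclosed, hopen⟩ ⟨s, hs⟩
  have hall' : ∀ s : S, ∃ (U : S.Opens) (τ : (U : Scheme.{u}) ⟶ Y), s ∈ U ∧ FacOn f π U τ :=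
    fun s => hloc s (by rw [huniv]; trivial)
  choose U τ hsU hτ using hall'
  have hcover : IsOpenCover U := by
    rw [IsOpenCover, eq_top_iff]
    intro x _
    exact Opens.mem_iSup.2 ⟨x, hsU x⟩
  let 𝒰 : S.OpenCover := S.openCoverOfIsOpenCover U hcover
  have compat : ∀ x y : S, pullback.fst (𝒰.f x) (𝒰.f y) ≫ τ x = pullback.snd (𝒰.f x) (𝒰.f y) ≫ τ y := by
    intro x y
    have hc : pullback.fst (𝒰.f x) (𝒰.f y) ≫ (U x).ι = pullback.snd (𝒰.f x) (𝒰.f y) ≫ (U y).ι :=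
      pullback.condition
    obtain ⟨v, hv⟩ : ∃ v, v = pullback.fst (𝒰.f x) (𝒰.f y) ≫ (U x).ι := ⟨_, rfl⟩
    haveI := epi_pullback_snd f hall v
    rw [← cancel_epi (pullback.snd f v)]
    have e₁ := (hτ x).eq (pullback.fst f v) (pullback.snd f v ≫ pullback.fst (𝒰.f x) (𝒰.f y))
      (pullback.condition.trans ((congrArg (fun m => pullback.snd f v ≫ m) hv).trans
        (Category.assoc _ _ _).symm))
    have e₂ := (hτ y).eq (pullback.fst f v) (pullback.snd f v ≫ pullback.snd (𝒰.f x) (𝒰.f y))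
      (pullback.condition.trans ((congrArg (fun m => pullback.snd f v ≫ m) (hv.trans hc)).trans
        (Category.assoc _ _ _).symm))
    rw [Category.assoc] at e₁ e₂
    exact e₁.symm.trans e₂
  let σ : S ⟶ Y := 𝒰.glueMorphisms τ compat
  have hσ : ∀ x : S, (U x).ι ≫ σ = τ x := fun x => 𝒰.ι_glueMorphisms τ compat x
  have hfac : π = f ≫ σ := by
    apply Scheme.hom_ext_of_forall
    intro x
    refine ⟨f ⁻¹ᵁ (U (f x)), hsU (f x), ?_⟩
    have e₁ := (hτ (f x)).eq (f ⁻¹ᵁ (U (f x))).ι (f ∣_ (U (f x))) (morphismRestrict_ι f _).symm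
    rw [e₁, ← hσ (f x), ← Category.assoc, morphismRestrict_ι, Category.assoc]
  refine ⟨σ, ?_, hfac⟩
  haveI := epi_self f hall
  rw [← cancel_epi f, ← Category.assoc, ← hfac, hπ, Category.comp_id]

/-- the S14141 form. -/
theorem main {X Y S : Scheme.{u}} [IsNoetherian S] [ConnectedSpace ↥S]
    (f : X ⟶ S) [IsProper f] [Flat f]
    (hfib : ∀ s : ↥S, Function.Bijective (algebraMap (S.residueField s) Γ(f.fiber s, ⊤)))
    (g : Y ⟶ S) [IsSeparated g] (π : X ⟶ Y) (hπ : π ≫ g = f) (s : ↥S)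
    (hs : ∃ y : Spec (S.residueField s) ⟶ Y, f.fiberι s ≫ π = f.fiberToSpecResidueField s ≫ y) :
    ∃ σ : S ⟶ Y, σ ≫ g = 𝟙 S ∧ π = f ≫ σ := by
  have hall := (Groth.Agent.Lib.Helper4.UnivBC2.main f).1
    (fun y => (Algebra.finrank_eq_one_iff_bijective_algebraMap).2 (hfib y))
  haveI : Surjective f := by
    refine ⟨fun s' => ?_⟩
    haveI : Nontrivial Γ(f.fiber s', ⊤) := (hfib s').1.nontrivial
    by_contra hne
    haveI : IsEmpty (f.fiber s') := by
      refine ⟨fun z => hne ⟨f.fiberι s' z, ?_⟩⟩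
      have := f.range_fiberι s' ▸ Set.mem_range_self (f := f.fiberι s') z
      exact this
    exact not_subsingleton Γ(f.fiber s', ⊤) inferInstance
  obtain ⟨y, hy⟩ := hs
  refine rigidity_proper f hall g π hπ s ?_
  have hconst : ∀ x : X, f x = s → π x = y (IsLocalRing.closedPoint _) := by
    intro x hx
    have hxr : x ∈ Set.range (f.fiberι s) := by rw [f.range_fiberι s]; exact hx
    obtain ⟨z, rfl⟩ := hxr
    rw [← Scheme.Hom.comp_apply, hy, Scheme.Hom.comp_apply]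
    congr 1
    exact Subsingleton.elim _ _
  intro x₁ x₂ h₁ h₂
  rw [hconst x₁ h₁, hconst x₂ h₂]

end Groth.Agent.Lib.Helper4.RigidProper1
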