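import Mathlib
import Groth.Prelude
import Groth.Agent.Lib.Helper4.RigidProper1

/-!
# rigidity consequences for morphisms to group schemes (GIT 6.1 corollaries, proper case) (helper4)
-/

set_option backward.isDefEq.respectTransparency.types false
set_option synthInstance.maxHeartbeats 400000
set_option autoImplicit false
set_option linter.unusedSectionVars false
set_option linter.style.haveILetI false
set_option linter.unusedSimpArgs false
universe u v w
open CategoryTheory CategoryTheory.Limits AlgebraicGeometry Opposite TopologicalSpace Groth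
open MonoidalCategory CartesianMonoidalCategory MonObj GrpObj

namespace Groth.Agent.Lib.Helper4.RigidGrp1

open Groth.Agent.Lib.Helper4.RigidProper1

/-- from bijectivity of `κ(s) → Γ(X_s, O)` (in `appTop` form) to the universal statement. -/
theorem hall_of_h0 {X S : Scheme.{u}} (p : X ⟶ S) [IsProper p] [Flat p] [IsLocallyNoetherian S]
    (h0 : ∀ s : S, Function.Bijective (pullback.snd p (S.fromSpecResidueField s)).appTop) :
    (∀ (T : Scheme.{u}) (g : T ⟶ S) (U : T.Opens), IsIso ((pullback.snd p g).app U)) ∧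
      Surjective p := by
  have hfib : ∀ s : S, Function.Bijective (algebraMap (S.residueField s) Γ(p.fiber s, ⊤)) := by
    intro s
    change Function.Bijective (((p.fiberToSpecResidueField s).appTop.hom.comp
      (Scheme.ΓSpecIso (S.residueField s)).inv.hom))
    rw [RingHom.coe_comp]
    refine Function.Bijective.comp (h0 s) ?_
    exact (ConcreteCategory.isIso_iff_bijective (Scheme.ΓSpecIso (S.residueField s)).inv).1
      inferInstance
  refine ⟨(Groth.Agent.Lib.Helper4.UnivBC2.main p).1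
    (fun y => (Algebra.finrank_eq_one_iff_bijective_algebraMap).2 (hfib y)), ?_⟩
  refine ⟨fun s' => ?_⟩
  haveI : Nontrivial Γ(p.fiber s', ⊤) := (hfib s').1.nontrivial
  by_contra hne
  haveI : IsEmpty (p.fiber s') := by
    refine ⟨fun z => hne ⟨p.fiberι s' z, ?_⟩⟩
    have := p.range_fiberι s' ▸ Set.mem_range_self (f := p.fiberι s') z
    exact this
  exact not_subsingleton Γ(p.fiber s', ⊤) inferInstance

/-- the universal statement is stable under base change. -/
theorem hall_pullback_snd {X S Y : Scheme.{u}} (f : X ⟶ S)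
    (hall : ∀ (T : Scheme.{u}) (g : T ⟶ S) (U : T.Opens), IsIso ((pullback.snd f g).app U))
    (y : Y ⟶ S) (T : Scheme.{u}) (t : T ⟶ Y) (U : T.Opens) :
    IsIso ((pullback.snd (pullback.snd f y) t).app U) := by
  have h1 : pullback.snd (pullback.snd f y) t =
      (pullbackLeftPullbackSndIso f y t).hom ≫ pullback.snd f (t ≫ y) :=
    (pullbackLeftPullbackSndIso_hom_snd f y t).symm
  rw [h1, Scheme.Hom.comp_app]
  have hi : IsIso (pullbackLeftPullbackSndIso f y t).hom := inferInstance
  have hi2 : IsIso ((pullbackLeftPullbackSndIso f y t).hom.app (pullback.snd f (t ≫ y) ⁻¹ᵁ U)) :=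
    inferInstance
  exact @IsIso.comp_isIso _ _ _ _ _ _ _ (hall T (t ≫ y) U) hi2

theorem main11438 (S : Scheme.{u}) [IsLocallyNoetherian S] [ConnectedSpace S]
    (X G : Over S) [GrpObj G] [IsSeparated G.hom] [IsProper X.hom] [Flat X.hom]
    (h0 : ∀ s : S, Function.Bijective (Limits.pullback.snd X.hom (S.fromSpecResidueField s)).appTop)
    (f g : X ⟶ G) (s : S)
    (hs : Limits.pullback.fst X.hom (S.fromSpecResidueField s) ≫ f.left =
      Limits.pullback.fst X.hom (S.fromSpecResidueField s) ≫ g.left) :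
    ∃ t : 𝟙_ (Over S) ⟶ G, f = (toUnit X ≫ t) * g := by
  obtain ⟨hall, hsurj⟩ := hall_of_h0 X.hom h0
  haveI := hsurj
  -- constancy on the fibre
  let j := Limits.pullback.fst X.hom (S.fromSpecResidueField s)
  let Xs : Over S := Over.mk (j ≫ X.hom)
  let jO : Xs ⟶ X := Over.homMk j rfl
  have hjO : jO ≫ f = jO ≫ g := by ext1; exact hs
  have h1 : jO ≫ (f * g⁻¹) = 1 := by
    rw [MonObj.comp_mul, GrpObj.comp_inv, hjO, mul_inv_cancel]
  have h2 : j ≫ (f * g⁻¹).left = (j ≫ X.hom) ≫ η[G].left := by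
    have := congrArg (fun φ => φ.left) h1
    exact this
  have hconst : ∀ x : X.left, X.hom x = s → (f * g⁻¹).left x = η[G].left s := by
    intro x hx
    have hxr : x ∈ Set.range j := by
      have := X.hom.range_fiberι s
      change Set.range j = _ at this
      rw [this]; exact hx
    obtain ⟨z, rfl⟩ := hxr
    rw [← Scheme.Hom.comp_apply, h2, Scheme.Hom.comp_apply, Scheme.Hom.comp_apply, hx]
  obtain ⟨σ, hσ1, hσ2⟩ := rigidity_proper X.hom hall G.hom (f * g⁻¹).left (Over.w _) s
    (fun x₁ x₂ h₁ h₂ => (hconst x₁ h₁).trans (hconst x₂ h₂).symm)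
  refine ⟨Over.homMk σ hσ1, ?_⟩
  have h3 : toUnit X ≫ (Over.homMk σ hσ1 : 𝟙_ (Over S) ⟶ G) = f * g⁻¹ := by
    ext1
    exact hσ2.symm
  rw [h3, inv_mul_cancel_right]


theorem exists_preimage_of_isPullback {P X Y S : Scheme.{u}} {a : P ⟶ X} {b : P ⟶ Y}
    {f : X ⟶ S} {g : Y ⟶ S} (h : IsPullback a b f g) (x : X) (y : Y) (hxy : f x = g y) :
    ∃ z : P, a z = x ∧ b z = y := by
  obtain ⟨w, hw1, hw2⟩ := Scheme.Pullback.exists_preimage_pullback (f := f) (g := g) x y hxy
  refine ⟨h.isoPullback.inv w, ?_, ?_⟩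
  · rw [← Scheme.Hom.comp_apply, h.isoPullback_inv_fst, hw1]
  · rw [← Scheme.Hom.comp_apply, h.isoPullback_inv_snd, hw2]

theorem main11439 (S : Scheme.{u}) [IsLocallyNoetherian S]
    (X Y G : Over S) [GrpObj G] [IsSeparated G.hom] [IsProper X.hom] [Flat X.hom]
    (h0 : ∀ s : S, Function.Bijective (Limits.pullback.snd X.hom (S.fromSpecResidueField s)).appTop)
    [IsLocallyNoetherian Y.left] [ConnectedSpace Y.left] (e : 𝟙_ (Over S) ⟶ Y)
    (f : X ⊗ Y ⟶ G) :
    ∃ (g : X ⟶ G) (h : Y ⟶ G), f = (fst X Y ≫ g) * (snd X Y ≫ h) := by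
  obtain ⟨hall, hsurj⟩ := hall_of_h0 X.hom h0
  haveI := hsurj
  let ie : X ⟶ X ⊗ Y := lift (𝟙 X) (toUnit X ≫ e)
  let g : X ⟶ G := ie ≫ f
  let F : X ⊗ Y ⟶ G := (fst X Y ≫ g)⁻¹ * f
  have hieF : ie ≫ F = 1 := by
    change ie ≫ ((fst X Y ≫ g)⁻¹ * f) = 1
    rw [MonObj.comp_mul, GrpObj.comp_inv, ← Category.assoc, lift_fst, Category.id_comp]
    exact inv_mul_cancel _
  have hFw : F.left ≫ G.hom = pullback.snd X.hom Y.hom ≫ Y.hom :=
    (Over.w F).trans pullback.condition
  let π' : pullback X.hom Y.hom ⟶ pullback G.hom Y.hom :=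
    pullback.lift F.left (pullback.snd X.hom Y.hom) hFw
  have hπ' : π' ≫ pullback.snd G.hom Y.hom = pullback.snd X.hom Y.hom := pullback.lift_snd _ _ _
  let k : S ⟶ pullback G.hom Y.hom := pullback.lift η[G].left e.left (by rw [Over.w, Over.w])
  have hie2 : ie.left ≫ pullback.snd X.hom Y.hom = X.hom ≫ e.left :=
    congrArg (fun φ => φ.left) (lift_snd (𝟙 X) (toUnit X ≫ e))
  have hie1 : ie.left ≫ pullback.fst X.hom Y.hom = 𝟙 X.left :=
    congrArg (fun φ => φ.left) (lift_fst (𝟙 X) (toUnit X ≫ e))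
  have hiek : ie.left ≫ π' = X.hom ≫ k := by
    apply pullback.hom_ext
    · rw [Category.assoc, pullback.lift_fst, Category.assoc, pullback.lift_fst]
      exact congrArg (fun φ => φ.left) hieF
    · rw [Category.assoc, pullback.lift_snd, Category.assoc, pullback.lift_snd]
      exact hie2
  have hsq : IsPullback ie.left X.hom (pullback.snd X.hom Y.hom) e.left := by
    have h2 : e.left ≫ Y.hom = 𝟙 S := Over.w e
    have t : IsPullback (ie.left ≫ pullback.fst X.hom Y.hom) X.hom X.hom (e.left ≫ Y.hom) := by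
      rw [hie1, h2]; exact IsPullback.id_horiz _
    exact IsPullback.of_right t hie2 (IsPullback.of_hasPullback X.hom Y.hom)
  obtain ⟨y⟩ : Nonempty Y.left := inferInstance
  have hconst : ∀ z : ↥(pullback X.hom Y.hom),
      pullback.snd X.hom Y.hom z = e.left (Y.hom y) → π' z = k (Y.hom y) := by
    intro z hz
    obtain ⟨x, hx1, hx2⟩ := exists_preimage_of_isPullback hsq z (Y.hom y) hz
    rw [← hx1, ← Scheme.Hom.comp_apply, hiek, Scheme.Hom.comp_apply, hx2]
  obtain ⟨σ', hσ1, hσ2⟩ := rigidity_proper (pullback.snd X.hom Y.hom)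
    (hall_pullback_snd X.hom hall Y.hom) (pullback.snd G.hom Y.hom) π' hπ' (e.left (Y.hom y))
    (fun z₁ z₂ h₁ h₂ => (hconst z₁ h₁).trans (hconst z₂ h₂).symm)
  let h : Y ⟶ G := Over.homMk (σ' ≫ pullback.fst G.hom Y.hom)
    (by rw [Category.assoc, pullback.condition, ← Category.assoc, hσ1, Category.id_comp])
  refine ⟨g, h, ?_⟩
  have hF : (fst X Y ≫ g)⁻¹ * f = snd X Y ≫ h := by
    ext1
    change F.left = pullback.snd X.hom Y.hom ≫ σ' ≫ pullback.fst G.hom Y.hom
    rw [← Category.assoc, ← hσ2, pullback.lift_fst]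
  rw [← hF, mul_inv_cancel_left]

end Groth.Agent.Lib.Helper4.RigidGrp1
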