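import Mathlib
import Groth.Prelude
import Groth.Agent.Lib.Helper4.RigidGrp1
import Groth.Agent.Lib.Helper2.FibDim.FieldBC

/-!
# h0 of geometrically integral proper fibres; clopen contracted locus (helper4)
-/

set_option backward.isDefEq.respectTransparency.types false
set_option synthInstance.maxHeartbeats 400000
set_option autoImplicit false
set_option linter.unusedSectionVars false
set_option linter.style.haveILetI false
set_option linter.unusedSimpArgs false
universe u v w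
open CategoryTheory CategoryTheory.Limits AlgebraicGeometry Opposite TopologicalSpace Groth
open scoped TensorProduct

namespace Groth.Agent.Lib.Helper4.RigidProper2

/-- a finite field extension `K'/k` such that `Ω ⊗_k K'` is a domain for an algebraically closed
`Ω` is trivial. -/
theorem bijective_algebraMap_of_isDomain_tensor (k K' Ω : Type u) [Field k] [CommRing K']
    [Algebra k K'] [Module.Finite k K'] [Field Ω] [IsAlgClosed Ω] [Algebra k Ω]
    [IsDomain (Ω ⊗[k] K')] : Function.Bijective (algebraMap k K') := by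
  haveI : Algebra.IsIntegral Ω (Ω ⊗[k] K') := inferInstance
  have h1 : Function.Bijective (algebraMap Ω (Ω ⊗[k] K')) :=
    IsAlgClosed.algebraMap_bijective_of_isIntegral
  have h2 : Module.finrank Ω (Ω ⊗[k] K') = 1 :=
    (Algebra.finrank_eq_one_iff_bijective_algebraMap).2 h1
  rw [Module.finrank_baseChange] at h2
  exact (Algebra.finrank_eq_one_iff_bijective_algebraMap).1 h2


/-- for a proper geometrically integral morphism, `κ(s) → Γ(X_s, O)` is bijective. -/
theorem bijective_algebraMap_fibre_of_geometricallyIntegral {X S : Scheme.{u}} (ξ : X ⟶ S)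
    [IsProper ξ] [GeometricallyIntegral ξ] (s : S) :
    Function.Bijective (algebraMap (S.residueField s) Γ(ξ.fiber s, ⊤)) := by
  let y := S.fromSpecResidueField s
  let g := ξ.fiberToSpecResidueField s
  haveI hXs : IsIntegral (ξ.fiber s) :=
    GeometricallyIntegral.geometrically_isIntegral (f := ξ) (K := S.residueField s) y
      (ξ.fiberι s) g (IsPullback.of_hasPullback ξ y)
  haveI : IsProper g := by
    change IsProper (pullback.snd ξ y); infer_instance
  have hfin0 : g.appTop.hom.Finite := finite_appTop_of_universallyClosed (S.residueField s) g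
  haveI hfin : Module.Finite (S.residueField s) Γ(ξ.fiber s, ⊤) := by
    change ((g.appTop.hom.comp (Scheme.ΓSpecIso (S.residueField s)).inv.hom)).Finite
    refine RingHom.Finite.comp hfin0 (RingHom.Finite.of_surjective _ ?_)
    exact ((ConcreteCategory.isIso_iff_bijective (Scheme.ΓSpecIso (S.residueField s)).inv).1
      inferInstance).2
  let Ω := AlgebraicClosure (S.residueField s)
  have P2 := Groth.Agent.Helper2.FibDim.isPullback_Spec_tensor (S.residueField s)
    Γ(ξ.fiber s, ⊤) Ω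
  obtain ⟨c, hc⟩ : ∃ c : Spec (CommRingCat.of (Ω ⊗[S.residueField s] Γ(ξ.fiber s, ⊤))) ⟶
      Spec Γ(ξ.fiber s, ⊤), c = Spec.map (CommRingCat.ofHom
        (Algebra.TensorProduct.includeRight.toRingHom :
          Γ(ξ.fiber s, ⊤) →+* Ω ⊗[S.residueField s] Γ(ξ.fiber s, ⊤))) := ⟨_, rfl⟩
  obtain ⟨d, hd⟩ : ∃ d : Spec (CommRingCat.of (Ω ⊗[S.residueField s] Γ(ξ.fiber s, ⊤))) ⟶
      Spec (CommRingCat.of Ω), d = Spec.map (CommRingCat.ofHom
        (algebraMap Ω (Ω ⊗[S.residueField s] Γ(ξ.fiber s, ⊤)))) := ⟨_, rfl⟩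
  obtain ⟨φ, hφ⟩ : ∃ φ : Spec Γ(ξ.fiber s, ⊤) ⟶ Spec (S.residueField s), φ = Spec.map
      (CommRingCat.ofHom (algebraMap (S.residueField s) Γ(ξ.fiber s, ⊤))) := ⟨_, rfl⟩
  obtain ⟨b, hb⟩ : ∃ b : Spec (CommRingCat.of Ω) ⟶ Spec (S.residueField s), b = Spec.map
      (CommRingCat.ofHom (algebraMap (S.residueField s) Ω)) := ⟨_, rfl⟩
  have P2' : IsPullback c d φ b := by
    rw [hc, hd, hφ, hb]; exact P2
  -- `a ≫ φ = g`
  have haφ : (ξ.fiber s).toSpecΓ ≫ φ = g := by
    have h1 : φ = Spec.map g.appTop ≫ Spec.map (Scheme.ΓSpecIso (S.residueField s)).inv := by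
      rw [hφ, ← Spec.map_comp]; rfl
    rw [h1, ← Category.assoc, ← Scheme.toSpecΓ_naturality, Category.assoc,
      toSpecΓ_SpecMap_ΓSpecIso_inv, Category.comp_id]
  haveI : CompactSpace (ξ.fiber s) := by
    change CompactSpace ↑(pullback ξ y); infer_instance
  haveI : IsSchemeTheoreticallyDominant (ξ.fiber s).toSpecΓ := ⟨Scheme.ker_toSpecΓ _⟩
  haveI : Flat b := by
    rw [hb, HasRingHomProperty.Spec_iff (P := @Flat), CommRingCat.hom_ofHom,
      RingHom.flat_algebraMap_iff]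
    infer_instance
  haveI : Flat c := MorphismProperty.of_isPullback (P := @Flat) P2'.flip inferInstance
  -- the big pullback square
  have P1 := IsPullback.of_hasPullback (ξ.fiber s).toSpecΓ c
  have P12 := P1.paste_vert P2'
  rw [haφ] at P12
  have P3 : IsPullback (ξ.fiberι s) g ξ y := IsPullback.of_hasPullback ξ y
  have P123 := P12.paste_horiz P3
  haveI hZ : IsIntegral (pullback (ξ.fiber s).toSpecΓ c) :=
    GeometricallyIntegral.geometrically_isIntegral (f := ξ) (K := Ω) (b ≫ y) _ _ P123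
  -- injectivity on global sections
  have hinj := (pullback.snd (ξ.fiber s).toSpecΓ c).app_injective ⊤
  haveI : Nonempty ↥((pullback.snd (ξ.fiber s).toSpecΓ c ⁻¹ᵁ ⊤ :
      (pullback (ξ.fiber s).toSpecΓ c).Opens) : Scheme.{u}) := by
    obtain ⟨z⟩ : Nonempty ↑(pullback (ξ.fiber s).toSpecΓ c) := inferInstance
    exact ⟨⟨z, trivial⟩⟩
  have hinj2 : Function.Injective (((pullback.snd (ξ.fiber s).toSpecΓ c).app ⊤).hom.comp
      (Scheme.ΓSpecIso (CommRingCat.of (Ω ⊗[S.residueField s] Γ(ξ.fiber s, ⊤)))).inv.hom) := by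
    rw [RingHom.coe_comp]
    refine hinj.comp ?_
    exact ((ConcreteCategory.isIso_iff_bijective (Scheme.ΓSpecIso _).inv).1 inferInstance).1
  haveI hdom : IsDomain Γ(pullback (ξ.fiber s).toSpecΓ c, pullback.snd (ξ.fiber s).toSpecΓ c ⁻¹ᵁ ⊤) :=
    IsIntegral.component_integral _
  haveI : IsDomain (Ω ⊗[S.residueField s] Γ(ξ.fiber s, ⊤)) :=
    Function.Injective.isDomain _ hinj2
  exact bijective_algebraMap_of_isDomain_tensor (S.residueField s) Γ(ξ.fiber s, ⊤) Ω


open Groth.Agent.Lib.Helper4.RigidProper1 in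
/-- the locus of fibres contracted by `π` is open and closed. -/
theorem isClopen_constLocus {X Y S : Scheme.{u}} [IsLocallyNoetherian S]
    (f : X ⟶ S) [IsProper f] [Flat f] [Surjective f]
    (hall : ∀ (T : Scheme.{u}) (g : T ⟶ S) (U : T.Opens), IsIso ((pullback.snd f g).app U))
    (g : Y ⟶ S) [IsSeparated g] (π : X ⟶ Y) (hπ : π ≫ g = f) :
    IsClopen {s : S | ∀ x₁ x₂ : X, f x₁ = s → f x₂ = s → π x₁ = π x₂} := by
  obtain ⟨Sg, hSg⟩ : ∃ Sg : Set S, Sg = {s : S | ∀ x₁ x₂ : X, f x₁ = s → f x₂ = s → π x₁ = π x₂} :=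
    ⟨_, rfl⟩
  rw [← hSg]
  have hloc : ∀ s ∈ Sg, ∃ (U : S.Opens) (τ : (U : Scheme.{u}) ⟶ Y), s ∈ U ∧ FacOn f π U τ := by
    intro s hs
    rw [hSg] at hs
    obtain ⟨x₀, hx₀⟩ := f.surjective s
    exact exists_facOn_near f hall π s x₀ (fun x hx => hs x x₀ hx hx₀)
  have hsub : ∀ (U : S.Opens) (τ : (U : Scheme.{u}) ⟶ Y), FacOn f π U τ → (U : Set S) ⊆ Sg := by
    intro U τ hτ s' hs'
    rw [hSg]
    intro x₁ x₂ h₁ h₂
    have e₁ := hτ.apply x₁ (by rw [h₁]; exact hs')
    have e₂ := hτ.apply x₂ (by rw [h₂]; exact hs')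
    rw [e₁, e₂]
    congr 1
    exact Subtype.ext (h₁.trans h₂.symm)
  have hopen : IsOpen Sg := by
    rw [isOpen_iff_forall_mem_open]
    intro s hs
    obtain ⟨U, τ, hsU, hτ⟩ := hloc s hs
    exact ⟨U, hsub U τ hτ, U.isOpen, hsU⟩
  have hspec : StableUnderSpecialization Sg := by
    intro η s₀ hsp hη
    obtain ⟨U, τ, hηU, hτ⟩ := hloc η hη
    rw [hSg]
    intro x₁ x₂ h₁ h₂
    exact const_of_specializes f g π hπ hsp U hηU τ hτ x₁ x₂ h₁ h₂
  exact ⟨isClosed_of_isOpen_of_stableUnderSpecialization Sg hopen hspec, hopen⟩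

/-- surjectivity from nontrivial fibre functions. -/
theorem surjective_of_hfib {X S : Scheme.{u}} (p : X ⟶ S)
    (hfib : ∀ s : S, Function.Bijective (algebraMap (S.residueField s) Γ(p.fiber s, ⊤))) :
    Surjective p := by
  refine ⟨fun s' => ?_⟩
  haveI : Nontrivial Γ(p.fiber s', ⊤) := (hfib s').1.nontrivial
  by_contra hne
  haveI : IsEmpty (p.fiber s') := by
    refine ⟨fun z => hne ⟨p.fiberι s' z, ?_⟩⟩
    have := p.range_fiberι s' ▸ Set.mem_range_self (f := p.fiberι s') z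
    exact this
  exact not_subsingleton Γ(p.fiber s', ⊤) inferInstance

theorem main14667 {X Y S : Scheme.{u}} [IsLocallyNoetherian S]
    (ξ : X ⟶ S) [IsProper ξ] [Flat ξ] [GeometricallyIntegral ξ]
    (v : Y ⟶ S) [IsSeparated v] (f : X ⟶ Y) (hf : f ≫ v = ξ) :
    IsClosed {s : ↥S | ∃ y : ↥Y, ∀ x : ↥X, ξ.base x = s → f.base x = y} ∧
      IsOpen {s : ↥S | ∃ y : ↥Y, ∀ x : ↥X, ξ.base x = s → f.base x = y} := by
  have hfib := bijective_algebraMap_fibre_of_geometricallyIntegral ξ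
  have hall := (Groth.Agent.Lib.Helper4.UnivBC2.main ξ).1
    (fun y => (Algebra.finrank_eq_one_iff_bijective_algebraMap).2 (hfib y))
  haveI := surjective_of_hfib ξ hfib
  have hcl := isClopen_constLocus ξ hall v f hf
  have hset : {s : ↥S | ∃ y : ↥Y, ∀ x : ↥X, ξ.base x = s → f.base x = y} =
      {s : S | ∀ x₁ x₂ : X, ξ x₁ = s → ξ x₂ = s → f x₁ = f x₂} := by
    ext s
    constructor
    · rintro ⟨y, hy⟩ x₁ x₂ h₁ h₂
      exact (hy x₁ h₁).trans (hy x₂ h₂).symm
    · intro h
      obtain ⟨x₀, hx₀⟩ := ξ.surjective s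
      exact ⟨f x₀, fun x hx => h x x₀ hx hx₀⟩
  rw [hset]
  exact ⟨hcl.1, hcl.2⟩

end Groth.Agent.Lib.Helper4.RigidProper2
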