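import Mathlib
import Groth.Prelude
import Groth.Agent.Lib.Helper4.RigidProper2
import Groth.Agent.Lib.Helper4.SecNbhd5
import Groth.Agent.Lib.Helper9.FE.ClopenIdem
import Groth.Agent.Lib.Helper1.Stein1

/-!
# h0 of reduced connected proper fibres with a section; homomorphism property of pointed maps from abelian schemes (helper4)
-/

set_option backward.isDefEq.respectTransparency.types false
set_option synthInstance.maxHeartbeats 400000
set_option autoImplicit false
set_option linter.unusedSectionVars false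
set_option linter.style.haveILetI false
set_option linter.unusedSimpArgs false
universe u v w
open CategoryTheory CategoryTheory.Limits AlgebraicGeometry Opposite TopologicalSpace Groth
open MonoidalCategory CartesianMonoidalCategory MonObj GrpObj

namespace Groth.Agent.Lib.Helper4.RigidGrp2

/-- idempotent functions on a connected scheme are trivial. -/
theorem idem_eq_zero_or_one {Z : Scheme.{u}} [PreconnectedSpace Z] (e : Γ(Z, ⊤))
    (he : IsIdempotentElem e) : e = 0 ∨ e = 1 := by
  have hcl := H9FE.isClopen_basicOpen_of_idem e he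
  rcases isClopen_iff.1 hcl with h | h
  · left
    have h0 : Z.basicOpen e = ⊥ := Opens.ext (by simpa using h)
    have h1 : Z.basicOpen (1 - e) = ⊤ := by
      have := H9FE.basicOpen_sup_one_sub e
      rwa [h0, bot_sup_eq] at this
    have h2 := H9FE.eq_one_of_idem_of_basicOpen_eq_top (1 - e) he.one_sub h1
    have : e = 1 - (1 - e) := by ring
    rw [this, h2, sub_self]
  · right
    exact H9FE.eq_one_of_idem_of_basicOpen_eq_top e he (Opens.ext (by simpa using h))

/-- functions on a proper reduced connected scheme over a field form a field. -/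
theorem isField_of_reduced_connected_proper (k : Type u) [Field k] {Z : Scheme.{u}}
    (g : Z ⟶ Spec (CommRingCat.of k)) [IsProper g] [IsReduced Z] [ConnectedSpace Z] :
    IsField Γ(Z, ⊤) := by
  haveI : IsNoetherianRing Γ(Spec (CommRingCat.of k), ⊤) :=
    isNoetherianRing_of_ringEquiv k (Scheme.ΓSpecIso (CommRingCat.of k)).symm.commRingCatIsoToRingEquiv
  have hfin0 : g.appTop.hom.Finite := Groth.Agent.Helper1.Stein.finite_appTop_of_isProper g
  letI alg : Algebra k Γ(Z, ⊤) :=
    (g.appTop.hom.comp (Scheme.ΓSpecIso (CommRingCat.of k)).inv.hom).toAlgebra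
  haveI hfin : Module.Finite k Γ(Z, ⊤) := by
    change ((g.appTop.hom.comp (Scheme.ΓSpecIso (CommRingCat.of k)).inv.hom)).Finite
    refine RingHom.Finite.comp hfin0 (RingHom.Finite.of_surjective _ ?_)
    exact ((ConcreteCategory.isIso_iff_bijective (Scheme.ΓSpecIso (CommRingCat.of k)).inv).1
      inferInstance).2
  haveI : IsArtinianRing Γ(Z, ⊤) := IsArtinianRing.of_finite k Γ(Z, ⊤)
  haveI : Nonempty ↥((⊤ : Z.Opens) : Scheme.{u}) := by
    obtain ⟨z⟩ : Nonempty Z := inferInstance
    exact ⟨⟨z, trivial⟩⟩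
  haveI : Nontrivial Γ(Z, ⊤) := inferInstance
  rw [← PrimeSpectrum.subsingleton_iff_isField_of_isReduced]
  refine ⟨fun p q => ?_⟩
  have hcl : IsClopen ({p} : Set (PrimeSpectrum Γ(Z, ⊤))) := isClopen_discrete _
  obtain ⟨e, he, hpe⟩ := PrimeSpectrum.isClopen_iff.1 hcl
  rcases idem_eq_zero_or_one e he with h | h
  · rw [h, PrimeSpectrum.basicOpen_zero] at hpe
    exact absurd (hpe ▸ Set.mem_singleton p : p ∈ ((⊥ : Opens (PrimeSpectrum Γ(Z, ⊤))) : Set _))
      (Set.notMem_empty p)
  · rw [h, PrimeSpectrum.basicOpen_one] at hpe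
    have : q ∈ ({p} : Set (PrimeSpectrum Γ(Z, ⊤))) := by rw [hpe]; trivial
    exact this.symm


/-- a proper morphism with a section whose fibre at `s` is reduced and connected has
`κ(s) = Γ(X_s, O)`. -/
theorem bijective_algebraMap_fibre_of_section {X S : Scheme.{u}} (ξ : X ⟶ S) [IsProper ξ]
    (e : S ⟶ X) (he : e ≫ ξ = 𝟙 S) (s : S) (hred : IsReduced (ξ.fiber s))
    (hconn : ConnectedSpace (ξ.fiber s)) :
    Function.Bijective (algebraMap (S.residueField s) Γ(ξ.fiber s, ⊤)) := by
  haveI := hred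
  haveI := hconn
  haveI : IsProper (ξ.fiberToSpecResidueField s) := by
    change IsProper (pullback.snd ξ (S.fromSpecResidueField s)); infer_instance
  have hfield : IsField Γ(ξ.fiber s, ⊤) :=
    isField_of_reduced_connected_proper (S.residueField s) (ξ.fiberToSpecResidueField s)
  haveI : Nontrivial Γ(ξ.fiber s, ⊤) := hfield.nontrivial
  let σ' : Spec (S.residueField s) ⟶ ξ.fiber s :=
    pullback.lift (S.fromSpecResidueField s ≫ e) (𝟙 _)
      (by rw [Category.assoc, he, Category.comp_id, Category.id_comp])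
  have hσ' : σ' ≫ ξ.fiberToSpecResidueField s = 𝟙 _ := pullback.lift_snd _ _ _
  let φ : Γ(ξ.fiber s, ⊤) →+* S.residueField s :=
    (Scheme.ΓSpecIso (S.residueField s)).hom.hom.comp σ'.appTop.hom
  have hφa : ∀ c, φ (algebraMap (S.residueField s) Γ(ξ.fiber s, ⊤) c) = c := by
    intro c
    have h1 : (ξ.fiberToSpecResidueField s).appTop ≫ σ'.appTop = 𝟙 _ := by
      rw [← Scheme.Hom.comp_appTop, hσ']; rfl
    change (Scheme.ΓSpecIso _).hom.hom (σ'.appTop.hom ((ξ.fiberToSpecResidueField s).appTop.hom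
      ((Scheme.ΓSpecIso _).inv.hom c))) = c
    have h2 := congrArg (fun ψ => ψ.hom ((Scheme.ΓSpecIso _).inv.hom c)) h1
    simp only [CommRingCat.hom_comp, RingHom.comp_apply, CommRingCat.hom_id, RingHom.id_apply] at h2
    rw [h2]
    exact congrArg (fun ψ => ψ.hom c) (Scheme.ΓSpecIso _).inv_hom_id
  have hφinj : Function.Injective φ := by
    rw [injective_iff_map_eq_zero]
    intro x hx
    by_contra hne
    obtain ⟨z, hz⟩ := hfield.mul_inv_cancel hne
    have h1 : φ (x * z) = 1 := by rw [hz, map_one]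
    rw [map_mul, hx, zero_mul] at h1
    exact zero_ne_one h1
  exact ⟨Function.LeftInverse.injective (g := φ) hφa, fun x => ⟨φ x, hφinj (hφa _)⟩⟩

open Groth.Agent.Lib.Helper4.RigidProper1 in
/-- gluing: if `π` contracts every fibre of `f`, it factors through a section. -/
theorem exists_section_of_forall_const {X Y S : Scheme.{u}}
    (f : X ⟶ S) [IsProper f] [Surjective f]
    (hall : ∀ (T : Scheme.{u}) (g : T ⟶ S) (U : T.Opens), IsIso ((pullback.snd f g).app U))
    (g : Y ⟶ S) (π : X ⟶ Y) (hπ : π ≫ g = f)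
    (hconst : ∀ (s : S) (x₁ x₂ : X), f x₁ = s → f x₂ = s → π x₁ = π x₂) :
    ∃ σ : S ⟶ Y, σ ≫ g = 𝟙 S ∧ π = f ≫ σ := by
  have hall' : ∀ s : S, ∃ (U : S.Opens) (τ : (U : Scheme.{u}) ⟶ Y), s ∈ U ∧ FacOn f π U τ := by
    intro s
    obtain ⟨x₀, hx₀⟩ := f.surjective s
    exact exists_facOn_near f hall π s x₀ (fun x hx => hconst s x x₀ hx hx₀)
  choose U τ hsU hτ using hall'
  have hcover : IsOpenCover U := by
    rw [IsOpenCover, eq_top_iff]
    intro x _
    exact Opens.mem_iSup.2 ⟨x, hsU x⟩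
  let 𝒰 : S.OpenCover := S.openCoverOfIsOpenCover U hcover
  have compat : ∀ x y : S, pullback.fst (𝒰.f x) (𝒰.f y) ≫ τ x = pullback.snd (𝒰.f x) (𝒰.f y) ≫ τ y := by
    intro x y
    have hc : pullback.fst (𝒰.f x) (𝒰.f y) ≫ (U x).ι = pullback.snd (𝒰.f x) (𝒰.f y) ≫ (U y).ι :=
      pullback.condition
    obtain ⟨v, hv⟩ : ∃ v, v = pullback.fst (𝒰.f x) (𝒰.f y) ≫ (U x).ι := ⟨_, rfl⟩
    haveI := epi_pullback_snd f hall v
    rw [← cancel_epi (pullback.snd f v)]
    have e₁ := (hτ x).eq (pullback.fst f v) (pullback.snd f v ≫ pullback.fst (𝒰.f x) (𝒰.f y))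
      (pullback.condition.trans ((congrArg (fun m => pullback.snd f v ≫ m) hv).trans
        (Category.assoc _ _ _).symm))
    have e₂ := (hτ y).eq (pullback.fst f v) (pullback.snd f v ≫ pullback.snd (𝒰.f x) (𝒰.f y))
      (pullback.condition.trans ((congrArg (fun m => pullback.snd f v ≫ m) (hv.trans hc)).trans
        (Category.assoc _ _ _).symm))
    rw [Category.assoc] at e₁ e₂
    exact e₁.symm.trans e₂
  let σ : S ⟶ Y := 𝒰.glueMorphisms τ compat
  have hσ : ∀ x : S, (U x).ι ≫ σ = τ x := fun x => 𝒰.ι_glueMorphisms τ compat x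
  have hfac : π = f ≫ σ := by
    apply Scheme.hom_ext_of_forall
    intro x
    refine ⟨f ⁻¹ᵁ (U (f x)), hsU (f x), ?_⟩
    have e₁ := (hτ (f x)).eq (f ⁻¹ᵁ (U (f x))).ι (f ∣_ (U (f x))) (morphismRestrict_ι f _).symm
    rw [e₁, ← hσ (f x), ← Category.assoc, morphismRestrict_ι, Category.assoc]
  refine ⟨σ, ?_, hfac⟩
  haveI := epi_self f hall
  rw [← cancel_epi f, ← Category.assoc, ← hfac, hπ, Category.comp_id]

open Groth.Agent.Lib.Helper4.RigidGrp1 in
/-- variant of the product decomposition where `Y ⟶ S` has (topologically) connected fibres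
and a section, instead of `Y` being connected. -/
theorem prod_decomp_of_connected_fibres (S : Scheme.{u})
    (X Y G : Over S) [GrpObj G] [IsSeparated G.hom] [IsProper X.hom] [Flat X.hom]
    [Surjective X.hom]
    (hall : ∀ (T : Scheme.{u}) (g : T ⟶ S) (U : T.Opens), IsIso ((pullback.snd X.hom g).app U))
    [IsLocallyNoetherian Y.left] (hYconn : ∀ s : S, _root_.IsPreconnected (Y.hom ⁻¹' {s}))
    (e : 𝟙_ (Over S) ⟶ Y) (f : X ⊗ Y ⟶ G) :
    ∃ h : Y ⟶ G, f = (fst X Y ≫ (lift (𝟙 X) (toUnit X ≫ e) ≫ f)) * (snd X Y ≫ h) := by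
  let ie : X ⟶ X ⊗ Y := lift (𝟙 X) (toUnit X ≫ e)
  let g : X ⟶ G := ie ≫ f
  let F : X ⊗ Y ⟶ G := (fst X Y ≫ g)⁻¹ * f
  have hieF : ie ≫ F = 1 := by
    change ie ≫ ((fst X Y ≫ g)⁻¹ * f) = 1
    rw [MonObj.comp_mul, GrpObj.comp_inv, ← Category.assoc, lift_fst, Category.id_comp]
    exact inv_mul_cancel _
  have hFw : F.left ≫ G.hom = pullback.snd X.hom Y.hom ≫ Y.hom :=
    (Over.w F).trans pullback.condition
  let π' : pullback X.hom Y.hom ⟶ pullback G.hom Y.hom :=
    pullback.lift F.left (pullback.snd X.hom Y.hom) hFw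
  have hπ' : π' ≫ pullback.snd G.hom Y.hom = pullback.snd X.hom Y.hom := pullback.lift_snd _ _ _
  let k : S ⟶ pullback G.hom Y.hom := pullback.lift η[G].left e.left (by rw [Over.w, Over.w])
  have hie2 : ie.left ≫ pullback.snd X.hom Y.hom = X.hom ≫ e.left :=
    congrArg (fun φ => φ.left) (lift_snd (𝟙 X) (toUnit X ≫ e))
  have hie1 : ie.left ≫ pullback.fst X.hom Y.hom = 𝟙 X.left :=
    congrArg (fun φ => φ.left) (lift_fst (𝟙 X) (toUnit X ≫ e))
  have hiek : ie.left ≫ π' = X.hom ≫ k := by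
    apply pullback.hom_ext
    · rw [Category.assoc, pullback.lift_fst, Category.assoc, pullback.lift_fst]
      exact congrArg (fun φ => φ.left) hieF
    · rw [Category.assoc, pullback.lift_snd, Category.assoc, pullback.lift_snd]
      exact hie2
  have hsq : IsPullback ie.left X.hom (pullback.snd X.hom Y.hom) e.left := by
    have h2 : e.left ≫ Y.hom = 𝟙 S := Over.w e
    have t : IsPullback (ie.left ≫ pullback.fst X.hom Y.hom) X.hom X.hom (e.left ≫ Y.hom) := by
      rw [hie1, h2]; exact IsPullback.id_horiz _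
    exact IsPullback.of_right t hie2 (IsPullback.of_hasPullback X.hom Y.hom)
  have hconst0 : ∀ (s : S) (z : ↥(pullback X.hom Y.hom)),
      pullback.snd X.hom Y.hom z = e.left s → π' z = k s := by
    intro s z hz
    obtain ⟨x, hx1, hx2⟩ := exists_preimage_of_isPullback hsq z s hz
    rw [← hx1, ← Scheme.Hom.comp_apply, hiek, Scheme.Hom.comp_apply, hx2]
  have hall' := hall_pullback_snd X.hom hall Y.hom
  have hclopen := Groth.Agent.Lib.Helper4.RigidProper2.isClopen_constLocus
    (pullback.snd X.hom Y.hom) hall'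
    (pullback.snd G.hom Y.hom) π' hπ'
  have hconst : ∀ (y : Y.left) (z₁ z₂ : ↥(pullback X.hom Y.hom)),
      pullback.snd X.hom Y.hom z₁ = y → pullback.snd X.hom Y.hom z₂ = y → π' z₁ = π' z₂ := by
    intro y
    have hes : e.left (Y.hom y) ∈ Y.hom ⁻¹' {Y.hom y} := by
      change Y.hom (e.left (Y.hom y)) = Y.hom y
      rw [← Scheme.Hom.comp_apply]
      have h2 : e.left ≫ Y.hom = 𝟙 S := Over.w e
      rw [h2]; rfl
    have hsub := (hYconn (Y.hom y)).subset_isClopen hclopen
      ⟨e.left (Y.hom y), hes, fun z₁ z₂ h₁ h₂ =>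
        (hconst0 _ z₁ h₁).trans (hconst0 _ z₂ h₂).symm⟩
    exact hsub (rfl : Y.hom y ∈ ({Y.hom y} : Set S))
  obtain ⟨σ', hσ1, hσ2⟩ := exists_section_of_forall_const (pullback.snd X.hom Y.hom) hall'
    (pullback.snd G.hom Y.hom) π' hπ' hconst
  let h : Y ⟶ G := Over.homMk (σ' ≫ pullback.fst G.hom Y.hom)
    (by rw [Category.assoc, pullback.condition, ← Category.assoc, hσ1, Category.id_comp])
  refine ⟨h, ?_⟩
  have hF : (fst X Y ≫ g)⁻¹ * f = snd X Y ≫ h := by
    ext1
    change F.left = pullback.snd X.hom Y.hom ≫ σ' ≫ pullback.fst G.hom Y.hom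
    rw [← Category.assoc, ← hσ2, pullback.lift_fst]
  rw [← hF, mul_inv_cancel_left]


open Groth.Agent.Lib.Helper4.RigidGrp1 Groth.Agent.Lib.Helper4.RigidProper2 in
theorem main11440 (S : Scheme.{u}) [IsNoetherian S]
    (X G : Over S) [GrpObj X] [GrpObj G] [Smooth X.hom] [IsProper X.hom]
    (hc : ∀ s : S, ConnectedSpace (Red.geomFibre s X).left)
    [IsSeparated G.hom] (f : X ⟶ G) (hf : η[X] ≫ f = η[G]) :
    IsMonHom f := by
  haveI : GeometricallyReduced X.hom :=
    Groth.Agent.Lib.Helper4.SecNbhd5.geometricallyReduced_of_smooth X.hom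
  have hred : ∀ s : S, IsReduced (X.hom.fiber s) := fun s =>
    GeometricallyReduced.geometrically_isReduced (f := X.hom) (K := S.residueField s)
      (S.fromSpecResidueField s) (X.hom.fiberι s) (X.hom.fiberToSpecResidueField s)
      (IsPullback.of_hasPullback _ _)
  have hconn : ∀ s : S, ConnectedSpace (X.hom.fiber s) := by
    intro s
    obtain ⟨y, hy⟩ : ∃ y, y = S.fromSpecResidueField s := ⟨_, rfl⟩
    obtain ⟨b, hb⟩ : ∃ b : Spec (CommRingCat.of (AlgebraicClosure (S.residueField s))) ⟶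
        Spec (S.residueField s), b = Spec.map (CommRingCat.ofHom
          (algebraMap (S.residueField s) (AlgebraicClosure (S.residueField s)))) := ⟨_, rfl⟩
    let m : pullback X.hom (b ≫ y) ⟶ pullback X.hom y :=
      pullback.lift (pullback.fst _ _) (pullback.snd _ _ ≫ b)
        (by rw [pullback.condition, Category.assoc])
    have hm1 : m ≫ pullback.fst X.hom y = pullback.fst X.hom (b ≫ y) := pullback.lift_fst _ _ _
    have hm2 : m ≫ pullback.snd X.hom y = pullback.snd X.hom (b ≫ y) ≫ b :=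
      pullback.lift_snd _ _ _
    have hsq : IsPullback m (pullback.snd X.hom (b ≫ y)) (pullback.snd X.hom y) b := by
      have t : IsPullback (m ≫ pullback.fst X.hom y) (pullback.snd X.hom (b ≫ y)) X.hom
          (b ≫ y) := by
        rw [hm1]; exact IsPullback.of_hasPullback _ _
      exact IsPullback.of_right t hm2 (IsPullback.of_hasPullback X.hom y)
    haveI : ConnectedSpace ↑(pullback X.hom (b ≫ y)) := by
      rw [hb, hy]; exact hc s
    have hsurj : Function.Surjective m := by
      intro z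
      obtain ⟨pt⟩ : Nonempty (Spec (CommRingCat.of (AlgebraicClosure (S.residueField s)))) :=
        inferInstance
      obtain ⟨w, hw, -⟩ := exists_preimage_of_isPullback hsq z pt (Subsingleton.elim _ _)
      exact ⟨w, hw⟩
    have := hsurj.connectedSpace m.continuous
    rw [hy] at this
    exact this
  have hfib : ∀ s : S, Function.Bijective (algebraMap (S.residueField s) Γ(X.hom.fiber s, ⊤)) :=
    fun s => bijective_algebraMap_fibre_of_section X.hom η[X].left (Over.w η[X]) s (hred s)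
      (hconn s)
  have hall := (Groth.Agent.Lib.Helper4.UnivBC2.main X.hom).1
    (fun y => (Algebra.finrank_eq_one_iff_bijective_algebraMap).2 (hfib y))
  haveI := surjective_of_hfib X.hom hfib
  haveI : IsLocallyNoetherian X.left := LocallyOfFiniteType.isLocallyNoetherian X.hom
  have hYconn : ∀ s : S, _root_.IsPreconnected (X.hom ⁻¹' {s}) := by
    intro s
    rw [← X.hom.range_fiberι s]
    haveI := hconn s
    exact isPreconnected_range (X.hom.fiberι s).continuous
  obtain ⟨Φ, hΦ⟩ : ∃ Φ : X ⊗ X ⟶ G, Φ = (μ[X] ≫ f) * ((fst X X ≫ f) * (snd X X ≫ f))⁻¹ :=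
    ⟨_, rfl⟩
  obtain ⟨h, hh⟩ := prod_decomp_of_connected_fibres S X X G hall hYconn η[X] Φ
  have hie : lift (𝟙 X) (toUnit X ≫ η[X]) ≫ Φ = 1 := by
    rw [hΦ, MonObj.comp_mul, GrpObj.comp_inv, MonObj.comp_mul, ← Category.assoc, ← Category.assoc,
      ← Category.assoc, lift_fst, lift_snd, MonObj.lift_comp_one_right, Category.id_comp,
      Category.assoc, hf, ← Hom.one_def, _root_.mul_one, mul_inv_cancel]
  have hje : lift (toUnit X ≫ η[X]) (𝟙 X) ≫ Φ = 1 := by
    rw [hΦ, MonObj.comp_mul, GrpObj.comp_inv, MonObj.comp_mul, ← Category.assoc, ← Category.assoc,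
      ← Category.assoc, lift_fst, lift_snd, MonObj.lift_comp_one_left, Category.id_comp,
      Category.assoc, hf, ← Hom.one_def, _root_.one_mul, mul_inv_cancel]
  rw [hie, MonObj.comp_one, _root_.one_mul] at hh
  have hh1 : h = 1 := by
    have : lift (toUnit X ≫ η[X]) (𝟙 X) ≫ Φ = lift (toUnit X ≫ η[X]) (𝟙 X) ≫ snd X X ≫ h :=
      congrArg (fun φ => lift (toUnit X ≫ η[X]) (𝟙 X) ≫ φ) hh
    rw [hje, ← Category.assoc, lift_snd, Category.id_comp] at this
    exact this.symm
  rw [hh1, MonObj.comp_one, hΦ, mul_inv_eq_one] at hh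
  refine ⟨hf, ?_⟩
  rw [hh, Hom.mul_def, lift_fst_comp_snd_comp]

end Groth.Agent.Lib.Helper4.RigidGrp2
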