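import Mathlib
import Groth.Prelude.Def_AlgGrp
import Groth.Agent.Lib.Helper3.ProperOver
import Groth.Agent.Lib.Helper4.Equi7
import Groth.Agent.Lib.Helper4.AntiAffRigid3
import Groth.Agent.Lib.Helper4.RigidGrp2

/-!
# Translates of connected components of fibres of a morphism from an abelian variety (S7806); anti-affineness of proper reduced connected schemes with a rational point (helper4)
-/

set_option backward.isDefEq.respectTransparency.types false
set_option synthInstance.maxHeartbeats 400000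
set_option autoImplicit false
set_option linter.unusedSectionVars false
set_option linter.style.haveILetI false
set_option linter.unusedSimpArgs false
universe u v w
open CategoryTheory CategoryTheory.Limits AlgebraicGeometry TopologicalSpace Opposite
open MonoidalCategory CartesianMonoidalCategory MonObj GrpObj

namespace Groth.Agent.Lib.Helper4.FibTransl1

/-- connected components of a closed subset are closed -/
theorem isClosed_connectedComponentIn {α : Type*} [TopologicalSpace α] {F : Set α}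
    (hF : IsClosed F) (x : α) : IsClosed (connectedComponentIn F x) := by
  by_cases hx : x ∈ F
  · rw [← closure_subset_iff_isClosed]
    apply IsPreconnected.subset_connectedComponentIn
    · exact isPreconnected_connectedComponentIn.closure
    · exact subset_closure (mem_connectedComponentIn hx)
    · exact closure_minimal (connectedComponentIn_subset F x) hF
  · rw [connectedComponentIn_eq_empty hx]; exact isClosed_empty

/-- a morphism from a reduced scheme with image in the range of a closed immersion factors -/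
theorem exists_lift_of_range_subset {W Y T : Scheme.{u}} [IsReduced T] (s : W ⟶ Y)
    [IsClosedImmersion s] (ζ : T ⟶ Y) (hζ : Set.range ζ ⊆ Set.range s) :
    ∃ g : T ⟶ W, g ≫ s = ζ := by
  refine ⟨IsClosedImmersion.lift s ζ ?_, IsClosedImmersion.lift_fac _ _ _⟩
  have h1 : s.ker ≤ Scheme.IdealSheafData.vanishingIdeal s.ker.support :=
    Scheme.IdealSheafData.le_support_iff_le_vanishingIdeal.mp le_rfl
  refine h1.trans ?_
  rw [← Scheme.IdealSheafData.map_bot ζ, ← Scheme.nilradical_eq_bot,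
    ← Scheme.IdealSheafData.vanishingIdeal_top, Scheme.IdealSheafData.map_vanishingIdeal]
  apply Scheme.IdealSheafData.vanishingIdeal_antimono
  refine TopologicalSpace.Closeds.closure_le.mpr ?_
  rintro _ ⟨t, -, rfl⟩
  have h2 : (s.ker.support : Set Y) = closure (Set.range s) := by
    rw [Scheme.Hom.support_ker]
  show ζ t ∈ (s.ker.support : Set Y)
  rw [h2]
  exact subset_closure (hζ ⟨t, rfl⟩)

variable (k : Type u) [Field k]

/-- a proper reduced connected `k`-scheme with a rational point has only constant functions -/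
theorem antiAffine_of_section (Z : Over (Spec (CommRingCat.of k))) [IsProper Z.hom]
    [IsReduced Z.left] [ConnectedSpace Z.left]
    (σ : 𝟙_ (Over (Spec (CommRingCat.of k))) ⟶ Z) :
    Function.Bijective ((Scheme.ΓSpecIso (CommRingCat.of k)).inv ≫ Z.hom.appTop).hom := by
  have hfield : IsField Γ(Z.left, ⊤) :=
    Groth.Agent.Lib.Helper4.RigidGrp2.isField_of_reduced_connected_proper k Z.hom
  haveI : Nontrivial Γ(Z.left, ⊤) := hfield.nontrivial
  have hw : σ.left ≫ Z.hom = 𝟙 _ := Over.w σ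
  let φ : Γ(Z.left, ⊤) →+* k :=
    (Scheme.ΓSpecIso (CommRingCat.of k)).hom.hom.comp σ.left.appTop.hom
  have hφa : ∀ c, φ (((Scheme.ΓSpecIso (CommRingCat.of k)).inv ≫ Z.hom.appTop).hom c) = c := by
    intro c
    have h1 : Z.hom.appTop ≫ σ.left.appTop = 𝟙 _ := by
      rw [← Scheme.Hom.comp_appTop, hw]; rfl
    change (Scheme.ΓSpecIso _).hom.hom (σ.left.appTop.hom (Z.hom.appTop.hom
      ((Scheme.ΓSpecIso _).inv.hom c))) = c
    have h2 := congrArg (fun ψ => ψ.hom ((Scheme.ΓSpecIso _).inv.hom c)) h1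
    simp only [CommRingCat.hom_comp, RingHom.comp_apply, CommRingCat.hom_id, RingHom.id_apply] at h2
    rw [h2]
    exact congrArg (fun ψ => ψ.hom c) (Scheme.ΓSpecIso _).inv_hom_id
  have hφinj : Function.Injective φ := by
    rw [injective_iff_map_eq_zero]
    intro x hx
    by_contra hne
    obtain ⟨z, hz⟩ := hfield.mul_inv_cancel hne
    have h1 : φ (x * z) = 1 := by rw [hz, map_one]
    rw [map_mul, hx, zero_mul] at h1
    exact zero_ne_one h1
  exact ⟨Function.LeftInverse.injective (g := φ) hφa, fun x => ⟨φ x, hφinj (hφa _)⟩⟩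

theorem isIntegral_of_geometricallyIntegral (X : Over (Spec (CommRingCat.of k)))
    [GeometricallyIntegral X.hom] : IsIntegral X.left := by
  have h : IsPullback (𝟙 X.left) X.hom X.hom (𝟙 (Spec (CommRingCat.of k))) :=
    IsPullback.of_horiz_isIso ⟨by simp⟩
  exact GeometricallyIntegral.geometrically_isIntegral (f := X.hom) (𝟙 _) (𝟙 _) X.hom h

section Key
variable {k}
variable (X : Over (Spec (CommRingCat.of k))) [GrpObj X] [IsProper X.hom]
  [GeometricallyIntegral X.hom]
  {Y : Scheme.{u}} (q : Y ⟶ Spec (CommRingCat.of k)) [IsSeparated q] (f : X.left ⟶ Y)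
  (hf : f ≫ q = X.hom)

include hf in
theorem key (c z a : 𝟙_ (Over (Spec (CommRingCat.of k))) ⟶ X) (ha : a * c = z)
    (pt : ↥(Spec (CommRingCat.of k))) (u : X.left)
    (hu : u ∈ connectedComponentIn (f ⁻¹' {f (c.left pt)}) (c.left pt)) :
    f (((toUnit X ≫ a) * 𝟙 X).left u) = f (z.left pt) := by
  haveI : Subsingleton ↥(Spec (CommRingCat.of k)) :=
    inferInstanceAs (Subsingleton (PrimeSpectrum k))
  haveI : IsIntegral X.left := isIntegral_of_geometricallyIntegral k X
  haveI : LocallyOfFiniteType X.hom := inferInstance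
  haveI : Subsingleton ↥(𝟙_ (Over (Spec (CommRingCat.of k)))).left :=
    inferInstanceAs (Subsingleton (PrimeSpectrum k))
  haveI : IsReduced (𝟙_ (Over (Spec (CommRingCat.of k)))).left :=
    inferInstanceAs (IsReduced (Spec (CommRingCat.of k)))
  -- the point `f c` is closed
  obtain ⟨s, hsdef⟩ : ∃ s : Spec (CommRingCat.of k) ⟶ Y, s = c.left ≫ f := ⟨_, rfl⟩
  have hs : s ≫ q = 𝟙 _ := by rw [hsdef, Category.assoc, hf]; exact Over.w c
  haveI : IsClosedImmersion s := by
    haveI : IsClosedImmersion (s ≫ q) := by rw [hs]; infer_instance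
    exact IsClosedImmersion.of_comp s q
  have hrange : Set.range s = {f (c.left pt)} := by
    ext y; constructor
    · rintro ⟨p, rfl⟩
      rw [Subsingleton.elim p pt, hsdef]; rfl
    · rintro rfl
      exact ⟨pt, by rw [hsdef]; rfl⟩
  have hcl : IsClosed ({f (c.left pt)} : Set Y) := hrange ▸ s.isClosedEmbedding.isClosed_range
  have hFib : IsClosed (f ⁻¹' {f (c.left pt)}) := hcl.preimage f.continuous
  obtain ⟨C, hCdef⟩ : ∃ C, C = connectedComponentIn (f ⁻¹' {f (c.left pt)}) (c.left pt) :=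
    ⟨_, rfl⟩
  have hC : IsClosed C := hCdef ▸ isClosed_connectedComponentIn hFib _
  have hcC : c.left pt ∈ C := hCdef ▸ mem_connectedComponentIn rfl
  have hCconn : _root_.IsConnected C := hCdef ▸ isConnected_connectedComponentIn_iff.mpr rfl
  have hCsub : C ⊆ f ⁻¹' {f (c.left pt)} := hCdef ▸ connectedComponentIn_subset _ _
  -- the reduced subscheme
  obtain ⟨Z, jZ, hjcl, hZred, hrj⟩ : ∃ (Z : Over (Spec (CommRingCat.of k))) (jZ : Z ⟶ X),
      IsClosedImmersion jZ.left ∧ IsReduced Z.left ∧ Set.range jZ.left = C :=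
    ⟨Over.mk (Groth.Agent.Helper3.redι C hC ≫ X.hom),
      Over.homMk (Groth.Agent.Helper3.redι C hC) rfl,
      inferInstanceAs (IsClosedImmersion (Groth.Agent.Helper3.redι C hC)),
      Groth.Agent.Lib.Helper4.Equi7.isReduced_vanishingIdeal_subscheme _,
      Groth.Agent.Helper3.range_redι C hC⟩
  haveI := hjcl
  haveI := hZred
  haveI : IsProper Z.hom := by rw [← Over.w jZ]; infer_instance
  haveI : ConnectedSpace Z.left := by
    have hemb : Topology.IsEmbedding jZ.left := jZ.left.isClosedEmbedding.isEmbedding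
    have h1 : _root_.IsPreconnected (Set.univ : Set Z.left) := by
      rw [← hemb.isInducing.isPreconnected_image, Set.image_univ, hrj]
      exact hCconn.isPreconnected
    haveI : PreconnectedSpace Z.left := ⟨h1⟩
    haveI : Nonempty Z.left := by
      obtain ⟨t, -⟩ : c.left pt ∈ Set.range jZ.left := hrj ▸ hcC
      exact ⟨t⟩
    exact ⟨‹Nonempty ↥Z.left›⟩
  -- the rational point `c'` of `Z`
  obtain ⟨c₁, hc₁⟩ := exists_lift_of_range_subset jZ.left c.left (by
    rintro _ ⟨p, rfl⟩
    rw [hrj, Subsingleton.elim p pt]; exact hcC)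
  obtain ⟨c', hc'⟩ : ∃ c' : 𝟙_ (Over (Spec (CommRingCat.of k))) ⟶ Z, c' ≫ jZ = c := by
    refine ⟨Over.homMk c₁ ?_, ?_⟩
    · rw [← Over.w jZ, ← Category.assoc, hc₁]; exact Over.w c
    · ext1; exact hc₁
  have hX := antiAffine_of_section k Z c'
  -- `Y` as an object over `k`
  obtain ⟨Y', f', hY', hf'⟩ : ∃ (Y' : Over (Spec (CommRingCat.of k))) (f' : X ⟶ Y'),
      IsSeparated Y'.hom ∧ ∀ (W : Over (Spec (CommRingCat.of k))) (a b : W ⟶ X),
        a ≫ f' = b ≫ f' ↔ a.left ≫ f = b.left ≫ f :=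
    ⟨Over.mk q, Over.homMk f hf, ‹IsSeparated q›, fun W a b =>
      ⟨fun h => congrArg (fun t => t.left) h, fun h => by ext1; exact h⟩⟩
  haveI := hY'
  -- `f` is constant on `Z`
  have hconst : jZ ≫ f' = (toUnit Z ≫ c) ≫ f' := by
    rw [hf']
    obtain ⟨g, hg⟩ := exists_lift_of_range_subset s (jZ.left ≫ f) (by
      rintro _ ⟨t, rfl⟩
      rw [hrange]
      have : jZ.left t ∈ C := hrj ▸ ⟨t, rfl⟩
      exact hCsub this)
    have hg2 : g = Z.hom := by
      calc g = g ≫ s ≫ q := by rw [hs, Category.comp_id]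
        _ = Z.hom := by rw [← Category.assoc, hg, Category.assoc, hf, Over.w jZ]
    rw [← hg, hg2, hsdef]
    show Z.hom ≫ c.left ≫ f = ((toUnit Z).left ≫ c.left) ≫ f
    rw [Over.toUnit_left, Category.assoc]
  obtain ⟨m, hm⟩ : ∃ m : Z ⊗ X ⟶ X,
      m = (snd Z X * (toUnit (Z ⊗ X) ≫ c)⁻¹) * (fst Z X ≫ jZ) := ⟨_, rfl⟩
  have hm_comp : ∀ (T : Over (Spec (CommRingCat.of k))) (p : T ⟶ Z ⊗ X),
      p ≫ m = ((p ≫ snd Z X) * (toUnit T ≫ c)⁻¹) * ((p ≫ fst Z X) ≫ jZ) := by
    intro T p
    rw [hm, MonObj.comp_mul, MonObj.comp_mul, GrpObj.comp_inv, ← Category.assoc p (toUnit _),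
      toUnit_unique (p ≫ toUnit (Z ⊗ X)) (toUnit T), Category.assoc]
  have hj : lift (𝟙 Z) (toUnit Z ≫ c) ≫ m = jZ := by
    rw [hm_comp, lift_snd, lift_fst, Category.id_comp, mul_inv_cancel, _root_.one_mul]
  have hi : lift (toUnit X ≫ c') (𝟙 X) ≫ m = 𝟙 X := by
    rw [hm_comp, lift_snd, lift_fst, Category.assoc, hc', _root_.mul_assoc, inv_mul_cancel,
      _root_.mul_one]
  have hzz : lift (𝟙 Z) (toUnit Z ≫ z) ≫ m = jZ ≫ ((toUnit X ≫ a) * 𝟙 X) := by
    rw [hm_comp, lift_snd, lift_fst, Category.id_comp, MonObj.comp_mul, Category.comp_id,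
      ← Category.assoc jZ, toUnit_unique (jZ ≫ toUnit X) (toUnit Z), ← ha, MonObj.comp_mul,
      mul_inv_cancel_right]
  have hrig := Groth.Agent.Lib.Helper4.AntiAffRigid3.rigidity_antiAffine Z X Y' hX (m ≫ f')
    c' c (c ≫ f') (by rw [← Category.assoc, hj, hconst, Category.assoc])
  rw [← Category.assoc (lift _ _) m, hi, Category.id_comp] at hrig
  have hz : (jZ ≫ ((toUnit X ≫ a) * 𝟙 X)) ≫ f' = (toUnit Z ≫ z) ≫ f' := by
    rw [← hzz, Category.assoc, hrig, ← Category.assoc, lift_snd]
  rw [hf'] at hz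
  obtain ⟨u', hu'⟩ : u ∈ Set.range jZ.left := by rw [hrj, hCdef]; exact hu
  have h3 : ((jZ ≫ ((toUnit X ≫ a) * 𝟙 X)).left ≫ f) u' = ((toUnit Z ≫ z).left ≫ f) u' := by
    rw [hz]
  rw [Over.comp_left, Over.comp_left, Scheme.Hom.comp_apply, Scheme.Hom.comp_apply,
    Scheme.Hom.comp_apply, Scheme.Hom.comp_apply, hu'] at h3
  rw [h3]
  congr 2
  exact Subsingleton.elim _ _

include hf in
theorem image_subset (c z a : 𝟙_ (Over (Spec (CommRingCat.of k))) ⟶ X) (ha : a * c = z)
    (pt : ↥(Spec (CommRingCat.of k))) :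
    ((toUnit X ≫ a) * 𝟙 X).left '' connectedComponentIn (f ⁻¹' {f (c.left pt)}) (c.left pt) ⊆
      connectedComponentIn (f ⁻¹' {f (z.left pt)}) (z.left pt) := by
  have hpt : ((toUnit X ≫ a) * 𝟙 X).left (c.left pt) = z.left pt := by
    have h1 : c ≫ ((toUnit X ≫ a) * 𝟙 X) = z := by
      rw [MonObj.comp_mul, Category.comp_id, ← Category.assoc,
        toUnit_unique (c ≫ toUnit X) (𝟙 _), Category.id_comp, ha]
    rw [← h1, Over.comp_left, Scheme.Hom.comp_apply]
  apply IsPreconnected.subset_connectedComponentIn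
  · exact isPreconnected_connectedComponentIn.image _
      ((toUnit X ≫ a) * 𝟙 X).left.continuous.continuousOn
  · exact ⟨c.left pt, mem_connectedComponentIn rfl, hpt⟩
  · rintro _ ⟨u, hu, rfl⟩
    exact key X q f hf c z a ha pt u hu

end Key


theorem main_S7806 (k : Type u) [Field k] [PerfectField k] (X : Over (Spec (CommRingCat.of k)))
    [GrpObj X] [IsProper X.hom] [GeometricallyIntegral X.hom]
    {Y : Scheme.{u}} (q : Y ⟶ Spec (CommRingCat.of k)) [IsSeparated q] (f : X.left ⟶ Y) (hf : f ≫ q = X.hom)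
    (x : 𝟙_ (Over (Spec (CommRingCat.of k))) ⟶ X) :
    (lift (toUnit X ≫ x) (𝟙 X) ≫ μ[X]).left '' connectedComponentIn (f ⁻¹' {f (η[X].left (IsLocalRing.closedPoint k))}) (η[X].left (IsLocalRing.closedPoint k)) =
      connectedComponentIn (f ⁻¹' {f (x.left (IsLocalRing.closedPoint k))}) (x.left (IsLocalRing.closedPoint k)) := by
  have hL : lift (toUnit X ≫ x) (𝟙 X) ≫ μ[X] = (toUnit X ≫ x) * 𝟙 X := rfl
  rw [hL]
  have hη : (1 : 𝟙_ (Over (Spec (CommRingCat.of k))) ⟶ X) = η[X] := (MonObj.one_eq_one X).symm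
  apply Set.Subset.antisymm
  · exact image_subset X q f hf η[X] x x (by rw [← hη, _root_.mul_one]) _
  · intro y hy
    have h1 := image_subset X q f hf x η[X] x⁻¹ (by rw [inv_mul_cancel, hη])
      (IsLocalRing.closedPoint k)
    refine ⟨((toUnit X ≫ x⁻¹) * 𝟙 X).left y, h1 ⟨y, hy, rfl⟩, ?_⟩
    have h2 : ((toUnit X ≫ x⁻¹) * 𝟙 X) ≫ ((toUnit X ≫ x) * 𝟙 X) = 𝟙 X := by
      rw [MonObj.comp_mul, Category.comp_id, ← Category.assoc,
        toUnit_unique (((toUnit X ≫ x⁻¹) * 𝟙 X) ≫ toUnit X) (toUnit X), ← _root_.mul_assoc,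
        ← MonObj.comp_mul, mul_inv_cancel, MonObj.comp_one, _root_.one_mul]
    rw [← Scheme.Hom.comp_apply, ← Over.comp_left, h2]
    rfl

end Groth.Agent.Lib.Helper4.FibTransl1
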