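import Mathlib
import Groth.Agent.Lib.Helper4.StalkEtale1

/-!
# Unramified / étale neighbourhoods descend along morphisms flat at a point (S2807, S2806) (helper4)
-/

set_option backward.isDefEq.respectTransparency.types false
set_option synthInstance.maxHeartbeats 400000
set_option autoImplicit false
set_option linter.unusedSectionVars false
set_option linter.style.haveILetI false
set_option linter.unusedSimpArgs false
universe u v w
open AlgebraicGeometry CategoryTheory Limits
open scoped TensorProduct
open Groth.Agent.Lib.Helper4.StalkEtale1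

namespace Groth.Agent.Lib.Helper4.UnramDescent1

section alg
open IsLocalRing

/-- faithfully flat local descent of `𝔪_A B = 𝔪_B` -/
theorem map_maximalIdeal_eq_of_flat {A B C : Type*} [CommRing A] [CommRing B] [CommRing C]
    [IsLocalRing A] [IsLocalRing B] [IsLocalRing C]
    (φ : A →+* B) (ψ : B →+* C) [IsLocalHom φ] [IsLocalHom ψ] (hflat : ψ.Flat)
    (h : (maximalIdeal A).map (ψ.comp φ) = maximalIdeal C) :
    (maximalIdeal A).map φ = maximalIdeal B := by
  algebraize [ψ]
  haveI : IsLocalHom (algebraMap B C) := ‹IsLocalHom ψ›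
  haveI : Module.FaithfullyFlat B C := Module.FaithfullyFlat.of_flat_of_isLocalHom
  apply le_antisymm
  · exact ((local_hom_TFAE φ).out 0 2 rfl rfl).mp ‹_›
  · rw [← Ideal.comap_map_eq_self_of_faithfullyFlat (B := C) ((maximalIdeal A).map φ),
      Ideal.map_map]
    change maximalIdeal B ≤ Ideal.comap ψ (Ideal.map (ψ.comp φ) (maximalIdeal A))
    rw [h]
    exact ((local_hom_TFAE ψ).out 0 3 rfl rfl).mp ‹_› |>.ge

/-- formal unramifiedness descends along flat local homomorphisms -/
theorem formallyUnramified_of_flat_comp {A B C : Type*} [CommRing A] [CommRing B] [CommRing C]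
    [IsLocalRing A] [IsLocalRing B] [IsLocalRing C]
    (φ : A →+* B) (ψ : B →+* C) [IsLocalHom φ] [IsLocalHom ψ] (hflat : ψ.Flat)
    (hφ : φ.EssFiniteType) (hψφ : (ψ.comp φ).EssFiniteType)
    (h : (ψ.comp φ).FormallyUnramified) : φ.FormallyUnramified := by
  algebraize [φ, ψ, ψ.comp φ]
  haveI : IsLocalHom (algebraMap A B) := ‹IsLocalHom φ›
  haveI : IsLocalHom (algebraMap B C) := ‹IsLocalHom ψ›
  haveI : IsLocalHom (algebraMap A C) := by
    change IsLocalHom (ψ.comp φ); infer_instance
  obtain ⟨hsep, hm⟩ := (Algebra.FormallyUnramified.iff_map_maximalIdeal_eq (R := A) (S := C)).mp h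
  haveI : Algebra.IsSeparable (ResidueField A) (ResidueField B) :=
    Algebra.isSeparable_tower_bot_of_isSeparable (ResidueField A) (ResidueField B) (ResidueField C)
  have hm' : (maximalIdeal A).map (algebraMap A B) = maximalIdeal B :=
    map_maximalIdeal_eq_of_flat φ ψ hflat hm
  exact Algebra.FormallyUnramified.of_map_maximalIdeal hm'

end alg

section geom
variable {X Y S : Scheme.{u}}

set_option backward.isDefEq.respectTransparency false in
theorem S2807_main (f : Y ⟶ S) (h : X ⟶ S)
    [LocallyOfFinitePresentation f] [LocallyOfFinitePresentation h]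
    (g : X ⟶ Y) (w : g ≫ f = h) (x : X) (hg : (g.stalkMap x).hom.Flat)
    (hh : ∃ U : X.Opens, x ∈ U ∧ FormallyUnramified (U.ι ≫ h)) :
    ∃ V : Y.Opens, g.base x ∈ V ∧ FormallyUnramified (V.ι ≫ f) := by
  subst w
  rw [exists_formallyUnramified_nhd_iff] at hh
  apply (exists_formallyUnramified_nhd_iff f (g x)).mpr
  have h1 := LocallyOfFiniteType.stalkMap f (g x)
  have h2 := LocallyOfFiniteType.stalkMap (g ≫ f) x
  rw [Scheme.Hom.stalkMap_comp] at hh h2
  exact formallyUnramified_of_flat_comp (f.stalkMap (g x)).hom (g.stalkMap x).hom hg h1 h2 hh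

end geom


section alg2
open TensorProduct

/-- flatness descends along a faithfully flat extension of the algebra -/
theorem flat_of_flat_of_faithfullyFlat (A B C : Type*) [CommRing A] [CommRing B] [CommRing C]
    [Algebra A B] [Algebra B C] [Algebra A C] [IsScalarTower A B C]
    [Module.Flat A C] [Module.FaithfullyFlat B C] : Module.Flat A B := by
  rw [Module.Flat.iff_lTensor_preserves_injective_linearMap]
  intro N P _ _ _ _ f hf
  have h1 : Function.Injective (f.lTensor C) :=
    Module.Flat.lTensor_preserves_injective_linearMap f hf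
  let g : B ⊗[A] N →ₗ[B] B ⊗[A] P := f.baseChange B
  have hg : ∀ t, g t = f.lTensor B t := fun t => rfl
  suffices Function.Injective g from fun a b hab => this (by rw [hg, hg]; exact hab)
  rw [← Module.FaithfullyFlat.lTensor_injective_iff_injective B C]
  let eN := AlgebraTensorModule.cancelBaseChange A B C C N
  let eP := AlgebraTensorModule.cancelBaseChange A B C C P
  have key : ∀ t, eP (g.lTensor C t) = f.lTensor C (eN t) := by
    intro t
    induction t using TensorProduct.induction_on with
    | zero => simp
    | tmul c s =>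
      induction s using TensorProduct.induction_on with
      | zero => simp
      | tmul b n => simp [eN, eP, g]
      | add x y hx hy => simp only [tmul_add, map_add, hx, hy]
    | add x y hx hy => simp only [map_add, hx, hy]
  intro a b hab
  apply eN.injective
  apply h1
  rw [← key, ← key, hab]

end alg2

section geom2
variable {X Y S : Scheme.{u}}

theorem flat_of_flat_comp {A B C : Type*} [CommRing A] [CommRing B] [CommRing C]
    [IsLocalRing B] [IsLocalRing C]
    (φ : A →+* B) (ψ : B →+* C) [IsLocalHom ψ] (hψ : ψ.Flat) (h : (ψ.comp φ).Flat) :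
    φ.Flat := by
  algebraize [φ, ψ, ψ.comp φ]
  haveI : IsLocalHom (algebraMap B C) := ‹IsLocalHom ψ›
  haveI : Module.FaithfullyFlat B C := Module.FaithfullyFlat.of_flat_of_isLocalHom
  exact flat_of_flat_of_faithfullyFlat A B C

set_option backward.isDefEq.respectTransparency false in
theorem S2806_main (f : Y ⟶ S) (h : X ⟶ S)
    [LocallyOfFinitePresentation f] [LocallyOfFinitePresentation h]
    (g : X ⟶ Y) (w : g ≫ f = h) (x : X) (hg : (g.stalkMap x).hom.Flat)
    (hh : ∃ U : X.Opens, x ∈ U ∧ Etale (U.ι ≫ h)) :
    ∃ V : Y.Opens, g.base x ∈ V ∧ Etale (V.ι ≫ f) := by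
  subst w
  rw [exists_etale_nhd_iff_flat_formallyUnramified] at hh
  apply (exists_etale_nhd_iff_flat_formallyUnramified f (g x)).mpr
  obtain ⟨hfl, hfu⟩ := hh
  have h1 := LocallyOfFiniteType.stalkMap f (g x)
  have h2 := LocallyOfFiniteType.stalkMap (g ≫ f) x
  rw [Scheme.Hom.stalkMap_comp] at hfl hfu h2
  exact ⟨flat_of_flat_comp (f.stalkMap (g x)).hom (g.stalkMap x).hom hg hfl,
    formallyUnramified_of_flat_comp (f.stalkMap (g x)).hom (g.stalkMap x).hom hg h1 h2 hfu⟩

end geom2

end Groth.Agent.Lib.Helper4.UnramDescent1
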