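import Mathlib

open CategoryTheory MonoidalCategory CartesianMonoidalCategory MonObj GrpObj

namespace Groth.Agent.Helper4.Act

universe v u
variable {C : Type u} [Category.{v} C] [CartesianMonoidalCategory C]
variable {G X : C} [GrpObj G] (act : G ⊗ X ⟶ X)
  (one_act : (η[G] ▷ X) ≫ act = (λ_ X).hom)
  (mul_act : (μ[G] ▷ X) ≫ act = (α_ G G X).hom ≫ (G ◁ act) ≫ act)

include one_act in
theorem one_smul' {T : C} (x : T ⟶ X) : lift (1 : T ⟶ G) x ≫ act = x := by
  have h := congrArg (fun t => lift (toUnit T) x ≫ t) one_act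
  simp only [lift_whiskerRight_assoc] at h
  rw [Hom.one_def]
  rw [h]
  simp

include mul_act in
theorem mul_smul' {T : C} (g h : T ⟶ G) (x : T ⟶ X) :
    lift (g * h) x ≫ act = lift g (lift h x ≫ act) ≫ act := by
  have h1 := congrArg (fun t => lift (lift g h) x ≫ t) mul_act
  simp only [lift_whiskerRight_assoc, lift_lift_associator_hom_assoc, lift_whiskerLeft_assoc] at h1
  rw [Hom.mul_def]
  exact h1

include one_act mul_act in
/-- the action morphism is the shear isomorphism followed by the second projection -/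
theorem exists_iso_act : ∃ e : G ⊗ X ≅ G ⊗ X, act = e.hom ≫ snd G X := by
  have key : ∀ {T : C} (g : T ⟶ G) (x : T ⟶ X),
      lift g x ≫ lift (fst G X) act = lift g (lift g x ≫ act) := by
    intro T g x
    rw [comp_lift, lift_fst]
  have key' : ∀ {T : C} (g : T ⟶ G) (x : T ⟶ X),
      lift g x ≫ lift (fst G X) ((ι[G] ▷ X) ≫ act) = lift g (lift g⁻¹ x ≫ act) := by
    intro T g x
    rw [comp_lift, lift_fst, lift_whiskerRight_assoc, Hom.inv_def]
  refine ⟨⟨lift (fst G X) act, lift (fst G X) ((ι[G] ▷ X) ≫ act), ?_, ?_⟩, (lift_snd _ _).symm⟩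
  · have : lift (fst G X) (snd G X) ≫ (lift (fst G X) act ≫ lift (fst G X) ((ι[G] ▷ X) ≫ act)) =
        lift (fst G X) (snd G X) ≫ 𝟙 _ := by
      rw [← Category.assoc, key, key', ← mul_smul' act mul_act, inv_mul_cancel,
        one_smul' act one_act, Category.comp_id]
    simpa using this
  · have : lift (fst G X) (snd G X) ≫ (lift (fst G X) ((ι[G] ▷ X) ≫ act) ≫ lift (fst G X) act) =
        lift (fst G X) (snd G X) ≫ 𝟙 _ := by
      rw [← Category.assoc, key', key, ← mul_smul' act mul_act, mul_inv_cancel,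
        one_smul' act one_act, Category.comp_id]
    simpa using this

end Groth.Agent.Helper4.Act
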