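import Mathlib
import Groth.Prelude.Def_SGA3x
import Groth.Agent.Lib.Helper4.GrpArtin2
import Groth.Agent.Lib.Helper7.SmoothBC.GeomRed

/-!
# connected lft group over a field is irreducible, geometrically connected; smooth connected => geometrically integral (helper4) (helper4)
-/

set_option backward.isDefEq.respectTransparency.types false
set_option synthInstance.maxHeartbeats 400000
set_option autoImplicit false
set_option linter.unusedSectionVars false
set_option linter.style.haveILetI false
set_option linter.unusedSimpArgs false
universe u v w
open CategoryTheory CategoryTheory.Limits AlgebraicGeometry TopologicalSpace Opposite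
open MonoidalCategory CartesianMonoidalCategory MonObj GrpObj
open Groth.Agent.Lib.Helper4.GrpIrr1 Groth.Agent.Lib.Helper4.GrpIrr3

namespace Groth.Agent.Lib.Helper4.GrpGeomInt1

variable {k : Type u} [Field k]

/-- a connected lft group over a field is irreducible -/
theorem irreducibleSpace_of_connected_lft (G : Over (Spec (CommRingCat.of k))) [GrpObj G]
    [LocallyOfFiniteType G.hom] [ConnectedSpace G.left] : IrreducibleSpace G.left := by
  have h1 : irreducibleComponent (ept G) = Set.univ := by
    rw [← connectedComponent_eq_irreducibleComponent]
    exact PreconnectedSpace.connectedComponent_eq_univ _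
  have h2 : IsIrreducible (Set.univ : Set G.left) := h1 ▸ isIrreducible_irreducibleComponent
  exact (irreducibleSpace_def _).mpr h2

/-- a connected lft group over a field is geometrically connected -/
theorem geometricallyConnected_of_connected (G : Over (Spec (CommRingCat.of k))) [GrpObj G]
    [ConnectedSpace G.left] : GeometricallyConnected G.hom :=
  haveI : Subsingleton ↥(Spec (CommRingCat.of k)) := inferInstanceAs (Subsingleton (PrimeSpectrum k))
  Groth.Agent.Lib.Helper4.GrpArtin2.geomConn G.hom η[G].left (Over.w η[G])

/-- a smooth connected group over a field is geometrically integral -/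
theorem geometricallyIntegral_of_smooth_connected (G : Over (Spec (CommRingCat.of k))) [GrpObj G]
    [Smooth G.hom] [ConnectedSpace G.left] : GeometricallyIntegral G.hom := by
  haveI := geometricallyConnected_of_connected G
  refine ⟨fun K _ y Z fst snd h => ?_⟩
  -- the group `G_K`
  haveI : ConnectedSpace ↥(Red.bc y G).left :=
    GeometricallyConnected.geometrically_connectedSpace (f := G.hom) y _ _
      (IsPullback.of_hasPullback G.hom y)
  haveI : Smooth (Red.bc y G).hom := by
    show Smooth (pullback.snd G.hom y); infer_instance
  haveI : LocallyOfFiniteType (Red.bc y G).hom := inferInstance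
  haveI : IrreducibleSpace ↥(Red.bc y G).left := irreducibleSpace_of_connected_lft (Red.bc y G)
  haveI : IsReduced (Red.bc y G).left :=
    Groth.Agent.Helper7.SmoothBC.isReduced_of_smooth_over_field K (Red.bc y G).hom
  haveI : AlgebraicGeometry.IsIntegral (Red.bc y G).left := isIntegral_of_irreducibleSpace_of_isReduced _
  haveI : AlgebraicGeometry.IsIntegral (pullback G.hom y) := ‹AlgebraicGeometry.IsIntegral (Red.bc y G).left›
  exact AlgebraicGeometry.IsIntegral.of_isIso h.isoPullback.inv

end Groth.Agent.Lib.Helper4.GrpGeomInt1
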