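import Mathlib

/-!
# Rigidity lemma for proper geometrically integral schemes over a field (helper4)
-/

set_option backward.isDefEq.respectTransparency.types false
set_option synthInstance.maxHeartbeats 400000
set_option autoImplicit false
set_option linter.unusedSectionVars false
set_option linter.style.haveILetI false
set_option linter.unusedSimpArgs false
universe u v w
open CategoryTheory CategoryTheory.Limits AlgebraicGeometry TopologicalSpace IsLocalRing Opposite
open MonoidalCategory CartesianMonoidalCategory MonObj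

namespace Groth.Agent.Lib.Helper4.Rigidity1

variable {K : Type u} [Field K]

set_option backward.defeqAttrib.useBackward true in
set_option backward.isDefEq.respectTransparency false in
theorem rigidity_algClosed [IsAlgClosed K] (V W U : Over (Spec (CommRingCat.of K)))
    [IsProper V.hom] [LocallyOfFiniteType W.hom] [IsSeparated U.hom] [LocallyOfFiniteType U.hom]
    [IsIntegral (V ⊗ W).left]
    (f : V ⊗ W ⟶ U) (v₀ : 𝟙_ (Over (Spec (CommRingCat.of K))) ⟶ V)
    (w₀ : 𝟙_ (Over (Spec (CommRingCat.of K))) ⟶ W)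
    (u₀ : 𝟙_ (Over (Spec (CommRingCat.of K))) ⟶ U)
    (hV : lift (𝟙 V) (toUnit V ≫ w₀) ≫ f = toUnit V ≫ u₀)
    (hW : lift (toUnit W ≫ v₀) (𝟙 W) ≫ f = toUnit W ≫ u₀) :
    f = toUnit (V ⊗ W) ≫ u₀ := by
  let S := Spec (.of K)
  let point : S := IsLocalRing.closedPoint K
  have hpoint : IsClosed {point} := isClosed_discrete _
  have hVW : LocallyOfFiniteType (V ⊗ W).hom := by dsimp; infer_instance
  have : JacobsonSpace (V ⊗ W).left := LocallyOfFiniteType.jacobsonSpace (Y := Spec _) (V ⊗ W).hom
  have : IsProper (snd V W).left := by dsimp; infer_instance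
  let gm : V ⊗ W ⟶ W ⊗ U := lift (snd _ _) f
  have hgm1 : gm.left ≫ (fst W U).left = (snd V W).left := by
    rw [← Over.comp_left]; simp [gm]
  have : IsProper (gm.left ≫ (fst W U).left) := by rw [hgm1]; infer_instance
  have : IsSeparated (fst W U).left := by dsimp; infer_instance
  have : LocallyOfFiniteType (fst W U).left := by dsimp; infer_instance
  have : IsProper gm.left := .of_comp _ (fst W U).left
  have hcl : ∀ {X : Over S} (p : 𝟙_ (Over S) ⟶ X), IsClosedImmersion p.left := fun {X} p =>
    isClosedImmersion_of_comp_eq_id (Y := Spec (.of K)) X.hom p.left ((Over.w p).trans rfl)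
  have H : gm.left '' ((snd V W).left ⁻¹' {w₀.left point}) ⊆ {(lift w₀ u₀).left point} := by
    rw [Set.image_subset_iff, ← Set.sdiff_eq_empty, ← Set.not_nonempty_iff_eq_empty]
    intro H
    obtain ⟨c₀, ⟨hc₁, hc₂⟩, hc₃⟩ := nonempty_inter_closedPoints H <| by
      rw [Set.sdiff_eq_compl_inter, ← Set.image_singleton, ← Set.image_singleton];
      refine (IsOpen.isLocallyClosed ?_).inter (IsClosed.isLocallyClosed ?_)
      · have := hcl (lift w₀ u₀)
        exact (((lift w₀ u₀).left.isClosedMap _ hpoint).preimage gm.left.continuous).isOpen_compl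
      · have := hcl w₀
        exact (w₀.left.isClosedMap _ hpoint).preimage (snd V W).left.continuous
    obtain ⟨⟨c, hc⟩, e⟩ := (pointEquivClosedPoint (V ⊗ W).hom).surjective ⟨c₀, hc₃⟩
    obtain rfl : c point = c₀ := congr(($e).1)
    let cO : 𝟙_ (Over S) ⟶ V ⊗ W := Over.homMk c hc
    have h1 : cO ≫ snd V W = w₀ := by
      ext1
      refine ext_of_apply_closedPoint_eq W.hom ?_ ?_ ?_
      · exact (Over.w (cO ≫ snd V W)).trans rfl
      · exact (Over.w w₀).trans rfl
      · exact hc₁
    have h2 : cO = (cO ≫ fst V W) ≫ lift (𝟙 V) (toUnit V ≫ w₀) := by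
      ext1 <;> simp [h1]
    have h3 : cO ≫ gm = lift w₀ u₀ := by
      ext1
      · simp [gm, h1]
      · simp only [gm, Category.assoc, lift_snd]
        rw [h2, Category.assoc, hV]
        simp
    apply hc₂
    have : gm.left (c point) = (cO ≫ gm).left point := by
      rw [Over.comp_left, Scheme.Hom.comp_apply]; rfl
    simp only [Set.mem_preimage, Set.mem_singleton_iff]
    rw [this, h3]
  obtain ⟨U', hsU, Hfin⟩ := exists_finite_imageι_comp_morphismRestrict_of_finite_image_preimage
    gm.left (fst W U).left (w₀.left point) (by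
      rw [hgm1]
      exact (Set.finite_singleton _).subset H)
  have H2 (x : U') : ((fst W U).left ⁻¹' {x.1} ∩ Set.range ⇑gm.left).Finite := by
    refine ((((gm.left.imageι ≫ (fst W U).left) ∣_ U').finite_preimage_singleton x).image
      (Scheme.Opens.ι _ ≫ gm.left.imageι)).subset ?_
    have : U'.ι ⁻¹' {x.1} = {x} := by ext; simp
    rw [← this, ← Set.preimage_comp, ← TopCat.coe_comp, ← Scheme.Hom.comp_base,
      morphismRestrict_ι, ← Category.assoc, Scheme.Hom.comp_base (_ ≫ _) (fst W U).left,
      TopCat.coe_comp, Set.preimage_comp, Set.image_preimage_eq_inter_range]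
    simp only [Scheme.Hom.comp_base, TopCat.coe_comp, Set.range_comp, Scheme.Opens.range_ι]
    dsimp
    rw [Set.image_preimage_eq_inter_range, Scheme.IdealSheafData.range_subschemeι,
      Scheme.Hom.support_ker, ← Set.inter_assoc, ← Set.preimage_inter,
      Set.singleton_inter_of_mem x.2, IsClosed.closure_eq
      (by exact gm.left.isClosedMap.isClosed_range)]
  have hVWf : LocallyOfFiniteType (f.left ≫ U.hom) := by rw [Over.w]; exact hVW
  have : Nonempty W.left := ⟨w₀.left point⟩
  have : Surjective W.hom := ⟨Function.surjective_to_subsingleton (α := W.left) (β := Spec _) _⟩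
  ext1
  refine ext_of_apply_eq U.hom _
    ((snd V W).left ⁻¹ᵁ U').isOpen.isLocallyClosed
    (((snd V W).left ⁻¹ᵁ U').isOpen.dense ?_) ?_ ?_
  · exact ⟨(lift (toUnit W ≫ v₀) (𝟙 W)).left (w₀.left point), by
      show (snd V W).left _ ∈ U'
      rw [← Scheme.Hom.comp_apply, ← Over.comp_left]
      simpa using hsU⟩
  · intro y hyU hy
    have hx : IsClosed {(snd V W).left y} := by simpa using (snd V W).left.isClosedMap _ hy
    obtain ⟨x, hxdef⟩ : ∃ x, x = (snd V W).left y := ⟨_, rfl⟩
    let xO : 𝟙_ (Over S) ⟶ W := Over.homMk (pointOfClosedPoint W.hom _ hx) (by simp; rfl)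
    let xe : (W ⊗ U).left := (lift (𝟙 W) (toUnit W ≫ u₀)).left x
    have : gm.left y = xe := by
      refine subsingleton_image_closure_of_finite_of_isPreirreducible
        (hx.preimage (snd V W).left.continuous).isLocallyClosed ?_ gm.left.continuous
        gm.left.isClosedMap ((H2 ⟨_, hyU⟩).subset (Set.image_subset_iff.mpr fun z hz ↦ by
          refine ⟨?_, ⟨z, rfl⟩⟩
          show (fst W U).left (gm.left z) = _
          rw [← Scheme.Hom.comp_apply, hgm1]
          exact hz)) ?_ ?_
      · let α : V ⊗ W ⟶ V ⊗ W := 𝟙 V ⊗ₘ (toUnit W ≫ xO)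
        convert!
          ((IrreducibleSpace.isIrreducible_univ _).image α.left
              α.left.continuous.continuousOn).isPreirreducible
        rw [Over.tensorHom_left]
        simp [Set.range_comp, Scheme.Pullback.range_map, xO]
      · exact ⟨y, subset_closure (by simp), rfl⟩
      · refine ⟨(lift (toUnit W ≫ v₀) (𝟙 W)).left x, subset_closure ?_, ?_⟩
        · show (snd V W).left _ = _
          rw [← Scheme.Hom.comp_apply, ← Over.comp_left, hxdef]
          simp
        · show gm.left _ = xe
          rw [← Scheme.Hom.comp_apply, ← Over.comp_left]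
          have : lift (toUnit W ≫ v₀) (𝟙 W) ≫ gm = lift (𝟙 W) (toUnit W ≫ u₀) := by
            ext1
            · simp [gm]
            · simp [gm, hW]
          rw [this]
    have h4 : f.left y = (snd W U).left (gm.left y) := by
      rw [← Scheme.Hom.comp_apply, ← Over.comp_left]
      simp [gm]
    rw [h4, this]
    show (snd W U).left ((lift (𝟙 W) (toUnit W ≫ u₀)).left x) = _
    rw [← Scheme.Hom.comp_apply, ← Over.comp_left, lift_snd, hxdef, ← Scheme.Hom.comp_apply,
      ← Over.comp_left]
    congr 3
    simp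
  · simp


set_option backward.defeqAttrib.useBackward true in
theorem rigidity (V W U : Over (Spec (CommRingCat.of K)))
    [IsProper V.hom] [GeometricallyIntegral V.hom]
    [LocallyOfFiniteType W.hom] [GeometricallyIntegral W.hom]
    [IsSeparated U.hom] [LocallyOfFiniteType U.hom]
    (f : V ⊗ W ⟶ U) (v₀ : 𝟙_ (Over (Spec (CommRingCat.of K))) ⟶ V)
    (w₀ : 𝟙_ (Over (Spec (CommRingCat.of K))) ⟶ W)
    (u₀ : 𝟙_ (Over (Spec (CommRingCat.of K))) ⟶ U)
    (hV : lift (𝟙 V) (toUnit V ≫ w₀) ≫ f = toUnit V ≫ u₀)
    (hW : lift (toUnit W ≫ v₀) (𝟙 W) ≫ f = toUnit W ≫ u₀) :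
    f = toUnit (V ⊗ W) ≫ u₀ := by
  let g := Spec.map (CommRingCat.ofHom <| algebraMap K (AlgebraicClosure K))
  let F := Over.pullback g
  let V' := F.obj V
  let W' := F.obj W
  let U' := F.obj U
  have : IsProper V'.hom := by dsimp [V', F]; infer_instance
  have : LocallyOfFiniteType W'.hom := by dsimp [W', F]; infer_instance
  have : IsSeparated U'.hom := by dsimp [U', F]; infer_instance
  have : LocallyOfFiniteType U'.hom := by dsimp [U', F]; infer_instance
  have : IsIntegral (V' ⊗ W').left := by dsimp [V', W', F]; infer_instance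
  have key := rigidity_algClosed V' W' U' (Functor.LaxMonoidal.μ F V W ≫ F.map f)
    (Functor.LaxMonoidal.ε F ≫ F.map v₀) (Functor.LaxMonoidal.ε F ≫ F.map w₀)
    (Functor.LaxMonoidal.ε F ≫ F.map u₀) ?_ ?_
  · apply F.map_injective
    rw [← cancel_epi (Functor.Monoidal.μIso F V W).hom]
    simp only [Functor.Monoidal.μIso_hom]
    rw [key, Functor.map_comp, ← Functor.Monoidal.toUnit_ε_assoc]
    have h5 : Functor.LaxMonoidal.μ F V W ≫ toUnit (F.obj (V ⊗ W)) = toUnit (V' ⊗ W') :=
      toUnit_unique _ _
    rw [← h5]; simp only [Category.assoc]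
  · rw [← Category.assoc (toUnit V'), Functor.Monoidal.toUnit_ε, ← Functor.map_comp,
      ← F.map_id, Functor.Monoidal.lift_μ_assoc, ← Functor.map_comp, hV, Functor.map_comp,
      ← Functor.Monoidal.toUnit_ε_assoc]
  · rw [← Category.assoc (toUnit W'), Functor.Monoidal.toUnit_ε, ← Functor.map_comp,
      ← F.map_id, Functor.Monoidal.lift_μ_assoc, ← Functor.map_comp, hW, Functor.map_comp,
      ← Functor.Monoidal.toUnit_ε_assoc]

end Groth.Agent.Lib.Helper4.Rigidity1
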