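import Mathlib
import Groth.Prelude.Def_AlgGrp
import Groth.Agent.Lib.Helper4.Rigidity1
import Groth.Agent.Lib.Helper4.GrpGeomInt1

/-!
# Albanese of a product (S14830); proper geometrically integral groups are commutative; geometrically reduced connected groups are geometrically integral (helper4)
-/

set_option backward.isDefEq.respectTransparency.types false
set_option synthInstance.maxHeartbeats 400000
set_option autoImplicit false
set_option linter.unusedSectionVars false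
set_option linter.style.haveILetI false
set_option linter.unusedSimpArgs false
universe u v w
open CategoryTheory CategoryTheory.Limits AlgebraicGeometry TopologicalSpace Opposite
open MonoidalCategory CartesianMonoidalCategory MonObj GrpObj

namespace Groth.Agent.Lib.Helper4.AlbProd1

variable {k : Type u} [Field k]

/-- a geometrically reduced connected lft group over a field is geometrically integral -/
theorem geometricallyIntegral_of_geomReduced_connected (G : Over (Spec (CommRingCat.of k)))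
    [GrpObj G] [LocallyOfFiniteType G.hom] [GeometricallyReduced G.hom] [ConnectedSpace G.left] :
    GeometricallyIntegral G.hom := by
  haveI := Groth.Agent.Lib.Helper4.GrpGeomInt1.geometricallyConnected_of_connected G
  refine ⟨fun K _ y Z fst snd h => ?_⟩
  haveI : ConnectedSpace ↥(Red.bc y G).left :=
    GeometricallyConnected.geometrically_connectedSpace (f := G.hom) y _ _
      (IsPullback.of_hasPullback G.hom y)
  haveI : LocallyOfFiniteType (Red.bc y G).hom := by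
    show LocallyOfFiniteType (pullback.snd G.hom y); infer_instance
  haveI : IrreducibleSpace ↥(Red.bc y G).left :=
    Groth.Agent.Lib.Helper4.GrpGeomInt1.irreducibleSpace_of_connected_lft (Red.bc y G)
  haveI : IsReduced (Red.bc y G).left :=
    GeometricallyReduced.geometrically_isReduced (f := G.hom) y _ _
      (IsPullback.of_hasPullback G.hom y)
  haveI : AlgebraicGeometry.IsIntegral (Red.bc y G).left :=
    isIntegral_of_irreducibleSpace_of_isReduced _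
  haveI : AlgebraicGeometry.IsIntegral (pullback G.hom y) :=
    ‹AlgebraicGeometry.IsIntegral (Red.bc y G).left›
  exact AlgebraicGeometry.IsIntegral.of_isIso h.isoPullback.inv

/-- a proper geometrically integral group over a field is commutative -/
theorem isCommMonObj_of_proper (C : Over (Spec (CommRingCat.of k))) [GrpObj C]
    [IsProper C.hom] [GeometricallyIntegral C.hom] : IsCommMonObj C := by
  haveI : LocallyOfFiniteType C.hom := inferInstance
  rw [isCommMonObj_iff_commutator_eq_toUnit_η]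
  have hone : (toUnit C ≫ η[C] : C ⟶ C) = 1 := rfl
  have hV : lift (𝟙 C) (toUnit C ≫ η[C]) ≫ GrpObj.commutator C = toUnit C ≫ η[C] := by
    rw [GrpObj.lift_commutator_eq_mul_mul_inv_inv, hone, inv_one, _root_.mul_one, _root_.mul_one,
      mul_inv_cancel]
  have hW : lift (toUnit C ≫ η[C]) (𝟙 C) ≫ GrpObj.commutator C = toUnit C ≫ η[C] := by
    rw [GrpObj.lift_commutator_eq_mul_mul_inv_inv, hone, inv_one, _root_.one_mul, _root_.mul_one,
      mul_inv_cancel]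
  exact Groth.Agent.Lib.Helper4.Rigidity1.rigidity C C C (GrpObj.commutator C) η[C] η[C] η[C] hV hW

theorem alb_prod (XX YY A B C : Over (Spec (CommRingCat.of k)))
    [IsProper XX.hom] [GeometricallyIntegral XX.hom] [IsProper YY.hom] [GeometricallyIntegral YY.hom]
    [GrpObj A] [GrpObj B] [GrpObj C] [IsProper C.hom] [GeometricallyReduced C.hom]
    [ConnectedSpace ↥C.left]
    (x₀ : 𝟙_ (Over (Spec (CommRingCat.of k))) ⟶ XX) (y₀ : 𝟙_ (Over (Spec (CommRingCat.of k))) ⟶ YY)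
    (albX : XX ⟶ A) (halbX : x₀ ≫ albX = η[A]) (albY : YY ⟶ B) (halbY : y₀ ≫ albY = η[B])
    (hA : ∀ g : XX ⟶ C, x₀ ≫ g = η[C] → ∃! h : A ⟶ C, IsMonHom h ∧ albX ≫ h = g)
    (hB : ∀ g : YY ⟶ C, y₀ ≫ g = η[C] → ∃! h : B ⟶ C, IsMonHom h ∧ albY ≫ h = g)
    (g : XX ⊗ YY ⟶ C) (hg : lift x₀ y₀ ≫ g = η[C]) :
    ∃! h : A ⊗ B ⟶ C, IsMonHom h ∧ (albX ⊗ₘ albY) ≫ h = g := by
  haveI : LocallyOfFiniteType C.hom := inferInstance
  haveI : LocallyOfFiniteType YY.hom := inferInstance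
  haveI : GeometricallyIntegral C.hom := geometricallyIntegral_of_geomReduced_connected C
  haveI : IsCommMonObj C := isCommMonObj_of_proper C
  obtain ⟨ι₁, hι₁⟩ : ∃ ι₁ : XX ⟶ XX ⊗ YY, ι₁ = lift (𝟙 XX) (toUnit XX ≫ y₀) := ⟨_, rfl⟩
  obtain ⟨ι₂, hι₂⟩ : ∃ ι₂ : YY ⟶ XX ⊗ YY, ι₂ = lift (toUnit YY ≫ x₀) (𝟙 YY) := ⟨_, rfl⟩
  obtain ⟨g₁, hg₁⟩ : ∃ g₁ : XX ⟶ C, g₁ = ι₁ ≫ g := ⟨_, rfl⟩
  obtain ⟨g₂, hg₂⟩ : ∃ g₂ : YY ⟶ C, g₂ = ι₂ ≫ g := ⟨_, rfl⟩
  have hx₀ι : x₀ ≫ ι₁ = lift x₀ y₀ := by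
    rw [hι₁, comp_lift, Category.comp_id, ← Category.assoc,
      toUnit_unique (x₀ ≫ toUnit XX) (𝟙 _), Category.id_comp]
  have hy₀ι : y₀ ≫ ι₂ = lift x₀ y₀ := by
    rw [hι₂, comp_lift, Category.comp_id, ← Category.assoc,
      toUnit_unique (y₀ ≫ toUnit YY) (𝟙 _), Category.id_comp]
  have hg₁0 : x₀ ≫ g₁ = η[C] := by rw [hg₁, ← Category.assoc, hx₀ι, hg]
  have hg₂0 : y₀ ≫ g₂ = η[C] := by rw [hg₂, ← Category.assoc, hy₀ι, hg]
  obtain ⟨h₁, ⟨hh₁, hh₁'⟩, huniq₁⟩ := hA g₁ hg₁0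
  obtain ⟨h₂, ⟨hh₂, hh₂'⟩, huniq₂⟩ := hB g₂ hg₂0
  haveI := hh₁
  haveI := hh₂
  -- the key rigidity statement
  have hone : ∀ (Z : Over (Spec (CommRingCat.of k))), (toUnit Z ≫ η[C] : Z ⟶ C) = 1 :=
    fun Z => rfl
  have hgdecomp : g = (fst XX YY ≫ g₁) * (snd XX YY ≫ g₂) := by
    obtain ⟨d, hd⟩ : ∃ d : XX ⊗ YY ⟶ C, d = g * ((fst XX YY ≫ g₁) * (snd XX YY ≫ g₂))⁻¹ :=
      ⟨_, rfl⟩
    have hV : lift (𝟙 XX) (toUnit XX ≫ y₀) ≫ d = toUnit XX ≫ η[C] := by
      rw [← hι₁, hd, MonObj.comp_mul, GrpObj.comp_inv, MonObj.comp_mul, ← hg₁,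
        ← Category.assoc, ← Category.assoc]
      have e1 : ι₁ ≫ fst XX YY = 𝟙 XX := by rw [hι₁, lift_fst]
      have e2 : ι₁ ≫ snd XX YY = toUnit XX ≫ y₀ := by rw [hι₁, lift_snd]
      rw [e1, e2, Category.id_comp, Category.assoc, hg₂0, hone, _root_.mul_one, mul_inv_cancel]
    have hW : lift (toUnit YY ≫ x₀) (𝟙 YY) ≫ d = toUnit YY ≫ η[C] := by
      rw [← hι₂, hd, MonObj.comp_mul, GrpObj.comp_inv, MonObj.comp_mul, ← hg₂,
        ← Category.assoc, ← Category.assoc]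
      have e1 : ι₂ ≫ fst XX YY = toUnit YY ≫ x₀ := by rw [hι₂, lift_fst]
      have e2 : ι₂ ≫ snd XX YY = 𝟙 YY := by rw [hι₂, lift_snd]
      rw [e1, e2, Category.id_comp, Category.assoc, hg₁0, hone, _root_.one_mul, mul_inv_cancel]
    have key := Groth.Agent.Lib.Helper4.Rigidity1.rigidity XX YY C d x₀ y₀ η[C] hV hW
    have h1 : d = 1 := key
    rw [hd] at h1
    exact mul_inv_eq_one.mp h1
  obtain ⟨h, hh⟩ : ∃ h : A ⊗ B ⟶ C, h = (fst A B ≫ h₁) * (snd A B ≫ h₂) := ⟨_, rfl⟩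
  have hhom : IsMonHom h := by
    rw [hh, Hom.mul_def]; infer_instance
  have hfac : (albX ⊗ₘ albY) ≫ h = g := by
    rw [hh, MonObj.comp_mul, tensorHom_fst_assoc, tensorHom_snd_assoc, hh₁', hh₂', ← hgdecomp]
  refine ⟨h, ⟨hhom, hfac⟩, ?_⟩
  rintro h' ⟨hh'1, hh'2⟩
  haveI := hh'1
  obtain ⟨j₁, hj₁⟩ : ∃ j₁ : A ⟶ A ⊗ B, j₁ = lift (𝟙 A) (toUnit A ≫ η[B]) := ⟨_, rfl⟩
  obtain ⟨j₂, hj₂⟩ : ∃ j₂ : B ⟶ A ⊗ B, j₂ = lift (toUnit B ≫ η[A]) (𝟙 B) := ⟨_, rfl⟩
  haveI : IsMonHom j₁ := by rw [hj₁]; infer_instance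
  haveI : IsMonHom j₂ := by rw [hj₂]; infer_instance
  have hid : 𝟙 (A ⊗ B) = (fst A B ≫ j₁) * (snd A B ≫ j₂) := by
    apply CartesianMonoidalCategory.hom_ext
    · rw [Category.id_comp, MonObj.mul_comp, Category.assoc, Category.assoc, hj₁, hj₂, lift_fst,
        lift_fst, Category.comp_id, ← Category.assoc]
      have : (snd A B ≫ toUnit B) ≫ η[A] = 1 := by
        rw [toUnit_unique (snd A B ≫ toUnit B) (toUnit _)]; rfl
      rw [this, _root_.mul_one]
    · rw [Category.id_comp, MonObj.mul_comp, Category.assoc, Category.assoc, hj₁, hj₂, lift_snd,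
        lift_snd, Category.comp_id, ← Category.assoc]
      have : (fst A B ≫ toUnit A) ≫ η[B] = 1 := by
        rw [toUnit_unique (fst A B ≫ toUnit A) (toUnit _)]; rfl
      rw [this, _root_.one_mul]
  have e1 : j₁ ≫ h' = h₁ := by
    apply huniq₁
    refine ⟨inferInstance, ?_⟩
    have : albX ≫ j₁ = ι₁ ≫ (albX ⊗ₘ albY) := by
      rw [hj₁, hι₁, lift_map, comp_lift, Category.comp_id, Category.id_comp, Category.assoc, halbY,
        ← Category.assoc, toUnit_unique (albX ≫ toUnit A) (toUnit XX)]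
    rw [← Category.assoc, this, Category.assoc, hh'2, hg₁]
  have e2 : j₂ ≫ h' = h₂ := by
    apply huniq₂
    refine ⟨inferInstance, ?_⟩
    have : albY ≫ j₂ = ι₂ ≫ (albX ⊗ₘ albY) := by
      rw [hj₂, hι₂, lift_map, comp_lift, Category.comp_id, Category.id_comp, Category.assoc, halbX,
        ← Category.assoc, toUnit_unique (albY ≫ toUnit B) (toUnit YY)]
    rw [← Category.assoc, this, Category.assoc, hh'2, hg₂]
  calc h' = 𝟙 (A ⊗ B) ≫ h' := (Category.id_comp _).symm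
    _ = ((fst A B ≫ j₁) * (snd A B ≫ j₂)) ≫ h' := by rw [← hid]
    _ = h := by rw [MonObj.mul_comp, Category.assoc, Category.assoc, e1, e2, hh]

theorem main_S14830 (k : Type u) [Field k] (X Y : Scheme.{u}) [X.Over (Spec (CommRingCat.of k))] [Y.Over (Spec (CommRingCat.of k))]
    [IsProper (X ↘ Spec (CommRingCat.of k))] [IsProper (Y ↘ Spec (CommRingCat.of k))]
    [GeometricallyIntegral (X ↘ Spec (CommRingCat.of k))] [GeometricallyIntegral (Y ↘ Spec (CommRingCat.of k))]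
    (x₀ : 𝟙_ (Over (Spec (CommRingCat.of k))) ⟶ Over.mk (X ↘ Spec (CommRingCat.of k))) (y₀ : 𝟙_ (Over (Spec (CommRingCat.of k))) ⟶ Over.mk (Y ↘ Spec (CommRingCat.of k)))
    (A : Over (Spec (CommRingCat.of k))) [GrpObj A] [IsProper A.hom] [GeometricallyIntegral A.hom]
    (albX : Over.mk (X ↘ Spec (CommRingCat.of k)) ⟶ A) (halbX : x₀ ≫ albX = η[A])
    (hunivA : ∀ (C : Over (Spec (CommRingCat.of k))) [GrpObj C] [IsProper C.hom] [GeometricallyReduced C.hom] [ConnectedSpace ↥C.left]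
      (g : Over.mk (X ↘ Spec (CommRingCat.of k)) ⟶ C), x₀ ≫ g = η[C] → ∃! h : A ⟶ C, IsMonHom h ∧ albX ≫ h = g)
    (B : Over (Spec (CommRingCat.of k))) [GrpObj B] [IsProper B.hom] [GeometricallyIntegral B.hom]
    (albY : Over.mk (Y ↘ Spec (CommRingCat.of k)) ⟶ B) (halbY : y₀ ≫ albY = η[B])
    (hunivB : ∀ (C : Over (Spec (CommRingCat.of k))) [GrpObj C] [IsProper C.hom] [GeometricallyReduced C.hom] [ConnectedSpace ↥C.left]
      (g : Over.mk (Y ↘ Spec (CommRingCat.of k)) ⟶ C), y₀ ≫ g = η[C] → ∃! h : B ⟶ C, IsMonHom h ∧ albY ≫ h = g)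
    (C : Over (Spec (CommRingCat.of k))) [GrpObj C] [IsProper C.hom] [GeometricallyReduced C.hom] [ConnectedSpace ↥C.left]
    (g : Over.mk (X ↘ Spec (CommRingCat.of k)) ⊗ Over.mk (Y ↘ Spec (CommRingCat.of k)) ⟶ C) (hg : lift x₀ y₀ ≫ g = η[C]) :
    ∃! h : A ⊗ B ⟶ C, IsMonHom h ∧ (albX ⊗ₘ albY) ≫ h = g := by
  haveI : IsProper (Over.mk (X ↘ Spec (CommRingCat.of k))).hom :=
    ‹IsProper (X ↘ Spec (CommRingCat.of k))›
  haveI : IsProper (Over.mk (Y ↘ Spec (CommRingCat.of k))).hom :=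
    ‹IsProper (Y ↘ Spec (CommRingCat.of k))›
  haveI : GeometricallyIntegral (Over.mk (X ↘ Spec (CommRingCat.of k))).hom :=
    ‹GeometricallyIntegral (X ↘ Spec (CommRingCat.of k))›
  haveI : GeometricallyIntegral (Over.mk (Y ↘ Spec (CommRingCat.of k))).hom :=
    ‹GeometricallyIntegral (Y ↘ Spec (CommRingCat.of k))›
  exact alb_prod _ _ A B C x₀ y₀ albX halbX albY halbY (fun g hg => hunivA C g hg)
    (fun g hg => hunivB C g hg) g hg

end Groth.Agent.Lib.Helper4.AlbProd1
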