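import Mathlib
import Groth.Prelude.Def_AlgGrp
import Groth.Agent.Lib.Helper2.Sch.SchImageGrp
import Groth.Agent.Lib.Helper4.AlbProd1
import Groth.Agent.Lib.Helper6.GrpSch.Sep
import Groth.Agent.Lib.Helper4.GrpArtin2

/-!
# maximal abelian subvariety of a commutative lft group scheme (S14820) (helper4)
-/

set_option backward.isDefEq.respectTransparency.types false
set_option synthInstance.maxHeartbeats 400000
set_option autoImplicit false
set_option linter.unusedSectionVars false
set_option linter.style.haveILetI false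
set_option linter.unusedSimpArgs false
universe u v w
open CategoryTheory CategoryTheory.Limits AlgebraicGeometry TopologicalSpace Opposite
open MonoidalCategory CartesianMonoidalCategory MonObj GrpObj

namespace Groth.Agent.Lib.Helper4.MaxAb1

/-- a surjection from a noetherian local domain which does not lower the dimension is injective -/
theorem injective_of_surjective_of_dim_le {A B : Type u} [CommRing A] [CommRing B] [IsDomain A]
    [IsNoetherianRing A] [IsLocalRing A] (f : A →+* B) (hf : Function.Surjective f)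
    (hd : ringKrullDim A ≤ ringKrullDim B) : Function.Injective f := by
  rw [injective_iff_map_eq_zero]
  intro r hr
  by_contra hne
  have hr0 : r ∈ nonZeroDivisors A := mem_nonZeroDivisors_of_ne_zero hne
  have h1 := ringKrullDim_quotient_succ_le_of_nonZeroDivisor hr0
  let g : A ⧸ Ideal.span {r} →+* B := Ideal.Quotient.lift (Ideal.span {r}) f (by
    intro a ha
    obtain ⟨c, rfl⟩ := Ideal.mem_span_singleton'.mp ha
    rw [map_mul, hr, mul_zero])
  have hg : Function.Surjective g := by
    intro b
    obtain ⟨a, rfl⟩ := hf b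
    exact ⟨Ideal.Quotient.mk _ a, rfl⟩
  have h2 : ringKrullDim B ≤ ringKrullDim (A ⧸ Ideal.span {r}) := ringKrullDim_le_of_surjective g hg
  have h3 : ringKrullDim B + 1 ≤ ringKrullDim B := (add_le_add_left h2 1).trans (h1.trans hd)
  have htop : ringKrullDim B ≠ ⊤ := by
    intro h
    have : ringKrullDim A = ⊤ := top_le_iff.mp (h ▸ (ringKrullDim_le_of_surjective f hf))
    exact ringKrullDim_ne_top this
  have hbot : ringKrullDim B ≠ ⊥ := by
    intro h
    rw [h, le_bot_iff] at hd
    exact ringKrullDim_ne_bot hd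
  obtain ⟨n, hn⟩ : ∃ n : ℕ, ringKrullDim B = n := by
    obtain ⟨m, hm⟩ := WithBot.ne_bot_iff_exists.mp hbot
    have hm_top : m ≠ ⊤ := by
      rintro rfl
      exact htop hm.symm
    obtain ⟨n, hn⟩ := ENat.ne_top_iff_exists.mp hm_top
    exact ⟨n, by rw [← hm, ← hn]; rfl⟩
  rw [hn] at h3
  have : ((n + 1 : ℕ) : WithBot ℕ∞) ≤ (n : WithBot ℕ∞) := by exact_mod_cast h3
  have : n + 1 ≤ n := by exact_mod_cast this
  omega

/-- a closed immersion into an integral locally noetherian scheme which does not lower the
dimension of the local ring at one point is an isomorphism -/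
theorem isIso_of_isClosedImmersion_of_dim_le {M M' : Scheme.{u}} [IsIntegral M']
    [IsLocallyNoetherian M'] (j : M ⟶ M') [IsClosedImmersion j] (x : M)
    (hd : ringKrullDim (M'.presheaf.stalk (j x)) ≤ ringKrullDim (M.presheaf.stalk x)) :
    IsIso j := by
  have hs : Function.Surjective (j.stalkMap x).hom := j.stalkMap_surjective x
  have hinj : Function.Injective (j.stalkMap x).hom :=
    injective_of_surjective_of_dim_le (j.stalkMap x).hom hs hd
  haveI : IsIso (j.stalkMap x) := (ConcreteCategory.isIso_iff_bijective _).2 ⟨hinj, hs⟩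
  haveI : IsIso (Spec.map (j.stalkMap x)) := inferInstance
  have hη : genericPoint M' ∈ Set.range j := by
    have h1 : genericPoint M' ∈ Set.range (M'.fromSpecStalk (j x)) := by
      rw [Scheme.range_fromSpecStalk]
      exact genericPoint_specializes _
    obtain ⟨p', hp'⟩ := h1
    obtain ⟨p, hp⟩ := (Spec.map (j.stalkMap x)).surjective p'
    refine ⟨M.fromSpecStalk x p, ?_⟩
    rw [← Scheme.Hom.comp_apply, ← Scheme.SpecMap_stalkMap_fromSpecStalk, Scheme.Hom.comp_apply,
      hp, hp']
  haveI : Surjective j := by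
    refine ⟨fun y => ?_⟩
    have hcl : IsClosed (Set.range j) := j.isClosedEmbedding.isClosed_range
    have h2 : closure {genericPoint M'} ⊆ Set.range j :=
      hcl.closure_subset_iff.mpr (Set.singleton_subset_iff.mpr hη)
    rw [genericPoint_closure] at h2
    exact h2 trivial
  exact isIso_of_isClosedImmersion_of_surjective j

variable {k : Type u} [Field k]

/-- the target of a schematically dominant quasi-compact morphism from a reduced scheme is reduced -/
theorem isReduced_of_schDominant {P Z : Scheme.{u}} (g : P ⟶ Z) [IsSchemeTheoreticallyDominant g]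
    [QuasiCompact g] [IsReduced P] : IsReduced Z := by
  refine ⟨fun U => ?_⟩
  have hinj : Function.Injective (g.app U).hom := g.app_injective U
  exact isReduced_of_injective (g.app U).hom hinj

/-- geometric reducedness over a field passes to the target of a schematically dominant
quasi-compact morphism -/
theorem geometricallyReduced_of_schDominant {P M : Scheme.{u}} (p : P ⟶ Spec (CommRingCat.of k))
    (m : M ⟶ Spec (CommRingCat.of k)) (g : P ⟶ M) (hg : g ≫ m = p)
    [IsSchemeTheoreticallyDominant g] [QuasiCompact g] [GeometricallyReduced p] :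
    GeometricallyReduced m := by
  haveI : Subsingleton ↥(Spec (CommRingCat.of k)) :=
    inferInstanceAs (Subsingleton (PrimeSpectrum k))
  refine ⟨fun K _ y Z fst snd h => ?_⟩
  haveI : Flat y := inferInstance
  haveI : Flat fst := MorphismProperty.of_isPullback h.flip inferInstance
  have h1 : IsPullback (pullback.fst g fst) (pullback.snd g fst) g fst :=
    IsPullback.of_hasPullback g fst
  haveI : IsSchemeTheoreticallyDominant (pullback.snd g fst) :=
    IsSchemeTheoreticallyDominant.of_isPullback h1
  have h2 : IsPullback (pullback.fst g fst) (pullback.snd g fst ≫ snd) p y := by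
    rw [← hg]
    exact h1.paste_vert h
  haveI : IsReduced (pullback g fst) :=
    GeometricallyReduced.geometrically_isReduced (f := p) y _ _ h2
  exact isReduced_of_schDominant (pullback.snd g fst)

/-- the image of a homomorphism from a proper geometrically reduced connected group is an abelian
subvariety -/
theorem exists_image (P G : Over (Spec (CommRingCat.of k))) [GrpObj P] [GrpObj G]
    [IsProper P.hom] [GeometricallyReduced P.hom] [ConnectedSpace P.left]
    [LocallyOfFiniteType G.hom] (ψ : P ⟶ G) [IsMonHom ψ] :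
    ∃ (M : Over (Spec (CommRingCat.of k))) (_ : GrpObj M) (i : M ⟶ G) (g : P ⟶ M),
      IsMonHom i ∧ IsClosedImmersion i.left ∧ IsProper M.hom ∧ GeometricallyIntegral M.hom ∧
      g ≫ i = ψ := by
  haveI : Subsingleton ↥(Spec (CommRingCat.of k)) :=
    inferInstanceAs (Subsingleton (PrimeSpectrum k))
  haveI : IsSeparated G.hom := Groth.Agent.Lib.Helper6.GrpSch.Sep.isSeparated_of_subsingleton G
  haveI : IsLocallyNoetherian G.left := LocallyOfFiniteType.isLocallyNoetherian G.hom
  haveI : QuasiSeparatedSpace G.left := inferInstance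
  haveI : QuasiSeparated G.hom := (quasiSeparated_iff_quasiSeparatedSpace G.hom).2 inferInstance
  haveI : QuasiCompact (ψ.left ≫ G.hom) := by rw [Over.w ψ]; infer_instance
  haveI : QuasiCompact ψ.left := QuasiCompact.of_comp ψ.left G.hom
  obtain ⟨K, hKdef⟩ : ∃ K : Over (Spec (CommRingCat.of k)), K = Over.mk (ψ.left.imageι ≫ G.hom) :=
    ⟨_, rfl⟩
  subst hKdef
  let i : Over.mk (ψ.left.imageι ≫ G.hom) ⟶ G := Over.homMk ψ.left.imageι rfl
  let g : P ⟶ Over.mk (ψ.left.imageι ≫ G.hom) := Over.homMk ψ.left.toImage (by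
    simp only [Over.mk_hom, Scheme.Hom.toImage_imageι_assoc]
    exact Over.w ψ)
  have hgi : g ≫ i = ψ := by
    ext1
    simp only [g, i, Over.comp_left, Over.homMk_left, Scheme.Hom.toImage_imageι]
  haveI : IsClosedImmersion i.left := inferInstanceAs (IsClosedImmersion ψ.left.imageι)
  haveI : IsSchemeTheoreticallyDominant g.left :=
    inferInstanceAs (IsSchemeTheoreticallyDominant ψ.left.toImage)
  haveI : QuasiCompact (g.left ≫ i.left) := by
    rw [← Over.comp_left, hgi]; infer_instance
  haveI : QuasiCompact g.left := QuasiCompact.of_comp g.left i.left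
  obtain ⟨instK, hi, hg⟩ := Groth.Agent.Helper2.SchImage.exists_grpObj ψ i g hgi
  haveI : LocallyOfFiniteType (Over.mk (ψ.left.imageι ≫ G.hom)).hom := by
    show LocallyOfFiniteType (ψ.left.imageι ≫ G.hom); infer_instance
  haveI : IsSeparated (Over.mk (ψ.left.imageι ≫ G.hom)).hom := by
    show IsSeparated (ψ.left.imageι ≫ G.hom); infer_instance
  haveI : IsProper (g.left ≫ (Over.mk (ψ.left.imageι ≫ G.hom)).hom) := by
    rw [Over.w g]; infer_instance
  haveI : IsProper g.left := IsProper.of_comp g.left (Over.mk (ψ.left.imageι ≫ G.hom)).hom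
  haveI : Surjective g.left := by
    refine ⟨fun y => ?_⟩
    have hcl : IsClosed (Set.range g.left) := g.left.isClosedMap.isClosed_range
    have hd : DenseRange g.left := g.left.denseRange
    have : Set.range g.left = Set.univ := by
      rw [← hcl.closure_eq]; exact hd.closure_range
    have hy : y ∈ Set.range g.left := by rw [this]; trivial
    exact hy
  haveI : UniversallyClosed (Over.mk (ψ.left.imageι ≫ G.hom)).hom :=
    UniversallyClosed.of_comp_surjective g.left _
  haveI : IsProper (Over.mk (ψ.left.imageι ≫ G.hom)).hom := { }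
  haveI : ConnectedSpace ↥(Over.mk (ψ.left.imageι ≫ G.hom)).left :=
    g.left.surjective.connectedSpace g.left.continuous
  haveI : GeometricallyReduced (Over.mk (ψ.left.imageι ≫ G.hom)).hom :=
    geometricallyReduced_of_schDominant P.hom _ g.left (Over.w g)
  exact ⟨_, instK, i, g, hi, inferInstance, inferInstance,
    Groth.Agent.Lib.Helper4.AlbProd1.geometricallyIntegral_of_geomReduced_connected _, hgi⟩

theorem exists_nat_dim (R : Type u) [CommRing R] [IsNoetherianRing R] [IsLocalRing R] :
    ∃ n : ℕ, ringKrullDim R = n := by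
  have htop : ringKrullDim R ≠ ⊤ := ringKrullDim_ne_top
  have hbot : ringKrullDim R ≠ ⊥ := ringKrullDim_ne_bot
  obtain ⟨m, hm⟩ := WithBot.ne_bot_iff_exists.mp hbot
  have hm_top : m ≠ ⊤ := by
    rintro rfl
    exact htop hm.symm
  obtain ⟨n, hn⟩ := ENat.ne_top_iff_exists.mp hm_top
  exact ⟨n, by rw [← hm, ← hn]; rfl⟩

theorem dim_le_of_isClosedImmersion {M M' : Scheme.{u}} (j : M ⟶ M') [IsClosedImmersion j]
    (x : M) (y : M') (h : j x = y) :
    ringKrullDim (M.presheaf.stalk x) ≤ ringKrullDim (M'.presheaf.stalk y) := by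
  subst h
  exact ringKrullDim_le_of_surjective _ (j.stalkMap_surjective x)

theorem geometricallyReduced_tensor (M A : Over (Spec (CommRingCat.of k)))
    [GeometricallyReduced M.hom] [GeometricallyReduced A.hom] [LocallyOfFiniteType A.hom] :
    GeometricallyReduced (M ⊗ A).hom := by
  haveI : Subsingleton ↥(Spec (CommRingCat.of k)) :=
    inferInstanceAs (Subsingleton (PrimeSpectrum k))
  refine ⟨fun K _ y Z fst' snd' h => ?_⟩
  haveI : IsReduced (pullback A.hom y) :=
    GeometricallyReduced.geometrically_isReduced (f := A.hom) y _ _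
      (IsPullback.of_hasPullback A.hom y)
  haveI : LocallyOfFiniteType (pullback.snd A.hom y) := inferInstance
  haveI : IsLocallyNoetherian (pullback A.hom y) :=
    LocallyOfFiniteType.isLocallyNoetherian (pullback.snd A.hom y)
  haveI : Flat M.hom := inferInstance
  haveI : IsReduced (pullback M.hom (pullback.fst A.hom y ≫ A.hom)) := inferInstance
  let e := pullbackLeftPullbackSndIso M.hom A.hom (pullback.fst A.hom y)
  haveI : IsReduced (pullback (pullback.snd M.hom A.hom) (pullback.fst A.hom y)) :=
    isReduced_of_isOpenImmersion e.hom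
  have h1 : IsPullback (pullback.fst (pullback.snd M.hom A.hom) (pullback.fst A.hom y))
      (pullback.snd (pullback.snd M.hom A.hom) (pullback.fst A.hom y) ≫ pullback.snd A.hom y)
      (pullback.snd M.hom A.hom ≫ A.hom) y :=
    (IsPullback.of_hasPullback _ _).paste_vert (IsPullback.of_hasPullback A.hom y)
  have h' : IsPullback (fst' : Z ⟶ pullback M.hom A.hom) snd'
      (pullback.snd M.hom A.hom ≫ A.hom) y := by
    rw [← pullback.condition]; exact h
  exact isReduced_of_isOpenImmersion (h'.isoIsPullback _ _ h1).hom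

theorem connectedSpace_tensor (M A : Over (Spec (CommRingCat.of k))) [GrpObj A]
    [ConnectedSpace M.left] [ConnectedSpace A.left] : ConnectedSpace ↥(M ⊗ A).left := by
  haveI : Subsingleton ↥(Spec (CommRingCat.of k)) :=
    inferInstanceAs (Subsingleton (PrimeSpectrum k))
  exact Groth.Agent.Lib.Helper4.GrpArtin2.connectedSpace_pullback A.hom η[A].left (Over.w η[A]) M.hom

theorem geometricallyReduced_id (S : Scheme.{u}) : GeometricallyReduced (𝟙 S) := by
  refine ⟨fun K _ y Z fst' snd' h => ?_⟩
  haveI : IsIso snd' := h.isIso_snd_of_isIso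
  exact isReduced_of_isOpenImmersion snd'

theorem isMonHom_mul {P G : Over (Spec (CommRingCat.of k))} [MonObj P] [MonObj G] [IsCommMonObj G]
    (f g : P ⟶ G) [IsMonHom f] [IsMonHom g] : IsMonHom (f * g) := by
  rw [Hom.mul_def]; infer_instance

theorem main (k : Type u) [Field k]
    (G : Over (Spec (CommRingCat.of k))) [GrpObj G] [IsCommMonObj G] [LocallyOfFiniteType G.hom] :
    ∃ (M : Over (Spec (CommRingCat.of k))) (_ : GrpObj M) (i : M ⟶ G), IsMonHom i ∧
      IsClosedImmersion i.left ∧ IsProper M.hom ∧ GeometricallyIntegral M.hom ∧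
      ∀ (A : Over (Spec (CommRingCat.of k))) [GrpObj A] [IsProper A.hom]
        [GeometricallyReduced A.hom] [ConnectedSpace ↥A.left]
        (φ : A ⟶ G), IsMonHom φ → ∃ ψ : A ⟶ M, ψ ≫ i = φ := by
  classical
  haveI : Subsingleton ↥(Spec (CommRingCat.of k)) :=
    inferInstanceAs (Subsingleton (PrimeSpectrum k))
  haveI : IsLocallyNoetherian G.left := LocallyOfFiniteType.isLocallyNoetherian G.hom
  obtain ⟨pt⟩ : Nonempty ↥(𝟙_ (Over (Spec (CommRingCat.of k)))).left :=
    inferInstanceAs (Nonempty (PrimeSpectrum k))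
  obtain ⟨N, hN⟩ := exists_nat_dim (G.left.presheaf.stalk (η[G].left pt))
  let Q : ℕ → Prop := fun n => ∃ (M : Over (Spec (CommRingCat.of k))) (_ : GrpObj M) (i : M ⟶ G),
    IsMonHom i ∧ IsClosedImmersion i.left ∧ IsProper M.hom ∧ GeometricallyIntegral M.hom ∧
    ringKrullDim (M.left.presheaf.stalk (η[M].left pt)) = (n : WithBot ℕ∞)
  have hbound : ∀ n, Q n → n ≤ N := by
    rintro n ⟨M, _, i, hi, hci, _, _, hn⟩
    have hpt : i.left (η[M].left pt) = η[G].left pt := by
      rw [← Scheme.Hom.comp_apply, ← Over.comp_left, IsMonHom.one_hom]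
    have := dim_le_of_isClosedImmersion i.left _ _ hpt
    rw [hn, hN] at this
    exact_mod_cast this
  -- images give elements of `Q`
  have hex : ∀ (P : Over (Spec (CommRingCat.of k))) [GrpObj P] [IsProper P.hom]
      [GeometricallyReduced P.hom] [ConnectedSpace P.left] (ψ : P ⟶ G) [IsMonHom ψ],
      ∃ (M : Over (Spec (CommRingCat.of k))) (_ : GrpObj M) (i : M ⟶ G) (g : P ⟶ M) (n : ℕ),
      IsMonHom i ∧ IsClosedImmersion i.left ∧ IsProper M.hom ∧ GeometricallyIntegral M.hom ∧
      g ≫ i = ψ ∧ ringKrullDim (M.left.presheaf.stalk (η[M].left pt)) = (n : WithBot ℕ∞) := by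
    intro P _ _ _ _ ψ _
    obtain ⟨M, instM, i, g, hi, hci, hprop, hgi, hgi'⟩ := exists_image P G ψ
    haveI : IsLocallyNoetherian M.left := LocallyOfFiniteType.isLocallyNoetherian M.hom
    obtain ⟨n, hn⟩ := exists_nat_dim (M.left.presheaf.stalk (η[M].left pt))
    exact ⟨M, instM, i, g, n, hi, hci, hprop, hgi, hgi', hn⟩
  -- base case
  obtain ⟨n₁, hn₁⟩ : ∃ n, Q n := by
    haveI : IsProper (𝟙_ (Over (Spec (CommRingCat.of k)))).hom := by
      show IsProper (𝟙 _); infer_instance
    haveI : GeometricallyReduced (𝟙_ (Over (Spec (CommRingCat.of k)))).hom :=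
      geometricallyReduced_id _
    haveI : ConnectedSpace ↥(𝟙_ (Over (Spec (CommRingCat.of k)))).left :=
      inferInstanceAs (ConnectedSpace ↥(Spec (CommRingCat.of k)))
    obtain ⟨M, instM, i, g, n, hi, hci, hprop, hgi, -, hn⟩ :=
      hex (𝟙_ (Over (Spec (CommRingCat.of k)))) η[G]
    exact ⟨n, M, instM, i, hi, hci, hprop, hgi, hn⟩
  have hQ0 : Q (Nat.findGreatest Q N) := Nat.findGreatest_spec (hbound n₁ hn₁) hn₁
  have hmax : ∀ n, Q n → n ≤ Nat.findGreatest Q N := fun n hn =>
    Nat.le_findGreatest (hbound n hn) hn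
  obtain ⟨n₀, hn₀⟩ : ∃ n₀, n₀ = Nat.findGreatest Q N := ⟨_, rfl⟩
  rw [← hn₀] at hQ0 hmax
  obtain ⟨M, instM, i, hi, hci, hprop, hgi, hdim⟩ := hQ0
  refine ⟨M, instM, i, hi, hci, hprop, hgi, ?_⟩
  intro A _ _ _ _ φ hφ
  haveI : IsIntegral (Spec (CommRingCat.of k)) := inferInstance
  haveI : IsIntegral M.left := GeometricallyIntegral.isIntegral_of_subsingleton M.hom
  haveI : ConnectedSpace ↥M.left := inferInstance
  haveI : GeometricallyReduced M.hom := inferInstance
  haveI : IsProper (M ⊗ A).hom := by
    rw [Over.tensorObj_hom]; infer_instance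
  haveI : GeometricallyReduced (M ⊗ A).hom := geometricallyReduced_tensor M A
  haveI : ConnectedSpace ↥(M ⊗ A).left := connectedSpace_tensor M A
  haveI : IsMonHom ((fst M A ≫ i) * (snd M A ≫ φ)) := isMonHom_mul _ _
  obtain ⟨M', instM', i', g, n', hi', hci', hprop', hgi', hgi'', hn'⟩ :=
    hex (M ⊗ A) ((fst M A ≫ i) * (snd M A ≫ φ))
  have hn'le : n' ≤ n₀ := hmax n' ⟨M', instM', i', hi', hci', hprop', hgi', hn'⟩
  let j : M ⟶ M' := lift (𝟙 M) (toUnit M ≫ η[A]) ≫ g
  have hji : j ≫ i' = i := by
    simp only [j, Category.assoc, hgi'']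
    rw [MonObj.comp_mul, lift_fst_assoc, lift_snd_assoc, Category.id_comp, Category.assoc,
      IsMonHom.one_hom, ← Hom.one_def, _root_.mul_one]
  haveI : IsClosedImmersion (j.left ≫ i'.left) := by
    rw [← Over.comp_left, hji]; infer_instance
  haveI : IsClosedImmersion j.left := IsClosedImmersion.of_comp j.left i'.left
  have hpt : j.left (η[M].left pt) = η[M'].left pt := by
    apply i'.left.isClosedEmbedding.injective
    rw [← Scheme.Hom.comp_apply, ← Over.comp_left, hji, ← Scheme.Hom.comp_apply,
      ← Scheme.Hom.comp_apply, ← Over.comp_left, ← Over.comp_left, IsMonHom.one_hom,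
      IsMonHom.one_hom]
  haveI : IsIntegral M'.left := GeometricallyIntegral.isIntegral_of_subsingleton M'.hom
  haveI : IsLocallyNoetherian M'.left := LocallyOfFiniteType.isLocallyNoetherian M'.hom
  haveI : IsIso j.left := by
    apply isIso_of_isClosedImmersion_of_dim_le j.left (η[M].left pt)
    rw [hpt, hn', hdim]
    exact_mod_cast hn'le
  haveI : IsIso ((Over.forget (Spec (CommRingCat.of k))).map j) := by
    show IsIso j.left; infer_instance
  haveI : IsIso j := isIso_of_reflects_iso j (Over.forget _)
  refine ⟨lift (toUnit A ≫ η[M]) (𝟙 A) ≫ g ≫ inv j, ?_⟩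
  have hinv : inv j ≫ i = i' := by rw [IsIso.inv_comp_eq, hji]
  simp only [Category.assoc, hinv, hgi'']
  rw [MonObj.comp_mul, lift_fst_assoc, lift_snd_assoc, Category.id_comp, Category.assoc,
    IsMonHom.one_hom, ← Hom.one_def, _root_.one_mul]

end Groth.Agent.Lib.Helper4.MaxAb1
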