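import Mathlib
import Groth.Prelude.Def_Pi1
import Groth.Agent.Lib.Helper4.RationalExt1
import Groth.Agent.Lib.Helper4.ValCritBirational1
import Groth.Agent.Lib.Helper6.Normal.Scheme

/-!
# Rational maps from a smooth scheme over a Dedekind domain to a proper scheme extend in codimension one (S11107) (helper4)
-/

set_option backward.isDefEq.respectTransparency.types false
set_option synthInstance.maxHeartbeats 400000
set_option autoImplicit false
set_option linter.unusedSectionVars false
set_option linter.style.haveILetI false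
set_option linter.unusedSimpArgs false
universe u v w
open CategoryTheory CategoryTheory.Limits AlgebraicGeometry TopologicalSpace Opposite

namespace Groth.Agent.Lib.Helper4.NeronExt1

theorem le_one_of_not_two_le (d : WithBot ℕ∞) (h : ¬ (2 : WithBot ℕ∞) ≤ d) : d ≤ 1 := by
  rw [not_le] at h
  induction d using WithBot.recBotCoe with
  | bot => exact bot_le
  | coe n =>
    have h' : n < 2 := by
      have h0 : ((n : ℕ∞) : WithBot ℕ∞) < ((2 : ℕ∞) : WithBot ℕ∞) := h
      exact WithBot.coe_lt_coe.mp h0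
    have : n ≤ 1 := by
      rw [← one_add_one_eq_two] at h'
      exact (ENat.lt_add_one_iff (by simp)).mp h'
    have h3 : ((n : ℕ∞) : WithBot ℕ∞) ≤ ((1 : ℕ∞) : WithBot ℕ∞) := WithBot.coe_le_coe.mpr this
    exact h3

theorem isNormalScheme_spec (R : Type u) [CommRing R] [IsDomain R] [IsIntegrallyClosed R] :
    Pi1.IsNormalScheme (Spec (CommRingCat.of R)) := by
  intro p
  let e1 : Localization.AtPrime p.asIdeal ≃+* (Spec (CommRingCat.of R)).presheaf.stalk p :=
    (StructureSheaf.stalkIso R p).toRingEquiv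
  haveI : IsDomain (Localization.AtPrime p.asIdeal) :=
    IsLocalization.isDomain_localization p.asIdeal.primeCompl_le_nonZeroDivisors
  haveI : IsIntegrallyClosed (Localization.AtPrime p.asIdeal) :=
    isIntegrallyClosed_of_isLocalization _ p.asIdeal.primeCompl p.asIdeal.primeCompl_le_nonZeroDivisors
  exact ⟨e1.symm.toMulEquiv.isDomain, IsIntegrallyClosed.of_equiv e1⟩

theorem main {R : Type u} [CommRing R] [IsDedekindDomain R]
    {X Y : Scheme.{u}} (pX : X ⟶ Spec (CommRingCat.of R)) (pY : Y ⟶ Spec (CommRingCat.of R))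
    [Smooth pX] [IsProper pY] (U : X.Opens) (hU : Dense (U : Set X))
    (f : (U : Scheme.{u}) ⟶ Y) (hf : f ≫ pY = U.ι ≫ pX) :
    ∃ (V : X.Opens) (hUV : U ≤ V) (g : (V : Scheme.{u}) ⟶ Y),
      g ≫ pY = V.ι ≫ pX ∧ X.homOfLE hUV ≫ g = f ∧
      ∀ x : X, x ∉ V → (2 : WithBot ℕ∞) ≤ ringKrullDim (X.presheaf.stalk x) := by
  haveI : IsLocallyNoetherian X := LocallyOfFiniteType.isLocallyNoetherian pX
  have hXn : Pi1.IsNormalScheme X :=
    Groth.Agent.Lib.Helper6.Normal.isNormalScheme_of_smooth pX (isNormalScheme_spec R)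
  haveI : ∀ x : X, _root_.IsReduced (X.presheaf.stalk x) := fun x => by
    haveI := (hXn x).1
    infer_instance
  haveI : IsReduced X := isReduced_of_isReduced_stalk X
  have hD : ∀ x ∈ {x : X | ringKrullDim (X.presheaf.stalk x) ≤ 1},
      ∃ _ : IsDomain (X.presheaf.stalk x), ValuationRing (X.presheaf.stalk x) := by
    intro x hx
    haveI := (hXn x).1
    haveI := (hXn x).2
    exact ⟨inferInstance,
      Groth.Agent.Lib.Helper4.ValCritBirational1.valuationRing_of_dim_le_one _ hx⟩
  obtain ⟨V, hUV, g, h1, h2, h3⟩ := Groth.Agent.Lib.Helper4.RationalExt1.extend_to_proper pY pX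
    {x | ringKrullDim (X.presheaf.stalk x) ≤ 1} hD U hU f hf
  refine ⟨V, hUV, g, h1, h2, fun x hx => ?_⟩
  by_contra hd
  exact hx (h3 x (le_one_of_not_two_le _ hd))

end Groth.Agent.Lib.Helper4.NeronExt1
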