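import Mathlib
import Groth.Prelude.Def_Neron
import Groth.Prelude.Def_Pi1
import Groth.Agent.Lib.Helper4.NeronExt1
import Groth.Agent.Lib.Helper6.Normal.Scheme

/-!
# Closed smooth subschemes of Neron models are Neron models (S18484) (helper4)
-/

set_option backward.isDefEq.respectTransparency.types false
set_option synthInstance.maxHeartbeats 400000
set_option autoImplicit false
set_option linter.unusedSectionVars false
set_option linter.style.haveILetI false
set_option linter.unusedSimpArgs false
universe u v w
open CategoryTheory CategoryTheory.Limits AlgebraicGeometry TopologicalSpace Opposite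

namespace Groth.Agent.Lib.Helper4.NeronClosed1

/-- A morphism from a reduced scheme factors through a closed immersion as soon as it does so on a
dense family of points. -/
theorem exists_lift_of_dense {Y X G : Scheme.{u}} [IsReduced Y] (u : Y ⟶ X) (i : G ⟶ X)
    [IsClosedImmersion i] {Y' : Scheme.{u}} (j : Y' ⟶ Y) (hj : DenseRange j)
    (h : Y' ⟶ G) (hh : h ≫ i = j ≫ u) : ∃ v : Y ⟶ G, v ≫ i = u := by
  haveI : IsClosedImmersion (pullback.fst u i) := inferInstance
  let l : Y' ⟶ pullback u i := pullback.lift j h hh.symm
  have hl : l ≫ pullback.fst u i = j := pullback.lift_fst _ _ _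
  haveI : Surjective (pullback.fst u i) := by
    constructor
    have hcl : IsClosed (Set.range (pullback.fst u i)) :=
      (pullback.fst u i).isClosedEmbedding.isClosed_range
    have hsub : Set.range j ⊆ Set.range (pullback.fst u i) := by
      rintro _ ⟨y, rfl⟩
      exact ⟨l y, by rw [← Scheme.Hom.comp_apply, hl]⟩
    have h2 : closure (Set.range j) ⊆ Set.range (pullback.fst u i) :=
      hcl.closure_subset_iff.mpr hsub
    rw [hj.closure_eq] at h2
    intro y
    exact h2 (Set.mem_univ y)
  haveI : IsIso (pullback.fst u i) := isIso_of_isClosedImmersion_of_surjective _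
  exact ⟨inv (pullback.fst u i) ≫ pullback.snd u i, by
    rw [Category.assoc, ← pullback.condition, IsIso.inv_hom_id_assoc]⟩

theorem denseRange_fst {R : Type u} [CommRing R] [IsDomain R] {Y : Scheme.{u}}
    (p : Y ⟶ Spec (CommRingCat.of R)) [Flat p] :
    DenseRange (pullback.fst p (Neron.genPt R)) := by
  intro y
  let z0 : Spec (CommRingCat.of (FractionRing R)) := ⟨⊥, Ideal.bot_prime⟩
  have hz0 : ((Neron.genPt R) z0).asIdeal = ⊥ := by
    show Ideal.comap (algebraMap R (FractionRing R)) ⊥ = ⊥
    exact Ideal.comap_bot_of_injective _ (IsFractionRing.injective R (FractionRing R))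
  have hη : (Neron.genPt R) z0 ⤳ p y := by
    refine (PrimeSpectrum.le_iff_specializes _ _).mp ?_
    show ((Neron.genPt R) z0).asIdeal ≤ _
    rw [hz0]
    exact bot_le
  obtain ⟨y', hy', hpy'⟩ := (Flat.generalizingMap p) hη
  obtain ⟨z, hz1, -⟩ := Scheme.Pullback.exists_preimage_pullback y' z0 hpy'
  have hmem : y' ∈ Set.range (pullback.fst p (Neron.genPt R)) := ⟨z, hz1⟩
  exact closure_mono (Set.singleton_subset_iff.mpr hmem) (specializes_iff_mem_closure.mp hy')

theorem map_left_fst {R : Type u} [CommRing R] [IsDomain R]
    {A B : Over (Spec (CommRingCat.of R))} (g : A ⟶ B) :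
    ((Neron.genericFibre R).map g).left ≫ pullback.fst B.hom (Neron.genPt R) =
      pullback.fst A.hom (Neron.genPt R) ≫ g.left := by
  simp only [Neron.genericFibre, Over.pullback_map_left]
  exact pullback.lift_fst _ _ _

theorem main (R : Type u) [CommRing R] [IsDedekindDomain R]
    (X G : Over (Spec (CommRingCat.of R)))
    (hX : Neron.IsNeronModelOf R X ((Neron.genericFibre R).obj X) (Iso.refl _))
    (i : G ⟶ X) [IsClosedImmersion i.left] [Smooth G.hom] :
    Neron.IsNeronModelOf R G ((Neron.genericFibre R).obj G) (Iso.refl _) := by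
  obtain ⟨hsm, hsep, hft, hqc, hbij⟩ := hX
  have hG : G.hom = i.left ≫ X.hom := (Over.w i).symm
  haveI : Mono i := (Over.forget _).mono_of_mono_map (inferInstanceAs (Mono i.left))
  refine ⟨inferInstance, ?_, ?_, ?_, ?_⟩
  · rw [hG]; infer_instance
  · rw [hG]; infer_instance
  · rw [hG]; infer_instance
  · intro Y hY
    haveI := hY
    obtain ⟨hinj, hsurj⟩ := hbij Y hY
    constructor
    · intro g₁ g₂ h
      simp only [Iso.refl_hom, Category.comp_id] at h
      have h2 : g₁ ≫ i = g₂ ≫ i := hinj (by
        simp only [Functor.map_comp, Iso.refl_hom, Category.comp_id, h])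
      exact (cancel_mono i).mp h2
    · intro h
      simp only [Iso.refl_hom, Category.comp_id]
      obtain ⟨w, hw⟩ := hsurj (h ≫ (Neron.genericFibre R).map i)
      simp only [Iso.refl_hom, Category.comp_id] at hw
      have hYn : Pi1.IsNormalScheme Y.left :=
        Groth.Agent.Lib.Helper6.Normal.isNormalScheme_of_smooth Y.hom
          (Groth.Agent.Lib.Helper4.NeronExt1.isNormalScheme_spec R)
      haveI : ∀ x : Y.left, _root_.IsReduced (Y.left.presheaf.stalk x) := fun x => by
        haveI := (hYn x).1
        infer_instance
      haveI : IsReduced Y.left := isReduced_of_isReduced_stalk Y.left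
      have hcomp : (h.left ≫ pullback.fst G.hom (Neron.genPt R)) ≫ i.left =
          pullback.fst Y.hom (Neron.genPt R) ≫ w.left := by
        rw [← map_left_fst w, hw, Over.comp_left, Category.assoc, Category.assoc, map_left_fst i]
      obtain ⟨v, hv⟩ := exists_lift_of_dense w.left i.left (pullback.fst Y.hom (Neron.genPt R))
        (denseRange_fst Y.hom) (h.left ≫ pullback.fst G.hom (Neron.genPt R)) hcomp
      have hvw : v ≫ G.hom = Y.hom := by rw [hG, ← Category.assoc, hv, Over.w w]
      refine ⟨Over.homMk v hvw, ?_⟩
      have hvi : Over.homMk v hvw ≫ i = w := by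
        ext
        exact hv
      haveI : Mono ((Neron.genericFibre R).map i) := inferInstance
      rw [← cancel_mono ((Neron.genericFibre R).map i), ← Functor.map_comp, hvi, hw]

end Groth.Agent.Lib.Helper4.NeronClosed1
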