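import Mathlib
import Groth.Prelude.Def_Neron
import Groth.Prelude.Def_Red
import Groth.Agent.Lib.Helper4.NeronClosed1

/-!
# Neron: l-th power map iso when generic fibre killed by p^N (helper4)
-/

set_option backward.isDefEq.respectTransparency.types false
set_option synthInstance.maxHeartbeats 400000
set_option autoImplicit false
set_option linter.unusedSectionVars false
set_option linter.style.haveILetI false
set_option linter.unusedSimpArgs false
universe u v w
open CategoryTheory CategoryTheory.Limits AlgebraicGeometry TopologicalSpace Opposite MonObj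

namespace Groth.Agent.Lib.Helper4.NeronPow1

theorem ext_of_schDominant {W X Y Z : Scheme.{u}} {f g : X ⟶ Y}
    (s : Y ⟶ Z) [IsSeparated s] (h : f ≫ s = g ≫ s)
    (i : W ⟶ X) [IsSchemeTheoreticallyDominant i] (hU : i ≫ f = i ≫ g) : f = g := by
  let X' : Over Z := Over.mk (f ≫ s)
  let Y' : Over Z := Over.mk s
  let U' : Over Z := Over.mk (i ≫ f ≫ s)
  let f' : X' ⟶ Y' := Over.homMk f
  let g' : X' ⟶ Y' := Over.homMk g
  let i' : U' ⟶ X' := Over.homMk i
  have : IsSeparated Y'.hom := ‹_›
  have hc : i' ≫ f' = i' ≫ g' := by ext1; exact hU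
  have hlift : (equalizer.lift i' hc).left ≫ (equalizer.ι f' g').left = i := by
    rw [← Over.comp_left, equalizer.lift_ι]; rfl
  have hker : (equalizer.ι f' g').left.ker = ⊥ := by
    have h1 := Scheme.Hom.le_ker_comp (equalizer.lift i' hc).left (equalizer.ι f' g').left
    rw [hlift, IsSchemeTheoreticallyDominant.ker_eq_bot i] at h1
    exact le_bot_iff.mp h1
  have := IsClosedImmersion.isIso_iff_ker_eq_bot.mpr hker
  rw [← cancel_epi (equalizer.ι f' g').left]
  exact congr($(equalizer.condition f' g').left)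

theorem schDominant_genPt (R : Type u) [CommRing R] [IsDomain R] :
    IsSchemeTheoreticallyDominant (Neron.genPt R) := by
  rw [isSchemeTheoreticallyDominant_iff, Scheme.ker_of_isAffine]
  have hinj : Function.Injective (Neron.genPt R).appTop.hom := by
    have hnat := Scheme.ΓSpecIso_inv_naturality
      (CommRingCat.ofHom (algebraMap R (FractionRing R)))
    have h2 : (Neron.genPt R).appTop = (Scheme.ΓSpecIso (CommRingCat.of R)).hom ≫
        CommRingCat.ofHom (algebraMap R (FractionRing R)) ≫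
          (Scheme.ΓSpecIso (CommRingCat.of (FractionRing R))).inv := by
      rw [hnat, Iso.hom_inv_id_assoc]
    intro a b hab
    rw [h2] at hab
    simp only [CommRingCat.hom_comp, RingHom.coe_comp, Function.comp_apply] at hab
    have h3 := (ConcreteCategory.bijective_of_isIso
        (Scheme.ΓSpecIso (CommRingCat.of (FractionRing R))).inv).1 hab
    have h4 := IsFractionRing.injective R (FractionRing R) h3
    exact (ConcreteCategory.bijective_of_isIso
        (Scheme.ΓSpecIso (CommRingCat.of R)).hom).1 h4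
  have : RingHom.ker (Neron.genPt R).appTop.hom = ⊥ :=
    (RingHom.injective_iff_ker_eq_bot _).mp hinj
  rw [this]
  exact map_bot (Scheme.IdealSheafData.equivOfIsAffine (X := Spec (CommRingCat.of R))).symm

theorem faithful_of_flat (R : Type u) [CommRing R] [IsDomain R]
    {X Y : Over (Spec (CommRingCat.of R))} [Flat X.hom] [IsSeparated Y.hom]
    (f g : X ⟶ Y) (h : (Neron.genericFibre R).map f = (Neron.genericFibre R).map g) : f = g := by
  haveI := schDominant_genPt R
  haveI : QuasiCompact (Neron.genPt R) := inferInstance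
  apply Over.OverMorphism.ext
  refine ext_of_schDominant Y.hom (by rw [Over.w, Over.w])
    (pullback.fst X.hom (Neron.genPt R)) ?_
  rw [← Groth.Agent.Lib.Helper4.NeronClosed1.map_left_fst f,
    ← Groth.Agent.Lib.Helper4.NeronClosed1.map_left_fst g, h]

theorem main
    (R : Type u) [CommRing R] [IsDomain R] [IsDiscreteValuationRing R]
    (p : ℕ) (hp : p.Prime) [CharP (FractionRing R) p]
    (U : Over (Spec (CommRingCat.of R))) [GrpObj U] [IsCommMonObj U] [Flat U.hom] [IsSeparated U.hom]
    (N : ℕ) (hN : (𝟙 (Red.bc (Neron.genPt R) U) : Red.bc (Neron.genPt R) U ⟶ Red.bc (Neron.genPt R) U) ^ (p ^ N) = 1)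
    (ℓ : ℕ) (hℓ : ℓ.Prime) (hℓu : IsUnit (ℓ : R)) :
    IsIso ((𝟙 U : U ⟶ U) ^ ℓ) := by
  have hkill : (𝟙 U : U ⟶ U) ^ (p ^ N) = 1 := by
    apply faithful_of_flat R
    have h1 : (Neron.genericFibre R).map ((𝟙 U : U ⟶ U) ^ (p ^ N)) =
        ((Neron.genericFibre R).map (𝟙 U)) ^ (p ^ N) :=
      map_pow ((Neron.genericFibre R).homMonoidHom (X := U) (M := U)) (𝟙 U) (p ^ N)
    rw [h1, CategoryTheory.Functor.map_id, CategoryTheory.Functor.map_one]
    exact hN
  have hne : ℓ ≠ p := by
    rintro rfl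
    have h0 : ((ℓ : ℕ) : FractionRing R) = 0 := CharP.cast_eq_zero _ _
    have h1 : ((ℓ : ℕ) : R) = 0 := by
      apply IsFractionRing.injective R (FractionRing R)
      rw [map_natCast, h0, map_zero]
    rw [h1] at hℓu
    exact not_isUnit_zero hℓu
  have hcop : Nat.Coprime ℓ (p ^ N) :=
    Nat.Coprime.pow_right N ((Nat.coprime_primes hℓ hp).mpr hne)
  obtain ⟨m, k, hmk⟩ : ∃ m k : ℕ, ℓ * m = 1 + k * p ^ N := by
    by_cases h1 : p ^ N = 1
    · exact ⟨1, ℓ - 1, by rw [h1]; have := hℓ.one_lt; omega⟩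
    · have hlt : 1 < p ^ N := by
        have := Nat.pos_of_ne_zero (pow_ne_zero N hp.ne_zero); omega
      obtain ⟨m, -, hm⟩ := Nat.exists_mul_mod_eq_one_of_coprime hcop hlt
      refine ⟨m, ℓ * m / p ^ N, ?_⟩
      have := Nat.div_add_mod (ℓ * m) (p ^ N)
      rw [hm] at this
      linarith [mul_comm (p ^ N) (ℓ * m / p ^ N)]
  have hpow : (𝟙 U : U ⟶ U) ^ (ℓ * m) = 𝟙 U := by
    rw [hmk, pow_add, pow_one, mul_comm k, pow_mul, hkill, one_pow, _root_.mul_one]
  refine ⟨⟨(𝟙 U : U ⟶ U) ^ m, ?_, ?_⟩⟩
  · rw [MonObj.comp_pow, Category.comp_id, ← pow_mul]; exact hpow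
  · rw [MonObj.comp_pow, Category.comp_id, ← pow_mul, mul_comm]; exact hpow

end Groth.Agent.Lib.Helper4.NeronPow1
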