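import Mathlib
import Groth.Prelude.Def_Neron
import Groth.Prelude.Def_Red
import Groth.Agent.Lib.Helper4.NeronPow1

/-!
# Flat schematic closure of a closed subgroup of the generic fibre is a closed subgroup scheme (S19964) (helper4)
-/

set_option backward.isDefEq.respectTransparency.types false
set_option synthInstance.maxHeartbeats 400000
set_option autoImplicit false
set_option linter.unusedSectionVars false
set_option linter.style.haveILetI false
set_option linter.unusedSimpArgs false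
universe u v w
open CategoryTheory CategoryTheory.Limits AlgebraicGeometry TopologicalSpace Opposite
open MonoidalCategory CartesianMonoidalCategory MonObj

namespace Groth.Agent.Lib.Helper4.SchClosGrp1

section
variable {C : Type u} [Category.{v} C] [CartesianMonoidalCategory C]

/-- A monoid structure on `N` induced from `M` along a monomorphism compatible with given unit and
multiplication. -/
@[reducible] noncomputable def monObjOfMono {M N : C} [MonObj M] (j : N ⟶ M) [Mono j]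
    (one' : 𝟙_ C ⟶ N) (mul' : N ⊗ N ⟶ N)
    (h1 : one' ≫ j = η[M]) (hm : mul' ≫ j = (j ⊗ₘ j) ≫ μ[M]) : MonObj N where
  one := one'
  mul := mul'
  one_mul := by
    rw [← cancel_mono j, Category.assoc, hm, whiskerRight_comp_tensorHom_assoc, h1,
      tensorHom_def', Category.assoc, MonObj.one_mul, leftUnitor_naturality]
  mul_one := by
    rw [← cancel_mono j, Category.assoc, hm, whiskerLeft_comp_tensorHom_assoc, h1,
      MonoidalCategory.tensorHom_def, Category.assoc, MonObj.mul_one, rightUnitor_naturality]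
  mul_assoc := by
    rw [← cancel_mono j]
    simp only [Category.assoc]
    rw [hm, whiskerRight_comp_tensorHom_assoc, hm, whiskerLeft_comp_tensorHom_assoc, hm,
      ← tensorHom_comp_whiskerRight_assoc, MonObj.mul_assoc, associator_naturality_assoc,
      tensorHom_comp_whiskerLeft_assoc]

/-- A group structure on `N` induced from `M` along a monomorphism. -/
@[reducible] noncomputable def grpObjOfMono {M N : C} [GrpObj M] (j : N ⟶ M) [Mono j]
    (one' : 𝟙_ C ⟶ N) (mul' : N ⊗ N ⟶ N) (inv' : N ⟶ N)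
    (h1 : one' ≫ j = η[M]) (hm : mul' ≫ j = (j ⊗ₘ j) ≫ μ[M]) (hi : inv' ≫ j = j ≫ ι[M]) :
    GrpObj N :=
  letI : MonObj N := monObjOfMono j one' mul' h1 hm
  { inv := inv'
    left_inv := by
      rw [← cancel_mono j]
      show (lift inv' (𝟙 N) ≫ mul') ≫ j = (toUnit N ≫ one') ≫ j
      rw [Category.assoc, hm, lift_map_assoc, hi, Category.id_comp, Category.assoc, h1]
      have h2 : lift (j ≫ ι[M]) j = j ≫ lift ι[M] (𝟙 M) := by
        rw [comp_lift, Category.comp_id]
      rw [h2, Category.assoc, GrpObj.left_inv, ← Category.assoc]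
      congr 1
      exact toUnit_unique _ _
    right_inv := by
      rw [← cancel_mono j]
      show (lift (𝟙 N) inv' ≫ mul') ≫ j = (toUnit N ≫ one') ≫ j
      rw [Category.assoc, hm, lift_map_assoc, hi, Category.id_comp, Category.assoc, h1]
      have h2 : lift j (j ≫ ι[M]) = j ≫ lift (𝟙 M) ι[M] := by
        rw [comp_lift, Category.comp_id]
      rw [h2, Category.assoc, GrpObj.right_inv, ← Category.assoc]
      congr 1
      exact toUnit_unique _ _ }

end


/-- lift through a closed immersion using scheme-theoretic dominance -/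
theorem exists_lift_of_schDominant {Z G T T' : Scheme.{u}} (j : Z ⟶ G) [IsClosedImmersion j]
    (ψ : T' ⟶ T) [IsSchemeTheoreticallyDominant ψ] (g : T ⟶ G) (t : T' ⟶ Z)
    (h : ψ ≫ g = t ≫ j) : ∃ l : T ⟶ Z, l ≫ j = g := by
  have hker : j.ker ≤ g.ker := by
    have h1 : (ψ ≫ g).ker = g.ker := by
      rw [Scheme.Hom.ker_comp, ψ.ker_eq_bot, Scheme.IdealSheafData.map_bot]
    rw [← h1, h]
    exact Scheme.Hom.le_ker_comp t j
  exact ⟨IsClosedImmersion.lift j g hker, IsClosedImmersion.lift_fac j g hker⟩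

theorem schDominant_map_left {X' X Y S : Scheme.{u}} (ψ : X' ⟶ X)
    [IsSchemeTheoreticallyDominant ψ] [QuasiCompact ψ]
    (a : X ⟶ S) (b : Y ⟶ S) [Flat b] :
    IsSchemeTheoreticallyDominant
      (pullback.map (ψ ≫ a) b a b ψ (𝟙 Y) (𝟙 S) (by simp) (by simp)) := by
  set m := pullback.map (ψ ≫ a) b a b ψ (𝟙 Y) (𝟙 S) (by simp) (by simp) with hm
  have hsnd : m ≫ pullback.snd a b = pullback.snd (ψ ≫ a) b :=
    (pullback.lift_snd _ _ _).trans (Category.comp_id _)
  have hfst : m ≫ pullback.fst a b = pullback.fst (ψ ≫ a) b ≫ ψ := pullback.lift_fst _ _ _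
  have outer : IsPullback (m ≫ pullback.snd a b) (pullback.fst (ψ ≫ a) b) b (ψ ≫ a) := by
    rw [hsnd]; exact (IsPullback.of_hasPullback (ψ ≫ a) b).flip
  have right : IsPullback (pullback.snd a b) (pullback.fst a b) b a :=
    (IsPullback.of_hasPullback a b).flip
  have left : IsPullback m (pullback.fst (ψ ≫ a) b) (pullback.fst a b) ψ :=
    IsPullback.of_right outer hfst right
  exact IsSchemeTheoreticallyDominant.of_isPullback left.flip

theorem schDominant_map_right {X' X Y S : Scheme.{u}} (ψ : X' ⟶ X)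
    [IsSchemeTheoreticallyDominant ψ] [QuasiCompact ψ]
    (a : X ⟶ S) (b : Y ⟶ S) [Flat b] :
    IsSchemeTheoreticallyDominant
      (pullback.map b (ψ ≫ a) b a (𝟙 Y) ψ (𝟙 S) (by simp) (by simp)) := by
  set m := pullback.map b (ψ ≫ a) b a (𝟙 Y) ψ (𝟙 S) (by simp) (by simp) with hm
  have hfst : m ≫ pullback.fst b a = pullback.fst b (ψ ≫ a) :=
    (pullback.lift_fst _ _ _).trans (Category.comp_id _)
  have hsnd : m ≫ pullback.snd b a = pullback.snd b (ψ ≫ a) ≫ ψ := pullback.lift_snd _ _ _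
  have outer : IsPullback (m ≫ pullback.fst b a) (pullback.snd b (ψ ≫ a)) b (ψ ≫ a) := by
    rw [hfst]; exact IsPullback.of_hasPullback b (ψ ≫ a)
  have right : IsPullback (pullback.fst b a) (pullback.snd b a) b a :=
    IsPullback.of_hasPullback b a
  have left : IsPullback m (pullback.snd b (ψ ≫ a)) (pullback.snd b a) ψ :=
    IsPullback.of_right outer hsnd right
  exact IsSchemeTheoreticallyDominant.of_isPullback left.flip

theorem isIso_mapDesc_of_mono {X Y S T : Scheme.{u}} (f : X ⟶ S) (g : Y ⟶ S) (i : S ⟶ T)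
    [Mono i] : IsIso (pullback.mapDesc f g i) := by
  refine ⟨⟨pullback.lift (pullback.fst _ _) (pullback.snd _ _) ?_, ?_, ?_⟩⟩
  · rw [← cancel_mono i, Category.assoc, Category.assoc, pullback.condition]
  · apply pullback.hom_ext
    · rw [Category.assoc, pullback.lift_fst, Category.id_comp]
      exact (pullback.lift_fst _ _ _).trans (Category.comp_id _)
    · rw [Category.assoc, pullback.lift_snd, Category.id_comp]
      exact (pullback.lift_snd _ _ _).trans (Category.comp_id _)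
  · apply pullback.hom_ext
    · rw [Category.assoc, Category.id_comp]
      erw [pullback.lift_fst]
      rw [Category.comp_id, pullback.lift_fst]
    · rw [Category.assoc, Category.id_comp]
      erw [pullback.lift_snd]
      rw [Category.comp_id, pullback.lift_snd]

theorem ker_toImage_eq_bot {X Y : Scheme.{u}} (f : X ⟶ Y) [QuasiCompact f] :
    f.toImage.ker = ⊥ := by
  refine Scheme.IdealSheafData.ext_of_iSup_eq_top
    (fun W : Y.affineOpens => (⟨f.imageι ⁻¹ᵁ W.1, W.2.preimage f.imageι⟩ : f.image.affineOpens))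
    ?_ ?_
  · show ⨆ W : Y.affineOpens, f.imageι ⁻¹ᵁ W.1 = ⊤
    rw [← Scheme.Hom.preimage_iSup, iSup_affineOpens_eq_top, Scheme.Hom.preimage_top]
  · intro W
    rw [Scheme.Hom.ker_apply, Scheme.IdealSheafData.ideal_bot]
    exact (RingHom.injective_iff_ker_eq_bot _).mp (f.toImage_app_injective W)

theorem isIso_map_of_mono {X Y S T : Scheme.{u}} (f : X ⟶ S) (g : Y ⟶ S) (i : S ⟶ T)
    [Mono i] (f' : X ⟶ T) (g' : Y ⟶ T) (hf : f ≫ i = f') (hg : g ≫ i = g') :
    IsIso (pullback.map f g f' g' (𝟙 X) (𝟙 Y) i (by rw [Category.id_comp, hf])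
      (by rw [Category.id_comp, hg])) := by
  subst hf hg
  exact isIso_mapDesc_of_mono f g i

/-- the comparison map of products for the pullback functor, on underlying schemes -/
noncomputable abbrev ppMap {S Kpt : Scheme.{u}} (q : Kpt ⟶ S) (G : Over S) :
    (Red.bc q G ⊗ Red.bc q G).left ⟶ (G ⊗ G).left :=
  (Functor.LaxMonoidal.μ (Over.pullback q) G G).left ≫ pullback.fst (G ⊗ G).hom q

theorem ppMap_fst {S Kpt : Scheme.{u}} (q : Kpt ⟶ S) (G : Over S) :
    ppMap q G ≫ pullback.fst G.hom G.hom =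
      pullback.fst (Red.bc q G).hom (Red.bc q G).hom ≫ pullback.fst G.hom q := by
  rw [ppMap, Category.assoc]
  exact Over.μ_pullback_left_fst_fst G G

theorem ppMap_snd {S Kpt : Scheme.{u}} (q : Kpt ⟶ S) (G : Over S) :
    ppMap q G ≫ pullback.snd G.hom G.hom =
      pullback.snd (Red.bc q G).hom (Red.bc q G).hom ≫ pullback.fst G.hom q := by
  rw [ppMap, Category.assoc]
  exact Over.μ_pullback_left_fst_snd G G

theorem map_left_fst' {S Kpt : Scheme.{u}} (q : Kpt ⟶ S) {A B : Over S} (k : A ⟶ B) :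
    ((Over.pullback q).map k).left ≫ pullback.fst B.hom q = pullback.fst A.hom q ≫ k.left :=
  pullback.lift_fst _ _ _

theorem mul_left_pr {S Kpt : Scheme.{u}} (q : Kpt ⟶ S) (G : Over S) [GrpObj G] :
    (μ[Red.bc q G]).left ≫ pullback.fst G.hom q = ppMap q G ≫ (μ[G]).left := by
  show ((Functor.LaxMonoidal.μ (Over.pullback q) G G) ≫ (Over.pullback q).map μ[G]).left ≫
    pullback.fst G.hom q = _
  rw [Over.comp_left, Category.assoc, map_left_fst', ppMap, Category.assoc]

theorem one_left_pr {S Kpt : Scheme.{u}} (q : Kpt ⟶ S) (G : Over S) [GrpObj G] :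
    (η[Red.bc q G]).left ≫ pullback.fst G.hom q = q ≫ (η[G]).left := by
  show ((Functor.LaxMonoidal.ε (Over.pullback q)) ≫ (Over.pullback q).map η[G]).left ≫
    pullback.fst G.hom q = _
  rw [Over.comp_left, Category.assoc, map_left_fst', ← Category.assoc]
  congr 1
  rw [Over.ε_pullback_left, IsIso.inv_comp_eq]
  have h := pullback.condition (f := 𝟙 S) (g := q)
  rw [Category.comp_id] at h
  exact h

theorem inv_left_pr {S Kpt : Scheme.{u}} (q : Kpt ⟶ S) (G : Over S) [GrpObj G] :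
    (ι[Red.bc q G]).left ≫ pullback.fst G.hom q = pullback.fst G.hom q ≫ (ι[G]).left := by
  show ((Over.pullback q).map ι[G]).left ≫ pullback.fst G.hom q = _
  exact map_left_fst' q _

theorem exists_grp {S Kpt : Scheme.{u}} (q : Kpt ⟶ S) [Mono q] [Flat q]
    [IsSchemeTheoreticallyDominant q]
    (G : Over S) [GrpObj G] (HK : Over Kpt) [GrpObj HK] [Flat HK.hom]
    (i : HK ⟶ Red.bc q G) [IsMonHom i]
    (Z : Scheme.{u}) (j : Z ⟶ G.left) [IsClosedImmersion j] (φ : HK.left ⟶ Z)
    [IsSchemeTheoreticallyDominant φ] [QuasiCompact φ]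
    (hφj : φ ≫ j = i.left ≫ pullback.fst G.hom q) [Flat (j ≫ G.hom)] :
    ∃ (_ : GrpObj (Over.mk (j ≫ G.hom))),
      IsMonHom (Over.homMk j rfl : Over.mk (j ≫ G.hom) ⟶ G) := by
  let H : Over S := Over.mk (j ≫ G.hom)
  let jH : H ⟶ G := Over.homMk j rfl
  haveI : Mono jH := by
    haveI : Mono jH.left := (inferInstance : Mono j)
    exact Over.mono_of_mono_left jH
  have h1 : φ ≫ H.hom = HK.hom ≫ q := by
    show φ ≫ j ≫ G.hom = HK.hom ≫ q
    rw [← Category.assoc, hφj, Category.assoc, pullback.condition, ← Category.assoc]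
    congr 1
    exact Over.w i
  haveI : Flat (φ ≫ H.hom) := by rw [h1]; infer_instance
  haveI : Flat H.hom := (inferInstance : Flat (j ≫ G.hom))
  let c' : pullback HK.hom HK.hom ⟶ pullback (φ ≫ H.hom) (φ ≫ H.hom) :=
    pullback.map HK.hom HK.hom (φ ≫ H.hom) (φ ≫ H.hom) (𝟙 _) (𝟙 _) q
      (by rw [Category.id_comp, h1]) (by rw [Category.id_comp, h1])
  haveI : IsIso c' := isIso_map_of_mono HK.hom HK.hom q _ _ h1.symm h1.symm
  let ψ1 : pullback (φ ≫ H.hom) (φ ≫ H.hom) ⟶ pullback H.hom (φ ≫ H.hom) :=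
    pullback.map (φ ≫ H.hom) (φ ≫ H.hom) H.hom (φ ≫ H.hom) φ (𝟙 _) (𝟙 _) (by simp) (by simp)
  haveI : IsSchemeTheoreticallyDominant ψ1 := schDominant_map_left φ H.hom (φ ≫ H.hom)
  let ψ2 : pullback H.hom (φ ≫ H.hom) ⟶ pullback H.hom H.hom :=
    pullback.map H.hom (φ ≫ H.hom) H.hom H.hom (𝟙 _) φ (𝟙 _) (by simp) (by simp)
  haveI : IsSchemeTheoreticallyDominant ψ2 := schDominant_map_right φ H.hom H.hom
  obtain ⟨ψ, hψdom, hψfst, hψsnd⟩ : ∃ ψ : pullback HK.hom HK.hom ⟶ pullback H.hom H.hom,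
      IsSchemeTheoreticallyDominant ψ ∧
      ψ ≫ pullback.fst H.hom H.hom = pullback.fst HK.hom HK.hom ≫ φ ∧
      ψ ≫ pullback.snd H.hom H.hom = pullback.snd HK.hom HK.hom ≫ φ := by
    refine ⟨c' ≫ ψ1 ≫ ψ2, inferInstance, ?_, ?_⟩
    · have e1 : ψ2 ≫ pullback.fst H.hom H.hom = pullback.fst H.hom (φ ≫ H.hom) :=
        (pullback.lift_fst _ _ _).trans (Category.comp_id _)
      have e2 : ψ1 ≫ pullback.fst H.hom (φ ≫ H.hom) =
          pullback.fst (φ ≫ H.hom) (φ ≫ H.hom) ≫ φ := pullback.lift_fst _ _ _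
      have e3 : c' ≫ pullback.fst (φ ≫ H.hom) (φ ≫ H.hom) = pullback.fst HK.hom HK.hom :=
        (pullback.lift_fst _ _ _).trans (Category.comp_id _)
      rw [Category.assoc, Category.assoc, e1, e2, ← Category.assoc, e3]
    · have e1 : ψ2 ≫ pullback.snd H.hom H.hom = pullback.snd H.hom (φ ≫ H.hom) ≫ φ :=
        pullback.lift_snd _ _ _
      have e2 : ψ1 ≫ pullback.snd H.hom (φ ≫ H.hom) = pullback.snd (φ ≫ H.hom) (φ ≫ H.hom) :=
        (pullback.lift_snd _ _ _).trans (Category.comp_id _)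
      have e3 : c' ≫ pullback.snd (φ ≫ H.hom) (φ ≫ H.hom) = pullback.snd HK.hom HK.hom :=
        (pullback.lift_snd _ _ _).trans (Category.comp_id _)
      rw [Category.assoc, Category.assoc, e1, ← Category.assoc ψ1, e2, ← Category.assoc, e3]
  -- Claim B
  have hB3 : ψ ≫ (jH ⊗ₘ jH).left = (i ⊗ₘ i).left ≫ ppMap q G := by
    have t1 : (jH ⊗ₘ jH).left ≫ pullback.fst G.hom G.hom = pullback.fst H.hom H.hom ≫ j := by
      rw [Over.tensorHom_left]; exact pullback.lift_fst _ _ _
    have t2 : (i ⊗ₘ i).left ≫ pullback.fst (Red.bc q G).hom (Red.bc q G).hom =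
        pullback.fst HK.hom HK.hom ≫ i.left := by
      rw [Over.tensorHom_left]; exact pullback.lift_fst _ _ _
    have t1' : (jH ⊗ₘ jH).left ≫ pullback.snd G.hom G.hom = pullback.snd H.hom H.hom ≫ j := by
      rw [Over.tensorHom_left]; exact pullback.lift_snd _ _ _
    have t2' : (i ⊗ₘ i).left ≫ pullback.snd (Red.bc q G).hom (Red.bc q G).hom =
        pullback.snd HK.hom HK.hom ≫ i.left := by
      rw [Over.tensorHom_left]; exact pullback.lift_snd _ _ _
    apply pullback.hom_ext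
    · calc (ψ ≫ (jH ⊗ₘ jH).left) ≫ pullback.fst G.hom G.hom
          = ψ ≫ ((jH ⊗ₘ jH).left ≫ pullback.fst G.hom G.hom) := Category.assoc _ _ _
        _ = ψ ≫ (pullback.fst H.hom H.hom ≫ j) := by rw [t1]
        _ = (pullback.fst HK.hom HK.hom ≫ φ) ≫ j := by rw [← Category.assoc, hψfst]
        _ = pullback.fst HK.hom HK.hom ≫ i.left ≫ pullback.fst G.hom q := by
            rw [Category.assoc, hφj]
        _ = ((i ⊗ₘ i).left ≫ pullback.fst (Red.bc q G).hom (Red.bc q G).hom) ≫
              pullback.fst G.hom q := by rw [t2, Category.assoc]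
        _ = ((i ⊗ₘ i).left ≫ ppMap q G) ≫ pullback.fst G.hom G.hom := by
            rw [Category.assoc, Category.assoc, ppMap_fst]
    · calc (ψ ≫ (jH ⊗ₘ jH).left) ≫ pullback.snd G.hom G.hom
          = ψ ≫ ((jH ⊗ₘ jH).left ≫ pullback.snd G.hom G.hom) := Category.assoc _ _ _
        _ = ψ ≫ (pullback.snd H.hom H.hom ≫ j) := by rw [t1']
        _ = (pullback.snd HK.hom HK.hom ≫ φ) ≫ j := by rw [← Category.assoc, hψsnd]
        _ = pullback.snd HK.hom HK.hom ≫ i.left ≫ pullback.fst G.hom q := by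
            rw [Category.assoc, hφj]
        _ = ((i ⊗ₘ i).left ≫ pullback.snd (Red.bc q G).hom (Red.bc q G).hom) ≫
              pullback.fst G.hom q := by rw [t2', Category.assoc]
        _ = ((i ⊗ₘ i).left ≫ ppMap q G) ≫ pullback.snd G.hom G.hom := by
            rw [Category.assoc, Category.assoc, ppMap_snd]
  have hB : ψ ≫ ((jH ⊗ₘ jH) ≫ μ[G]).left = ((μ[HK]).left ≫ φ) ≫ j := by
    rw [Over.comp_left, ← Category.assoc, hB3, Category.assoc, ← mul_left_pr, ← Category.assoc,
      ← Over.comp_left, ← IsMonHom.mul_hom i, Over.comp_left, Category.assoc, Category.assoc, hφj]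
  obtain ⟨lμ, hlμ⟩ := exists_lift_of_schDominant j ψ ((jH ⊗ₘ jH) ≫ μ[G]).left _ hB
  -- Claim C
  have hC : q ≫ (η[G]).left = ((η[HK]).left ≫ φ) ≫ j := by
    rw [← one_left_pr, ← IsMonHom.one_hom i, Over.comp_left, Category.assoc, Category.assoc, hφj]
  obtain ⟨l1, hl1⟩ := exists_lift_of_schDominant j q (η[G]).left _ hC
  -- Claim D
  have hD : φ ≫ (j ≫ (ι[G]).left) = ((ι[HK]).left ≫ φ) ≫ j := by
    rw [← Category.assoc, hφj, Category.assoc, ← inv_left_pr, ← Category.assoc, ← Over.comp_left,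
      ← GrpObj.inv_hom i, Over.comp_left, Category.assoc, Category.assoc, hφj]
  obtain ⟨lι, hlι⟩ := exists_lift_of_schDominant j φ (j ≫ (ι[G]).left) _ hD
  let mulH : H ⊗ H ⟶ H := Over.homMk lμ (by
    show lμ ≫ j ≫ G.hom = (H ⊗ H).hom
    rw [← Category.assoc, hlμ]
    exact Over.w ((jH ⊗ₘ jH) ≫ μ[G]))
  let oneH : 𝟙_ (Over S) ⟶ H := Over.homMk l1 (by
    show l1 ≫ j ≫ G.hom = (𝟙_ (Over S)).hom
    rw [← Category.assoc, hl1]
    exact Over.w η[G])
  let invH : H ⟶ H := Over.homMk lι (by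
    show lι ≫ j ≫ G.hom = j ≫ G.hom
    rw [← Category.assoc, hlι, Category.assoc, Over.w ι[G]])
  have hm : mulH ≫ jH = (jH ⊗ₘ jH) ≫ μ[G] := Over.OverMorphism.ext hlμ
  have ho : oneH ≫ jH = η[G] := Over.OverMorphism.ext hl1
  have hi : invH ≫ jH = jH ≫ ι[G] := Over.OverMorphism.ext hlι
  letI inst : GrpObj H := grpObjOfMono jH oneH mulH invH ho hm hi
  exact ⟨inst, { one_hom := ho, mul_hom := hm }⟩

theorem ringHom_flat_of_injective_of_fraction {R : Type u} [CommRing R] [IsDedekindDomain R]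
    {B C : Type u} [CommRing B] [CommRing C] (α : R →+* B) (β : B →+* C)
    (hβ : Function.Injective β) (gam : FractionRing R →+* C)
    (hgam : β.comp α = gam.comp (algebraMap R (FractionRing R))) : α.Flat := by
  letI := α.toAlgebra
  show Module.Flat R B
  haveI : Module.IsTorsionFree R B := by
    apply Module.IsTorsionFree.of_smul_eq_zero
    intro r b hrb
    by_cases hr : r = 0
    · exact Or.inl hr
    · right
      apply hβ
      rw [map_zero]
      have h1 : β (α r) * β b = 0 := by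
        rw [← map_mul]
        have h0 : α r * b = r • b := (Algebra.smul_def r b).symm
        rw [h0, hrb, map_zero]
      have h2 : β (α r) = gam (algebraMap R (FractionRing R) r) := RingHom.congr_fun hgam r
      have hu : IsUnit (β (α r)) := by
        rw [h2]
        apply IsUnit.map
        rw [isUnit_iff_ne_zero]
        exact (map_ne_zero_iff _ (IsFractionRing.injective R (FractionRing R))).mpr hr
      exact (hu.mul_right_eq_zero).mp h1
  infer_instance

theorem appLE_congr_hom {X Y : Scheme.{u}} {f g : X ⟶ Y} (h : f = g) (U : Y.Opens) (V : X.Opens)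
    (e : V ≤ f ⁻¹ᵁ U) (e' : V ≤ g ⁻¹ᵁ U) : f.appLE U V e = g.appLE U V e' := by
  subst h; rfl

theorem appLE_top_comp_eq {X Y : Scheme.{u}} {R K : Type u} [CommRing R] [CommRing K]
    (ρ : R →+* K) (a : X ⟶ Spec (CommRingCat.of R)) (b : Y ⟶ Spec (CommRingCat.of K))
    (v : Y ⟶ X) (hv : v ≫ a = b ≫ Spec.map (CommRingCat.ofHom ρ)) (V : X.Opens) (r : R) :
    (v.app V).hom ((a.appLE ⊤ V le_top).hom ((Scheme.ΓSpecIso (CommRingCat.of R)).inv.hom r)) =
      (b.appLE ⊤ (v ⁻¹ᵁ V) le_top).hom ((Scheme.ΓSpecIso (CommRingCat.of K)).inv.hom (ρ r)) := by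
  have h1 : a.appLE ⊤ V le_top ≫ v.app V = (v ≫ a).appLE ⊤ (v ⁻¹ᵁ V) le_top := by
    rw [Scheme.Hom.app_eq_appLE, Scheme.Hom.appLE_comp_appLE]
  have h2 : (v ≫ a).appLE ⊤ (v ⁻¹ᵁ V) le_top =
      (b ≫ Spec.map (CommRingCat.ofHom ρ)).appLE ⊤ (v ⁻¹ᵁ V) le_top :=
    appLE_congr_hom hv _ _ _ _
  have h3 : (b ≫ Spec.map (CommRingCat.ofHom ρ)).appLE ⊤ (v ⁻¹ᵁ V) le_top =
      (Spec.map (CommRingCat.ofHom ρ)).appTop ≫ b.appLE ⊤ (v ⁻¹ᵁ V) le_top := by
    rw [Scheme.Hom.comp_appLE]; rfl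
  have h4 := Scheme.ΓSpecIso_inv_naturality (CommRingCat.ofHom ρ)
  have h5 : (Scheme.ΓSpecIso (CommRingCat.of R)).inv ≫ a.appLE ⊤ V le_top ≫ v.app V =
      CommRingCat.ofHom ρ ≫ (Scheme.ΓSpecIso (CommRingCat.of K)).inv ≫
        b.appLE ⊤ (v ⁻¹ᵁ V) le_top := by
    rw [h1, h2, h3, ← Category.assoc, ← h4, Category.assoc]
  have h6 := congr($(h5).hom r)
  simpa only [CommRingCat.hom_comp, RingHom.comp_apply, CommRingCat.hom_ofHom] using h6

theorem flat_imageι_comp (R : Type u) [CommRing R] [IsDedekindDomain R]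
    {X Y : Scheme.{u}} (a : X ⟶ Spec (CommRingCat.of R))
    (b : Y ⟶ Spec (CommRingCat.of (FractionRing R)))
    (v : Y ⟶ X) [QuasiCompact v] (hv : v ≫ a = b ≫ Neron.genPt R) :
    Flat (v.imageι ≫ a) := by
  rw [HasRingHomProperty.iff_of_iSup_eq_top (P := @Flat)
    (fun W : X.affineOpens => (⟨v.imageι ⁻¹ᵁ W.1, W.2.preimage v.imageι⟩ : v.image.affineOpens))
    (by
      show ⨆ W : X.affineOpens, v.imageι ⁻¹ᵁ W.1 = ⊤
      rw [← Scheme.Hom.preimage_iSup, iSup_affineOpens_eq_top, Scheme.Hom.preimage_top])]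
  intro W
  have hv' : v.toImage ≫ (v.imageι ≫ a) =
      b ≫ Spec.map (CommRingCat.ofHom (algebraMap R (FractionRing R))) := by
    rw [← Category.assoc, v.toImage_imageι]; exact hv
  let α : R →+* Γ(v.image, v.imageι ⁻¹ᵁ W.1) :=
    ((v.imageι ≫ a).appLE ⊤ (v.imageι ⁻¹ᵁ W.1) le_top).hom.comp
      (Scheme.ΓSpecIso (CommRingCat.of R)).inv.hom
  let β : Γ(v.image, v.imageι ⁻¹ᵁ W.1) →+* Γ(Y, v.toImage ⁻¹ᵁ (v.imageι ⁻¹ᵁ W.1)) :=
    (v.toImage.app (v.imageι ⁻¹ᵁ W.1)).hom
  let gam : FractionRing R →+* Γ(Y, v.toImage ⁻¹ᵁ (v.imageι ⁻¹ᵁ W.1)) :=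
    (b.appLE ⊤ (v.toImage ⁻¹ᵁ (v.imageι ⁻¹ᵁ W.1)) le_top).hom.comp
      (Scheme.ΓSpecIso (CommRingCat.of (FractionRing R))).inv.hom
  have hα : α.Flat := by
    refine ringHom_flat_of_injective_of_fraction α β (v.toImage_app_injective W) gam ?_
    ext r
    exact appLE_top_comp_eq (algebraMap R (FractionRing R)) (v.imageι ≫ a) b v.toImage hv'
      (v.imageι ⁻¹ᵁ W.1) r
  have hcomp : ((v.imageι ≫ a).appLE ⊤ (v.imageι ⁻¹ᵁ W.1) le_top).hom =
      α.comp (Scheme.ΓSpecIso (CommRingCat.of R)).hom.hom := by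
    ext x
    simp only [α, RingHom.comp_apply]
    congr 1
    rw [← RingHom.comp_apply, ← CommRingCat.hom_comp, Iso.hom_inv_id]; rfl
  show ((v.imageι ≫ a).appLE ⊤ (v.imageι ⁻¹ᵁ W.1) le_top).hom.Flat
  rw [hcomp]
  exact RingHom.Flat.comp (RingHom.Flat.of_bijective (ConcreteCategory.bijective_of_isIso _)) hα

theorem isPullback_toImage {S Kpt : Scheme.{u}} (q : Kpt ⟶ S) [Mono q] [Flat q]
    {Gl HKl Z : Scheme.{u}} (gG : Gl ⟶ S) (hK : HKl ⟶ Kpt)
    (il : HKl ⟶ pullback gG q) [IsClosedImmersion il] (hil : il ≫ pullback.snd gG q = hK)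
    (j : Z ⟶ Gl) [IsClosedImmersion j] (φ : HKl ⟶ Z) [IsSchemeTheoreticallyDominant φ]
    [QuasiCompact φ] (hφj : φ ≫ j = il ≫ pullback.fst gG q) :
    IsPullback φ hK (j ≫ gG) q := by
  have h1 : φ ≫ (j ≫ gG) = hK ≫ q := by
    rw [← Category.assoc, hφj, Category.assoc, pullback.condition, ← Category.assoc, hil]
  let θ : HKl ⟶ pullback (j ≫ gG) q := pullback.lift φ hK h1
  let jK : pullback (j ≫ gG) q ⟶ pullback gG q :=
    pullback.map (j ≫ gG) q gG q j (𝟙 _) (𝟙 _) (by simp) (by simp)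
  have hjKfst : jK ≫ pullback.fst gG q = pullback.fst (j ≫ gG) q ≫ j := pullback.lift_fst _ _ _
  have hjKsnd : jK ≫ pullback.snd gG q = pullback.snd (j ≫ gG) q :=
    (pullback.lift_snd _ _ _).trans (Category.comp_id _)
  have hθfst : θ ≫ pullback.fst (j ≫ gG) q = φ := pullback.lift_fst _ _ _
  have hθsnd : θ ≫ pullback.snd (j ≫ gG) q = hK := pullback.lift_snd _ _ _
  have hθj : θ ≫ jK = il := by
    apply pullback.hom_ext
    · rw [Category.assoc, hjKfst, ← Category.assoc, hθfst, hφj]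
    · rw [Category.assoc, hjKsnd, hθsnd, hil]
  haveI : Mono jK := by
    constructor
    intro T a b hab
    apply pullback.hom_ext
    · rw [← cancel_mono j, Category.assoc, Category.assoc, ← hjKfst, ← Category.assoc,
        ← Category.assoc, hab]
    · rw [← hjKsnd, ← Category.assoc, ← Category.assoc, hab]
  haveI : IsClosedImmersion (θ ≫ jK) := by rw [hθj]; infer_instance
  haveI : IsClosedImmersion θ := IsClosedImmersion.of_comp θ jK
  have hpb : IsPullback (𝟙 HKl) θ φ (pullback.fst (j ≫ gG) q) := by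
    have right : IsPullback (pullback.snd (j ≫ gG) q) (pullback.fst (j ≫ gG) q) q (j ≫ gG) :=
      (IsPullback.of_hasPullback (j ≫ gG) q).flip
    have outer : IsPullback (θ ≫ pullback.snd (j ≫ gG) q) (𝟙 HKl) q (φ ≫ j ≫ gG) := by
      rw [hθsnd, h1]
      have h0 := (IsPullback.id_vert hK).paste_horiz (IsKernelPair.id_of_mono q)
      rwa [Category.comp_id] at h0
    exact (IsPullback.of_right outer (by rw [hθfst, Category.id_comp]) right).flip
  haveI : IsSchemeTheoreticallyDominant θ := IsSchemeTheoreticallyDominant.of_isPullback hpb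
  haveI : IsIso θ := IsClosedImmersion.isIso_iff_ker_eq_bot.mpr θ.ker_eq_bot
  exact IsPullback.of_iso_pullback ⟨h1⟩ (asIso θ) hθfst hθsnd

theorem mono_genPt (R : Type u) [CommRing R] [IsDomain R] : Mono (Neron.genPt R) := by
  have : Epi (CommRingCat.ofHom (algebraMap R (FractionRing R))) :=
    IsLocalization.epi (nonZeroDivisors R) (FractionRing R)
  have : Mono (CommRingCat.ofHom (algebraMap R (FractionRing R))).op := inferInstance
  exact (inferInstance :
    Mono (Scheme.Spec.map (CommRingCat.ofHom (algebraMap R (FractionRing R))).op))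

theorem flat_genPt (R : Type u) [CommRing R] [IsDomain R] : Flat (Neron.genPt R) := by
  rw [Neron.genPt, HasRingHomProperty.Spec_iff (P := @Flat)]
  show (algebraMap R (FractionRing R)).Flat
  rw [RingHom.flat_algebraMap_iff]
  exact IsLocalization.flat (FractionRing R) (nonZeroDivisors R)

theorem main
    (R : Type u) [CommRing R] [IsDedekindDomain R]
    (G : Over (Spec (CommRingCat.of R))) [GrpObj G]
    (HK : Over (Spec (CommRingCat.of (FractionRing R)))) [GrpObj HK]
    (i : HK ⟶ Red.bc (Neron.genPt R) G) [IsMonHom i] [IsClosedImmersion i.left] :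
    ∃ (H : Over (Spec (CommRingCat.of R))) (_ : GrpObj H) (j : H ⟶ G) (φ : HK.left ⟶ H.left),
      IsMonHom j ∧ IsClosedImmersion j.left ∧ Flat H.hom ∧
      IsPullback φ HK.hom H.hom (Neron.genPt R) ∧
      φ ≫ j.left = i.left ≫ pullback.fst G.hom (Neron.genPt R) ∧
      φ.ker = ⊥ := by
  haveI : Mono (Neron.genPt R) := mono_genPt R
  haveI : Flat (Neron.genPt R) := flat_genPt R
  haveI : IsSchemeTheoreticallyDominant (Neron.genPt R) :=
    Groth.Agent.Lib.Helper4.NeronPow1.schDominant_genPt R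
  let u : HK.left ⟶ G.left := i.left ≫ pullback.fst G.hom (Neron.genPt R)
  haveI : QuasiCompact u := inferInstance
  have hu : u ≫ G.hom = HK.hom ≫ Neron.genPt R := by
    show (i.left ≫ pullback.fst _ _) ≫ G.hom = _
    rw [Category.assoc, pullback.condition, ← Category.assoc]
    congr 1
    exact Over.w i
  haveI hflat : Flat (u.imageι ≫ G.hom) := flat_imageι_comp R G.hom HK.hom u hu
  haveI : IsSchemeTheoreticallyDominant u.toImage := ⟨ker_toImage_eq_bot u⟩
  haveI : Flat HK.hom := inferInstance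
  obtain ⟨inst, hmon⟩ := exists_grp (Neron.genPt R) G HK i u.image u.imageι u.toImage
    u.toImage_imageι
  refine ⟨Over.mk (u.imageι ≫ G.hom), inst, Over.homMk u.imageι rfl, u.toImage, hmon, ?_, hflat,
    ?_, u.toImage_imageι, ker_toImage_eq_bot u⟩
  · show IsClosedImmersion u.imageι
    infer_instance
  · exact isPullback_toImage (Neron.genPt R) G.hom HK.hom i.left (Over.w i) u.imageι u.toImage
      u.toImage_imageι

end Groth.Agent.Lib.Helper4.SchClosGrp1
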