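import Mathlib
import Groth.Prelude.Def_AlgGrp
import Groth.Agent.Lib.Helper4.MaxAb1
import Groth.Agent.Lib.Helper4.FibTransl1
import Groth.Agent.Lib.Helper4.SchClosGrp1
import Groth.Agent.Lib.Helper6.GrpSm.Perfect
import Groth.Agent.Lib.Helper7.SmoothBC.MinPrime
import Groth.Agent.Lib.Helper3.GeomReducedProd

/-!
# closed subscheme with all separable points of a group is a smooth subgroup (S8245) (helper4)
-/

set_option backward.isDefEq.respectTransparency.types false
set_option synthInstance.maxHeartbeats 400000
set_option autoImplicit false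
set_option linter.unusedSectionVars false
set_option linter.style.haveILetI false
set_option linter.unusedSimpArgs false
universe u v w
open CategoryTheory CategoryTheory.Limits AlgebraicGeometry TopologicalSpace Opposite
open MonoidalCategory CartesianMonoidalCategory MonObj GrpObj
open scoped TensorProduct

namespace Groth.Agent.Lib.Helper4.SepSub1

/-- a geometrically reduced group scheme locally of finite type over a field is smooth -/
theorem smooth_of_grpObj_of_geometricallyReduced {K : Type u} [Field K] {G : Scheme.{u}}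
    (f : G ⟶ Spec (.of K)) [LocallyOfFiniteType f] [GrpObj (Over.mk f)]
    [GeometricallyReduced f] : Smooth f := by
  let Ω : Type u := AlgebraicClosure K
  let g : Spec (.of Ω) ⟶ Spec (.of K) := Spec.map (CommRingCat.ofHom <| algebraMap K Ω)
  apply MorphismProperty.of_pullback_snd_of_descendsAlong
    (Q := @Surjective ⊓ @Flat ⊓ @QuasiCompact) (g := g)
  · exact ⟨⟨inferInstance, inferInstance⟩, inferInstance⟩
  · let : GrpObj (Over.mk (Limits.pullback.snd f g)) := Over.grpObjMkPullbackSnd
    apply Groth.Agent.Lib.Helper6.GrpSm.smooth_of_grpObj_of_isAlgClosed_of_nonempty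
    haveI : IsReduced (pullback f g) :=
      GeometricallyReduced.geometrically_isReduced (f := f) g _ _ (IsPullback.of_hasPullback f g)
    have : Nonempty G := ⟨η[Over.mk f].1 (IsLocalRing.closedPoint _)⟩
    obtain ⟨y⟩ := this
    obtain ⟨z, hz⟩ := (Limits.pullback.fst f g).surjective y
    haveI : Nonempty ↥(pullback f g) := ⟨z⟩
    exact (Limits.pullback.snd f g).dense_smoothLocus_of_perfectField.nonempty

/-- affine case: a geometrically reduced algebra over a field is geometrically reduced in the
algebraic sense -/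
theorem isReduced_tensor_of_geometricallyReduced (k : Type u) [Field k] (R : Type u) [CommRing R]
    [Algebra k R] [hA : GeometricallyReduced (Spec.map (CommRingCat.ofHom (algebraMap k R)))]
    (K : Type u) [Field K] [Algebra k K] : _root_.IsReduced (K ⊗[k] R) := by
  have h1 : IsReduced (pullback (Spec.map (CommRingCat.ofHom (algebraMap k R)))
      (Spec.map (CommRingCat.ofHom (algebraMap k K)))) :=
    pullback_of_geometrically hA.geometrically_isReduced K _
  have h2 : IsReduced (Spec (.of (R ⊗[k] K))) :=
    isReduced_of_isOpenImmersion (pullbackSpecIso k R K).inv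
  have h3 : _root_.IsReduced (R ⊗[k] K) := (affine_isReduced_iff _).mp h2
  exact isReduced_of_injective (Algebra.TensorProduct.comm k K R).toRingHom
    (Algebra.TensorProduct.comm k K R).injective

/-- every point of a geometrically reduced scheme over a field is a specialization of the image
of a point with values in a separable (geometrically reduced) extension field -/
theorem exists_sep_point_specializes (k : Type u) [Field k] {W : Scheme.{u}}
    (p : W ⟶ Spec (CommRingCat.of k)) [GeometricallyReduced p] (w : W) :
    ∃ (k' : Type u) (_ : Field k') (_ : Algebra k k') (_ : Algebra.IsGeometricallyReduced k k')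
      (x : Spec (CommRingCat.of k') ⟶ W) (t : ↥(Spec (CommRingCat.of k'))),
      x ≫ p = Spec.map (CommRingCat.ofHom (algebraMap k k')) ∧ x t ⤳ w := by
  obtain ⟨R, j, hj, w', hw'⟩ : ∃ (R : CommRingCat.{u}) (j : Spec R ⟶ W), IsOpenImmersion j ∧
      ∃ w' : ↥(Spec R), j w' = w :=
    ⟨_, W.affineCover.f (W.affineCover.idx w), W.affineCover.map_prop _, W.affineCover.covers w⟩
  obtain ⟨φ, hφ⟩ : ∃ φ : CommRingCat.of k ⟶ R, Spec.map φ = j ≫ p :=
    ⟨Spec.preimage _, Spec.map_preimage _⟩
  letI alg : Algebra k R := φ.hom.toAlgebra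
  have hφ' : Spec.map (CommRingCat.ofHom (algebraMap k R)) = j ≫ p := by rw [← hφ]; rfl
  haveI : GeometricallyReduced (j ≫ p) :=
    Groth.Agent.Helper3.geometricallyReduced_comp_of_isOpenImmersion j p
  haveI : GeometricallyReduced (Spec.map (CommRingCat.ofHom (algebraMap k R))) := by
    rw [hφ']; infer_instance
  haveI hred : _root_.IsReduced (AlgebraicClosure k ⊗[k] R) :=
    isReduced_tensor_of_geometricallyReduced k R (AlgebraicClosure k)
  haveI : Algebra.IsGeometricallyReduced k R :=
    (Algebra.isGeometricallyReduced_field_iff k R).mpr hred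
  haveI : _root_.IsReduced R := Algebra.isReduced_of_isGeometricallyReduced k
  obtain ⟨q, hq, hqw⟩ := Ideal.exists_minimalPrimes_le (I := ⊥) (J := w'.asIdeal) bot_le
  haveI hqp : q.IsPrime := hq.1.1
  haveI : Ring.KrullDimLE 0 (Localization.AtPrime q) := .of_isLocalization _ hq _
  letI fld : Field (Localization.AtPrime q) := Ring.KrullDimLE.isField_of_isReduced.toField
  haveI : _root_.IsReduced (AlgebraicClosure k ⊗[k] Localization.AtPrime q) :=
    Groth.Agent.Helper7.SmoothBC.isReduced_tensor_of_isLocalization k (AlgebraicClosure k) R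
      (Localization.AtPrime q) q.primeCompl
  have hgr : Algebra.IsGeometricallyReduced k (Localization.AtPrime q) :=
    (Algebra.isGeometricallyReduced_field_iff k _).mpr this
  refine ⟨Localization.AtPrime q, fld, inferInstance, hgr,
    Spec.map (CommRingCat.ofHom (algebraMap R (Localization.AtPrime q))) ≫ j,
    IsLocalRing.closedPoint (Localization.AtPrime q), ?_, ?_⟩
  · rw [Category.assoc, ← hφ', ← Spec.map_comp, ← CommRingCat.ofHom_comp,
      ← IsScalarTower.algebraMap_eq]
  · rw [← hw', Scheme.Hom.comp_apply]
    apply Specializes.map _ j.continuous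
    have h1 : (Spec.map (CommRingCat.ofHom (algebraMap R (Localization.AtPrime q))))
        (IsLocalRing.closedPoint (Localization.AtPrime q)) = ⟨q, hqp⟩ := by
      apply PrimeSpectrum.ext
      exact IsLocalization.AtPrime.comap_maximalIdeal (Localization.AtPrime q) q
    rw [h1]
    show (⟨q, hqp⟩ : PrimeSpectrum R) ⤳ w'
    rw [← PrimeSpectrum.le_iff_specializes]
    exact hqw

variable {k : Type u} [Field k]

theorem isReduced_of_geometricallyReduced (T : Over (Spec (CommRingCat.of k)))
    [GeometricallyReduced T.hom] : IsReduced T.left := by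
  have h : IsPullback (𝟙 T.left) T.hom T.hom (𝟙 (Spec (CommRingCat.of k))) :=
    IsPullback.of_horiz_isIso ⟨by simp⟩
  exact GeometricallyReduced.geometrically_isReduced (f := T.hom) (𝟙 _) (𝟙 _) T.hom h

/-- morphisms from geometrically reduced schemes factor through a closed subscheme containing all
separable points -/
theorem exists_lift_of_sep_points (G Z : Over (Spec (CommRingCat.of k))) (z : Z ⟶ G)
    [IsClosedImmersion z.left]
    (hpts : ∀ (k' : Type u) [Field k'] [Algebra k k'] [Algebra.IsGeometricallyReduced k k']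
      (x : Spec (CommRingCat.of k') ⟶ G.left),
      x ≫ G.hom = Spec.map (CommRingCat.ofHom (algebraMap k k')) →
      ∃ y : Spec (CommRingCat.of k') ⟶ Z.left, y ≫ z.left = x)
    (T : Over (Spec (CommRingCat.of k))) [GeometricallyReduced T.hom] (t : T ⟶ G) :
    ∃ t' : T ⟶ Z, t' ≫ z = t := by
  haveI : IsReduced T.left := isReduced_of_geometricallyReduced T
  have hsub : Set.range t.left ⊆ Set.range z.left := by
    rintro _ ⟨w, rfl⟩
    obtain ⟨k', fld, alg, hgr, x, t₀, hx, hsp⟩ := exists_sep_point_specializes k T.hom w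
    obtain ⟨y, hy⟩ := hpts k' (x ≫ t.left) (by rw [Category.assoc, Over.w t, hx])
    have hcl : IsClosed (Set.range z.left) := z.left.isClosedEmbedding.isClosed_range
    have h1 : t.left (x t₀) ∈ Set.range z.left :=
      ⟨y t₀, by rw [← Scheme.Hom.comp_apply, hy, Scheme.Hom.comp_apply]⟩
    exact (hsp.map t.left.continuous).mem_closed hcl h1
  obtain ⟨g, hg⟩ := Groth.Agent.Lib.Helper4.FibTransl1.exists_lift_of_range_subset z.left t.left hsub
  refine ⟨Over.homMk g ?_, ?_⟩
  · rw [← Over.w z, ← Category.assoc, hg, Over.w t]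
  · ext1
    simp only [Over.comp_left, Over.homMk_left, hg]

theorem main_S8245 (k : Type u) [Field k]
    (G : Over (Spec (CommRingCat.of k))) [GrpObj G] [LocallyOfFiniteType G.hom]
    (Z : Over (Spec (CommRingCat.of k))) (z : Z ⟶ G) (hz : IsClosedImmersion z.left)
    (hred : GeometricallyReduced Z.hom)
    (hpts : ∀ (k' : Type u) [Field k'] [Algebra k k'] [Algebra.IsGeometricallyReduced k k']
      (x : Spec (CommRingCat.of k') ⟶ G.left),
      x ≫ G.hom = Spec.map (CommRingCat.ofHom (algebraMap k k')) →
      ∃ y : Spec (CommRingCat.of k') ⟶ Z.left, y ≫ z.left = x) :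
    Smooth Z.hom ∧ ∃ inst : GrpObj Z, IsMonHom z := by
  haveI : LocallyOfFiniteType Z.hom := by
    rw [← Over.w z]; infer_instance
  haveI : GeometricallyReduced (Z ⊗ Z).hom :=
    Groth.Agent.Lib.Helper4.MaxAb1.geometricallyReduced_tensor Z Z
  haveI : GeometricallyReduced (𝟙_ (Over (Spec (CommRingCat.of k)))).hom :=
    Groth.Agent.Lib.Helper4.MaxAb1.geometricallyReduced_id _
  obtain ⟨mul', hm⟩ := exists_lift_of_sep_points G Z z hpts (Z ⊗ Z) ((z ⊗ₘ z) ≫ μ[G])
  obtain ⟨inv', hi⟩ := exists_lift_of_sep_points G Z z hpts Z (z ≫ ι[G])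
  obtain ⟨one', h1⟩ := exists_lift_of_sep_points G Z z hpts (𝟙_ _) η[G]
  haveI : Mono z.left := inferInstance
  haveI : Mono z := Over.mono_of_mono_left z
  letI inst : GrpObj Z :=
    Groth.Agent.Lib.Helper4.SchClosGrp1.grpObjOfMono z one' mul' inv' h1 hm hi
  have hmon : IsMonHom z := ⟨h1, hm⟩
  refine ⟨?_, inst, hmon⟩
  haveI : GrpObj (Over.mk Z.hom) := inst
  exact smooth_of_grpObj_of_geometricallyReduced Z.hom

end Groth.Agent.Lib.Helper4.SepSub1
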