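import Mathlib
import Groth.Prelude.Def_AlgGrp
import Groth.Agent.Lib.Helper4.SepSub1
import Groth.Agent.Lib.Helper4.GrpArtin2

/-!
# closure of a subgroup of rational points is a smooth subgroup (S15608) (helper4)
-/

set_option backward.isDefEq.respectTransparency.types false
set_option synthInstance.maxHeartbeats 400000
set_option autoImplicit false
set_option linter.unusedSectionVars false
set_option linter.style.haveILetI false
set_option linter.unusedSimpArgs false
universe u v w
open CategoryTheory CategoryTheory.Limits AlgebraicGeometry TopologicalSpace Opposite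
open MonoidalCategory CartesianMonoidalCategory MonObj GrpObj
open scoped TensorProduct

namespace Groth.Agent.Lib.Helper4.ClosSub1

/-- a `k`-algebra whose `k`-rational points separate elements stays reduced after any field
extension -/
theorem isReduced_tensor_of_separating (k : Type u) [Field k] (R K : Type u) [CommRing R]
    [Algebra k R] [Field K] [Algebra k K]
    (h : ∀ c : R, c ≠ 0 → ∃ ev : R →ₐ[k] k, ev c ≠ 0) : _root_.IsReduced (R ⊗[k] K) := by
  let b := Module.Free.chooseBasis k K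
  refine ⟨fun x hx => ?_⟩
  by_contra hne
  have hrepr : (Algebra.TensorProduct.basis R b).repr x ≠ 0 := by
    intro h0
    exact hne ((Algebra.TensorProduct.basis R b).repr.map_eq_zero_iff.mp h0)
  obtain ⟨i, hi⟩ : ∃ i, (Algebra.TensorProduct.basis R b).repr x i ≠ 0 := by
    by_contra hcon
    push Not at hcon
    exact hrepr (Finsupp.ext hcon)
  obtain ⟨ev, hev⟩ := h _ hi
  let φ : R ⊗[k] K →ₐ[k] k ⊗[k] K := Algebra.TensorProduct.map ev (AlgHom.id k K)
  haveI : _root_.IsReduced (k ⊗[k] K) :=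
    isReduced_of_injective (Algebra.TensorProduct.lid k K).toRingHom
      (Algebra.TensorProduct.lid k K).injective
  have hφx : φ x = 0 := (hx.map φ).eq_zero
  have key : ∀ y : R ⊗[k] K, (Algebra.TensorProduct.basis k b).repr (φ y) i =
      ev ((Algebra.TensorProduct.basis R b).repr y i) := by
    intro y
    induction y using TensorProduct.induction_on with
    | zero => simp
    | tmul b' a =>
      simp only [φ, Algebra.TensorProduct.map_tmul, Algebra.TensorProduct.basis_repr_tmul,
        AlgHom.coe_id, id_eq, Finsupp.smul_apply, Finsupp.mapRange_apply, smul_eq_mul, map_mul]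
      congr 1
      simp
    | add y z hy hz => simp [map_add, hy, hz]
  have := key x
  rw [hφx, map_zero, Finsupp.zero_apply] at this
  exact hev this.symm

variable {k : Type u} [Field k]

/-- affine case of `geometricallyReduced_of_dense_rational` -/
theorem isReduced_pullback_of_isAffine_dense {U : Scheme.{u}} [IsAffine U] [IsReduced U]
    (a : U ⟶ Spec (CommRingCat.of k))
    (hD : ∀ V : U.Opens, (V : Set U).Nonempty →
      ∃ σ : Spec (CommRingCat.of k) ⟶ U, σ ≫ a = 𝟙 _ ∧ ∀ t, σ t ∈ V)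
    (K : Type u) [Field K] (y : Spec (CommRingCat.of K) ⟶ Spec (CommRingCat.of k)) :
    IsReduced (pullback a y) := by
  obtain ⟨φ, hφ⟩ := Spec.map_surjective (U.isoSpec.inv ≫ a)
  obtain ⟨ψ, hψ⟩ := Spec.map_surjective y
  have ha : a = U.isoSpec.hom ≫ Spec.map φ := by rw [hφ, Iso.hom_inv_id_assoc]
  have hsep : ∀ c : Γ(U, ⊤), c ≠ 0 → ∃ ev : Γ(U, ⊤) ⟶ CommRingCat.of k,
      φ ≫ ev = 𝟙 _ ∧ ev.hom c ≠ 0 := by
    intro c hc
    have hne : ((U.basicOpen c : U.Opens) : Set U).Nonempty := by
      rw [Set.nonempty_iff_ne_empty]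
      intro h0
      apply hc
      rw [← AlgebraicGeometry.basicOpen_eq_bot_iff]
      exact TopologicalSpace.Opens.ext h0
    obtain ⟨σ, hσa, hσ⟩ := hD _ hne
    obtain ⟨ev, hev⟩ : ∃ ev : Γ(U, ⊤) ⟶ CommRingCat.of k, Spec.map ev = σ ≫ U.isoSpec.hom :=
      ⟨Spec.preimage _, Spec.map_preimage _⟩
    refine ⟨ev, ?_, ?_⟩
    · apply Spec.map_injective
      rw [Spec.map_comp, hev, Category.assoc, ← ha, hσa, Spec.map_id]
    · intro h0
      obtain ⟨t⟩ : Nonempty ↥(Spec (CommRingCat.of k)) :=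
        inferInstanceAs (Nonempty (PrimeSpectrum k))
      have h1 : σ t ∈ U.basicOpen c := hσ t
      rw [← Scheme.toSpecΓ_preimage_basicOpen] at h1
      have h2 : (σ ≫ U.isoSpec.hom) t ∈ PrimeSpectrum.basicOpen c := h1
      rw [← hev] at h2
      have h3 : c ∉ ((Spec.map ev) t).asIdeal := h2
      apply h3
      show ev.hom c ∈ t.asIdeal
      rw [h0]
      exact zero_mem _
  rw [ha, ← hψ]
  have : IsReduced (pullback (Spec.map φ) (Spec.map ψ)) := by
    algebraize [φ.hom, ψ.hom]
    have h5 : _root_.IsReduced (Γ(U, ⊤) ⊗[k] K) := by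
      apply isReduced_tensor_of_separating
      intro c hc
      obtain ⟨ev, hev1, hev2⟩ := hsep c hc
      refine ⟨⟨ev.hom, ?_⟩, hev2⟩
      intro r
      have := congrArg (fun g => g.hom r) hev1
      exact this
    have h6 : IsReduced (Spec (.of (Γ(U, ⊤) ⊗[k] K))) := (affine_isReduced_iff _).mpr h5
    exact isReduced_of_isOpenImmersion (pullbackSpecIso k Γ(U, ⊤) K).hom
  exact isReduced_of_isOpenImmersion
    (pullback.map (U.isoSpec.hom ≫ Spec.map φ) (Spec.map ψ) (Spec.map φ) (Spec.map ψ)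
      U.isoSpec.hom (𝟙 _) (𝟙 _) (by simp) (by simp))

/-- a reduced scheme over a field with a dense set of rational points is geometrically reduced -/
theorem geometricallyReduced_of_dense_rational {H : Scheme.{u}} [IsReduced H]
    (p : H ⟶ Spec (CommRingCat.of k))
    (hD : ∀ V : H.Opens, (V : Set H).Nonempty →
      ∃ σ : Spec (CommRingCat.of k) ⟶ H, σ ≫ p = 𝟙 _ ∧ ∀ t, σ t ∈ V) :
    GeometricallyReduced p := by
  refine ⟨geometrically_iff_of_isClosedUnderIsomorphisms.mpr fun K _ y => ?_⟩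
  refine @IsReduced.of_openCover _ (Scheme.Pullback.openCoverOfLeft H.affineCover p y) ?_
  intro i
  change IsReduced (pullback (H.affineCover.f i ≫ p) y)
  haveI : IsOpenImmersion (H.affineCover.f i) := H.affineCover.map_prop i
  haveI : IsReduced (H.affineCover.X i) := isReduced_of_isOpenImmersion (H.affineCover.f i)
  apply isReduced_pullback_of_isAffine_dense
  intro V hV
  obtain ⟨W, hW⟩ : ∃ W : H.Opens, (W : Set H) = H.affineCover.f i '' (V : Set _) :=
    ⟨⟨_, (H.affineCover.f i).isOpenEmbedding.isOpenMap _ V.isOpen⟩, rfl⟩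
  obtain ⟨σ, hσp, hσ⟩ := hD W (by rw [hW]; exact hV.image _)
  have hrange : Set.range σ ⊆ Set.range (H.affineCover.f i) := by
    rintro _ ⟨t, rfl⟩
    have : σ t ∈ (W : Set H) := hσ t
    rw [hW] at this
    obtain ⟨v, -, hv⟩ := this
    exact ⟨v, hv⟩
  refine ⟨IsOpenImmersion.lift (H.affineCover.f i) σ hrange, ?_, ?_⟩
  · rw [← Category.assoc, IsOpenImmersion.lift_fac, hσp]
  · intro t
    have h1 : σ t ∈ (W : Set H) := hσ t
    rw [hW] at h1
    obtain ⟨v, hvV, hv⟩ := h1
    have h2 : (H.affineCover.f i) (IsOpenImmersion.lift (H.affineCover.f i) σ hrange t) = σ t := by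
      rw [← Scheme.Hom.comp_apply, IsOpenImmersion.lift_fac]
    have h3 : IsOpenImmersion.lift (H.affineCover.f i) σ hrange t = v :=
      (H.affineCover.f i).isOpenEmbedding.injective (h2.trans hv.symm)
    rw [h3]; exact hvV

/-- the section of the first projection through a rational point -/
theorem mem_range_sec (H : Over (Spec (CommRingCat.of k)))
    (s' : 𝟙_ (Over (Spec (CommRingCat.of k))) ⟶ H) (e : (H ⊗ H).left)
    (t : (𝟙_ (Over (Spec (CommRingCat.of k)))).left) (he : (fst H H).left e = s'.left t) :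
    e ∈ Set.range (lift (toUnit H ≫ s') (𝟙 H)).left := by
  obtain ⟨z, -, hz⟩ := Scheme.Pullback.exists_preimage_pullback (f := s'.left)
    (g := (fst H H).left) t e he.symm
  let P' : Over (Spec (CommRingCat.of k)) :=
    Over.mk (pullback.snd s'.left (fst H H).left ≫ (H ⊗ H).hom)
  let b' : P' ⟶ H ⊗ H := Over.homMk (pullback.snd s'.left (fst H H).left) rfl
  have hb' : b'.left = pullback.snd s'.left (fst H H).left := rfl
  have hcond : toUnit P' ≫ s' = b' ≫ fst H H := by
    ext1
    rw [Over.comp_left, Over.comp_left, hb', ← pullback.condition]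
    congr 1
    have h1 : pullback.fst s'.left (fst H H).left ≫ (𝟙_ (Over (Spec (CommRingCat.of k)))).hom =
        (toUnit P').left ≫ (𝟙_ (Over (Spec (CommRingCat.of k)))).hom := by
      rw [Over.w (toUnit P'), ← Over.w b', hb', ← Over.w (fst H H), ← Category.assoc,
        ← pullback.condition, Category.assoc, Over.w s']
    have e1 : ∀ (x : P'.left ⟶ (𝟙_ (Over (Spec (CommRingCat.of k)))).left),
        x ≫ (𝟙_ (Over (Spec (CommRingCat.of k)))).hom = x := fun x => Category.comp_id x
    exact ((e1 _).symm.trans h1.symm).trans (e1 _)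
  have hkey : b' ≫ snd H H ≫ lift (toUnit H ≫ s') (𝟙 H) = b' := by
    apply CartesianMonoidalCategory.hom_ext
    · rw [Category.assoc, Category.assoc, lift_fst, ← hcond, ← Category.assoc, ← Category.assoc]
      congr 1
      exact toUnit_unique _ _
    · rw [Category.assoc, Category.assoc, lift_snd, Category.comp_id]
  refine ⟨(b' ≫ snd H H).left z, ?_⟩
  rw [← Scheme.Hom.comp_apply, ← Over.comp_left, Category.assoc, hkey, hb', hz]

theorem main_S15608 (k : Type u) [Field k]
    (G : Over (Spec (CommRingCat.of k))) [GrpObj G] [Smooth G.hom] [QuasiCompact G.hom]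
    (S : Subgroup (𝟙_ (Over (Spec (CommRingCat.of k))) ⟶ G)) :
    ∃ (H : Over (Spec (CommRingCat.of k))) (_ : GrpObj H) (i : H ⟶ G), IsMonHom i ∧
      IsClosedImmersion i.left ∧ Smooth H.hom ∧
      Set.range i.left.base =
        closure ((fun s : (𝟙_ (Over (Spec (CommRingCat.of k))) ⟶ G) =>
          s.left.base (IsLocalRing.closedPoint k)) '' (S : Set _)) := by
  haveI : Subsingleton ↥(Spec (CommRingCat.of k)) :=
    inferInstanceAs (Subsingleton (PrimeSpectrum k))
  haveI : IsReduced (𝟙_ (Over (Spec (CommRingCat.of k)))).left :=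
    inferInstanceAs (IsReduced (Spec (CommRingCat.of k)))
  haveI : Subsingleton ↥(𝟙_ (Over (Spec (CommRingCat.of k)))).left :=
    inferInstanceAs (Subsingleton (PrimeSpectrum k))
  obtain ⟨pt, hpt⟩ : ∃ pt : (𝟙_ (Over (Spec (CommRingCat.of k)))).left,
      pt = IsLocalRing.closedPoint k := ⟨_, rfl⟩
  obtain ⟨D, hD⟩ : ∃ D : Set G.left, D = (fun s : (𝟙_ (Over (Spec (CommRingCat.of k))) ⟶ G) =>
      s.left.base (IsLocalRing.closedPoint k)) '' (S : Set _) := ⟨_, rfl⟩
  rw [← hD]
  have hDmem : ∀ s ∈ S, s.left pt ∈ D := by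
    intro s hs
    rw [hD, hpt]
    exact ⟨s, hs, rfl⟩
  have hC : IsClosed (closure D) := isClosed_closure
  obtain ⟨H, i, hicl, hHred, hri⟩ : ∃ (H : Over (Spec (CommRingCat.of k))) (i : H ⟶ G),
      IsClosedImmersion i.left ∧ IsReduced H.left ∧ Set.range i.left = closure D :=
    ⟨Over.mk (Groth.Agent.Helper3.redι _ hC ≫ G.hom),
      Over.homMk (Groth.Agent.Helper3.redι _ hC) rfl,
      inferInstanceAs (IsClosedImmersion (Groth.Agent.Helper3.redι _ hC)),
      Groth.Agent.Lib.Helper4.Equi7.isReduced_vanishingIdeal_subscheme _,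
      Groth.Agent.Helper3.range_redι _ hC⟩
  haveI := hicl
  haveI := hHred
  haveI : LocallyOfFiniteType H.hom := by rw [← Over.w i]; infer_instance
  -- factoring through `H`
  have hfac : ∀ (T : Over (Spec (CommRingCat.of k))) [IsReduced T.left] (t : T ⟶ G)
      (E : Set T.left), Dense E → (∀ e ∈ E, t.left e ∈ closure D) → ∃ t' : T ⟶ H, t' ≫ i = t := by
    intro T _ t E hE hEt
    have hsub : Set.range t.left ⊆ Set.range i.left := by
      rintro _ ⟨w, rfl⟩
      rw [hri]
      have hcl : IsClosed (t.left ⁻¹' closure D) := hC.preimage t.left.continuous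
      have h1 : closure E ⊆ t.left ⁻¹' closure D := hcl.closure_subset_iff.mpr hEt
      rw [hE.closure_eq] at h1
      exact h1 trivial
    obtain ⟨g, hg⟩ :=
      Groth.Agent.Lib.Helper4.FibTransl1.exists_lift_of_range_subset i.left t.left hsub
    refine ⟨Over.homMk g ?_, ?_⟩
    · rw [← Over.w i, ← Category.assoc, hg, Over.w t]
    · ext1
      simp only [Over.comp_left, Over.homMk_left, hg]
  have hlift : ∀ s ∈ S, ∃ s' : 𝟙_ (Over (Spec (CommRingCat.of k))) ⟶ H, s' ≫ i = s := by
    intro s hs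
    apply hfac _ s Set.univ dense_univ
    intro e _
    rw [Subsingleton.elim e pt]
    exact subset_closure (hDmem s hs)
  -- the dense set of rational points of `H`
  obtain ⟨DH, hDHdef⟩ : ∃ DH : Set H.left, DH = i.left ⁻¹' D := ⟨_, rfl⟩
  have hDH : Dense DH := by
    rw [dense_iff_closure_eq, i.left.isClosedEmbedding.isInducing.closure_eq_preimage_closure_image,
      hDHdef, Set.image_preimage_eq_inter_range, hri,
      Set.inter_eq_left.mpr subset_closure, ← hri]
    ext x
    simp
  have hDHpt : ∀ d ∈ DH, ∃ s' : 𝟙_ (Over (Spec (CommRingCat.of k))) ⟶ H,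
      s' ≫ i ∈ S ∧ s'.left pt = d := by
    intro d hd
    rw [hDHdef, Set.mem_preimage, hD] at hd
    obtain ⟨s, hs, hsd⟩ := hd
    obtain ⟨s', hs'⟩ := hlift s hs
    refine ⟨s', hs' ▸ hs, ?_⟩
    apply i.left.isClosedEmbedding.injective
    rw [← Scheme.Hom.comp_apply, ← Over.comp_left, hs', hpt]
    exact hsd
  haveI : GeometricallyReduced H.hom := by
    apply geometricallyReduced_of_dense_rational
    intro V hV
    obtain ⟨d, hdV, hdD⟩ := hDH.inter_open_nonempty V V.isOpen hV
    obtain ⟨s', -, hs'd⟩ := hDHpt d hdD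
    refine ⟨s'.left, by simpa using Over.w s', fun t => ?_⟩
    rw [Subsingleton.elim t pt, hs'd]
    exact hdV
  haveI : GeometricallyReduced (H ⊗ H).hom :=
    Groth.Agent.Lib.Helper4.MaxAb1.geometricallyReduced_tensor H H
  haveI : IsReduced (H ⊗ H).left :=
    Groth.Agent.Lib.Helper4.SepSub1.isReduced_of_geometricallyReduced (H ⊗ H)
  -- unit
  obtain ⟨one', h1⟩ : ∃ one' : 𝟙_ (Over (Spec (CommRingCat.of k))) ⟶ H, one' ≫ i = η[G] := by
    obtain ⟨s', hs'⟩ := hlift 1 S.one_mem
    refine ⟨s', hs'.trans ?_⟩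
    rw [Hom.one_def, toUnit_unique (toUnit _) (𝟙 _), Category.id_comp]
  -- inverse
  obtain ⟨inv', hi⟩ : ∃ inv' : H ⟶ H, inv' ≫ i = i ≫ ι[G] := by
    apply hfac H (i ≫ ι[G]) DH hDH
    intro d hd
    obtain ⟨s', hs'S, hs'd⟩ := hDHpt d hd
    apply subset_closure
    have h2 : (s' ≫ i)⁻¹ ∈ S := S.inv_mem hs'S
    have h3 := hDmem _ h2
    rw [Hom.inv_def, Category.assoc, Over.comp_left, Scheme.Hom.comp_apply, hs'd] at h3
    exact h3
  -- multiplication
  have hmulS : ∀ (s' : 𝟙_ (Over (Spec (CommRingCat.of k))) ⟶ H), s' ≫ i ∈ S → ∀ h : H.left,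
      (lift (toUnit H ≫ s') (𝟙 H) ≫ (i ⊗ₘ i) ≫ μ[G]).left h ∈ closure D := by
    intro s' hs' h
    have hcl : IsClosed ((lift (toUnit H ≫ s') (𝟙 H) ≫ (i ⊗ₘ i) ≫ μ[G]).left ⁻¹' closure D) :=
      hC.preimage (Scheme.Hom.continuous _)
    have h1 : closure DH ⊆ (lift (toUnit H ≫ s') (𝟙 H) ≫ (i ⊗ₘ i) ≫ μ[G]).left ⁻¹' closure D := by
      apply hcl.closure_subset_iff.mpr
      intro d hd
      obtain ⟨s'', hs''S, hs''d⟩ := hDHpt d hd
      apply subset_closure
      have h2 : (s' ≫ i) * (s'' ≫ i) ∈ S := S.mul_mem hs' hs''S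
      have h3 := hDmem _ h2
      have h4 : (s' ≫ i) * (s'' ≫ i) =
          s'' ≫ lift (toUnit H ≫ s') (𝟙 H) ≫ (i ⊗ₘ i) ≫ μ[G] := by
        rw [Hom.mul_def, ← Category.assoc, ← Category.assoc]
        congr 1
        rw [Category.assoc, lift_map, comp_lift, Category.id_comp, ← Category.assoc,
          ← Category.assoc, toUnit_unique (s'' ≫ toUnit H) (𝟙 _), Category.id_comp]
      rw [h4, Over.comp_left, Scheme.Hom.comp_apply, hs''d] at h3
      exact h3
    rw [hDH.closure_eq] at h1
    exact h1 trivial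
  obtain ⟨mul', hm⟩ : ∃ mul' : H ⊗ H ⟶ H, mul' ≫ i = (i ⊗ₘ i) ≫ μ[G] := by
    haveI : UniversallyOpen H.hom := Groth.Agent.Lib.Helper4.UOp.S2505_main H.hom
    have hopen : IsOpenMap (fst H H).left := by
      rw [Over.fst_left]
      exact (pullback.fst H.hom H.hom).isOpenMap
    apply hfac (H ⊗ H) ((i ⊗ₘ i) ≫ μ[G]) ((fst H H).left ⁻¹' DH) (hDH.preimage hopen)
    intro e he
    obtain ⟨s', hs'S, hs'd⟩ := hDHpt _ he
    obtain ⟨h, hh⟩ := mem_range_sec H s' e pt hs'd.symm
    rw [← hh, ← Scheme.Hom.comp_apply, ← Over.comp_left]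
    exact hmulS s' hs'S h
  haveI : Mono i.left := inferInstance
  haveI : Mono i := Over.mono_of_mono_left i
  letI inst : GrpObj H :=
    Groth.Agent.Lib.Helper4.SchClosGrp1.grpObjOfMono i one' mul' inv' h1 hm hi
  have hmon : IsMonHom i := ⟨h1, hm⟩
  refine ⟨H, inst, i, hmon, hicl, ?_, hri⟩
  haveI : GrpObj (Over.mk H.hom) := inst
  exact Groth.Agent.Lib.Helper4.SepSub1.smooth_of_grpObj_of_geometricallyReduced H.hom

end Groth.Agent.Lib.Helper4.ClosSub1
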