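import Mathlib
import Groth.Prelude.Def_AlgGrp
import Groth.Agent.Lib.Helper4.ClosSub1
import Groth.Agent.Lib.Helper5.Misc.HopfNil

/-!
# maximal geometrically reduced closed subscheme with the same separable points (S8186) (helper4)
-/

set_option backward.isDefEq.respectTransparency.types false
set_option synthInstance.maxHeartbeats 400000
set_option autoImplicit false
set_option linter.unusedSectionVars false
set_option linter.style.haveILetI false
set_option linter.unusedSimpArgs false
universe u v w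
open CategoryTheory CategoryTheory.Limits AlgebraicGeometry TopologicalSpace Opposite
open scoped TensorProduct

namespace Groth.Agent.Lib.Helper4.MaxGeomRed1

/-- a separable (geometrically reduced) field extension stays reduced after tensoring with any
field -/
theorem isReduced_tensor_field_of_geomReduced (k k' K : Type u) [Field k] [Field k'] [Algebra k k']
    [Algebra.IsGeometricallyReduced k k'] [Field K] [Algebra k K] :
    _root_.IsReduced (k' ⊗[k] K) := by
  let Ω := AlgebraicClosure k
  let K' := AlgebraicClosure K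
  let l : Ω →ₐ[k] K' := IsAlgClosed.lift
  letI algΩ : Algebra Ω K' := l.toRingHom.toAlgebra
  haveI : IsScalarTower k Ω K' := IsScalarTower.of_algebraMap_eq fun x => (l.commutes x).symm
  haveI : _root_.IsReduced (Ω ⊗[k] k') := inferInstance
  haveI h1 : _root_.IsReduced (K' ⊗[Ω] (Ω ⊗[k] k')) :=
    Groth.Agent.Lib.Helper5.Misc.HopfNil.isReduced_tensor_of_perfect' Ω K' (Ω ⊗[k] k')
  have h2 : _root_.IsReduced (K' ⊗[k] k') :=
    isReduced_of_injective (Algebra.TensorProduct.cancelBaseChange k Ω Ω K' k').symm.toRingHom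
      (Algebra.TensorProduct.cancelBaseChange k Ω Ω K' k').symm.injective
  have h3 : _root_.IsReduced (k' ⊗[k] K') :=
    isReduced_of_injective (Algebra.TensorProduct.comm k k' K').toRingHom
      (Algebra.TensorProduct.comm k k' K').injective
  exact isReduced_of_injective
    (Algebra.TensorProduct.map (AlgHom.id k k') (IsScalarTower.toAlgHom k K K'))
    (Module.Flat.lTensor_preserves_injective_linearMap _ (RingHom.injective _))

/-- a `k`-algebra whose points with values in separable extension fields separate elements stays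
reduced after any field extension -/
theorem isReduced_tensor_of_separating' (k : Type u) [Field k] (R K : Type u) [CommRing R]
    [Algebra k R] [Field K] [Algebra k K]
    (h : ∀ c : R, c ≠ 0 → ∃ (k' : Type u) (_ : Field k') (_ : Algebra k k')
      (_ : Algebra.IsGeometricallyReduced k k') (ev : R →ₐ[k] k'), ev c ≠ 0) :
    _root_.IsReduced (R ⊗[k] K) := by
  let b := Module.Free.chooseBasis k K
  refine ⟨fun x hx => ?_⟩
  by_contra hne
  have hrepr : (Algebra.TensorProduct.basis R b).repr x ≠ 0 := by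
    intro h0
    exact hne ((Algebra.TensorProduct.basis R b).repr.map_eq_zero_iff.mp h0)
  obtain ⟨i, hi⟩ : ∃ i, (Algebra.TensorProduct.basis R b).repr x i ≠ 0 := by
    by_contra hcon
    push Not at hcon
    exact hrepr (Finsupp.ext hcon)
  obtain ⟨k', _, _, _, ev, hev⟩ := h _ hi
  let φ : R ⊗[k] K →ₐ[k] k' ⊗[k] K := Algebra.TensorProduct.map ev (AlgHom.id k K)
  haveI : _root_.IsReduced (k' ⊗[k] K) := isReduced_tensor_field_of_geomReduced k k' K
  have hφx : φ x = 0 := (hx.map φ).eq_zero
  have key : ∀ y : R ⊗[k] K, (Algebra.TensorProduct.basis k' b).repr (φ y) i =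
      ev ((Algebra.TensorProduct.basis R b).repr y i) := by
    intro y
    induction y using TensorProduct.induction_on with
    | zero => simp
    | tmul b' a =>
      simp only [φ, Algebra.TensorProduct.map_tmul, Algebra.TensorProduct.basis_repr_tmul,
        AlgHom.coe_id, id_eq, Finsupp.smul_apply, Finsupp.mapRange_apply, smul_eq_mul, map_mul]
      congr 1
      simp
    | add y z hy hz => simp [map_add, hy, hz]
  have := key x
  rw [hφx, map_zero, Finsupp.zero_apply] at this
  exact hev this.symm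

variable {k : Type u} [Field k]

/-- affine case of `geometricallyReduced_of_dense_sep` -/
theorem isReduced_pullback_of_isAffine_dense' {U : Scheme.{u}} [IsAffine U] [IsReduced U]
    (a : U ⟶ Spec (CommRingCat.of k))
    (hD : ∀ V : U.Opens, (V : Set U).Nonempty →
      ∃ (k' : Type u) (_ : Field k') (_ : Algebra k k') (_ : Algebra.IsGeometricallyReduced k k')
        (σ : Spec (CommRingCat.of k') ⟶ U),
        σ ≫ a = Spec.map (CommRingCat.ofHom (algebraMap k k')) ∧ ∀ t, σ t ∈ V)
    (K : Type u) [Field K] (y : Spec (CommRingCat.of K) ⟶ Spec (CommRingCat.of k)) :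
    IsReduced (pullback a y) := by
  obtain ⟨φ, hφ⟩ := Spec.map_surjective (U.isoSpec.inv ≫ a)
  obtain ⟨ψ, hψ⟩ := Spec.map_surjective y
  have ha : a = U.isoSpec.hom ≫ Spec.map φ := by rw [hφ, Iso.hom_inv_id_assoc]
  have hsep : ∀ c : Γ(U, ⊤), c ≠ 0 → ∃ (k' : Type u) (_ : Field k') (_ : Algebra k k')
      (_ : Algebra.IsGeometricallyReduced k k') (ev : Γ(U, ⊤) ⟶ CommRingCat.of k'),
      φ ≫ ev = CommRingCat.ofHom (algebraMap k k') ∧ ev.hom c ≠ 0 := by
    intro c hc
    have hne : ((U.basicOpen c : U.Opens) : Set U).Nonempty := by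
      rw [Set.nonempty_iff_ne_empty]
      intro h0
      apply hc
      rw [← AlgebraicGeometry.basicOpen_eq_bot_iff]
      exact TopologicalSpace.Opens.ext h0
    obtain ⟨k', fld, alg, hgr, σ, hσa, hσ⟩ := hD _ hne
    obtain ⟨ev, hev⟩ : ∃ ev : Γ(U, ⊤) ⟶ CommRingCat.of k', Spec.map ev = σ ≫ U.isoSpec.hom :=
      ⟨Spec.preimage _, Spec.map_preimage _⟩
    refine ⟨k', fld, alg, hgr, ev, ?_, ?_⟩
    · apply Spec.map_injective
      rw [Spec.map_comp, hev, Category.assoc, ← ha, hσa]
    · intro h0
      obtain ⟨t⟩ : Nonempty ↥(Spec (CommRingCat.of k')) :=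
        inferInstanceAs (Nonempty (PrimeSpectrum k'))
      have h1 : σ t ∈ U.basicOpen c := hσ t
      rw [← Scheme.toSpecΓ_preimage_basicOpen] at h1
      have h2 : (σ ≫ U.isoSpec.hom) t ∈ PrimeSpectrum.basicOpen c := h1
      rw [← hev] at h2
      have h3 : c ∉ ((Spec.map ev) t).asIdeal := h2
      apply h3
      show ev.hom c ∈ t.asIdeal
      rw [h0]
      exact zero_mem _
  rw [ha, ← hψ]
  have : IsReduced (pullback (Spec.map φ) (Spec.map ψ)) := by
    algebraize [φ.hom, ψ.hom]
    have h5 : _root_.IsReduced (Γ(U, ⊤) ⊗[k] K) := by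
      apply isReduced_tensor_of_separating'
      intro c hc
      obtain ⟨k', fld, alg, hgr, ev, hev1, hev2⟩ := hsep c hc
      refine ⟨k', fld, alg, hgr, ⟨ev.hom, ?_⟩, hev2⟩
      intro r
      have := congrArg (fun g => g.hom r) hev1
      exact this
    have h6 : IsReduced (Spec (.of (Γ(U, ⊤) ⊗[k] K))) := (affine_isReduced_iff _).mpr h5
    exact isReduced_of_isOpenImmersion (pullbackSpecIso k Γ(U, ⊤) K).hom
  exact isReduced_of_isOpenImmersion
    (pullback.map (U.isoSpec.hom ≫ Spec.map φ) (Spec.map ψ) (Spec.map φ) (Spec.map ψ)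
      U.isoSpec.hom (𝟙 _) (𝟙 _) (by simp) (by simp))

/-- a reduced scheme over a field with a dense set of points with values in separable extension
fields is geometrically reduced -/
theorem geometricallyReduced_of_dense_sep {H : Scheme.{u}} [IsReduced H]
    (p : H ⟶ Spec (CommRingCat.of k))
    (hD : ∀ V : H.Opens, (V : Set H).Nonempty →
      ∃ (k' : Type u) (_ : Field k') (_ : Algebra k k') (_ : Algebra.IsGeometricallyReduced k k')
        (σ : Spec (CommRingCat.of k') ⟶ H),
        σ ≫ p = Spec.map (CommRingCat.ofHom (algebraMap k k')) ∧ ∀ t, σ t ∈ V) :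
    GeometricallyReduced p := by
  refine ⟨geometrically_iff_of_isClosedUnderIsomorphisms.mpr fun K _ y => ?_⟩
  refine @IsReduced.of_openCover _ (Scheme.Pullback.openCoverOfLeft H.affineCover p y) ?_
  intro i
  change IsReduced (pullback (H.affineCover.f i ≫ p) y)
  haveI : IsOpenImmersion (H.affineCover.f i) := H.affineCover.map_prop i
  haveI : IsReduced (H.affineCover.X i) := isReduced_of_isOpenImmersion (H.affineCover.f i)
  apply isReduced_pullback_of_isAffine_dense'
  intro V hV
  obtain ⟨W, hW⟩ : ∃ W : H.Opens, (W : Set H) = H.affineCover.f i '' (V : Set _) :=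
    ⟨⟨_, (H.affineCover.f i).isOpenEmbedding.isOpenMap _ V.isOpen⟩, rfl⟩
  obtain ⟨k', fld, alg, hgr, σ, hσp, hσ⟩ := hD W (by rw [hW]; exact hV.image _)
  have hrange : Set.range σ ⊆ Set.range (H.affineCover.f i) := by
    rintro _ ⟨t, rfl⟩
    have : σ t ∈ (W : Set H) := hσ t
    rw [hW] at this
    obtain ⟨v, -, hv⟩ := this
    exact ⟨v, hv⟩
  refine ⟨k', fld, alg, hgr, IsOpenImmersion.lift (H.affineCover.f i) σ hrange, ?_, ?_⟩
  · rw [← Category.assoc, IsOpenImmersion.lift_fac, hσp]
  · intro t
    have h1 : σ t ∈ (W : Set H) := hσ t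
    rw [hW] at h1
    obtain ⟨v, hvV, hv⟩ := h1
    have h2 : (H.affineCover.f i) (IsOpenImmersion.lift (H.affineCover.f i) σ hrange t) = σ t := by
      rw [← Scheme.Hom.comp_apply, IsOpenImmersion.lift_fac]
    have h3 : IsOpenImmersion.lift (H.affineCover.f i) σ hrange t = v :=
      (H.affineCover.f i).isOpenEmbedding.injective (h2.trans hv.symm)
    rw [h3]; exact hvV

theorem main_S8186 (k : Type u) [Field k]
    (X : Scheme.{u}) (f : X ⟶ Spec (CommRingCat.of k)) [LocallyOfFiniteType f] :
    ∃ (Z : Scheme.{u}) (z : Z ⟶ X), IsClosedImmersion z ∧ GeometricallyReduced (z ≫ f) ∧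
      (∀ (k' : Type u) [Field k'] [Algebra k k'] [Algebra.IsGeometricallyReduced k k']
        (x : Spec (CommRingCat.of k') ⟶ X),
        x ≫ f = Spec.map (CommRingCat.ofHom (algebraMap k k')) →
        ∃ y : Spec (CommRingCat.of k') ⟶ Z, y ≫ z = x) ∧
      ∀ (Z' : Scheme.{u}) (z' : Z' ⟶ X), IsClosedImmersion z' → GeometricallyReduced (z' ≫ f) →
        (∀ (k' : Type u) [Field k'] [Algebra k k'] [Algebra.IsGeometricallyReduced k k']
        (x : Spec (CommRingCat.of k') ⟶ X),
        x ≫ f = Spec.map (CommRingCat.ofHom (algebraMap k k')) →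
        ∃ y : Spec (CommRingCat.of k') ⟶ Z', y ≫ z' = x) →
        ∃ e : Z' ≅ Z, e.hom ≫ z = z' := by
  obtain ⟨D, hD⟩ : ∃ D : Set X, D = {x₀ : X | ∃ (k' : Type u) (_ : Field k') (_ : Algebra k k')
      (_ : Algebra.IsGeometricallyReduced k k') (x : Spec (CommRingCat.of k') ⟶ X)
      (t : ↥(Spec (CommRingCat.of k'))),
      x ≫ f = Spec.map (CommRingCat.ofHom (algebraMap k k')) ∧ x t = x₀} := ⟨_, rfl⟩
  have hC : IsClosed (closure D) := isClosed_closure
  obtain ⟨Z, z, hzcl, hZred, hrz⟩ : ∃ (Z : Scheme.{u}) (z : Z ⟶ X),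
      IsClosedImmersion z ∧ IsReduced Z ∧ Set.range z = closure D :=
    ⟨_, Groth.Agent.Helper3.redι _ hC,
      inferInstanceAs (IsClosedImmersion (Groth.Agent.Helper3.redι _ hC)),
      Groth.Agent.Lib.Helper4.Equi7.isReduced_vanishingIdeal_subscheme _,
      Groth.Agent.Helper3.range_redι _ hC⟩
  haveI := hzcl
  haveI := hZred
  -- lifting separable points
  have hlift : ∀ (k' : Type u) [Field k'] [Algebra k k'] [Algebra.IsGeometricallyReduced k k']
      (x : Spec (CommRingCat.of k') ⟶ X),
      x ≫ f = Spec.map (CommRingCat.ofHom (algebraMap k k')) →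
      ∃ y : Spec (CommRingCat.of k') ⟶ Z, y ≫ z = x := by
    intro k' _ _ _ x hx
    apply Groth.Agent.Lib.Helper4.FibTransl1.exists_lift_of_range_subset z x
    rintro _ ⟨t, rfl⟩
    rw [hrz]
    apply subset_closure
    rw [hD]
    exact ⟨k', inferInstance, inferInstance, inferInstance, x, t, hx, rfl⟩
  obtain ⟨DZ, hDZdef⟩ : ∃ DZ : Set Z, DZ = z ⁻¹' D := ⟨_, rfl⟩
  have hDZ : Dense DZ := by
    rw [dense_iff_closure_eq, z.isClosedEmbedding.isInducing.closure_eq_preimage_closure_image,
      hDZdef, Set.image_preimage_eq_inter_range, hrz,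
      Set.inter_eq_left.mpr subset_closure, ← hrz]
    ext x
    simp
  have hgr : GeometricallyReduced (z ≫ f) := by
    apply geometricallyReduced_of_dense_sep
    intro V hV
    obtain ⟨v, hvV, hvD⟩ := hDZ.inter_open_nonempty V V.isOpen hV
    rw [hDZdef, Set.mem_preimage, hD] at hvD
    obtain ⟨k', fld, alg, hgr', x, t, hx, hxt⟩ := hvD
    obtain ⟨y, hy⟩ := hlift k' x hx
    refine ⟨k', fld, alg, hgr', y, ?_, ?_⟩
    · rw [← Category.assoc, hy, hx]
    · intro t'
      haveI : Subsingleton ↥(Spec (CommRingCat.of k')) :=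
        inferInstanceAs (Subsingleton (PrimeSpectrum k'))
      have h1 : z (y t') = z v := by
        rw [← Scheme.Hom.comp_apply, hy, Subsingleton.elim t' t, hxt]
      rw [z.isClosedEmbedding.injective h1]
      exact hvV
  refine ⟨Z, z, hzcl, hgr, hlift, ?_⟩
  intro Z' z' hz'cl hgr' hlift'
  haveI := hz'cl
  haveI : GeometricallyReduced (Over.mk (z' ≫ f)).hom := hgr'
  haveI : IsReduced Z' :=
    Groth.Agent.Lib.Helper4.SepSub1.isReduced_of_geometricallyReduced (Over.mk (z' ≫ f))
  have hcl' : IsClosed (Set.range z') := z'.isClosedEmbedding.isClosed_range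
  have h1 : Set.range z ⊆ Set.range z' := by
    rw [hrz]
    apply hcl'.closure_subset_iff.mpr
    intro d hd
    rw [hD] at hd
    obtain ⟨k', fld, alg, hgr'', x, t, hx, hxt⟩ := hd
    obtain ⟨y, hy⟩ := hlift' k' x hx
    exact ⟨y t, by rw [← Scheme.Hom.comp_apply, hy, hxt]⟩
  have h2 : Set.range z' ⊆ Set.range z := by
    rintro _ ⟨w, rfl⟩
    rw [hrz]
    obtain ⟨k', fld, alg, hgr'', x, t, hx, hsp⟩ :=
      Groth.Agent.Lib.Helper4.SepSub1.exists_sep_point_specializes k (z' ≫ f) w
    have h3 : z' (x t) ∈ D := by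
      rw [hD]
      exact ⟨k', fld, alg, hgr'', x ≫ z', t, by rw [Category.assoc, hx],
        Scheme.Hom.comp_apply _ _ _⟩
    exact (hsp.map z'.continuous).mem_closed hC (subset_closure h3)
  obtain ⟨g, hg⟩ := Groth.Agent.Lib.Helper4.FibTransl1.exists_lift_of_range_subset z z' h2
  obtain ⟨g', hg'⟩ := Groth.Agent.Lib.Helper4.FibTransl1.exists_lift_of_range_subset z' z h1
  haveI : Mono z := inferInstance
  haveI : Mono z' := inferInstance
  refine ⟨⟨g, g', ?_, ?_⟩, hg⟩
  · rw [← cancel_mono z', Category.assoc, hg', hg, Category.id_comp]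
  · rw [← cancel_mono z, Category.assoc, hg, hg', Category.id_comp]

end Groth.Agent.Lib.Helper4.MaxGeomRed1
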