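import Mathlib
import Groth.Prelude.Def_SGA3
import Groth.Prelude.Def_AlgGrp
import Groth.Agent.Lib.Helper4.MaxGeomRed1

/-!
# Generated closed subgroup schemes over a field: smallest closed subgroup through which a family factors (ideal sup), geometrically reduced closed subgroup G_gred, connectedness (helper4) (helper4)
-/

set_option backward.isDefEq.respectTransparency.types false
set_option synthInstance.maxHeartbeats 400000
set_option autoImplicit false
set_option linter.unusedSectionVars false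
set_option linter.style.haveILetI false
set_option linter.unusedSimpArgs false
universe u v w
open CategoryTheory CategoryTheory.Limits AlgebraicGeometry TopologicalSpace Opposite
open MonoidalCategory CartesianMonoidalCategory MonObj GrpObj

namespace Groth.Agent.Lib.Helper4.GenSub1
open Groth.Agent.Lib.Helper4

variable {k : Type u} [Field k]

/-- product of geometrically reduced schemes over a field is geometrically reduced (no finiteness) -/
theorem geometricallyReduced_tensor' (M A : Over (Spec (CommRingCat.of k)))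
    [GeometricallyReduced M.hom] [GeometricallyReduced A.hom] :
    GeometricallyReduced (M ⊗ A).hom := by
  refine ⟨fun K _ y Z fst' snd' h => ?_⟩
  haveI : IsReduced (pullback A.hom y) :=
    GeometricallyReduced.geometrically_isReduced (f := A.hom) y _ _
      (IsPullback.of_hasPullback A.hom y)
  haveI : IsReduced (pullback M.hom (pullback.fst A.hom y ≫ A.hom)) :=
    Groth.Agent.Helper3.isReduced_pullback_of_geometricallyReduced M.hom _
  let e := pullbackLeftPullbackSndIso M.hom A.hom (pullback.fst A.hom y)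
  haveI : IsReduced (pullback (pullback.snd M.hom A.hom) (pullback.fst A.hom y)) :=
    isReduced_of_isOpenImmersion e.hom
  have h1 : IsPullback (pullback.fst (pullback.snd M.hom A.hom) (pullback.fst A.hom y))
      (pullback.snd (pullback.snd M.hom A.hom) (pullback.fst A.hom y) ≫ pullback.snd A.hom y)
      (pullback.snd M.hom A.hom ≫ A.hom) y :=
    (IsPullback.of_hasPullback _ _).paste_vert (IsPullback.of_hasPullback A.hom y)
  have h' : IsPullback (fst' : Z ⟶ pullback M.hom A.hom) snd'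
      (pullback.snd M.hom A.hom ≫ A.hom) y := by
    rw [← pullback.condition]; exact h
  exact isReduced_of_isOpenImmersion (h'.isoIsPullback _ _ h1).hom

/-- the closure of the separable points: a geometrically reduced closed subscheme through which
every separable point factors (no finiteness hypothesis) -/
theorem exists_gred (X : Scheme.{u}) (f : X ⟶ Spec (CommRingCat.of k)) :
    ∃ (Z : Scheme.{u}) (z : Z ⟶ X), IsClosedImmersion z ∧ GeometricallyReduced (z ≫ f) ∧
      (∀ (k' : Type u) [Field k'] [Algebra k k'] [Algebra.IsGeometricallyReduced k k']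
        (x : Spec (CommRingCat.of k') ⟶ X),
        x ≫ f = Spec.map (CommRingCat.ofHom (algebraMap k k')) →
        ∃ y : Spec (CommRingCat.of k') ⟶ Z, y ≫ z = x) := by
  obtain ⟨D, hD⟩ : ∃ D : Set X, D = {x₀ : X | ∃ (k' : Type u) (_ : Field k') (_ : Algebra k k')
      (_ : Algebra.IsGeometricallyReduced k k') (x : Spec (CommRingCat.of k') ⟶ X)
      (t : ↥(Spec (CommRingCat.of k'))),
      x ≫ f = Spec.map (CommRingCat.ofHom (algebraMap k k')) ∧ x t = x₀} := ⟨_, rfl⟩
  have hC : IsClosed (closure D) := isClosed_closure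
  obtain ⟨Z, z, hzcl, hZred, hrz⟩ : ∃ (Z : Scheme.{u}) (z : Z ⟶ X),
      IsClosedImmersion z ∧ IsReduced Z ∧ Set.range z = closure D :=
    ⟨_, Groth.Agent.Helper3.redι _ hC,
      inferInstanceAs (IsClosedImmersion (Groth.Agent.Helper3.redι _ hC)),
      Groth.Agent.Lib.Helper4.Equi7.isReduced_vanishingIdeal_subscheme _,
      Groth.Agent.Helper3.range_redι _ hC⟩
  haveI := hzcl
  haveI := hZred
  have hlift : ∀ (k' : Type u) [Field k'] [Algebra k k'] [Algebra.IsGeometricallyReduced k k']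
      (x : Spec (CommRingCat.of k') ⟶ X),
      x ≫ f = Spec.map (CommRingCat.ofHom (algebraMap k k')) →
      ∃ y : Spec (CommRingCat.of k') ⟶ Z, y ≫ z = x := by
    intro k' _ _ _ x hx
    apply Groth.Agent.Lib.Helper4.FibTransl1.exists_lift_of_range_subset z x
    rintro _ ⟨t, rfl⟩
    rw [hrz]
    apply subset_closure
    rw [hD]
    exact ⟨k', inferInstance, inferInstance, inferInstance, x, t, hx, rfl⟩
  obtain ⟨DZ, hDZdef⟩ : ∃ DZ : Set Z, DZ = z ⁻¹' D := ⟨_, rfl⟩
  have hDZ : Dense DZ := by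
    rw [dense_iff_closure_eq, z.isClosedEmbedding.isInducing.closure_eq_preimage_closure_image,
      hDZdef, Set.image_preimage_eq_inter_range, hrz,
      Set.inter_eq_left.mpr subset_closure, ← hrz]
    ext x
    simp
  have hgr : GeometricallyReduced (z ≫ f) := by
    apply MaxGeomRed1.geometricallyReduced_of_dense_sep
    intro V hV
    obtain ⟨v, hvV, hvD⟩ := hDZ.inter_open_nonempty V V.isOpen hV
    rw [hDZdef, Set.mem_preimage, hD] at hvD
    obtain ⟨k', fld, alg, hgr', x, t, hx, hxt⟩ := hvD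
    obtain ⟨y, hy⟩ := hlift k' x hx
    refine ⟨k', fld, alg, hgr', y, ?_, ?_⟩
    · rw [← Category.assoc, hy, hx]
    · intro t'
      haveI : Subsingleton ↥(Spec (CommRingCat.of k')) :=
        inferInstanceAs (Subsingleton (PrimeSpectrum k'))
      have h1 : z (y t') = z v := by
        rw [← Scheme.Hom.comp_apply, hy, Subsingleton.elim t' t, hxt]
      rw [z.isClosedEmbedding.injective h1]
      exact hvV
  exact ⟨Z, z, hzcl, hgr, hlift⟩

/-- every group scheme over a field has a geometrically reduced closed subgroup scheme through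
which every morphism from a geometrically reduced scheme factors -/
theorem exists_gredSubgroup (G : Over (Spec (CommRingCat.of k))) [GrpObj G] :
    ∃ (Z : Over (Spec (CommRingCat.of k))) (_ : GrpObj Z) (z : Z ⟶ G), IsMonHom z ∧
      IsClosedImmersion z.left ∧ GeometricallyReduced Z.hom ∧
      ∀ (T : Over (Spec (CommRingCat.of k))) [GeometricallyReduced T.hom] (t : T ⟶ G),
        ∃ t' : T ⟶ Z, t' ≫ z = t := by
  obtain ⟨Z₀, z₀, hzcl, hgr, hpts⟩ := exists_gred G.left G.hom
  let Z : Over (Spec (CommRingCat.of k)) := Over.mk (z₀ ≫ G.hom)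
  let z : Z ⟶ G := Over.homMk z₀ rfl
  haveI : IsClosedImmersion z.left := hzcl
  haveI : GeometricallyReduced Z.hom := hgr
  have hlift : ∀ (T : Over (Spec (CommRingCat.of k))) [GeometricallyReduced T.hom] (t : T ⟶ G),
      ∃ t' : T ⟶ Z, t' ≫ z = t := fun T _ t =>
    SepSub1.exists_lift_of_sep_points G Z z hpts T t
  haveI : GeometricallyReduced (Z ⊗ Z).hom := geometricallyReduced_tensor' Z Z
  haveI : GeometricallyReduced (𝟙_ (Over (Spec (CommRingCat.of k)))).hom :=
    MaxAb1.geometricallyReduced_id _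
  obtain ⟨mul', hm⟩ := hlift (Z ⊗ Z) ((z ⊗ₘ z) ≫ μ[G])
  obtain ⟨inv', hi⟩ := hlift Z (z ≫ ι[G])
  obtain ⟨one', h1⟩ := hlift (𝟙_ _) η[G]
  haveI : Mono z.left := inferInstance
  haveI : Mono z := Over.mono_of_mono_left z
  letI inst : GrpObj Z := SchClosGrp1.grpObjOfMono z one' mul' inv' h1 hm hi
  exact ⟨Z, inst, z, ⟨h1, hm⟩, hzcl, hgr, fun T _ t => hlift T t⟩


/-- the smallest closed subgroup scheme through which a family of morphisms factors
(intersection of all such closed subgroup schemes) -/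
theorem exists_smallest_closedSubgroup (G : Over (Spec (CommRingCat.of k))) [GrpObj G]
    {J : Type w} (X : J → Over (Spec (CommRingCat.of k))) (f : ∀ a, X a ⟶ G) :
    ∃ (Γ : Over (Spec (CommRingCat.of k))) (_ : GrpObj Γ) (i : Γ ⟶ G), IsMonHom i ∧
      IsClosedImmersion i.left ∧ (∀ a, ∃ f' : X a ⟶ Γ, f' ≫ i = f a) ∧
      ∀ (Γ' : Over (Spec (CommRingCat.of k))) (_ : GrpObj Γ') (i' : Γ' ⟶ G), IsMonHom i' →
        IsClosedImmersion i'.left → (∀ a, ∃ f'' : X a ⟶ Γ', f'' ≫ i' = f a) →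
        ∃ j : Γ ⟶ Γ', j ≫ i' = i := by
  let 𝓘 : Set G.left.IdealSheafData := {I | ∃ (Γ' : Over (Spec (CommRingCat.of k)))
    (_ : GrpObj Γ') (i' : Γ' ⟶ G), IsMonHom i' ∧ IsClosedImmersion i'.left ∧
    (∀ a, ∃ f'' : X a ⟶ Γ', f'' ≫ i' = f a) ∧ I = i'.left.ker}
  let I₀ : G.left.IdealSheafData := sSup 𝓘
  let Γ : Over (Spec (CommRingCat.of k)) := Over.mk (I₀.subschemeι ≫ G.hom)
  let i : Γ ⟶ G := Over.homMk I₀.subschemeι rfl
  haveI hicl : IsClosedImmersion i.left := inferInstanceAs (IsClosedImmersion I₀.subschemeι)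
  have hker : i.left.ker = I₀ := Scheme.IdealSheafData.ker_subschemeι _
  have hcrit : ∀ (T : Over (Spec (CommRingCat.of k))) (h : T ⟶ G),
      (∀ (Γ' : Over (Spec (CommRingCat.of k))) (_ : GrpObj Γ') (i' : Γ' ⟶ G), IsMonHom i' →
        IsClosedImmersion i'.left → (∀ a, ∃ f'' : X a ⟶ Γ', f'' ≫ i' = f a) →
        ∃ l : T ⟶ Γ', l ≫ i' = h) → ∃ l : T ⟶ Γ, l ≫ i = h := by
    intro T h hh
    have hle : i.left.ker ≤ h.left.ker := by
      rw [hker]
      apply sSup_le
      rintro I ⟨Γ', inst, i', h1, h2, h3, rfl⟩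
      obtain ⟨l, hl⟩ := hh Γ' inst i' h1 h2 h3
      rw [← hl, Over.comp_left]
      exact Scheme.Hom.le_ker_comp _ _
    have hfac : IsClosedImmersion.lift i.left h.left hle ≫ i.left = h.left :=
      IsClosedImmersion.lift_fac _ _ _
    refine ⟨Over.homMk (IsClosedImmersion.lift i.left h.left hle) ?_, ?_⟩
    · have := Over.w i
      rw [← Over.w i, ← Category.assoc, hfac]
      exact Over.w h
    · ext; exact hfac
  have hmem : ∀ (Γ' : Over (Spec (CommRingCat.of k))) (inst : GrpObj Γ') (i' : Γ' ⟶ G),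
      IsMonHom i' → IsClosedImmersion i'.left → (∀ a, ∃ f'' : X a ⟶ Γ', f'' ≫ i' = f a) →
      ∃ j : Γ ⟶ Γ', j ≫ i' = i := by
    intro Γ' inst i' h1 h2 h3
    haveI := h2
    have hle : i'.left.ker ≤ i.left.ker := by
      rw [hker]; exact le_sSup ⟨Γ', inst, i', h1, h2, h3, rfl⟩
    have hfac : IsClosedImmersion.lift i'.left i.left hle ≫ i'.left = i.left :=
      IsClosedImmersion.lift_fac _ _ _
    refine ⟨Over.homMk (IsClosedImmersion.lift i'.left i.left hle) ?_, ?_⟩
    · rw [← Over.w i', ← Category.assoc, hfac]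
      exact Over.w i
    · ext; exact hfac
  obtain ⟨mul', hm⟩ := hcrit (Γ ⊗ Γ) ((i ⊗ₘ i) ≫ μ[G]) (by
    intro Γ' inst i' h1 h2 h3
    obtain ⟨j, hj⟩ := hmem Γ' inst i' h1 h2 h3
    refine ⟨(j ⊗ₘ j) ≫ μ[Γ'], ?_⟩
    rw [Category.assoc, IsMonHom.mul_hom, ← Category.assoc, tensorHom_comp_tensorHom, hj])
  obtain ⟨inv', hi⟩ := hcrit Γ (i ≫ ι[G]) (by
    intro Γ' inst i' h1 h2 h3
    obtain ⟨j, hj⟩ := hmem Γ' inst i' h1 h2 h3
    refine ⟨j ≫ ι[Γ'], ?_⟩
    rw [Category.assoc, GrpObj.inv_hom, ← Category.assoc, hj])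
  obtain ⟨one', h1⟩ := hcrit (𝟙_ _) η[G] (by
    intro Γ' inst i' h1 h2 h3
    exact ⟨η[Γ'], IsMonHom.one_hom i'⟩)
  haveI : Mono i.left := inferInstance
  haveI : Mono i := Over.mono_of_mono_left i
  letI inst : GrpObj Γ := SchClosGrp1.grpObjOfMono i one' mul' inv' h1 hm hi
  refine ⟨Γ, inst, i, ⟨h1, hm⟩, hicl, ?_, hmem⟩
  intro a
  apply hcrit (X a) (f a)
  intro Γ' inst' i' _ _ h3
  exact h3 a


theorem main_S3028 (k : Type u) [Field k] (G X : Over (Spec (CommRingCat.of k))) [GrpObj G]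
    [GeometricallyReduced X.hom] (f : X ⟶ G) :
    ∃ (Γ : Over (Spec (CommRingCat.of k))) (_ : GrpObj Γ) (i : Γ ⟶ G), IsMonHom i ∧ IsClosedImmersion i.left ∧
      (∃ f' : X ⟶ Γ, f' ≫ i = f) ∧ GeometricallyReduced Γ.hom ∧
      ∀ (Γ' : Over (Spec (CommRingCat.of k))) (_ : GrpObj Γ') (i' : Γ' ⟶ G), IsMonHom i' → IsClosedImmersion i'.left →
        (∃ f'' : X ⟶ Γ', f'' ≫ i' = f) → ∃ j : Γ ⟶ Γ', j ≫ i' = i := by
  obtain ⟨Γ₀, inst₀, i₀, hmon₀, hcl₀, hf₀, hmin₀⟩ :=
    exists_smallest_closedSubgroup G (fun _ : PUnit.{1} => X) (fun _ => f)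
  obtain ⟨f₀, hf₀⟩ := hf₀ PUnit.unit
  obtain ⟨Z, instZ, z, hzmon, hzcl, hzgr, hzlift⟩ := exists_gredSubgroup Γ₀
  obtain ⟨f₁, hf₁⟩ := hzlift X f₀
  haveI := hzmon
  haveI := hmon₀
  haveI := hzcl
  haveI := hcl₀
  refine ⟨Z, instZ, z ≫ i₀, inferInstance,
    inferInstanceAs (IsClosedImmersion (z.left ≫ i₀.left)),
    ⟨f₁, by rw [← Category.assoc, hf₁, hf₀]⟩, hzgr, ?_⟩
  intro Γ' inst' i' h1 h2 h3
  obtain ⟨j, hj⟩ := hmin₀ Γ' inst' i' h1 h2 (fun _ => h3)
  exact ⟨z ≫ j, by rw [Category.assoc, hj]⟩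

theorem exists_over_lift {Y W T : Over (Spec (CommRingCat.of k))} (s : W ⟶ Y)
    [IsClosedImmersion s.left] [IsReduced T.left] (ζ : T ⟶ Y)
    (h : Set.range ζ.left ⊆ Set.range s.left) : ∃ g : T ⟶ W, g ≫ s = ζ := by
  obtain ⟨l, hl⟩ := FibTransl1.exists_lift_of_range_subset s.left ζ.left h
  refine ⟨Over.homMk l ?_, ?_⟩
  · rw [← Over.w s, ← Category.assoc, hl]; exact Over.w ζ
  · ext; exact hl


/-- the unit point `1 : 𝟙_ ⟶ Γ` squares to itself -/
theorem lift_one_one_mul (Γ : Over (Spec (CommRingCat.of k))) [GrpObj Γ] :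
    lift η[Γ] η[Γ] ≫ μ[Γ] = η[Γ] := by
  have h1 : (1 : 𝟙_ (Over (Spec (CommRingCat.of k))) ⟶ Γ) = η[Γ] := by
    rw [Hom.one_def, Subsingleton.elim (toUnit (𝟙_ (Over (Spec (CommRingCat.of k))))) (𝟙 _),
      Category.id_comp]
  rw [← Hom.mul_def, ← h1, _root_.mul_one]

theorem main_S3031 (k : Type u) [Field k] (G X : Over (Spec (CommRingCat.of k))) [GrpObj G]
    [GeometricallyReduced X.hom] [ConnectedSpace X.left] (x : 𝟙_ (Over (Spec (CommRingCat.of k))) ⟶ X) (f : X ⟶ G)
    (hx : x ≫ f = η[G])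
    (Γ : Over (Spec (CommRingCat.of k))) [GrpObj Γ] (i : Γ ⟶ G) [IsMonHom i] [IsClosedImmersion i.left]
    (hf : ∃ f' : X ⟶ Γ, f' ≫ i = f)
    (hmin : ∀ (Γ' : Over (Spec (CommRingCat.of k))) (_ : GrpObj Γ') (i' : Γ' ⟶ G), IsMonHom i' → IsClosedImmersion i'.left →
        (∃ f'' : X ⟶ Γ', f'' ≫ i' = f) → ∃ j : Γ ⟶ Γ', j ≫ i' = i) :
    ConnectedSpace Γ.left := by
  haveI : Mono i.left := inferInstance
  haveI : Mono i := Over.mono_of_mono_left i
  haveI : Subsingleton ↥(Spec (CommRingCat.of k)) :=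
    inferInstanceAs (Subsingleton (PrimeSpectrum k))
  haveI : Nonempty ↥(𝟙_ (Over (Spec (CommRingCat.of k)))).left :=
    inferInstanceAs (Nonempty (PrimeSpectrum k))
  haveI : IsReduced (𝟙_ (Over (Spec (CommRingCat.of k)))).left :=
    inferInstanceAs (IsReduced (Spec (CommRingCat.of k)))
  haveI : Subsingleton ↥(𝟙_ (Over (Spec (CommRingCat.of k)))).left :=
    inferInstanceAs (Subsingleton (PrimeSpectrum k))
  obtain ⟨f', hf'⟩ := hf
  -- Γ is geometrically reduced
  haveI hΓgr : GeometricallyReduced Γ.hom := by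
    obtain ⟨Γ₁, inst₁, i₁, hmon₁, hcl₁, hf₁, hgr₁, hmin₁⟩ := main_S3028 k G X f
    haveI := hcl₁
    haveI : Mono i₁.left := inferInstance
    haveI : Mono i₁ := Over.mono_of_mono_left i₁
    obtain ⟨j, hj⟩ := hmin Γ₁ inst₁ i₁ hmon₁ hcl₁ hf₁
    obtain ⟨j₁, hj₁⟩ := hmin₁ Γ inferInstance i inferInstance inferInstance ⟨f', hf'⟩
    have h1 : j ≫ j₁ = 𝟙 Γ := by
      rw [← cancel_mono i, Category.assoc, hj₁, hj, Category.id_comp]
    have h2 : j₁ ≫ j = 𝟙 Γ₁ := by
      rw [← cancel_mono i₁, Category.assoc, hj, hj₁, Category.id_comp]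
    haveI : IsIso j := ⟨j₁, h1, h2⟩
    haveI : IsIso j.left := inferInstanceAs (IsIso ((Over.forget _).map j))
    haveI := hgr₁
    rw [← Over.w j]
    infer_instance
  let pt : ↥(𝟙_ (Over (Spec (CommRingCat.of k)))).left := Classical.arbitrary _
  let e : Γ.left := η[Γ].left pt
  have hC : IsClosed (connectedComponent e) := isClosed_connectedComponent
  let Cr : Over (Spec (CommRingCat.of k)) := Over.mk (Groth.Agent.Helper3.redι _ hC ≫ Γ.hom)
  let c : Cr ⟶ Γ := Over.homMk (Groth.Agent.Helper3.redι _ hC) rfl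
  haveI hccl : IsClosedImmersion c.left :=
    inferInstanceAs (IsClosedImmersion (Groth.Agent.Helper3.redι _ hC))
  haveI hCrred : IsReduced Cr.left :=
    Groth.Agent.Lib.Helper4.Equi7.isReduced_vanishingIdeal_subscheme _
  have hrc : Set.range c.left = connectedComponent e := Groth.Agent.Helper3.range_redι _ hC
  -- maps from connected reduced sources hitting `e` factor through `Cr`
  have hliftC : ∀ (T : Over (Spec (CommRingCat.of k))) [IsReduced T.left] [ConnectedSpace T.left]
      (ζ : T ⟶ Γ), e ∈ Set.range ζ.left → ∃ g : T ⟶ Cr, g ≫ c = ζ := by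
    intro T _ _ ζ he
    apply exists_over_lift c ζ
    rw [hrc]
    exact (isPreconnected_range ζ.left.continuous).subset_connectedComponent he
  -- unit
  obtain ⟨one', h1⟩ : ∃ g : 𝟙_ (Over (Spec (CommRingCat.of k))) ⟶ Cr, g ≫ c = η[Γ] := by
    apply exists_over_lift c η[Γ]
    rintro _ ⟨t, rfl⟩
    rw [hrc, Subsingleton.elim t pt]
    exact mem_connectedComponent
  -- connectedness of Cr
  haveI : Nonempty Cr.left := ⟨one'.left pt⟩
  haveI hCrconn : ConnectedSpace Cr.left := by
    haveI : PreconnectedSpace Cr.left := by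
      refine ⟨?_⟩
      rw [← c.left.isClosedEmbedding.isInducing.isPreconnected_image, Set.image_univ, hrc]
      exact isPreconnected_connectedComponent
    exact ⟨‹Nonempty Cr.left›⟩
  -- geometric reducedness of Cr
  haveI hCrgr : GeometricallyReduced Cr.hom := by
    apply MaxGeomRed1.geometricallyReduced_of_dense_sep
    intro V hV
    obtain ⟨v, hvV⟩ := hV
    obtain ⟨k', fld, alg, hgr', x', t, hx', hsp⟩ :=
      SepSub1.exists_sep_point_specializes k Γ.hom (c.left v)
    haveI : Subsingleton ↥(Spec (CommRingCat.of k')) :=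
      inferInstanceAs (Subsingleton (PrimeSpectrum k'))
    have hcv : connectedComponent (c.left v) = connectedComponent e := by
      refine (connectedComponent_eq ?_).symm
      rw [← hrc]; exact ⟨v, rfl⟩
    have hmem : c.left v ∈ closure ({x' t} : Set Γ.left) := specializes_iff_mem_closure.mp hsp
    have hsub : closure ({x' t} : Set Γ.left) ⊆ connectedComponent e := by
      rw [← hcv]
      exact (isPreconnected_singleton.closure).subset_connectedComponent hmem
    have hrange : Set.range x' ⊆ Set.range c.left := by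
      rintro _ ⟨t', rfl⟩
      rw [hrc, Subsingleton.elim t' t]
      exact hsub (subset_closure rfl)
    obtain ⟨y, hy⟩ := FibTransl1.exists_lift_of_range_subset c.left x' hrange
    refine ⟨k', fld, alg, hgr', y, ?_, ?_⟩
    · have : Cr.hom = c.left ≫ Γ.hom := (Over.w c).symm
      rw [this, ← Category.assoc, hy, hx']
    · intro t'
      have h3 : c.left (y t') ⤳ c.left v := by
        rw [← Scheme.Hom.comp_apply, hy, Subsingleton.elim t' t]; exact hsp
      have h4 : y t' ⤳ v := c.left.isClosedEmbedding.isInducing.specializes_iff.mp h3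
      exact h4.mem_open V.isOpen hvV
  haveI : GeometricallyReduced (Cr ⊗ Cr).hom := geometricallyReduced_tensor' Cr Cr
  haveI : IsReduced (Cr ⊗ Cr).left := SepSub1.isReduced_of_geometricallyReduced (Cr ⊗ Cr)
  haveI : ConnectedSpace ↥(Cr ⊗ Cr).left := by
    have hσ : one'.left ≫ Cr.hom = 𝟙 _ := by simpa using Over.w one'
    exact GrpArtin2.connectedSpace_pullback Cr.hom one'.left hσ Cr.hom
  -- multiplication
  obtain ⟨mul', hm⟩ := hliftC (Cr ⊗ Cr) ((c ⊗ₘ c) ≫ μ[Γ]) (by
    refine ⟨(lift one' one').left pt, ?_⟩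
    have h5 : lift one' one' ≫ (c ⊗ₘ c) ≫ μ[Γ] = η[Γ] := by
      rw [← Category.assoc, lift_map, h1, lift_one_one_mul]
    rw [← Scheme.Hom.comp_apply, ← Over.comp_left, h5])
  -- inverse
  obtain ⟨inv', hi⟩ := hliftC Cr (c ≫ ι[Γ]) (by
    refine ⟨one'.left pt, ?_⟩
    have h5 : one' ≫ c ≫ ι[Γ] = η[Γ] := by
      rw [← Category.assoc, h1, GrpObj.one_inv]
    rw [← Scheme.Hom.comp_apply, ← Over.comp_left, h5])
  haveI : Mono c.left := inferInstance
  haveI : Mono c := Over.mono_of_mono_left c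
  letI inst : GrpObj Cr := SchClosGrp1.grpObjOfMono c one' mul' inv' h1 hm hi
  haveI hcmon : IsMonHom c := ⟨h1, hm⟩
  -- f factors through Cr
  haveI : IsReduced X.left := SepSub1.isReduced_of_geometricallyReduced X
  obtain ⟨f'', hf''⟩ := hliftC X f' (by
    refine ⟨x.left pt, ?_⟩
    have h5 : x ≫ f' = η[Γ] := by
      rw [← cancel_mono i, Category.assoc, hf', hx, IsMonHom.one_hom]
    rw [← Scheme.Hom.comp_apply, ← Over.comp_left, h5])
  obtain ⟨j, hj⟩ := hmin Cr inst (c ≫ i) inferInstance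
    (inferInstanceAs (IsClosedImmersion (c.left ≫ i.left)))
    ⟨f'', by rw [← Category.assoc, hf'', hf']⟩
  have hjc : j ≫ c = 𝟙 Γ := by
    rw [← cancel_mono i, Category.assoc, hj, Category.id_comp]
  have huniv : connectedComponent e = Set.univ := by
    rw [← hrc]
    apply Set.eq_univ_of_forall
    intro g0
    refine ⟨j.left g0, ?_⟩
    rw [← Scheme.Hom.comp_apply, ← Over.comp_left, hjc]
    rfl
  haveI : Nonempty Γ.left := ⟨e⟩
  haveI : PreconnectedSpace Γ.left := ⟨by rw [← huniv]; exact isPreconnected_connectedComponent⟩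
  exact ⟨‹Nonempty Γ.left›⟩

end Groth.Agent.Lib.Helper4.GenSub1
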