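import Mathlib
import Groth.Prelude.Def_SGA3x
import Groth.Prelude.Def_Red
import Groth.Prelude.Def_AlgGrp
import Groth.Agent.Lib.Helper4.GenSub1
import Groth.Agent.Lib.Helper9.OrbitLib

/-!
# Rational points lying under words in f = subgroup generated by rational points in the image (alg. closed field); comp_word, exists_approx, exists_section_of_lft (helper4) (helper4)
-/

set_option backward.isDefEq.respectTransparency.types false
set_option synthInstance.maxHeartbeats 400000
set_option autoImplicit false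
set_option linter.unusedSectionVars false
set_option linter.style.haveILetI false
set_option linter.unusedSimpArgs false
universe u v w
open CategoryTheory CategoryTheory.Limits AlgebraicGeometry TopologicalSpace Opposite
open MonoidalCategory CartesianMonoidalCategory MonObj GrpObj

namespace Groth.Agent.Lib.Helper4.WordPts1
open Groth.Agent.Lib.Helper4

variable {k : Type u} [Field k]

section Word
variable {C : Type*} [Category C] [CartesianMonoidalCategory C] {G X : C} [GrpObj G]

theorem comp_list_prod {T T' : C} (π : T' ⟶ T) (l : List (T ⟶ G)) :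
    π ≫ l.prod = (l.map (fun a => π ≫ a)).prod := by
  induction l with
  | nil => simp [MonObj.comp_one]
  | cons a l ih => rw [List.prod_cons, MonObj.comp_mul, ih, List.map_cons, List.prod_cons]

theorem comp_word {T T' : C} (π : T' ⟶ T) (f : X ⟶ G) {n : ℕ} (x : Fin n → (T ⟶ X))
    (ε : Fin n → Bool) :
    π ≫ (List.ofFn fun j : Fin n => if ε j then x j ≫ f else (x j ≫ f)⁻¹).prod =
      (List.ofFn fun j : Fin n => if ε j then (π ≫ x j) ≫ f else ((π ≫ x j) ≫ f)⁻¹).prod := by
  rw [comp_list_prod, List.map_ofFn]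
  congr 2
  funext j
  simp only [Function.comp]
  split_ifs
  · rw [Category.assoc]
  · rw [GrpObj.comp_inv, Category.assoc]

end Word

theorem reverse_ofFn' {α : Type*} {n : ℕ} (f : Fin n → α) :
    (List.ofFn f).reverse = List.ofFn (fun i => f i.rev) := by
  apply List.ext_getElem
  · simp
  · intro i h1 h2
    simp only [List.getElem_reverse, List.getElem_ofFn, List.length_ofFn]
    congr 1
    ext
    simp only [Fin.val_rev]
    omega

/-- a nonempty scheme locally of finite type over an algebraically closed field has a rational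
point -/
theorem exists_section_of_lft [IsAlgClosed k] {E : Scheme.{u}} (π : E ⟶ Spec (CommRingCat.of k))
    [LocallyOfFiniteType π] [Nonempty E] : ∃ σ : Spec (CommRingCat.of k) ⟶ E, σ ≫ π = 𝟙 _ := by
  obtain ⟨e⟩ := ‹Nonempty E›
  obtain ⟨R, j, hj, e', he'⟩ : ∃ (R : CommRingCat.{u}) (j : Spec R ⟶ E), IsOpenImmersion j ∧
      ∃ e' : ↥(Spec R), j e' = e :=
    ⟨_, E.affineCover.f (E.affineCover.idx e), E.affineCover.map_prop _, E.affineCover.covers e⟩
  obtain ⟨φ, hφ⟩ : ∃ φ : CommRingCat.of k ⟶ R, Spec.map φ = j ≫ π :=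
    ⟨Spec.preimage _, Spec.map_preimage _⟩
  letI alg : Algebra k R := φ.hom.toAlgebra
  haveI : LocallyOfFiniteType (Spec.map φ) := by rw [hφ]; infer_instance
  have hft : φ.hom.FiniteType := (HasRingHomProperty.Spec_iff (P := @LocallyOfFiniteType)).mp ‹_›
  haveI : Algebra.FiniteType k R := hft
  haveI : Nontrivial R := by
    have : Nonempty (PrimeSpectrum R) := ⟨e'⟩
    exact (PrimeSpectrum.nonempty_iff_nontrivial.mp this)
  obtain ⟨z, -⟩ := Groth.Agent.Helper9.OrbitLib.exists_algHom_of_ne_top (k := k) (R := R)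
    (⊥ : Ideal R) bot_ne_top
  refine ⟨Spec.map (CommRingCat.ofHom z.toRingHom) ≫ j, ?_⟩
  rw [Category.assoc, ← hφ, ← Spec.map_comp]
  have : φ ≫ CommRingCat.ofHom z.toRingHom = 𝟙 _ := by
    ext a
    exact z.commutes a
  rw [this, Spec.map_id]


theorem exists_approx (X : Over (Spec (CommRingCat.of k))) [LocallyOfFiniteType X.hom] :
    ∀ (n : ℕ) (T : Over (Spec (CommRingCat.of k))) (x : Fin n → (T ⟶ X)),
      ∃ (T₀ : Over (Spec (CommRingCat.of k))) (_ : LocallyOfFiniteType T₀.hom) (π : T ⟶ T₀)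
        (y : Fin n → (T₀ ⟶ X)), ∀ j, π ≫ y j = x j
  | 0, T, x => ⟨𝟙_ _, inferInstanceAs (LocallyOfFiniteType (𝟙 _)), toUnit T, Fin.elim0,
      fun j => j.elim0⟩
  | n + 1, T, x => by
    obtain ⟨T₀', h', π', y', hy'⟩ := exists_approx X n T (fun j => x j.succ)
    haveI := h'
    refine ⟨X ⊗ T₀', ?_, lift (x 0) π', Fin.cons (fst X T₀') (fun j => snd X T₀' ≫ y' j), ?_⟩
    · rw [Over.tensorObj_hom]; infer_instance
    · intro j
      refine Fin.cases ?_ (fun i => ?_) j
      · simp
      · simp [hy']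

theorem main_S6075 (k : Type u) [Field k] [IsAlgClosed k]
    (G X : Over (Spec (CommRingCat.of k))) [GrpObj G] [LocallyOfFiniteType G.hom]
    [LocallyOfFiniteType X.hom] (f : X ⟶ G) :
    {g : 𝟙_ (Over (Spec (CommRingCat.of k))) ⟶ G | ∃ (n : ℕ) (T : Over (Spec (CommRingCat.of k))) (p : T.left) (p₀ : (𝟙_ (Over (Spec (CommRingCat.of k)))).left)
        (x : Fin n → (T ⟶ X)) (ε : Fin n → Bool), ((List.ofFn fun j : Fin n => if ε j then x j ≫ f else (x j ≫ f)⁻¹).prod : T ⟶ G).left.base p = g.left.base p₀} =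
      ((Subgroup.closure {g : 𝟙_ (Over (Spec (CommRingCat.of k))) ⟶ G | ∃ p₀ : (𝟙_ (Over (Spec (CommRingCat.of k)))).left, g.left.base p₀ ∈ Set.range f.left.base} :
        Subgroup (𝟙_ (Over (Spec (CommRingCat.of k))) ⟶ G)) : Set (𝟙_ (Over (Spec (CommRingCat.of k))) ⟶ G)) := by
  haveI : Subsingleton ↥(𝟙_ (Over (Spec (CommRingCat.of k)))).left :=
    inferInstanceAs (Subsingleton (PrimeSpectrum k))
  haveI : Subsingleton ↥(Spec (CommRingCat.of k)) :=
    inferInstanceAs (Subsingleton (PrimeSpectrum k))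
  have hunit : ∀ (a : 𝟙_ (Over (Spec (CommRingCat.of k))) ⟶ 𝟙_ (Over (Spec (CommRingCat.of k)))),
      a = 𝟙 _ := fun a => (toUnit_unique a (𝟙 _))
  apply Set.Subset.antisymm
  · rintro g ⟨n, T, p, p₀, x, ε, hw⟩
    obtain ⟨T₀, hT₀, π, y, hy⟩ := exists_approx X n T x
    haveI := hT₀
    obtain ⟨w₀, hw₀⟩ : ∃ w₀ : T₀ ⟶ G,
        w₀ = (List.ofFn fun j : Fin n => if ε j then y j ≫ f else (y j ≫ f)⁻¹).prod := ⟨_, rfl⟩
    have hπw : π ≫ w₀ =
        (List.ofFn fun j : Fin n => if ε j then x j ≫ f else (x j ≫ f)⁻¹).prod := by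
      rw [hw₀, comp_word]; simp only [hy]
    haveI : LocallyOfFiniteType (g.left ≫ G.hom) := by
      rw [Over.w g]; exact inferInstanceAs (LocallyOfFiniteType (𝟙 _))
    haveI : LocallyOfFiniteType g.left := locallyOfFiniteType_of_comp g.left G.hom
    haveI : Nonempty ↥(pullback w₀.left g.left) := by
      obtain ⟨e, -, -⟩ := Scheme.Pullback.exists_preimage_pullback (f := w₀.left) (g := g.left)
        (π.left p) p₀ (by
          rw [← Scheme.Hom.comp_apply, ← Over.comp_left, hπw]; exact hw)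
      exact ⟨e⟩
    obtain ⟨σ, hσ⟩ := exists_section_of_lft (pullback.fst w₀.left g.left ≫ T₀.hom)
    let σ₀ : 𝟙_ (Over (Spec (CommRingCat.of k))) ⟶ T₀ :=
      Over.homMk (σ ≫ pullback.fst _ _) (by rw [Category.assoc, hσ]; rfl)
    have hσ₀ : σ₀.left = σ ≫ pullback.fst _ _ := rfl
    have hsnd : σ ≫ pullback.snd w₀.left g.left = 𝟙 _ := by
      have h1 : g.left ≫ G.hom = 𝟙 _ := by simpa using Over.w g
      calc σ ≫ pullback.snd w₀.left g.left
          = σ ≫ pullback.snd w₀.left g.left ≫ g.left ≫ G.hom := by rw [h1, Category.comp_id]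
        _ = σ ≫ pullback.fst w₀.left g.left ≫ w₀.left ≫ G.hom := by
            rw [← Category.assoc (pullback.snd _ _), ← pullback.condition, Category.assoc]
        _ = 𝟙 _ := by rw [Over.w w₀, hσ]
    have hσw : σ₀ ≫ w₀ = g := by
      ext1
      rw [Over.comp_left, hσ₀, Category.assoc, pullback.condition, ← Category.assoc, hsnd]
      exact Category.id_comp _
    rw [← hσw, hw₀, comp_word]
    apply Subgroup.list_prod_mem
    intro a ha
    rw [List.mem_ofFn] at ha
    obtain ⟨j, rfl⟩ := ha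
    have hgen : (σ₀ ≫ y j) ≫ f ∈ Subgroup.closure {g : 𝟙_ (Over (Spec (CommRingCat.of k))) ⟶ G |
        ∃ p₀ : (𝟙_ (Over (Spec (CommRingCat.of k)))).left, g.left.base p₀ ∈ Set.range f.left.base} := by
      apply Subgroup.subset_closure
      exact ⟨p₀, (σ₀ ≫ y j).left.base p₀, rfl⟩
    simp only []
    split_ifs
    · exact hgen
    · exact Subgroup.inv_mem _ hgen
  · -- the left hand side is a subgroup containing the generators
    let S₀ : Subgroup (𝟙_ (Over (Spec (CommRingCat.of k))) ⟶ G) :=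
      { carrier := {g | ∃ (n : ℕ) (T : Over (Spec (CommRingCat.of k))) (p : T.left) (p₀ : (𝟙_ (Over (Spec (CommRingCat.of k)))).left)
          (x : Fin n → (T ⟶ X)) (ε : Fin n → Bool), ((List.ofFn fun j : Fin n => if ε j then x j ≫ f else (x j ≫ f)⁻¹).prod : T ⟶ G).left.base p = g.left.base p₀}
        one_mem' := by
          obtain ⟨p₀⟩ : Nonempty ↥(𝟙_ (Over (Spec (CommRingCat.of k)))).left :=
            inferInstanceAs (Nonempty (PrimeSpectrum k))
          exact ⟨0, 𝟙_ _, p₀, p₀, Fin.elim0, Fin.elim0, by simp⟩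
        mul_mem' := by
          rintro g₁ g₂ ⟨n₁, T₁, p₁, p₀, x₁, ε₁, h₁⟩ ⟨n₂, T₂, p₂, p₀', x₂, ε₂, h₂⟩
          obtain rfl : p₀ = p₀' := Subsingleton.elim _ _
          obtain ⟨z, hz1, hz2⟩ := Scheme.Pullback.exists_preimage_pullback (f := T₁.hom)
            (g := T₂.hom) p₁ p₂ (Subsingleton.elim _ _)
          refine ⟨n₁ + n₂, T₁ ⊗ T₂, z, p₀,
            Fin.append (fun j => fst T₁ T₂ ≫ x₁ j) (fun j => snd T₁ T₂ ≫ x₂ j),
            Fin.append ε₁ ε₂, ?_⟩
          have e1 : (fun j : Fin (n₁ + n₂) =>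
              if Fin.append ε₁ ε₂ j then
                Fin.append (fun j => fst T₁ T₂ ≫ x₁ j) (fun j => snd T₁ T₂ ≫ x₂ j) j ≫ f
              else (Fin.append (fun j => fst T₁ T₂ ≫ x₁ j) (fun j => snd T₁ T₂ ≫ x₂ j) j ≫ f)⁻¹) =
              Fin.append (fun j : Fin n₁ => if ε₁ j then (fst T₁ T₂ ≫ x₁ j) ≫ f
                  else ((fst T₁ T₂ ≫ x₁ j) ≫ f)⁻¹)
                (fun j : Fin n₂ => if ε₂ j then (snd T₁ T₂ ≫ x₂ j) ≫ f
                  else ((snd T₁ T₂ ≫ x₂ j) ≫ f)⁻¹) := by
            funext j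
            refine Fin.addCases (fun i => ?_) (fun i => ?_) j
            · simp only [Fin.append_left]
            · simp only [Fin.append_right]
          rw [e1, List.ofFn_fin_append, List.prod_append, ← comp_word, ← comp_word]
          obtain ⟨w₁, hw₁⟩ : ∃ w₁ : T₁ ⟶ G,
            w₁ = (List.ofFn fun j : Fin n₁ => if ε₁ j then x₁ j ≫ f else (x₁ j ≫ f)⁻¹).prod :=
            ⟨_, rfl⟩
          obtain ⟨w₂, hw₂⟩ : ∃ w₂ : T₂ ⟶ G,
            w₂ = (List.ofFn fun j : Fin n₂ => if ε₂ j then x₂ j ≫ f else (x₂ j ≫ f)⁻¹).prod :=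
            ⟨_, rfl⟩
          rw [← hw₁] at h₁ ⊢
          rw [← hw₂] at h₂ ⊢
          have e2 : fst T₁ T₂ ≫ w₁ * snd T₁ T₂ ≫ w₂ = (w₁ ⊗ₘ w₂) ≫ μ[G] := by
            rw [Hom.mul_def]
            have e2' : lift (fst T₁ T₂ ≫ w₁) (snd T₁ T₂ ≫ w₂) = (w₁ ⊗ₘ w₂) := by
              apply CartesianMonoidalCategory.hom_ext <;> simp
            rw [e2']
          rw [e2]
          -- the point `(w₁ ⊗ₘ w₂) z` of `G ⊗ G`
          have hf1 : (fst G G).left ((w₁ ⊗ₘ w₂).left z) = g₁.left p₀ := by
            rw [← Scheme.Hom.comp_apply, ← Over.comp_left, tensorHom_fst, Over.comp_left,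
              Scheme.Hom.comp_apply]
            have : (fst T₁ T₂).left z = p₁ := hz1
            rw [this]; exact h₁
          have hf2 : (snd G G).left ((w₁ ⊗ₘ w₂).left z) = g₂.left p₀ := by
            rw [← Scheme.Hom.comp_apply, ← Over.comp_left, tensorHom_snd, Over.comp_left,
              Scheme.Hom.comp_apply]
            have : (snd T₁ T₂).left z = p₂ := hz2
            rw [this]; exact h₂
          obtain ⟨y', hy'⟩ := ClosSub1.mem_range_sec G g₁ ((w₁ ⊗ₘ w₂).left z) p₀ hf1
          have hy'' : y' = g₂.left p₀ := by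
            rw [← hf2, ← hy', ← Scheme.Hom.comp_apply, ← Over.comp_left, lift_snd]
            rfl
          have e3 : g₂ ≫ lift (toUnit G ≫ g₁) (𝟙 G) = lift g₁ g₂ := by
            apply CartesianMonoidalCategory.hom_ext
            · rw [Category.assoc, lift_fst, lift_fst, ← Category.assoc, hunit (g₂ ≫ toUnit G),
                Category.id_comp]
            · rw [Category.assoc, lift_snd, lift_snd, Category.comp_id]
          show (((w₁ ⊗ₘ w₂) ≫ μ[G]).left) z = (g₁ * g₂).left p₀
          rw [Over.comp_left, Scheme.Hom.comp_apply, ← hy', hy'', ← Scheme.Hom.comp_apply,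
            ← Scheme.Hom.comp_apply, ← Over.comp_left, ← Over.comp_left, ← Category.assoc, e3,
            Hom.mul_def]
        inv_mem' := by
          rintro g ⟨n, T, p, p₀, x, ε, h⟩
          refine ⟨n, T, p, p₀, fun j => x j.rev, fun j => !ε j.rev, ?_⟩
          obtain ⟨w, hw⟩ : ∃ w : T ⟶ G,
            w = (List.ofFn fun j : Fin n => if ε j then x j ≫ f else (x j ≫ f)⁻¹).prod :=
            ⟨_, rfl⟩
          have e1 : (List.ofFn fun j : Fin n => if (!ε j.rev) = true then x j.rev ≫ f
              else (x j.rev ≫ f)⁻¹).prod = w⁻¹ := by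
            rw [hw, List.prod_inv_reverse, List.map_ofFn, reverse_ofFn']
            congr 2
            funext j
            simp only [Function.comp]
            cases ε j.rev <;> simp
          rw [e1]
          rw [← hw] at h
          show (w⁻¹).left p = (g⁻¹).left p₀
          rw [Hom.inv_def, Hom.inv_def, Over.comp_left, Over.comp_left, Scheme.Hom.comp_apply,
            Scheme.Hom.comp_apply]
          exact congrArg _ h }
    have hle : Subgroup.closure {g : 𝟙_ (Over (Spec (CommRingCat.of k))) ⟶ G |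
        ∃ p₀ : (𝟙_ (Over (Spec (CommRingCat.of k)))).left, g.left.base p₀ ∈ Set.range f.left.base} ≤ S₀ := by
      rw [Subgroup.closure_le]
      rintro g ⟨p₀, x₀, hx₀⟩
      refine ⟨1, X, x₀, p₀, fun _ => 𝟙 X, fun _ => true, ?_⟩
      simp only [List.ofFn_succ, List.ofFn_zero, List.prod_cons, List.prod_nil, if_true,
        Category.id_comp, _root_.mul_one]
      exact hx₀
    exact hle

end Groth.Agent.Lib.Helper4.WordPts1
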