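import Mathlib

/-!
# Descent along flat surjective (not nec. quasi-compact) morphisms for quasi-compact `f` (helper4)
-/

set_option backward.isDefEq.respectTransparency.types false
set_option synthInstance.maxHeartbeats 400000
set_option autoImplicit false
set_option linter.unusedSectionVars false
set_option linter.style.haveILetI false
universe u
open CategoryTheory CategoryTheory.Limits AlgebraicGeometry TopologicalSpace

namespace Groth.Agent.Lib.Helper4.FlatDesc


theorem S13709_main {X Y Y' : Scheme.{u}} (f : X ⟶ Y) (g : Y' ⟶ Y)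
    [Flat g] [Surjective g] [QuasiCompact f] (h : IsHomeomorph (pullback.snd f g).base) :
    IsHomeomorph f.base := by
  have hgen : GeneralizingMap g := Flat.generalizingMap g
  have hcond : ∀ z : ↑(pullback f g), f (pullback.fst f g z) = g (pullback.snd f g z) := by
    intro z
    rw [← Scheme.Hom.comp_apply, ← Scheme.Hom.comp_apply, pullback.condition]
  -- injective
  have hinj : Function.Injective f := by
    intro x1 x2 hx
    obtain ⟨y', hy'⟩ := g.surjective (f x1)
    obtain ⟨z1, hz1a, hz1b⟩ := Scheme.Pullback.exists_preimage_pullback (f := f) (g := g) x1 y' hy'.symm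
    obtain ⟨z2, hz2a, hz2b⟩ := Scheme.Pullback.exists_preimage_pullback (f := f) (g := g) x2 y'
      (hx ▸ hy'.symm)
    have : z1 = z2 := h.injective (hz1b.trans hz2b.symm)
    rw [← hz1a, ← hz2a, this]
  have hsurj : Function.Surjective f := by
    intro y
    obtain ⟨y', hy'⟩ := g.surjective y
    obtain ⟨z, hz⟩ := h.surjective y'
    refine ⟨pullback.fst f g z, ?_⟩
    rw [hcond, hz, hy']
  have hspec : SpecializingMap f := by
    intro x y0 hxy0
    obtain ⟨y0', hy0'⟩ := g.surjective y0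
    obtain ⟨y', hy'y0', hy'⟩ := hgen (hy0' ▸ hxy0 : f x ⤳ g y0')
    obtain ⟨z, hza, hzb⟩ := Scheme.Pullback.exists_preimage_pullback (f := f) (g := g) x y' hy'.symm
    have hcl : SpecializingMap (pullback.snd f g) := h.isClosedMap.specializingMap
    obtain ⟨z0, hzz0, hz0⟩ := hcl (hzb ▸ hy'y0' : (pullback.snd f g) z ⤳ y0')
    refine ⟨pullback.fst f g z0, ?_, ?_⟩
    · rw [← hza]; exact hzz0.map (pullback.fst f g).continuous
    · rw [hcond, hz0, hy0']
  have hclosed : IsClosedMap f := (isClosedMap_iff_specializingMap f).mpr hspec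
  exact (isHomeomorph_iff_continuous_isClosedMap_bijective).mpr
    ⟨f.continuous, hclosed, hinj, hsurj⟩

theorem exists_specializes_of_mem_closure_image {X Y : Scheme.{u}} (f : X ⟶ Y) [QuasiCompact f]
    (Z : Set X) (hZ : IsClosed Z) (y : Y) (hy : y ∈ closure (f '' Z)) : ∃ z ∈ Z, f z ⤳ y := by
  obtain ⟨V, hV, hyV, -⟩ := Opens.isBasis_iff_nbhd.mp Y.isBasis_affineOpens
    (show y ∈ (⊤ : Y.Opens) from trivial)
  have hc : IsCompact ((f ⁻¹ᵁ V : X.Opens) : Set X) :=
    QuasiCompact.isCompact_preimage (f := f) _ V.isOpen hV.isCompact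
  obtain ⟨R, g, hg⟩ := isCompact_iff_exists.mp hc
  have hrange : Set.range (g ≫ f) ⊆ Set.range hV.fromSpec := by
    rw [hV.range_fromSpec]
    rintro _ ⟨r, rfl⟩
    have : g r ∈ ((f ⁻¹ᵁ V : X.Opens) : Set X) := hg ▸ ⟨r, rfl⟩
    exact this
  let k : Spec R ⟶ Spec Γ(Y, V) := IsOpenImmersion.lift hV.fromSpec (g ≫ f) hrange
  have hk : k ≫ hV.fromSpec = g ≫ f := IsOpenImmersion.lift_fac _ _ _
  obtain ⟨φ, hφ⟩ := Spec.map_surjective k
  obtain ⟨I, hI⟩ := (PrimeSpectrum.isClosed_iff_zeroLocus_ideal (g ⁻¹' Z)).mp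
    (hZ.preimage g.continuous)
  obtain ⟨p, hp⟩ : ∃ p, hV.fromSpec p = y := by
    have : y ∈ Set.range hV.fromSpec := by rw [hV.range_fromSpec]; exact hyV
    exact this
  have himg : hV.fromSpec '' (k '' (g ⁻¹' Z)) = f '' Z ∩ V := by
    ext w
    constructor
    · rintro ⟨_, ⟨r, hr, rfl⟩, rfl⟩
      refine ⟨⟨g r, hr, ?_⟩, ?_⟩
      · rw [← Scheme.Hom.comp_apply, ← Scheme.Hom.comp_apply, hk]
      · have : hV.fromSpec (k r) ∈ Set.range hV.fromSpec := ⟨_, rfl⟩
        rw [hV.range_fromSpec] at this; exact this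
    · rintro ⟨⟨z, hz, rfl⟩, hzV⟩
      have : z ∈ Set.range g := by rw [hg]; exact hzV
      obtain ⟨r, rfl⟩ := this
      refine ⟨k r, ⟨r, hz, rfl⟩, ?_⟩
      rw [← Scheme.Hom.comp_apply, hk]; rfl
  have hp_cl : p ∈ closure (k '' (g ⁻¹' Z)) := by
    rw [hV.fromSpec.isOpenEmbedding.isInducing.closure_eq_preimage_closure_image]
    rw [Set.mem_preimage]
    rw [hp, himg, mem_closure_iff]
    intro O hO hyO
    obtain ⟨w, ⟨hwO, hwV⟩, hw2⟩ := mem_closure_iff.mp hy (O ∩ V) (hO.inter V.isOpen) ⟨hyO, hyV⟩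
    exact ⟨w, hwO, hw2, hwV⟩
  have hI' : ∀ r : PrimeSpectrum R, g r ∈ Z ↔ r ∈ PrimeSpectrum.zeroLocus (I : Set R) :=
    fun r => Set.ext_iff.mp hI r
  have hkφ : ∀ r : PrimeSpectrum R, k r = PrimeSpectrum.comap φ.hom r := by
    intro r; rw [← hφ]; rfl
  have hp_cl' : (p : PrimeSpectrum Γ(Y, V)) ∈
      closure (PrimeSpectrum.comap φ.hom '' PrimeSpectrum.zeroLocus (I : Set R)) := by
    have h1 : (PrimeSpectrum.comap φ.hom '' PrimeSpectrum.zeroLocus (I : Set R)) =
        (k '' (g ⁻¹' Z) : Set (Spec Γ(Y, V))) := by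
      ext x
      constructor
      · rintro ⟨r, hr, rfl⟩
        exact ⟨r, (hI' r).mpr hr, hkφ r⟩
      · rintro ⟨r, hr, rfl⟩
        exact ⟨r, (hI' r).mp hr, (hkφ r).symm⟩
    rw [h1]; exact hp_cl
  rw [PrimeSpectrum.closure_image_comap_zeroLocus] at hp_cl'
  obtain ⟨q, hqI, hq, hqle⟩ := Ideal.exists_ideal_comap_le_prime p.asIdeal I hp_cl'
  refine ⟨g ⟨q, hq⟩, ?_, ?_⟩
  · exact (hI' ⟨q, hq⟩).mpr hqI
  · rw [← hp, ← Scheme.Hom.comp_apply, ← hk, Scheme.Hom.comp_apply]
    refine Specializes.map ?_ hV.fromSpec.continuous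
    rw [hkφ]
    exact (PrimeSpectrum.le_iff_specializes _ p).mp hqle

theorem isInducing_of_closed {α β : Type*} [TopologicalSpace α] [TopologicalSpace β] (f : α → β)
    (hf : Continuous f)
    (h : ∀ Z : Set α, IsClosed Z → f ⁻¹' (closure (f '' Z)) ⊆ Z) : Topology.IsInducing f := by
  refine ⟨le_antisymm hf.le_induced ?_⟩
  intro U hU
  rw [isOpen_induced_iff]
  refine ⟨(closure (f '' Uᶜ))ᶜ, isClosed_closure.isOpen_compl, ?_⟩
  rw [Set.preimage_compl, compl_eq_comm]
  apply Set.Subset.antisymm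
  · intro x hx
    exact subset_closure ⟨x, hx, rfl⟩
  · exact h _ hU.isClosed_compl

theorem S5133_main {X Y Y' : Scheme.{u}} (f : X ⟶ Y)
    (g : Y' ⟶ Y) [QuasiCompact f] [Flat g] [Surjective g]
    (h : Topology.IsEmbedding (pullback.snd f g).base) : Topology.IsEmbedding f.base := by
  have hgen : GeneralizingMap g := Flat.generalizingMap g
  have hinj : Function.Injective f := by
    intro x1 x2 hx
    obtain ⟨y', hy'⟩ := g.surjective (f x1)
    obtain ⟨z1, hz1a, hz1b⟩ := Scheme.Pullback.exists_preimage_pullback (f := f) (g := g) x1 y' hy'.symm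
    obtain ⟨z2, hz2a, hz2b⟩ := Scheme.Pullback.exists_preimage_pullback (f := f) (g := g) x2 y'
      (hx ▸ hy'.symm)
    have : z1 = z2 := h.injective (hz1b.trans hz2b.symm)
    rw [← hz1a, ← hz2a, this]
  refine ⟨isInducing_of_closed f f.continuous ?_, hinj⟩
  intro Z hZ x hx
  obtain ⟨z, hzZ, hzx⟩ := exists_specializes_of_mem_closure_image f Z hZ (f x) hx
  obtain ⟨y0', hy0'⟩ := g.surjective (f x)
  obtain ⟨y', hy'y0', hy'⟩ := hgen (hy0' ▸ hzx : f z ⤳ g y0')
  obtain ⟨z', hz'a, hz'b⟩ :=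
    Scheme.Pullback.exists_preimage_pullback (f := f) (g := g) z y' hy'.symm
  obtain ⟨x', hx'a, hx'b⟩ :=
    Scheme.Pullback.exists_preimage_pullback (f := f) (g := g) x y0' hy0'.symm
  have h1 : z' ⤳ x' := (h.isInducing.specializes_iff).mp (by
    show (pullback.snd f g) z' ⤳ (pullback.snd f g) x'
    rw [hz'b, hx'b]; exact hy'y0')
  have h2 : z ⤳ x := by rw [← hz'a, ← hx'a]; exact h1.map (pullback.fst f g).continuous
  exact h2.mem_closed hZ hzZ

end Groth.Agent.Lib.Helper4.FlatDesc
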