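import Mathlib
import Groth.Agent.Lib.Helper4.FlatDesc

/-!
# fpqc families are jointly quotient maps; descent of open subsets (helper4)
-/

set_option backward.isDefEq.respectTransparency.types false
set_option synthInstance.maxHeartbeats 400000
set_option autoImplicit false
set_option linter.unusedSectionVars false
set_option linter.style.haveILetI false
set_option linter.unusedSimpArgs false
universe u v

namespace Groth.Agent.Lib.Helper4.FpqcQuot
open AlgebraicGeometry CategoryTheory CategoryTheory.Limits TopologicalSpace Opposite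
open Groth.Agent.Lib.Helper4.FlatDesc

/-- A finite jointly surjective family of flat quasi-compact morphisms is "jointly a quotient map"
(closed sets version). -/
lemma isClosed_of_flat_family {A : Scheme.{u}} {K : Type*} [Finite K] {C : K → Scheme.{u}}
    (g : ∀ k, C k ⟶ A) [∀ k, Flat (g k)] [∀ k, QuasiCompact (g k)]
    (hsurj : ∀ a : A, ∃ k, a ∈ Set.range (g k).base) (s : Set A)
    (hs : ∀ k, IsClosed ((g k).base ⁻¹' s)) : IsClosed s := by
  rw [← closure_subset_iff_isClosed]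
  have hs_eq : s = ⋃ k, (g k).base '' ((g k).base ⁻¹' s) := by
    ext a
    constructor
    · intro ha
      obtain ⟨k, c, rfl⟩ := hsurj a
      exact Set.mem_iUnion.mpr ⟨k, c, ha, rfl⟩
    · intro ha
      obtain ⟨k, c, hc, rfl⟩ := Set.mem_iUnion.mp ha
      exact hc
  intro z hz
  rw [hs_eq, closure_iUnion_of_finite] at hz
  obtain ⟨k, hzk⟩ := Set.mem_iUnion.mp hz
  obtain ⟨c0, hc0, hsp⟩ := exists_specializes_of_mem_closure_image (g k) _ (hs k) z hzk
  obtain ⟨j, c, rfl⟩ := hsurj z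
  obtain ⟨c1, hc1, hgc1⟩ := (Flat.generalizingMap (g j)) hsp
  have h1 : c1 ∈ (g j).base ⁻¹' s := by
    rw [Set.mem_preimage, hgc1]; exact hc0
  exact (hs j).stableUnderSpecialization hc1 h1

/-- Sets with open preimages along a flat family are open on affine opens which are compact-open
covered. -/
lemma isOpen_inter_of_isCompactOpenCovered {T : Scheme.{u}} {ι : Type*} {Ti : ι → Scheme.{u}}
    (f : ∀ i, Ti i ⟶ T) [∀ i, Flat (f i)] (A : T.Opens) (hA : IsAffineOpen A)
    (hcov : IsCompactOpenCovered (fun i => (f i).base) (A : Set T)) (s : Set T)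
    (hs : ∀ i, IsOpen ((f i).base ⁻¹' s)) : IsOpen (s ∩ A) := by
  obtain ⟨t, ht, V, hVc, hVA⟩ := hcov
  have : Finite t := ht
  have : IsAffine A := hA
  let V' : ∀ k : t, (Ti k.1).Opens := fun k => V k.1 k.2
  have hV'c : ∀ k : t, IsCompact (V' k : Set (Ti k.1)) := fun k => hVc k.1 k.2
  have e : ∀ k : t, V' k ≤ (f k.1) ⁻¹ᵁ A := by
    intro k w hw
    have : (f k.1).base w ∈ (A : Set T) := by
      rw [← hVA]
      exact Set.mem_iUnion₂.mpr ⟨k.1, k.2, w, hw, rfl⟩
    exact this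
  let g : ∀ k : t, (V' k).toScheme ⟶ A.toScheme := fun k => (f k.1).resLE A (V' k) (e k)
  have hg : ∀ k : t, g k ≫ A.ι = (V' k).ι ≫ f k.1 := fun k => Scheme.Hom.resLE_comp_ι _ (e k)
  have : ∀ k : t, CompactSpace (V' k) := fun k => isCompact_iff_compactSpace.mp (hV'c k)
  have : ∀ k : t, Flat (g k) := fun k => inferInstance
  have : ∀ k : t, QuasiCompact (g k) := fun k => inferInstance
  have hsurj : ∀ a : A, ∃ k : t, a ∈ Set.range (g k).base := by
    rintro ⟨a, ha⟩
    have : a ∈ ⋃ (i : ι) (h : i ∈ t), (f i).base '' (V i h : Set (Ti i)) := hVA ▸ ha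
    obtain ⟨i, hi, w, hw, rfl⟩ := Set.mem_iUnion₂.mp this
    refine ⟨⟨i, hi⟩, ⟨w, hw⟩, ?_⟩
    apply A.ι.injective
    rw [← Scheme.Hom.comp_apply, hg]
    rfl
  have hcl : IsClosed (A.ι.base ⁻¹' sᶜ) := by
    apply isClosed_of_flat_family g hsurj
    intro k
    rw [← Set.preimage_comp, ← TopCat.coe_comp, ← Scheme.Hom.comp_base, hg, Scheme.Hom.comp_base,
      TopCat.coe_comp, Set.preimage_comp, Set.preimage_compl]
    exact ((hs k.1).preimage (V' k).ι.continuous).isClosed_compl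
  rw [Set.preimage_compl, isClosed_compl_iff] at hcl
  have h3 := A.ι.isOpenEmbedding.isOpenMap _ hcl
  rw [Set.image_preimage_eq_inter_range] at h3
  simpa using h3

theorem S9839_main {ι : Type u} {T : Scheme.{u}} {Ti : ι → Scheme.{u}}
    (f : ∀ i, Ti i ⟶ T) (hf : Presieve.ofArrows Ti f ∈ Scheme.fpqcPrecoverage T)
    (W : ∀ i, (Ti i).Opens)
    (hW : ∀ i j, (pullback.fst (f i) (f j)) ⁻¹ᵁ (W i) = (pullback.snd (f i) (f j)) ⁻¹ᵁ (W j)) :
    ∃! V : T.Opens, ∀ i, (f i) ⁻¹ᵁ V = W i := by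
  let E : PreZeroHypercover.{u} T := ⟨ι, Ti, f⟩
  have hE : E.presieve₀ = Presieve.ofArrows Ti f := rfl
  have hqc : QuasiCompactCover E := Scheme.presieve₀_mem_qcPrecoverage_iff.mp (hE ▸ hf.1)
  obtain ⟨hcovers, hflat⟩ := (Scheme.presieve₀_mem_precoverage_iff E).mp (hE ▸ hf.2)
  have : ∀ i, Flat (f i) := hflat
  let S : Set T := ⋃ i, (f i).base '' (W i : Set (Ti i))
  have hpre : ∀ i, (f i).base ⁻¹' S = (W i : Set (Ti i)) := by
    intro i
    ext t
    constructor
    · intro ht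
      obtain ⟨j, w, hw, hwt⟩ := Set.mem_iUnion.mp ht
      obtain ⟨z, hz1, hz2⟩ := Scheme.Pullback.exists_preimage_pullback t w hwt.symm
      have h1 : z ∈ (pullback.snd (f i) (f j)) ⁻¹ᵁ (W j) := by
        change (pullback.snd (f i) (f j)).base z ∈ W j
        rw [hz2]; exact hw
      rw [← hW i j] at h1
      have h2 : (pullback.fst (f i) (f j)).base z ∈ W i := h1
      rwa [hz1] at h2
    · intro ht
      exact Set.mem_iUnion.mpr ⟨i, t, ht, rfl⟩
  have hSopen : IsOpen S := by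
    rw [isOpen_iff_mem_nhds]
    intro y hy
    obtain ⟨_, ⟨A, hA : IsAffineOpen A, rfl⟩, hyA, -⟩ :=
      T.isBasis_affineOpens.exists_subset_of_mem_open (Set.mem_univ y) isOpen_univ
    have := isOpen_inter_of_isCompactOpenCovered f A hA (hA.isCompactOpenCovered E) S
      (fun i => by rw [hpre]; exact (W i).2)
    exact Filter.mem_of_superset (this.mem_nhds ⟨hy, hyA⟩) Set.inter_subset_left
  refine ⟨⟨S, hSopen⟩, fun i => Opens.ext (hpre i), ?_⟩
  intro V' hV'
  ext y
  obtain ⟨i, t, rfl⟩ := hcovers y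
  have h1 : t ∈ (f i) ⁻¹ᵁ V' ↔ t ∈ W i := by rw [hV' i]
  have h2 : t ∈ (f i).base ⁻¹' S ↔ t ∈ (W i : Set (Ti i)) := by rw [hpre i]
  exact h1.trans h2.symm

/-- the core: a flat morphism, a compact open `W` of the source and an affine open `V = f(W)` of
the target: subsets of `V` with open preimage are open. -/
lemma isOpen_inter_of_image_eq {X Y : Scheme.{u}} (f : X ⟶ Y) [Flat f] (W : X.Opens)
    (hW : IsCompact (W : Set X)) (V : Y.Opens) (hV : IsAffineOpen V)
    (hWV : f.base '' (W : Set X) = V) (s : Set Y) (hs : IsOpen (f.base ⁻¹' s)) :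
    IsOpen (s ∩ V) := by
  have e : W ≤ f ⁻¹ᵁ V := fun w hw => by
    have : f.base w ∈ (V : Set Y) := hWV ▸ ⟨w, hw, rfl⟩
    exact this
  let g := f.resLE V W e
  have hg : g ≫ V.ι = W.ι ≫ f := Scheme.Hom.resLE_comp_ι f e
  have : IsAffine V := hV
  have : CompactSpace W := isCompact_iff_compactSpace.mp hW
  have : Flat g := inferInstance
  have : Surjective g := by
    refine ⟨fun ⟨v, hv⟩ => ?_⟩
    have : v ∈ f.base '' (W : Set X) := hWV ▸ hv
    obtain ⟨w, hw, rfl⟩ := this
    refine ⟨⟨w, hw⟩, ?_⟩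
    apply V.ι.injective
    rw [← Scheme.Hom.comp_apply, hg]
    rfl
  have hq := Flat.isQuotientMap_of_surjective g
  have h1 : IsOpen (g.base ⁻¹' (V.ι.base ⁻¹' s)) := by
    rw [← Set.preimage_comp, ← TopCat.coe_comp, ← Scheme.Hom.comp_base, hg, Scheme.Hom.comp_base,
      TopCat.coe_comp, Set.preimage_comp]
    exact hs.preimage W.ι.continuous
  have h2 : IsOpen (V.ι.base ⁻¹' s) := hq.isOpen_preimage.mp h1
  have h3 := V.ι.isOpenEmbedding.isOpenMap _ h2
  rw [Set.image_preimage_eq_inter_range] at h3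
  simpa using h3

theorem S11721_main {X Y : Scheme.{u}} (f : X ⟶ Y)
    [Flat f] [Surjective f] [QuasiCompactCover (PreZeroHypercover.singleton f)] :
    Topology.IsQuotientMap f := by
  rw [Topology.isQuotientMap_iff]
  refine ⟨.of_isOpen_preimage_iff_isOpen fun s ↦
    ⟨fun hs ↦ ?_, fun hs ↦ hs.preimage f.continuous⟩, f.surjective⟩
  rw [isOpen_iff_mem_nhds]
  intro y hy
  obtain ⟨_, ⟨V, hV : IsAffineOpen V, rfl⟩, hyV, -⟩ :=
    Y.isBasis_affineOpens.exists_subset_of_mem_open (Set.mem_univ y) isOpen_univ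
  obtain ⟨t, -, W, hWc, hWV⟩ := hV.isCompactOpenCovered (PreZeroHypercover.singleton f)
  have hyV' : y ∈ ⋃ (i : (PreZeroHypercover.singleton f).I₀) (h : i ∈ t),
      (fun x => ⇑((PreZeroHypercover.singleton f).f x)) i '' ↑(W i h) := hWV ▸ hyV
  obtain ⟨i0, hy1⟩ := Set.mem_iUnion.mp hyV'
  obtain ⟨hmem0, -⟩ := Set.mem_iUnion.mp hy1
  have hmem : PUnit.unit ∈ t := hmem0
  let W0 : X.Opens := W PUnit.unit hmem
  have hW0c : IsCompact (W0 : Set X) := hWc _ _
  have hWV' : f.base '' (W0 : Set X) = V := by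
    rw [← hWV]
    ext z
    simp only [Set.mem_iUnion]
    constructor
    · intro hz
      exact ⟨PUnit.unit, hmem, hz⟩
    · rintro ⟨⟨⟩, h, hz⟩
      exact hz
  have := isOpen_inter_of_image_eq f W0 hW0c V hV hWV' s hs
  exact Filter.mem_of_superset (this.mem_nhds ⟨hy, hyV⟩) Set.inter_subset_left

end Groth.Agent.Lib.Helper4.FpqcQuot
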