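import Mathlib

/-!
# Transcendence degree of residue field extensions is etale local (helper4)
-/

set_option backward.isDefEq.respectTransparency.types false
set_option synthInstance.maxHeartbeats 400000
set_option autoImplicit false
set_option linter.unusedSectionVars false
set_option linter.style.haveILetI false
set_option linter.unusedSimpArgs false
universe u v w
open CategoryTheory CategoryTheory.Limits AlgebraicGeometry TopologicalSpace IsLocalRing

namespace Groth.Agent.Lib.Helper4.TrdegEtale1

/-- transcendence degree of a composite of field maps whose second map is algebraic -/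
theorem trdeg_comp_of_isAlgebraic_right {K0 K1 K2 : Type u} [Field K0] [Field K1] [Field K2]
    (φ : K0 →+* K1) (α : K1 →+* K2) (hα : α.IsIntegral) :
    @Algebra.trdeg K0 K2 _ _ (α.comp φ).toAlgebra = @Algebra.trdeg K0 K1 _ _ φ.toAlgebra := by
  letI := φ.toAlgebra
  letI := α.toAlgebra
  letI := (α.comp φ).toAlgebra
  haveI : IsScalarTower K0 K1 K2 := IsScalarTower.of_algebraMap_eq' rfl
  haveI : Algebra.IsAlgebraic K1 K2 := by
    haveI : Algebra.IsIntegral K1 K2 := ⟨hα⟩
    infer_instance
  have h := trdeg_add_eq K0 K1 (A := K2)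
  rw [trdeg_eq_zero_iff.2 ‹Algebra.IsAlgebraic K1 K2›, add_zero] at h
  exact h.symm

/-- transcendence degree of a composite of field maps whose first map is algebraic -/
theorem trdeg_comp_of_isAlgebraic_left {K0 K1 K2 : Type u} [Field K0] [Field K1] [Field K2]
    (ψ : K0 →+* K1) (φ' : K1 →+* K2) (hψ : ψ.IsIntegral) :
    @Algebra.trdeg K0 K2 _ _ (φ'.comp ψ).toAlgebra = @Algebra.trdeg K1 K2 _ _ φ'.toAlgebra := by
  letI := ψ.toAlgebra
  letI := φ'.toAlgebra
  letI := (φ'.comp ψ).toAlgebra
  haveI : IsScalarTower K0 K1 K2 := IsScalarTower.of_algebraMap_eq' rfl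
  haveI : Algebra.IsAlgebraic K0 K1 := by
    haveI : Algebra.IsIntegral K0 K1 := ⟨hψ⟩
    infer_instance
  have h := trdeg_add_eq K0 K1 (A := K2)
  rw [trdeg_eq_zero_iff.2 ‹Algebra.IsAlgebraic K0 K1›, zero_add] at h
  exact h.symm

theorem trdeg_eq_of_square {K0 K1 K2 K0' : Type u} [Field K0] [Field K1] [Field K2] [Field K0']
    (φ : K0 →+* K1) (α : K1 →+* K2) (ψ : K0 →+* K0') (φ' : K0' →+* K2)
    (hcomm : α.comp φ = φ'.comp ψ) (hα : α.IsIntegral) (hψ : ψ.IsIntegral) :
    @Algebra.trdeg K0 K1 _ _ φ.toAlgebra = @Algebra.trdeg K0' K2 _ _ φ'.toAlgebra := by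
  rw [← trdeg_comp_of_isAlgebraic_right φ α hα, ← trdeg_comp_of_isAlgebraic_left ψ φ' hψ]
  congr 2


theorem residueFieldMap_isIntegral_of_unramified {X Y : Scheme.{u}} (f : X ⟶ Y)
    [FormallyUnramified f] [LocallyOfFiniteType f] (x : X) :
    (f.residueFieldMap x).hom.IsIntegral := by
  letI : Algebra (Y.residueField (f.base x)) (X.residueField x) :=
    (f.residueFieldMap x).hom.toAlgebra
  haveI : Algebra.IsSeparable (Y.residueField (f.base x)) (X.residueField x) := inferInstance
  haveI : Algebra.IsIntegral (Y.residueField (f.base x)) (X.residueField x) :=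
    ⟨Algebra.IsSeparable.isIntegral _⟩
  exact Algebra.IsIntegral.isIntegral

theorem S7407_main {U U' V V' : Scheme.{u}} (h : U ⟶ V) (h' : U' ⟶ V') (a : U' ⟶ U)
    (b : V' ⟶ V) [Etale a] [Etale b] (comm : h' ≫ b = a ≫ h) (u' : U') :
    @Algebra.trdeg (V.residueField (h (a u'))) (U.residueField (a u')) _ _
        (h.residueFieldMap (a u')).hom.toAlgebra =
      @Algebra.trdeg (V'.residueField (h' u')) (U'.residueField u') _ _
        (h'.residueFieldMap u').hom.toAlgebra := by
  have e : h (a u') = b (h' u') := by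
    rw [← Scheme.Hom.comp_apply, ← Scheme.Hom.comp_apply, comm]
  refine trdeg_eq_of_square (h.residueFieldMap (a u')).hom (a.residueFieldMap u').hom
    ((V.residueFieldCongr e).hom ≫ b.residueFieldMap (h' u')).hom (h'.residueFieldMap u').hom
    ?_ (residueFieldMap_isIntegral_of_unramified a u') ?_
  · rw [← CommRingCat.hom_comp, ← CommRingCat.hom_comp, ← Scheme.residueFieldMap_comp,
      Category.assoc, ← Scheme.residueFieldMap_comp]
    rw [Scheme.Hom.residueFieldMap_congr comm.symm u']
    rfl
  · rw [CommRingCat.hom_comp]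
    refine RingHom.IsIntegral.trans _ _ ?_ (residueFieldMap_isIntegral_of_unramified b (h' u'))
    exact RingHom.isIntegral_of_surjective _
      (ConcreteCategory.bijective_of_isIso (V.residueFieldCongr e).hom).2

end Groth.Agent.Lib.Helper4.TrdegEtale1
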