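import Mathlib
import Groth.Agent.Lib.Helper4.UnivClosed
import Groth.Agent.Lib.Helper4.DomDVR3

/-!
# DVR valuative criteria for universally closed and proper morphisms (EGA II 7.3.8)
-/
set_option autoImplicit false
set_option linter.unusedSectionVars false
set_option linter.style.haveILetI false

namespace Groth.Agent.Lib.Helper4.UC

universe u
open CategoryTheory CategoryTheory.Limits AlgebraicGeometry AffineSpace IsLocalRing

/-- existence part of the valuative criterion, tested on DVRs only -/
def DVRExists {X S : Scheme.{u}} (f : X ⟶ S) : Prop :=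
  ∀ (A : Type u) [CommRing A] [IsDomain A] [IsDiscreteValuationRing A]
    (x : Spec (CommRingCat.of (FractionRing A)) ⟶ X) (y : Spec (CommRingCat.of A) ⟶ S),
    x ≫ f = Spec.map (CommRingCat.ofHom (algebraMap A (FractionRing A))) ≫ y →
      ∃ l : Spec (CommRingCat.of A) ⟶ X, l ≫ f = y ∧
        Spec.map (CommRingCat.ofHom (algebraMap A (FractionRing A))) ≫ l = x

theorem DVRExists.snd {X S T : Scheme.{u}} {f : X ⟶ S} (H : DVRExists f) (g : T ⟶ S) :
    DVRExists (pullback.snd f g) := by
  intro A _ _ _ x y hxy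
  obtain ⟨l, hl1, hl2⟩ := H A (x ≫ pullback.fst f g) (y ≫ g) (by
    rw [Category.assoc, pullback.condition, ← Category.assoc, hxy, Category.assoc])
  refine ⟨pullback.lift l y hl1, pullback.lift_snd _ _ _, ?_⟩
  apply pullback.hom_ext
  · rw [Category.assoc, pullback.lift_fst, hl2]
  · rw [Category.assoc, pullback.lift_snd, hxy]

theorem isClosedMap_of_DVRExists {P T : Scheme.{u}} [IsLocallyNoetherian T] (p : P ⟶ T)
    [LocallyOfFiniteType p] [QuasiCompact p] (H : DVRExists p) : IsClosedMap p.base := by
  rw [isClosedMap_iff_specializingMap]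
  intro x t' hz
  by_cases hne : t' = p.base x
  · exact ⟨x, specializes_rfl, hne.symm⟩
  obtain ⟨A, h, hA, hcl, hgen⟩ := DomDVR.S4450_main p x t' hz hne
  let e : FractionRing A ≃ₐ[A] P.residueField x := FractionRing.algEquiv A (P.residueField x)
  have he : (CommRingCat.ofHom (algebraMap A (FractionRing A))) =
      CommRingCat.ofHom A.subtype ≫ CommRingCat.ofHom (e.symm : P.residueField x →+* FractionRing A) := by
    ext a
    change algebraMap A (FractionRing A) a = e.symm (algebraMap A (P.residueField x) a)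
    rw [e.symm.commutes]
  obtain ⟨l, hl1, hl2⟩ := H A
    (Spec.map (CommRingCat.ofHom (e.symm : P.residueField x →+* FractionRing A)) ≫
      P.fromSpecResidueField x) h (by
    rw [Category.assoc, ← hgen, he, Spec.map_comp, Category.assoc])
  refine ⟨l.base (closedPoint A), ?_, ?_⟩
  · have h1 : (Spec.map (CommRingCat.ofHom (algebraMap A (FractionRing A))) ≫ l).base
        (closedPoint (FractionRing A)) = x := by
      rw [hl2, Scheme.Hom.comp_base, TopCat.comp_app]
      exact Scheme.fromSpecResidueField_apply x _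
    rw [Scheme.Hom.comp_base, TopCat.comp_app] at h1
    have h2 : l.base ((Spec.map (CommRingCat.ofHom (algebraMap A (FractionRing A)))).base
        (closedPoint (FractionRing A))) ⤳ l.base (closedPoint A) :=
      (specializes_closedPoint (R := A) _).map l.base.hom.continuous
    exact (specializes_of_eq h1.symm).trans h2
  · rw [← hcl, ← hl1]
    rfl

theorem S9213_main {X S : Scheme.{u}} [IsLocallyNoetherian S] (f : X ⟶ S)
    [LocallyOfFiniteType f] [QuasiCompact f] :
    UniversallyClosed f ↔ ∀ (A : Type u) [CommRing A] [IsDomain A] [IsDiscreteValuationRing A]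
      (x : Spec (CommRingCat.of (FractionRing A)) ⟶ X) (y : Spec (CommRingCat.of A) ⟶ S),
      x ≫ f = Spec.map (CommRingCat.ofHom (algebraMap A (FractionRing A))) ≫ y → ∃ l : Spec (CommRingCat.of A) ⟶ X, l ≫ f = y ∧ Spec.map (CommRingCat.ofHom (algebraMap A (FractionRing A))) ≫ l = x := by
  constructor
  · intro hf A _ _ _ x y hxy
    have hex : ValuativeCriterion.Existence f := by
      have := UniversallyClosed.eq_valuativeCriterion
      rw [this] at hf
      exact hf.1
    let Sq : ValuativeCommSq f :=
      { R := A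
        K := FractionRing A
        i₁ := x
        i₂ := y
        commSq := ⟨hxy⟩ }
    obtain ⟨⟨l⟩⟩ := hex Sq
    exact ⟨l.l, l.fac_right, l.fac_left⟩
  · intro H
    have H' : DVRExists f := H
    rw [(S9205_main f).2]
    intro n
    haveI : IsLocallyNoetherian 𝔸(ULift.{u} (Fin n); S) :=
      LocallyOfFiniteType.isLocallyNoetherian (𝔸(ULift.{u} (Fin n); S) ↘ S)
    exact isClosedMap_of_DVRExists _ (H'.snd _)

theorem S2335_main {X Y : Scheme.{u}} [IsLocallyNoetherian Y] (f : X ⟶ Y) [LocallyOfFiniteType f] [QuasiCompact f] :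
    IsProper f ↔ ∀ (A : Type u) [CommRing A] [IsDomain A] [IsDiscreteValuationRing A] (x : (Spec (CommRingCat.of (FractionRing A))) ⟶ X) (y : (Spec (CommRingCat.of A)) ⟶ Y),
      x ≫ f = (Spec.map (CommRingCat.ofHom (algebraMap A (FractionRing A)))) ≫ y → ∃! l : (Spec (CommRingCat.of A)) ⟶ X, l ≫ f = y ∧ (Spec.map (CommRingCat.ofHom (algebraMap A (FractionRing A)))) ≫ l = x := by
  constructor
  · intro hf A _ _ _ x y hxy
    obtain ⟨l, hl1, hl2⟩ := (S9213_main f).1 inferInstance A x y hxy
    refine ⟨l, ⟨hl1, hl2⟩, ?_⟩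
    rintro l' ⟨hl'1, hl'2⟩
    exact (DomDVR.S2334_main f).1 inferInstance A l' l (hl'1.trans hl1.symm) (hl'2.trans hl2.symm)
  · intro H
    haveI : UniversallyClosed f := by
      rw [S9213_main f]
      intro A _ _ _ x y hxy
      exact (H A x y hxy).exists
    haveI : IsSeparated f := by
      rw [DomDVR.S2334_main f]
      intro A _ _ _ g₁ g₂ h1 h2
      exact (H A (Spec.map (CommRingCat.ofHom (algebraMap A (FractionRing A))) ≫ g₁) (g₁ ≫ f)
        (by rw [Category.assoc])).unique ⟨rfl, rfl⟩ ⟨h1.symm, h2.symm⟩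
    exact { }

end Groth.Agent.Lib.Helper4.UC
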