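import Mathlib

/-!
# Kernel squares in cartesian monoidal categories: pointwise criteria (helper4)
-/

set_option backward.isDefEq.respectTransparency.types false
set_option synthInstance.maxHeartbeats 400000
set_option autoImplicit false
set_option linter.unusedSectionVars false
set_option linter.style.haveILetI false
set_option linter.unusedSimpArgs false
universe u v w
open CategoryTheory CategoryTheory.Limits AlgebraicGeometry
open MonoidalCategory CartesianMonoidalCategory MonObj GrpObj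

namespace Groth.Agent.Lib.Helper4.GrpKer1

variable {C : Type u} [Category.{v} C] [CartesianMonoidalCategory C]

/-- kernel square in a cartesian monoidal category -/
def IsKer {N G Q : C} [GrpObj Q] (i : N ⟶ G) (q : G ⟶ Q) : Prop :=
  IsPullback i (toUnit N) q η[Q]

lemma IsKer.comp_eq_one {N G Q : C} [GrpObj Q] {i : N ⟶ G} {q : G ⟶ Q} (h : IsKer i q) :
    i ≫ q = 1 := by
  rw [Hom.one_def]; exact h.w

lemma IsKer.mono {N G Q : C} [GrpObj Q] {i : N ⟶ G} {q : G ⟶ Q} (h : IsKer i q) : Mono i := by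
  constructor
  intro Z a b hab
  exact h.hom_ext hab (toUnit_unique _ _)

lemma IsKer.exists_lift {N G Q : C} [GrpObj Q] {i : N ⟶ G} {q : G ⟶ Q} (h : IsKer i q)
    {T : C} (x : T ⟶ G) (hx : x ≫ q = 1) : ∃ y : T ⟶ N, y ≫ i = x := by
  rw [Hom.one_def] at hx
  exact ⟨h.lift x (toUnit T) hx, h.lift_fst _ _ _⟩

lemma isKer_of_points {N G Q : C} [GrpObj Q] {i : N ⟶ G} {q : G ⟶ Q} [Mono i]
    (h1 : i ≫ q = 1)
    (h2 : ∀ (T : C) (x : T ⟶ G), x ≫ q = 1 → ∃ y : T ⟶ N, y ≫ i = x) : IsKer i q := by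
  have key : ∀ s : PullbackCone q η[Q], s.fst ≫ q = 1 := by
    intro s
    rw [s.condition, Hom.one_def]
    congr 1
    exact toUnit_unique _ _
  refine ⟨⟨by rw [h1, Hom.one_def]⟩, ⟨PullbackCone.IsLimit.mk _ (fun s => (h2 _ s.fst (key s)).choose)
    (fun s => (h2 _ s.fst (key s)).choose_spec) (fun s => toUnit_unique _ _) ?_⟩⟩
  intro s m hm _
  rw [← cancel_mono i, hm]
  exact ((h2 _ s.fst (key s)).choose_spec).symm

lemma comp_id_pow {G : C} [GrpObj G] {T : C} (x : T ⟶ G) (n : ℕ) : x ≫ (𝟙 G) ^ n = x ^ n := by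
  rw [MonObj.comp_pow, Category.comp_id]

end Groth.Agent.Lib.Helper4.GrpKer1
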