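import Mathlib
import Groth.Agent.Lib.Helper4.GrpKer1

/-!
# Kernels of homomorphisms of group schemes: shear square X x N = X x_Y X, fpqc-local properties of f iff of ker f (helper4)
-/

set_option backward.isDefEq.respectTransparency.types false
set_option synthInstance.maxHeartbeats 400000
set_option autoImplicit false
set_option linter.unusedSectionVars false
set_option linter.style.haveILetI false
set_option linter.unusedSimpArgs false
universe u v w
open CategoryTheory CategoryTheory.Limits AlgebraicGeometry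
open MonoidalCategory CartesianMonoidalCategory MonObj GrpObj
open Groth.Agent.Lib.Helper4.GrpKer1

namespace Groth.Agent.Lib.Helper4.GrpKer2

section general
variable {C : Type u} [Category.{v} C]

lemma isPullback_of_points {P X Y Z : C} (p1 : P ⟶ X) (p2 : P ⟶ Y) (f : X ⟶ Z) (g : Y ⟶ Z)
    (w : p1 ≫ f = p2 ≫ g)
    (hex : ∀ (T : C) (a : T ⟶ X) (b : T ⟶ Y), a ≫ f = b ≫ g → ∃ t : T ⟶ P, t ≫ p1 = a ∧ t ≫ p2 = b)
    (huniq : ∀ (T : C) (s t : T ⟶ P), s ≫ p1 = t ≫ p1 → s ≫ p2 = t ≫ p2 → s = t) :
    IsPullback p1 p2 f g := by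
  refine ⟨⟨w⟩, ⟨PullbackCone.IsLimit.mk _ (fun s => (hex _ s.fst s.snd s.condition).choose)
    (fun s => (hex _ s.fst s.snd s.condition).choose_spec.1)
    (fun s => (hex _ s.fst s.snd s.condition).choose_spec.2) ?_⟩⟩
  intro s m hm1 hm2
  apply huniq
  · rw [hm1]; exact ((hex _ s.fst s.snd s.condition).choose_spec.1).symm
  · rw [hm2]; exact ((hex _ s.fst s.snd s.condition).choose_spec.2).symm

variable [CartesianMonoidalCategory C]

/-- the shear square: `X ⊗ N ≅ X ×_Y X` for `N = ker f`. -/
lemma isPullback_shear {N X Y : C} [GrpObj X] [GrpObj Y] (f : X ⟶ Y) [IsMonHom f] (i : N ⟶ X)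
    (h : IsKer i f) :
    IsPullback (fst X N) (fst X N * (snd X N ≫ i)) f f := by
  have hmono := h.mono
  refine isPullback_of_points _ _ _ _ ?_ ?_ ?_
  · rw [MonObj.mul_comp, Category.assoc, h.comp_eq_one, MonObj.comp_one, _root_.mul_one]
  · intro T a b hab
    have h1 : (a⁻¹ * b) ≫ f = 1 := by
      rw [MonObj.mul_comp, GrpObj.inv_comp, hab, inv_mul_cancel]
    obtain ⟨n, hn⟩ := h.exists_lift _ h1
    refine ⟨lift a n, lift_fst _ _, ?_⟩
    rw [MonObj.comp_mul, lift_fst, lift_snd_assoc, hn, mul_inv_cancel_left]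
  · intro T s t h1 h2
    rw [MonObj.comp_mul, MonObj.comp_mul, h1] at h2
    have h3 := mul_left_cancel h2
    rw [← Category.assoc, ← Category.assoc, cancel_mono] at h3
    exact CartesianMonoidalCategory.hom_ext _ _ h1 h3

end general

lemma isPullback_left {S : Scheme.{u}} {P X Y Z : Over S} {p1 : P ⟶ X} {p2 : P ⟶ Y} {f : X ⟶ Z} {g : Y ⟶ Z}
    (h : IsPullback p1 p2 f g) : IsPullback p1.left p2.left f.left g.left :=
  h.map (Over.forget S)

lemma unit_hom {S : Scheme.{u}} : (𝟙_ (Over S)).hom = 𝟙 S := rfl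

lemma toUnit_left {S : Scheme.{u}} (N : Over S) : (toUnit N).left = N.hom := by
  have := Over.w (toUnit N)
  erw [Category.comp_id] at this
  exact this

lemma isPullback_fst_left {S : Scheme.{u}} (X N : Over S) :
    IsPullback (fst X N).left (snd X N).left X.hom N.hom := by
  rw [Over.fst_left, Over.snd_left]
  exact IsPullback.of_hasPullback _ _

/-- kernel square on underlying schemes: `N → S` is the base change of `f` along the unit section. -/
lemma isKer_isPullback_left {S : Scheme.{u}} {N X Y : Over S} [GrpObj Y] {i : N ⟶ X} {f : X ⟶ Y}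
    (h : IsKer i f) : IsPullback i.left N.hom f.left η[Y].left := by
  have := isPullback_left h
  rwa [toUnit_left] at this

/-- any property stable under base change passes from `f` to its kernel. -/
lemma isKer_prop_hom {S : Scheme.{u}} {N X Y : Over S} [GrpObj Y] {i : N ⟶ X} {f : X ⟶ Y}
    (h : IsKer i f) (P : MorphismProperty Scheme.{u}) [P.IsStableUnderBaseChange]
    (hf : P f.left) : P N.hom :=
  P.of_isPullback (isKer_isPullback_left h) hf

/-- any property stable under base change passes from the kernel `N → S` to `X ×_Y X → X`. -/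
lemma prop_fst_left {S : Scheme.{u}} (X N : Over S) (P : MorphismProperty Scheme.{u})
    [P.IsStableUnderBaseChange] (hN : P N.hom) : P (fst X N).left :=
  P.of_isPullback (isPullback_fst_left X N).flip hN

/-- fpqc-local properties pass from the kernel to a faithfully flat quasi-compact homomorphism. -/
lemma isKer_prop_of_hom {S : Scheme.{u}} {N X Y : Over S} [GrpObj X] [GrpObj Y] {i : N ⟶ X}
    {f : X ⟶ Y} [IsMonHom f]
    (h : IsKer i f) (P : MorphismProperty Scheme.{u}) [P.IsStableUnderBaseChange]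
    [P.DescendsAlong (@Surjective ⊓ @Flat ⊓ @QuasiCompact)]
    [Surjective f.left] [Flat f.left] [QuasiCompact f.left]
    (hN : P N.hom) : P f.left :=
  P.of_isPullback_of_descendsAlong (Q := @Surjective ⊓ @Flat ⊓ @QuasiCompact)
    (isPullback_left (isPullback_shear f i h))
    ⟨⟨inferInstance, inferInstance⟩, inferInstance⟩ (prop_fst_left X N P hN)

lemma isKer_prop_iff {S : Scheme.{u}} {N X Y : Over S} [GrpObj X] [GrpObj Y] {i : N ⟶ X}
    {f : X ⟶ Y} [IsMonHom f]
    (h : IsKer i f) (P : MorphismProperty Scheme.{u}) [P.IsStableUnderBaseChange]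
    [P.DescendsAlong (@Surjective ⊓ @Flat ⊓ @QuasiCompact)]
    [Surjective f.left] [Flat f.left] [QuasiCompact f.left] :
    P f.left ↔ P N.hom :=
  ⟨isKer_prop_hom h P, isKer_prop_of_hom h P⟩


theorem S16675_main {S : Scheme.{u}} (X Y : Over S) [GrpObj X] [GrpObj Y]
    (f : X ⟶ Y) [IsMonHom f] [IsFinite f.left] [Flat f.left] [Surjective f.left]
    (N : Over S) (i : N ⟶ X) (hN : IsKer i f) :
    Etale f.left ↔ Etale N.hom :=
  isKer_prop_iff hN @Etale

end Groth.Agent.Lib.Helper4.GrpKer2
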