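import Mathlib
import Groth.Agent.Lib.Helper4.RegSpread2

/-!
# Composite of regular closed immersions (helper4)
-/

set_option backward.isDefEq.respectTransparency.types false
set_option synthInstance.maxHeartbeats 400000
set_option autoImplicit false
set_option linter.unusedSectionVars false
set_option linter.style.haveILetI false
set_option linter.unusedSimpArgs false
universe u v w
open CategoryTheory CategoryTheory.Limits AlgebraicGeometry TopologicalSpace IsLocalRing Opposite Topology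
open RingTheory.Sequence
open Groth.Agent.Lib.Helper4.RegSpread1 Groth.Agent.Lib.Helper4.RegSpread2

namespace Groth.Agent.Lib.Helper4.RegComp1

theorem ofList_append_comap {A B : Type*} [CommRing A] [CommRing B] (ψ : A →+* B)
    (hψ : Function.Surjective ψ) (rs : List A) (hker : RingHom.ker ψ = Ideal.ofList rs) (ts : List A) :
    Ideal.ofList (rs ++ ts) = (Ideal.ofList (ts.map ψ)).comap ψ := by
  rw [Ideal.ofList_append, ← Ideal.map_ofList, Ideal.comap_map_of_surjective ψ hψ, ← RingHom.ker_eq_comap_bot,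
    hker, sup_comm]

theorem isWeaklyRegular_append_of_surjective {A B : Type*} [CommRing A] [CommRing B] (ψ : A →+* B)
    (hψ : Function.Surjective ψ) (rs : List A) (hrs : IsWeaklyRegular A rs)
    (hker : RingHom.ker ψ = Ideal.ofList rs) (ts : List A) (hts : IsWeaklyRegular B (ts.map ψ)) :
    IsWeaklyRegular A (rs ++ ts) := by
  rw [isWeaklyRegular_iff_elementwise] at hrs hts ⊢
  intro i hi x hx
  by_cases hlt : i < rs.length
  · rw [List.getElem_append_left hlt] at hx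
    rw [List.take_append_of_le_length hlt.le] at hx ⊢
    exact hrs i hlt x hx
  · push Not at hlt
    obtain ⟨k, rfl⟩ := Nat.exists_eq_add_of_le hlt
    have hk : k < ts.length := by
      rw [List.length_append] at hi; omega
    have htake : (rs ++ ts).take (rs.length + k) = rs ++ ts.take k := by
      rw [List.take_append, List.take_of_length_le (by omega)]
      congr 2
      omega
    rw [htake, ofList_append_comap ψ hψ rs hker] at hx ⊢
    rw [Ideal.mem_comap] at hx ⊢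
    have hget : (rs ++ ts)[rs.length + k] = ts[k] := by
      rw [List.getElem_append_right (by omega)]
      congr 1
      omega
    rw [hget, map_mul, List.map_take] at hx
    rw [List.map_take]
    have hk' : k < (ts.map ψ).length := by rw [List.length_map]; exact hk
    have := hts k hk' (ψ x)
    rw [List.getElem_map] at this
    exact this hx


theorem S1661_main {Z Y X : Scheme.{u}} (i : Z ⟶ Y) (j : Y ⟶ X)
    (hi : Mor2.IsRegularClosedImmersion i) (hj : Mor2.IsRegularClosedImmersion j) :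
    Mor2.IsRegularClosedImmersion (i ≫ j) := by
  obtain ⟨hicl, hipts⟩ := hi
  obtain ⟨hjcl, hjpts⟩ := hj
  haveI := hicl
  haveI := hjcl
  refine ⟨inferInstance, fun z => ?_⟩
  obtain ⟨U, hU, hxU, rs, hrs, hkerj⟩ := hjpts (i z)
  obtain ⟨V', hV', hyV', ts, hts, hkeri⟩ := hipts z
  have hYU : IsAffineOpen (j ⁻¹ᵁ U) := hU.preimage j
  obtain ⟨f', g, hfg, hyf⟩ := exists_basicOpen_le_affine_inter hYU hV' (i z) ⟨hxU, hyV'⟩
  obtain ⟨f, hf⟩ := j.app_surjective U hU f'
  have hU₁ : IsAffineOpen (X.basicOpen f) := hU.basicOpen f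
  have hpre : j ⁻¹ᵁ X.basicOpen f = Y.basicOpen g := by
    rw [Scheme.preimage_basicOpen, ← hfg]
    congr 1
  have hx₁ : (i ≫ j) z ∈ X.basicOpen f := by
    change i z ∈ j ⁻¹ᵁ X.basicOpen f
    rw [hpre, ← hfg]; exact hyf
  refine ⟨X.basicOpen f, hU₁, hx₁, ?_⟩
  -- rs₁
  haveI := hU.isLocalization_basicOpen f
  obtain ⟨rs₁, hrs₁def⟩ : ∃ rs₁, rs₁ = rs.map (algebraMap Γ(X, U) Γ(X, X.basicOpen f)) := ⟨_, rfl⟩
  have hrs₁ : IsWeaklyRegular Γ(X, X.basicOpen f) rs₁ := by
    rw [hrs₁def]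
    exact IsWeaklyRegular.of_isLocalization Γ(X, X.basicOpen f) (Submonoid.powers f) hrs.toIsWeaklyRegular
  have hkerj₁ : RingHom.ker (j.app (X.basicOpen f)).hom = Ideal.ofList rs₁ := by
    have h2 := j.ker.map_ideal_basicOpen ⟨U, hU⟩ f
    rw [hkerj, Ideal.map_ofList] at h2
    rw [hrs₁def, ← Scheme.Hom.ker_apply j ⟨X.basicOpen f, hU₁⟩]
    exact h2.symm
  -- ts₁
  have hW : IsAffineOpen (j ⁻¹ᵁ X.basicOpen f) := hU₁.preimage j
  have hWV' : j ⁻¹ᵁ X.basicOpen f ≤ V' := by rw [hpre]; exact Y.basicOpen_le g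
  letI : Algebra Γ(Y, V') Γ(Y, j ⁻¹ᵁ X.basicOpen f) := (Y.presheaf.map (homOfLE hWV').op).hom.toAlgebra
  haveI hlocW : IsLocalization.Away g Γ(Y, j ⁻¹ᵁ X.basicOpen f) :=
    hV'.isLocalization_of_eq_basicOpen g (homOfLE hWV') hpre
  obtain ⟨ts₁, hts₁def⟩ : ∃ ts₁, ts₁ = ts.map (algebraMap Γ(Y, V') Γ(Y, j ⁻¹ᵁ X.basicOpen f)) := ⟨_, rfl⟩
  have hts₁ : IsWeaklyRegular Γ(Y, j ⁻¹ᵁ X.basicOpen f) ts₁ := by
    rw [hts₁def]
    exact IsWeaklyRegular.of_isLocalization Γ(Y, j ⁻¹ᵁ X.basicOpen f) (Submonoid.powers g) hts.toIsWeaklyRegular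
  have hkeri₁ : RingHom.ker (i.app (j ⁻¹ᵁ X.basicOpen f)).hom = Ideal.ofList ts₁ := by
    have h2 := i.ker.map_ideal (U := ⟨j ⁻¹ᵁ X.basicOpen f, hW⟩) (V := ⟨V', hV'⟩) hWV'
    rw [hkeri, Ideal.map_ofList] at h2
    rw [hts₁def, ← Scheme.Hom.ker_apply i ⟨j ⁻¹ᵁ X.basicOpen f, hW⟩]
    exact h2.symm
  -- lifts
  have hψ : Function.Surjective (j.app (X.basicOpen f)).hom := j.app_surjective _ hU₁
  obtain ⟨ts', hts'⟩ : ∃ ts' : List Γ(X, X.basicOpen f), ts'.map (j.app (X.basicOpen f)).hom = ts₁ := by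
    refine ⟨ts₁.map (Function.surjInv hψ), ?_⟩
    rw [List.map_map]
    conv_rhs => rw [← List.map_id ts₁]
    apply List.map_congr_left
    intro t _
    exact Function.surjInv_eq hψ t
  have hw := isWeaklyRegular_append_of_surjective (j.app (X.basicOpen f)).hom hψ rs₁ hrs₁ hkerj₁ ts'
    (by rw [hts']; exact hts₁)
  have hideal := ofList_append_comap (j.app (X.basicOpen f)).hom hψ rs₁ hkerj₁ ts'
  have hkercomp : (i ≫ j).ker.ideal ⟨X.basicOpen f, hU₁⟩ = Ideal.ofList (rs₁ ++ ts') := by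
    rw [Scheme.Hom.ker_apply, hideal, hts', ← hkeri₁, Scheme.Hom.comp_app]
    ext a
    rw [RingHom.mem_ker, Ideal.mem_comap, RingHom.mem_ker]
    rfl
  refine ⟨rs₁ ++ ts', ⟨hw, ?_⟩, hkercomp⟩
  rw [← hkercomp, smul_eq_mul, Ideal.mul_top, Scheme.Hom.ker_apply]
  haveI : Nonempty ↥((i ≫ j) ⁻¹ᵁ X.basicOpen f) := ⟨⟨z, hx₁⟩⟩
  exact (RingHom.ker_ne_top _).symm

end Groth.Agent.Lib.Helper4.RegComp1
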