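import Mathlib
import Groth.Agent.Lib.Helper4.RegComp1

/-!
# Two out of three for regular closed immersions (Noetherian local algebra) (helper4)
-/

set_option backward.isDefEq.respectTransparency.types false
set_option synthInstance.maxHeartbeats 400000
set_option autoImplicit false
set_option linter.unusedSectionVars false
set_option linter.style.haveILetI false
set_option linter.unusedSimpArgs false
universe u v w
open CategoryTheory CategoryTheory.Limits AlgebraicGeometry TopologicalSpace IsLocalRing Opposite Topology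
open RingTheory.Sequence
open Groth.Agent.Lib.Helper4.RegSpread1 Groth.Agent.Lib.Helper4.RegSpread2 Groth.Agent.Lib.Helper4.RegComp1

namespace Groth.Agent.Lib.Helper4.RegTwoOfThree

/-- relative regularity modulo an ideal, elementwise -/
def RegMod {A : Type*} [CommRing A] (I : Ideal A) (gs : List A) : Prop :=
  ∀ i (hi : i < gs.length) (x : A), gs[i] * x ∈ I ⊔ Ideal.ofList (gs.take i) →
    x ∈ I ⊔ Ideal.ofList (gs.take i)

theorem comap_ofList_map {A B : Type*} [CommRing A] [CommRing B] (φ : A →+* B)
    (hφ : Function.Surjective φ) (gs : List A) :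
    (Ideal.ofList (gs.map φ)).comap φ = RingHom.ker φ ⊔ Ideal.ofList gs := by
  rw [← Ideal.map_ofList, Ideal.comap_map_of_surjective φ hφ, ← RingHom.ker_eq_comap_bot, sup_comm]

theorem regMod_iff_of_surjective {A B : Type*} [CommRing A] [CommRing B] (φ : A →+* B)
    (hφ : Function.Surjective φ) (gs : List A) :
    IsWeaklyRegular B (gs.map φ) ↔ RegMod (RingHom.ker φ) gs := by
  rw [isWeaklyRegular_iff_elementwise]
  constructor
  · intro h i hi x hx
    have hi' : i < (gs.map φ).length := by rw [List.length_map]; exact hi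
    have := h i hi' (φ x)
    rw [← comap_ofList_map φ hφ, Ideal.mem_comap, List.map_take] at hx ⊢
    rw [List.getElem_map, ← map_mul] at this
    exact this hx
  · intro h i hi y hy
    rw [List.length_map] at hi
    obtain ⟨x, rfl⟩ := hφ y
    have := h i hi x
    rw [← comap_ofList_map φ hφ, Ideal.mem_comap, Ideal.mem_comap, List.map_take] at this
    rw [List.getElem_map, ← map_mul] at hy
    exact this hy

theorem exists_unit_coeff {A : Type*} [CommRing A] [IsLocalRing A] (xs : List A) :
    ∀ (g : A), g ∈ Ideal.ofList xs → g ∉ maximalIdeal A * Ideal.ofList xs →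
    ∃ x rest, xs.Perm (x :: rest) ∧ ∃ a : Aˣ, g - a * x ∈ Ideal.ofList rest := by
  induction xs with
  | nil =>
    intro g hg hg'
    exfalso
    rw [Ideal.ofList_nil] at hg
    have : g = 0 := by simpa using hg
    rw [this] at hg'
    exact hg' (Ideal.zero_mem _)
  | cons x xs ih =>
    intro g hg hg'
    rw [Ideal.ofList_cons] at hg
    obtain ⟨y, hy, h, hh, rfl⟩ := Submodule.mem_sup.mp hg
    obtain ⟨a, rfl⟩ := Ideal.mem_span_singleton'.mp hy
    by_cases ha : IsUnit a
    · refine ⟨x, xs, List.Perm.refl _, ha.unit, ?_⟩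
      simpa using hh
    · have ham : a ∈ maximalIdeal A := by rwa [IsLocalRing.mem_maximalIdeal, mem_nonunits_iff]
      have hh' : h ∉ maximalIdeal A * Ideal.ofList xs := by
        intro hc
        apply hg'
        refine Ideal.add_mem _ ?_ ?_
        · refine Ideal.mul_mem_mul ham ?_
          rw [Ideal.ofList_cons]
          exact Ideal.mem_sup_left (Ideal.mem_span_singleton_self x)
        · refine Ideal.mul_mono_right ?_ hc
          rw [Ideal.ofList_cons]
          exact le_sup_right
      obtain ⟨x', rest', hperm, a', ha'⟩ := ih h hh hh'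
      refine ⟨x', x :: rest', ?_, a', ?_⟩
      · exact (List.Perm.cons x hperm).trans (List.Perm.swap x' x rest')
      · rw [Ideal.ofList_cons]
        have : a * x + h - a' * x' = a * x + (h - a' * x') := by ring
        rw [this]
        exact Ideal.add_mem _ (Ideal.mem_sup_left (Ideal.mem_span_singleton'.mpr ⟨a, rfl⟩))
          (Ideal.mem_sup_right ha')

theorem ofList_le_maximalIdeal_of_isRegular {A : Type*} [CommRing A] [IsLocalRing A] (xs : List A)
    (h : IsRegular A xs) : Ideal.ofList xs ≤ maximalIdeal A := by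
  apply IsLocalRing.le_maximalIdeal
  intro htop
  apply h.top_ne_smul
  rw [htop, smul_eq_mul, Ideal.mul_top]

theorem isRegular_of_weakly_of_le {A : Type*} [CommRing A] [IsLocalRing A] [IsNoetherianRing A]
    (xs : List A) (h : IsWeaklyRegular A xs) (hle : Ideal.ofList xs ≤ maximalIdeal A) : IsRegular A xs :=
  IsRegular.of_isWeaklyRegular_of_mem_maximalIdeal A
    (fun r hr => hle (Ideal.subset_span (show r ∈ {x | x ∈ xs} from hr))) h

theorem isRegular_replace {A : Type*} [CommRing A] [IsLocalRing A] [IsNoetherianRing A] (x : A)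
    (rest : List A) (h : IsRegular A (x :: rest)) (g : A) (a : Aˣ)
    (hga : g - a * x ∈ Ideal.ofList rest) :
    IsRegular A (g :: rest) ∧ Ideal.ofList (g :: rest) = Ideal.ofList (x :: rest) := by
  have hideal : Ideal.ofList (g :: rest) = Ideal.ofList (x :: rest) := by
    rw [Ideal.ofList_cons, Ideal.ofList_cons]
    apply le_antisymm
    · refine sup_le ?_ le_sup_right
      rw [Ideal.span_singleton_le_iff_mem]
      have : g = a * x + (g - a * x) := by ring
      rw [this]
      exact Ideal.add_mem _ (Ideal.mem_sup_left (Ideal.mem_span_singleton'.mpr ⟨a, rfl⟩))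
        (Ideal.mem_sup_right hga)
    · refine sup_le ?_ le_sup_right
      rw [Ideal.span_singleton_le_iff_mem]
      have : x = (↑a⁻¹ : A) * g - (↑a⁻¹ : A) * (g - a * x) := by
        have : (↑a⁻¹ : A) * (a * x) = x := by rw [← mul_assoc, Units.inv_mul, one_mul]
        linear_combination (-1 : A) * this
      rw [this]
      exact Ideal.sub_mem _ (Ideal.mem_sup_left (Ideal.mem_span_singleton'.mpr ⟨_, rfl⟩))
        (Ideal.mem_sup_right (Ideal.mul_mem_left _ _ hga))
  refine ⟨?_, hideal⟩
  have hle := ofList_le_maximalIdeal_of_isRegular _ h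
  have h1 : IsRegular A (rest ++ [x]) := IsLocalRing.isRegular_of_perm h (List.perm_append_singleton x rest).symm
  have h2 : IsWeaklyRegular A (rest ++ [g]) := by
    have h1' := h1.toIsWeaklyRegular
    rw [isWeaklyRegular_iff_elementwise] at h1' ⊢
    intro i hi y hy
    rw [List.length_append, List.length_singleton] at hi
    by_cases hlt : i < rest.length
    · have := h1' i (by rw [List.length_append, List.length_singleton]; omega) y
      rw [List.getElem_append_left hlt, List.take_append_of_le_length hlt.le] at this hy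
      rw [List.take_append_of_le_length hlt.le]
      exact this hy
    · have hi' : i = rest.length := by omega
      subst hi'
      have := h1' rest.length (by rw [List.length_append, List.length_singleton]; omega) (a * y)
      rw [List.take_left'  rfl] at this hy ⊢
      have hgx : (rest ++ [x])[rest.length]'(by rw [List.length_append, List.length_singleton]; omega) = x := by
        simp
      have hgg : (rest ++ [g])[rest.length]'(by rw [List.length_append, List.length_singleton]; omega) = g := by
        simp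
      rw [hgx] at this
      rw [hgg] at hy
      have h3 : x * (a * y) ∈ Ideal.ofList rest := by
        have : x * (a * y) = g * y - (g - a * x) * y := by ring
        rw [this]
        exact Ideal.sub_mem _ hy (Ideal.mul_mem_right _ _ hga)
      exact (Ideal.unit_mul_mem_iff_mem _ a.isUnit).mp (this h3)
  have h3 : IsRegular A (rest ++ [g]) := by
    apply isRegular_of_weakly_of_le _ h2
    have : Ideal.ofList (rest ++ [g]) = Ideal.ofList (g :: rest) := by
      rw [Ideal.ofList_append, Ideal.ofList_singleton, Ideal.ofList_cons, sup_comm]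
    rw [this, hideal]
    exact hle
  exact IsLocalRing.isRegular_of_perm h3 (List.perm_append_singleton g rest)

theorem isWeaklyRegular_cons_map_of_sub_mem {A : Type*} [CommRing A] (g : A) (l : List A) (F : A → A)
    (hF : ∀ r ∈ l, r - F r ∈ Ideal.span {g}) (h : IsWeaklyRegular A (g :: l)) :
    IsWeaklyRegular A (g :: l.map F) ∧ Ideal.ofList (g :: l.map F) = Ideal.ofList (g :: l) := by
  constructor
  · rw [isWeaklyRegular_cons_iff'] at h ⊢
    refine ⟨h.1, ?_⟩
    have : (l.map F).map (Ideal.Quotient.mk (Ideal.span {g})) = l.map (Ideal.Quotient.mk (Ideal.span {g})) := by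
      rw [List.map_map]
      apply List.map_congr_left
      intro r hr
      exact (Ideal.Quotient.eq.mpr (hF r hr)).symm
    rw [this]
    exact h.2
  · rw [Ideal.ofList_cons, Ideal.ofList_cons]
    apply le_antisymm
    · refine sup_le le_sup_left ?_
      rw [Ideal.ofList, Ideal.span_le]
      intro y hy
      obtain ⟨r, hr, rfl⟩ := List.mem_map.mp hy
      have : F r = r - (r - F r) := by ring
      rw [this]
      exact Ideal.sub_mem _ (Ideal.mem_sup_right (Ideal.subset_span (show r ∈ {x | x ∈ l} from hr)))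
        (Ideal.mem_sup_left (hF r hr))
    · refine sup_le le_sup_left ?_
      rw [Ideal.ofList, Ideal.span_le]
      intro r hr
      have : r = F r + (r - F r) := by ring
      rw [this]
      refine Ideal.add_mem _ (Ideal.mem_sup_right (Ideal.subset_span ?_)) (Ideal.mem_sup_left (hF r hr))
      exact List.mem_map.mpr ⟨r, hr, rfl⟩

/-- the case of a single element -/
theorem exists_regular_of_nzd {A : Type*} [CommRing A] [IsLocalRing A] [IsNoetherianRing A]
    (I : Ideal A) (g : A) (hg : ∀ x, g * x ∈ I → x ∈ I) (xs : List A) (hxs : IsRegular A xs)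
    (hJ : I ⊔ Ideal.span {g} = Ideal.ofList xs) : ∃ fs, IsRegular A fs ∧ I = Ideal.ofList fs := by
  have hJm := ofList_le_maximalIdeal_of_isRegular xs hxs
  have hIJ : I ≤ Ideal.ofList xs := hJ ▸ le_sup_left
  have hgJ : g ∈ Ideal.ofList xs := hJ ▸ Ideal.mem_sup_right (Ideal.mem_span_singleton_self g)
  have hjac : maximalIdeal A ≤ Ideal.jacobson ⊥ := IsLocalRing.maximalIdeal_le_jacobson _
  have hItop : I ≠ ⊤ := by
    intro h
    rw [h] at hIJ
    exact (IsLocalRing.maximalIdeal.isMaximal A).ne_top (top_le_iff.mp (hIJ.trans hJm))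
  -- g ∉ 𝔪 J
  have hg' : g ∉ maximalIdeal A * Ideal.ofList xs := by
    intro hc
    have h1 : Ideal.ofList xs ≤ I ⊔ maximalIdeal A • Ideal.ofList xs := by
      rw [← hJ]
      refine sup_le le_sup_left ?_
      rw [Ideal.span_singleton_le_iff_mem]
      rw [hJ]
      exact Ideal.mem_sup_right hc
    have h2 : Ideal.ofList xs ≤ I :=
      Submodule.le_of_le_smul_of_le_jacobson_bot (IsNoetherian.noetherian _) hjac h1
    have h3 : g ∈ I := h2 hgJ
    apply hItop
    rw [Ideal.eq_top_iff_one]
    apply hg
    rwa [mul_one]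
  obtain ⟨x, rest, hperm, a, hga⟩ := exists_unit_coeff xs g hgJ hg'
  have hxr : IsRegular A (x :: rest) := IsLocalRing.isRegular_of_perm hxs hperm
  have hJ' : Ideal.ofList xs = Ideal.ofList (x :: rest) := by
    unfold Ideal.ofList
    congr 1
    ext y
    exact hperm.mem_iff
  obtain ⟨hgr, hgrJ⟩ := isRegular_replace x rest hxr g a hga
  -- choose F
  have hdec : ∀ r : A, ∃ f : A, r ∈ rest → f ∈ I ∧ r - f ∈ Ideal.span {g} := by
    intro r
    by_cases hr : r ∈ rest
    · have hrJ : r ∈ I ⊔ Ideal.span {g} := by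
        rw [hJ, hJ']
        exact Ideal.subset_span (show r ∈ {y | y ∈ x :: rest} from List.mem_cons_of_mem _ hr)
      obtain ⟨f, hf, c, hc, rfl⟩ := Submodule.mem_sup.mp hrJ
      exact ⟨f, fun _ => ⟨hf, by simpa using hc⟩⟩
    · exact ⟨0, fun h => absurd h hr⟩
  choose F hF using hdec
  obtain ⟨hw, hideal⟩ := isWeaklyRegular_cons_map_of_sub_mem g rest F (fun r hr => (hF r hr).2)
    hgr.toIsWeaklyRegular
  have hle : Ideal.ofList (g :: rest.map F) ≤ maximalIdeal A := by
    rw [hideal, hgrJ, ← hJ']; exact hJm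
  have hreg : IsRegular A (g :: rest.map F) := isRegular_of_weakly_of_le _ hw hle
  have hreg' : IsRegular A (rest.map F ++ [g]) :=
    IsLocalRing.isRegular_of_perm hreg (List.perm_append_singleton g _).symm
  have hfsI : Ideal.ofList (rest.map F) ≤ I := by
    rw [Ideal.ofList, Ideal.span_le]
    intro y hy
    obtain ⟨r, hr, rfl⟩ := List.mem_map.mp hy
    exact (hF r hr).1
  have hfsw : IsWeaklyRegular A (rest.map F) := by
    have := hreg'.toIsWeaklyRegular
    rw [isWeaklyRegular_iff_elementwise] at this ⊢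
    intro i hi y hy
    have h := this i (by rw [List.length_append]; omega) y
    rw [List.getElem_append_left hi, List.take_append_of_le_length hi.le] at h
    exact h hy
  refine ⟨rest.map F, isRegular_of_weakly_of_le _ hfsw (hfsI.trans (hIJ.trans hJm)), ?_⟩
  apply le_antisymm _ hfsI
  apply Submodule.le_of_le_smul_of_le_jacobson_bot (IsNoetherian.noetherian _) hjac
  intro b hb
  have hbJ : b ∈ Ideal.span {g} ⊔ Ideal.ofList (rest.map F) := by
    rw [← Ideal.ofList_cons, hideal, hgrJ, ← hJ']
    exact hIJ hb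
  obtain ⟨y, hy, f, hf, rfl⟩ := Submodule.mem_sup.mp hbJ
  obtain ⟨c, rfl⟩ := Ideal.mem_span_singleton'.mp hy
  have hcgI : g * c ∈ I := by
    have : g * c = (c * g + f) - f := by ring
    rw [this]
    exact Ideal.sub_mem _ hb (hfsI hf)
  have hcI := hg c hcgI
  rw [add_comm]
  refine Submodule.add_mem_sup hf ?_
  rw [mul_comm]
  exact Submodule.smul_mem_smul (hJm hgJ) hcI

theorem exists_regular_of_regMod {A : Type*} [CommRing A] [IsLocalRing A] [IsNoetherianRing A]
    (gs : List A) : ∀ (I : Ideal A), RegMod I gs → ∀ xs : List A, IsRegular A xs →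
    I ⊔ Ideal.ofList gs = Ideal.ofList xs → ∃ fs, IsRegular A fs ∧ I = Ideal.ofList fs := by
  induction gs with
  | nil =>
    intro I _ xs hxs h
    rw [Ideal.ofList_nil, sup_bot_eq] at h
    exact ⟨xs, hxs, h⟩
  | cons g gs ih =>
    intro I hreg xs hxs h
    have h1 : RegMod (I ⊔ Ideal.span {g}) gs := by
      intro i hi x hx
      have := hreg (i + 1) (by rw [List.length_cons]; omega) x
      rw [List.take_succ_cons, Ideal.ofList_cons, ← sup_assoc] at this
      exact this hx
    have h2 : (I ⊔ Ideal.span {g}) ⊔ Ideal.ofList gs = Ideal.ofList xs := by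
      rw [← h, Ideal.ofList_cons, sup_assoc]
    obtain ⟨xs', hxs', hI'⟩ := ih _ h1 xs hxs h2
    refine exists_regular_of_nzd I g ?_ xs' hxs' hI'
    intro x hx
    have := hreg 0 (by rw [List.length_cons]; omega) x
    rw [List.take_zero, Ideal.ofList_nil, sup_bot_eq] at this
    exact this hx


theorem exists_lift_list {A B : Type*} (φ : A → B) (hφ : Function.Surjective φ) (ts : List B) :
    ∃ gs : List A, gs.map φ = ts := by
  refine ⟨ts.map (Function.surjInv hφ), ?_⟩
  rw [List.map_map]
  conv_rhs => rw [← List.map_id ts]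
  apply List.map_congr_left
  intro t _
  exact Function.surjInv_eq hφ t

/-- ring-level two-out-of-three, forward -/
theorem ker_comp_regular {A B C : Type*} [CommRing A] [CommRing B] [CommRing C] [Nontrivial C]
    (φ : A →+* B) (ψ : B →+* C) (hφ : Function.Surjective φ)
    (rs : List A) (hrs : IsRegular A rs) (hkφ : RingHom.ker φ = Ideal.ofList rs)
    (ts : List B) (hts : IsRegular B ts) (hkψ : RingHom.ker ψ = Ideal.ofList ts) :
    ∃ xs : List A, IsRegular A xs ∧ RingHom.ker (ψ.comp φ) = Ideal.ofList xs := by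
  obtain ⟨gs, rfl⟩ := exists_lift_list φ hφ ts
  have hw := isWeaklyRegular_append_of_surjective φ hφ rs hrs.toIsWeaklyRegular hkφ gs hts.toIsWeaklyRegular
  have hideal := ofList_append_comap φ hφ rs hkφ gs
  have hk : RingHom.ker (ψ.comp φ) = Ideal.ofList (rs ++ gs) := by
    rw [hideal, ← hkψ, RingHom.comap_ker]
  refine ⟨rs ++ gs, ⟨hw, ?_⟩, hk⟩
  rw [← hk, smul_eq_mul, Ideal.mul_top]
  exact (RingHom.ker_ne_top _).symm

/-- ring-level two-out-of-three, backward -/
theorem ker_regular_of_comp {A B C : Type*} [CommRing A] [CommRing B] [CommRing C]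
    [IsLocalRing A] [IsNoetherianRing A]
    (φ : A →+* B) (ψ : B →+* C) (hφ : Function.Surjective φ)
    (ts : List B) (hts : IsRegular B ts) (hkψ : RingHom.ker ψ = Ideal.ofList ts)
    (xs : List A) (hxs : IsRegular A xs) (hk : RingHom.ker (ψ.comp φ) = Ideal.ofList xs) :
    ∃ rs : List A, IsRegular A rs ∧ RingHom.ker φ = Ideal.ofList rs := by
  obtain ⟨gs, rfl⟩ := exists_lift_list φ hφ ts
  have h1 := (regMod_iff_of_surjective φ hφ gs).mp hts.toIsWeaklyRegular
  have h2 : RingHom.ker φ ⊔ Ideal.ofList gs = Ideal.ofList xs := by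
    rw [← comap_ofList_map φ hφ, ← hkψ, RingHom.comap_ker, hk]
  exact exists_regular_of_regMod gs _ h1 xs hxs h2

theorem S2887_main {X Y Z : Scheme.{u}} [IsLocallyNoetherian X] (f : Y ⟶ X) (g : Z ⟶ Y)
    [IsClosedImmersion f] [IsClosedImmersion g] (z : ↥Z) :
    ((∃ V : Y.Opens, g z ∈ V ∧ Mor2.IsRegularClosedImmersion (g ∣_ V)) ∧ (∃ V : X.Opens, f (g z) ∈ V ∧ Mor2.IsRegularClosedImmersion (f ∣_ V))) ↔
      ((∃ V : Y.Opens, g z ∈ V ∧ Mor2.IsRegularClosedImmersion (g ∣_ V)) ∧ (∃ V : X.Opens, (g ≫ f) z ∈ V ∧ Mor2.IsRegularClosedImmersion ((g ≫ f) ∣_ V))) := by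
  haveI : IsLocallyNoetherian Y := LocallyOfFiniteType.isLocallyNoetherian f
  rw [S1679_main g z, S1679_main f (g z), S1679_main (g ≫ f) z]
  have hcomp : ((g ≫ f).stalkMap z).hom = (g.stalkMap z).hom.comp (f.stalkMap (g z)).hom := by
    rw [Scheme.Hom.stalkMap_comp]; rfl
  have hφ : Function.Surjective (f.stalkMap (g z)).hom := f.stalkMap_surjective (g z)
  constructor
  · rintro ⟨⟨ts, hts, hkψ⟩, ⟨rs, hrs, hkφ⟩⟩
    refine ⟨⟨ts, hts, hkψ⟩, ?_⟩
    obtain ⟨xs, hxs, hk⟩ := ker_comp_regular _ _ hφ rs hrs hkφ ts hts hkψ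
    exact ⟨xs, hxs, by rw [hcomp]; exact hk⟩
  · rintro ⟨⟨ts, hts, hkψ⟩, ⟨xs, hxs, hk⟩⟩
    refine ⟨⟨ts, hts, hkψ⟩, ?_⟩
    rw [hcomp] at hk
    exact ker_regular_of_comp _ _ hφ ts hts hkψ xs hxs hk

end Groth.Agent.Lib.Helper4.RegTwoOfThree
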