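import Mathlib
import Groth.Agent.Lib.Helper4.RegTwoOfThree
import Groth.Agent.Lib.Helper8.RegularLocal5

/-!
# Extending independent elements to regular generating sequences; regular quotients (helper4)
-/

set_option backward.isDefEq.respectTransparency.types false
set_option synthInstance.maxHeartbeats 400000
set_option autoImplicit false
set_option linter.unusedSectionVars false
set_option linter.style.haveILetI false
set_option linter.unusedSimpArgs false
universe u v w
open CategoryTheory CategoryTheory.Limits AlgebraicGeometry TopologicalSpace IsLocalRing Opposite Topology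
open RingTheory.Sequence
open Groth.Agent.Lib.Helper4.RegSpread1 Groth.Agent.Lib.Helper4.RegSpread2 Groth.Agent.Lib.Helper4.RegComp1
open Groth.Agent.Lib.Helper4.RegTwoOfThree

namespace Groth.Agent.Lib.Helper4.RegTwoOfThree2

theorem exists_unit_coeff_append {A : Type*} [CommRing A] [IsLocalRing A] (l1 l2 : List A) (g : A)
    (hg : g ∈ Ideal.ofList (l1 ++ l2))
    (hg' : g ∉ Ideal.ofList l1 ⊔ maximalIdeal A * Ideal.ofList (l1 ++ l2)) :
    ∃ x rest, l2.Perm (x :: rest) ∧ ∃ a : Aˣ, g - a * x ∈ Ideal.ofList (l1 ++ rest) := by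
  rw [Ideal.ofList_append] at hg
  obtain ⟨h1, hh1, h2, hh2, rfl⟩ := Submodule.mem_sup.mp hg
  have hh2' : h2 ∉ maximalIdeal A * Ideal.ofList l2 := by
    intro hc
    apply hg'
    refine Submodule.add_mem_sup hh1 ?_
    refine Ideal.mul_mono_right ?_ hc
    rw [Ideal.ofList_append]
    exact le_sup_right
  obtain ⟨x, rest, hperm, a, ha⟩ := exists_unit_coeff l2 h2 hh2 hh2'
  refine ⟨x, rest, hperm, a, ?_⟩
  rw [Ideal.ofList_append]
  have : h1 + h2 - a * x = h1 + (h2 - a * x) := by ring
  rw [this]
  exact Submodule.add_mem_sup hh1 ha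

theorem ofList_perm {A : Type*} [CommRing A] {l l' : List A} (h : l.Perm l') :
    Ideal.ofList l = Ideal.ofList l' := by
  unfold Ideal.ofList
  congr 1
  ext y
  exact h.mem_iff

/-- extending independent elements of an ideal generated by a regular sequence to a regular
generating sequence -/
theorem exists_extend_regular {A : Type*} [CommRing A] [IsLocalRing A] [IsNoetherianRing A]
    (ys : List A) (hys : IsRegular A ys) (xs : List A)
    (hxs : ∀ i (hi : i < xs.length), xs[i] ∈ Ideal.ofList ys ∧
      xs[i] ∉ Ideal.ofList (xs.take i) ⊔ maximalIdeal A * Ideal.ofList ys) :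
    ∃ rest, IsRegular A (xs ++ rest) ∧ Ideal.ofList (xs ++ rest) = Ideal.ofList ys := by
  suffices h : ∀ n, n ≤ xs.length → ∃ rest, IsRegular A (xs.take n ++ rest) ∧
      Ideal.ofList (xs.take n ++ rest) = Ideal.ofList ys by
    obtain ⟨rest, h1, h2⟩ := h xs.length le_rfl
    rw [List.take_length] at h1 h2
    exact ⟨rest, h1, h2⟩
  intro n
  induction n with
  | zero =>
    intro _
    exact ⟨ys, by simpa using hys, by simp⟩
  | succ n ih =>
    intro hn
    obtain ⟨rest, hreg, hideal⟩ := ih (by omega)
    have hn' : n < xs.length := by omega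
    obtain ⟨hmem, hnot⟩ := hxs n hn'
    rw [← hideal] at hmem hnot
    obtain ⟨x, rest', hperm, a, ha⟩ := exists_unit_coeff_append (xs.take n) rest xs[n] hmem hnot
    have hperm1 : (xs.take n ++ rest).Perm (x :: (xs.take n ++ rest')) :=
      (List.Perm.append_left _ hperm).trans List.perm_middle
    have hreg1 : IsRegular A (x :: (xs.take n ++ rest')) := IsLocalRing.isRegular_of_perm hreg hperm1
    obtain ⟨hreg2, hideal2⟩ := isRegular_replace x (xs.take n ++ rest') hreg1 xs[n] a ha
    have htake : xs.take (n + 1) = xs.take n ++ [xs[n]] := by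
      rw [List.take_succ_eq_append_getElem hn']
    have hperm2 : (xs[n] :: (xs.take n ++ rest')).Perm (xs.take (n + 1) ++ rest') := by
      rw [htake, List.append_assoc, List.singleton_append]
      exact List.perm_middle.symm
    refine ⟨rest', IsLocalRing.isRegular_of_perm hreg2 hperm2, ?_⟩
    rw [← ofList_perm hperm2, hideal2, ← ofList_perm hperm1, hideal]

/-- ring-level: quotient of a regular-sequence ideal by independent elements -/
theorem quotient_regular_of_regular {A B : Type*} [CommRing A] [CommRing B] [IsLocalRing A]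
    [IsNoetherianRing A] (φ : A →+* B) (hφ : Function.Surjective φ) (xs : List A)
    (hker : RingHom.ker φ = Ideal.ofList xs)
    (hind : ∀ i (hi : i < xs.length), xs[i] ∉ Ideal.ofList (xs.take i) ⊔ maximalIdeal A ^ 2)
    (K : Ideal B) (ys : List A) (hys : IsRegular A ys) (hJ : K.comap φ = Ideal.ofList ys) :
    ∃ ts : List B, IsRegular B ts ∧ K = Ideal.ofList ts := by
  have hJm := ofList_le_maximalIdeal_of_isRegular ys hys
  have hIJ : Ideal.ofList xs ≤ Ideal.ofList ys := by
    rw [← hker, ← hJ]
    exact fun a ha => by rw [Ideal.mem_comap, (RingHom.mem_ker).mp ha]; exact Ideal.zero_mem _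
  have hm2 : maximalIdeal A * Ideal.ofList ys ≤ maximalIdeal A ^ 2 := by
    rw [pow_two]; exact Ideal.mul_mono_right hJm
  obtain ⟨rest, hreg, hideal⟩ := exists_extend_regular ys hys xs (fun i hi =>
    ⟨hIJ (Ideal.subset_span (show xs[i] ∈ {x | x ∈ xs} from List.getElem_mem hi)),
      fun hc => hind i hi (sup_le_sup_left hm2 _ hc)⟩)
  have hK : K = Ideal.ofList (rest.map φ) := by
    rw [← Ideal.map_comap_of_surjective φ hφ K, hJ, ← hideal, Ideal.map_ofList, List.map_append,
      Ideal.ofList_append, ← Ideal.map_ofList φ xs, ← hker]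
    have : Ideal.map φ (RingHom.ker φ) = ⊥ := by
      rw [Ideal.map_eq_bot_iff_le_ker]
    rw [this, bot_sup_eq]
  refine ⟨rest.map φ, ⟨?_, ?_⟩, hK⟩
  · rw [regMod_iff_of_surjective φ hφ, hker]
    have hw := hreg.toIsWeaklyRegular
    rw [isWeaklyRegular_iff_elementwise] at hw
    intro i hi x hx
    have := hw (xs.length + i) (by rw [List.length_append]; omega) x
    have htake : (xs ++ rest).take (xs.length + i) = xs ++ rest.take i := by
      rw [List.take_append, List.take_of_length_le (by omega)]
      congr 2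
      omega
    have hget : (xs ++ rest)[xs.length + i]'(by rw [List.length_append]; omega) = rest[i] := by
      rw [List.getElem_append_right (by omega)]
      congr 1
      omega
    rw [htake, hget, Ideal.ofList_append] at this
    exact this hx
  · rw [← hK, smul_eq_mul, Ideal.mul_top]
    intro htop
    have : Ideal.ofList ys = ⊤ := by rw [← hJ, ← htop, Ideal.comap_top]
    rw [this] at hJm
    exact (IsLocalRing.maximalIdeal.isMaximal A).ne_top (top_le_iff.mp hJm)


theorem toCotangent_mem_span {R : Type*} [CommRing R] [IsLocalRing R] {ι : Type*}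
    (x : ι → maximalIdeal R) (S : Set ι) :
    ∀ b ∈ Ideal.span ((fun j => (x j : R)) '' S), ∀ h : b ∈ maximalIdeal R,
      (maximalIdeal R).toCotangent ⟨b, h⟩ ∈ Submodule.span (ResidueField R)
        ((fun j => (maximalIdeal R).toCotangent (x j)) '' S) := by
  have hle : Ideal.span ((fun j => (x j : R)) '' S) ≤ maximalIdeal R := by
    rw [Ideal.span_le]; rintro _ ⟨j, _, rfl⟩; exact (x j).2
  intro b hb
  induction hb using Submodule.span_induction with
  | mem b hb =>
    obtain ⟨j, hj, rfl⟩ := hb
    intro h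
    exact Submodule.subset_span ⟨j, hj, rfl⟩
  | zero =>
    intro h
    have : (⟨0, h⟩ : maximalIdeal R) = 0 := rfl
    rw [this, map_zero]
    exact Submodule.zero_mem _
  | add a b ha hb iha ihb =>
    intro h
    have : (⟨a + b, h⟩ : maximalIdeal R) = ⟨a, hle ha⟩ + ⟨b, hle hb⟩ := rfl
    rw [this, map_add]
    exact Submodule.add_mem _ (iha _) (ihb _)
  | smul r b hb ihb =>
    intro h
    have : (⟨r • b, h⟩ : maximalIdeal R) = r • ⟨b, hle hb⟩ := rfl
    rw [this, map_smul]
    have h2 : r • (maximalIdeal R).toCotangent ⟨b, hle hb⟩ =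
        (IsLocalRing.residue R r) • (maximalIdeal R).toCotangent ⟨b, hle hb⟩ := rfl
    rw [h2]
    exact Submodule.smul_mem _ _ (ihb _)

theorem notMem_of_linearIndependent {R : Type*} [CommRing R] [IsLocalRing R] {ι : Type*}
    (x : ι → maximalIdeal R)
    (hli : LinearIndependent (ResidueField R) (fun i => (maximalIdeal R).toCotangent (x i)))
    (i : ι) (S : Set ι) (hiS : i ∉ S) :
    (x i : R) ∉ Ideal.span ((fun j => (x j : R)) '' S) ⊔ maximalIdeal R ^ 2 := by
  intro hc
  obtain ⟨s, hs, m, hm, hsm⟩ := Submodule.mem_sup.mp hc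
  have hle : Ideal.span ((fun j => (x j : R)) '' S) ≤ maximalIdeal R := by
    rw [Ideal.span_le]; rintro _ ⟨j, _, rfl⟩; exact (x j).2
  have hm' : m ∈ maximalIdeal R := Ideal.pow_le_self (by norm_num) hm
  have h1 : x i = ⟨s, hle hs⟩ + ⟨m, hm'⟩ := Subtype.ext hsm.symm
  have h2 : (maximalIdeal R).toCotangent (x i) = (maximalIdeal R).toCotangent ⟨s, hle hs⟩ := by
    have h0 : (maximalIdeal R).toCotangent ⟨m, hm'⟩ = 0 := (Ideal.toCotangent_eq_zero _ _).mpr hm
    rw [h1, map_add, h0, add_zero]
  have h3 := toCotangent_mem_span x S s hs (hle hs)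
  rw [← h2] at h3
  exact hli.notMem_span_image hiS h3


open Groth.Agent.Helper8.RLR in
/-- in a regular local ring, an ideal with regular quotient is generated by a list of elements
which are successively independent modulo `𝔪²` -/
theorem exists_independent_generators (A : Type u) [CommRing A] [IsRegularLocalRing A] (I : Ideal A)
    [IsRegularLocalRing (A ⧸ I)] :
    ∃ xs : List A, I = Ideal.ofList xs ∧
      ∀ i (hi : i < xs.length), xs[i] ∉ Ideal.ofList (xs.take i) ⊔ maximalIdeal A ^ 2 := by
  obtain ⟨d, hd, -⟩ := exists_nat_eq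
    (ringKrullDim_nonneg_of_nontrivial (R := A)) (ringKrullDim_le_spanFinrank_maximalIdeal A)
  obtain ⟨x, c, hc, hxm, hxI⟩ := exists_generators_of_quotient_regular A d hd I
  have hfr : Module.finrank (ResidueField A) (CotangentSpace A) = d := by
    have h1 : ((maximalIdeal A).spanFinrank : WithBot ℕ∞) = ringKrullDim A :=
      IsRegularLocalRing.spanFinrank_maximalIdeal
    rw [spanFinrank_maximalIdeal_eq_finrank_cotangentSpace, hd] at h1
    exact_mod_cast h1
  have hmem : ∀ i, x i ∈ maximalIdeal A := fun i => hxm ▸ Ideal.subset_span ⟨i, rfl⟩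
  obtain ⟨x', hx'⟩ : ∃ x' : Fin d → maximalIdeal A, x' = fun i => ⟨x i, hmem i⟩ := ⟨_, rfl⟩
  have hx'x : (fun i => (x' i : A)) = x := by rw [hx']
  have hli := linearIndependent_of_span_eq x' (by rw [hx'x]; exact hxm)
    (by rw [Fintype.card_fin, hfr])
  refine ⟨List.ofFn (fun i : Fin c => x (Fin.castLE hc i)), by rw [ofList_ofFn, hxI], ?_⟩
  intro i hi
  rw [List.length_ofFn] at hi
  rw [List.getElem_ofFn]
  have hnot := notMem_of_linearIndependent x' hli (Fin.castLE hc ⟨i, hi⟩) {j | j.val < i}
    (by simp)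
  intro hcontra
  apply hnot
  have hxi : ((x' (Fin.castLE hc ⟨i, hi⟩) : maximalIdeal A) : A) = x (Fin.castLE hc ⟨i, hi⟩) := by
    rw [hx']
  rw [hxi]
  refine (sup_le_sup_right (a := Ideal.ofList
    (List.take i (List.ofFn fun i : Fin c => x (Fin.castLE hc i)))) ?_ (maximalIdeal A ^ 2)) hcontra
  rw [Ideal.ofList, Ideal.span_le]
  intro y hy
  obtain ⟨k, hk, rfl⟩ := List.mem_iff_getElem.mp hy
  rw [List.length_take, List.length_ofFn] at hk
  rw [List.getElem_take, List.getElem_ofFn]
  apply Ideal.subset_span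
  refine ⟨Fin.castLE hc ⟨k, by omega⟩, ?_, ?_⟩
  · simp; omega
  · rw [hx']

theorem regular_quotient_kernel {A B : Type u} [CommRing A] [CommRing B] [IsRegularLocalRing A]
    [IsRegularLocalRing B] (φ : A →+* B) (hφ : Function.Surjective φ) (K : Ideal B)
    (ys : List A) (hys : IsRegular A ys) (hJ : K.comap φ = Ideal.ofList ys) :
    ∃ ts : List B, IsRegular B ts ∧ K = Ideal.ofList ts := by
  haveI : IsRegularLocalRing (A ⧸ RingHom.ker φ) :=
    IsRegularLocalRing.of_ringEquiv (RingHom.quotientKerEquivOfSurjective hφ).symm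
  obtain ⟨xs, hker, hind⟩ := exists_independent_generators A (RingHom.ker φ)
  exact quotient_regular_of_regular φ hφ xs hker hind K ys hys hJ

theorem S2888_main {X Y Z : Scheme.{u}} [IsLocallyNoetherian X] (f : Y ⟶ X) (g : Z ⟶ Y)
    [IsClosedImmersion f] [IsClosedImmersion g] (z : ↥Z) [IsRegularLocalRing (Y.presheaf.stalk (g z))]
    [IsRegularLocalRing (X.presheaf.stalk (f (g z)))] :
    (∃ V : X.Opens, (g ≫ f) z ∈ V ∧ Mor2.IsRegularClosedImmersion ((g ≫ f) ∣_ V)) ↔ (∃ V : Y.Opens, g z ∈ V ∧ Mor2.IsRegularClosedImmersion (g ∣_ V)) := by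
  haveI : IsLocallyNoetherian Y := LocallyOfFiniteType.isLocallyNoetherian f
  have hf : ∃ V : X.Opens, f (g z) ∈ V ∧ Mor2.IsRegularClosedImmersion (f ∣_ V) :=
    (S2889_main f (g z)).mpr inferInstance
  constructor
  · intro h
    rw [S1679_main] at h ⊢
    obtain ⟨ys, hys, hk⟩ := h
    have hcomp : ((g ≫ f).stalkMap z).hom = (g.stalkMap z).hom.comp (f.stalkMap (g z)).hom := by
      rw [Scheme.Hom.stalkMap_comp]; rfl
    have hφ : Function.Surjective (f.stalkMap (g z)).hom := f.stalkMap_surjective (g z)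
    rw [hcomp] at hk
    exact regular_quotient_kernel (f.stalkMap (g z)).hom hφ (RingHom.ker (g.stalkMap z).hom) ys hys
      (by rw [RingHom.comap_ker]; exact hk)
  · intro h
    exact ((S2887_main f g z).mp ⟨h, hf⟩).2

end Groth.Agent.Lib.Helper4.RegTwoOfThree2
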