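import Mathlib
import Groth.Agent.Lib.Helper4.RegTwoOfThree2
import Groth.Agent.Lib.Helper1.QuasiReg

/-!
# Quasi-regular sequences localize; regular = quasi-regular immersions on locally Noetherian schemes (helper4)
-/

set_option backward.isDefEq.respectTransparency.types false
set_option synthInstance.maxHeartbeats 400000
set_option autoImplicit false
set_option linter.unusedSectionVars false
set_option linter.style.haveILetI false
set_option linter.unusedSimpArgs false
universe u v w
open CategoryTheory CategoryTheory.Limits AlgebraicGeometry TopologicalSpace IsLocalRing Opposite Topology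
open RingTheory.Sequence
open Groth.Agent.Lib.Helper4.RegSpread1 Groth.Agent.Lib.Helper4.RegSpread2 Groth.Agent.Lib.Helper4.RegComp1
open Groth.Agent.Lib.Helper4.RegTwoOfThree

namespace Groth.Agent.Lib.Helper4.QuasiRegImm1

open MvPolynomial in
theorem isQuasiRegular_localization {A : Type u} [CommRing A] (M : Submonoid A) (Ap : Type u)
    [CommRing Ap] [Algebra A Ap] [IsLocalization M Ap] {c : ℕ} (f : Fin c → A)
    (hq : CAlgX.IsQuasiRegular f) : CAlgX.IsQuasiRegular (fun i => algebraMap A Ap (f i)) := by
  classical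
  intro n P hP hPe d
  obtain ⟨b, hb⟩ := IsLocalization.exist_integer_multiples M P.support (fun e => P.coeff e)
  choose! g hg using hb
  obtain ⟨P', hP'⟩ : ∃ P' : MvPolynomial (Fin c) A, P' = ∑ e ∈ P.support, monomial e (g e) := ⟨_, rfl⟩
  have hcoeff : ∀ e, algebraMap A Ap (P'.coeff e) = algebraMap A Ap (b : A) * P.coeff e := by
    intro e
    rw [hP', coeff_sum]
    simp only [coeff_monomial]
    rw [Finset.sum_ite_eq' P.support e]
    by_cases he : e ∈ P.support
    · rw [if_pos he, hg e he, Algebra.smul_def]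
    · rw [if_neg he, map_zero, notMem_support_iff.mp he, mul_zero]
  have hP'hom : P'.IsHomogeneous n := by
    rw [hP']
    apply IsHomogeneous.sum
    intro e he
    apply isHomogeneous_monomial
    have := hP (mem_support_iff.mp he)
    rwa [Finsupp.degree_eq_weight_one]
  have hmap : MvPolynomial.map (algebraMap A Ap) P' = C (algebraMap A Ap (b : A)) * P := by
    ext e
    rw [coeff_map, hcoeff, coeff_C_mul]
  have hrange : Ideal.span (Set.range fun i => algebraMap A Ap (f i)) =
      (Ideal.span (Set.range f)).map (algebraMap A Ap) := by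
    rw [Ideal.map_span, ← Set.range_comp]; rfl
  have heval : algebraMap A Ap (eval f P') =
      algebraMap A Ap (b : A) * eval (fun i => algebraMap A Ap (f i)) P := by
    have h1 : eval (fun i => algebraMap A Ap (f i)) (MvPolynomial.map (algebraMap A Ap) P') =
        algebraMap A Ap (eval f P') := by
      rw [MvPolynomial.eval_map]
      have : (fun i => algebraMap A Ap (f i)) = (algebraMap A Ap) ∘ f := rfl
      rw [this, ← MvPolynomial.eval₂_comp]
    rw [← h1, hmap, map_mul, eval_C]
  have hmem : algebraMap A Ap (eval f P') ∈ (Ideal.span (Set.range f) ^ (n + 1)).map (algebraMap A Ap) := by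
    rw [heval, Ideal.map_pow, ← hrange]
    exact Ideal.mul_mem_left _ _ hPe
  obtain ⟨⟨a, s⟩, has⟩ := (IsLocalization.mem_map_algebraMap_iff M Ap).mp hmem
  simp only at has
  rw [← map_mul] at has
  obtain ⟨t, ht⟩ := (IsLocalization.eq_iff_exists M Ap).mp has
  have hev2 : eval f (((t : A) * (s : A)) • P') ∈ Ideal.span (Set.range f) ^ (n + 1) := by
    rw [smul_eval]
    have : (t : A) * (s : A) * eval f P' = t * (eval f P' * s) := by ring
    rw [this, ht]
    exact Ideal.mul_mem_left _ _ a.2
  have hhom2 : (((t : A) * (s : A)) • P').IsHomogeneous n := by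
    rw [smul_eq_C_mul]
    have := (isHomogeneous_C (Fin c) ((t : A) * (s : A))).mul hP'hom
    rwa [zero_add] at this
  have h3 := hq n _ hhom2 hev2 d
  rw [coeff_smul, smul_eq_mul] at h3
  have h4 : algebraMap A Ap ((t : A) * (s : A) * P'.coeff d) ∈
      Ideal.span (Set.range fun i => algebraMap A Ap (f i)) := by
    rw [hrange]; exact Ideal.mem_map_of_mem _ h3
  rw [map_mul, hcoeff, ← mul_assoc, ← map_mul] at h4
  have hu : IsUnit (algebraMap A Ap ((t : A) * (s : A) * (b : A))) :=
    IsLocalization.map_units Ap (⟨(t : A) * (s : A) * (b : A), M.mul_mem (M.mul_mem t.2 s.2) b.2⟩ : M)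
  exact (Ideal.unit_mul_mem_iff_mem _ hu).mp h4


theorem isClosedImmersion_restrict_basicOpen {X Z : Scheme.{u}} (i : Z ⟶ X) (U : X.Opens) (r : Γ(X, U))
    [IsClosedImmersion (i ∣_ U)] : IsClosedImmersion (i ∣_ X.basicOpen r) := by
  have h1 : IsClosedImmersion (i ∣_ U ∣_ U.toScheme.basicOpen
      (X.presheaf.map (eqToHom U.isOpenEmbedding_obj_top).op r)) :=
    IsZariskiLocalAtTarget.restrict ‹_› _
  exact (MorphismProperty.arrow_mk_iso_iff @IsClosedImmersion
    (morphismRestrictRestrictBasicOpen i U r)).mp h1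

theorem ofFn_map_get {α β : Type*} (φ : α → β) (rs : List α) :
    List.ofFn (fun i => φ (rs.get i)) = rs.map φ := by
  apply List.ext_getElem
  · simp
  · intro i h1 h2
    simp

theorem S5003_main {X Y : Scheme.{u}} [IsLocallyNoetherian X] (j : Y ⟶ X) :
    RegImm.IsRegularImmersion RegImm.Kind.regular j ↔ RegImm.IsRegularImmersion RegImm.Kind.quasi j := by
  constructor
  · rintro ⟨himm, h⟩
    refine ⟨himm, fun z => ?_⟩
    obtain ⟨U, hzU, hcl, rs, hrs, hker⟩ := h z
    refine ⟨U, hzU, hcl, rs, ?_, hker⟩
    change CAlgX.IsQuasiRegular rs.get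
    apply Groth.Agent.Helper1.QuasiReg.isQuasiRegular_of_isWeaklyRegular
    rw [List.ofFn_get]
    have hrs' : IsRegular Γ(X, U.1) rs := hrs
    exact hrs'.toIsWeaklyRegular
  · rintro ⟨himm, h⟩
    haveI := himm
    haveI : QuasiCompact j := by
      rw [← j.liftCoborder_ι]
      infer_instance
    refine ⟨himm, fun z => ?_⟩
    obtain ⟨U, hzU, hcl, rs, hrs, hker⟩ := h z
    haveI := hcl
    obtain ⟨hV, hsurj⟩ := affine_surjective_of_isClosedImmersion_restrict j U.1 U.2
    have hrs' : CAlgX.IsQuasiRegular rs.get := hrs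
    have h1 := ker_stalkMap_of_app_surjective j z U.1 U.2 hzU hV hsurj
    let _ := TopCat.Presheaf.algebra_section_stalk X.presheaf (⟨j z, hzU⟩ : U.1)
    have hlocX := U.2.isLocalization_stalk ⟨j z, hzU⟩
    have hq : CAlgX.IsQuasiRegular
        (fun i => algebraMap Γ(X, U.1) (X.presheaf.stalk (j z)) (rs.get i)) :=
      isQuasiRegular_localization (U.2.primeIdealOf ⟨j z, hzU⟩).asIdeal.primeCompl _ rs.get hrs'
    have hmem : ∀ r ∈ rs, algebraMap Γ(X, U.1) (X.presheaf.stalk (j z)) r ∈
        maximalIdeal (X.presheaf.stalk (j z)) := by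
      intro r hr
      rw [IsLocalization.AtPrime.to_map_mem_maximal_iff (X.presheaf.stalk (j z))
        (U.2.primeIdealOf ⟨j z, hzU⟩).asIdeal]
      apply ker_app_le_primeIdealOf j z U.1 U.2 hzU hV
      rw [hker]
      exact Ideal.subset_span hr
    have hw := Groth.Agent.Helper1.QuasiReg.isWeaklyRegular_of_isQuasiRegular rs.length
      (X.presheaf.stalk (j z)) _ (fun i => by
        rw [IsLocalRing.ringJacobson_eq_maximalIdeal]
        exact hmem _ (List.get_mem rs i)) hq
    rw [ofFn_map_get] at hw
    have hreg : IsRegular (X.presheaf.stalk (j z))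
        (rs.map (algebraMap Γ(X, U.1) (X.presheaf.stalk (j z)))) := by
      apply IsRegular.of_isWeaklyRegular_of_mem_maximalIdeal _ _ hw
      intro r hr
      obtain ⟨r', hr', rfl⟩ := List.mem_map.mp hr
      exact hmem r' hr'
    have hker' : RingHom.ker (j.stalkMap z).hom =
        Ideal.ofList (rs.map (algebraMap Γ(X, U.1) (X.presheaf.stalk (j z)))) := by
      rw [h1, hker, Ideal.map_ofList]
      rfl
    obtain ⟨r, hzr, as, -, hreg', hkas⟩ := affine_regular_of_stalk j z U.1 U.2 hzU hV hsurj _ hreg hker'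
    exact ⟨⟨X.basicOpen r, U.2.basicOpen r⟩, hzr, isClosedImmersion_restrict_basicOpen j U.1 r, as,
      hreg', hkas⟩

end Groth.Agent.Lib.Helper4.QuasiRegImm1
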