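import Mathlib
import Groth.Agent.Lib.Helper4.QuasiRegImm1
import Groth.Agent.Lib.Helper1.FlatQuotQR
import Groth.Agent.Lib.Helper3.KosBC1

/-!
# Flat base change of regular immersions of the four kinds (helper4)
-/

set_option backward.isDefEq.respectTransparency.types false
set_option synthInstance.maxHeartbeats 400000
set_option autoImplicit false
set_option linter.unusedSectionVars false
set_option linter.style.haveILetI false
set_option linter.unusedSimpArgs false
universe u v w
open CategoryTheory CategoryTheory.Limits AlgebraicGeometry TopologicalSpace IsLocalRing Opposite Topology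
open RingTheory.Sequence
open Groth.Agent.Lib.Helper4.RegSpread1 Groth.Agent.Lib.Helper4.RegSpread2 Groth.Agent.Lib.Helper4.RegComp1

namespace Groth.Agent.Lib.Helper4.RegFlatBC1

/-- kernel of the second leg of a pushout of commutative rings along a surjection -/
theorem ker_inr_of_isPushout {A B A' P : CommRingCat.{u}} (φ : A ⟶ B) (ψ : A ⟶ A') (inl : B ⟶ P)
    (inr : A' ⟶ P) (h : IsPushout φ ψ inl inr) (hφ : Function.Surjective φ.hom) :
    RingHom.ker inr.hom = (RingHom.ker φ.hom).map ψ.hom := by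
  apply le_antisymm
  · obtain ⟨K, hK⟩ : ∃ K : Ideal A', K = (RingHom.ker φ.hom).map ψ.hom := ⟨_, rfl⟩
    rw [← hK]
    have hle : RingHom.ker φ.hom ≤ RingHom.ker ((Ideal.Quotient.mk K).comp ψ.hom) := by
      intro a ha
      rw [RingHom.mem_ker, RingHom.comp_apply, Ideal.Quotient.eq_zero_iff_mem, hK]
      exact Ideal.mem_map_of_mem _ ha
    obtain ⟨β, hβ⟩ : ∃ β : B →+* A' ⧸ K, β.comp φ.hom = (Ideal.Quotient.mk K).comp ψ.hom :=
      ⟨RingHom.liftOfSurjective φ.hom hφ ⟨_, hle⟩, RingHom.liftOfRightInverse_comp _ _ _ _⟩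
    have hcomm : φ ≫ CommRingCat.ofHom β = ψ ≫ CommRingCat.ofHom (Ideal.Quotient.mk K) := by
      ext a
      exact congrArg (fun f => f a) hβ
    have hdesc : inr ≫ h.desc (CommRingCat.ofHom β) (CommRingCat.ofHom (Ideal.Quotient.mk K)) hcomm =
        CommRingCat.ofHom (Ideal.Quotient.mk K) := h.inr_desc _ _ _
    intro a' ha'
    have h1 := congrArg (fun f => f.hom a') hdesc
    simp only [CommRingCat.hom_comp, RingHom.comp_apply, CommRingCat.hom_ofHom] at h1
    rw [(RingHom.mem_ker).mp ha', map_zero] at h1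
    exact Ideal.Quotient.eq_zero_iff_mem.mp h1.symm
  · rw [Ideal.map_le_iff_le_comap]
    intro a ha
    rw [Ideal.mem_comap, RingHom.mem_ker]
    have h1 := congrArg (fun f => f.hom a) h.w
    simp only [CommRingCat.hom_comp, RingHom.comp_apply] at h1
    rw [← h1, (RingHom.mem_ker).mp ha, map_zero]


theorem isRegularImmersionAt_of_isPullback (k : RegImm.Kind)
    (hk : ∀ (R R' : Type u) [CommRing R] [CommRing R'] (φ : R →+* R'), φ.Flat → ∀ rs : List R,
      k.Seq R rs → Ideal.ofList (rs.map φ) ≠ ⊤ → k.Seq R' (rs.map φ))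
    {X Y X' Y' : Scheme.{u}} (i : Y ⟶ X) (g : X' ⟶ X) [Flat g] (i' : Y' ⟶ X') (g' : Y' ⟶ Y)
    (hsq : IsPullback g' i' i g) (y' : Y') (h : RegImm.IsRegularImmersionAt k i (g' y')) :
    RegImm.IsRegularImmersionAt k i' y' := by
  obtain ⟨U, hyU, hcl, rs, hrs, hker⟩ := h
  have hx' : i' y' ∈ g ⁻¹ᵁ U.1 := by
    have h1 : (g' ≫ i) y' = (i' ≫ g) y' := by rw [hsq.w]
    change g (i' y') ∈ U.1
    have h2 : g (i' y') = i (g' y') := h1.symm
    rw [h2]; exact hyU
  obtain ⟨U', hU', hxU', hU'U⟩ := Opens.isBasis_iff_nbhd.mp (X'.isBasis_affineOpens) hx'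
  haveI := hcl
  obtain ⟨hV, hsurj⟩ := affine_surjective_of_isClosedImmersion_restrict i U.1 U.2
  have hUY : i' ⁻¹ᵁ U' = g' ⁻¹ᵁ (i ⁻¹ᵁ U.1) ⊓ i' ⁻¹ᵁ U' := by
    apply le_antisymm
    · refine le_inf ?_ le_rfl
      intro y hy
      change i (g' y) ∈ U.1
      have h1 : (g' ≫ i) y = (i' ≫ g) y := by rw [hsq.w]
      have h2 : i (g' y) = g (i' y) := h1
      rw [h2]
      exact hU'U hy
    · exact inf_le_right
  have hpb := Scheme.Hom.isPullback_resLE hsq (US := U.1) (UT := U') (UX := i ⁻¹ᵁ U.1) hU'U le_rfl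
    (UY := i' ⁻¹ᵁ U') hUY
  have hcl' : IsClosedImmersion (i' ∣_ U') := by
    rw [← Scheme.Hom.resLE_eq_morphismRestrict]
    refine MorphismProperty.of_isPullback (P := @IsClosedImmersion) hpb ?_
    rw [Scheme.Hom.resLE_eq_morphismRestrict]
    exact hcl
  have hiso := AlgebraicGeometry.isIso_pushoutSection_of_isAffineOpen hsq hU'U le_rfl hUY U.2 hU' hV
  have hpo := (AlgebraicGeometry.isIso_pushoutSection_iff hsq hU'U le_rfl hUY).mp hiso
  have hkk := ker_inr_of_isPushout _ _ _ _ hpo (by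
    rw [← Scheme.Hom.app_eq_appLE]; exact hsurj)
  rw [← Scheme.Hom.app_eq_appLE, ← Scheme.Hom.app_eq_appLE] at hkk
  have hflat : (g.appLE U.1 U' hU'U).hom.Flat :=
    HasRingHomProperty.appLE @Flat g inferInstance U ⟨U', hU'⟩ hU'U
  have hker' : RingHom.ker (i'.app U').hom = Ideal.ofList (rs.map (g.appLE U.1 U' hU'U).hom) := by
    rw [hkk, hker, Ideal.map_ofList]
  refine ⟨⟨U', hU'⟩, hxU', hcl', rs.map (g.appLE U.1 U' hU'U).hom, ?_, hker'⟩
  apply hk _ _ _ hflat rs hrs
  rw [← hker']
  haveI : Nonempty ↥(i' ⁻¹ᵁ U') := ⟨⟨y', hxU'⟩⟩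
  exact RingHom.ker_ne_top _


section H1

variable {R R' : Type u} [CommRing R] [CommRing R'] [Algebra R R']

theorem map_mem_trivialRelations {c : ℕ} (f : Fin c → R) (v : Fin c → R)
    (hv : v ∈ Submodule.span R {v : Fin c → R | ∃ i j : Fin c, v = Pi.single i (f j) - Pi.single j (f i)}) :
    (fun i => algebraMap R R' (v i)) ∈ Submodule.span R'
      {v : Fin c → R' | ∃ i j : Fin c, v = Pi.single i (algebraMap R R' (f j)) -
        Pi.single j (algebraMap R R' (f i))} := by
  induction hv using Submodule.span_induction with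
  | mem v hv =>
    obtain ⟨i, j, rfl⟩ := hv
    apply Submodule.subset_span
    refine ⟨i, j, ?_⟩
    funext l
    simp only [Pi.sub_apply, map_sub]
    congr 1
    · by_cases h : l = i
      · subst h; simp
      · simp [Pi.single_eq_of_ne h]
    · by_cases h : l = j
      · subst h; simp
      · simp [Pi.single_eq_of_ne h]
  | zero =>
    have : (fun i => algebraMap R R' ((0 : Fin c → R) i)) = 0 := by
      funext i; simp
    rw [this]; exact Submodule.zero_mem _
  | add a b _ _ iha ihb =>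
    have : (fun i => algebraMap R R' ((a + b) i)) =
        (fun i => algebraMap R R' (a i)) + (fun i => algebraMap R R' (b i)) := by
      funext i; simp
    rw [this]; exact Submodule.add_mem _ iha ihb
  | smul r a _ iha =>
    have : (fun i => algebraMap R R' ((r • a) i)) =
        algebraMap R R' r • (fun i => algebraMap R R' (a i)) := by
      funext i; simp
    rw [this]; exact Submodule.smul_mem _ _ iha

theorem isH1Regular_of_flat [Module.Flat R R'] {c : ℕ} (f : Fin c → R) (h : CAlgX.IsH1Regular f) :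
    CAlgX.IsH1Regular (fun i => algebraMap R R' (f i)) := by
  intro a' hsum
  obtain ⟨k, b, y, hxy, hb⟩ := Module.Flat.isTrivialRelation_of_sum_smul_eq_zero (R := R) (M := R')
    (f := f) (x := a') (by
      rw [← hsum]
      apply Finset.sum_congr rfl
      intro i _
      rw [Algebra.smul_def, mul_comm])
  have hbj : ∀ j : Fin k, (fun i => b i j) ∈ Submodule.span R
      {v : Fin c → R | ∃ i j : Fin c, v = Pi.single i (f j) - Pi.single j (f i)} := by
    intro j
    apply h
    rw [← hb j]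
    apply Finset.sum_congr rfl
    intro i _
    rw [mul_comm]
  have ha' : a' = ∑ j, y j • (fun i => algebraMap R R' (b i j)) := by
    funext i
    rw [hxy i, Finset.sum_apply]
    apply Finset.sum_congr rfl
    intro j _
    rw [Pi.smul_apply, Algebra.smul_def, smul_eq_mul, mul_comm]
  rw [ha']
  exact Submodule.sum_mem _ (fun j _ => Submodule.smul_mem _ _ (map_mem_trivialRelations f _ (hbj j)))

end H1

section Quasi

open Groth.Agent.Helper1.FlatQuotQR

variable {R R' : Type u} [CommRing R] [CommRing R'] [Algebra R R']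

theorem mon_map {r : ℕ} (f : Fin r → R) (d : Fin r →₀ ℕ) :
    mon (fun i => algebraMap R R' (f i)) d = algebraMap R R' (mon f d) := by
  unfold mon
  rw [map_prod]
  apply Finset.prod_congr rfl
  intro i _
  rw [map_pow]

theorem isQuasiRegular_of_flat [Module.Flat R R'] {r : ℕ} (f : Fin r → R) (hq : CAlgX.IsQuasiRegular f) :
    CAlgX.IsQuasiRegular (fun i => algebraMap R R' (f i)) := by
  classical
  intro n P hP hPe d
  by_cases hd : d ∈ D r n
  swap
  · have : P.coeff d = 0 := by
      by_contra hne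
      apply hd
      rw [mem_D, Finsupp.degree_eq_weight_one]
      exact hP hne
    rw [this]; exact Ideal.zero_mem _
  obtain ⟨f', hf'⟩ : ∃ f' : Fin r → R', f' = fun i => algebraMap R R' (f i) := ⟨_, rfl⟩
  rw [← hf'] at hPe ⊢
  rw [eval_eq_ev f' P hP] at hPe
  obtain ⟨q, hq'⟩ := (mem_pow_iff f' (n + 1) _).mp hPe
  -- relation over R
  obtain ⟨F, hF⟩ : ∃ F : (D r n) ⊕ (D r (n + 1)) → R, F = Sum.elim (fun d => mon f d.1) (fun e => mon f e.1) :=
    ⟨_, rfl⟩
  obtain ⟨x, hx⟩ : ∃ x : (D r n) ⊕ (D r (n + 1)) → R', x = Sum.elim (fun d => P.coeff d.1) (fun e => - q e) :=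
    ⟨_, rfl⟩
  have h1 : ∑ d : D r n, mon f d.1 • P.coeff d.1 = ev f' n (fun d => P.coeff d.1) := by
    rw [ev_apply]
    apply Finset.sum_congr rfl
    intro d _
    rw [hf', mon_map, Algebra.smul_def, mul_comm]
  have h2 : ∑ e : D r (n + 1), mon f e.1 • (- q e) = - ev f' (n + 1) q := by
    rw [ev_apply, ← Finset.sum_neg_distrib]
    apply Finset.sum_congr rfl
    intro e _
    rw [hf', mon_map, Algebra.smul_def, mul_comm, neg_mul]
  obtain ⟨k, a, y, hxy, ha⟩ := Module.Flat.isTrivialRelation_of_sum_smul_eq_zero (R := R) (M := R')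
    (f := F) (x := x) (by
      rw [Fintype.sum_sum_type]
      have e1 : ∀ d : D r n, F (Sum.inl d) • x (Sum.inl d) = mon f d.1 • P.coeff d.1 := by
        intro d; rw [hF, hx]; rfl
      have e2 : ∀ e : D r (n + 1), F (Sum.inr e) • x (Sum.inr e) = mon f e.1 • (- q e) := by
        intro e; rw [hF, hx]; rfl
      rw [Finset.sum_congr rfl (fun d _ => e1 d), Finset.sum_congr rfl (fun e _ => e2 e), h1, h2, hq',
        add_neg_cancel])
  have haj : ∀ (j : Fin k) (d : D r n), a (Sum.inl d) j ∈ Ideal.span (Set.range f) := by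
    intro j
    rw [← ev_mem_succ_iff f hq n (fun d => a (Sum.inl d) j)]
    have h1 := ha j
    rw [Fintype.sum_sum_type] at h1
    have e1 : ∀ d : D r n, F (Sum.inl d) * a (Sum.inl d) j = mon f d.1 * a (Sum.inl d) j := by
      intro d; rw [hF]; rfl
    have e2 : ∀ e : D r (n + 1), F (Sum.inr e) * a (Sum.inr e) j = mon f e.1 * a (Sum.inr e) j := by
      intro e; rw [hF]; rfl
    rw [Finset.sum_congr rfl (fun d _ => e1 d), Finset.sum_congr rfl (fun e _ => e2 e)] at h1
    have h2 : ev f n (fun d => a (Sum.inl d) j) = ev f (n + 1) (fun e => - a (Sum.inr e) j) := by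
      rw [ev_apply, ev_apply]
      rw [add_eq_zero_iff_eq_neg] at h1
      have h3 : ∑ d : D r n, a (Sum.inl d) j * mon f d.1 = ∑ d : D r n, mon f d.1 * a (Sum.inl d) j :=
        Finset.sum_congr rfl (fun d _ => mul_comm _ _)
      rw [h3, h1, ← Finset.sum_neg_distrib]
      apply Finset.sum_congr rfl
      intro e _
      ring
    rw [h2]
    exact ev_mem f (n + 1) _
  have hcoeff : P.coeff d = ∑ j, a (Sum.inl ⟨d, hd⟩) j • y j := by
    have := hxy (Sum.inl ⟨d, hd⟩)
    rw [hx] at this
    exact this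
  rw [hcoeff]
  apply Ideal.sum_mem
  intro j _
  rw [Algebra.smul_def]
  apply Ideal.mul_mem_right
  rw [hf']
  have : Ideal.span (Set.range fun i => algebraMap R R' (f i)) =
      (Ideal.span (Set.range f)).map (algebraMap R R') := by
    rw [Ideal.map_span, ← Set.range_comp]; rfl
  rw [this]
  exact Ideal.mem_map_of_mem _ (haj j ⟨d, hd⟩)

end Quasi


theorem pred_get_map {α β : Type*} (φ : α → β) (rs : List α) (P : ∀ c : ℕ, (Fin c → β) → Prop)
    (h : P rs.length (fun i => φ (rs.get i))) : P (rs.map φ).length (rs.map φ).get := by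
  have key : ∀ (c : ℕ) (hc : c = rs.length) (g : Fin c → β),
      (∀ i, g i = φ (rs.get (Fin.cast hc i))) → P c g := by
    intro c hc g hg
    subst hc
    have : g = fun i => φ (rs.get i) := funext hg
    rw [this]; exact h
  apply key _ (List.length_map φ) _
  intro i
  simp

theorem kind_seq_of_flat (k : RegImm.Kind) (R R' : Type u) [CommRing R] [CommRing R'] (φ : R →+* R')
    (hφ : φ.Flat) (rs : List R) (hrs : k.Seq R rs) (hne : Ideal.ofList (rs.map φ) ≠ ⊤) :
    k.Seq R' (rs.map φ) := by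
  algebraize [φ]
  have hφ' : algebraMap R R' = φ := RingHom.algebraMap_toAlgebra φ
  cases k with
  | regular =>
    have hrs' : IsRegular R rs := hrs
    have hw := IsWeaklyRegular.of_flat (S := R') hrs'.toIsWeaklyRegular
    rw [hφ'] at hw
    refine ⟨hw, ?_⟩
    rw [smul_eq_mul, Ideal.mul_top]
    exact hne.symm
  | koszul =>
    have hrs' : LCI.IsKoszulRegularSeq R rs := hrs
    have := Groth.Agent.Helper3.KosBC.isKoszulRegularSeq_map_of_flat R R' rs hrs'
    rw [hφ'] at this
    exact this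
  | h1 =>
    have hrs' : CAlgX.IsH1Regular rs.get := hrs
    have := isH1Regular_of_flat (R' := R') rs.get hrs'
    rw [hφ'] at this
    exact pred_get_map φ rs (fun c g => CAlgX.IsH1Regular g) this
  | quasi =>
    have hrs' : CAlgX.IsQuasiRegular rs.get := hrs
    have := isQuasiRegular_of_flat (R' := R') rs.get hrs'
    rw [hφ'] at this
    exact pred_get_map φ rs (fun c g => CAlgX.IsQuasiRegular g) this

theorem S8906_main {Z X X' : Scheme.{u}} (i : Z ⟶ X) (k : RegImm.Kind)
    (hi : RegImm.IsRegularImmersion k i) (g : X' ⟶ X) [Flat g] :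
    RegImm.IsRegularImmersion k (pullback.snd i g) := by
  obtain ⟨himm, h⟩ := hi
  haveI := himm
  refine ⟨inferInstance, fun y' => ?_⟩
  exact isRegularImmersionAt_of_isPullback k (kind_seq_of_flat k) i g (pullback.snd i g)
    (pullback.fst i g) (IsPullback.of_hasPullback i g) y' (h _)

theorem S8652_main {X Y X' Y' : Scheme.{u}} (i : Y ⟶ X) (g : X' ⟶ X) [Flat g]
    (i' : Y' ⟶ X') (g' : Y' ⟶ Y) (hsq : IsPullback g' i' i g)
    (hi : RegImm.IsRegularImmersion .koszul i) : RegImm.IsRegularImmersion .koszul i' := by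
  obtain ⟨himm, h⟩ := hi
  refine ⟨MorphismProperty.of_isPullback (P := @IsImmersion) hsq himm, fun y' => ?_⟩
  exact isRegularImmersionAt_of_isPullback _ (kind_seq_of_flat _) i g i' g' hsq y' (h _)

theorem regImm_of_mor2 {Z X : Scheme.{u}} (i : Z ⟶ X) (h : Mor2.IsRegularClosedImmersion i) :
    RegImm.IsRegularImmersion .regular i := by
  obtain ⟨hcl, h⟩ := h
  haveI := hcl
  refine ⟨inferInstance, fun z => ?_⟩
  obtain ⟨U, hU, hzU, rs, hrs, hker⟩ := h z
  refine ⟨⟨U, hU⟩, hzU, inferInstance, rs, hrs, ?_⟩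
  rw [← hker, Scheme.Hom.ker_apply]

theorem mor2_of_regImm {Z X : Scheme.{u}} (i : Z ⟶ X) [IsClosedImmersion i]
    (h : RegImm.IsRegularImmersion .regular i) : Mor2.IsRegularClosedImmersion i := by
  refine ⟨inferInstance, fun z => ?_⟩
  obtain ⟨U, hzU, -, rs, hrs, hker⟩ := h.2 z
  refine ⟨U.1, U.2, hzU, rs, hrs, ?_⟩
  rw [← hker, Scheme.Hom.ker_apply]

theorem S2886_main {X X' Y : Scheme.{u}} (f : Y ⟶ X) (g : X' ⟶ X) [Flat g]
    (hf : Mor2.IsRegularClosedImmersion f) : Mor2.IsRegularClosedImmersion (pullback.snd f g) := by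
  haveI := hf.1
  exact mor2_of_regImm _ (S8906_main f .regular (regImm_of_mor2 f hf) g)

end Groth.Agent.Lib.Helper4.RegFlatBC1
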