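import Mathlib
import Groth.Agent.Lib.Helper4.RegFlatBC1

/-!
# Regular ideals in regular local rings; quasi-regular ideal sheaves on Noetherian schemes (helper4)
-/

set_option backward.isDefEq.respectTransparency.types false
set_option synthInstance.maxHeartbeats 400000
set_option autoImplicit false
set_option linter.unusedSectionVars false
set_option linter.style.haveILetI false
set_option linter.unusedSimpArgs false
universe u v w
open CategoryTheory CategoryTheory.Limits AlgebraicGeometry TopologicalSpace IsLocalRing Opposite Topology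
open RingTheory.Sequence
open Groth.Agent.Lib.Helper4.RegSpread1 Groth.Agent.Lib.Helper4.RegSpread2 Groth.Agent.Lib.Helper4.RegComp1
open Groth.Agent.Lib.Helper4.RegTwoOfThree Groth.Agent.Lib.Helper4.RegTwoOfThree2
open Groth.Agent.Lib.Helper4.QuasiRegImm1

namespace Groth.Agent.Lib.Helper4.RegIdeal1

theorem S2838_main (A : Type u) [CommRing A] [IsRegularLocalRing A]
    (J K : Ideal A) (hJK : J ≤ K) (hK : K ≤ IsLocalRing.maximalIdeal A) (hAJ : IsRegularLocalRing (A ⧸ J)) :
    CInt.IsRegularIdeal K ↔ CInt.IsRegularIdeal (K.map (Ideal.Quotient.mk J)) := by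
  have hφ : Function.Surjective (Ideal.Quotient.mk J) := Ideal.Quotient.mk_surjective
  have hcomap : (K.map (Ideal.Quotient.mk J)).comap (Ideal.Quotient.mk J) = K := by
    rw [Ideal.comap_map_of_surjective _ hφ, ← RingHom.ker_eq_comap_bot, Ideal.mk_ker]
    exact sup_eq_left.mpr hJK
  constructor
  · rintro ⟨ys, hys, hK'⟩
    obtain ⟨ts, hts, hk⟩ := regular_quotient_kernel (Ideal.Quotient.mk J) hφ
      (K.map (Ideal.Quotient.mk J)) ys hys (by rw [hcomap, hK'])
    exact ⟨ts, hts, hk.symm⟩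
  · rintro ⟨ts, hts, hk⟩
    obtain ⟨rs, hrs, hJ⟩ := (Groth.Agent.Helper8.RLR.isRegularLocalRing_iff_of_quotient A J).mp inferInstance
    haveI : Nontrivial ((A ⧸ J) ⧸ K.map (Ideal.Quotient.mk J)) := by
      apply Ideal.Quotient.nontrivial_iff.mpr
      intro htop
      apply hts.top_ne_smul
      rw [smul_eq_mul, Ideal.mul_top, hk, htop]
    obtain ⟨xs, hxs, hker⟩ := ker_comp_regular (Ideal.Quotient.mk J)
      (Ideal.Quotient.mk (K.map (Ideal.Quotient.mk J))) hφ rs hrs (by rw [Ideal.mk_ker, hJ]) ts hts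
      (by rw [Ideal.mk_ker, hk])
    refine ⟨xs, hxs, ?_⟩
    rw [← hker, ← RingHom.comap_ker, Ideal.mk_ker, hcomap]

theorem S5004_main {X : Scheme.{u}} [IsLocallyNoetherian X] (I : X.IdealSheafData)
    (h : RegImm.IsRegularIdeal RegImm.Kind.quasi I) : RegImm.IsRegularIdeal RegImm.Kind.regular I := by
  intro x hx
  obtain ⟨U, hxU, rs, hrs, hker⟩ := h x hx
  have hrs' : CAlgX.IsQuasiRegular rs.get := hrs
  haveI : IsNoetherianRing Γ(X, U.1) := IsLocallyNoetherian.component_noetherian U
  let _ := TopCat.Presheaf.algebra_section_stalk X.presheaf (⟨x, hxU⟩ : U.1)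
  have hlocX := U.2.isLocalization_stalk ⟨x, hxU⟩
  have hq : CAlgX.IsQuasiRegular
      (fun i => algebraMap Γ(X, U.1) (X.presheaf.stalk x) (rs.get i)) :=
    isQuasiRegular_localization (U.2.primeIdealOf ⟨x, hxU⟩).asIdeal.primeCompl _ rs.get hrs'
  have hle : I.ideal U ≤ (U.2.primeIdealOf ⟨x, hxU⟩).asIdeal := by
    intro f hf
    have h1 := (Scheme.IdealSheafData.mem_support_iff_of_mem hxU).mp hx
    rw [Scheme.mem_zeroLocus_iff] at h1
    have h2 := h1 f hf
    rw [Scheme.mem_basicOpen _ _ _ hxU] at h2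
    by_contra hfp
    exact h2 ((IsLocalization.AtPrime.isUnit_to_map_iff (X.presheaf.stalk x)
      (U.2.primeIdealOf ⟨x, hxU⟩).asIdeal f).mpr hfp)
  have hmem : ∀ r ∈ rs, algebraMap Γ(X, U.1) (X.presheaf.stalk x) r ∈
      maximalIdeal (X.presheaf.stalk x) := by
    intro r hr
    rw [IsLocalization.AtPrime.to_map_mem_maximal_iff (X.presheaf.stalk x)
      (U.2.primeIdealOf ⟨x, hxU⟩).asIdeal]
    apply hle
    rw [hker]
    exact Ideal.subset_span hr
  have hw := Groth.Agent.Helper1.QuasiReg.isWeaklyRegular_of_isQuasiRegular rs.length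
    (X.presheaf.stalk x) _ (fun i => by
      rw [IsLocalRing.ringJacobson_eq_maximalIdeal]
      exact hmem _ (List.get_mem rs i)) hq
  rw [ofFn_map_get] at hw
  have hreg : IsRegular (X.presheaf.stalk x)
      (rs.map (algebraMap Γ(X, U.1) (X.presheaf.stalk x))) := by
    apply IsRegular.of_isWeaklyRegular_of_mem_maximalIdeal _ _ hw
    intro r hr
    obtain ⟨r', hr', rfl⟩ := List.mem_map.mp hr
    exact hmem r' hr'
  obtain ⟨r, as, hr, -, hB⟩ := exists_away_regular (I.ideal U)
    (U.2.primeIdealOf ⟨x, hxU⟩).asIdeal (X.presheaf.stalk x) _ hreg (by rw [hker, Ideal.map_ofList])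
  have hxr : x ∈ X.basicOpen r := by
    rw [Scheme.mem_basicOpen _ _ _ hxU]
    exact (IsLocalization.AtPrime.isUnit_to_map_iff (X.presheaf.stalk x)
      (U.2.primeIdealOf ⟨x, hxU⟩).asIdeal r).mpr hr
  haveI := U.2.isLocalization_basicOpen r
  obtain ⟨hreg', hideal⟩ := hB Γ(X, X.basicOpen r)
  refine ⟨X.affineBasicOpen r, hxr, _, hreg', ?_⟩
  refine Eq.trans ?_ hideal
  exact (I.map_ideal_basicOpen U r).symm

end Groth.Agent.Lib.Helper4.RegIdeal1
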