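import Mathlib
import Groth.Agent.Lib.Helper4.RegIdeal1

/-!
# Codimension of a regularly immersed subscheme at maximal points (helper4)
-/

set_option backward.isDefEq.respectTransparency.types false
set_option synthInstance.maxHeartbeats 400000
set_option autoImplicit false
set_option linter.unusedSectionVars false
set_option linter.style.haveILetI false
set_option linter.unusedSimpArgs false
universe u v w
open CategoryTheory CategoryTheory.Limits AlgebraicGeometry TopologicalSpace IsLocalRing Opposite Topology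
open RingTheory.Sequence
open Groth.Agent.Lib.Helper4.RegSpread1 Groth.Agent.Lib.Helper4.RegSpread2 Groth.Agent.Lib.Helper4.RegComp1

namespace Groth.Agent.Lib.Helper4.RegCodim1

theorem S2881_main {X Y : Scheme.{u}} [IsLocallyNoetherian X] (i : Y ⟶ X) [IsClosedImmersion i] (y : ↥Y)
    (rs : List ↑(X.presheaf.stalk (i y))) (hreg : RingTheory.Sequence.IsRegular ↑(X.presheaf.stalk (i y)) rs)
    (hker : RingHom.ker (i.stalkMap y).hom = Ideal.ofList rs) (z : ↥Y) (hzy : z ⤳ y)
    (hmax : ∀ z' : ↥Y, z' ⤳ z → z' = z) : ringKrullDim (X.presheaf.stalk (i z)) = rs.length := by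
  obtain ⟨U, hU, hyU, -⟩ := Opens.isBasis_iff_nbhd.mp (X.isBasis_affineOpens)
    (show i y ∈ (⊤ : X.Opens) from trivial)
  obtain ⟨r, hyr, as, hlen, hregas, hkas⟩ := affine_regular_of_stalk i y U hU hyU (hU.preimage i)
    (i.app_surjective U hU) rs hreg hker
  have hU' : IsAffineOpen (X.basicOpen r) := hU.basicOpen r
  have hzU' : i z ∈ X.basicOpen r :=
    (Specializes.map hzy i.continuous).mem_open (X.basicOpen r).2 hyr
  have hV' : IsAffineOpen (i ⁻¹ᵁ X.basicOpen r) := hU'.preimage i
  have hsurj' := i.app_surjective _ hU'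
  have h1 := ker_stalkMap_of_app_surjective i z _ hU' hzU' hV' hsurj'
  let _ := TopCat.Presheaf.algebra_section_stalk X.presheaf (⟨i z, hzU'⟩ : X.basicOpen r)
  have hlocX := hU'.isLocalization_stalk ⟨i z, hzU'⟩
  obtain ⟨as', has'⟩ : ∃ as' : List (X.presheaf.stalk (i z)),
      as' = as.map (algebraMap Γ(X, X.basicOpen r) (X.presheaf.stalk (i z))) := ⟨_, rfl⟩
  have hreg' : IsRegular (X.presheaf.stalk (i z)) as' := by
    rw [has']
    apply IsWeaklyRegular.isRegular_of_isLocalization_of_mem (X.presheaf.stalk (i z))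
      (hU'.primeIdealOf ⟨i z, hzU'⟩).asIdeal hregas.toIsWeaklyRegular
    intro r' hr'
    apply ker_app_le_primeIdealOf i z _ hU' hzU' hV'
    rw [hkas]
    exact Ideal.subset_span hr'
  have hker' : RingHom.ker (i.stalkMap z).hom = Ideal.ofList as' := by
    rw [h1, hkas, Ideal.map_ofList, has']
    rfl
  have hdim := ringKrullDim_add_length_eq_ringKrullDim_of_isRegular as' hreg'
  have hss : Function.Surjective (i.stalkMap z).hom := i.stalkMap_surjective z
  obtain ⟨σ, -⟩ : ∃ σ : (X.presheaf.stalk (i z) ⧸ RingHom.ker (i.stalkMap z).hom) ≃+* Y.presheaf.stalk z,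
      σ = RingHom.quotientKerEquivOfSurjective hss := ⟨_, rfl⟩
  rw [hker'] at σ
  have h3 : ringKrullDim (X.presheaf.stalk (i z) ⧸ Ideal.ofList as') = ringKrullDim (Y.presheaf.stalk z) :=
    ringKrullDim_eq_of_ringEquiv σ
  have h4 : ringKrullDim (Y.presheaf.stalk z) = 0 := by
    rw [ringKrullDim_stalk_eq_coheight]
    have : Order.coheight z = 0 := by
      rw [Order.coheight_eq_zero]
      intro b hb
      have : b ⤳ z := hb
      rw [hmax b this]
    rw [this]; rfl
  rw [h3, h4, zero_add] at hdim
  rw [← hdim, has', List.length_map, hlen]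

end Groth.Agent.Lib.Helper4.RegCodim1
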