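import Mathlib
import Groth.Agent.Lib.Helper4.RegCodim1
import Groth.Agent.Lib.Helper8.FlatReg1

/-!
# Relative quasi-regular immersions: flatness of the ambient scheme at Noetherian points (helper4)
-/

set_option backward.isDefEq.respectTransparency.types false
set_option synthInstance.maxHeartbeats 400000
set_option autoImplicit false
set_option linter.unusedSectionVars false
set_option linter.style.haveILetI false
set_option linter.unusedSimpArgs false
universe u v w
open CategoryTheory CategoryTheory.Limits AlgebraicGeometry TopologicalSpace IsLocalRing Opposite Topology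
open RingTheory.Sequence
open Groth.Agent.Lib.Helper4.RegSpread1 Groth.Agent.Lib.Helper4.RegSpread2 Groth.Agent.Lib.Helper4.RegComp1
open Groth.Agent.Lib.Helper4.QuasiRegImm1

namespace Groth.Agent.Lib.Helper4.RelQuasiReg1

/-- a quasi-regular sequence generating the kernel on an affine open gives a regular sequence
generating the kernel of the stalk map, when the stalk is Noetherian -/
theorem stalk_regular_of_quasi {X Z : Scheme.{u}} (i : Z ⟶ X) (z : Z) (U : X.Opens)
    (hU : IsAffineOpen U) (hzU : i z ∈ U) [IsClosedImmersion (i ∣_ U)]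
    [IsNoetherianRing (X.presheaf.stalk (i z))]
    (rs : List Γ(X, U)) (hrs : CAlgX.IsQuasiRegular rs.get)
    (hker : RingHom.ker (i.app U).hom = Ideal.ofList rs) :
    ∃ rs' : List (X.presheaf.stalk (i z)), rs'.length = rs.length ∧
      IsRegular (X.presheaf.stalk (i z)) rs' ∧ RingHom.ker (i.stalkMap z).hom = Ideal.ofList rs' := by
  obtain ⟨hV, hsurj⟩ := affine_surjective_of_isClosedImmersion_restrict i U hU
  have h1 := ker_stalkMap_of_app_surjective i z U hU hzU hV hsurj
  let _ := TopCat.Presheaf.algebra_section_stalk X.presheaf (⟨i z, hzU⟩ : U)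
  have hlocX := hU.isLocalization_stalk ⟨i z, hzU⟩
  have hq : CAlgX.IsQuasiRegular
      (fun j => algebraMap Γ(X, U) (X.presheaf.stalk (i z)) (rs.get j)) :=
    isQuasiRegular_localization (hU.primeIdealOf ⟨i z, hzU⟩).asIdeal.primeCompl _ rs.get hrs
  have hmem : ∀ r ∈ rs, algebraMap Γ(X, U) (X.presheaf.stalk (i z)) r ∈
      maximalIdeal (X.presheaf.stalk (i z)) := by
    intro r hr
    rw [IsLocalization.AtPrime.to_map_mem_maximal_iff (X.presheaf.stalk (i z))
      (hU.primeIdealOf ⟨i z, hzU⟩).asIdeal]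
    apply ker_app_le_primeIdealOf i z U hU hzU hV
    rw [hker]
    exact Ideal.subset_span hr
  have hw := Groth.Agent.Helper1.QuasiReg.isWeaklyRegular_of_isQuasiRegular rs.length
    (X.presheaf.stalk (i z)) _ (fun j => by
      rw [IsLocalRing.ringJacobson_eq_maximalIdeal]
      exact hmem _ (List.get_mem rs j)) hq
  rw [ofFn_map_get] at hw
  refine ⟨rs.map (algebraMap Γ(X, U) (X.presheaf.stalk (i z))), List.length_map _, ?_, ?_⟩
  · apply IsRegular.of_isWeaklyRegular_of_mem_maximalIdeal _ _ hw
    intro r hr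
    obtain ⟨r', hr', rfl⟩ := List.mem_map.mp hr
    exact hmem r' hr'
  · rw [h1, hker, Ideal.map_ofList]
    rfl

/-- ring-level: `B/(rs)` flat over `A`, `rs` regular in the Noetherian local ring `B` -/
theorem flat_of_regular_quotient {A B C : Type u} [CommRing A] [CommRing B] [CommRing C]
    [IsLocalRing B] [IsNoetherianRing B] (φ : A →+* B) (ψ : B →+* C) (hψ : Function.Surjective ψ)
    (rs : List B) (hrs : IsRegular B rs) (hker : RingHom.ker ψ = Ideal.ofList rs)
    (hflat : (ψ.comp φ).Flat) : φ.Flat := by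
  letI : Algebra A B := φ.toAlgebra
  letI : Algebra B C := ψ.toAlgebra
  letI : Algebra A C := (ψ.comp φ).toAlgebra
  haveI : IsScalarTower A B C := IsScalarTower.of_algebraMap_eq (fun _ => rfl)
  haveI hC : Module.Flat A C := hflat
  have hmem : ∀ f ∈ rs, f ∈ Ideal.jacobson (⊥ : Ideal B) := by
    intro f hf
    rw [IsLocalRing.jacobson_eq_maximalIdeal ⊥ bot_ne_top]
    exact Groth.Agent.Lib.Helper4.RegTwoOfThree.ofList_le_maximalIdeal_of_isRegular rs hrs (Ideal.subset_span hf)
  have hkerL : (Ideal.ofList rs • (⊤ : Submodule B B)) = LinearMap.ker (Algebra.linearMap B C) := by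
    rw [smul_eq_mul, Ideal.mul_top, ← hker]
    ext x
    simp [RingHom.mem_ker, Algebra.linearMap_apply]
    rfl
  have hsurjL : Function.Surjective (Algebra.linearMap B C) := hψ
  obtain ⟨e, -⟩ : ∃ e : (B ⧸ (Ideal.ofList rs • (⊤ : Submodule B B))) ≃ₗ[B] C, e = e :=
    ⟨(Submodule.quotEquivOfEq _ _ hkerL).trans
      ((Algebra.linearMap B C).quotKerEquivOfSurjective hsurjL), rfl⟩
  haveI : Module.Flat A (B ⧸ (Ideal.ofList rs • (⊤ : Submodule B B))) :=
    Groth.Agent.Helper8.FlatReg.flat_of_linearEquiv (A := A) e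
  exact Groth.Agent.Helper8.FlatReg.flat_of_isWeaklyRegular_of_flat_quotient (A := A) rs hmem B
    hrs.toIsWeaklyRegular inferInstance


theorem S8893_main {Z X S : Scheme.{u}} (f : X ⟶ S) (i : Z ⟶ X)
    (hi : RegImm.IsRelRegularImmersion RegImm.Kind.quasi f i) (z : ↥Z) [IsNoetherianRing ↑(X.presheaf.stalk (i z))] :
    (f.stalkMap (i z)).hom.Flat := by
  obtain ⟨⟨himm, h⟩, hflat⟩ := hi
  obtain ⟨U, hzU, hcl, rs, hrs, hker⟩ := h z
  haveI := hcl
  haveI := himm
  obtain ⟨rs', -, hreg, hker'⟩ := stalk_regular_of_quasi i z U.1 U.2 hzU rs hrs hker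
  haveI := hflat
  have h1 : ((i ≫ f).stalkMap z).hom.Flat := Flat.stalkMap (i ≫ f) z
  have hcomp : ((i ≫ f).stalkMap z).hom = (i.stalkMap z).hom.comp (f.stalkMap (i z)).hom := by
    rw [Scheme.Hom.stalkMap_comp]; rfl
  rw [hcomp] at h1
  exact flat_of_regular_quotient _ _ (i.stalkMap_surjective z) rs' hreg hker' h1

end Groth.Agent.Lib.Helper4.RelQuasiReg1
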