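import Mathlib
import Groth.Agent.Lib.Helper4.RelQuasiReg1
import Groth.Agent.Lib.Helper1.FlatQuotReg

/-!
# Base change of relative H1-regular and quasi-regular immersions (helper4)
-/

set_option backward.isDefEq.respectTransparency.types false
set_option synthInstance.maxHeartbeats 400000
set_option autoImplicit false
set_option linter.unusedSectionVars false
set_option linter.style.haveILetI false
set_option linter.unusedSimpArgs false
universe u v w
open CategoryTheory CategoryTheory.Limits AlgebraicGeometry TopologicalSpace IsLocalRing Opposite Topology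
open RingTheory.Sequence
open Groth.Agent.Lib.Helper4.RegSpread1 Groth.Agent.Lib.Helper4.RegSpread2 Groth.Agent.Lib.Helper4.RegComp1
open Groth.Agent.Lib.Helper4.QuasiRegImm1 Groth.Agent.Lib.Helper4.RegFlatBC1

namespace Groth.Agent.Lib.Helper4.RelRegBC1

/-- base change of a closed immersion over affine opens: closedness and the kernel -/
theorem closedImmersion_ker_of_isPullback {X Y X' Y' : Scheme.{u}} (i : Y ⟶ X) (g : X' ⟶ X)
    (i' : Y' ⟶ X') (g' : Y' ⟶ Y) (hsq : IsPullback g' i' i g) (U : X.Opens) (hU : IsAffineOpen U)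
    [hcl : IsClosedImmersion (i ∣_ U)] (U' : X'.Opens) (hU' : IsAffineOpen U') (hU'U : U' ≤ g ⁻¹ᵁ U) :
    IsClosedImmersion (i' ∣_ U') ∧
      RingHom.ker (i'.app U').hom = (RingHom.ker (i.app U).hom).map (g.appLE U U' hU'U).hom := by
  obtain ⟨hV, hsurj⟩ := affine_surjective_of_isClosedImmersion_restrict i U hU
  have hUY : i' ⁻¹ᵁ U' = g' ⁻¹ᵁ (i ⁻¹ᵁ U) ⊓ i' ⁻¹ᵁ U' := by
    apply le_antisymm
    · refine le_inf ?_ le_rfl
      intro y hy
      change i (g' y) ∈ U
      have h1 : (g' ≫ i) y = (i' ≫ g) y := by rw [hsq.w]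
      have h2 : i (g' y) = g (i' y) := h1
      rw [h2]
      exact hU'U hy
    · exact inf_le_right
  have hpb := Scheme.Hom.isPullback_resLE hsq (US := U) (UT := U') (UX := i ⁻¹ᵁ U) hU'U le_rfl
    (UY := i' ⁻¹ᵁ U') hUY
  have hcl' : IsClosedImmersion (i' ∣_ U') := by
    rw [← Scheme.Hom.resLE_eq_morphismRestrict]
    refine MorphismProperty.of_isPullback (P := @IsClosedImmersion) hpb ?_
    rw [Scheme.Hom.resLE_eq_morphismRestrict]
    exact hcl
  have hiso := AlgebraicGeometry.isIso_pushoutSection_of_isAffineOpen hsq hU'U le_rfl hUY hU hU' hV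
  have hpo := (AlgebraicGeometry.isIso_pushoutSection_iff hsq hU'U le_rfl hUY).mp hiso
  have hkk := ker_inr_of_isPushout _ _ _ _ hpo (by
    rw [← Scheme.Hom.app_eq_appLE]; exact hsurj)
  rw [← Scheme.Hom.app_eq_appLE, ← Scheme.Hom.app_eq_appLE] at hkk
  exact ⟨hcl', hkk⟩

/-- shrinking the affine open in the definition of a regular immersion at a point -/
theorem isRegularImmersionAt_shrink (k : RegImm.Kind) {X Z : Scheme.{u}} (i : Z ⟶ X) (z : Z)
    (h : RegImm.IsRegularImmersionAt k i z) (W : X.Opens) (hzW : i z ∈ W) :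
    ∃ U : X.affineOpens, U.1 ≤ W ∧ i z ∈ U.1 ∧ IsClosedImmersion (i ∣_ U.1) ∧
      ∃ rs : List Γ(X, U.1), k.Seq Γ(X, U.1) rs ∧ RingHom.ker (i.app U.1).hom = Ideal.ofList rs := by
  obtain ⟨U, hzU, hcl, rs, hrs, hker⟩ := h
  obtain ⟨U', hU', hzU', hU'le⟩ := Opens.isBasis_iff_nbhd.mp (X.isBasis_affineOpens)
    (show i z ∈ U.1 ⊓ W from ⟨hzU, hzW⟩)
  have hU'U : U' ≤ (𝟙 X) ⁻¹ᵁ U.1 := hU'le.trans inf_le_left
  haveI := hcl
  obtain ⟨hcl', hk⟩ := closedImmersion_ker_of_isPullback i (𝟙 X) i (𝟙 Z) (IsPullback.of_id_fst) U.1 U.2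
    U' hU' hU'U
  have hflat : ((𝟙 X : X ⟶ X).appLE U.1 U' hU'U).hom.Flat :=
    HasRingHomProperty.appLE @Flat (𝟙 X) inferInstance U ⟨U', hU'⟩ hU'U
  have hker' : RingHom.ker (i.app U').hom =
      Ideal.ofList (rs.map ((𝟙 X : X ⟶ X).appLE U.1 U' hU'U).hom) := by
    rw [hk, hker, Ideal.map_ofList]
  refine ⟨⟨U', hU'⟩, hU'le.trans inf_le_right, hzU', hcl', _, ?_, hker'⟩
  apply kind_seq_of_flat k _ _ _ hflat rs hrs
  rw [← hker']
  haveI : Nonempty ↥(i ⁻¹ᵁ U') := ⟨⟨z, hzU'⟩⟩
  exact RingHom.ker_ne_top _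


open TensorProduct in
/-- ring-level: base change of an `H_1`-regular / quasi-regular sequence with flat quotient -/
theorem kind_seq_of_isPushout (k : RegImm.Kind) (hk : k = RegImm.Kind.h1 ∨ k = RegImm.Kind.quasi)
    {A B A' P : CommRingCat.{u}} (α : A ⟶ B) (β : A ⟶ A') (inl : B ⟶ P) (inr : A' ⟶ P)
    (h : IsPushout α β inl inr) (rs : List B) (hrs : k.Seq B rs)
    (C : Type u) [CommRing C] (ψ : B →+* C) (hψ : Function.Surjective ψ)
    (hker : RingHom.ker ψ = Ideal.ofList rs) (hflat : (ψ.comp α.hom).Flat) :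
    k.Seq P (rs.map inl.hom) := by
  letI : Algebra A B := α.hom.toAlgebra
  letI : Algebra A A' := β.hom.toAlgebra
  letI : Algebra B C := ψ.toAlgebra
  letI : Algebra A C := (ψ.comp α.hom).toAlgebra
  haveI : IsScalarTower A B C := IsScalarTower.of_algebraMap_eq (fun _ => rfl)
  haveI hC : Module.Flat A C := hflat
  -- flatness of the quotient
  have hspan : Ideal.span (Set.range rs.get) = Ideal.ofList rs := by
    unfold Ideal.ofList
    congr 1
    ext x
    simp [List.mem_iff_get]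
  have hkerL : (Ideal.span (Set.range rs.get)).restrictScalars A =
      LinearMap.ker ((Algebra.linearMap B C).restrictScalars A) := by
    rw [hspan, ← hker]
    ext x
    simp [RingHom.mem_ker, Algebra.linearMap_apply]
    rfl
  have hsurjL : Function.Surjective ((Algebra.linearMap B C).restrictScalars A) := hψ
  have hQ : Module.Flat A (B ⧸ Ideal.span (Set.range rs.get)) := by
    have e : (B ⧸ Ideal.span (Set.range rs.get)) ≃ₗ[A] C :=
      (Submodule.quotEquivOfEq ((Ideal.span (Set.range rs.get)).restrictScalars A) _ hkerL).trans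
        (((Algebra.linearMap B C).restrictScalars A).quotKerEquivOfSurjective hsurjL)
    exact Module.Flat.of_linearEquiv e
  -- pushout comparison
  have hα : CommRingCat.ofHom (algebraMap A B) = α := rfl
  have hβ : CommRingCat.ofHom (algebraMap A A') = β := rfl
  have hpo := (CommRingCat.isPushout_tensorProduct A A' B).flip
  rw [hα, hβ] at hpo
  obtain ⟨e, he⟩ : ∃ e : CommRingCat.of (A' ⊗[A] B) ≅ P, e = hpo.isoIsPushout _ _ h := ⟨_, rfl⟩
  have hinl : CommRingCat.ofHom (Algebra.TensorProduct.includeRight.toRingHom : B →+* A' ⊗[A] B) ≫ e.hom = inl := by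
    rw [he]; exact hpo.inl_isoIsPushout_hom _ _ h
  have hmap : rs.map inl.hom = (rs.map (fun b => ((1 : A') ⊗ₜ[A] b : A' ⊗[A] B))).map e.hom.hom := by
    rw [List.map_map]
    apply List.map_congr_left
    intro b _
    rw [← hinl]
    rfl
  rw [hmap]
  letI : Algebra (A' ⊗[A] B) P := e.hom.hom.toAlgebra
  haveI : Module.Flat (A' ⊗[A] B) P :=
    RingHom.Flat.of_bijective (ConcreteCategory.bijective_of_isIso e.hom)
  rcases hk with rfl | rfl
  · have hrs' : CAlgX.IsH1Regular rs.get := hrs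
    have h1 := Groth.Agent.Helper1.FlatQuotReg.main A A' rs.get hQ hrs'
    have h2 := pred_get_map (fun b => ((1 : A') ⊗ₜ[A] b : A' ⊗[A] B)) rs
      (fun c g => CAlgX.IsH1Regular g) h1
    have h3 := isH1Regular_of_flat (R' := P) _ h2
    exact pred_get_map e.hom.hom _ (fun c g => CAlgX.IsH1Regular g) h3
  · have hrs' : CAlgX.IsQuasiRegular rs.get := hrs
    have h1 := Groth.Agent.Helper1.FlatQuotQR.main rs.get A A' hQ hrs'
    have h2 := pred_get_map (fun b => ((1 : A') ⊗ₜ[A] b : A' ⊗[A] B)) rs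
      (fun c g => CAlgX.IsQuasiRegular g) h1
    have h3 := isQuasiRegular_of_flat (R' := P) _ h2
    exact pred_get_map e.hom.hom _ (fun c g => CAlgX.IsQuasiRegular g) h3


theorem S8892_main {Z X S S' : Scheme.{u}} (f : X ⟶ S) (i : Z ⟶ X) (k : RegImm.Kind)
    (hk : k = RegImm.Kind.h1 ∨ k = RegImm.Kind.quasi) (hi : RegImm.IsRelRegularImmersion k f i) (g : S' ⟶ S) :
    RegImm.IsRelRegularImmersion k (pullback.snd f g) (pullback.snd i (pullback.fst f g)) := by
  obtain ⟨⟨himm, h⟩, hflat⟩ := hi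
  haveI := himm
  haveI := hflat
  refine ⟨⟨inferInstance, fun y' => ?_⟩, ?_⟩
  swap
  · have hsq := (IsPullback.of_hasPullback i (pullback.fst f g)).paste_vert
      (IsPullback.of_hasPullback f g)
    exact MorphismProperty.of_isPullback (P := @Flat) hsq hflat
  -- points
  obtain ⟨z, hz⟩ : ∃ z : Z, z = pullback.fst i (pullback.fst f g) y' := ⟨_, rfl⟩
  obtain ⟨x', hx'⟩ : ∃ x' : ↥(pullback f g), x' = pullback.snd i (pullback.fst f g) y' := ⟨_, rfl⟩
  have hx : pullback.fst f g x' = i z := by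
    rw [hx', hz]
    have h1 : (pullback.snd i (pullback.fst f g) ≫ pullback.fst f g) y' =
        (pullback.fst i (pullback.fst f g) ≫ i) y' := by rw [pullback.condition]
    exact h1
  have hs : g (pullback.snd f g x') = f (i z) := by
    rw [← hx]
    have h1 : (pullback.snd f g ≫ g) x' = (pullback.fst f g ≫ f) x' := by rw [pullback.condition]
    exact h1
  -- opens
  obtain ⟨V, hV, hsV, -⟩ := Opens.isBasis_iff_nbhd.mp (S.isBasis_affineOpens)
    (show f (i z) ∈ (⊤ : S.Opens) from trivial)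
  obtain ⟨U, hUV, hzU, hcl, rs, hrs, hker⟩ := isRegularImmersionAt_shrink k i z (h z) (f ⁻¹ᵁ V) hsV
  obtain ⟨V', hV', hs'V', hV'V⟩ := Opens.isBasis_iff_nbhd.mp (S'.isBasis_affineOpens)
    (show pullback.snd f g x' ∈ g ⁻¹ᵁ V from by change g _ ∈ V; rw [hs]; exact hsV)
  obtain ⟨UY, hUYdef⟩ : ∃ UY : (pullback f g).Opens,
      UY = pullback.fst f g ⁻¹ᵁ U.1 ⊓ pullback.snd f g ⁻¹ᵁ V' := ⟨_, rfl⟩
  have hx'UY : x' ∈ UY := by
    rw [hUYdef]
    refine ⟨?_, hs'V'⟩
    change pullback.fst f g x' ∈ U.1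
    rw [hx]; exact hzU
  have hpbX := IsPullback.of_hasPullback f g
  have hUYaff : IsAffineOpen UY := by
    haveI : IsAffine (V : Scheme.{u}) := hV
    haveI : IsAffine (V' : Scheme.{u}) := hV'
    haveI : IsAffine (U.1 : Scheme.{u}) := U.2
    exact .of_isIso (Scheme.Hom.isPullback_resLE hpbX hV'V hUV hUYdef).isoPullback.hom
  have hiso := AlgebraicGeometry.isIso_pushoutSection_of_isAffineOpen hpbX hV'V hUV hUYdef hV hV' U.2
  have hpo := (AlgebraicGeometry.isIso_pushoutSection_iff hpbX hV'V hUV hUYdef).mp hiso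
  have hUYU : UY ≤ pullback.fst f g ⁻¹ᵁ U.1 := by rw [hUYdef]; exact inf_le_left
  haveI := hcl
  obtain ⟨hcl', hk'⟩ := closedImmersion_ker_of_isPullback i (pullback.fst f g)
    (pullback.snd i (pullback.fst f g)) (pullback.fst i (pullback.fst f g))
    (IsPullback.of_hasPullback i (pullback.fst f g)) U.1 U.2 UY hUYaff hUYU
  obtain ⟨hVZ, hsurj⟩ := affine_surjective_of_isClosedImmersion_restrict i U.1 U.2
  have hker' : RingHom.ker ((pullback.snd i (pullback.fst f g)).app UY).hom =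
      Ideal.ofList (rs.map ((pullback.fst f g).appLE U.1 UY hUYU).hom) := by
    rw [hk', hker, Ideal.map_ofList]
  refine ⟨⟨UY, hUYaff⟩, by rw [← hx']; exact hx'UY, hcl', _, ?_, hker'⟩
  have hflat' : ((i.app U.1).hom.comp (f.appLE V U.1 hUV).hom).Flat := by
    have h1 := HasRingHomProperty.appLE @Flat (i ≫ f) hflat ⟨V, hV⟩ ⟨i ⁻¹ᵁ U.1, hVZ⟩
      (by
        intro y hy
        exact hUV hy)
    have h2 : (i ≫ f).appLE V (i ⁻¹ᵁ U.1) (by intro y hy; exact hUV hy) =
        f.appLE V U.1 hUV ≫ i.appLE U.1 (i ⁻¹ᵁ U.1) le_rfl := by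
      rw [Scheme.Hom.appLE_comp_appLE]
    rw [h2, ← Scheme.Hom.app_eq_appLE] at h1
    exact h1
  exact kind_seq_of_isPushout k hk _ _ _ _ hpo rs hrs _ (i.app U.1).hom hsurj hker hflat'

end Groth.Agent.Lib.Helper4.RelRegBC1
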