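import Mathlib

/-!
# Vasconcelos: ideals of finite projective dimension with free conormal summands (S2187, S2188) (helper4)
-/

set_option backward.isDefEq.respectTransparency.types false
set_option synthInstance.maxHeartbeats 400000
set_option autoImplicit false
set_option linter.unusedSectionVars false
set_option linter.style.haveILetI false
set_option linter.unusedSimpArgs false
universe u v w
open CategoryTheory CategoryTheory.Limits TensorProduct IsLocalRing RingTheory.Sequence Pointwise

namespace Groth.Agent.Lib.Helper4.Vasc1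

theorem exact_baseChange_ker {R R' : Type u} [CommRing R] [CommRing R'] [Algebra R R']
    {F M : Type u} [AddCommGroup F] [Module R F] [AddCommGroup M] [Module R M] (g : F →ₗ[R] M)
    (hsurj : Function.Surjective g) :
    Function.Exact ((LinearMap.ker g).subtype.baseChange R') (g.baseChange R') := by
  have h0 : Function.Exact (LinearMap.ker g).subtype g := LinearMap.exact_subtype_ker_map g
  exact lTensor_exact R' h0 hsurj

/-- generic base change of projective dimension along `R → R'`, for a class `P` of `R`-modules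
stable under syzygies and on which `R' ⊗ -` is exact -/
theorem pd_baseChange_aux {R R' : Type u} [CommRing R] [CommRing R'] [Algebra R R']
    (P : ∀ (M : Type u) [AddCommGroup M] [Module R M], Prop)
    (hP : ∀ (F M : Type u) [AddCommGroup F] [Module R F] [AddCommGroup M] [Module R M]
      [Module.Free R F] (g : F →ₗ[R] M), Function.Surjective g → P M →
        P (LinearMap.ker g) ∧ Function.Injective ((LinearMap.ker g).subtype.baseChange R'))
    (n : ℕ) (M : Type u) [AddCommGroup M] [Module R M] (hM : P M)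
    (hpd : HasProjectiveDimensionLT (ModuleCat.of R M) n) :
    HasProjectiveDimensionLT (ModuleCat.of R' (R' ⊗[R] M)) n := by
  induction n generalizing M with
  | zero =>
    have hz : IsZero (ModuleCat.of R M) := isZero_of_hasProjectiveDimensionLT_zero _
    rw [ModuleCat.isZero_iff_subsingleton] at hz
    have : Subsingleton (R' ⊗[R] M) := inferInstance
    have hz' : IsZero (ModuleCat.of R' (R' ⊗[R] M)) := by
      rw [ModuleCat.isZero_iff_subsingleton]; exact this
    exact hz'.hasProjectiveDimensionLT_zero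
  | succ n ih =>
    match n with
    | 0 =>
      have hproj : Projective (ModuleCat.of R M) := inferInstance
      rw [← IsProjective.iff_projective] at hproj
      have : Module.Projective R' (R' ⊗[R] M) := inferInstance
      have hproj' : Projective (ModuleCat.of R' (R' ⊗[R] M)) := by
        rw [← IsProjective.iff_projective]; exact this
      infer_instance
    | n + 1 =>
      obtain ⟨g, hg⟩ : ∃ g : (M →₀ R) →ₗ[R] M, g = Finsupp.linearCombination R id := ⟨_, rfl⟩
      have hsurj : Function.Surjective g := by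
        intro m
        exact ⟨Finsupp.single m 1, by rw [hg]; simp⟩
      have hS : g.shortComplexKer.ShortExact := LinearMap.shortExact_shortComplexKer hsurj
      have hprojF : Projective (g.shortComplexKer.X₂) := by
        show Projective (ModuleCat.of R (M →₀ R))
        rw [← IsProjective.iff_projective]
        infer_instance
      have hK : HasProjectiveDimensionLT (ModuleCat.of R (LinearMap.ker g)) (n + 1) :=
        (hS.hasProjectiveDimensionLT_X₃_iff n hprojF).mp hpd
      obtain ⟨hPK, hinj⟩ := hP (M →₀ R) M g hsurj hM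
      have hK' := ih (LinearMap.ker g) hPK hK
      have hex : Function.Exact ((LinearMap.ker g).subtype.baseChange R') (g.baseChange R') :=
        exact_baseChange_ker g hsurj
      have hsurj' : Function.Surjective (g.baseChange R') := by
        have := LinearMap.lTensor_surjective R' hsurj
        exact this
      obtain ⟨S', hS'⟩ : ∃ S' : ShortComplex (ModuleCat.{u} R'),
          S' = ModuleCat.shortComplexOfCompEqZero ((LinearMap.ker g).subtype.baseChange R')
            (g.baseChange R') hex.linearMap_comp_eq_zero := ⟨_, rfl⟩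
      have hSE : S'.ShortExact := by
        rw [hS']
        exact ModuleCat.shortComplex_shortExact _ hex hinj hsurj'
      have hprojF' : Projective S'.X₂ := by
        rw [hS']
        show Projective (ModuleCat.of R' (R' ⊗[R] (M →₀ R)))
        rw [← IsProjective.iff_projective]
        infer_instance
      have h1 : HasProjectiveDimensionLT S'.X₁ (n + 1) := by
        rw [hS']; exact hK'
      have h3 := (hSE.hasProjectiveDimensionLT_X₃_iff n hprojF').mpr h1
      rw [hS'] at h3
      exact h3

theorem isSMulRegular_of_free {R : Type u} [CommRing R] (F : Type v) [AddCommGroup F] [Module R F]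
    [Module.Free R F] (x : R) (hx : IsSMulRegular R x) : IsSMulRegular F x := by
  intro a b hab
  have hab : x • a = x • b := hab
  apply (Module.Free.chooseBasis R F).repr.injective
  ext i
  have := congrArg (fun t => (Module.Free.chooseBasis R F).repr t i) hab
  simp only [map_smul, Finsupp.smul_apply, smul_eq_mul] at this
  exact hx this

theorem tmul_one_surj {R : Type u} [CommRing R] (I : Ideal R) (K : Type v) [AddCommGroup K]
    [Module R K] (t : (R ⧸ I) ⊗[R] K) : ∃ k : K, t = (1 : R ⧸ I) ⊗ₜ[R] k := by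
  induction t using TensorProduct.induction_on with
  | zero => exact ⟨0, by simp⟩
  | tmul r k =>
    obtain ⟨r, rfl⟩ := Ideal.Quotient.mk_surjective r
    refine ⟨r • k, ?_⟩
    rw [TensorProduct.tmul_smul, TensorProduct.smul_tmul']
    congr 1
    rw [Algebra.smul_def, mul_one]
    rfl
  | add a b ha hb =>
    obtain ⟨k, rfl⟩ := ha
    obtain ⟨k', rfl⟩ := hb
    exact ⟨k + k', by rw [TensorProduct.tmul_add]⟩

theorem injective_baseChange_ker_of_regular {R : Type u} [CommRing R] (x : R)
    {F M : Type u} [AddCommGroup F] [Module R F] [AddCommGroup M] [Module R M]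
    (g : F →ₗ[R] M) (hM : IsSMulRegular M x) :
    Function.Injective ((LinearMap.ker g).subtype.baseChange (R ⧸ Ideal.span {x})) := by
  rw [injective_iff_map_eq_zero]
  intro t ht
  obtain ⟨k, rfl⟩ := tmul_one_surj _ _ t
  rw [LinearMap.baseChange_tmul] at ht
  have h1 := congrArg (TensorProduct.quotTensorEquivQuotSMul F (Ideal.span {x})) ht
  rw [TensorProduct.quotTensorEquivQuotSMul_mk_one_tmul, map_zero,
    Submodule.Quotient.mk_eq_zero] at h1
  rw [Submodule.ideal_span_singleton_smul, Submodule.mem_smul_pointwise_iff_exists] at h1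
  obtain ⟨f, -, hf⟩ := h1
  have hfK : f ∈ LinearMap.ker g := by
    rw [LinearMap.mem_ker]
    apply hM
    show x • g f = x • 0
    rw [← map_smul, hf, smul_zero]
    exact k.2
  have hk : k = x • (⟨f, hfK⟩ : LinearMap.ker g) := by
    apply Subtype.ext
    exact hf.symm
  rw [hk, TensorProduct.tmul_smul, TensorProduct.smul_tmul']
  have : x • (1 : R ⧸ Ideal.span {x}) = 0 := by
    rw [Algebra.smul_def, mul_one]
    exact Ideal.Quotient.eq_zero_iff_mem.mpr (Ideal.mem_span_singleton_self x)
  rw [this, TensorProduct.zero_tmul]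

theorem pd_quot_regular {R : Type u} [CommRing R] (x : R) (hx : IsSMulRegular R x) (n : ℕ)
    (M : Type u) [AddCommGroup M] [Module R M] (hM : IsSMulRegular M x)
    (hpd : HasProjectiveDimensionLT (ModuleCat.of R M) n) :
    HasProjectiveDimensionLT
      (ModuleCat.of (R ⧸ Ideal.span {x}) ((R ⧸ Ideal.span {x}) ⊗[R] M)) n := by
  refine pd_baseChange_aux (R' := R ⧸ Ideal.span {x})
    (fun M _ _ => IsSMulRegular M x) ?_ n M hM hpd
  intro F M _ _ _ _ _ g hg hM
  refine ⟨?_, injective_baseChange_ker_of_regular x g hM⟩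
  exact (isSMulRegular_of_free F x hx).of_injective (LinearMap.ker g).subtype
    (LinearMap.ker g).injective_subtype

theorem pd_baseChange_flat {R R' : Type u} [CommRing R] [CommRing R'] [Algebra R R']
    [Module.Flat R R'] (n : ℕ)
    (M : Type u) [AddCommGroup M] [Module R M]
    (hpd : HasProjectiveDimensionLT (ModuleCat.of R M) n) :
    HasProjectiveDimensionLT (ModuleCat.of R' (R' ⊗[R] M)) n := by
  refine pd_baseChange_aux (R' := R') (fun M _ _ => True) ?_ n M trivial hpd
  intro F M _ _ _ _ _ g hg hM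
  refine ⟨trivial, ?_⟩
  exact Module.Flat.lTensor_preserves_injective_linearMap _ (LinearMap.ker g).injective_subtype

/-- minimal free cover of a finite module over a local ring -/
theorem exists_minimal_cover {R : Type u} [CommRing R] [IsLocalRing R]
    (M : Type u) [AddCommGroup M] [Module R M] [Module.Finite R M] :
    ∃ (k : ℕ) (g : (Fin k → R) →ₗ[R] M), Function.Surjective g ∧
      ∀ a ∈ LinearMap.ker g, ∀ i, a i ∈ maximalIdeal R := by
  classical
  obtain ⟨k, ⟨b⟩⟩ : ∃ k : ℕ, Nonempty (Module.Basis (Fin k) (ResidueField R) (ResidueField R ⊗[R] M)) :=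
    ⟨_, ⟨Module.finBasis _ _⟩⟩
  have h1 : ∀ i, ∃ m : M, b i = (1 : ResidueField R) ⊗ₜ[R] m := fun i =>
    tmul_one_surj (maximalIdeal R) M (b i)
  choose f hf using h1
  have hspan : Submodule.span R (Set.range f) = ⊤ :=
    span_eq_top_of_tmul_eq_basis f b (fun i => (hf i).symm)
  refine ⟨k, Fintype.linearCombination R f, ?_, ?_⟩
  · rw [← LinearMap.range_eq_top, Fintype.range_linearCombination, hspan]
  · intro a ha i
    rw [LinearMap.mem_ker, Fintype.linearCombination_apply] at ha
    have h2 : ∑ j, (residue R (a j)) • b j = 0 := by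
      have := congrArg (fun m => (1 : ResidueField R) ⊗ₜ[R] m) ha
      simp only [TensorProduct.tmul_sum, TensorProduct.tmul_zero, TensorProduct.tmul_smul] at this
      rw [← this]
      refine Finset.sum_congr rfl fun j _ => ?_
      rw [hf j, TensorProduct.smul_tmul', TensorProduct.smul_tmul']
      congr 1
    have h3 := Fintype.linearIndependent_iff.mp b.linearIndependent _ h2 i
    exact (residue_eq_zero_iff _).mp h3

theorem free_of_pd_of_depth_zero {R : Type u} [CommRing R] [IsNoetherianRing R] [IsLocalRing R]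
    (y : R) (hy : y ≠ 0) (hym : ∀ a ∈ maximalIdeal R, y * a = 0)
    (n : ℕ) (M : Type u) [AddCommGroup M] [Module R M] [Module.Finite R M]
    (hpd : HasProjectiveDimensionLT (ModuleCat.of R M) n) : Module.Free R M := by
  induction n generalizing M with
  | zero =>
    have hz : IsZero (ModuleCat.of R M) := isZero_of_hasProjectiveDimensionLT_zero _
    rw [ModuleCat.isZero_iff_subsingleton] at hz
    have : Subsingleton M := hz
    exact Module.Free.of_subsingleton R M
  | succ n ih =>
    match n with
    | 0 =>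
      have hproj : Projective (ModuleCat.of R M) := inferInstance
      rw [← IsProjective.iff_projective] at hproj
      have : Module.Projective R M := hproj
      exact Module.free_of_flat_of_isLocalRing
    | n + 1 =>
      obtain ⟨k, g, hsurj, hker⟩ := exists_minimal_cover (R := R) M
      have hS : g.shortComplexKer.ShortExact := LinearMap.shortExact_shortComplexKer hsurj
      have hprojF : Projective (g.shortComplexKer.X₂) := by
        show Projective (ModuleCat.of R (Fin k → R))
        rw [← IsProjective.iff_projective]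
        infer_instance
      have hK : HasProjectiveDimensionLT (ModuleCat.of R (LinearMap.ker g)) (n + 1) :=
        (hS.hasProjectiveDimensionLT_X₃_iff n hprojF).mp hpd
      have hKfree : Module.Free R (LinearMap.ker g) := ih (LinearMap.ker g) hK
      have hyK : ∀ a : LinearMap.ker g, y • a = 0 := by
        intro a
        apply Subtype.ext
        funext i
        show y * (a : Fin k → R) i = 0
        exact hym _ (hker a.1 a.2 i)
      have hKsub : Subsingleton (LinearMap.ker g) := by
        obtain ⟨bK⟩ : Nonempty (Module.Basis _ R (LinearMap.ker g)) :=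
          ⟨Module.Free.chooseBasis R (LinearMap.ker g)⟩
        by_contra hns
        rw [not_subsingleton_iff_nontrivial] at hns
        have hne : Nonempty (Module.Free.ChooseBasisIndex R (LinearMap.ker g)) := by
          by_contra hemp
          rw [not_nonempty_iff] at hemp
          have : Subsingleton (LinearMap.ker g) :=
            bK.repr.injective.subsingleton
          exact not_subsingleton _ this
        obtain ⟨i⟩ := hne
        have h1 := congrArg bK.repr (hyK (bK i))
        rw [map_smul, Module.Basis.repr_self, map_zero, Finsupp.smul_single, smul_eq_mul, mul_one]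
          at h1
        have := Finsupp.single_eq_zero.mp h1
        exact hy this
      have hinj : Function.Injective g := by
        rw [← LinearMap.ker_eq_bot]
        exact (Submodule.subsingleton_iff_eq_bot).mp hKsub
      exact Module.Free.of_equiv (LinearEquiv.ofBijective g ⟨hinj, hsurj⟩)

theorem subsingleton_of_free_of_smul_eq_zero {R : Type u} [CommRing R] (M : Type v) [AddCommGroup M]
    [Module R M] [Module.Free R M] (y : R) (hy : y ≠ 0) (h : ∀ m : M, y • m = 0) :
    Subsingleton M := by
  obtain ⟨bK⟩ : Nonempty (Module.Basis _ R M) := ⟨Module.Free.chooseBasis R M⟩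
  by_contra hns
  rw [not_subsingleton_iff_nontrivial] at hns
  have hne : Nonempty (Module.Free.ChooseBasisIndex R M) := by
    by_contra hemp
    rw [not_nonempty_iff] at hemp
    have : Subsingleton M := bK.repr.injective.subsingleton
    exact not_subsingleton _ this
  obtain ⟨i⟩ := hne
  have h1 := congrArg bK.repr (h (bK i))
  rw [map_smul, Module.Basis.repr_self, map_zero, Finsupp.smul_single, smul_eq_mul, mul_one] at h1
  exact hy (Finsupp.single_eq_zero.mp h1)

/-- an ideal of finite projective dimension with a rank one free summand in its conormal module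
contains a nonzerodivisor -/
theorem exists_nzd_of_pd {R : Type u} [CommRing R] [IsNoetherianRing R] (I : Ideal R) (n : ℕ)
    (hpd : HasProjectiveDimensionLT (ModuleCat.of R I) n) (x₀ : I) (φ : I →ₗ[R] R ⧸ I)
    (hφ : φ x₀ = 1) : ∃ y ∈ I, y ∈ nonZeroDivisors R := by
  classical
  by_contra hcon
  push Not at hcon
  have hsub : (I : Set R) ⊆ ⋃ p ∈ associatedPrimes R R, (p : Set R) := by
    rw [biUnion_associatedPrimes_eq_compl_nonZeroDivisors]
    intro y hy
    exact hcon y hy
  have hfin : (associatedPrimes R R).Finite := associatedPrimes.finite R R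
  have hsub' : (I : Set R) ⊆ ⋃ p ∈ (hfin.toFinset : Set (Ideal R)), ((id p : Ideal R) : Set R) := by
    simpa using hsub
  obtain ⟨p, hp, hIp⟩ := (Ideal.subset_union_prime (f := id) (s := hfin.toFinset) ⊥ ⊥
    (fun i hi _ _ => by
      rw [Set.Finite.mem_toFinset] at hi
      exact hi.isPrime)).mp hsub'
  rw [Set.Finite.mem_toFinset] at hp
  obtain ⟨hpprime, z, hz⟩ := (isAssociatedPrime_iff).mp hp
  simp only [id] at hIp
  haveI := hpprime
  -- localize at p
  obtain ⟨A, hA⟩ : ∃ A : Type u, A = Localization.AtPrime p := ⟨_, rfl⟩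
  subst hA
  have hzp : ∀ a ∈ p, a * z = 0 := by
    intro a ha
    rw [hz, Submodule.mem_colon_singleton] at ha
    simpa using ha
  have hy0 : algebraMap R (Localization.AtPrime p) z ≠ 0 := by
    intro h0
    rw [IsLocalization.map_eq_zero_iff p.primeCompl] at h0
    obtain ⟨s, hs⟩ := h0
    apply s.2
    have hmem : (s : R) ∈ (⊥ : Submodule R R).colon {z} := by
      rw [Submodule.mem_colon_singleton]
      simpa using hs
    rw [← hz] at hmem
    exact hmem
  have hym : ∀ a ∈ maximalIdeal (Localization.AtPrime p),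
      algebraMap R (Localization.AtPrime p) z * a = 0 := by
    intro a ha
    rw [← Localization.AtPrime.map_eq_maximalIdeal] at ha
    rw [IsLocalization.mem_map_algebraMap_iff p.primeCompl] at ha
    obtain ⟨⟨a', s⟩, has⟩ := ha
    have hu : IsUnit (algebraMap R (Localization.AtPrime p) s) := IsLocalization.map_units _ s
    apply hu.mul_left_cancel
    rw [mul_zero, mul_comm, mul_assoc, has, ← map_mul, mul_comm, hzp _ a'.2, map_zero]
  have hpd' := pd_baseChange_flat (R' := Localization.AtPrime p) n I hpd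
  have hfree := free_of_pd_of_depth_zero _ hy0 hym n _ hpd'
  have hkill : ∀ t : (Localization.AtPrime p) ⊗[R] I,
      (algebraMap R (Localization.AtPrime p) z) • t = 0 := by
    intro t
    induction t using TensorProduct.induction_on with
    | zero => simp
    | tmul a i =>
      rw [TensorProduct.smul_tmul', smul_eq_mul, ← Algebra.smul_def,
        ← TensorProduct.smul_tmul', ← TensorProduct.tmul_smul]
      have : z • i = 0 := by
        apply Subtype.ext
        show z * (i : R) = 0
        rw [mul_comm]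
        exact hzp _ (hIp i.2)
      rw [this, TensorProduct.tmul_zero]
    | add a b ha hb => rw [smul_add, ha, hb, add_zero]
  have hsubs := subsingleton_of_free_of_smul_eq_zero (R := Localization.AtPrime p)
    ((Localization.AtPrime p) ⊗[R] I) _ hy0 hkill
  have hloc : IsLocalizedModule p.primeCompl
      (TensorProduct.mk R (Localization.AtPrime p) I 1) :=
    (isLocalizedModule_iff_isBaseChange p.primeCompl (Localization.AtPrime p) _).mpr
      (TensorProduct.isBaseChange R I (Localization.AtPrime p))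
  have h0 : TensorProduct.mk R (Localization.AtPrime p) I 1 x₀ = 0 := Subsingleton.elim _ _
  rw [IsLocalizedModule.eq_zero_iff p.primeCompl] at h0
  obtain ⟨s, hs⟩ := h0
  have h1 := congrArg φ hs
  rw [map_zero] at h1
  have h2 : φ (s • x₀) = Ideal.Quotient.mk I (s : R) := by
    show φ ((s : R) • x₀) = _
    rw [map_smul, hφ, Algebra.smul_def, mul_one]
    rfl
  rw [h2, Ideal.Quotient.eq_zero_iff_mem] at h1
  exact s.2 (hIp h1)

/-- a linear functional `I → R/I` kills `I • ⊤` -/
theorem functional_eq_zero_of_mem {R : Type u} [CommRing R] (I : Ideal R) (φ : I →ₗ[R] R ⧸ I)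
    (w : I) (hw : w ∈ (I • ⊤ : Submodule R I)) : φ w = 0 := by
  refine Submodule.smul_induction_on hw ?_ ?_
  · intro a ha m _
    rw [map_smul, Algebra.smul_def]
    have : algebraMap R (R ⧸ I) a = 0 := Ideal.Quotient.eq_zero_iff_mem.mpr ha
    rw [this, zero_mul]
  · intro x y hx hy
    rw [map_add, hx, hy, add_zero]

theorem exists_nzd_generator {R : Type u} [CommRing R] [IsNoetherianRing R] [IsLocalRing R]
    (I : Ideal R) (hI : I ≠ ⊤) (n : ℕ)
    (hpd : HasProjectiveDimensionLT (ModuleCat.of R I) n) (x₀ : I) (φ : I →ₗ[R] R ⧸ I)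
    (hφ : φ x₀ = 1) :
    ∃ (x : I) (u : R) (w : I), (x : R) ∈ nonZeroDivisors R ∧ IsUnit u ∧
      w ∈ (I • ⊤ : Submodule R I) ∧ x = u • x₀ + w := by
  classical
  obtain ⟨y, hyI, hynzd⟩ := exists_nzd_of_pd I n hpd x₀ φ hφ
  obtain ⟨Jsub, hJsub⟩ : ∃ Jsub : Submodule R I, Jsub = Submodule.span R {x₀} ⊔ I • ⊤ := ⟨_, rfl⟩
  obtain ⟨Nsub, hNsub⟩ : ∃ Nsub : Submodule R I, Nsub = maximalIdeal R • Jsub ⊔ I • ⊤ := ⟨_, rfl⟩
  obtain ⟨J, hJ⟩ : ∃ J : Ideal R, J = Jsub.map I.subtype := ⟨_, rfl⟩
  obtain ⟨N, hN⟩ : ∃ N : Ideal R, N = Nsub.map I.subtype := ⟨_, rfl⟩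
  have hx₀J : x₀ ∈ Jsub := by
    rw [hJsub]
    exact Submodule.mem_sup_left (Submodule.mem_span_singleton_self x₀)
  -- φ maps Nsub into the maximal ideal of R/I
  have hφN : ∀ t ∈ Nsub, φ t ∈ (maximalIdeal R).map (Ideal.Quotient.mk I) := by
    intro t ht
    rw [hNsub] at ht
    obtain ⟨t1, ht1, t2, ht2, rfl⟩ := Submodule.mem_sup.mp ht
    rw [map_add, functional_eq_zero_of_mem I φ t2 ht2, add_zero]
    refine Submodule.smul_induction_on ht1 ?_ ?_
    · intro a ha m _
      rw [map_smul, Algebra.smul_def]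
      exact Ideal.mul_mem_right _ _ (Ideal.mem_map_of_mem _ ha)
    · intro x y hx hy
      rw [map_add]; exact Ideal.add_mem _ hx hy
  have hnotJN : ¬ J ≤ N := by
    intro hle
    have h1 : (x₀ : R) ∈ N := hle (by rw [hJ]; exact Submodule.mem_map_of_mem hx₀J)
    rw [hN] at h1
    obtain ⟨t, ht, htx⟩ := Submodule.mem_map.mp h1
    have : t = x₀ := Subtype.ext htx
    rw [this] at ht
    have h2 := hφN _ ht
    rw [hφ] at h2
    have h3 : (maximalIdeal R).map (Ideal.Quotient.mk I) = ⊤ := (Ideal.eq_top_iff_one _).mpr h2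
    have h4 := congrArg (Ideal.comap (Ideal.Quotient.mk I)) h3
    rw [Ideal.comap_map_of_surjective _ Ideal.Quotient.mk_surjective, Ideal.comap_top,
      ← RingHom.ker_eq_comap_bot, Ideal.mk_ker, sup_eq_left.mpr (le_maximalIdeal hI)] at h4
    exact (maximalIdeal.isMaximal R).ne_top h4
  have hfin : (associatedPrimes R R).Finite := associatedPrimes.finite R R
  have hyyJ : y * y ∈ J := by
    rw [hJ]
    refine Submodule.mem_map.mpr ⟨y • ⟨y, hyI⟩, ?_, rfl⟩
    rw [hJsub]
    exact Submodule.mem_sup_right (Submodule.smul_mem_smul hyI Submodule.mem_top)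
  -- prime avoidance
  have havoid : ¬ ((J : Set R) ⊆ ⋃ i ∈ ((insert N hfin.toFinset : Finset (Ideal R)) : Set (Ideal R)),
      ((id i : Ideal R) : Set R)) := by
    intro hsub
    obtain ⟨i, hi, hJi⟩ := (Ideal.subset_union_prime (f := id)
      (s := insert N hfin.toFinset) N N (fun i hi hiN _ => by
        rw [Finset.mem_insert] at hi
        rcases hi with hi | hi
        · exact absurd hi hiN
        · rw [Set.Finite.mem_toFinset] at hi
          exact hi.isPrime)).mp hsub
    rw [Finset.mem_insert] at hi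
    rcases hi with rfl | hi
    · exact hnotJN hJi
    · rw [Set.Finite.mem_toFinset] at hi
      have h1 : y * y ∈ (i : Set R) := hJi hyyJ
      have h2 : y * y ∈ ⋃ p ∈ associatedPrimes R R, (p : Set R) :=
        Set.mem_biUnion hi h1
      rw [biUnion_associatedPrimes_eq_compl_nonZeroDivisors] at h2
      exact h2 (mul_mem hynzd hynzd)
  rw [Set.not_subset] at havoid
  obtain ⟨x, hxJ, hxnot⟩ := havoid
  simp only [Finset.coe_insert, id, Set.mem_insert_iff, Set.Finite.coe_toFinset,
    Set.iUnion_iUnion_eq_or_left, Set.mem_union, not_or, Set.mem_iUnion, not_exists] at hxnot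
  obtain ⟨hxN, hxp⟩ := hxnot
  have hxnzd : x ∈ nonZeroDivisors R := by
    by_contra hnz
    have : x ∈ ((nonZeroDivisors R : Set R))ᶜ := hnz
    rw [← biUnion_associatedPrimes_eq_compl_nonZeroDivisors] at this
    obtain ⟨p, hp, hxp'⟩ := Set.mem_iUnion₂.mp this
    exact hxp p hp hxp'
  rw [hJ] at hxJ
  obtain ⟨x', hx'J, rfl⟩ := Submodule.mem_map.mp hxJ
  rw [hJsub] at hx'J
  obtain ⟨t1, ht1, w, hw, hsum⟩ := Submodule.mem_sup.mp hx'J
  obtain ⟨u, rfl⟩ := Submodule.mem_span_singleton.mp ht1
  refine ⟨x', u, w, hxnzd, ?_, hw, hsum.symm⟩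
  by_contra hu
  have hum : u ∈ maximalIdeal R := (mem_maximalIdeal u).mpr hu
  apply hxN
  rw [hN]
  refine Submodule.mem_map.mpr ⟨x', ?_, rfl⟩
  rw [hNsub, ← hsum]
  exact Submodule.add_mem _ (Submodule.mem_sup_left (Submodule.smul_mem_smul hum hx₀J))
    (Submodule.mem_sup_right hw)

/-- descend a linear map along a surjection of modules and a surjection of rings -/
theorem exists_descend {R R' : Type*} [CommRing R] [CommRing R'] [Algebra R R']
    (hR : Function.Surjective (algebraMap R R')) {A B N : Type*}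
    [AddCommGroup A] [Module R A] [AddCommGroup B] [Module R B] [Module R' B]
    [IsScalarTower R R' B] [AddCommGroup N] [Module R N] [Module R' N] [IsScalarTower R R' N]
    (f : A →ₗ[R] B) (hf : Function.Surjective f) (ψ : A →ₗ[R] N)
    (hψ : LinearMap.ker f ≤ LinearMap.ker ψ) : ∃ ψ' : B →ₗ[R'] N, ∀ a, ψ' (f a) = ψ a := by
  refine ⟨(((LinearMap.ker f).liftQ ψ hψ).comp
    (f.quotKerEquivOfSurjective hf).symm.toLinearMap).extendScalarsOfSurjective hR, ?_⟩
  intro a
  rw [LinearMap.extendScalarsOfSurjective_apply, LinearMap.comp_apply]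
  have : (f.quotKerEquivOfSurjective hf).symm (f a) = (LinearMap.ker f).mkQ a := by
    rw [LinearEquiv.symm_apply_eq]
    rfl
  erw [this]
  rfl

/-- the natural surjection `I → I/(x)` -/
noncomputable def toMapQuot {R : Type u} [CommRing R] (I J : Ideal R) :
    I →ₗ[R] (I.map (Ideal.Quotient.mk J)) where
  toFun y := ⟨Ideal.Quotient.mk J y, Ideal.mem_map_of_mem _ y.2⟩
  map_add' a b := by apply Subtype.ext; simp
  map_smul' a b := by
    apply Subtype.ext
    simp [Algebra.smul_def]

theorem toMapQuot_surjective {R : Type u} [CommRing R] (I J : Ideal R) :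
    Function.Surjective (toMapQuot I J) := by
  rintro ⟨t, ht⟩
  obtain ⟨y, hy, rfl⟩ := (Ideal.mem_map_iff_of_surjective _ Ideal.Quotient.mk_surjective).mp ht
  exact ⟨⟨y, hy⟩, rfl⟩

theorem mem_ker_toMapQuot {R : Type u} [CommRing R] (I J : Ideal R) (y : I) :
    y ∈ LinearMap.ker (toMapQuot I J) ↔ (y : R) ∈ J := by
  rw [LinearMap.mem_ker]
  constructor
  · intro h
    have := congrArg Subtype.val h
    exact Ideal.Quotient.eq_zero_iff_mem.mp this
  · intro h
    apply Subtype.ext
    exact Ideal.Quotient.eq_zero_iff_mem.mpr h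

theorem pd_quot_ideal {R : Type u} [CommRing R] (I : Ideal R) (n : ℕ)
    (hpd : HasProjectiveDimensionLT (ModuleCat.of R I) n) (x : I)
    (hx : (x : R) ∈ nonZeroDivisors R) (φ : I →ₗ[R] R ⧸ I) (hφ : φ x = 1) :
    HasProjectiveDimensionLT (ModuleCat.of (R ⧸ Ideal.span {(x : R)})
      (I.map (Ideal.Quotient.mk (Ideal.span {(x : R)})))) n := by
  have hxreg : IsSMulRegular R (x : R) := by
    intro a b hab
    have hab : (x : R) * a = (x : R) * b := hab
    exact (isRegular_iff_mem_nonZeroDivisors.mpr hx).left hab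
  have hxregI : IsSMulRegular I (x : R) :=
    hxreg.of_injective I.subtype I.injective_subtype
  have hT := pd_quot_regular (x : R) hxreg n I hxregI hpd
  obtain ⟨f, hf⟩ : ∃ f, f = toMapQuot I (Ideal.span {(x : R)}) := ⟨_, rfl⟩
  have hfsurj : Function.Surjective f := by rw [hf]; exact toMapQuot_surjective _ _
  have hfx : f x = 0 := by
    have : x ∈ LinearMap.ker f := by
      rw [hf, mem_ker_toMapQuot]; exact Ideal.mem_span_singleton_self _
    exact this
  -- the retraction
  obtain ⟨r, hr⟩ : ∃ r : (R ⧸ Ideal.span {(x : R)}) ⊗[R] I →ₗ[R ⧸ Ideal.span {(x : R)}]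
      (I.map (Ideal.Quotient.mk (Ideal.span {(x : R)}))),
      r = LinearMap.liftBaseChange (R ⧸ Ideal.span {(x : R)}) f := ⟨_, rfl⟩
  -- σ : R/I → T
  have hσker : I ≤ LinearMap.ker (LinearMap.toSpanSingleton R
      ((R ⧸ Ideal.span {(x : R)}) ⊗[R] I) ((1 : R ⧸ Ideal.span {(x : R)}) ⊗ₜ[R] x)) := by
    intro a ha
    rw [LinearMap.mem_ker, LinearMap.toSpanSingleton_apply, ← TensorProduct.tmul_smul]
    have h1 : a • x = (x : R) • (⟨a, ha⟩ : I) := by
      apply Subtype.ext
      show a * (x : R) = (x : R) * a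
      ring
    rw [h1, TensorProduct.tmul_smul, TensorProduct.smul_tmul']
    have : (x : R) • (1 : R ⧸ Ideal.span {(x : R)}) = 0 := by
      rw [Algebra.smul_def, mul_one]
      exact Ideal.Quotient.eq_zero_iff_mem.mpr (Ideal.mem_span_singleton_self _)
    rw [this, TensorProduct.zero_tmul]
  obtain ⟨σ, hσ⟩ : ∃ σ : (R ⧸ I) →ₗ[R] (R ⧸ Ideal.span {(x : R)}) ⊗[R] I,
      σ = Submodule.liftQ I _ hσker := ⟨_, rfl⟩
  have hσmk : ∀ c : R, σ (Ideal.Quotient.mk I c) =
      c • ((1 : R ⧸ Ideal.span {(x : R)}) ⊗ₜ[R] x) := by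
    intro c
    rw [hσ]
    rfl
  obtain ⟨g, hg⟩ : ∃ g : I →ₗ[R] (R ⧸ Ideal.span {(x : R)}) ⊗[R] I,
      g = TensorProduct.mk R (R ⧸ Ideal.span {(x : R)}) I 1 - σ.comp φ := ⟨_, rfl⟩
  have hgx : g x = 0 := by
    rw [hg, LinearMap.sub_apply, LinearMap.comp_apply, hφ]
    have := hσmk 1
    rw [map_one, one_smul] at this
    rw [this]
    simp
  have hgker : LinearMap.ker f ≤ LinearMap.ker g := by
    intro y hy
    rw [hf, mem_ker_toMapQuot, Ideal.mem_span_singleton'] at hy
    obtain ⟨c, hc⟩ := hy
    have : y = c • x := by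
      apply Subtype.ext
      exact hc.symm
    rw [LinearMap.mem_ker, this, map_smul, hgx, smul_zero]
  obtain ⟨i, hi⟩ := exists_descend (R' := R ⧸ Ideal.span {(x : R)})
    Ideal.Quotient.mk_surjective f hfsurj g hgker
  have hrσ : ∀ c, r (σ c) = 0 := by
    intro c
    obtain ⟨c, rfl⟩ := Ideal.Quotient.mk_surjective c
    rw [hσmk, hr]
    have h1 : c • ((1 : R ⧸ Ideal.span {(x : R)}) ⊗ₜ[R] x) =
        (algebraMap R (R ⧸ Ideal.span {(x : R)}) c) • ((1 : R ⧸ Ideal.span {(x : R)}) ⊗ₜ[R] x) := by
      rw [algebraMap_smul]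
    rw [h1, map_smul, LinearMap.liftBaseChange_tmul, one_smul, hfx, smul_zero]
  have hri : ∀ t, r (i t) = t := by
    intro t
    obtain ⟨y, rfl⟩ := hfsurj t
    rw [hi, hg, LinearMap.sub_apply, map_sub, LinearMap.comp_apply, hrσ, sub_zero, hr]
    rw [TensorProduct.mk_apply, LinearMap.liftBaseChange_tmul, one_smul]
  have hret : Retract (ModuleCat.of (R ⧸ Ideal.span {(x : R)})
      (I.map (Ideal.Quotient.mk (Ideal.span {(x : R)}))))
      (ModuleCat.of (R ⧸ Ideal.span {(x : R)}) ((R ⧸ Ideal.span {(x : R)}) ⊗[R] I)) :=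
    { i := ModuleCat.ofHom i
      r := ModuleCat.ofHom r
      retract := by
        ext t
        exact congrArg Subtype.val (hri t) }
  exact hret.hasProjectiveDimensionLT n

theorem isWeaklyRegular_cons_iff_quot {R : Type u} [CommRing R] (x : R) (rs : List R) :
    IsWeaklyRegular R (x :: rs) ↔ IsSMulRegular R x ∧
      IsWeaklyRegular (R ⧸ Ideal.span {x}) (rs.map (Ideal.Quotient.mk (Ideal.span {x}))) := by
  rw [isWeaklyRegular_cons_iff]
  refine and_congr Iff.rfl ?_
  have heq : (x • ⊤ : Submodule R R) = Ideal.span {x} := by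
    rw [← Submodule.ideal_span_singleton_smul, smul_eq_mul, Ideal.mul_top]
  have e : QuotSMulTop x R ≃ₗ[R] (R ⧸ Ideal.span {x}) := Submodule.quotEquivOfEq _ _ heq
  rw [e.isWeaklyRegular_congr rs]
  exact (isWeaklyRegular_map_algebraMap_iff (R ⧸ Ideal.span {x}) (R ⧸ Ideal.span {x}) rs).symm

theorem coe_mem_sq_of_mem_smul_top {R : Type u} [CommRing R] (I : Ideal R) (w : I)
    (hw : w ∈ (I • ⊤ : Submodule R I)) : (w : R) ∈ I ^ 2 := by
  rw [Submodule.mem_smul_top_iff] at hw
  rw [pow_two]
  exact hw

/-- the canonical map `R/I → (R/K)/(I(R/K))` -/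
noncomputable def quotQuotLin {R : Type u} [CommRing R] (I K : Ideal R) :
    (R ⧸ I) →ₗ[R] ((R ⧸ K) ⧸ I.map (Ideal.Quotient.mk K)) :=
  Submodule.liftQ I (Algebra.linearMap R ((R ⧸ K) ⧸ I.map (Ideal.Quotient.mk K))) (by
    intro a ha
    rw [LinearMap.mem_ker, Algebra.linearMap_apply,
      IsScalarTower.algebraMap_apply R (R ⧸ K) ((R ⧸ K) ⧸ I.map (Ideal.Quotient.mk K))]
    exact Ideal.Quotient.eq_zero_iff_mem.mpr (Ideal.mem_map_of_mem _ ha))

theorem quotQuotLin_one {R : Type u} [CommRing R] (I K : Ideal R) :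
    quotQuotLin I K 1 = 1 := by
  show quotQuotLin I K (Submodule.Quotient.mk 1) = 1
  unfold quotQuotLin
  rw [Submodule.liftQ_apply, Algebra.linearMap_apply, map_one]

theorem exists_regular_seq_aux (r : ℕ) : ∀ {R : Type u} [CommRing R] [IsNoetherianRing R]
    [IsLocalRing R] (I : Ideal R) (hI : I ≠ ⊤) (n : ℕ)
    (hpd : HasProjectiveDimensionLT (ModuleCat.of R I) n)
    (x : Fin r → I) (φ : Fin r → (I →ₗ[R] R ⧸ I))
    (hφ : ∀ i j, φ i (x j) = if i = j then 1 else 0),
    ∃ z : Fin r → R, (∀ i, z i ∈ I) ∧ IsWeaklyRegular R (List.ofFn z) ∧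
      Ideal.span (Set.range z) ⊔ I ^ 2 = Ideal.span (Set.range fun i => (x i : R)) ⊔ I ^ 2 := by
  induction r with
  | zero =>
    intro R _ _ _ I hI n hpd x φ hφ
    refine ⟨Fin.elim0, fun i => i.elim0, ?_, ?_⟩
    · rw [List.ofFn_zero]
      exact IsWeaklyRegular.nil R R
    · simp
  | succ r ih =>
    intro R _ _ _ I hI n hpd x φ hφ
    obtain ⟨x', u, w, hx'nzd, hu, hw, hx'eq⟩ :=
      exists_nzd_generator I hI n hpd (x 0) (φ 0) (by simpa using hφ 0 0)
    have hKI : Ideal.span {(x' : R)} ≤ I := (Ideal.span_singleton_le_iff_mem I).mpr x'.2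
    have hKtop : Ideal.span {(x' : R)} ≠ ⊤ := fun h => hI (top_le_iff.mp (h ▸ hKI))
    haveI : Nontrivial (R ⧸ Ideal.span {(x' : R)}) := Ideal.Quotient.nontrivial_iff.mpr hKtop
    haveI : IsLocalRing (R ⧸ Ideal.span {(x' : R)}) :=
      IsLocalRing.of_surjective' (Ideal.Quotient.mk _) Ideal.Quotient.mk_surjective
    have hI'top : I.map (Ideal.Quotient.mk (Ideal.span {(x' : R)})) ≠ ⊤ := by
      intro h
      have h1 := congrArg (Ideal.comap (Ideal.Quotient.mk (Ideal.span {(x' : R)}))) h
      rw [Ideal.comap_map_of_surjective _ Ideal.Quotient.mk_surjective, Ideal.comap_top,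
        ← RingHom.ker_eq_comap_bot, Ideal.mk_ker, sup_eq_left.mpr hKI] at h1
      exact hI h1
    obtain ⟨v, hv⟩ := hu
    have hφ₀' : ((↑v⁻¹ : R) • φ 0) x' = 1 := by
      rw [hx'eq, LinearMap.smul_apply, map_add, map_smul, functional_eq_zero_of_mem I _ w hw,
        add_zero, hφ 0 0, if_pos rfl, ← hv, smul_smul, Units.inv_mul, one_smul]
    have hpd' := pd_quot_ideal I n hpd x' hx'nzd _ hφ₀'
    obtain ⟨f, hf⟩ : ∃ f, f = toMapQuot I (Ideal.span {(x' : R)}) := ⟨_, rfl⟩
    have hfsurj : Function.Surjective f := by rw [hf]; exact toMapQuot_surjective _ _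
    -- the descended functionals
    have hφsucc_x' : ∀ j : Fin r, φ j.succ x' = 0 := by
      intro j
      rw [hx'eq, map_add, map_smul, functional_eq_zero_of_mem I _ w hw, add_zero, hφ,
        if_neg (Fin.succ_ne_zero j), smul_zero]
    have hker : ∀ j : Fin r, LinearMap.ker f ≤
        LinearMap.ker ((quotQuotLin I (Ideal.span {(x' : R)})).comp (φ j.succ)) := by
      intro j y hy
      rw [hf, mem_ker_toMapQuot, Ideal.mem_span_singleton'] at hy
      obtain ⟨c, hc⟩ := hy
      have : y = c • x' := by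
        apply Subtype.ext
        exact hc.symm
      rw [LinearMap.mem_ker, LinearMap.comp_apply, this, map_smul, hφsucc_x', smul_zero, map_zero]
    have hdesc := fun j : Fin r => exists_descend (R' := R ⧸ Ideal.span {(x' : R)})
      Ideal.Quotient.mk_surjective f hfsurj _ (hker j)
    choose φ' hφ' using hdesc
    obtain ⟨z', hz'I, hz'reg, hz'span⟩ := ih (R := R ⧸ Ideal.span {(x' : R)})
      (I.map (Ideal.Quotient.mk (Ideal.span {(x' : R)}))) hI'top n hpd'
      (fun j => f (x j.succ)) φ' (by
        intro i j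
        rw [hφ', LinearMap.comp_apply, hφ]
        by_cases hij : i = j
        · rw [if_pos (by rw [hij]), if_pos hij, quotQuotLin_one]
        · rw [if_neg (fun h => hij (Fin.succ_injective _ h)), if_neg hij, map_zero])
    have hlift : ∀ i, ∃ y ∈ I, Ideal.Quotient.mk (Ideal.span {(x' : R)}) y = z' i := fun i =>
      (Ideal.mem_map_iff_of_surjective _ Ideal.Quotient.mk_surjective).mp (hz'I i)
    choose z'' hz''I hz''eq using hlift
    have hxreg : IsSMulRegular R (x' : R) := by
      intro a b hab
      have hab : (x' : R) * a = (x' : R) * b := hab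
      exact (isRegular_iff_mem_nonZeroDivisors.mpr hx'nzd).left hab
    refine ⟨Fin.cons (x' : R) z'', ?_, ?_, ?_⟩
    · intro i
      refine Fin.cases ?_ (fun j => ?_) i
      · rw [Fin.cons_zero]; exact x'.2
      · rw [Fin.cons_succ]; exact hz''I j
    · rw [List.ofFn_succ]
      simp only [Fin.cons_zero, Fin.cons_succ]
      rw [isWeaklyRegular_cons_iff_quot]
      refine ⟨hxreg, ?_⟩
      rw [List.map_ofFn]
      have : (⇑(Ideal.Quotient.mk (Ideal.span {(x' : R)})) ∘ fun i => z'' i) = z' := by
        funext i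
        exact hz''eq i
      rw [this]
      exact hz'reg
    · -- the ideal equality
      have hsurj : Function.Surjective (Ideal.Quotient.mk (Ideal.span {(x' : R)})) :=
        Ideal.Quotient.mk_surjective
      have hcm : ∀ L : Ideal R, Ideal.span {(x' : R)} ≤ L →
          (L.map (Ideal.Quotient.mk (Ideal.span {(x' : R)}))).comap
            (Ideal.Quotient.mk (Ideal.span {(x' : R)})) = L := by
        intro L hL
        rw [Ideal.comap_map_of_surjective _ hsurj, ← RingHom.ker_eq_comap_bot, Ideal.mk_ker,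
          sup_eq_left.mpr hL]
      have hwsq : (w : R) ∈ I ^ 2 := coe_mem_sq_of_mem_smul_top I w hw
      have hx'val : (x' : R) = u * (x 0 : R) + (w : R) := by
        have := congrArg Subtype.val hx'eq
        exact this
      have hL1 : Ideal.span {(x' : R)} ≤
          Ideal.span (Set.range (Fin.cons (x' : R) z'' : Fin (r + 1) → R)) ⊔ I ^ 2 := by
        rw [Ideal.span_singleton_le_iff_mem]
        refine Ideal.mem_sup_left (Ideal.subset_span ⟨0, ?_⟩)
        rw [Fin.cons_zero]
      have hL2 : Ideal.span {(x' : R)} ≤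
          Ideal.span (Set.range fun i => (x i : R)) ⊔ I ^ 2 := by
        rw [Ideal.span_singleton_le_iff_mem, hx'val]
        exact Ideal.add_mem _ (Ideal.mem_sup_left (Ideal.mul_mem_left _ _
          (Ideal.subset_span ⟨0, rfl⟩))) (Ideal.mem_sup_right hwsq)
      rw [← hcm _ hL1, ← hcm _ hL2]
      congr 1
      rw [Ideal.map_sup, Ideal.map_sup, Ideal.map_span, Ideal.map_span, Ideal.map_pow,
        ← Set.range_comp, ← Set.range_comp]
      have h1 : (⇑(Ideal.Quotient.mk (Ideal.span {(x' : R)})) ∘
          (Fin.cons (x' : R) z'' : Fin (r + 1) → R)) = Fin.cons 0 z' := by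
        funext i
        refine Fin.cases ?_ (fun j => ?_) i
        · simp only [Function.comp_apply, Fin.cons_zero]
          exact Ideal.Quotient.eq_zero_iff_mem.mpr (Ideal.mem_span_singleton_self _)
        · simp only [Function.comp_apply, Fin.cons_succ]
          exact hz''eq j
      have h2 : (⇑(Ideal.Quotient.mk (Ideal.span {(x' : R)})) ∘ fun i => (x i : R)) =
          Fin.cons (Ideal.Quotient.mk (Ideal.span {(x' : R)}) (x 0 : R))
            (fun j => ((f (x j.succ) : I.map (Ideal.Quotient.mk (Ideal.span {(x' : R)}))) :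
              R ⧸ Ideal.span {(x' : R)})) := by
        funext i
        refine Fin.cases ?_ (fun j => ?_) i
        · simp only [Function.comp_apply, Fin.cons_zero]
        · simp only [Function.comp_apply, Fin.cons_succ]
          rw [hf]
          rfl
      rw [h1, h2, Fin.range_cons, Fin.range_cons, Ideal.span_insert_zero,
        Ideal.span_insert]
      have h3 : Ideal.span {Ideal.Quotient.mk (Ideal.span {(x' : R)}) (x 0 : R)} ≤
          (I.map (Ideal.Quotient.mk (Ideal.span {(x' : R)}))) ^ 2 := by
        rw [Ideal.span_singleton_le_iff_mem]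
        have h4 : Ideal.Quotient.mk (Ideal.span {(x' : R)}) (u * (x 0 : R)) =
            - Ideal.Quotient.mk (Ideal.span {(x' : R)}) (w : R) := by
          rw [eq_neg_iff_add_eq_zero, ← map_add, ← hx'val]
          exact Ideal.Quotient.eq_zero_iff_mem.mpr (Ideal.mem_span_singleton_self _)
        have h5 : Ideal.Quotient.mk (Ideal.span {(x' : R)}) (x 0 : R) =
            Ideal.Quotient.mk (Ideal.span {(x' : R)}) (↑v⁻¹ : R) *
              Ideal.Quotient.mk (Ideal.span {(x' : R)}) (u * (x 0 : R)) := by
          rw [← map_mul, ← mul_assoc, ← hv, Units.inv_mul, one_mul]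
        rw [h5, h4]
        refine Ideal.mul_mem_left _ _ (Ideal.neg_mem_iff _ |>.mpr ?_)
        rw [← Ideal.map_pow]
        exact Ideal.mem_map_of_mem _ hwsq
      rw [sup_assoc, sup_comm (Ideal.span {_}), sup_assoc]
      rw [sup_eq_left.mpr h3] 
      exact hz'span

theorem mk_smul_toCotangent {R : Type u} [CommRing R] (I : Ideal R) (c : R) (t : I) :
    (Ideal.Quotient.mk I c) • I.toCotangent t = I.toCotangent (c • t) := by
  rw [map_smul]
  exact (algebraMap_smul (R ⧸ I) c (I.toCotangent t))

theorem span_toCotangent_eq {R : Type u} [CommRing R] (I : Ideal R) {r : ℕ} (y : Fin r → I) :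
    (Submodule.span (R ⧸ I) (Set.range fun i => I.toCotangent (y i)) : Set I.Cotangent) =
      I.toCotangent '' {t : I | (t : R) ∈ Ideal.span (Set.range fun i => (y i : R)) ⊔ I ^ 2} := by
  ext m
  constructor
  · intro hm
    rw [SetLike.mem_coe, Submodule.mem_span_range_iff_exists_fun] at hm
    obtain ⟨c, rfl⟩ := hm
    have hc : ∀ i, ∃ a : R, Ideal.Quotient.mk I a = c i := fun i => Ideal.Quotient.mk_surjective _
    choose a ha using hc
    refine ⟨∑ i, a i • y i, ?_, ?_⟩
    · refine Ideal.mem_sup_left ?_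
      rw [Ideal.mem_span_range_iff_exists_fun]
      refine ⟨a, ?_⟩
      simp
    · rw [map_sum]
      refine Finset.sum_congr rfl fun i _ => ?_
      rw [← ha i, mk_smul_toCotangent]
  · rintro ⟨t, ht, rfl⟩
    obtain ⟨a, ha, b, hb, hab⟩ := Submodule.mem_sup.mp ht
    rw [Ideal.mem_span_range_iff_exists_fun] at ha
    obtain ⟨c, rfl⟩ := ha
    have hbI : b ∈ I := Ideal.pow_le_self (by norm_num) hb
    have ht' : t = ∑ i, c i • y i + ⟨b, hbI⟩ := by
      apply Subtype.ext
      rw [← hab]
      simp
    rw [ht', map_add, (I.toCotangent_eq_zero ⟨b, hbI⟩).mpr hb, add_zero, map_sum]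
    refine Submodule.sum_mem _ fun i _ => ?_
    rw [← mk_smul_toCotangent]
    exact Submodule.smul_mem _ _ (Submodule.subset_span ⟨i, rfl⟩)

theorem S2187_main {R : Type u} [CommRing R]
    [IsNoetherianRing R] [IsLocalRing R] (I : Ideal R) (n : ℕ)
    (hpd : HasProjectiveDimensionLT (ModuleCat.of R I) n)
    (F G : Submodule (R ⧸ I) I.Cotangent) (hFG : IsCompl F G) (e : F ≃ₗ[R ⧸ I] (R ⧸ I)) :
    ∃ (x : R) (hx : x ∈ I), x ∈ nonZeroDivisors R ∧
      Submodule.span (R ⧸ I) {I.toCotangent ⟨x, hx⟩} = F := by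
  by_cases hI : I = ⊤
  · refine ⟨1, by rw [hI]; trivial, one_mem _, ?_⟩
    haveI : Subsingleton (R ⧸ I) := by
      rw [hI]; exact Ideal.Quotient.subsingleton_iff.mpr rfl
    haveI : Subsingleton I.Cotangent := Module.subsingleton (R ⧸ I) _
    exact Subsingleton.elim _ _
  obtain ⟨x₀, hx₀⟩ := I.toCotangent_surjective ((e.symm 1 : F) : I.Cotangent)
  obtain ⟨φ, hφdef⟩ : ∃ φ : I →ₗ[R] R ⧸ I, φ = ((e.toLinearMap.comp
      (Submodule.projectionOnto F G hFG)).restrictScalars R).comp I.toCotangent := ⟨_, rfl⟩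
  have hφ : φ x₀ = 1 := by
    rw [hφdef]
    show e (Submodule.projectionOnto F G hFG (I.toCotangent x₀)) = 1
    rw [hx₀, Submodule.projectionOnto_apply_left, LinearEquiv.apply_symm_apply]
  obtain ⟨x', u, w, hx'nzd, hu, hw, hx'eq⟩ := exists_nzd_generator I hI n hpd x₀ φ hφ
  refine ⟨x', x'.2, hx'nzd, ?_⟩
  have hw0 : I.toCotangent w = 0 := (Submodule.Quotient.mk_eq_zero _).mpr hw
  have h1 : I.toCotangent ⟨x', x'.2⟩ = (Ideal.Quotient.mk I u) • ((e.symm 1 : F) : I.Cotangent) := by
    have : (⟨x', x'.2⟩ : I) = x' := rfl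
    rw [this, hx'eq, map_add, hw0, add_zero, ← hx₀, mk_smul_toCotangent]
  have hu' : IsUnit (Ideal.Quotient.mk I u) := hu.map _
  apply le_antisymm
  · rw [Submodule.span_le, Set.singleton_subset_iff, h1]
    exact F.smul_mem _ (e.symm 1).2
  · intro t ht
    have h2 : (⟨t, ht⟩ : F) = e (⟨t, ht⟩ : F) • e.symm 1 := by
      rw [← map_smul, smul_eq_mul, mul_one, LinearEquiv.symm_apply_apply]
    have h3 : t = e (⟨t, ht⟩ : F) • ((e.symm 1 : F) : I.Cotangent) := by
      have := congrArg Subtype.val h2
      exact this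
    obtain ⟨v, hv⟩ := hu'
    have h4 : ((e.symm 1 : F) : I.Cotangent) = (↑v⁻¹ : R ⧸ I) • I.toCotangent ⟨x', x'.2⟩ := by
      rw [h1, ← hv, smul_smul, Units.inv_mul, one_smul]
    rw [h3, h4]
    exact Submodule.smul_mem _ _ (Submodule.smul_mem _ _ (Submodule.mem_span_singleton_self _))

theorem S2188_main {R : Type u} [CommRing R]
    [IsNoetherianRing R] [IsLocalRing R] (I : Ideal R) (hI : I ≠ ⊤) (n : ℕ)
    (hpd : HasProjectiveDimensionLT (ModuleCat.of R I) n)
    (F G : Submodule (R ⧸ I) I.Cotangent) (hFG : IsCompl F G) (r : ℕ)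
    (e : F ≃ₗ[R ⧸ I] (Fin r → R ⧸ I)) :
    ∃ (x : Fin r → R) (hx : ∀ i, x i ∈ I), RingTheory.Sequence.IsRegular R (List.ofFn x) ∧
      Submodule.span (R ⧸ I) (Set.range fun i => I.toCotangent ⟨x i, hx i⟩) = F := by
  classical
  have hx₀ : ∀ j : Fin r, ∃ x₀ : I, I.toCotangent x₀ =
      ((e.symm (Pi.single j 1) : F) : I.Cotangent) := fun j => I.toCotangent_surjective _
  choose x₀ hx₀ using hx₀
  obtain ⟨φ, hφdef⟩ : ∃ φ : Fin r → (I →ₗ[R] R ⧸ I), φ = fun i =>
      ((((LinearMap.proj i : (Fin r → R ⧸ I) →ₗ[R ⧸ I] R ⧸ I)).comp (e.toLinearMap.comp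
      (Submodule.projectionOnto F G hFG))).restrictScalars R).comp I.toCotangent := ⟨_, rfl⟩
  have hφ : ∀ i j, φ i (x₀ j) = if i = j then 1 else 0 := by
    intro i j
    rw [hφdef]
    show e (Submodule.projectionOnto F G hFG (I.toCotangent (x₀ j))) i = _
    rw [hx₀, Submodule.projectionOnto_apply_left, LinearEquiv.apply_symm_apply,
      Pi.single_apply]
  obtain ⟨z, hzI, hzreg, hzspan⟩ := exists_regular_seq_aux r I hI n hpd x₀ φ hφ
  refine ⟨z, hzI, ⟨hzreg, ?_⟩, ?_⟩
  · intro htop
    apply hI
    rw [eq_top_iff]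
    have h1 : Ideal.ofList (List.ofFn z) ≤ I := by
      rw [Ideal.ofList, Ideal.span_le]
      intro a ha
      rw [Set.mem_setOf_eq, List.mem_ofFn] at ha
      obtain ⟨i, rfl⟩ := ha
      exact hzI i
    have h2 : (Ideal.ofList (List.ofFn z) • ⊤ : Submodule R R) = Ideal.ofList (List.ofFn z) := by
      rw [smul_eq_mul, Ideal.mul_top]
    rw [h2] at htop
    rw [htop]
    exact h1
  · apply SetLike.coe_injective
    have h1 := span_toCotangent_eq I (fun i => (⟨z i, hzI i⟩ : I))
    rw [h1]
    have h2 : (Set.range fun i => ((⟨z i, hzI i⟩ : I) : R)) = Set.range z := rfl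
    rw [h2, hzspan, ← span_toCotangent_eq I x₀]
    congr 1
    apply le_antisymm
    · rw [Submodule.span_le]
      rintro _ ⟨j, rfl⟩
      show I.toCotangent (x₀ j) ∈ F
      rw [hx₀]
      exact (e.symm _).2
    · intro t ht
      have h3 : (⟨t, ht⟩ : F) = ∑ j, e (⟨t, ht⟩ : F) j • e.symm (Pi.single j 1) := by
        apply e.injective
        rw [map_sum]
        simp_rw [map_smul, LinearEquiv.apply_symm_apply]
        funext i
        simp [Pi.single_apply]
      have h4 : t = ∑ j, e (⟨t, ht⟩ : F) j • ((e.symm (Pi.single j 1) : F) : I.Cotangent) := by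
        have := congrArg Subtype.val h3
        simpa using this
      rw [h4]
      refine Submodule.sum_mem _ fun j _ => Submodule.smul_mem _ _ (Submodule.subset_span ⟨j, ?_⟩)
      exact hx₀ j

end Groth.Agent.Lib.Helper4.Vasc1
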