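import Mathlib
import Groth.Prelude.Def_RegImm
import Groth.Agent.Lib.Helper4.Vasc1
import Groth.Agent.Lib.Helper4.RegSpread1
import Groth.Agent.Lib.Helper4.KosQuot4

/-!
# Regular immersion into affine space: local presentation by a regular sequence (S18937) (helper4)
-/

set_option backward.isDefEq.respectTransparency.types false
set_option synthInstance.maxHeartbeats 400000
set_option autoImplicit false
set_option linter.unusedSectionVars false
set_option linter.style.haveILetI false
set_option linter.unusedSimpArgs false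
universe u v w
open CategoryTheory CategoryTheory.Limits TensorProduct IsLocalRing RingTheory.Sequence Pointwise
open AlgebraicGeometry
open Groth.Agent.Lib.Helper4.Vasc1 Groth.Agent.Lib.Helper4.RegSpread1 Polynomial

namespace Groth.Agent.Lib.Helper4.RegPres1

/-- regular sequences transport along ring isomorphisms -/
theorem isWeaklyRegular_map_ringEquiv {R S : Type*} [CommRing R] [CommRing S] (e : R ≃+* S)
    (l : List R) (h : IsWeaklyRegular R l) : IsWeaklyRegular S (l.map e) := by
  rw [isWeaklyRegular_iff_elementwise] at h ⊢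
  intro i hi x hx
  rw [List.length_map] at hi
  have h1 : Ideal.ofList ((l.map e).take i) = (Ideal.ofList (l.take i)).map (e : R →+* S) := by
    rw [Ideal.map_ofList, List.map_take]
    rfl
  rw [h1] at hx ⊢
  rw [List.getElem_map] at hx
  have h2 : l[i] * e.symm x ∈ Ideal.ofList (l.take i) := by
    have := Ideal.mem_map_of_mem (e.symm : S →+* R) hx
    rw [Ideal.map_map] at this
    have h3 : ((e.symm : S →+* R).comp (e : R →+* S)) = RingHom.id R := by
      ext a; simp
    rw [h3, Ideal.map_id] at this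
    simpa using this
  have h4 := h i hi _ h2
  have := Ideal.mem_map_of_mem (e : R →+* S) h4
  simpa using this

theorem alg_main (A : Type u) [CommRing A] [IsNoetherianRing A] (n : ℕ)
    (I : Ideal (MvPolynomial (Fin n) A)) (q : Ideal (MvPolynomial (Fin n) A ⧸ I)) [q.IsPrime]
    (Ap : Type u) [CommRing Ap] [Algebra (MvPolynomial (Fin n) A) Ap]
    [IsLocalization.AtPrime Ap (q.comap (Ideal.Quotient.mk I))]
    (rs : List Ap) (hrs : IsRegular Ap rs)
    (hI : I.map (algebraMap (MvPolynomial (Fin n) A) Ap) = Ideal.ofList rs) :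
    ∃ g : MvPolynomial (Fin n) A ⧸ I, g ∉ q ∧
      ∃ (d : ℕ) (P : Fin d → MvPolynomial (Fin (n + 1)) A),
        RingTheory.Sequence.IsRegular (MvPolynomial (Fin (n + 1)) A) (List.ofFn P) ∧
        Nonempty (Localization.Away g ≃ₐ[A]
          (MvPolynomial (Fin (n + 1)) A ⧸ Ideal.ofList (List.ofFn P))) := by
  classical
  obtain ⟨G, as, hG, -, hB⟩ := exists_away_regular I (q.comap (Ideal.Quotient.mk I)) Ap rs hrs hI
  have hGq : Ideal.Quotient.mk I G ∉ q := hG
  refine ⟨Ideal.Quotient.mk I G, hGq, ?_⟩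
  haveI hlocAdj : IsLocalization.Away G (AdjoinRoot (C G * X - 1 : (MvPolynomial (Fin n) A)[X])) :=
    IsLocalization.adjoin_inv G
  obtain ⟨hreg, hideal⟩ := hB (AdjoinRoot (C G * X - 1 : (MvPolynomial (Fin n) A)[X]))
  -- the localization map
  have hT : Submonoid.map (Ideal.Quotient.mk I) (Submonoid.powers G) =
      Submonoid.powers (Ideal.Quotient.mk I G) := Submonoid.map_powers _ _
  obtain ⟨φG, hφGdef⟩ : ∃ φG : AdjoinRoot (C G * X - 1 : (MvPolynomial (Fin n) A)[X]) →+*
      Localization.Away (Ideal.Quotient.mk I G),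
      φG = IsLocalization.map (Localization.Away (Ideal.Quotient.mk I G)) (Ideal.Quotient.mk I)
        (hT.symm ▸ (Submonoid.powers G).le_comap_map) := ⟨_, rfl⟩
  have hφGker : RingHom.ker φG = I.map
      (algebraMap _ (AdjoinRoot (C G * X - 1 : (MvPolynomial (Fin n) A)[X]))) := by
    rw [hφGdef]
    have := IsLocalization.ker_map (S := AdjoinRoot (C G * X - 1 : (MvPolynomial (Fin n) A)[X]))
      (Localization.Away (Ideal.Quotient.mk I G)) (Ideal.Quotient.mk I) hT
    rw [this, Ideal.mk_ker]
  have hφGsurj : Function.Surjective φG := by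
    rw [hφGdef]
    haveI : IsLocalization ((Submonoid.powers G).map (Ideal.Quotient.mk I))
        (Localization.Away (Ideal.Quotient.mk I G)) := by
      rw [hT]
      infer_instance
    exact IsLocalization.map_surjective_of_surjective (Submonoid.powers G) _ _
      Ideal.Quotient.mk_surjective
  have hφGalg : ∀ p : MvPolynomial (Fin n) A,
      φG (algebraMap _ (AdjoinRoot (C G * X - 1 : (MvPolynomial (Fin n) A)[X])) p) =
        algebraMap _ (Localization.Away (Ideal.Quotient.mk I G)) (Ideal.Quotient.mk I p) := by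
    intro p
    rw [hφGdef]
    exact IsLocalization.map_eq _ p
  -- the list in `P[X]`
  obtain ⟨l, hl⟩ : ∃ l : List (MvPolynomial (Fin n) A)[X],
      l = (C G * X - 1 : (MvPolynomial (Fin n) A)[X]) :: as.map C := ⟨_, rfl⟩
  have hmapmk : (as.map (C : MvPolynomial (Fin n) A →+* (MvPolynomial (Fin n) A)[X])).map
      (Ideal.Quotient.mk (Ideal.span {(C G * X - 1 : (MvPolynomial (Fin n) A)[X])})) =
      as.map (algebraMap (MvPolynomial (Fin n) A)
        (AdjoinRoot (C G * X - 1 : (MvPolynomial (Fin n) A)[X]))) := by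
    rw [List.map_map]
    rfl
  have hlreg : IsWeaklyRegular (MvPolynomial (Fin n) A)[X] l := by
    rw [hl, isWeaklyRegular_cons_iff_quot]
    refine ⟨?_, ?_⟩
    · have := (Groth.Agent.Lib.Helper4.KosQuot4.isRegular_C_mul_X_sub_one G).left
      intro a b hab
      exact this hab
    · rw [hmapmk]
      exact hreg.toIsWeaklyRegular
  obtain ⟨α', hα'def⟩ : ∃ α' : (MvPolynomial (Fin n) A)[X] →+*
      Localization.Away (Ideal.Quotient.mk I G),
      α' = φG.comp (AdjoinRoot.mk (C G * X - 1 : (MvPolynomial (Fin n) A)[X])) := ⟨_, rfl⟩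
  have hα'surj : Function.Surjective α' := by
    rw [hα'def]
    exact hφGsurj.comp AdjoinRoot.mk_surjective
  have hα'ker : RingHom.ker α' = Ideal.ofList l := by
    have hmapmk' : (as.map (C : MvPolynomial (Fin n) A →+* (MvPolynomial (Fin n) A)[X])).map
        (AdjoinRoot.mk (C G * X - 1 : (MvPolynomial (Fin n) A)[X])) =
        as.map (algebraMap (MvPolynomial (Fin n) A)
          (AdjoinRoot (C G * X - 1 : (MvPolynomial (Fin n) A)[X]))) := by
      rw [List.map_map]
      rfl
    have hkermk : RingHom.ker (AdjoinRoot.mk (C G * X - 1 : (MvPolynomial (Fin n) A)[X])) =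
        Ideal.span {(C G * X - 1 : (MvPolynomial (Fin n) A)[X])} := Ideal.mk_ker
    rw [hα'def, ← RingHom.comap_ker, hφGker, hideal, ← hmapmk', ← Ideal.map_ofList,
      Ideal.comap_map_of_surjective _ AdjoinRoot.mk_surjective,
      ← RingHom.ker_eq_comap_bot, hkermk, hl, Ideal.ofList_cons, sup_comm]
  obtain ⟨α'', hα''def⟩ : ∃ α'' : MvPolynomial (Fin (n + 1)) A →+*
      Localization.Away (Ideal.Quotient.mk I G),
      α'' = α'.comp ((MvPolynomial.finSuccEquiv A n).toRingEquiv :
        MvPolynomial (Fin (n + 1)) A →+* (MvPolynomial (Fin n) A)[X]) := ⟨_, rfl⟩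
  have hα''C : ∀ r : A, α'' (MvPolynomial.C r) =
      algebraMap A (Localization.Away (Ideal.Quotient.mk I G)) r := by
    intro r
    rw [hα''def, hα'def]
    have h1 : (MvPolynomial.finSuccEquiv A n) (MvPolynomial.C r) =
        Polynomial.C (MvPolynomial.C r) := by
      simp [MvPolynomial.finSuccEquiv_apply]
    show φG (AdjoinRoot.mk _ ((MvPolynomial.finSuccEquiv A n) (MvPolynomial.C r))) = _
    rw [h1]
    have h2 : AdjoinRoot.mk (C G * X - 1 : (MvPolynomial (Fin n) A)[X])
        (Polynomial.C (MvPolynomial.C r : MvPolynomial (Fin n) A)) =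
        algebraMap (MvPolynomial (Fin n) A)
          (AdjoinRoot (C G * X - 1 : (MvPolynomial (Fin n) A)[X]))
          (MvPolynomial.C r : MvPolynomial (Fin n) A) :=
      rfl
    rw [h2, hφGalg]
    rfl
  obtain ⟨αalg, hαalg⟩ : ∃ αalg : MvPolynomial (Fin (n + 1)) A →ₐ[A]
      Localization.Away (Ideal.Quotient.mk I G), αalg.toRingHom = α'' := by
    refine ⟨MvPolynomial.aeval (fun i => α'' (MvPolynomial.X i)), ?_⟩
    apply MvPolynomial.ringHom_ext
    · intro r
      rw [hα''C]
      simp
    · intro i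
      simp
  have hαsurj : Function.Surjective αalg := by
    have : (αalg : _ → _) = α'' := by
      rw [← hαalg]; rfl
    rw [this, hα''def]
    exact hα'surj.comp (MvPolynomial.finSuccEquiv A n).surjective
  obtain ⟨l', hl'⟩ : ∃ l' : List (MvPolynomial (Fin (n + 1)) A),
      l' = l.map (MvPolynomial.finSuccEquiv A n).toRingEquiv.symm := ⟨_, rfl⟩
  have hαker : RingHom.ker αalg.toRingHom = Ideal.ofList l' := by
    rw [hαalg, hα''def, ← RingHom.comap_ker, hα'ker, hl']
    have : (Ideal.ofList l).comap ((MvPolynomial.finSuccEquiv A n).toRingEquiv :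
        MvPolynomial (Fin (n + 1)) A →+* (MvPolynomial (Fin n) A)[X]) =
        (Ideal.ofList l).map ((MvPolynomial.finSuccEquiv A n).toRingEquiv.symm :
          (MvPolynomial (Fin n) A)[X] →+* MvPolynomial (Fin (n + 1)) A) :=
      (Ideal.map_symm _).symm
    rw [this, Ideal.map_ofList]
    rfl
  have hl'reg : IsWeaklyRegular (MvPolynomial (Fin (n + 1)) A) l' := by
    rw [hl']
    exact isWeaklyRegular_map_ringEquiv _ l hlreg
  have hnontriv : Nontrivial (Localization.Away (Ideal.Quotient.mk I G)) := by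
    rw [nontrivial_iff_exists_ne 0]
    refine ⟨1, fun h1 => ?_⟩
    have h2 : algebraMap (MvPolynomial (Fin n) A ⧸ I)
        (Localization.Away (Ideal.Quotient.mk I G)) 1 = 0 := by rw [map_one]; exact h1
    rw [IsLocalization.map_eq_zero_iff (Submonoid.powers (Ideal.Quotient.mk I G))] at h2
    obtain ⟨⟨_, k, rfl⟩, hk⟩ := h2
    have hk' : (Ideal.Quotient.mk I G) ^ k = 0 := by simpa using hk
    apply hGq
    have : (Ideal.Quotient.mk I G) ^ k ∈ q := by
      rw [hk']; exact q.zero_mem
    exact Ideal.IsPrime.mem_of_pow_mem inferInstance k this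
  refine ⟨l'.length, l'.get, ?_, ?_⟩
  · rw [List.ofFn_get]
    refine ⟨hl'reg, ?_⟩
    intro htop
    have h2 : (Ideal.ofList l' • ⊤ : Submodule _ (MvPolynomial (Fin (n + 1)) A)) =
        Ideal.ofList l' := by
      rw [smul_eq_mul, Ideal.mul_top]
    rw [h2, ← hαker] at htop
    have h3 : (1 : MvPolynomial (Fin (n + 1)) A) ∈ RingHom.ker αalg.toRingHom := by
      rw [← htop]; trivial
    rw [RingHom.mem_ker, map_one] at h3
    exact one_ne_zero h3
  · rw [List.ofFn_get]
    exact ⟨(Ideal.quotientKerAlgEquivOfSurjective hαsurj).symm.trans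
      (Ideal.quotientEquivAlgOfEq A hαker)⟩


/-- kernel of the stalk map of `Spec` of a quotient map -/
theorem ker_stalkMap_spec_quotient {P : Type u} [CommRing P] (I : Ideal P)
    (z : Spec (CommRingCat.of (P ⧸ I))) :
    letI : Algebra P ((Spec (CommRingCat.of P)).presheaf.stalk
      ((Spec.map (CommRingCat.ofHom (Ideal.Quotient.mk I))) z)) :=
      StructureSheaf.stalkAlgebra P _
    RingHom.ker ((Spec.map (CommRingCat.ofHom (Ideal.Quotient.mk I))).stalkMap z).hom =
      I.map (algebraMap P ((Spec (CommRingCat.of P)).presheaf.stalk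
        ((Spec.map (CommRingCat.ofHom (Ideal.Quotient.mk I))) z))) := by
  haveI : IsClosedImmersion (Spec.map (CommRingCat.ofHom (Ideal.Quotient.mk I))) :=
    IsClosedImmersion.spec_of_surjective _ Ideal.Quotient.mk_surjective
  have h1 := ker_stalkMap_of_app_surjective (Spec.map (CommRingCat.ofHom (Ideal.Quotient.mk I))) z ⊤
    (isAffineOpen_top _) trivial ((isAffineOpen_top _).preimage _)
    ((Spec.map (CommRingCat.ofHom (Ideal.Quotient.mk I))).app_surjective ⊤ (isAffineOpen_top _))
  rw [h1]
  have h2 : RingHom.ker ((Spec.map (CommRingCat.ofHom (Ideal.Quotient.mk I))).app ⊤).hom =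
      I.map (Scheme.ΓSpecIso (CommRingCat.of P)).inv.hom := by
    have hnat := Scheme.ΓSpecIso_naturality (CommRingCat.ofHom (Ideal.Quotient.mk I))
    have hnat' : ∀ x, (Scheme.ΓSpecIso (CommRingCat.of (P ⧸ I))).hom.hom
        (((Spec.map (CommRingCat.ofHom (Ideal.Quotient.mk I))).app ⊤).hom x) =
        Ideal.Quotient.mk I ((Scheme.ΓSpecIso (CommRingCat.of P)).hom.hom x) := by
      intro x
      have := congrArg (fun f => f.hom x) hnat
      exact this
    have hinj : Function.Injective (Scheme.ΓSpecIso (CommRingCat.of (P ⧸ I))).hom.hom :=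
      (ConcreteCategory.bijective_of_isIso (Scheme.ΓSpecIso (CommRingCat.of (P ⧸ I))).hom).1
    have hinvhom : ∀ x, (Scheme.ΓSpecIso (CommRingCat.of P)).inv.hom
        ((Scheme.ΓSpecIso (CommRingCat.of P)).hom.hom x) = x := by
      intro x
      have := congrArg (fun f => f.hom x) (Scheme.ΓSpecIso (CommRingCat.of P)).hom_inv_id
      simpa using this
    have hhominv : ∀ a, (Scheme.ΓSpecIso (CommRingCat.of P)).hom.hom
        ((Scheme.ΓSpecIso (CommRingCat.of P)).inv.hom a) = a := by
      intro a
      have := congrArg (fun f => f.hom a) (Scheme.ΓSpecIso (CommRingCat.of P)).inv_hom_id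
      simpa using this
    apply le_antisymm
    · intro x hx
      rw [RingHom.mem_ker] at hx
      have h3 : Ideal.Quotient.mk I ((Scheme.ΓSpecIso (CommRingCat.of P)).hom.hom x) = 0 :=
        (hnat' x).symm.trans ((congrArg _ hx).trans (map_zero _))
      have h4 : (Scheme.ΓSpecIso (CommRingCat.of P)).hom.hom x ∈ I :=
        Ideal.Quotient.eq_zero_iff_mem.mp h3
      rw [← hinvhom x]
      exact Ideal.mem_map_of_mem _ h4
    · rw [Ideal.map_le_iff_le_comap]
      intro a ha
      rw [Ideal.mem_comap, RingHom.mem_ker]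
      apply hinj
      refine (hnat' _).trans ?_
      rw [hhominv]
      refine (Ideal.Quotient.eq_zero_iff_mem.mpr ha).trans ?_
      exact (map_zero _).symm
  rw [h2, Ideal.map_map]
  rfl


theorem S18937_main
    (A : Type u) [CommRing A] [IsNoetherianRing A] (n : ℕ) (I : Ideal (MvPolynomial (Fin n) A))
    (h : RegImm.IsRegularImmersion RegImm.Kind.regular
      (Spec.map (CommRingCat.ofHom (Ideal.Quotient.mk I))))
    (q : PrimeSpectrum (MvPolynomial (Fin n) A ⧸ I)) :
    ∃ g : MvPolynomial (Fin n) A ⧸ I, g ∉ q.asIdeal ∧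
      ∃ (d : ℕ) (P : Fin d → MvPolynomial (Fin (n + 1)) A),
        RingTheory.Sequence.IsRegular (MvPolynomial (Fin (n + 1)) A) (List.ofFn P) ∧
        Nonempty (Localization.Away g ≃ₐ[A] (MvPolynomial (Fin (n + 1)) A ⧸ Ideal.ofList (List.ofFn P))) := by
  obtain ⟨i, hi⟩ : ∃ i, i = Spec.map (CommRingCat.ofHom (Ideal.Quotient.mk I)) := ⟨_, rfl⟩
  haveI : IsClosedImmersion (Spec.map (CommRingCat.ofHom (Ideal.Quotient.mk I))) :=
    IsClosedImmersion.spec_of_surjective _ Ideal.Quotient.mk_surjective
  obtain ⟨U, hzU, hcl, rs, hrs, hker⟩ := h.2 q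
  have hrs' : IsRegular _ rs := hrs
  obtain ⟨rs', hrs'', hker'⟩ := stalk_regular_of_affine
    (Spec.map (CommRingCat.ofHom (Ideal.Quotient.mk I))) q U.1 U.2 hzU (U.2.preimage _)
    ((Spec.map (CommRingCat.ofHom (Ideal.Quotient.mk I))).app_surjective U.1 U.2) rs hrs' hker
  letI : Algebra (MvPolynomial (Fin n) A) ((Spec (CommRingCat.of (MvPolynomial (Fin n) A))).presheaf.stalk
      ((Spec.map (CommRingCat.ofHom (Ideal.Quotient.mk I))) q)) :=
      StructureSheaf.stalkAlgebra (MvPolynomial (Fin n) A) _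
  haveI hloc : IsLocalization.AtPrime
      ((Spec (CommRingCat.of (MvPolynomial (Fin n) A))).presheaf.stalk
        ((Spec.map (CommRingCat.ofHom (Ideal.Quotient.mk I))) q))
      (q.asIdeal.comap (Ideal.Quotient.mk I)) :=
    StructureSheaf.IsLocalization.to_stalk (MvPolynomial (Fin n) A)
      ((Spec.map (CommRingCat.ofHom (Ideal.Quotient.mk I))) q)
  have hI := ker_stalkMap_spec_quotient I q
  rw [hker'] at hI
  exact alg_main A n I q.asIdeal _ rs' hrs'' hI.symm

end Groth.Agent.Lib.Helper4.RegPres1
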