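import Mathlib
import Groth.Agent.Lib.Helper3.KosBC4
import Groth.Agent.Lib.Helper3.KosBC5

/-!
# Lifting exactness and flatness of the cokernel of a complex of flat modules along a nilpotent ideal (helper4)
-/

set_option backward.isDefEq.respectTransparency.types false
set_option synthInstance.maxHeartbeats 400000
set_option autoImplicit false
set_option linter.unusedSectionVars false
set_option linter.style.haveILetI false
set_option linter.unusedSimpArgs false
universe u v w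
open TensorProduct

namespace Groth.Agent.Lib.Helper4.KosLift1

section Middle

variable {A : Type*} [CommRing A]
  {X₁' X₂' X₃' X₁ X₂ X₃ X₁'' X₂'' X₃'' : Type*}
  [AddCommGroup X₁'] [AddCommGroup X₂'] [AddCommGroup X₃']
  [AddCommGroup X₁] [AddCommGroup X₂] [AddCommGroup X₃]
  [AddCommGroup X₁''] [AddCommGroup X₂''] [AddCommGroup X₃'']
  [Module A X₁'] [Module A X₂'] [Module A X₃']
  [Module A X₁] [Module A X₂] [Module A X₃]
  [Module A X₁''] [Module A X₂''] [Module A X₃'']

/-- the middle row of a `3 × 3` diagram is exact when the outer rows are -/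
lemma exact_middle
    (f' : X₁' →ₗ[A] X₂') (g' : X₂' →ₗ[A] X₃') (f : X₁ →ₗ[A] X₂) (g : X₂ →ₗ[A] X₃)
    (f'' : X₁'' →ₗ[A] X₂'') (g'' : X₂'' →ₗ[A] X₃'')
    (i₁ : X₁' →ₗ[A] X₁) (i₂ : X₂' →ₗ[A] X₂) (i₃ : X₃' →ₗ[A] X₃)
    (p₁ : X₁ →ₗ[A] X₁'') (p₂ : X₂ →ₗ[A] X₂'') (p₃ : X₃ →ₗ[A] X₃'')
    (hi₁ : ∀ x, i₂ (f' x) = f (i₁ x)) (hi₂ : ∀ x, i₃ (g' x) = g (i₂ x))
    (hp₁ : ∀ x, p₂ (f x) = f'' (p₁ x)) (hp₂ : ∀ x, p₃ (g x) = g'' (p₂ x))
    (hgf : ∀ x, g (f x) = 0) (h' : Function.Exact f' g') (h'' : Function.Exact f'' g'')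
    (hp₁s : Function.Surjective p₁) (hex₂ : Function.Exact i₂ p₂)
    (hi₃ : Function.Injective i₃) : Function.Exact f g := by
  intro x
  constructor
  · intro hx
    have h1 : g'' (p₂ x) = 0 := by rw [← hp₂, hx, map_zero]
    obtain ⟨y'', hy''⟩ := (h'' _).1 h1
    obtain ⟨y, rfl⟩ := hp₁s y''
    have h2 : p₂ (x - f y) = 0 := by rw [map_sub, hp₁, hy'', sub_self]
    obtain ⟨x', hx'⟩ := (hex₂ _).1 h2
    have h3 : i₃ (g' x') = 0 := by rw [hi₂, hx', map_sub, hx, hgf, sub_self]
    have h4 : g' x' = 0 := hi₃ (h3.trans (map_zero _).symm)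
    obtain ⟨y', rfl⟩ := (h' _).1 h4
    refine ⟨y + i₁ y', ?_⟩
    rw [map_add, ← hi₁, hx']
    abel
  · rintro ⟨y, rfl⟩
    exact hgf y

end Middle

section Torsion

variable {A : Type u} [CommRing A]

/-- tensoring a surjection whose kernel lies in `J • ⊤` with a module killed by `J` is
bijective -/
lemma bijective_rTensor_of_ker_le (J : Ideal A) {X Y : Type u} [AddCommGroup X] [Module A X]
    [AddCommGroup Y] [Module A Y] (π : X →ₗ[A] Y) (hπ : Function.Surjective π)
    (hker : LinearMap.ker π ≤ J • (⊤ : Submodule A X))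
    (N : Type u) [AddCommGroup N] [Module A N] (hN : ∀ j ∈ J, ∀ x : N, j • x = 0) :
    Function.Bijective (π.rTensor N) := by
  refine ⟨?_, LinearMap.rTensor_surjective N hπ⟩
  have hex : Function.Exact ((LinearMap.ker π).subtype.rTensor N) (π.rTensor N) :=
    rTensor_exact N (LinearMap.exact_subtype_ker_map π) hπ
  rw [injective_iff_map_eq_zero]
  intro z hz
  obtain ⟨w, rfl⟩ := (hex z).1 hz
  have key : ∀ x ∈ J • (⊤ : Submodule A X), ∀ n : N, x ⊗ₜ[A] n = 0 := by
    intro x hx n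
    refine Submodule.smul_induction_on hx ?_ ?_
    · intro j hj y _
      rw [TensorProduct.smul_tmul, hN j hj, tmul_zero]
    · intro x y hx hy
      rw [add_tmul, hx, hy, add_zero]
  induction w using TensorProduct.induction_on with
  | zero => simp
  | tmul k n =>
    rw [LinearMap.rTensor_tmul]
    exact key _ (hker k.2) n
  | add x y hx hy =>
    rw [map_add, hx ((hex _).2 ⟨x, rfl⟩), hy ((hex _).2 ⟨y, rfl⟩), add_zero]


/-- transfer of exactness along bijections -/
lemma exact_of_bijective_ladder {M₁ M₂ M₃ N₁ N₂ N₃ : Type*} [AddCommGroup M₁] [AddCommGroup M₂]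
    [AddCommGroup M₃] [AddCommGroup N₁] [AddCommGroup N₂] [AddCommGroup N₃]
    (f₁ : M₁ →+ M₂) (f₂ : M₂ →+ M₃) (g₁ : N₁ →+ N₂) (g₂ : N₂ →+ N₃)
    (e₁ : M₁ →+ N₁) (e₂ : M₂ →+ N₂) (e₃ : M₃ →+ N₃)
    (he₁ : Function.Surjective e₁) (he₂ : Function.Injective e₂) (he₃ : Function.Injective e₃)
    (h₁ : ∀ x, e₂ (f₁ x) = g₁ (e₁ x)) (h₂ : ∀ x, e₃ (f₂ x) = g₂ (e₂ x))
    (H : Function.Exact g₁ g₂) : Function.Exact f₁ f₂ := by
  intro y
  constructor
  · intro hy
    have h3 : g₂ (e₂ y) = 0 := by rw [← h₂, hy, map_zero]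
    obtain ⟨z, hz⟩ := (H (e₂ y)).1 h3
    obtain ⟨x, rfl⟩ := he₁ z
    refine ⟨x, he₂ ?_⟩
    rw [h₁, hz]
  · rintro ⟨x, rfl⟩
    apply he₃
    rw [h₂, h₁, map_zero]
    exact (H _).2 ⟨e₁ x, rfl⟩

variable (J : Ideal A)
  (X : ℕ → Type u) [∀ n, AddCommGroup (X n)] [∀ n, Module A (X n)]
  (d : ∀ n, X (n + 1) →ₗ[A] X n)
  (Y : ℕ → Type u) [∀ n, AddCommGroup (Y n)] [∀ n, Module A (Y n)]
  [∀ n, Module (A ⧸ J) (Y n)] [∀ n, IsScalarTower A (A ⧸ J) (Y n)]
  (δ : ∀ n, Y (n + 1) →ₗ[A ⧸ J] Y n)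
  (π : ∀ n, X n →ₗ[A] Y n)

lemma compatibleSMul_quot (M N : Type*) [AddCommGroup M] [AddCommGroup N] [Module A M]
    [Module A N] [Module (A ⧸ J) M] [Module (A ⧸ J) N] [IsScalarTower A (A ⧸ J) M]
    [IsScalarTower A (A ⧸ J) N] : TensorProduct.CompatibleSMul A (A ⧸ J) M N := by
  refine ⟨fun r m n => ?_⟩
  obtain ⟨a, rfl⟩ := Ideal.Quotient.mk_surjective r
  have h1 : (Ideal.Quotient.mk J a) • m = a • m := by
    rw [← Ideal.Quotient.algebraMap_eq, algebraMap_smul]
  have h2 : (Ideal.Quotient.mk J a) • n = a • n := by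
    rw [← Ideal.Quotient.algebraMap_eq, algebraMap_smul]
  rw [h1, h2, TensorProduct.smul_tmul]

/-- base case: tensoring with a module killed by `J` -/
theorem exact_rTensor_of_torsion
    (hπ : ∀ n, Function.Surjective (π n))
    (hker : ∀ n, LinearMap.ker (π n) ≤ J • (⊤ : Submodule A (X n)))
    (hcomm : ∀ n x, π n (d n x) = δ n (π (n + 1) x))
    (hex : ∀ n, Function.Exact (δ (n + 1)) (δ n)) (hfl : ∀ n, Module.Flat (A ⧸ J) (Y n))
    (h0 : Module.Flat (A ⧸ J) (Y 0 ⧸ LinearMap.range (δ 0)))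
    (N : Type u) [AddCommGroup N] [Module A N] (hN : ∀ j ∈ J, ∀ x : N, j • x = 0) (n : ℕ) :
    Function.Exact ((d (n + 1)).rTensor N) ((d n).rTensor N) := by
  have htors : Module.IsTorsionBySet A N (J : Set A) := fun x a => hN a.1 a.2 x
  letI : Module (A ⧸ J) N := htors.module
  haveI : IsScalarTower A (A ⧸ J) N := htors.isScalarTower
  have key := Groth.Agent.Helper3.KosBC.exact_rTensor Y δ hex hfl h0 N n
  haveI : ∀ m, TensorProduct.CompatibleSMul A (A ⧸ J) (Y m) N :=
    fun m => compatibleSMul_quot J (Y m) N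
  -- the comparison maps
  let E : ∀ m, X m ⊗[A] N →+ Y m ⊗[A ⧸ J] N := fun m =>
    ((TensorProduct.equivOfCompatibleSMul A (A ⧸ J) A (Y m) N).symm.toLinearMap ∘ₗ
      ((π m).rTensor N)).toAddMonoidHom
  have hE : ∀ m, Function.Bijective (E m) := fun m =>
    (TensorProduct.equivOfCompatibleSMul A (A ⧸ J) A (Y m) N).symm.bijective.comp
      (bijective_rTensor_of_ker_le J (π m) (hπ m) (hker m) N hN)
  have hEt : ∀ m (x : X m) (y : N), E m (x ⊗ₜ[A] y) = (π m x) ⊗ₜ[A ⧸ J] y := fun m x y => rfl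
  have hnat : ∀ m (z : X (m + 1) ⊗[A] N),
      E m (((d m).rTensor N) z) = ((δ m).rTensor N) (E (m + 1) z) := by
    intro m z
    induction z using TensorProduct.induction_on with
    | zero => simp
    | tmul x y =>
      rw [LinearMap.rTensor_tmul, hEt, hEt, LinearMap.rTensor_tmul, hcomm]
    | add x y hx hy => simp only [map_add, hx, hy]
  exact exact_of_bijective_ladder ((d (n + 1)).rTensor N).toAddMonoidHom
    ((d n).rTensor N).toAddMonoidHom ((δ (n + 1)).rTensor N).toAddMonoidHom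
    ((δ n).rTensor N).toAddMonoidHom (E (n + 1 + 1)) (E (n + 1)) (E n)
    (hE _).2 (hE _).1 (hE _).1 (hnat (n + 1)) (hnat n) key


end Torsion

section Devissage

variable {A : Type u} [CommRing A] (J : Ideal A)
  (X : ℕ → Type u) [∀ n, AddCommGroup (X n)] [∀ n, Module A (X n)]
  (d : ∀ n, X (n + 1) →ₗ[A] X n)

/-- dévissage: from modules killed by `J` to modules killed by a power of `J` -/
theorem exact_rTensor_of_pow (hflX : ∀ n, Module.Flat A (X n))
    (hdd : ∀ n x, d n (d (n + 1) x) = 0)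
    (hbase : ∀ (N : Type u) [AddCommGroup N] [Module A N], (∀ j ∈ J, ∀ x : N, j • x = 0) →
      ∀ n, Function.Exact ((d (n + 1)).rTensor N) ((d n).rTensor N)) :
    ∀ (k : ℕ) (N : Type u) [AddCommGroup N] [Module A N], (∀ j ∈ J ^ k, ∀ x : N, j • x = 0) →
      ∀ n, Function.Exact ((d (n + 1)).rTensor N) ((d n).rTensor N)
  | 0, N, _, _, hN, n => by
    haveI : Subsingleton N := ⟨fun x y => by
      have hx := hN 1 (by simp) x
      have hy := hN 1 (by simp) y
      rw [one_smul] at hx hy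
      rw [hx, hy]⟩
    intro y
    have hy : y = 0 := Subsingleton.elim _ _
    subst hy
    exact ⟨fun _ => ⟨0, map_zero _⟩, fun _ => map_zero _⟩
  | k + 1, N, _, _, hN, n => by
    obtain ⟨P, hP⟩ : ∃ P : Submodule A N, P = J • (⊤ : Submodule A N) := ⟨_, rfl⟩
    have h' : ∀ m, Function.Exact ((d (m + 1)).rTensor P) ((d m).rTensor P) := by
      refine exact_rTensor_of_pow hflX hdd hbase k P ?_
      intro j hj x
      apply Subtype.ext
      show j • (x : N) = 0
      have hx : (x : N) ∈ J • (⊤ : Submodule A N) := hP ▸ x.2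
      refine Submodule.smul_induction_on hx ?_ ?_
      · intro a ha y _
        rw [smul_smul]
        exact hN _ (by rw [pow_succ]; exact Ideal.mul_mem_mul hj ha) y
      · intro x y hx hy
        rw [smul_add, hx, hy, add_zero]
    have h'' : ∀ m, Function.Exact ((d (m + 1)).rTensor (N ⧸ P)) ((d m).rTensor (N ⧸ P)) := by
      refine hbase (N ⧸ P) ?_
      intro j hj x
      obtain ⟨y, rfl⟩ := Submodule.Quotient.mk_surjective P x
      rw [← Submodule.Quotient.mk_smul, Submodule.Quotient.mk_eq_zero, hP]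
      exact Submodule.smul_mem_smul hj Submodule.mem_top
    haveI := hflX
    refine exact_middle ((d (n + 1)).rTensor P) ((d n).rTensor P)
      ((d (n + 1)).rTensor N) ((d n).rTensor N)
      ((d (n + 1)).rTensor (N ⧸ P)) ((d n).rTensor (N ⧸ P))
      (P.subtype.lTensor (X (n + 1 + 1))) (P.subtype.lTensor (X (n + 1))) (P.subtype.lTensor (X n))
      (P.mkQ.lTensor (X (n + 1 + 1))) (P.mkQ.lTensor (X (n + 1))) (P.mkQ.lTensor (X n))
      ?_ ?_ ?_ ?_ ?_ (h' n) (h'' n) ?_ ?_ ?_
    · intro x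
      rw [← LinearMap.comp_apply, ← LinearMap.comp_apply, LinearMap.lTensor_comp_rTensor,
        LinearMap.rTensor_comp_lTensor]
    · intro x
      rw [← LinearMap.comp_apply, ← LinearMap.comp_apply, LinearMap.lTensor_comp_rTensor,
        LinearMap.rTensor_comp_lTensor]
    · intro x
      rw [← LinearMap.comp_apply, ← LinearMap.comp_apply, LinearMap.lTensor_comp_rTensor,
        LinearMap.rTensor_comp_lTensor]
    · intro x
      rw [← LinearMap.comp_apply, ← LinearMap.comp_apply, LinearMap.lTensor_comp_rTensor,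
        LinearMap.rTensor_comp_lTensor]
    · intro x
      rw [← LinearMap.comp_apply, ← LinearMap.rTensor_comp]
      have : d n ∘ₗ d (n + 1) = 0 := LinearMap.ext (hdd n)
      rw [this, LinearMap.rTensor_zero, LinearMap.zero_apply]
    · exact LinearMap.lTensor_surjective _ (Submodule.mkQ_surjective P)
    · exact lTensor_exact _ (LinearMap.exact_subtype_mkQ P) (Submodule.mkQ_surjective P)
    · exact Module.Flat.lTensor_preserves_injective_linearMap _ (Submodule.injective_subtype P)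

/-- the case of the ring itself -/
theorem exact_of_exact_rTensor_self (n : ℕ)
    (h : Function.Exact ((d (n + 1)).rTensor A) ((d n).rTensor A)) :
    Function.Exact (d (n + 1)) (d n) := by
  refine exact_of_bijective_ladder (d (n + 1)).toAddMonoidHom (d n).toAddMonoidHom
    ((d (n + 1)).rTensor A).toAddMonoidHom ((d n).rTensor A).toAddMonoidHom
    (TensorProduct.rid A (X (n + 1 + 1))).symm.toLinearMap.toAddMonoidHom
    (TensorProduct.rid A (X (n + 1))).symm.toLinearMap.toAddMonoidHom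
    (TensorProduct.rid A (X n)).symm.toLinearMap.toAddMonoidHom
    (LinearEquiv.surjective _) (LinearEquiv.injective _) (LinearEquiv.injective _) ?_ ?_ h
  · intro x
    show (TensorProduct.rid A (X (n + 1))).symm (d (n + 1) x) =
      ((d (n + 1)).rTensor A) ((TensorProduct.rid A (X (n + 1 + 1))).symm x)
    simp
  · intro x
    show (TensorProduct.rid A (X n)).symm (d n x) =
      ((d n).rTensor A) ((TensorProduct.rid A (X (n + 1))).symm x)
    simp


/-- flatness of the cokernel from exactness after all tensor products -/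
theorem flat_coker_of_exact_rTensor (hflX : ∀ n, Module.Flat A (X n))
    (hdd : ∀ n x, d n (d (n + 1) x) = 0)
    (hstar : ∀ (N : Type u) [AddCommGroup N] [Module A N] (n : ℕ),
      Function.Exact ((d (n + 1)).rTensor N) ((d n).rTensor N)) :
    Module.Flat A (X 0 ⧸ LinearMap.range (d 0)) := by
  haveI := hflX
  rw [Module.Flat.iff_lTensor_injective']
  intro I
  obtain ⟨q, hq⟩ : ∃ q : X 0 →ₗ[A] X 0 ⧸ LinearMap.range (d 0), q = (LinearMap.range (d 0)).mkQ :=
    ⟨_, rfl⟩
  have hqs : Function.Surjective q := hq ▸ Submodule.mkQ_surjective _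
  have hqe : Function.Exact (d 0) q := by
    rw [hq]
    exact LinearMap.exact_map_mkQ_range (d 0)
  rw [injective_iff_map_eq_zero]
  intro c' hc'
  -- step 1
  obtain ⟨x', rfl⟩ := LinearMap.rTensor_surjective I hqs c'
  -- step 2
  have h2 : (q.rTensor A) ((I.subtype.lTensor (X 0)) x') = 0 := by
    rw [← LinearMap.comp_apply, LinearMap.rTensor_comp_lTensor, ← LinearMap.lTensor_comp_rTensor,
      LinearMap.comp_apply]
    exact hc'
  obtain ⟨y, hy⟩ := (rTensor_exact A hqe hqs _).1 h2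
  -- step 3
  have h3 : ((d 0).rTensor (A ⧸ I)) ((I.mkQ.lTensor (X (0 + 1))) y) = 0 := by
    rw [← LinearMap.comp_apply, LinearMap.rTensor_comp_lTensor, ← LinearMap.lTensor_comp_rTensor,
      LinearMap.comp_apply, hy, ← LinearMap.comp_apply, ← LinearMap.lTensor_comp]
    have : I.mkQ ∘ₗ I.subtype = 0 := by
      ext x
      exact Ideal.Quotient.eq_zero_iff_mem.2 x.2
    rw [this, LinearMap.lTensor_zero, LinearMap.zero_apply]
  -- step 4
  obtain ⟨z'', hz''⟩ := (hstar (A ⧸ I) 0 _).1 h3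
  obtain ⟨z, rfl⟩ := LinearMap.lTensor_surjective (X (0 + 1 + 1)) (Submodule.mkQ_surjective I) z''
  -- step 5
  have h5 : (I.mkQ.lTensor (X (0 + 1))) (y - ((d (0 + 1)).rTensor A) z) = 0 := by
    rw [map_sub, ← hz'', ← LinearMap.comp_apply, ← LinearMap.comp_apply,
      LinearMap.rTensor_comp_lTensor, ← LinearMap.lTensor_comp_rTensor, sub_self]
  obtain ⟨y', hy'⟩ := (lTensor_exact (X (0 + 1)) (LinearMap.exact_subtype_mkQ I)
    (Submodule.mkQ_surjective I) _).1 h5
  -- step 6
  have h6 : (I.subtype.lTensor (X 0)) (((d 0).rTensor I) y') = (I.subtype.lTensor (X 0)) x' := by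
    rw [← LinearMap.comp_apply, LinearMap.lTensor_comp_rTensor, ← LinearMap.rTensor_comp_lTensor,
      LinearMap.comp_apply, hy', map_sub, hy, ← LinearMap.comp_apply, ← LinearMap.rTensor_comp]
    have : d 0 ∘ₗ d (0 + 1) = 0 := LinearMap.ext (hdd 0)
    rw [this, LinearMap.rTensor_zero, LinearMap.zero_apply, sub_zero]
  have h7 : ((d 0).rTensor I) y' = x' :=
    Module.Flat.lTensor_preserves_injective_linearMap _ (Submodule.injective_subtype I) h6
  -- step 7
  rw [← h7, ← LinearMap.comp_apply, ← LinearMap.rTensor_comp]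
  have : q ∘ₗ d 0 = 0 := LinearMap.ext (fun x => hqe.apply_apply_eq_zero x)
  rw [this, LinearMap.rTensor_zero, LinearMap.zero_apply]

end Devissage

section Main

variable {A : Type u} [CommRing A] (J : Ideal A)
  (X : ℕ → Type u) [∀ n, AddCommGroup (X n)] [∀ n, Module A (X n)]
  (d : ∀ n, X (n + 1) →ₗ[A] X n)
  (Y : ℕ → Type u) [∀ n, AddCommGroup (Y n)] [∀ n, Module A (Y n)]
  [∀ n, Module (A ⧸ J) (Y n)] [∀ n, IsScalarTower A (A ⧸ J) (Y n)]
  (δ : ∀ n, Y (n + 1) →ₗ[A ⧸ J] Y n)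
  (π : ∀ n, X n →ₗ[A] Y n)

/-- lifting exactness and flatness of the cokernel along a nilpotent ideal -/
theorem exact_and_flat_of_nilpotent (k : ℕ) (hJ : J ^ k = ⊥)
    (hflX : ∀ n, Module.Flat A (X n)) (hdd : ∀ n x, d n (d (n + 1) x) = 0)
    (hπ : ∀ n, Function.Surjective (π n))
    (hker : ∀ n, LinearMap.ker (π n) ≤ J • (⊤ : Submodule A (X n)))
    (hcomm : ∀ n x, π n (d n x) = δ n (π (n + 1) x))
    (hex : ∀ n, Function.Exact (δ (n + 1)) (δ n)) (hfl : ∀ n, Module.Flat (A ⧸ J) (Y n))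
    (h0 : Module.Flat (A ⧸ J) (Y 0 ⧸ LinearMap.range (δ 0))) :
    (∀ n, Function.Exact (d (n + 1)) (d n)) ∧ Module.Flat A (X 0 ⧸ LinearMap.range (d 0)) := by
  have hstar : ∀ (N : Type u) [AddCommGroup N] [Module A N] (n : ℕ),
      Function.Exact ((d (n + 1)).rTensor N) ((d n).rTensor N) := by
    intro N _ _ n
    refine exact_rTensor_of_pow J X d hflX hdd ?_ k N ?_ n
    · intro N' _ _ hN' m
      exact exact_rTensor_of_torsion J X d Y δ π hπ hker hcomm hex hfl h0 N' hN' m
    · intro j hj x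
      rw [hJ, Ideal.mem_bot] at hj
      rw [hj, zero_smul]
  exact ⟨fun n => exact_of_exact_rTensor_self X d n (hstar A n),
    flat_coker_of_exact_rTensor X d hflX hdd hstar⟩

end Main

end Groth.Agent.Lib.Helper4.KosLift1
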