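import Mathlib
import Groth.Prelude.Def_LCI2
import Groth.Prelude.Def_ega3
import Groth.Agent.Lib.Helper3.KosBC5
import Groth.Agent.Lib.Helper1.CxLift
import Groth.Agent.Lib.Helper4.KosLift1

/-!
# Lifting Koszul-regular sequences with flat quotient along a nilpotent ideal of the base (helper4)
-/

set_option backward.isDefEq.respectTransparency.types false
set_option synthInstance.maxHeartbeats 400000
set_option autoImplicit false
set_option linter.unusedSectionVars false
set_option linter.style.haveILetI false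
set_option linter.unusedSimpArgs false
universe u v w
open CategoryTheory CategoryTheory.Limits CochainComplex CohIII TensorProduct
open Groth.Agent.Helper8.KoszulLib Groth.Agent.Helper5.FlatBC Groth.Agent.Helper3.KosBC
open Groth.Agent.Lib.Helper4.KosLift1

namespace Groth.Agent.Lib.Helper4.KosLift2

section Data

variable (A R : Type u) [CommRing A] [CommRing R] [Algebra A R]

/-- the terms of the Koszul complex as `A`-modules, indexed homologically -/
noncomputable abbrev KX (l : List R) (n : ℕ) : Type u :=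
  (UA A R).obj ((koszulCx (ModuleCat.of R R) l).X (-(n : ℤ)))

/-- the differentials of the Koszul complex as `A`-linear maps -/
noncomputable abbrev Kd (l : List R) (n : ℕ) : KX A R l (n + 1) →ₗ[A] KX A R l n :=
  ((UA A R).map ((koszulCx (ModuleCat.of R R) l).d (-((n + 1 : ℕ) : ℤ)) (-(n : ℤ)))).hom

lemma Kd_comp (l : List R) (n : ℕ) (x : KX A R l (n + 1 + 1)) :
    Kd A R l n (Kd A R l (n + 1) x) = 0 := by
  have h := (koszulCx (ModuleCat.of R R) l).d_comp_d (-((n + 1 + 1 : ℕ) : ℤ))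
    (-((n + 1 : ℕ) : ℤ)) (-(n : ℤ))
  have h2 := congrArg (fun f => f.hom x) h
  exact h2

lemma exact_Kd_iff (l : List R) :
    (∀ n, Function.Exact (Kd A R l (n + 1)) (Kd A R l n)) ↔ LCI.IsKoszulRegularSeq R l := by
  rw [isKoszulRegularSeq_iff]
  constructor
  · intro h j hj
    rcases lt_or_gt_of_ne hj with hneg | hpos
    · obtain ⟨n, rfl⟩ : ∃ n : ℕ, j = -((n + 1 : ℕ) : ℤ) := ⟨(-j - 1).toNat, by omega⟩
      exact (exact_iff_isZero_homology (koszulCx (ModuleCat.of R R) l) (-((n + 1 + 1 : ℕ) : ℤ))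
        (-((n + 1 : ℕ) : ℤ)) (-(n : ℤ)) (by push_cast; ring) (by push_cast; ring)).1 (h n)
    · exact isZero_homology_of_pos _ _ j hpos
  · intro h n
    exact (exact_iff_isZero_homology (koszulCx (ModuleCat.of R R) l) (-((n + 1 + 1 : ℕ) : ℤ))
      (-((n + 1 : ℕ) : ℤ)) (-(n : ℤ)) (by push_cast; ring) (by push_cast; ring)).2 (h _ (by
        have : (0 : ℤ) < ((n + 1 : ℕ) : ℤ) := by positivity
        omega))

/-- the cokernel of the last Koszul differential is the quotient by the ideal -/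
lemma nonempty_coker_equiv (l : List R) :
    Nonempty ((KX A R l 0 ⧸ LinearMap.range (Kd A R l 0)) ≃ₗ[A] (R ⧸ Ideal.ofList l)) := by
  obtain ⟨K, hK⟩ : ∃ K, K = koszulCx (ModuleCat.of R R) l := ⟨_, rfl⟩
  have hsub : Subsingleton (K.X (-((0 : ℕ) : ℤ) + 1)) := by
    rw [hK]
    exact subsingleton_koszulCx_X (ModuleCat.of R R) l _ (Or.inr (by norm_num))
  have hd : K.d (-((0 : ℕ) : ℤ)) (-((0 : ℕ) : ℤ) + 1) = 0 :=
    (ModuleCat.isZero_of_subsingleton _).eq_of_tgt _ _
  obtain ⟨e₁⟩ := nonempty_coker_equiv_homology K (-((0 + 1 : ℕ) : ℤ)) (-((0 : ℕ) : ℤ))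
    (-((0 : ℕ) : ℤ) + 1) (by norm_num) rfl hd
  obtain ⟨e₂⟩ : Nonempty (K.homology (-((0 : ℕ) : ℤ)) ≃ₗ[R] (R ⧸ Ideal.ofList l)) := by
    rw [hK]
    exact nonempty_homology_equiv_of_eq_zero R l (-((0 : ℕ) : ℤ)) (by norm_num)
  let qR : K.X (-((0 : ℕ) : ℤ)) →ₗ[R] (R ⧸ Ideal.ofList l) :=
    (e₁ ≪≫ₗ e₂).toLinearMap ∘ₗ (LinearMap.range (K.d (-((0 + 1 : ℕ) : ℤ)) (-((0 : ℕ) : ℤ))).hom).mkQ
  have hqR : Function.Surjective qR :=
    (e₁ ≪≫ₗ e₂).surjective.comp (Submodule.mkQ_surjective _)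
  have hkR : ∀ x, qR x = 0 ↔
      x ∈ LinearMap.range (K.d (-((0 + 1 : ℕ) : ℤ)) (-((0 : ℕ) : ℤ))).hom := by
    intro x
    show (e₁ ≪≫ₗ e₂) (Submodule.mkQ _ x) = 0 ↔ _
    rw [LinearEquiv.map_eq_zero_iff, Submodule.mkQ_apply, Submodule.Quotient.mk_eq_zero]
  subst hK
  let q : KX A R l 0 →ₗ[A] (R ⧸ Ideal.ofList l) :=
    { toFun := fun x => qR x
      map_add' := fun x y => map_add qR x y
      map_smul' := fun a x => by
        show qR (algebraMap A R a • (show (koszulCx (ModuleCat.of R R) l).X (-((0 : ℕ) : ℤ)) from x))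
          = a • qR x
        rw [map_smul, algebraMap_smul] }
  have hq : Function.Surjective q := hqR
  have hk : LinearMap.ker q = LinearMap.range (Kd A R l 0) := by
    ext x
    rw [LinearMap.mem_ker]
    exact hkR x
  exact ⟨(Submodule.quotEquivOfEq _ _ hk.symm).trans (LinearMap.quotKerEquivOfSurjective q hq)⟩

end Data

section Eta

variable {B : Type u} [CommRing B] (I : Ideal B)

/-- comparison of the extension of scalars with the usual tensor product -/
noncomputable def eqv' (M : ModuleCat.{u} B) :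
    (B ⧸ I) ⊗[B] M ≃ₗ[B ⧸ I] ((Ef (R := B) (B ⧸ I)).obj M) :=
  eqv (B ⧸ I) M

/-- the unit `M → (B ⧸ I) ⊗_B M` -/
noncomputable def eta (M : ModuleCat.{u} B) (x : M) : (Ef (R := B) (B ⧸ I)).obj M :=
  eqv' I M ((1 : B ⧸ I) ⊗ₜ[B] x)

lemma eta_add (M : ModuleCat.{u} B) (x y : M) : eta I M (x + y) = eta I M x + eta I M y := by
  unfold eta
  rw [tmul_add, map_add]

lemma eta_smul (M : ModuleCat.{u} B) (b : B) (x : M) :
    eta I M (b • x) = (Ideal.Quotient.mk I b) • eta I M x := by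
  unfold eta
  rw [← map_smul]
  congr 1
  rw [TensorProduct.smul_tmul', ← TensorProduct.smul_tmul]
  congr 1

lemma eta_surjective (M : ModuleCat.{u} B) : Function.Surjective (eta I M) := by
  intro y
  obtain ⟨z, rfl⟩ := (eqv' I M).surjective y
  induction z using TensorProduct.induction_on with
  | zero => exact ⟨0, by unfold eta; rw [tmul_zero]⟩
  | tmul s m =>
    obtain ⟨b, rfl⟩ := Ideal.Quotient.mk_surjective s
    refine ⟨b • m, ?_⟩
    rw [eta_smul]
    unfold eta
    rw [← map_smul, TensorProduct.smul_tmul', smul_eq_mul, mul_one]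
  | add x y hx hy =>
    obtain ⟨a, ha⟩ := hx
    obtain ⟨b, hb⟩ := hy
    exact ⟨a + b, by rw [eta_add, ha, hb, map_add]⟩

lemma mem_of_eta_eq_zero (M : ModuleCat.{u} B) (x : M) (hx : eta I M x = 0) :
    x ∈ I • (⊤ : Submodule B M) := by
  unfold eta at hx
  rw [LinearEquiv.map_eq_zero_iff] at hx
  have h := congrArg (TensorProduct.quotTensorEquivQuotSMul M I) hx
  rw [TensorProduct.quotTensorEquivQuotSMul_mk_one_tmul, map_zero,
    Submodule.Quotient.mk_eq_zero] at h
  exact h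

open ChangeOfRings in
lemma eta_natural {M N : ModuleCat.{u} B} (g : M ⟶ N) (x : M) :
    ((Ef (R := B) (B ⧸ I)).map g).hom (eta I M x) = eta I N (g.hom x) :=
  ModuleCat.ExtendScalars.map_tmul _ _ _ _

end Eta

section SmulTop

variable (A : Type u) {B : Type u} [CommRing A] [CommRing B] [Algebra A B] (J : Ideal A)

lemma mem_smul_top_UA (M : ModuleCat.{u} B) (x : M)
    (hx : x ∈ (J.map (algebraMap A B)) • (⊤ : Submodule B M)) :
    toUA A B M x ∈ J • (⊤ : Submodule A ((UA A B).obj M)) := by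
  have key : ∀ r ∈ J.map (algebraMap A B), ∀ m : M,
      toUA A B M (r • m) ∈ J • (⊤ : Submodule A ((UA A B).obj M)) := by
    intro r hr
    refine Submodule.span_induction ?_ ?_ ?_ ?_ hr
    · rintro _ ⟨j, hj, rfl⟩ m
      exact Submodule.smul_mem_smul (N := (⊤ : Submodule A ((UA A B).obj M))) hj
        (Submodule.mem_top (x := toUA A B M m))
    · intro m
      rw [zero_smul]
      exact Submodule.zero_mem _
    · intro r s _ _ hr hs m
      rw [add_smul]
      exact Submodule.add_mem _ (hr m) (hs m)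
    · intro b r _ hr m
      rw [smul_eq_mul, mul_comm, mul_smul]
      exact hr (b • m)
  refine Submodule.smul_induction_on hx ?_ ?_
  · intro r hr m _
    exact key r hr m
  · intro x y hx hy
    exact Submodule.add_mem _ hx hy

end SmulTop

section Lift

variable (A B : Type u) [CommRing A] [CommRing B] [Algebra A B] [Module.Flat A B] (J : Ideal A)

/-- lifting Koszul-regularity with flat quotient along a nilpotent ideal of the base -/
theorem koszul_lift_nilpotent (k : ℕ) (hJ : J ^ k = ⊥) (rs : List B)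
    (hreg : LCI.IsKoszulRegularSeq (B ⧸ J.map (algebraMap A B))
      (rs.map (Ideal.Quotient.mk (J.map (algebraMap A B)))))
    (hflat : Module.Flat (A ⧸ J) ((B ⧸ J.map (algebraMap A B)) ⧸
      Ideal.ofList (rs.map (Ideal.Quotient.mk (J.map (algebraMap A B)))))) :
    LCI.IsKoszulRegularSeq B rs ∧ Module.Flat A (B ⧸ Ideal.ofList rs) := by
  haveI : Module.Flat (A ⧸ J) (B ⧸ J.map (algebraMap A B)) :=
    Groth.Agent.Helper1.CxLift.flat_quot_map J
  -- the complex over `A ⧸ J`
  have hexY := (exact_Kd_iff (A ⧸ J) (B ⧸ J.map (algebraMap A B))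
    (rs.map (Ideal.Quotient.mk (J.map (algebraMap A B))))).2 hreg
  have hflY : ∀ n : ℕ, Module.Flat (A ⧸ J) (KX (A ⧸ J) (B ⧸ J.map (algebraMap A B))
      (rs.map (Ideal.Quotient.mk (J.map (algebraMap A B)))) n) :=
    fun n => flat_koszulCx_X (A ⧸ J) (B ⧸ J.map (algebraMap A B)) _ _
  obtain ⟨eY⟩ := nonempty_coker_equiv (A ⧸ J) (B ⧸ J.map (algebraMap A B))
    (rs.map (Ideal.Quotient.mk (J.map (algebraMap A B))))
  have h0Y : Module.Flat (A ⧸ J) (KX (A ⧸ J) (B ⧸ J.map (algebraMap A B))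
      (rs.map (Ideal.Quotient.mk (J.map (algebraMap A B)))) 0 ⧸
      LinearMap.range (Kd (A ⧸ J) (B ⧸ J.map (algebraMap A B))
        (rs.map (Ideal.Quotient.mk (J.map (algebraMap A B)))) 0)) :=
    Module.Flat.of_linearEquiv eY
  -- the `A`-module structure
  letI instA : ∀ n : ℕ, Module A (KX (A ⧸ J) (B ⧸ J.map (algebraMap A B))
      (rs.map (Ideal.Quotient.mk (J.map (algebraMap A B)))) n) :=
    fun n => Module.compHom _ (algebraMap A (A ⧸ J))
  haveI instT : ∀ n : ℕ, IsScalarTower A (A ⧸ J) (KX (A ⧸ J) (B ⧸ J.map (algebraMap A B))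
      (rs.map (Ideal.Quotient.mk (J.map (algebraMap A B)))) n) :=
    fun n => ⟨fun a b y => by
      show (algebraMap A (A ⧸ J) a * b) • y = algebraMap A (A ⧸ J) a • (b • y)
      rw [mul_smul]⟩
  -- the comparison of the Koszul complexes
  obtain ⟨e⟩ : Nonempty ((Ec (R := B) (B ⧸ J.map (algebraMap A B))).obj
      (koszulCx (ModuleCat.of B B) rs) ≅
      koszulCx (ModuleCat.of (B ⧸ J.map (algebraMap A B)) (B ⧸ J.map (algebraMap A B)))
        (rs.map (Ideal.Quotient.mk (J.map (algebraMap A B))))) :=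
    nonempty_map_koszulCx_iso (Ef (R := B) (B ⧸ J.map (algebraMap A B))) (ModuleCat.of B B)
      (ModuleCat.of (B ⧸ J.map (algebraMap A B)) (B ⧸ J.map (algebraMap A B)))
      (EfUnitIso B (B ⧸ J.map (algebraMap A B))) rs _
      (forall₂_compat_Ef B (B ⧸ J.map (algebraMap A B)) rs)
  let π : ∀ n : ℕ, KX A B rs n →ₗ[A] KX (A ⧸ J) (B ⧸ J.map (algebraMap A B))
      (rs.map (Ideal.Quotient.mk (J.map (algebraMap A B)))) n := fun n =>
    { toFun := fun x => toUA (A ⧸ J) (B ⧸ J.map (algebraMap A B)) _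
        ((e.hom.f (-(n : ℤ))).hom (eta (J.map (algebraMap A B))
          ((koszulCx (ModuleCat.of B B) rs).X (-(n : ℤ))) x))
      map_add' := fun x y =>
        (congrArg (e.hom.f (-(n : ℤ))).hom (eta_add (J.map (algebraMap A B))
          ((koszulCx (ModuleCat.of B B) rs).X (-(n : ℤ))) x y)).trans
          (map_add (e.hom.f (-(n : ℤ))).hom _ _)
      map_smul' := fun a x =>
        (congrArg (e.hom.f (-(n : ℤ))).hom (eta_smul (J.map (algebraMap A B))
          ((koszulCx (ModuleCat.of B B) rs).X (-(n : ℤ))) (algebraMap A B a) x)).trans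
          (map_smul (e.hom.f (-(n : ℤ))).hom _ _) }
  have hbij : ∀ i : ℤ, Function.Bijective (e.hom.f i).hom := fun i =>
    (((HomologicalComplex.eval _ _ i).mapIso e).toLinearEquiv).bijective
  have hπ : ∀ n, Function.Surjective (π n) := fun n =>
    (hbij _).2.comp (eta_surjective (J.map (algebraMap A B)) _)
  have hker : ∀ n, LinearMap.ker (π n) ≤ J • (⊤ : Submodule A (KX A B rs n)) := by
    intro n x hx
    rw [LinearMap.mem_ker] at hx
    have h1 : eta (J.map (algebraMap A B)) ((koszulCx (ModuleCat.of B B) rs).X (-(n : ℤ))) x = 0 :=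
      (hbij _).1 (hx.trans (map_zero (e.hom.f (-(n : ℤ))).hom).symm)
    exact mem_smul_top_UA A J _ _ (mem_of_eta_eq_zero _ _ _ h1)
  have hcomm : ∀ n x, π n (Kd A B rs n x) =
      Kd (A ⧸ J) (B ⧸ J.map (algebraMap A B))
        (rs.map (Ideal.Quotient.mk (J.map (algebraMap A B)))) n (π (n + 1) x) := by
    intro n x
    have h1 := eta_natural (J.map (algebraMap A B))
      ((koszulCx (ModuleCat.of B B) rs).d (-((n + 1 : ℕ) : ℤ)) (-(n : ℤ))) x
    have h2 := e.hom.comm (-((n + 1 : ℕ) : ℤ)) (-(n : ℤ))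
    have h3 := congrArg (fun f => f.hom (eta (J.map (algebraMap A B))
      ((koszulCx (ModuleCat.of B B) rs).X (-((n + 1 : ℕ) : ℤ))) x)) h2
    show (e.hom.f (-(n : ℤ))).hom (eta (J.map (algebraMap A B)) _
      (((koszulCx (ModuleCat.of B B) rs).d (-((n + 1 : ℕ) : ℤ)) (-(n : ℤ))).hom x)) = _
    rw [← h1]
    exact h3.symm
  obtain ⟨h1, h2⟩ := exact_and_flat_of_nilpotent J (KX A B rs) (Kd A B rs)
    (KX (A ⧸ J) (B ⧸ J.map (algebraMap A B)) (rs.map (Ideal.Quotient.mk (J.map (algebraMap A B)))))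
    (Kd (A ⧸ J) (B ⧸ J.map (algebraMap A B)) (rs.map (Ideal.Quotient.mk (J.map (algebraMap A B)))))
    π k hJ (fun n => flat_koszulCx_X A B rs _) (Kd_comp A B rs) hπ hker hcomm hexY hflY h0Y
  refine ⟨(exact_Kd_iff A B rs).1 h1, ?_⟩
  obtain ⟨eX⟩ := nonempty_coker_equiv A B rs
  exact Module.Flat.of_linearEquiv eX.symm

theorem S8368_main (A B : Type u) [CommRing A] [CommRing B] [Algebra A B]
    [Module.Flat A B] (J : Ideal A) (hJ : J * J = ⊥) (rs : List B)
    (hreg : LCI.IsKoszulRegularSeq (B ⧸ Ideal.map (algebraMap A B) J)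
      (rs.map (Ideal.Quotient.mk (Ideal.map (algebraMap A B) J))))
    (hflat : Module.Flat (A ⧸ J) ((B ⧸ Ideal.map (algebraMap A B) J) ⧸
      Ideal.ofList (rs.map (Ideal.Quotient.mk (Ideal.map (algebraMap A B) J))))) :
    LCI.IsKoszulRegularSeq B rs ∧ Module.Flat A (B ⧸ Ideal.ofList rs) :=
  koszul_lift_nilpotent A B J 2 (by rw [pow_two, hJ]) rs hreg hflat

end Lift

end Groth.Agent.Lib.Helper4.KosLift2
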