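import Mathlib
import Groth.Prelude.Def_LCI2
import Groth.Agent.Lib.Helper4.KosLift2

/-!
# Lifting Koszul-regular sequences over Artinian local rings; ideals with flat quotient are generated by lifts (helper4)
-/

set_option backward.isDefEq.respectTransparency.types false
set_option synthInstance.maxHeartbeats 400000
set_option autoImplicit false
set_option linter.unusedSectionVars false
set_option linter.style.haveILetI false
set_option linter.unusedSimpArgs false
universe u v w
open TensorProduct
open Groth.Agent.Lib.Helper4.KosLift2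

namespace Groth.Agent.Lib.Helper4.KosLift3

section InfMul

variable {A R : Type u} [CommRing A] [CommRing R] [Algebra A R]

/-- the multiplication map `I ⊗ R → R` -/
noncomputable def muI (I : Ideal A) : I ⊗[A] R →ₗ[A] R :=
  (TensorProduct.lid A R).toLinearMap ∘ₗ (I.subtype.rTensor R)

lemma muI_tmul (I : Ideal A) (a : I) (r : R) : muI I (a ⊗ₜ[A] r) = (a : A) • r := by
  unfold muI
  simp

lemma map_le_range_muI (I : Ideal A) (z : R) (hz : z ∈ I.map (algebraMap A R)) :
    ∃ t : I ⊗[A] R, muI I t = z := by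
  have hmul : ∀ (r : R) (t : I ⊗[A] R), ∃ t' : I ⊗[A] R, muI I t' = r * muI I t := by
    intro r t
    refine ⟨(LinearMap.lTensor I (LinearMap.mulLeft A r)) t, ?_⟩
    induction t using TensorProduct.induction_on with
    | zero => simp
    | tmul a s =>
      rw [LinearMap.lTensor_tmul, muI_tmul, muI_tmul, LinearMap.mulLeft_apply, mul_smul_comm]
    | add x y hx hy => rw [map_add, map_add, hx, hy, map_add, mul_add]
  refine Submodule.span_induction ?_ ?_ ?_ ?_ hz
  · rintro _ ⟨a, ha, rfl⟩
    exact ⟨(⟨a, ha⟩ : I) ⊗ₜ[A] (1 : R), by rw [muI_tmul, Algebra.smul_def, mul_one]⟩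
  · exact ⟨0, map_zero _⟩
  · rintro x y _ _ ⟨t, rfl⟩ ⟨s, rfl⟩
    exact ⟨t + s, map_add _ _ _⟩
  · rintro r x _ ⟨t, rfl⟩
    exact hmul r t

/-- if `R ⧸ J'` is flat over `A` then `J' ⊓ IR ≤ IR * J'` -/
theorem inf_map_le_mul_of_flat (I : Ideal A) (J' : Ideal R) [Module.Flat A (R ⧸ J')] :
    J' ⊓ I.map (algebraMap A R) ≤ I.map (algebraMap A R) * J' := by
  have h4 : ∀ s : I ⊗[A] (J'.restrictScalars A),
      muI I (((J'.restrictScalars A).subtype.lTensor I) s) ∈ I.map (algebraMap A R) * J' := by
    intro s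
    induction s using TensorProduct.induction_on with
    | zero => simp
    | tmul a y =>
      rw [LinearMap.lTensor_tmul, muI_tmul, Algebra.smul_def]
      exact Ideal.mul_mem_mul (Ideal.mem_map_of_mem _ a.2) y.2
    | add x y hx hy =>
      rw [map_add, map_add]
      exact Ideal.add_mem _ hx hy
  rintro z ⟨hz1, hz2⟩
  obtain ⟨t, rfl⟩ := map_le_range_muI I z hz2
  obtain ⟨q, hq⟩ : ∃ q : R →ₗ[A] R ⧸ J', q = (Ideal.Quotient.mkₐ A J').toLinearMap := ⟨_, rfl⟩
  have hqs : Function.Surjective q := by
    rw [hq]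
    exact Ideal.Quotient.mk_surjective
  have hqe : Function.Exact (J'.restrictScalars A).subtype q := by
    intro x
    rw [hq]
    constructor
    · intro hx
      exact ⟨⟨x, Ideal.Quotient.eq_zero_iff_mem.1 hx⟩, rfl⟩
    · rintro ⟨y, rfl⟩
      exact Ideal.Quotient.eq_zero_iff_mem.2 y.2
  -- step 2
  have h2 : (I.subtype.rTensor (R ⧸ J')) ((q.lTensor I) t) = 0 := by
    apply (TensorProduct.lid A (R ⧸ J')).injective
    rw [map_zero, ← LinearMap.comp_apply, LinearMap.rTensor_comp_lTensor,
      ← LinearMap.lTensor_comp_rTensor, LinearMap.comp_apply]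
    have : ∀ w : A ⊗[A] R, (TensorProduct.lid A (R ⧸ J')) ((q.lTensor A) w) =
        q ((TensorProduct.lid A R) w) := by
      intro w
      induction w using TensorProduct.induction_on with
      | zero => simp
      | tmul a s => simp
      | add x y hx hy => simp only [map_add, hx, hy]
    rw [this]
    have h3 : q (muI I t) = 0 := by
      rw [hq]
      exact Ideal.Quotient.eq_zero_iff_mem.2 hz1
    exact h3
  have h3 : (q.lTensor I) t = 0 :=
    Module.Flat.rTensor_preserves_injective_linearMap _ (Submodule.injective_subtype I)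
      (h2.trans (map_zero _).symm)
  obtain ⟨s, rfl⟩ := (lTensor_exact I hqe hqs t).1 h3
  exact h4 s

end InfMul

section Main

/-- an ideal contained in `J'' ⊔ N * J'` with `N` nilpotent and `J'' ≤ J'` -/
lemma le_of_le_sup_mul_nilpotent {R : Type u} [CommRing R] (N J' J'' : Ideal R) (k : ℕ)
    (hN : N ^ k = ⊥) (h : J' ≤ J'' ⊔ N * J') : J' ≤ J'' := by
  have key : ∀ n : ℕ, J' ≤ J'' ⊔ N ^ n * J' := by
    intro n
    induction n with
    | zero => rw [pow_zero, one_mul]; exact le_sup_right
    | succ n ih =>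
      refine ih.trans (sup_le le_sup_left ?_)
      calc N ^ n * J' ≤ N ^ n * (J'' ⊔ N * J') := Ideal.mul_mono_right h
        _ = N ^ n * J'' ⊔ N ^ n * (N * J') := Ideal.mul_sup _ _ _
        _ ≤ J'' ⊔ N ^ (n + 1) * J' := by
          refine sup_le_sup Ideal.mul_le_right ?_
          rw [← mul_assoc, ← pow_succ]
  have := key k
  rwa [hN, Ideal.bot_mul, sup_bot_eq] at this

theorem S13972_main
    {A' : Type u} [CommRing A'] [IsLocalRing A'] [IsArtinianRing A'] (I : Ideal A') (hI : I ≠ ⊤)
    {R' : Type u} [CommRing R'] [Algebra A' R'] [IsNoetherianRing R'] [Module.Flat A' R']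
    (r : ℕ) (f : Fin r → R' ⧸ I.map (algebraMap A' R'))
    (hf : LCI.IsKoszulRegularSeq (R' ⧸ I.map (algebraMap A' R')) (List.ofFn f))
    [hfl : Module.Flat (A' ⧸ I) ((R' ⧸ I.map (algebraMap A' R')) ⧸ Ideal.span (Set.range f))] :
    (∀ f' : Fin r → R', (∀ i, Ideal.Quotient.mk (I.map (algebraMap A' R')) (f' i) = f i) →
        Module.Flat A' (R' ⧸ Ideal.span (Set.range f')) ∧ LCI.IsKoszulRegularSeq R' (List.ofFn f')) ∧
    (∀ (J' : Ideal R'), Module.Flat A' (R' ⧸ J') →
        J'.map (Ideal.Quotient.mk (I.map (algebraMap A' R'))) = Ideal.span (Set.range f) →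
        ∀ f' : Fin r → R', (∀ i, f' i ∈ J') →
          (∀ i, Ideal.Quotient.mk (I.map (algebraMap A' R')) (f' i) = f i) →
          J' = Ideal.span (Set.range f')) := by
  -- nilpotence of `I`
  obtain ⟨k, hk⟩ : ∃ k : ℕ, I ^ k = ⊥ := by
    obtain ⟨k, hk⟩ := IsArtinianRing.isNilpotent_jacobson_bot (R := A')
    refine ⟨k, ?_⟩
    rw [← le_bot_iff, ← Ideal.zero_eq_bot, ← hk]
    refine Ideal.pow_right_mono ?_ k
    rw [IsLocalRing.jacobson_eq_maximalIdeal ⊥ bot_ne_top]
    exact IsLocalRing.le_maximalIdeal hI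
  have hofFn : ∀ {S : Type u} [CommRing S] {n : ℕ} (g : Fin n → S),
      Ideal.ofList (List.ofFn g) = Ideal.span (Set.range g) := by
    intro S _ n g
    unfold Ideal.ofList
    congr 1
    ext x
    simp [List.mem_ofFn]
  constructor
  · intro f' hf'
    have hmap : (List.ofFn f').map (Ideal.Quotient.mk (I.map (algebraMap A' R'))) = List.ofFn f := by
      rw [List.map_ofFn]
      congr 1
      funext i
      exact hf' i
    have h := koszul_lift_nilpotent A' R' I k hk (List.ofFn f') (by rw [hmap]; exact hf)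
      (by rw [hmap, hofFn]; exact hfl)
    rw [hofFn] at h
    exact ⟨h.2, h.1⟩
  · intro J' hJ' hmapJ f' hmem hf'
    refine le_antisymm ?_ (Ideal.span_le.2 (by rintro _ ⟨i, rfl⟩; exact hmem i))
    refine le_of_le_sup_mul_nilpotent (I.map (algebraMap A' R')) J' _ k ?_ ?_
    · rw [← Ideal.map_pow, hk, Ideal.map_bot]
    · intro x hx
      -- the image of `x` lies in the image of `span (range f')`
      have h1 : Ideal.Quotient.mk (I.map (algebraMap A' R')) x ∈
          (Ideal.span (Set.range f')).map (Ideal.Quotient.mk (I.map (algebraMap A' R'))) := by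
        have h2 : (Ideal.span (Set.range f')).map (Ideal.Quotient.mk (I.map (algebraMap A' R'))) =
            Ideal.span (Set.range f) := by
          rw [Ideal.map_span]
          congr 1
          ext y
          constructor
          · rintro ⟨_, ⟨i, rfl⟩, rfl⟩
            exact ⟨i, (hf' i).symm⟩
          · rintro ⟨i, rfl⟩
            exact ⟨f' i, ⟨i, rfl⟩, hf' i⟩
        rw [h2, ← hmapJ]
        exact Ideal.mem_map_of_mem _ hx
      obtain ⟨y, hy, hxy⟩ := (Ideal.mem_map_iff_of_surjective _ Ideal.Quotient.mk_surjective).1 h1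
      have h3 : x - y ∈ I.map (algebraMap A' R') := by
        rw [← Ideal.Quotient.eq_zero_iff_mem, map_sub, hxy, sub_self]
      have h4 : x - y ∈ J' := J'.sub_mem hx
        ((Ideal.span_le.2 (by rintro _ ⟨i, rfl⟩; exact hmem i) : Ideal.span (Set.range f') ≤ J') hy)
      have h5 := inf_map_le_mul_of_flat I J' ⟨h4, h3⟩
      have : x = y + (x - y) := by ring
      rw [this]
      exact Ideal.add_mem _ (Ideal.mem_sup_left hy) (Ideal.mem_sup_right h5)

end Main

end Groth.Agent.Lib.Helper4.KosLift3
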