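import Mathlib
import Groth.Agent.Lib.Helper4.UnramDescent1

/-!
# Finite type descends along etale surjections on the source (S1179, S1180) (helper4)
-/

set_option backward.isDefEq.respectTransparency.types false
set_option synthInstance.maxHeartbeats 400000
set_option autoImplicit false
set_option linter.unusedSectionVars false
set_option linter.style.haveILetI false
set_option linter.unusedSimpArgs false
universe u v w
open PrimeSpectrum TensorProduct AlgebraicGeometry CategoryTheory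

namespace Groth.Agent.Lib.Helper4.EtaleDescFT1


/-- If `Q ⊗ C₀ = 0` with `C₀` flat over `A₀`, then the annihilator of any element of `Q` is not
contained in the contraction of any prime of `C₀`. -/
theorem torsionOf_not_le_under {A₀ C₀ Q : Type*} [CommRing A₀] [CommRing C₀] [Algebra A₀ C₀]
    [Module.Flat A₀ C₀] [AddCommGroup Q] [Module A₀ Q] (hQ : Subsingleton (Q ⊗[A₀] C₀)) (q : Q)
    (P : Ideal C₀) [P.IsPrime] : ¬ (Ideal.torsionOf A₀ Q q ≤ P.under A₀) := by
  intro hle
  set 𝔞 := Ideal.torsionOf A₀ Q q with h𝔞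
  let j : (A₀ ⧸ 𝔞) →ₗ[A₀] Q :=
    (Submodule.subtype _).comp (Ideal.quotTorsionOfEquivSpanSingleton A₀ Q q).toLinearMap
  have hj : Function.Injective j :=
    (Submodule.injective_subtype _).comp (Ideal.quotTorsionOfEquivSpanSingleton A₀ Q q).injective
  have h1 : Function.Injective (j.rTensor C₀) :=
    Module.Flat.rTensor_preserves_injective_linearMap j hj
  have h2 : Subsingleton ((A₀ ⧸ 𝔞) ⊗[A₀] C₀) := h1.subsingleton
  have h3 : Subsingleton (C₀ ⧸ (𝔞 • ⊤ : Submodule A₀ C₀)) :=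
    (TensorProduct.quotTensorEquivQuotSMul C₀ 𝔞).symm.injective.subsingleton
  have h4 : (𝔞 • ⊤ : Submodule A₀ C₀) = ⊤ := Submodule.Quotient.subsingleton_iff.mp h3
  have h5 : (𝔞 • ⊤ : Submodule A₀ C₀) ≤ P.restrictScalars A₀ := by
    rw [Submodule.smul_le]
    intro a ha c _
    have : algebraMap A₀ C₀ a ∈ P := hle ha
    rw [Submodule.restrictScalars_mem, Algebra.smul_def]
    exact P.mul_mem_right _ this
  have h6 : (1 : C₀) ∈ P := by
    have : (1 : C₀) ∈ (𝔞 • ⊤ : Submodule A₀ C₀) := by rw [h4]; exact Submodule.mem_top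
    exact h5 this
  exact ‹P.IsPrime›.ne_top ((Ideal.eq_top_iff_one _).mpr h6)




/-- Descent of surjectivity over the image of a flat algebra: if `M₁ ⊗ C₀ → A ⊗ C₀` is surjective
and `D(h)` is contained in the image of `Spec C₀`, then every element of `A` is multiplied into
`M₁` by a power of `h`. -/
theorem exists_pow_smul_mem {A₀ C₀ A : Type*} [CommRing A₀] [CommRing C₀] [Algebra A₀ C₀]
    [Module.Flat A₀ C₀] [AddCommGroup A] [Module A₀ A] (M₁ : Submodule A₀ A)
    (hsurj : Function.Surjective (M₁.subtype.rTensor C₀)) (h : A₀)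
    (hh : (basicOpen h : Set (PrimeSpectrum A₀)) ⊆ Set.range (comap (algebraMap A₀ C₀))) (a : A) :
    ∃ N : ℕ, h ^ N • a ∈ M₁ := by
  have hQ : Subsingleton ((A ⧸ M₁) ⊗[A₀] C₀) := by
    refine ⟨fun x y => ?_⟩
    have h0 : ∀ z : (A ⧸ M₁) ⊗[A₀] C₀, z = 0 := by
      intro z
      obtain ⟨t, rfl⟩ := LinearMap.rTensor_surjective C₀ M₁.mkQ_surjective z
      obtain ⟨t₁, rfl⟩ := hsurj t
      rw [← LinearMap.comp_apply, ← LinearMap.rTensor_comp]
      have : M₁.mkQ.comp M₁.subtype = 0 := by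
        ext m; simp
      rw [this, LinearMap.rTensor_zero, LinearMap.zero_apply]
    rw [h0 x, h0 y]
  set 𝔞 := Ideal.torsionOf A₀ (A ⧸ M₁) (M₁.mkQ a) with h𝔞
  have h1 : zeroLocus (𝔞 : Set A₀) ⊆ zeroLocus {h} := by
    intro p hp
    by_contra hcon
    have hpD : p ∈ (basicOpen h : Set (PrimeSpectrum A₀)) := by
      rw [SetLike.mem_coe, mem_basicOpen]
      intro hmem
      apply hcon
      rw [mem_zeroLocus, Set.singleton_subset_iff]
      exact hmem
    obtain ⟨P, rfl⟩ := hh hpD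
    exact torsionOf_not_le_under hQ (M₁.mkQ a) P.asIdeal
      (by rw [mem_zeroLocus, SetLike.coe_subset_coe] at hp; exact hp)
  rw [← zeroLocus_span {h}, zeroLocus_subset_zeroLocus_iff, Ideal.span_le,
    Set.singleton_subset_iff, SetLike.mem_coe] at h1
  obtain ⟨N, hN⟩ := h1
  refine ⟨N, ?_⟩
  rw [h𝔞, Ideal.mem_torsionOf_iff] at hN
  rwa [← map_smul, Submodule.mkQ_apply, Submodule.Quotient.mk_eq_zero] at hN



/-- Every tensor is a combination of pure tensors with first factor in a finite set. -/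
theorem exists_finset_span_tmul {A₀ A C₀ : Type*} [CommRing A₀] [AddCommGroup A] [Module A₀ A]
    [AddCommGroup C₀] [Module A₀ C₀] (t : A ⊗[A₀] C₀) :
    ∃ F : Finset A, t ∈ Submodule.span A₀ {x | ∃ a ∈ F, ∃ c : C₀, a ⊗ₜ[A₀] c = x} := by
  classical
  induction t using TensorProduct.induction_on with
  | zero => exact ⟨∅, Submodule.zero_mem _⟩
  | tmul a c => exact ⟨{a}, Submodule.subset_span ⟨a, by simp, c, rfl⟩⟩
  | add x y hx hy =>
    obtain ⟨F, hF⟩ := hx
    obtain ⟨G, hG⟩ := hy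
    refine ⟨F ∪ G, Submodule.add_mem _ ?_ ?_⟩
    · refine Submodule.span_mono ?_ hF
      rintro _ ⟨a, ha, c, rfl⟩
      exact ⟨a, Finset.mem_union_left _ ha, c, rfl⟩
    · refine Submodule.span_mono ?_ hG
      rintro _ ⟨a, ha, c, rfl⟩
      exact ⟨a, Finset.mem_union_right _ ha, c, rfl⟩

/-- The range of `M₁ ⊗ C₀ → A ⊗ C₀` is closed under multiplication when `M₁` is (the underlying
submodule of) a subring. -/
theorem mul_mem_range_rTensor {A₀ A C₀ : Type*} [CommRing A₀] [CommRing A] [Algebra A₀ A]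
    [CommRing C₀] [Algebra A₀ C₀] (M₁ : Submodule A₀ A)
    (hmul : ∀ a ∈ M₁, ∀ b ∈ M₁, a * b ∈ M₁) (x y : A ⊗[A₀] C₀)
    (hx : x ∈ LinearMap.range (M₁.subtype.rTensor C₀))
    (hy : y ∈ LinearMap.range (M₁.subtype.rTensor C₀)) :
    x * y ∈ LinearMap.range (M₁.subtype.rTensor C₀) := by
  obtain ⟨u, rfl⟩ := hx
  obtain ⟨v, rfl⟩ := hy
  induction u using TensorProduct.induction_on with
  | zero => simp
  | add u₁ u₂ h₁ h₂ => rw [map_add, add_mul]; exact Submodule.add_mem _ h₁ h₂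
  | tmul m c =>
    induction v using TensorProduct.induction_on with
    | zero => simp
    | add v₁ v₂ h₁ h₂ => rw [map_add, mul_add]; exact Submodule.add_mem _ h₁ h₂
    | tmul m' c' =>
      refine ⟨⟨m.1 * m'.1, hmul _ m.2 _ m'.2⟩ ⊗ₜ (c * c'), ?_⟩
      simp [LinearMap.rTensor_tmul, Algebra.TensorProduct.tmul_mul_tmul]




/-- Core: with a flat finitely presented model `C₀` over a f.g. subalgebra `A₀`. -/
theorem fg_top_of_model {R : Type*} {A C₀ : Type*} [CommRing R] [CommRing A] [Algebra R A]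
    (A₀ : Subalgebra R A) [CommRing C₀] [Algebra A₀ C₀] [Module.Flat A₀ C₀]
    [Algebra.FinitePresentation A₀ C₀] (hA₀ : A₀.FG)
    [Module.FaithfullyFlat A (A ⊗[A₀] C₀)] [Algebra.FiniteType R (A ⊗[A₀] C₀)] :
    (⊤ : Subalgebra R A).FG := by
  classical
  -- the open quasi-compact image
  have hopen : IsOpenMap (comap (algebraMap A₀ C₀)) :=
    isOpenMap_comap_of_hasGoingDown_of_finitePresentation
  obtain ⟨t, ht⟩ := (isCompact_isOpen_iff (s := Set.range (comap (algebraMap A₀ C₀)))).mp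
    ⟨isCompact_range (continuous_comap _), hopen.isOpen_range⟩
  -- Spec A lands in the image
  have hland : ∀ 𝔭 : PrimeSpectrum A,
      comap (algebraMap A₀ A) 𝔭 ∈ Set.range (comap (algebraMap A₀ C₀)) := by
    intro 𝔭
    obtain ⟨𝔓, h𝔓⟩ := PrimeSpectrum.comap_surjective_of_faithfullyFlat (A := A)
      (B := A ⊗[A₀] C₀) 𝔭
    refine ⟨comap (Algebra.TensorProduct.includeRight (R := A₀) (A := A) (B := C₀)).toRingHom 𝔓, ?_⟩
    rw [← h𝔓, ← PrimeSpectrum.comap_comp_apply, ← PrimeSpectrum.comap_comp_apply]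
    congr 1
    ext s
    simp only [RingHom.comp_apply, AlgHom.toRingHom_eq_coe, RingHom.coe_coe,
      Algebra.TensorProduct.includeRight_apply, Algebra.TensorProduct.algebraMap_apply]
    rw [Algebra.algebraMap_eq_smul_one (A := C₀), TensorProduct.tmul_smul,
      Algebra.algebraMap_eq_smul_one (A := A), TensorProduct.smul_tmul']
    congr 1
  -- the elements of `t` generate the unit ideal of `A`
  have hspan : Ideal.span ((fun h : A₀ => (h : A)) '' (t : Set A₀)) = ⊤ := by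
    by_contra hne
    obtain ⟨𝔪, h𝔪, hle⟩ := Ideal.exists_le_maximal _ hne
    have h1 := hland ⟨𝔪, h𝔪.isPrime⟩
    rw [← ht, Set.mem_compl_iff, mem_zeroLocus] at h1
    apply h1
    intro h hh
    exact hle (Ideal.subset_span ⟨h, hh, rfl⟩)
  have h1mem : (1 : A) ∈ Submodule.span A ((fun h : A₀ => (h : A)) '' (t : Set A₀)) := by
    change (1 : A) ∈ Ideal.span _
    rw [hspan]; trivial
  rw [Submodule.mem_span_image_finset_iff_exists_fun'] at h1mem
  obtain ⟨cf, hcf⟩ := h1mem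
  -- generators
  obtain ⟨S, hS⟩ := (inferInstance : Algebra.FiniteType R (A ⊗[A₀] C₀)).out
  choose F hF using fun γ : A ⊗[A₀] C₀ => exists_finset_span_tmul (A₀ := A₀) γ
  let G : Finset A := S.biUnion F ∪ t.image cf
  let A₁ : Subalgebra R A := A₀ ⊔ Algebra.adjoin R (G : Set A)
  have hle : A₀ ≤ A₁ := le_sup_left
  have hG : ∀ x ∈ G, x ∈ A₁ := fun x hx =>
    (le_sup_right : _ ≤ A₁) (Algebra.subset_adjoin (Finset.mem_coe.mpr hx))
  have hA₁ : A₁.FG := hA₀.sup (Subalgebra.fg_adjoin_finset G)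
  let M₁ : Submodule A₀ A :=
    { carrier := A₁
      add_mem' := A₁.add_mem
      zero_mem' := A₁.zero_mem
      smul_mem' := fun s a ha => by
        rw [Algebra.smul_def]
        exact A₁.mul_mem (hle s.2) ha }
  have hM₁ : ∀ a, a ∈ M₁ ↔ a ∈ A₁ := fun a => Iff.rfl
  have hsurj : Function.Surjective (M₁.subtype.rTensor C₀) := by
    intro x
    have hx : x ∈ Algebra.adjoin R (S : Set (A ⊗[A₀] C₀)) := by rw [hS]; trivial
    change x ∈ LinearMap.range (M₁.subtype.rTensor C₀)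
    induction hx using Algebra.adjoin_induction with
    | mem γ hγ =>
      refine Submodule.span_le.mpr ?_ (hF γ)
      rintro _ ⟨a, ha, c, rfl⟩
      have haG : a ∈ G := Finset.mem_union_left _ (Finset.mem_biUnion.mpr ⟨γ, hγ, ha⟩)
      exact ⟨⟨a, hG a haG⟩ ⊗ₜ c, by simp⟩
    | algebraMap r =>
      refine ⟨⟨algebraMap R A r, A₁.algebraMap_mem r⟩ ⊗ₜ 1, ?_⟩
      simp [Algebra.TensorProduct.algebraMap_apply]
    | add x y _ _ hx hy => exact Submodule.add_mem _ hx hy
    | mul x y _ _ hx hy =>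
      exact mul_mem_range_rTensor M₁ (fun a ha b hb => A₁.mul_mem ha hb) x y hx hy
  suffices A₁ = ⊤ by rw [← this]; exact hA₁
  rw [eq_top_iff]
  intro a _
  have hpow : ∀ h ∈ t, ∃ N : ℕ, h ^ N • a ∈ M₁ := fun h hh =>
    exists_pow_smul_mem M₁ hsurj h (by
      rw [← ht]
      intro p hp
      rw [Set.mem_compl_iff, mem_zeroLocus]
      intro hsub
      exact hp (hsub hh)) a
  choose! Nf hNf using hpow
  let n := t.sup Nf
  have hn : ∀ h ∈ t, ((h : A)) ^ n * a ∈ A₁ := by
    intro h hh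
    have h1 : Nf h ≤ n := Finset.le_sup hh
    have h2 : ((h : A)) ^ (Nf h) * a ∈ A₁ := by
      have := hNf h hh
      rw [hM₁, Algebra.smul_def] at this
      exact this
    have h3 : (h : A) ^ n * a = (h : A) ^ (n - Nf h) * ((h : A) ^ (Nf h) * a) := by
      rw [← mul_assoc, ← pow_add, Nat.sub_add_cancel h1]
    rw [h3]
    exact A₁.mul_mem (A₁.pow_mem (hle h.2) _) h2
  -- the ideal of `A₁` multiplying `a` into `A₁`
  let J : Ideal A₁ :=
    { carrier := {s | (s : A) * a ∈ A₁}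
      add_mem' := fun {x y} hx hy => by
        simp only [Set.mem_ofPred_eq, Subalgebra.coe_add, add_mul] at *
        exact A₁.add_mem hx hy
      zero_mem' := by simp
      smul_mem' := fun c x hx => by
        simp only [Set.mem_ofPred_eq, smul_eq_mul, Subalgebra.coe_mul, mul_assoc] at *
        exact A₁.mul_mem c.2 hx }
  let c' : A₀ → A₁ := fun h => if hh : h ∈ t then ⟨cf h, hG _ (Finset.mem_union_right _
    (Finset.mem_image_of_mem cf hh))⟩ else 0
  let ι₁ : A₀ → A₁ := fun h => ⟨(h : A), hle h.2⟩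
  have hsum : ∑ h ∈ t, c' h * ι₁ h = 1 := by
    apply Subtype.ext
    rw [← A₁.val_apply, map_sum, Subalgebra.coe_one, ← hcf]
    refine Finset.sum_congr rfl fun h hh => ?_
    simp [c', ι₁, hh]
  have hspan₁ : Ideal.span (ι₁ '' (t : Set A₀)) = ⊤ := by
    rw [Ideal.eq_top_iff_one, ← hsum]
    exact Ideal.sum_mem _ fun h hh =>
      Ideal.mul_mem_left _ _ (Ideal.subset_span ⟨h, hh, rfl⟩)
  have hJ : J = ⊤ := by
    rw [eq_top_iff, ← Ideal.span_pow_eq_top _ hspan₁ n, Ideal.span_le]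
    rintro _ ⟨_, ⟨h, hh, rfl⟩, rfl⟩
    exact hn h hh
  have h1J : (1 : A₁) ∈ J := by rw [hJ]; trivial
  simpa [J] using h1J


/-- Finite type descends along a faithfully flat étale extension of the middle ring. -/
theorem finiteType_of_etale_of_faithfullyFlat (R : Type*) (A C : Type u) [CommRing R] [CommRing A]
    [CommRing C] [Algebra R A] [Algebra A C] [Algebra R C] [IsScalarTower R A C]
    [Algebra.Etale A C] [Module.FaithfullyFlat A C] [Algebra.FiniteType R C] :
    Algebra.FiniteType R A := by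
  obtain ⟨A₀, C₀, _, _, hA₀, hC₀, ⟨e⟩⟩ := Algebra.Etale.exists_subalgebra_fg R A C
  haveI : Module.FaithfullyFlat A (A ⊗[A₀] C₀) :=
    Module.FaithfullyFlat.of_linearEquiv A C e.symm.toLinearEquiv
  haveI : Algebra.FiniteType R (A ⊗[A₀] C₀) :=
    Algebra.FiniteType.equiv inferInstance (e.restrictScalars R)
  exact ⟨fg_top_of_model (C₀ := C₀) A₀ hA₀⟩




variable {X' X Y : Scheme.{u}}

/-- ring-hom form -/
theorem finiteType_of_etale_comp {R A C : Type u} [CommRing R] [CommRing A] [CommRing C]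
    (φ : R →+* A) (ψ : A →+* C) (hψ : ψ.Etale)
    (hsurj : Function.Surjective (PrimeSpectrum.comap ψ)) (h : (ψ.comp φ).FiniteType) :
    φ.FiniteType := by
  algebraize [φ, ψ, ψ.comp φ]
  haveI : Module.Flat A C := inferInstance
  haveI : Module.FaithfullyFlat A C := Module.FaithfullyFlat.of_comap_surjective hsurj
  exact finiteType_of_etale_of_faithfullyFlat R A C

theorem locallyOfFiniteType_of_etale_cover (f : X' ⟶ X) (g : X ⟶ Y) [Etale f] [Surjective f]
    [LocallyOfFiniteType (f ≫ g)] : LocallyOfFiniteType g := by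
  rw [HasRingHomProperty.iff_exists_appLE (P := @LocallyOfFiniteType)
    (RingHom.finiteType_stableUnderComposition.stableUnderCompositionWithLocalizationAway
      RingHom.finiteType_holdsForLocalizationAway).left]
  intro x
  obtain ⟨x', rfl⟩ := f.surjective x
  obtain ⟨_, ⟨V, hV, rfl⟩, hyV, -⟩ :=
    Y.isBasis_affineOpens.exists_subset_of_mem_open (Set.mem_univ (g (f x'))) isOpen_univ
  obtain ⟨_, ⟨W₀, hW₀, rfl⟩, hxW₀, hW₀V0⟩ :=
    X.isBasis_affineOpens.exists_subset_of_mem_open hyV (V.2.preimage g.continuous)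
  have hW₀V : W₀ ≤ g ⁻¹ᵁ V := hW₀V0
  obtain ⟨_, ⟨W', hW', rfl⟩, hx'W', hW'W₀0⟩ :=
    X'.isBasis_affineOpens.exists_subset_of_mem_open hxW₀ (W₀.2.preimage f.continuous)
  have hW'W₀ : W' ≤ f ⁻¹ᵁ W₀ := hW'W₀0
  clear hW₀V0 hW'W₀0
  let O : X.Opens := ⟨f '' W', f.isOpenMap _ W'.2⟩
  have hxO : f x' ∈ O := ⟨x', hx'W', rfl⟩
  obtain ⟨a, haO, hxa⟩ := hW₀.exists_basicOpen_le ⟨f x', hxO⟩ hxW₀
  set W : X.Opens := X.basicOpen a with hWdef
  have hW : IsAffineOpen W := hW₀.basicOpen a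
  have hWW₀ : W ≤ W₀ := X.basicOpen_le a
  set a' := f.appLE W₀ W' hW'W₀ a with ha'
  set W'' : X'.Opens := X'.basicOpen a' with hW''def
  have hW'' : IsAffineOpen W'' := hW'.basicOpen a'
  have hW''eq : W'' = W' ⊓ f ⁻¹ᵁ W := Scheme.basicOpen_appLE f W' W₀ hW'W₀ a
  have e'' : W'' ≤ f ⁻¹ᵁ W := by rw [hW''eq]; exact inf_le_right
  have hWV : W ≤ g ⁻¹ᵁ V := hWW₀.trans hW₀V
  refine ⟨⟨V, hV⟩, ⟨W, hW⟩, hxa, hWV, ?_⟩
  have hcomp : g.appLE V W hWV ≫ f.appLE W W'' e'' = (f ≫ g).appLE V W''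
      (e''.trans ((TopologicalSpace.Opens.map f.base).map (homOfLE hWV)).le) :=
    Scheme.Hom.appLE_comp_appLE f g V W W'' hWV e''
  apply finiteType_of_etale_comp (g.appLE V W hWV).hom (f.appLE W W'' e'').hom
  · exact HasRingHomProperty.appLE (P := @Etale) f inferInstance ⟨W, hW⟩ ⟨W'', hW''⟩ e''
  · intro p
    obtain ⟨z, rfl⟩ : ∃ z : W, hW.primeIdealOf z = p :=
      ⟨hW.isoSpec.inv p, by simp [IsAffineOpen.primeIdealOf]⟩
    obtain ⟨z', hz'W', hz'⟩ := haO z.2
    have hz'W'' : z' ∈ W'' := by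
      rw [hW''eq]
      exact ⟨hz'W', by show f z' ∈ W; rw [hz']; exact z.2⟩
    refine ⟨hW''.primeIdealOf ⟨z', hz'W''⟩, ?_⟩
    rw [IsAffineOpen.comap_primeIdealOf_appLE W hW W'' hW'' e'' hz'W'']
    congr 1
    exact Subtype.ext hz'
  · rw [← CommRingCat.hom_comp, hcomp]
    exact HasRingHomProperty.appLE (P := @LocallyOfFiniteType) (f ≫ g) inferInstance ⟨V, hV⟩
      ⟨W'', hW''⟩ _





set_option backward.isDefEq.respectTransparency false in
open Groth.Agent.Lib.Helper4.UnramDescent1 in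
theorem S1180_main (f : X' ⟶ X) (g : X ⟶ Y) [Etale f] [Surjective f]
    [FormallyUnramified (f ≫ g)] [LocallyOfFiniteType (f ≫ g)] :
    FormallyUnramified g ∧ LocallyOfFiniteType g := by
  haveI := locallyOfFiniteType_of_etale_cover f g
  refine ⟨?_, inferInstance⟩
  apply HasRingHomProperty.of_stalkMap (P := @FormallyUnramified)
    RingHom.FormallyUnramified.ofLocalizationPrime
  intro x
  obtain ⟨x', rfl⟩ := f.surjective x
  have h1 := FormallyUnramified.stalkMap (f ≫ g) x'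
  have h2 := LocallyOfFiniteType.stalkMap (f ≫ g) x'
  rw [Scheme.Hom.stalkMap_comp, CommRingCat.hom_comp] at h1 h2
  exact formallyUnramified_of_flat_comp (g.stalkMap (f x')).hom (f.stalkMap x').hom
    (Flat.stalkMap f x') (LocallyOfFiniteType.stalkMap g (f x')) h2 h1

/-- A subset whose preimage under an open surjection is discrete is discrete. -/
theorem isDiscrete_of_preimage {α β : Type*} [TopologicalSpace α] [TopologicalSpace β]
    (f : α → β) (hf : IsOpenMap f) (hsurj : Function.Surjective f) (s : Set β)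
    (h : _root_.IsDiscrete (f ⁻¹' s)) : _root_.IsDiscrete s := by
  rw [isDiscrete_iff_forall_mem_exists_isOpen] at h ⊢
  intro y hy
  obtain ⟨x, rfl⟩ := hsurj y
  obtain ⟨u, hu, hus⟩ := h x hy
  refine ⟨f '' u, hf u hu, ?_⟩
  ext z
  constructor
  · rintro ⟨⟨w, hwu, rfl⟩, hz⟩
    have : w ∈ u ∩ f ⁻¹' s := ⟨hwu, hz⟩
    rw [hus] at this
    rw [Set.mem_singleton_iff] at this ⊢
    rw [this]
  · rintro rfl
    have : x ∈ u ∩ f ⁻¹' s := by rw [hus]; rfl
    exact ⟨⟨x, this.1, rfl⟩, hy⟩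

theorem S1179_main (f : X' ⟶ X) (g : X ⟶ Y) [Etale f] [Surjective f]
    [LocallyQuasiFinite (f ≫ g)] [LocallyOfFiniteType (f ≫ g)] :
    LocallyQuasiFinite g ∧ LocallyOfFiniteType g := by
  haveI := locallyOfFiniteType_of_etale_cover f g
  refine ⟨?_, inferInstance⟩
  rw [locallyQuasiFinite_iff_isDiscrete_preimage_singleton]
  intro y
  have h1 : _root_.IsDiscrete ((f ≫ g) ⁻¹' {y}) := (f ≫ g).isDiscrete_preimage_singleton y
  apply isDiscrete_of_preimage f f.isOpenMap f.surjective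
  convert h1 using 1
  ext z
  simp


end Groth.Agent.Lib.Helper4.EtaleDescFT1
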