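import Mathlib
import Groth.Prelude.Def_LCI2
import Groth.Prelude.Def_ega3
import Groth.Prelude.Def_CAlgX
import Groth.Agent.Lib.Helper8.KS3
import Groth.Agent.Lib.Helper4.KosComp1

/-!
# Koszul-regular sequences are H1-regular: low-degree description of the cone-model Koszul complex (helper4)
-/

set_option backward.isDefEq.respectTransparency.types false
set_option synthInstance.maxHeartbeats 400000
set_option autoImplicit false
set_option linter.unusedSectionVars false
set_option linter.style.haveILetI false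
set_option linter.unusedSimpArgs false
universe u v w
open CategoryTheory CategoryTheory.Limits CochainComplex CohIII
open Groth.Agent.Helper8.KoszulLib Groth.Agent.Lib.Helper4.KosComp1

namespace Groth.Agent.Lib.Helper4.KosH1

variable {A : Type u} [CommRing A]

section cone

variable {F G : CochainComplex (ModuleCat.{u} A) ℤ} (φ : F ⟶ G)

/-- first projection, general indices -/
noncomputable def fstG (i j : ℤ) (h : i + 1 = j) : (mappingCone φ).X i →ₗ[A] F.X j :=
  ((mappingCone.fst φ).1.v i j h).hom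

noncomputable def sndG (i : ℤ) : (mappingCone φ).X i →ₗ[A] G.X i :=
  ((mappingCone.snd φ).v i i (add_zero i)).hom

noncomputable def inlG (i j : ℤ) (h : i + 1 = j) : F.X j →ₗ[A] (mappingCone φ).X i :=
  ((mappingCone.inl φ).v j i (by omega)).hom

noncomputable def inrG (i : ℤ) : G.X i →ₗ[A] (mappingCone φ).X i :=
  ((mappingCone.inr φ).f i).hom

theorem fstG_inlG (i j : ℤ) (h : i + 1 = j) (x : F.X j) : fstG φ i j h (inlG φ i j h x) = x := by
  have := mappingCone.inl_v_fst_v φ j i (by omega)
  exact congrArg (fun g => g.hom x) this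

theorem sndG_inlG (i j : ℤ) (h : i + 1 = j) (x : F.X j) : sndG φ i (inlG φ i j h x) = 0 := by
  have := mappingCone.inl_v_snd_v φ j i (by omega)
  exact congrArg (fun g => g.hom x) this

theorem fstG_inrG (i j : ℤ) (h : i + 1 = j) (y : G.X i) : fstG φ i j h (inrG φ i y) = 0 := by
  have := mappingCone.inr_f_fst_v φ i j h
  exact congrArg (fun g => g.hom y) this

theorem sndG_inrG (i : ℤ) (y : G.X i) : sndG φ i (inrG φ i y) = y := by
  have := mappingCone.inr_f_snd_v φ i
  exact congrArg (fun g => g.hom y) this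

theorem eq_inlG_add_inrG (i j : ℤ) (h : i + 1 = j) (z : (mappingCone φ).X i) :
    z = inlG φ i j h (fstG φ i j h z) + inrG φ i (sndG φ i z) := by
  have := mappingCone.id_X φ i j h
  exact (congrArg (fun g => g.hom z) this).symm

/-- the terms of a cone are products, general indices -/
noncomputable def coneXEquivG (i j : ℤ) (h : i + 1 = j) : (mappingCone φ).X i ≃ₗ[A] (F.X j × G.X i) :=
  LinearEquiv.ofLinearMap ((fstG φ i j h).prod (sndG φ i)) ((inlG φ i j h).coprod (inrG φ i))
    (by
      apply LinearMap.ext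
      rintro ⟨x, y⟩
      simp only [LinearMap.comp_apply, LinearMap.coprod_apply, LinearMap.prod_apply,
        Function.prod, map_add, fstG_inlG, fstG_inrG, sndG_inlG, sndG_inrG,
        LinearMap.id_apply, Prod.mk_add_mk, add_zero, zero_add])
    (by
      apply LinearMap.ext
      intro z
      simp only [LinearMap.comp_apply, LinearMap.coprod_apply, LinearMap.prod_apply,
        Function.prod, LinearMap.id_apply]
      exact (eq_inlG_add_inrG φ i j h z).symm)

theorem coneXEquivG_apply (i j : ℤ) (h : i + 1 = j) (z : (mappingCone φ).X i) :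
    coneXEquivG φ i j h z = (fstG φ i j h z, sndG φ i z) := rfl

theorem fstG_d (i j k : ℤ) (hij : i + 1 = j) (hjk : j + 1 = k) (z : (mappingCone φ).X i) :
    fstG φ j k hjk (((mappingCone φ).d i j).hom z) = - (F.d j k).hom (fstG φ i j hij z) := by
  have := mappingCone.d_fst_v φ i j k hij hjk
  exact congrArg (fun g => g.hom z) this

theorem sndG_d (i j : ℤ) (hij : i + 1 = j) (z : (mappingCone φ).X i) :
    sndG φ j (((mappingCone φ).d i j).hom z) =
      (φ.f j).hom (fstG φ i j hij z) + (G.d i j).hom (sndG φ i z) := by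
  have := mappingCone.d_snd_v φ i j hij
  exact congrArg (fun g => g.hom z) this

end cone

section triv

variable (M : Type u) [AddCommGroup M] [Module A M]

/-- the module of trivial relations -/
def Triv {r : ℕ} (f : Fin r → A) : Submodule A (Fin r → M) :=
  Submodule.span A {v | ∃ (i j : Fin r) (m : M), v = Pi.single i (f j • m) - Pi.single j (f i • m)}

/-- the map describing the image of the differential of a cone -/
noncomputable def coneImgMap {r : ℕ} (a : A) (f : Fin r → A) :
    ((Fin r → M) × Triv M f) →ₗ[A] (Fin (r + 1) → M) where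
  toFun p := Fin.cons (-(∑ i, f i • p.1 i)) (a • p.1 + (p.2 : Fin r → M))
  map_add' p q := by
    funext k
    refine Fin.cases ?_ (fun i => ?_) k
    · simp only [Fin.cons_zero, Pi.add_apply, Prod.fst_add, smul_add, Finset.sum_add_distrib, neg_add]
    · simp only [Fin.cons_succ, Pi.add_apply, Prod.fst_add, Prod.snd_add, Submodule.coe_add, smul_add,
        Pi.smul_apply]
      abel
  map_smul' c p := by
    funext k
    refine Fin.cases ?_ (fun i => ?_) k
    · simp only [Fin.cons_zero, Pi.smul_apply, Prod.smul_fst, RingHom.id_apply, smul_neg, Finset.smul_sum]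
      congr 1
      apply Finset.sum_congr rfl
      intro i _
      rw [smul_comm]
    · simp only [Fin.cons_succ, Pi.add_apply, Pi.smul_apply, Prod.smul_fst, Prod.smul_snd,
        Submodule.coe_smul, RingHom.id_apply, smul_add]
      rw [smul_comm]

theorem single_zero_sub_mem {r : ℕ} (a : A) (f : Fin r → A) (i : Fin r) (m : M) :
    (Pi.single 0 (f i • m) - Pi.single i.succ (a • m) : Fin (r + 1) → M) ∈ Triv M (Fin.cons a f) := by
  apply Submodule.subset_span
  refine ⟨0, i.succ, m, ?_⟩
  simp only [Fin.cons_zero, Fin.cons_succ]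

theorem cons_zero_mem {r : ℕ} (a : A) (f : Fin r → A) (τ : Fin r → M) (hτ : τ ∈ Triv M f) :
    (Fin.cons 0 τ : Fin (r + 1) → M) ∈ Triv M (Fin.cons a f) := by
  induction hτ using Submodule.span_induction with
  | mem v hv =>
    obtain ⟨i, j, m, rfl⟩ := hv
    apply Submodule.subset_span
    refine ⟨i.succ, j.succ, m, ?_⟩
    funext k
    refine Fin.cases ?_ (fun k' => ?_) k
    · simp [Fin.succ_ne_zero, Pi.single_apply, Ne.symm (Fin.succ_ne_zero _)]
    · simp only [Fin.cons_succ, Pi.sub_apply, Pi.single_apply, Fin.succ_inj]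
  | zero =>
    have : (Fin.cons 0 (0 : Fin r → M) : Fin (r + 1) → M) = 0 := by
      funext k
      refine Fin.cases ?_ (fun k' => ?_) k <;> simp
    rw [this]
    exact Submodule.zero_mem _
  | add x y _ _ hx hy =>
    have : (Fin.cons 0 (x + y) : Fin (r + 1) → M) = Fin.cons 0 x + Fin.cons 0 y := by
      funext k
      refine Fin.cases ?_ (fun k' => ?_) k <;> simp
    rw [this]
    exact Submodule.add_mem _ hx hy
  | smul c x _ hx =>
    have : (Fin.cons 0 (c • x) : Fin (r + 1) → M) = c • Fin.cons 0 x := by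
      funext k
      refine Fin.cases ?_ (fun k' => ?_) k <;> simp
    rw [this]
    exact Submodule.smul_mem _ _ hx

theorem range_coneImgMap {r : ℕ} (a : A) (f : Fin r → A) :
    LinearMap.range (coneImgMap M a f) = Triv M (Fin.cons a f) := by
  apply le_antisymm
  · rintro _ ⟨⟨x, τ⟩, rfl⟩
    have hdecomp : coneImgMap M a f (x, τ) =
        -(∑ i, (Pi.single 0 (f i • x i) - Pi.single i.succ (a • x i) : Fin (r + 1) → M)) +
          Fin.cons 0 (τ : Fin r → M) := by
      funext k
      refine Fin.cases ?_ (fun k' => ?_) k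
      · simp [coneImgMap, Pi.single_apply, Ne.symm (Fin.succ_ne_zero _)]
      · simp only [coneImgMap, LinearMap.coe_mk, AddHom.coe_mk, Fin.cons_succ, Pi.add_apply, Pi.smul_apply,
          Pi.neg_apply, Finset.sum_apply, Pi.sub_apply, Pi.single_apply, Fin.succ_ne_zero, if_false,
          zero_sub, Fin.succ_inj, Finset.sum_neg_distrib, neg_neg]
        rw [Finset.sum_ite_eq Finset.univ k' (fun i => a • x i)]
        simp
    rw [hdecomp]
    refine Submodule.add_mem _ (Submodule.neg_mem _ (Submodule.sum_mem _ fun i _ => ?_)) ?_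
    · exact single_zero_sub_mem M a f i (x i)
    · exact cons_zero_mem M a f τ τ.2
  · apply Submodule.span_le.mpr
    rintro _ ⟨i, j, m, rfl⟩
    refine Fin.cases ?_ (fun i' => ?_) i
    · refine Fin.cases ?_ (fun j' => ?_) j
      · rw [sub_self]; exact Submodule.zero_mem _
      · -- (0, j'.succ)
        refine ⟨(-(Pi.single j' m : Fin r → M), 0), ?_⟩
        funext k
        refine Fin.cases ?_ (fun k' => ?_) k
        · simp [coneImgMap, Pi.single_apply, Ne.symm (Fin.succ_ne_zero _)]
        · simp [coneImgMap, Pi.single_apply, Fin.succ_ne_zero]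
    · refine Fin.cases ?_ (fun j' => ?_) j
      · -- (i'.succ, 0)
        refine ⟨((Pi.single i' m : Fin r → M), 0), ?_⟩
        funext k
        refine Fin.cases ?_ (fun k' => ?_) k
        · simp [coneImgMap, Pi.single_apply, Ne.symm (Fin.succ_ne_zero _)]
        · simp [coneImgMap, Pi.single_apply, Fin.succ_ne_zero]
      · -- (i'.succ, j'.succ)
        have hmem : (Pi.single i' (f j' • m) - Pi.single j' (f i' • m) : Fin r → M) ∈ Triv M f :=
          Submodule.subset_span ⟨i', j', m, rfl⟩
        refine ⟨(0, ⟨_, hmem⟩), ?_⟩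
        funext k
        refine Fin.cases ?_ (fun k' => ?_) k
        · simp [coneImgMap, Pi.single_apply, Ne.symm (Fin.succ_ne_zero _)]
        · simp [coneImgMap, Pi.single_apply, Fin.succ_inj]

end triv

section lowdesc

variable (M : Type u) [AddCommGroup M] [Module A M]

/-- explicit description of a complex in degrees `-2, -1, 0` in terms of a sequence -/
def LowDesc (K : CochainComplex (ModuleCat.{u} A) ℤ) {r : ℕ} (f : Fin r → A) : Prop :=
  ∃ (θ0 : K.X 0 ≃ₗ[A] M) (θ1 : K.X (-1) ≃ₗ[A] (Fin r → M)),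
    (∀ z, θ0 ((K.d (-1) 0).hom z) = ∑ i, f i • θ1 z i) ∧
    Submodule.map θ1.toLinearMap (LinearMap.range (K.d (-2) (-1)).hom) = Triv M f

theorem lowDesc_cone (L : CochainComplex (ModuleCat.{u} A) ℤ) {r : ℕ} (f : Fin r → A) (a : A)
    (h : LowDesc M L f) (h1 : Subsingleton (L.X 1)) :
    LowDesc M (mappingCone (a • 𝟙 L)) (Fin.cons a f : Fin (r + 1) → A) := by
  obtain ⟨θ0, θ1, ha, hb⟩ := h
  obtain ⟨φ, hφ⟩ : ∃ φ : L ⟶ L, φ = a • 𝟙 L := ⟨_, rfl⟩
  have hφf : ∀ (j : ℤ) (x : L.X j), (φ.f j).hom x = a • x := by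
    intro j x
    rw [hφ]
    rfl
  -- θ0'
  haveI : Unique (L.X 1) := ⟨⟨0⟩, fun x => Subsingleton.elim _ _⟩
  let θ0' : (mappingCone φ).X 0 ≃ₗ[A] M :=
    ((coneXEquivG φ 0 1 (by norm_num)).trans (LinearEquiv.uniqueProd (R := A) (M := L.X 0) (M₂ := L.X 1))).trans θ0
  have hθ0' : ∀ z, θ0' z = θ0 (sndG φ 0 z) := fun z => rfl
  let θ1' : (mappingCone φ).X (-1) ≃ₗ[A] (Fin (r + 1) → M) :=
    ((coneXEquivG φ (-1) 0 (by norm_num)).trans (LinearEquiv.prodCongr θ0 θ1)).trans
      (Fin.consLinearEquiv A (fun _ : Fin (r + 1) => M))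
  have hθ1' : ∀ z, θ1' z = Fin.cons (θ0 (fstG φ (-1) 0 (by norm_num) z)) (θ1 (sndG φ (-1) z)) :=
    fun z => rfl
  subst hφ
  refine ⟨θ0', θ1', ?_, ?_⟩
  · intro z
    rw [hθ0', sndG_d _ (-1) 0 (by norm_num), map_add, hφf, map_smul, ha, hθ1', Fin.sum_univ_succ]
    simp only [Fin.cons_zero, Fin.cons_succ]
  · rw [← range_coneImgMap]
    ext v
    constructor
    · rintro ⟨_, ⟨z, rfl⟩, rfl⟩
      change θ1' _ ∈ _
      rw [hθ1', fstG_d _ (-2) (-1) 0 (by norm_num) (by norm_num), sndG_d _ (-2) (-1) (by norm_num), hφf,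
        map_neg, ha, map_add, map_smul]
      have hmem : θ1 ((L.d (-2) (-1)).hom (sndG (a • 𝟙 L) (-2) z)) ∈ Triv M f := by
        rw [← hb]
        exact ⟨_, ⟨_, rfl⟩, rfl⟩
      exact ⟨(θ1 (fstG (a • 𝟙 L) (-2) (-1) (by norm_num) z), ⟨_, hmem⟩), rfl⟩
    · rintro ⟨⟨x, τ⟩, rfl⟩
      have hτ : (τ : Fin r → M) ∈ Submodule.map θ1.toLinearMap (LinearMap.range (L.d (-2) (-1)).hom) := by
        rw [hb]; exact τ.2
      obtain ⟨_, ⟨y₀, rfl⟩, hy₀⟩ := hτ
      obtain ⟨z, hz⟩ : ∃ z : (mappingCone (a • 𝟙 L)).X (-2), z =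
        inlG (a • 𝟙 L) (-2) (-1) (by norm_num) (θ1.symm x) + inrG (a • 𝟙 L) (-2) y₀ := ⟨_, rfl⟩
      have hz1 : fstG (a • 𝟙 L) (-2) (-1) (by norm_num) z = θ1.symm x := by
        rw [hz]
        simp only [map_add, fstG_inlG, fstG_inrG, add_zero]
      have hz2 : sndG (a • 𝟙 L) (-2) z = y₀ := by
        rw [hz]
        simp only [map_add, sndG_inlG, sndG_inrG, zero_add]
      refine ⟨_, ⟨z, rfl⟩, ?_⟩
      change θ1' _ = _
      rw [hθ1', fstG_d _ (-2) (-1) 0 (by norm_num) (by norm_num), sndG_d _ (-2) (-1) (by norm_num), hφf,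
        hz1, hz2, map_neg, ha, map_add, map_smul, LinearEquiv.apply_symm_apply]
      change _ = (Fin.cons _ _ : Fin (r + 1) → M)
      congr 2

theorem lowDesc_single :
    LowDesc M ((HomologicalComplex.single (ModuleCat.{u} A) (ComplexShape.up ℤ) 0).obj (ModuleCat.of A M))
      (Fin.elim0 : Fin 0 → A) := by
  have hz : IsZero (((HomologicalComplex.single (ModuleCat.{u} A) (ComplexShape.up ℤ) 0).obj
      (ModuleCat.of A M)).X (-1)) :=
    HomologicalComplex.isZero_single_obj_X (ComplexShape.up ℤ) 0 _ (-1) (by norm_num)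
  haveI : Subsingleton (((HomologicalComplex.single (ModuleCat.{u} A) (ComplexShape.up ℤ) 0).obj
      (ModuleCat.of A M)).X (-1)) := ModuleCat.subsingleton_of_isZero hz
  refine ⟨(HomologicalComplex.singleObjXSelf (ComplexShape.up ℤ) 0 (ModuleCat.of A M)).toLinearEquiv,
    LinearEquiv.ofSubsingleton _ _, ?_, ?_⟩
  · intro z
    rw [Subsingleton.elim z 0, map_zero, map_zero]
    simp
  · exact Subsingleton.elim _ _

theorem get_cons_eq (a : A) (l : List A) :
    (Fin.cons a l.get : Fin (l.length + 1) → A) = (a :: l).get := by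
  funext k
  refine Fin.cases ?_ (fun k' => ?_) k
  · rfl
  · rfl

theorem lowDesc_koszulCx (l : List A) : LowDesc M (koszulCx (ModuleCat.of A M) l) l.get := by
  induction l with
  | nil =>
    have := lowDesc_single (A := A) M
    have e : (Fin.elim0 : Fin 0 → A) = ([] : List A).get := by
      funext k; exact k.elim0
    rw [e] at this
    exact this
  | cons a l ih =>
    have h1 : Subsingleton ((koszulCx (ModuleCat.of A M) l).X 1) :=
      subsingleton_koszulCx_X _ l 1 (Or.inr (by norm_num))
    have := lowDesc_cone M _ l.get a ih h1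
    rw [get_cons_eq] at this
    exact this

theorem exact_of_isZero_homology (K : CochainComplex (ModuleCat.{u} A) ℤ) (i j k : ℤ)
    (hij : i + 1 = j) (hjk : j + 1 = k) (h : IsZero (K.homology j)) :
    Function.Exact (K.d i j).hom (K.d j k).hom := by
  rw [← HomologicalComplex.exactAt_iff_isZero_homology,
    HomologicalComplex.exactAt_iff' K i j k (by simp [← hij]) (by simp [← hjk]),
    ShortComplex.ShortExact.moduleCat_exact_iff_function_exact] at h
  exact h

/-- vanishing of the first Koszul homology means that all relations are trivial -/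
theorem mem_triv_of_isZero (l : List A) (h : IsZero ((koszulCx (ModuleCat.of A M) l).homology (-1)))
    (x : Fin l.length → M) (hx : ∑ i, l.get i • x i = 0) : x ∈ Triv M l.get := by
  obtain ⟨θ0, θ1, ha, hb⟩ := lowDesc_koszulCx M l
  rw [← hb]
  have hex := exact_of_isZero_homology _ (-2) (-1) 0 (by norm_num) (by norm_num) h
  have h0 : ((koszulCx (ModuleCat.of A M) l).d (-1) 0).hom (θ1.symm x) = 0 := by
    apply θ0.injective
    rw [ha, map_zero, LinearEquiv.apply_symm_apply]
    exact hx
  obtain ⟨y, hy⟩ := (hex _).mp h0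
  exact ⟨_, ⟨y, rfl⟩, by rw [hy]; exact θ1.apply_symm_apply x⟩

end lowdesc

theorem triv_self_eq {r : ℕ} (f : Fin r → A) :
    Triv A f = Submodule.span A {v : Fin r → A | ∃ i j : Fin r,
      v = Pi.single i (f j) - Pi.single j (f i)} := by
  apply le_antisymm
  · apply Submodule.span_le.mpr
    rintro _ ⟨i, j, m, rfl⟩
    have : (Pi.single i (f j • m) - Pi.single j (f i • m) : Fin r → A) =
        m • (Pi.single i (f j) - Pi.single j (f i)) := by
      funext k
      simp only [Pi.sub_apply, Pi.single_apply, Pi.smul_apply, smul_eq_mul]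
      split_ifs <;> ring
    rw [this]
    exact Submodule.smul_mem _ _ (Submodule.subset_span ⟨i, j, rfl⟩)
  · apply Submodule.span_le.mpr
    rintro _ ⟨i, j, rfl⟩
    apply Submodule.subset_span
    refine ⟨i, j, 1, ?_⟩
    simp

/-- a Koszul-regular sequence is `H_1`-regular -/
theorem isH1Regular_of_koszul (l : List A) (hl : LCI.IsKoszulRegularSeq A l) :
    CAlgX.IsH1Regular l.get := by
  rw [isKoszulRegularSeq_iff] at hl
  intro a ha
  rw [← triv_self_eq]
  apply mem_triv_of_isZero A l (hl (-1) (by norm_num)) a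
  rw [← ha]
  apply Finset.sum_congr rfl
  intro i _
  rw [smul_eq_mul, mul_comm]

end Groth.Agent.Lib.Helper4.KosH1
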