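import Mathlib
import Groth.Prelude.Def_LCI2
import Groth.Prelude.Def_ega3
import Groth.Prelude.Def_CAlgX
import Groth.Agent.Lib.Helper4.KosH1

/-!
# Conormal module of a Koszul-regular ideal is free on the generators (helper4)
-/

set_option backward.isDefEq.respectTransparency.types false
set_option synthInstance.maxHeartbeats 400000
set_option autoImplicit false
set_option linter.unusedSectionVars false
set_option linter.style.haveILetI false
set_option linter.unusedSimpArgs false
universe u v w
open CategoryTheory CategoryTheory.Limits CochainComplex CohIII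
open Groth.Agent.Helper8.KoszulLib Groth.Agent.Lib.Helper4.KosComp1 Groth.Agent.Lib.Helper4.KosH1

namespace Groth.Agent.Lib.Helper4.KosH1b

variable {R : Type u} [CommRing R]

/-- coordinates of trivial relations lie in the ideal -/
theorem coord_mem_of_mem_span {c : ℕ} (g : Fin c → R) (I : Ideal R) (hg : ∀ i, g i ∈ I) (a : Fin c → R)
    (ha : a ∈ Submodule.span R {v : Fin c → R | ∃ i j : Fin c, v = Pi.single i (g j) - Pi.single j (g i)})
    (k : Fin c) : a k ∈ I := by
  induction ha using Submodule.span_induction with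
  | mem v hv =>
    obtain ⟨i, j, rfl⟩ := hv
    simp only [Pi.sub_apply, Pi.single_apply]
    split_ifs
    · exact I.sub_mem (hg j) (hg i)
    · simpa using hg j
    · simpa using hg i
    · simp
  | zero => exact I.zero_mem
  | add x y _ _ hx hy => exact I.add_mem hx hy
  | smul t x _ hx => exact I.mul_mem_left t hx

/-- for an `H_1`-regular sequence generating `I`, a combination lying in `I^2` has coefficients in `I` -/
theorem coeff_mem_of_h1 {c : ℕ} (g : Fin c → R) (hH1 : CAlgX.IsH1Regular g) (I : Ideal R)
    (hI : Ideal.span (Set.range g) = I) (a : Fin c → R) (ha : ∑ i, a i * g i ∈ I ^ 2) (k : Fin c) :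
    a k ∈ I := by
  have hg : ∀ i, g i ∈ I := fun i => hI ▸ Ideal.subset_span ⟨i, rfl⟩
  have h1 : ∑ i, a i * g i ∈ I • Submodule.span R (Set.range g) := by
    have : (I • Submodule.span R (Set.range g) : Submodule R R) = I ^ 2 := by
      change I • Ideal.span (Set.range g) = I ^ 2
      rw [hI, smul_eq_mul, ← pow_two]
    rw [this]; exact ha
  rw [Submodule.mem_ideal_smul_span_iff_exists_sum] at h1
  obtain ⟨b, hb, hsum⟩ := h1
  have hrel : ∑ i, (a i - b i) * g i = 0 := by
    simp only [sub_mul, Finset.sum_sub_distrib]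
    rw [sub_eq_zero, ← hsum, Finsupp.sum_fintype _ _ (fun i => by simp)]
    simp [smul_eq_mul]
  have := coord_mem_of_mem_span g I hg _ (hH1 (fun i => a i - b i) hrel) k
  have h2 := I.add_mem this (hb k)
  simpa using h2

theorem isH1Regular_of_list (l : List R) (r : ℕ) (hr : l.length = r) (g : Fin r → R)
    (hg : ∀ i, g i = l.get (Fin.cast hr.symm i)) (h : CAlgX.IsH1Regular l.get) : CAlgX.IsH1Regular g := by
  subst hr
  have : g = l.get := funext fun i => hg i
  rw [this]
  exact h

theorem isH1Regular_ofFn {r : ℕ} (g : Fin r → R) (h : CAlgX.IsH1Regular (List.ofFn g).get) :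
    CAlgX.IsH1Regular g := by
  refine isH1Regular_of_list (List.ofFn g) r (List.length_ofFn) g (fun i => ?_) h
  rw [List.get_ofFn]
  rfl

theorem S18939_main {I : Ideal R} (hI : I ≠ ⊤)
    (r : ℕ) (f : Fin r → I) (hf : LCI.IsKoszulRegularSeq R (List.ofFn (fun i => (f i : R))))
    (hfI : Ideal.span (Set.range (fun i => (f i : R))) = I) :
    ∃ b : Module.Basis (Fin r) (R ⧸ I) I.Cotangent, ∀ i, b i = I.toCotangent (f i) := by
  have hH1 : CAlgX.IsH1Regular (fun i => (f i : R)) :=
    isH1Regular_ofFn _ (isH1Regular_of_koszul _ hf)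
  have hli : LinearIndependent (R ⧸ I) (fun i => I.toCotangent (f i)) := by
    rw [Fintype.linearIndependent_iff]
    intro c hc k
    obtain ⟨a, ha⟩ : ∃ a : Fin r → R, ∀ i, Ideal.Quotient.mk I (a i) = c i :=
      ⟨fun i => (Ideal.Quotient.mk_surjective (c i)).choose,
        fun i => (Ideal.Quotient.mk_surjective (c i)).choose_spec⟩
    have h1 : I.toCotangent (∑ i, a i • f i) = 0 := by
      rw [map_sum, ← hc]
      apply Finset.sum_congr rfl
      intro i _
      rw [map_smul, ← ha i]
      rfl
    rw [Ideal.toCotangent_eq_zero] at h1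
    have h2 : ∑ i, a i * (f i : R) ∈ I ^ 2 := by
      convert h1 using 1
      simp [Submodule.coe_sum]
    have h3 := coeff_mem_of_h1 (fun i => (f i : R)) hH1 I hfI a h2 k
    rw [← ha k]
    exact Ideal.Quotient.eq_zero_iff_mem.mpr h3
  have hsp : ⊤ ≤ Submodule.span (R ⧸ I) (Set.range (fun i => I.toCotangent (f i))) := by
    rintro x -
    obtain ⟨y, rfl⟩ := I.toCotangent_surjective x
    have hy : (y : R) ∈ Ideal.span (Set.range (fun i => (f i : R))) := by rw [hfI]; exact y.2
    rw [Ideal.mem_span_range_iff_exists_fun] at hy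
    obtain ⟨c, hc⟩ := hy
    have hy' : y = ∑ i, c i • f i := by
      apply Subtype.ext
      rw [← hc]
      simp [Submodule.coe_sum]
    rw [hy', map_sum]
    refine Submodule.sum_mem _ fun i _ => ?_
    rw [map_smul]
    have : c i • I.toCotangent (f i) = (Ideal.Quotient.mk I (c i)) • I.toCotangent (f i) := rfl
    rw [this]
    exact Submodule.smul_mem _ _ (Submodule.subset_span ⟨i, rfl⟩)
  exact ⟨Module.Basis.mk hli hsp, fun i => Module.Basis.mk_apply hli hsp i⟩

end Groth.Agent.Lib.Helper4.KosH1b
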