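import Mathlib

/-!
# existence of cofiltered limits of schemes with affine transition maps (via local representability) (helper4)
-/

set_option backward.isDefEq.respectTransparency.types false
set_option synthInstance.maxHeartbeats 400000
set_option autoImplicit false
set_option linter.unusedSectionVars false
set_option linter.style.haveILetI false
set_option linter.unusedSimpArgs false
universe u v w
open CategoryTheory CategoryTheory.Limits AlgebraicGeometry Opposite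

namespace Groth.Agent.Lib.Helper4.AffLim1

theorem hasLimit_of_isAffine {J : Type u} [Category.{u} J] (D : J ⥤ Scheme.{u})
    [∀ j, IsAffine (D.obj j)] : HasLimit D := by
  let α : D ⟶ (D ⋙ Scheme.Γ.rightOp) ⋙ Scheme.Spec := D.whiskerLeft ΓSpec.adjunction.unit
  have (i : _) : IsIso (α.app i) := IsAffine.affine
  have : IsIso α := NatIso.isIso_of_isIso_app α
  haveI : HasLimit ((D ⋙ Scheme.Γ.rightOp) ⋙ Scheme.Spec) := inferInstance
  exact hasLimit_of_iso (asIso α).symm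

section
variable {I : Type u} [SmallCategory I] (D : I ⥤ Scheme.{u})
  [∀ {i j : I} (f : i ⟶ j), IsAffineHom (D.map f)] (i₀ : I)

theorem isAffine_opensDiagram_obj (U : (D.obj i₀).Opens) (hU : IsAffineOpen U) (j : Over i₀) :
    IsAffine ((opensDiagram D i₀ U).obj j) :=
  hU.preimage (D.map j.hom)

theorem hasLimit_opensDiagram (U : (D.obj i₀).Opens) (hU : IsAffineOpen U) :
    HasLimit (opensDiagram D i₀ U) :=
  haveI : ∀ j, IsAffine ((opensDiagram D i₀ U).obj j) := fun j => isAffine_opensDiagram_obj D i₀ U hU j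
  hasLimit_of_isAffine _

theorem le_aux (U : (D.obj i₀).Opens) {j k : Over i₀} (f : j ⟶ k) :
    D.map j.hom ⁻¹ᵁ U ≤ D.map f.left ⁻¹ᵁ (D.map k.hom ⁻¹ᵁ U) := by
  rw [← Scheme.Hom.comp_preimage, ← D.map_comp, Over.w f]

/-- the limit of the restricted diagram -/
noncomputable def L (U : (D.obj i₀).affineOpens) : Scheme.{u} :=
  haveI := hasLimit_opensDiagram D i₀ U.1 U.2
  limit (opensDiagram D i₀ U.1)

noncomputable def Lπ (U : (D.obj i₀).affineOpens) (j : Over i₀) :
    L D i₀ U ⟶ ((D.map j.hom ⁻¹ᵁ U.1 : (D.obj j.left).Opens) : Scheme.{u}) :=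
  haveI := hasLimit_opensDiagram D i₀ U.1 U.2
  limit.π (opensDiagram D i₀ U.1) j

theorem Lπ_w (U : (D.obj i₀).affineOpens) {j k : Over i₀} (f : j ⟶ k) :
    Lπ D i₀ U j ≫ (D.map f.left).resLE (D.map k.hom ⁻¹ᵁ U.1) (D.map j.hom ⁻¹ᵁ U.1) (le_aux D i₀ U.1 f) =
      Lπ D i₀ U k := by
  haveI := hasLimit_opensDiagram D i₀ U.1 U.2
  exact limit.w (opensDiagram D i₀ U.1) f

theorem L_hom_ext (U : (D.obj i₀).affineOpens) {T : Scheme.{u}} {a b : T ⟶ L D i₀ U}
    (h : ∀ j, a ≫ Lπ D i₀ U j = b ≫ Lπ D i₀ U j) : a = b := by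
  haveI := hasLimit_opensDiagram D i₀ U.1 U.2
  exact limit.hom_ext h

/-- a cone over the restricted diagram from a compatible family, with clean types -/
noncomputable def mkCone (U : (D.obj i₀).Opens) (T : Scheme.{u})
    (q : ∀ j : Over i₀, T ⟶ ((D.map j.hom ⁻¹ᵁ U : (D.obj j.left).Opens) : Scheme.{u}))
    (hq : ∀ {j k : Over i₀} (f : j ⟶ k),
      q j ≫ (D.map f.left).resLE (D.map k.hom ⁻¹ᵁ U) (D.map j.hom ⁻¹ᵁ U) (le_aux D i₀ U f) = q k) :
    Cone (opensDiagram D i₀ U) where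
  pt := T
  π :=
  { app := fun j => q j
    naturality := by
      intro j k f
      refine Eq.trans (Category.id_comp _) ?_
      exact (hq f).symm }

noncomputable def Llift (U : (D.obj i₀).affineOpens) (T : Scheme.{u})
    (q : ∀ j : Over i₀, T ⟶ ((D.map j.hom ⁻¹ᵁ U.1 : (D.obj j.left).Opens) : Scheme.{u}))
    (hq : ∀ {j k : Over i₀} (f : j ⟶ k),
      q j ≫ (D.map f.left).resLE (D.map k.hom ⁻¹ᵁ U.1) (D.map j.hom ⁻¹ᵁ U.1) (le_aux D i₀ U.1 f) = q k) :
    T ⟶ L D i₀ U :=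
  haveI := hasLimit_opensDiagram D i₀ U.1 U.2
  limit.lift _ (mkCone D i₀ U.1 T q hq)

theorem Llift_π (U : (D.obj i₀).affineOpens) (T : Scheme.{u})
    (q : ∀ j : Over i₀, T ⟶ ((D.map j.hom ⁻¹ᵁ U.1 : (D.obj j.left).Opens) : Scheme.{u}))
    (hq : ∀ {j k : Over i₀} (f : j ⟶ k),
      q j ≫ (D.map f.left).resLE (D.map k.hom ⁻¹ᵁ U.1) (D.map j.hom ⁻¹ᵁ U.1) (le_aux D i₀ U.1 f) = q k)
    (j : Over i₀) :
    Llift D i₀ U T q hq ≫ Lπ D i₀ U j = q j := by
  haveI := hasLimit_opensDiagram D i₀ U.1 U.2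
  exact limit.lift_π (mkCone D i₀ U.1 T q hq) j

/-- the cone over `E` with vertex `L U` -/
noncomputable def coneL (U : (D.obj i₀).affineOpens) :
    (Over.forget i₀ ⋙ D).cones.obj (op (L D i₀ U)) where
  app j := Lπ D i₀ U j ≫ (D.map j.hom ⁻¹ᵁ U.1).ι
  naturality j k f := by
    simp only [Functor.const_obj_obj, Functor.const_obj_map, Category.id_comp, Functor.comp_map,
      Over.forget_map, Category.assoc]
    rw [← Lπ_w D i₀ U f]
    simp

/-- the terminal object of `Over i₀` -/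
abbrev j₀ : Over i₀ := Over.mk (𝟙 i₀)

/-- the canonical map `j ⟶ j₀`. -/
abbrev toJ₀ (j : Over i₀) : j ⟶ j₀ i₀ := Over.homMk j.hom

/-- components of a cone, with clean types -/
def capp {T : Scheme.{u}} (t : (Over.forget i₀ ⋙ D).cones.obj (op T)) (j : Over i₀) :
    T ⟶ D.obj j.left := t.app j

theorem capp_naturality {T : Scheme.{u}} (t : (Over.forget i₀ ⋙ D).cones.obj (op T))
    {j k : Over i₀} (f : j ⟶ k) : capp D i₀ t j ≫ D.map f.left = capp D i₀ t k := by
  have := t.naturality f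
  simpa [capp] using this.symm

theorem capp_map {T T' : Scheme.{u}} (t : (Over.forget i₀ ⋙ D).cones.obj (op T)) (a : T' ⟶ T)
    (j : Over i₀) : capp D i₀ ((Over.forget i₀ ⋙ D).cones.map a.op t) j = a ≫ capp D i₀ t j := by
  simp [capp, Functor.cones]

theorem cones_ext {T : Scheme.{u}} {t t' : (Over.forget i₀ ⋙ D).cones.obj (op T)}
    (h : ∀ j, capp D i₀ t j = capp D i₀ t' j) : t = t' := by
  apply NatTrans.ext
  funext j
  exact h j

theorem capp_coneL (U : (D.obj i₀).affineOpens) (j : Over i₀) :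
    capp D i₀ (coneL D i₀ U) j = Lπ D i₀ U j ≫ (D.map j.hom ⁻¹ᵁ U.1).ι := rfl

theorem capp_comp_hom {T : Scheme.{u}} (t : (Over.forget i₀ ⋙ D).cones.obj (op T)) (j : Over i₀) :
    capp D i₀ t j ≫ D.map j.hom = capp D i₀ t (j₀ i₀) :=
  capp_naturality D i₀ t (toJ₀ i₀ j)

/-- the open subscheme of `T` where the cone lands in `U`. -/
noncomputable def VV {T : Scheme.{u}} (t : (Over.forget i₀ ⋙ D).cones.obj (op T))
    (U : (D.obj i₀).Opens) : T.Opens :=
  (capp D i₀ t (j₀ i₀)) ⁻¹ᵁ U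

theorem VV_le {T : Scheme.{u}} (t : (Over.forget i₀ ⋙ D).cones.obj (op T))
    (U : (D.obj i₀).Opens) (j : Over i₀) :
    VV D i₀ t U ≤ (capp D i₀ t j) ⁻¹ᵁ (D.map j.hom ⁻¹ᵁ U) := by
  rw [← Scheme.Hom.comp_preimage, capp_comp_hom]
  exact le_rfl

theorem resLE_nat {T : Scheme.{u}} (t : (Over.forget i₀ ⋙ D).cones.obj (op T))
    (U : (D.obj i₀).Opens) {j k : Over i₀} (f : j ⟶ k) :
    (capp D i₀ t j).resLE (D.map j.hom ⁻¹ᵁ U) (VV D i₀ t U) (VV_le D i₀ t U j) ≫
      (D.map f.left).resLE (D.map k.hom ⁻¹ᵁ U) (D.map j.hom ⁻¹ᵁ U) (le_aux D i₀ U f) =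
    (capp D i₀ t k).resLE (D.map k.hom ⁻¹ᵁ U) (VV D i₀ t U) (VV_le D i₀ t U k) := by
  rw [Scheme.Hom.resLE_comp_resLE]
  simp only [capp_naturality]

/-- the lift `V ⟶ L U` -/
noncomputable def liftV {T : Scheme.{u}} (t : (Over.forget i₀ ⋙ D).cones.obj (op T))
    (U : (D.obj i₀).affineOpens) : (VV D i₀ t U.1 : Scheme.{u}) ⟶ L D i₀ U :=
  Llift D i₀ U _ (fun j => (capp D i₀ t j).resLE (D.map j.hom ⁻¹ᵁ U.1) (VV D i₀ t U.1)
      (VV_le D i₀ t U.1 j)) (fun f => resLE_nat D i₀ t U.1 f)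

theorem liftV_π {T : Scheme.{u}} (t : (Over.forget i₀ ⋙ D).cones.obj (op T))
    (U : (D.obj i₀).affineOpens) (j : Over i₀) :
    liftV D i₀ t U ≫ Lπ D i₀ U j ≫ (D.map j.hom ⁻¹ᵁ U.1).ι = (VV D i₀ t U.1).ι ≫ capp D i₀ t j := by
  rw [← Category.assoc, liftV, Llift_π]
  · exact Scheme.Hom.resLE_comp_ι _ _
  · intro j k f
    exact resLE_nat D i₀ t U.1 f

/-- The morphism of presheaves `yoneda (L U) ⟶ cones`. -/
noncomputable def fU (U : (D.obj i₀).affineOpens) :
    yoneda.obj (L D i₀ U) ⟶ (Over.forget i₀ ⋙ D).cones :=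
  yonedaEquiv.symm (coneL D i₀ U)

theorem capp_fU (U : (D.obj i₀).affineOpens) {T' : Scheme.{u}} (b : T' ⟶ L D i₀ U) (j : Over i₀) :
    capp D i₀ ((fU D i₀ U).app (op T') b) j = b ≫ Lπ D i₀ U j ≫ (D.map j.hom ⁻¹ᵁ U.1).ι := by
  have : (fU D i₀ U).app (op T') b = (Over.forget i₀ ⋙ D).cones.map b.op (coneL D i₀ U) := rfl
  rw [this, capp_map, capp_coneL]

theorem capp_g {T : Scheme.{u}} (g : yoneda.obj T ⟶ (Over.forget i₀ ⋙ D).cones)
    {T' : Scheme.{u}} (a : T' ⟶ T) (j : Over i₀) :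
    capp D i₀ (g.app (op T') a) j = a ≫ capp D i₀ (yonedaEquiv g) j := by
  have : g.app (op T') a = (Over.forget i₀ ⋙ D).cones.map a.op (yonedaEquiv g) :=
    (map_yonedaEquiv g a).symm
  rw [this, capp_map]

theorem isPullback_fU {T : Scheme.{u}} (g : yoneda.obj T ⟶ (Over.forget i₀ ⋙ D).cones)
    (U : (D.obj i₀).affineOpens) :
    IsPullback (yoneda.map (liftV D i₀ (yonedaEquiv g) U))
      (yoneda.map (VV D i₀ (yonedaEquiv g) U.1).ι) (fU D i₀ U) g := by
  apply IsPullback.of_forall_isPullback_app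
  intro T'
  obtain ⟨T'⟩ := T'
  rw [Types.isPullback_iff]
  refine ⟨?_, ?_, ?_⟩
  · ext c
    apply cones_ext
    intro j
    have h1 := capp_fU D i₀ U (c ≫ liftV D i₀ (yonedaEquiv g) U) j
    have h2 := capp_g D i₀ g (c ≫ (VV D i₀ (yonedaEquiv g) U.1).ι) j
    have h3 := liftV_π D i₀ (yonedaEquiv g) U j
    simp only [Category.assoc] at h1 h2
    rw [h3] at h1
    exact h1.trans h2.symm
  · rintro (c₁ : T' ⟶ _) (c₂ : T' ⟶ _) ⟨-, h⟩
    exact (cancel_mono (VV D i₀ (yonedaEquiv g) U.1).ι).mp h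
  · rintro (b : T' ⟶ L D i₀ U) (a : T' ⟶ T) hab
    have hab' : ∀ j, b ≫ Lπ D i₀ U j ≫ (D.map j.hom ⁻¹ᵁ U.1).ι = a ≫ capp D i₀ (yonedaEquiv g) j := by
      intro j
      rw [← capp_fU, ← capp_g]
      exact congrArg (fun t => capp D i₀ t j) hab
    -- `a` factors through `V`
    have hrange : Set.range a ⊆ Set.range (VV D i₀ (yonedaEquiv g) U.1).ι := by
      rintro _ ⟨x, rfl⟩
      rw [Scheme.Opens.range_ι]
      change (capp D i₀ (yonedaEquiv g) (j₀ i₀)) (a x) ∈ U.1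
      rw [← Scheme.Hom.comp_apply, ← hab' (j₀ i₀)]
      have h : (D.map (j₀ i₀).hom) (((Lπ D i₀ U (j₀ i₀)) (b x)).1) ∈ U.1 :=
        ((Lπ D i₀ U (j₀ i₀)) (b x)).2
      simp only [Over.mk_hom, D.map_id] at h
      simpa [Scheme.Hom.comp_apply] using h
    refine ⟨IsOpenImmersion.lift (VV D i₀ (yonedaEquiv g) U.1).ι a hrange, ?_, ?_⟩
    · change IsOpenImmersion.lift _ a hrange ≫ liftV D i₀ (yonedaEquiv g) U = b
      apply L_hom_ext
      intro j
      apply (cancel_mono (D.map j.hom ⁻¹ᵁ U.1).ι).mp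
      rw [Category.assoc, Category.assoc, liftV_π, IsOpenImmersion.lift_fac_assoc, Category.assoc,
        hab' j]
    · change IsOpenImmersion.lift _ a hrange ≫ (VV D i₀ (yonedaEquiv g) U.1).ι = a
      exact IsOpenImmersion.lift_fac _ _ _


theorem presheaf_fU (U : (D.obj i₀).affineOpens) :
    IsOpenImmersion.presheaf (fU D i₀ U) := by
  apply MorphismProperty.relative.of_exists
  intro T g
  exact ⟨_, _, _, isPullback_fU D i₀ g U, inferInstance⟩

theorem isOpenCover_VV {T : Scheme.{u}} (t : (Over.forget i₀ ⋙ D).cones.obj (op T)) :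
    TopologicalSpace.IsOpenCover (fun U : (D.obj i₀).affineOpens => VV D i₀ t U.1) := by
  apply TopologicalSpace.IsOpenCover.mk
  rw [eq_top_iff]
  intro x _
  obtain ⟨_, ⟨U, hU, rfl⟩, hxU, -⟩ := (D.obj i₀).isBasis_affineOpens.exists_subset_of_mem_open
    (Set.mem_univ ((capp D i₀ t (j₀ i₀)) x)) isOpen_univ
  exact TopologicalSpace.Opens.mem_iSup.mpr ⟨⟨U, hU⟩, hxU⟩

theorem exists_section {T : Scheme.{u}} (t : (Over.forget i₀ ⋙ D).cones.obj (op T))
    (U : (D.obj i₀).affineOpens) :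
    ∃ s, (Limits.Sigma.desc (fun U : (D.obj i₀).affineOpens => fU D i₀ U)).app
      (op (VV D i₀ t U.1 : Scheme.{u})) s =
        (Over.forget i₀ ⋙ D).cones.map (VV D i₀ t U.1).ι.op t := by
  refine ⟨(Limits.Sigma.ι (fun U : (D.obj i₀).affineOpens => yoneda.obj (L D i₀ U)) U).app _
    (liftV D i₀ t U), ?_⟩
  have h1 : (Limits.Sigma.desc (fun U : (D.obj i₀).affineOpens => fU D i₀ U)).app
      (op (VV D i₀ t U.1 : Scheme.{u}))
      ((Limits.Sigma.ι (fun U : (D.obj i₀).affineOpens => yoneda.obj (L D i₀ U)) U).app _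
        (liftV D i₀ t U)) = (fU D i₀ U).app (op (VV D i₀ t U.1 : Scheme.{u})) (liftV D i₀ t U) := by
    rw [← Limits.Sigma.ι_desc (fun U : (D.obj i₀).affineOpens => fU D i₀ U) U]
    rfl
  refine h1.trans ?_
  apply cones_ext
  intro j
  exact (capp_fU D i₀ U (liftV D i₀ t U) j).trans
    ((liftV_π D i₀ t U j).trans (capp_map D i₀ t _ j).symm)

theorem isLocallySurjective_desc :
    Presheaf.IsLocallySurjective Scheme.zariskiTopology
      (Limits.Sigma.desc (fun U : (D.obj i₀).affineOpens => fU D i₀ U)) := by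
  constructor
  intro T t
  -- the open cover of `T` by the `VV t U`
  let 𝒰 : T.OpenCover := T.openCoverOfIsOpenCover
    (fun U : (D.obj i₀).affineOpens => VV D i₀ t U.1) (isOpenCover_VV D i₀ t)
  refine Scheme.zariskiTopology.superset_covering ?_ 𝒰.mem_grothendieckTopology
  rw [Sieve.ofArrows, Sieve.generate_le_iff]
  rintro _ _ ⟨U⟩
  exact exists_section D i₀ t U


theorem isSheaf_cones {C : Type (u+1)} [Category.{u} C] (K : GrothendieckTopology C) [K.Subcanonical]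
    {J : Type u} [Category.{u} J] (E : J ⥤ C) :
    Presieve.IsSheaf K E.cones := by
  intro X S hS x hx
  have hj : ∀ j : J, ∃! a : X ⟶ E.obj j, ∀ ⦃Y : C⦄ (f : Y ⟶ X) (hf : S f), f ≫ a = (x f hf).app j := by
    intro j
    have hsh := GrothendieckTopology.Subcanonical.isSheaf_of_isRepresentable (J := K)
      (yoneda.obj (E.obj j)) S hS
    let xj : Presieve.FamilyOfElements (yoneda.obj (E.obj j)) S.arrows :=
      fun Y f hf => (x f hf).app j
    have hxj : xj.Compatible := by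
      intro Y₁ Y₂ Z g₁ g₂ f₁ f₂ h₁ h₂ hcomm
      have := hx g₁ g₂ h₁ h₂ hcomm
      have := congrArg (fun t => NatTrans.app t j) this
      simpa [xj, Functor.cones] using this
    obtain ⟨a, ha, hau⟩ := hsh xj hxj
    refine ⟨a, ?_, ?_⟩
    · intro Y f hf
      exact ha f hf
    · intro b hb
      exact hau b (fun Y f hf => hb f hf)
  choose a ha hau using hj
  have hnat : ∀ {j j' : J} (φ : j ⟶ j'), a j ≫ E.map φ = a j' := by
    intro j j' φ
    apply hau
    intro Y f hf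
    rw [← Category.assoc, ha j f hf]
    have := (x f hf).naturality φ
    simpa using this.symm
  refine ⟨⟨fun j => a j, ?_⟩, ?_, ?_⟩
  · intro j j' φ
    simp [hnat φ]
  · intro Y f hf
    apply NatTrans.ext
    funext j
    simpa [Functor.cones] using ha j f hf
  · intro t' ht'
    apply NatTrans.ext
    funext j
    apply hau
    intro Y f hf
    have := congrArg (fun t => NatTrans.app t j) (ht' f hf)
    simpa [Functor.cones] using this

/-- the sheaf of cones -/
noncomputable def conesSheaf : Sheaf Scheme.zariskiTopology.{u} (Type u) :=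
  ⟨(Over.forget i₀ ⋙ D).cones,
    (isSheaf_iff_isSheaf_of_type _ _).mpr (isSheaf_cones Scheme.zariskiTopology.{u} _)⟩

theorem isRepresentable_cones : (Over.forget i₀ ⋙ D).cones.IsRepresentable := by
  exact @Scheme.LocalRepresentability.isRepresentable (conesSheaf D i₀) (D.obj i₀).affineOpens
    (fun U => L D i₀ U) (fun U => fU D i₀ U) (fun U => presheaf_fU D i₀ U)
    (isLocallySurjective_desc D i₀)

theorem hasLimit_over : HasLimit (Over.forget i₀ ⋙ D) := by
  obtain ⟨X, ⟨h⟩⟩ := isRepresentable_cones D i₀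
  exact ⟨⟨⟨_, IsLimit.ofRepresentableBy h⟩⟩⟩

end

theorem S2151_main {I : Type u} [SmallCategory I] [IsCofiltered I] (D : I ⥤ Scheme.{u})
    [∀ (i j : I) (f : i ⟶ j), IsAffineHom (D.map f)] :
    ∃ (c : Limits.Cone D) (_ : Limits.IsLimit c), ∀ i, IsAffineHom (c.π.app i) := by
  haveI : ∀ {i j : I} (f : i ⟶ j), IsAffineHom (D.map f) := fun f => inferInstance
  obtain ⟨i₀⟩ := IsCofiltered.nonempty (C := I)
  haveI : HasLimit (Over.forget i₀ ⋙ D) := hasLimit_over D i₀
  haveI : HasLimit D := Functor.Initial.hasLimit_of_comp (Over.forget i₀)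
  exact ⟨limit.cone D, limit.isLimit D, fun i => isAffineHom_π_app D _ (limit.isLimit D) i⟩

end Groth.Agent.Lib.Helper4.AffLim1
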