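import Mathlib
import Groth.Agent.Lib.Helper4.Fitting3

set_option linter.unusedSectionVars false
set_option linter.style.haveILetI false
set_option linter.unusedVariables false

namespace Groth.Agent.Helper4.Fitting

open Matrix

universe u v w

section Aux

theorem exists_perm_of_card_eq {α : Type*} [Fintype α] [DecidableEq α] (p q : α → Prop)
    [DecidablePred p] [DecidablePred q]
    (h : Fintype.card {x // p x} = Fintype.card {x // q x}) :
    ∃ τ : Equiv.Perm α, ∀ x, q (τ x) ↔ p x := by
  have h' : Fintype.card {x // ¬ p x} = Fintype.card {x // ¬ q x} := by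
    rw [Fintype.card_subtype_compl, Fintype.card_subtype_compl, h]
  let e := Fintype.equivOfCardEq h
  let f := Fintype.equivOfCardEq h'
  refine ⟨Equiv.subtypeCongr e f, fun x => ?_⟩
  by_cases hx : p x
  · have : Equiv.subtypeCongr e f x = e ⟨x, hx⟩ := by
      simp [Equiv.subtypeCongr, hx]
    rw [this]
    exact ⟨fun _ => hx, fun _ => (e ⟨x, hx⟩).2⟩
  · have : Equiv.subtypeCongr e f x = f ⟨x, hx⟩ := by
      simp [Equiv.subtypeCongr, hx]
    rw [this]
    exact ⟨fun h1 => absurd h1 (f ⟨x, hx⟩).2, fun h1 => absurd h1 hx⟩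

end Aux

variable {R : Type u} [CommRing R] {M : Type v} [AddCommGroup M] [Module R M]

theorem ideal_mono' {k k' : ℕ} (h : k ≤ k') : Fitt.ideal R M k ≤ Fitt.ideal R M k' := by
  apply Ideal.span_mono
  rintro d ⟨n, x, a, hx, ha, rfl⟩
  exact ⟨n, x, a, hx, fun i hi => ha i (by omega), rfl⟩

/-- minors indexed by an arbitrary finite type -/
theorem det_mem_span_minorSet_of_card {n : ℕ} (x : Fin n → M) {κ : Type w} [Fintype κ]
    [DecidableEq κ] (p : ℕ) (hp : Fintype.card κ = p) (z : κ → (Fin n → R)) (e : κ → Fin n)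
    (hz : ∀ j, ∑ i, z j i • x i = 0) :
    (Matrix.of fun a b => z b (e a)).det ∈ Ideal.span (minorSet R x p) := by
  let ε : κ ≃ Fin p := Fintype.equivFinOfCardEq hp
  have h1 : (Matrix.of fun a b => z b (e a)).det =
      (Matrix.of fun (a b : Fin p) => z (ε.symm b) (e (ε.symm a))).det := by
    rw [← Matrix.det_submatrix_equiv_self ε.symm (Matrix.of fun a b => z b (e a))]
    rfl
  rw [h1]
  exact Ideal.subset_span ⟨fun b => z (ε.symm b), fun a => e (ε.symm a), fun j => hz _, rfl⟩

/-- a minor with more rows than generators vanishes -/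
theorem det_eq_zero_of_card_lt {n : ℕ} {κ : Type w} [Fintype κ]
    [DecidableEq κ] (hp : n < Fintype.card κ) (z : κ → (Fin n → R)) (e : κ → Fin n) :
    (Matrix.of fun a b => z b (e a)).det = 0 := by
  obtain ⟨a, a', hne, heq⟩ := Fintype.exists_ne_map_eq_of_card_lt e (by simpa using hp)
  apply Matrix.det_zero_of_row_eq hne
  ext b
  simp [heq]

/-- minors of size `p` lie in the Fitting ideal `Fit_k` as soon as `n - k ≤ p`. -/
theorem det_mem_ideal_of_le {n : ℕ} (x : Fin n → M) (hx : Submodule.span R (Set.range x) = ⊤)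
    {κ : Type w} [Fintype κ] [DecidableEq κ] (k : ℕ) (hk : n - k ≤ Fintype.card κ)
    (z : κ → (Fin n → R)) (e : κ → Fin n) (hz : ∀ j, ∑ i, z j i • x i = 0) :
    (Matrix.of fun a b => z b (e a)).det ∈ Fitt.ideal R M k := by
  by_cases hlt : n < Fintype.card κ
  · rw [det_eq_zero_of_card_lt hlt]
    exact Ideal.zero_mem _
  · push Not at hlt
    have h1 := det_mem_span_minorSet_of_card x (Fintype.card κ) rfl z e hz
    have h2 : Ideal.span (minorSet R x (Fintype.card κ)) =
        Fitt.ideal R M (n - Fintype.card κ) := by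
      rw [ideal_eq_F x hx, F_eq_span_minorSet]
      congr 2
      omega
    rw [h2] at h1
    exact ideal_mono' (by omega) h1


section Prod

variable {M' : Type v} [AddCommGroup M'] [Module R M']

/-- the generating tuple of the product -/
def prodTuple {n n' : ℕ} (x : Fin n → M) (x' : Fin n' → M') : Fin (n + n') → M × M' :=
  Fin.append (fun i => (x i, 0)) (fun j => (0, x' j))

theorem sum_prodTuple {n n' : ℕ} (x : Fin n → M) (x' : Fin n' → M') (z : Fin (n + n') → R) :
    ∑ i, z i • prodTuple x x' i =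
      (∑ i, z (Fin.castAdd n' i) • x i, ∑ j, z (Fin.natAdd n j) • x' j) := by
  rw [Fin.sum_univ_add]
  simp only [prodTuple, Fin.append_left, Fin.append_right]
  ext
  · simp [Prod.fst_sum]
  · simp [Prod.snd_sum]

theorem span_prodTuple {n n' : ℕ} (x : Fin n → M) (x' : Fin n' → M')
    (hx : Submodule.span R (Set.range x) = ⊤) (hx' : Submodule.span R (Set.range x') = ⊤) :
    Submodule.span R (Set.range (prodTuple x x')) = ⊤ := by
  rw [eq_top_iff]
  rintro ⟨m, m'⟩ -
  have hm : m ∈ Submodule.span R (Set.range x) := hx ▸ Submodule.mem_top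
  have hm' : m' ∈ Submodule.span R (Set.range x') := hx' ▸ Submodule.mem_top
  obtain ⟨c, rfl⟩ := (Submodule.mem_span_range_iff_exists_fun R).mp hm
  obtain ⟨c', rfl⟩ := (Submodule.mem_span_range_iff_exists_fun R).mp hm'
  rw [Submodule.mem_span_range_iff_exists_fun]
  refine ⟨Fin.append c c', ?_⟩
  rw [sum_prodTuple]
  simp


theorem mul_mem_sum {n n' : ℕ} (l k : ℕ) (hk : k ≤ l) {d d' : R}
    (hd : d ∈ Fitt.ideal R M k) (hd' : d' ∈ Fitt.ideal R M' (l - k)) :
    d * d' ∈ ∑ k ∈ Finset.range (l + 1), Fitt.ideal R M k * Fitt.ideal R M' (l - k) := by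
  have h1 : Fitt.ideal R M k * Fitt.ideal R M' (l - k) ≤
      ∑ k ∈ Finset.range (l + 1), Fitt.ideal R M k * Fitt.ideal R M' (l - k) := by
    rw [Ideal.sum_eq_sup]
    exact Finset.le_sup (f := fun k => Fitt.ideal R M k * Fitt.ideal R M' (l - k))
      (Finset.mem_range.2 (by omega))
  exact h1 (Ideal.mul_mem_mul hd hd')

theorem block_minor_mem {n n' p : ℕ} (x : Fin n → M) (x' : Fin n' → M')
    (hx : Submodule.span R (Set.range x) = ⊤) (hx' : Submodule.span R (Set.range x') = ⊤)
    (l : ℕ) (hp : n + n' - l ≤ p)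
    (w : Fin p → (Fin (n + n') → R)) (e : Fin p → Fin (n + n'))
    (hw : ∀ b, ∑ i, w b i • prodTuple x x' i = 0)
    (hW : ∀ b, (∀ j, w b (Fin.natAdd n j) = 0) ∨ (∀ i, w b (Fin.castAdd n' i) = 0)) :
    minorDet w e ∈ ∑ k ∈ Finset.range (l + 1), Fitt.ideal R M k * Fitt.ideal R M' (l - k) := by
  classical
  let rA : Fin p → Prop := fun b => ∀ j, w b (Fin.natAdd n j) = 0
  let cA : Fin p → Prop := fun a => (e a : ℕ) < n
  have hoff1 : ∀ a b, rA b → ¬ cA a → w b (e a) = 0 := by
    intro a b hb ha
    have hlt : (e a : ℕ) < n + n' := (e a).2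
    have hge : n ≤ (e a : ℕ) := not_lt.mp ha
    have : e a = Fin.natAdd n ⟨(e a : ℕ) - n, by omega⟩ := by
      apply Fin.ext
      simp only [Fin.natAdd_mk]
      omega
    rw [this]
    exact hb _
  have hoff2 : ∀ a b, ¬ rA b → cA a → w b (e a) = 0 := by
    intro a b hb ha
    have h1 := (hW b).resolve_left hb
    have : e a = Fin.castAdd n' ⟨(e a : ℕ), ha⟩ := by
      apply Fin.ext
      simp
    rw [this]
    exact h1 _
  have hwA : ∀ b, ∑ i, w b (Fin.castAdd n' i) • x i = 0 := by
    intro b
    have := hw b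
    rw [sum_prodTuple] at this
    exact (Prod.ext_iff.mp this).1
  have hwB : ∀ b, ∑ j, w b (Fin.natAdd n j) • x' j = 0 := by
    intro b
    have := hw b
    rw [sum_prodTuple] at this
    exact (Prod.ext_iff.mp this).2
  unfold minorDet
  set A : Matrix (Fin p) (Fin p) R := Matrix.of fun a b => w b (e a) with hA
  by_cases hcard : Fintype.card {b // rA b} = Fintype.card {a // cA a}
  · obtain ⟨τ, hτ⟩ := exists_perm_of_card_eq rA cA hcard
    have hdet : A.det = ((Equiv.Perm.sign τ : ℤˣ) : ℤ) * (A.submatrix τ id).det := by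
      rw [Matrix.det_permute, ← mul_assoc]
      have : (((Equiv.Perm.sign τ : ℤˣ) : ℤ) : R) * (((Equiv.Perm.sign τ : ℤˣ) : ℤ) : R) = 1 := by
        rw [← Int.cast_mul, ← Units.val_mul, Int.units_mul_self]
        simp
      rw [this, one_mul]
    rw [hdet]
    apply Ideal.mul_mem_left
    have hblock : ∀ i, ¬ rA i → ∀ j, rA j → (A.submatrix τ id) i j = 0 := by
      intro i hi j hj
      exact hoff1 (τ i) j hj (fun h => hi ((hτ i).mp h))
    rw [Matrix.twoBlockTriangular_det (A.submatrix τ id) rA hblock]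
    -- first block
    let zA : {b // rA b} → (Fin n → R) := fun b i => w b (Fin.castAdd n' i)
    let eA : {a // rA a} → Fin n := fun a => ⟨(e (τ a) : ℕ), (hτ a).mpr a.2⟩
    have hX : Matrix.toSquareBlockProp (A.submatrix τ id) rA =
        Matrix.of fun a b => zA b (eA a) := by
      ext a b
      change w b (e (τ a)) = w b (Fin.castAdd n' ⟨(e (τ a) : ℕ), _⟩)
      congr 1
    -- second block
    have hcB : ∀ a : {a // ¬ rA a}, n ≤ (e (τ a) : ℕ) := fun a =>
      not_lt.mp (fun h => a.2 ((hτ a).mp h))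
    let zB : {b // ¬ rA b} → (Fin n' → R) := fun b j => w b (Fin.natAdd n j)
    let eB : {a // ¬ rA a} → Fin n' := fun a => ⟨(e (τ a) : ℕ) - n, by
      have := (e (τ a)).2
      have := hcB a
      omega⟩
    have hY : Matrix.toSquareBlockProp (A.submatrix τ id) (fun i => ¬ rA i) =
        Matrix.of fun a b => zB b (eB a) := by
      ext a b
      change w b (e (τ a)) = w b (Fin.natAdd n ⟨(e (τ a) : ℕ) - n, _⟩)
      congr 1
      apply Fin.ext
      have := hcB a
      simp only [Fin.natAdd_mk]
      omega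
    rw [hX, hY]
    set pa := Fintype.card {b // rA b} with hpa
    set pb := Fintype.card {b // ¬ rA b} with hpb
    have hsum : pa + pb = p := by
      rw [hpb, Fintype.card_subtype_compl, Fintype.card_fin, hpa]
      have : Fintype.card {b // rA b} ≤ Fintype.card (Fin p) := Fintype.card_subtype_le _
      rw [Fintype.card_fin] at this
      omega
    by_cases hpan : n < pa
    · rw [det_eq_zero_of_card_lt hpan, zero_mul]
      exact Ideal.zero_mem _
    by_cases hpbn : n' < pb
    · rw [det_eq_zero_of_card_lt hpbn, mul_zero]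
      exact Ideal.zero_mem _
    push Not at hpan hpbn
    refine mul_mem_sum (n := n) (n' := n') l (n - pa) (by omega) ?_ ?_
    · exact det_mem_ideal_of_le x hx (n - pa) (by omega) zA eA (fun b => hwA b)
    · exact det_mem_ideal_of_le x' hx' (l - (n - pa)) (by omega) zB eB (fun b => hwB b)
  · have hzero : A.det = 0 := by
      rw [Matrix.det_apply]
      apply Finset.sum_eq_zero
      intro σ _
      have : ∏ i, A (σ i) i = 0 := by
        by_contra hne
        have hall : ∀ b, rA b ↔ cA (σ b) := by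
          intro b
          have hb : A (σ b) b ≠ 0 := fun h0 => hne (Finset.prod_eq_zero (Finset.mem_univ b) h0)
          constructor
          · intro hr
            by_contra hc
            exact hb (hoff1 _ _ hr hc)
          · intro hc
            by_contra hr
            exact hb (hoff2 _ _ hr hc)
        exact hcard (Fintype.card_congr (σ.subtypeEquiv hall))
      rw [this, smul_zero]
    rw [hzero]
    exact Ideal.zero_mem _


theorem span_split_relModule {n n' : ℕ} (x : Fin n → M) (x' : Fin n' → M') :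
    Submodule.span R {z : Fin (n + n') → R | z ∈ relModule R (prodTuple x x') ∧
      ((∀ j, z (Fin.natAdd n j) = 0) ∨ (∀ i, z (Fin.castAdd n' i) = 0))} =
      relModule R (prodTuple x x') := by
  apply le_antisymm
  · apply Submodule.span_le.2
    rintro z ⟨hz, -⟩
    exact hz
  · intro z hz
    rw [mem_relModule, sum_prodTuple] at hz
    have h1 := (Prod.ext_iff.mp hz).1
    have h2 := (Prod.ext_iff.mp hz).2
    simp only [Prod.fst_zero, Prod.snd_zero] at h1 h2
    have hsplit : z = Fin.append (fun i => z (Fin.castAdd n' i)) 0 +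
        Fin.append 0 (fun j => z (Fin.natAdd n j)) := by
      ext i
      refine Fin.addCases (fun i => ?_) (fun j => ?_) i
      · simp
      · simp
    rw [hsplit]
    apply Submodule.add_mem
    · apply Submodule.subset_span
      refine ⟨?_, Or.inl (fun j => by simp)⟩
      rw [mem_relModule, sum_prodTuple]
      simp [h1]
    · apply Submodule.subset_span
      refine ⟨?_, Or.inr (fun i => by simp)⟩
      rw [mem_relModule, sum_prodTuple]
      simp [h2]

theorem ideal_prod_le {n n' : ℕ} (x : Fin n → M) (x' : Fin n' → M')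
    (hx : Submodule.span R (Set.range x) = ⊤) (hx' : Submodule.span R (Set.range x') = ⊤)
    (l : ℕ) :
    Fitt.ideal R (M × M') l ≤
      ∑ k ∈ Finset.range (l + 1), Fitt.ideal R M k * Fitt.ideal R M' (l - k) := by
  rw [ideal_eq_F (prodTuple x x') (span_prodTuple x x' hx hx') l,
    F_eq_span_of_span_eq _ l _ (span_split_relModule x x')]
  apply Ideal.span_le.2
  rintro d ⟨w, e, hw, rfl⟩
  exact block_minor_mem x x' hx hx' l le_rfl w e (fun b => (mem_relModule _ _).1 (hw b).1)
    (fun b => (hw b).2)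

theorem mul_le_ideal_prod {n n' : ℕ} (x : Fin n → M) (x' : Fin n' → M')
    (hx : Submodule.span R (Set.range x) = ⊤) (hx' : Submodule.span R (Set.range x') = ⊤)
    (l k : ℕ) (hk : k ≤ l) :
    Fitt.ideal R M k * Fitt.ideal R M' (l - k) ≤ Fitt.ideal R (M × M') l := by
  classical
  rw [ideal_eq_F x hx k, ideal_eq_F x' hx' (l - k), F_eq_span_minorSet, F_eq_span_minorSet,
    Ideal.span_mul_span']
  apply Ideal.span_le.2
  rintro d hd
  obtain ⟨a, ⟨z, e, hz, rfl⟩, b, ⟨z', e', hz', rfl⟩, rfl⟩ := Set.mem_mul.mp hd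
  let Z : Fin (n - k) ⊕ Fin (n' - (l - k)) → (Fin (n + n') → R) :=
    Sum.elim (fun b => Fin.append (z b) 0) (fun b => Fin.append 0 (z' b))
  let E : Fin (n - k) ⊕ Fin (n' - (l - k)) → Fin (n + n') :=
    Sum.elim (fun a => Fin.castAdd n' (e a)) (fun a => Fin.natAdd n (e' a))
  have hmat : (Matrix.of fun a b => Z b (E a)) =
      Matrix.fromBlocks (Matrix.of fun a b => z b (e a)) 0 0 (Matrix.of fun a b => z' b (e' a)) := by
    ext a b
    rcases a with a | a <;> rcases b with b | b <;> simp [Z, E]
  have hdet : (Matrix.of fun a b => z b (e a)).det * (Matrix.of fun a b => z' b (e' a)).det =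
      (Matrix.of fun a b => Z b (E a)).det := by
    rw [hmat, Matrix.det_fromBlocks_zero₂₁]
  rw [SetLike.mem_coe, hdet]
  apply det_mem_ideal_of_le (prodTuple x x') (span_prodTuple x x' hx hx') l
  · rw [Fintype.card_sum, Fintype.card_fin, Fintype.card_fin]
    omega
  · intro j
    rw [sum_prodTuple]
    rcases j with j | j
    · simp [Z, hz j]
    · simp [Z, hz' j]

/-- S12084 -/
theorem ideal_prod_eq_sum_range [Module.Finite R M] [Module.Finite R M'] (l : ℕ) :
    Fitt.ideal R (M × M') l =
      ∑ k ∈ Finset.range (l + 1), Fitt.ideal R M k * Fitt.ideal R M' (l - k) := by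
  obtain ⟨n, x, hx⟩ := Module.Finite.exists_fin (R := R) (M := M)
  obtain ⟨n', x', hx'⟩ := Module.Finite.exists_fin (R := R) (M := M')
  apply le_antisymm (ideal_prod_le x x' hx hx' l)
  rw [Ideal.sum_eq_sup]
  apply Finset.sup_le
  intro k hk
  exact mul_le_ideal_prod x x' hx hx' l k (by have := Finset.mem_range.1 hk; omega)

end Prod

end Groth.Agent.Helper4.Fitting
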