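import Mathlib
import Groth.Prelude.Def_Fitting
import Groth.Agent.Lib.Helper4.Fitting18
import Groth.Agent.Lib.Helper4.Fitting10
import Groth.Agent.Lib.Helper4.Fitting13

/-!
# Fitting ideals: cokernels of matrices, Grassmannian points (helper4)
-/

set_option backward.isDefEq.respectTransparency.types false
set_option synthInstance.maxHeartbeats 400000
set_option autoImplicit false
set_option linter.unusedSectionVars false
set_option linter.style.haveILetI false
set_option linter.unusedSimpArgs false
universe u v w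

namespace Groth.Agent.Lib.Helper4.Fitting19
open Groth.Agent.Helper4.Fitting
open scoped TensorProduct

/-- Fitting ideals of a finite projective module of constant rank `k` vanish below `k`. -/
theorem ideal_eq_bot_of_projective_of_rank {A : Type u} [CommRing A] (Q : Type v) [AddCommGroup Q]
    [Module A Q] [Module.Finite A Q] [Module.Projective A Q] (k : ℕ)
    (hk : ∀ p, Module.rankAtStalk (R := A) Q p = k) (j : ℕ) (hj : j < k) :
    Fitt.ideal A Q j = ⊥ := by
  refine (ideal_conditions_of_free (R := A) (M := Q) k ?_).1 j hj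
  intro p hp
  obtain ⟨f, hf, hfree⟩ := Module.Free.away_of_finite_of_flat_of_rankAtStalk_constant Q p
    (fun m _ => by rw [hk, hk])
  refine ⟨f, hf, hfree, ?_⟩
  haveI : Nontrivial (Localization.Away f) := nontrivial_away_of_notMem p f hf
  obtain ⟨q, hq⟩ := Ideal.exists_maximal (Localization.Away f)
  have h1 := congrFun (Module.rankAtStalk_eq_finrank_of_free (R := Localization.Away f)
    (M := LocalizedModule (Submonoid.powers f) Q)) ⟨q, hq.isPrime⟩
  simp only [Pi.natCast_apply, Nat.cast_id] at h1
  rw [← h1, Module.rankAtStalk_isBaseChange (LocalizedModule.isBaseChange (Submonoid.powers f) Q), hk]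

theorem S14345_main (R : Type u) [CommRing R]
    (M : Type v) [AddCommGroup M] [Module R M] [Module.Finite R M] (k : ℕ)
    (A : Type u) [CommRing A] [Algebra R A] (N : Module.Grassmannian A (A ⊗[R] M) k)
    (j : ℕ) (hj : j < k) :
    (Fitt.ideal R M j).map (algebraMap R A) = ⊥ := by
  rw [← ideal_baseChange, eq_bot_iff]
  refine le_trans (ideal_mono_of_surjective (Submodule.mkQ N.toSubmodule)
    (Submodule.mkQ_surjective _) j) ?_
  rw [ideal_eq_bot_of_projective_of_rank _ k N.rankAtStalk_eq j hj]

section Coker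
variable {R : Type u} [CommRing R]

/-- ideal of `p × p` minors of the matrix of `τ` -/
def minorIdeal {a b : ℕ} (τ : (Fin a → R) →ₗ[R] (Fin b → R)) (p : ℕ) : Ideal R :=
  Ideal.span {d | ∃ (e : Fin p → Fin b) (c : Fin p → Fin a),
    d = (Matrix.of fun r s => τ (Pi.single (c s) 1) (e r)).det}

theorem span_range_single (a : ℕ) :
    Submodule.span R (Set.range (fun i : Fin a => (Pi.single i 1 : Fin a → R))) = ⊤ := by
  have := (Pi.basisFun R (Fin a)).span_eq
  rw [← this]
  congr 1
  ext v
  simp

theorem ideal_coker {a b : ℕ} (τ : (Fin a → R) →ₗ[R] (Fin b → R)) (k : ℕ) :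
    Fitt.ideal R ((Fin b → R) ⧸ LinearMap.range τ) k = minorIdeal τ (b - k) := by
  let x : Fin b → (Fin b → R) ⧸ LinearMap.range τ := fun i => Submodule.mkQ _ (Pi.single i 1)
  have hx : Submodule.span R (Set.range x) = ⊤ := by
    have h1 : Set.range x = (Submodule.mkQ (LinearMap.range τ)) ''
        Set.range (fun i : Fin b => (Pi.single i 1 : Fin b → R)) := by
      rw [← Set.range_comp]; rfl
    rw [h1, ← Submodule.map_span, span_range_single, Submodule.map_top, Submodule.range_mkQ]
  have hrel : relModule R x = LinearMap.range τ := by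
    ext z
    rw [mem_relModule]
    have : ∑ i, z i • x i = Submodule.mkQ _ z := by
      simp only [x, ← map_smul, ← map_sum]
      congr 1
      ext j; simp [Finset.sum_apply, Pi.single_apply]
    rw [this, Submodule.mkQ_apply, Submodule.Quotient.mk_eq_zero]
  let W : Set (Fin b → R) := Set.range (fun j : Fin a => τ (Pi.single j 1))
  have hW : Submodule.span R W = relModule R x := by
    rw [hrel, LinearMap.range_eq_map, ← span_range_single, Submodule.map_span, ← Set.range_comp]
    rfl
  rw [ideal_eq_F x hx k, F_eq_span_of_span_eq x k W hW]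
  unfold minorIdeal
  congr 1
  ext d
  constructor
  · rintro ⟨w, e, hw, rfl⟩
    choose c hc using hw
    refine ⟨e, c, ?_⟩
    unfold minorDet
    congr 1
    ext r s
    simp only [Matrix.of_apply]
    rw [← hc s]
  · rintro ⟨e, c, rfl⟩
    exact ⟨fun s => τ (Pi.single (c s) 1), e, fun s => ⟨c s, rfl⟩, rfl⟩

theorem minorIdeal_eq_bot {a b : ℕ} (τ : (Fin a → R) →ₗ[R] (Fin b → R)) (p : ℕ) (hp : a < p) :
    minorIdeal τ p = ⊥ := by
  rw [eq_bot_iff]
  apply Ideal.span_le.2
  rintro d ⟨e, c, rfl⟩
  have hc : ¬ Function.Injective c := by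
    intro hinj
    have := Fintype.card_le_of_injective c hinj
    simp at this
    omega
  rw [Function.Injective] at hc
  push Not at hc
  obtain ⟨s, s', hss, hne⟩ := hc
  rw [SetLike.mem_coe, Ideal.mem_bot]
  apply Matrix.det_zero_of_column_eq hne
  intro r
  simp only [Matrix.of_apply, hss]

/-- the transpose of `σ` -/
noncomputable def transposeMap {m n : ℕ} (σ : (Fin m → R) →ₗ[R] (Fin n → R)) :
    (Fin n → R) →ₗ[R] (Fin m → R) :=
  Matrix.toLin' (LinearMap.toMatrix' σ).transpose

theorem minorIdeal_transposeMap {m n : ℕ} (σ : (Fin m → R) →ₗ[R] (Fin n → R)) (p : ℕ) :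
    minorIdeal (transposeMap σ) p = minorIdeal σ p := by
  unfold minorIdeal
  congr 1
  ext d
  have key : ∀ (e : Fin p → Fin m) (c : Fin p → Fin n),
      (Matrix.of fun r s => transposeMap σ (Pi.single (c s) 1) (e r)).det =
      (Matrix.of fun r s => σ (Pi.single (e s) 1) (c r)).det := by
    intro e c
    rw [← Matrix.det_transpose]
    congr 1
    ext r s
    simp [transposeMap, Matrix.toLin'_apply, Matrix.mulVec_single_one, LinearMap.toMatrix'_apply]
  constructor
  · rintro ⟨e, c, rfl⟩
    exact ⟨c, e, key e c⟩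
  · rintro ⟨e, c, rfl⟩
    exact ⟨c, e, (key c e).symm⟩

/-- cokernel of the dual map is the cokernel of the transpose -/
theorem nonempty_coker_dual_equiv {m n : ℕ} (σ : (Fin m → R) →ₗ[R] (Fin n → R)) :
    Nonempty (((Fin m → R) ⧸ LinearMap.range (transposeMap σ)) ≃ₗ[R]
      (Module.Dual R (Fin m → R) ⧸ LinearMap.range σ.dualMap)) := by
  classical
  have hcomm : ∀ v : Fin n → R, dotProductEquiv R (Fin m) (transposeMap σ v) =
      σ.dualMap (dotProductEquiv R (Fin n) v) := by
    intro v
    ext j
    simp only [dotProductEquiv_apply_apply, LinearMap.dualMap_apply, transposeMap,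
      Matrix.toLin'_apply, LinearMap.coe_single, LinearMap.coe_comp, Function.comp_apply]
    rw [Matrix.mulVec_transpose, ← Matrix.dotProduct_mulVec]
    congr 1
    rw [← Matrix.toLin'_apply, Matrix.toLin'_toMatrix']
  refine ⟨Submodule.Quotient.equiv _ _ (dotProductEquiv R (Fin m)) ?_⟩
  apply le_antisymm
  · rintro _ ⟨_, ⟨v, rfl⟩, rfl⟩
    exact ⟨dotProductEquiv R (Fin n) v, (hcomm v).symm⟩
  · rintro _ ⟨φ, rfl⟩
    refine ⟨transposeMap σ ((dotProductEquiv R (Fin n)).symm φ), ⟨_, rfl⟩, ?_⟩
    rw [LinearEquiv.coe_coe, hcomm, LinearEquiv.apply_symm_apply]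

theorem S14347_main (R : Type u) [CommRing R] (m n : ℕ)
    (σ : (Fin m → R) →ₗ[R] (Fin n → R)) (hσ : Function.Injective σ) :
    (∀ j : ℕ, Fitt.ideal R ((Fin n → R) ⧸ LinearMap.range σ) (n - m + j) =
        Fitt.ideal R (Module.Dual R (Fin m → R) ⧸ LinearMap.range σ.dualMap) j) ∧
      ∀ i : ℕ, i < n - m → Fitt.ideal R ((Fin n → R) ⧸ LinearMap.range σ) i = ⊥ := by
  constructor
  · intro j
    rcases subsingleton_or_nontrivial R with hR | hR
    · exact Subsingleton.elim _ _
    have hmn : m ≤ n := le_of_fin_injective R σ hσ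
    obtain ⟨e⟩ := nonempty_coker_dual_equiv σ
    rw [← ideal_congr e j, ideal_coker, ideal_coker, minorIdeal_transposeMap]
    congr 1
    omega
  · intro i hi
    rw [ideal_coker]
    exact minorIdeal_eq_bot σ _ (by omega)

end Coker

end Groth.Agent.Lib.Helper4.Fitting19
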