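import Mathlib
import Groth.Prelude.Def_Hoch

/-!
Helper lemmas about the induced comodule `Hoch.Ind` and comodule maps.
-/

universe u v w w'

open TensorProduct

namespace Groth.Agent.Helper4.HochLib

section
variable {k : Type u} [CommRing k] {A : Type v} [AddCommGroup A] [Module k A] [Coalgebra k A]
variable {M : Type w} [AddCommGroup M] [Module k M]
variable {N : Type w'} [AddCommGroup N] [Module k N]

/-- naturality of `Ind.coactAux` -/
theorem coactAux_natural (h : M →ₗ[k] N) :
    Hoch.Ind.coactAux k A N ∘ₗ h.rTensor A = (h.rTensor A).rTensor A ∘ₗ Hoch.Ind.coactAux k A M := by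
  refine TensorProduct.ext' fun m a => ?_
  simp only [LinearMap.comp_apply, LinearMap.rTensor_tmul, Hoch.Ind.coactAux_tmul]
  generalize Coalgebra.comul (R := k) a = t
  induction t using TensorProduct.induction_on with
  | zero => simp
  | tmul x y => simp
  | add x y hx hy => simp only [tmul_add, map_add, hx, hy]

theorem coassoc' [HopfRep.Comod k A M] :
    (HopfRep.Comod.coact (k := k) (A := A) (V := M)).rTensor A ∘ₗ HopfRep.Comod.coact (k := k) (A := A) =
      Hoch.Ind.coactAux k A M ∘ₗ HopfRep.Comod.coact (k := k) (A := A) := by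
  have h := HopfRep.Comod.coassoc (k := k) (A := A) (V := M)
  ext m
  have h' := LinearMap.congr_fun h m
  simp only [LinearMap.comp_apply, LinearEquiv.coe_coe] at h' ⊢
  rw [Hoch.Ind.coactAux, LinearMap.comp_apply, ← h']
  simp

/-- `(id ⊗ ε) ⊗ id` after `id ⊗ Δ` is the identity. -/
theorem counit_rTensor_coactAux :
    ((TensorProduct.rid k N).toLinearMap ∘ₗ (Coalgebra.counit (R := k) (A := A)).lTensor N).rTensor A ∘ₗ
      Hoch.Ind.coactAux k A N = LinearMap.id := by
  refine TensorProduct.ext' fun n a => ?_
  simp only [LinearMap.comp_apply, Hoch.Ind.coactAux_tmul, LinearMap.id_apply]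
  have key : ∀ t : A ⊗[k] A,
      ((TensorProduct.rid k N).toLinearMap ∘ₗ (Coalgebra.counit (R := k) (A := A)).lTensor N).rTensor A
        ((TensorProduct.assoc k N A A).symm (n ⊗ₜ t)) =
      n ⊗ₜ (TensorProduct.lid k A ((Coalgebra.counit (R := k) (A := A)).rTensor A t)) := by
    intro t
    induction t using TensorProduct.induction_on with
    | zero => simp
    | tmul x y => simp [TensorProduct.smul_tmul]
    | add x y hx hy => simp only [tmul_add, map_add, hx, hy]
  rw [key, Coalgebra.rTensor_counit_comul]
  simp

/-- `(id ⊗ ε)` after the coaction is the identity. -/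
theorem counit_coact [HopfRep.Comod k A M] :
    (TensorProduct.rid k M).toLinearMap ∘ₗ (Coalgebra.counit (R := k) (A := A)).lTensor M ∘ₗ
      HopfRep.Comod.coact (k := k) (A := A) = LinearMap.id := by
  rw [HopfRep.Comod.counit_comp]
  ext m
  simp

end

end Groth.Agent.Helper4.HochLib
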