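import Mathlib
import Groth.Prelude.Def_Hoch
import Groth.Agent.Lib.Helper4.HochLib

/-!
Convolution calculus for comodules: for a comodule `M` over a coalgebra `A`, a commutative
`k`-algebra `R` acting on a module `N` through `μ : R →ₐ[k] End_k N`, a linear `f : M → N` and
`φ : A → R`, `cap μ f φ : M → N` is `m ↦ Σ μ (φ m₁) (f m₀)`.  Coassociativity becomes
`cap μ (cap μ f φ) ψ = cap μ f (φ * ψ)` for the convolution product.
-/

universe u v w w' w''

open TensorProduct WithConv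

namespace Groth.Agent.Helper4.Conv

section Cap
variable {k : Type u} [CommRing k] {A : Type v} [AddCommGroup A] [Module k A] [Coalgebra k A]
variable {M : Type w} [AddCommGroup M] [Module k M]
variable {R : Type w'} [CommRing R] [Algebra k R]
variable {N : Type w''} [AddCommGroup N] [Module k N]

/-- `x ⊗ a ↦ μ (φ a) (f x)` -/
noncomputable def capAux (μ : R →ₐ[k] Module.End k N) (f : M →ₗ[k] N) (φ : A →ₗ[k] R) :
    M ⊗[k] A →ₗ[k] N :=
  TensorProduct.lift ((μ.toLinearMap ∘ₗ φ).flip ∘ₗ f)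

@[simp] theorem capAux_tmul (μ : R →ₐ[k] Module.End k N) (f : M →ₗ[k] N) (φ : A →ₗ[k] R)
    (x : M) (a : A) : capAux μ f φ (x ⊗ₜ[k] a) = μ (φ a) (f x) := by
  simp [capAux]

theorem capAux_add (μ : R →ₐ[k] Module.End k N) (f : M →ₗ[k] N) (φ ψ : A →ₗ[k] R) :
    capAux μ f (φ + ψ) = capAux μ f φ + capAux μ f ψ := by
  ext x a; simp

theorem capAux_zero (μ : R →ₐ[k] Module.End k N) (f : M →ₗ[k] N) :
    capAux μ f (0 : A →ₗ[k] R) = 0 := by
  ext x a; simp

theorem capAux_smul (μ : R →ₐ[k] Module.End k N) (f : M →ₗ[k] N) (c : k) (φ : A →ₗ[k] R) :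
    capAux μ f (c • φ) = c • capAux μ f φ := by
  ext x a; simp

theorem capAux_rsmul (μ : R →ₐ[k] Module.End k N) (f : M →ₗ[k] N) (r : R) (φ : A →ₗ[k] R) :
    capAux μ f (r • φ) = μ r ∘ₗ capAux μ f φ := by
  ext x a; simp [Module.End.mul_apply]

variable [HopfRep.Comod k A M]

/-- `m ↦ Σ μ (φ m₁) (f m₀)` -/
noncomputable def cap (μ : R →ₐ[k] Module.End k N) (f : M →ₗ[k] N) (φ : WithConv (A →ₗ[k] R)) :
    M →ₗ[k] N :=
  capAux μ f φ.ofConv ∘ₗ HopfRep.Comod.coact (k := k) (A := A)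

theorem cap_apply_of_coact_eq (μ : R →ₐ[k] Module.End k N) (f : M →ₗ[k] N)
    (φ : WithConv (A →ₗ[k] R)) (m x : M) (a : A)
    (h : HopfRep.Comod.coact (k := k) (A := A) m = x ⊗ₜ[k] a) :
    cap μ f φ m = μ (φ a) (f x) := by
  simp [cap, h]

theorem cap_add (μ : R →ₐ[k] Module.End k N) (f : M →ₗ[k] N) (φ ψ : WithConv (A →ₗ[k] R)) :
    cap μ f (φ + ψ) = cap μ f φ + cap μ f ψ := by
  simp [cap, capAux_add, LinearMap.add_comp]

theorem cap_zero (μ : R →ₐ[k] Module.End k N) (f : M →ₗ[k] N) :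
    cap μ f (0 : WithConv (A →ₗ[k] R)) = 0 := by
  simp [cap, capAux_zero]

theorem cap_sum {ι : Type*} (μ : R →ₐ[k] Module.End k N) (f : M →ₗ[k] N) (s : Finset ι)
    (φ : ι → WithConv (A →ₗ[k] R)) :
    cap μ f (∑ i ∈ s, φ i) = ∑ i ∈ s, cap μ f (φ i) := by
  classical
  induction s using Finset.induction_on with
  | empty => simp [cap_zero]
  | insert a s ha ih => rw [Finset.sum_insert ha, Finset.sum_insert ha, cap_add, ih]

theorem cap_rsmul (μ : R →ₐ[k] Module.End k N) (f : M →ₗ[k] N) (r : R)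
    (φ : WithConv (A →ₗ[k] R)) :
    cap μ f (r • φ) = μ r ∘ₗ cap μ f φ := by
  simp [cap, capAux_rsmul, LinearMap.comp_assoc]

theorem cap_one (μ : R →ₐ[k] Module.End k N) (f : M →ₗ[k] N) :
    cap μ f (1 : WithConv (A →ₗ[k] R)) = f := by
  have h : capAux μ f (1 : WithConv (A →ₗ[k] R)).ofConv =
      f ∘ₗ (TensorProduct.rid k M).toLinearMap ∘ₗ (Coalgebra.counit (R := k) (A := A)).lTensor M := by
    ext x a
    simp [LinearMap.convOne_def, Algebra.algebraMap_eq_smul_one]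
  rw [cap, h, LinearMap.comp_assoc, LinearMap.comp_assoc, HochLib.counit_coact, LinearMap.comp_id]

theorem cap_mul (μ : R →ₐ[k] Module.End k N) (f : M →ₗ[k] N) (φ ψ : WithConv (A →ₗ[k] R)) :
    cap μ (cap μ f φ) ψ = cap μ f (φ * ψ) := by
  have h1 : capAux μ (capAux μ f φ.ofConv ∘ₗ HopfRep.Comod.coact (k := k) (A := A)) ψ.ofConv =
      capAux μ (capAux μ f φ.ofConv) ψ.ofConv ∘ₗ
        (HopfRep.Comod.coact (k := k) (A := A) (V := M)).rTensor A := by
    ext x a; simp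
  have h2 : capAux μ (capAux μ f φ.ofConv) ψ.ofConv ∘ₗ Hoch.Ind.coactAux k A M =
      capAux μ f (φ * ψ).ofConv := by
    refine TensorProduct.ext' fun x c => ?_
    simp only [LinearMap.comp_apply, Hoch.Ind.coactAux_tmul, capAux_tmul, LinearMap.convMul_def,
      WithConv.ofConv_toConv]
    generalize Coalgebra.comul (R := k) c = t
    induction t using TensorProduct.induction_on with
    | zero => simp
    | tmul a b => simp [Module.End.mul_apply, mul_comm (φ.ofConv a)]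
    | add s t hs ht => simp only [tmul_add, map_add, LinearMap.add_apply, hs, ht]
  unfold cap
  rw [h1, LinearMap.comp_assoc, HochLib.coassoc', ← LinearMap.comp_assoc, h2]

/-- post-composition with a semilinear map -/
theorem comp_cap {R' : Type*} [CommRing R'] [Algebra k R'] {N' : Type*} [AddCommGroup N']
    [Module k N'] (μ : R →ₐ[k] Module.End k N) (μ' : R' →ₐ[k] Module.End k N')
    (g : N →ₗ[k] N') (σ : R →ₐ[k] R') (h : ∀ r, g ∘ₗ μ r = μ' (σ r) ∘ₗ g)
    (f : M →ₗ[k] N) (φ : WithConv (A →ₗ[k] R)) :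
    g ∘ₗ cap μ f φ = cap μ' (g ∘ₗ f) (toConv (σ.toLinearMap ∘ₗ φ.ofConv)) := by
  have : g ∘ₗ capAux μ f φ.ofConv = capAux μ' (g ∘ₗ f) (σ.toLinearMap ∘ₗ φ.ofConv) := by
    ext x a
    have := LinearMap.congr_fun (h (φ.ofConv a)) (f x)
    simpa using this
  rw [cap, ← LinearMap.comp_assoc, this]
  rfl

/-- changing the acting algebra -/
theorem cap_comp_algHom {R' : Type*} [CommRing R'] [Algebra k R']
    (μ' : R' →ₐ[k] Module.End k N) (σ : R →ₐ[k] R') (f : M →ₗ[k] N) (φ : WithConv (A →ₗ[k] R)) :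
    cap (μ'.comp σ) f φ = cap μ' f (toConv (σ.toLinearMap ∘ₗ φ.ofConv)) := by
  have : capAux (μ'.comp σ) f φ.ofConv = capAux μ' f (σ.toLinearMap ∘ₗ φ.ofConv) := by
    ext x a; simp
  rw [cap, this]
  rfl

/-- pre-composition with a comodule map -/
theorem cap_comp_hom {M' : Type*} [AddCommGroup M'] [Module k M'] [HopfRep.Comod k A M']
    (μ : R →ₐ[k] Module.End k N) (f : M →ₗ[k] N) (φ : WithConv (A →ₗ[k] R))
    (h : M' →ₗ[k] M) (hh : Hoch.IsComodHom A h) :
    cap μ f φ ∘ₗ h = cap μ (f ∘ₗ h) φ := by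
  have : capAux μ f φ.ofConv ∘ₗ h.rTensor A = capAux μ (f ∘ₗ h) φ.ofConv := by
    ext x a; simp
  unfold Hoch.IsComodHom at hh
  rw [cap, LinearMap.comp_assoc, hh, ← LinearMap.comp_assoc, this]
  rfl

end Cap

end Groth.Agent.Helper4.Conv
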