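import Mathlib
import Groth.Agent.Lib.Helper4.Conv

/-!
Antipode identities in convolution form, for a commutative Hopf algebra.
-/

universe u v w w' w''

open TensorProduct WithConv

namespace Groth.Agent.Helper4.Conv

section Hopf
variable {k : Type u} [CommRing k] {A : Type v} [CommRing A] [HopfAlgebra k A]

/-- `Δ ∘ S = τ ∘ (S ⊗ S) ∘ Δ` for a commutative Hopf algebra. -/
theorem comul_comp_antipode :
    (Coalgebra.comul (R := k) (A := A)) ∘ₗ HopfAlgebra.antipode k =
      (TensorProduct.comm k A A).toLinearMap ∘ₗ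
        TensorProduct.map (HopfAlgebra.antipode k) (HopfAlgebra.antipode k) ∘ₗ
        Coalgebra.comul (R := k) (A := A) := by
  -- in the group of algebra maps `A → A ⊗ A` under convolution
  let G := WithConv (A →ₐ[k] A ⊗[k] A)
  let iL : G := toConv (Algebra.TensorProduct.includeLeft : A →ₐ[k] A ⊗[k] A)
  let iR : G := toConv (Algebra.TensorProduct.includeRight : A →ₐ[k] A ⊗[k] A)
  let D : G := toConv (Bialgebra.comulAlgHom k A)
  have hD : D = iL * iR := by
    apply WithConv.ofConv_injective
    apply AlgHom.toLinearMap_injective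
    apply WithConv.toConv_injective
    rw [AlgHom.toLinearMap_convMul]
    ext a
    simp only [LinearMap.convMul_apply]
    change Coalgebra.comul (R := k) a = _
    generalize Coalgebra.comul (R := k) a = t
    induction t using TensorProduct.induction_on with
    | zero => simp
    | tmul x y => simp [iL, iR]
    | add x y hx hy => rw [map_add, map_add, ← hx, ← hy]
  have hinv : D⁻¹ = iR⁻¹ * iL⁻¹ := by rw [hD]; exact mul_inv_rev iL iR
  have h1 : D⁻¹ = toConv ((Bialgebra.comulAlgHom k A).comp (HopfAlgebra.antipodeAlgHom k A)) := rfl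
  have h2 : iR⁻¹ = toConv ((Algebra.TensorProduct.includeRight : A →ₐ[k] A ⊗[k] A).comp
      (HopfAlgebra.antipodeAlgHom k A)) := rfl
  have h3 : iL⁻¹ = toConv ((Algebra.TensorProduct.includeLeft : A →ₐ[k] A ⊗[k] A).comp
      (HopfAlgebra.antipodeAlgHom k A)) := rfl
  have key : toConv (D⁻¹).ofConv.toLinearMap = toConv (iR⁻¹ * iL⁻¹).ofConv.toLinearMap := by
    rw [hinv]
  rw [AlgHom.toLinearMap_convMul] at key
  rw [h1, h2, h3] at key
  have key' := congrArg WithConv.ofConv key
  ext a
  have := LinearMap.congr_fun key' a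
  simp only [WithConv.ofConv_toConv, LinearMap.convMul_def] at this
  simp only [LinearMap.comp_apply]
  change Coalgebra.comul (R := k) (HopfAlgebra.antipode k a) = _ at this
  rw [this]
  simp only [LinearMap.comp_apply, LinearEquiv.coe_coe]
  generalize Coalgebra.comul (R := k) a = t
  induction t using TensorProduct.induction_on with
  | zero => simp
  | tmul x y => simp
  | add x y hx hy => simp only [map_add, hx, hy]

variable {R : Type w'} [CommRing R] [Algebra k R]

/-- `(φ * ψ) ∘ S = (ψ ∘ S) * (φ ∘ S)` -/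
theorem convMul_comp_antipode (φ ψ : WithConv (A →ₗ[k] R)) :
    toConv ((φ * ψ).ofConv ∘ₗ HopfAlgebra.antipode k) =
      toConv (ψ.ofConv ∘ₗ HopfAlgebra.antipode k) * toConv (φ.ofConv ∘ₗ HopfAlgebra.antipode k) := by
  apply WithConv.ofConv_injective
  simp only [LinearMap.convMul_def, WithConv.ofConv_toConv]
  rw [LinearMap.comp_assoc, LinearMap.comp_assoc, comul_comp_antipode]
  ext a
  simp only [LinearMap.comp_apply, LinearEquiv.coe_coe]
  generalize Coalgebra.comul (R := k) a = t
  induction t using TensorProduct.induction_on with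
  | zero => simp
  | tmul x y => simp [mul_comm]
  | add x y hx hy => simp only [map_add, hx, hy]

/-- `Σ φ(a x₁) ψ(b x₂)`-type identity: `(φ * ψ) ∘ (c ·) = Σ (φ ∘ (xᵢ ·)) * (ψ ∘ (yᵢ ·))` when
`Δ c = Σ xᵢ ⊗ yᵢ`. -/
theorem convMul_comp_mulLeft {ι : Type*} (φ ψ : WithConv (A →ₗ[k] R)) (c : A)
    (𝓡 : Coalgebra.Repr k c ι) :
    toConv ((φ * ψ).ofConv ∘ₗ LinearMap.mulLeft k c) =
      ∑ i ∈ 𝓡.index, toConv (φ.ofConv ∘ₗ LinearMap.mulLeft k (𝓡.left i)) *
        toConv (ψ.ofConv ∘ₗ LinearMap.mulLeft k (𝓡.right i)) := by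
  apply WithConv.ofConv_injective
  ext a
  simp only [LinearMap.convMul_def, WithConv.ofConv_toConv, LinearMap.comp_apply,
    LinearMap.mulLeft_apply, Bialgebra.comul_mul, ← 𝓡.eq, WithConv.ofConv_sum, LinearMap.sum_apply,
    Finset.sum_mul, map_sum]
  refine Finset.sum_congr rfl fun i _ => ?_
  generalize Coalgebra.comul (R := k) a = t
  induction t using TensorProduct.induction_on with
  | zero => simp
  | tmul x y => simp
  | add x y hx hy => simp only [mul_add, map_add, hx, hy]

/-- `j * (j ∘ S) = 1` for an algebra map `j`. -/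
theorem algHom_mul_algHom_comp_antipode (j : A →ₐ[k] R) :
    toConv j.toLinearMap * toConv (j.toLinearMap ∘ₗ HopfAlgebra.antipode k) =
      (1 : WithConv (A →ₗ[k] R)) := by
  have h := LinearMap.algHom_comp_convMul_distrib (R := k) (C := A) j (toConv LinearMap.id)
    (toConv (HopfAlgebra.antipode k (A := A)))
  rw [LinearMap.id_mul_antipode] at h
  simp only [WithConv.ofConv_toConv, LinearMap.comp_id] at h
  apply WithConv.ofConv_injective
  rw [← h]
  ext a
  simp [LinearMap.convOne_def]

theorem algHom_comp_antipode_mul_algHom (j : A →ₐ[k] R) :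
    toConv (j.toLinearMap ∘ₗ HopfAlgebra.antipode k) * toConv j.toLinearMap =
      (1 : WithConv (A →ₗ[k] R)) := by
  have h := LinearMap.algHom_comp_convMul_distrib (R := k) (C := A) j
    (toConv (HopfAlgebra.antipode k (A := A))) (toConv LinearMap.id)
  rw [LinearMap.antipode_mul_id] at h
  simp only [WithConv.ofConv_toConv, LinearMap.comp_id] at h
  apply WithConv.ofConv_injective
  rw [← h]
  ext a
  simp [LinearMap.convOne_def]

end Hopf

end Groth.Agent.Helper4.Conv
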