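import Mathlib
import Groth.Prelude.Def_HopfRep
import Groth.Prelude.Def_Hoch

/-!
# Comodules as modules over the dual (convolution) algebra

For a coalgebra `C` over `k` and a right `C`-comodule `V`, the dual algebra
`WithConv (C →ₗ[k] k)` acts on `V` by `l • v = (id ⊗ l) (ρ v)`.  Over a field, subcomodules are
exactly the submodules for this action and comodule maps are exactly the linear maps for it.
-/

set_option linter.unusedSectionVars false

namespace Groth.Agent.Helper4.Comod

open TensorProduct HopfRep

universe u v w w'

section Ring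

variable {k : Type u} {C : Type v} [CommRing k] [AddCommGroup C] [Module k C]
variable (V : Type w) [AddCommGroup V] [Module k V]
variable {W : Type w'} [AddCommGroup W] [Module k W]

/-- The slice map `V ⊗ C → V`, `v ⊗ c ↦ l c • v`. -/
noncomputable def sl (l : C →ₗ[k] k) : V ⊗[k] C →ₗ[k] V :=
  (TensorProduct.rid k V).toLinearMap ∘ₗ l.lTensor V

@[simp] lemma sl_tmul (l : C →ₗ[k] k) (v : V) (c : C) : sl V l (v ⊗ₜ[k] c) = l c • v := by
  simp [sl]

variable {V}

lemma sl_rTensor (f : V →ₗ[k] W) (l : C →ₗ[k] k) (x : V ⊗[k] C) :
    sl W l (f.rTensor C x) = f (sl V l x) := by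
  induction x using TensorProduct.induction_on with
  | zero => simp
  | tmul v c => simp
  | add x y hx hy => simp only [map_add, hx, hy]

lemma sl_add (l m : C →ₗ[k] k) : sl V (l + m) = sl V l + sl V m := by
  ext v c; simp [add_smul]

lemma sl_smul (a : k) (l : C →ₗ[k] k) : sl V (a • l) = a • sl V l := by
  ext v c; simp [mul_smul]

lemma sl_zero : sl V (0 : C →ₗ[k] k) = 0 := by
  ext v c; simp

variable [Coalgebra k C] [Comod k C V]

variable (V) in
/-- The action of a functional on a comodule. -/
noncomputable def act (l : C →ₗ[k] k) : V →ₗ[k] V := sl V l ∘ₗ Comod.coact (k := k) (A := C)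

lemma act_apply (l : C →ₗ[k] k) (v : V) :
    act V l v = sl V l (Comod.coact (k := k) (A := C) v) := rfl

lemma act_counit (v : V) : act V (Coalgebra.counit (R := k) (A := C)) v = v := by
  have h := congrArg (fun F => F v) (Comod.counit_comp (k := k) (A := C) (V := V))
  simp only [LinearMap.comp_apply, LinearMap.flip_apply, TensorProduct.mk_apply] at h
  rw [act_apply, sl, LinearMap.comp_apply, h]
  simp

/-- key identity behind associativity of the action -/
lemma sl_sl_assoc (l m : C →ₗ[k] k) (v : V) (t : C ⊗[k] C) :
    sl V l (sl (V ⊗[k] C) m ((TensorProduct.assoc k V C C).symm (v ⊗ₜ[k] t))) =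
      (LinearMap.mul' k k (TensorProduct.map l m t)) • v := by
  induction t using TensorProduct.induction_on with
  | zero => simp
  | tmul c c' =>
    simp only [TensorProduct.assoc_symm_tmul, sl_tmul, map_smul, TensorProduct.map_tmul,
      LinearMap.mul'_apply, smul_smul]
    rw [mul_comm]
  | add x y hx hy =>
    simp only [TensorProduct.tmul_add, map_add, hx, hy, add_smul]

lemma sl_conv (l m : WithConv (C →ₗ[k] k)) (x : V ⊗[k] C) :
    sl V (l * m).ofConv x =
      sl V l.ofConv (sl (V ⊗[k] C) m.ofConv ((TensorProduct.assoc k V C C).symm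
        ((Coalgebra.comul (R := k) (A := C)).lTensor V x))) := by
  induction x using TensorProduct.induction_on with
  | zero => simp
  | tmul v c =>
    rw [LinearMap.lTensor_tmul, sl_sl_assoc, sl_tmul]
    rfl
  | add x y hx hy => simp only [map_add, hx, hy]

lemma act_mul (l m : WithConv (C →ₗ[k] k)) (v : V) :
    act V (l * m).ofConv v = act V l.ofConv (act V m.ofConv v) := by
  rw [act_apply, sl_conv]
  have h := congrArg (fun F => F v) (Comod.coassoc (k := k) (A := C) (V := V))
  simp only [LinearMap.comp_apply, LinearEquiv.coe_coe] at h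
  rw [← h, LinearEquiv.symm_apply_apply, act_apply, act_apply]
  -- sl (V ⊗ C) m (ρ ⊗ id) (ρ v) = ρ (sl V m (ρ v))
  congr 1
  rw [sl_rTensor]

variable (k C V) in
/-- The module structure of a comodule over the dual algebra. -/
@[reducible] noncomputable def dualModule : Module (WithConv (C →ₗ[k] k)) V where
  smul l v := act V l.ofConv v
  one_smul v := by
    change act V (1 : WithConv (C →ₗ[k] k)).ofConv v = v
    have : (1 : WithConv (C →ₗ[k] k)).ofConv = Coalgebra.counit (R := k) (A := C) := by
      rw [LinearMap.convOne_def]
      ext c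
      simp
    rw [this, act_counit]
  mul_smul l m v := act_mul l m v
  smul_zero l := map_zero _
  smul_add l v w := map_add _ _ _
  add_smul l m v := by
    change act V (l + m).ofConv v = act V l.ofConv v + act V m.ofConv v
    rw [WithConv.ofConv_add, act, sl_add]
    rfl
  zero_smul v := by
    change act V (0 : WithConv (C →ₗ[k] k)).ofConv v = 0
    rw [WithConv.ofConv_zero, act, sl_zero]
    rfl

end Ring

section Field

variable {k : Type u} {C : Type v} [Field k] [AddCommGroup C] [Module k C]
variable {V : Type w} [AddCommGroup V] [Module k V]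
variable {W : Type w'} [AddCommGroup W] [Module k W]

open Classical in
lemma equiv_apply_eq_sl (b : Module.Basis (Module.Basis.ofVectorSpaceIndex k C) k C)
    (x : V ⊗[k] C) (i : Module.Basis.ofVectorSpaceIndex k C) :
    (TensorProduct.equivFinsuppOfBasisRight b x) i = sl V (b.coord i) x := by
  induction x using TensorProduct.induction_on with
  | zero => simp
  | tmul v c =>
    rw [TensorProduct.equivFinsuppOfBasisRight_apply_tmul_apply, sl_tmul]
    rfl
  | add x y hx hy => simp only [map_add, Finsupp.add_apply, hx, hy]

/-- Over a field, elements of `V ⊗ C` are detected by their slices. -/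
lemma eq_of_sl_eq (x y : V ⊗[k] C) (h : ∀ l : C →ₗ[k] k, sl V l x = sl V l y) : x = y := by
  classical
  set b := Module.Basis.ofVectorSpace k C
  apply (TensorProduct.equivFinsuppOfBasisRight b).injective
  ext i
  rw [equiv_apply_eq_sl, equiv_apply_eq_sl, h]

/-- Over a field, `x ∈ W ⊗ C` iff all slices of `x` lie in `W`. -/
lemma mem_range_rTensor_subtype_iff (W : Submodule k V) (x : V ⊗[k] C) :
    x ∈ LinearMap.range (W.subtype.rTensor C) ↔ ∀ l : C →ₗ[k] k, sl V l x ∈ W := by
  classical
  constructor
  · rintro ⟨y, rfl⟩ l
    rw [sl_rTensor]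
    exact (sl W l y).2
  · intro h
    set b := Module.Basis.ofVectorSpace k C
    set e := TensorProduct.equivFinsuppOfBasisRight (M := V) b
    have hx : x = (e x).sum fun i m => m ⊗ₜ[k] b i := by
      rw [← TensorProduct.equivFinsuppOfBasisRight_symm_apply, LinearEquiv.symm_apply_apply]
    rw [hx]
    refine Submodule.sum_mem _ fun i _ => ?_
    have hi : (e x) i ∈ W := by
      rw [equiv_apply_eq_sl]; exact h _
    exact ⟨(⟨(e x) i, hi⟩ : W) ⊗ₜ[k] b i, by simp⟩

variable [Coalgebra k C] [Comod k C V] [Comod k C W]

/-- Over a field, a subspace is a subcomodule iff it is stable under all functionals. -/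
lemma isSubcomod_iff (U : Submodule k V) :
    IsSubcomod (k := k) (A := C) U ↔ ∀ (l : C →ₗ[k] k), ∀ u ∈ U, act V l u ∈ U := by
  constructor
  · intro h l u hu
    exact (mem_range_rTensor_subtype_iff U _).mp (h u hu) l
  · intro h u hu
    exact (mem_range_rTensor_subtype_iff U _).mpr fun l => h l u hu

/-- Over a field, comodule maps are the maps commuting with all functionals. -/
lemma isComodHom_iff (f : V →ₗ[k] W) :
    Hoch.IsComodHom C f ↔ ∀ (l : C →ₗ[k] k) (v : V), f (act V l v) = act W l (f v) := by
  constructor
  · intro h l v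
    have h1 := congrArg (fun F => F v) h
    simp only [LinearMap.comp_apply] at h1
    rw [act_apply, act_apply, h1, sl_rTensor]
  · intro h
    apply LinearMap.ext
    intro v
    simp only [LinearMap.comp_apply]
    apply eq_of_sl_eq
    intro l
    rw [sl_rTensor]
    exact (h l v).symm

end Field

section Bridge

variable {k : Type u} {C : Type v} [Field k] [AddCommGroup C] [Module k C] [Coalgebra k C]
variable {V : Type w} [AddCommGroup V] [Module k V] [Comod k C V]
variable {W : Type w'} [AddCommGroup W] [Module k W] [Comod k C W]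

/-- The dual algebra. -/
abbrev Dual (k : Type u) (C : Type v) [CommRing k] [AddCommGroup C] [Module k C]
    [Coalgebra k C] := WithConv (C →ₗ[k] k)

attribute [local instance] dualModule

lemma dual_smul_def (l : Dual k C) (v : V) : l • v = act V l.ofConv v := rfl

instance isScalarTower_dual : IsScalarTower k (Dual k C) V where
  smul_assoc a l v := by
    rw [dual_smul_def, dual_smul_def, WithConv.ofConv_smul, act, sl_smul]
    rfl

/-- A subcomodule, as a submodule over the dual algebra. -/
def toSubmodule (U : Submodule k V) (h : IsSubcomod (k := k) (A := C) U) :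
    Submodule (Dual k C) V where
  carrier := U
  add_mem' := U.add_mem
  zero_mem' := U.zero_mem
  smul_mem' l u hu := (isSubcomod_iff U).mp h l.ofConv u hu

@[simp] lemma restrictScalars_toSubmodule (U : Submodule k V)
    (h : IsSubcomod (k := k) (A := C) U) : (toSubmodule U h).restrictScalars k = U := rfl

lemma isSubcomod_restrictScalars (N : Submodule (Dual k C) V) :
    IsSubcomod (k := k) (A := C) (N.restrictScalars k) :=
  (isSubcomod_iff _).mpr fun l u hu => N.smul_mem (WithConv.toConv l) hu

lemma isSimpleComod_iff : IsSimpleComod k C V ↔ IsSimpleModule (Dual k C) V := by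
  rw [isSimpleModule_iff]
  constructor
  · rintro ⟨hnt, h⟩
    haveI := hnt
    refine { exists_pair_ne := ⟨⊥, ⊤, bot_ne_top⟩, eq_bot_or_eq_top := fun N => ?_ }
    rcases h _ (isSubcomod_restrictScalars N) with h1 | h1
    · left; simpa using h1
    · right; simpa using h1
  · intro h
    refine ⟨?_, fun U hU => ?_⟩
    · obtain ⟨a, b, hab⟩ := h.exists_pair_ne
      by_contra hnt
      rw [not_nontrivial_iff_subsingleton] at hnt
      exact hab (Subsingleton.elim _ _)
    · rcases h.eq_bot_or_eq_top (toSubmodule U hU) with h1 | h1
      · left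
        rw [← restrictScalars_toSubmodule U hU, h1, Submodule.restrictScalars_bot]
      · right
        rw [← restrictScalars_toSubmodule U hU, h1, Submodule.restrictScalars_top]

lemma isSemisimpleComod_iff : IsSemisimpleComod k C V ↔ IsSemisimpleModule (Dual k C) V := by
  rw [isSemisimpleModule_iff]
  constructor
  · intro h
    refine ⟨fun N => ?_⟩
    obtain ⟨U', hU', hc⟩ := h _ (isSubcomod_restrictScalars N)
    refine ⟨toSubmodule U' hU', ?_⟩
    rw [← Submodule.isCompl_restrictScalars_iff (S := k)]
    exact hc
  · intro h U hU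
    obtain ⟨N', hN'⟩ := h.exists_isCompl (toSubmodule U hU)
    refine ⟨N'.restrictScalars k, isSubcomod_restrictScalars N', ?_⟩
    rw [← Submodule.isCompl_restrictScalars_iff (S := k)] at hN'
    exact hN'

/-- A comodule map, as a linear map over the dual algebra. -/
def toDualLinear (f : V →ₗ[k] W) (hf : Hoch.IsComodHom C f) : V →ₗ[Dual k C] W where
  toFun := f
  map_add' := f.map_add
  map_smul' l v := (isComodHom_iff f).mp hf l.ofConv v

@[simp] lemma toDualLinear_apply (f : V →ₗ[k] W) (hf : Hoch.IsComodHom C f) (v : V) :
    toDualLinear f hf v = f v := rfl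

lemma isComodHom_restrictScalars (g : V →ₗ[Dual k C] W) :
    Hoch.IsComodHom C (g.restrictScalars k) :=
  (isComodHom_iff _).mpr fun l v => g.map_smul (WithConv.toConv l) v

end Bridge

end Groth.Agent.Helper4.Comod
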