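import Mathlib
import Groth.Prelude.Def_ComodSub
import Groth.Agent.Lib.Helper4.Comod

/-!
Comodules over a field: local finiteness, restriction to subcomodules in terms of the dual algebra,
and "every finite-dimensional comodule semisimple ⟹ every comodule semisimple".
-/

universe u v w w'

open TensorProduct HopfRep

namespace Groth.Agent.Helper4.Comod

attribute [local instance] dualModule

section
variable {k : Type u} {C : Type v} [Field k] [AddCommGroup C] [Module k C] [Coalgebra k C]
variable {V : Type w} [AddCommGroup V] [Module k V] [c : Comod k C V]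

/-- every vector lies in a finite-dimensional subcomodule -/
theorem exists_finite_subcomod_mem (v : V) :
    ∃ W : Submodule k V, Module.Finite k W ∧ v ∈ W ∧ IsSubcomod (k := k) (A := C) W := by
  classical
  -- the cyclic submodule over the dual algebra
  let N : Submodule (Dual k C) V := Submodule.span (Dual k C) {v}
  refine ⟨N.restrictScalars k, ?_, Submodule.subset_span rfl, isSubcomod_restrictScalars N⟩
  -- it is contained in the span of the left tensor factors of `ρ v`
  obtain ⟨s, hs⟩ := TensorProduct.exists_finset (Comod.coact (k := k) (A := C) v)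
  have hle : N.restrictScalars k ≤ Submodule.span k ((fun p : V × C => p.1) '' (s : Set (V × C))) := by
    intro x hx
    obtain ⟨l, rfl⟩ := Submodule.mem_span_singleton.mp hx
    rw [dual_smul_def, act_apply, hs, map_sum]
    refine Submodule.sum_mem _ fun p hp => ?_
    rw [sl_tmul]
    exact Submodule.smul_mem _ _ (Submodule.subset_span ⟨p, hp, rfl⟩)
  have hfin : Module.Finite k (Submodule.span k ((fun p : V × C => p.1) '' (s : Set (V × C)))) :=
    Module.Finite.span_of_finite k ((s.finite_toSet).image _)
  exact Submodule.finiteDimensional_of_le hle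

variable (W : Submodule k V) (hW : IsSubcomod (k := k) (A := C) W)

/-- the action of the dual algebra on a subcomodule with its restricted structure is the restriction -/
theorem act_restr (l : C →ₗ[k] k) (w : W) :
    ((@act k C _ _ _ ↥W _ _ _ (ComodSub.Comod.restr c W hW) l w : W) : V) = act V l (w : V) := by
  letI := ComodSub.Comod.restr c W hW
  exact (isComodHom_iff W.subtype).mp (ComodSub.isComodHom_subtype c W hW) l w

/-- the subcomodule with its restricted structure, as a module over the dual algebra, is the
corresponding submodule -/
noncomputable def restrEquiv :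
    letI := ComodSub.Comod.restr c W hW
    (↥W) ≃ₗ[Dual k C] ↥(toSubmodule W hW) :=
  letI := ComodSub.Comod.restr c W hW
  { toFun := fun w => ⟨w.1, w.2⟩
    invFun := fun w => ⟨w.1, w.2⟩
    left_inv := fun _ => rfl
    right_inv := fun _ => rfl
    map_add' := fun _ _ => rfl
    map_smul' := fun l w => Subtype.ext (act_restr W hW l.ofConv w) }

theorem isSemisimpleComod_restr_iff :
    @IsSemisimpleComod k C _ _ _ _ ↥W _ _ (ComodSub.Comod.restr c W hW) ↔
      IsSemisimpleModule (Dual k C) ↥(toSubmodule W hW) := by
  letI := ComodSub.Comod.restr c W hW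
  rw [isSemisimpleComod_iff]
  exact (restrEquiv W hW).isSemisimpleModule_iff

theorem isSimpleComod_restr_iff :
    @IsSimpleComod k C _ _ _ _ ↥W _ _ (ComodSub.Comod.restr c W hW) ↔
      IsSimpleModule (Dual k C) ↥(toSubmodule W hW) := by
  letI := ComodSub.Comod.restr c W hW
  rw [isSimpleComod_iff]
  exact (restrEquiv W hW).isSimpleModule_iff

end

section
variable {k : Type u} {C : Type v} [Field k] [AddCommGroup C] [Module k C] [Coalgebra k C]
variable {V : Type w} [AddCommGroup V] [Module k V] [c : Comod k C V]

/-- if all finite-dimensional subcomodules are semisimple, so is the comodule -/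
theorem isSemisimpleComod_of_forall_finite
    (h : ∀ (W : Submodule k V) (hW : IsSubcomod (k := k) (A := C) W), Module.Finite k W →
      @IsSemisimpleComod k C _ _ _ _ ↥W _ _ (ComodSub.Comod.restr c W hW)) :
    IsSemisimpleComod k C V := by
  rw [isSemisimpleComod_iff]
  refine isSemisimpleModule_of_isSemisimpleModule_submodule'
    (ι := {W : Submodule k V // IsSubcomod (k := k) (A := C) W ∧ Module.Finite k W})
    (p := fun W => toSubmodule W.1 W.2.1)
    (fun W => (isSemisimpleComod_restr_iff W.1 W.2.1).mp (h W.1 W.2.1 W.2.2)) ?_
  rw [eq_top_iff]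
  intro v _
  obtain ⟨W, hfin, hv, hW⟩ := exists_finite_subcomod_mem (k := k) (C := C) v
  exact Submodule.mem_iSup_of_mem ⟨W, hW, hfin⟩ hv

end

section
variable {k : Type u} [Field k] {A : Type v} [CommRing A] [Bialgebra k A]

/-- linearly reductive: every comodule (in the universe of `A`) is semisimple -/
theorem isSemisimpleComod_of_isLinearlyReductive (hG : IsLinearlyReductive k A)
    (V : Type v) [AddCommGroup V] [Module k V] [c : Comod k A V] : IsSemisimpleComod k A V :=
  isSemisimpleComod_of_forall_finite fun W hW hfin =>
    @hG ↥W _ _ (ComodSub.Comod.restr c W hW) hfin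

end

end Groth.Agent.Helper4.Comod
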