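import Mathlib
import Groth.Agent.Lib.Helper4.Comod

/-!
# Change of coalgebra for comodules
-/

set_option linter.unusedSectionVars false

namespace Groth.Agent.Helper4.Comod

open TensorProduct HopfRep

universe u v v' w w'

section Ring

variable {k : Type u} [CommRing k]
variable {C : Type v} [AddCommGroup C] [Module k C]
variable {D : Type v'} [AddCommGroup D] [Module k D]
variable {V : Type w} [AddCommGroup V] [Module k V]

lemma sl_lTensor (i : C →ₗ[k] D) (l : D →ₗ[k] k) (x : V ⊗[k] C) :
    sl V l (i.lTensor V x) = sl V (l ∘ₗ i) x := by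
  induction x using TensorProduct.induction_on with
  | zero => simp
  | tmul v c => simp
  | add x y hx hy => simp only [map_add, hx, hy]

lemma assoc_rTensor_lTensor (i : C →ₗ[k] D) (ρ : V →ₗ[k] V ⊗[k] C) (x : V ⊗[k] C) :
    TensorProduct.assoc k V D D (((i.lTensor V ∘ₗ ρ).rTensor D) (i.lTensor V x)) =
      (TensorProduct.map i i).lTensor V (TensorProduct.assoc k V C C (ρ.rTensor C x)) := by
  induction x using TensorProduct.induction_on with
  | zero => simp
  | tmul v c =>
    simp only [LinearMap.lTensor_tmul, LinearMap.rTensor_tmul, LinearMap.comp_apply]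
    generalize ρ v = y
    induction y using TensorProduct.induction_on with
    | zero => simp
    | tmul v' c' => simp
    | add a b ha hb => simp only [map_add, TensorProduct.add_tmul, ha, hb]
  | add x y hx hy => simp only [map_add, hx, hy]

variable [Coalgebra k C] [Coalgebra k D]

lemma lTensor_comul (i : C →ₗc[k] D) (x : V ⊗[k] C) :
    (Coalgebra.comul (R := k) (A := D)).lTensor V ((i : C →ₗ[k] D).lTensor V x) =
      (TensorProduct.map (i : C →ₗ[k] D) (i : C →ₗ[k] D)).lTensor V
        ((Coalgebra.comul (R := k) (A := C)).lTensor V x) := by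
  rw [← LinearMap.comp_apply, ← LinearMap.comp_apply, ← LinearMap.lTensor_comp,
    ← LinearMap.lTensor_comp]
  congr 2
  exact (CoalgHomClass.map_comp_comul i).symm

lemma lTensor_counit (i : C →ₗc[k] D) (x : V ⊗[k] C) :
    (Coalgebra.counit (R := k) (A := D)).lTensor V ((i : C →ₗ[k] D).lTensor V x) =
      (Coalgebra.counit (R := k) (A := C)).lTensor V x := by
  rw [← LinearMap.comp_apply, ← LinearMap.lTensor_comp]
  congr 2
  exact CoalgHomClass.counit_comp i

/-- Push a comodule structure forward along a coalgebra map. -/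
@[reducible] noncomputable def pushforward (i : C →ₗc[k] D) (V : Type w) [AddCommGroup V]
    [Module k V] [Comod k C V] : Comod k D V where
  coact := (i : C →ₗ[k] D).lTensor V ∘ₗ Comod.coact (k := k) (A := C)
  coassoc := by
    ext v
    simp only [LinearMap.comp_apply, LinearEquiv.coe_coe]
    rw [assoc_rTensor_lTensor, lTensor_comul]
    have h := congrArg (fun F => F v) (Comod.coassoc (k := k) (A := C) (V := V))
    simp only [LinearMap.comp_apply, LinearEquiv.coe_coe] at h
    rw [h]
  counit_comp := by
    ext v
    simp only [LinearMap.comp_apply]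
    rw [lTensor_counit]
    have h := congrArg (fun F => F v) (Comod.counit_comp (k := k) (A := C) (V := V))
    simp only [LinearMap.comp_apply] at h
    exact h

end Ring

section Field

variable {k : Type u} [Field k]
variable {C : Type v} [AddCommGroup C] [Module k C] [Coalgebra k C]
variable {D : Type v'} [AddCommGroup D] [Module k D] [Coalgebra k D]
variable {V : Type w} [AddCommGroup V] [Module k V]

lemma lTensor_injective (i : C →ₗ[k] D) (hi : Function.Injective i) :
    Function.Injective (i.lTensor V) :=
  Module.Flat.lTensor_preserves_injective_linearMap i hi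

/-- Pull a comodule structure back along an injective coalgebra map, when the coaction takes
values in the smaller coalgebra. -/
theorem exists_pullback (i : C →ₗc[k] D) (hi : Function.Injective i) [Comod k D V]
    (h : ∀ v : V, Comod.coact (k := k) (A := D) v ∈ LinearMap.range ((i : C →ₗ[k] D).lTensor V)) :
    ∃ c : Comod k C V,
      (i : C →ₗ[k] D).lTensor V ∘ₗ c.coact = Comod.coact (k := k) (A := D) := by
  have hinj : Function.Injective ((i : C →ₗ[k] D).lTensor V) := lTensor_injective _ hi
  set e := LinearEquiv.ofInjective ((i : C →ₗ[k] D).lTensor V) hinj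
  set ρ : V →ₗ[k] V ⊗[k] C :=
    e.symm.toLinearMap ∘ₗ (Comod.coact (k := k) (A := D) (V := V)).codRestrict _ h with hρ
  have hρ' : ∀ v, (i : C →ₗ[k] D).lTensor V (ρ v) = Comod.coact (k := k) (A := D) v := by
    intro v
    have : (e (ρ v) : V ⊗[k] D) = Comod.coact (k := k) (A := D) v := by
      rw [hρ, LinearMap.comp_apply, LinearEquiv.coe_coe, LinearEquiv.apply_symm_apply]
      rfl
    exact this
  have hcomp : (i : C →ₗ[k] D).lTensor V ∘ₗ ρ = Comod.coact (k := k) (A := D) := by
    ext v; exact hρ' v
  have hii : Function.Injective ((TensorProduct.map (i : C →ₗ[k] D) (i : C →ₗ[k] D)).lTensor V) :=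
    lTensor_injective _ (TensorProduct.map_injective_of_flat_flat _ _ hi hi)
  refine ⟨{ coact := ρ, coassoc := ?_, counit_comp := ?_ }, hcomp⟩
  · ext v
    simp only [LinearMap.comp_apply, LinearEquiv.coe_coe]
    apply hii
    rw [← assoc_rTensor_lTensor, ← lTensor_comul, hcomp, hρ']
    have h := congrArg (fun F => F v) (Comod.coassoc (k := k) (A := D) (V := V))
    simp only [LinearMap.comp_apply, LinearEquiv.coe_coe] at h
    exact h
  · ext v
    simp only [LinearMap.comp_apply]
    rw [← lTensor_counit i, hρ']
    have h := congrArg (fun F => F v) (Comod.counit_comp (k := k) (A := D) (V := V))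
    simp only [LinearMap.comp_apply] at h
    exact h

/-- Over a field, `x ∈ Q ⊗ i(C)` iff `x` is killed by the slices of all functionals vanishing on
`i(C)`. -/
lemma mem_range_lTensor_iff {Q : Type w'} [AddCommGroup Q] [Module k Q]
    (i : C →ₗ[k] D) (hi : Function.Injective i) (x : Q ⊗[k] D) :
    x ∈ LinearMap.range (i.lTensor Q) ↔ ∀ l : D →ₗ[k] k, l ∘ₗ i = 0 → sl Q l x = 0 := by
  constructor
  · rintro ⟨y, rfl⟩ l hl
    rw [sl_lTensor, hl, sl_zero]
    rfl
  · intro h
    obtain ⟨g, hg⟩ := i.exists_leftInverse_of_injective (LinearMap.ker_eq_bot.mpr hi)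
    have h0 : (LinearMap.id - i ∘ₗ g).lTensor Q x = 0 := by
      apply eq_of_sl_eq
      intro l
      rw [sl_lTensor, map_zero]
      apply h
      rw [LinearMap.comp_assoc, LinearMap.sub_comp, LinearMap.comp_assoc, hg]
      simp
    refine ⟨g.lTensor Q x, ?_⟩
    rw [← LinearMap.comp_apply, ← LinearMap.lTensor_comp]
    rw [LinearMap.lTensor_sub, LinearMap.sub_apply, LinearMap.lTensor_id, LinearMap.id_apply,
      sub_eq_zero] at h0
    exact h0.symm

/-- Extending functionals along an injective map. -/
lemma exists_extend_functional (i : C →ₗ[k] D) (hi : Function.Injective i) (l : C →ₗ[k] k) :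
    ∃ l' : D →ₗ[k] k, l' ∘ₗ i = l := by
  obtain ⟨g, hg⟩ := i.exists_leftInverse_of_injective (LinearMap.ker_eq_bot.mpr hi)
  exact ⟨l ∘ₗ g, by rw [LinearMap.comp_assoc, hg, LinearMap.comp_id]⟩

/-- If the `D`-coaction is induced from the `C`-coaction, `D`-subcomodules are `C`-subcomodules. -/
theorem isSubcomod_of_isSubcomod (i : C →ₗc[k] D) (hi : Function.Injective i)
    [cC : Comod k C V] [cD : Comod k D V]
    (hcd : (i : C →ₗ[k] D).lTensor V ∘ₗ Comod.coact (k := k) (A := C) =
      Comod.coact (k := k) (A := D) (V := V))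
    (W : Submodule k V) (hW : IsSubcomod (k := k) (A := D) W) :
    IsSubcomod (k := k) (A := C) W := by
  rw [isSubcomod_iff] at hW ⊢
  intro l w hw
  obtain ⟨l', hl'⟩ := exists_extend_functional (i : C →ₗ[k] D) hi l
  have := hW l' w hw
  rw [act_apply, ← hcd, LinearMap.comp_apply, sl_lTensor, hl'] at this
  exact this

/-- Conversely `C`-subcomodules are `D`-subcomodules. -/
theorem isSubcomod_of_isSubcomod' (i : C →ₗc[k] D)
    [cC : Comod k C V] [cD : Comod k D V]
    (hcd : (i : C →ₗ[k] D).lTensor V ∘ₗ Comod.coact (k := k) (A := C) =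
      Comod.coact (k := k) (A := D) (V := V))
    (W : Submodule k V) (hW : IsSubcomod (k := k) (A := C) W) :
    IsSubcomod (k := k) (A := D) W := by
  rw [isSubcomod_iff] at hW ⊢
  intro l w hw
  have := hW (l ∘ₗ (i : C →ₗ[k] D)) w hw
  rw [act_apply, ← hcd, LinearMap.comp_apply, sl_lTensor]
  exact this

end Field

end Groth.Agent.Helper4.Comod
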