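import Mathlib
import Groth.Prelude.Def_ComodSub
import Groth.Agent.Lib.Helper4.Comod
import Groth.Agent.Lib.Helper4.ComodMap
import Groth.Agent.Lib.Helper4.ComodLR

/-!
Coefficient spaces of comodules over a field and simple subcoalgebras.
-/

universe u v w w'

open TensorProduct HopfRep

namespace Groth.Agent.Helper4.Comod

section Slices
variable {k : Type u} [Field k] {C : Type v} [AddCommGroup C] [Module k C]
variable {V : Type w} [AddCommGroup V] [Module k V]

/-- left slice `(f ⊗ id) : V ⊗ C → C` -/
noncomputable def sr (f : V →ₗ[k] k) : V ⊗[k] C →ₗ[k] C :=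
  (TensorProduct.lid k C).toLinearMap ∘ₗ f.rTensor C

@[simp] lemma sr_tmul (f : V →ₗ[k] k) (v : V) (c : C) : sr f (v ⊗ₜ[k] c) = f v • c := by
  simp [sr]

lemma sr_eq_sl_comm (f : V →ₗ[k] k) (x : V ⊗[k] C) :
    sr f x = sl C f (TensorProduct.comm k V C x) := by
  induction x using TensorProduct.induction_on with
  | zero => simp
  | tmul v c => simp
  | add x y hx hy => simp only [map_add, hx, hy]

lemma sr_lTensor {C' : Type*} [AddCommGroup C'] [Module k C'] (g : C →ₗ[k] C') (f : V →ₗ[k] k)
    (x : V ⊗[k] C) : sr f (g.lTensor V x) = g (sr f x) := by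
  induction x using TensorProduct.induction_on with
  | zero => simp
  | tmul v c => simp
  | add x y hx hy => simp only [map_add, hx, hy]

lemma sr_rTensor {V' : Type*} [AddCommGroup V'] [Module k V'] (h : V →ₗ[k] V') (f : V' →ₗ[k] k)
    (x : V ⊗[k] C) : sr f (h.rTensor C x) = sr (f ∘ₗ h) x := by
  induction x using TensorProduct.induction_on with
  | zero => simp
  | tmul v c => simp
  | add x y hx hy => simp only [map_add, hx, hy]

/-- `x ∈ V ⊗ D` iff all left slices of `x` lie in `D`. -/
lemma mem_range_lTensor_subtype_iff (D : Submodule k C) (x : V ⊗[k] C) :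
    x ∈ LinearMap.range (D.subtype.lTensor V) ↔ ∀ f : V →ₗ[k] k, sr f x ∈ D := by
  have h := mem_range_rTensor_subtype_iff (V := C) (C := V) D (TensorProduct.comm k V C x)
  simp only [← sr_eq_sl_comm] at h
  rw [← h]
  constructor
  · rintro ⟨y, rfl⟩
    exact ⟨TensorProduct.comm k V D y, by rw [LinearMap.rTensor_comm]⟩
  · rintro ⟨y, hy⟩
    refine ⟨(TensorProduct.comm k V D).symm y, ?_⟩
    apply (TensorProduct.comm k V C).injective
    rw [← hy, ← LinearMap.rTensor_comm, LinearEquiv.apply_symm_apply]

/-- `E ⊗ D = (E ⊗ C) ∩ (V ⊗ D)` -/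
lemma mem_range_map_subtype_iff (E : Submodule k V) (D : Submodule k C) (x : V ⊗[k] C) :
    x ∈ LinearMap.range (TensorProduct.map E.subtype D.subtype) ↔
      x ∈ LinearMap.range (E.subtype.rTensor C) ∧ x ∈ LinearMap.range (D.subtype.lTensor V) := by
  constructor
  · rintro ⟨z, rfl⟩
    refine ⟨⟨D.subtype.lTensor E z, ?_⟩, ⟨E.subtype.rTensor D z, ?_⟩⟩
    · rw [← LinearMap.comp_apply, LinearMap.rTensor_comp_lTensor]
    · rw [← LinearMap.comp_apply, LinearMap.lTensor_comp_rTensor]
  · rintro ⟨⟨y, rfl⟩, h2⟩
    have hy : y ∈ LinearMap.range (D.subtype.lTensor E) := by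
      rw [mem_range_lTensor_subtype_iff]
      intro f
      obtain ⟨f', hf'⟩ := LinearMap.exists_extend f
      have := (mem_range_lTensor_subtype_iff D _).mp h2 f'
      rwa [sr_rTensor, hf'] at this
    obtain ⟨z, rfl⟩ := hy
    exact ⟨z, by rw [← LinearMap.comp_apply, LinearMap.rTensor_comp_lTensor]⟩

end Slices

section Coeff
variable {k : Type u} [Field k] {C : Type v} [AddCommGroup C] [Module k C] [Coalgebra k C]
variable {V : Type w} [AddCommGroup V] [Module k V] [Comod k C V]

/-- the coefficient map `v ↦ (f ⊗ id)(ρ v)` -/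
noncomputable def coeff (f : V →ₗ[k] k) : V →ₗ[k] C := sr f ∘ₗ Comod.coact (k := k) (A := C)

lemma coeff_apply (f : V →ₗ[k] k) (v : V) :
    coeff (C := C) f v = sr f (Comod.coact (k := k) (A := C) v) := rfl

lemma isComodHom_coeff (f : V →ₗ[k] k) : Hoch.IsComodHom C (coeff (C := C) f) := by
  unfold Hoch.IsComodHom
  ext v
  simp only [LinearMap.comp_apply, coeff_apply]
  change Coalgebra.comul (R := k) (sr f (Comod.coact (k := k) (A := C) v)) = _
  rw [← sr_lTensor]
  have h := LinearMap.congr_fun (Comod.coassoc (k := k) (A := C) (V := V)) v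
  simp only [LinearMap.comp_apply, LinearEquiv.coe_coe] at h
  rw [← h]
  have key : ∀ y : (V ⊗[k] C) ⊗[k] C, sr f (TensorProduct.assoc k V C C y) =
      (sr (C := C) f).rTensor C y := by
    intro y
    induction y using TensorProduct.induction_on with
    | zero => simp
    | tmul a c =>
      induction a using TensorProduct.induction_on with
      | zero => simp
      | tmul v c' => simp [TensorProduct.smul_tmul']
      | add a b ha hb => simp only [add_tmul, map_add, ha, hb]
    | add a b ha hb => simp only [map_add, ha, hb]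
  rw [key, coeff, LinearMap.rTensor_comp, LinearMap.comp_apply]

/-- every comodule map to the regular comodule is a coefficient map -/
lemma eq_coeff_of_isComodHom (ψ : V →ₗ[k] C) (hψ : Hoch.IsComodHom C ψ) :
    ψ = coeff (C := C) ((Coalgebra.counit (R := k) (A := C)) ∘ₗ ψ) := by
  unfold Hoch.IsComodHom at hψ
  ext v
  have h := LinearMap.congr_fun hψ v
  simp only [LinearMap.comp_apply] at h
  change Coalgebra.comul (R := k) (ψ v) = _ at h
  have h2 := Coalgebra.rTensor_counit_comul (R := k) (ψ v)
  rw [coeff_apply, ← sr_rTensor, ← h, sr, LinearMap.comp_apply, h2]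
  simp

end Coeff

section CoeffSpace
variable (k : Type u) [Field k] (C : Type v) [AddCommGroup C] [Module k C] [Coalgebra k C]
variable (V : Type w) [AddCommGroup V] [Module k V] [Comod k C V]

variable {k C} in
/-- a subspace closed under comultiplication -/
def IsSubcoalg (B : Submodule k C) : Prop :=
  ∀ b ∈ B, CoalgebraStruct.comul (R := k) b ∈
    LinearMap.range (TensorProduct.map B.subtype B.subtype)

/-- the coefficient space -/
noncomputable def cf : Submodule k C := ⨆ f : V →ₗ[k] k, LinearMap.range (coeff (C := C) f)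

variable {k C V}

lemma coeff_mem_cf (f : V →ₗ[k] k) (v : V) : coeff (C := C) f v ∈ cf k C V :=
  Submodule.mem_iSup_of_mem f ⟨v, rfl⟩

lemma coact_mem_cf (v : V) :
    Comod.coact (k := k) (A := C) v ∈ LinearMap.range ((cf k C V).subtype.lTensor V) := by
  rw [mem_range_lTensor_subtype_iff]
  intro f
  exact coeff_mem_cf f v

lemma cf_le_iff (D' : Submodule k C) :
    cf k C V ≤ D' ↔
      ∀ v : V, Comod.coact (k := k) (A := C) v ∈ LinearMap.range (D'.subtype.lTensor V) := by
  constructor
  · intro h v
    obtain ⟨z, hz⟩ := coact_mem_cf (k := k) (C := C) v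
    refine ⟨(Submodule.inclusion h).lTensor V z, ?_⟩
    rw [← hz, ← LinearMap.comp_apply, ← LinearMap.lTensor_comp]
    rfl
  · intro h
    refine iSup_le fun f => ?_
    rintro _ ⟨v, rfl⟩
    exact (mem_range_lTensor_subtype_iff D' _).mp (h v) f

lemma isLeast_cf :
    IsLeast {D' : Submodule k C |
      ∀ v : V, Comod.coact (k := k) (A := C) v ∈ LinearMap.range (D'.subtype.lTensor V)}
      (cf k C V) :=
  ⟨fun v => coact_mem_cf v, fun D' hD' => (cf_le_iff D').mpr hD'⟩

lemma eq_cf_of_isLeast (D : Submodule k C)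
    (hD : IsLeast {D' : Submodule k C |
      ∀ v : V, Comod.coact (k := k) (A := C) v ∈ LinearMap.range (D'.subtype.lTensor V)} D) :
    D = cf k C V :=
  hD.unique isLeast_cf

/-- the coefficient space is a subcoalgebra -/
lemma isSubcoalg_cf : IsSubcoalg (cf k C V) := by
  intro b hb
  refine Submodule.iSup_induction (fun f : V →ₗ[k] k => LinearMap.range (coeff (C := C) f))
    (motive := fun b => CoalgebraStruct.comul (R := k) b ∈
      LinearMap.range (TensorProduct.map (cf k C V).subtype (cf k C V).subtype)) hb ?_ ?_ ?_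
  · rintro f _ ⟨v, rfl⟩
    have h := LinearMap.congr_fun (isComodHom_coeff (C := C) f) v
    simp only [LinearMap.comp_apply] at h
    change Coalgebra.comul (R := k) (coeff (C := C) f v) = _ at h
    change Coalgebra.comul (R := k) (coeff (C := C) f v) ∈ _
    rw [h, mem_range_map_subtype_iff]
    -- `coeff f` factors through `cf`
    have hfac : coeff (C := C) f = (cf k C V).subtype ∘ₗ
        (coeff (C := C) f).codRestrict (cf k C V) (fun v => coeff_mem_cf f v) := by
      ext v; rfl
    constructor
    · rw [hfac, LinearMap.rTensor_comp, LinearMap.comp_apply]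
      exact ⟨_, rfl⟩
    · obtain ⟨z, hz⟩ := coact_mem_cf (k := k) (C := C) v
      rw [← hz, ← LinearMap.comp_apply, LinearMap.rTensor_comp_lTensor,
        ← LinearMap.lTensor_comp_rTensor, LinearMap.comp_apply]
      exact ⟨_, rfl⟩
  · simp
  · intro x y hx hy
    rw [map_add]
    exact Submodule.add_mem _ hx hy

lemma cf_ne_bot [Nontrivial V] : cf k C V ≠ ⊥ := by
  intro h
  obtain ⟨v, hv⟩ := exists_ne (0 : V)
  apply hv
  have h0 := (cf_le_iff (k := k) (C := C) (V := V) ⊥).mp (le_of_eq h) v
  obtain ⟨z, hz⟩ := h0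
  have hsub : (⊥ : Submodule k C).subtype = 0 := by
    ext x
    exact (Submodule.mem_bot k).mp x.2
  rw [hsub, LinearMap.lTensor_zero, LinearMap.zero_apply] at hz
  have := act_counit (k := k) (C := C) v
  rw [act_apply, ← hz, map_zero] at this
  exact this.symm

end CoeffSpace

section DualView
attribute [local instance] dualModule

variable {k : Type u} [Field k] {C : Type v} [AddCommGroup C] [Module k C] [Coalgebra k C]
variable {V : Type w} [AddCommGroup V] [Module k V] [Comod k C V]

/-- a subcoalgebra is a right subcomodule of the regular comodule -/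
lemma IsSubcoalg.isSubcomod {B : Submodule k C} (hB : IsSubcoalg B) :
    IsSubcomod (k := k) (A := C) B := fun b hb =>
  ((mem_range_map_subtype_iff B B _).mp (hB b hb)).1

/-- coefficient maps as maps over the dual algebra -/
noncomputable def coeffD (f : V →ₗ[k] k) : V →ₗ[Dual k C] C :=
  toDualLinear (coeff (C := C) f) (isComodHom_coeff f)

@[simp] lemma coeffD_apply (f : V →ₗ[k] k) (v : V) : coeffD (C := C) f v = coeff (C := C) f v := rfl

variable (k C V) in
/-- the coefficient space as a submodule over the dual algebra -/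
noncomputable def cfD : Submodule (Dual k C) C := ⨆ f : V →ₗ[k] k, LinearMap.range (coeffD (C := C) f)

lemma cfD_restrictScalars : (cfD k C V).restrictScalars k = cf k C V := by
  rw [cfD, cf, Submodule.restrictScalars_iSup]
  congr 1

lemma mem_cfD_iff (c : C) : c ∈ cfD k C V ↔ c ∈ cf k C V := by
  rw [← cfD_restrictScalars]; rfl

/-- if `ψ : V → C` is an injective comodule map with image in a subcoalgebra `B`, the coaction of
`V` takes values in `V ⊗ B` -/
lemma cf_le_of_injective_isComodHom (B : Submodule k C) (hB : IsSubcoalg B) (ψ : V →ₗ[k] C)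
    (hψ : Hoch.IsComodHom C ψ) (hinj : Function.Injective ψ) (hle : LinearMap.range ψ ≤ B) :
    cf k C V ≤ B := by
  rw [cf_le_iff]
  intro v
  rw [mem_range_lTensor_subtype_iff]
  intro f
  obtain ⟨g, hg⟩ := ψ.exists_leftInverse_of_injective (LinearMap.ker_eq_bot.mpr hinj)
  have hf : f = (f ∘ₗ g) ∘ₗ ψ := by rw [LinearMap.comp_assoc, hg, LinearMap.comp_id]
  rw [hf, ← sr_rTensor]
  have h := LinearMap.congr_fun hψ v
  simp only [LinearMap.comp_apply] at h
  rw [← h]
  have hb : ψ v ∈ B := hle ⟨v, rfl⟩
  have := ((mem_range_map_subtype_iff B B _).mp (hB _ hb)).2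
  exact (mem_range_lTensor_subtype_iff B _).mp this (f ∘ₗ g)

variable [hV : IsSimpleModule (Dual k C) V]

/-- the nonzero images of coefficient maps -/
def simpleImages (k : Type u) [Field k] (C : Type v) [AddCommGroup C] [Module k C] [Coalgebra k C]
    (V : Type w) [AddCommGroup V] [Module k V] [Comod k C V] : Set (Submodule (Dual k C) C) :=
  {N | ∃ f : V →ₗ[k] k, coeffD (C := C) f ≠ 0 ∧ N = LinearMap.range (coeffD (C := C) f)}

lemma cfD_eq_sSup : cfD k C V = sSup (simpleImages k C V) := by
  apply le_antisymm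
  · refine iSup_le fun f => ?_
    by_cases hf : coeffD (C := C) f = 0
    · rw [hf, LinearMap.range_zero]; exact bot_le
    · exact le_sSup ⟨f, hf, rfl⟩
  · refine sSup_le ?_
    rintro _ ⟨f, -, rfl⟩
    exact le_iSup (fun f : V →ₗ[k] k => LinearMap.range (coeffD (C := C) f)) f

lemma linearEquiv_of_mem_simpleImages (N : Submodule (Dual k C) C) (hN : N ∈ simpleImages k C V) :
    Nonempty (V ≃ₗ[Dual k C] N) := by
  obtain ⟨f, hf, rfl⟩ := hN
  exact ⟨LinearEquiv.ofInjective _ (LinearMap.injective_of_ne_zero hf)⟩

instance isSimpleModule_of_mem_simpleImages (N : simpleImages k C V) :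
    IsSimpleModule (Dual k C) N.1 :=
  IsSimpleModule.congr (linearEquiv_of_mem_simpleImages N.1 N.2).some.symm

/-- every simple submodule of the coefficient space is isomorphic to `V` -/
lemma linearEquiv_of_le_cfD (T : Submodule (Dual k C) C) [IsSimpleModule (Dual k C) T]
    (hT : T ≤ cfD k C V) : Nonempty (V ≃ₗ[Dual k C] T) := by
  rw [cfD_eq_sSup] at hT
  obtain ⟨S, hS, ⟨e⟩⟩ := Submodule.linearEquiv_of_le_sSup T (simpleImages k C V) hT
  obtain ⟨e'⟩ := linearEquiv_of_mem_simpleImages S hS
  exact ⟨e'.trans e.symm⟩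

instance isSemisimpleModule_cfD : IsSemisimpleModule (Dual k C) (cfD k C V) := by
  rw [cfD_eq_sSup, sSup_eq_iSup]
  exact isSemisimpleModule_biSup_of_isSemisimpleModule_submodule
    (fun N hN => by
      haveI := isSimpleModule_of_mem_simpleImages (⟨N, hN⟩ : simpleImages k C V)
      infer_instance)

/-- a nonzero submodule of the coefficient space of a simple comodule contains a copy of it -/
lemma exists_injective_of_le_cfD (N : Submodule (Dual k C) C) (hN : N ≤ cfD k C V) (hN0 : N ≠ ⊥) :
    ∃ ψ : V →ₗ[Dual k C] C, Function.Injective ψ ∧ LinearMap.range ψ ≤ N := by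
  haveI : IsSemisimpleModule (Dual k C) N :=
    IsSemisimpleModule.of_injective (M := cfD k C V) (Submodule.inclusion hN)
      (Submodule.inclusion_injective hN)
  obtain h | ⟨T, hTN, hT⟩ := IsSemisimpleModule.eq_bot_or_exists_simple_le N
  · exact absurd h hN0
  haveI := hT
  obtain ⟨e⟩ := linearEquiv_of_le_cfD (V := V) T (hTN.trans hN)
  refine ⟨T.subtype ∘ₗ e.toLinearMap, ?_, ?_⟩
  · exact T.injective_subtype.comp e.injective
  · rintro _ ⟨v, rfl⟩
    exact hTN (e v).2

/-- the coefficient space of a simple comodule is a simple subcoalgebra -/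
theorem eq_cf_of_isSubcoalg_of_le (B : Submodule k C) (hB : IsSubcoalg B) (hle : B ≤ cf k C V)
    (hB0 : B ≠ ⊥) : B = cf k C V := by
  apply le_antisymm hle
  have hN : toSubmodule B hB.isSubcomod ≤ cfD k C V := fun c hc => (mem_cfD_iff c).mpr (hle hc)
  have hN0 : toSubmodule B hB.isSubcomod ≠ ⊥ := by
    intro h
    apply hB0
    rw [eq_bot_iff]
    intro b hb
    have : b ∈ toSubmodule B hB.isSubcomod := hb
    rw [h] at this
    exact this
  obtain ⟨ψ, hinj, hrange⟩ := exists_injective_of_le_cfD (V := V) _ hN hN0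
  exact cf_le_of_injective_isComodHom B hB (ψ.restrictScalars k) (isComodHom_restrictScalars ψ) hinj
    (by rintro _ ⟨v, rfl⟩; exact hrange ⟨v, rfl⟩)

end DualView

section SimpleSub
attribute [local instance] dualModule

variable {k : Type u} [Field k] {C : Type v} [AddCommGroup C] [Module k C] [Coalgebra k C]
variable {V : Type w} [AddCommGroup V] [Module k V] [c : Comod k C V]

/-- cyclic submodules over the dual algebra are finite-dimensional -/
theorem finite_span_singleton (v : V) :
    Module.Finite k ((Submodule.span (Dual k C) {v}).restrictScalars k) := by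
  classical
  obtain ⟨s, hs⟩ := TensorProduct.exists_finset (Comod.coact (k := k) (A := C) v)
  have hle : (Submodule.span (Dual k C) {v}).restrictScalars k ≤
      Submodule.span k ((fun p : V × C => p.1) '' (s : Set (V × C))) := by
    intro x hx
    obtain ⟨l, rfl⟩ := Submodule.mem_span_singleton.mp hx
    rw [dual_smul_def, act_apply, hs, map_sum]
    refine Submodule.sum_mem _ fun p hp => ?_
    rw [sl_tmul]
    exact Submodule.smul_mem _ _ (Submodule.subset_span ⟨p, hp, rfl⟩)
  have hfin : Module.Finite k (Submodule.span k ((fun p : V × C => p.1) '' (s : Set (V × C)))) :=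
    Module.Finite.span_of_finite k ((s.finite_toSet).image _)
  exact Submodule.finiteDimensional_of_le hle

/-- every nonzero submodule over the dual algebra contains a simple submodule -/
theorem exists_simple_le (N : Submodule (Dual k C) V) (hN : N ≠ ⊥) :
    ∃ T : Submodule (Dual k C) V, T ≤ N ∧ IsSimpleModule (Dual k C) T := by
  classical
  obtain ⟨v, hvN, hv0⟩ := Submodule.exists_mem_ne_zero_of_ne_bot hN
  set W : Submodule (Dual k C) V := Submodule.span (Dual k C) {v} with hW
  have hWN : W ≤ N := Submodule.span_le.mpr (by simpa using hvN)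
  haveI hfin : Module.Finite k (W.restrictScalars k) := finite_span_singleton v
  have hW0 : W ≠ ⊥ := by
    intro h
    have : v ∈ W := Submodule.subset_span rfl
    rw [h, Submodule.mem_bot] at this
    exact hv0 this
  -- a nonzero submodule of `W` of minimal dimension
  let P : ℕ → Prop := fun n => ∃ T : Submodule (Dual k C) V, T ≠ ⊥ ∧ T ≤ W ∧
    Module.finrank k (T.restrictScalars k) = n
  have hP : ∃ n, P n := ⟨_, W, hW0, le_rfl, rfl⟩
  obtain ⟨T, hT0, hTW, hTn⟩ := Nat.find_spec hP
  haveI : FiniteDimensional k (T.restrictScalars k) :=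
    Submodule.finiteDimensional_of_le (show T.restrictScalars k ≤ W.restrictScalars k from hTW)
  refine ⟨T, hTW.trans hWN, isSimpleModule_iff_isAtom.mpr ⟨hT0, ?_⟩⟩
  intro T' hT'
  by_contra hT'0
  have hlt : T'.restrictScalars k < T.restrictScalars k := hT'
  have h1 := Submodule.finrank_lt_finrank_of_lt hlt
  have h2 : P (Module.finrank k (T'.restrictScalars k)) := ⟨T', hT'0, hT'.le.trans hTW, rfl⟩
  have h3 := Nat.find_min' hP h2
  omega

end SimpleSub

end Groth.Agent.Helper4.Comod
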