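import Mathlib
import Groth.Prelude.Def_Found
import Groth.Agent.Lib.Helper4.Japanese2
import Groth.Agent.Lib.Helper4.Nagata1

/-!
# Finiteness of relative normalization over Nagata bases (helper4)
-/

set_option backward.isDefEq.respectTransparency.types false
set_option synthInstance.maxHeartbeats 400000
set_option autoImplicit false
set_option linter.unusedSectionVars false
set_option linter.style.haveILetI false
set_option linter.unusedSimpArgs false
universe u v w
open CategoryTheory CategoryTheory.Limits AlgebraicGeometry TopologicalSpace IsLocalRing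
open Groth.Agent.Lib.Helper4.Japanese1 Groth.Agent.Lib.Helper4.Japanese2 Groth.Agent.Lib.Helper4.Nagata1

namespace Groth.Agent.Lib.Helper4.Nagata3

/-- finitely many generic points of irreducible components lie in a quasi-compact subset -/
theorem finite_genericPoints_inter {X : Type*} [TopologicalSpace X] [T0Space X]
    (hfin : LocallyFinite (fun Z : ↥(irreducibleComponents X) => (Z : Set X))) (V : Set X)
    (hV : IsCompact V) :
    {ξ : X | ξ ∈ V ∧ closure {ξ} ∈ irreducibleComponents X}.Finite := by
  have h1 := hfin.finite_nonempty_inter_compact hV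
  haveI : Finite ↥{i : ↥(irreducibleComponents X) | ((i : Set X) ∩ V).Nonempty} := h1.to_subtype
  let g : ↥{ξ : X | ξ ∈ V ∧ closure {ξ} ∈ irreducibleComponents X} →
      ↥{i : ↥(irreducibleComponents X) | ((i : Set X) ∩ V).Nonempty} :=
    fun ξ => ⟨⟨closure {ξ.1}, ξ.2.2⟩, ⟨ξ.1, subset_closure rfl, ξ.2.1⟩⟩
  have hg : Function.Injective g := by
    intro ξ ξ' h
    have h2 : closure {ξ.1} = closure {ξ'.1} := congrArg (fun z => (z.1.1 : Set X)) h
    apply Subtype.ext
    have e1 : IsGenericPoint ξ.1 (closure {ξ'.1}) := h2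
    have e2 : IsGenericPoint ξ'.1 (closure {ξ'.1}) := rfl
    exact e1.eq e2
  exact Set.finite_coe_iff.mp (Finite.of_injective g hg)

/-- every point of an open subset of a quasi-sober space is a specialization of the generic
point of an irreducible component lying in that open -/
theorem exists_genericPoint_specializes {X : Type*} [TopologicalSpace X] [QuasiSober X]
    (W : Set X) (hW : IsOpen W) (x : X) (hx : x ∈ W) :
    ∃ ξ ∈ W, closure {ξ} ∈ irreducibleComponents X ∧ ξ ⤳ x := by
  have hZ := irreducibleComponent_mem_irreducibleComponents x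
  have hZirr : IsIrreducible (irreducibleComponent x) := isIrreducible_irreducibleComponent
  have hZcl : IsClosed (irreducibleComponent x) := isClosed_irreducibleComponent
  obtain ⟨ξ, hξ⟩ := QuasiSober.sober hZirr hZcl
  have hxZ : x ∈ irreducibleComponent x := mem_irreducibleComponent
  have hsp : ξ ⤳ x := by
    rw [specializes_iff_mem_closure]
    have : closure {ξ} = irreducibleComponent x := hξ
    rw [this]; exact hxZ
  refine ⟨ξ, hsp.mem_open hW hx, ?_, hsp⟩
  have : closure {ξ} = irreducibleComponent x := hξ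
  rw [this]; exact hZ



/-- a section of a reduced scheme vanishing at the generic points of all components is zero -/
theorem eq_zero_of_evaluation_genericPoints {X : Scheme.{u}} [IsReduced X] (V : X.Opens)
    (b : Γ(X, V))
    (hb : ∀ (ξ : X) (hξ : ξ ∈ V), closure {ξ} ∈ irreducibleComponents X →
      X.evaluation V ξ hξ b = 0) : b = 0 := by
  rw [← basicOpen_eq_bot_iff]
  by_contra hne
  obtain ⟨x, hx⟩ : ∃ x, x ∈ X.basicOpen b := by
    by_contra hcon
    push Not at hcon
    apply hne
    ext x
    simp only [Opens.coe_bot, Set.mem_empty_iff_false, iff_false]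
    exact hcon x
  obtain ⟨ξ, hξW, hξc, -⟩ := exists_genericPoint_specializes (X := X) (X.basicOpen b)
    (X.basicOpen b).isOpen x hx
  have hξV : ξ ∈ V := X.basicOpen_le b hξW
  have h0 := hb ξ hξV hξc
  exact (X.evaluation_eq_zero_iff_notMem_basicOpen ξ hξV b).mp h0 hξW

/-- the evaluation map of an affine open at a point is essentially of finite type -/
theorem essFiniteType_evaluation {S : Scheme.{u}} (U : S.Opens) (hU : IsAffineOpen U) (y : S)
    (hy : y ∈ U) : (S.evaluation U y hy).hom.EssFiniteType := by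
  rw [← Scheme.germ_residue]
  have h1 : (S.presheaf.germ U y hy).hom.EssFiniteType := by
    letI := S.presheaf.algebra_section_stalk (U := U) ⟨y, hy⟩
    haveI := hU.isLocalization_stalk ⟨y, hy⟩
    have : Algebra.EssFiniteType Γ(S, U) (S.presheaf.stalk y) :=
      Algebra.EssFiniteType.of_isLocalization _ (hU.primeIdealOf ⟨y, hy⟩).asIdeal.primeCompl
    exact this
  have h2 : (S.residue y).hom.EssFiniteType :=
    (RingHom.FiniteType.of_surjective _ (S.residue_surjective y)).essFiniteType
  exact RingHom.EssFiniteType.comp h1 h2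



theorem S9674_main {X S : Scheme.{u}} (f : X ⟶ S)
    [QuasiCompact f] [QuasiSeparated f] [IsReduced X]
    (hS : ∀ U : S.affineOpens, CAlg.IsNagata Γ(S, U))
    (hfin : LocallyFinite (fun Z : ↥(irreducibleComponents ↥X) => (Z : Set ↥X)))
    (hres : ∀ x : X, closure {x} ∈ irreducibleComponents ↥X → (f.residueFieldMap x).hom.EssFiniteType) :
    IsFinite f.fromNormalization := by
  apply isFinite_fromNormalization_of_finite
  intro U hU
  letI algRB : Algebra Γ(S, U) Γ(X, f ⁻¹ᵁ U) := (f.app U).hom.toAlgebra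
  obtain ⟨hnoeth, hN2⟩ := hS ⟨U, hU⟩
  haveI : IsNoetherianRing Γ(S, U) := hnoeth
  -- the generic points
  have hVc : IsCompact ((f ⁻¹ᵁ U : X.Opens) : Set X) :=
    QuasiCompact.isCompact_preimage (f := f) U.1 U.isOpen hU.isCompact
  have hGfin := finite_genericPoints_inter hfin _ hVc
  let ι : Type u := ↥{ξ : X | ξ ∈ ((f ⁻¹ᵁ U : X.Opens) : Set X) ∧ closure {ξ} ∈ irreducibleComponents X}
  haveI : Finite ι := hGfin.to_subtype
  let L : ι → Type u := fun ξ => X.residueField ξ.1
  letI algRL : ∀ ξ : ι, Algebra Γ(S, U) (L ξ) := fun ξ =>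
    (f.app U ≫ X.evaluation (f ⁻¹ᵁ U) ξ.1 ξ.2.1).hom.toAlgebra
  haveI : ∀ ξ : ι, Algebra.EssFiniteType Γ(S, U) (L ξ) := fun ξ => by
    have h1 : (f.app U ≫ X.evaluation (f ⁻¹ᵁ U) ξ.1 ξ.2.1).hom.EssFiniteType := by
      rw [← Scheme.evaluation_naturality f ξ.1 ξ.2.1, CommRingCat.hom_comp]
      exact RingHom.EssFiniteType.comp (essFiniteType_evaluation U hU (f ξ.1) ξ.2.1)
        (hres ξ.1 ξ.2.2)
    exact h1
  let ψ : Γ(X, f ⁻¹ᵁ U) →ₐ[Γ(S, U)] (∀ ξ : ι, L ξ) :=
    { toRingHom := RingHom.pi (fun ξ => (X.evaluation (f ⁻¹ᵁ U) ξ.1 ξ.2.1).hom)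
      commutes' := fun r => by
        funext ξ
        rfl }
  have hψ : Function.Injective ψ := by
    rw [injective_iff_map_eq_zero]
    intro b hb
    apply eq_zero_of_evaluation_genericPoints (f ⁻¹ᵁ U) b
    intro ξ hξ hξc
    exact congrFun hb ⟨ξ, hξ, hξc⟩
  exact finite_integralClosure_of_embedding Γ(S, U) hN2 Γ(X, f ⁻¹ᵁ U) L ψ hψ



/-- residue field extensions of a morphism locally of finite type are finitely generated -/
theorem essFiniteType_residueFieldMap {X S : Scheme.{u}} (f : X ⟶ S) [LocallyOfFiniteType f]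
    (x : X) : (f.residueFieldMap x).hom.EssFiniteType := by
  obtain ⟨U, hU, hfxU, -⟩ := exists_isAffineOpen_mem_and_subset (x := f x) (U := (⊤ : S.Opens)) trivial
  obtain ⟨V, hV, hxV, hVU⟩ := exists_isAffineOpen_mem_and_subset (x := x) (U := f ⁻¹ᵁ U) hfxU
  have h1 : (f.appLE U V hVU).hom.FiniteType := f.finiteType_appLE hU hV hVU
  have h2 : (X.evaluation V x hxV).hom.EssFiniteType := essFiniteType_evaluation V hV x hxV
  have h3 : ((f.appLE U V hVU) ≫ X.evaluation V x hxV).hom.EssFiniteType := by
    rw [CommRingCat.hom_comp]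
    exact RingHom.EssFiniteType.comp h1.essFiniteType h2
  have h4 : (f.appLE U V hVU) ≫ X.evaluation V x hxV =
      S.evaluation U (f x) hfxU ≫ f.residueFieldMap x := by
    rw [Scheme.evaluation_naturality, Scheme.Hom.appLE, Category.assoc]
    congr 1
    rw [← Scheme.germ_residue, ← Scheme.germ_residue, ← Category.assoc]
    congr 1
    exact X.presheaf.germ_res (homOfLE hVU) x hxV
  rw [h4, CommRingCat.hom_comp] at h3
  exact RingHom.EssFiniteType.of_comp _ h3



/-- if every point has a Noetherian open neighbourhood, the irreducible components form a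
locally finite family -/
theorem locallyFinite_irreducibleComponents_of_nhds {X : Type*} [TopologicalSpace X]
    (hX : ∀ x : X, ∃ W : Set X, IsOpen W ∧ x ∈ W ∧ NoetherianSpace ↥W) :
    LocallyFinite (fun T : ↥(irreducibleComponents X) => (T : Set X)) := by
  intro x
  obtain ⟨W, hWo, hxW, hWn⟩ := hX x
  refine ⟨W, hWo.mem_nhds hxW, ?_⟩
  let ι : ↥W → X := Subtype.val
  have hι : Topology.IsOpenEmbedding ι := hWo.isOpenEmbedding_subtypeVal
  haveI : Finite ↥(irreducibleComponents ↥W) :=
    (NoetherianSpace.finite_irreducibleComponents (α := ↥W)).to_subtype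
  have key : ∀ T : ↥(irreducibleComponents X), ((T : Set X) ∩ W).Nonempty →
      ((T : Set X) ∩ Set.range ι).Nonempty := by
    rintro T ⟨z, hzT, hzW⟩
    exact ⟨z, hzT, ⟨⟨z, hzW⟩, rfl⟩⟩
  let g : ↥{T : ↥(irreducibleComponents X) | ((T : Set X) ∩ W).Nonempty} →
      ↥(irreducibleComponents ↥W) :=
    fun T => ⟨ι ⁻¹' T.1.1, preimage_mem_irreducibleComponents T.1.2 hι (key T.1 T.2)⟩
  have hg : Function.Injective g := by
    intro T T' hTT'
    have h0 : ι ⁻¹' T.1.1 = ι ⁻¹' T'.1.1 := congrArg Subtype.val hTT'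
    have e1 := closure_image_preimage_of_isPreirreducible ι hι.isOpenMap T.1.1
      (by obtain ⟨z, hz, v, rfl⟩ := key T.1 T.2; exact ⟨v, hz⟩) T.1.2.1.2
      (isClosed_of_mem_irreducibleComponents _ T.1.2)
    have e2 := closure_image_preimage_of_isPreirreducible ι hι.isOpenMap T'.1.1
      (by obtain ⟨z, hz, v, rfl⟩ := key T'.1 T'.2; exact ⟨v, hz⟩) T'.1.2.1.2
      (isClosed_of_mem_irreducibleComponents _ T'.1.2)
    apply Subtype.ext
    apply Subtype.ext
    rw [← e1, ← e2, h0]
  exact Set.finite_coe_iff.mp (Finite.of_injective g hg)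

theorem locallyFinite_irreducibleComponents_of_isLocallyNoetherian (X : Scheme.{u})
    [IsLocallyNoetherian X] :
    LocallyFinite (fun T : ↥(irreducibleComponents ↥X) => (T : Set ↥X)) := by
  refine locallyFinite_irreducibleComponents_of_nhds (fun x => ?_)
  obtain ⟨W, hW, hxW, -⟩ := exists_isAffineOpen_mem_and_subset (x := x) (U := ⊤) trivial
  haveI : IsNoetherianRing Γ(X, W) := IsLocallyNoetherian.component_noetherian ⟨W, hW⟩
  exact ⟨W, W.isOpen, hxW, noetherianSpace_of_isAffineOpen W hW⟩



theorem S9675_main {X S : Scheme.{u}} (f : X ⟶ S)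
    [LocallyOfFiniteType f] [QuasiCompact f] [QuasiSeparated f] [IsReduced X]
    (hS : ∀ U : S.affineOpens, CAlg.IsNagata Γ(S, U)) :
    IsFinite f.fromNormalization := by
  haveI : IsLocallyNoetherian S := ⟨fun U => (hS U).1⟩
  haveI : IsLocallyNoetherian X := LocallyOfFiniteType.isLocallyNoetherian f
  exact S9674_main f hS (locallyFinite_irreducibleComponents_of_isLocallyNoetherian X)
    (fun x _ => essFiniteType_residueFieldMap f x)

/-- finitely generated algebras over a field are Nagata rings -/
theorem isNagata_of_finiteType_field (k : Type u) [Field k] (A : Type u) [CommRing A] [Algebra k A]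
    [Algebra.FiniteType k A] : CAlg.IsNagata A := by
  refine ⟨Algebra.FiniteType.isNoetherianRing k A, ?_⟩
  intro p hp L _ _ _ _ hfin
  haveI : Algebra.FiniteType k (A ⧸ p) := inferInstance
  exact finite_integralClosure_of_finiteType k (A ⧸ p) (FractionRing (A ⧸ p)) L

theorem S7616_main (k : Type u) [Field k] (X : Scheme.{u}) [X.Over (Spec (CommRingCat.of k))] [LocallyOfFiniteType (X ↘ (Spec (CommRingCat.of k)))]
    (Y : Scheme.{u}) [Y.Over (Spec (CommRingCat.of k))] [LocallyOfFiniteType (Y ↘ (Spec (CommRingCat.of k)))] [IsReduced Y]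
    (f : Y ⟶ X) [f.IsOver (Spec (CommRingCat.of k))] [QuasiCompact f] [QuasiSeparated f] :
    IsFinite f.fromNormalization := by
  haveI : LocallyOfFiniteType f := by
    have h1 : f ≫ (X ↘ Spec (CommRingCat.of k)) = Y ↘ Spec (CommRingCat.of k) :=
      (Scheme.Hom.isOver_iff (S := Spec (CommRingCat.of k)) (f := f)).mp inferInstance
    haveI : LocallyOfFiniteType (f ≫ (X ↘ Spec (CommRingCat.of k))) := by rw [h1]; infer_instance
    exact locallyOfFiniteType_of_comp f (X ↘ Spec (CommRingCat.of k))
  apply S9675_main f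
  intro U
  obtain ⟨algk, hft⟩ := finiteType_sections_over_field k X (X ↘ Spec (CommRingCat.of k)) U.1 U.2
  letI := algk
  haveI := hft
  exact isNagata_of_finiteType_field k Γ(X, U)


end Groth.Agent.Lib.Helper4.Nagata3
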