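import Mathlib
import Groth.Prelude.Def_BlowUp2
import Groth.Prelude.Def_Found
import Groth.Agent.Lib.Helper4.EffCartier
import Groth.Agent.Lib.Helper4.IdealComap
import Groth.Agent.S19618

/-!
# Proper intersection of an effective Cartier divisor with an integral closed subscheme (helper4) (helper4)
-/

set_option backward.isDefEq.respectTransparency.types false
set_option synthInstance.maxHeartbeats 400000
set_option autoImplicit false
set_option linter.unusedSectionVars false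
set_option linter.style.haveILetI false
set_option linter.unusedSimpArgs false
universe u v w
open CategoryTheory CategoryTheory.Limits Opposite AlgebraicGeometry TopologicalSpace

namespace Groth.Agent.Lib.Helper4.IntersectProp1

/-! ### saturated chains -/

section Ord

theorem exists_saturated_series {α : Type*} [PartialOrder α] (a : α) (n : ℕ)
    (h : Order.height a = n) :
    ∃ s : LTSeries α, s.last = a ∧ s.length = n ∧
      (∀ i : Fin s.length, s (Fin.castSucc i) ⋖ s (Fin.succ i)) ∧ IsMin s.head := by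
  obtain ⟨s, hlast, hlen⟩ := Order.exists_series_of_height_eq_coe a h
  have hh : (s.length : ℕ∞) = Order.height s.last := by rw [hlast, h, hlen]
  have hidx := Order.height_eq_index_of_length_eq_height_last hh
  refine ⟨s, hlast, hlen, fun i => ⟨s.strictMono Fin.castSucc_lt_succ, fun c hc1 hc2 => ?_⟩, ?_⟩
  · have h1 : Order.height (s (Fin.castSucc i)) + 1 ≤ Order.height c :=
      Order.height_add_one_le hc1
    have h2 : Order.height c + 1 ≤ Order.height (s (Fin.succ i)) := Order.height_add_one_le hc2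
    rw [hidx] at h1 h2
    have h3 : (((Fin.castSucc i : Fin (s.length + 1)) : ℕ) : ℕ∞) + 1 + 1 ≤
        (((Fin.succ i : Fin (s.length + 1)) : ℕ) : ℕ∞) := le_trans (by gcongr) h2
    rw [Fin.val_castSucc, Fin.val_succ] at h3
    norm_cast at h3
    omega
  · have h0 := hidx 0
    have h1 : Order.height s.head = 0 := by
      change Order.height (s 0) = 0
      rw [h0]; simp
    exact Order.height_eq_zero.1 h1

theorem covBy_congr {α : Type*} [PartialOrder α] {a a' b b' : α} (h1 : a = a') (h2 : b = b')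
    (h : a' ⋖ b') : a ⋖ b := by
  subst h1; subst h2; exact h

theorem snoc_saturated {α : Type*} [PartialOrder α] (s : LTSeries α) (b : α) (hb : s.last < b)
    (hs : ∀ i : Fin s.length, s (Fin.castSucc i) ⋖ s (Fin.succ i)) (hcov : s.last ⋖ b)
    (i : Fin (s.length + 1)) :
    (s.snoc b hb) (Fin.castSucc i) ⋖ (s.snoc b hb) (Fin.succ i) := by
  have e1 : (s.snoc b hb) (Fin.castSucc (n := s.length + 1) i) = s i :=
    RelSeries.snoc_castSucc s b hb i
  by_cases hi : i.val < s.length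
  · have h1 : Fin.succ (n := s.length + 1) i =
        Fin.castSucc (n := s.length + 1) (Fin.succ (⟨i.val, hi⟩ : Fin s.length)) := Fin.ext rfl
    have e2 : (s.snoc b hb) (Fin.succ (n := s.length + 1) i) =
        s (Fin.succ (⟨i.val, hi⟩ : Fin s.length)) :=
      (congrArg (fun k : Fin (s.length + 1 + 1) => (s.snoc b hb) k) h1).trans
        (RelSeries.snoc_castSucc s b hb _)
    exact covBy_congr e1 e2 (hs ⟨i.val, hi⟩)
  · have h1 : i = Fin.last s.length := Fin.ext (by have := i.2; simp only [Fin.val_last]; omega)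
    subst h1
    have e2 : (s.snoc b hb) (Fin.succ (n := s.length + 1) (Fin.last s.length)) = b :=
      RelSeries.last_snoc' s b hb
    exact covBy_congr e1 e2 hcov

end Ord

/-! ### catenary rings -/

section Cat

theorem height_succ_of_covBy {S : Type u} [CommRing S] [IsNoetherianRing S]
    (hcat : CAlg.IsCatenary S)
    (hmin : ∀ N N' : PrimeSpectrum S, IsMin N → IsMin N' → N = N')
    (P Q : PrimeSpectrum S) (hPQ : P ⋖ Q) : Order.height Q = Order.height P + 1 := by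
  have hfin : ∀ A : PrimeSpectrum S, ∃ n : ℕ, Order.height A = n := by
    intro A
    have h1 : A.asIdeal.height ≠ ⊤ := Ideal.height_ne_top A.2.ne_top
    rw [PrimeSpectrum.height_eq_orderHeight] at h1
    obtain ⟨n, hn⟩ := ENat.ne_top_iff_exists.1 h1
    exact ⟨n, hn.symm⟩
  obtain ⟨n, hn⟩ := hfin P
  obtain ⟨m, hm⟩ := hfin Q
  obtain ⟨s, hs_last, hs_len, hs_sat, hs_min⟩ := exists_saturated_series P n hn
  obtain ⟨t, ht_last, ht_len, ht_sat, ht_min⟩ := exists_saturated_series Q m hm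
  have hb : s.last < Q := by rw [hs_last]; exact hPQ.lt
  have hcov : s.last ⋖ Q := by rw [hs_last]; exact hPQ
  have hlen := hcat.2 (s.snoc Q hb) t
    ((RelSeries.head_snoc s Q hb).trans (hmin _ _ hs_min ht_min))
    ((RelSeries.last_snoc s Q hb).trans ht_last.symm)
    (fun i => snoc_saturated s Q hb hs_sat hcov i) ht_sat
  have hlen' : s.length + 1 = t.length := hlen
  rw [hm, hn]
  have h3 : m = n + 1 := by omega
  rw [h3]
  push_cast
  rfl

end Cat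

/-! ### the algebraic core -/

section Alg

variable {R : Type u} [CommRing R] [IsNoetherianRing R]

theorem no_prime_between (𝔭 𝔮 : Ideal R) [𝔭.IsPrime] (t : R)
    (hmin : 𝔮 ∈ (𝔭 ⊔ Ideal.span {t}).minimalPrimes)
    (𝔯 : Ideal R) [𝔯.IsPrime] (h1 : 𝔭 < 𝔯) (h2 : 𝔯 < 𝔮) : False := by
  haveI : 𝔮.IsPrime := hmin.1.1
  have hle : (𝔮.map (Ideal.Quotient.mk 𝔭)).height ≤ 1 :=
    Ideal.map_height_le_one_of_mem_minimalPrimes hmin
  have hsurj : Function.Surjective (Ideal.Quotient.mk 𝔭) := Ideal.Quotient.mk_surjective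
  have hker : RingHom.ker (Ideal.Quotient.mk 𝔭) = 𝔭 := Ideal.mk_ker
  haveI : (𝔯.map (Ideal.Quotient.mk 𝔭)).IsPrime :=
    Ideal.map_isPrime_of_surjective hsurj (by rw [hker]; exact h1.le)
  haveI : (𝔮.map (Ideal.Quotient.mk 𝔭)).IsPrime :=
    Ideal.map_isPrime_of_surjective hsurj (by rw [hker]; exact h1.le.trans h2.le)
  have hlt1 : (⊥ : Ideal (R ⧸ 𝔭)) < 𝔯.map (Ideal.Quotient.mk 𝔭) := by
    obtain ⟨x, hx𝔯, hx𝔭⟩ := SetLike.exists_of_lt h1
    refine lt_of_le_of_ne bot_le (fun h => hx𝔭 ?_)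
    have h3 : Ideal.Quotient.mk 𝔭 x ∈ 𝔯.map (Ideal.Quotient.mk 𝔭) := Ideal.mem_map_of_mem _ hx𝔯
    rw [← h, Ideal.mem_bot, Ideal.Quotient.eq_zero_iff_mem] at h3
    exact h3
  have hlt2 : 𝔯.map (Ideal.Quotient.mk 𝔭) < 𝔮.map (Ideal.Quotient.mk 𝔭) := by
    obtain ⟨x, hx𝔮, hx𝔯⟩ := SetLike.exists_of_lt h2
    refine lt_of_le_of_ne (Ideal.map_mono h2.le) (fun h => hx𝔯 ?_)
    have h3 : Ideal.Quotient.mk 𝔭 x ∈ 𝔯.map (Ideal.Quotient.mk 𝔭) := by
      rw [h]; exact Ideal.mem_map_of_mem _ hx𝔮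
    obtain ⟨y, hy𝔯, hyx⟩ := (Ideal.mem_map_iff_of_surjective _ hsurj).1 h3
    have h4 : y - x ∈ 𝔭 := by
      rw [← Ideal.Quotient.eq_zero_iff_mem, map_sub, hyx, sub_self]
    have h5 : x = y - (y - x) := by ring
    rw [h5]
    exact 𝔯.sub_mem hy𝔯 (h1.le h4)
  have e1 := Ideal.height_add_one_le_of_lt_of_isPrime hlt1
  have e2 := Ideal.height_add_one_le_of_lt_of_isPrime hlt2
  have e3 : (1 : ℕ∞) + 1 ≤ 1 := by
    calc (1 : ℕ∞) + 1 ≤ ((⊥ : Ideal (R ⧸ 𝔭)).height + 1) + 1 := by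
          gcongr
          exact le_add_self
      _ ≤ (𝔯.map (Ideal.Quotient.mk 𝔭)).height + 1 := by gcongr
      _ ≤ (𝔮.map (Ideal.Quotient.mk 𝔭)).height := e2
      _ ≤ 1 := hle
  have e4 : (1 + 1 : ℕ) ≤ 1 := by exact_mod_cast e3
  omega

theorem height_formula (S : Type u) [CommRing S] [Algebra R S]
    (𝔮 : Ideal R) [𝔮.IsPrime] [IsLocalization.AtPrime S 𝔮]
    (hcat : CAlg.IsCatenary S)
    (𝔫 : Ideal R) [𝔫.IsPrime] (h𝔫 : ∀ 𝔯 : Ideal R, 𝔯.IsPrime → 𝔫 ≤ 𝔯)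
    (𝔭 : Ideal R) [𝔭.IsPrime] (t : R) (ht𝔭 : t ∉ 𝔭)
    (hmin : 𝔮 ∈ (𝔭 ⊔ Ideal.span {t}).minimalPrimes) :
    𝔮.height = 𝔭.height + 1 := by
  haveI : IsNoetherianRing S := IsLocalization.isNoetherianRing 𝔮.primeCompl S inferInstance
  have h𝔭𝔮 : 𝔭 ≤ 𝔮 := le_sup_left.trans hmin.1.2
  have ht𝔮 : t ∈ 𝔮 := hmin.1.2 (Ideal.mem_sup_right (Ideal.subset_span rfl))
  have hne : 𝔭 ≠ 𝔮 := fun h => ht𝔭 (h ▸ ht𝔮)
  have hdisj : ∀ 𝔯 : Ideal R, 𝔯 ≤ 𝔮 → Disjoint (𝔮.primeCompl : Set R) (𝔯 : Set R) := by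
    intro 𝔯 h
    exact Set.disjoint_left.2 (fun a ha1 ha2 => ha1 (h ha2))
  have hPprime : (𝔭.map (algebraMap R S)).IsPrime :=
    IsLocalization.isPrime_of_isPrime_disjoint 𝔮.primeCompl S 𝔭 inferInstance (hdisj 𝔭 h𝔭𝔮)
  have hQprime : (𝔮.map (algebraMap R S)).IsPrime :=
    IsLocalization.isPrime_of_isPrime_disjoint 𝔮.primeCompl S 𝔮 inferInstance (hdisj 𝔮 le_rfl)
  have hNprime : (𝔫.map (algebraMap R S)).IsPrime :=
    IsLocalization.isPrime_of_isPrime_disjoint 𝔮.primeCompl S 𝔫 inferInstance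
      (hdisj 𝔫 (h𝔫 𝔮 inferInstance))
  have hcomapP : (𝔭.map (algebraMap R S)).comap (algebraMap R S) = 𝔭 :=
    IsLocalization.under_map_of_isPrime_disjoint 𝔮.primeCompl S inferInstance (hdisj 𝔭 h𝔭𝔮)
  have hcomapQ : (𝔮.map (algebraMap R S)).comap (algebraMap R S) = 𝔮 :=
    IsLocalization.under_map_of_isPrime_disjoint 𝔮.primeCompl S inferInstance (hdisj 𝔮 le_rfl)
  have hmapcomap : ∀ J : Ideal S, (J.comap (algebraMap R S)).map (algebraMap R S) = J :=
    fun J => IsLocalization.map_under 𝔮.primeCompl S J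
  obtain ⟨P, hP⟩ : ∃ P : PrimeSpectrum S, P = ⟨𝔭.map (algebraMap R S), hPprime⟩ := ⟨_, rfl⟩
  obtain ⟨Q, hQ⟩ : ∃ Q : PrimeSpectrum S, Q = ⟨𝔮.map (algebraMap R S), hQprime⟩ := ⟨_, rfl⟩
  have hPa : P.asIdeal = 𝔭.map (algebraMap R S) := by rw [hP]
  have hQa : Q.asIdeal = 𝔮.map (algebraMap R S) := by rw [hQ]
  have hcov : P ⋖ Q := by
    refine ⟨lt_of_le_of_ne ?_ (fun h => hne ?_), fun C hPC hCQ => ?_⟩
    · change P.asIdeal ≤ Q.asIdeal
      rw [hPa, hQa]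
      exact Ideal.map_mono h𝔭𝔮
    · have h' : P.asIdeal = Q.asIdeal := congrArg PrimeSpectrum.asIdeal h
      rw [hPa, hQa] at h'
      have h'' := congrArg (Ideal.comap (algebraMap R S)) h'
      rw [hcomapP, hcomapQ] at h''
      exact h''
    · haveI : (C.asIdeal.comap (algebraMap R S)).IsPrime := inferInstance
      have hPC' : P.asIdeal ≤ C.asIdeal := hPC.le
      have hCQ' : C.asIdeal ≤ Q.asIdeal := hCQ.le
      refine no_prime_between 𝔭 𝔮 t hmin (C.asIdeal.comap (algebraMap R S)) ?_ ?_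
      · refine lt_of_le_of_ne ?_ ?_
        · rw [← hcomapP, ← hPa]; exact Ideal.comap_mono hPC'
        · intro h
          apply hPC.ne
          apply PrimeSpectrum.ext
          rw [hPa, h, hmapcomap]
      · refine lt_of_le_of_ne ?_ ?_
        · rw [← hcomapQ, ← hQa]; exact Ideal.comap_mono hCQ'
        · intro h
          apply hCQ.ne
          apply PrimeSpectrum.ext
          rw [hQa, ← h, hmapcomap]
  have hminS : ∀ N N' : PrimeSpectrum S, IsMin N → IsMin N' → N = N' := by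
    have key : ∀ N : PrimeSpectrum S, IsMin N → N = ⟨𝔫.map (algebraMap R S), hNprime⟩ := by
      intro N hN
      have h1 : 𝔫 ≤ N.asIdeal.comap (algebraMap R S) := h𝔫 _ inferInstance
      have h2 : 𝔫.map (algebraMap R S) ≤ N.asIdeal := Ideal.map_le_iff_le_comap.2 h1
      have h3 : (⟨𝔫.map (algebraMap R S), hNprime⟩ : PrimeSpectrum S) ≤ N := h2
      exact le_antisymm (hN h3) h3
    intro N N' hN hN'
    rw [key N hN, key N' hN']
  have hfinal := height_succ_of_covBy hcat hminS P Q hcov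
  rw [← PrimeSpectrum.height_eq_orderHeight, ← PrimeSpectrum.height_eq_orderHeight, hPa, hQa]
    at hfinal
  have hP' : (𝔭.map (algebraMap R S)).height = 𝔭.height :=
    IsLocalization.height_map_of_disjoint 𝔮.primeCompl 𝔭 (hdisj 𝔭 h𝔭𝔮)
  have hQ' : (𝔮.map (algebraMap R S)).height = 𝔮.height :=
    IsLocalization.height_map_of_disjoint 𝔮.primeCompl 𝔮 (hdisj 𝔮 le_rfl)
  rw [← hQ', ← hP']
  exact hfinal

end Alg

/-! ### points and primes in an affine chart -/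

section Sch

variable {X : Scheme.{u}}

theorem fromSpec_mem {U : X.Opens} (hU : IsAffineOpen U) (P : PrimeSpectrum Γ(X, U)) :
    hU.fromSpec P ∈ U := by
  have h : hU.fromSpec P ∈ Set.range hU.fromSpec := ⟨P, rfl⟩
  rw [hU.range_fromSpec] at h
  exact h

theorem primeIdealOf_fromSpec {U : X.Opens} (hU : IsAffineOpen U) (P : PrimeSpectrum Γ(X, U)) :
    hU.primeIdealOf ⟨hU.fromSpec P, fromSpec_mem hU P⟩ = P :=
  hU.fromSpec.isOpenEmbedding.injective
    (hU.fromSpec_primeIdealOf ⟨hU.fromSpec P, fromSpec_mem hU P⟩)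

theorem mem_basicOpen_iff {U : X.Opens} (hU : IsAffineOpen U) (x : X) (hx : x ∈ U)
    (a : Γ(X, U)) :
    x ∈ X.basicOpen a ↔ a ∉ (hU.primeIdealOf ⟨x, hx⟩).asIdeal := by
  have h1 : hU.fromSpec (hU.primeIdealOf ⟨x, hx⟩) = x := hU.fromSpec_primeIdealOf ⟨x, hx⟩
  have h2 : hU.fromSpec (hU.primeIdealOf ⟨x, hx⟩) ∈ X.basicOpen a ↔
      hU.primeIdealOf ⟨x, hx⟩ ∈ PrimeSpectrum.basicOpen a := by
    have h3 := hU.fromSpec_preimage_basicOpen a
    constructor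
    · intro h
      have h' : hU.primeIdealOf ⟨x, hx⟩ ∈ hU.fromSpec ⁻¹ᵁ X.basicOpen a := h
      rw [h3] at h'
      exact h'
    · intro h
      have h' : hU.primeIdealOf ⟨x, hx⟩ ∈ hU.fromSpec ⁻¹ᵁ X.basicOpen a := by
        rw [h3]; exact h
      exact h'
  rw [h1] at h2
  exact h2

theorem mem_support_iff (I : X.IdealSheafData) (V : X.affineOpens) (x : X) (hx : x ∈ V.1) :
    x ∈ I.support ↔ I.ideal V ≤ (V.2.primeIdealOf ⟨x, hx⟩).asIdeal := by
  rw [Scheme.IdealSheafData.mem_support_iff_of_mem hx, X.mem_zeroLocus_iff]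
  constructor
  · intro h a ha
    by_contra hn
    exact h a ha ((mem_basicOpen_iff V.2 x hx a).2 hn)
  · intro h a ha hmem
    exact (mem_basicOpen_iff V.2 x hx a).1 hmem (h ha)

theorem specializes_fromSpec {U : X.Opens} (hU : IsAffineOpen U) {P Q : PrimeSpectrum Γ(X, U)}
    (h : P ≤ Q) : hU.fromSpec P ⤳ hU.fromSpec Q :=
  ((PrimeSpectrum.le_iff_specializes P Q).1 h).map hU.fromSpec.continuous

theorem primeIdealOf_le_of_specializes {U : X.Opens} (hU : IsAffineOpen U) {x y : X}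
    (hx : x ∈ U) (hy : y ∈ U) (h : x ⤳ y) :
    hU.primeIdealOf ⟨x, hx⟩ ≤ hU.primeIdealOf ⟨y, hy⟩ := by
  change (hU.primeIdealOf ⟨x, hx⟩).asIdeal ≤ (hU.primeIdealOf ⟨y, hy⟩).asIdeal
  intro a ha
  by_contra hn
  have h1 : y ∈ X.basicOpen a := (mem_basicOpen_iff hU y hy a).2 hn
  have h2 : x ∈ X.basicOpen a := h.mem_open (X.basicOpen a).2 h1
  exact (mem_basicOpen_iff hU x hx a).1 h2 ha

theorem dim_stalk_eq {U : X.Opens} (hU : IsAffineOpen U) (x : X) (hx : x ∈ U) :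
    ringKrullDim (X.presheaf.stalk x) =
      ((hU.primeIdealOf ⟨x, hx⟩).asIdeal.height : WithBot ℕ∞) := by
  letI := TopCat.Presheaf.algebra_section_stalk X.presheaf ⟨x, hx⟩
  haveI := hU.isLocalization_stalk ⟨x, hx⟩
  exact IsLocalization.AtPrime.ringKrullDim_eq_height (hU.primeIdealOf ⟨x, hx⟩).asIdeal
    (X.presheaf.stalk x)

end Sch

/-! ### the main statement -/

section Main

theorem main {X Z : Scheme.{u}}
    [IsLocallyNoetherian X] [IrreducibleSpace ↥X]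
    (hcat : ∀ x : ↥X, CAlg.IsCatenary ↑(X.presheaf.stalk x))
    (𝓘 : X.IdealSheafData) (hY : BlowUp.IsEffCartierIdeal 𝓘)
    (i : Z ⟶ X) [IsClosedImmersion i] [IsIntegral Z] (hc : BlowUp.IsEffCartierIdeal (𝓘.comap i)) :
    (∀ ζ : ↥X, ζ ∈ (𝓘.support : Set ↥X) ∩ Set.range i.base →
        (∀ ζ' : ↥X, ζ' ∈ (𝓘.support : Set ↥X) ∩ Set.range i.base → ζ' ⤳ ζ → ζ' = ζ) →
        ringKrullDim ↑(X.presheaf.stalk ζ) =
          (⨅ y : (𝓘.support : Set ↥X), ringKrullDim ↑(X.presheaf.stalk y.1)) +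
            ringKrullDim ↑(X.presheaf.stalk (i (genericPoint ↥Z)))) := by
  classical
  rintro ζ ⟨hζY, z, hz⟩ hmin
  have hz' : i z = ζ := hz
  subst hz'
  obtain ⟨U, hζU, t, ht, hI⟩ := hY (i z)
  haveI : IsNoetherianRing Γ(X, U.1) := IsLocallyNoetherian.component_noetherian U
  have hrange : ∀ x : X, x ∈ Set.range i.base ↔ x ∈ i.ker.support := by
    intro x
    have h1 : (i.ker.support : Set X) = closure (Set.range i.base) := Scheme.Hom.support_ker i
    have h2 : closure (Set.range i.base) = Set.range i.base :=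
      i.isClosedEmbedding.isClosed_range.closure_eq
    rw [← SetLike.mem_coe, h1, h2]
  have hkerU : i.ker.ideal U = RingHom.ker (i.app U.1).hom := Scheme.Hom.ker_apply i U
  have hzV : z ∈ i ⁻¹ᵁ U.1 := hζU
  obtain ⟨𝔭, h𝔭def⟩ : ∃ 𝔭 : Ideal Γ(X, U.1), 𝔭 = RingHom.ker (i.app U.1).hom := ⟨_, rfl⟩
  haveI : IsDomain Γ(Z, i ⁻¹ᵁ U.1) :=
    @IsIntegral.component_integral Z _ (i ⁻¹ᵁ U.1) ⟨⟨z, hzV⟩⟩
  haveI h𝔭prime : 𝔭.IsPrime := by rw [h𝔭def]; exact RingHom.ker_isPrime _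
  have hker𝔭 : i.ker.ideal U = 𝔭 := by rw [h𝔭def]; exact hkerU
  -- `t ∉ 𝔭`
  have ht𝔭 : t ∉ 𝔭 := by
    intro htp
    rw [h𝔭def, RingHom.mem_ker] at htp
    obtain ⟨W, hzW, hWV, s, hs, hIW⟩ :=
      Groth.Agent.Helper4.EffCartier.shrink hc z (i ⁻¹ᵁ U.1) hzV
    have h1 := Groth.Agent.Helper4.IdealComap.ideal_comap_eq_map i 𝓘 W U hWV
    rw [hIW, hI, Ideal.map_span, Set.image_singleton] at h1
    have h2 : (i.appLE U.1 W.1 hWV).hom t = 0 := by
      have h3 : i.appLE U.1 W.1 hWV = i.app U.1 ≫ Z.presheaf.map (homOfLE hWV).op := rfl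
      rw [h3, CommRingCat.hom_comp, RingHom.comp_apply, htp, map_zero]
    rw [h2] at h1
    have h3 : s ∈ Ideal.span ({0} : Set Γ(Z, W.1)) := by rw [← h1]; exact Ideal.subset_span rfl
    have h4 : s = 0 := by simpa using h3
    haveI : IsDomain Γ(Z, W.1) := @IsIntegral.component_integral Z _ W.1 ⟨⟨z, hzW⟩⟩
    rw [h4] at hs
    exact zero_notMem_nonZeroDivisors hs
  -- the prime of `ζ`
  obtain ⟨𝔮, h𝔮⟩ : ∃ 𝔮 : PrimeSpectrum Γ(X, U.1), 𝔮 = U.2.primeIdealOf ⟨i z, hζU⟩ := ⟨_, rfl⟩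
  have hI𝔮 : 𝓘.ideal U ≤ 𝔮.asIdeal := by
    rw [h𝔮]; exact (mem_support_iff 𝓘 U (i z) hζU).1 hζY
  have ht𝔮 : t ∈ 𝔮.asIdeal := hI𝔮 (by rw [hI]; exact Ideal.subset_span rfl)
  have h𝔭𝔮 : 𝔭 ≤ 𝔮.asIdeal := by
    rw [← hker𝔭, h𝔮]
    exact (mem_support_iff i.ker U (i z) hζU).1 ((hrange _).1 ⟨z, rfl⟩)
  have hminP : 𝔮.asIdeal ∈ (𝔭 ⊔ Ideal.span {t}).minimalPrimes := by
    refine ⟨⟨𝔮.2, sup_le h𝔭𝔮 ((Ideal.span_singleton_le_iff_mem _).2 ht𝔮)⟩, ?_⟩
    rintro 𝔯 ⟨h𝔯prime, h𝔯le⟩ h𝔯𝔮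
    obtain ⟨Pr, hPr⟩ : ∃ Pr : PrimeSpectrum Γ(X, U.1), Pr = ⟨𝔯, h𝔯prime⟩ := ⟨_, rfl⟩
    have hPra : Pr.asIdeal = 𝔯 := by rw [hPr]
    have hmemU := fromSpec_mem U.2 Pr
    have hpr := primeIdealOf_fromSpec U.2 Pr
    have hsupp : U.2.fromSpec Pr ∈ 𝓘.support :=
      (mem_support_iff 𝓘 U _ hmemU).2 (by
        rw [hpr, hI, hPra]
        exact (Ideal.span_singleton_le_iff_mem _).2
          (h𝔯le (Ideal.mem_sup_right (Ideal.subset_span rfl))))
    have hran : U.2.fromSpec Pr ∈ Set.range i.base :=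
      (hrange _).2 ((mem_support_iff i.ker U _ hmemU).2 (by
        rw [hpr, hker𝔭, hPra]
        exact le_sup_left.trans h𝔯le))
    have hspec : U.2.fromSpec Pr ⤳ i z := by
      have h1 := specializes_fromSpec U.2 (show Pr ≤ 𝔮 from by
        change Pr.asIdeal ≤ 𝔮.asIdeal
        rw [hPra]; exact h𝔯𝔮)
      rw [h𝔮, U.2.fromSpec_primeIdealOf] at h1
      exact h1
    have heq := hmin _ ⟨hsupp, hran⟩ hspec
    have h2 : Pr = 𝔮 := by
      rw [h𝔮, ← hpr]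
      exact congrArg U.2.primeIdealOf (Subtype.ext heq)
    rw [← hPra, h2]
  -- the generic point of `Z`
  have hηV : genericPoint Z ∈ i ⁻¹ᵁ U.1 :=
    ((genericPoint_spec Z).mem_open_set_iff (i ⁻¹ᵁ U.1).2).2 ⟨z, trivial, hzV⟩
  have hηU : i (genericPoint Z) ∈ U.1 := hηV
  have hη : U.2.primeIdealOf ⟨i (genericPoint Z), hηU⟩ = ⟨𝔭, h𝔭prime⟩ := by
    obtain ⟨Pp, hPp⟩ : ∃ Pp : PrimeSpectrum Γ(X, U.1), Pp = ⟨𝔭, h𝔭prime⟩ := ⟨_, rfl⟩
    have hPpa : Pp.asIdeal = 𝔭 := by rw [hPp]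
    rw [← hPp]
    apply le_antisymm
    · have hmemU := fromSpec_mem U.2 Pp
      have hpr := primeIdealOf_fromSpec U.2 Pp
      have hran : U.2.fromSpec Pp ∈ Set.range i.base :=
        (hrange _).2 ((mem_support_iff i.ker U _ hmemU).2 (by
          rw [hpr, hker𝔭, hPpa]))
      obtain ⟨z₀, hz₀⟩ := hran
      have hs1 : genericPoint Z ⤳ z₀ := genericPoint_specializes z₀
      have hs2 : i (genericPoint Z) ⤳ U.2.fromSpec Pp := by
        have h3 := hs1.map i.continuous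
        rw [← hz₀]; exact h3
      have h4 := primeIdealOf_le_of_specializes U.2 hηU hmemU hs2
      rw [hpr] at h4
      exact h4
    · change Pp.asIdeal ≤ (U.2.primeIdealOf ⟨i (genericPoint Z), hηU⟩).asIdeal
      rw [hPpa, ← hker𝔭]
      exact (mem_support_iff i.ker U _ hηU).1 ((hrange _).1 ⟨genericPoint Z, rfl⟩)
  -- the least prime
  have hξU : genericPoint X ∈ U.1 :=
    ((genericPoint_spec X).mem_open_set_iff U.1.2).2 ⟨i z, trivial, hζU⟩
  obtain ⟨𝔫, h𝔫⟩ : ∃ 𝔫 : PrimeSpectrum Γ(X, U.1),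
      𝔫 = U.2.primeIdealOf ⟨genericPoint X, hξU⟩ := ⟨_, rfl⟩
  have h𝔫le : ∀ 𝔯 : Ideal Γ(X, U.1), 𝔯.IsPrime → 𝔫.asIdeal ≤ 𝔯 := by
    intro 𝔯 h𝔯
    obtain ⟨Pr, hPr⟩ : ∃ Pr : PrimeSpectrum Γ(X, U.1), Pr = ⟨𝔯, h𝔯⟩ := ⟨_, rfl⟩
    have hPra : Pr.asIdeal = 𝔯 := by rw [hPr]
    have hmemU := fromSpec_mem U.2 Pr
    have hpr := primeIdealOf_fromSpec U.2 Pr
    have h4 := primeIdealOf_le_of_specializes U.2 hξU hmemU (genericPoint_specializes _)
    rw [hpr, ← h𝔫] at h4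
    rw [← hPra]
    exact h4
  -- the height formula
  have hform : 𝔮.asIdeal.height = 𝔭.height + 1 := by
    subst h𝔮
    letI := TopCat.Presheaf.algebra_section_stalk X.presheaf (⟨i z, hζU⟩ : U.1)
    haveI hloc : IsLocalization.AtPrime (X.presheaf.stalk (i z))
        (U.2.primeIdealOf ⟨i z, hζU⟩).asIdeal := U.2.isLocalization_stalk ⟨i z, hζU⟩
    exact height_formula (X.presheaf.stalk (i z)) _ (hcat (i z)) 𝔫.asIdeal h𝔫le 𝔭 t ht𝔭 hminP
  -- codimension of the divisor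
  have hinf : (⨅ y : (𝓘.support : Set ↥X), ringKrullDim ↑(X.presheaf.stalk y.1)) = 1 := by
    apply le_antisymm
    · obtain ⟨P₀, hP₀min, hP₀le⟩ := Ideal.exists_minimalPrimes_le (I := Ideal.span {t})
        (J := 𝔮.asIdeal) ((Ideal.span_singleton_le_iff_mem _).2 ht𝔮)
      have hP₀prime : P₀.IsPrime := hP₀min.1.1
      obtain ⟨Pp, hPp⟩ : ∃ Pp : PrimeSpectrum Γ(X, U.1), Pp = ⟨P₀, hP₀prime⟩ := ⟨_, rfl⟩
      have hPpa : Pp.asIdeal = P₀ := by rw [hPp]
      have hmemU := fromSpec_mem U.2 Pp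
      have hpr := primeIdealOf_fromSpec U.2 Pp
      have hsupp : U.2.fromSpec Pp ∈ 𝓘.support :=
        (mem_support_iff 𝓘 U _ hmemU).2 (by rw [hpr, hI, hPpa]; exact hP₀min.1.2)
      have hdim : ringKrullDim (X.presheaf.stalk (U.2.fromSpec Pp)) ≤ 1 := by
        rw [dim_stalk_eq U.2 _ hmemU, hpr, hPpa]
        have h5 := Ideal.height_le_one_of_isPrincipal_of_mem_minimalPrimes (Ideal.span {t}) P₀
          hP₀min
        exact_mod_cast h5
      exact iInf_le_of_le ⟨U.2.fromSpec Pp, hsupp⟩ hdim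
    · exact le_iInf (fun y => Groth.Agent.S19618.H19618.stalk_dim_ge_one 𝓘 hY y.1 y.2)
  rw [hinf, dim_stalk_eq U.2 (i z) hζU, dim_stalk_eq U.2 (i (genericPoint Z)) hηU, hη, ← h𝔮,
    hform]
  push_cast
  rw [add_comm]

end Main


end Groth.Agent.Lib.Helper4.IntersectProp1
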