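import Mathlib
import Groth.Prelude.Def_Cyc
import Groth.Agent.Lib.Helper4.JacDim1
import Groth.Prelude.Def_EGA43
import Groth.Agent.Lib.Helper4.FibreStalkDim1
import Groth.Agent.Lib.Helper4.DimFT1
import Groth.Agent.Lib.Helper4.DimFT2
import Groth.Agent.Lib.Helper4.Chev8
import Groth.Agent.Lib.Helper4.FibDim7
import Groth.Agent.Lib.Helper4.EffCartierDim1
import Groth.Agent.Lib.Helper4.JacDim4
import Groth.Agent.Lib.Helper4.Chev9
import Groth.Agent.Lib.Helper4.Chev10
import Groth.Agent.Lib.Helper4.Chev11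
import Groth.Agent.Lib.Helper4.Equi1
import Groth.Agent.Lib.Helper4.Equi2
import Groth.Agent.Lib.Helper4.Equi3
import Groth.Agent.Lib.Helper4.Equi4
import Groth.Agent.Lib.Helper4.Equi5
import Groth.Agent.Lib.Helper4.Equi6
import Groth.Agent.Lib.Helper4.Equi7

/-!
# Quasi-sections over a one-dimensional base (EGA IV 14.5.x) (helper4)
-/

set_option backward.isDefEq.respectTransparency.types false
set_option synthInstance.maxHeartbeats 400000
set_option autoImplicit false
set_option linter.unusedSectionVars false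
set_option linter.style.haveILetI false
set_option linter.unusedSimpArgs false
universe u v w
open CategoryTheory CategoryTheory.Limits AlgebraicGeometry TopologicalSpace IsLocalRing Opposite
open Cardinal
open Groth.Agent.Lib.Helper4.DimIneq1 Groth.Agent.Lib.Helper4.DimFT2 Groth.Agent.Lib.Helper4.Catenary1
open Groth.Agent.Lib.Helper4.DimEq1 Groth.Agent.Lib.Helper4.DimIneq2 Groth.Agent.Lib.Helper4.DimEq2
open Groth.Agent.Lib.Helper4.DimIneq3 Groth.Agent.Lib.Helper4.DimIneq4
open Groth.Agent.Lib.Helper4.NormFibre2 Groth.Agent.Lib.Helper4.RadBir3 Groth.Agent.Lib.Helper4.DimFT3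
open Groth.Agent.Lib.Helper4.FibDim1 Groth.Agent.Lib.Helper4.FibDim2 Groth.Agent.Lib.Helper4.LocUC1
open Groth.Agent.Lib.Helper4.FibDim3 Groth.Agent.Lib.Helper4.FibDim4 Groth.Agent.Lib.Helper4.FibDim5
open Groth.Agent.Lib.Helper4.FibDim6 Groth.Agent.Lib.Helper4.FibDim7 Groth.Agent.Lib.Helper4.JacDim1
open Groth.Agent.Lib.Helper4.DimFT1
open Groth.Agent.Lib.Helper4.Chev2 Groth.Agent.Lib.Helper4.Chev5 Groth.Agent.Lib.Helper4.Chev6 Groth.Agent.Lib.Helper4.Chev8
open Groth.Agent.Lib.Helper4.JacDim4 Groth.Agent.Lib.Helper4.EffCartierDim1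
open Groth.Agent.Lib.Helper4.Chev9 Groth.Agent.Lib.Helper4.Chev4
open Groth.Agent.Lib.Helper4.Chev10 Groth.Agent.Lib.Helper4.Chev11 Groth.Agent.Lib.Helper4.Chev3 Groth.Agent.Lib.Helper4.Equi1 Groth.Agent.Lib.Helper4.Equi2 Groth.Agent.Lib.Helper4.OpenAt1 Groth.Agent.Lib.Helper4.Equi3 Groth.Agent.Lib.Helper4.Equi4 Groth.Agent.Lib.Helper4.Equi5 Groth.Agent.Lib.Helper4.Equi6 Groth.Agent.Lib.Helper4.Equi7

namespace Groth.Agent.Lib.Helper4.Equi8

section Dim1
variable {X Y : Scheme.{u}} (f : X ⟶ Y) [LocallyOfFiniteType f]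

/-- over a base all of whose local rings have dimension at most one, a dominant morphism from an
irreducible scheme has `tr f z ≤ tr f ξ` at all points. -/
theorem tr_le_tr_generic_of_dim_le_one [IsLocallyNoetherian Y] [IrreducibleSpace X]
    (hY : ∀ y : Y, ringKrullDim (Y.presheaf.stalk y) ≤ 1) (z : X)
    (hz : z ≠ genericPoint X) :
    tr f z ≤ tr f (genericPoint X) := by
  have h1 := stalk_dim_le_gen f z
  have h2 : topologicalKrullDim ↥{t : Y | t ∈ closure ({f (genericPoint X)} : Set Y) ∧ t ⤳ f z} ≤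
      ringKrullDim (Y.presheaf.stalk (f z)) := by
    exact genIn_le_stalk_dim (𝟙 Y) (Scheme.Hom.isEmbedding _) (f (genericPoint X))
      (by intro t _; exact ⟨t, rfl⟩) (f z)
  have h3 : (1 : WithBot ℕ∞) ≤ ringKrullDim (X.presheaf.stalk z) := by
    rw [AlgebraicGeometry.ringKrullDim_stalk_eq_coheight z]
    have hne : Order.coheight z ≠ 0 := by
      rw [Ne, Order.coheight_eq_zero]
      intro hmax
      have hsp : genericPoint X ⤳ z := (genericPoint_spec X).specializes (Set.mem_univ _)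
      have h4 : z ≤ genericPoint X := hsp
      have h5 : z ⤳ genericPoint X := hmax h4
      exact hz (h5.antisymm hsp).eq
    have : (1 : ℕ∞) ≤ Order.coheight z := Order.one_le_iff_ne_zero.mpr hne
    exact_mod_cast this
  have h6 : (1 : WithBot ℕ∞) + (tr f z : WithBot ℕ∞) ≤ 1 + (tr f (genericPoint X) : WithBot ℕ∞) :=
    calc (1 : WithBot ℕ∞) + (tr f z : WithBot ℕ∞)
        ≤ ringKrullDim (X.presheaf.stalk z) + (tr f z : WithBot ℕ∞) := add_le_add_left h3 _
      _ ≤ _ := h1
      _ ≤ ringKrullDim (Y.presheaf.stalk (f z)) + (tr f (genericPoint X) : WithBot ℕ∞) :=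
          add_le_add_left h2 _
      _ ≤ 1 + (tr f (genericPoint X) : WithBot ℕ∞) := add_le_add_left (hY _) _
  have h7 : ((1 + tr f z : ℕ) : WithBot ℕ∞) ≤ ((1 + tr f (genericPoint X) : ℕ) : WithBot ℕ∞) := by
    push_cast
    exact h6
  have h8 : 1 + tr f z ≤ 1 + tr f (genericPoint X) := by exact_mod_cast h7
  omega

end Dim1


section Dim1b
variable {X Y : Scheme.{u}} (f : X ⟶ Y) [LocallyOfFiniteType f]

/-- over an irreducible base of dimension at most one, every point closed in its fibre on a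
dominating irreducible component has a quasi-finite dominant quasi-section inside the
component. -/
theorem exists_section_in_component [IrreducibleSpace Y] [IsLocallyNoetherian Y]
    (hY : ∀ y : Y, ringKrullDim (Y.presheaf.stalk y) ≤ 1) (x : X)
    (hcl : ∀ x' : X, f.base x' = f.base x → x ⤳ x' → x' = x)
    (Xi : Set X) (hXi : Xi ∈ irreducibleComponents (X : Type u)) (hxXi : x ∈ Xi)
    (hdom : Dense (f.base '' Xi)) :
    ∃ (T : Scheme.{u}) (i : T ⟶ X), IsImmersion i ∧ IrreducibleSpace ↥T ∧ IsReduced T ∧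
      x ∈ Set.range i.base ∧ Set.range i.base ⊆ Xi ∧
      LocallyOfFiniteType (i ≫ f) ∧ LocallyQuasiFinite (i ≫ f) ∧ QuasiCompact (i ≫ f) ∧
      IsDominant (i ≫ f) := by
  have hXicl : IsClosed Xi := isClosed_of_mem_irreducibleComponents Xi hXi
  haveI hirr := irreducibleSpace_vanishingIdeal_subscheme (⟨Xi, hXicl⟩ : Closeds X) hXi.1
  have hr : Set.range (Scheme.IdealSheafData.vanishingIdeal
      (⟨Xi, hXicl⟩ : Closeds X)).subschemeι = Xi := by
    rw [Scheme.IdealSheafData.range_subschemeι, Scheme.IdealSheafData.coe_support_vanishingIdeal]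
    rfl
  have hemb := Scheme.Hom.isEmbedding (Scheme.IdealSheafData.vanishingIdeal
      (⟨Xi, hXicl⟩ : Closeds X)).subschemeι
  have hclemb := Scheme.Hom.isClosedEmbedding (Scheme.IdealSheafData.vanishingIdeal
      (⟨Xi, hXicl⟩ : Closeds X)).subschemeι
  have hxr : x ∈ Set.range (Scheme.IdealSheafData.vanishingIdeal
      (⟨Xi, hXicl⟩ : Closeds X)).subschemeι := by rw [hr]; exact hxXi
  obtain ⟨x', hx'⟩ := hxr
  -- the generic point maps to the generic point
  have hη : ((Scheme.IdealSheafData.vanishingIdeal (⟨Xi, hXicl⟩ : Closeds X)).subschemeι ≫ f)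
      (genericPoint ↥(Scheme.IdealSheafData.vanishingIdeal
        (⟨Xi, hXicl⟩ : Closeds X)).subscheme) = genericPoint Y := by
    have h1 : closure ({(Scheme.IdealSheafData.vanishingIdeal
        (⟨Xi, hXicl⟩ : Closeds X)).subschemeι (genericPoint ↥(Scheme.IdealSheafData.vanishingIdeal
        (⟨Xi, hXicl⟩ : Closeds X)).subscheme)} : Set X) = Xi := by
      rw [← Set.image_singleton, hclemb.closure_image_eq,
        (genericPoint_spec ↥(Scheme.IdealSheafData.vanishingIdeal
          (⟨Xi, hXicl⟩ : Closeds X)).subscheme).def, Set.image_univ, hr]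
    have h2 : IsGenericPoint (((Scheme.IdealSheafData.vanishingIdeal
        (⟨Xi, hXicl⟩ : Closeds X)).subschemeι ≫ f)
        (genericPoint ↥(Scheme.IdealSheafData.vanishingIdeal
          (⟨Xi, hXicl⟩ : Closeds X)).subscheme)) (Set.univ : Set Y) := by
      change closure _ = _
      rw [Scheme.Hom.comp_apply, ← Set.image_singleton,
        ← closure_image_closure f.continuous, h1]
      exact hdom.closure_eq
    exact h2.eq (genericPoint_spec Y)
  have hle : FlatMor.fibreDimAt ((Scheme.IdealSheafData.vanishingIdeal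
      (⟨Xi, hXicl⟩ : Closeds X)).subschemeι ≫ f) x' ≤
      ((tr ((Scheme.IdealSheafData.vanishingIdeal (⟨Xi, hXicl⟩ : Closeds X)).subschemeι ≫ f)
        (genericPoint ↥(Scheme.IdealSheafData.vanishingIdeal
          (⟨Xi, hXicl⟩ : Closeds X)).subscheme) : ℕ) : WithBot ℕ∞) := by
    apply fibreDimAt_le_of_max_tr_le
    intro z _ _ _
    by_cases hz : z = genericPoint ↥(Scheme.IdealSheafData.vanishingIdeal
          (⟨Xi, hXicl⟩ : Closeds X)).subscheme
    · rw [hz]
    · exact tr_le_tr_generic_of_dim_le_one _ hY z hz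
  have hequi := isEquidimAt_of_irreducible _ hη x' hle
  have hcl' : ∀ w' : ↥(Scheme.IdealSheafData.vanishingIdeal
      (⟨Xi, hXicl⟩ : Closeds X)).subscheme,
      ((Scheme.IdealSheafData.vanishingIdeal (⟨Xi, hXicl⟩ : Closeds X)).subschemeι ≫ f).base w' =
      ((Scheme.IdealSheafData.vanishingIdeal (⟨Xi, hXicl⟩ : Closeds X)).subschemeι ≫ f).base x' →
      x' ⤳ w' → w' = x' := by
    intro w' hfw' hsp
    have h1 := hsp.map (Scheme.IdealSheafData.vanishingIdeal
      (⟨Xi, hXicl⟩ : Closeds X)).subschemeι.continuous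
    rw [hx'] at h1
    have h2 := hcl _ (by
      have := hfw'
      simp only [Scheme.Hom.comp_apply] at this
      rw [hx'] at this
      exact this) h1
    apply hemb.injective
    rw [hx']
    exact h2
  obtain ⟨T, i, hi1, hi2, hi3, hi4, hi5, hi6, hi7, hi8⟩ := S4944_main _ x' hequi hcl'
  have e : (i ≫ (Scheme.IdealSheafData.vanishingIdeal
      (⟨Xi, hXicl⟩ : Closeds X)).subschemeι) ≫ f =
      i ≫ ((Scheme.IdealSheafData.vanishingIdeal
      (⟨Xi, hXicl⟩ : Closeds X)).subschemeι ≫ f) := Category.assoc _ _ _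
  refine ⟨T, i ≫ (Scheme.IdealSheafData.vanishingIdeal
      (⟨Xi, hXicl⟩ : Closeds X)).subschemeι, inferInstance, hi2, hi3, ?_, ?_, ?_, ?_, ?_, ?_⟩
  · obtain ⟨t, ht⟩ := hi4
    refine ⟨t, ?_⟩
    rw [Scheme.Hom.comp_apply, ht, hx']
  · rintro _ ⟨t, rfl⟩
    exact hr.subset ⟨i t, (Scheme.Hom.comp_apply _ _ _).symm⟩
  · rw [e]; exact hi5
  · rw [e]; exact hi6
  · rw [e]; exact hi7
  · rw [e]; exact hi8

theorem S4946_main [IrreducibleSpace Y]
    [IsLocallyNoetherian Y] (hY : ∀ y : Y, IsRegularLocalRing (Y.presheaf.stalk y) ∧ ringKrullDim (Y.presheaf.stalk y) ≤ 1)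
    (y : Y) :
    (∀ Z ∈ irreducibleComponents (X : Type u), (Z ∩ f.base ⁻¹' {y}).Nonempty → Dense (f.base '' Z)) ↔
      ∀ x : X, f.base x = y → (∀ x' : X, f.base x' = y → x ⤳ x' → x' = x) →
        ∀ Xi ∈ irreducibleComponents (X : Type u), x ∈ Xi →
          ∃ (T : Scheme.{u}) (i : T ⟶ X), IsImmersion i ∧ IrreducibleSpace ↥T ∧ IsReduced T ∧ x ∈ Set.range i.base ∧
            Set.range i.base ⊆ Xi ∧
            LocallyOfFiniteType (i ≫ f) ∧ LocallyQuasiFinite (i ≫ f) ∧ QuasiCompact (i ≫ f) ∧ IsDominant (i ≫ f) := by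
  constructor
  · intro hd x hx hcl Xi hXi hxXi
    apply exists_section_in_component f (fun y => (hY y).2) x _ Xi hXi hxXi
      (hd Xi hXi ⟨x, hxXi, hx⟩)
    intro x' hfx'
    exact hcl x' (hfx'.trans hx)
  · intro he Z hZ hne
    obtain ⟨p, hpZ, hpy⟩ := hne
    have hpy' : f p = y := hpy
    obtain ⟨x, hsp, hfx, htr0, -⟩ := exists_closed_pt f p
    have hxZ : x ∈ Z := by
      have hcl : IsClosed Z := isClosed_of_mem_irreducibleComponents Z hZ
      exact hcl.closure_subset_iff.mpr (Set.singleton_subset_iff.mpr hpZ) hsp.mem_closure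
    have hxcl : ∀ x' : X, f.base x' = y → x ⤳ x' → x' = x := by
      intro x' hfx' hsp'
      by_contra hne
      have := tr_lt_of_specializes f x x' hsp' (fun h => hne h.symm)
        (hfx.trans (hpy'.trans hfx'.symm))
      omega
    obtain ⟨T, i, -, -, -, -, hsub, -, -, -, hdom⟩ := he x (hfx.trans hpy') hxcl Z hZ hxZ
    have hd := hdom.denseRange
    apply hd.mono
    rintro _ ⟨t, rfl⟩
    exact ⟨i t, hsub ⟨t, rfl⟩, (Scheme.Hom.comp_apply _ _ _).symm⟩

end Dim1b

end Groth.Agent.Lib.Helper4.Equi8
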