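import Mathlib
import Groth.Prelude.Def_Brnch
import Groth.Prelude.Def_Curv2
import Groth.Prelude.Def_Flat
import Groth.Agent.Lib.Helper4.NormFibre3

/-!
# Normalization of a geometrically unibranch integral scheme is a universal homeomorphism (helper4)
-/

set_option backward.isDefEq.respectTransparency.types false
set_option synthInstance.maxHeartbeats 400000
set_option autoImplicit false
set_option linter.unusedSectionVars false
set_option linter.style.haveILetI false
set_option linter.unusedSimpArgs false
universe u v w
open CategoryTheory CategoryTheory.Limits AlgebraicGeometry TopologicalSpace IsLocalRing Opposite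
open Groth.Agent.Lib.Helper4.GeomBranch1 Groth.Agent.Lib.Helper4.GeomBranch2
open Groth.Agent.Lib.Helper4.BranchCount1
open Groth.Agent.Lib.Helper4.BranchSum1 Groth.Agent.Lib.Helper4.BranchSum2
open Groth.Agent.Lib.Helper4.NormFibre1 Groth.Agent.Lib.Helper4.NormFibre2
open Groth.Agent.Lib.Helper4.NormFibre3

namespace Groth.Agent.Lib.Helper4.UnivHomeoNorm1

/-- An integral, surjective, universally injective morphism is a universal homeomorphism. -/
theorem isUnivHomeo_of_integral {N X : Scheme.{u}} (ν : N ⟶ X) [IsIntegralHom ν]
    [UniversallyInjective ν] [Surjective ν] : FlatMor.IsUnivHomeo ν := by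
  intro X' Y' i₁ i₂ f' hpb
  have h1 : IsIntegralHom f' := MorphismProperty.of_isPullback hpb.flip ‹IsIntegralHom ν›
  have h2 : UniversallyInjective f' :=
    MorphismProperty.of_isPullback hpb.flip ‹UniversallyInjective ν›
  have h3 : Surjective f' := MorphismProperty.of_isPullback hpb.flip ‹Surjective ν›
  change IsHomeomorph f'
  rw [isHomeomorph_iff_continuous_isClosedMap_bijective]
  exact ⟨f'.continuous, f'.isClosedMap, f'.injective, f'.surjective⟩

theorem main (X : Scheme.{u}) [IsIntegral X] [QuasiCompact (X.fromSpecStalk (genericPoint ↥X))]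
    [QuasiSeparated (X.fromSpecStalk (genericPoint ↥X))]
    (hX : ∀ x : X, CAlg2.IsGeomUnibranch (X.presheaf.stalk x)) :
    FlatMor.IsUnivHomeo (Curv2.normalizationι X) := by
  haveI : IsIntegralHom (Curv2.normalizationι X) := by
    change @IsIntegralHom (X.fromSpecStalk (genericPoint X)).normalization X
      (X.fromSpecStalk (genericPoint X)).fromNormalization
    infer_instance
  -- fibres are singletons
  have hfib : ∀ x : X, Nonempty (Unique {x' : ↥(Curv2.normalization X) //
      (Curv2.normalizationι X).base x' = x}) := by
    intro x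
    have h1 := (S7657_main X x).1
    have h2 : Brnch.numBranchesAt X x = 1 := (S9235_main (X.presheaf.stalk x)).mpr (hX x).1
    rw [h2] at h1
    exact ENat.card_eq_one_iff_unique.mp h1.symm
  have hinj : Function.Injective (Curv2.normalizationι X) := by
    intro a b hab
    obtain ⟨u⟩ := hfib ((Curv2.normalizationι X) a)
    have ha := u.uniq ⟨a, rfl⟩
    have hb := u.uniq ⟨b, hab.symm⟩
    exact congrArg Subtype.val (ha.trans hb.symm)
  haveI hsurj : Surjective (Curv2.normalizationι X) := by
    refine ⟨fun x => ?_⟩
    obtain ⟨u⟩ := hfib x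
    exact ⟨u.default.1, u.default.2⟩
  haveI : UniversallyInjective (Curv2.normalizationι X) := by
    apply ((tfae_universallyInjective (Curv2.normalizationι X)).out 0 2).mpr
    refine ⟨hinj, fun x' => ?_⟩
    rw [RingHom.IsPurelyInseparable]
    letI := ((Curv2.normalizationι X).residueFieldMap x').hom.toAlgebra
    haveI := isAlgebraic_residueFieldMap (Curv2.normalizationι X) x'
    rw [isPurelyInseparable_iff_subsingleton_emb]
    obtain ⟨u⟩ := hfib ((Curv2.normalizationι X) x')
    have h1 := (S7657_main X ((Curv2.normalizationι X) x')).2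
    have h2 : Brnch.numGeomBranchesAt X ((Curv2.normalizationι X) x') = 1 :=
      (S9236_main (X.presheaf.stalk _)).mpr (hX _)
    rw [h2] at h1
    letI := u
    rw [tsum_fintype, Fintype.sum_unique] at h1
    have hdef : (default : {y : ↥(Curv2.normalization X) //
      (Curv2.normalizationι X).base y = (Curv2.normalizationι X) x'}) = ⟨x', rfl⟩ :=
      (u.uniq ⟨x', rfl⟩).symm
    rw [hdef] at h1
    exact (ENat.card_le_one_iff_subsingleton _).mp h1.symm.le
  exact isUnivHomeo_of_integral _

end Groth.Agent.Lib.Helper4.UnivHomeoNorm1
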