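import Mathlib
import Groth.Agent.Lib.Helper4.Fitting9

/-!
# Upper semicontinuity of fibre kernel dimension (helper4)
-/

set_option backward.isDefEq.respectTransparency.types false
set_option synthInstance.maxHeartbeats 400000
set_option autoImplicit false
set_option linter.unusedSectionVars false
set_option linter.style.haveILetI false
set_option linter.unusedSimpArgs false
universe u v w

namespace Groth.Agent.Lib.Helper4.FiberKer1
open TensorProduct Groth.Agent.Helper4.Fitting

variable {A : Type u} [CommRing A]

theorem isOpen_finrank_le (M : Type v) [AddCommGroup M] [Module A M] [Module.Finite A M] (k : ℕ) :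
    IsOpen {x : PrimeSpectrum A |
      Module.finrank x.asIdeal.ResidueField (x.asIdeal.ResidueField ⊗[A] M) ≤ k} := by
  have : {x : PrimeSpectrum A |
      Module.finrank x.asIdeal.ResidueField (x.asIdeal.ResidueField ⊗[A] M) ≤ k} =
      (PrimeSpectrum.zeroLocus (Fitt.ideal A M k : Set A))ᶜ := by
    ext x
    simp only [Set.mem_ofPred_eq, Set.mem_compl_iff, PrimeSpectrum.mem_zeroLocus, SetLike.coe_subset_coe]
    exact (not_le_iff_finrank k x.asIdeal).symm
  rw [this]
  exact (PrimeSpectrum.isClosed_zeroLocus _).isOpen_compl

theorem finrank_ker_add (K : Type w) [Field K] [Algebra A K]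
    (M : Type v) (F : Type v) [AddCommGroup M] [Module A M] [Module.Finite A M]
    [AddCommGroup F] [Module A F] [Module.Finite A F] [Module.Free A F] (δ : M →ₗ[A] F) :
    Module.finrank K (LinearMap.ker (δ.baseChange K)) + Module.finrank A F =
      Module.finrank K (K ⊗[A] M) + Module.finrank K (K ⊗[A] (F ⧸ LinearMap.range δ)) := by
  have h1 := LinearMap.finrank_range_add_finrank_ker (δ.baseChange K)
  have h2 := Submodule.finrank_quotient_add_finrank (LinearMap.range (δ.baseChange K))
  haveI : Nontrivial A := (algebraMap A K).domain_nontrivial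
  have h3 : Module.finrank K (K ⊗[A] F) = Module.finrank A F := Module.finrank_baseChange
  -- cokernel
  have hex : Function.Exact δ (LinearMap.range δ).mkQ := δ.exact_map_mkQ_range
  have hex' := lTensor_exact K hex (Submodule.mkQ_surjective _)
  have hs : Function.Surjective (((LinearMap.range δ).mkQ).baseChange K) := by
    rw [LinearMap.baseChange_eq_ltensor]
    exact LinearMap.lTensor_surjective K (Submodule.mkQ_surjective _)
  have hker : LinearMap.ker (((LinearMap.range δ).mkQ).baseChange K) =
      LinearMap.range (δ.baseChange K) := by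
    ext y
    simp only [LinearMap.mem_ker, LinearMap.mem_range]
    have := hex' y
    simp only [← LinearMap.baseChange_eq_ltensor] at this
    rw [this]
    simp [Set.mem_range]
  have e : ((K ⊗[A] F) ⧸ LinearMap.range (δ.baseChange K)) ≃ₗ[K] K ⊗[A] (F ⧸ LinearMap.range δ) :=
    (Submodule.quotEquivOfEq _ _ hker.symm).trans
      (LinearMap.quotKerEquivOfSurjective _ hs)
  have h4 := e.finrank_eq
  omega

theorem main (A : Type u) [CommRing A]
    (M : Type v) (F : Type v) [AddCommGroup M] [Module A M] [Module.Finite A M]
    [AddCommGroup F] [Module A F] [Module.Finite A F] [Module.Free A F] (δ : M →ₗ[A] F) :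
    UpperSemicontinuous (fun x : PrimeSpectrum A =>
      Module.finrank x.asIdeal.ResidueField
        (LinearMap.ker (δ.baseChange x.asIdeal.ResidueField))) := by
  intro x y hy
  have hU : {z : PrimeSpectrum A |
      Module.finrank z.asIdeal.ResidueField (z.asIdeal.ResidueField ⊗[A] M) ≤
      Module.finrank x.asIdeal.ResidueField (x.asIdeal.ResidueField ⊗[A] M)} ∈ nhds x :=
    (isOpen_finrank_le (A := A) M _).mem_nhds (by simp)
  have hV : {z : PrimeSpectrum A |
      Module.finrank z.asIdeal.ResidueField (z.asIdeal.ResidueField ⊗[A] (F ⧸ LinearMap.range δ)) ≤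
      Module.finrank x.asIdeal.ResidueField (x.asIdeal.ResidueField ⊗[A] (F ⧸ LinearMap.range δ))} ∈ nhds x :=
    (isOpen_finrank_le (A := A) (F ⧸ LinearMap.range δ) _).mem_nhds (by simp)
  filter_upwards [hU, hV] with z hz1 hz2

  have e1 := finrank_ker_add x.asIdeal.ResidueField M F δ
  have e2 := finrank_ker_add z.asIdeal.ResidueField M F δ
  beta_reduce at hy ⊢; change _ ≤ _ at hz1 hz2
  omega

end Groth.Agent.Lib.Helper4.FiberKer1
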