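import Mathlib
import Groth.Agent.Lib.Helper4.FiberKer1
import Groth.Agent.Lib.Helper4.Fitting15

/-!
# Locally constant fibre kernel dimension over reduced rings (helper4)
-/

set_option backward.isDefEq.respectTransparency.types false
set_option synthInstance.maxHeartbeats 400000
set_option autoImplicit false
set_option linter.unusedSectionVars false
set_option linter.style.haveILetI false
set_option linter.unusedSimpArgs false
universe u v w

namespace Groth.Agent.Lib.Helper4.FiberKer2
open TensorProduct Groth.Agent.Helper4.Fitting Groth.Agent.Lib.Helper4.FiberKer1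

variable {A : Type u} [CommRing A]

theorem map_atPrime_eq_bot [IsReduced A] (J : Ideal A) (p : Ideal A) [p.IsPrime]
    (h : ∀ q : Ideal A, q.IsPrime → q ≤ p → J ≤ q) :
    J.map (algebraMap A (Localization.AtPrime p)) = ⊥ := by
  rw [eq_bot_iff, Ideal.map_le_iff_le_comap]
  intro a ha
  rw [Ideal.mem_comap, Ideal.mem_bot]
  have hnil : IsNilpotent (algebraMap A (Localization.AtPrime p) a) := by
    rw [← mem_nilradical, nilradical_eq_sInf, Ideal.mem_sInf]
    intro P hP
    have hP' : P.IsPrime := hP
    have hq : (P.comap (algebraMap A (Localization.AtPrime p))).IsPrime := Ideal.comap_isPrime _ _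
    have hle : P.comap (algebraMap A (Localization.AtPrime p)) ≤ p := by
      intro x hx
      by_contra hxp
      have hu : IsUnit (algebraMap A (Localization.AtPrime p) x) :=
        IsLocalization.map_units (Localization.AtPrime p) (⟨x, hxp⟩ : p.primeCompl)
      exact hP'.ne_top (Ideal.eq_top_of_isUnit_mem _ hx hu)
    exact h _ hq hle ha
  exact hnil.eq_zero

theorem free_atPrime_of_const_rank [IsReduced A] (M : Type v) [AddCommGroup M] [Module A M]
    [Module.Finite A M] (p : Ideal A) [p.IsPrime] (r : ℕ)
    (hr : ∀ (q : Ideal A) [q.IsPrime], q ≤ p →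
      Module.finrank q.ResidueField (q.ResidueField ⊗[A] M) = r) :
    Module.Free (Localization.AtPrime p) (LocalizedModule p.primeCompl M) := by
  have hnle : ¬ Fitt.ideal A M r ≤ p := by
    rw [not_le_iff_finrank, hr p le_rfl]
  obtain ⟨n, x, hx⟩ := Module.Finite.exists_fin (R := A) (M := M)
  obtain ⟨f, hf, -, y, hy⟩ := exists_smul_mem_span_of_not_le x hx r p hnle
  refine (free_localizedModule p.primeCompl r f hf y hy ?_).1
  intro j hj
  apply map_atPrime_eq_bot
  intro q hq hqp
  by_contra hle
  haveI := hq
  rw [not_le_iff_finrank, hr q hqp] at hle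
  omega

theorem projective_of_locallyConstant_rank [IsReduced A] [IsNoetherianRing A]
    (M : Type v) [AddCommGroup M] [Module A M] [Module.Finite A M]
    (h : ∀ x : PrimeSpectrum A, ∃ U : Set (PrimeSpectrum A), IsOpen U ∧ x ∈ U ∧ ∀ z ∈ U,
      Module.finrank z.asIdeal.ResidueField (z.asIdeal.ResidueField ⊗[A] M) =
      Module.finrank x.asIdeal.ResidueField (x.asIdeal.ResidueField ⊗[A] M)) :
    Module.Projective A M := by
  haveI : Module.FinitePresentation A M := Module.finitePresentation_of_finite A M
  apply Module.projective_of_localization_maximal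
  intro m hm
  haveI : m.IsPrime := hm.isPrime
  obtain ⟨U, hU, hxU, hconst⟩ := h ⟨m, hm.isPrime⟩
  haveI := free_atPrime_of_const_rank M m _ (fun q hq hqm => by
    have hspec : (⟨q, hq⟩ : PrimeSpectrum A) ⤳ ⟨m, hm.isPrime⟩ := by
      rw [← PrimeSpectrum.le_iff_specializes]
      exact hqm
    exact hconst ⟨q, hq⟩ (hspec.mem_open hU hxU))
  infer_instance

theorem main (A : Type u) [CommRing A]
    [IsNoetherianRing A] [IsReduced A] (M : Type v) (F : Type v) [AddCommGroup M] [Module A M]
    [Module.Finite A M] [AddCommGroup F] [Module A F] [Module.Finite A F] [Module.Free A F]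
    (δ : M →ₗ[A] F)
    (h : IsLocallyConstant (fun x : PrimeSpectrum A =>
      Module.finrank x.asIdeal.ResidueField
        (LinearMap.ker (δ.baseChange x.asIdeal.ResidueField)))) :
    Module.Projective A M ∧ Module.Projective A (LinearMap.ker δ) ∧
      Module.Projective A (F ⧸ LinearMap.range δ) ∧
      ∀ (N : Type v) [AddCommGroup N] [Module A N],
        Function.Injective (LinearMap.rTensor N (LinearMap.ker δ).subtype) ∧
        Function.Exact (LinearMap.rTensor N (LinearMap.ker δ).subtype) (LinearMap.rTensor N δ) := by
  -- local constancy of the two fibre ranks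
  have key : ∀ x : PrimeSpectrum A, ∃ U : Set (PrimeSpectrum A), IsOpen U ∧ x ∈ U ∧ ∀ z ∈ U,
      Module.finrank z.asIdeal.ResidueField (z.asIdeal.ResidueField ⊗[A] M) =
        Module.finrank x.asIdeal.ResidueField (x.asIdeal.ResidueField ⊗[A] M) ∧
      Module.finrank z.asIdeal.ResidueField (z.asIdeal.ResidueField ⊗[A] (F ⧸ LinearMap.range δ)) =
        Module.finrank x.asIdeal.ResidueField
          (x.asIdeal.ResidueField ⊗[A] (F ⧸ LinearMap.range δ)) := by
    intro x
    refine ⟨_, ((h.isOpen_fiber (Module.finrank x.asIdeal.ResidueField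
        (LinearMap.ker (δ.baseChange x.asIdeal.ResidueField)))).inter
      (isOpen_finrank_le (A := A) M
        (Module.finrank x.asIdeal.ResidueField (x.asIdeal.ResidueField ⊗[A] M)))).inter
      (isOpen_finrank_le (A := A) (F ⧸ LinearMap.range δ)
        (Module.finrank x.asIdeal.ResidueField
          (x.asIdeal.ResidueField ⊗[A] (F ⧸ LinearMap.range δ)))), ?_, ?_⟩
    · refine ⟨⟨rfl, ?_⟩, ?_⟩ <;> simp
    · rintro z ⟨⟨hz0, hz1⟩, hz2⟩
      change _ = _ at hz0
      rw [Set.mem_ofPred_eq] at hz1 hz2
      have e1 := finrank_ker_add x.asIdeal.ResidueField M F δ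
      have e2 := finrank_ker_add z.asIdeal.ResidueField M F δ
      omega
  have hM : Module.Projective A M := projective_of_locallyConstant_rank M (fun x => by
    obtain ⟨U, hU, hx, hc⟩ := key x
    exact ⟨U, hU, hx, fun z hz => (hc z hz).1⟩)
  have hC : Module.Projective A (F ⧸ LinearMap.range δ) :=
    projective_of_locallyConstant_rank _ (fun x => by
      obtain ⟨U, hU, hx, hc⟩ := key x
      exact ⟨U, hU, hx, fun z hz => (hc z hz).2⟩)
  -- splittings
  obtain ⟨t, ht⟩ := Module.projective_lifting_property (LinearMap.range δ).mkQ LinearMap.id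
    (Submodule.mkQ_surjective _)
  have htx : ∀ c, (LinearMap.range δ).mkQ (t c) = c := fun c => LinearMap.congr_fun ht c
  let σ : F →ₗ[A] LinearMap.range δ :=
    (LinearMap.id - t ∘ₗ (LinearMap.range δ).mkQ).codRestrict (LinearMap.range δ) (fun x => by
      rw [← Submodule.Quotient.mk_eq_zero, ← Submodule.mkQ_apply]
      simp only [LinearMap.sub_apply, LinearMap.id_apply, LinearMap.comp_apply, map_sub, htx,
        sub_self])
  have hσ : ∀ y : LinearMap.range δ, σ y.1 = y := by
    intro y
    apply Subtype.ext
    have : (LinearMap.range δ).mkQ y.1 = 0 := by simp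
    simp [σ, this]
  haveI hI : Module.Projective A (LinearMap.range δ) :=
    Module.Projective.of_split (LinearMap.range δ).subtype σ (LinearMap.ext hσ)
  obtain ⟨s, hs⟩ := Module.projective_lifting_property δ.rangeRestrict LinearMap.id
    δ.surjective_rangeRestrict
  have hsx : ∀ y, δ.rangeRestrict (s y) = y := fun y => LinearMap.congr_fun hs y
  let ρ : M →ₗ[A] LinearMap.ker δ :=
    (LinearMap.id - s ∘ₗ δ.rangeRestrict).codRestrict (LinearMap.ker δ) (fun m => by
      rw [LinearMap.mem_ker]
      have := congrArg Subtype.val (hsx (δ.rangeRestrict m))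
      simp only [LinearMap.codRestrict_apply] at this
      simp only [LinearMap.sub_apply, LinearMap.id_apply, LinearMap.comp_apply, map_sub, this,
        LinearMap.codRestrict_apply, sub_self])
  have hρ : ∀ y : LinearMap.ker δ, ρ y.1 = y := by
    intro y
    apply Subtype.ext
    have : δ.rangeRestrict y.1 = 0 := by
      apply Subtype.ext
      simp
    simp [ρ, this]
  have hK : Module.Projective A (LinearMap.ker δ) :=
    Module.Projective.of_split (LinearMap.ker δ).subtype ρ (LinearMap.ext hρ)
  refine ⟨hM, hK, hC, ?_⟩
  intro N _ _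
  constructor
  · apply Function.LeftInverse.injective (g := LinearMap.rTensor N ρ)
    intro y
    rw [← LinearMap.comp_apply, ← LinearMap.rTensor_comp]
    have : ρ ∘ₗ (LinearMap.ker δ).subtype = LinearMap.id := LinearMap.ext hρ
    rw [this, LinearMap.rTensor_id, LinearMap.id_apply]
  · have hex : Function.Exact (LinearMap.ker δ).subtype δ.rangeRestrict := by
      intro m
      constructor
      · intro hm
        exact ⟨⟨m, by
          rw [LinearMap.mem_ker]
          simpa using congrArg Subtype.val hm⟩, rfl⟩
      · rintro ⟨y, rfl⟩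
        apply Subtype.ext
        simp
    have hex' := rTensor_exact N hex δ.surjective_rangeRestrict
    have hδ : δ = (LinearMap.range δ).subtype ∘ₗ δ.rangeRestrict := by
      ext m; simp
    have hinj : Function.Injective (LinearMap.rTensor N (LinearMap.range δ).subtype) := by
      apply Function.LeftInverse.injective (g := LinearMap.rTensor N σ)
      intro y
      rw [← LinearMap.comp_apply, ← LinearMap.rTensor_comp]
      have : σ ∘ₗ (LinearMap.range δ).subtype = LinearMap.id := LinearMap.ext hσ
      rw [this, LinearMap.rTensor_id, LinearMap.id_apply]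
    intro y
    rw [← hex' y]
    conv_lhs => rw [hδ, LinearMap.rTensor_comp, LinearMap.comp_apply]
    constructor
    · intro h0
      apply hinj
      rw [h0, map_zero]
    · intro h0
      rw [h0, map_zero]

end Groth.Agent.Lib.Helper4.FiberKer2
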