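import Mathlib
import Groth.Agent.Lib.Helper4.FiberKer2
import Groth.Agent.Lib.Helper4.DomDVR

/-!
# Flatness over reduced Noetherian rings can be tested on discrete valuation rings (helper4)
-/

set_option backward.isDefEq.respectTransparency.types false
set_option synthInstance.maxHeartbeats 400000
set_option autoImplicit false
set_option linter.unusedSectionVars false
set_option linter.style.haveILetI false
set_option linter.unusedSimpArgs false
universe u v w
open TensorProduct Groth.Agent.Helper4.Fitting

namespace Groth.Agent.Lib.Helper4.FlatDVR1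

/-- Fibre ranks are invariant under base change. -/
theorem finrank_fiber_baseChange {A : Type u} [CommRing A] {B : Type u} [CommRing B] [Algebra A B]
    (M : Type u) [AddCommGroup M] [Module A M] [Module.Finite A M] (P : Ideal B) [P.IsPrime]
    (p : Ideal A) [p.IsPrime] (hp : P.comap (algebraMap A B) = p) :
    Module.finrank P.ResidueField (P.ResidueField ⊗[B] (B ⊗[A] M)) =
      Module.finrank p.ResidueField (p.ResidueField ⊗[A] M) := by
  have key : ∀ k : ℕ, Module.finrank P.ResidueField (P.ResidueField ⊗[B] (B ⊗[A] M)) ≤ k ↔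
      Module.finrank p.ResidueField (p.ResidueField ⊗[A] M) ≤ k := by
    intro k
    rw [← not_le_iff_finrank, ← not_le_iff_finrank, ideal_baseChange, Ideal.map_le_iff_le_comap, hp]
  exact le_antisymm ((key _).mpr le_rfl) ((key _).mp le_rfl)



/-- A Noetherian local domain which is not a field is dominated by a discrete valuation ring. -/
theorem exists_dvr_dominating (R : Type u) [CommRing R] [IsDomain R] [IsNoetherianRing R]
    [IsLocalRing R] (hR : ¬ IsField R) :
    ∃ (W : Type u) (_ : CommRing W) (_ : IsDomain W) (_ : IsDiscreteValuationRing W)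
      (φ : R →+* W), Function.Injective φ ∧
        (IsLocalRing.maximalIdeal W).comap φ = IsLocalRing.maximalIdeal R := by
  classical
  have hinjRK : Function.Injective (algebraMap R (FractionRing R)) := IsFractionRing.injective _ _
  obtain ⟨W, hWdvr, hW1, hW2⟩ :=
    Groth.Agent.Lib.Helper4.DomDVR.exists_dvr_finite R (FractionRing R) hR (FractionRing R)
  let φ : R →+* W := (algebraMap R (FractionRing R)).codRestrict W.toSubring (fun a => hW1 _)
  refine ⟨W, inferInstance, inferInstance, hWdvr, φ, ?_, ?_⟩
  · intro a b hab
    have h1 : algebraMap R (FractionRing R) a = algebraMap R (FractionRing R) b :=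
      congrArg Subtype.val hab
    exact hinjRK h1
  · ext a
    rw [Ideal.mem_comap]
    constructor
    · intro ha
      by_contra hap
      have h2 : IsUnit a := by
        by_contra hnu
        exact hap ((IsLocalRing.mem_maximalIdeal a).mpr hnu)
      exact (IsLocalRing.mem_maximalIdeal _).mp ha (h2.map φ)
    · intro ha
      have h3 := hW2 _ ha
      exact (ValuationSubring.valuation_lt_one_iff W (φ a)).mpr h3

/-- A nonzero prime of a Noetherian domain is the centre of a discrete valuation ring. -/
theorem exists_dvr_centered (D : Type u) [CommRing D] [IsDomain D] [IsNoetherianRing D]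
    (P : Ideal D) [P.IsPrime] (hP : P ≠ ⊥) :
    ∃ (W : Type u) (_ : CommRing W) (_ : IsDomain W) (_ : IsDiscreteValuationRing W)
      (φ : D →+* W), Function.Injective φ ∧ (IsLocalRing.maximalIdeal W).comap φ = P := by
  classical
  have hinjDR : Function.Injective (algebraMap D (Localization.AtPrime P)) :=
    IsLocalization.injective (Localization.AtPrime P) (Ideal.primeCompl_le_nonZeroDivisors P)
  have hR : ¬ IsField (Localization.AtPrime P) := by
    intro hF
    have h1 : IsLocalRing.maximalIdeal (Localization.AtPrime P) = ⊥ :=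
      IsLocalRing.isField_iff_maximalIdeal_eq.mp hF
    apply hP
    rw [eq_bot_iff]
    intro a ha
    have h2 : algebraMap D (Localization.AtPrime P) a ∈
        IsLocalRing.maximalIdeal (Localization.AtPrime P) := by
      rw [IsLocalization.AtPrime.to_map_mem_maximal_iff (Localization.AtPrime P) P]
      exact ha
    rw [h1, Ideal.mem_bot] at h2
    have h3 : a = 0 := hinjDR (by rw [h2, map_zero])
    rw [h3]; exact Ideal.zero_mem _
  obtain ⟨W, i1, i2, i3, φ, hφ1, hφ2⟩ := exists_dvr_dominating (Localization.AtPrime P) hR
  refine ⟨W, i1, i2, i3, φ.comp (algebraMap D (Localization.AtPrime P)), hφ1.comp hinjDR, ?_⟩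
  rw [← Ideal.comap_comap, hφ2]
  exact IsLocalization.AtPrime.under_maximalIdeal (Localization.AtPrime P) P

/-- For primes `q < p` of a Noetherian ring there is a discrete valuation ring `W` with a ring
map from `A` whose kernel is `q` and under which the maximal ideal pulls back to `p`. -/
theorem exists_dvr_between {A : Type u} [CommRing A] [IsNoetherianRing A]
    (q p : Ideal A) [q.IsPrime] [p.IsPrime] (hqp : q ≤ p) (hne : q ≠ p) :
    ∃ (W : Type u) (_ : CommRing W) (_ : IsDomain W) (_ : IsDiscreteValuationRing W)
      (φ : A →+* W), (⊥ : Ideal W).comap φ = q ∧ (IsLocalRing.maximalIdeal W).comap φ = p := by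
  classical
  have hmk : Function.Surjective (Ideal.Quotient.mk q) := Ideal.Quotient.mk_surjective
  have hker : RingHom.ker (Ideal.Quotient.mk q) = q := Ideal.mk_ker
  haveI hP : (p.map (Ideal.Quotient.mk q)).IsPrime :=
    Ideal.map_isPrime_of_surjective hmk (by rw [hker]; exact hqp)
  have hcomapP : (p.map (Ideal.Quotient.mk q)).comap (Ideal.Quotient.mk q) = p := by
    rw [Ideal.comap_map_of_surjective _ hmk, ← RingHom.ker_eq_comap_bot, hker]
    exact sup_eq_left.mpr hqp
  have hPne : p.map (Ideal.Quotient.mk q) ≠ ⊥ := by
    intro h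
    apply hne
    refine le_antisymm hqp ?_
    rw [← hcomapP, h, ← RingHom.ker_eq_comap_bot, hker]
  obtain ⟨W, i1, i2, i3, φ, hφ1, hφ2⟩ := exists_dvr_centered (A ⧸ q) (p.map (Ideal.Quotient.mk q)) hPne
  refine ⟨W, i1, i2, i3, φ.comp (Ideal.Quotient.mk q), ?_, ?_⟩
  · rw [← Ideal.comap_comap, ← RingHom.ker_eq_comap_bot φ,
      (RingHom.injective_iff_ker_eq_bot φ).mp hφ1, ← RingHom.ker_eq_comap_bot, hker]
  · rw [← Ideal.comap_comap, hφ2, hcomapP]



theorem finrank_fiber_eq_of_le {A : Type u} [CommRing A] [IsNoetherianRing A]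
    (M : Type u) [AddCommGroup M] [Module A M] [Module.Finite A M]
    (h : ∀ (B : Type u) [CommRing B] [IsDomain B] [IsDiscreteValuationRing B] [Algebra A B],
      Module.Flat B (TensorProduct A B M))
    (q p : Ideal A) [q.IsPrime] [p.IsPrime] (hqp : q ≤ p) :
    Module.finrank q.ResidueField (q.ResidueField ⊗[A] M) =
      Module.finrank p.ResidueField (p.ResidueField ⊗[A] M) := by
  by_cases hne : q = p
  · subst hne; rfl
  obtain ⟨W, i1, i2, i3, φ, hφ1, hφ2⟩ := exists_dvr_between q p hqp hne
  letI := φ.toAlgebra
  haveI : Module.Flat W (W ⊗[A] M) := h W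
  have e1 := finrank_fiber_baseChange (B := W) M (⊥ : Ideal W) q hφ1
  have e2 := finrank_fiber_baseChange (B := W) M (IsLocalRing.maximalIdeal W) p hφ2
  have e3 := Ideal.finrank_fiber_eq_finrank (R := W) (M := W ⊗[A] M) (⊥ : Ideal W)
  have e4 := Ideal.finrank_fiber_eq_finrank (R := W) (M := W ⊗[A] M) (IsLocalRing.maximalIdeal W)
  rw [← e1, ← e2]
  exact e3.trans e4.symm

theorem S2362_main {A : Type u} [CommRing A] [IsNoetherianRing A] [IsReduced A]
    (M : Type u) [AddCommGroup M] [Module A M] [Module.Finite A M]
    (h : ∀ (B : Type u) [CommRing B] [IsDomain B] [IsDiscreteValuationRing B] [Algebra A B],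
      Module.Flat B (TensorProduct A B M)) :
    Module.Flat A M := by
  apply Module.flat_of_localized_maximal
  intro m hm
  haveI : m.IsPrime := hm.isPrime
  haveI := Groth.Agent.Lib.Helper4.FiberKer2.free_atPrime_of_const_rank M m _
    (fun q hq hqm => finrank_fiber_eq_of_le M h q m hqm)
  exact Module.Flat.trans A (Localization.AtPrime m) _


end Groth.Agent.Lib.Helper4.FlatDVR1
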