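import Mathlib

set_option linter.unusedSectionVars false
set_option linter.style.haveILetI false

namespace Groth.Agent.Helper4.TF

open TensorProduct

universe u v

/-- A finite module over a domain contains a finite free submodule with torsion-bounded quotient:
there are a linearly independent family `y` and `c ≠ 0` with `c • M ⊆ span y`. -/
theorem exists_free_sub (R : Type u) [CommRing R] [IsDomain R] (M : Type v) [AddCommGroup M]
    [Module R M] [Module.Finite R M] :
    ∃ (ι : Type) (_ : Fintype ι) (y : ι → M), LinearIndependent R y ∧
      ∃ c : R, c ≠ 0 ∧ ∀ m : M, c • m ∈ Submodule.span R (Set.range y) := by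
  classical
  obtain ⟨n, x, hx⟩ := Module.Finite.exists_fin (R := R) (M := M)
  set S := nonZeroDivisors R with hS
  let K := Localization S
  let V := LocalizedModule S M
  let ℓ : M →ₗ[R] V := LocalizedModule.mkLinearMap S M
  let v : Fin n → V := fun j => ℓ (x j)
  obtain ⟨b, -, -, hspan, hli⟩ := exists_linearIndepOn_extension (K := K) (v := v)
    (s := ∅) (t := Set.univ) (linearIndepOn_empty K v) (Set.empty_subset _)
  haveI : Fintype b := Fintype.ofFinite b
  refine ⟨b, inferInstance, fun i => x i, ?_, ?_⟩
  · rw [Fintype.linearIndependent_iff]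
    intro g hg i
    have h1 : ∑ i : b, (algebraMap R K (g i)) • v i = 0 := by
      have := congrArg ℓ hg
      rw [map_sum, map_zero] at this
      rw [← this]
      apply Finset.sum_congr rfl
      intro i _
      rw [map_smul, algebraMap_smul]
    have h2 := (Fintype.linearIndependent_iff.1 hli) (fun i => algebraMap R K (g i)) h1 i
    exact (IsFractionRing.injective R K) (by rw [h2, map_zero])
  · have hvj : ∀ j : Fin n, ∃ q : b → K, ∑ i, q i • v i = v j := by
      intro j
      have : v j ∈ Submodule.span K (v '' b) := hspan ⟨j, Set.mem_univ j, rfl⟩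
      have himg : v '' b = Set.range (fun i : b => v i) := by
        ext w; constructor
        · rintro ⟨i, hi, rfl⟩; exact ⟨⟨i, hi⟩, rfl⟩
        · rintro ⟨⟨i, hi⟩, rfl⟩; exact ⟨i, hi, rfl⟩
      rw [himg] at this
      exact (Submodule.mem_span_range_iff_exists_fun K).1 this
    choose q hq using hvj
    have hint : ∀ j : Fin n, ∃ s : S, ∀ i : b, IsLocalization.IsInteger R ((s : R) • q j i) := by
      intro j
      obtain ⟨s, hs⟩ := IsLocalization.exist_integer_multiples S (Finset.univ : Finset b) (q j)
      exact ⟨s, fun i => hs i (Finset.mem_univ i)⟩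
    choose s hs using hint
    choose a ha using hs
    have hker : ∀ j : Fin n, ∃ t : S, t • ((s j : R) • x j - ∑ i : b, a j i • x i) = 0 := by
      intro j
      rw [← IsLocalizedModule.eq_zero_iff S ℓ]
      rw [map_sub, map_smul, map_sum]
      have h1 : (s j : R) • ℓ (x j) = ∑ i : b, ((s j : R) • q j i) • v i := by
        change (s j : R) • v j = _
        rw [← hq j, Finset.smul_sum]
        apply Finset.sum_congr rfl
        intro i _
        rw [smul_assoc]
      rw [h1, ← Finset.sum_sub_distrib]
      apply Finset.sum_eq_zero
      intro i _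
      rw [map_smul, ← ha j i, algebraMap_smul, sub_self]
    choose t ht using hker
    let cj : Fin n → R := fun j => (t j : R) * (s j : R)
    have hcj : ∀ j, cj j • x j ∈ Submodule.span R (Set.range fun i : b => x i) := by
      intro j
      have h1 := ht j
      rw [smul_sub, sub_eq_zero, Submonoid.smul_def, Submonoid.smul_def] at h1
      change ((t j : R) * (s j : R)) • x j ∈ _
      rw [mul_smul, h1]
      apply Submodule.smul_mem
      apply Submodule.sum_mem
      intro i _
      apply Submodule.smul_mem
      exact Submodule.subset_span ⟨i, rfl⟩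
    refine ⟨∏ j, cj j, ?_, ?_⟩
    · rw [Finset.prod_ne_zero_iff]
      intro j _
      exact mul_ne_zero (nonZeroDivisors.coe_ne_zero (t j)) (nonZeroDivisors.coe_ne_zero (s j))
    · intro m
      have hm : m ∈ Submodule.span R (Set.range x) := by rw [hx]; trivial
      refine Submodule.span_induction ?_ ?_ ?_ ?_ hm
      · rintro _ ⟨j, rfl⟩
        obtain ⟨d, hd⟩ := Finset.dvd_prod_of_mem cj (Finset.mem_univ j)
        rw [hd, mul_comm, mul_smul]
        exact Submodule.smul_mem _ _ (hcj j)
      · rw [smul_zero]; exact Submodule.zero_mem _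
      · intro m₁ m₂ _ _ h₁ h₂
        rw [smul_add]; exact Submodule.add_mem _ h₁ h₂
      · intro r m₁ _ h₁
        rw [smul_comm]; exact Submodule.smul_mem _ _ h₁

end Groth.Agent.Helper4.TF
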