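import Mathlib
import Groth.Agent.Lib.Helper4.TF1

set_option linter.unusedSectionVars false
set_option linter.style.haveILetI false

namespace Groth.Agent.Helper4.TF

open TensorProduct

universe u v

variable (R : Type u) [CommRing R] [IsDomain R] (M : Type v) [AddCommGroup M] [Module R M]

/-- coordinates: a linear map `Φ : M → R^ι`, a family `y` and `c ≠ 0` with
`∑ Φ(m)_i y_i = c m` and `Φ(y_i) = c e_i`. -/
theorem exists_coords [Module.Finite R M] :
    ∃ (ι : Type) (_ : Fintype ι) (_ : DecidableEq ι) (y : ι → M) (Φ : M →ₗ[R] (ι → R)) (c : R),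
      c ≠ 0 ∧ (∀ m, ∑ i, Φ m i • y i = c • m) ∧ (∀ i, Φ (y i) = Pi.single i c) := by
  classical
  obtain ⟨ι, hι, y, hli, c, hc, hcm⟩ := exists_free_sub R M
  let F := Submodule.span R (Set.range y)
  let B : Module.Basis ι R F := Module.Basis.span hli
  let mulc : M →ₗ[R] F := LinearMap.codRestrict F (c • LinearMap.id) (fun m => hcm m)
  let Φ : M →ₗ[R] (ι → R) := B.equivFun.toLinearMap ∘ₗ mulc
  have hB : ∀ i, (B i : M) = y i := fun i => by
    rw [Module.Basis.span_apply hli i]
  have hΦ : ∀ m, ∑ i, Φ m i • y i = c • m := by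
    intro m
    have h1 := B.sum_equivFun (mulc m)
    have h2 := congrArg (Submodule.subtype F) h1
    rw [map_sum] at h2
    simp only [map_smul, Submodule.subtype_apply, hB] at h2
    exact h2
  refine ⟨ι, hι, inferInstance, y, Φ, c, hc, hΦ, ?_⟩
  intro i
  have h1 : mulc (y i) = c • B i := by
    apply Subtype.ext
    simp [mulc, hB]
  change B.equivFun (mulc (y i)) = _
  rw [h1, map_smul]
  ext k
  rw [Pi.smul_apply, Module.Basis.equivFun_self, Pi.single_apply]
  by_cases h : i = k
  · subst h; simp
  · have h' : ¬ k = i := fun h'' => h h''.symm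
    simp [h, h']

variable {R M}

theorem smul_eq_zero_of_torsionFree [Module.IsTorsionFree R M] {c : R} (hc : c ≠ 0) {m : M}
    (h : c • m = 0) : m = 0 := by
  have hreg : IsSMulRegular M c :=
    Module.IsTorsionFree.isSMulRegular (IsRegular.of_ne_zero hc)
  exact hreg (by simp only [h, smul_zero])

variable (R M)

theorem isTorsionFree_iff_exists_injective [Module.Finite R M] :
    Module.IsTorsionFree R M ↔ ∃ (n : ℕ) (f : M →ₗ[R] (Fin n → R)), Function.Injective f := by
  constructor
  · intro h
    obtain ⟨ι, _, _, y, Φ, c, hc, h1, -⟩ := exists_coords R M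
    let e := Fintype.equivFin ι
    refine ⟨Fintype.card ι, (LinearEquiv.funCongrLeft R R e.symm).toLinearMap ∘ₗ Φ, ?_⟩
    rw [LinearMap.coe_comp, LinearEquiv.coe_coe]
    apply (LinearEquiv.injective _).comp
    rw [injective_iff_map_eq_zero]
    intro m hm
    have := h1 m
    rw [hm] at this
    simp only [Pi.zero_apply, zero_smul, Finset.sum_const_zero] at this
    exact smul_eq_zero_of_torsionFree hc this.symm
  · rintro ⟨n, f, hf⟩
    exact Function.Injective.moduleIsTorsionFree f hf (fun r m => map_smul f r m)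

instance dual_isTorsionFree (N : Type v) [AddCommGroup N] [Module R N] :
    Module.IsTorsionFree R (Module.Dual R N) where
  isSMulRegular r hr := by
    intro φ ψ h
    ext x
    have := LinearMap.congr_fun h x
    simp only [LinearMap.smul_apply, smul_eq_mul] at this
    exact hr.1 this

theorem eval_injective_iff [Module.Finite R M] :
    Function.Injective (Module.Dual.eval R M) ↔ Module.IsTorsionFree R M := by
  constructor
  · intro h
    exact Function.Injective.moduleIsTorsionFree _ h (fun r m => map_smul _ r m)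
  · intro h
    obtain ⟨ι, _, _, y, Φ, c, hc, h1, -⟩ := exists_coords R M
    rw [injective_iff_map_eq_zero]
    intro x hx
    have h2 : ∀ i, Φ x i = 0 := by
      intro i
      have := LinearMap.congr_fun hx ((LinearMap.proj i : (ι → R) →ₗ[R] R) ∘ₗ Φ)
      simpa using this
    have := h1 x
    simp only [h2, zero_smul, Finset.sum_const_zero] at this
    exact smul_eq_zero_of_torsionFree hc this.symm

theorem exists_smul_ker_coker_eval [Module.Finite R M] :
    ∃ c : R, c ≠ 0 ∧ (∀ x : M, Module.Dual.eval R M x = 0 → c • x = 0) ∧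
      ∀ η : Module.Dual R (Module.Dual R M), c • η ∈ LinearMap.range (Module.Dual.eval R M) := by
  obtain ⟨ι, _, _, y, Φ, c, hc, h1, -⟩ := exists_coords R M
  refine ⟨c, hc, ?_, ?_⟩
  · intro x hx
    have h2 : ∀ i, Φ x i = 0 := by
      intro i
      have := LinearMap.congr_fun hx ((LinearMap.proj i : (ι → R) →ₗ[R] R) ∘ₗ Φ)
      simpa using this
    have := h1 x
    simp only [h2, zero_smul, Finset.sum_const_zero] at this
    exact this.symm
  · intro η
    let φ : ι → Module.Dual R M := fun i => (LinearMap.proj i : (ι → R) →ₗ[R] R) ∘ₗ Φ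
    refine ⟨∑ i, η (φ i) • y i, ?_⟩
    ext ψ
    rw [Module.Dual.eval_apply, map_sum, LinearMap.smul_apply]
    -- `c • ψ = ∑ ψ (y i) • φ i`
    have hψ : c • ψ = ∑ i, ψ (y i) • φ i := by
      ext m
      rw [LinearMap.smul_apply, smul_eq_mul, LinearMap.sum_apply]
      have := congrArg ψ (h1 m)
      rw [map_sum, map_smul, smul_eq_mul] at this
      rw [← this]
      apply Finset.sum_congr rfl
      intro i _
      simp [φ, mul_comm]
    have h3 : c • η ψ = η (c • ψ) := by rw [map_smul]
    rw [h3, hψ, map_sum]
    apply Finset.sum_congr rfl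
    intro i _
    rw [map_smul, map_smul, smul_eq_mul, smul_eq_mul, mul_comm]

end Groth.Agent.Helper4.TF
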