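import Mathlib
import Groth.Agent.Lib.Helper4.TF2

set_option linter.unusedSectionVars false
set_option linter.style.haveILetI false

namespace Groth.Agent.Helper4.TF

open TensorProduct

universe u v w w'

variable {R : Type u} [CommRing R] [IsDomain R]

/-- retraction up to a scalar of an injective map into a finite module over a domain -/
theorem exists_retraction_smul {M : Type v} {M' : Type w} [AddCommGroup M] [Module R M] [AddCommGroup M']
    [Module R M'] [Module.Finite R M'] (f : M →ₗ[R] M') (hf : Function.Injective f) :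
    ∃ (r : R) (ρ : M' →ₗ[R] M), r ≠ 0 ∧ ∀ m, ρ (f m) = r • m := by
  classical
  set Q := M' ⧸ LinearMap.range f with hQ
  obtain ⟨κ, _, _, yQ, Φ, c, hc, h1, -⟩ := exists_coords R Q
  choose z hz using fun k => Submodule.Quotient.mk_surjective (LinearMap.range f) (yQ k)
  -- the map `m' ↦ c m' - ∑ Φ(m̄')_k z_k` lands in the range of `f`
  let σ : M' →ₗ[R] M' := c • LinearMap.id -
    (Fintype.linearCombination R z) ∘ₗ Φ ∘ₗ (LinearMap.range f).mkQ
  have hσ : ∀ m', σ m' ∈ LinearMap.range f := by
    intro m'
    rw [← Submodule.Quotient.mk_eq_zero]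
    simp only [σ, LinearMap.sub_apply, LinearMap.smul_apply, LinearMap.id_coe, id_eq,
      LinearMap.coe_comp, Function.comp_apply, Submodule.mkQ_apply,
      Fintype.linearCombination_apply, Submodule.Quotient.mk_sub, Submodule.Quotient.mk_smul]
    have h4 : (Submodule.Quotient.mk (∑ i, Φ ((LinearMap.range f).mkQ m') i • z i) :
        M' ⧸ LinearMap.range f) = ∑ i, Φ ((LinearMap.range f).mkQ m') i • yQ i := by
      rw [← Submodule.mkQ_apply, map_sum]
      simp only [map_smul, Submodule.mkQ_apply, hz]
    rw [h4, h1, Submodule.mkQ_apply, sub_self]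
  let e := LinearEquiv.ofInjective f hf
  let ρ : M' →ₗ[R] M := e.symm.toLinearMap ∘ₗ (LinearMap.codRestrict (LinearMap.range f) σ hσ)
  refine ⟨c, ρ, hc, fun m => ?_⟩
  apply hf
  have h2 : f (ρ (f m)) = σ (f m) := by
    change ((e (e.symm ⟨σ (f m), hσ (f m)⟩) : LinearMap.range f) : M') = σ (f m)
    rw [LinearEquiv.apply_symm_apply]
  rw [h2, map_smul]
  have h3 : (LinearMap.range f).mkQ (f m) = 0 := by
    rw [Submodule.mkQ_apply, Submodule.Quotient.mk_eq_zero]
    exact ⟨m, rfl⟩
  simp only [σ, LinearMap.sub_apply, LinearMap.smul_apply, LinearMap.id_coe, id_eq,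
    LinearMap.coe_comp, Function.comp_apply, h3, map_zero, sub_zero]

/-- S6872 -/
theorem isReflexive_of_exact {M : Type v} {M' : Type w} {M'' : Type w'} [AddCommGroup M] [Module R M]
    [AddCommGroup M'] [Module R M'] [Module.Finite R M'] [AddCommGroup M''] [Module R M'']
    [Module.Finite R M'']
    (f : M →ₗ[R] M') (g : M' →ₗ[R] M'') (hf : Function.Injective f) (hfg : Function.Exact f g)
    [Module.IsReflexive R M'] [Module.IsTorsionFree R M''] : Module.IsReflexive R M := by
  constructor
  have hgf : ∀ m, g (f m) = 0 := fun m => (hfg (f m)).2 ⟨m, rfl⟩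
  obtain ⟨r, ρ, hr, hρ⟩ := exists_retraction_smul f hf
  constructor
  · rw [injective_iff_map_eq_zero]
    intro m hm
    apply hf
    rw [map_zero]
    apply (Module.bijective_dual_eval R M').1
    rw [map_zero]
    ext φ'
    have := LinearMap.congr_fun hm (φ' ∘ₗ f)
    simpa using this
  · intro η
    let η' : Module.Dual R (Module.Dual R M') := η ∘ₗ (Module.Dual.transpose (R := R) f)
    obtain ⟨m', hm'⟩ := (Module.bijective_dual_eval R M').2 η'
    have hm'' : ∀ φ' : Module.Dual R M', φ' m' = η (φ' ∘ₗ f) := by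
      intro φ'
      have := LinearMap.congr_fun hm' φ'
      simpa [η', Module.Dual.transpose_apply] using this
    have hg0 : g m' = 0 := by
      apply ((eval_injective_iff R M'').2 inferInstance)
      rw [map_zero]
      ext ψ
      rw [Module.Dual.eval_apply, LinearMap.zero_apply]
      have h1 := hm'' (ψ ∘ₗ g)
      have h2 : (ψ ∘ₗ g) ∘ₗ f = 0 := by
        ext m
        simp [hgf]
      rw [h2, map_zero] at h1
      exact h1
    obtain ⟨m, rfl⟩ := (hfg m').1 hg0
    refine ⟨m, ?_⟩
    ext φ
    rw [Module.Dual.eval_apply]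
    have h1 := hm'' (φ ∘ₗ ρ)
    have h2 : (φ ∘ₗ ρ) ∘ₗ f = r • φ := by
      ext x
      simp [hρ]
    rw [h2, map_smul, LinearMap.comp_apply, hρ, map_smul, smul_eq_mul, smul_eq_mul] at h1
    exact mul_left_cancel₀ hr h1

end Groth.Agent.Helper4.TF
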