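import Mathlib
import Groth.Agent.Lib.Helper4.TF3

set_option linter.unusedSectionVars false
set_option linter.style.haveILetI false

namespace Groth.Agent.Helper4.TF

open TensorProduct

universe u v

variable (R : Type u) [CommRing R] [IsDomain R]

/-- (⟸) of S6873 -/
theorem isReflexive_of_injective_torsionFree_coker {M : Type v} [AddCommGroup M] [Module R M]
    (n : ℕ) (f : M →ₗ[R] (Fin n → R)) (hf : Function.Injective f)
    (h : Module.IsTorsionFree R ((Fin n → R) ⧸ LinearMap.range f)) : Module.IsReflexive R M := by
  have hex : Function.Exact f (LinearMap.range f).mkQ := by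
    intro x
    rw [Submodule.mkQ_apply, Submodule.Quotient.mk_eq_zero]
    rfl
  exact isReflexive_of_exact f (LinearMap.range f).mkQ hf hex

/-- general version: reflexive finite module with finite dual embeds in a finite free dual with
torsion-free cokernel. -/
theorem exists_injective_torsionFree_coker (M : Type v) [AddCommGroup M] [Module R M]
    [Module.Finite R (Module.Dual R M)] [Module.IsReflexive R M] :
    ∃ (n : ℕ) (f : M →ₗ[R] (Fin n → R)), Function.Injective f ∧
      Module.IsTorsionFree R ((Fin n → R) ⧸ LinearMap.range f) := by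
  classical
  obtain ⟨n, π, hπ⟩ := Module.Finite.exists_fin' R (Module.Dual R M)
  let F := Fin n → R
  let K := LinearMap.ker π
  let e : Module.Dual R F ≃ₗ[R] (Fin n → R) := (Pi.basisFun R (Fin n)).dualBasis.equivFun
  let f0 : M →ₗ[R] Module.Dual R F := π.dualMap ∘ₗ Module.Dual.eval R M
  let g0 : Module.Dual R F →ₗ[R] Module.Dual R K := K.subtype.dualMap
  have hf0 : Function.Injective f0 := by
    rw [LinearMap.coe_comp]
    exact (LinearMap.dualMap_injective_of_surjective hπ).comp (Module.bijective_dual_eval R M).1
  have hex : ∀ φ : Module.Dual R F, g0 φ = 0 → φ ∈ LinearMap.range f0 := by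
    intro φ hφ
    have hK : LinearMap.ker π ≤ LinearMap.ker φ := by
      intro x hx
      have := LinearMap.congr_fun hφ ⟨x, hx⟩
      simpa [g0] using this
    -- factor φ through π
    let ψ : Module.Dual R (Module.Dual R M) :=
      ((LinearMap.ker π).liftQ φ hK) ∘ₗ (π.quotKerEquivOfSurjective hπ).symm.toLinearMap
    have hψ : ∀ x, ψ (π x) = φ x := by
      intro x
      have : (π.quotKerEquivOfSurjective hπ).symm (π x) = Submodule.Quotient.mk x := by
        rw [LinearEquiv.symm_apply_eq]
        rfl
      simp only [ψ, LinearMap.coe_comp, LinearEquiv.coe_coe, Function.comp_apply, this,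
        Submodule.liftQ_apply]
    obtain ⟨m, hm⟩ := (Module.bijective_dual_eval R M).2 ψ
    refine ⟨m, ?_⟩
    ext x
    simp only [f0, LinearMap.coe_comp, Function.comp_apply, LinearMap.dualMap_apply, hm, hψ]
  have hgf : ∀ m, g0 (f0 m) = 0 := by
    intro m
    ext ⟨x, hx⟩
    have hx' : π x = 0 := hx
    simp [g0, f0, hx']
  let f : M →ₗ[R] (Fin n → R) := e.toLinearMap ∘ₗ f0
  have hf : Function.Injective f := by
    rw [LinearMap.coe_comp, LinearEquiv.coe_coe]
    exact e.injective.comp hf0
  refine ⟨n, f, hf, ?_⟩
  -- the quotient embeds in `Dual K`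
  let g : (Fin n → R) →ₗ[R] Module.Dual R K := g0 ∘ₗ e.symm.toLinearMap
  have hrange : LinearMap.range f ≤ LinearMap.ker g := by
    rintro _ ⟨m, rfl⟩
    simp only [f, g, LinearMap.mem_ker, LinearMap.coe_comp, LinearEquiv.coe_coe,
      Function.comp_apply, LinearEquiv.symm_apply_apply, hgf]
  let gbar : ((Fin n → R) ⧸ LinearMap.range f) →ₗ[R] Module.Dual R K :=
    (LinearMap.range f).liftQ g hrange
  have hgbar : Function.Injective gbar := by
    rw [injective_iff_map_eq_zero]
    intro q hq
    obtain ⟨v, rfl⟩ := Submodule.Quotient.mk_surjective _ q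
    rw [Submodule.Quotient.mk_eq_zero]
    have h1 : g0 (e.symm v) = 0 := by
      simpa [gbar, g] using hq
    obtain ⟨m, hm⟩ := hex _ h1
    refine ⟨m, ?_⟩
    simp only [f, LinearMap.coe_comp, LinearEquiv.coe_coe, Function.comp_apply, hm,
      LinearEquiv.apply_symm_apply]
  exact Function.Injective.moduleIsTorsionFree gbar hgbar (fun r m => map_smul gbar r m)

end Groth.Agent.Helper4.TF
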