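import Mathlib
import Groth.Agent.Lib.Helper4.TF4

set_option linter.unusedSectionVars false
set_option linter.style.haveILetI false

namespace Groth.Agent.Helper4.TF

open TensorProduct

universe u v w

section
variable (R : Type u) [CommRing R]

theorem pi_fin_isReflexive (N : Type v) [AddCommGroup N] [Module R N] [Module.IsReflexive R N]
    (n : ℕ) : Module.IsReflexive R (Fin n → N) := by
  induction n with
  | zero =>
    exact Module.IsReflexive.of_finite_of_free R _
  | succ n ih =>
    exact Module.equiv (Fin.consLinearEquiv R (fun _ : Fin (n+1) => N))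

instance linearMap_isTorsionFree (K : Type v) (N : Type w) [AddCommGroup K] [Module R K]
    [AddCommGroup N] [Module R N] [Module.IsTorsionFree R N] :
    Module.IsTorsionFree R (K →ₗ[R] N) where
  isSMulRegular r hr := by
    intro φ ψ h
    ext x
    have := LinearMap.congr_fun h x
    simp only [LinearMap.smul_apply] at this
    exact (Module.IsTorsionFree.isSMulRegular (M := N) hr) this

end

variable (R : Type u) [CommRing R] [IsDomain R] [IsNoetherianRing R]

/-- S6875 -/
theorem linearMap_isReflexive (M : Type v) (N : Type w) [AddCommGroup M] [Module R M]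
    [Module.Finite R M] [AddCommGroup N] [Module R N] [Module.Finite R N]
    [Module.IsReflexive R N] : Module.IsReflexive R (M →ₗ[R] N) := by
  classical
  obtain ⟨n, π, hπ⟩ := Module.Finite.exists_fin' R M
  let K := LinearMap.ker π
  let f : (M →ₗ[R] N) →ₗ[R] ((Fin n → R) →ₗ[R] N) := LinearMap.lcomp R N π
  let g : ((Fin n → R) →ₗ[R] N) →ₗ[R] (K →ₗ[R] N) := LinearMap.lcomp R N K.subtype
  have hf : Function.Injective f := by
    intro φ ψ h
    ext m
    obtain ⟨x, rfl⟩ := hπ m
    exact LinearMap.congr_fun h x
  have hfg : Function.Exact f g := by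
    intro ψ
    constructor
    · intro hψ
      have hK : LinearMap.ker π ≤ LinearMap.ker ψ := by
        intro x hx
        have := LinearMap.congr_fun hψ ⟨x, hx⟩
        simpa [g] using this
      let φ : M →ₗ[R] N :=
        ((LinearMap.ker π).liftQ ψ hK) ∘ₗ (π.quotKerEquivOfSurjective hπ).symm.toLinearMap
      refine ⟨φ, ?_⟩
      apply LinearMap.ext
      intro x
      have : (π.quotKerEquivOfSurjective hπ).symm (π x) = Submodule.Quotient.mk x := by
        rw [LinearEquiv.symm_apply_eq]
        rfl
      simp only [f, φ, LinearMap.lcomp_apply', LinearMap.coe_comp, LinearEquiv.coe_coe,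
        Function.comp_apply, this, Submodule.liftQ_apply]
    · rintro ⟨φ, rfl⟩
      apply LinearMap.ext
      rintro ⟨x, hx⟩
      have hx' : π x = 0 := hx
      simp [f, g, hx']
  haveI : Module.IsReflexive R ((Fin n → R) →ₗ[R] N) :=
    haveI := pi_fin_isReflexive R N n
    Module.equiv (Module.piEquiv (Fin n) R N)
  exact isReflexive_of_exact f g hf hfg

end Groth.Agent.Helper4.TF
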