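import Mathlib
import Groth.Agent.Lib.Helper4.TF5

set_option linter.unusedSectionVars false
set_option linter.style.haveILetI false

namespace Groth.Agent.Helper4.TF

open TensorProduct

universe u v w

/-- S6866: flat base change of a torsion-free module between domains is torsion-free. -/
theorem tensor_isTorsionFree (R : Type u) (R' : Type w) [CommRing R] [IsDomain R] [CommRing R']
    [IsDomain R'] [Algebra R R'] [Module.Flat R R'] (M : Type v) [AddCommGroup M] [Module R M]
    [Module.IsTorsionFree R M] : Module.IsTorsionFree R' (R' ⊗[R] M) := by
  classical
  apply Module.IsTorsionFree.of_smul_eq_zero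
  intro r x hx
  by_contra hcon
  push Not at hcon
  obtain ⟨hr, hx0⟩ := hcon
  obtain ⟨N', hfin, hN'⟩ :=
    TensorProduct.exists_finite_submodule_right_of_setFinite ({x} : Set (R' ⊗[R] M))
      (Set.finite_singleton x)
  obtain ⟨y, hy⟩ := hN' (Set.mem_singleton x)
  haveI : Module.IsTorsionFree R N' :=
    Function.Injective.moduleIsTorsionFree N'.subtype (Submodule.injective_subtype _)
      (fun r m => map_smul N'.subtype r m)
  obtain ⟨n, f, hf⟩ := (isTorsionFree_iff_exists_injective R N').1 inferInstance
  have h1 : Function.Injective (f.baseChange R') := by
    rw [LinearMap.baseChange_eq_ltensor]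
    exact Module.Flat.lTensor_preserves_injective_linearMap f hf
  have h2 : Function.Injective (N'.subtype.baseChange R') := by
    rw [LinearMap.baseChange_eq_ltensor]
    exact Module.Flat.lTensor_preserves_injective_linearMap N'.subtype
      (Submodule.injective_subtype _)
  have hy' : N'.subtype.baseChange R' y = x := by
    rw [LinearMap.baseChange_eq_ltensor]; exact hy
  have hry : r • y = 0 := by
    apply h2
    rw [map_smul, hy', hx, map_zero]
  let e := TensorProduct.piScalarRight R R' R' (Fin n)
  have hz : r • e (f.baseChange R' y) = 0 := by
    rw [← map_smul, ← map_smul, hry, map_zero, map_zero]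
  have hz0 : e (f.baseChange R' y) = 0 := by
    ext i
    have := congrFun hz i
    simp only [Pi.smul_apply, smul_eq_mul, Pi.zero_apply] at this
    rcases mul_eq_zero.mp this with h | h
    · exact absurd h hr
    · exact h
  have hy0 : y = 0 := by
    apply h1
    apply e.injective
    rw [hz0, map_zero, map_zero]
  apply hx0
  rw [← hy', hy0, map_zero]

end Groth.Agent.Helper4.TF
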