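import Mathlib
import Groth.Agent.Lib.Helper4.TF6

set_option linter.unusedSectionVars false
set_option linter.style.haveILetI false

namespace Groth.Agent.Helper4.TF

open TensorProduct

universe u v w

/-- S6874 -/
theorem tensor_isReflexive (R : Type u) (R' : Type w) [CommRing R] [IsDomain R]
    [CommRing R'] [IsDomain R'] [Algebra R R'] [Module.Flat R R']
    (M : Type v) [AddCommGroup M] [Module R M] [Module.Finite R (Module.Dual R M)]
    [Module.IsReflexive R M] :
    Module.IsReflexive R' (R' ⊗[R] M) := by
  classical
  obtain ⟨n, f, hf, hT⟩ := exists_injective_torsionFree_coker R M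
  let g := (LinearMap.range f).mkQ
  have hex : Function.Exact f g := by
    intro x
    rw [Submodule.mkQ_apply, Submodule.Quotient.mk_eq_zero]
    rfl
  have hg : Function.Surjective g := Submodule.mkQ_surjective _
  have h1 : Function.Injective (f.baseChange R') := by
    rw [LinearMap.baseChange_eq_ltensor]
    exact Module.Flat.lTensor_preserves_injective_linearMap f hf
  have h2 : Function.Exact (f.baseChange R') (g.baseChange R') := by
    rw [LinearMap.baseChange_eq_ltensor, LinearMap.baseChange_eq_ltensor]
    exact lTensor_exact R' hex hg
  haveI := tensor_isTorsionFree R R' ((Fin n → R) ⧸ LinearMap.range f)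
  exact isReflexive_of_exact (f.baseChange R') (g.baseChange R') h1 h2

end Groth.Agent.Helper4.TF
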