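import Mathlib
import Groth.Agent.Lib.Helper4.TF7

set_option linter.unusedSectionVars false
set_option linter.style.haveILetI false

namespace Groth.Agent.Helper4.TF

open TensorProduct

universe u v w

variable (R : Type u) [CommRing R] [IsDomain R]

theorem algebraMap_atPrime_injective (p : Ideal R) [p.IsPrime] :
    Function.Injective (algebraMap R (Localization.AtPrime p)) :=
  IsLocalization.injective (Localization.AtPrime p) p.primeCompl_le_nonZeroDivisors

/-- torsion-free is local -/
theorem isTorsionFree_of_localization_maximal (M : Type v) [AddCommGroup M] [Module R M]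
    (h : ∀ (m : Ideal R) (_ : m.IsMaximal),
      Module.IsTorsionFree (Localization.AtPrime m) (LocalizedModule m.primeCompl M)) :
    Module.IsTorsionFree R M := by
  apply Module.IsTorsionFree.of_smul_eq_zero
  intro r x hrx
  by_cases hr : r = 0
  · exact Or.inl hr
  right
  apply Module.eq_zero_of_localization_maximal (R := R) (M := M)
    (fun P _ => LocalizedModule P.primeCompl M)
    (fun P _ => LocalizedModule.mkLinearMap P.primeCompl M)
  intro P hP
  haveI := h P hP
  have h1 : algebraMap R (Localization.AtPrime P) r • LocalizedModule.mkLinearMap P.primeCompl M x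
      = 0 := by
    rw [algebraMap_smul, ← map_smul, hrx, map_zero]
  have h2 : algebraMap R (Localization.AtPrime P) r ≠ 0 := by
    intro h0
    apply hr
    apply algebraMap_atPrime_injective R P
    rw [h0, map_zero]
  exact smul_eq_zero_of_torsionFree h2 h1


/-- reflexivity is local at maximal ideals -/
theorem isReflexive_of_localization_maximal [IsNoetherianRing R] (M : Type v) [AddCommGroup M]
    [Module R M] [Module.Finite R M]
    (h : ∀ (m : Ideal R) (_ : m.IsMaximal),
      Module.IsReflexive (Localization.AtPrime m) (LocalizedModule m.primeCompl M)) :
    Module.IsReflexive R M := by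
  classical
  haveI : Module.FinitePresentation R M := Module.finitePresentation_of_finite R M
  constructor
  constructor
  · rw [eval_injective_iff]
    apply isTorsionFree_of_localization_maximal
    intro m hm
    haveI := h m hm
    infer_instance
  · intro η
    let I : Ideal R := (LinearMap.range (Module.Dual.eval R M)).colon {η}
    suffices hI : I = ⊤ by
      have h1 : (1 : R) ∈ I := hI ▸ Submodule.mem_top
      rw [Submodule.mem_colon_singleton, one_smul] at h1
      exact h1
    by_contra hI
    obtain ⟨m, hm, hIm⟩ := Ideal.exists_le_maximal I hI
    haveI := hm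
    haveI := h m hm
    let S := m.primeCompl
    let Rm := Localization.AtPrime m
    let Mm := LocalizedModule S M
    let f := LocalizedModule.mkLinearMap S M
    let g : R →ₗ[R] Rm := Algebra.linearMap R Rm
    let lam : Module.Dual R M →ₗ[R] Module.Dual Rm Mm :=
      IsLocalizedModule.mapExtendScalars S f g Rm
    haveI : IsLocalizedModule S lam :=
      Module.FinitePresentation.isLocalizedModule_mapExtendScalars S f g Rm
    let ηm : Module.Dual Rm (Module.Dual Rm Mm) :=
      IsLocalizedModule.mapExtendScalars S lam g Rm η
    obtain ⟨y, hy⟩ := (Module.bijective_dual_eval Rm Mm).2 ηm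
    obtain ⟨x, t, rfl⟩ : ∃ x t, y = LocalizedModule.mk x t := by
      induction y using LocalizedModule.induction_on with
      | h x t => exact ⟨x, t, rfl⟩
    have key : (t : R) • η = Module.Dual.eval R M x := by
      ext φ
      rw [LinearMap.smul_apply, Module.Dual.eval_apply, smul_eq_mul]
      apply algebraMap_atPrime_injective R m
      have h1 : ηm (lam φ) = algebraMap R Rm (η φ) := by
        simp only [ηm, IsLocalizedModule.mapExtendScalars_apply_apply,
          IsLocalizedModule.map_apply]
        rfl
      have h2 : ηm (lam φ) = lam φ (LocalizedModule.mk x t) := by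
        rw [← hy]; rfl
      have h3 : (t : R) • lam φ (LocalizedModule.mk x t) = algebraMap R Rm (φ x) := by
        rw [← LinearMap.map_smul_of_tower]
        have : (t : R) • (LocalizedModule.mk x t : Mm) = f x := by
          rw [LocalizedModule.smul'_mk]
          change LocalizedModule.mk (t • x) t = _
          rw [LocalizedModule.mk_cancel]
          rfl
        rw [this]
        simp only [lam, IsLocalizedModule.mapExtendScalars_apply_apply,
          IsLocalizedModule.map_apply]
        rfl
      rw [map_mul, ← h1, h2, ← Algebra.smul_def, h3]
    have ht : (t : R) ∈ I := by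
      rw [Submodule.mem_colon_singleton, key]
      exact ⟨x, rfl⟩
    exact t.2 (hIm ht)


theorem isReflexive_localizedModule [IsNoetherianRing R] (M : Type v) [AddCommGroup M]
    [Module R M] [Module.Finite R M] [Module.IsReflexive R M] (p : Ideal R) [p.IsPrime] :
    Module.IsReflexive (Localization.AtPrime p) (LocalizedModule p.primeCompl M) := by
  haveI : IsDomain (Localization.AtPrime p) :=
    IsLocalization.isDomain_localization p.primeCompl_le_nonZeroDivisors
  haveI := tensor_isReflexive R (Localization.AtPrime p) M
  exact Module.equiv (IsLocalizedModule.isBaseChange p.primeCompl (Localization.AtPrime p)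
    (LocalizedModule.mkLinearMap p.primeCompl M)).equiv

/-- S6871 -/
theorem isReflexive_local_global [IsNoetherianRing R] (M : Type v) [AddCommGroup M]
    [Module R M] [Module.Finite R M] :
    (Module.IsReflexive R M ↔
      ∀ (p : Ideal R) [p.IsPrime],
        Module.IsReflexive (Localization.AtPrime p) (LocalizedModule p.primeCompl M)) ∧
    (Module.IsReflexive R M ↔
      ∀ (m : Ideal R) (_ : m.IsMaximal),
        Module.IsReflexive (Localization.AtPrime m) (LocalizedModule m.primeCompl M)) := by
  refine ⟨⟨fun h p _ => isReflexive_localizedModule R M p, fun h => ?_⟩,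
    ⟨fun h m hm => ?_, fun h => isReflexive_of_localization_maximal R M h⟩⟩
  · apply isReflexive_of_localization_maximal R M
    intro m hm
    haveI := hm.isPrime
    exact h m
  · haveI := hm.isPrime
    exact isReflexive_localizedModule R M m

end Groth.Agent.Helper4.TF
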