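import Mathlib
import Groth.Agent.Lib.Helper4.TF8
import Groth.Agent.Lib.Helper8.Depth11

set_option linter.unusedSectionVars false
set_option linter.style.haveILetI false

namespace Groth.Agent.Helper4.TF

open TensorProduct LocCoh

universe u v w

section

variable (R : Type u) [CommRing R] [IsDomain R]

theorem isTorsionFree_localizedModule (M : Type v) [AddCommGroup M] [Module R M]
    [Module.IsTorsionFree R M] (p : Ideal R) [p.IsPrime] :
    Module.IsTorsionFree (Localization.AtPrime p) (LocalizedModule p.primeCompl M) := by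
  haveI : IsDomain (Localization.AtPrime p) :=
    IsLocalization.isDomain_localization p.primeCompl_le_nonZeroDivisors
  haveI := tensor_isTorsionFree R (Localization.AtPrime p) M
  let e := (IsLocalizedModule.isBaseChange p.primeCompl (Localization.AtPrime p)
    (LocalizedModule.mkLinearMap p.primeCompl M)).equiv
  exact Function.Injective.moduleIsTorsionFree e.symm e.symm.injective
    (fun r m => map_smul e.symm r m)

end

variable (R : Type u) [CommRing R] [IsDomain R] [IsNoetherianRing R] (M : Type u)
  [AddCommGroup M] [Module R M] [Module.Finite R M] [Nontrivial M]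

theorem isTorsionFree_iff_associatedPrimes :
    Module.IsTorsionFree R M ↔ associatedPrimes R M = {⊥} := by
  constructor
  · intro h
    rw [Set.eq_singleton_iff_nonempty_unique_mem]
    refine ⟨associatedPrimes.nonempty R M, fun p hp => ?_⟩
    obtain ⟨hprime, x, hx⟩ := isAssociatedPrime_iff.mp hp
    have hx0 : x ≠ 0 := by
      rintro rfl
      apply hprime.ne_top
      rw [hx, eq_top_iff]
      intro r _
      rw [Submodule.mem_colon_singleton, smul_zero]
      exact Submodule.zero_mem _
    rw [eq_bot_iff]
    intro r hr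
    rw [hx, Submodule.mem_colon_singleton, Submodule.mem_bot] at hr
    rcases smul_eq_zero.mp hr with h0 | h0
    · exact h0
    · exact absurd h0 hx0
  · intro h
    apply Module.IsTorsionFree.of_smul_eq_zero
    intro r m hrm
    by_contra hcon
    push Not at hcon
    obtain ⟨hr, hm⟩ := hcon
    have hnr : r ∈ {r : R | IsSMulRegular M r}ᶜ := by
      intro hreg
      apply hm
      apply hreg
      simp only [hrm, smul_zero]
    rw [← biUnion_associatedPrimes_eq_compl_regular R M, h] at hnr
    simp only [Set.mem_singleton_iff, Set.iUnion_iUnion_eq_left, SetLike.mem_coe,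
      Ideal.mem_bot] at hnr
    exact hr hnr


open Groth.Agent.Helper8.Depth RingTheory.Sequence IsLocalRing in
theorem hasSk_one_of_isTorsionFree [Module.IsTorsionFree R M] : HasSk 1 R M := by
  intro p _
  let Rp := Localization.AtPrime p
  let Mp := LocalizedModule p.primeCompl M
  haveI : IsDomain Rp := IsLocalization.isDomain_localization p.primeCompl_le_nonZeroDivisors
  haveI : Module.IsTorsionFree Rp Mp := isTorsionFree_localizedModule R M p
  by_cases hmax : maximalIdeal Rp = ⊥
  · have hfield : IsField Rp := isField_iff_maximalIdeal_eq.mpr hmax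
    have h1 : Module.supportDim Rp Mp ≤ 0 := by
      rw [← ringKrullDim_eq_zero_of_isField hfield]
      exact Module.supportDim_le_ringKrullDim Rp Mp
    refine le_trans (min_le_right _ _) (le_trans h1 ?_)
    exact_mod_cast (zero_le (a := depth Rp Mp))
  · obtain ⟨x, hx, hx0⟩ : ∃ x ∈ maximalIdeal Rp, x ≠ 0 := by
      by_contra hcon
      push Not at hcon
      apply hmax
      rw [eq_bot_iff]
      intro x hx
      exact hcon x hx
    have hreg : IsSMulRegular Mp x :=
      Module.IsTorsionFree.isSMulRegular (IsRegular.of_ne_zero hx0)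
    have h1 := length_le_idealDepth (I := maximalIdeal Rp) (M := Mp) (rs := [x])
      ((isWeaklyRegular_singleton_iff Mp x).mpr hreg) (by simpa using hx)
    refine le_trans (min_le_left _ _) ?_
    change ((1 : ℕ) : WithBot ℕ∞) ≤ ((depth Rp Mp : ℕ∞) : WithBot ℕ∞)
    exact_mod_cast h1

open Groth.Agent.Helper8.Depth IsLocalRing in
theorem associatedPrimes_eq_of_hasSk_one
    (hsupp : (⟨⊥, Ideal.isPrime_bot⟩ : PrimeSpectrum R) ∈ Module.support R M)
    (hS : HasSk 1 R M) : associatedPrimes R M = {⊥} := by
  rw [Set.eq_singleton_iff_nonempty_unique_mem]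
  refine ⟨associatedPrimes.nonempty R M, fun p hp => ?_⟩
  haveI : p.IsPrime := hp.isPrime
  let Rp := Localization.AtPrime p
  let Mp := LocalizedModule p.primeCompl M
  haveI : IsDomain Rp := IsLocalization.isDomain_localization p.primeCompl_le_nonZeroDivisors
  have hass : maximalIdeal Rp ∈ associatedPrimes Rp Mp :=
    Module.associatedPrimes.mem_associatedPrimes_atPrime_of_mem_associatedPrimes hp
  have hdepth : depth Rp Mp = 0 := (depth_eq_zero_iff Rp Mp).mpr hass
  have h1 := hS p
  rw [hdepth] at h1
  have hdim : Module.supportDim Rp Mp ≤ 0 := by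
    rcases min_le_iff.mp h1 with h2 | h2
    · exfalso
      have : ((1 : ℕ) : WithBot ℕ∞) ≤ ((0 : ℕ∞) : WithBot ℕ∞) := h2
      norm_cast at this
    · exact_mod_cast h2
  -- the points `⊥` and `maximalIdeal` of the support
  have hbot : (⟨⊥, Ideal.isPrime_bot⟩ : PrimeSpectrum Rp) ∈ Module.support Rp Mp := by
    rw [mem_support_localizedModule_iff]
    convert hsupp using 1
    apply PrimeSpectrum.ext
    change Ideal.comap (algebraMap R Rp) ⊥ = ⊥
    rw [← RingHom.ker_eq_comap_bot, (RingHom.injective_iff_ker_eq_bot _).mp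
      (algebraMap_atPrime_injective R p)]
  have hmaxs : (closedPoint Rp) ∈ Module.support Rp Mp :=
    Module.mem_support_mono (p := ⟨⊥, Ideal.isPrime_bot⟩) (q := closedPoint Rp)
      (by change (⊥ : Ideal Rp) ≤ _; exact bot_le) hbot
  have hismax := Order.krullDim_nonpos_iff_forall_isMax.mp hdim
    ⟨⟨⊥, Ideal.isPrime_bot⟩, hbot⟩
  have hle : (⟨⟨⊥, Ideal.isPrime_bot⟩, hbot⟩ : Module.support Rp Mp) ≤ ⟨closedPoint Rp, hmaxs⟩ := by
    change (⊥ : Ideal Rp) ≤ _
    exact bot_le
  have hge := hismax hle
  have hmaxbot : maximalIdeal Rp = ⊥ := by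
    have : maximalIdeal Rp ≤ (⊥ : Ideal Rp) := hge
    exact le_bot_iff.mp this
  -- hence `p = ⊥`
  have hp' : Ideal.comap (algebraMap R Rp) (maximalIdeal Rp) = p :=
    Localization.AtPrime.under_maximalIdeal
  rw [← hp', hmaxbot, ← RingHom.ker_eq_comap_bot, (RingHom.injective_iff_ker_eq_bot _).mp
    (algebraMap_atPrime_injective R p)]

/-- S6868 -/
theorem isTorsionFree_iff_support_and_S1 :
    Module.IsTorsionFree R M ↔
      (⟨⊥, Ideal.isPrime_bot⟩ : PrimeSpectrum R) ∈ Module.support R M ∧ HasSk 1 R M := by
  constructor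
  · intro h
    refine ⟨?_, hasSk_one_of_isTorsionFree R M⟩
    rw [Module.support_of_noZeroSMulDivisors]
    exact Set.mem_univ _
  · rintro ⟨h1, h2⟩
    exact (isTorsionFree_iff_associatedPrimes R M).mpr (associatedPrimes_eq_of_hasSk_one R M h1 h2)

end Groth.Agent.Helper4.TF
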