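import Mathlib
import Groth.Prelude.Def_CAlgX

/-!
# H1-regular sequences are quasi-regular (linear type argument) (helper4)
-/

set_option backward.isDefEq.respectTransparency.types false
set_option synthInstance.maxHeartbeats 400000
set_option autoImplicit false
set_option linter.unusedSectionVars false
set_option linter.style.haveILetI false
set_option linter.unusedSimpArgs false
universe u v w
open MvPolynomial

namespace Groth.Agent.Lib.Helper4.QReg1

variable {R : Type u} [CommRing R] {c : ℕ} (f : Fin c → R)

/-- the ideal of linear relations -/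
noncomputable def Tid : Ideal (MvPolynomial (Fin c) R) :=
  Ideal.span (Set.range (fun p : Fin c × Fin c => C (f p.1) * X p.2 - C (f p.2) * X p.1))

theorem Tid_le : Tid f ≤ Ideal.map C (Ideal.span (Set.range f)) := by
  rw [Tid, Ideal.span_le]
  rintro _ ⟨p, rfl⟩
  have h : ∀ i, (C (f i) : MvPolynomial (Fin c) R) ∈ Ideal.map C (Ideal.span (Set.range f)) :=
    fun i => Ideal.mem_map_of_mem _ (Ideal.subset_span ⟨i, rfl⟩)
  exact Ideal.sub_mem _ (Ideal.mul_mem_right _ _ (h _)) (Ideal.mul_mem_right _ _ (h _))

/-- homogeneous component and multiplication by a variable -/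
theorem hc_X_mul (i : Fin c) (n : ℕ) (p : MvPolynomial (Fin c) R) :
    homogeneousComponent (n + 1) (X i * p) = X i * homogeneousComponent n p := by
  ext d
  rw [coeff_homogeneousComponent, coeff_X_mul', coeff_X_mul', coeff_homogeneousComponent]
  by_cases hi : i ∈ d.support
  · have hd : d.degree = (d - Finsupp.single i 1).degree + 1 := by
      have : d = (d - Finsupp.single i 1) + Finsupp.single i 1 := by
        ext j
        by_cases hj : j = i
        · subst hj
          have : 1 ≤ d j := by
            rw [Finsupp.mem_support_iff] at hi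
            omega
          simp [this]
        · simp [Finsupp.single_apply, Ne.symm hj]
      conv_lhs => rw [this]
      rw [map_add, Finsupp.degree_single]
    simp only [hi, if_true]
    by_cases h2 : (d - Finsupp.single i 1).degree = n
    · simp [h2, hd]
    · have : ¬ d.degree = n + 1 := by omega
      simp [h2, this]
  · simp [hi]

/-- decomposition of a homogeneous polynomial of positive degree -/
theorem exists_decomp (n : ℕ) (ξ : MvPolynomial (Fin c) R) (hξ : ξ.IsHomogeneous (n + 1)) :
    ∃ η : Fin c → MvPolynomial (Fin c) R, (∀ i, (η i).IsHomogeneous n) ∧ ξ = ∑ i, X i * η i := by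
  have h1 : ξ ∈ Ideal.span (Set.range (X : Fin c → MvPolynomial (Fin c) R)) := by
    rw [← Set.image_univ, mem_ideal_span_X_image]
    intro m hm
    have hdeg : m.degree = n + 1 := by
      by_contra h
      exact (mem_support_iff.mp hm) (hξ.coeff_eq_zero h)
    by_contra hcon
    push Not at hcon
    have : m = 0 := by
      ext i
      simpa using hcon i (Set.mem_univ i)
    rw [this] at hdeg
    simp at hdeg
  obtain ⟨p, hp⟩ := (Ideal.mem_span_range_iff_exists_fun).mp h1
  refine ⟨fun i => homogeneousComponent n (p i), fun i => homogeneousComponent_isHomogeneous n _, ?_⟩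
  have := congrArg (homogeneousComponent (n + 1)) hp
  rw [homogeneousComponent_eq_self hξ, map_sum] at this
  rw [← this]
  apply Finset.sum_congr rfl
  intro i _
  rw [mul_comm, hc_X_mul]

/-- `H₁`-regularity passes to the polynomial ring (coefficientwise). -/
theorem h1_poly (hf : CAlgX.IsH1Regular f) (a : Fin c → MvPolynomial (Fin c) R)
    (ha : ∑ i, a i * C (f i) = 0) :
    a ∈ Submodule.span (MvPolynomial (Fin c) R)
      {v : Fin c → MvPolynomial (Fin c) R | ∃ i j : Fin c,
        v = Pi.single i (C (f j)) - Pi.single j (C (f i))} := by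
  classical
  obtain ⟨Cv, hCv⟩ : ∃ Cv : (Fin c → R) →ₗ[R] (Fin c → MvPolynomial (Fin c) R),
      ∀ v i, Cv v i = C (v i) :=
    ⟨(Algebra.linearMap R (MvPolynomial (Fin c) R)).compLeft (Fin c), fun v i => rfl⟩
  have claim1 : ∀ v ∈ Submodule.span R {v : Fin c → R | ∃ i j : Fin c,
      v = Pi.single i (f j) - Pi.single j (f i)},
      Cv v ∈ Submodule.span (MvPolynomial (Fin c) R)
        {v : Fin c → MvPolynomial (Fin c) R | ∃ i j : Fin c,
          v = Pi.single i (C (f j)) - Pi.single j (C (f i))} := by
    intro v hv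
    induction hv using Submodule.span_induction with
    | mem v hv =>
      obtain ⟨i, j, rfl⟩ := hv
      apply Submodule.subset_span
      refine ⟨i, j, ?_⟩
      funext k
      rw [hCv]
      simp only [Pi.sub_apply, Pi.single_apply]
      split_ifs <;> simp
    | zero => rw [map_zero]; exact Submodule.zero_mem _
    | add x y _ _ hx hy => rw [map_add]; exact Submodule.add_mem _ hx hy
    | smul r x _ hx =>
      rw [map_smul, ← algebraMap_smul (MvPolynomial (Fin c) R) r (Cv x)]
      exact Submodule.smul_mem _ _ hx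
  obtain ⟨s, hs⟩ : ∃ s : Finset (Fin c →₀ ℕ), ∀ i, (a i).support ⊆ s :=
    ⟨Finset.univ.biUnion (fun i => (a i).support), fun i =>
      Finset.subset_biUnion_of_mem (fun i => (a i).support) (Finset.mem_univ i)⟩
  have claim2 : a = ∑ d ∈ s, (monomial d (1 : R)) • Cv (fun i => coeff d (a i)) := by
    funext i
    rw [Finset.sum_apply]
    simp only [Pi.smul_apply, hCv, smul_eq_mul]
    conv_lhs => rw [(a i).as_sum]
    rw [Finset.sum_subset (hs i)]
    · apply Finset.sum_congr rfl
      intro d _
      rw [mul_comm, C_mul_monomial, mul_one]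
    · intro d _ hd
      rw [notMem_support_iff.mp hd, monomial_zero]
  rw [claim2]
  apply Submodule.sum_mem
  intro d _
  apply Submodule.smul_mem
  apply claim1
  apply hf
  have := congrArg (coeff d) ha
  rw [coeff_sum, coeff_zero] at this
  rw [← this]
  apply Finset.sum_congr rfl
  intro i _
  rw [mul_comm (a i), coeff_C_mul, mul_comm]

/-- `J` is of linear type. -/
theorem linear_type (hf : CAlgX.IsH1Regular f) : ∀ (n : ℕ) (ξ : MvPolynomial (Fin c) R),
    ξ.IsHomogeneous n → eval f ξ = 0 → ξ ∈ Tid f := by
  intro n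
  induction n with
  | zero =>
    intro ξ hξ hev
    have h1 : ξ = C (coeff 0 ξ) := by
      rw [← homogeneousComponent_zero, homogeneousComponent_eq_self hξ]
    rw [h1, eval_C] at hev
    rw [h1, hev, map_zero]
    exact Ideal.zero_mem _
  | succ n ih =>
    intro ξ hξ hev
    obtain ⟨η, hη, rfl⟩ := exists_decomp n ξ hξ
    obtain ⟨ζ, hζ⟩ : ∃ ζ, ζ = ∑ i, η i * C (f i) := ⟨_, rfl⟩
    have hζh : ζ.IsHomogeneous n := by
      rw [hζ]
      apply IsHomogeneous.sum
      intro i _
      rw [mul_comm]
      exact (hη i).C_mul _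
    have hζe : eval f ζ = 0 := by
      rw [← hev, hζ, map_sum, map_sum]
      apply Finset.sum_congr rfl
      intro i _
      rw [map_mul, map_mul, eval_C, eval_X, mul_comm]
    have hζT := ih ζ hζh hζe
    rw [Tid] at hζT
    obtain ⟨A, hA⟩ := (Ideal.mem_span_range_iff_exists_fun).mp hζT
    obtain ⟨ξ', hξ'⟩ : ∃ ξ' : Fin c → MvPolynomial (Fin c) R,
        ξ' = fun k => η k - ∑ j, A (k, j) * X j + ∑ i, A (i, k) * X i := ⟨_, rfl⟩
    have hδ : ∑ k, ξ' k * C (f k) = 0 := by
      rw [hξ']
      simp only [add_mul, sub_mul, Finset.sum_add_distrib, Finset.sum_sub_distrib, ← hζ, ← hA,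
        Fintype.sum_prod_type, Finset.sum_mul, mul_sub, Finset.sum_sub_distrib]
      rw [Finset.sum_comm (f := fun x y => A (y, x) * X y * C (f x))]
      have e1 : ∀ x y : Fin c, A (x, y) * (C (f x) * X y) = A (x, y) * X y * C (f x) := by
        intro x y; ring
      have e2 : ∀ x y : Fin c, A (x, y) * (C (f y) * X x) = A (x, y) * X x * C (f y) := by
        intro x y; ring
      simp only [e1, e2]
      ring
    have hdel : ∑ k, X k * ξ' k = ∑ k, X k * η k := by
      rw [hξ']
      simp only [mul_add, mul_sub, Finset.sum_add_distrib, Finset.sum_sub_distrib, Finset.mul_sum]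
      rw [Finset.sum_comm (f := fun x y => X x * (A (y, x) * X y))]
      have e1 : ∀ x y : Fin c, X x * (A (x, y) * X y) = X y * (A (x, y) * X x) := by
        intro x y; ring
      simp only [e1]
      ring
    have hD := h1_poly f hf ξ' hδ
    rw [← hdel]
    obtain ⟨del, hdeldef⟩ : ∃ del : (Fin c → MvPolynomial (Fin c) R) →ₗ[MvPolynomial (Fin c) R]
        MvPolynomial (Fin c) R, ∀ v, del v = ∑ k, X k * v k :=
      ⟨∑ k, (X k : MvPolynomial (Fin c) R) • LinearMap.proj k, fun v => by
        simp [LinearMap.sum_apply]⟩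
    rw [← hdeldef]
    have hle : Submodule.span (MvPolynomial (Fin c) R)
        {v : Fin c → MvPolynomial (Fin c) R | ∃ i j : Fin c,
          v = Pi.single i (C (f j)) - Pi.single j (C (f i))} ≤ Submodule.comap del (Tid f) := by
      rw [Submodule.span_le]
      rintro _ ⟨i, j, rfl⟩
      rw [SetLike.mem_coe, Submodule.mem_comap, hdeldef]
      have : ∑ k, X k * (Pi.single i (C (f j)) - Pi.single j (C (f i)) :
          Fin c → MvPolynomial (Fin c) R) k = C (f j) * X i - C (f i) * X j := by
        simp only [Pi.sub_apply, mul_sub, Finset.sum_sub_distrib, Pi.single_apply, mul_ite,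
          mul_zero, Finset.sum_ite_eq', Finset.mem_univ, if_true]
        ring
      rw [this, Tid]
      exact Ideal.subset_span ⟨(j, i), rfl⟩
    exact hle hD

theorem exists_Q : ∀ (n : ℕ) (y : R), y ∈ Ideal.span (Set.range f) ^ (n + 1) →
    ∃ Q : MvPolynomial (Fin c) R, Q.IsHomogeneous n ∧
      Q ∈ Ideal.map C (Ideal.span (Set.range f)) ∧ eval f Q = y := by
  intro n
  induction n with
  | zero =>
    intro y hy
    rw [zero_add, pow_one] at hy
    exact ⟨C y, isHomogeneous_C _ _, Ideal.mem_map_of_mem _ hy, eval_C _⟩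
  | succ n ih =>
    intro y hy
    rw [pow_succ] at hy
    refine Submodule.mul_induction_on hy ?_ ?_
    · intro a ha b hb
      obtain ⟨Qa, h1, h2, h3⟩ := ih a ha
      obtain ⟨cc, hcc⟩ := (Ideal.mem_span_range_iff_exists_fun).mp hb
      refine ⟨Qa * ∑ i, C (cc i) * X i, ?_, Ideal.mul_mem_right _ _ h2, ?_⟩
      · apply h1.mul
        apply IsHomogeneous.sum
        intro i _
        exact (isHomogeneous_X R i).C_mul _
      · rw [map_mul, h3, map_sum, ← hcc]
        congr 1
        apply Finset.sum_congr rfl
        intro i _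
        rw [map_mul, eval_C, eval_X]
    · intro x y hx hy
      obtain ⟨Q1, h1, h2, h3⟩ := hx
      obtain ⟨Q2, k1, k2, k3⟩ := hy
      exact ⟨Q1 + Q2, h1.add k1, Ideal.add_mem _ h2 k2, by rw [map_add, h3, k3]⟩

theorem S2103_main (hf : CAlgX.IsH1Regular f) : CAlgX.IsQuasiRegular f := by
  intro n P hP hev d
  obtain ⟨Q, h1, h2, h3⟩ := exists_Q f n _ hev
  have h4 : (P - Q).IsHomogeneous n := by
    rw [sub_eq_add_neg]
    exact hP.add (by
      have := h1.C_mul (-1)
      simpa using this)
  have h5 : eval f (P - Q) = 0 := by rw [map_sub, h3, sub_self]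
  have h6 := Tid_le f (linear_type f hf n _ h4 h5)
  rw [mem_map_C_iff] at h6 h2
  have := Ideal.add_mem _ (h6 d) (h2 d)
  rwa [coeff_sub, sub_add_cancel] at this

end Groth.Agent.Lib.Helper4.QReg1
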