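import Mathlib
import Groth.Agent.Lib.Helper4.StalkEtale1

/-!
# Etale iff flat with finite separable field fibres (stalkwise) (helper4)
-/

set_option backward.isDefEq.respectTransparency.types false
set_option synthInstance.maxHeartbeats 400000
set_option autoImplicit false
set_option linter.unusedSectionVars false
set_option linter.style.haveILetI false
set_option linter.unusedSimpArgs false
universe u v w
open CategoryTheory CategoryTheory.Limits AlgebraicGeometry TopologicalSpace IsLocalRing Opposite

namespace Groth.Agent.Lib.Helper4.EtaleFib1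

/-- local algebra: formally unramified iff the quotient by the extended maximal ideal is a finite
separable field extension of the residue field. -/
theorem formallyUnramified_iff_quotient {R S : Type u} [CommRing R] [CommRing S] [IsLocalRing R]
    [IsLocalRing S] (φ : R →+* S) [IsLocalHom φ] (hess : φ.EssFiniteType) :
    φ.FormallyUnramified ↔
      (letI := (Ideal.quotientMap ((maximalIdeal R).map φ) φ Ideal.le_comap_map).toAlgebra
      IsField (S ⧸ (maximalIdeal R).map φ) ∧
        Module.Finite (R ⧸ maximalIdeal R) (S ⧸ (maximalIdeal R).map φ) ∧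
        Algebra.IsSeparable (R ⧸ maximalIdeal R) (S ⧸ (maximalIdeal R).map φ)) := by
  letI := φ.toAlgebra
  haveI : IsLocalHom (algebraMap R S) := ‹IsLocalHom φ›
  haveI : Algebra.EssFiniteType R S := hess
  -- general statement for an ideal `J` equal to the maximal ideal
  have key : ∀ (J : Ideal S) (hJ : maximalIdeal R ≤ J.comap φ) (e : J = maximalIdeal S),
      (letI := (Ideal.quotientMap J φ hJ).toAlgebra;
        (Module.Finite (R ⧸ maximalIdeal R) (S ⧸ J) ↔
          Module.Finite (ResidueField R) (ResidueField S)) ∧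
        (Algebra.IsSeparable (R ⧸ maximalIdeal R) (S ⧸ J) ↔
          Algebra.IsSeparable (ResidueField R) (ResidueField S))) := by
    rintro J hJ rfl
    have halg : (Ideal.quotientMap (maximalIdeal S) φ hJ).toAlgebra =
        (inferInstance : Algebra (ResidueField R) (ResidueField S)) :=
      Algebra.algebra_ext _ _ (fun r => by
        obtain ⟨a, rfl⟩ := Ideal.Quotient.mk_surjective r; rfl)
    have gen : ∀ (a : Algebra (R ⧸ maximalIdeal R) (S ⧸ maximalIdeal S)),
        a = (inferInstance : Algebra (ResidueField R) (ResidueField S)) →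
        ((@Module.Finite (R ⧸ maximalIdeal R) (S ⧸ maximalIdeal S) _ _ a.toModule ↔
          Module.Finite (ResidueField R) (ResidueField S)) ∧
        (@Algebra.IsSeparable (R ⧸ maximalIdeal R) (S ⧸ maximalIdeal S) _ _ a ↔
          Algebra.IsSeparable (ResidueField R) (ResidueField S))) := by
      rintro _ rfl
      exact ⟨Iff.rfl, Iff.rfl⟩
    exact gen _ halg
  change Algebra.FormallyUnramified R S ↔ _
  constructor
  · intro h
    have hmap : (maximalIdeal R).map φ = maximalIdeal S :=
      Algebra.FormallyUnramified.map_maximalIdeal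
    obtain ⟨k1, k2⟩ := key _ Ideal.le_comap_map hmap
    refine ⟨?_, k1.mpr inferInstance, k2.mpr inferInstance⟩
    rw [← Ideal.Quotient.maximal_ideal_iff_isField_quotient, hmap]
    exact maximalIdeal.isMaximal S
  · rintro ⟨h1, h2, h3⟩
    rw [← Ideal.Quotient.maximal_ideal_iff_isField_quotient] at h1
    have hmap : (maximalIdeal R).map φ = maximalIdeal S := IsLocalRing.eq_maximalIdeal h1
    obtain ⟨k1, k2⟩ := key _ Ideal.le_comap_map hmap
    haveI := k2.mp h3
    exact Algebra.FormallyUnramified.of_map_maximalIdeal hmap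


theorem etale_iff_forall_exists_nhd {X Y : Scheme.{u}} (f : X ⟶ Y) :
    Etale f ↔ ∀ x : X, ∃ U : X.Opens, x ∈ U ∧ Etale (U.ι ≫ f) := by
  constructor
  · intro h x
    exact ⟨⊤, trivial, inferInstance⟩
  · intro h
    choose U hxU hU using h
    refine IsZariskiLocalAtSource.of_iSup_eq_top (P := @Etale) U ?_ hU
    rw [eq_top_iff]
    rintro x -
    simp only [Opens.mem_iSup]
    exact ⟨x, hxU x⟩

theorem S5011_main {X Y : Scheme.{u}} (f : X ⟶ Y)
    [LocallyOfFinitePresentation f] :
    Etale f ↔ Flat f ∧ ∀ x : ↥X,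
      letI φ := (f.stalkMap x).hom
      letI 𝔪 := IsLocalRing.maximalIdeal ↑(Y.presheaf.stalk (f.base x))
      letI := (Ideal.quotientMap (𝔪.map φ) φ Ideal.le_comap_map).toAlgebra
      IsField (↑(X.presheaf.stalk x) ⧸ 𝔪.map φ) ∧
        Module.Finite (↑(Y.presheaf.stalk (f.base x)) ⧸ 𝔪) (↑(X.presheaf.stalk x) ⧸ 𝔪.map φ) ∧
        Algebra.IsSeparable (↑(Y.presheaf.stalk (f.base x)) ⧸ 𝔪) (↑(X.presheaf.stalk x) ⧸ 𝔪.map φ) := by
  rw [etale_iff_forall_exists_nhd, Flat.iff_flat_stalkMap, ← forall_and]
  refine forall_congr' fun x => ?_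
  rw [Groth.Agent.Lib.Helper4.StalkEtale1.exists_etale_nhd_iff_flat_formallyUnramified f x]
  have hess := LocallyOfFiniteType.stalkMap f x
  rw [formallyUnramified_iff_quotient (f.stalkMap x).hom hess]

end Groth.Agent.Lib.Helper4.EtaleFib1
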