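import Mathlib
import Groth.Prelude.Def_FSch3
import Groth.Agent.Lib.Helper7.FormalCompl
import Groth.Agent.Lib.Lead.KrullKill
import Groth.Agent.Lib.Lead.FittSh

/-!
# Completed morphism is iso / closed immersion iff so near the support (ZMT + Nakayama + Krull) (helper4)
-/

set_option backward.isDefEq.respectTransparency.types false
set_option synthInstance.maxHeartbeats 400000
set_option autoImplicit false
set_option linter.unusedSectionVars false
set_option linter.style.haveILetI false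
set_option linter.unusedSimpArgs false
universe u v w
open CategoryTheory CategoryTheory.Limits AlgebraicGeometry TopologicalSpace Opposite

namespace Groth.Agent.Lib.Helper4.ComplNear1

/-! ### Algebra -/

section Alg

/-- Nakayama: a finite ring map that is surjective modulo `K` becomes surjective after
inverting some `r ≡ 1 mod K`. -/
theorem exists_mul_mem_range {B C : Type*} [CommRing B] [CommRing C] (φ : B →+* C)
    (hfin : φ.Finite) (K : Ideal B) (hsurj : ∀ c : C, ∃ b : B, c - φ b ∈ K.map φ) :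
    ∃ r : B, r - 1 ∈ K ∧ ∀ c : C, ∃ b : B, φ b = φ r * c := by
  letI := φ.toAlgebra
  haveI : Module.Finite B C := hfin
  let R : Submodule B C := LinearMap.range (Algebra.linearMap B C)
  have hle : (⊤ : Submodule B (C ⧸ R)) ≤ K • ⊤ := by
    intro q _
    obtain ⟨c, rfl⟩ := R.mkQ_surjective q
    obtain ⟨b, hb⟩ := hsurj c
    have h1 : c - φ b ∈ K • (⊤ : Submodule B C) := by
      rw [Ideal.smul_top_eq_map]; exact hb
    have h2 : R.mkQ (c - φ b) ∈ K • (⊤ : Submodule B (C ⧸ R)) := by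
      have := Submodule.mem_map_of_mem (f := R.mkQ) h1
      rw [Submodule.map_smul'', Submodule.map_top, Submodule.range_mkQ] at this
      exact this
    have h3 : R.mkQ (c - φ b) = R.mkQ c := by
      rw [map_sub, sub_eq_self]
      exact (Submodule.Quotient.mk_eq_zero R).mpr ⟨b, rfl⟩
    rw [← h3]; exact h2
  obtain ⟨r, hr1, hr2⟩ := Submodule.exists_sub_one_mem_and_smul_eq_zero_of_fg_of_le_smul K
    (⊤ : Submodule B (C ⧸ R)) Module.Finite.fg_top hle
  refine ⟨r, hr1, fun c => ?_⟩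
  have h4 := hr2 (R.mkQ c) Submodule.mem_top
  rw [← map_smul, Submodule.mkQ_apply, Submodule.Quotient.mk_eq_zero] at h4
  obtain ⟨b, hb⟩ := h4
  refine ⟨b, ?_⟩
  rw [Algebra.linearMap_apply, Algebra.smul_def] at hb
  exact hb

/-- Krull: if `ker φ` lies in all powers of `K`, it is killed by some `r ≡ 1 mod K`. -/
theorem exists_mul_ker_eq_zero {B C : Type*} [CommRing B] [CommRing C] [IsNoetherianRing B]
    (φ : B →+* C) (K : Ideal B) (hker : ∀ n : ℕ, RingHom.ker φ ≤ K ^ (n + 1)) :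
    ∃ r : B, r - 1 ∈ K ∧ ∀ b ∈ RingHom.ker φ, r * b = 0 := by
  obtain ⟨s, hs1, hs2⟩ := Groth.Agent.Lead.KrullKill.exists_kill K
    (Submodule.subtype (RingHom.ker φ)) (fun n m => by
      rw [smul_eq_mul, Ideal.mul_top]
      exact hker n m.2)
  exact ⟨s, hs1, fun b hb => hs2 ⟨b, hb⟩⟩

theorem loc_surj {B C B' C' : Type*} [CommRing B] [CommRing C] [CommRing B'] [CommRing C']
    [Algebra B B'] [Algebra C C'] (φ : B →+* C) (s : B) [IsLocalization.Away s B']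
    [IsLocalization.Away (φ s) C'] (φ' : B' →+* C')
    (hcomm : ∀ b, φ' (algebraMap B B' b) = algebraMap C C' (φ b))
    (h : ∀ c : C, ∃ b : B, φ b = φ s * c) : Function.Surjective φ' := by
  intro c'
  obtain ⟨n, c, hc⟩ := IsLocalization.Away.surj (φ s) c'
  obtain ⟨b, hb⟩ := h c
  have hv : algebraMap B B' s * IsLocalization.Away.invSelf s = 1 :=
    IsLocalization.Away.mul_invSelf s
  have hv' : algebraMap C C' (φ s) * φ' (IsLocalization.Away.invSelf s) = 1 := by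
    rw [← hcomm, ← map_mul, hv, map_one]
  refine ⟨algebraMap B B' b * IsLocalization.Away.invSelf s ^ (n + 1), ?_⟩
  rw [map_mul, map_pow, hcomm, hb, map_mul, ← hc]
  calc algebraMap C C' (φ s) * (c' * algebraMap C C' (φ s) ^ n) *
        φ' (IsLocalization.Away.invSelf s) ^ (n + 1)
      = c' * (algebraMap C C' (φ s) * φ' (IsLocalization.Away.invSelf s)) ^ (n + 1) := by ring
    _ = c' := by rw [hv', one_pow, mul_one]

theorem loc_inj {B C B' C' : Type*} [CommRing B] [CommRing C] [CommRing B'] [CommRing C']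
    [Algebra B B'] [Algebra C C'] (φ : B →+* C) (s : B) [IsLocalization.Away s B']
    [IsLocalization.Away (φ s) C'] (φ' : B' →+* C')
    (hcomm : ∀ b, φ' (algebraMap B B' b) = algebraMap C C' (φ b))
    (h : ∀ b ∈ RingHom.ker φ, s * b = 0) : Function.Injective φ' := by
  rw [injective_iff_map_eq_zero]
  intro b' hb'
  obtain ⟨n, b, hb⟩ := IsLocalization.Away.surj s b'
  have h1 : algebraMap C C' (φ b) = 0 := by rw [← hcomm, ← hb, map_mul, hb', zero_mul]
  obtain ⟨⟨_, m, rfl⟩, hm⟩ :=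
    (IsLocalization.map_eq_zero_iff (Submonoid.powers (φ s)) C' (φ b)).mp h1
  have h2 : s ^ m * b ∈ RingHom.ker φ := by
    rw [RingHom.mem_ker, map_mul, map_pow]; exact hm
  have h3 : s * (s ^ m * b) = 0 := h _ h2
  have h4 : algebraMap B B' b = 0 :=
    (IsLocalization.map_eq_zero_iff (Submonoid.powers s) B' b).mpr
      ⟨⟨s ^ (m + 1), m + 1, rfl⟩, by
        show s ^ (m + 1) * b = 0
        rw [pow_succ', mul_assoc]; exact h3⟩
  have hu : IsUnit (algebraMap B B' s ^ n) := (IsLocalization.Away.algebraMap_isUnit s).pow n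
  exact (hu.mul_left_eq_zero).mp (by rw [hb, h4])

end Alg

/-! ### Geometry: generalities -/

section Geo

variable {X Y Z : Scheme.{u}}

theorem appLE_comp_appLE_of_eq (f : X ⟶ Y) (g : Y ⟶ Z) (k : X ⟶ Z) (hk : f ≫ g = k)
    (U : Z.Opens) (V : Y.Opens) (W : X.Opens) (e₁ : V ≤ g ⁻¹ᵁ U) (e₂ : W ≤ f ⁻¹ᵁ V)
    (e₃ : W ≤ k ⁻¹ᵁ U) :
    g.appLE U V e₁ ≫ f.appLE V W e₂ = k.appLE U W e₃ := by
  subst hk
  exact Scheme.Hom.appLE_comp_appLE f g U V W e₁ e₂

theorem ker_appLE_eq (I : X.IdealSheafData) {W : X.Opens} (hW : IsAffineOpen W)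
    (V : I.subscheme.Opens) (hV : V = I.subschemeι ⁻¹ᵁ W) :
    RingHom.ker (I.subschemeι.appLE W V hV.le).hom = I.ideal ⟨W, hW⟩ := by
  subst hV
  rw [Scheme.Hom.appLE_eq_app]
  exact I.ker_subschemeι_app ⟨W, hW⟩

/-- transport of a ring-hom property from `f.app N` to the global sections of `f ∣_ N` -/
theorem appTop_restrict_iff {P : ∀ {R S : Type u} [CommRing R] [CommRing S], (R →+* S) → Prop}
    (hP : RingHom.RespectsIso @P) (f : X ⟶ Y) (N : Y.Opens) :
    P (f ∣_ N).appTop.hom ↔ P (f.app N).hom := by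
  have h1 : (f ∣_ N).appTop = f.app (N.ι ''ᵁ ⊤) ≫
      X.presheaf.map (eqToHom (image_morphismRestrict_preimage f N ⊤)).op :=
    morphismRestrict_app f N ⊤
  have h2 : P (f.app (N.ι ''ᵁ ⊤) ≫
      X.presheaf.map (eqToHom (image_morphismRestrict_preimage f N ⊤)).op).hom ↔
      P (f.app (N.ι ''ᵁ ⊤)).hom := by
    rw [CommRingCat.hom_comp]; exact hP.cancel_right_isIso _ _
  have : ∀ N' : Y.Opens, N' = N → (P (f.app N').hom ↔ P (f.app N).hom) := by
    rintro _ rfl; exact Iff.rfl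
  rw [h1]
  exact h2.trans (this _ (Scheme.Opens.ι_image_top N))

theorem bijective_respectsIso :
    RingHom.RespectsIso (fun {R S : Type u} [CommRing R] [CommRing S] (f : R →+* S) =>
      Function.Bijective f) := by
  constructor
  · intro R S T _ _ _ f e hf
    exact e.bijective.comp hf
  · intro R S T _ _ _ f e hf
    exact hf.comp e.bijective

theorem isClosedImmersion_restrict (f : X ⟶ Y) (N : Y.Opens) (hN : IsAffineOpen N)
    (hN' : IsAffineOpen (f ⁻¹ᵁ N)) (hs : Function.Surjective (f.app N).hom) :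
    IsClosedImmersion (f ∣_ N) := by
  haveI : IsAffine N := hN
  haveI : IsAffine (f ⁻¹ᵁ N) := hN'
  apply IsClosedImmersion.of_surjective_of_isAffine
  exact (appTop_restrict_iff RingHom.surjective_respectsIso f N).mpr hs

theorem isIso_restrict (f : X ⟶ Y) (N : Y.Opens) (hN : IsAffineOpen N)
    (hN' : IsAffineOpen (f ⁻¹ᵁ N)) (hs : Function.Bijective (f.app N).hom) :
    IsIso (f ∣_ N) := by
  haveI : IsAffine N := hN
  haveI : IsAffine (f ⁻¹ᵁ N) := hN'
  have h1 : Function.Bijective (f ∣_ N).appTop.hom :=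
    (appTop_restrict_iff bijective_respectsIso f N).mpr hs
  exact (HasAffineProperty.iff_of_isAffine (P := MorphismProperty.isomorphisms Scheme)).mpr
    ⟨hN', (ConcreteCategory.isIso_iff_bijective _).mpr h1⟩

theorem finite_app_of_isFinite_restrict (f : X ⟶ Y) (N : Y.Opens) (hN : IsAffineOpen N)
    (hf : IsFinite (f ∣_ N)) : (f.app N).hom.Finite := by
  haveI : IsAffine N := hN
  exact (appTop_restrict_iff RingHom.finite_respectsIso f N).mp (Scheme.Hom.finite_appTop (f ∣_ N))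

theorem preimage_basicOpen_affine (f : X ⟶ Y) {D : Y.Opens} (hE : IsAffineOpen (f ⁻¹ᵁ D))
    (r : Γ(Y, D)) : IsAffineOpen (f ⁻¹ᵁ Y.basicOpen r) := by
  rw [Scheme.preimage_basicOpen]
  exact hE.basicOpen _

theorem surj_app_basicOpen (f : X ⟶ Y) {D : Y.Opens} (hD : IsAffineOpen D)
    (hE : IsAffineOpen (f ⁻¹ᵁ D)) (r : Γ(Y, D))
    (hs : ∀ c : Γ(X, f ⁻¹ᵁ D), ∃ b : Γ(Y, D), (f.app D).hom b = (f.app D).hom r * c) :
    Function.Surjective (f.app (Y.basicOpen r)).hom := by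
  haveI := hD.isLocalization_basicOpen r
  haveI := hE.isLocalization_basicOpen (f.app D r)
  rw [hD.app_basicOpen_eq_away_map f hE r, CommRingCat.hom_comp, RingHom.coe_comp]
  refine (ConcreteCategory.bijective_of_isIso _).surjective.comp ?_
  have hcomm : ∀ b, IsLocalization.Away.map Γ(Y, Y.basicOpen r) Γ(X, X.basicOpen (f.app D r))
      (f.app D).hom r (algebraMap _ _ b) = algebraMap _ _ ((f.app D).hom b) := fun b => by
    rw [IsLocalization.Away.map, IsLocalization.map_eq]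
  exact loc_surj (f.app D).hom r _ hcomm hs

theorem inj_app_basicOpen (f : X ⟶ Y) {D : Y.Opens} (hD : IsAffineOpen D)
    (hE : IsAffineOpen (f ⁻¹ᵁ D)) (r : Γ(Y, D))
    (hk : ∀ b ∈ RingHom.ker (f.app D).hom, r * b = 0) :
    Function.Injective (f.app (Y.basicOpen r)).hom := by
  haveI := hD.isLocalization_basicOpen r
  haveI := hE.isLocalization_basicOpen (f.app D r)
  rw [hD.app_basicOpen_eq_away_map f hE r, CommRingCat.hom_comp, RingHom.coe_comp]
  refine (ConcreteCategory.bijective_of_isIso _).injective.comp ?_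
  have hcomm : ∀ b, IsLocalization.Away.map Γ(Y, Y.basicOpen r) Γ(X, X.basicOpen (f.app D r))
      (f.app D).hom r (algebraMap _ _ b) = algebraMap _ _ ((f.app D).hom b) := fun b => by
    rw [IsLocalization.Away.map, IsLocalization.map_eq]
  exact loc_inj (f.app D).hom r _ hcomm hk

theorem restrict_of_le (P : MorphismProperty Scheme.{u}) [IsZariskiLocalAtTarget P] (f : X ⟶ Y)
    {N N' : Y.Opens} (hle : N' ≤ N) (hP : P (f ∣_ N)) : P (f ∣_ N') := by
  have e : N.ι ''ᵁ (N.ι ⁻¹ᵁ N') = N' := by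
    rw [Scheme.Hom.image_preimage_eq_opensRange_inf, Scheme.Opens.opensRange_ι]
    exact inf_eq_right.mpr hle
  have h1 : P (f ∣_ N ∣_ (N.ι ⁻¹ᵁ N')) := IsZariskiLocalAtTarget.restrict hP _
  have h2 : P (f ∣_ (N.ι ''ᵁ (N.ι ⁻¹ᵁ N'))) :=
    (P.arrow_mk_iso_iff (morphismRestrictRestrict f N _)).mp h1
  have : ∀ N'' : Y.Opens, N'' = N' → P (f ∣_ N'') → P (f ∣_ N') := by
    rintro _ rfl h; exact h
  exact this _ e h2

theorem of_cover (P : MorphismProperty Scheme.{u}) [IsZariskiLocalAtTarget P] (f : X ⟶ Y)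
    (W : Y.Opens) (h : ∀ y ∈ W, ∃ N : Y.Opens, y ∈ N ∧ P (f ∣_ N)) : P (f ∣_ W) := by
  apply IsZariskiLocalAtTarget.of_forall_exists_morphismRestrict
  intro x
  obtain ⟨N, hxN, hN⟩ := h x.1 x.2
  refine ⟨W.ι ⁻¹ᵁ N, hxN, ?_⟩
  refine (P.arrow_mk_iso_iff (morphismRestrictRestrict f W _)).mpr ?_
  exact restrict_of_le P f
    (by rw [Scheme.Hom.image_preimage_eq_opensRange_inf]; exact inf_le_right) hN

theorem global_of_local (P : MorphismProperty Scheme.{u}) [IsZariskiLocalAtTarget P]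
    (h : Y ⟶ Z) [IsProper h] (𝓙 : Z.IdealSheafData) (f : X ⟶ Y)
    (hloc : ∀ y ∈ (𝓙.comap h).support, ∃ N : Y.Opens, y ∈ N ∧ P (f ∣_ N)) :
    ∃ U : Z.Opens, (𝓙.support : Set Z) ⊆ U ∧ P (f ∣_ h ⁻¹ᵁ U) := by
  let G : Set Y := {y | ∃ N : Y.Opens, y ∈ N ∧ P (f ∣_ N)}
  have hG : IsOpen G := by
    rw [isOpen_iff_forall_mem_open]
    rintro y ⟨N, hyN, hN⟩
    exact ⟨N, fun y' hy' => ⟨N, hy', hN⟩, N.2, hyN⟩
  have hcl : IsClosed (h '' Gᶜ) := h.isClosedMap _ hG.isClosed_compl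
  refine ⟨⟨(h '' Gᶜ)ᶜ, hcl.isOpen_compl⟩, ?_, ?_⟩
  · intro z hz
    show z ∉ h '' Gᶜ
    rintro ⟨y, hyG, rfl⟩
    apply hyG
    apply hloc
    rw [Scheme.IdealSheafData.support_comap]
    exact hz
  · apply of_cover
    intro y hy
    by_contra hcon
    exact hy ⟨y, hcon, rfl⟩

theorem levels_of_near (P : MorphismProperty Scheme.{u}) [P.IsStableUnderBaseChange]
    (f : X ⟶ Y) (𝓚 : Y.IdealSheafData) (hc : FSch.PowCompat f (𝓚.comap f) 𝓚) (W : Y.Opens)
    (hW : (𝓚.support : Set Y) ⊆ W) (hP : P (f ∣_ W)) (n : ℕ) :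
    P ((FSch.completionMap f (𝓚.comap f) 𝓚 hc : FSch.Hom _ _).app n) := by
  have hpb := Groth.Agent.Helper7.FormalCompl.isPullback_completionMap_comap f 𝓚 hc n
  have hrY : Set.range (FSch.completionToX Y 𝓚 n) ⊆ Set.range W.ι := by
    rw [Scheme.Opens.range_ι]
    rintro _ ⟨a, rfl⟩
    apply hW
    have h1 : (𝓚 ^ (n + 1)).subschemeι a ∈ Set.range (𝓚 ^ (n + 1)).subschemeι := ⟨a, rfl⟩
    rw [Scheme.IdealSheafData.range_subschemeι] at h1
    exact h1
  have hj : IsOpenImmersion.lift W.ι (FSch.completionToX Y 𝓚 n) hrY ≫ W.ι =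
      FSch.completionToX Y 𝓚 n := IsOpenImmersion.lift_fac _ _ _
  have hrX : Set.range (FSch.completionToX X (𝓚.comap f) n) ⊆ Set.range (f ⁻¹ᵁ W).ι := by
    rw [Scheme.Opens.range_ι]
    rintro _ ⟨a, rfl⟩
    show f (FSch.completionToX X (𝓚.comap f) n a) ∈ W
    have h2 : f (FSch.completionToX X (𝓚.comap f) n a) = FSch.completionToX Y 𝓚 n
        (((FSch.completionMap f (𝓚.comap f) 𝓚 hc : FSch.Hom _ _).app n) a) := by
      rw [← Scheme.Hom.comp_apply, ← Scheme.Hom.comp_apply, hpb.w]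
    rw [h2]
    have h3 := hrY ⟨((FSch.completionMap f (𝓚.comap f) 𝓚 hc : FSch.Hom _ _).app n) a, rfl⟩
    rwa [Scheme.Opens.range_ι] at h3
  have hj' : IsOpenImmersion.lift (f ⁻¹ᵁ W).ι (FSch.completionToX X (𝓚.comap f) n) hrX ≫
      (f ⁻¹ᵁ W).ι = FSch.completionToX X (𝓚.comap f) n := IsOpenImmersion.lift_fac _ _ _
  have hsq : IsOpenImmersion.lift (f ⁻¹ᵁ W).ι (FSch.completionToX X (𝓚.comap f) n) hrX ≫
      (f ∣_ W) = (FSch.completionMap f (𝓚.comap f) 𝓚 hc : FSch.Hom _ _).app n ≫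
        IsOpenImmersion.lift W.ι (FSch.completionToX Y 𝓚 n) hrY := by
    rw [← cancel_mono W.ι, Category.assoc, Category.assoc, morphismRestrict_ι, ← Category.assoc,
      hj', hj, hpb.w]
  have hleft : IsPullback
      (IsOpenImmersion.lift (f ⁻¹ᵁ W).ι (FSch.completionToX X (𝓚.comap f) n) hrX)
      ((FSch.completionMap f (𝓚.comap f) 𝓚 hc : FSch.Hom _ _).app n) (f ∣_ W)
      (IsOpenImmersion.lift W.ι (FSch.completionToX Y 𝓚 n) hrY) := by
    refine IsPullback.of_right ?_ hsq (isPullback_morphismRestrict f W).flip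
    rw [hj', hj]
    exact hpb
  exact P.of_isPullback hleft hP

end Geo

/-! ### The local statements -/

section Local

variable {X Y : Scheme.{u}}

section Square

variable (I : X.IdealSheafData) (Kk : Y.IdealSheafData) (f : X ⟶ Y) (H : Kk ≤ I.map f)

theorem preimage_le (D : Y.Opens) :
    (Scheme.IdealSheafData.subschemeMap I Kk f H) ⁻¹ᵁ (Kk.subschemeι ⁻¹ᵁ D) =
      I.subschemeι ⁻¹ᵁ (f ⁻¹ᵁ D) := by
  rw [← Scheme.Hom.comp_preimage, ← Scheme.Hom.comp_preimage,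
    Scheme.IdealSheafData.subschemeMap_subschemeι]

theorem square (D : Y.Opens) (b : Γ(Y, D)) :
    (I.subschemeι.appLE (f ⁻¹ᵁ D)
        ((Scheme.IdealSheafData.subschemeMap I Kk f H) ⁻¹ᵁ (Kk.subschemeι ⁻¹ᵁ D))
        (preimage_le I Kk f H D).le).hom ((f.app D).hom b) =
      ((Scheme.IdealSheafData.subschemeMap I Kk f H).app (Kk.subschemeι ⁻¹ᵁ D)).hom
        ((Kk.subschemeι.app D).hom b) := by
  have e₃ : (Scheme.IdealSheafData.subschemeMap I Kk f H) ⁻¹ᵁ (Kk.subschemeι ⁻¹ᵁ D) ≤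
      (I.subschemeι ≫ f) ⁻¹ᵁ D := by
    rw [Scheme.Hom.comp_preimage]; exact (preimage_le I Kk f H D).le
  have h1 : f.app D ≫ I.subschemeι.appLE (f ⁻¹ᵁ D) _ (preimage_le I Kk f H D).le =
      Kk.subschemeι.app D ≫
        (Scheme.IdealSheafData.subschemeMap I Kk f H).app (Kk.subschemeι ⁻¹ᵁ D) := by
    rw [Scheme.Hom.app_eq_appLE, Scheme.Hom.app_eq_appLE, Scheme.Hom.app_eq_appLE]
    exact (appLE_comp_appLE_of_eq _ _ _ rfl _ _ _ _ _ e₃).trans
      (appLE_comp_appLE_of_eq _ _ _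
        (Scheme.IdealSheafData.subschemeMap_subschemeι I Kk f H) _ _ _ _ _ e₃).symm
  exact congrArg (fun φ => φ.hom b) h1

theorem exists_sub_mem [IsClosedImmersion (Scheme.IdealSheafData.subschemeMap I Kk f H)]
    {D : Y.Opens} (hD : IsAffineOpen D) (hE : IsAffineOpen (f ⁻¹ᵁ D)) (c : Γ(X, f ⁻¹ᵁ D)) :
    ∃ b : Γ(Y, D), c - (f.app D).hom b ∈ I.ideal ⟨f ⁻¹ᵁ D, hE⟩ := by
  have hV := preimage_le I Kk f H D
  obtain ⟨b', hb'⟩ := (Scheme.IdealSheafData.subschemeMap I Kk f H).app_surjective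
    (Kk.subschemeι ⁻¹ᵁ D) (hD.preimage _)
    ((I.subschemeι.appLE (f ⁻¹ᵁ D) _ hV.le).hom c)
  obtain ⟨b, hb⟩ := Kk.subschemeι_app_surjective ⟨D, hD⟩ b'
  refine ⟨b, ?_⟩
  rw [← ker_appLE_eq I hE _ hV, RingHom.mem_ker, map_sub, square I Kk f H D b, sub_eq_zero]
  have hb2 : (Kk.subschemeι.app D).hom b = b' := hb
  rw [hb2]
  exact hb'.symm

theorem ker_le [IsIso (Scheme.IdealSheafData.subschemeMap I Kk f H)]
    {D : Y.Opens} (hD : IsAffineOpen D) :
    RingHom.ker (f.app D).hom ≤ Kk.ideal ⟨D, hD⟩ := by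
  intro b hb
  have h1 := square I Kk f H D b
  rw [(RingHom.mem_ker).mp hb, map_zero] at h1
  have hinj : Function.Injective
      ((Scheme.IdealSheafData.subschemeMap I Kk f H).app (Kk.subschemeι ⁻¹ᵁ D)).hom :=
    ((ConcreteCategory.isIso_iff_bijective _).mp inferInstance).1
  have h2 : (Kk.subschemeι.app D).hom b = 0 := hinj (by rw [← h1, map_zero])
  rw [← Kk.ker_subschemeι_app ⟨D, hD⟩]
  exact h2

theorem fibre_subsingleton [IsClosedImmersion (Scheme.IdealSheafData.subschemeMap I Kk f H)]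
    (hI : (I.support : Set X) = f ⁻¹' (Kk.support : Set Y)) (y : Y) (hy : y ∈ Kk.support) :
    (f ⁻¹' {y}).Subsingleton := by
  intro x₁ h₁ x₂ h₂
  have hx : ∀ x, f x = y → ∃ a, I.subschemeι a = x := by
    intro x hx
    have h0 : x ∈ (I.support : Set X) := by
      rw [hI]; show f x ∈ (Kk.support : Set Y); rw [hx]; exact hy
    rw [← I.range_subschemeι] at h0
    exact h0
  obtain ⟨a₁, rfl⟩ := hx x₁ h₁
  obtain ⟨a₂, rfl⟩ := hx x₂ h₂
  have e : ∀ a, Kk.subschemeι (Scheme.IdealSheafData.subschemeMap I Kk f H a) =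
      f (I.subschemeι a) := by
    intro a
    rw [← Scheme.Hom.comp_apply, ← Scheme.Hom.comp_apply,
      Scheme.IdealSheafData.subschemeMap_subschemeι]
  have h3 : Scheme.IdealSheafData.subschemeMap I Kk f H a₁ =
      Scheme.IdealSheafData.subschemeMap I Kk f H a₂ := by
    apply Kk.subschemeι.isClosedEmbedding.injective
    rw [e, e]; exact h₁.trans h₂.symm
  exact congrArg _ ((Scheme.IdealSheafData.subschemeMap I Kk f H).isClosedEmbedding.injective h3)

theorem local_setup [IsProper f]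
    [IsClosedImmersion (Scheme.IdealSheafData.subschemeMap I Kk f H)]
    (hI : (I.support : Set X) = f ⁻¹' (Kk.support : Set Y)) (y : Y) (hy : y ∈ Kk.support) :
    ∃ (D : Y.Opens) (_ : IsAffineOpen D) (_ : IsAffineOpen (f ⁻¹ᵁ D)),
      y ∈ D ∧ (f.app D).hom.Finite := by
  obtain ⟨V, hyV, hfinV⟩ := exists_isFinite_morphismRestrict_of_finite_preimage_singleton f y
    (fibre_subsingleton I Kk f H hI y hy).finite
  obtain ⟨_, ⟨D, hD, rfl⟩, hyD, hDV⟩ :=
    Y.isBasis_affineOpens.exists_subset_of_mem_open hyV V.2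
  have hfinD : IsFinite (f ∣_ D) := restrict_of_le @IsFinite f hDV hfinV
  haveI : IsAffine D := hD
  have hE : IsAffineOpen (f ⁻¹ᵁ D) := isAffine_of_isAffineHom (f ∣_ D)
  exact ⟨D, hD, hE, hyD, finite_app_of_isFinite_restrict f D hD hfinD⟩

end Square

variable (𝓚 : Y.IdealSheafData) (f : X ⟶ Y)

theorem support_eq (n : ℕ) :
    ((((𝓚.comap f) ^ (n + 1)).support : Closeds X) : Set X) =
      f ⁻¹' (((𝓚 ^ (n + 1)).support : Closeds Y) : Set Y) := by
  rw [Scheme.IdealSheafData.support_pow_succ, Scheme.IdealSheafData.support_pow_succ,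
    Scheme.IdealSheafData.support_comap]
  rfl

theorem ideal_level_zero {D : Y.Opens} (hD : IsAffineOpen D) (hE : IsAffineOpen (f ⁻¹ᵁ D)) :
    ((𝓚.comap f) ^ (0 + 1)).ideal ⟨f ⁻¹ᵁ D, hE⟩ = (𝓚.ideal ⟨D, hD⟩).map (f.app D).hom := by
  rw [Scheme.IdealSheafData.ideal_pow, Pi.pow_apply, zero_add, pow_one,
    Groth.Agent.Helper7.FormalCompl.ideal_comap_eq_map f 𝓚 D hD (f ⁻¹ᵁ D) hE le_rfl,
    Scheme.Hom.appLE_eq_app]

theorem mem_basicOpen_of_sub_one_mem {D : Y.Opens} (hD : IsAffineOpen D) (y : Y) (hyD : y ∈ D)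
    (hy : y ∈ 𝓚.support) (r : Γ(Y, D)) (hr : r - 1 ∈ 𝓚.ideal ⟨D, hD⟩) : y ∈ Y.basicOpen r := by
  have hKp : 𝓚.ideal ⟨D, hD⟩ ≤ (hD.primeIdealOf ⟨y, hyD⟩).asIdeal :=
    (Groth.Agent.Lead.FittSh.mem_support_iff_le 𝓚 hD ⟨y, hyD⟩).1 hy
  have h1 := (Groth.Agent.Lead.SD.mem_basicOpen_iff hD ⟨y, hyD⟩ r).2
  apply h1
  intro hrp
  apply (hD.primeIdealOf ⟨y, hyD⟩).isPrime.ne_top
  rw [Ideal.eq_top_iff_one]
  have := sub_mem hrp (hKp hr)
  rwa [sub_sub_cancel] at this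

theorem local_cl [IsProper f] (H0 : 𝓚 ^ (0 + 1) ≤ ((𝓚.comap f) ^ (0 + 1)).map f)
    (h0 : IsClosedImmersion (Scheme.IdealSheafData.subschemeMap ((𝓚.comap f) ^ (0 + 1))
      (𝓚 ^ (0 + 1)) f H0)) (y : Y) (hy : y ∈ 𝓚.support) :
    ∃ N : Y.Opens, y ∈ N ∧ IsClosedImmersion (f ∣_ N) := by
  obtain ⟨D, hD, hE, hyD, hfin⟩ := local_setup _ _ f H0 (support_eq 𝓚 f 0) y hy
  have hsurj : ∀ c : Γ(X, f ⁻¹ᵁ D), ∃ b : Γ(Y, D),
      c - (f.app D).hom b ∈ (𝓚.ideal ⟨D, hD⟩).map (f.app D).hom := fun c => by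
    obtain ⟨b, hb⟩ := exists_sub_mem _ _ f H0 hD hE c
    rw [ideal_level_zero 𝓚 f hD hE] at hb
    exact ⟨b, hb⟩
  obtain ⟨r, hr1, hr2⟩ := exists_mul_mem_range (f.app D).hom hfin (𝓚.ideal ⟨D, hD⟩) hsurj
  exact ⟨Y.basicOpen r, mem_basicOpen_of_sub_one_mem 𝓚 hD y hyD hy r hr1,
    isClosedImmersion_restrict f _ (hD.basicOpen r) (preimage_basicOpen_affine f hE r)
      (surj_app_basicOpen f hD hE r hr2)⟩

theorem local_iso [IsLocallyNoetherian Y] [IsProper f]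
    (Hn : ∀ n : ℕ, 𝓚 ^ (n + 1) ≤ ((𝓚.comap f) ^ (n + 1)).map f)
    (hn : ∀ n : ℕ, IsIso (Scheme.IdealSheafData.subschemeMap ((𝓚.comap f) ^ (n + 1))
      (𝓚 ^ (n + 1)) f (Hn n))) (y : Y) (hy : y ∈ 𝓚.support) :
    ∃ N : Y.Opens, y ∈ N ∧ IsIso (f ∣_ N) := by
  haveI := hn 0
  obtain ⟨D, hD, hE, hyD, hfin⟩ := local_setup _ _ f (Hn 0) (support_eq 𝓚 f 0) y hy
  haveI : IsNoetherianRing Γ(Y, D) := IsLocallyNoetherian.component_noetherian ⟨D, hD⟩
  have hsurj : ∀ c : Γ(X, f ⁻¹ᵁ D), ∃ b : Γ(Y, D),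
      c - (f.app D).hom b ∈ (𝓚.ideal ⟨D, hD⟩).map (f.app D).hom := fun c => by
    obtain ⟨b, hb⟩ := exists_sub_mem _ _ f (Hn 0) hD hE c
    rw [ideal_level_zero 𝓚 f hD hE] at hb
    exact ⟨b, hb⟩
  obtain ⟨r₁, hr1, hr2⟩ := exists_mul_mem_range (f.app D).hom hfin (𝓚.ideal ⟨D, hD⟩) hsurj
  have hker : ∀ n : ℕ, RingHom.ker (f.app D).hom ≤ (𝓚.ideal ⟨D, hD⟩) ^ (n + 1) := fun n => by
    haveI := hn n
    exact ker_le _ _ f (Hn n) hD
  obtain ⟨r₂, hs1, hs2⟩ := exists_mul_ker_eq_zero (f.app D).hom (𝓚.ideal ⟨D, hD⟩) hker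
  have hr : r₁ * r₂ - 1 ∈ 𝓚.ideal ⟨D, hD⟩ := by
    have : r₁ * r₂ - 1 = r₁ * (r₂ - 1) + (r₁ - 1) := by ring
    rw [this]
    exact add_mem (Ideal.mul_mem_left _ _ hs1) hr1
  have hs : ∀ c : Γ(X, f ⁻¹ᵁ D), ∃ b : Γ(Y, D),
      (f.app D).hom b = (f.app D).hom (r₁ * r₂) * c := fun c => by
    obtain ⟨b, hb⟩ := hr2 c
    exact ⟨r₂ * b, by rw [map_mul, map_mul, hb]; ring⟩
  have hk : ∀ b ∈ RingHom.ker (f.app D).hom, r₁ * r₂ * b = 0 := fun b hb => by
    rw [mul_assoc, hs2 b hb, mul_zero]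
  exact ⟨Y.basicOpen (r₁ * r₂), mem_basicOpen_of_sub_one_mem 𝓚 hD y hyD hy _ hr,
    isIso_restrict f _ (hD.basicOpen _) (preimage_basicOpen_affine f hE _)
      ⟨inj_app_basicOpen f hD hE _ hk, surj_app_basicOpen f hD hE _ hs⟩⟩

end Local

/-! ### The main statements -/

section Main

variable {X Y Z : Scheme.{u}}

theorem main_cl [IsLocallyNoetherian Z] (g : X ⟶ Z) (h : Y ⟶ Z) [IsProper g] [IsProper h]
    (f : X ⟶ Y) (w : f ≫ h = g) (𝓙 : Z.IdealSheafData)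
    (hc : FSch.PowCompat f (𝓙.comap g) (𝓙.comap h)) :
    (∀ n : ℕ, IsClosedImmersion
        ((FSch.completionMap f (𝓙.comap g) (𝓙.comap h) hc : FSch.Hom _ _).app n)) ↔
      ∃ U : Z.Opens, (𝓙.support : Set Z) ⊆ U ∧ IsClosedImmersion (f ∣_ h ⁻¹ᵁ U) := by
  have e : 𝓙.comap g = (𝓙.comap h).comap f := by
    rw [← w, Scheme.IdealSheafData.comap_comp]
  haveI : IsProper (f ≫ h) := by rw [w]; infer_instance
  haveI : IsProper f := IsProper.of_comp f h
  revert hc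
  rw [e]
  intro hc
  constructor
  · intro hn
    apply global_of_local @IsClosedImmersion h 𝓙 f
    intro y hy
    exact local_cl (𝓙.comap h) f (Scheme.IdealSheafData.le_map_iff_comap_le.mpr (hc 0)) (hn 0) y hy
  · rintro ⟨U, hU, hP⟩ n
    refine levels_of_near @IsClosedImmersion f (𝓙.comap h) hc (h ⁻¹ᵁ U) ?_ hP n
    intro y hy
    rw [Scheme.IdealSheafData.support_comap] at hy
    exact hU hy

theorem main_iso [IsLocallyNoetherian Z] (g : X ⟶ Z) (h : Y ⟶ Z) [IsProper g] [IsProper h]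
    (f : X ⟶ Y) (w : f ≫ h = g) (𝓙 : Z.IdealSheafData)
    (hc : FSch.PowCompat f (𝓙.comap g) (𝓙.comap h)) :
    (∀ n : ℕ, IsIso ((FSch.completionMap f (𝓙.comap g) (𝓙.comap h) hc : FSch.Hom _ _).app n)) ↔
      ∃ U : Z.Opens, (𝓙.support : Set Z) ⊆ U ∧ IsIso (f ∣_ h ⁻¹ᵁ U) := by
  have e : 𝓙.comap g = (𝓙.comap h).comap f := by
    rw [← w, Scheme.IdealSheafData.comap_comp]
  haveI : IsProper (f ≫ h) := by rw [w]; infer_instance
  haveI : IsProper f := IsProper.of_comp f h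
  haveI : IsLocallyNoetherian Y := LocallyOfFiniteType.isLocallyNoetherian h
  revert hc
  rw [e]
  intro hc
  constructor
  · intro hn
    obtain ⟨U, hU, hP⟩ := global_of_local (MorphismProperty.isomorphisms Scheme) h 𝓙 f
      (fun y hy => local_iso (𝓙.comap h) f
        (fun n => Scheme.IdealSheafData.le_map_iff_comap_le.mpr (hc n)) hn y hy)
    exact ⟨U, hU, hP⟩
  · rintro ⟨U, hU, hP⟩ n
    refine levels_of_near (MorphismProperty.isomorphisms Scheme) f (𝓙.comap h) hc (h ⁻¹ᵁ U) ?_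
      hP n
    intro y hy
    rw [Scheme.IdealSheafData.support_comap] at hy
    exact hU hy

end Main

end Groth.Agent.Lib.Helper4.ComplNear1
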