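import Mathlib
import Groth.Agent.Lib.Helper4.ComplNear1
import Groth.Agent.Lib.Helper4.ValCritBirational1

/-!
# Proper maps to a flat scheme over a DVR that are isomorphisms over the generic fibre are isomorphisms near DVR points (S19198) (helper4)
-/

set_option backward.isDefEq.respectTransparency.types false
set_option synthInstance.maxHeartbeats 400000
set_option autoImplicit false
set_option linter.unusedSectionVars false
set_option linter.style.haveILetI false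
set_option linter.unusedSimpArgs false
universe u v w
open CategoryTheory CategoryTheory.Limits AlgebraicGeometry TopologicalSpace Opposite

namespace Groth.Agent.Lib.Helper4.DvrSection1

open Groth.Agent.Lib.Helper4.ComplNear1 (restrict_of_le appTop_restrict_iff bijective_respectsIso)

section Gen
variable {X Y : Scheme.{u}}

theorem flat_fromSpecStalk (X : Scheme.{u}) (x : X) : Flat (X.fromSpecStalk x) := by
  obtain ⟨_, ⟨U, hU, rfl⟩, hxU, -⟩ :=
    X.isBasis_affineOpens.exists_subset_of_mem_open (Set.mem_univ x) isOpen_univ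
  rw [← hU.fromSpecStalk_eq_fromSpecStalk hxU]
  unfold IsAffineOpen.fromSpecStalk
  haveI : Flat (Spec.map (X.presheaf.germ U x hxU)) := by
    rw [Flat.SpecMap_iff]
    letI := TopCat.Presheaf.algebra_section_stalk X.presheaf ⟨x, hxU⟩
    haveI := hU.isLocalization_stalk ⟨x, hxU⟩
    exact IsLocalization.flat _ (hU.primeIdealOf ⟨x, hxU⟩).asIdeal.primeCompl
  infer_instance

theorem bijective_app_of_isIso_restrict (f : X ⟶ Y) (N : Y.Opens) (hN : IsIso (f ∣_ N))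
    (O : Y.Opens) (hO : O ≤ N) : Function.Bijective (f.app O).hom := by
  haveI : IsIso (f ∣_ O) := restrict_of_le (MorphismProperty.isomorphisms Scheme) f hO hN
  exact (appTop_restrict_iff bijective_respectsIso f O).mp
    (ConcreteCategory.bijective_of_isIso ((f ∣_ O).app ⊤))

theorem regular_top (R : Type u) [CommRing R] [IsDomain R] (ϖ : R) (hϖ : ϖ ≠ 0) :
    IsSMulRegular Γ(Spec (CommRingCat.of R), ⊤) ((Scheme.ΓSpecIso (CommRingCat.of R)).inv ϖ) := by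
  intro x y hxy
  have h := congrArg (Scheme.ΓSpecIso (CommRingCat.of R)).hom hxy
  simp only [smul_eq_mul, map_mul, Iso.inv_hom_id_apply] at h
  have := mul_left_cancel₀ hϖ h
  exact (ConcreteCategory.bijective_of_isIso (Scheme.ΓSpecIso (CommRingCat.of R)).hom).injective
    this

theorem regular_of_flat {S T : Type u} [CommRing S] [CommRing T] (φ : S →+* T) (hφ : φ.Flat)
    (s : S) (hs : IsSMulRegular S s) : IsSMulRegular T (φ s) := by
  letI := φ.toAlgebra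
  haveI : Module.Flat S T := hφ
  exact hs.of_flat (S := T)

end Gen

section B
variable {R : Type u} [CommRing R] [IsDomain R] {C Z : Scheme.{u}}

theorem isIso_restrict_of_section (πC : C ⟶ Spec (CommRingCat.of R)) (g : Z ⟶ C) [IsSeparated g]
    [Flat (g ≫ πC)] (ϖ : R) (hϖ : ϖ ≠ 0)
    (hgen : IsIso (g ∣_ (πC ⁻¹ᵁ (PrimeSpectrum.basicOpen ϖ))))
    (V : C.Opens) (σ : V.toScheme ⟶ Z) (hσ : σ ≫ g = V.ι) : IsIso (g ∣_ V) := by
  have hr : Set.range σ ⊆ Set.range (g ⁻¹ᵁ V).ι := by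
    rw [Scheme.Opens.range_ι]
    rintro _ ⟨v, rfl⟩
    show g (σ v) ∈ V
    rw [← Scheme.Hom.comp_apply, hσ]
    exact v.2
  let σ' : V.toScheme ⟶ (g ⁻¹ᵁ V).toScheme := IsOpenImmersion.lift (g ⁻¹ᵁ V).ι σ hr
  have hσ'ι : σ' ≫ (g ⁻¹ᵁ V).ι = σ := IsOpenImmersion.lift_fac _ _ _
  have hσ' : σ' ≫ (g ∣_ V) = 𝟙 _ := by
    rw [← cancel_mono V.ι, Category.assoc, morphismRestrict_ι, ← Category.assoc, hσ'ι, hσ,
      Category.id_comp]
  haveI : IsSeparated (g ∣_ V) :=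
    IsZariskiLocalAtTarget.restrict (P := @IsSeparated) (inferInstance : IsSeparated g) V
  haveI : IsClosedImmersion (σ' ≫ g ∣_ V) := by rw [hσ']; infer_instance
  haveI : IsClosedImmersion σ' := IsClosedImmersion.of_comp σ' (g ∣_ V)
  suffices h : IsIso σ' by
    haveI := h
    haveI : IsIso (σ' ≫ g ∣_ V) := by rw [hσ']; infer_instance
    exact IsIso.of_isIso_comp_left σ' (g ∣_ V)
  rw [IsClosedImmersion.isIso_iff_ker_eq_bot]
  let Vη : V.toScheme.Opens := V.ι ⁻¹ᵁ (πC ⁻¹ᵁ (PrimeSpectrum.basicOpen ϖ))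
  have h1 : IsIso (g ∣_ V ∣_ Vη) := by
    have hle : V.ι ''ᵁ Vη ≤ πC ⁻¹ᵁ (PrimeSpectrum.basicOpen ϖ) := by
      rw [Scheme.Hom.image_preimage_eq_opensRange_inf]; exact inf_le_right
    have h2 : IsIso (g ∣_ (V.ι ''ᵁ Vη)) :=
      restrict_of_le (MorphismProperty.isomorphisms Scheme) g hle hgen
    exact ((MorphismProperty.isomorphisms Scheme).arrow_mk_iso_iff
      (morphismRestrictRestrict g V Vη)).mpr h2
  let N : (g ⁻¹ᵁ V).toScheme.Opens := (g ∣_ V) ⁻¹ᵁ Vη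
  have h3 : IsIso (σ' ∣_ N) := by
    have h4 : (σ' ≫ g ∣_ V) ∣_ Vη = σ' ∣_ N ≫ (g ∣_ V ∣_ Vη) :=
      morphismRestrict_comp σ' (g ∣_ V) Vη
    have h5 : IsIso (σ' ≫ g ∣_ V) := by rw [hσ']; infer_instance
    have h6 : IsIso ((σ' ≫ g ∣_ V) ∣_ Vη) :=
      IsZariskiLocalAtTarget.restrict (P := MorphismProperty.isomorphisms Scheme) h5 Vη
    haveI : IsIso (σ' ∣_ N ≫ (g ∣_ V ∣_ Vη)) := by rw [← h4]; exact h6
    haveI := h1
    exact IsIso.of_isIso_comp_right (σ' ∣_ N) (g ∣_ V ∣_ Vη)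
  let q : (g ⁻¹ᵁ V).toScheme ⟶ Spec (CommRingCat.of R) := (g ⁻¹ᵁ V).ι ≫ (g ≫ πC)
  let ϖ' : Γ(Spec (CommRingCat.of R), ⊤) := (Scheme.ΓSpecIso (CommRingCat.of R)).inv ϖ
  have hN : N = (g ⁻¹ᵁ V).toScheme.basicOpen (q.appTop ϖ') := by
    have e1 : N = q ⁻¹ᵁ (PrimeSpectrum.basicOpen ϖ) := by
      show (g ∣_ V) ⁻¹ᵁ (V.ι ⁻¹ᵁ (πC ⁻¹ᵁ _)) = _
      rw [← Scheme.Hom.comp_preimage, morphismRestrict_ι, ← Scheme.Hom.comp_preimage,
        Category.assoc]
    rw [e1, ← basicOpen_eq_of_affine (R := CommRingCat.of R) ϖ, Scheme.preimage_basicOpen_top]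
  ext U : 2
  rw [Scheme.Hom.ker_apply]
  simp only [Scheme.IdealSheafData.ideal_bot, Pi.bot_apply]
  rw [← RingHom.injective_iff_ker_eq_bot, injective_iff_map_eq_zero]
  intro a ha
  let ϖU : Γ((g ⁻¹ᵁ V).toScheme, U.1) :=
    ((g ⁻¹ᵁ V).toScheme.presheaf.map (homOfLE (le_top : U.1 ≤ ⊤)).op).hom (q.appTop ϖ')
  have hO : (g ⁻¹ᵁ V).toScheme.basicOpen ϖU ≤ N := by
    rw [hN, Scheme.basicOpen_res]; exact inf_le_right
  have hbij := bijective_app_of_isIso_restrict σ' N h3 _ hO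
  have ha0 : ((g ⁻¹ᵁ V).toScheme.presheaf.map
      (homOfLE ((g ⁻¹ᵁ V).toScheme.basicOpen_le ϖU)).op).hom a = 0 := by
    apply hbij.injective
    rw [map_zero]
    have nat := σ'.naturality (homOfLE ((g ⁻¹ᵁ V).toScheme.basicOpen_le ϖU)).op
    have h5 := ConcreteCategory.congr_hom nat a
    refine h5.trans ?_
    show (V.toScheme.presheaf.map _).hom ((σ'.app U.1).hom a) = 0
    rw [ha, map_zero]
  obtain ⟨n, e⟩ := exists_pow_mul_eq_zero_of_res_basicOpen_eq_zero_of_isAffineOpen _ U.2 a ϖU ha0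
  have hflat : (q.appLE ⊤ U.1 le_top).hom.Flat :=
    HasRingHomProperty.appLE (P := @Flat) q inferInstance ⟨⊤, isAffineOpen_top _⟩ U le_top
  have hreg : IsSMulRegular Γ((g ⁻¹ᵁ V).toScheme, U.1) ϖU :=
    regular_of_flat _ hflat ϖ' (regular_top R ϖ hϖ)
  exact (hreg.pow n) (show ϖU ^ n * a = ϖU ^ n * 0 by rw [e, mul_zero])

end B

section A
variable {R : Type u} [CommRing R] [IsDomain R] {C Z : Scheme.{u}}

theorem exists_section (πC : C ⟶ Spec (CommRingCat.of R)) [Flat πC] [IsLocallyNoetherian C]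
    (g : Z ⟶ C) [IsProper g] (ϖ : R) (hϖ : ϖ ≠ 0)
    (hgen : IsIso (g ∣_ (πC ⁻¹ᵁ (PrimeSpectrum.basicOpen ϖ)))) (c : C)
    [IsDomain (C.presheaf.stalk c)] [ValuationRing (C.presheaf.stalk c)] :
    ∃ (V : C.Opens) (_ : c ∈ V) (σ : V.toScheme ⟶ Z), σ ≫ g = V.ι := by
  let A : CommRingCat.{u} := C.presheaf.stalk c
  let K : CommRingCat.{u} := CommRingCat.of (FractionRing A)
  let a : A ⟶ K := CommRingCat.ofHom (algebraMap A (FractionRing A))
  have hK : IsField K := Field.toIsField (FractionRing A)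
  have hfr : letI := a.hom.toAlgebra; IsFractionRing A K := by
    have h1 := IsLocalization.map_units (M := nonZeroDivisors A) (FractionRing A)
    have h2 := IsLocalization.surj (M := nonZeroDivisors A) (S := FractionRing A)
    have h3 := fun x y => IsLocalization.exists_of_eq (M := nonZeroDivisors A)
      (S := FractionRing A) (x := x) (y := y)
    letI := a.hom.toAlgebra
    exact { map_units := h1, surj := h2, exists_of_eq := fun {x y} h => h3 x y h }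
  let a₀ : Spec K ⟶ C := Spec.map a ≫ C.fromSpecStalk c
  have hpre : a₀ ⁻¹ᵁ (πC ⁻¹ᵁ (PrimeSpectrum.basicOpen ϖ)) = ⊤ := by
    haveI : Flat (Spec.map a) := by
      rw [Flat.SpecMap_iff]
      exact RingHom.flat_algebraMap_iff.mpr
        (IsLocalization.flat (FractionRing A) (nonZeroDivisors A))
    haveI := flat_fromSpecStalk C c
    haveI : Flat (a₀ ≫ πC) := inferInstance
    rw [← Scheme.Hom.comp_preimage, ← basicOpen_eq_of_affine (R := CommRingCat.of R) ϖ,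
      Scheme.preimage_basicOpen_top]
    apply Scheme.basicOpen_of_isUnit
    have hflat : (a₀ ≫ πC).appTop.hom.Flat := Scheme.Hom.flat_appTop (a₀ ≫ πC)
    have hreg := regular_of_flat _ hflat _ (regular_top R ϖ hϖ)
    let e := (Scheme.ΓSpecIso K).commRingCatIsoToRingEquiv
    haveI : Nontrivial Γ(Spec K, ⊤) := e.symm.injective.nontrivial
    have hne : (a₀ ≫ πC).appTop.hom ((Scheme.ΓSpecIso (CommRingCat.of R)).inv ϖ) ≠ 0 := by
      intro h0
      rw [h0] at hreg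
      have h1 : (1 : Γ(Spec K, ⊤)) = 0 := hreg (by simp)
      exact one_ne_zero h1
    have hne' : e ((a₀ ≫ πC).appTop.hom ((Scheme.ΓSpecIso (CommRingCat.of R)).inv ϖ)) ≠ 0 := by
      intro h0
      exact hne (e.injective (h0.trans (map_zero e).symm))
    exact (isUnit_map_iff e _).mp (IsUnit.mk0 _ hne')
  have hrange : Set.range a₀ ⊆ Set.range (πC ⁻¹ᵁ (PrimeSpectrum.basicOpen ϖ)).ι := by
    rw [Scheme.Opens.range_ι]
    rintro _ ⟨y, rfl⟩
    have : y ∈ a₀ ⁻¹ᵁ (πC ⁻¹ᵁ (PrimeSpectrum.basicOpen ϖ)) := by rw [hpre]; trivial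
    exact this
  let a₁ := IsOpenImmersion.lift (πC ⁻¹ᵁ (PrimeSpectrum.basicOpen ϖ)).ι a₀ hrange
  have ha₁ : a₁ ≫ (πC ⁻¹ᵁ (PrimeSpectrum.basicOpen ϖ)).ι = a₀ := IsOpenImmersion.lift_fac _ _ _
  haveI := hgen
  let i₁ : Spec K ⟶ Z := a₁ ≫ inv (g ∣_ (πC ⁻¹ᵁ (PrimeSpectrum.basicOpen ϖ))) ≫
    (g ⁻¹ᵁ (πC ⁻¹ᵁ (PrimeSpectrum.basicOpen ϖ))).ι
  have hsq : i₁ ≫ g = Spec.map a ≫ C.fromSpecStalk c := by
    simp only [i₁, Category.assoc]
    rw [← morphismRestrict_ι, IsIso.inv_hom_id_assoc, ha₁]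
  obtain ⟨l, hl1, hl2⟩ := Groth.Agent.Lib.Helper4.ValCritBirational1.exists_lift_of_universallyClosed
    g A K hK a hfr i₁ (C.fromSpecStalk c) hsq
  obtain ⟨V, hcV, σ, hσ1, hσ2⟩ := spread_out_of_isGermInjective' (𝟙 C) g l
    (by rw [hl2, Category.comp_id])
  exact ⟨V, hcV, σ, by rw [hσ2, Category.comp_id]⟩

end A

theorem main (R : Type u) [CommRing R] [IsDomain R]
    [IsDiscreteValuationRing R] {C X Z : Scheme.{u}} (πC : C ⟶ Spec (CommRingCat.of R)) [Flat πC]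
    [LocallyOfFiniteType πC] (f : X ⟶ C) [IsProper f] (i : Z ⟶ X) [IsClosedImmersion i]
    [Flat ((i ≫ f) ≫ πC)] (ϖ : R) (hϖ : Irreducible ϖ)
    (hgen : IsIso ((i ≫ f) ∣_ (πC ⁻¹ᵁ (PrimeSpectrum.basicOpen ϖ))))
    (c : C) (hdom : IsDomain (C.presheaf.stalk c)) (hnorm : IsIntegrallyClosed (C.presheaf.stalk c))
    (hdim : ringKrullDim (C.presheaf.stalk c) = 1) :
    ∃ V : C.Opens, c ∈ V ∧ IsIso ((i ≫ f) ∣_ V) := by
  haveI : IsLocallyNoetherian C := LocallyOfFiniteType.isLocallyNoetherian πC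
  haveI : ValuationRing (C.presheaf.stalk c) :=
    Groth.Agent.Lib.Helper4.ValCritBirational1.valuationRing_of_dim_le_one _ hdim.le
  obtain ⟨V, hcV, σ, hσ⟩ := exists_section πC (i ≫ f) ϖ hϖ.ne_zero hgen c
  exact ⟨V, hcV, isIso_restrict_of_section πC (i ≫ f) ϖ hϖ.ne_zero hgen V σ hσ⟩

end Groth.Agent.Lib.Helper4.DvrSection1
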