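import Mathlib
import Groth.Prelude.Def_CInt
import Groth.Agent.Lib.Helper4.DvrSection1

/-!
# Etale / flat / section criterion for a morphism that is an isomorphism over a dense open (S17728) (helper4)
-/

set_option backward.isDefEq.respectTransparency.types false
set_option synthInstance.maxHeartbeats 400000
set_option autoImplicit false
set_option linter.unusedSectionVars false
set_option linter.style.haveILetI false
set_option linter.unusedSimpArgs false
universe u v w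
open CategoryTheory CategoryTheory.Limits AlgebraicGeometry TopologicalSpace Opposite TensorProduct

namespace Groth.Agent.Lib.Helper4.NeronTfae1

section Alg

/-- flat base change of "the common annihilator of the powers of finitely many elements is zero". -/
theorem flat_density {R C : Type*} [CommRing R] [CommRing C] [Algebra R C] [Module.Flat R C]
    {ι : Type*} [Finite ι] (w : ι → R)
    (h : ∀ b : R, (∀ i, ∃ n : ℕ, w i ^ n * b = 0) → b = 0) (c : C)
    (hc : ∀ i, ∃ n : ℕ, w i ^ n • c = 0) : c = 0 := by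
  classical
  haveI := Fintype.ofFinite ι
  choose n hn using hc
  let N := Finset.univ.sup n
  have hN : ∀ i, w i ^ N • c = 0 := by
    intro i
    have hle : n i ≤ N := Finset.le_sup (Finset.mem_univ i)
    obtain ⟨k, hk⟩ := Nat.exists_eq_add_of_le hle
    rw [hk, pow_add, mul_comm, mul_smul, hn i, smul_zero]
  let L : R →ₗ[R] (ι → R) := LinearMap.pi (fun i => LinearMap.mulLeft R (w i ^ N))
  have hL : Function.Injective L := by
    rw [← LinearMap.ker_eq_bot, LinearMap.ker_eq_bot']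
    intro b hb
    apply h b
    intro i
    exact ⟨N, congrFun hb i⟩
  have hLC := Module.Flat.lTensor_preserves_injective_linearMap (M := C) L hL
  have h0 : L.lTensor C (c ⊗ₜ 1) = 0 := by
    apply (TensorProduct.piScalarRight R R C ι).injective
    rw [LinearMap.lTensor_tmul, map_zero, TensorProduct.piScalarRight_apply,
      TensorProduct.piScalarRightHom_tmul]
    ext i
    simp [L, hN i]
  have h1 : c ⊗ₜ[R] (1 : R) = 0 := hLC (by rw [h0, map_zero])
  have := congrArg (TensorProduct.rid R C) h1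
  simpa using this

end Alg

section Tensor
variable (A B : Type u) [CommRing A] [CommRing B] [Algebra A B]

/-- `Spec (B ⊗[A] B)` -/
noncomputable abbrev PP : Scheme.{u} := Spec (CommRingCat.of (B ⊗[A] B))

noncomputable def p₁ : PP A B ⟶ Spec (CommRingCat.of B) :=
  Spec.map (CommRingCat.ofHom Algebra.TensorProduct.includeLeftRingHom)

noncomputable def p₂ : PP A B ⟶ Spec (CommRingCat.of B) :=
  Spec.map (CommRingCat.ofHom
    (Algebra.TensorProduct.includeRight (R := A) (A := B) (B := B)).toRingHom)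


theorem p_comm : p₁ A B ≫ Spec.map (CommRingCat.ofHom (algebraMap A B)) =
    p₂ A B ≫ Spec.map (CommRingCat.ofHom (algebraMap A B)) := by
  unfold p₁ p₂
  rw [← Spec.map_comp, ← Spec.map_comp]
  congr 1
  ext a
  show (algebraMap A B a) ⊗ₜ[A] (1 : B) = (1 : B) ⊗ₜ[A] (algebraMap A B a)
  rw [Algebra.algebraMap_eq_smul_one, TensorProduct.smul_tmul]

instance flat_p₁ [Module.Flat A B] : Flat (p₁ A B) := by
  unfold p₁
  rw [Flat.SpecMap_iff]
  show (Algebra.TensorProduct.includeLeftRingHom : B →+* B ⊗[A] B).Flat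
  exact RingHom.flat_algebraMap_iff.mpr (inferInstance : Module.Flat B (B ⊗[A] B))

theorem tmul_eq_of_p_eq (h : p₁ A B = p₂ A B) (b : B) :
    b ⊗ₜ[A] (1 : B) = (1 : B) ⊗ₜ[A] b := by
  have h1 := Spec.map_injective h
  have h2 := congrArg (fun g => g.hom b) h1
  exact h2

theorem bijective_of_tmul_eq [Module.FaithfullyFlat A B]
    (H : ∀ b : B, b ⊗ₜ[A] (1 : B) = (1 : B) ⊗ₜ[A] b) : Function.Bijective (algebraMap A B) := by
  refine ⟨FaithfulSMul.algebraMap_injective A B, ?_⟩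
  intro b
  have h := Algebra.IsEffective.of_faithfullyFlat A B
  have hb : Algebra.TensorProduct.includeLeftSubRight A B b = 0 := by
    rw [Algebra.TensorProduct.includeLeftSubRight_apply, H b, sub_self]
  obtain ⟨a, ha⟩ := (h b).mp hb
  exact ⟨a, ha⟩

end Tensor

section Geo
variable {X S : Scheme.{u}}

theorem eq_of_comp_eq_of_isIso_restrict (f : X ⟶ S) (U : S.Opens) (hiso : IsIso (f ∣_ U))
    {Q : Scheme.{u}} (a b : Q ⟶ X) (hab : a ≫ f = b ≫ f) (hr : ∀ q : Q, f (a q) ∈ U) :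
    a = b := by
  have ha : Set.range a ⊆ Set.range (f ⁻¹ᵁ U).ι := by
    rw [Scheme.Opens.range_ι]; rintro _ ⟨q, rfl⟩; exact hr q
  have hb : Set.range b ⊆ Set.range (f ⁻¹ᵁ U).ι := by
    rw [Scheme.Opens.range_ι]
    rintro _ ⟨q, rfl⟩
    have h1 := hr q
    have h2 : f (a q) = f (b q) := by
      rw [← Scheme.Hom.comp_apply, ← Scheme.Hom.comp_apply, hab]
    rw [h2] at h1
    exact h1
  let a' := IsOpenImmersion.lift (f ⁻¹ᵁ U).ι a ha
  let b' := IsOpenImmersion.lift (f ⁻¹ᵁ U).ι b hb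
  have ha' : a' ≫ (f ⁻¹ᵁ U).ι = a := IsOpenImmersion.lift_fac _ _ _
  have hb' : b' ≫ (f ⁻¹ᵁ U).ι = b := IsOpenImmersion.lift_fac _ _ _
  have : a' = b' := by
    haveI := hiso
    rw [← cancel_mono (f ∣_ U), ← cancel_mono U.ι, Category.assoc, Category.assoc,
      morphismRestrict_ι, ← Category.assoc, ← Category.assoc, ha', hb', hab]
  rw [← ha', ← hb', this]

theorem injective_ι_appTop {Q : Scheme.{u}} (D : Q.Opens)
    (hD : Function.Injective (Q.presheaf.map (homOfLE (le_top : D ≤ ⊤)).op)) :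
    Function.Injective D.ι.appTop := by
  have key : ∀ (D' : Q.Opens) (e : D' = D) (hle : D' ≤ ⊤),
      Function.Injective (Q.presheaf.map (homOfLE hle).op) := by
    rintro _ rfl hle; exact hD
  have h1 : D.ι ''ᵁ ⊤ = D := by simp
  have h2 : D.ι.appTop = Q.presheaf.map (homOfLE (le_top : D.ι ''ᵁ ⊤ ≤ ⊤)).op := by
    rw [Scheme.Hom.appTop, Scheme.Opens.ι_app]
    rfl
  rw [h2]
  exact key _ h1 _

theorem eq_of_restrict_eq_of_isAffine {Q Y : Scheme.{u}} [IsAffine Y] (a b : Q ⟶ Y) (D : Q.Opens)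
    (hD : Function.Injective (Q.presheaf.map (homOfLE (le_top : D ≤ ⊤)).op))
    (hab : D.ι ≫ a = D.ι ≫ b) : a = b := by
  apply ext_of_isAffine
  ext w
  apply injective_ι_appTop D hD
  have h1 : D.ι.appTop (a.appTop w) = (D.ι ≫ a).appTop w := by
    rw [Scheme.Hom.comp_appTop]; rfl
  have h2 : D.ι.appTop (b.appTop w) = (D.ι ≫ b).appTop w := by
    rw [Scheme.Hom.comp_appTop]; rfl
  rw [h1, h2, hab]

lemma res_res {Z : Scheme.{u}} {A B C : Z.Opens} (i : B ⟶ A) (j : C ⟶ B) (k : C ⟶ A)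
    (s : Γ(Z, A)) :
    Z.presheaf.map j.op (Z.presheaf.map i.op s) = Z.presheaf.map k.op s := by
  rw [← ConcreteCategory.comp_apply, ← Z.presheaf.map_comp]
  rfl

theorem injective_res_preimage_of_flat {P W : Scheme.{u}} [IsAffine P] [IsAffine W]
    [IsNoetherian W] (q : P ⟶ W) [Flat q] (D₀ : W.Opens)
    (hD₀ : Function.Injective (W.presheaf.map (homOfLE (le_top : D₀ ≤ ⊤)).op)) :
    Function.Injective (P.presheaf.map (homOfLE (le_top : q ⁻¹ᵁ D₀ ≤ ⊤)).op) := by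
  have hc : IsCompact (D₀ : Set W) := TopologicalSpace.NoetherianSpace.isCompact _
  obtain ⟨s, hs, hsD⟩ :=
    (isCompact_and_isOpen_iff_finite_and_eq_biUnion_basicOpen (X := W)).mp ⟨hc, D₀.isOpen⟩
  haveI : Finite ↥s := hs.to_subtype
  letI : Algebra Γ(W, ⊤) Γ(P, ⊤) := q.appTop.hom.toAlgebra
  haveI : Module.Flat Γ(W, ⊤) Γ(P, ⊤) := Scheme.Hom.flat_appTop q
  have hle : ∀ i : s, W.basicOpen i.1 ≤ D₀ := by
    intro i x hx
    have : x ∈ (D₀ : Set W) := by rw [hsD]; exact Set.mem_biUnion i.2 hx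
    exact this
  rw [injective_iff_map_eq_zero]
  intro c hc0
  apply flat_density (R := Γ(W, ⊤)) (C := Γ(P, ⊤)) (fun i : s => i.1) ?_ c ?_
  · intro b hb
    apply hD₀
    rw [map_zero]
    apply W.sheaf.eq_of_locally_eq' (fun i : s => W.basicOpen i.1) D₀ (fun i => homOfLE (hle i)) ?_
    · intro i
      show W.presheaf.map _ (W.presheaf.map _ b) = W.presheaf.map _ (0 : Γ(W, D₀))
      rw [map_zero, res_res _ _ (homOfLE (W.basicOpen_le i.1))]
      obtain ⟨n, hn⟩ := hb i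
      have hunit : IsUnit (W.presheaf.map (homOfLE (W.basicOpen_le i.1)).op i.1) :=
        W.toRingedSpace.isUnit_res_basicOpen i.1
      have h3 := congrArg (W.presheaf.map (homOfLE (W.basicOpen_le i.1)).op) hn
      rw [map_mul, map_pow, map_zero] at h3
      exact (hunit.pow n).mul_right_eq_zero.mp h3
    · intro x hx
      have : x ∈ (D₀ : Set W) := hx
      rw [hsD] at this
      obtain ⟨i, hi, hxi⟩ := Set.mem_iUnion₂.mp this
      exact Opens.mem_iSup.2 ⟨⟨i, hi⟩, hxi⟩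
  · intro i
    have hpre : P.basicOpen (q.appTop i.1) ≤ q ⁻¹ᵁ D₀ := by
      rw [← Scheme.preimage_basicOpen_top]
      exact fun p hp => hle i hp
    have h0 : P.presheaf.map (homOfLE (P.basicOpen_le (q.appTop i.1))).op c = 0 := by
      rw [← res_res (homOfLE (le_top : q ⁻¹ᵁ D₀ ≤ ⊤)) (homOfLE hpre) _ c, hc0, map_zero]
    obtain ⟨n, hn⟩ := exists_pow_mul_eq_zero_of_res_basicOpen_eq_zero_of_isAffineOpen _
      (isAffineOpen_top P) c (q.appTop i.1) h0
    exact ⟨n, by rw [Algebra.smul_def, map_pow]; exact hn⟩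

theorem inj_congr {Z : Scheme.{u}} {A A' B B' : Z.Opens} (hA : A' = A) (hB : B' = B)
    (h' : B' ≤ A') (h : B ≤ A)
    (hb : Function.Injective (Z.presheaf.map (homOfLE h).op)) :
    Function.Injective (Z.presheaf.map (homOfLE h').op) := by
  subst hA; subst hB; exact hb

theorem injective_res_opens (f : X ⟶ S) (U : S.Opens)
    (hdense : CInt.IsSchematicallyDense (f ⁻¹ᵁ U)) (W' : X.Opens) :
    Function.Injective (W'.toScheme.presheaf.map
      (homOfLE (le_top : W'.ι ⁻¹ᵁ (f ⁻¹ᵁ U) ≤ ⊤)).op) := by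
  show Function.Injective (X.presheaf.map
    (homOfLE (_ : W'.ι ''ᵁ (W'.ι ⁻¹ᵁ (f ⁻¹ᵁ U)) ≤ W'.ι ''ᵁ ⊤)).op)
  refine inj_congr (by simp) ?_ _ inf_le_left (hdense W')
  rw [Scheme.Hom.image_preimage_eq_opensRange_inf, Scheme.Opens.opensRange_ι]

theorem bijective_stalkMap_of_flat [IsNoetherian S] (f : X ⟶ S) [LocallyOfFiniteType f]
    (U : S.Opens) (hiso : IsIso (f ∣_ U)) (hdense : CInt.IsSchematicallyDense (f ⁻¹ᵁ U)) (x : X)
    (hfl : (f.stalkMap x).hom.Flat) : Function.Bijective (f.stalkMap x).hom := by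
  algebraize [(f.stalkMap x).hom]
  haveI : Module.FaithfullyFlat (S.presheaf.stalk (f x)) (X.presheaf.stalk x) :=
    @Module.FaithfullyFlat.of_flat_of_isLocalHom _ _ _ _ _ _ _ hfl (f.toLRSHom.prop x)
  haveI : Module.Flat (S.presheaf.stalk (f x)) (X.presheaf.stalk x) := hfl
  apply bijective_of_tmul_eq (S.presheaf.stalk (f x)) (X.presheaf.stalk x)
  apply tmul_eq_of_p_eq
  haveI : IsLocallyNoetherian X := LocallyOfFiniteType.isLocallyNoetherian f
  obtain ⟨_, ⟨W' : X.Opens, hW', rfl⟩, hxW', -⟩ :=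
    X.isBasis_affineOpens.exists_subset_of_mem_open (Set.mem_univ x) isOpen_univ
  haveI : IsAffine W'.toScheme := hW'
  haveI : IsNoetherian W'.toScheme := { __ := (inferInstance : IsLocallyNoetherian W'.toScheme) }
  let j' : Spec (X.presheaf.stalk x) ⟶ W'.toScheme := W'.fromSpecStalkOfMem x hxW'
  have hj' : j' ≫ W'.ι = X.fromSpecStalk x := Scheme.Opens.fromSpecStalkOfMem_ι W' x hxW'
  haveI : Flat j' := by
    haveI := Groth.Agent.Lib.Helper4.DvrSection1.flat_fromSpecStalk W'.toScheme ⟨x, hxW'⟩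
    show Flat (Spec.map (inv (W'.ι.stalkMap ⟨x, hxW'⟩)) ≫ W'.toScheme.fromSpecStalk ⟨x, hxW'⟩)
    infer_instance
  let a : PP (S.presheaf.stalk (f x)) (X.presheaf.stalk x) ⟶ W'.toScheme :=
    p₁ (S.presheaf.stalk (f x)) (X.presheaf.stalk x) ≫ j'
  let b : PP (S.presheaf.stalk (f x)) (X.presheaf.stalk x) ⟶ W'.toScheme :=
    p₂ (S.presheaf.stalk (f x)) (X.presheaf.stalk x) ≫ j'
  have hpc : p₁ (S.presheaf.stalk (f x)) (X.presheaf.stalk x) ≫ Spec.map (f.stalkMap x) =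
      p₂ (S.presheaf.stalk (f x)) (X.presheaf.stalk x) ≫ Spec.map (f.stalkMap x) :=
    p_comm (S.presheaf.stalk (f x)) (X.presheaf.stalk x)
  have hcomp : a ≫ W'.ι ≫ f = b ≫ W'.ι ≫ f := by
    simp only [a, b, Category.assoc]
    rw [← Category.assoc j', hj', ← Scheme.SpecMap_stalkMap_fromSpecStalk, ← Category.assoc,
      ← Category.assoc, hpc]
  haveI : Flat a := by
    show Flat (p₁ (S.presheaf.stalk (f x)) (X.presheaf.stalk x) ≫ j')
    infer_instance
  let D₀ : W'.toScheme.Opens := W'.ι ⁻¹ᵁ (f ⁻¹ᵁ U)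
  have hD₀ := injective_res_opens f U hdense W'
  have hD := injective_res_preimage_of_flat a D₀ hD₀
  have hrestr : (a ⁻¹ᵁ D₀).ι ≫ a = (a ⁻¹ᵁ D₀).ι ≫ b := by
    rw [← cancel_mono W'.ι]
    simp only [Category.assoc]
    apply eq_of_comp_eq_of_isIso_restrict f U hiso
    · simp only [Category.assoc, hcomp]
    · intro d
      exact d.2
  have hab : a = b := eq_of_restrict_eq_of_isAffine a b (a ⁻¹ᵁ D₀) hD hrestr
  rw [← cancel_mono (X.fromSpecStalk x), ← hj', ← Category.assoc, ← Category.assoc]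
  exact congrArg (· ≫ W'.ι) hab

theorem section_of_flat [IsNoetherian S] (f : X ⟶ S) [LocallyOfFiniteType f] (U : S.Opens)
    (hiso : IsIso (f ∣_ U)) (hdense : CInt.IsSchematicallyDense (f ⁻¹ᵁ U)) (x : X)
    (hfl : (f.stalkMap x).hom.Flat) :
    ∃ (V : S.Opens) (hV : f x ∈ V) (σ : (V : Scheme.{u}) ⟶ X),
      σ ≫ f = V.ι ∧ σ ⟨f x, hV⟩ = x := by
  have hbij := bijective_stalkMap_of_flat f U hiso hdense x hfl
  haveI : IsIso (f.stalkMap x) := (ConcreteCategory.isIso_iff_bijective _).mpr hbij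
  let l : Spec (S.presheaf.stalk (f x)) ⟶ X := Spec.map (inv (f.stalkMap x)) ≫ X.fromSpecStalk x
  have hl : l ≫ f = S.fromSpecStalk (f x) ≫ 𝟙 S := by
    simp only [l, Category.assoc, Category.comp_id]
    rw [← Scheme.SpecMap_stalkMap_fromSpecStalk, ← Spec.map_comp_assoc, IsIso.hom_inv_id,
      Spec.map_id, Category.id_comp]
  obtain ⟨V, hsV, σ, h1, h2⟩ := spread_out_of_isGermInjective' (𝟙 S) f l hl
  refine ⟨V, hsV, σ, by rw [h2, Category.comp_id], ?_⟩
  have h3 : V.fromSpecStalkOfMem (f x) hsV (IsLocalRing.closedPoint _) = ⟨f x, hsV⟩ := by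
    apply Subtype.ext
    have h4 : (V.fromSpecStalkOfMem (f x) hsV ≫ V.ι) (IsLocalRing.closedPoint _) = f x := by
      rw [Scheme.Opens.fromSpecStalkOfMem_ι, Scheme.fromSpecStalk_closedPoint]
    exact h4
  rw [← h3, ← Scheme.Hom.comp_apply, ← h1]
  simp only [l, Scheme.Hom.comp_apply]
  rw [Spec_closedPoint, Scheme.fromSpecStalk_closedPoint]

theorem flat_of_etale (f : X ⟶ S) (x : X) (W : X.Opens) (hxW : x ∈ W) (hW : Etale (W.ι ≫ f)) :
    (f.stalkMap x).hom.Flat := by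
  haveI := hW
  haveI : Flat (W.ι ≫ f) := inferInstance
  have h1 := Flat.stalkMap (W.ι ≫ f) ⟨x, hxW⟩
  rw [Scheme.Hom.stalkMap_comp] at h1
  have h1' : ((W.ι.stalkMap ⟨x, hxW⟩).hom.comp (f.stalkMap x).hom).Flat := h1
  exact (RingHom.Flat.comp_iff_of_bijective_left
    (ConcreteCategory.bijective_of_isIso (W.ι.stalkMap ⟨x, hxW⟩))).mp h1'

theorem etale_of_section (f : X ⟶ S) (U : S.Opens) (hiso : IsIso (f ∣_ U))
    (hdense : CInt.IsSchematicallyDense (f ⁻¹ᵁ U)) (x : X)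
    (V : S.Opens) (hV : f x ∈ V) (σ : (V : Scheme.{u}) ⟶ X) (hσ : σ ≫ f = V.ι)
    (hσx : σ ⟨f x, hV⟩ = x) :
    ∃ W : X.Opens, x ∈ W ∧ Etale (W.ι ≫ f) := by
  obtain ⟨_, ⟨W' : X.Opens, hW', rfl⟩, hxW', -⟩ :=
    X.isBasis_affineOpens.exists_subset_of_mem_open (Set.mem_univ x) isOpen_univ
  haveI : IsAffine W'.toScheme := hW'
  let V' : V.toScheme.Opens := σ ⁻¹ᵁ W'
  let O : X.Opens := W' ⊓ f ⁻¹ᵁ (V.ι ''ᵁ V')
  have hxO : x ∈ O := by
    refine ⟨hxW', ?_⟩
    show f x ∈ V.ι ''ᵁ V'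
    refine ⟨⟨f x, hV⟩, ?_, rfl⟩
    show σ ⟨f x, hV⟩ ∈ W'
    rw [hσx]; exact hxW'
  have hO2 : ∀ o : O.toScheme, ∃ v : V.toScheme, v ∈ V' ∧ V.ι v = f o.1 := by
    intro o
    obtain ⟨v, hvV', hv⟩ := o.2.2
    exact ⟨v, hvV', hv⟩
  have hrange : Set.range (O.ι ≫ f) ⊆ Set.range V.ι := by
    rw [Scheme.Opens.range_ι]
    rintro _ ⟨o, rfl⟩
    obtain ⟨v, -, hv⟩ := hO2 o
    show f o.1 ∈ V
    rw [← hv]; exact v.2
  let r : O.toScheme ⟶ V.toScheme := IsOpenImmersion.lift V.ι (O.ι ≫ f) hrange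
  have hr : r ≫ V.ι = O.ι ≫ f := IsOpenImmersion.lift_fac _ _ _
  have hrV' : ∀ o : O.toScheme, r o ∈ V' := by
    intro o
    obtain ⟨v, hvV', hv⟩ := hO2 o
    have h1 : V.ι (r o) = f o.1 := by
      rw [← Scheme.Hom.comp_apply, hr]; rfl
    have : r o = v := Subtype.ext (h1.trans hv.symm)
    rw [this]; exact hvV'
  have hcomp : O.ι ≫ f = (r ≫ σ) ≫ f := by rw [Category.assoc, hσ, hr]
  have hra : Set.range O.ι ⊆ Set.range W'.ι := by
    rw [Scheme.Opens.range_ι, Scheme.Opens.range_ι]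
    exact fun o ho => ho.1
  have hrb : Set.range (r ≫ σ) ⊆ Set.range W'.ι := by
    rw [Scheme.Opens.range_ι]
    rintro _ ⟨o, rfl⟩
    exact hrV' o
  let a' : O.toScheme ⟶ W'.toScheme := IsOpenImmersion.lift W'.ι O.ι hra
  let b' : O.toScheme ⟶ W'.toScheme := IsOpenImmersion.lift W'.ι (r ≫ σ) hrb
  have ha' : a' ≫ W'.ι = O.ι := IsOpenImmersion.lift_fac _ _ _
  have hb' : b' ≫ W'.ι = r ≫ σ := IsOpenImmersion.lift_fac _ _ _
  have hD := injective_res_opens f U hdense O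
  have hrestr : (O.ι ⁻¹ᵁ (f ⁻¹ᵁ U)).ι ≫ a' = (O.ι ⁻¹ᵁ (f ⁻¹ᵁ U)).ι ≫ b' := by
    rw [← cancel_mono W'.ι]
    simp only [Category.assoc]
    rw [ha', hb']
    apply eq_of_comp_eq_of_isIso_restrict f U hiso
    · simp only [Category.assoc]; rw [hcomp]; simp only [Category.assoc]
    · intro d
      exact d.2
  have hab : a' = b' := eq_of_restrict_eq_of_isAffine a' b' _ hD hrestr
  have hOι : O.ι = r ≫ σ := by rw [← ha', ← hb', hab]
  -- now `r` is an open immersion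
  let V₁ : V.toScheme.Opens := σ ⁻¹ᵁ O
  have hr1 : Set.range r ⊆ Set.range V₁.ι := by
    rw [Scheme.Opens.range_ι]
    rintro _ ⟨o, rfl⟩
    show σ (r o) ∈ O
    have : σ (r o) = O.ι o := by rw [hOι]; rfl
    rw [this]; exact o.2
  have hs1 : Set.range (V₁.ι ≫ σ) ⊆ Set.range O.ι := by
    rw [Scheme.Opens.range_ι]
    rintro _ ⟨v, rfl⟩
    exact v.2
  let r₁ : O.toScheme ⟶ V₁.toScheme := IsOpenImmersion.lift V₁.ι r hr1
  let σ₁ : V₁.toScheme ⟶ O.toScheme := IsOpenImmersion.lift O.ι (V₁.ι ≫ σ) hs1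
  have hr₁ : r₁ ≫ V₁.ι = r := IsOpenImmersion.lift_fac _ _ _
  have hσ₁ : σ₁ ≫ O.ι = V₁.ι ≫ σ := IsOpenImmersion.lift_fac _ _ _
  have h12 : r₁ ≫ σ₁ = 𝟙 _ := by
    rw [← cancel_mono O.ι, Category.assoc, hσ₁, ← Category.assoc, hr₁, ← hOι, Category.id_comp]
  have h21 : σ₁ ≫ r₁ = 𝟙 _ := by
    rw [← cancel_mono V₁.ι, ← cancel_mono V.ι]
    simp only [Category.assoc, Category.id_comp]
    rw [← Category.assoc r₁, hr₁, hr, ← Category.assoc, hσ₁, Category.assoc, hσ]
  haveI : IsIso r₁ := ⟨σ₁, h12, h21⟩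
  refine ⟨O, hxO, ?_⟩
  have hfin : O.ι ≫ f = r₁ ≫ V₁.ι ≫ V.ι := by
    rw [← Category.assoc, hr₁, hr]
  rw [hfin]
  infer_instance

end Geo

theorem main
    {X S : Scheme.{u}} [IsNoetherian S] (f : X ⟶ S) [LocallyOfFiniteType f]
    (U : S.Opens) (hU : Dense (U : Set S))
    (hiso : IsIso (morphismRestrict f U)) (hdense : CInt.IsSchematicallyDense (f ⁻¹ᵁ U))
    (x : X) :
    List.TFAE [
      ∃ W : X.Opens, x ∈ W ∧ Etale (W.ι ≫ f),
      (f.stalkMap x).hom.Flat,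
      ∃ (V : S.Opens) (hV : f.base x ∈ V) (σ : (V : Scheme.{u}) ⟶ X),
        σ ≫ f = V.ι ∧ σ.base ⟨f.base x, hV⟩ = x] := by
  tfae_have 1 → 2 := by
    rintro ⟨W, hxW, hW⟩
    exact flat_of_etale f x W hxW hW
  tfae_have 2 → 3 := fun hfl => section_of_flat f U hiso hdense x hfl
  tfae_have 3 → 1 := by
    rintro ⟨V, hV, σ, hσ, hσx⟩
    exact etale_of_section f U hiso hdense x V hV σ hσ hσx
  tfae_finish

end Groth.Agent.Lib.Helper4.NeronTfae1
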