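import Mathlib
import Groth.Agent.S2500
import Groth.Agent.Lib.Helper4.GrpShear1
import Groth.Agent.Lib.Helper4.GrpIrr1
import Groth.Agent.Lib.Helper7.GeomFib

/-!
# Identity component of a group scheme over a field is geometrically irreducible (Stacks 047J (3)) (helper4)
-/

set_option backward.isDefEq.respectTransparency.types false
set_option synthInstance.maxHeartbeats 400000
set_option autoImplicit false
set_option linter.unusedSectionVars false
set_option linter.style.haveILetI false
set_option linter.unusedSimpArgs false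
universe u v w
open CategoryTheory CategoryTheory.Limits AlgebraicGeometry TopologicalSpace IsLocalRing Opposite
open MonoidalCategory CartesianMonoidalCategory MonObj GrpObj
open Groth.Agent.Lib.Helper4.GrpShear1 Groth.Agent.Lib.Helper4.GrpIrr1

namespace Groth.Agent.Lib.Helper4.GrpIrr2

variable {K : Type u} [Field K] (G : Over (Spec (CommRingCat.of K))) [GrpObj G]

section
variable (L : Type u) [Field L] [Algebra K L]

/-- the fibre of `G_L → G` over the identity point is the identity point -/
lemma bcπ_preimage_ept : (bcπ G L) ⁻¹' {ept G} = {ept ((bcF L).obj G)} := by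
  obtain ⟨g₀, hg₀⟩ : ∃ g₀, g₀ = Spec.map (CommRingCat.ofHom (algebraMap K L)) := ⟨_, rfl⟩
  have hsq : IsPullback (bcπ G L) ((bcF L).obj G).hom G.hom g₀ := by
    rw [hg₀]; exact IsPullback.of_hasPullback G.hom _
  have w1 : η[(bcF L).obj G].left ≫ ((bcF L).obj G).hom = 𝟙 _ := by
    rw [Over.w]; rfl
  have w2 : η[G].left ≫ G.hom = 𝟙 _ := by
    rw [Over.w]; rfl
  have w3 : η[(bcF L).obj G].left ≫ bcπ G L = g₀ ≫ η[G].left := by
    rw [Functor.obj.η_def, Over.comp_left, Category.assoc]
    have : ((bcF L).map η[G]).left ≫ bcπ G L = pullback.fst _ _ ≫ η[G].left := by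
      simp only [bcπ, bcF, Over.pullback, Over.homMk_left]
      exact pullback.lift_fst _ _ _
    rw [this, ← Category.assoc]
    congr 1
    have c := pullback.condition (f := (𝟙_ (Over (Spec (CommRingCat.of K)))).hom)
      (g := Spec.map (CommRingCat.ofHom (algebraMap K L)))
    have c1 : pullback.fst (𝟙_ (Over (Spec (CommRingCat.of K)))).hom
        (Spec.map (CommRingCat.ofHom (algebraMap K L))) ≫ (𝟙_ (Over (Spec (CommRingCat.of K)))).hom =
        pullback.fst (𝟙_ (Over (Spec (CommRingCat.of K)))).hom
        (Spec.map (CommRingCat.ofHom (algebraMap K L))) := Category.comp_id _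
    rw [c1] at c
    rw [c, ← Category.assoc]
    have c2 := Over.w (Functor.LaxMonoidal.ε (bcF (K := K) L))
    have c3 : ((bcF (K := K) L).obj (𝟙_ (Over (Spec (CommRingCat.of K))))).hom =
      pullback.snd _ _ := rfl
    rw [c3] at c2
    rw [c2, hg₀]
    exact Category.id_comp _
  -- left square is a pullback
  have hleft : IsPullback η[(bcF L).obj G].left g₀ (bcπ G L) η[G].left := by
    refine IsPullback.of_right ?_ w3 hsq.flip
    rw [w1, w2]
    have : IsIso (𝟙 (𝟙_ (Over (Spec (CommRingCat.of K)))).left) :=
      inferInstanceAs (IsIso (𝟙 (Spec (CommRingCat.of K))))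
    have : IsIso (𝟙 (𝟙_ (Over (Spec (CommRingCat.of L)))).left) :=
      inferInstanceAs (IsIso (𝟙 (Spec (CommRingCat.of L))))
    exact IsPullback.of_horiz_isIso ⟨by
      show 𝟙 (Spec (CommRingCat.of L)) ≫ g₀ = g₀ ≫ 𝟙 (Spec (CommRingCat.of K))
      simp⟩
  have hr := Scheme.image_preimage_eq_of_isPullback hleft.flip Set.univ
  rw [Set.preimage_univ, Set.image_univ, Set.image_univ] at hr
  have r1 : Set.range η[G].left = {ept G} := by
    ext y; constructor
    · rintro ⟨t, rfl⟩; exact eta_apply G t
    · rintro rfl; exact ⟨_, rfl⟩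
  have r2 : Set.range η[(bcF L).obj G].left = {ept ((bcF L).obj G)} := by
    ext y; constructor
    · rintro ⟨t, rfl⟩; exact eta_apply _ t
    · rintro rfl; exact ⟨_, rfl⟩
  rw [← r1, ← r2]
  exact hr.symm


lemma isClosedMap_bcπ [Algebra.IsAlgebraic K L] : IsClosedMap (bcπ G L) := by
  have : IsIntegralHom (Spec.map (CommRingCat.ofHom (algebraMap K L))) := by
    rw [IsIntegralHom.SpecMap_iff]
    simp only [CommRingCat.hom_ofHom]
    exact algebraMap_isIntegral_iff.mpr inferInstance
  unfold bcπ
  exact (pullback.fst G.hom (Spec.map (CommRingCat.ofHom (algebraMap K L)))).isClosedMap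

lemma generization_mem_of_uniqComp {X : Type*} [TopologicalSpace X] {x y : X} (hx : UniqComp x)
    {Z : Set X} (hZ : Z ∈ irreducibleComponents X) (hxZ : x ∈ Z) (hy : y ⤳ x) : y ∈ Z := by
  have k : x ∈ irreducibleComponent y :=
    hy.mem_closed isClosed_irreducibleComponent mem_irreducibleComponent
  rw [← hx _ (irreducibleComponent_mem_irreducibleComponents y) _ hZ k hxZ]
  exact mem_irreducibleComponent

theorem preimage_component_eq [IsAlgClosed L] [Algebra.IsAlgebraic K L] (Z₀ : Set G.left)
    (hZ₀ : Z₀ ∈ irreducibleComponents G.left) (he : ept G ∈ Z₀) :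
    (bcπ G L) ⁻¹' Z₀ = irreducibleComponent (ept ((bcF L).obj G)) := by
  apply subset_antisymm
  · intro t ht
    -- component C of G_L through t, generic point ω
    obtain ⟨ω, hω⟩ := QuasiSober.sober (isIrreducible_irreducibleComponent (x := t))
      isClosed_irreducibleComponent
    have hωt : ω ⤳ t := by
      rw [specializes_iff_mem_closure, hω.def]; exact mem_irreducibleComponent
    have h1 : bcπ G L ω ∈ Z₀ :=
      generization_mem_of_uniqComp (uniqComp_all G _) hZ₀ ht (hωt.map (bcπ G L).continuous)
    obtain ⟨ξ, hξ⟩ := QuasiSober.sober hZ₀.1 (isClosed_of_mem_irreducibleComponents _ hZ₀)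
    have h2 : ξ ⤳ bcπ G L ω := by
      rw [specializes_iff_mem_closure, hξ.def]; exact h1
    obtain ⟨ω', hω', hπω'⟩ := (Flat.generalizingMap (bcπ G L)) h2
    -- ω is maximal, so ω' = ω
    have hmax : ω' = ω := by
      have hirr : IsIrreducible (closure {ω'}) := isIrreducible_singleton.closure
      have hsub : irreducibleComponent t ⊆ closure {ω'} := by
        rw [← hω.def]
        exact closure_minimal (Set.singleton_subset_iff.mpr hω'.mem_closure) isClosed_closure
      have heq : closure {ω'} = irreducibleComponent t :=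
        le_antisymm ((irreducibleComponent_mem_irreducibleComponents t).2 hirr hsub) hsub
      have g1 : IsGenericPoint ω' (irreducibleComponent t) := heq
      exact g1.eq hω
    subst hmax
    -- π(C) closed, contains ξ, so contains e
    have hcl : IsClosed (bcπ G L '' irreducibleComponent t) :=
      isClosedMap_bcπ G L _ isClosed_irreducibleComponent
    have hsub : Z₀ ⊆ bcπ G L '' irreducibleComponent t := by
      rw [← hξ.def]
      refine closure_minimal (Set.singleton_subset_iff.mpr ⟨ω', ?_, hπω'⟩) hcl
      rw [← hω.def]; exact subset_closure rfl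
    obtain ⟨c, hc, hce⟩ := hsub he
    have hc' : c ∈ (bcπ G L) ⁻¹' {ept G} := hce
    rw [bcπ_preimage_ept] at hc'
    have hc'' : c = ept ((bcF L).obj G) := hc'
    subst hc''
    rw [← uniqComp_ept ((bcF L).obj G) _ (irreducibleComponent_mem_irreducibleComponents t)
      _ (irreducibleComponent_mem_irreducibleComponents _) hc mem_irreducibleComponent]
    exact mem_irreducibleComponent
  · -- π(Z') irreducible containing e
    have hirr : IsIrreducible (bcπ G L '' irreducibleComponent (ept ((bcF L).obj G))) :=
      isIrreducible_irreducibleComponent.image _ (bcπ G L).continuous.continuousOn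
    obtain ⟨C₀, hC₀, hsub⟩ := exists_mem_irreducibleComponents_subset_of_isIrreducible _ hirr
    have heC : ept G ∈ C₀ := hsub ⟨_, mem_irreducibleComponent, bcπ_ept G L⟩
    have : C₀ = Z₀ := uniqComp_ept G _ hC₀ _ hZ₀ heC he
    subst this
    intro t ht
    exact hsub ⟨t, ht, rfl⟩


end

theorem S7517_main (K : Type u) [Field K] (G : Over (Spec (CommRingCat.of K))) [GrpObj G] (Z : Scheme.{u}) (incl : Z ⟶ G.left) [IsClosedImmersion incl] [IrreducibleSpace Z] (hZ : Set.range ⇑incl ∈ irreducibleComponents ↥G.left) (he : η[G].left (IsLocalRing.closedPoint K) ∈ Set.range ⇑incl) : GeometricallyIrreducible (incl ≫ G.hom) := by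
  obtain ⟨g₀, hg₀⟩ : ∃ g₀, g₀ = Spec.map (CommRingCat.ofHom (algebraMap K (AlgebraicClosure K))) :=
    ⟨_, rfl⟩
  -- W' = pullback incl π is irreducible
  have hW' : IrreducibleSpace ↥(pullback incl (bcπ G (AlgebraicClosure K))) := by
    have hemb := (pullback.snd incl (bcπ G (AlgebraicClosure K))).isEmbedding
    have hr : Set.range (pullback.snd incl (bcπ G (AlgebraicClosure K))) =
        irreducibleComponent (ept ((bcF (AlgebraicClosure K)).obj G)) := by
      rw [Scheme.Pullback.range_snd]
      exact preimage_component_eq G (AlgebraicClosure K) _ hZ he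
    have h3 : IrreducibleSpace (Set.range (pullback.snd incl (bcπ G (AlgebraicClosure K)))) := by
      rw [hr]; exact Subtype.irreducibleSpace isIrreducible_irreducibleComponent
    exact (hemb.toHomeomorph.irreducibleSpace_iff).mpr h3
  have hW : IrreducibleSpace ↥(pullback (incl ≫ G.hom) g₀) := by
    subst hg₀
    have e := pullbackRightPullbackFstIso G.hom
      (Spec.map (CommRingCat.ofHom (algebraMap K (AlgebraicClosure K)))) incl
    exact (e.symm.hom.homeomorph.irreducibleSpace_iff).mpr hW'
  have hgi : GeometricallyIrreducible (pullback.snd (incl ≫ G.hom) g₀) := by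
    rw [hg₀] at hW ⊢
    exact Groth.Agent.S2500.result _
  rw [GeometricallyIrreducible.eq_geometrically] at hgi ⊢
  refine Groth.Agent.Helper7.GeomFib.geometrically_of_isPullback_field (P := (IrreducibleSpace ·)) ?_
    (CommRingCat.ofHom (algebraMap K (AlgebraicClosure K))) (incl ≫ G.hom)
    (pullback.snd (incl ≫ G.hom) g₀) (pullback.fst (incl ≫ G.hom) g₀) ?_ hgi
  · intro L Ω _ _ i Z snd hZ
    have hZ' : IrreducibleSpace ↥(pullback snd (Spec.map (CommRingCat.ofHom i))) := hZ
    exact (pullback.fst snd (Spec.map (CommRingCat.ofHom i))).surjective.irreducibleSpace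
      (pullback.fst snd (Spec.map (CommRingCat.ofHom i))).continuous
  · rw [← hg₀]; exact IsPullback.of_hasPullback _ _

end Groth.Agent.Lib.Helper4.GrpIrr2
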