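import Mathlib
import Groth.Agent.Lib.Helper4.GrpIrr1
import Groth.Agent.Lib.Helper4.GrpIrr2
import Groth.Agent.Lib.Helper4.OpenNoeth1
import Groth.Agent.Lib.Helper6.GrpSch.Closed
import Groth.Agent.Lib.Helper6.GrpSch.Sep

/-!
# Group schemes over a field (no finiteness): closures of quasi-compact opens are open; connected => irreducible; identity component irreducible and quasi-compact (helper4)
-/

set_option backward.isDefEq.respectTransparency.types false
set_option synthInstance.maxHeartbeats 400000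
set_option autoImplicit false
set_option linter.unusedSectionVars false
set_option linter.style.haveILetI false
set_option linter.unusedSimpArgs false
universe u v w
open CategoryTheory CategoryTheory.Limits AlgebraicGeometry TopologicalSpace Opposite
open MonoidalCategory CartesianMonoidalCategory MonObj GrpObj

namespace Groth.Agent.Lib.Helper4.GrpConn1

open Groth.Agent.Lib.Helper4.GrpIrr1 Groth.Agent.Lib.Helper6.GrpSch.Cat
  Groth.Agent.Lib.Helper6.GrpSch.Field Groth.Agent.Lib.Helper6.GrpSch.Closed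

variable {K : Type u} [Field K] (G : Over (Spec (CommRingCat.of K))) [GrpObj G]

instance : Subsingleton (Spec (CommRingCat.of K)) :=
  inferInstanceAs (Subsingleton (PrimeSpectrum K))

/-- the irreducible component of the identity -/
def Z0 : Set G.left := irreducibleComponent (ept G)

lemma ept_mem_Z0 : ept G ∈ Z0 G := mem_irreducibleComponent

lemma isClosed_Z0 : IsClosed (Z0 G) := isClosed_irreducibleComponent

lemma isIrreducible_Z0 : IsIrreducible (Z0 G) := isIrreducible_irreducibleComponent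

/-- any irreducible set containing a point of `Z0` lies in `Z0` -/
lemma subset_Z0_of_irreducible {S : Set G.left} (hS : IsIrreducible S) {u : G.left} (hu : u ∈ S)
    (hu0 : u ∈ Z0 G) : S ⊆ Z0 G := by
  obtain ⟨C, hC, hSC, hmax⟩ := exists_preirreducible S hS.isPreirreducible
  have hCne : C.Nonempty := ⟨u, hSC hu⟩
  have hCmem : C ∈ irreducibleComponents G.left := by
    refine ⟨⟨hCne, hC⟩, ?_⟩
    intro t ht hCt
    exact (hmax t ht.isPreirreducible hCt).le
  have := uniqComp_all G u C hCmem (Z0 G) (irreducibleComponent_mem_irreducibleComponents _)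
    (hSC hu) hu0
  rw [← this]; exact hSC

lemma gen_mem_Z0 {g : G.left} (h : g ⤳ ept G) : g ∈ Z0 G := by
  have hirr : IsIrreducible (closure ({g} : Set G.left)) := isIrreducible_singleton.closure
  have he : ept G ∈ closure ({g} : Set G.left) := by
    rwa [← specializes_iff_mem_closure]
  exact subset_Z0_of_irreducible G hirr he (ept_mem_Z0 G) (subset_closure rfl)


/-- `Z0 × T` is irreducible for irreducible `T` -/
lemma isIrreducible_fst_preimage_Z0 (T : Over (Spec (CommRingCat.of K))) [IrreducibleSpace T.left] :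
    IsIrreducible ((fst G T).left ⁻¹' Z0 G) := by
  obtain ⟨Z', i, hci, hirr, r⟩ := exists_closedImmersion_of_irreducible (Z0 G) (isClosed_Z0 G)
    (isIrreducible_Z0 G)
  have gi : GeometricallyIrreducible (i ≫ G.hom) :=
    Groth.Agent.Lib.Helper4.GrpIrr2.S7517_main K G Z' i
      (by rw [r]; exact irreducibleComponent_mem_irreducibleComponents _)
      (by rw [r]; exact ept_mem_Z0 G)
  obtain ⟨j, hj⟩ : ∃ j : Over.mk (i ≫ G.hom) ⟶ G, j = Over.homMk i rfl := ⟨_, rfl⟩
  have hjl : j.left = i := by rw [hj]; rfl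
  have irrP : IrreducibleSpace (Over.mk (i ≫ G.hom) ⊗ T).left := by
    have : GeometricallyIrreducible (Over.mk (i ≫ G.hom)).hom := gi
    rw [Over.tensorObj_left]
    infer_instance
  have hr : Set.range (j ▷ T).left = (fst G T).left ⁻¹' Z0 G := by
    rw [range_whiskerRight, hjl, r]
  rw [← hr, ← Set.image_univ]
  exact (IrreducibleSpace.isIrreducible_univ _).image _ (j ▷ T).left.continuous.continuousOn

variable {G}

section Pt
variable (x : G.left)

instance : IrreducibleSpace (ptObj G x).left :=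
  inferInstanceAs (IrreducibleSpace (Spec (G.left.residueField x)))

/-- the point `(e, t)` of `G ⊗ T_x` -/
noncomputable def ePt : (G ⊗ ptObj G x).left :=
  (lift (toUnit (ptObj G x) ≫ η[G]) (𝟙 (ptObj G x))).left (Classical.arbitrary _)

/-- the point `(x, t)` of `G ⊗ T_x` -/
noncomputable def xPt : (G ⊗ ptObj G x).left :=
  (lift (ptHom G x) (𝟙 (ptObj G x))).left (Classical.arbitrary _)

lemma fst_ePt : (fst G (ptObj G x)).left (ePt x) = ept G := by
  rw [ePt, ← Scheme.Hom.comp_apply, ← Over.comp_left, lift_fst, Over.comp_left,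
    Scheme.Hom.comp_apply, eta_apply]

lemma fst_xPt : (fst G (ptObj G x)).left (xPt x) = x := by
  rw [xPt, ← Scheme.Hom.comp_apply, ← Over.comp_left, lift_fst]
  exact ptHom_left_apply G x _

/-- `ψ_x : (g, t) ↦ g⁻¹ x(t)` -/
noncomputable def psi : G ⊗ ptObj G x ⟶ G := (twist (ptHom G x)).hom ≫ fst G (ptObj G x)

lemma psi_ePt : (psi x).left (ePt x) = x := by
  rw [psi, ePt, ← Scheme.Hom.comp_apply, ← Over.comp_left]
  have : lift (toUnit (ptObj G x) ≫ η[G]) (𝟙 (ptObj G x)) ≫ (twist (ptHom G x)).hom ≫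
      fst G (ptObj G x) = ptHom G x := by
    have h1 : toUnit (ptObj G x) ≫ η[G] = (1 : ptObj G x ⟶ G) := (Hom.one_def).symm
    rw [h1]
    simp [twist, comp_mul, GrpObj.comp_inv]
  rw [this]
  exact ptHom_left_apply G x _

lemma psi_xPt : (psi x).left (xPt x) = ept G := by
  rw [psi, xPt, ← Scheme.Hom.comp_apply, ← Over.comp_left]
  have : lift (ptHom G x) (𝟙 (ptObj G x)) ≫ (twist (ptHom G x)).hom ≫ fst G (ptObj G x) =
      toUnit (ptObj G x) ≫ η[G] := by
    simp [twist, comp_mul, GrpObj.comp_inv, Hom.one_def]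
  rw [this, Over.comp_left, Scheme.Hom.comp_apply, eta_apply]

instance : Flat (fst G (ptObj G x)).left := by
  rw [Over.fst_left]; infer_instance

instance : Flat (psi x).left := by
  have : IsIso (twist (ptHom G x)).hom.left :=
    inferInstanceAs (IsIso ((Over.forget _).map (twist (ptHom G x)).hom))
  rw [psi, Over.comp_left]; infer_instance

lemma isOpenMap_psi : IsOpenMap (psi x).left := by
  rw [psi, Over.comp_left]
  exact (Groth.Agent.Lib.Helper6.GrpSch.Field.isOpenMap_fst _ _).comp
    (isOpenMap_left_of_iso (twist (ptHom G x)))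

lemma fibMap_fst' (w : (G ⊗ ptObj G x).left) :
    (fst G G).left ((fibMap (ptHom G x)).left w) = (fst G (ptObj G x)).left w :=
  fst_fibMap_apply G x w

lemma fibMap_snd' (w : (G ⊗ ptObj G x).left) :
    (snd G G).left ((fibMap (ptHom G x)).left w) = (psi x).left w := by
  rw [snd_fibMap_apply]; rfl

end Pt


instance : QuasiSeparatedSpace G.left := by
  have : IsSeparated G.hom := Groth.Agent.Lib.Helper6.GrpSch.Sep.isSeparated_of_subsingleton G
  exact quasiSeparatedSpace_of_quasiSeparated G.hom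

/-- points of the closure of a quasi-compact open are specialisations of its points -/
lemma exists_specializes {U : G.left.Opens} (hU : IsCompact (U : Set G.left)) {x : G.left}
    (hx : x ∈ closure (U : Set G.left)) : ∃ u ∈ U, u ⤳ x := by
  have hZ : Topology.IsLocallyConstructible (U : Set G.left) :=
    (hU.isConstructible U.isOpen).isLocallyConstructible
  by_contra hcon
  push Not at hcon
  have h1 : (U : Set G.left)ᶜ ∈ nhds x :=
    Groth.Agent.Lib.Helper4.OpenNoeth1.mem_nhds_of_isLocallyConstructible _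
      (Groth.Agent.Lib.Helper4.OpenNoeth1.isLocallyConstructible_compl hZ) x
      (fun z hz hzZ => hcon z hzZ hz)
  rw [mem_closure_iff_nhds] at hx
  obtain ⟨w, hw1, hw2⟩ := hx _ h1
  exact hw1 hw2

/-- Claim 1: a point of the closure of a quasi-compact open `U` lies in `Z0 · U` -/
lemma claim1 {U : G.left.Opens} (hU : IsCompact (U : Set G.left)) {x : G.left}
    (hx : x ∈ closure (U : Set G.left)) :
    ∃ z : (G ⊗ G).left, (fst G G).left z ∈ Z0 G ∧ (snd G G).left z ∈ U ∧ μ[G].left z = x := by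
  obtain ⟨u, huU, hux⟩ := exists_specializes hU hx
  have hg : GeneralizingMap (psi x).left := Flat.generalizingMap _
  rw [← psi_ePt x] at hux
  obtain ⟨p, hp, hpu⟩ := hg hux
  have h1 : (fst G (ptObj G x)).left p ⤳ ept G := by
    rw [← fst_ePt x]
    exact hp.map (fst G (ptObj G x)).left.continuous
  refine ⟨(fibMap (ptHom G x)).left p, ?_, ?_, mul_fibMap_apply G x p⟩
  · rw [fibMap_fst']; exact gen_mem_Z0 G h1
  · rw [fibMap_snd', hpu]; exact huU

/-- Claim 2: `Z0 · U ⊆ closure U` for any open `U` -/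
lemma claim2 (U : G.left.Opens) (z : (G ⊗ G).left) (h1 : (fst G G).left z ∈ Z0 G)
    (h2 : (snd G G).left z ∈ U) : μ[G].left z ∈ closure (U : Set G.left) := by
  obtain ⟨u, hu⟩ : ∃ u, u = (snd G G).left z := ⟨_, rfl⟩
  have hzr : z ∈ Set.range (G ◁ ptHom G u).left := by
    rw [range_whiskerLeft]
    change (snd G G).left z ∈ Set.range (G.left.fromSpecResidueField u)
    rw [Scheme.range_fromSpecResidueField, ← hu]; rfl
  obtain ⟨w, rfl⟩ := hzr
  have hw1 : (fst G (ptObj G u)).left w ∈ Z0 G := by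
    rw [← Scheme.Hom.comp_apply, ← Over.comp_left, whiskerLeft_fst] at h1
    exact h1
  obtain ⟨χ, hχ⟩ : ∃ χ : G ⊗ ptObj G u ⟶ G, χ = (G ◁ ptHom G u) ≫ μ[G] := ⟨_, rfl⟩
  have hS : IsIrreducible (χ.left '' ((fst G (ptObj G u)).left ⁻¹' Z0 G)) :=
    (isIrreducible_fst_preimage_Z0 G (ptObj G u)).image _ χ.left.continuous.continuousOn
  have hχe : χ.left (ePt u) = u := by
    rw [hχ, ePt, ← Scheme.Hom.comp_apply, ← Over.comp_left]
    have : lift (toUnit (ptObj G u) ≫ η[G]) (𝟙 (ptObj G u)) ≫ (G ◁ ptHom G u) ≫ μ[G] =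
        ptHom G u := by
      rw [← Category.assoc, lift_whiskerLeft, Category.id_comp, MonObj.lift_comp_one_left]
    rw [this]
    exact ptHom_left_apply G u _
  have hu_mem : u ∈ χ.left '' ((fst G (ptObj G u)).left ⁻¹' Z0 G) :=
    ⟨ePt u, by rw [Set.mem_preimage, fst_ePt]; exact ept_mem_Z0 G, hχe⟩
  have hz_mem : μ[G].left ((G ◁ ptHom G u).left w) ∈
      χ.left '' ((fst G (ptObj G u)).left ⁻¹' Z0 G) :=
    ⟨w, hw1, by rw [hχ, Over.comp_left, Scheme.Hom.comp_apply]⟩
  by_contra hcon
  have huU : u ∈ (U : Set G.left) := by rw [hu]; exact h2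
  obtain ⟨y, -, hyU, hyV⟩ := hS.isPreirreducible _ _ U.isOpen
    (isClosed_closure (s := (U : Set G.left))).isOpen_compl ⟨u, hu_mem, huU⟩
    ⟨_, hz_mem, hcon⟩
  exact hyV (subset_closure hyU)


section LTwist
variable {C : Type*} [Category C] [CartesianMonoidalCategory C] {H T' : C} [GrpObj H]

/-- the automorphism `(t, g) ↦ (t, x(t) g)` of `T ⊗ H` -/
def ltwist (x : T' ⟶ H) : T' ⊗ H ≅ T' ⊗ H where
  hom := lift (fst T' H) ((fst T' H ≫ x) * snd T' H)
  inv := lift (fst T' H) ((fst T' H ≫ x)⁻¹ * snd T' H)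
  hom_inv_id := by
    apply CartesianMonoidalCategory.hom_ext
    · simp
    · simp [comp_mul, GrpObj.comp_inv]
  inv_hom_id := by
    apply CartesianMonoidalCategory.hom_ext
    · simp
    · simp [comp_mul, GrpObj.comp_inv]

lemma ltwist_hom_snd (x : T' ⟶ H) : (ltwist x).hom ≫ snd T' H = (x ▷ H) ≫ μ[H] := by
  have h : lift (fst T' H ≫ x) (snd T' H) = x ▷ H := by
    apply CartesianMonoidalCategory.hom_ext <;> simp
  simp [ltwist, Hom.mul_def, h]

end LTwist

/-- the closure of a quasi-compact open subset of a group scheme over a field is open -/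
theorem isOpen_closure_of_isCompact {U : G.left.Opens} (hU : IsCompact (U : Set G.left)) :
    IsOpen (closure (U : Set G.left)) := by
  rw [isOpen_iff_mem_nhds]
  intro x hx
  obtain ⟨p₀, hp1, hp2, hp3⟩ := claim1 hU hx
  obtain ⟨z, hz⟩ : ∃ z, z = (fst G G).left p₀ := ⟨_, rfl⟩
  have hzr : p₀ ∈ Set.range (ptHom G z ▷ G).left := by
    rw [range_whiskerRight]
    change (fst G G).left p₀ ∈ Set.range (G.left.fromSpecResidueField z)
    rw [Scheme.range_fromSpecResidueField, ← hz]; rfl
  obtain ⟨w₀, rfl⟩ := hzr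
  obtain ⟨lam, hlam⟩ : ∃ lam : ptObj G z ⊗ G ⟶ G, lam = (ptHom G z ▷ G) ≫ μ[G] := ⟨_, rfl⟩
  have hopen : IsOpenMap lam.left := by
    rw [hlam, ← ltwist_hom_snd, Over.comp_left]
    exact (Groth.Agent.Lib.Helper6.GrpSch.Field.isOpenMap_snd _ _).comp
      (isOpenMap_left_of_iso (ltwist (ptHom G z)))
  have hN : IsOpen (lam.left '' ((snd (ptObj G z) G).left ⁻¹' (U : Set G.left))) :=
    hopen _ (U.isOpen.preimage (snd (ptObj G z) G).left.continuous)
  refine Filter.mem_of_superset (hN.mem_nhds ?_) ?_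
  · refine ⟨w₀, ?_, ?_⟩
    · rw [Set.mem_preimage]
      rw [← Scheme.Hom.comp_apply, ← Over.comp_left, whiskerRight_snd] at hp2
      exact hp2
    · rw [hlam, Over.comp_left, Scheme.Hom.comp_apply]; exact hp3
  · rintro _ ⟨w, hw, rfl⟩
    rw [hlam, Over.comp_left, Scheme.Hom.comp_apply]
    refine claim2 U _ ?_ ?_
    · rw [← Scheme.Hom.comp_apply, ← Over.comp_left, whiskerRight_fst, Over.comp_left,
        Scheme.Hom.comp_apply, ptHom_left_apply, hz]
      exact hp1
    · rw [← Scheme.Hom.comp_apply, ← Over.comp_left, whiskerRight_snd]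
      exact hw

/-- the closure of a quasi-compact open meeting... : key separation statement -/
lemma not_mem_closure_of_subset_compl {U : G.left.Opens} (hU : IsCompact (U : Set G.left))
    (hUZ : (U : Set G.left) ⊆ (Z0 G)ᶜ) : ept G ∉ closure (U : Set G.left) := by
  intro he
  obtain ⟨u, huU, hue⟩ := exists_specializes hU he
  exact hUZ huU (gen_mem_Z0 G hue)

/-- for `x ∉ Z0` there is a clopen set containing `x` but not the identity -/
lemma exists_clopen_of_not_mem {x : G.left} (hx : x ∉ Z0 G) :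
    ∃ W : Set G.left, IsClopen W ∧ x ∈ W ∧ ept G ∉ W := by
  obtain ⟨_, ⟨V, hV : IsAffineOpen V, rfl⟩, hxV, hVZ⟩ :=
    G.left.isBasis_affineOpens.exists_subset_of_mem_open (show x ∈ (Z0 G)ᶜ from hx)
      (isClosed_Z0 G).isOpen_compl
  have hc : IsCompact (V : Set G.left) := hV.isCompact
  exact ⟨closure (V : Set G.left), ⟨isClosed_closure, isOpen_closure_of_isCompact hc⟩,
    subset_closure hxV, not_mem_closure_of_subset_compl hc hVZ⟩

theorem main_S0348 (K : Type u) [Field K] (G : Over (Spec (CommRingCat.of K))) [GrpObj G]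
    [ConnectedSpace G.left] : IrreducibleSpace G.left := by
  have hall : ∀ x : G.left, x ∈ Z0 G := by
    intro x
    by_contra hx
    obtain ⟨W, hW, hxW, heW⟩ := exists_clopen_of_not_mem hx
    have := hW.eq_univ ⟨x, hxW⟩
    rw [this] at heW
    exact heW (Set.mem_univ _)
  have huniv : (Set.univ : Set G.left) = Z0 G := (Set.eq_univ_of_forall hall).symm
  have : IsIrreducible (Set.univ : Set G.left) := by rw [huniv]; exact isIrreducible_Z0 G
  exact (irreducibleSpace_def _).mpr this


theorem connectedComponent_ept : connectedComponent (ept G) = Z0 G := by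
  apply subset_antisymm
  · intro x hx
    by_contra hx0
    obtain ⟨W, hW, hxW, heW⟩ := exists_clopen_of_not_mem hx0
    have h1 : connectedComponent (ept G) ⊆ Wᶜ := hW.compl.connectedComponent_subset heW
    exact h1 hx hxW
  · exact (isIrreducible_Z0 G).isPreirreducible.isPreconnected.subset_connectedComponent
      (ept_mem_Z0 G)

/-- `Z0 · Z0 ⊆ Z0` -/
lemma mul_mem_Z0 (z : (G ⊗ G).left) (h1 : (fst G G).left z ∈ Z0 G)
    (h2 : (snd G G).left z ∈ Z0 G) : μ[G].left z ∈ Z0 G := by
  obtain ⟨u, hu⟩ : ∃ u, u = (snd G G).left z := ⟨_, rfl⟩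
  have hzr : z ∈ Set.range (G ◁ ptHom G u).left := by
    rw [range_whiskerLeft]
    change (snd G G).left z ∈ Set.range (G.left.fromSpecResidueField u)
    rw [Scheme.range_fromSpecResidueField, ← hu]; rfl
  obtain ⟨w, rfl⟩ := hzr
  have hw1 : (fst G (ptObj G u)).left w ∈ Z0 G := by
    rw [← Scheme.Hom.comp_apply, ← Over.comp_left, whiskerLeft_fst] at h1
    exact h1
  obtain ⟨χ, hχ⟩ : ∃ χ : G ⊗ ptObj G u ⟶ G, χ = (G ◁ ptHom G u) ≫ μ[G] := ⟨_, rfl⟩
  have hS : IsIrreducible (χ.left '' ((fst G (ptObj G u)).left ⁻¹' Z0 G)) :=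
    (isIrreducible_fst_preimage_Z0 G (ptObj G u)).image _ χ.left.continuous.continuousOn
  have hχe : χ.left (ePt u) = u := by
    rw [hχ, ePt, ← Scheme.Hom.comp_apply, ← Over.comp_left]
    have : lift (toUnit (ptObj G u) ≫ η[G]) (𝟙 (ptObj G u)) ≫ (G ◁ ptHom G u) ≫ μ[G] =
        ptHom G u := by
      rw [← Category.assoc, lift_whiskerLeft, Category.id_comp, MonObj.lift_comp_one_left]
    rw [this]
    exact ptHom_left_apply G u _
  have hu_mem : u ∈ χ.left '' ((fst G (ptObj G u)).left ⁻¹' Z0 G) :=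
    ⟨ePt u, by rw [Set.mem_preimage, fst_ePt]; exact ept_mem_Z0 G, hχe⟩
  have hz_mem : μ[G].left ((G ◁ ptHom G u).left w) ∈
      χ.left '' ((fst G (ptObj G u)).left ⁻¹' Z0 G) :=
    ⟨w, hw1, by rw [hχ, Over.comp_left, Scheme.Hom.comp_apply]⟩
  exact subset_Z0_of_irreducible G hS hu_mem (by rw [hu]; exact h2) hz_mem

theorem isCompact_Z0 : IsCompact (Z0 G) := by
  obtain ⟨V, hV, heV, -⟩ := exists_isAffineOpen_mem_and_subset (X := G.left) (U := ⊤)
    (x := ept G) trivial
  have hc := isCompact_fst_preimage_inter_snd_preimage G G hV hV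
  have hcl : IsClosed ((fst G G).left ⁻¹' Z0 G ∩ (snd G G).left ⁻¹' Z0 G) :=
    ((isClosed_Z0 G).preimage (fst G G).left.continuous).inter
      ((isClosed_Z0 G).preimage (snd G G).left.continuous)
  have hA := hc.inter_right hcl
  have himg := hA.image μ[G].left.continuous
  have heq : μ[G].left '' (((fst G G).left ⁻¹' (V : Set G.left) ∩
      (snd G G).left ⁻¹' (V : Set G.left)) ∩
      ((fst G G).left ⁻¹' Z0 G ∩ (snd G G).left ⁻¹' Z0 G)) = Z0 G := by
    apply subset_antisymm
    · rintro _ ⟨z, ⟨-, hz1, hz2⟩, rfl⟩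
      exact mul_mem_Z0 z hz1 hz2
    · intro x hx
      -- the irreducible set F = fst⁻¹ Z0 in G ⊗ T_x
      have hF := isIrreducible_fst_preimage_Z0 G (ptObj G x)
      have ho1 : IsOpen ((fst G (ptObj G x)).left ⁻¹' (V : Set G.left)) :=
        V.isOpen.preimage (fst G (ptObj G x)).left.continuous
      have ho2 : IsOpen ((psi x).left ⁻¹' (V : Set G.left)) :=
        V.isOpen.preimage (psi x).left.continuous
      have hne1 : ((fst G (ptObj G x)).left ⁻¹' Z0 G ∩
          (fst G (ptObj G x)).left ⁻¹' (V : Set G.left)).Nonempty :=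
        ⟨ePt x, by rw [Set.mem_preimage, fst_ePt]; exact ept_mem_Z0 G,
          by rw [Set.mem_preimage, fst_ePt]; exact heV⟩
      have hne2 : ((fst G (ptObj G x)).left ⁻¹' Z0 G ∩
          (psi x).left ⁻¹' (V : Set G.left)).Nonempty :=
        ⟨xPt x, by rw [Set.mem_preimage, fst_xPt]; exact hx,
          by rw [Set.mem_preimage, psi_xPt]; exact heV⟩
      obtain ⟨w, hwF, hw1, hw2⟩ := hF.isPreirreducible _ _ ho1 ho2 hne1 hne2
      -- ψ(F) ⊆ Z0
      have hψF : IsIrreducible ((psi x).left '' ((fst G (ptObj G x)).left ⁻¹' Z0 G)) :=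
        hF.image _ (psi x).left.continuous.continuousOn
      have hψe : ept G ∈ (psi x).left '' ((fst G (ptObj G x)).left ⁻¹' Z0 G) :=
        ⟨xPt x, by rw [Set.mem_preimage, fst_xPt]; exact hx, psi_xPt x⟩
      have hψw : (psi x).left w ∈ Z0 G :=
        subset_Z0_of_irreducible G hψF hψe (ept_mem_Z0 G) ⟨w, hwF, rfl⟩
      refine ⟨(fibMap (ptHom G x)).left w, ⟨⟨?_, ?_⟩, ?_, ?_⟩, mul_fibMap_apply G x w⟩
      · rw [Set.mem_preimage, fibMap_fst']; exact hw1
      · rw [Set.mem_preimage, fibMap_snd']; exact hw2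
      · rw [Set.mem_preimage, fibMap_fst']; exact hwF
      · rw [Set.mem_preimage, fibMap_snd']; exact hψw
  rw [← heq]; exact himg

theorem main_S0355 (K : Type u) [Field K] (G : Over (Spec (CommRingCat.of K))) [GrpObj G] :
    IsIrreducible (connectedComponent (η[G].left (IsLocalRing.closedPoint K))) ∧
      IsCompact (connectedComponent (η[G].left (IsLocalRing.closedPoint K))) := by
  have h := connectedComponent_ept (G := G)
  rw [ept] at h
  rw [h]
  exact ⟨isIrreducible_Z0 G, isCompact_Z0⟩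

end Groth.Agent.Lib.Helper4.GrpConn1
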