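import Mathlib
import Groth.Prelude.Def_AlgGrp

/-!
# Morphisms from anti-affine schemes to affine schemes are constant; unit-preserving maps determined modulo affine part (helper4)
-/

set_option backward.isDefEq.respectTransparency.types false
set_option synthInstance.maxHeartbeats 400000
set_option autoImplicit false
set_option linter.unusedSectionVars false
set_option linter.style.haveILetI false
set_option linter.unusedSimpArgs false
universe u v w
open CategoryTheory CategoryTheory.Limits AlgebraicGeometry TopologicalSpace Opposite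
open MonoidalCategory CartesianMonoidalCategory MonObj GrpObj

namespace Groth.Agent.Lib.Helper4.AntiAffConst1

section AA
variable (k : Type u) [Field k]

/-- a morphism from an anti-affine scheme with a rational point to an affine scheme is constant -/
theorem const_of_antiAffine_of_isAffine (G N : Over (Spec (CommRingCat.of k)))
    (hG : Function.Bijective ((Scheme.ΓSpecIso (CommRingCat.of k)).inv ≫ G.hom.appTop).hom)
    [IsAffine N.left] (e : 𝟙_ (Over (Spec (CommRingCat.of k))) ⟶ G) (d : G ⟶ N) :
    d = toUnit G ≫ e ≫ d := by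
  have hX' : IsIso G.hom.appTop := by
    haveI : IsIso ((Scheme.ΓSpecIso (CommRingCat.of k)).inv ≫ G.hom.appTop) :=
      (ConcreteCategory.isIso_iff_bijective _).2 hG
    exact IsIso.of_isIso_comp_left (Scheme.ΓSpecIso (CommRingCat.of k)).inv _
  have h1 : e.left ≫ G.hom = 𝟙 _ := Over.w e
  have e1 : G.hom.appTop ≫ e.left.appTop = 𝟙 _ := by
    rw [← Scheme.Hom.comp_appTop, h1]; simp
  have e2 : e.left.appTop ≫ G.hom.appTop = 𝟙 _ := by
    rw [← cancel_epi G.hom.appTop, ← Category.assoc, e1, Category.id_comp, Category.comp_id]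
  apply Over.OverMorphism.ext
  apply ext_of_isAffine
  rw [Over.comp_left, Over.comp_left, Scheme.Hom.comp_appTop, Scheme.Hom.comp_appTop]
  have h2 : (toUnit G).left = G.hom := rfl
  rw [h2, Category.assoc, e2, Category.comp_id]

theorem main_S11406 (G H N A : Over (Spec (CommRingCat.of k))) [GrpObj G]
    (hG : Function.Bijective ((Scheme.ΓSpecIso (CommRingCat.of k)).inv ≫ G.hom.appTop).hom)
    [GrpObj H] [GrpObj N] (i : N ⟶ H) [IsAffine N.left] [GrpObj A] (α : H ⟶ A) [IsMonHom α]
    (hker : AlgGrp.IsKernel i α)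
    (f f' : G ⟶ H) (hf : η[G] ≫ f = η[H]) (hf' : η[G] ≫ f' = η[H]) (hα : f ≫ α = f' ≫ α) :
    f = f' := by
  have hd : (f * f'⁻¹) ≫ α = toUnit G ≫ η[A] := by
    rw [MonObj.mul_comp, GrpObj.inv_comp, hα, mul_inv_cancel]
    rfl
  have hd' : hker.lift (f * f'⁻¹) (toUnit G) hd ≫ i = f * f'⁻¹ := hker.lift_fst _ _ _
  have hc := const_of_antiAffine_of_isAffine k G N hG η[G] (hker.lift (f * f'⁻¹) (toUnit G) hd)
  have h1 : f * f'⁻¹ = 1 := by
    rw [← hd', hc, Category.assoc, Category.assoc, hd', MonObj.comp_mul, GrpObj.comp_inv, hf, hf',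
      mul_inv_cancel, MonObj.comp_one]
  exact mul_inv_eq_one.1 h1

end AA

end Groth.Agent.Lib.Helper4.AntiAffConst1
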