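import Mathlib
import Groth.Prelude.Def_AlgGrp
import Groth.Agent.Lib.Helper4.AntiAffRigid1

/-!
# Anti-affineness in extensions of group schemes (Kunneth + fpqc effective epi) (helper4) (helper4)
-/

set_option backward.isDefEq.respectTransparency.types false
set_option synthInstance.maxHeartbeats 400000
set_option autoImplicit false
set_option linter.unusedSectionVars false
set_option linter.style.haveILetI false
set_option linter.unusedSimpArgs false
universe u v w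
open CategoryTheory CategoryTheory.Limits AlgebraicGeometry TopologicalSpace Opposite
open MonoidalCategory CartesianMonoidalCategory MonObj GrpObj

namespace Groth.Agent.Lib.Helper4.AntiAffExt1

variable (k : Type u) [Field k]

theorem isIso_of_bij (G : Over (Spec (CommRingCat.of k)))
    (hG : Function.Bijective ((Scheme.ΓSpecIso (CommRingCat.of k)).inv ≫ G.hom.appTop).hom) :
    IsIso G.hom.appTop := by
  haveI : IsIso ((Scheme.ΓSpecIso (CommRingCat.of k)).inv ≫ G.hom.appTop) :=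
    (ConcreteCategory.isIso_iff_bijective _).2 hG
  exact IsIso.of_isIso_comp_left (Scheme.ΓSpecIso (CommRingCat.of k)).inv _

theorem bij_of_isIso (G : Over (Spec (CommRingCat.of k))) (h : IsIso G.hom.appTop) :
    Function.Bijective ((Scheme.ΓSpecIso (CommRingCat.of k)).inv ≫ G.hom.appTop).hom := by
  haveI := h
  exact (ConcreteCategory.isIso_iff_bijective
    ((Scheme.ΓSpecIso (CommRingCat.of k)).inv ≫ G.hom.appTop)).1 inferInstance

theorem appTop_injective_of_epi {X Y : Scheme.{u}} (f : X ⟶ Y) [Epi f] :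
    Function.Injective f.appTop.hom := by
  haveI : (Scheme.Γ.rightOp).PreservesEpimorphisms :=
    Functor.preservesEpimorphisms_of_adjunction ΓSpec.adjunction
  haveI : Epi (Scheme.Γ.rightOp.map f) := inferInstance
  haveI : Mono (Scheme.Γ.rightOp.map f).unop := inferInstance
  have : Mono f.appTop := ‹Mono (Scheme.Γ.rightOp.map f).unop›
  exact (ConcreteCategory.mono_iff_injective_of_preservesPullback f.appTop).1 this

theorem part1 (G G₂ : Over (Spec (CommRingCat.of k))) (q : G ⟶ G₂) [Surjective q.left] [Flat q.left]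
    (hG : IsIso G.hom.appTop) : IsIso G₂.hom.appTop := by
  haveI := Flat.epi_of_flat_of_surjective q.left
  have hinj := appTop_injective_of_epi q.left
  have hcomp : G.hom.appTop = G₂.hom.appTop ≫ q.left.appTop := by
    rw [← Scheme.Hom.comp_appTop, Over.w q]
  have hb : Function.Bijective G.hom.appTop.hom :=
    (ConcreteCategory.isIso_iff_bijective G.hom.appTop).1 hG
  rw [hcomp] at hb
  have hb' : Function.Bijective (q.left.appTop.hom ∘ G₂.hom.appTop.hom) := by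
    simpa using hb
  apply (ConcreteCategory.isIso_iff_bijective G₂.hom.appTop).2
  refine ⟨Function.Injective.of_comp hb'.injective, fun b => ?_⟩
  obtain ⟨c, hc⟩ := hb'.surjective (q.left.appTop.hom b)
  exact ⟨c, hinj hc⟩

/-- a morphism from `X ⊗ U` (X anti-affine qcqs, U affine) to an affine scheme factors through `snd` -/
theorem factor_snd (X U : Over (Spec (CommRingCat.of k))) [IsAffine U.left] [CompactSpace X.left]
    [QuasiSeparatedSpace X.left]
    (hX : IsIso X.hom.appTop) (s : U ⟶ X ⊗ U) (hs : s ≫ snd X U = 𝟙 U) {W : Scheme.{u}} [IsAffine W]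
    (φ : (X ⊗ U).left ⟶ W) : φ = (snd X U).left ≫ s.left ≫ φ := by
  haveI : Flat U.hom := inferInstance
  haveI := Groth.Agent.Lib.Helper4.AntiAffRigid1.isIso_snd_appTop X U hX
  have e1 : (snd X U).left.appTop ≫ s.left.appTop = 𝟙 _ := by
    rw [← Scheme.Hom.comp_appTop, ← Over.comp_left, hs]; simp
  have e2 : s.left.appTop ≫ (snd X U).left.appTop = 𝟙 _ := by
    rw [← cancel_epi (snd X U).left.appTop, ← Category.assoc, e1, Category.id_comp, Category.comp_id]
  apply ext_of_isAffine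
  rw [Scheme.Hom.comp_appTop, Scheme.Hom.comp_appTop, Category.assoc, e2, Category.comp_id]

/-- two maps from `X ⊗ U` to an affine scheme agreeing along a section of `snd` agree -/
theorem eq_of_section (X U : Over (Spec (CommRingCat.of k))) [IsAffine U.left] [CompactSpace X.left]
    [QuasiSeparatedSpace X.left]
    (hX : IsIso X.hom.appTop) (s : U ⟶ X ⊗ U) (hs : s ≫ snd X U = 𝟙 U) {W : Scheme.{u}} [IsAffine W]
    (φ₁ φ₂ : (X ⊗ U).left ⟶ W) (h : s.left ≫ φ₁ = s.left ≫ φ₂) : φ₁ = φ₂ := by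
  rw [factor_snd k X U hX s hs φ₁, factor_snd k X U hX s hs φ₂, h]

theorem key (G₁ G G₂ : Over (Spec (CommRingCat.of k))) [GrpObj G₁] [GrpObj G] [GrpObj G₂]
    [CompactSpace G₁.left] [QuasiSeparatedSpace G₁.left]
    (i : G₁ ⟶ G) [IsMonHom i] (q : G ⟶ G₂) [IsMonHom q]
    (hex : AlgGrp.IsKernel i q) (h1 : IsIso G₁.hom.appTop)
    {W : Scheme.{u}} [IsAffine W] (φ : G.left ⟶ W)
    {Z : Scheme.{u}} (g₁ g₂ : Z ⟶ G.left) (h : g₁ ≫ q.left = g₂ ≫ q.left) :
    g₁ ≫ φ = g₂ ≫ φ := by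
  have hw : g₁ ≫ G.hom = g₂ ≫ G.hom := by
    rw [← Over.w q, ← Category.assoc, h, Category.assoc]
  let ZO : Over (Spec (CommRingCat.of k)) := Over.mk (g₂ ≫ G.hom)
  let a : ZO ⟶ G := Over.homMk g₁ hw
  let b : ZO ⟶ G := Over.homMk g₂ rfl
  have hab : a ≫ q = b ≫ q := Over.OverMorphism.ext h
  have hd : (a * b⁻¹) ≫ q = toUnit ZO ≫ η[G₂] := by
    rw [MonObj.mul_comp, GrpObj.inv_comp, hab, mul_inv_cancel]
    rfl
  have hn : hex.lift (a * b⁻¹) (toUnit ZO) hd ≫ i = a * b⁻¹ := hex.lift_fst _ _ _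
  obtain ⟨n, hn'⟩ : ∃ n : ZO ⟶ G₁, n = hex.lift (a * b⁻¹) (toUnit ZO) hd := ⟨_, rfl⟩
  rw [← hn'] at hn
  have ha : a = (n ≫ i) * b := by rw [hn, inv_mul_cancel_right]
  -- cover
  let 𝒰 := G.left.affineCover
  apply (𝒰.pullback₁ g₂).hom_ext
  intro (j : 𝒰.I₀)
  let UO : Over (Spec (CommRingCat.of k)) := Over.mk (𝒰.f j ≫ G.hom)
  let uO : UO ⟶ G := Over.homMk (𝒰.f j) rfl
  haveI : IsAffine UO.left := inferInstanceAs (IsAffine (𝒰.X j))
  let ZjO : Over (Spec (CommRingCat.of k)) := Over.mk (pullback.fst g₂ (𝒰.f j) ≫ ZO.hom)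
  let ιO : ZjO ⟶ ZO := Over.homMk (pullback.fst g₂ (𝒰.f j)) rfl
  let bjO : ZjO ⟶ UO := Over.homMk (pullback.snd g₂ (𝒰.f j)) (by
    show pullback.snd g₂ (𝒰.f j) ≫ 𝒰.f j ≫ G.hom = pullback.fst g₂ (𝒰.f j) ≫ g₂ ≫ G.hom
    rw [← Category.assoc, ← pullback.condition, Category.assoc])
  have hb : ιO ≫ b = bjO ≫ uO := Over.OverMorphism.ext pullback.condition
  -- the two maps on G₁ ⊗ UO
  let sU : UO ⟶ G₁ ⊗ UO := lift (toUnit UO ≫ η[G₁]) (𝟙 UO)
  have hs : sU ≫ snd G₁ UO = 𝟙 UO := lift_snd _ _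
  let m₁ : G₁ ⊗ UO ⟶ G := (G₁ ◁ uO) ≫ (i ▷ G) ≫ μ[G]
  let m₂ : G₁ ⊗ UO ⟶ G := (G₁ ◁ uO) ≫ snd G₁ G
  have hm₁ : ∀ {T : Over (Spec (CommRingCat.of k))} (x : T ⟶ G₁) (y : T ⟶ UO),
      lift x y ≫ m₁ = (x ≫ i) * (y ≫ uO) := by
    intro T x y
    show lift x y ≫ (G₁ ◁ uO) ≫ (i ▷ G) ≫ μ[G] = _
    rw [lift_whiskerLeft_assoc, lift_whiskerRight_assoc, Hom.mul_def]
  have hm₂ : ∀ {T : Over (Spec (CommRingCat.of k))} (x : T ⟶ G₁) (y : T ⟶ UO),
      lift x y ≫ m₂ = y ≫ uO := by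
    intro T x y
    show lift x y ≫ (G₁ ◁ uO) ≫ snd G₁ G = _
    rw [lift_whiskerLeft_assoc, lift_snd]
  have hsm₁ : sU ≫ m₁ = uO := by
    rw [hm₁, Category.assoc, IsMonHom.one_hom, ← Hom.one_def, _root_.one_mul, Category.id_comp]
  have hsm₂ : sU ≫ m₂ = uO := by
    rw [hm₂, Category.id_comp]
  have hφ : m₁.left ≫ φ = m₂.left ≫ φ := by
    apply eq_of_section k G₁ UO h1 sU hs
    rw [← Category.assoc, ← Category.assoc, ← Over.comp_left, ← Over.comp_left, hsm₁, hsm₂]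
  -- conclude
  have e1 : ιO ≫ a = lift (ιO ≫ n) bjO ≫ m₁ := by
    rw [hm₁, ha, MonObj.comp_mul, hb, Category.assoc]
  have e2 : ιO ≫ b = lift (ιO ≫ n) bjO ≫ m₂ := by
    rw [hm₂, hb]
  have e1' := congrArg (fun t => t.left ≫ φ) e1
  have e2' := congrArg (fun t => t.left ≫ φ) e2
  simp only [Over.comp_left, Category.assoc] at e1' e2'
  show pullback.fst g₂ (𝒰.f j) ≫ g₁ ≫ φ = pullback.fst g₂ (𝒰.f j) ≫ g₂ ≫ φ
  have e1'' : pullback.fst g₂ (𝒰.f j) ≫ g₁ ≫ φ = (lift (ιO ≫ n) bjO).left ≫ m₁.left ≫ φ := e1'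
  have e2'' : pullback.fst g₂ (𝒰.f j) ≫ g₂ ≫ φ = (lift (ιO ≫ n) bjO).left ≫ m₂.left ≫ φ := e2'
  rw [e1'', e2'', hφ]

theorem part2 (G₁ G G₂ : Over (Spec (CommRingCat.of k))) [GrpObj G₁] [GrpObj G] [GrpObj G₂]
    [CompactSpace G₁.left] [QuasiSeparatedSpace G₁.left]
    (i : G₁ ⟶ G) [IsMonHom i] (q : G ⟶ G₂) [IsMonHom q] [EffectiveEpi q.left]
    (hex : AlgGrp.IsKernel i q) (h1 : IsIso G₁.hom.appTop) (h2 : IsIso G₂.hom.appTop) :
    IsIso G.hom.appTop := by
  let ψ : G₂.left ⟶ Spec Γ(G.left, ⊤) := EffectiveEpi.desc q.left G.left.toSpecΓ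
    (fun g₁ g₂ h => key k G₁ G G₂ i q hex h1 G.left.toSpecΓ g₁ g₂ h)
  have hψ : q.left ≫ ψ = G.left.toSpecΓ := EffectiveEpi.fac _ _ _
  have hψ' : ψ.appTop ≫ q.left.appTop = (Scheme.ΓSpecIso Γ(G.left, ⊤)).hom := by
    rw [← Scheme.Hom.comp_appTop, hψ, Scheme.toSpecΓ_appTop]
  have hcomp : G.hom.appTop = G₂.hom.appTop ≫ q.left.appTop := by
    rw [← Scheme.Hom.comp_appTop, Over.w q]
  have hqs : Function.Surjective q.left.appTop.hom := by
    intro f
    refine ⟨ψ.appTop.hom ((Scheme.ΓSpecIso Γ(G.left, ⊤)).inv.hom f), ?_⟩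
    have := congrArg (fun t => t.hom ((Scheme.ΓSpecIso Γ(G.left, ⊤)).inv.hom f)) hψ'
    simp only [CommRingCat.hom_comp, RingHom.coe_comp, Function.comp_apply] at this
    rw [this]
    exact Iso.inv_hom_id_apply (C := CommRingCat) _ _
  have h2b : Function.Bijective G₂.hom.appTop.hom :=
    (ConcreteCategory.isIso_iff_bijective G₂.hom.appTop).1 h2
  apply (ConcreteCategory.isIso_iff_bijective G.hom.appTop).2
  constructor
  · -- injective via the unit section
    have hη : η[G].left ≫ G.hom = 𝟙 _ := Over.w η[G]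
    have e1 : G.hom.appTop ≫ η[G].left.appTop = 𝟙 _ := by
      rw [← Scheme.Hom.comp_appTop, hη]; simp
    intro x y hxy
    have := congrArg (fun t => η[G].left.appTop.hom t) hxy
    have e1x := congrArg (fun t => t.hom x) e1
    have e1y := congrArg (fun t => t.hom y) e1
    simp only [CommRingCat.hom_comp, RingHom.coe_comp, Function.comp_apply, CommRingCat.hom_id,
      RingHom.id_apply] at e1x e1y
    rw [← e1x, ← e1y]
    exact this
  · intro f
    obtain ⟨b, hb⟩ := hqs f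
    obtain ⟨c, hc⟩ := h2b.surjective b
    refine ⟨c, ?_⟩
    rw [hcomp]
    show q.left.appTop.hom (G₂.hom.appTop.hom c) = f
    rw [hc, hb]

theorem main_S18070 (G₁ G G₂ : Over (Spec (CommRingCat.of k))) [GrpObj G₁] [LocallyOfFiniteType G₁.hom] [QuasiCompact G₁.hom] [ConnectedSpace ↥G₁.left]
    [GrpObj G] [LocallyOfFiniteType G.hom] [QuasiCompact G.hom]
    [GrpObj G₂] [LocallyOfFiniteType G₂.hom] [QuasiCompact G₂.hom] [ConnectedSpace ↥G₂.left]
    (i : G₁ ⟶ G) [IsMonHom i] [IsClosedImmersion i.left] (q : G ⟶ G₂) [IsMonHom q] [Surjective q.left] [Flat q.left]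
    (hex : AlgGrp.IsKernel i q) :
    (Function.Bijective ((Scheme.ΓSpecIso (CommRingCat.of k)).inv ≫ G.hom.appTop).hom → Function.Bijective ((Scheme.ΓSpecIso (CommRingCat.of k)).inv ≫ G₂.hom.appTop).hom) ∧
    (Function.Bijective ((Scheme.ΓSpecIso (CommRingCat.of k)).inv ≫ G₁.hom.appTop).hom → Function.Bijective ((Scheme.ΓSpecIso (CommRingCat.of k)).inv ≫ G₂.hom.appTop).hom → Function.Bijective ((Scheme.ΓSpecIso (CommRingCat.of k)).inv ≫ G.hom.appTop).hom) := by
  refine ⟨fun hG => bij_of_isIso k G₂ (part1 k G G₂ q (isIso_of_bij k G hG)), fun h1 h2 => ?_⟩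
  haveI : IsLocallyNoetherian G₁.left := LocallyOfFiniteType.isLocallyNoetherian G₁.hom
  haveI : IsLocallyNoetherian G₂.left := LocallyOfFiniteType.isLocallyNoetherian G₂.hom
  haveI : CompactSpace G₁.left := (quasiCompact_iff_compactSpace G₁.hom).1 inferInstance
  haveI : QuasiSeparatedSpace G₁.left := inferInstance
  haveI : QuasiSeparatedSpace G₂.left := inferInstance
  haveI : QuasiSeparated G₂.hom := inferInstance
  haveI : QuasiCompact (q.left ≫ G₂.hom) := by rw [Over.w q]; infer_instance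
  haveI : QuasiCompact q.left := QuasiCompact.of_comp q.left G₂.hom
  haveI : EffectiveEpi q.left := inferInstance
  exact bij_of_isIso k G (part2 k G₁ G G₂ i q hex (isIso_of_bij k G₁ h1) (isIso_of_bij k G₂ h2))

end Groth.Agent.Lib.Helper4.AntiAffExt1
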