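import Mathlib
import Groth.Prelude.Def_AlgGrp
import Groth.Agent.Lib.Helper4.AntiAffExt1
import Groth.Agent.Lib.Helper4.AntiAffConst1
import Groth.Agent.Lib.Helper7.GeomConn.SchemeGlue
import Groth.Agent.Lib.Helper7.SmoothBC.GeomRed

/-!
# Constancy of maps from proper quotients to affine groups; automorphisms fixing an affine kernel and a proper quotient (helper4) (helper4)
-/

set_option backward.isDefEq.respectTransparency.types false
set_option synthInstance.maxHeartbeats 400000
set_option autoImplicit false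
set_option linter.unusedSectionVars false
set_option linter.style.haveILetI false
set_option linter.unusedSimpArgs false
universe u v w
open CategoryTheory CategoryTheory.Limits AlgebraicGeometry TopologicalSpace Opposite
open MonoidalCategory CartesianMonoidalCategory MonObj GrpObj

namespace Groth.Agent.Lib.Helper4.ProperQuotConst1

section Alg
variable {k R : Type u} [Field k] [CommRing R] [IsReduced R] [Nontrivial R]

theorem isCoprime_prod (φ : k →+* R) (a x : R) :
    ∀ s : Multiset k, (∀ c ∈ s, IsCoprime x (a - φ c)) →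
      IsCoprime x (s.map (fun c => a - φ c)).prod := by
  intro s
  induction s using Multiset.induction_on with
  | empty => intro _; simpa using isCoprime_one_right
  | cons c s ih =>
    intro h
    rw [Multiset.map_cons, Multiset.prod_cons]
    exact IsCoprime.mul_right (h c (Multiset.mem_cons_self _ _))
      (ih fun c' hc' => h c' (Multiset.mem_cons_of_mem hc'))

theorem exists_eq_of_prod_eq_zero
    (hidem : ∀ e : R, IsIdempotentElem e → e = 0 ∨ e = 1) (φ : k →+* R) (a : R) :
    ∀ s : Multiset k, (s.map (fun c => a - φ c)).prod = 0 → ∃ c ∈ s, a = φ c := by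
  intro s
  induction s using Multiset.induction_on with
  | empty => intro h; simp at h
  | cons c s ih =>
    intro h
    rw [Multiset.map_cons, Multiset.prod_cons] at h
    obtain ⟨P, hP⟩ : ∃ P, P = (s.map (fun c => a - φ c)).prod := ⟨_, rfl⟩
    rw [← hP] at h
    by_cases hcs : c ∈ s
    · have hdvd : (a - φ c) ∣ P := by
        rw [hP]
        exact Multiset.dvd_prod (Multiset.mem_map_of_mem (fun c => a - φ c) hcs)
      obtain ⟨P', hP'⟩ := hdvd
      have h2 : P * P = 0 := by
        calc P * P = P * ((a - φ c) * P') := by rw [← hP']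
          _ = ((a - φ c) * P) * P' := by ring
          _ = 0 := by rw [h, zero_mul]
      have hP0 : P = 0 := IsReduced.eq_zero _ ⟨2, by rw [pow_two]; exact h2⟩
      obtain ⟨c', hc', e⟩ := ih (hP ▸ hP0)
      exact ⟨c', Multiset.mem_cons_of_mem hc', e⟩
    · have hcop : IsCoprime (a - φ c) P := by
        rw [hP]
        apply isCoprime_prod
        intro c' hc'
        have hd : c - c' ≠ 0 := by
          intro h0
          exact hcs ((sub_eq_zero.1 h0) ▸ hc')
        have h1 : φ (c - c')⁻¹ * φ (c - c') = 1 := by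
          rw [← map_mul, inv_mul_cancel₀ hd, map_one]
        rw [map_sub] at h1
        exact ⟨-φ (c - c')⁻¹, φ (c - c')⁻¹, by linear_combination h1⟩
      obtain ⟨u, v, huv⟩ := hcop
      have he : IsIdempotentElem (v * P) := by
        show v * P * (v * P) = v * P
        linear_combination (v * P) * huv - u * v * h
      rcases hidem _ he with h0 | h1
      · have hP0 : P = 0 := by linear_combination (-P) * huv + u * h + P * h0
        obtain ⟨c', hc', e⟩ := ih (hP ▸ hP0)
        exact ⟨c', Multiset.mem_cons_of_mem hc', e⟩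
      · have : a - φ c = 0 := by linear_combination (-(a - φ c)) * h1 + v * h
        exact ⟨c, Multiset.mem_cons_self _ _, sub_eq_zero.1 this⟩

theorem exists_eq_of_isIntegralElem [IsAlgClosed k]
    (hidem : ∀ e : R, IsIdempotentElem e → e = 0 ∨ e = 1) (φ : k →+* R) (a : R)
    (ha : φ.IsIntegralElem a) : ∃ c, φ c = a := by
  obtain ⟨p, hpm, hp⟩ := ha
  have hsplit : p.Splits := IsAlgClosed.splits p
  have hprod := hsplit.eq_prod_roots_of_monic hpm
  rw [hprod, Polynomial.eval₂_multiset_prod, Multiset.map_map] at hp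
  have hp' : (p.roots.map (fun c => a - φ c)).prod = 0 := by
    rw [← hp]
    congr 1
    apply Multiset.map_congr rfl
    intro c _
    simp
  obtain ⟨c, _, hc⟩ := exists_eq_of_prod_eq_zero hidem φ a p.roots hp'
  exact ⟨c, hc.symm⟩

end Alg

variable (k : Type u) [Field k]

/-- global functions on a universally closed quotient of a reduced connected scheme over an
algebraically closed field are constant -/
theorem bij_of_proper_quot [IsAlgClosed k] (G Q : Over (Spec (CommRingCat.of k)))
    [IsReduced G.left] [ConnectedSpace G.left] (q : G ⟶ Q)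
    (hq : Function.Injective q.left.appTop.hom) [UniversallyClosed Q.hom]
    (e : 𝟙_ (Over (Spec (CommRingCat.of k))) ⟶ Q) :
    Function.Bijective ((Scheme.ΓSpecIso (CommRingCat.of k)).inv ≫ Q.hom.appTop).hom := by
  constructor
  · -- injective via the section
    have he : e.left ≫ Q.hom = 𝟙 _ := Over.w e
    have e1 : Q.hom.appTop ≫ e.left.appTop = 𝟙 _ := by
      rw [← Scheme.Hom.comp_appTop, he]; simp
    have hinj : Function.Injective Q.hom.appTop.hom := by
      intro x y hxy
      have := congrArg (fun t => e.left.appTop.hom t) hxy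
      have e1x := congrArg (fun t => t.hom x) e1
      have e1y := congrArg (fun t => t.hom y) e1
      simp only [CommRingCat.hom_comp, RingHom.coe_comp, Function.comp_apply, CommRingCat.hom_id,
        RingHom.id_apply] at e1x e1y
      rw [← e1x, ← e1y]
      exact this
    have hi2 : Function.Injective (Scheme.ΓSpecIso (CommRingCat.of k)).inv.hom :=
      ((ConcreteCategory.isIso_iff_bijective (Scheme.ΓSpecIso (CommRingCat.of k)).inv).1
        inferInstance).injective
    intro x y hxy
    apply hi2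
    apply hinj
    simpa using hxy
  · intro a
    let F := (Scheme.ΓSpecIso (CommRingCat.of k)).inv ≫ Q.hom.appTop
    have hF : F.hom.IsIntegral := by
      apply RingHom.isIntegral_respectsIso.2
        (e := (Scheme.ΓSpecIso (CommRingCat.of k)).symm.commRingCatIsoToRingEquiv)
      exact isIntegral_appTop_of_universallyClosed Q.hom
    obtain ⟨p, hpm, hp⟩ := hF a
    have hcomp : G.hom.appTop = Q.hom.appTop ≫ q.left.appTop := by
      rw [← Scheme.Hom.comp_appTop, Over.w q]
    haveI : Nonempty G.left := inferInstance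
    haveI : Nonempty (⊤ : G.left.Opens) := ⟨⟨Classical.arbitrary _, trivial⟩⟩
    haveI : Nontrivial Γ(G.left, ⊤) := Scheme.component_nontrivial G.left ⊤
    have hidem : ∀ e : Γ(G.left, ⊤), IsIdempotentElem e → e = 0 ∨ e = 1 :=
      Groth.Agent.Helper7.GeomConn.idempotent_trivial_of_connected G.left
    have hint : (q.left.appTop.hom.comp F.hom).IsIntegralElem (q.left.appTop.hom a) := by
      refine ⟨p, hpm, ?_⟩
      rw [← Polynomial.hom_eval₂, hp, map_zero]
    obtain ⟨c, hc⟩ := exists_eq_of_isIntegralElem hidem (q.left.appTop.hom.comp F.hom)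
      (q.left.appTop.hom a) hint
    exact ⟨c, hq hc⟩

theorem mono_of_isKernel {N G Q : Over (Spec (CommRingCat.of k))} [GrpObj Q] (i : N ⟶ G) (q : G ⟶ Q)
    (h : AlgGrp.IsKernel i q) {T : Over (Spec (CommRingCat.of k))} (x y : T ⟶ N)
    (hxy : x ≫ i = y ≫ i) : x = y :=
  IsPullback.hom_ext h hxy (toUnit_unique _ _)

theorem main_S17833 [IsAlgClosed k]
    (G H Q : Over (Spec (CommRingCat.of k))) [GrpObj G] [GrpObj H] [GrpObj Q]
    [Smooth G.hom] [QuasiCompact G.hom] [ConnectedSpace ↥G.left]
    [IsAffine H.left] [IsProper Q.hom]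
    (j : H ⟶ G) [IsMonHom j] (q : G ⟶ Q) [IsMonHom q] [Flat q.left] [Surjective q.left]
    (hker : AlgGrp.IsKernel j q)
    (u : G ≅ G) [IsMonHom u.hom] (hH : j ≫ u.hom = j) (hQ : u.hom ≫ q = q) :
    u.hom = 𝟙 G := by
  haveI : QuasiSeparated Q.hom := inferInstance
  haveI : QuasiCompact (q.left ≫ Q.hom) := by rw [Over.w q]; infer_instance
  haveI : QuasiCompact q.left := QuasiCompact.of_comp q.left Q.hom
  haveI : EffectiveEpi q.left := inferInstance
  haveI : Epi q.left := Flat.epi_of_flat_of_surjective q.left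
  haveI : IsReduced G.left := Groth.Agent.Helper7.SmoothBC.isReduced_of_smooth_over_field k G.hom
  -- φ(g) = u(g) g⁻¹
  obtain ⟨φ, hφdef⟩ : ∃ φ : G ⟶ G, φ = u.hom * (𝟙 G)⁻¹ := ⟨_, rfl⟩
  have hφ : ∀ {T : Over (Spec (CommRingCat.of k))} (a : T ⟶ G), a ≫ φ = (a ≫ u.hom) * a⁻¹ := by
    intro T a
    rw [hφdef, MonObj.comp_mul, GrpObj.comp_inv, Category.comp_id]
  have hφq : φ ≫ q = toUnit G ≫ η[Q] := by
    rw [hφdef, MonObj.mul_comp, GrpObj.inv_comp, hQ, Category.id_comp, mul_inv_cancel]
    rfl
  obtain ⟨ψ, hψ⟩ : ∃ ψ : G ⟶ H, ψ ≫ j = φ := ⟨hker.lift φ (toUnit G) hφq, hker.lift_fst _ _ _⟩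
  -- invariance
  have hinv : ∀ {Z : Scheme.{u}} (g₁ g₂ : Z ⟶ G.left), g₁ ≫ q.left = g₂ ≫ q.left →
      g₁ ≫ ψ.left = g₂ ≫ ψ.left := by
    intro Z g₁ g₂ h
    have hw : g₁ ≫ G.hom = g₂ ≫ G.hom := by
      rw [← Over.w q, ← Category.assoc, h, Category.assoc]
    let ZO : Over (Spec (CommRingCat.of k)) := Over.mk (g₂ ≫ G.hom)
    let a : ZO ⟶ G := Over.homMk g₁ hw
    let b : ZO ⟶ G := Over.homMk g₂ rfl
    have hab : a ≫ q = b ≫ q := Over.OverMorphism.ext h
    have hd : (b⁻¹ * a) ≫ q = toUnit ZO ≫ η[Q] := by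
      rw [MonObj.mul_comp, GrpObj.inv_comp, hab, inv_mul_cancel]
      rfl
    obtain ⟨n, hn⟩ : ∃ n : ZO ⟶ H, n ≫ j = b⁻¹ * a :=
      ⟨hker.lift (b⁻¹ * a) (toUnit ZO) hd, hker.lift_fst _ _ _⟩
    have ha : a = b * (n ≫ j) := by rw [hn, mul_inv_cancel_left]
    have hφab : a ≫ φ = b ≫ φ := by
      rw [hφ a, hφ b, ha, MonObj.mul_comp, Category.assoc, hH]
      group
    have hψab : a ≫ ψ = b ≫ ψ := by
      apply mono_of_isKernel k j q hker
      rw [Category.assoc, Category.assoc, hψ, hφab]
    exact congrArg (fun t => t.left) hψab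
  let ψb : Q.left ⟶ H.left := EffectiveEpi.desc q.left ψ.left (fun g₁ g₂ h => hinv g₁ g₂ h)
  have hψb : q.left ≫ ψb = ψ.left := EffectiveEpi.fac _ _ _
  have hψbw : ψb ≫ H.hom = Q.hom := by
    rw [← cancel_epi q.left, ← Category.assoc, hψb, Over.w ψ, Over.w q]
  let ψO : Q ⟶ H := Over.homMk ψb hψbw
  have hψO : q ≫ ψO = ψ := Over.OverMorphism.ext hψb
  -- Q is anti-affine
  have hQaa : Function.Bijective ((Scheme.ΓSpecIso (CommRingCat.of k)).inv ≫ Q.hom.appTop).hom :=
    bij_of_proper_quot k G Q q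
      (Groth.Agent.Lib.Helper4.AntiAffExt1.appTop_injective_of_epi q.left) η[Q]
  have hconst := Groth.Agent.Lib.Helper4.AntiAffConst1.const_of_antiAffine_of_isAffine k Q H hQaa η[Q] ψO
  -- unit
  have hηφ : η[G] ≫ φ = η[G] := by
    rw [hφ, IsMonHom.one_hom, MonObj.one_eq_one, mul_inv_cancel]
  have hηψ : η[G] ≫ ψ = η[H] := by
    apply mono_of_isKernel k j q hker
    rw [Category.assoc, hψ, hηφ, IsMonHom.one_hom]
  have hηψO : η[Q] ≫ ψO = η[H] := by
    rw [← IsMonHom.one_hom (f := q), Category.assoc, hψO, hηψ]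
  have hψ1 : ψ = toUnit G ≫ η[H] := by
    rw [← hψO, hconst, hηψO, ← Category.assoc]
    congr 1
    exact toUnit_unique _ _
  have hφ1 : φ = 1 := by
    rw [← hψ, hψ1, Category.assoc, IsMonHom.one_hom, ← Hom.one_def]
  rw [hφdef] at hφ1
  exact mul_inv_eq_one.1 hφ1

end Groth.Agent.Lib.Helper4.ProperQuotConst1
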