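import Mathlib
import Groth.Prelude.Def_AlgGrp
import Groth.Agent.Lib.Helper4.ProperQuotConst1
import Groth.Agent.Lib.Helper4.GrpConn1
import Groth.Agent.Lib.Helper2.Sch.Reduced

/-!
# Connected component of the unit in a fibre of a map from an abelian variety is stable under the group law (rigidity) (helper4)
-/

set_option backward.isDefEq.respectTransparency.types false
set_option synthInstance.maxHeartbeats 400000
set_option autoImplicit false
set_option linter.unusedSectionVars false
set_option linter.style.haveILetI false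
set_option linter.unusedSimpArgs false
universe u v w
open CategoryTheory CategoryTheory.Limits AlgebraicGeometry TopologicalSpace Opposite
open MonoidalCategory CartesianMonoidalCategory MonObj GrpObj

namespace Groth.Agent.Lib.Helper4.AbFibComp1

variable {k : Type u} [Field k]

/-- two field-valued points at the same point `y`, both sections of `q`, coincide -/
theorem resField_hom_ext {Y : Scheme.{u}} (q : Y ⟶ Spec (CommRingCat.of k)) (y : Y)
    (φ₁ φ₂ : Y.residueField y ⟶ CommRingCat.of k)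
    (h₁ : Spec.map φ₁ ≫ Y.fromSpecResidueField y ≫ q = 𝟙 _)
    (h₂ : Spec.map φ₂ ≫ Y.fromSpecResidueField y ≫ q = 𝟙 _) : φ₁ = φ₂ := by
  let ψ : CommRingCat.of k ⟶ Y.residueField y := Spec.preimage (Y.fromSpecResidueField y ≫ q)
  have hψ : Spec.map ψ = Y.fromSpecResidueField y ≫ q := Spec.map_preimage _
  have e₁ : ψ ≫ φ₁ = 𝟙 _ := by
    apply Spec.map_injective
    rw [Spec.map_comp, hψ, h₁, Spec.map_id]
  have e₂ : ψ ≫ φ₂ = 𝟙 _ := by
    apply Spec.map_injective
    rw [Spec.map_comp, hψ, h₂, Spec.map_id]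
  have hinj : Function.Injective φ₁.hom := φ₁.hom.injective
  have e₃ : φ₁ ≫ ψ = 𝟙 _ := by
    ext z
    apply hinj
    have := congrArg (fun t => t.hom (φ₁.hom z)) e₁
    simpa using this
  calc φ₁ = φ₁ ≫ (ψ ≫ φ₂) := by rw [e₂, Category.comp_id]
    _ = (φ₁ ≫ ψ) ≫ φ₂ := by rw [Category.assoc]
    _ = φ₂ := by rw [e₃, Category.id_comp]

theorem section_ext {Y : Scheme.{u}} (q : Y ⟶ Spec (CommRingCat.of k))
    (s t : Spec (CommRingCat.of k) ⟶ Y) (hs : s ≫ q = 𝟙 _) (ht : t ≫ q = 𝟙 _)
    (h : s (IsLocalRing.closedPoint k) = t (IsLocalRing.closedPoint k)) : s = t := by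
  obtain ⟨⟨y, φ⟩, rfl⟩ := (Scheme.SpecToEquivOfField k Y).symm.surjective s
  obtain ⟨⟨y', φ'⟩, rfl⟩ := (Scheme.SpecToEquivOfField k Y).symm.surjective t
  simp only [Scheme.SpecToEquivOfField_symm_apply] at h hs ht ⊢
  rw [Scheme.Hom.comp_apply, Scheme.Hom.comp_apply, Scheme.fromSpecResidueField_apply,
    Scheme.fromSpecResidueField_apply] at h
  subst h
  rw [resField_hom_ext q y φ φ' (by simpa using hs) (by simpa using ht)]


/-- a morphism from a reduced connected universally closed `k`-scheme (with a rational point)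
into a scheme, with image inside an affine open, is constant (`k` algebraically closed). -/
theorem const_of_affine [IsAlgClosed k] (X : Over (Spec (CommRingCat.of k))) [IsReduced X.left]
    [ConnectedSpace X.left] [UniversallyClosed X.hom]
    (e : 𝟙_ (Over (Spec (CommRingCat.of k))) ⟶ X) {Y : Scheme.{u}} (g : X.left ⟶ Y)
    (U : Y.Opens) (hU : IsAffineOpen U) (hg : Set.range g ⊆ (U : Set Y)) (x x' : X.left) :
    g x = g x' := by
  have hbij := Groth.Agent.Lib.Helper4.ProperQuotConst1.bij_of_proper_quot k X X (𝟙 X)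
    (by intro a b h; simpa using h) e
  -- Γ(X, ⊤) is a field
  let E : k ≃+* Γ(X.left, ⊤) := RingEquiv.ofBijective _ hbij
  have hfld : IsField Γ(X.left, ⊤) := E.symm.toMulEquiv.isField (Field.toIsField k)
  letI := hfld.toField
  have hsub : Subsingleton (Spec Γ(X.left, ⊤)) :=
    inferInstanceAs (Subsingleton (PrimeSpectrum Γ(X.left, ⊤)))
  haveI : IsAffine (U : Scheme.{u}) := hU
  let g' : X.left ⟶ (U : Scheme.{u}) := IsOpenImmersion.lift U.ι g (by simpa using hg)
  have hg' : g' ≫ U.ι = g := IsOpenImmersion.lift_fac _ _ _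
  have hnat := Scheme.toSpecΓ_naturality g'
  have h1 : (g' ≫ (U : Scheme.{u}).toSpecΓ) x = (g' ≫ (U : Scheme.{u}).toSpecΓ) x' := by
    rw [hnat, Scheme.Hom.comp_apply, Scheme.Hom.comp_apply, Subsingleton.elim (X.left.toSpecΓ x)
      (X.left.toSpecΓ x')]
  have hinj : Function.Injective (U : Scheme.{u}).toSpecΓ :=
    ((U : Scheme.{u}).toSpecΓ.homeomorph).injective
  rw [Scheme.Hom.comp_apply, Scheme.Hom.comp_apply] at h1
  have h2 := hinj h1
  rw [← hg', Scheme.Hom.comp_apply, Scheme.Hom.comp_apply, h2]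


section Grp
variable (A : Over (Spec (CommRingCat.of k))) [GrpObj A]

abbrev Pt := 𝟙_ (Over (Spec (CommRingCat.of k))) ⟶ A

variable {A}

/-- left translation by a rational point -/
noncomputable def jm (a : Pt A) : A ⟶ A ⊗ A := lift (toUnit A ≫ a) (𝟙 A)
noncomputable def Lt (a : Pt A) : A ⟶ A := jm a ≫ μ[A]
/-- right translation by a rational point -/
noncomputable def Rt (u : Pt A) : A ⟶ A := lift (𝟙 A) (toUnit A ≫ u) ≫ μ[A]

theorem Lt_one : Lt (η[A] : Pt A) = 𝟙 A := by simp [Lt, jm]

theorem pt_mul_one (a : Pt A) : lift a η[A] ≫ μ[A] = a := by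
  simpa using lift_comp_one_right a (𝟙 _)

theorem one_Lt (a : Pt A) : η[A] ≫ Lt a = a := by
  simp only [Lt, jm, ← Category.assoc, comp_lift]
  have : toUnit (𝟙_ (Over (Spec (CommRingCat.of k)))) = 𝟙 _ := toUnit_unique _ _
  simp [this, pt_mul_one]

theorem pt_Lt (a u : Pt A) : u ≫ Lt a = lift a u ≫ μ[A] := by
  simp only [Lt, jm, ← Category.assoc, comp_lift]
  have : toUnit (𝟙_ (Over (Spec (CommRingCat.of k)))) = 𝟙 _ := toUnit_unique _ _
  simp [this]

theorem pt_Rt (a u : Pt A) : a ≫ Rt u = lift a u ≫ μ[A] := by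
  simp only [Rt, ← Category.assoc, comp_lift]
  have : toUnit (𝟙_ (Over (Spec (CommRingCat.of k)))) = 𝟙 _ := toUnit_unique _ _
  simp [this]

theorem one_Rt (u : Pt A) : η[A] ≫ Rt u = u := by
  rw [pt_Rt]; simpa using lift_comp_one_left (𝟙 _) u

theorem Rt_eq (u : Pt A) : Rt u = 𝟙 A * (toUnit A ≫ u) := rfl

theorem Rt_inv_Rt (x : Pt A) : Rt (x ≫ ι[A]) ≫ Rt x = 𝟙 A := by
  have h1 : ∀ (c : A ⟶ A) (x : Pt A), c ≫ Rt x = c * (toUnit A ≫ x) := by
    intro c x
    rw [Rt_eq, MonObj.comp_mul, Category.comp_id, ← Category.assoc,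
      toUnit_unique (c ≫ toUnit A) (toUnit A)]
  have h2 : toUnit A ≫ x ≫ ι[A] = (toUnit A ≫ x)⁻¹ := by
    rw [Hom.inv_def, Category.assoc]
  rw [h1, Rt_eq, h2, inv_mul_cancel_right]

theorem pt_Rt_inv (x : Pt A) : x ≫ Rt (x ≫ ι[A]) = η[A] := by
  rw [pt_Rt, ← Hom.mul_def, ← Hom.inv_def, mul_inv_cancel, Hom.one_def]
  have : toUnit (𝟙_ (Over (Spec (CommRingCat.of k)))) = 𝟙 _ := toUnit_unique _ _
  rw [this, Category.id_comp]

end Grp


/-- the reduced induced closed subscheme is reduced -/
theorem isReduced_vanishingIdeal_subscheme {X : Scheme.{u}} (C : TopologicalSpace.Closeds X) :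
    IsReduced (Scheme.IdealSheafData.vanishingIdeal C).subscheme := by
  have key : ∀ U : (Scheme.IdealSheafData.vanishingIdeal C).subschemeCover.openCover.I₀,
      IsReduced ((Scheme.IdealSheafData.vanishingIdeal C).subschemeCover.openCover.X U) := by
    intro U
    change IsReduced (Spec (.of <| Γ(X, U.1) ⧸ (Scheme.IdealSheafData.vanishingIdeal C).ideal U))
    have : _root_.IsReduced (Γ(X, U.1) ⧸ (Scheme.IdealSheafData.vanishingIdeal C).ideal U) := by
      rw [← Ideal.isRadical_iff_quotient_reduced, Scheme.IdealSheafData.vanishingIdeal_ideal]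
      exact PrimeSpectrum.isRadical_vanishingIdeal _
    infer_instance
  exact AlgebraicGeometry.IsReduced.of_openCover _
    (Scheme.IdealSheafData.vanishingIdeal C).subschemeCover.openCover

theorem isClosed_connectedComponentIn {α : Type*} [TopologicalSpace α] {F : Set α}
    (hF : IsClosed F) (x : α) : IsClosed (connectedComponentIn F x) := by
  by_cases h : x ∈ F
  · rw [connectedComponentIn_eq_image h]
    exact hF.isClosedEmbedding_subtypeVal.isClosedMap _ isClosed_connectedComponent
  · rw [connectedComponentIn_eq_empty h]; exact isClosed_empty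

section Pts
variable {A : Over (Spec (CommRingCat.of k))}

/-- the image point of a rational point -/
noncomputable def ev (a : 𝟙_ (Over (Spec (CommRingCat.of k))) ⟶ A) : A.left :=
  a.left (IsLocalRing.closedPoint k)

theorem ev_comp {B : Over (Spec (CommRingCat.of k))} (a : 𝟙_ (Over (Spec (CommRingCat.of k))) ⟶ A)
    (g : A ⟶ B) : ev (a ≫ g) = g.left (ev a) := rfl

theorem toUnit_left_apply (v : A.left) : (toUnit A).left v = IsLocalRing.closedPoint k :=
  Subsingleton.elim (α := Spec (CommRingCat.of k)) _ _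

theorem range_pt (a : 𝟙_ (Over (Spec (CommRingCat.of k))) ⟶ A) : Set.range a.left = {ev a} := by
  ext z
  constructor
  · rintro ⟨w, rfl⟩
    have : w = IsLocalRing.closedPoint k := Subsingleton.elim (α := Spec (CommRingCat.of k)) _ _
    rw [this]; rfl
  · rintro rfl
    exact ⟨_, rfl⟩

variable [GrpObj A]

theorem fst_jm (a : Pt A) (v : A.left) : (fst A A).left ((jm a).left v) = ev a := by
  rw [← Scheme.Hom.comp_apply, ← Over.comp_left]
  have : jm a ≫ fst A A = toUnit A ≫ a := by simp [jm]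
  rw [this, Over.comp_left, Scheme.Hom.comp_apply, toUnit_left_apply]
  rfl

theorem snd_jm (a : Pt A) (v : A.left) : (snd A A).left ((jm a).left v) = v := by
  rw [← Scheme.Hom.comp_apply, ← Over.comp_left]
  have : jm a ≫ snd A A = 𝟙 A := by simp [jm]
  rw [this]; rfl

theorem mem_range_jm (a : Pt A) (z : (A ⊗ A).left) (hz : (fst A A).left z = ev a) :
    z ∈ Set.range (jm a).left := by
  have h1 : z ∈ Set.range (a ▷ A).left := by
    rw [Groth.Agent.Lib.Helper6.GrpSch.Closed.range_whiskerRight, Set.mem_preimage, hz, range_pt]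
    rfl
  obtain ⟨w, rfl⟩ := h1
  have h2 : jm a = (λ_ A).inv ≫ a ▷ A := by
    ext1 <;> simp [jm]
  refine ⟨(λ_ A).hom.left w, ?_⟩
  rw [h2, Over.comp_left, Scheme.Hom.comp_apply, ← Scheme.Hom.comp_apply (λ_ A).hom.left,
    ← Over.comp_left, Iso.hom_inv_id]
  rfl

theorem mul_jm (a : Pt A) (v : A.left) : μ[A].left ((jm a).left v) = (Lt a).left v := rfl

end Pts


section Main
open Groth.Agent.Lib.Helper6.GrpSch.Closed
variable [IsAlgClosed k] (A : Over (Spec (CommRingCat.of k))) [GrpObj A]
  [IsProper A.hom]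
  {Y : Scheme.{u}} (q : Y ⟶ Spec (CommRingCat.of k)) [IsSeparated q] (f : A.left ⟶ Y)
  (hf : f ≫ q = A.hom)

include hf in
theorem isClosed_image_pt (a : Pt A) : IsClosed {f (ev a)} := by
  have h : (a.left ≫ f) ≫ q = 𝟙 _ := by
    rw [Category.assoc, hf]; exact Over.w a
  have := isClosedImmersion_of_comp_eq_id q (a.left ≫ f) h
  have hr : Set.range (a.left ≫ f) = {f (ev a)} := by
    rw [Scheme.Hom.comp_base, TopCat.coe_comp, Set.range_comp, range_pt, Set.image_singleton]
  rw [← hr]
  exact (a.left ≫ f).isClosedEmbedding.isClosed_range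

/-- the fibre through the unit -/
def Fib : Set A.left := f ⁻¹' {f (ev η[A])}
/-- the connected component of the unit in the fibre -/
def F0 : Set A.left := connectedComponentIn (Fib A f) (ev η[A])

include hf in
theorem isClosed_Fib : IsClosed (Fib A f) :=
  (isClosed_image_pt A q f hf η[A]).preimage f.continuous

include hf in
theorem isClosed_F0 : IsClosed (F0 A f) := isClosed_connectedComponentIn (isClosed_Fib A q f hf) _

theorem one_mem_Fib : ev η[A] ∈ Fib A f := rfl
theorem one_mem_F0 : ev η[A] ∈ F0 A f := mem_connectedComponentIn (one_mem_Fib A f)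
theorem F0_subset : F0 A f ⊆ Fib A f := connectedComponentIn_subset _ _
theorem isPreconnected_F0 : _root_.IsPreconnected (F0 A f) := isPreconnected_connectedComponentIn

theorem subset_F0 {S : Set A.left} (hS : _root_.IsPreconnected S) (hSF : S ⊆ Fib A f)
    (hne : (S ∩ F0 A f).Nonempty) : S ⊆ F0 A f := by
  obtain ⟨x, hxS, hx0⟩ := hne
  have := hS.subset_connectedComponentIn hxS hSF
  rwa [← connectedComponentIn_eq (show x ∈ connectedComponentIn (Fib A f) (ev η[A]) from hx0)]
    at this



include hf in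
theorem rigid_nbhd :
    ∃ W : Set A.left, IsOpen W ∧ ev η[A] ∈ W ∧
      ∀ a : Pt A, ev a ∈ W → ∀ v ∈ F0 A f, f ((Lt a).left v) = f (ev a) := by
  have hcl := isClosed_F0 A q f hf
  let X := closedObj A hcl
  let i0 : X ⟶ A := closedHom A hcl
  have hr : Set.range i0.left = F0 A f := range_closedHom A hcl
  haveI : IsReduced X.left := isReduced_vanishingIdeal_subscheme ⟨_, hcl⟩
  haveI : IsClosedImmersion i0.left := by
    show IsClosedImmersion (Scheme.IdealSheafData.vanishingIdeal ⟨_, hcl⟩).subschemeι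
    infer_instance
  haveI : UniversallyClosed X.hom := by
    show UniversallyClosed ((Scheme.IdealSheafData.vanishingIdeal ⟨_, hcl⟩).subschemeι ≫ A.hom)
    infer_instance
  haveI : LocallyOfFiniteType X.hom := by
    show LocallyOfFiniteType ((Scheme.IdealSheafData.vanishingIdeal ⟨_, hcl⟩).subschemeι ≫ A.hom)
    infer_instance
  obtain ⟨x0, hx0⟩ : ∃ x0, i0.left x0 = ev η[A] := by
    have : ev η[A] ∈ Set.range i0.left := by rw [hr]; exact one_mem_F0 A f
    exact this
  haveI : ConnectedSpace X.left := by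
    haveI : Nonempty X.left := ⟨x0⟩
    have hpre : _root_.IsPreconnected (Set.univ : Set X.left) := by
      rw [← i0.left.isEmbedding.isInducing.isPreconnected_image, Set.image_univ, hr]
      exact isPreconnected_F0 A f
    haveI : PreconnectedSpace X.left := ⟨hpre⟩
    exact ⟨inferInstance⟩
  have hecl : IsClosed {ev η[A]} := by
    have := η[A].left.isClosedEmbedding.isClosed_range
    rwa [range_pt] at this
  have hx0cl : IsClosed {x0} := by
    have : {x0} = i0.left ⁻¹' {ev η[A]} := by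
      ext w
      simp only [Set.mem_singleton_iff, Set.mem_preimage, ← hx0]
      exact ⟨fun h => by rw [h], fun h => i0.left.isEmbedding.injective h⟩
    rw [this]; exact hecl.preimage i0.left.continuous
  let e0 : 𝟙_ (Over (Spec (CommRingCat.of k))) ⟶ X :=
    Over.homMk (pointOfClosedPoint X.hom x0 hx0cl) (by
      rw [pointOfClosedPoint_comp]; rfl)
  obtain ⟨U, hU, hyU⟩ : ∃ U : Y.Opens, IsAffineOpen U ∧ f (ev η[A]) ∈ U := by
    obtain ⟨_, ⟨U, hU, rfl⟩, hxU, -⟩ := Y.isBasis_affineOpens.exists_subset_of_mem_open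
      (Set.mem_univ (f (ev η[A]))) isOpen_univ
    exact ⟨U, hU, hxU⟩
  haveI : IsProper (fst A A).left := by dsimp; infer_instance
  let C : Set (A ⊗ A).left :=
    (snd A A).left ⁻¹' (F0 A f) ∩ (μ[A].left ≫ f) ⁻¹' ((U : Set Y)ᶜ)
  have hC : IsClosed C := (hcl.preimage (snd A A).left.continuous).inter
    (U.isOpen.isClosed_compl.preimage (μ[A].left ≫ f).continuous)
  refine ⟨((fst A A).left '' C)ᶜ, ((fst A A).left.isClosedMap _ hC).isOpen_compl, ?_, ?_⟩
  · rintro ⟨z, ⟨hz1, hz2⟩, hz3⟩
    obtain ⟨v, rfl⟩ := mem_range_jm η[A] z hz3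
    rw [Set.mem_preimage, snd_jm] at hz1
    apply hz2
    show (μ[A].left ≫ f) ((jm η[A]).left v) ∈ U
    rw [Scheme.Hom.comp_apply, mul_jm, Lt_one]
    show f v ∈ U
    have : f v = f (ev η[A]) := F0_subset A f hz1
    rw [this]; exact hyU
  · intro a ha v hv
    let g := i0.left ≫ (Lt a).left ≫ f
    have hg : Set.range g ⊆ (U : Set Y) := by
      rintro _ ⟨w, rfl⟩
      by_contra hn
      apply ha
      refine ⟨(jm a).left (i0.left w), ⟨?_, ?_⟩, fst_jm a _⟩
      · rw [Set.mem_preimage, snd_jm, ← hr]; exact ⟨w, rfl⟩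
      · exact hn
    obtain ⟨w, rfl⟩ : v ∈ Set.range i0.left := by rw [hr]; exact hv
    have := const_of_affine X e0 g U hU hg w x0
    calc f ((Lt a).left (i0.left w)) = g w := rfl
      _ = g x0 := this
      _ = f ((Lt a).left (ev η[A])) := by rw [← hx0]; rfl
      _ = f (ev a) := by rw [← ev_comp, one_Lt]



include hf in
theorem Rt_comp_eq [IsReduced A.left] [IrreducibleSpace A.left] (u : Pt A)
    (hu : ev u ∈ F0 A f) : (Rt u).left ≫ f = f := by
  obtain ⟨W, hWo, heW, hW⟩ := rigid_nbhd A q f hf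
  haveI : JacobsonSpace A.left := LocallyOfFiniteType.jacobsonSpace (Y := Spec _) A.hom
  refine ext_of_fromSpecResidueField_eq _ _ q (W ∩ closedPoints A.left) ?_ ?_ ?_
  · rw [dense_iff_closure_eq,
      JacobsonSpace.closure_inter_closedPoints_eq_closure hWo.isLocallyClosed,
      ← dense_iff_closure_eq]
    exact hWo.dense ⟨_, heW⟩
  · intro x ⟨hxW, hx⟩
    have hxc : IsClosed {x} := hx
    rw [← cancel_epi (Spec.map (residueFieldIsoBase A.hom x hxc).hom)]
    let a : Pt A := Over.homMk (pointOfClosedPoint A.hom x hxc) (by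
      rw [pointOfClosedPoint_comp]; rfl)
    have hax : ev a = x := pointOfClosedPoint_apply A.hom x hxc _
    show (Spec.map (residueFieldIsoBase A.hom x hxc).hom ≫ A.left.fromSpecResidueField x) ≫
      (Rt u).left ≫ f = (Spec.map (residueFieldIsoBase A.hom x hxc).hom ≫
        A.left.fromSpecResidueField x) ≫ f
    show a.left ≫ (Rt u).left ≫ f = a.left ≫ f
    refine section_ext q _ _ ?_ ?_ ?_
    · rw [Category.assoc, Category.assoc, hf, Over.w (Rt u)]; exact Over.w a
    · rw [Category.assoc, hf]; exact Over.w a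
    · show f ((Rt u).left (ev a)) = f (ev a)
      rw [← ev_comp, pt_Rt, ← pt_Lt, ev_comp]
      exact hW a (hax ▸ hxW) _ hu
  · rw [Category.assoc, hf, Over.w (Rt u)]



include hf in
theorem mul_mem_F0 [IsReduced A.left] [IrreducibleSpace A.left] (x y : Pt A)
    (hx : ev x ∈ F0 A f) (hy : ev y ∈ F0 A f) : ev (lift x y ≫ μ[A]) ∈ F0 A f := by
  have hR := Rt_comp_eq A q f hf y hy
  have hsub : (Rt y).left '' F0 A f ⊆ F0 A f := by
    refine subset_F0 A f ((isPreconnected_F0 A f).image _ (Rt y).left.continuous.continuousOn)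
      ?_ ?_
    · rintro _ ⟨v, hv, rfl⟩
      show f ((Rt y).left v) = f (ev η[A])
      rw [← Scheme.Hom.comp_apply, hR]; exact F0_subset A f hv
    · refine ⟨ev y, ⟨ev η[A], one_mem_F0 A f, ?_⟩, hy⟩
      rw [← ev_comp, one_Rt]
  rw [← pt_Rt, ev_comp]
  exact hsub ⟨_, hx, rfl⟩

include hf in
theorem inv_mem_F0 [IsReduced A.left] [IrreducibleSpace A.left] (x : Pt A)
    (hx : ev x ∈ F0 A f) : ev (x ≫ ι[A]) ∈ F0 A f := by
  have hR := Rt_comp_eq A q f hf x hx
  have hsub : (Rt (x ≫ ι[A])).left '' F0 A f ⊆ F0 A f := by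
    refine subset_F0 A f ((isPreconnected_F0 A f).image _
      (Rt (x ≫ ι[A])).left.continuous.continuousOn) ?_ ?_
    · rintro _ ⟨v, hv, rfl⟩
      show f ((Rt (x ≫ ι[A])).left v) = f (ev η[A])
      have : f ((Rt (x ≫ ι[A])).left v) = f v := by
        conv_lhs => rw [← hR]
        rw [Scheme.Hom.comp_apply, ← Scheme.Hom.comp_apply (Rt (x ≫ ι[A])).left,
          ← Over.comp_left, Rt_inv_Rt]
        rfl
      rw [this]; exact F0_subset A f hv
    · refine ⟨ev η[A], ⟨ev x, hx, ?_⟩, one_mem_F0 A f⟩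
      rw [← ev_comp, pt_Rt_inv]
  have : ev (x ≫ ι[A]) = (Rt (x ≫ ι[A])).left (ev η[A]) := by rw [← ev_comp, one_Rt]
  rw [this]; exact hsub ⟨_, one_mem_F0 A f, rfl⟩

end Main

theorem main (k : Type u) [Field k] [IsAlgClosed k]
    (A : Over (Spec (CommRingCat.of k))) [GrpObj A] [IsProper A.hom] [Smooth A.hom] [GeometricallyConnected A.hom]
    {Y : Scheme.{u}} (q : Y ⟶ Spec (CommRingCat.of k)) [IsSeparated q] (f : A.left ⟶ Y) (hf : f ≫ q = A.hom)
    (x y : 𝟙_ (Over (Spec (CommRingCat.of k))) ⟶ A)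
    (hx : x.left (IsLocalRing.closedPoint k) ∈
      connectedComponentIn (f ⁻¹' {f (η[A].left (IsLocalRing.closedPoint k))}) (η[A].left (IsLocalRing.closedPoint k)))
    (hy : y.left (IsLocalRing.closedPoint k) ∈
      connectedComponentIn (f ⁻¹' {f (η[A].left (IsLocalRing.closedPoint k))}) (η[A].left (IsLocalRing.closedPoint k))) :
    (lift x y ≫ μ[A]).left (IsLocalRing.closedPoint k) ∈
        connectedComponentIn (f ⁻¹' {f (η[A].left (IsLocalRing.closedPoint k))}) (η[A].left (IsLocalRing.closedPoint k)) ∧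
      (x ≫ ι[A]).left (IsLocalRing.closedPoint k) ∈
        connectedComponentIn (f ⁻¹' {f (η[A].left (IsLocalRing.closedPoint k))}) (η[A].left (IsLocalRing.closedPoint k)) := by
  haveI : IsReduced A.left := Groth.Agent.Helper2.SchLib.isReduced_of_smooth A.hom
  haveI : ConnectedSpace A.left :=
    GeometricallyConnected.connectedSpace_of_subsingleton (f := A.hom)
  haveI : IrreducibleSpace A.left := by
    rw [irreducibleSpace_def]
    have h1 := Groth.Agent.Lib.Helper4.GrpConn1.connectedComponent_ept (G := A)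
    have h2 := Groth.Agent.Lib.Helper4.GrpConn1.isIrreducible_Z0 A
    rw [← h1, PreconnectedSpace.connectedComponent_eq_univ] at h2
    exact h2
  exact ⟨mul_mem_F0 A q f hf x y hx hy, inv_mem_F0 A q f hf x hx⟩

end Groth.Agent.Lib.Helper4.AbFibComp1
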