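import Mathlib
import Groth.Prelude.Def_AlgGrp
import Groth.Agent.Lib.Helper4.FibDimComp1
import Groth.Agent.Lib.Helper4.Act1
import Groth.Agent.Lib.Helper4.WordPts1
import Groth.Agent.Lib.Helper4.AbFibComp1

/-!
# homogeneous spaces over a local artinian ring: all connected components have the same dimension (helper4) (helper4)
-/

set_option backward.isDefEq.respectTransparency.types false
set_option synthInstance.maxHeartbeats 400000
set_option autoImplicit false
set_option linter.unusedSectionVars false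
set_option linter.style.haveILetI false
set_option linter.unusedSimpArgs false
universe u v w
open CategoryTheory CategoryTheory.Limits AlgebraicGeometry TopologicalSpace Opposite
open MonoidalCategory CartesianMonoidalCategory MonObj GrpObj

namespace Groth.Agent.Lib.Helper4.HomogDim1

/-- connected components of a locally noetherian scheme are open -/
theorem isOpen_connectedComponent_of_locallyNoetherian {X : Scheme.{u}} [IsLocallyNoetherian X]
    (x : X) : IsOpen (connectedComponent x) := by
  rw [isOpen_iff_forall_mem_open]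
  intro y hy
  obtain ⟨_, ⟨U, hU, rfl⟩, hyU, -⟩ := X.isBasis_affineOpens.exists_subset_of_mem_open
    (Set.mem_univ y) isOpen_univ
  haveI : NoetherianSpace U := by
    have := IsLocallyNoetherian.component_noetherian (X := X) ⟨U, hU⟩
    have hN : NoetherianSpace (Spec Γ(X, U)) := inferInstance
    exact (noetherianSpace_iff_of_homeomorph hU.isoSpec.hom.homeomorph).2 hN
  let yU : U := ⟨y, hyU⟩
  let 𝒮 : Set (Set U) := {Z | Z ∈ irreducibleComponents U ∧ yU ∉ Z}
  have hfin : 𝒮.Finite := (NoetherianSpace.finite_irreducibleComponents (α := U)).subset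
    fun Z hZ => hZ.1
  have hcl : IsClosed (⋃₀ 𝒮) := by
    rw [Set.sUnion_eq_biUnion]
    exact hfin.isClosed_biUnion fun Z hZ => isClosed_of_mem_irreducibleComponents Z hZ.1
  let W : Set X := Subtype.val '' ((⋃₀ 𝒮)ᶜ : Set U)
  have hW : IsOpen W := U.2.isOpenEmbedding_subtypeVal.isOpenMap _ hcl.isOpen_compl
  refine ⟨W, ?_, hW, ⟨yU, ?_, rfl⟩⟩
  · rintro _ ⟨w, hw, rfl⟩
    have hZ : irreducibleComponent w ∉ 𝒮 := fun h => hw ⟨_, h, mem_irreducibleComponent⟩
    have hyZ : yU ∈ irreducibleComponent w := by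
      by_contra h
      exact hZ ⟨irreducibleComponent_mem_irreducibleComponents w, h⟩
    have hpre : _root_.IsPreconnected (Subtype.val '' irreducibleComponent w : Set X) :=
      (isIrreducible_irreducibleComponent.isConnected.isPreconnected).image _
        continuous_subtype_val.continuousOn
    have h1 := hpre.subset_connectedComponent (x := y) ⟨yU, hyZ, rfl⟩
    rw [connectedComponent_eq hy]
    exact h1 ⟨w, mem_irreducibleComponent, rfl⟩
  · rintro ⟨Z, ⟨-, hZ⟩, hyZ⟩
    exact hZ hyZ


/-- dimension of an open subset as the Krull dimension of its specialization order -/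
theorem tdim_open_eq {X Y : Scheme.{u}} (f : X ⟶ Y) (y : Y) (C : Set X) (hC : IsOpen C)
    (hy : ∀ z ∈ C, f z = y) :
    topologicalKrullDim ↥C = Order.krullDim {z : X // z ∈ C ∧ f z = y} := by
  haveI : QuasiSober ↥C := hC.isOpenEmbedding_subtypeVal.quasiSober
  rw [Groth.Agent.Helper4.GM.topologicalKrullDim_eq_krullDim_specialization]
  have hle : ∀ a b : ↥C, (specializationOrder ↥C).le a b ↔ a.1 ≤ b.1 := by
    intro a b
    change b ⤳ a ↔ b.1 ⤳ a.1
    rw [Topology.IsInducing.subtypeVal.specializes_iff]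
  apply le_antisymm
  · refine @Order.krullDim_le_of_strictMono _ _ (specializationOrder ↥C).toPreorder _
      (fun a : ↥C => (⟨a.1, a.2, hy a.1 a.2⟩ : {z : X // z ∈ C ∧ f z = y})) ?_
    intro a b hlt
    have hlt' := (@lt_iff_le_not_ge _ (specializationOrder ↥C).toPreorder a b).mp hlt
    rw [lt_iff_le_not_ge]
    exact ⟨(hle a b).mp hlt'.1, fun h => hlt'.2 ((hle b a).mpr h)⟩
  · refine @Order.krullDim_le_of_strictMono _ _ _ (specializationOrder ↥C).toPreorder
      (fun z : {z : X // z ∈ C ∧ f z = y} => (⟨z.1, z.2.1⟩ : ↥C)) ?_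
    intro a b hlt
    rw [lt_iff_le_not_ge] at hlt
    apply (@lt_iff_le_not_ge _ (specializationOrder ↥C).toPreorder _ _).mpr
    exact ⟨(hle _ _).mpr hlt.1, fun h => hlt.2 ((hle _ _).mp h)⟩


open Groth.Agent.Lib.Helper4.FibDim1 Groth.Agent.Lib.Helper4.FibDim3
  Groth.Agent.Lib.Helper4.FibDimBC2 Groth.Agent.Lib.Helper4.FibDimComp1
  Groth.Agent.Lib.Helper4.LocNoethFib1 in
/-- if the local fibre dimension is constant `d`, every nonempty open subset of a fibre has
dimension `d` -/
theorem tdim_eq_of_const {X Y : Scheme.{u}} (f : X ⟶ Y) [LocallyOfFiniteType f]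
    [IsLocallyNoetherian Y] (d : ℕ)
    (hconst : ∀ x : X, FlatMor.fibreDimAt f x = (d : WithBot ℕ∞)) (y : Y) (C : Set X)
    (hC : IsOpen C) (hne : C.Nonempty) (hy : ∀ z ∈ C, f z = y) :
    topologicalKrullDim ↥C = (d : WithBot ℕ∞) := by
  rw [tdim_open_eq f y C hC hy]
  apply le_antisymm
  · apply krullDim_fibU_le f C y d
    intro z _ _
    have h := tr_le_fibreDimAt' f z
    rw [hconst z] at h
    exact_mod_cast h
  · obtain ⟨x, hx⟩ := hne
    obtain ⟨z, hzx, hfz, hmax⟩ := exists_fibreMax_ge f x
    have hzC : z ∈ C := hzx.mem_open hC hx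
    have h1 := fibreDimAt_eq_tr_of_max f z hmax
    rw [hconst z] at h1
    have h2 := tr_le_krullDim_fibU' f ⟨C, hC⟩ z hzC y (hy z hzC)
    rw [h1]
    exact h2


section BC
variable {S S' : Scheme.{u}} (σ : S' ⟶ S) {G X : Over S} [GrpObj G] (a : AlgGrp.Action G X)

noncomputable instance bcGrp' : GrpObj ((Over.pullback σ).obj G) := Functor.grpObjObj

/-- base change of an action along an arbitrary morphism of base schemes -/
noncomputable def bcAct' : AlgGrp.Action ((Over.pullback σ).obj G) ((Over.pullback σ).obj X) where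
  act := Functor.LaxMonoidal.μ (Over.pullback σ) G X ≫ (Over.pullback σ).map a.act
  one_act := by
    rw [Functor.obj.η_def, comp_whiskerRight, Category.assoc,
      ← Category.assoc _ (Functor.LaxMonoidal.μ (Over.pullback σ) G X),
      Functor.LaxMonoidal.μ_natural_left, Category.assoc, ← Functor.map_comp, a.one_act,
      Functor.LaxMonoidal.left_unitality]
  mul_act := by
    rw [Functor.obj.μ_def, comp_whiskerRight, Category.assoc,
      ← Category.assoc _ (Functor.LaxMonoidal.μ (Over.pullback σ) G X),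
      Functor.LaxMonoidal.μ_natural_left, Category.assoc, ← Functor.map_comp, a.mul_act,
      Functor.map_comp, Functor.map_comp]
    rw [Functor.LaxMonoidal.associativity_assoc, ← Functor.LaxMonoidal.μ_natural_right_assoc,
      MonoidalCategory.whiskerLeft_comp, Category.assoc]

lemma bcAct'_act : (bcAct' σ a).act =
    Functor.LaxMonoidal.μ (Over.pullback σ) G X ≫ (Over.pullback σ).map a.act := rfl

lemma bcΦ' : lift (bcAct' σ a).act (snd ((Over.pullback σ).obj G) ((Over.pullback σ).obj X)) =
    Functor.LaxMonoidal.μ (Over.pullback σ) G X ≫ (Over.pullback σ).map (lift a.act (snd G X)) ≫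
      Functor.OplaxMonoidal.δ (Over.pullback σ) X X := by
  apply CartesianMonoidalCategory.hom_ext
  · rw [lift_fst, Category.assoc, Category.assoc, Functor.OplaxMonoidal.δ_fst, ← Functor.map_comp,
      lift_fst, bcAct'_act]
  · rw [lift_snd, Category.assoc, Category.assoc, Functor.OplaxMonoidal.δ_snd, ← Functor.map_comp,
      lift_snd, Functor.Monoidal.μ_snd]

lemma isPullback_bc_map' {A B : Over S} (φ : A ⟶ B) :
    IsPullback ((Over.pullback σ).map φ).left (pullback.fst A.hom σ) (pullback.fst B.hom σ)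
      φ.left := by
  have hr1 : ((Over.pullback σ).map φ).left ≫ pullback.fst B.hom σ =
      pullback.fst A.hom σ ≫ φ.left := by
    simp only [Over.pullback, Over.homMk_left]
    exact pullback.lift_fst _ _ _
  have hr2 : ((Over.pullback σ).map φ).left ≫ pullback.snd B.hom σ = pullback.snd A.hom σ :=
    Over.w ((Over.pullback σ).map φ)
  have right : IsPullback (pullback.snd B.hom σ) (pullback.fst B.hom σ) σ B.hom :=
    (IsPullback.of_hasPullback B.hom σ).flip
  have big : IsPullback (((Over.pullback σ).map φ).left ≫ pullback.snd B.hom σ)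
      (pullback.fst A.hom σ) σ (φ.left ≫ B.hom) := by
    rw [hr2, Over.w φ]
    exact (IsPullback.of_hasPullback A.hom σ).flip
  exact IsPullback.of_right big hr1 right

theorem surjective_bcΦ' (hΦ : Surjective (lift a.act (snd G X)).left) :
    Surjective (lift (bcAct' σ a).act
      (snd ((Over.pullback σ).obj G) ((Over.pullback σ).obj X))).left := by
  rw [bcΦ', Over.comp_left, Over.comp_left]
  haveI : IsIso (Functor.LaxMonoidal.μ (Over.pullback σ) G X).left :=
    inferInstanceAs (IsIso ((Over.forget _).map (Functor.LaxMonoidal.μ (Over.pullback σ) G X)))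
  haveI : IsIso (Functor.OplaxMonoidal.δ (Over.pullback σ) X X).left :=
    inferInstanceAs (IsIso ((Over.forget _).map (Functor.OplaxMonoidal.δ (Over.pullback σ) X X)))
  haveI : Surjective ((Over.pullback σ).map (lift a.act (snd G X))).left :=
    MorphismProperty.of_isPullback (P := @Surjective) (isPullback_bc_map' σ _).flip hΦ
  infer_instance

end BC


section AlgClosed
variable {L : Type u} [Field L] [IsAlgClosed L] {G X : Over (Spec (CommRingCat.of L))} [GrpObj G]
  [LocallyOfFiniteType G.hom] [LocallyOfFiniteType X.hom] (a : AlgGrp.Action G X)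

open Groth.Agent.Lib.Helper4.AbFibComp1 (ev ev_comp range_pt toUnit_left_apply)

/-- transitivity on rational points over an algebraically closed field -/
theorem exists_pt_smul_eq (hΦ : Surjective (lift a.act (snd G X)).left)
    (p q : 𝟙_ (Over (Spec (CommRingCat.of L))) ⟶ X) :
    ∃ g : 𝟙_ (Over (Spec (CommRingCat.of L))) ⟶ G, lift g p ≫ a.act = q := by
  let Φ : G ⊗ X ⟶ X ⊗ X := lift a.act (snd G X)
  haveI : LocallyOfFiniteType (G ⊗ X).hom := by
    rw [← Over.w (snd G X)]
    haveI : LocallyOfFiniteType (snd G X).left := by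
      show LocallyOfFiniteType (pullback.snd G.hom X.hom)
      infer_instance
    infer_instance
  haveI : LocallyOfFiniteType Φ.left := by
    haveI : LocallyOfFiniteType (Φ.left ≫ (X ⊗ X).hom) := by
      rw [Over.w Φ]; infer_instance
    exact locallyOfFiniteType_of_comp Φ.left (X ⊗ X).hom
  haveI : Surjective Φ.left := hΦ
  let pt : 𝟙_ (Over (Spec (CommRingCat.of L))) ⟶ X ⊗ X := lift q p
  let F := pullback Φ.left pt.left
  let f : F ⟶ Spec (CommRingCat.of L) := pullback.snd Φ.left pt.left
  haveI : LocallyOfFiniteType f := inferInstance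
  haveI : Surjective f := inferInstance
  obtain ⟨z, -⟩ := f.surjective (IsLocalRing.closedPoint L)
  haveI : Nonempty F := ⟨z⟩
  obtain ⟨t, ht⟩ := Groth.Agent.Lib.Helper4.WordPts1.exists_section_of_lft f
  let w : Spec (CommRingCat.of L) ⟶ (G ⊗ X).left := t ≫ pullback.fst Φ.left pt.left
  have hw : w ≫ Φ.left = pt.left := by
    rw [Category.assoc, pullback.condition, ← Category.assoc]
    show (t ≫ f) ≫ pt.left = pt.left
    rw [ht, Category.id_comp]
  let wO : 𝟙_ (Over (Spec (CommRingCat.of L))) ⟶ G ⊗ X := Over.homMk w (by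
    rw [← Over.w Φ, ← Category.assoc, hw]
    exact Over.w pt)
  have hwO : wO ≫ Φ = pt := Over.OverMorphism.ext hw
  have h1 : wO ≫ snd G X = p := by
    have := congrArg (fun t => t ≫ snd X X) hwO
    simpa [Φ, pt] using this
  have h2 : wO ≫ a.act = q := by
    have := congrArg (fun t => t ≫ fst X X) hwO
    simpa [Φ, pt] using this
  refine ⟨wO ≫ fst G X, ?_⟩
  rw [← h2, ← h1]
  congr 1
  ext <;> simp

/-- translation by a rational point -/
noncomputable def trans (g : 𝟙_ (Over (Spec (CommRingCat.of L))) ⟶ G) : X ⟶ X :=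
  lift (toUnit X ≫ g) (𝟙 X) ≫ a.act

theorem pt_trans (g : 𝟙_ (Over (Spec (CommRingCat.of L))) ⟶ G)
    (p : 𝟙_ (Over (Spec (CommRingCat.of L))) ⟶ X) : p ≫ trans a g = lift g p ≫ a.act := by
  rw [trans, ← Category.assoc, comp_lift, Category.comp_id, ← Category.assoc]
  congr 2
  rw [toUnit_unique (p ≫ toUnit X) (𝟙 _), Category.id_comp]

theorem trans_comp (g h : 𝟙_ (Over (Spec (CommRingCat.of L))) ⟶ G) :
    trans a h ≫ trans a g = trans a (g * h) := by
  have h1 := Groth.Agent.Helper4.Act.mul_smul' a.act a.mul_act (toUnit X ≫ g) (toUnit X ≫ h) (𝟙 X)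
  have h2 : ∀ u : X ⟶ X, u ≫ lift (toUnit X ≫ g) (𝟙 X) = lift (toUnit X ≫ g) u := by
    intro u
    rw [comp_lift, Category.comp_id, ← Category.assoc, toUnit_unique (u ≫ toUnit X) (toUnit X)]
  rw [trans, trans, trans, MonObj.comp_mul, h1, ← Category.assoc, h2]

theorem trans_one : trans a (1 : 𝟙_ (Over (Spec (CommRingCat.of L))) ⟶ G) = 𝟙 X := by
  rw [trans, MonObj.comp_one]
  exact Groth.Agent.Helper4.Act.one_smul' a.act a.one_act (𝟙 X)

theorem isIso_trans (g : 𝟙_ (Over (Spec (CommRingCat.of L))) ⟶ G) : IsIso (trans a g) :=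
  ⟨⟨trans a g⁻¹, by rw [trans_comp, inv_mul_cancel, trans_one],
    by rw [trans_comp, mul_inv_cancel, trans_one]⟩⟩



open Groth.Agent.Lib.Helper4.FibDimBC2 Groth.Agent.Lib.Helper4.FibDimComp1 in
theorem fibreDimAt_eq_of_closed (hΦ : Surjective (lift a.act (snd G X)).left)
    (x y : X.left) (hx : IsClosed {x}) (hy : IsClosed {y}) :
    FlatMor.fibreDimAt X.hom x = FlatMor.fibreDimAt X.hom y := by
  let p : 𝟙_ (Over (Spec (CommRingCat.of L))) ⟶ X :=
    Over.homMk (pointOfClosedPoint X.hom x hx) (by rw [pointOfClosedPoint_comp]; rfl)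
  let q : 𝟙_ (Over (Spec (CommRingCat.of L))) ⟶ X :=
    Over.homMk (pointOfClosedPoint X.hom y hy) (by rw [pointOfClosedPoint_comp]; rfl)
  have hp : ev p = x := pointOfClosedPoint_apply X.hom x hx _
  have hq : ev q = y := pointOfClosedPoint_apply X.hom y hy _
  obtain ⟨g, hg⟩ := exists_pt_smul_eq a hΦ p q
  rw [← pt_trans] at hg
  have hxy : (trans a g).left x = y := by
    rw [← hp, ← ev_comp, hg, hq]
  haveI := isIso_trans a g
  haveI : IsIso (trans a g).left :=
    inferInstanceAs (IsIso ((Over.forget _).map (trans a g)))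
  have hsq : IsPullback (trans a g).left X.hom X.hom (𝟙 _) :=
    IsPullback.of_horiz_isIso ⟨by rw [Category.comp_id]; exact Over.w (trans a g)⟩
  rw [fibreDimAt_abs X.hom (𝟙 _) (trans a g).left X.hom hsq x, hxy]

open Groth.Agent.Lib.Helper4.FibDimBC2 Groth.Agent.Lib.Helper4.FibDimComp1
  Groth.Agent.Lib.Helper4.Chev3 in
theorem exists_fibreDimAt_const (hΦ : Surjective (lift a.act (snd G X)).left) :
    ∃ d : ℕ, ∀ x : X.left, FlatMor.fibreDimAt X.hom x = (d : WithBot ℕ∞) := by
  by_cases hne : Nonempty X.left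
  swap
  · exact ⟨0, fun x => (hne ⟨x⟩).elim⟩
  obtain ⟨x₁⟩ := hne
  haveI : JacobsonSpace X.left := LocallyOfFiniteType.jacobsonSpace (Y := Spec _) X.hom
  obtain ⟨x₀, -, hx₀⟩ := nonempty_inter_closedPoints (X := X.left) (Z := Set.univ) ⟨x₁, trivial⟩
    isClosed_univ.isLocallyClosed
  obtain ⟨d, hd⟩ := exists_fibreDimAt_nat X.hom x₀
  have hcp : ∀ c : X.left, IsClosed {c} → FlatMor.fibreDimAt X.hom c = (d : WithBot ℕ∞) :=
    fun c hc => (fibreDimAt_eq_of_closed a hΦ c x₀ hc hx₀).trans hd
  refine ⟨d, fun x => le_antisymm ?_ ?_⟩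
  · obtain ⟨c, hc, hcc⟩ := nonempty_inter_closedPoints (X := X.left) (Z := closure {x})
      ⟨x, subset_closure rfl⟩ isClosed_closure.isLocallyClosed
    have hsp : x ⤳ c := specializes_iff_mem_closure.mpr hc
    rw [← hcp c hcc]
    exact fibreDimAt_mono_of_specializes X.hom x c hsp
  · have hcl := isClosed_setOf_le_fibreDimAt X.hom (d : WithBot ℕ∞)
    have hsub : closedPoints X.left ⊆ {z : X.left | (d : WithBot ℕ∞) ≤ FlatMor.fibreDimAt X.hom z} :=
      fun c hc => (hcp c hc).ge
    have h1 := closure_minimal hsub hcl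
    rw [closure_closedPoints] at h1
    exact h1 (Set.mem_univ x)

end AlgClosed


open Groth.Agent.Lib.Helper4.FibDimBC2 in
theorem main (A : Type u) [CommRing A] [IsArtinianRing A] [IsLocalRing A]
    (G X : Over (Spec (CommRingCat.of A))) [GrpObj G] [LocallyOfFiniteType G.hom]
    [LocallyOfFiniteType X.hom] [Nonempty X.left]
    (a : AlgGrp.Action G X) (hΦ : Surjective (lift a.act (snd G X)).left) (x y : X.left) :
    topologicalKrullDim ↥(connectedComponent x) = topologicalKrullDim ↥(connectedComponent y) := by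
  let k := IsLocalRing.ResidueField A
  let L := AlgebraicClosure k
  let φ : A →+* L := (algebraMap k L).comp (IsLocalRing.residue A)
  let σ : Spec (CommRingCat.of L) ⟶ Spec (CommRingCat.of A) := Spec.map (CommRingCat.ofHom φ)
  haveI hsub : Subsingleton (Spec (CommRingCat.of A)) := by
    refine ⟨fun p q => ?_⟩
    have hp : p.asIdeal = IsLocalRing.maximalIdeal A :=
      IsLocalRing.eq_maximalIdeal (IsArtinianRing.isMaximal_of_isPrime p.asIdeal)
    have hq : q.asIdeal = IsLocalRing.maximalIdeal A :=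
      IsLocalRing.eq_maximalIdeal (IsArtinianRing.isMaximal_of_isPrime q.asIdeal)
    exact PrimeSpectrum.ext (hp.trans hq.symm)
  haveI : Surjective σ := ⟨fun s => ⟨IsLocalRing.closedPoint L, Subsingleton.elim _ _⟩⟩
  let Gbar := (Over.pullback σ).obj G
  let Xbar := (Over.pullback σ).obj X
  haveI : LocallyOfFiniteType Gbar.hom := by
    show LocallyOfFiniteType (pullback.snd G.hom σ)
    infer_instance
  haveI : LocallyOfFiniteType Xbar.hom := by
    show LocallyOfFiniteType (pullback.snd X.hom σ)
    infer_instance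
  obtain ⟨d, hd⟩ := exists_fibreDimAt_const (bcAct' σ a) (surjective_bcΦ' σ a hΦ)
  have hsq : IsPullback (pullback.fst X.hom σ) (pullback.snd X.hom σ) X.hom σ :=
    IsPullback.of_hasPullback X.hom σ
  have hconst : ∀ z : X.left, FlatMor.fibreDimAt X.hom z = (d : WithBot ℕ∞) := by
    intro z
    haveI : Surjective (pullback.fst X.hom σ) := inferInstance
    obtain ⟨z', rfl⟩ := (pullback.fst X.hom σ).surjective z
    rw [← fibreDimAt_abs X.hom σ (pullback.fst X.hom σ) (pullback.snd X.hom σ) hsq z']
    exact hd z'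
  haveI : IsLocallyNoetherian (Spec (CommRingCat.of A)) := inferInstance
  haveI : IsLocallyNoetherian X.left := LocallyOfFiniteType.isLocallyNoetherian X.hom
  have key : ∀ w : X.left, topologicalKrullDim ↥(connectedComponent w) = (d : WithBot ℕ∞) :=
    fun w => tdim_eq_of_const X.hom d hconst (X.hom w) (connectedComponent w)
      (isOpen_connectedComponent_of_locallyNoetherian w) ⟨w, mem_connectedComponent⟩
      (fun z _ => Subsingleton.elim _ _)
  rw [key x, key y]

end Groth.Agent.Lib.Helper4.HomogDim1
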