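import Mathlib
import Groth.Agent.Lib.Helper8.Depth3

set_option linter.unusedSectionVars false
set_option linter.style.haveILetI false

namespace Groth.Agent.Helper4.DH

open RingTheory.Sequence LocCoh

universe u v w

variable {R : Type u} [CommRing R] (M : Type v) (N : Type w) [AddCommGroup M] [Module R M]
  [AddCommGroup N] [Module R N]

theorem isSMulRegular_linearMap {x : R} (hx : IsSMulRegular N x) :
    IsSMulRegular (M →ₗ[R] N) x := by
  intro φ ψ h
  ext m
  have := LinearMap.congr_fun h m
  simp only [LinearMap.smul_apply] at this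
  exact hx this

/-- the natural map `Hom(M,N)/x Hom(M,N) → Hom(M, N/xN)` -/
noncomputable def quotHom (x : R) : QuotSMulTop x (M →ₗ[R] N) →ₗ[R] (M →ₗ[R] QuotSMulTop x N) :=
  Submodule.liftQ _ (LinearMap.llcomp R M N (QuotSMulTop x N) (Submodule.mkQ _)) (by
    intro φ hφ
    rw [LinearMap.mem_ker]
    obtain ⟨ψ, -, rfl⟩ := (Submodule.mem_smul_pointwise_iff_exists _ _ _).mp hφ
    ext m
    simp only [LinearMap.llcomp_apply, LinearMap.smul_apply, Submodule.mkQ_apply,
      LinearMap.zero_apply]
    rw [Submodule.Quotient.mk_eq_zero]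
    exact Submodule.smul_mem_pointwise_smul _ _ _ Submodule.mem_top)

theorem quotHom_injective {x : R} (hx : IsSMulRegular N x) :
    Function.Injective (quotHom M N x) := by
  classical
  rw [injective_iff_map_eq_zero]
  intro q hq
  obtain ⟨φ, rfl⟩ := Submodule.Quotient.mk_surjective _ q
  rw [Submodule.Quotient.mk_eq_zero]
  have h1 : ∀ m, ∃ n, x • n = φ m := by
    intro m
    have := LinearMap.congr_fun hq m
    simp only [quotHom, Submodule.liftQ_apply, LinearMap.llcomp_apply, Submodule.mkQ_apply,
      LinearMap.zero_apply] at this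
    rw [Submodule.Quotient.mk_eq_zero] at this
    obtain ⟨n, -, hn⟩ := (Submodule.mem_smul_pointwise_iff_exists _ _ _).mp this
    exact ⟨n, hn⟩
  choose ψ hψ using h1
  let ψ' : M →ₗ[R] N :=
    { toFun := ψ
      map_add' := fun a b => by
        apply hx
        simp only [smul_add, hψ, map_add]
      map_smul' := fun r a => by
        apply hx
        simp only [RingHom.id_apply, smul_comm x r, hψ, map_smul] }
  have : φ = x • ψ' := by
    ext m
    simp only [LinearMap.smul_apply, ψ', LinearMap.coe_mk, AddHom.coe_mk, hψ]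
  rw [this]
  exact Submodule.smul_mem_pointwise_smul _ _ _ Submodule.mem_top

theorem isSMulRegular_quot_linearMap {x y : R} (hx : IsSMulRegular N x)
    (hy : IsSMulRegular (QuotSMulTop x N) y) :
    IsSMulRegular (QuotSMulTop x (M →ₗ[R] N)) y := by
  intro a b h
  apply quotHom_injective M N hx
  apply isSMulRegular_linearMap M (QuotSMulTop x N) hy
  change y • _ = y • _
  rw [← map_smul, ← map_smul]
  exact congrArg _ h


section Local

open Groth.Agent.Helper8.Depth IsLocalRing

variable (R)
variable [IsLocalRing R] [Module.Finite R N]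

/-- a weakly regular sequence of length `≤ 2` on `N` is weakly regular on `Hom(M,N)`. -/
theorem isWeaklyRegular_linearMap_of_length_le_two {rs : List R} (h : IsWeaklyRegular N rs)
    (hlen : rs.length ≤ 2) : IsWeaklyRegular (M →ₗ[R] N) rs := by
  match rs, hlen with
  | [], _ => exact IsWeaklyRegular.nil R _
  | [x], _ =>
    rw [isWeaklyRegular_singleton_iff] at h ⊢
    exact isSMulRegular_linearMap M N h
  | [x, y], _ =>
    rw [isWeaklyRegular_cons_iff, isWeaklyRegular_singleton_iff] at h ⊢
    exact ⟨isSMulRegular_linearMap M N h.1, isSMulRegular_quot_linearMap M N h.1 h.2⟩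

theorem le_depth_linearMap (n : ℕ) (hn : n ≤ 2) (h : (n : ℕ∞) ≤ depth R N) :
    (n : ℕ∞) ≤ depth R (M →ₗ[R] N) := by
  rcases subsingleton_or_nontrivial N with hN | hN
  · haveI : Subsingleton (M →ₗ[R] N) := ⟨fun a b => by ext m; exact Subsingleton.elim _ _⟩
    rw [depth_eq_top_of_subsingleton]
    exact le_top
  · have hne := smul_top_ne_top_of_local R N
    unfold depth at h ⊢
    obtain ⟨rs, hlen, hreg, hmem⟩ := (le_idealDepth_iff hne n).mp h
    rw [← hlen]
    exact length_le_idealDepth
      (isWeaklyRegular_linearMap_of_length_le_two R M N hreg (hlen ▸ hn)) hmem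

end Local

end Groth.Agent.Helper4.DH
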