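import Mathlib
import Groth.Agent.Lib.Helper4.DH1
import Groth.Agent.Lib.Helper8.Depth6

set_option linter.unusedSectionVars false
set_option linter.style.haveILetI false

namespace Groth.Agent.Helper4.DH

open RingTheory.Sequence LocCoh

universe u v w

section Support

variable {R : Type u} [CommRing R] [IsNoetherianRing R] (M : Type v) (N : Type w)
  [AddCommGroup M] [Module R M] [AddCommGroup N] [Module R N] [Module.Finite R M]
  [Module.Finite R N]

theorem support_linearMap_subset : Module.support R (M →ₗ[R] N) ⊆ Module.support R N := by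
  rw [Module.support_eq_zeroLocus, Module.support_eq_zeroLocus]
  apply PrimeSpectrum.zeroLocus_anti_mono
  intro r hr
  rw [SetLike.mem_coe, Module.mem_annihilator] at hr ⊢
  intro φ
  ext m
  simp only [LinearMap.smul_apply, hr, LinearMap.zero_apply]

theorem supportDim_linearMap_le : Module.supportDim R (M →ₗ[R] N) ≤ Module.supportDim R N :=
  Order.krullDim_le_of_strictMono (fun a => ⟨a.1, support_linearMap_subset M N a.2⟩)
    (fun {_ _} lt => lt)

end Support

section Main

variable (R : Type u) [CommRing R] [IsNoetherianRing R] (M N : Type u)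
  [AddCommGroup M] [Module R M] [AddCommGroup N] [Module R N] [Module.Finite R M]
  [Module.Finite R N]

/-- localization of Hom as an `R_p`-linear equivalence. -/
noncomputable def localizedHomEquiv (p : Ideal R) [p.IsPrime] :
    LocalizedModule p.primeCompl (M →ₗ[R] N) ≃ₗ[Localization.AtPrime p]
      (LocalizedModule p.primeCompl M →ₗ[Localization.AtPrime p]
        LocalizedModule p.primeCompl N) :=
  haveI : Module.FinitePresentation R M := Module.finitePresentation_of_finite R M
  LinearEquiv.extendScalarsOfIsLocalization p.primeCompl (Localization.AtPrime p)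
    (Module.FinitePresentation.linearEquivMapExtendScalars p.primeCompl)

theorem hasSk_linearMap (k : ℕ) (hk : k ≤ 2) (h : HasSk k R N) : HasSk k R (M →ₗ[R] N) := by
  intro p _
  let Rp := Localization.AtPrime p
  let Mp := LocalizedModule p.primeCompl M
  let Np := LocalizedModule p.primeCompl N
  have e := localizedHomEquiv R M N p
  have hdepth : depth Rp (LocalizedModule p.primeCompl (M →ₗ[R] N)) = depth Rp (Mp →ₗ[Rp] Np) :=
    Groth.Agent.Helper8.Depth.idealDepth_congr e
  have hdim : Module.supportDim Rp (LocalizedModule p.primeCompl (M →ₗ[R] N)) =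
      Module.supportDim Rp (Mp →ₗ[Rp] Np) := Module.supportDim_eq_of_equiv e
  rw [hdepth, hdim]
  have hN := h p
  have hle : Module.supportDim Rp (Mp →ₗ[Rp] Np) ≤ Module.supportDim Rp Np :=
    supportDim_linearMap_le Mp Np
  by_cases hcase : (k : ℕ∞) ≤ depth Rp Np
  · have := le_depth_linearMap Rp Mp Np k hk hcase
    refine le_trans (min_le_left _ _) ?_
    exact_mod_cast this
  · push Not at hcase
    -- depth N_p is a natural number `d < k`
    obtain ⟨d, hd⟩ : ∃ d : ℕ, depth Rp Np = d := by
      have : depth Rp Np ≠ ⊤ := ne_top_of_lt hcase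
      exact ⟨(depth Rp Np).toNat, (ENat.natCast_toNat this).symm⟩
    have hdk : d < k := by
      rw [hd] at hcase
      exact_mod_cast hcase
    have h1 : Module.supportDim Rp Np ≤ ((d : ℕ∞) : WithBot ℕ∞) := by
      rw [hd] at hN
      rcases min_le_iff.mp hN with h2 | h2
      · exfalso
        have : (k : ℕ∞) ≤ (d : ℕ∞) := by exact_mod_cast h2
        have : k ≤ d := by exact_mod_cast this
        omega
      · exact h2
    have h3 : (d : ℕ∞) ≤ depth Rp (Mp →ₗ[Rp] Np) :=
      le_depth_linearMap Rp Mp Np d (by omega) (by rw [hd])
    refine le_trans (min_le_right _ _) (le_trans hle (le_trans h1 ?_))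
    exact_mod_cast h3

end Main

end Groth.Agent.Helper4.DH
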