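import Mathlib
import Groth.Agent.Lib.Helper4.DH2
import Groth.Agent.Lib.Helper4.TF8

set_option linter.unusedSectionVars false
set_option linter.style.haveILetI false

namespace Groth.Agent.Helper4.DH

open RingTheory.Sequence LocCoh

universe u v w

section Congr

variable {R : Type u} [CommRing R] {M : Type v} {N : Type w}
  [AddCommGroup M] [Module R M] [AddCommGroup N] [Module R N]

theorem hasSk_congr (k : ℕ) (e : M ≃ₗ[R] N) (h : HasSk k R M) : HasSk k R N := by
  intro p _
  let e' : LocalizedModule p.primeCompl M ≃ₗ[Localization.AtPrime p]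
      LocalizedModule p.primeCompl N :=
    IsLocalizedModule.mapEquiv p.primeCompl (LocalizedModule.mkLinearMap p.primeCompl M)
      (LocalizedModule.mkLinearMap p.primeCompl N) (Localization.AtPrime p) e
  have h1 := h p
  have hdepth : depth (Localization.AtPrime p) (LocalizedModule p.primeCompl M) =
      depth (Localization.AtPrime p) (LocalizedModule p.primeCompl N) :=
    Groth.Agent.Helper8.Depth.idealDepth_congr e'
  rw [← hdepth, ← Module.supportDim_eq_of_equiv e']
  exact h1

end Congr

section Main

open Groth.Agent.Helper4.TF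

variable (R : Type u) [CommRing R] [IsDomain R] [IsNoetherianRing R] (M : Type u)
  [AddCommGroup M] [Module R M] [Module.Finite R M] [Module.IsReflexive R M]

theorem two_le_depth_localizedModule_of_isReflexive (p : Ideal R) [p.IsPrime]
    (h : 2 ≤ depth (Localization.AtPrime p) (Localization.AtPrime p)) :
    2 ≤ depth (Localization.AtPrime p) (LocalizedModule p.primeCompl M) := by
  let Rp := Localization.AtPrime p
  let Mp := LocalizedModule p.primeCompl M
  haveI : Module.IsReflexive Rp Mp := isReflexive_localizedModule R M p
  have e : Mp ≃ₗ[Rp] Module.Dual Rp (Module.Dual Rp Mp) := Module.evalEquiv Rp Mp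
  have hdepth : depth Rp Mp = depth Rp (Module.Dual Rp (Module.Dual Rp Mp)) :=
    Groth.Agent.Helper8.Depth.idealDepth_congr e
  rw [hdepth]
  exact_mod_cast le_depth_linearMap Rp (Module.Dual Rp Mp) Rp 2 le_rfl (by exact_mod_cast h)

theorem hasSk_two_of_isReflexive (h : HasSk 2 R R) : HasSk 2 R M := by
  have h1 : HasSk 2 R (Module.Dual R M →ₗ[R] R) := hasSk_linearMap R (Module.Dual R M) R 2 le_rfl h
  exact hasSk_congr 2 (Module.evalEquiv R M).symm h1

end Main

end Groth.Agent.Helper4.DH
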