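import Mathlib
import Groth.Prelude.Def_EtMil

/-!
# Basic facts on fibre squares of rings `B' = B ×_A A'` with `A' → A` surjective
-/

set_option linter.unusedSectionVars false

namespace Groth.Agent.Helper4.Milnor

open TensorProduct

universe u

variable {B' B A' A : Type u} [CommRing B'] [CommRing B] [CommRing A'] [CommRing A]
  [Algebra B' B] [Algebra B' A'] [Algebra B A] [Algebra A' A] [Algebra B' A]
  [IsScalarTower B' B A] [IsScalarTower B' A' A]

theorem compat (b' : B') :
    algebraMap B A (algebraMap B' B b') = algebraMap A' A (algebraMap B' A' b') := by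
  rw [← IsScalarTower.algebraMap_apply B' B A, ← IsScalarTower.algebraMap_apply B' A' A]

theorem surj (hsq : EtMil.IsFibreSquare B' B A' A) : Function.Surjective (algebraMap B' B) := by
  intro b
  obtain ⟨a', ha'⟩ := hsq.1 (algebraMap B A b)
  obtain ⟨b', ⟨hb', _⟩, _⟩ := hsq.2 b a' ha'.symm
  exact ⟨b', hb'⟩

theorem eq_of (hsq : EtMil.IsFibreSquare B' B A' A) (x y : B')
    (h1 : algebraMap B' B x = algebraMap B' B y) (h2 : algebraMap B' A' x = algebraMap B' A' y) :
    x = y := by
  obtain ⟨z, _, hz⟩ := hsq.2 (algebraMap B' B y) (algebraMap B' A' y)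
    (show algebraMap B A (algebraMap B' B y) = algebraMap A' A (algebraMap B' A' y) from compat y)
  rw [hz x ⟨h1, h2⟩, hz y ⟨rfl, rfl⟩]

theorem exists_ker (hsq : EtMil.IsFibreSquare B' B A' A) (i : A') (hi : algebraMap A' A i = 0) :
    ∃ j : B', algebraMap B' B j = 0 ∧ algebraMap B' A' j = i := by
  obtain ⟨b', ⟨h1, h2⟩, _⟩ := hsq.2 0 i (by rw [map_zero, hi])
  exact ⟨b', h1, h2⟩

theorem exists_pair (hsq : EtMil.IsFibreSquare B' B A' A) (b : B) (a' : A')
    (h : algebraMap B A b = algebraMap A' A a') :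
    ∃ b' : B', algebraMap B' B b' = b ∧ algebraMap B' A' b' = a' := by
  obtain ⟨b', ⟨h1, h2⟩, _⟩ := hsq.2 b a' h
  exact ⟨b', h1, h2⟩

/-- For `j` in the kernel of `B' → B`, multiplication by (the image of) `j` on `A'` lifts
to a `B'`-linear map `A' → B'` with values in the kernel of `B' → B`. -/
theorem exists_star (hsq : EtMil.IsFibreSquare B' B A' A) (j : B') (hj : algebraMap B' B j = 0) :
    ∃ s : A' →ₗ[B'] B', (∀ a', algebraMap B' B (s a') = 0) ∧
      (∀ a', algebraMap B' A' (s a') = algebraMap B' A' j * a') ∧ s 1 = j := by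
  have hker : ∀ a' : A', algebraMap A' A (algebraMap B' A' j * a') = 0 := by
    intro a'
    rw [map_mul, ← compat (B := B) (A' := A') (A := A) j, hj, map_zero, zero_mul]
  choose f hf1 hf2 using fun a' => exists_ker hsq _ (hker a')
  refine ⟨{ toFun := f, map_add' := ?_, map_smul' := ?_ }, hf1, hf2, ?_⟩
  · intro x y
    apply eq_of hsq
    · rw [map_add, hf1, hf1, hf1, add_zero]
    · rw [map_add, hf2, hf2, hf2, mul_add]
  · intro c x
    apply eq_of hsq
    · rw [RingHom.id_apply, smul_eq_mul, map_mul, hf1, hf1, mul_zero]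
    · rw [RingHom.id_apply, smul_eq_mul, map_mul, hf2, hf2, Algebra.smul_def]; ring
  · apply eq_of hsq
    · change algebraMap B' B (f 1) = _
      rw [hf1, hj]
    · change algebraMap B' A' (f 1) = _
      rw [hf2, mul_one]

variable (L' : Type u) [AddCommGroup L'] [Module B' L']

/-- Every element of `B ⊗[B'] L'` is of the form `1 ⊗ l`. -/
theorem exists_one_tmul (hsq : EtMil.IsFibreSquare B' B A' A) (x : B ⊗[B'] L') :
    ∃ l : L', (1 : B) ⊗ₜ[B'] l = x := by
  induction x using TensorProduct.induction_on with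
  | zero => exact ⟨0, by simp⟩
  | tmul b l =>
    obtain ⟨b', rfl⟩ := surj hsq b
    refine ⟨b' • l, ?_⟩
    rw [← TensorProduct.smul_tmul, Algebra.smul_def, mul_one]
  | add x y hx hy =>
    obtain ⟨l1, rfl⟩ := hx
    obtain ⟨l2, rfl⟩ := hy
    exact ⟨l1 + l2, by rw [TensorProduct.tmul_add]⟩

/-- If `1 ⊗ l = 0` in `A' ⊗[B'] L'` then the kernel of `B' → B` kills `l`. -/
theorem ker_smul_eq_zero (hsq : EtMil.IsFibreSquare B' B A' A) (l : L')
    (h2 : ((1 : A') ⊗ₜ[B'] l : A' ⊗[B'] L') = 0) (j : B') (hj : algebraMap B' B j = 0) :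
    j • l = 0 := by
  obtain ⟨s, _, _, hs1⟩ := exists_star hsq j hj
  -- the bilinear map (a', l) ↦ s a' • l
  let μ : A' ⊗[B'] L' →ₗ[B'] L' :=
    TensorProduct.lift ((LinearMap.lsmul B' L').comp s)
  have : μ ((1 : A') ⊗ₜ[B'] l) = j • l := by
    simp [μ, hs1]
  rw [← this, h2, map_zero]

/-- If `1 ⊗ l = 0` in `B ⊗[B'] L'` then `l ∈ J L'` for `J` the kernel of `B' → B`. -/
theorem mem_ker_smul_top (hsq : EtMil.IsFibreSquare B' B A' A) (l : L')
    (h1 : ((1 : B) ⊗ₜ[B'] l : B ⊗[B'] L') = 0) :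
    l ∈ (RingHom.ker (algebraMap B' B)) • (⊤ : Submodule B' L') := by
  set J := RingHom.ker (algebraMap B' B) with hJ
  -- the map B ⊗ L' → L' / J L'
  have hsurj := surj hsq
  let q : L' →ₗ[B'] L' ⧸ (J • (⊤ : Submodule B' L')) := Submodule.mkQ _
  -- B ≃ B' / J, so define bilinear B → L' → L'/JL' by b ↦ l ↦ b' • q l
  have key : ∀ b' : B', algebraMap B' B b' = 0 → ∀ l : L', q (b' • l) = 0 := by
    intro b' hb' l
    rw [Submodule.mkQ_apply, Submodule.Quotient.mk_eq_zero]
    exact Submodule.smul_mem_smul (by rw [hJ, RingHom.mem_ker]; exact hb') trivial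
  -- build the linear map from B
  let g : B' →ₗ[B'] (L' →ₗ[B'] L' ⧸ (J • (⊤ : Submodule B' L'))) :=
    (LinearMap.lsmul B' (L' →ₗ[B'] L' ⧸ (J • (⊤ : Submodule B' L')))).flip q
  have hg : ∀ b', g b' = b' • q := fun b' => rfl
  have hgker : LinearMap.ker (Algebra.linearMap B' B) ≤ LinearMap.ker g := by
    intro b' hb'
    rw [LinearMap.mem_ker] at hb' ⊢
    ext l
    rw [hg, LinearMap.smul_apply, ← map_smul]
    exact key b' hb' l
  let e : (B' ⧸ LinearMap.ker (Algebra.linearMap B' B)) ≃ₗ[B'] B :=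
    (Algebra.linearMap B' B).quotKerEquivOfSurjective hsurj
  let g' : B →ₗ[B'] (L' →ₗ[B'] L' ⧸ (J • (⊤ : Submodule B' L'))) :=
    ((LinearMap.ker (Algebra.linearMap B' B)).liftQ g hgker).comp e.symm.toLinearMap
  have hg'1 : g' 1 = q := by
    have : e.symm 1 = Submodule.Quotient.mk 1 := by
      rw [LinearEquiv.symm_apply_eq]
      change (1 : B) = (Algebra.linearMap B' B) 1
      simp
    simp only [g', LinearMap.comp_apply, LinearEquiv.coe_coe, this]
    change (LinearMap.ker (Algebra.linearMap B' B)).liftQ g hgker (Submodule.mkQ _ 1) = q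
    rw [Submodule.mkQ_apply, Submodule.liftQ_apply, hg, one_smul]
  let μ : B ⊗[B'] L' →ₗ[B'] L' ⧸ (J • (⊤ : Submodule B' L')) := TensorProduct.lift g'
  have hμ : μ ((1 : B) ⊗ₜ[B'] l) = q l := by
    simp only [μ, TensorProduct.lift.tmul, hg'1]
  rw [h1, map_zero] at hμ
  have := hμ.symm
  rwa [Submodule.mkQ_apply, Submodule.Quotient.mk_eq_zero] at this

/-- A module over `B'` whose base changes to `B` and `A'` vanish is zero. -/
theorem subsingleton_of_tensor (hsq : EtMil.IsFibreSquare B' B A' A)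
    [Subsingleton (B ⊗[B'] L')] [Subsingleton (A' ⊗[B'] L')] : Subsingleton L' := by
  refine ⟨fun a b => ?_⟩
  have key : ∀ l : L', l = 0 := by
    intro l
    have h1 : ((1 : B) ⊗ₜ[B'] l : B ⊗[B'] L') = 0 := Subsingleton.elim _ _
    have hl := mem_ker_smul_top L' hsq l h1
    refine Submodule.smul_induction_on hl ?_ ?_
    · intro j hj m _
      have h2 : ((1 : A') ⊗ₜ[B'] m : A' ⊗[B'] L') = 0 := Subsingleton.elim _ _
      exact ker_smul_eq_zero L' hsq m h2 j hj
    · intro x y hx hy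
      rw [hx, hy, add_zero]
  rw [key a, key b]

/-- If `S ⊗[R] M` is a finite `S`-module there is a finitely generated submodule `N` of `M`
with `S ⊗[R] (M ⧸ N) = 0`. -/
theorem exists_fg_tensor_quotient_subsingleton (R S M : Type*) [CommRing R] [CommRing S]
    [Algebra R S] [AddCommGroup M] [Module R M] [Module.Finite S (S ⊗[R] M)] :
    ∃ N : Submodule R M, N.FG ∧ ∀ N' : Submodule R M, N ≤ N' → Subsingleton (S ⊗[R] (M ⧸ N')) := by
  classical
  have hspan : Submodule.span S (TensorProduct.mk R S M 1 '' (Set.univ : Set M)) = ⊤ := by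
    rw [← Submodule.baseChange_span, Submodule.span_univ, Submodule.baseChange_top]
  have hfg : (Submodule.span S (TensorProduct.mk R S M 1 '' (Set.univ : Set M))).FG := by
    rw [hspan]; exact Module.Finite.fg_top
  obtain ⟨s', hs's, hs'⟩ := (Submodule.fg_span_iff_fg_span_finset_subset _).mp hfg
  obtain ⟨t, -, rfl⟩ := Finset.subset_set_image_iff.mp hs's
  refine ⟨Submodule.span R (t : Set M), ⟨t, rfl⟩, fun N' hN' => ?_⟩
  set π : M →ₗ[R] M ⧸ N' := N'.mkQ
  have hsurj : Function.Surjective (π.baseChange S) := by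
    have : Function.Surjective (LinearMap.lTensor S π) :=
      LinearMap.lTensor_surjective S (Submodule.mkQ_surjective N')
    intro y
    obtain ⟨x, hx⟩ := this y
    exact ⟨x, hx⟩
  have hzero : ∀ x : S ⊗[R] M, π.baseChange S x = 0 := by
    intro x
    have hx : x ∈ Submodule.span S ((t.image (TensorProduct.mk R S M 1) : Finset _) : Set (S ⊗[R] M)) := by
      rw [← hs', hspan]; trivial
    refine Submodule.span_induction ?_ ?_ ?_ ?_ hx
    · intro y hy
      rw [Finset.coe_image] at hy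
      obtain ⟨m, hm, rfl⟩ := hy
      rw [TensorProduct.mk_apply, LinearMap.baseChange_tmul]
      have : π m = 0 := by
        rw [Submodule.mkQ_apply, Submodule.Quotient.mk_eq_zero]
        exact hN' (Submodule.subset_span hm)
      rw [this, TensorProduct.tmul_zero]
    · exact map_zero _
    · intro a b _ _ ha hb
      rw [map_add, ha, hb, add_zero]
    · intro c a _ ha
      rw [map_smul, ha, smul_zero]
  refine ⟨fun a b => ?_⟩
  obtain ⟨x, rfl⟩ := hsurj a
  obtain ⟨y, rfl⟩ := hsurj b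
  rw [hzero x, hzero y]

/-- Finiteness descends along a fibre square. -/
theorem finite_of_tensor (hsq : EtMil.IsFibreSquare B' B A' A)
    [Module.Finite B (B ⊗[B'] L')] [Module.Finite A' (A' ⊗[B'] L')] : Module.Finite B' L' := by
  obtain ⟨N₁, hN₁, h₁⟩ := exists_fg_tensor_quotient_subsingleton B' B L'
  obtain ⟨N₂, hN₂, h₂⟩ := exists_fg_tensor_quotient_subsingleton B' A' L'
  have hfg : (N₁ ⊔ N₂).FG := hN₁.sup hN₂
  haveI := h₁ (N₁ ⊔ N₂) le_sup_left
  haveI := h₂ (N₁ ⊔ N₂) le_sup_right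
  have hsub : Subsingleton (L' ⧸ (N₁ ⊔ N₂)) := subsingleton_of_tensor (L' ⧸ (N₁ ⊔ N₂)) hsq
  have htop : N₁ ⊔ N₂ = ⊤ := Submodule.Quotient.subsingleton_iff.mp hsub
  rw [htop] at hfg
  exact ⟨hfg⟩

section General

variable {R S : Type*} [CommRing R] [CommRing S] [Algebra R S] (M : Type*) [AddCommGroup M]
  [Module R M]

/-- For a surjective `R → S`, every element of `S ⊗[R] M` is of the form `1 ⊗ m`. -/
theorem exists_one_tmul_of_surjective (hs : Function.Surjective (algebraMap R S))
    (x : S ⊗[R] M) : ∃ m : M, (1 : S) ⊗ₜ[R] m = x := by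
  induction x using TensorProduct.induction_on with
  | zero => exact ⟨0, by simp⟩
  | tmul b l =>
    obtain ⟨b', rfl⟩ := hs b
    refine ⟨b' • l, ?_⟩
    rw [← TensorProduct.smul_tmul, Algebra.smul_def, mul_one]
  | add x y hx hy =>
    obtain ⟨l1, rfl⟩ := hx
    obtain ⟨l2, rfl⟩ := hy
    exact ⟨l1 + l2, by rw [TensorProduct.tmul_add]⟩

/-- For a surjective `R → S` with kernel `I`, `1 ⊗ m = 0` in `S ⊗[R] M` iff `m ∈ I M`. -/
theorem mem_ker_smul_top_of_surjective (hs : Function.Surjective (algebraMap R S)) (l : M)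
    (h1 : ((1 : S) ⊗ₜ[R] l : S ⊗[R] M) = 0) :
    l ∈ (RingHom.ker (algebraMap R S)) • (⊤ : Submodule R M) := by
  set J := RingHom.ker (algebraMap R S) with hJ
  let q : M →ₗ[R] M ⧸ (J • (⊤ : Submodule R M)) := Submodule.mkQ _
  have key : ∀ b' : R, algebraMap R S b' = 0 → ∀ l : M, q (b' • l) = 0 := by
    intro b' hb' l
    rw [Submodule.mkQ_apply, Submodule.Quotient.mk_eq_zero]
    exact Submodule.smul_mem_smul (by rw [hJ, RingHom.mem_ker]; exact hb') trivial
  let g : R →ₗ[R] (M →ₗ[R] M ⧸ (J • (⊤ : Submodule R M))) :=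
    (LinearMap.lsmul R (M →ₗ[R] M ⧸ (J • (⊤ : Submodule R M)))).flip q
  have hg : ∀ b', g b' = b' • q := fun b' => rfl
  have hgker : LinearMap.ker (Algebra.linearMap R S) ≤ LinearMap.ker g := by
    intro b' hb'
    rw [LinearMap.mem_ker] at hb' ⊢
    ext l
    rw [hg, LinearMap.smul_apply, ← map_smul]
    exact key b' hb' l
  let e : (R ⧸ LinearMap.ker (Algebra.linearMap R S)) ≃ₗ[R] S :=
    (Algebra.linearMap R S).quotKerEquivOfSurjective hs
  let g' : S →ₗ[R] (M →ₗ[R] M ⧸ (J • (⊤ : Submodule R M))) :=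
    ((LinearMap.ker (Algebra.linearMap R S)).liftQ g hgker).comp e.symm.toLinearMap
  have hg'1 : g' 1 = q := by
    have : e.symm 1 = Submodule.Quotient.mk 1 := by
      rw [LinearEquiv.symm_apply_eq]
      change (1 : S) = (Algebra.linearMap R S) 1
      simp
    simp only [g', LinearMap.comp_apply, LinearEquiv.coe_coe, this]
    change (LinearMap.ker (Algebra.linearMap R S)).liftQ g hgker (Submodule.mkQ _ 1) = q
    rw [Submodule.mkQ_apply, Submodule.liftQ_apply, hg, one_smul]
  let μ : S ⊗[R] M →ₗ[R] M ⧸ (J • (⊤ : Submodule R M)) := TensorProduct.lift g'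
  have hμ : μ ((1 : S) ⊗ₜ[R] l) = q l := by
    simp only [μ, TensorProduct.lift.tmul, hg'1]
  rw [h1, map_zero] at hμ
  have := hμ.symm
  rwa [Submodule.mkQ_apply, Submodule.Quotient.mk_eq_zero] at this

/-- Conversely, elements of `I M` die in `S ⊗[R] M`. -/
theorem one_tmul_eq_zero_of_mem (l : M)
    (h : l ∈ (RingHom.ker (algebraMap R S)) • (⊤ : Submodule R M)) :
    ((1 : S) ⊗ₜ[R] l : S ⊗[R] M) = 0 := by
  refine Submodule.smul_induction_on h ?_ ?_
  · intro j hj m _
    rw [← TensorProduct.smul_tmul, Algebra.smul_def, (RingHom.mem_ker).mp hj, zero_mul,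
      TensorProduct.zero_tmul]
  · intro x y hx hy
    rw [TensorProduct.tmul_add, hx, hy, add_zero]

end General

end Groth.Agent.Helper4.Milnor
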