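import Mathlib
import Groth.Agent.Lib.Helper4.Milnor

set_option linter.unusedSectionVars false
set_option linter.style.haveILetI false

namespace Groth.Agent.Helper4.Milnor

open TensorProduct

section F1

variable {R S : Type*} [CommRing R] [CommRing S] [Algebra R S]

/-- If `R → S` is surjective and `S ⊗[R] L` is `S`-flat, then `- ⊗[R] L` preserves injectivity of
maps between `R`-modules killed by the kernel of `R → S`. -/
theorem rTensor_injective_of_torsion (hs : Function.Surjective (algebraMap R S))
    (L : Type*) [AddCommGroup L] [Module R L] [Module.Flat S (S ⊗[R] L)]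
    {Y₁ Y₂ : Type*} [AddCommGroup Y₁] [Module R Y₁] [AddCommGroup Y₂] [Module R Y₂]
    (h₁ : ∀ r : R, algebraMap R S r = 0 → ∀ y : Y₁, r • y = 0)
    (h₂ : ∀ r : R, algebraMap R S r = 0 → ∀ y : Y₂, r • y = 0)
    (f : Y₁ →ₗ[R] Y₂) (hf : Function.Injective f) : Function.Injective (f.rTensor L) := by
  classical
  -- S-module structures
  letI s₁ : SMul S Y₁ := ⟨fun s y => (Classical.choose (hs s)) • y⟩
  letI s₂ : SMul S Y₂ := ⟨fun s y => (Classical.choose (hs s)) • y⟩
  have hsm₁ : ∀ (c : R) (x : Y₁), algebraMap R S c • x = c • x := by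
    intro c x
    change (Classical.choose (hs (algebraMap R S c))) • x = c • x
    have h := Classical.choose_spec (hs (algebraMap R S c))
    rw [← sub_eq_zero, ← sub_smul]
    exact h₁ _ (by rw [map_sub, h, sub_self]) x
  have hsm₂ : ∀ (c : R) (x : Y₂), algebraMap R S c • x = c • x := by
    intro c x
    change (Classical.choose (hs (algebraMap R S c))) • x = c • x
    have h := Classical.choose_spec (hs (algebraMap R S c))
    rw [← sub_eq_zero, ← sub_smul]
    exact h₂ _ (by rw [map_sub, h, sub_self]) x
  letI m₁ : Module S Y₁ := Function.Surjective.moduleLeft (algebraMap R S) hs hsm₁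
  letI m₂ : Module S Y₂ := Function.Surjective.moduleLeft (algebraMap R S) hs hsm₂
  haveI t₁ : IsScalarTower R S Y₁ := IsScalarTower.of_algebraMap_smul hsm₁
  haveI t₂ : IsScalarTower R S Y₂ := IsScalarTower.of_algebraMap_smul hsm₂
  let fS : Y₁ →ₗ[S] Y₂ :=
    { toFun := f
      map_add' := f.map_add
      map_smul' := by
        intro s y
        obtain ⟨r, rfl⟩ := hs s
        rw [RingHom.id_apply, algebraMap_smul, algebraMap_smul]
        exact f.map_smul r y }
  have hinj : Function.Injective (fS.rTensor (S ⊗[R] L)) :=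
    Module.Flat.rTensor_preserves_injective_linearMap fS hf
  let e₁ := TensorProduct.AlgebraTensorModule.cancelBaseChange R S S Y₁ L
  let e₂ := TensorProduct.AlgebraTensorModule.cancelBaseChange R S S Y₂ L
  have hcomm : ∀ z : Y₁ ⊗[S] (S ⊗[R] L), e₂ (fS.rTensor (S ⊗[R] L) z) = f.rTensor L (e₁ z) := by
    intro z
    induction z using TensorProduct.induction_on with
    | zero => simp
    | tmul y w =>
      induction w using TensorProduct.induction_on with
      | zero => simp
      | tmul s l =>
        simp only [e₁, e₂, LinearMap.rTensor_tmul,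
          TensorProduct.AlgebraTensorModule.cancelBaseChange_tmul]
        change (s • f y) ⊗ₜ[R] l = f (s • y) ⊗ₜ[R] l
        have : f (s • y) = s • f y := fS.map_smul s y
        rw [this]
      | add w₁ w₂ h₁ h₂ => 
        rw [TensorProduct.tmul_add, map_add, map_add, h₁, h₂, map_add, map_add]
    | add z₁ z₂ h₁ h₂ => rw [map_add, map_add, h₁, h₂, map_add, map_add]
  intro x y hxy
  have hx : e₁ (e₁.symm x) = x := e₁.apply_symm_apply x
  have hy : e₁ (e₁.symm y) = y := e₁.apply_symm_apply y
  rw [← hx, ← hy, ← hcomm, ← hcomm] at hxy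
  have := hinj (e₂.injective hxy)
  rw [← hx, ← hy, this]

/-- Dévissage: to check that `f ⊗ L` is injective it suffices to do so on the kernel of a map
to a torsion module. -/
theorem rTensor_injective_of_devissage (hs : Function.Surjective (algebraMap R S))
    (L : Type*) [AddCommGroup L] [Module R L] [Module.Flat S (S ⊗[R] L)]
    {U₀ U V Q : Type*} [AddCommGroup U₀] [Module R U₀] [AddCommGroup U] [Module R U]
    [AddCommGroup V] [Module R V] [AddCommGroup Q] [Module R Q]
    (i : U₀ →ₗ[R] U) (f : U →ₗ[R] V) (q : V →ₗ[R] Q)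
    (hq : ∀ r : R, algebraMap R S r = 0 → ∀ v : V, q (r • v) = 0)
    (hex : Function.Exact i (q ∘ₗ f))
    (hinj : Function.Injective ((f ∘ₗ i).rTensor L)) : Function.Injective (f.rTensor L) := by
  let QV := LinearMap.range q
  let QU := LinearMap.range (q ∘ₗ f)
  let p : U →ₗ[R] QU := (q ∘ₗ f).rangeRestrict
  let q' : V →ₗ[R] QV := q.rangeRestrict
  let fbar : QU →ₗ[R] QV := Submodule.inclusion (LinearMap.range_comp_le_range f q)
  have hfbar : Function.Injective fbar := Submodule.inclusion_injective _
  have hcomm : fbar ∘ₗ p = q' ∘ₗ f := by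
    ext u
    rfl
  have hp : Function.Surjective p := LinearMap.surjective_rangeRestrict _
  have hex' : Function.Exact i p := by
    intro u
    rw [← hex u]
    constructor
    · intro h
      have := congrArg Subtype.val h
      exact this
    · intro h
      exact Subtype.ext h
  have hQV : ∀ r : R, algebraMap R S r = 0 → ∀ y : QV, r • y = 0 := by
    rintro r hr ⟨y, v, rfl⟩
    apply Subtype.ext
    change r • q v = 0
    rw [← map_smul]
    exact hq r hr v
  have hQU : ∀ r : R, algebraMap R S r = 0 → ∀ y : QU, r • y = 0 := by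
    rintro r hr ⟨y, u, rfl⟩
    apply Subtype.ext
    change r • q (f u) = 0
    rw [← map_smul]
    exact hq r hr (f u)
  have hF1 := rTensor_injective_of_torsion hs L hQU hQV fbar hfbar
  have hexT := rTensor_exact L hex' hp
  rw [injective_iff_map_eq_zero]
  intro x hx
  have h1 : (fbar.rTensor L) ((p.rTensor L) x) = 0 := by
    rw [← LinearMap.comp_apply, ← LinearMap.rTensor_comp, hcomm, LinearMap.rTensor_comp,
      LinearMap.comp_apply, hx, map_zero]
  have h2 : (p.rTensor L) x = 0 := by
    apply hF1
    rw [h1, map_zero]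
  obtain ⟨w, rfl⟩ := (hexT x).1 h2
  have h3 : ((f ∘ₗ i).rTensor L) w = 0 := by
    rw [LinearMap.rTensor_comp, LinearMap.comp_apply, hx]
  have : w = 0 := by
    apply hinj
    rw [h3, map_zero]
  rw [this, map_zero]

end F1

section F2

variable {R S : Type*} [CommRing R] [CommRing S] [Algebra R S]

/-- If `S ⊗[R] L` is `S`-flat, then `- ⊗[R] L` preserves injectivity of `S`-linear maps. -/
theorem rTensor_injective_of_flat_baseChange
    (L : Type*) [AddCommGroup L] [Module R L] [Module.Flat S (S ⊗[R] L)]
    {Y₁ Y₂ : Type*} [AddCommGroup Y₁] [Module R Y₁] [Module S Y₁] [IsScalarTower R S Y₁]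
    [AddCommGroup Y₂] [Module R Y₂] [Module S Y₂] [IsScalarTower R S Y₂]
    (fS : Y₁ →ₗ[S] Y₂) (hf : Function.Injective fS) :
    Function.Injective ((fS.restrictScalars R).rTensor L) := by
  have hinj : Function.Injective (fS.rTensor (S ⊗[R] L)) :=
    Module.Flat.rTensor_preserves_injective_linearMap fS hf
  let e₁ := TensorProduct.AlgebraTensorModule.cancelBaseChange R S S Y₁ L
  let e₂ := TensorProduct.AlgebraTensorModule.cancelBaseChange R S S Y₂ L
  have hcomm : ∀ z : Y₁ ⊗[S] (S ⊗[R] L),
      e₂ (fS.rTensor (S ⊗[R] L) z) = (fS.restrictScalars R).rTensor L (e₁ z) := by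
    intro z
    induction z using TensorProduct.induction_on with
    | zero => simp
    | tmul y w =>
      induction w using TensorProduct.induction_on with
      | zero => simp
      | tmul s l =>
        simp only [e₁, e₂, LinearMap.rTensor_tmul,
          TensorProduct.AlgebraTensorModule.cancelBaseChange_tmul]
        change (s • fS y) ⊗ₜ[R] l = fS (s • y) ⊗ₜ[R] l
        rw [fS.map_smul]
      | add w₁ w₂ h₁ h₂ =>
        rw [TensorProduct.tmul_add, map_add, map_add, h₁, h₂, map_add, map_add]
    | add z₁ z₂ h₁ h₂ => rw [map_add, map_add, h₁, h₂, map_add, map_add]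
  intro x y hxy
  have hx : e₁ (e₁.symm x) = x := e₁.apply_symm_apply x
  have hy : e₁ (e₁.symm y) = y := e₁.apply_symm_apply y
  rw [← hx, ← hy, ← hcomm, ← hcomm] at hxy
  have := hinj (e₂.injective hxy)
  rw [← hx, ← hy, this]

end F2

section Square

universe u

variable {B' B A' A : Type u} [CommRing B'] [CommRing B] [CommRing A'] [CommRing A]
  [Algebra B' B] [Algebra B' A'] [Algebra B A] [Algebra A' A] [Algebra B' A]
  [IsScalarTower B' B A] [IsScalarTower B' A' A]
  (L' : Type u) [AddCommGroup L'] [Module B' L']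

theorem map_ker_le (x : B') (hx : algebraMap B' B x = 0) :
    algebraMap A' A (algebraMap B' A' x) = 0 := by
  rw [← compat (B := B), hx, map_zero]

/-- E1: ideals of `B'` inside `ker (B' → B)` coming from ideals of `A'` are `L'`-injective. -/
theorem rTensor_subtype_injective_of_le_ker (hsq : EtMil.IsFibreSquare B' B A' A)
    [Module.Flat A' (A' ⊗[B'] L')] (c' : Ideal A') (hc' : c' ≤ RingHom.ker (algebraMap A' A)) :
    Function.Injective
      ((RingHom.ker (algebraMap B' B) ⊓ Ideal.comap (algebraMap B' A') c').subtype.rTensor L') := by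
  set c : Ideal B' := RingHom.ker (algebraMap B' B) ⊓ Ideal.comap (algebraMap B' A') c' with hc
  -- the equivalence c ≃ c'
  let e₀ : c →ₗ[B'] (c'.restrictScalars B') :=
    { toFun := fun x => ⟨algebraMap B' A' x, x.2.2⟩
      map_add' := by
        intro x y
        apply Subtype.ext
        simp
      map_smul' := by
        intro r x
        apply Subtype.ext
        simp [Algebra.smul_def] }
  have he₀ : Function.Bijective e₀ := by
    constructor
    · intro x y hxy
      apply Subtype.ext
      have h2 : algebraMap B' A' x = algebraMap B' A' y := congrArg Subtype.val hxy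
      have h1 : algebraMap B' B x = algebraMap B' B y := by
        rw [(RingHom.mem_ker).1 x.2.1, (RingHom.mem_ker).1 y.2.1]
      exact eq_of hsq _ _ h1 h2
    · rintro ⟨y, hy⟩
      obtain ⟨j, hj1, hj2⟩ := exists_ker hsq y ((RingHom.mem_ker).1 (hc' hy))
      refine ⟨⟨j, (RingHom.mem_ker).2 hj1, ?_⟩, ?_⟩
      · change algebraMap B' A' j ∈ c'
        rw [hj2]; exact hy
      · apply Subtype.ext
        exact hj2
  let e : c ≃ₗ[B'] (c'.restrictScalars B') := LinearEquiv.ofBijective e₀ he₀
  have hF2 : Function.Injective (((Submodule.subtype c').restrictScalars B').rTensor L') :=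
    rTensor_injective_of_flat_baseChange (R := B') (S := A') L' (Submodule.subtype c')
      (Submodule.subtype_injective c')
  let sub' : ↥(c'.restrictScalars B') →ₗ[B'] A' := (c'.restrictScalars B').subtype
  have hF2' : Function.Injective (sub'.rTensor L') := hF2
  have hcomp : (Algebra.linearMap B' A') ∘ₗ c.subtype = sub' ∘ₗ e.toLinearMap := by
    ext x
    rfl
  have h1 : Function.Injective (((Algebra.linearMap B' A') ∘ₗ c.subtype).rTensor L') := by
    rw [hcomp, LinearMap.rTensor_comp]
    exact hF2'.comp (TensorProduct.congr e (LinearEquiv.refl B' L')).injective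
  rw [LinearMap.rTensor_comp] at h1
  exact Function.Injective.of_comp h1

/-- elements of `I * map β 𝔟` lift to `𝔟` -/
theorem exists_mem_of_mem_mul_map (hsq : EtMil.IsFibreSquare B' B A' A) (b : Ideal B')
    (z : A') (hz : z ∈ RingHom.ker (algebraMap A' A) * Ideal.map (algebraMap B' A') b) :
    ∃ w : B', w ∈ b ∧ algebraMap B' B w = 0 ∧ algebraMap B' A' w = z := by
  have key : ∀ m ∈ Ideal.map (algebraMap B' A') b, ∀ i ∈ RingHom.ker (algebraMap A' A),
      ∃ w : B', w ∈ b ∧ algebraMap B' B w = 0 ∧ algebraMap B' A' w = i * m := by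
    intro m hm
    refine Submodule.span_induction ?_ ?_ ?_ ?_ hm
    · rintro _ ⟨x, hx, rfl⟩ i hi
      obtain ⟨k, hk1, hk2⟩ := exists_ker hsq i ((RingHom.mem_ker).1 hi)
      refine ⟨k * x, Ideal.mul_mem_left _ _ hx, ?_, ?_⟩
      · rw [map_mul, hk1, zero_mul]
      · rw [map_mul, hk2]
    · intro i _
      exact ⟨0, Ideal.zero_mem _, map_zero _, by rw [map_zero, mul_zero]⟩
    · intro x y _ _ hx hy i hi
      obtain ⟨w₁, h11, h12, h13⟩ := hx i hi
      obtain ⟨w₂, h21, h22, h23⟩ := hy i hi
      refine ⟨w₁ + w₂, Ideal.add_mem _ h11 h21, ?_, ?_⟩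
      · rw [map_add, h12, h22, add_zero]
      · rw [map_add, h13, h23, mul_add]
    · intro a x _ hx i hi
      obtain ⟨w, h1, h2, h3⟩ := hx (i * a) (Ideal.mul_mem_right _ _ hi)
      refine ⟨w, h1, h2, ?_⟩
      rw [h3, smul_eq_mul, mul_assoc]
  refine Submodule.mul_induction_on hz ?_ ?_
  · intro i hi m hm
    exact key m hm i hi
  · intro x y hx hy
    obtain ⟨w₁, h11, h12, h13⟩ := hx
    obtain ⟨w₂, h21, h22, h23⟩ := hy
    refine ⟨w₁ + w₂, Ideal.add_mem _ h11 h21, ?_, ?_⟩
    · rw [map_add, h12, h22, add_zero]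
    · rw [map_add, h13, h23]

/-- ideals inside `ker (B' → B)` are `L'`-injective -/
theorem rTensor_subtype_injective_of_le_ker' (hsq : EtMil.IsFibreSquare B' B A' A)
    [Module.Flat B (B ⊗[B'] L')] [Module.Flat A' (A' ⊗[B'] L')] (b : Ideal B')
    (hb : b ≤ RingHom.ker (algebraMap B' B)) :
    Function.Injective (b.subtype.rTensor L') := by
  set K : Ideal B' := RingHom.ker (algebraMap B' B) with hK
  set I : Ideal A' := RingHom.ker (algebraMap A' A) with hI
  set β := algebraMap B' A' with hβ
  have hmapI : Ideal.map β b ≤ I := by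
    rw [Ideal.map_le_iff_le_comap]
    intro x hx
    rw [Ideal.mem_comap, hI, RingHom.mem_ker]
    exact map_ker_le x ((RingHom.mem_ker).1 (hb hx))
  set b' : Ideal B' := K ⊓ Ideal.comap β (Ideal.map β b) with hb'
  set U₀ : Ideal B' := K ⊓ Ideal.comap β (I * Ideal.map β b) with hU₀
  have hE1 : Function.Injective (b'.subtype.rTensor L') :=
    rTensor_subtype_injective_of_le_ker L' hsq _ hmapI
  have hE2 : Function.Injective (U₀.subtype.rTensor L') :=
    rTensor_subtype_injective_of_le_ker L' hsq _ (Ideal.mul_le_right.trans hmapI)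
  have hbb' : b ≤ b' := fun x hx => ⟨hb hx, Ideal.mem_map_of_mem _ hx⟩
  have hU₀b : U₀ ≤ b := by
    intro u hu
    obtain ⟨w, hw1, hw2, hw3⟩ := exists_mem_of_mem_mul_map hsq b (β u) hu.2
    have : u = w := eq_of hsq _ _ (by rw [(RingHom.mem_ker).1 hu.1, hw2]) hw3.symm
    rw [this]; exact hw1
  have hKb' : ∀ r : B', algebraMap B' B r = 0 → ∀ v : b', r * (v : B') ∈ U₀ := by
    intro r hr v
    refine ⟨Ideal.mul_mem_right _ _ ((RingHom.mem_ker).2 hr), ?_⟩
    change β (r * (v : B')) ∈ I * Ideal.map β b
    rw [map_mul]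
    exact Ideal.mul_mem_mul ((RingHom.mem_ker).2 (map_ker_le r hr)) v.2.2
  let i : U₀ →ₗ[B'] b := Submodule.inclusion hU₀b
  let f : b →ₗ[B'] b' := Submodule.inclusion hbb'
  let q : b' →ₗ[B'] (B' ⧸ U₀) := (Submodule.mkQ U₀) ∘ₗ b'.subtype
  have hq : ∀ r : B', algebraMap B' B r = 0 → ∀ v : b', q (r • v) = 0 := by
    intro r hr v
    change Submodule.mkQ U₀ ((r • v : b') : B') = 0
    rw [Submodule.mkQ_apply, Submodule.Quotient.mk_eq_zero]
    exact hKb' r hr v
  have hex : Function.Exact i (q ∘ₗ f) := by
    intro x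
    constructor
    · intro h
      have h' : Submodule.mkQ U₀ (x : B') = 0 := h
      rw [Submodule.mkQ_apply, Submodule.Quotient.mk_eq_zero] at h'
      exact ⟨⟨x, h'⟩, rfl⟩
    · rintro ⟨y, rfl⟩
      change Submodule.mkQ U₀ (y : B') = 0
      rw [Submodule.mkQ_apply, Submodule.Quotient.mk_eq_zero]
      exact y.2
  have hinj : Function.Injective ((f ∘ₗ i).rTensor L') := by
    have h1 : b'.subtype ∘ₗ (f ∘ₗ i) = U₀.subtype := by
      ext x; rfl
    rw [← h1, LinearMap.rTensor_comp] at hE2
    exact Function.Injective.of_comp hE2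
  have hf : Function.Injective (f.rTensor L') :=
    rTensor_injective_of_devissage (surj hsq) L' i f q hq hex hinj
  have h2 : b.subtype = b'.subtype ∘ₗ f := by
    ext x; rfl
  rw [h2, LinearMap.rTensor_comp]
  exact hE1.comp hf

/-- Flatness descends along a fibre square. -/
theorem flat_of_tensor (hsq : EtMil.IsFibreSquare B' B A' A)
    [Module.Flat B (B ⊗[B'] L')] [Module.Flat A' (A' ⊗[B'] L')] : Module.Flat B' L' := by
  rw [Module.Flat.iff_rTensor_injective']
  intro a
  set K : Ideal B' := RingHom.ker (algebraMap B' B) with hK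
  let i : (a ⊓ K : Ideal B') →ₗ[B'] a := Submodule.inclusion inf_le_left
  let q : B' →ₗ[B'] B := Algebra.linearMap B' B
  have hq : ∀ r : B', algebraMap B' B r = 0 → ∀ v : B', q (r • v) = 0 := by
    intro r hr v
    change algebraMap B' B (r * v) = 0
    rw [map_mul, hr, zero_mul]
  have hex : Function.Exact i (q ∘ₗ a.subtype) := by
    intro x
    constructor
    · intro h
      have h' : algebraMap B' B (x : B') = 0 := h
      exact ⟨⟨x, x.2, (RingHom.mem_ker).2 h'⟩, rfl⟩
    · rintro ⟨y, rfl⟩
      change algebraMap B' B (y : B') = 0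
      exact (RingHom.mem_ker).1 y.2.2
  have hinj : Function.Injective ((a.subtype ∘ₗ i).rTensor L') := by
    have h1 : a.subtype ∘ₗ i = (a ⊓ K).subtype := by
      ext x; rfl
    rw [h1]
    exact rTensor_subtype_injective_of_le_ker' L' hsq _ inf_le_right
  exact rTensor_injective_of_devissage (surj hsq) L' i a.subtype q hq hex hinj

end Square

end Groth.Agent.Helper4.Milnor
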