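import Mathlib
import Groth.Agent.Lib.Helper4.MilnorFlat

set_option linter.unusedSectionVars false
set_option linter.style.haveILetI false

namespace Groth.Agent.Helper4.Milnor

open TensorProduct

section General

variable {R S : Type*} [CommRing R] [CommRing S] [Algebra R S]

/-- If `M` is flat over `R`, `π : F → M` is surjective with `F` finite, and `S ⊗ M` is finitely
presented over `S`, then `S ⊗ ker π` is finite over `S`. -/
theorem finite_baseChange_ker {F M : Type*} [AddCommGroup F] [Module R F] [Module.Finite R F]
    [AddCommGroup M] [Module R M] [Module.Flat R M] [Module.FinitePresentation S (S ⊗[R] M)]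
    (π : F →ₗ[R] M) (hπ : Function.Surjective π) :
    Module.Finite S (S ⊗[R] LinearMap.ker π) := by
  set Z := LinearMap.ker π
  have hinj : Function.Injective (Z.subtype.baseChange S) :=
    LinearMap.lTensor_injective_of_exact_of_flat π hπ Z.subtype Z.subtype_injective
      (LinearMap.exact_subtype_ker_map π) S
  have hsurj : Function.Surjective (π.baseChange S) :=
    LinearMap.lTensor_surjective S hπ
  have hex : Function.Exact (Z.subtype.baseChange S) (π.baseChange S) :=
    lTensor_exact S (LinearMap.exact_subtype_ker_map π) hπ
  have hfg : (LinearMap.ker (π.baseChange S)).FG :=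
    Module.FinitePresentation.fg_ker (π.baseChange S) hsurj
  have hrange : LinearMap.range (Z.subtype.baseChange S) = LinearMap.ker (π.baseChange S) :=
    (LinearMap.exact_iff.mp hex).symm
  rw [← hrange] at hfg
  have : Module.Finite S (LinearMap.range (Z.subtype.baseChange S)) :=
    Module.Finite.iff_fg.mpr hfg
  exact Module.Finite.equiv (LinearEquiv.ofInjective (Z.subtype.baseChange S) hinj).symm

end General

section Square

universe u

variable {B' B A' A : Type u} [CommRing B'] [CommRing B] [CommRing A'] [CommRing A]
  [Algebra B' B] [Algebra B' A'] [Algebra B A] [Algebra A' A] [Algebra B' A]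
  [IsScalarTower B' B A] [IsScalarTower B' A' A]
  (L' : Type u) [AddCommGroup L'] [Module B' L']

/-- Finite presentation (for flat modules) descends along a fibre square. -/
theorem finitePresentation_of_tensor (hsq : EtMil.IsFibreSquare B' B A' A)
    [Module.Flat B (B ⊗[B'] L')] [Module.FinitePresentation B (B ⊗[B'] L')]
    [Module.Flat A' (A' ⊗[B'] L')] [Module.FinitePresentation A' (A' ⊗[B'] L')] :
    Module.FinitePresentation B' L' := by
  haveI : Module.Finite B' L' := finite_of_tensor L' hsq
  haveI : Module.Flat B' L' := flat_of_tensor L' hsq
  obtain ⟨n, π, hπ⟩ := Module.Finite.exists_fin' B' L'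
  haveI h1 : Module.Finite B (B ⊗[B'] LinearMap.ker π) := finite_baseChange_ker π hπ
  haveI h2 : Module.Finite A' (A' ⊗[B'] LinearMap.ker π) := finite_baseChange_ker π hπ
  haveI : Module.Finite B' (LinearMap.ker π) := finite_of_tensor _ hsq
  exact Module.finitePresentation_of_surjective π hπ (Module.Finite.iff_fg.mp inferInstance)

end Square

end Groth.Agent.Helper4.Milnor
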