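import Mathlib
import Groth.Agent.Lib.Helper4.MilnorFP
import Groth.Agent.S2019

set_option linter.unusedSectionVars false
set_option linter.style.haveILetI false

namespace Groth.Agent.Helper4.Milnor

open TensorProduct

section Square

universe u

variable {B' B A' A : Type u} [CommRing B'] [CommRing B] [CommRing A'] [CommRing A]
  [Algebra B' B] [Algebra B' A'] [Algebra B A] [Algebra A' A] [Algebra B' A]
  [IsScalarTower B' B A] [IsScalarTower B' A' A]

section Glue

variable {N M' : Type u} [AddCommGroup N] [Module B N] [Module B' N] [IsScalarTower B' B N]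
    [AddCommGroup M'] [Module A' M'] [Module B' M'] [IsScalarTower B' A' M']
    (φ : A ⊗[B] N ≃ₗ[A] A ⊗[A'] M')

/-- `B ⊗ (N ×_φ M') ≃ N` -/
noncomputable def glueEquivFst (hsq : EtMil.IsFibreSquare B' B A' A) :
    B ⊗[B'] ↥(EtMil.glue B' φ) ≃ₗ[B] N :=
  LinearEquiv.ofBijective (Groth.Agent.S2019.g₁ B' φ) (Groth.Agent.S2019.g₁_bij hsq φ)

/-- `A' ⊗ (N ×_φ M') ≃ M'` -/
noncomputable def glueEquivSnd (hsq : EtMil.IsFibreSquare B' B A' A) :
    A' ⊗[B'] ↥(EtMil.glue B' φ) ≃ₗ[A'] M' :=
  LinearEquiv.ofBijective (Groth.Agent.S2019.g₂ B' φ)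
    ⟨Groth.Agent.S2019.g₂_inj hsq φ, Groth.Agent.S2019.g₂_surj hsq φ⟩

theorem glue_flat (hsq : EtMil.IsFibreSquare B' B A' A) [Module.Flat B N] [Module.Flat A' M'] :
    Module.Flat B' ↥(EtMil.glue B' φ) := by
  haveI : Module.Flat B (B ⊗[B'] ↥(EtMil.glue B' φ)) :=
    Module.Flat.of_linearEquiv (glueEquivFst φ hsq)
  haveI : Module.Flat A' (A' ⊗[B'] ↥(EtMil.glue B' φ)) :=
    Module.Flat.of_linearEquiv (glueEquivSnd φ hsq)
  exact flat_of_tensor _ hsq

theorem glue_finite (hsq : EtMil.IsFibreSquare B' B A' A) [Module.Finite B N]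
    [Module.Finite A' M'] : Module.Finite B' ↥(EtMil.glue B' φ) := by
  haveI : Module.Finite B (B ⊗[B'] ↥(EtMil.glue B' φ)) :=
    Module.Finite.equiv (glueEquivFst φ hsq).symm
  haveI : Module.Finite A' (A' ⊗[B'] ↥(EtMil.glue B' φ)) :=
    Module.Finite.equiv (glueEquivSnd φ hsq).symm
  exact finite_of_tensor _ hsq

theorem glue_projective (hsq : EtMil.IsFibreSquare B' B A' A) [Module.Finite B N]
    [Module.Projective B N] [Module.Finite A' M'] [Module.Projective A' M'] :
    Module.Projective B' ↥(EtMil.glue B' φ) := by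
  haveI : Module.Flat B' ↥(EtMil.glue B' φ) := glue_flat φ hsq
  haveI : Module.Flat B (B ⊗[B'] ↥(EtMil.glue B' φ)) :=
    Module.Flat.of_linearEquiv (glueEquivFst φ hsq)
  haveI : Module.Flat A' (A' ⊗[B'] ↥(EtMil.glue B' φ)) :=
    Module.Flat.of_linearEquiv (glueEquivSnd φ hsq)
  haveI : Module.FinitePresentation B N := Module.finitePresentation_of_projective B N
  haveI : Module.FinitePresentation A' M' := Module.finitePresentation_of_projective A' M'
  haveI : Module.FinitePresentation B (B ⊗[B'] ↥(EtMil.glue B' φ)) :=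
    Module.FinitePresentation.of_equiv (glueEquivFst φ hsq).symm
  haveI : Module.FinitePresentation A' (A' ⊗[B'] ↥(EtMil.glue B' φ)) :=
    Module.FinitePresentation.of_equiv (glueEquivSnd φ hsq).symm
  haveI : Module.FinitePresentation B' ↥(EtMil.glue B' φ) := finitePresentation_of_tensor _ hsq
  exact Module.Flat.projective_of_finitePresentation

end Glue

/-- For flat `L'`, the map `L' → (B ⊗ L') × (A' ⊗ L')` is injective. -/
theorem injective_of_flat (hsq : EtMil.IsFibreSquare B' B A' A)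
    (L' : Type u) [AddCommGroup L'] [Module B' L'] [Module.Flat B' L'] :
    Function.Injective (fun l : L' =>
      (((1 : B) ⊗ₜ[B'] l : B ⊗[B'] L'), ((1 : A') ⊗ₜ[B'] l : A' ⊗[B'] L'))) := by
  let ι : B' →ₗ[B'] B × A' := (Algebra.linearMap B' B).prod (Algebra.linearMap B' A')
  have hι : Function.Injective ι := by
    intro x y hxy
    have h1 : algebraMap B' B x = algebraMap B' B y := congrArg Prod.fst hxy
    have h2 : algebraMap B' A' x = algebraMap B' A' y := congrArg Prod.snd hxy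
    exact eq_of hsq x y h1 h2
  have hinj : Function.Injective (ι.rTensor L') :=
    Module.Flat.rTensor_preserves_injective_linearMap ι hι
  intro l₁ l₂ h
  have h1 : ((1 : B) ⊗ₜ[B'] l₁ : B ⊗[B'] L') = (1 : B) ⊗ₜ[B'] l₂ := congrArg Prod.fst h
  have h2 : ((1 : A') ⊗ₜ[B'] l₁ : A' ⊗[B'] L') = (1 : A') ⊗ₜ[B'] l₂ := congrArg Prod.snd h
  have h3 : (ι.rTensor L') ((1 : B') ⊗ₜ[B'] l₁) = (ι.rTensor L') ((1 : B') ⊗ₜ[B'] l₂) := by
    apply (TensorProduct.prodLeft B' B' B A' L').injective
    rw [LinearMap.rTensor_tmul, LinearMap.rTensor_tmul]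
    have : ι 1 = ((1 : B), (1 : A')) := by
      simp [ι]
    rw [this, TensorProduct.prodLeft_tmul, TensorProduct.prodLeft_tmul, h1, h2]
  have h4 := hinj h3
  have h5 := congrArg (TensorProduct.lid B' L') h4
  simpa using h5

end Square

end Groth.Agent.Helper4.Milnor
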