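import Mathlib
import Groth.Agent.Lib.Helper4.EffCartier
universe u
open CategoryTheory CategoryTheory.Limits AlgebraicGeometry TopologicalSpace TensorProduct
namespace Groth.Agent.Helper4.FlatExact

variable {R : Type u} [CommRing R] {M' M M'' : Type u} [AddCommGroup M'] [AddCommGroup M]
  [AddCommGroup M''] [Module R M'] [Module R M] [Module R M'']

/-- extension of flat modules is flat -/
theorem flat_of_exact (i : M' →ₗ[R] M) (p : M →ₗ[R] M'') (hi : Function.Injective i)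
    (hp : Function.Surjective p) (hex : Function.Exact i p) [Module.Flat R M'] [Module.Flat R M''] :
    Module.Flat R M := by
  rw [Module.Flat.iff_rTensor_preserves_injective_linearMap'.{u, u, u}]
  intro N N' _ _ _ _ ι hι
  have hiN : Function.Injective (i.lTensor N) :=
    LinearMap.lTensor_injective_of_exact_of_flat p hp i hi hex N
  have hiN' : Function.Injective (i.lTensor N') :=
    LinearMap.lTensor_injective_of_exact_of_flat p hp i hi hex N'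
  have hexN : Function.Exact (i.lTensor N) (p.lTensor N) := lTensor_exact N hex hp
  have hι' : Function.Injective (ι.rTensor M') :=
    Module.Flat.rTensor_preserves_injective_linearMap ι hι
  have hι'' : Function.Injective (ι.rTensor M'') :=
    Module.Flat.rTensor_preserves_injective_linearMap ι hι
  rw [injective_iff_map_eq_zero]
  intro x hx
  have h1 : (ι.rTensor M'') ((p.lTensor N) x) = 0 := by
    have : (ι.rTensor M'') ((p.lTensor N) x) = (p.lTensor N') ((ι.rTensor M) x) := by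
      rw [← LinearMap.comp_apply, ← LinearMap.comp_apply, LinearMap.rTensor_comp_lTensor,
        LinearMap.lTensor_comp_rTensor]
    rw [this, hx, map_zero]
  have h2 : (p.lTensor N) x = 0 := by
    apply hι''
    rw [h1, map_zero]
  obtain ⟨x', rfl⟩ := (hexN x).mp h2
  have h3 : (i.lTensor N') ((ι.rTensor M') x') = 0 := by
    have : (i.lTensor N') ((ι.rTensor M') x') = (ι.rTensor M) ((i.lTensor N) x') := by
      rw [← LinearMap.comp_apply, ← LinearMap.comp_apply, LinearMap.rTensor_comp_lTensor,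
        LinearMap.lTensor_comp_rTensor]
    rw [this, hx]
  have h4 : (ι.rTensor M') x' = 0 := by
    apply hiN'
    rw [h3, map_zero]
  have h5 : x' = 0 := by
    apply hι'
    rw [h4, map_zero]
  rw [h5, map_zero]

/-- the kernel of a surjection of flat modules is flat -/
theorem flat_ker_of_exact (i : M' →ₗ[R] M) (p : M →ₗ[R] M'') (hi : Function.Injective i)
    (hp : Function.Surjective p) (hex : Function.Exact i p) [Module.Flat R M] [Module.Flat R M''] :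
    Module.Flat R M' := by
  rw [Module.Flat.iff_rTensor_preserves_injective_linearMap'.{u, u, u}]
  intro N N' _ _ _ _ ι hι
  have hiN : Function.Injective (i.lTensor N) :=
    LinearMap.lTensor_injective_of_exact_of_flat p hp i hi hex N
  have hι' : Function.Injective (ι.rTensor M) :=
    Module.Flat.rTensor_preserves_injective_linearMap ι hι
  rw [injective_iff_map_eq_zero]
  intro x' hx'
  have h3 : (ι.rTensor M) ((i.lTensor N) x') = 0 := by
    have : (ι.rTensor M) ((i.lTensor N) x') = (i.lTensor N') ((ι.rTensor M') x') := by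
      rw [← LinearMap.comp_apply, ← LinearMap.comp_apply, LinearMap.rTensor_comp_lTensor,
        LinearMap.lTensor_comp_rTensor]
    rw [this, hx', map_zero]
  have h4 : (i.lTensor N) x' = 0 := by
    apply hι'
    rw [h3, map_zero]
  apply hiN
  rw [h4, map_zero]

theorem flat_quot_iff {A B : Type u} [CommRing A] [CommRing B] [Algebra A B] (I : Ideal B) :
    ((Ideal.Quotient.mk I).comp (algebraMap A B)).Flat ↔ Module.Flat A (B ⧸ I) := by
  have key : (Ideal.Quotient.algebra A : Algebra A (B ⧸ I)) =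
      ((Ideal.Quotient.mk I).comp (algebraMap A B)).toAlgebra := Algebra.algebra_ext _ _ (fun r => rfl)
  rw [RingHom.Flat, ← key]

section
variable {A B : Type u} [CommRing A] [CommRing B] [Algebra A B] (f₁ f₂ : B)

/-- multiplication by `f₁` : `B/(f₂) → B/(f₁ f₂)` -/
noncomputable def mulMap : (B ⧸ Ideal.span {f₂}) →ₗ[A] (B ⧸ Ideal.span {f₁ * f₂}) :=
  (Submodule.mapQ (Ideal.span {f₂}) (Ideal.span {f₁ * f₂}) (LinearMap.mulLeft B f₁) (by
      intro x hx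
      obtain ⟨c, rfl⟩ := Ideal.mem_span_singleton'.mp hx
      show f₁ * (c * f₂) ∈ Ideal.span {f₁ * f₂}
      rw [Ideal.mem_span_singleton']
      exact ⟨c, by ring⟩)).restrictScalars A

/-- the projection `B/(f₁ f₂) → B/(f₁)` -/
noncomputable def projMap : (B ⧸ Ideal.span {f₁ * f₂}) →ₗ[A] (B ⧸ Ideal.span {f₁}) :=
  (Submodule.mapQ (Ideal.span {f₁ * f₂}) (Ideal.span {f₁}) LinearMap.id (by
      intro x hx
      obtain ⟨c, rfl⟩ := Ideal.mem_span_singleton'.mp hx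
      show c * (f₁ * f₂) ∈ Ideal.span {f₁}
      rw [Ideal.mem_span_singleton']
      exact ⟨c * f₂, by ring⟩)).restrictScalars A

theorem mulMap_mk (b : B) : mulMap (A := A) f₁ f₂ (Ideal.Quotient.mk _ b) = Ideal.Quotient.mk _ (f₁ * b) := rfl
theorem projMap_mk (b : B) : projMap (A := A) f₁ f₂ (Ideal.Quotient.mk _ b) = Ideal.Quotient.mk _ b := rfl

theorem mulMap_injective (h1 : f₁ ∈ nonZeroDivisors B) : Function.Injective (mulMap (A := A) f₁ f₂) := by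
  rw [injective_iff_map_eq_zero]
  intro x hx
  obtain ⟨b, rfl⟩ := Ideal.Quotient.mk_surjective x
  rw [mulMap_mk, Ideal.Quotient.eq_zero_iff_mem, Ideal.mem_span_singleton'] at hx
  obtain ⟨c, hc⟩ := hx
  rw [Ideal.Quotient.eq_zero_iff_mem, Ideal.mem_span_singleton']
  refine ⟨c, ?_⟩
  have : (c * f₂ - b) * f₁ = 0 := by
    rw [sub_mul]
    have : c * f₂ * f₁ = c * (f₁ * f₂) := by ring
    rw [this, hc]; ring
  exact sub_eq_zero.mp (mem_nonZeroDivisors_iff_right.mp h1 _ this)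

theorem projMap_surjective : Function.Surjective (projMap (A := A) f₁ f₂) := by
  intro y
  obtain ⟨b, rfl⟩ := Ideal.Quotient.mk_surjective y
  exact ⟨Ideal.Quotient.mk _ b, rfl⟩

theorem exact_mulMap_projMap : Function.Exact (mulMap (A := A) f₁ f₂) (projMap (A := A) f₁ f₂) := by
  intro y
  obtain ⟨b, rfl⟩ := Ideal.Quotient.mk_surjective y
  constructor
  · intro hy
    rw [projMap_mk, Ideal.Quotient.eq_zero_iff_mem, Ideal.mem_span_singleton'] at hy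
    obtain ⟨c, rfl⟩ := hy
    refine ⟨Ideal.Quotient.mk _ c, ?_⟩
    rw [mulMap_mk, mul_comm f₁ c]
  · rintro ⟨x, hx⟩
    obtain ⟨c, rfl⟩ := Ideal.Quotient.mk_surjective x
    rw [← hx, mulMap_mk, projMap_mk, Ideal.Quotient.eq_zero_iff_mem]
    exact Ideal.mul_mem_right _ _ (Ideal.subset_span rfl)

end


theorem flat_quot_mul {A B : Type u} [CommRing A] [CommRing B] (φ : A →+* B) (f₁ f₂ : B)
    (h1 : f₁ ∈ nonZeroDivisors B)
    (hf1 : ((Ideal.Quotient.mk (Ideal.span {f₁})).comp φ).Flat)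
    (hf2 : ((Ideal.Quotient.mk (Ideal.span {f₂})).comp φ).Flat) :
    ((Ideal.Quotient.mk (Ideal.span {f₁ * f₂})).comp φ).Flat := by
  let _ := φ.toAlgebra
  have e1 : Module.Flat A (B ⧸ Ideal.span {f₁}) := (flat_quot_iff (A := A) _).mp hf1
  have e2 : Module.Flat A (B ⧸ Ideal.span {f₂}) := (flat_quot_iff (A := A) _).mp hf2
  refine (flat_quot_iff (A := A) _).mpr ?_
  exact flat_of_exact (mulMap (A := A) f₁ f₂) (projMap (A := A) f₁ f₂) (mulMap_injective f₁ f₂ h1)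
    (projMap_surjective f₁ f₂) (exact_mulMap_projMap f₁ f₂)

theorem flat_quot_of_mul {A B : Type u} [CommRing A] [CommRing B] (φ : A →+* B) (f₁ f₂ : B)
    (h1 : f₁ ∈ nonZeroDivisors B)
    (hf1 : ((Ideal.Quotient.mk (Ideal.span {f₁})).comp φ).Flat)
    (hf12 : ((Ideal.Quotient.mk (Ideal.span {f₁ * f₂})).comp φ).Flat) :
    ((Ideal.Quotient.mk (Ideal.span {f₂})).comp φ).Flat := by
  let _ := φ.toAlgebra
  have e1 : Module.Flat A (B ⧸ Ideal.span {f₁}) := (flat_quot_iff (A := A) _).mp hf1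
  have e2 : Module.Flat A (B ⧸ Ideal.span {f₁ * f₂}) := (flat_quot_iff (A := A) _).mp hf12
  refine (flat_quot_iff (A := A) _).mpr ?_
  exact flat_ker_of_exact (mulMap (A := A) f₁ f₂) (projMap (A := A) f₁ f₂) (mulMap_injective f₁ f₂ h1)
    (projMap_surjective f₁ f₂) (exact_mulMap_projMap f₁ f₂)

end Groth.Agent.Helper4.FlatExact

namespace Groth.Agent.Helper4.RelEff
open Groth.Agent.Helper4

theorem hQ : RingHom.StableUnderCompositionWithLocalizationAwaySource RingHom.Flat := by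
  intro R S T _ _ _ _ r _ f hf
  exact RingHom.Flat.comp (RingHom.Flat.holdsForLocalizationAway S r) hf

theorem appLE_comp_ι {X S : Scheme.{u}} (f : X ⟶ S) (D : X.IdealSheafData)
    (W : S.Opens) (U : X.affineOpens) (hUW : U.1 ≤ f ⁻¹ᵁ W)
    (e1 : D.subschemeι ⁻¹ᵁ U.1 ≤ (D.subschemeι ≫ f) ⁻¹ᵁ W) :
    ((D.subschemeι ≫ f).appLE W (D.subschemeι ⁻¹ᵁ U.1) e1).hom =
      ((D.subschemeObjIso U).inv.hom).comp
        ((Ideal.Quotient.mk (D.ideal U)).comp (f.appLE W U.1 hUW).hom) := by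
  have e2 : (D.subschemeι ≫ f).appLE W (D.subschemeι ⁻¹ᵁ U.1) e1 =
      f.appLE W U.1 hUW ≫ D.subschemeι.app U.1 := by
    rw [← Scheme.Hom.appLE_eq_app, Scheme.Hom.appLE_comp_appLE]
  rw [e2, D.subschemeι_app U]
  rfl

theorem flat_quot_of_flat {X S : Scheme.{u}} (f : X ⟶ S) (D : X.IdealSheafData)
    (hfl : Flat (D.subschemeι ≫ f))
    (W : S.affineOpens) (U : X.affineOpens) (hUW : U.1 ≤ f ⁻¹ᵁ W.1) :
    ((Ideal.Quotient.mk (D.ideal U)).comp (f.appLE W.1 U.1 hUW).hom).Flat := by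
  let ι := D.subschemeι
  have hιU : IsAffineOpen (ι ⁻¹ᵁ U.1) := U.2.preimage ι
  have e1 : ι ⁻¹ᵁ U.1 ≤ (ι ≫ f) ⁻¹ᵁ W.1 := fun y hy => hUW hy
  have h := HasRingHomProperty.appLE (P := @Flat) (ι ≫ f) hfl W ⟨_, hιU⟩ e1
  rw [appLE_comp_ι f D W.1 U hUW e1] at h
  exact (RingHom.Flat.comp_iff_of_bijective_left
    (ConcreteCategory.bijective_of_isIso (D.subschemeObjIso U).inv)).mp h

theorem flat_of_flat_quot {X S : Scheme.{u}} (f : X ⟶ S) (D : X.IdealSheafData)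
    (H : ∀ z : D.subscheme, ∃ (W : S.affineOpens) (U : X.affineOpens) (hUW : U.1 ≤ f ⁻¹ᵁ W.1),
      D.subschemeι z ∈ U.1 ∧
      ((Ideal.Quotient.mk (D.ideal U)).comp (f.appLE W.1 U.1 hUW).hom).Flat) :
    Flat (D.subschemeι ≫ f) := by
  rw [HasRingHomProperty.iff_exists_appLE (P := @Flat) hQ]
  intro z
  obtain ⟨W, U, hUW, hzU, hfl⟩ := H z
  let ι := D.subschemeι
  have hιU : IsAffineOpen (ι ⁻¹ᵁ U.1) := U.2.preimage ι
  have e1 : ι ⁻¹ᵁ U.1 ≤ (ι ≫ f) ⁻¹ᵁ W.1 := fun y hy => hUW hy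
  refine ⟨W, ⟨_, hιU⟩, hzU, e1, ?_⟩
  rw [appLE_comp_ι f D W.1 U hUW e1]
  exact RingHom.Flat.comp hfl (RingHom.Flat.of_bijective
    (ConcreteCategory.bijective_of_isIso (D.subschemeObjIso U).inv))

theorem mul {X S : Scheme.{u}} (f : X ⟶ S) (𝓘₁ 𝓘₂ : X.IdealSheafData)
    (h₁ : BlowUp.IsEffCartierIdeal 𝓘₁) (hf₁ : Flat (𝓘₁.subschemeι ≫ f))
    (h₂ : BlowUp.IsEffCartierIdeal 𝓘₂) (hf₂ : Flat (𝓘₂.subschemeι ≫ f)) :
    Flat ((𝓘₁ * 𝓘₂).subschemeι ≫ f) := by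
  apply flat_of_flat_quot
  intro z
  set x := (𝓘₁ * 𝓘₂).subschemeι z with hx
  obtain ⟨W, hW, hxW, -⟩ := Opens.isBasis_iff_nbhd.mp (S.isBasis_affineOpens)
    (show f x ∈ (⊤ : S.Opens) from trivial)
  have hxfW : x ∈ f ⁻¹ᵁ W := hxW
  obtain ⟨U₁, hxU₁, hU₁W, t₁, ht₁, hI₁⟩ := EffCartier.shrink h₁ x (f ⁻¹ᵁ W) hxfW
  obtain ⟨U, hxU, hUU₁, t₂, ht₂, hI₂⟩ := EffCartier.shrink h₂ x U₁.1 hxU₁
  obtain ⟨ht₁', hI₁'⟩ := EffCartier.restrict 𝓘₁ U₁ t₁ ht₁ hI₁ U hUU₁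
  have hUW : U.1 ≤ f ⁻¹ᵁ W := hUU₁.trans hU₁W
  refine ⟨⟨W, hW⟩, U, hUW, hxU, ?_⟩
  have a1 := flat_quot_of_flat f 𝓘₁ hf₁ ⟨W, hW⟩ U hUW
  have a2 := flat_quot_of_flat f 𝓘₂ hf₂ ⟨W, hW⟩ U hUW
  rw [hI₁'] at a1
  rw [hI₂] at a2
  have hI : (𝓘₁ * 𝓘₂).ideal U = Ideal.span {(X.presheaf.map (homOfLE hUU₁).op).hom t₁ * t₂} := by
    rw [Scheme.IdealSheafData.ideal_mul, Pi.mul_apply, hI₁', hI₂,
      Ideal.span_singleton_mul_span_singleton]
  rw [hI]
  exact FlatExact.flat_quot_mul _ _ _ ht₁' a1 a2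

theorem diff {X S : Scheme.{u}} (f : X ⟶ S) (𝓘₁ 𝓘₂ 𝓘 : X.IdealSheafData)
    (h₁ : BlowUp.IsEffCartierIdeal 𝓘₁) (hf₁ : Flat (𝓘₁.subschemeι ≫ f))
    (hf₂ : Flat (𝓘₂.subschemeι ≫ f))
    (h : BlowUp.IsEffCartierIdeal 𝓘) (hsum : 𝓘₁ * 𝓘 = 𝓘₂) :
    Flat (𝓘.subschemeι ≫ f) := by
  apply flat_of_flat_quot
  intro z
  set x := 𝓘.subschemeι z with hx
  obtain ⟨W, hW, hxW, -⟩ := Opens.isBasis_iff_nbhd.mp (S.isBasis_affineOpens)
    (show f x ∈ (⊤ : S.Opens) from trivial)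
  have hxfW : x ∈ f ⁻¹ᵁ W := hxW
  obtain ⟨U₁, hxU₁, hU₁W, t₁, ht₁, hI₁⟩ := EffCartier.shrink h₁ x (f ⁻¹ᵁ W) hxfW
  obtain ⟨U, hxU, hUU₁, t₂, ht₂, hI₂⟩ := EffCartier.shrink h x U₁.1 hxU₁
  obtain ⟨ht₁', hI₁'⟩ := EffCartier.restrict 𝓘₁ U₁ t₁ ht₁ hI₁ U hUU₁
  have hUW : U.1 ≤ f ⁻¹ᵁ W := hUU₁.trans hU₁W
  refine ⟨⟨W, hW⟩, U, hUW, hxU, ?_⟩
  have a1 := flat_quot_of_flat f 𝓘₁ hf₁ ⟨W, hW⟩ U hUW
  have a2 := flat_quot_of_flat f 𝓘₂ hf₂ ⟨W, hW⟩ U hUW
  have hI : 𝓘₂.ideal U = Ideal.span {(X.presheaf.map (homOfLE hUU₁).op).hom t₁ * t₂} := by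
    rw [← hsum, Scheme.IdealSheafData.ideal_mul, Pi.mul_apply, hI₁', hI₂,
      Ideal.span_singleton_mul_span_singleton]
  rw [hI₁'] at a1
  rw [hI] at a2
  rw [hI₂]
  exact FlatExact.flat_quot_of_mul _ _ _ ht₁' a1 a2

end Groth.Agent.Helper4.RelEff
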