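import Mathlib
import Groth.Prelude.Def_DRing2
import Groth.Agent.Lib.Helper1.TorBal

/-!
# Projective resolutions from cochain complexes in degrees ≤ 0; Tor via such complexes (helper4)
-/

set_option backward.isDefEq.respectTransparency.types false
set_option synthInstance.maxHeartbeats 400000
set_option autoImplicit false
set_option linter.unusedSectionVars false
set_option linter.style.haveILetI false
set_option linter.unusedSimpArgs false
universe u v w
open CategoryTheory CategoryTheory.Limits MonoidalCategory

namespace Groth.Agent.Lib.Helper4.KosRes1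
open Groth.Agent.Helper1.TorL Groth.Agent.Helper1.TorBal

variable {A : Type u} [CommRing A]

/-- the chain complex (indexed by `ℕ`) attached to a cochain complex (indexed by `ℤ`), `n ↦ K^{-n}` -/
noncomputable abbrev chainOf (K : CochainComplex (ModuleCat.{u} A) ℤ) : ChainComplex (ModuleCat.{u} A) ℕ :=
  K.restriction ComplexShape.embeddingDownNat

theorem tensor_chainOf (K : CochainComplex (ModuleCat.{u} A) ℤ) (N : ModuleCat.{u} A) :
    ((tensorRight N).mapHomologicalComplex (ComplexShape.down ℕ)).obj (chainOf K) =
      chainOf (DRing.tensorCx K N) := rfl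

theorem f_succ (n : ℕ) : ComplexShape.embeddingDownNat.f (n + 1) = -((n : ℤ) + 1) := by
  show -((n + 1 : ℕ) : ℤ) = _
  push_cast; rfl

/-- homology of `chainOf` in positive degrees -/
noncomputable def chainOfHomologyIso (K : CochainComplex (ModuleCat.{u} A) ℤ) (n : ℕ) :
    (chainOf K).homology (n + 1) ≅ K.homology (-((n : ℤ) + 1)) :=
  K.restrictionHomologyIso ComplexShape.embeddingDownNat (n + 2) (n + 1) n (by simp) (by simp)
    (i' := -((n : ℤ) + 2)) (j' := -((n : ℤ) + 1)) (k' := -(n : ℤ))
    (by show -((n + 2 : ℕ) : ℤ) = _; push_cast; rfl) (f_succ n) rfl (by simp; ring) (by simp)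

section Res
variable (K : CochainComplex (ModuleCat.{u} A) ℤ) (Z : ModuleCat.{u} A)
  (hproj : ∀ q, Projective (K.X q))
  (hex : ∀ q : ℤ, q < 0 → IsZero (K.homology q))
  (p : (chainOf K).X 0 ⟶ Z) (hp : Epi p) (w : (chainOf K).d 1 0 ≫ p = 0)
  (hpe : (ShortComplex.mk ((chainOf K).d 1 0) p w).Exact)

/-- a cochain complex of projectives in degrees `≤ 0`, exact in negative degrees, with an
augmentation, gives a projective resolution -/
noncomputable def projRes : ProjectiveResolution Z where
  complex := chainOf K
  projective := fun n => hproj _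
  π := (ChainComplex.toSingle₀Equiv _ _).symm ⟨p, w⟩
  quasiIso := ⟨fun n => by
    cases n with
    | zero =>
      rw [ChainComplex.quasiIsoAt₀_iff, ShortComplex.quasiIso_iff_of_zeros']
      · 
        refine (ShortComplex.exact_and_epi_g_iff_of_iso (S₂ := ShortComplex.mk _ p w) ?_).2
          ⟨hpe, hp⟩
        exact ShortComplex.isoMk (Iso.refl _) (Iso.refl _) (Iso.refl _)
          ((Category.id_comp _).trans (Category.comp_id _).symm)
          ((Category.id_comp _).trans (((ChainComplex.toSingle₀Equiv_symm_apply_f_zero (V := ModuleCat.{u} A)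
              (C := chainOf K) (X := Z) p w).symm).trans (Category.comp_id _).symm))
      · exact (chainOf K).shape 0 0 (by simp)
      · rfl
      · rfl
    | succ n =>
      rw [quasiIsoAt_iff_exactAt']
      · rw [HomologicalComplex.exactAt_iff_isZero_homology]
        exact (hex _ (by omega)).of_iso (chainOfHomologyIso K n)
      · apply ChainComplex.exactAt_succ_single_obj⟩

include hproj hex hp hpe in
/-- Tor computed by such a complex -/
theorem nonempty_tor_iso (N : ModuleCat.{u} A) (n : ℕ) :
    Nonempty (T (n + 1) Z N ≅ (DRing.tensorCx K N).homology (-((n : ℤ) + 1))) := by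
  obtain ⟨e⟩ := balance N (n + 1) (projRes K Z hproj hex p hp w hpe)
  exact ⟨e ≪≫ chainOfHomologyIso (DRing.tensorCx K N) n⟩

end Res
end Groth.Agent.Lib.Helper4.KosRes1
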