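import Mathlib
import Groth.Prelude.Def_DRing2
import Groth.Prelude.Def_LCI2
import Groth.Agent.Lib.Helper1.TorBal
import Groth.Agent.Lib.Helper3.ExtKos
import Groth.Agent.Lib.Lead.KosH1
import Groth.Agent.Lib.Helper4.KosRes1

/-!
# The Koszul complex of a Koszul-regular sequence as a projective resolution; Tor(A/J, N) via Koszul (helper4)
-/

set_option backward.isDefEq.respectTransparency.types false
set_option synthInstance.maxHeartbeats 400000
set_option autoImplicit false
set_option linter.unusedSectionVars false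
set_option linter.style.haveILetI false
set_option linter.unusedSimpArgs false
universe u v w
open CategoryTheory CategoryTheory.Limits MonoidalCategory

namespace Groth.Agent.Lib.Helper4.KosRes2
open Groth.Agent.Helper1.TorL Groth.Agent.Helper1.TorBal Groth.Agent.Lib.Helper4.KosRes1
open Groth.Agent.Lead.KosH1

variable {A : Type u} [CommRing A]

theorem setOf_mem_eq_range (l : List A) : {x | x ∈ l} = Set.range l.get := by
  ext x
  simp only [Set.mem_range]
  constructor
  · intro hx
    obtain ⟨i, hi⟩ := List.get_of_mem hx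
    exact ⟨i, hi⟩
  · rintro ⟨i, rfl⟩
    exact List.get_mem l i

/-- the augmentation `K^0 → A/J` -/
noncomputable def aug (l : List A) (D : Data l) :
    (chainOf (Koszul.koszul A l)).X 0 ⟶ ModuleCat.of A (A ⧸ Ideal.span {x | x ∈ l}) :=
  ModuleCat.ofHom ((Submodule.mkQ (Ideal.span {x | x ∈ l})).comp D.ε.toLinearMap)

theorem aug_apply (l : List A) (D : Data l) (z : (Koszul.koszul A l).X 0) :
    (aug l D).hom z = Submodule.Quotient.mk (D.ε z) := rfl

theorem epi_aug (l : List A) (D : Data l) : Epi (aug l D) := by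
  rw [ModuleCat.epi_iff_surjective]
  intro y
  obtain ⟨a, rfl⟩ := Submodule.Quotient.mk_surjective _ y
  exact ⟨D.ε.symm a, by rw [aug_apply, LinearEquiv.apply_symm_apply]⟩

theorem aug_w (l : List A) (D : Data l) :
    (chainOf (Koszul.koszul A l)).d 1 0 ≫ aug l D = 0 := by
  ext z
  obtain ⟨a, rfl⟩ := D.θ_surj z
  show (aug l D).hom (((Koszul.koszul A l).d (-1) 0).hom (D.θ a)) = 0
  rw [aug_apply, D.εd]
  rw [Submodule.Quotient.mk_eq_zero]
  refine Ideal.sum_mem _ (fun i _ => Ideal.mul_mem_left _ _ (Ideal.subset_span ?_))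
  exact List.get_mem l i

theorem aug_exact (l : List A) (D : Data l) :
    (ShortComplex.mk ((chainOf (Koszul.koszul A l)).d 1 0) (aug l D) (aug_w l D)).Exact := by
  rw [ShortComplex.ShortExact.moduleCat_exact_iff_function_exact]
  intro y
  constructor
  · intro hy
    change (aug l D).hom y = 0 at hy
    rw [aug_apply, Submodule.Quotient.mk_eq_zero, setOf_mem_eq_range,
      Ideal.mem_span_range_iff_exists_fun] at hy
    obtain ⟨c, hc⟩ := hy
    refine ⟨D.θ c, ?_⟩
    apply D.ε.injective
    show D.ε (((Koszul.koszul A l).d (-1) 0).hom (D.θ c)) = D.ε y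
    rw [D.εd, hc]
  · rintro ⟨z, rfl⟩
    exact congrArg (fun g => g.hom z) (aug_w l D)

theorem projective_koszul_X (l : List A) (q : ℤ) : Projective ((Koszul.koszul A l).X q) := by
  obtain ⟨e⟩ := Groth.Agent.Helper3.ExtKos.koszul_X l q
  haveI : Module.Free A ((Koszul.koszul A l).X q) := Module.Free.of_equiv e.symm
  haveI : Module.Projective A ((Koszul.koszul A l).X q) := Module.Projective.of_free
  exact ModuleCat.projective_of_categoryTheory_projective _

/-- `Tor_{n+1}(A/J, N) ≅ H^{-n-1}(K(l) ⊗ N)` for a Koszul-regular sequence `l` generating `J` -/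
theorem nonempty_tor_quotient_iso (l : List A) (hl : LCI.IsKoszulRegularSeq A l)
    (N : ModuleCat.{u} A) (n : ℕ) :
    Nonempty (T (n + 1) (ModuleCat.of A (A ⧸ Ideal.span {x | x ∈ l})) N ≅
      (DRing.tensorCx (Koszul.koszul A l) N).homology (-((n : ℤ) + 1))) := by
  obtain ⟨D⟩ := nonempty_data l
  exact nonempty_tor_iso (Koszul.koszul A l) _ (projective_koszul_X l)
    (fun q hq => hl q (by omega)) (aug l D) (epi_aug l D) (aug_w l D) (aug_exact l D) N n

end Groth.Agent.Lib.Helper4.KosRes2
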