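import Mathlib
import Groth.Prelude.Def_DRing2
import Groth.Prelude.Def_LCI2
import Groth.Agent.Lib.Helper1.TorBal
import Groth.Agent.Lib.Helper3.KosBC1
import Groth.Agent.Lib.Helper4.KosRes2

/-!
# Tor_i(A/J, A') = 0 when a Koszul-regular sequence stays Koszul-regular in A' (helper4)
-/

set_option backward.isDefEq.respectTransparency.types false
set_option synthInstance.maxHeartbeats 400000
set_option autoImplicit false
set_option linter.unusedSectionVars false
set_option linter.style.haveILetI false
set_option linter.unusedSimpArgs false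
universe u v w
open CategoryTheory CategoryTheory.Limits MonoidalCategory

namespace Groth.Agent.Lib.Helper4.KosRes3
open Groth.Agent.Helper1.TorL Groth.Agent.Helper1.TorBal Groth.Agent.Lib.Helper4.KosRes1
open Groth.Agent.Lib.Helper4.KosRes2 Groth.Agent.Helper3.KosBC Groth.Agent.Helper8.KoszulLib CohIII

variable (A : Type u) [CommRing A] (A' : Type u) [CommRing A'] [Algebra A A']

/-- restriction of scalars `A'-Mod ⥤ A-Mod` -/
noncomputable abbrev Rs : ModuleCat.{u} A' ⥤ ModuleCat.{u} A :=
  ModuleCat.restrictScalars (algebraMap A A')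

theorem compat_Rs (a : A) : Compat (Rs A A') (algebraMap A A' a) a := by
  intro X Y f
  ext x
  rfl

theorem forall₂_compat_Rs (l : List A) :
    List.Forall₂ (Compat (Rs A A')) (l.map (algebraMap A A')) l := by
  induction l with
  | nil => exact List.Forall₂.nil
  | cons r l ih => exact List.Forall₂.cons (compat_Rs A A' r) ih

/-- `A'` restricted to `A` is `A'` as an `A`-module -/
noncomputable def RsUnitIso : (Rs A A').obj (ModuleCat.of A' A') ≅ ModuleCat.of A A' :=
  (show ((Rs A A').obj (ModuleCat.of A' A')) ≃ₗ[A] (ModuleCat.of A A') from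
    AddEquiv.toLinearEquiv (AddEquiv.refl A') (fun a x => (Algebra.smul_def (R := A) (A := A') a x).symm)).toModuleIso

theorem isZero_homology_tensor_koszul (l : List A)
    (hl' : LCI.IsKoszulRegularSeq A' (l.map (algebraMap A A'))) (q : ℤ) (hq : q ≠ 0) :
    IsZero ((DRing.tensorCx (Koszul.koszul A l) (ModuleCat.of A A')).homology q) := by
  have h1 : IsZero ((koszulCx (ModuleCat.of A' A') (l.map (algebraMap A A'))).homology q) :=
    (hl' q hq).of_iso ((HomologicalComplex.homologyFunctor _ _ q).mapIso
      (eqToIso (koszul_eq_koszulCx (l.map (algebraMap A A'))).symm))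
  obtain ⟨e⟩ := nonempty_map_koszulCx_iso (Rs A A') (ModuleCat.of A' A') (ModuleCat.of A A')
    (RsUnitIso A A') _ _ (forall₂_compat_Rs A A' l)
  have h2 : IsZero ((((Rs A A').mapHomologicalComplex (ComplexShape.up ℤ)).obj
      (koszulCx (ModuleCat.of A' A') (l.map (algebraMap A A')))).homology q) := by
    rw [← HomologicalComplex.exactAt_iff_isZero_homology] at h1 ⊢
    exact h1.map (Rs A A')
  have h3 : IsZero ((koszulCx (ModuleCat.of A A') l).homology q) :=
    h2.of_iso ((HomologicalComplex.homologyFunctor _ _ q).mapIso e.symm)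
  exact h3.of_iso ((HomologicalComplex.homologyFunctor _ _ q).mapIso
    (tensorKoszulIso (ModuleCat.of A A') l))

/-- `Tor_i(A/J, A') = 0` for `i ≥ 1` when `l` and its image in `A'` are Koszul-regular. -/
theorem isZero_tor_quotient (l : List A) (hl : LCI.IsKoszulRegularSeq A l)
    (hl' : LCI.IsKoszulRegularSeq A' (l.map (algebraMap A A'))) (n : ℕ) :
    IsZero (T (n + 1) (ModuleCat.of A (A ⧸ Ideal.span {x | x ∈ l})) (ModuleCat.of A A')) := by
  obtain ⟨e⟩ := nonempty_tor_quotient_iso l hl (ModuleCat.of A A') n
  exact (isZero_homology_tensor_koszul A A' l hl' _ (by omega)).of_iso e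

end Groth.Agent.Lib.Helper4.KosRes3
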