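import Mathlib
import Groth.Prelude.Def_W4c4lgringredgrpLG

/-!
# LG-rings: unimodular elements, freeness of constant rank projectives (helper4)
-/

set_option backward.isDefEq.respectTransparency.types false
set_option synthInstance.maxHeartbeats 400000
set_option autoImplicit false
set_option linter.unusedSectionVars false
set_option linter.style.haveILetI false
set_option linter.unusedSimpArgs false
universe u v w

namespace Groth.Agent.Lib.Helper4.LGRing1
open LGRing

/-- LG property for arbitrary finite variable types -/
lemma lg_fintype {R : Type u} [CommRing R] (hR : IsLGRing R) {σ : Type} [Finite σ]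
    (f : MvPolynomial σ R)
    (h : ∀ (m : Ideal R) [m.IsMaximal], ∃ s : σ → R ⧸ m, IsUnit (MvPolynomial.aeval s f)) :
    ∃ s : σ → R, IsUnit (MvPolynomial.aeval s f) := by
  obtain ⟨n, ⟨e⟩⟩ := Finite.exists_equiv_fin σ
  have key := hR n (MvPolynomial.rename e f) (fun m _ => by
    obtain ⟨s, hs⟩ := h m
    refine ⟨s ∘ e.symm, ?_⟩
    rw [MvPolynomial.aeval_rename]
    have : (s ∘ e.symm) ∘ e = s := by ext x; simp
    rw [this]
    exact hs)
  obtain ⟨s, hs⟩ := key
  exact ⟨s ∘ e, by rwa [MvPolynomial.aeval_rename] at hs⟩

/-- core: unimodular elements in projective modules with `M ≠ mM` for all maximal `m`. -/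
theorem exists_unimodular {R : Type u} [CommRing R] (hR : IsLGRing R)
    (M : Type v) [AddCommGroup M] [Module R M] [Module.Finite R M] [Module.Projective R M]
    (hM : ∀ (m : Ideal R) [m.IsMaximal], (m • ⊤ : Submodule R M) ≠ ⊤) :
    ∃ (x : M) (φ : Module.Dual R M), φ x = 1 := by
  classical
  obtain ⟨n, f, g, -, -, hfg⟩ := Module.Finite.exists_comp_eq_id_of_projective R M
  have hfg' : ∀ x, f (g x) = x := fun x => LinearMap.congr_fun hfg x
  let E : Fin n → Fin n → R := fun i j => g (f (Pi.single j 1)) i
  have hE : ∀ (v : Fin n → R) (i : Fin n), g (f v) i = ∑ j, E i j * v j := by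
    intro v i
    have hv : v = ∑ j, v j • (Pi.single j (1 : R) : Fin n → R) := by
      funext k
      simp [Finset.sum_apply, Pi.single_apply]
    conv_lhs => rw [hv]
    simp only [map_sum, map_smul, Finset.sum_apply, Pi.smul_apply, smul_eq_mul, E]
    exact Finset.sum_congr rfl fun j _ => mul_comm _ _
  let P : MvPolynomial (Fin n ⊕ Fin n) R :=
    ∑ i, ∑ j, MvPolynomial.X (Sum.inr i) * MvPolynomial.C (E i j) * MvPolynomial.X (Sum.inl j)
  have hP : ∀ {S : Type u} [CommRing S] [Algebra R S] (s : Fin n ⊕ Fin n → S),
      MvPolynomial.aeval s P = ∑ i, ∑ j, s (Sum.inr i) * algebraMap R S (E i j) * s (Sum.inl j) := by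
    intro S _ _ s
    simp only [P, map_sum, map_mul, MvPolynomial.aeval_X, MvPolynomial.aeval_C]
  obtain ⟨s, hs⟩ := lg_fintype hR P (fun m _ => by
    -- some entry of `E` is outside `m`
    have hex : ∃ i j, E i j ∉ m := by
      by_contra hcon
      push Not at hcon
      apply hM m
      rw [eq_top_iff]
      intro x _
      have hx : x = ∑ i, (g x i) • f (Pi.single i 1) := by
        conv_lhs => rw [← hfg' x]
        have hv : g x = ∑ j, g x j • (Pi.single j (1 : R) : Fin n → R) := by
          funext k
          simp [Finset.sum_apply, Pi.single_apply]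
        conv_lhs => rw [hv]
        simp only [map_sum, map_smul]
      rw [hx]
      refine Submodule.sum_mem _ fun i _ => Submodule.smul_mem_smul ?_ Submodule.mem_top
      have h1 : g x i = ∑ j, E i j * g x j := by
        conv_lhs => rw [← hfg' x]
        exact hE (g x) i
      rw [h1]
      exact Ideal.sum_mem _ fun j _ => Ideal.mul_mem_right _ _ (hcon i j)
    obtain ⟨i, j, hij⟩ := hex
    letI : Field (R ⧸ m) := Ideal.Quotient.field m
    refine ⟨Sum.elim (Pi.single j 1) (Pi.single i 1), ?_⟩
    rw [hP]
    have : ∑ i', ∑ j', (Sum.elim (Pi.single j (1 : R ⧸ m)) (Pi.single i 1) (Sum.inr i')) *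
        algebraMap R (R ⧸ m) (E i' j') *
        (Sum.elim (Pi.single j (1 : R ⧸ m)) (Pi.single i 1) (Sum.inl j')) =
        algebraMap R (R ⧸ m) (E i j) := by
      simp [Sum.elim_inr, Sum.elim_inl, Pi.single_apply]
    rw [this]
    apply IsUnit.mk0
    rw [Ideal.Quotient.algebraMap_eq, Ne, Ideal.Quotient.eq_zero_iff_mem]
    exact hij)
  rw [hP] at hs
  obtain ⟨u, hu⟩ := hs
  let φ₀ : Module.Dual R M := (∑ i, s (Sum.inr i) • LinearMap.proj (R := R) (φ := fun _ : Fin n => R) i) ∘ₗ g
  refine ⟨f (s ∘ Sum.inl), (↑u⁻¹ : R) • φ₀, ?_⟩
  have h1 : φ₀ (f (s ∘ Sum.inl)) = (u : R) := by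
    simp only [φ₀, LinearMap.comp_apply, LinearMap.sum_apply, LinearMap.smul_apply,
      LinearMap.proj_apply, smul_eq_mul, hE, Function.comp_apply]
    rw [hu]
    refine Finset.sum_congr rfl fun i _ => ?_
    rw [Finset.mul_sum]
    refine Finset.sum_congr rfl fun j _ => ?_
    simp only [Algebra.algebraMap_self, RingHom.id_apply]
    ring
  rw [LinearMap.smul_apply, h1, smul_eq_mul, Units.inv_mul]


/-- S16598 -/
theorem S16598_main {R : Type u} [CommRing R] (hR : LGRing.IsLGRing R)
    (M : Type v) [AddCommGroup M] [Module R M] [Module.Finite R M] [Module.Projective R M]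
    [FaithfulSMul R M] :
    ∃ (m : M) (f : Module.Dual R M), f m = 1 := by
  apply exists_unimodular hR M
  intro m hm htop
  obtain ⟨r, hr1, hr2⟩ := Submodule.exists_sub_one_mem_and_smul_eq_zero_of_fg_of_le_smul m
    (⊤ : Submodule R M) Module.Finite.fg_top (by rw [htop])
  have hr0 : r = 0 := by
    apply FaithfulSMul.eq_of_smul_eq_smul (α := M)
    intro y
    rw [hr2 y Submodule.mem_top, zero_smul]
  rw [hr0, zero_sub, neg_mem_iff] at hr1
  exact hm.ne_top ((Ideal.eq_top_iff_one m).mpr hr1)

/-- S16597 -/
theorem S16597_aux {R : Type u} [CommRing R] (hR : LGRing.IsLGRing R) :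
    ∀ (d : ℕ) (M : Type v) [AddCommGroup M] [Module R M] [Module.Finite R M]
      [Module.Projective R M], (∀ p : PrimeSpectrum R, Module.rankAtStalk M p = d) →
      Module.Free R M := by
  intro d
  induction d with
  | zero =>
    intro M _ _ _ _ hd
    have : Subsingleton M := Module.rankAtStalk_eq_zero_iff_subsingleton.mp (funext hd)
    infer_instance
  | succ d ih =>
    intro M _ _ _ _ hd
    rcases subsingleton_or_nontrivial R with hsub | hnt
    · have : Subsingleton M := Module.subsingleton R M
      infer_instance
    have hM : ∀ (m : Ideal R) [m.IsMaximal], (m • ⊤ : Submodule R M) ≠ ⊤ := by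
      intro m hm htop
      obtain ⟨r, hr1, hr2⟩ := Submodule.exists_sub_one_mem_and_smul_eq_zero_of_fg_of_le_smul m
        (⊤ : Submodule R M) Module.Finite.fg_top (by rw [htop])
      have hrm : r ∉ m := by
        intro hrm
        have : (1 : R) ∈ m := by
          have := m.sub_mem hrm hr1
          simpa using this
        exact hm.ne_top ((Ideal.eq_top_iff_one m).mpr this)
      have h1 : (⟨m, hm.isPrime⟩ : PrimeSpectrum R) ∉ Module.support R M := by
        rw [Module.notMem_support_iff']
        intro y
        exact ⟨r, hrm, hr2 y Submodule.mem_top⟩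
      rw [← Module.rankAtStalk_eq_zero_iff_notMem_support, hd] at h1
      omega
    obtain ⟨x, φ, hφx⟩ := exists_unimodular hR M hM
    let K := LinearMap.ker φ
    let proj : M →ₗ[R] K :=
      { toFun := fun y => ⟨y - φ y • x, by
          show φ (y - φ y • x) = 0
          rw [map_sub, map_smul, hφx, smul_eq_mul, mul_one, sub_self]⟩
        map_add' := fun y y' => by
          apply Subtype.ext
          simp only [map_add, add_smul, Submodule.coe_add]
          abel
        map_smul' := fun a y => by
          apply Subtype.ext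
          simp only [map_smul, smul_eq_mul, RingHom.id_apply, Submodule.coe_smul, smul_sub, mul_smul] }
    have hproj : ∀ k : K, proj (k : M) = k := by
      intro k
      apply Subtype.ext
      show (k : M) - φ (k : M) • x = k
      rw [k.2, zero_smul, sub_zero]
    haveI : Module.Finite R K := Module.Finite.of_surjective proj (fun k => ⟨k, hproj k⟩)
    haveI : Module.Projective R K :=
      Module.Projective.of_split K.subtype proj (LinearMap.ext hproj)
    let e : M ≃ₗ[R] R × K :=
      { toFun := fun y => (φ y, proj y)
        map_add' := fun y y' => by simp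
        map_smul' := fun a y => by simp
        invFun := fun ak => ak.1 • x + (ak.2 : M)
        left_inv := fun y => by
          show φ y • x + (y - φ y • x) = y
          abel
        right_inv := fun ak => by
          obtain ⟨a, k⟩ := ak
          apply Prod.ext
          · show φ (a • x + (k : M)) = a
            rw [map_add, map_smul, hφx, k.2, smul_eq_mul, mul_one, add_zero]
          · apply Subtype.ext
            show (a • x + (k : M)) - φ (a • x + (k : M)) • x = k
            rw [map_add, map_smul, hφx, k.2, smul_eq_mul, mul_one, add_zero]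
            abel }
    have hK : ∀ p : PrimeSpectrum R, Module.rankAtStalk K p = d := by
      intro p
      have h1 := congrFun (Module.rankAtStalk_eq_of_equiv e) p
      rw [Module.rankAtStalk_prod, Pi.add_apply, Module.rankAtStalk_self, Pi.one_apply, hd] at h1
      omega
    haveI : Module.Free R K := ih K hK
    exact Module.Free.of_equiv e.symm

theorem S16597_main {R : Type u} [CommRing R] (hR : LGRing.IsLGRing R)
    (M : Type v) [AddCommGroup M] [Module R M] [Module.Finite R M] [Module.Projective R M] (d : ℕ)
    (hd : ∀ p : PrimeSpectrum R, Module.rankAtStalk M p = d) : Module.Free R M :=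
  S16597_aux hR d M hd

end Groth.Agent.Lib.Helper4.LGRing1
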