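import Mathlib
import Groth.Agent.Lib.Helper4.LGRing1

/-!
# LG-rings: cancellation for finite projective modules (helper4)
-/

set_option backward.isDefEq.respectTransparency.types false
set_option synthInstance.maxHeartbeats 400000
set_option autoImplicit false
set_option linter.unusedSectionVars false
set_option linter.style.haveILetI false
set_option linter.unusedSimpArgs false
universe u v w

namespace Groth.Agent.Lib.Helper4.LGRing3
open LGRing Groth.Agent.Lib.Helper4.LGRing1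
open scoped TensorProduct

section core
variable {R : Type u} [CommRing R] {M₁ : Type v} {M₂ : Type w}
  [AddCommGroup M₁] [Module R M₁] [AddCommGroup M₂] [Module R M₂]
  {a b : ℕ}

/-- the test endomorphism of `R^b` attached to `φ, ψ` -/
def testEnd (f₂ : (Fin b → R) →ₗ[R] M₂) (g₂ : M₂ →ₗ[R] (Fin b → R))
    (φ : M₁ →ₗ[R] M₂) (ψ : M₂ →ₗ[R] M₁) : (Fin b → R) →ₗ[R] (Fin b → R) :=
  g₂ ∘ₗ φ ∘ₗ ψ ∘ₗ f₂ + (LinearMap.id - g₂ ∘ₗ f₂)

lemma surjective_of_isUnit_det (f₂ : (Fin b → R) →ₗ[R] M₂) (g₂ : M₂ →ₗ[R] (Fin b → R))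
    (h₂ : f₂ ∘ₗ g₂ = LinearMap.id) (φ : M₁ →ₗ[R] M₂) (ψ : M₂ →ₗ[R] M₁)
    (hu : IsUnit (LinearMap.det (testEnd f₂ g₂ φ ψ))) : Function.Surjective φ := by
  intro v
  let e := LinearMap.equivOfIsUnitDet hu
  let w := e.symm (g₂ v)
  have hw : testEnd f₂ g₂ φ ψ w = g₂ v := by
    rw [← LinearMap.equivOfIsUnitDet_apply hu]; exact e.apply_symm_apply _
  have h₂' : ∀ x, f₂ (g₂ x) = x := fun x => LinearMap.congr_fun h₂ x
  refine ⟨ψ (f₂ w), ?_⟩
  have := congrArg f₂ hw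
  simp only [testEnd, LinearMap.add_apply, LinearMap.sub_apply, LinearMap.comp_apply,
    LinearMap.id_apply, map_add, map_sub, h₂'] at this
  simpa using this

lemma functional_mem_of_mem_smul_top (m : Ideal R) (l : M₂ →ₗ[R] R) {z : M₂}
    (hz : z ∈ (m • ⊤ : Submodule R M₂)) : l z ∈ m := by
  refine Submodule.smul_induction_on hz ?_ ?_
  · intro r hr x _
    rw [map_smul, smul_eq_mul]; exact Ideal.mul_mem_right _ _ hr
  · intro x y hx hy
    rw [map_add]; exact Ideal.add_mem _ hx hy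

lemma det_sub_one_mem (m : Ideal R) (f₂ : (Fin b → R) →ₗ[R] M₂) (g₂ : M₂ →ₗ[R] (Fin b → R))
    (φ : M₁ →ₗ[R] M₂) (ψ : M₂ →ₗ[R] M₁)
    (h : ∀ y, φ (ψ y) - y ∈ (m • ⊤ : Submodule R M₂)) :
    Ideal.Quotient.mk m (LinearMap.det (testEnd f₂ g₂ φ ψ)) = 1 := by
  classical
  rw [← LinearMap.det_toMatrix', RingHom.map_det]
  have : (Ideal.Quotient.mk m).mapMatrix (LinearMap.toMatrix' (testEnd f₂ g₂ φ ψ)) = 1 := by
    ext i j
    rw [RingHom.mapMatrix_apply, Matrix.map_apply, LinearMap.toMatrix'_apply]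
    have h1 : testEnd f₂ g₂ φ ψ (Pi.single j 1) i =
        (LinearMap.proj i ∘ₗ g₂) (φ (ψ (f₂ (Pi.single j 1))) - f₂ (Pi.single j 1)) +
          (1 : Matrix (Fin b) (Fin b) R) i j := by
      simp only [testEnd, LinearMap.add_apply, LinearMap.sub_apply, LinearMap.comp_apply,
        LinearMap.id_apply, map_sub, LinearMap.proj_apply, Pi.add_apply, Pi.sub_apply,
        Matrix.one_apply, Pi.single_apply]
      ring
    rw [h1, map_add]
    have h2 := functional_mem_of_mem_smul_top m (LinearMap.proj i ∘ₗ g₂) (h (f₂ (Pi.single j 1)))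
    rw [Ideal.Quotient.eq_zero_iff_mem.mpr h2, zero_add]
    simp [Matrix.one_apply]
  rw [this, Matrix.det_one]

abbrev σ (a b : ℕ) : Type := (Fin b × Fin a) ⊕ (Fin a × Fin b)

def Xs (s : σ a b → R) : Matrix (Fin b) (Fin a) R := Matrix.of fun i j => s (Sum.inl (i, j))
def Ys (s : σ a b → R) : Matrix (Fin a) (Fin b) R := Matrix.of fun j i => s (Sum.inr (j, i))

lemma exists_poly (f₁ : (Fin a → R) →ₗ[R] M₁) (g₁ : M₁ →ₗ[R] (Fin a → R))
    (f₂ : (Fin b → R) →ₗ[R] M₂) (g₂ : M₂ →ₗ[R] (Fin b → R)) :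
    ∃ P : MvPolynomial (σ a b) R, ∀ s : σ a b → R,
      MvPolynomial.aeval s P = LinearMap.det (testEnd f₂ g₂
        (f₂ ∘ₗ Matrix.toLin' (Xs s) ∘ₗ g₁) (f₁ ∘ₗ Matrix.toLin' (Ys s) ∘ₗ g₂)) := by
  classical
  let E₁ : Matrix (Fin a) (Fin a) R := LinearMap.toMatrix' (g₁ ∘ₗ f₁)
  let E₂ : Matrix (Fin b) (Fin b) R := LinearMap.toMatrix' (g₂ ∘ₗ f₂)
  let 𝕏 : Matrix (Fin b) (Fin a) (MvPolynomial (σ a b) R) :=
    Matrix.of fun i j => MvPolynomial.X (Sum.inl (i, j))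
  let 𝕐 : Matrix (Fin a) (Fin b) (MvPolynomial (σ a b) R) :=
    Matrix.of fun j i => MvPolynomial.X (Sum.inr (j, i))
  let CC : R →+* MvPolynomial (σ a b) R := MvPolynomial.C
  let Mp : Matrix (Fin b) (Fin b) (MvPolynomial (σ a b) R) :=
    E₂.map CC * 𝕏 * E₁.map CC * 𝕐 * E₂.map CC + (1 - E₂.map CC)
  refine ⟨Mp.det, fun s => ?_⟩
  rw [MvPolynomial.aeval_eq_eval, RingHom.map_det]
  have hX : 𝕏.map (MvPolynomial.eval s) = Xs s := by
    ext i j; simp [𝕏, Xs]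
  have hY : 𝕐.map (MvPolynomial.eval s) = Ys s := by
    ext i j; simp [𝕐, Ys]
  have hE₁ : (E₁.map CC).map (MvPolynomial.eval s) = E₁ := by
    ext i j; simp [CC]
  have hE₂ : (E₂.map CC).map (MvPolynomial.eval s) = E₂ := by
    ext i j; simp [CC]
  have hM : (MvPolynomial.eval s).mapMatrix Mp = E₂ * Xs s * E₁ * Ys s * E₂ + (1 - E₂) := by
    rw [RingHom.mapMatrix_apply]
    simp only [Mp]
    rw [Matrix.map_add _ (map_add _), Matrix.map_sub _ (map_sub _),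
      Matrix.map_one _ (map_zero _) (map_one _), Matrix.map_mul, Matrix.map_mul, Matrix.map_mul,
      Matrix.map_mul, hX, hY, hE₁, hE₂]
  rw [hM, ← LinearMap.det_toLin']
  congr 1
  simp only [map_add, map_sub, Matrix.toLin'_mul, Matrix.toLin'_one, E₁, E₂,
    Matrix.toLin'_toMatrix', testEnd]
  simp only [LinearMap.comp_assoc]

end core

theorem exists_surjective {R : Type u} [CommRing R] (hR : IsLGRing R)
    (M₁ : Type v) (M₂ : Type w) [AddCommGroup M₁] [Module R M₁] [Module.Finite R M₁]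
    [Module.Projective R M₁] [AddCommGroup M₂] [Module R M₂] [Module.Finite R M₂]
    [Module.Projective R M₂]
    (h : ∀ (m : Ideal R) [m.IsMaximal], ∃ (φ : M₁ →ₗ[R] M₂) (ψ : M₂ →ₗ[R] M₁),
      ∀ y, φ (ψ y) - y ∈ (m • ⊤ : Submodule R M₂)) :
    ∃ φ : M₁ →ₗ[R] M₂, Function.Surjective φ := by
  classical
  obtain ⟨a, f₁, g₁, -, -, h₁⟩ := Module.Finite.exists_comp_eq_id_of_projective R M₁
  obtain ⟨b, f₂, g₂, -, -, h₂⟩ := Module.Finite.exists_comp_eq_id_of_projective R M₂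
  obtain ⟨P, hP⟩ := exists_poly f₁ g₁ f₂ g₂
  have h₁' : ∀ x, f₁ (g₁ x) = x := fun x => LinearMap.congr_fun h₁ x
  have h₂' : ∀ x, f₂ (g₂ x) = x := fun x => LinearMap.congr_fun h₂ x
  obtain ⟨s, hs⟩ := lg_fintype hR P (fun m _ => by
    obtain ⟨φ, ψ, hφψ⟩ := h m
    let s₀ : σ a b → R := Sum.elim (fun p => LinearMap.toMatrix' (g₂ ∘ₗ φ ∘ₗ f₁) p.1 p.2)
      (fun p => LinearMap.toMatrix' (g₁ ∘ₗ ψ ∘ₗ f₂) p.1 p.2)
    refine ⟨fun i => Ideal.Quotient.mkₐ R m (s₀ i), ?_⟩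
    rw [← MvPolynomial.comp_aeval_apply, hP]
    have hX : Xs s₀ = LinearMap.toMatrix' (g₂ ∘ₗ φ ∘ₗ f₁) := by
      ext i j; simp [Xs, s₀]
    have hY : Ys s₀ = LinearMap.toMatrix' (g₁ ∘ₗ ψ ∘ₗ f₂) := by
      ext i j; simp [Ys, s₀]
    have hφ : f₂ ∘ₗ Matrix.toLin' (Xs s₀) ∘ₗ g₁ = φ := by
      rw [hX, Matrix.toLin'_toMatrix']
      ext x; simp [h₁', h₂']
    have hψ : f₁ ∘ₗ Matrix.toLin' (Ys s₀) ∘ₗ g₂ = ψ := by
      rw [hY, Matrix.toLin'_toMatrix']
      ext x; simp [h₁', h₂']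
    rw [hφ, hψ, Ideal.Quotient.mkₐ_eq_mk, det_sub_one_mem m f₂ g₂ φ ψ hφψ]
    exact isUnit_one)
  rw [hP] at hs
  exact ⟨_, surjective_of_isUnit_det f₂ g₂ h₂ _ _ hs⟩



lemma finrank_quot_eq_rankAtStalk {R : Type u} [CommRing R] (m : Ideal R) [hm : m.IsMaximal]
    (M : Type v) [AddCommGroup M] [Module R M] [Module.Finite R M] [Module.Flat R M] :
    Module.finrank (R ⧸ m) (M ⧸ (m • ⊤ : Submodule R M)) =
      Module.rankAtStalk M ⟨m, hm.isPrime⟩ := by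
  letI : Field (R ⧸ m) := Ideal.Quotient.field m
  let e : ((R ⧸ m) ⊗[R] M) ≃ₗ[R ⧸ m] M ⧸ (m • ⊤ : Submodule R M) :=
    (TensorProduct.quotTensorEquivQuotSMul M m).extendScalarsOfSurjective
      Ideal.Quotient.mk_surjective
  rw [← e.finrank_eq]
  let p : PrimeSpectrum (R ⧸ m) := ⟨⊥, Ideal.isPrime_bot⟩
  have h1 : Module.rankAtStalk ((R ⧸ m) ⊗[R] M) p = Module.finrank (R ⧸ m) ((R ⧸ m) ⊗[R] M) := by
    rw [Module.rankAtStalk_eq_finrank_of_free]; rfl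
  rw [← h1, Module.rankAtStalk_baseChange]
  congr 1
  ext x
  simp [p, Ideal.Quotient.eq_zero_iff_mem]

lemma exists_local_data {R : Type u} [CommRing R] (m : Ideal R) [hm : m.IsMaximal]
    (M₁ : Type v) (M₂ : Type w) [AddCommGroup M₁] [Module R M₁] [Module.Finite R M₁]
    [Module.Projective R M₁] [AddCommGroup M₂] [Module R M₂] [Module.Finite R M₂]
    [Module.Projective R M₂]
    (h : Module.finrank (R ⧸ m) (M₂ ⧸ (m • ⊤ : Submodule R M₂)) ≤
      Module.finrank (R ⧸ m) (M₁ ⧸ (m • ⊤ : Submodule R M₁))) :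
    ∃ (φ : M₁ →ₗ[R] M₂) (ψ : M₂ →ₗ[R] M₁), ∀ y, φ (ψ y) - y ∈ (m • ⊤ : Submodule R M₂) := by
  letI : Field (R ⧸ m) := Ideal.Quotient.field m
  let V₁ := M₁ ⧸ (m • ⊤ : Submodule R M₁)
  let V₂ := M₂ ⧸ (m • ⊤ : Submodule R M₂)
  haveI : Module.Finite (R ⧸ m) V₁ := Module.Finite.of_restrictScalars_finite R (R ⧸ m) V₁
  haveI : Module.Finite (R ⧸ m) V₂ := Module.Finite.of_restrictScalars_finite R (R ⧸ m) V₂
  let b₁ := Module.finBasis (R ⧸ m) V₁
  let b₂ := Module.finBasis (R ⧸ m) V₂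
  let θ : V₁ →ₗ[R ⧸ m] V₂ :=
    b₂.equivFun.symm.toLinearMap ∘ₗ LinearMap.funLeft (R ⧸ m) (R ⧸ m) (Fin.castLE h) ∘ₗ
      b₁.equivFun.toLinearMap
  have hθ : Function.Surjective θ := by
    have h0 : Function.Surjective (LinearMap.funLeft (R ⧸ m) (R ⧸ m) (Fin.castLE h)) :=
      LinearMap.funLeft_surjective_of_injective _ _ _ (Fin.castLE_injective h)
    intro v
    obtain ⟨w, hw⟩ := h0 (b₂.equivFun v)
    refine ⟨b₁.equivFun.symm w, ?_⟩
    simp only [θ, LinearMap.comp_apply, LinearEquiv.coe_coe, LinearEquiv.apply_symm_apply, hw,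
      LinearEquiv.symm_apply_apply]
  let θR : V₁ →ₗ[R] V₂ := θ.restrictScalars R
  let π₁ : M₁ →ₗ[R] V₁ := Submodule.mkQ _
  let π₂ : M₂ →ₗ[R] V₂ := Submodule.mkQ _
  have hπ₁ : Function.Surjective π₁ := Submodule.mkQ_surjective _
  have hπ₂ : Function.Surjective π₂ := Submodule.mkQ_surjective _
  have hθπ : Function.Surjective (θR ∘ₗ π₁) := hθ.comp hπ₁
  obtain ⟨φ, hφ⟩ := Module.projective_lifting_property π₂ (θR ∘ₗ π₁) hπ₂
  obtain ⟨ψ, hψ⟩ := Module.projective_lifting_property (θR ∘ₗ π₁) π₂ hθπ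
  refine ⟨φ, ψ, fun y => ?_⟩
  have h1 : π₂ (φ (ψ y)) = π₂ y := by
    have e1 := LinearMap.congr_fun hφ (ψ y)
    have e2 := LinearMap.congr_fun hψ y
    simp only [LinearMap.comp_apply] at e1 e2
    rw [e1, e2]
  rw [← Submodule.Quotient.eq]
  exact h1

theorem exists_surjective_of_rank_le {R : Type u} [CommRing R] (hR : IsLGRing R)
    (M₁ : Type v) (M₂ : Type w) [AddCommGroup M₁] [Module R M₁] [Module.Finite R M₁]
    [Module.Projective R M₁] [AddCommGroup M₂] [Module R M₂] [Module.Finite R M₂]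
    [Module.Projective R M₂]
    (h : ∀ (m : Ideal R) [hm : m.IsMaximal],
      Module.rankAtStalk M₂ ⟨m, hm.isPrime⟩ ≤ Module.rankAtStalk M₁ ⟨m, hm.isPrime⟩) :
    ∃ φ : M₁ →ₗ[R] M₂, Function.Surjective φ := by
  apply exists_surjective hR
  intro m hm
  apply exists_local_data
  rw [finrank_quot_eq_rankAtStalk, finrank_quot_eq_rankAtStalk]
  exact h m

theorem nonempty_equiv_of_rank_eq {R : Type u} [CommRing R] (hR : IsLGRing R)
    (M₁ : Type v) (M₂ : Type w) [AddCommGroup M₁] [Module R M₁] [Module.Finite R M₁]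
    [Module.Projective R M₁] [AddCommGroup M₂] [Module R M₂] [Module.Finite R M₂]
    [Module.Projective R M₂]
    (h : ∀ (m : Ideal R) [hm : m.IsMaximal],
      Module.rankAtStalk M₁ ⟨m, hm.isPrime⟩ = Module.rankAtStalk M₂ ⟨m, hm.isPrime⟩) :
    Nonempty (M₁ ≃ₗ[R] M₂) := by
  obtain ⟨φ, hφ⟩ := exists_surjective_of_rank_le hR M₁ M₂ (fun m hm => (h m).ge)
  exact ⟨LinearEquiv.ofBijective φ
    (Module.bijective_of_surjective_of_rankAtStalk_eq hφ (fun m hm => h m))⟩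

theorem S16605_main {R : Type u} [CommRing R] (hR : LGRing.IsLGRing R)
    (M₁ M₂ : Type v) [AddCommGroup M₁] [Module R M₁] [Module.Finite R M₁] [Module.Projective R M₁]
    [AddCommGroup M₂] [Module R M₂] [Module.Finite R M₂] [Module.Projective R M₂] (n : ℕ) (hn : 0 < n)
    (e : (Fin n → M₁) ≃ₗ[R] (Fin n → M₂)) : Nonempty (M₁ ≃ₗ[R] M₂) := by
  apply nonempty_equiv_of_rank_eq hR
  intro m hm
  have h1 := congrFun (Module.rankAtStalk_eq_of_equiv e) ⟨m, hm.isPrime⟩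
  rw [Module.rankAtStalk_pi, Module.rankAtStalk_pi, finsum_eq_sum_of_fintype,
    finsum_eq_sum_of_fintype] at h1
  simp only [Finset.sum_const, Finset.card_univ, Fintype.card_fin, smul_eq_mul] at h1
  exact Nat.eq_of_mul_eq_mul_left hn h1

theorem S16606_main {R : Type u} [CommRing R]
    (hR : LGRing.IsLGRing R) (M₁ M₂ N : Type v) [AddCommGroup M₁] [Module R M₁] [Module.Finite R M₁]
    [Module.Projective R M₁] [AddCommGroup M₂] [Module R M₂] [Module.Finite R M₂] [Module.Projective R M₂]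
    [AddCommGroup N] [Module R N] [Module.Finite R N] [Module.Projective R N] [FaithfulSMul R N]
    (e : M₁ ⊗[R] N ≃ₗ[R] M₂ ⊗[R] N) : Nonempty (M₁ ≃ₗ[R] M₂) := by
  apply nonempty_equiv_of_rank_eq hR
  intro m hm
  have h1 := congrFun (Module.rankAtStalk_eq_of_equiv e) ⟨m, hm.isPrime⟩
  rw [Module.rankAtStalk_tensorProduct, Module.rankAtStalk_tensorProduct, Pi.mul_apply,
    Pi.mul_apply] at h1
  have hN : 0 < Module.rankAtStalk N ⟨m, hm.isPrime⟩ := by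
    rw [Module.rankAtStalk_pos_iff_mem_support, Module.support_eq_zeroLocus,
      (Module.annihilator_eq_bot).mpr inferInstance]
    simp
  exact Nat.eq_of_mul_eq_mul_right hN h1

end Groth.Agent.Lib.Helper4.LGRing3
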