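import Mathlib
import Groth.Prelude
import Groth.Agent.Lib.Lead.RkLoc7
import Groth.Agent.Lib.Lead.GUnib21
import Groth.Agent.Lib.Lead.GUnib4
import Groth.Agent.Lib.Helper6.EtLoc.SmoothBC
import Groth.Agent.Lib.Helper4.Equi1
import Groth.Agent.Lib.Helper8.HensGU5

/-!
# Smoothness at maximal points of geometrically reduced fibres and the branch bound over a geometrically unibranch base (helper4)
-/

set_option backward.isDefEq.respectTransparency.types false
set_option synthInstance.maxHeartbeats 400000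
set_option autoImplicit false
set_option linter.unusedSectionVars false
set_option linter.style.haveILetI false
set_option linter.unusedSimpArgs false
universe u v w
open CategoryTheory CategoryTheory.Limits AlgebraicGeometry TopologicalSpace Topology

namespace Groth.Agent.Lib.Helper4.UniComp2

open Groth.Agent.Lib.Helper4.Equi1

/-- the local ring at a maximal point of a scheme has dimension zero -/
theorem ringKrullDim_stalk_le_zero_of_max {F : Scheme.{u}} (z : F)
    (hmax : ∀ z' : F, z' ⤳ z → z' = z) : ringKrullDim (F.presheaf.stalk z) ≤ 0 := by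
  haveI : Subsingleton (PrimeSpectrum (F.presheaf.stalk z)) := by
    constructor
    intro P Q
    apply (F.fromSpecStalk z).isEmbedding.injective
    rw [hmax _ (fromSpecStalk_specializes z P), hmax _ (fromSpecStalk_specializes z Q)]
  exact Order.krullDim_nonpos_of_subsingleton

/-- at a point with integral local ring, there is only one maximal generization -/
theorem eq_of_max_of_isDomain_stalk {F : Scheme.{u}} (x₀ : F) [IsDomain (F.presheaf.stalk x₀)]
    (z₁ z₂ : F) (h₁ : z₁ ⤳ x₀) (hm₁ : ∀ z' : F, z' ⤳ z₁ → z' = z₁)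
    (h₂ : z₂ ⤳ x₀) (hm₂ : ∀ z' : F, z' ⤳ z₂ → z' = z₂) : z₁ = z₂ := by
  have key : ∀ z : F, z ⤳ x₀ → (∀ z' : F, z' ⤳ z → z' = z) →
      z = F.fromSpecStalk x₀ ⟨⊥, Ideal.isPrime_bot⟩ := by
    intro z hz hm
    have hmem : z ∈ Set.range (F.fromSpecStalk x₀) := by
      rw [Scheme.range_fromSpecStalk]
      exact hz
    obtain ⟨P, rfl⟩ := hmem
    have h1 : F.fromSpecStalk x₀ ⟨⊥, Ideal.isPrime_bot⟩ ⤳ F.fromSpecStalk x₀ P := by
      rw [fromSpecStalk_specializes_iff]
      exact bot_le (a := P.asIdeal)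
    exact (hm _ h1).symm
  rw [key z₁ h₁ hm₁, key z₂ h₂ hm₂]

open Groth.Agent.Lead.RkLoc in
/-- `f` is smooth at a maximal point of a fibre at which it is flat, if the fibre is geometrically
reduced at a specialization of this point -/
theorem mem_smoothLocus_of_fibre_generic {X Y : Scheme.{u}} (f : X ⟶ Y)
    [LocallyOfFinitePresentation f]
    (x ζ : X) (hfζ : f ζ = f x) (hsp : ζ ⤳ x) (hmax : ∀ z' : X, f z' = f ζ → z' ⤳ ζ → z' = ζ)
    (hflat : (f.stalkMap ζ).hom.Flat)
    (hred : FBase.IsGeomReducedAt (f.fiberToSpecResidueField (f x)) (f.asFiber x)) :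
    ζ ∈ f.smoothLocus := by
  have h1 := ((mem_rsLocus_iff 0 f x).mp ((reducedAll_iff f x).mp hred)).1
  obtain ⟨z₀, hz₀⟩ : ∃ z₀ : ↥(f.fiber (f x)), f.fiberι (f x) z₀ = ζ := by
    have : ζ ∈ Set.range (f.fiberι (f x)) := by
      rw [f.range_fiberι]
      exact hfζ
    exact this
  have hemb := (f.fiberι (f x)).isEmbedding
  have hfib : ∀ t : ↥(f.fiber (f x)), f (f.fiberι (f x) t) = f x := by
    intro t
    have h0 : f.fiberι (f x) t ∈ f ⁻¹' {f x} := by
      rw [← f.range_fiberι (f x)]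
      exact Set.mem_range_self t
    exact h0
  have hz₀sp : z₀ ⤳ f.asFiber x := by
    rw [← hemb.isInducing.specializes_iff, hz₀, f.fiberι_asFiber]
    exact hsp
  have hz₀max : ∀ z' : ↥(f.fiber (f x)), z' ⤳ z₀ → z' = z₀ := by
    intro z' hz'
    apply hemb.injective
    rw [hz₀]
    apply hmax _ ((hfib z').trans hfζ.symm)
    have := hz'.map (f.fiberι (f x)).continuous
    rwa [hz₀] at this
  have h2 := h1 z₀ hz₀sp (ringKrullDim_stalk_le_zero_of_max z₀ hz₀max)
  haveI : LocallyOfFinitePresentation (f.fiberToSpecResidueField (f x)) :=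
    MorphismProperty.pullback_snd _ _ inferInstance
  exact (Groth.Agent.Lib.Helper6.EtLoc.mem_smoothLocus_iff_fiber_aux f ζ (f x) hfζ z₀ hz₀).mpr
    ⟨hflat, h2⟩

open Groth.Agent.Lead.GUnib in
/-- at a point where `f` is smooth and whose image has geometrically unibranch local ring,
the local ring has at most one minimal prime -/
theorem encard_minimalPrimes_stalk_le_one_of_smooth {X Y : Scheme.{u}} (f : X ⟶ Y)
    [LocallyOfFinitePresentation f] (ζ : X) (hζ : ζ ∈ f.smoothLocus)
    (hY : CAlg2.IsGeomUnibranch (Y.presheaf.stalk (f ζ))) :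
    (minimalPrimes (X.presheaf.stalk ζ)).encard ≤ 1 := by
  obtain ⟨U, hU, V, hV, hVU, hζV, hsm⟩ := exists_smooth_of_formallySmooth_stalk f ζ hζ
  algebraize [(f.appLE U V hVU).hom]
  haveI : Algebra.Smooth Γ(Y, U) Γ(X, V) := hsm
  let p : Ideal Γ(Y, U) := (hU.primeIdealOf ⟨f ζ, hVU hζV⟩).asIdeal
  let 𝔫 : Ideal Γ(X, V) := (hV.primeIdealOf ⟨ζ, hζV⟩).asIdeal
  haveI : p.IsPrime := (hU.primeIdealOf ⟨f ζ, hVU hζV⟩).isPrime
  haveI : 𝔫.IsPrime := (hV.primeIdealOf ⟨ζ, hζV⟩).isPrime
  have h𝔫 : 𝔫.comap (algebraMap Γ(Y, U) Γ(X, V)) = p := by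
    have h := IsAffineOpen.comap_primeIdealOf_appLE (f := f) U hU V hV hVU hζV
    exact congrArg PrimeSpectrum.asIdeal h
  have hgu : CAlg2.IsGeomUnibranch (Localization.AtPrime p) :=
    isGeomUnibranch_atPrime_of_stalk hU (f ζ) (hVU hζV) hY
  obtain ⟨Ash, _, _, _, _, hSH⟩ :=
    Groth.Agent.Helper7.SHens.exists_isStrictHenselization (Localization.AtPrime p)
  have key := encard_minimalPrimes_atPrime_le_strictHenselization Γ(Y, U) Γ(X, V) p 𝔫 h𝔫 Ash
  have huniq := (Groth.Agent.Helper8.HensGU.isGeomUnibranch_iff_hasUniqueMinimalPrime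
    (Localization.AtPrime p) Ash).mp hgu
  have hone : (minimalPrimes Ash).encard = 1 := by
    obtain ⟨𝔭, h𝔭, h𝔭'⟩ := huniq
    have : minimalPrimes Ash = {𝔭} := by
      ext 𝔮
      constructor
      · intro h𝔮
        exact h𝔭' 𝔮 h𝔮
      · rintro rfl
        exact h𝔭
    rw [this, Set.encard_singleton]
  letI := X.presheaf.algebra_section_stalk ⟨ζ, hζV⟩
  haveI := hV.isLocalization_stalk ⟨ζ, hζV⟩
  let e : Localization.AtPrime 𝔫 ≃ₐ[Γ(X, V)] X.presheaf.stalk ζ :=
    IsLocalization.algEquiv 𝔫.primeCompl _ _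
  rw [← encard_minimalPrimes_of_ringEquiv e.toRingEquiv, ← hone]
  exact key

end Groth.Agent.Lib.Helper4.UniComp2
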