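import Mathlib

set_option linter.style.haveILetI false
set_option linter.unusedSectionVars false
set_option linter.unusedVariables false

namespace Groth.Agent.Helper4.AR

universe u

variable {A : Type u} [CommRing A] (I : Ideal A) {L M N : Type u} [AddCommGroup L] [Module A L]
  [AddCommGroup M] [Module A M] [AddCommGroup N] [Module A N]

theorem map_mem_pow_smul (h : M →ₗ[A] N) (k : ℕ) {x : M} (hx : x ∈ I ^ k • (⊤ : Submodule A M)) :
    h x ∈ I ^ k • (⊤ : Submodule A N) := by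
  have h1 : h x ∈ (I ^ k • (⊤ : Submodule A M)).map h := Submodule.mem_map_of_mem hx
  rw [Submodule.map_smul''] at h1
  exact Submodule.smul_mono le_rfl le_top h1

theorem map_mem_pow_smul_add (d : M →ₗ[A] N) (a : ℕ)
    (hd : ∀ x, d x ∈ I ^ a • (⊤ : Submodule A N)) (k : ℕ) {x : M}
    (hx : x ∈ I ^ k • (⊤ : Submodule A M)) :
    d x ∈ I ^ (k + a) • (⊤ : Submodule A N) := by
  have h1 : d x ∈ (I ^ k • (⊤ : Submodule A M)).map d := Submodule.mem_map_of_mem hx
  rw [Submodule.map_smul''] at h1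
  have h2 : (⊤ : Submodule A M).map d ≤ I ^ a • (⊤ : Submodule A N) := by
    rintro _ ⟨y, -, rfl⟩
    exact hd y
  have h3 := Submodule.smul_mono (le_refl (I ^ k)) h2 h1
  rwa [← Submodule.mul_smul, ← pow_add] at h3

theorem pow_smul_top_anti {k k' : ℕ} (h : k ≤ k') :
    I ^ k' • (⊤ : Submodule A M) ≤ I ^ k • (⊤ : Submodule A M) :=
  Submodule.smul_mono_left (Ideal.pow_le_pow_right h)


section Main

variable (f f' : L →ₗ[A] M) (g g' : M →ₗ[A] N) (c : ℕ)

/-- Artin–Rees with the same constant for the perturbed map `g'`. -/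
theorem artinRees_perturbed (hgf' : g'.comp f' = 0)
    (hf : ∀ n : ℕ, c ≤ n → LinearMap.range f ⊓ (I ^ n • (⊤ : Submodule A M)) ≤
      Submodule.map f (I ^ (n - c) • (⊤ : Submodule A L)))
    (hg : ∀ n : ℕ, c ≤ n → LinearMap.range g ⊓ (I ^ n • (⊤ : Submodule A N)) ≤
      Submodule.map g (I ^ (n - c) • (⊤ : Submodule A M)))
    (hex : Function.Exact f g)
    (hff' : ∀ x : L, f x - f' x ∈ I ^ (c + 1) • (⊤ : Submodule A M))
    (hgg' : ∀ y : M, g y - g' y ∈ I ^ (c + 1) • (⊤ : Submodule A N)) :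
    ∀ n : ℕ, c ≤ n → ∀ y : M, g' y ∈ I ^ n • (⊤ : Submodule A N) →
      ∃ y' ∈ I ^ (n - c) • (⊤ : Submodule A M), g' y' = g' y := by
  intro n hn
  induction n, hn using Nat.le_induction with
  | base =>
    intro y _
    refine ⟨y, ?_, rfl⟩
    rw [Nat.sub_self, pow_zero, Ideal.one_eq_top, Submodule.top_smul]
    exact Submodule.mem_top
  | succ n hn ih =>
    intro y hy
    obtain ⟨y₀, hy₀, hy₀'⟩ := ih y (pow_smul_top_anti I (Nat.le_succ n) hy)
    have hδ : (g - g') y₀ ∈ I ^ (n + 1) • (⊤ : Submodule A N) := by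
      have := map_mem_pow_smul_add I (g - g') (c + 1) (fun x => hgg' x) (n - c) hy₀
      have e : n - c + (c + 1) = n + 1 := by omega
      rwa [e] at this
    have hgy₀ : g y₀ ∈ I ^ (n + 1) • (⊤ : Submodule A N) := by
      have : g y₀ = g' y₀ + (g - g') y₀ := by simp
      rw [this, hy₀']
      exact Submodule.add_mem _ hy hδ
    obtain ⟨y₁, hy₁, hy₁'⟩ := hg (n + 1) (by omega) ⟨⟨y₀, rfl⟩, hgy₀⟩
    have hy₁'' : y₁ ∈ I ^ (n - c) • (⊤ : Submodule A M) :=
      pow_smul_top_anti I (by omega) hy₁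
    have hker : g (y₀ - y₁) = 0 := by rw [map_sub, hy₁', sub_self]
    obtain ⟨z, hz⟩ := (hex (y₀ - y₁)).mp hker
    have hfz : f z ∈ I ^ (n - c) • (⊤ : Submodule A M) := by
      rw [hz]; exact Submodule.sub_mem _ hy₀ hy₁''
    obtain ⟨z', hz', hεz'⟩ : ∃ z', f z' = f z ∧
        (f - f') z' ∈ I ^ (n + 1 - c) • (⊤ : Submodule A M) := by
      by_cases hcase : c ≤ n - c
      · obtain ⟨z', hz'mem, hz'⟩ := hf (n - c) hcase ⟨⟨z, rfl⟩, hfz⟩
        refine ⟨z', hz', ?_⟩
        have := map_mem_pow_smul_add I (f - f') (c + 1) (fun x => hff' x) (n - c - c) hz'mem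
        have e : n - c - c + (c + 1) = n + 1 - c := by omega
        rwa [e] at this
      · refine ⟨z, rfl, ?_⟩
        exact pow_smul_top_anti I (by omega) (hff' z)
    refine ⟨y₁ + (f - f') z', Submodule.add_mem _ hy₁ hεz', ?_⟩
    have h1 : g' (f' z') = 0 := LinearMap.congr_fun hgf' z'
    have h2 : y₀ = y₁ + f z' := by rw [hz', hz]; abel
    rw [← hy₀', h2, map_add, map_add, LinearMap.sub_apply, map_sub, h1, sub_zero]

theorem claim_le (g g' : M →ₗ[A] N)
    (hAR : ∀ n : ℕ, c ≤ n → ∀ y : M, g' y ∈ I ^ n • (⊤ : Submodule A N) →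
      ∃ y' ∈ I ^ (n - c) • (⊤ : Submodule A M), g' y' = g' y)
    (hgg' : ∀ y : M, g y - g' y ∈ I ^ (c + 1) • (⊤ : Submodule A N)) (n : ℕ) :
    LinearMap.range g' ⊓ I ^ n • (⊤ : Submodule A N) ≤
      I ^ (n + 1) • (⊤ : Submodule A N) ⊔ (LinearMap.range g ⊓ I ^ n • (⊤ : Submodule A N)) := by
  rintro w ⟨⟨y, rfl⟩, hw⟩
  obtain ⟨y', hy'δ, hy'⟩ : ∃ y', (g - g') y' ∈ I ^ (n + 1) • (⊤ : Submodule A N) ∧
      g' y' = g' y := by
    by_cases hn : c ≤ n
    · obtain ⟨y', hy'mem, hy'⟩ := hAR n hn y hw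
      refine ⟨y', ?_, hy'⟩
      have := map_mem_pow_smul_add I (g - g') (c + 1) (fun x => hgg' x) (n - c) hy'mem
      have e : n - c + (c + 1) = n + 1 := by omega
      rwa [e] at this
    · exact ⟨y, pow_smul_top_anti I (by omega) (hgg' y), rfl⟩
  have hgy' : g y' ∈ I ^ n • (⊤ : Submodule A N) := by
    have : g y' = g' y' + (g - g') y' := by simp
    rw [this, hy']
    exact Submodule.add_mem _ hw (pow_smul_top_anti I (Nat.le_succ n) hy'δ)
  have : g' y = -((g - g') y') + g y' := by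
    rw [← hy']; simp
  rw [this]
  exact Submodule.add_mem_sup (Submodule.neg_mem _ hy'δ) ⟨⟨y', rfl⟩, hgy'⟩

/-- S6910 -/
theorem artinRees_coker_filtration (hgf' : g'.comp f' = 0)
    (hf : ∀ n : ℕ, c ≤ n → LinearMap.range f ⊓ (I ^ n • (⊤ : Submodule A M)) ≤
      Submodule.map f (I ^ (n - c) • (⊤ : Submodule A L)))
    (hg : ∀ n : ℕ, c ≤ n → LinearMap.range g ⊓ (I ^ n • (⊤ : Submodule A N)) ≤
      Submodule.map g (I ^ (n - c) • (⊤ : Submodule A M)))
    (hex : Function.Exact f g)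
    (hff' : ∀ x : L, f x - f' x ∈ I ^ (c + 1) • (⊤ : Submodule A M))
    (hgg' : ∀ y : M, g y - g' y ∈ I ^ (c + 1) • (⊤ : Submodule A N)) (n : ℕ) :
    I ^ (n + 1) • (⊤ : Submodule A N) ⊔ (LinearMap.range g ⊓ I ^ n • (⊤ : Submodule A N)) =
      I ^ (n + 1) • (⊤ : Submodule A N) ⊔ (LinearMap.range g' ⊓ I ^ n • (⊤ : Submodule A N)) := by
  apply le_antisymm
  · apply sup_le le_sup_left
    apply claim_le I c g' g
    · intro n hn y hy
      obtain ⟨y', hy', hy''⟩ := hg n hn ⟨⟨y, rfl⟩, hy⟩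
      exact ⟨y', hy', hy''⟩
    · intro y
      have := hgg' y
      rw [← neg_sub]
      exact Submodule.neg_mem _ this
  · apply sup_le le_sup_left
    exact claim_le I c g g'
      (artinRees_perturbed I f f' g g' c hgf' hf hg hex hff' hgg') hgg' n

end Main

end Groth.Agent.Helper4.AR
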