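import Mathlib

set_option linter.style.haveILetI false
set_option linter.unusedSectionVars false
set_option linter.unusedVariables false

namespace Groth.Agent.Helper4.AR

universe u
open TensorProduct

variable {A B : Type u} [CommRing A] [CommRing B] [Algebra A B] (I : Ideal A)
  {M N : Type u} [AddCommGroup M] [Module A M] [AddCommGroup N] [Module A N]

/-- `b ⊗ u` with `u ∈ I^k M` lies in `(IB)^k (B ⊗ M)`. -/
theorem tmul_mem_map_pow_smul (k : ℕ) (b : B) {u : M} (hu : u ∈ I ^ k • (⊤ : Submodule A M)) :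
    b ⊗ₜ[A] u ∈ (I.map (algebraMap A B)) ^ k • (⊤ : Submodule B (B ⊗[A] M)) := by
  rw [← Ideal.map_pow]
  refine Submodule.smul_induction_on hu (fun r hr m _ => ?_) (fun x y hx hy => ?_)
  · have : b ⊗ₜ[A] (r • m) = algebraMap A B r • (b ⊗ₜ[A] m) := by
      rw [TensorProduct.tmul_smul, algebraMap_smul]
    rw [this]
    exact Submodule.smul_mem_smul (Ideal.mem_map_of_mem _ hr) Submodule.mem_top
  · rw [TensorProduct.tmul_add]
    exact Submodule.add_mem _ hx hy

/-- the base change of the quotient map kills `(IB)^k (B ⊗ N)`. -/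
theorem baseChange_mkQ_eq_zero (k : ℕ) {x : B ⊗[A] N}
    (hx : x ∈ (I.map (algebraMap A B)) ^ k • (⊤ : Submodule B (B ⊗[A] N))) :
    (Submodule.mkQ (I ^ k • (⊤ : Submodule A N))).baseChange B x = 0 := by
  rw [← Ideal.map_pow] at hx
  refine Submodule.smul_induction_on hx (fun r hr y hy0 => ?_) (fun x y hx hy => ?_)
  · clear hy0
    rw [map_smul]
    refine Submodule.span_induction (p := fun r _ => r • ((Submodule.mkQ
      (I ^ k • (⊤ : Submodule A N))).baseChange B y) = 0) ?_ ?_ ?_ ?_ hr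
    · rintro _ ⟨i, hi, rfl⟩
      induction y using TensorProduct.induction_on with
      | zero => simp
      | tmul b n =>
        rw [LinearMap.baseChange_tmul, algebraMap_smul, ← TensorProduct.tmul_smul, ← map_smul]
        have : Submodule.mkQ (I ^ k • (⊤ : Submodule A N)) (i • n) = 0 := by
          rw [Submodule.mkQ_apply, Submodule.Quotient.mk_eq_zero]
          exact Submodule.smul_mem_smul hi Submodule.mem_top
        rw [this, TensorProduct.tmul_zero]
      | add y z hy hz =>
        rw [map_add, smul_add, hy, hz, add_zero]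
    · rw [zero_smul]
    · intro r s _ _ hr hs
      rw [add_smul, hr, hs, add_zero]
    · intro a r _ hr
      rw [smul_eq_mul, mul_smul, hr, smul_zero]
  · rw [map_add, hx, hy, add_zero]


/-- S6911 -/
theorem artinRees_baseChange [Module.Flat A B] (f : M →ₗ[A] N) (c : ℕ)
    (hf : ∀ n : ℕ, c ≤ n → LinearMap.range f ⊓ (I ^ n • (⊤ : Submodule A N)) ≤
      Submodule.map f (I ^ (n - c) • (⊤ : Submodule A M))) :
    ∀ n : ℕ, c ≤ n →
      LinearMap.range (f.baseChange B) ⊓
          ((I.map (algebraMap A B)) ^ n • (⊤ : Submodule B (B ⊗[A] N))) ≤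
        Submodule.map (f.baseChange B)
          ((I.map (algebraMap A B)) ^ (n - c) • (⊤ : Submodule B (B ⊗[A] M))) := by
  intro n hn
  rintro x ⟨⟨m', rfl⟩, hx⟩
  let q := Submodule.mkQ (I ^ n • (⊤ : Submodule A N))
  let P := LinearMap.ker (q ∘ₗ f)
  have hexact : Function.Exact P.subtype (q ∘ₗ f) := LinearMap.exact_subtype_ker_map _
  have hexactB : Function.Exact (P.subtype.lTensor B) ((q ∘ₗ f).lTensor B) :=
    Module.Flat.lTensor_exact B hexact
  have hm' : (q ∘ₗ f).lTensor B m' = 0 := by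
    have h1 := baseChange_mkQ_eq_zero I n hx
    rw [LinearMap.lTensor_comp, LinearMap.comp_apply]
    have h2 : (LinearMap.lTensor B f) m' = f.baseChange B m' := rfl
    have h3 : (LinearMap.lTensor B q) (f.baseChange B m') =
        q.baseChange B (f.baseChange B m') := rfl
    rw [h2, h3]
    exact h1
  obtain ⟨t, rfl⟩ := (hexactB m').mp hm'
  -- decompose each element of `P`
  have hP : ∀ p : P, ∃ u ∈ I ^ (n - c) • (⊤ : Submodule A M), f u = f p := by
    intro p
    have hp : q (f p) = 0 := p.2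
    have hp' : f p ∈ I ^ n • (⊤ : Submodule A N) := by
      rwa [Submodule.mkQ_apply, Submodule.Quotient.mk_eq_zero] at hp
    obtain ⟨u, hu, hu'⟩ := hf n hn ⟨⟨p, rfl⟩, hp'⟩
    exact ⟨u, hu, hu'⟩
  -- the claim for all tensors `t`
  suffices h : ∀ t : B ⊗[A] P, ∃ v ∈ (I.map (algebraMap A B)) ^ (n - c) •
      (⊤ : Submodule B (B ⊗[A] M)), f.baseChange B v = f.baseChange B (P.subtype.lTensor B t) by
    obtain ⟨v, hv, hv'⟩ := h t
    exact ⟨v, hv, hv'⟩
  intro t
  induction t using TensorProduct.induction_on with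
  | zero => exact ⟨0, Submodule.zero_mem _, by simp⟩
  | tmul b p =>
    obtain ⟨u, hu, hu'⟩ := hP p
    refine ⟨b ⊗ₜ[A] u, tmul_mem_map_pow_smul I (n - c) b hu, ?_⟩
    rw [LinearMap.lTensor_tmul, LinearMap.baseChange_tmul, LinearMap.baseChange_tmul, hu']
    rfl
  | add t₁ t₂ h₁ h₂ =>
    obtain ⟨v₁, hv₁, hv₁'⟩ := h₁
    obtain ⟨v₂, hv₂, hv₂'⟩ := h₂
    exact ⟨v₁ + v₂, Submodule.add_mem _ hv₁ hv₂, by rw [map_add, map_add, map_add, hv₁', hv₂']⟩

end Groth.Agent.Helper4.AR
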