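import Mathlib
import Groth.Agent.Lib.Helper2.Hopf.BialgTransport
import Groth.Agent.Lib.Helper5.Misc.HopfNil

/-!
# Subgroup generated by a pointed scheme in an affine algebraic group: reducedness and connectedness (Hopf form); unit component of a finite type Hopf algebra (helper4)
-/

set_option backward.isDefEq.respectTransparency.types false
set_option synthInstance.maxHeartbeats 400000
set_option autoImplicit false
set_option linter.unusedSectionVars false
set_option linter.style.haveILetI false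
set_option linter.unusedSimpArgs false
universe u v w
open TensorProduct

namespace Groth.Agent.Lib.Helper4.GenSubgrp1

section Ker
variable {k : Type u} [Field k] {A : Type v} {B : Type w} [CommRing A] [CommRing B]
  [HopfAlgebra k A] [HopfAlgebra k B]

/-- the kernel of a bialgebra map between Hopf algebras over a field is a Hopf ideal
(after helper2) -/
theorem isHopfIdeal_ker (π : A →ₐc[k] B) : (RingHom.ker (π : A →+* B)).IsHopfIdeal k := by
  have hmem : ∀ x : A, x ∈ RingHom.ker (π : A →+* B) ↔ π x = 0 := fun x => Iff.rfl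
  refine { counit_eq_zero := ?_, map_mkQ_comul_eq_zero := ?_, antipode_mem := ?_ }
  · intro x hx
    have hx' : π x = 0 := hx
    rw [← CoalgHomClass.counit_comp_apply π x, hx', map_zero]
  · intro x hx
    have hx' : π x = 0 := hx
    set J : Submodule k A := (RingHom.ker (π : A →+* B)).restrictScalars k with hJ
    have hle : J ≤ LinearMap.ker (π : A →ₗ[k] B) := by
      intro y hy
      exact hy
    let ι : (A ⧸ J) →ₗ[k] B := J.liftQ (π : A →ₗ[k] B) hle
    have hι : Function.Injective ι := by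
      rw [← LinearMap.ker_eq_bot]
      apply Submodule.ker_liftQ_eq_bot
      intro y hy
      exact hy
    have hcomp : ι ∘ₗ J.mkQ = (π : A →ₗ[k] B) := Submodule.liftQ_mkQ _ _ _
    have hinj : Function.Injective (TensorProduct.map ι ι) :=
      TensorProduct.map_injective_of_flat_flat ι ι hι hι
    apply hinj
    rw [map_zero, ← LinearMap.comp_apply, ← TensorProduct.map_comp, hcomp]
    have e2 : TensorProduct.map (π : A →ₗ[k] B) (π : A →ₗ[k] B) (Coalgebra.comul (R := k) x) =
        Coalgebra.comul (R := k) (π x) := CoalgHomClass.map_comp_comul_apply π x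
    rw [e2, hx', map_zero]
  · intro x hx
    have hx' : π x = 0 := hx
    rw [hmem, Groth.Agent.Helper2.HopfLib.bialgHom_antipode_apply π x, hx', map_zero]


end Ker

section Nil

theorem nilradical_isHopfIdeal (k : Type u) [Field k] [PerfectField k] (A : Type v) [CommRing A]
    [HopfAlgebra k A] : (nilradical A).IsHopfIdeal k := by
  set N := nilradical A with hN
  have hmem : ∀ x : A, x ∈ N ↔ IsNilpotent x := fun x => mem_nilradical
  let q : A →ₐ[k] A ⧸ N := Ideal.Quotient.mkₐ k N
  have : IsReduced (A ⧸ N) :=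
    (Ideal.isRadical_iff_quotient_reduced N).1 (Ideal.radical_isRadical ⊥)
  have : IsReduced ((A ⧸ N) ⊗[k] (A ⧸ N)) :=
    Groth.Agent.Lib.Helper5.Misc.HopfNil.isReduced_tensor_of_perfect' k _ _
  have hex : Function.Exact (N.restrictScalars k).subtype q.toLinearMap := by
    intro y
    constructor
    · intro hy
      have : y ∈ N := (Ideal.Quotient.eq_zero_iff_mem).1 hy
      exact ⟨⟨y, this⟩, rfl⟩
    · rintro ⟨z, rfl⟩
      exact (Ideal.Quotient.eq_zero_iff_mem).2 z.2
  have hsurj : Function.Surjective q.toLinearMap := Ideal.Quotient.mk_surjective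
  rw [Ideal.isHopfIdeal_iff, Submodule.isCoideal_iff_comul_mem]
  refine ⟨⟨?_, ?_⟩, ?_⟩
  · intro x hx
    have hx' : IsNilpotent x := (hmem x).1 hx
    have : IsNilpotent (Bialgebra.counitAlgHom k A x) := hx'.map _
    exact this.eq_zero
  · intro x hx
    have hx' : IsNilpotent x := (hmem x).1 hx
    rw [← TensorProduct.map_ker hex hsurj hex hsurj, LinearMap.mem_ker]
    have h1 : IsNilpotent (Bialgebra.comulAlgHom k A x) := hx'.map _
    have h2 : IsNilpotent (Algebra.TensorProduct.map q q (Bialgebra.comulAlgHom k A x)) := h1.map _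
    exact h2.eq_zero
  · intro x hx
    have hx' : IsNilpotent x := (hmem x).1 hx
    have : IsNilpotent (HopfAlgebra.antipodeAlgHom k A x) := hx'.map _
    exact (hmem _).2 this

end Nil

section Points
variable {k : Type u} [Field k] [IsAlgClosed k] {X : Type v} [CommRing X] [Algebra k X]
  [Algebra.FiniteType k X]

theorem exists_point_of_ne_top (J : Ideal X) (hJ : J ≠ ⊤) :
    ∃ z : X →ₐ[k] k, J ≤ RingHom.ker z := by
  obtain ⟨m, hm, hJm⟩ := Ideal.exists_le_maximal J hJ
  let _ : Field (X ⧸ m) := Ideal.Quotient.field m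
  have : Algebra.FiniteType k (X ⧸ m) :=
    Algebra.FiniteType.of_surjective (Ideal.Quotient.mkₐ k m) (Ideal.Quotient.mkₐ_surjective k m)
  have : Module.Finite k (X ⧸ m) := finite_of_finite_type_of_isJacobsonRing k (X ⧸ m)
  have hbij : Function.Bijective (algebraMap k (X ⧸ m)) :=
    IsAlgClosed.algebraMap_bijective_of_isIntegral
  let e : k ≃ₐ[k] (X ⧸ m) := AlgEquiv.ofBijective (Algebra.ofId k (X ⧸ m)) hbij
  refine ⟨(e.symm : (X ⧸ m) →ₐ[k] k).comp (Ideal.Quotient.mkₐ k m), ?_⟩
  intro x hx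
  rw [RingHom.mem_ker]
  have h1 : Ideal.Quotient.mkₐ k m x = 0 := by
    rw [Ideal.Quotient.mkₐ_eq_mk, Ideal.Quotient.eq_zero_iff_mem]
    exact hJm hx
  rw [AlgHom.comp_apply, h1, map_zero]

theorem isNilpotent_of_forall_point (a : X) (h : ∀ g : X →ₐ[k] k, g a = 0) : IsNilpotent a := by
  have hJ : IsJacobsonRing X := isJacobsonRing_of_finiteType (A := k)
  have hjac : (nilradical X).jacobson = nilradical X := hJ.out (Ideal.radical_isRadical ⊥)
  rw [← mem_nilradical, ← hjac, Ideal.jacobson, Ideal.mem_sInf]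
  rintro m ⟨_, hm⟩
  obtain ⟨z, hz⟩ := exists_point_of_ne_top (k := k) m hm.ne_top
  have hmz : m = RingHom.ker z := hm.eq_of_le (RingHom.ker_ne_top _) hz
  rw [hmz, RingHom.mem_ker]
  exact h z

end Points

section Idem

lemma eq_zero_of_idem_nilp {R : Type*} [Ring R] {e : R} (he : IsIdempotentElem e)
    (hn : IsNilpotent e) : e = 0 := by
  obtain ⟨n, hn⟩ := hn
  cases n with
  | zero =>
    rw [pow_zero] at hn
    rw [← mul_one e, hn, mul_zero]
  | succ n =>
    rw [he.pow_succ_eq] at hn
    exact hn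

lemma nilp_or_nilp {X : Type*} [CommRing X] (hX : ∀ e : X, IsIdempotentElem e → e = 0 ∨ e = 1)
    (u : X) (hu : IsNilpotent (u * u - u)) : IsNilpotent u ∨ IsNilpotent (1 - u) := by
  let f := Ideal.Quotient.mk (nilradical X)
  have hker : ∀ x ∈ RingHom.ker f, IsNilpotent x := by
    intro x hx
    rw [Ideal.mk_ker] at hx
    exact mem_nilradical.mp hx
  have hid : IsIdempotentElem (f u) := by
    change f u * f u = f u
    rw [← map_mul, ← sub_eq_zero, ← map_sub, Ideal.Quotient.eq_zero_iff_mem]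
    exact mem_nilradical.mpr hu
  obtain ⟨e', he', hfe⟩ := exists_isIdempotentElem_eq_of_ker_isNilpotent f hker (f u) ⟨u, rfl⟩ hid
  have hd : IsNilpotent (e' - u) := by
    apply hker
    rw [RingHom.mem_ker, map_sub, hfe, sub_self]
  rcases hX e' he' with h | h
  · left
    rw [h, zero_sub] at hd
    exact isNilpotent_neg_iff.mp hd
  · right
    rw [h] at hd
    exact hd

end Idem

section Prod
variable {k : Type u} [Field k] [IsAlgClosed k] {X : Type v} {Y : Type w} [CommRing X] [CommRing Y]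
  [Algebra k X] [Algebra k Y] [Algebra.FiniteType k X]

/-- evaluate the left factor at a point -/
noncomputable def sl (x : X →ₐ[k] k) : X ⊗[k] Y →ₐ[k] Y :=
  Algebra.TensorProduct.lift ((Algebra.ofId k Y).comp x) (AlgHom.id k Y)
    (fun _ _ => Commute.all _ _)

lemma sl_tmul (x : X →ₐ[k] k) (a : X) (y : Y) : sl x (a ⊗ₜ[k] y) = x a • y := by
  simp [sl, Algebra.smul_def]

theorem idem_tensor_trivial [Nontrivial Y] (hX : ∀ e : X, IsIdempotentElem e → e = 0 ∨ e = 1)
    (hY : ∀ e : Y, IsIdempotentElem e → e = 0 ∨ e = 1) (e : X ⊗[k] Y)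
    (he : IsIdempotentElem e) : e = 0 ∨ e = 1 := by
  classical
  let b := Module.Free.chooseBasis k Y
  obtain ⟨c, hc⟩ := TensorProduct.eq_repr_basis_right (M := X) b e
  set d := b.repr (1 : Y) with hd
  have hsl : ∀ x : X →ₐ[k] k, b.repr (sl x e) = c.mapRange x (map_zero x) := by
    intro x
    rw [← hc, map_finsuppSum]
    simp only [sl_tmul]
    have : (c.sum fun i m => x m • b i) =
        Finsupp.linearCombination k b (c.mapRange x (map_zero x)) := by
      rw [Finsupp.linearCombination_apply,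
        Finsupp.sum_mapRange_index (fun i => zero_smul k (b i))]
    rw [this, b.repr_linearCombination]
  have hd0 : d ≠ 0 := by
    intro h
    have h1 : (1 : Y) = 0 := b.repr.injective (by rw [map_zero]; exact h)
    exact one_ne_zero h1
  obtain ⟨i₀, hi₀⟩ := Finsupp.support_nonempty_iff.mpr hd0
  have hdi : d i₀ ≠ 0 := Finsupp.mem_support_iff.mp hi₀
  set u : X := (d i₀)⁻¹ • c i₀ with hu
  have hpt : ∀ x : X →ₐ[k] k, (∀ i, x (c i) = 0) ∨ (∀ i, x (c i) = d i) := by
    intro x
    rcases hY (sl x e) (he.map (sl x)) with h | h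
    · left
      intro i
      have := DFunLike.congr_fun (hsl x) i
      rw [h, map_zero, Finsupp.zero_apply, Finsupp.mapRange_apply] at this
      exact this.symm
    · right
      intro i
      have := DFunLike.congr_fun (hsl x) i
      rw [h, Finsupp.mapRange_apply] at this
      exact this.symm
  have hxu : ∀ x : X →ₐ[k] k, (x u = 0 ∨ x u = 1) ∧ ∀ i, x (c i) = d i * x u := by
    intro x
    have hxu' : x u = (d i₀)⁻¹ * x (c i₀) := by rw [hu, map_smul, smul_eq_mul]
    rcases hpt x with h | h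
    · refine ⟨Or.inl (by rw [hxu', h, mul_zero]), fun i => ?_⟩
      rw [h i, hxu', h i₀, mul_zero, mul_zero]
    · have h1 : x u = 1 := by rw [hxu', h i₀, inv_mul_cancel₀ hdi]
      exact ⟨Or.inr h1, fun i => by rw [h i, h1, mul_one]⟩
  have hu2 : IsNilpotent (u * u - u) := by
    apply isNilpotent_of_forall_point (k := k)
    intro x
    rw [map_sub, map_mul]
    rcases (hxu x).1 with h | h <;> rw [h] <;> ring
  have hci : ∀ i, IsNilpotent (c i - d i • u) := by
    intro i
    apply isNilpotent_of_forall_point (k := k)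
    intro x
    rw [map_sub, map_smul, smul_eq_mul, (hxu x).2 i, sub_self]
  set s := c.support ∪ d.support with hs
  have he_sum : e = ∑ i ∈ s, c i ⊗ₜ[k] b i := by
    rw [← hc]
    exact Finsupp.sum_of_support_subset c Finset.subset_union_left _
      (fun i _ => TensorProduct.zero_tmul _ _)
  have h1_sum : (1 : Y) = ∑ i ∈ s, d i • b i := by
    have := b.linearCombination_repr (1 : Y)
    rw [Finsupp.linearCombination_apply] at this
    rw [← this]
    exact Finsupp.sum_of_support_subset d Finset.subset_union_right _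
      (fun i _ => zero_smul _ _)
  have hu1 : u ⊗ₜ[k] (1 : Y) = ∑ i ∈ s, (d i • u) ⊗ₜ[k] b i := by
    conv_lhs => rw [h1_sum]
    rw [TensorProduct.tmul_sum]
    apply Finset.sum_congr rfl
    intro i _
    rw [TensorProduct.tmul_smul, TensorProduct.smul_tmul']
  have hdiff : e - u ⊗ₜ[k] (1 : Y) = ∑ i ∈ s, (c i - d i • u) ⊗ₜ[k] b i := by
    rw [hu1]
    conv_lhs => rw [he_sum]
    rw [← Finset.sum_sub_distrib]
    apply Finset.sum_congr rfl
    intro i _
    rw [TensorProduct.sub_tmul]
  have hnil : IsNilpotent (e - u ⊗ₜ[k] (1 : Y)) := by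
    rw [hdiff, ← mem_nilradical]
    apply Ideal.sum_mem
    intro i _
    rw [mem_nilradical]
    obtain ⟨n, hn⟩ := hci i
    exact ⟨n, by rw [Algebra.TensorProduct.tmul_pow, hn, TensorProduct.zero_tmul]⟩
  have hten : ∀ v : X, IsNilpotent v → IsNilpotent (v ⊗ₜ[k] (1 : Y)) := by
    intro v hv
    obtain ⟨n, hn⟩ := hv
    exact ⟨n, by rw [Algebra.TensorProduct.tmul_pow, hn, TensorProduct.zero_tmul]⟩
  rcases nilp_or_nilp hX u hu2 with h | h
  · left
    apply eq_zero_of_idem_nilp he
    have hsum : IsNilpotent ((e - u ⊗ₜ[k] (1 : Y)) + u ⊗ₜ[k] (1 : Y)) :=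
      Commute.isNilpotent_add (Commute.all _ _) hnil (hten u h)
    rwa [sub_add_cancel] at hsum
  · right
    have h1e : IsNilpotent ((1 - u) ⊗ₜ[k] (1 : Y) - (e - u ⊗ₜ[k] (1 : Y))) :=
      Commute.isNilpotent_sub (Commute.all _ _) (hten _ h) hnil
    have heq : (1 - u) ⊗ₜ[k] (1 : Y) - (e - u ⊗ₜ[k] (1 : Y)) = 1 - e := by
      rw [TensorProduct.sub_tmul, ← Algebra.TensorProduct.one_def]
      abel
    rw [heq] at h1e
    have := eq_zero_of_idem_nilp he.one_sub h1e
    exact (sub_eq_zero.mp this).symm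

end Prod

section Unit
variable {k : Type u} [Field k] {C : Type v} [CommRing C] [HopfAlgebra k C]

theorem antipode_antipode (a : C) : HopfAlgebra.antipode k (HopfAlgebra.antipode k a) = a := by
  have h := inv_inv (WithConv.toConv (AlgHom.id k C))
  have h' := congrArg WithConv.ofConv h
  exact DFunLike.congr_fun h' a

theorem exists_min_idem [IsNoetherianRing C] :
    ∃ e₀ : C, IsIdempotentElem e₀ ∧ Coalgebra.counit (R := k) e₀ = 1 ∧
      ∀ e : C, IsIdempotentElem e → Coalgebra.counit (R := k) e = 1 → e₀ * e = e₀ := by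
  let S : Set (Ideal C) := {I | ∃ e : C, IsIdempotentElem e ∧ Coalgebra.counit (R := k) e = 1 ∧
    I = Ideal.span {1 - e}}
  have hne : S.Nonempty :=
    ⟨Ideal.span {1 - 1}, 1, IsIdempotentElem.one, Bialgebra.counit_one, rfl⟩
  obtain ⟨I₀, ⟨e₀, he₀, hε₀, rfl⟩, hmax⟩ :=
    set_has_maximal_iff_noetherian.mpr (inferInstance : IsNoetherian C C) S hne
  refine ⟨e₀, he₀, hε₀, ?_⟩
  intro e he hε
  have hid : IsIdempotentElem (e₀ * e) := he₀.mul he
  have hε' : Coalgebra.counit (R := k) (e₀ * e) = 1 := by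
    rw [Bialgebra.counit_mul, hε₀, hε, mul_one]
  have hle : Ideal.span {1 - e₀} ≤ Ideal.span {1 - e₀ * e} := by
    rw [Ideal.span_singleton_le_span_singleton]
    refine ⟨1 - e₀, ?_⟩
    have h0 := he₀.eq
    linear_combination (-e) * h0
  have heq : Ideal.span {1 - e₀} = Ideal.span {1 - e₀ * e} :=
    eq_of_le_of_not_lt hle (hmax _ ⟨e₀ * e, hid, hε', rfl⟩)
  have hmem : 1 - e₀ * e ∈ Ideal.span {1 - e₀} := by
    rw [heq]
    exact Ideal.subset_span rfl
  obtain ⟨t, ht⟩ := Ideal.mem_span_singleton'.mp hmem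
  have h0 := he₀.eq
  linear_combination e₀ * ht + (t - e) * h0

theorem idem_le_min {e₀ : C} (he₀ : IsIdempotentElem e₀)
    (hε₀ : Coalgebra.counit (R := k) e₀ = 1)
    (hmin : ∀ e : C, IsIdempotentElem e → Coalgebra.counit (R := k) e = 1 → e₀ * e = e₀)
    {e' : C} (he' : IsIdempotentElem e') (hle : e' * e₀ = e') : e' = 0 ∨ e' = e₀ := by
  have hk : IsIdempotentElem (Coalgebra.counit (R := k) e') := by
    change Coalgebra.counit (R := k) e' * Coalgebra.counit (R := k) e' = Coalgebra.counit (R := k) e'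
    rw [← Bialgebra.counit_mul, he'.eq]
  have h0 := he₀.eq
  have h0' := he'.eq
  rcases IsIdempotentElem.iff_eq_zero_or_one.mp hk with h | h
  · left
    have hid : IsIdempotentElem (e₀ - e') := by
      change (e₀ - e') * (e₀ - e') = e₀ - e'
      linear_combination h0 + h0' - 2 * hle
    have hεd : Coalgebra.counit (R := k) (e₀ - e') = 1 := by
      rw [map_sub, hε₀, h, sub_zero]
    have hm := hmin (e₀ - e') hid hεd
    linear_combination (-1 : C) * hle + h0 - hm
  · right
    have hm := hmin e' he' h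
    linear_combination (-1 : C) * hle + hm

theorem quot_idem_trivial {e₀ : C} (he₀ : IsIdempotentElem e₀)
    (hε₀ : Coalgebra.counit (R := k) e₀ = 1)
    (hmin : ∀ e : C, IsIdempotentElem e → Coalgebra.counit (R := k) e = 1 → e₀ * e = e₀)
    (ē : C ⧸ Ideal.span {1 - e₀}) (hē : IsIdempotentElem ē) : ē = 0 ∨ ē = 1 := by
  obtain ⟨c, rfl⟩ := Ideal.Quotient.mk_surjective ē
  have hmk : Ideal.Quotient.mk (Ideal.span {1 - e₀}) e₀ = 1 := by
    have h : Ideal.Quotient.mk (Ideal.span {1 - e₀}) e₀ =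
        Ideal.Quotient.mk (Ideal.span {1 - e₀}) 1 := by
      rw [Ideal.Quotient.eq]
      have h' : e₀ - 1 = -(1 - e₀) := by ring
      rw [h']
      exact (Ideal.span {1 - e₀}).neg_mem (Ideal.subset_span rfl)
    rw [h, map_one]
  have hcc : c * c - c ∈ Ideal.span {1 - e₀} := by
    rw [← Ideal.Quotient.eq, map_mul]
    exact hē.eq
  obtain ⟨t, ht⟩ := Ideal.mem_span_singleton'.mp hcc
  have h0 := he₀.eq
  have he' : IsIdempotentElem (c * e₀) := by
    change (c * e₀) * (c * e₀) = c * e₀
    linear_combination (c * c - t) * h0 - e₀ * ht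
  have hle' : (c * e₀) * e₀ = c * e₀ := by
    linear_combination c * h0
  have hce : Ideal.Quotient.mk (Ideal.span {1 - e₀}) c =
      Ideal.Quotient.mk (Ideal.span {1 - e₀}) (c * e₀) := by
    rw [map_mul, hmk, mul_one]
  rcases idem_le_min he₀ hε₀ hmin he' hle' with h | h
  · left
    rw [hce, h, map_zero]
  · right
    rw [hce, h, hmk]

theorem unitComp_isHopfIdeal [IsAlgClosed k] [Algebra.FiniteType k C] {e₀ : C}
    (he₀ : IsIdempotentElem e₀) (hε₀ : Coalgebra.counit (R := k) e₀ = 1)
    (hmin : ∀ e : C, IsIdempotentElem e → Coalgebra.counit (R := k) e = 1 → e₀ * e = e₀) :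
    (Ideal.span {1 - e₀} : Ideal C).IsHopfIdeal k := by
  set I₀ : Ideal C := Ideal.span {1 - e₀} with hI₀
  let q : C →ₐ[k] C ⧸ I₀ := Ideal.Quotient.mkₐ k I₀
  have hcz : ∀ x ∈ I₀, Bialgebra.counitAlgHom k C x = 0 := by
    intro x hx
    obtain ⟨t, rfl⟩ := Ideal.mem_span_singleton'.mp hx
    change Coalgebra.counit (R := k) (t * (1 - e₀)) = 0
    rw [Bialgebra.counit_mul, map_sub, Bialgebra.counit_one, hε₀, sub_self, mul_zero]
  let ε₀ : C ⧸ I₀ →ₐ[k] k := Ideal.Quotient.liftₐ I₀ (Bialgebra.counitAlgHom k C) hcz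
  haveI : Nontrivial (C ⧸ I₀) := ⟨⟨0, 1, fun h => by
    have := congrArg ε₀ h
    rw [map_zero, map_one] at this
    exact zero_ne_one this⟩⟩
  haveI : Algebra.FiniteType k (C ⧸ I₀) :=
    Algebra.FiniteType.of_surjective q (Ideal.Quotient.mkₐ_surjective k I₀)
  have hqq : Algebra.TensorProduct.map q q (Coalgebra.comul (R := k) e₀) = 1 := by
    have hid0 : IsIdempotentElem (Coalgebra.comul (R := k) e₀) := by
      change Coalgebra.comul (R := k) e₀ * Coalgebra.comul (R := k) e₀ = Coalgebra.comul (R := k) e₀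
      rw [← Bialgebra.comul_mul, he₀.eq]
    have hid : IsIdempotentElem (Algebra.TensorProduct.map q q (Coalgebra.comul (R := k) e₀)) :=
      hid0.map _
    rcases idem_tensor_trivial (k := k) (quot_idem_trivial he₀ hε₀ hmin)
      (quot_idem_trivial he₀ hε₀ hmin) _ hid with h | h
    · exfalso
      let m : (C ⧸ I₀) ⊗[k] (C ⧸ I₀) →ₐ[k] k :=
        Algebra.TensorProduct.lift ε₀ ε₀ (fun _ _ => Commute.all _ _)
      have hm : ∀ z : C ⊗[k] C, m (Algebra.TensorProduct.map q q z) =
          Coalgebra.counit (R := k)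
            (TensorProduct.rid k C ((Coalgebra.counit (R := k)).lTensor C z)) := by
        intro z
        induction z using TensorProduct.induction_on with
        | zero => simp
        | tmul a b =>
          simp only [Algebra.TensorProduct.map_tmul, m, Algebra.TensorProduct.lift_tmul,
            LinearMap.lTensor_tmul, TensorProduct.rid_tmul, map_smul, smul_eq_mul]
          change Coalgebra.counit (R := k) a * Coalgebra.counit (R := k) b = _
          rw [mul_comm]
        | add x y hx hy => simp only [map_add, hx, hy]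
      have h1 := hm (Coalgebra.comul (R := k) e₀)
      have h2 := LinearMap.congr_fun (Coalgebra.lTensor_counit_comp_comul (R := k) (A := C)) e₀
      rw [LinearMap.comp_apply] at h2
      rw [h2, h, map_zero] at h1
      simp only [LinearMap.flip_apply, TensorProduct.mk_apply, TensorProduct.rid_tmul,
        one_smul] at h1
      rw [hε₀] at h1
      exact zero_ne_one h1
    · exact h
  have hS : HopfAlgebra.antipode k e₀ = e₀ := by
    have hidS : IsIdempotentElem (HopfAlgebra.antipode k e₀) := by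
      change HopfAlgebra.antipode k e₀ * HopfAlgebra.antipode k e₀ = HopfAlgebra.antipode k e₀
      rw [← HopfAlgebra.antipode_mul_distrib, he₀.eq]
    have hεS : Coalgebra.counit (R := k) (HopfAlgebra.antipode k e₀) = 1 := by
      rw [HopfAlgebra.counit_antipode, hε₀]
    have h1 := hmin _ hidS hεS
    have h2 := congrArg (HopfAlgebra.antipode k) h1
    rw [HopfAlgebra.antipode_mul_distrib, antipode_antipode] at h2
    calc HopfAlgebra.antipode k e₀ = HopfAlgebra.antipode k e₀ * e₀ := h2.symm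
      _ = e₀ * HopfAlgebra.antipode k e₀ := mul_comm _ _
      _ = e₀ := h1
  refine { counit_eq_zero := ?_, map_mkQ_comul_eq_zero := ?_, antipode_mem := ?_ }
  · intro x hx
    exact hcz x hx
  · intro x hx
    have hx' : x ∈ I₀ := hx
    obtain ⟨t, rfl⟩ := Ideal.mem_span_singleton'.mp hx'
    have key : Algebra.TensorProduct.map q q (Coalgebra.comul (R := k) (t * (1 - e₀))) = 0 := by
      rw [Bialgebra.comul_mul, map_mul, map_sub, Bialgebra.comul_one, map_sub, map_one, hqq,
        sub_self, mul_zero]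
    exact key
  · intro x hx
    obtain ⟨t, rfl⟩ := Ideal.mem_span_singleton'.mp hx
    rw [HopfAlgebra.antipode_mul_distrib, map_sub, HopfAlgebra.antipode_one, hS]
    exact Ideal.mul_mem_left _ _ (Ideal.subset_span rfl)

end Unit

section Main

theorem main (k : Type u) [Field k] [IsAlgClosed k] (A : Type v) [CommRing A]
    [HopfAlgebra k A] [Algebra.FiniteType k A] (B : Type w) [CommRing B] [Algebra k B]
    (φ : A →ₐ[k] B) (o : B →ₐ[k] k) (ho : o.comp φ = Bialgebra.counitAlgHom k A)
    (J : Ideal A) [J.IsHopfIdeal k] (hJ : J ≤ RingHom.ker φ)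
    (hmax : ∀ (J' : Ideal A) [J'.IsHopfIdeal k], J' ≤ RingHom.ker φ → J' ≤ J) :
    (IsReduced B → IsReduced (A ⧸ J)) ∧
    ((∀ e : B, IsIdempotentElem e → e = 0 ∨ e = 1) →
      ∀ e : A ⧸ J, IsIdempotentElem e → e = 0 ∨ e = 1) := by
  haveI : Algebra.FiniteType k (A ⧸ J) :=
    Algebra.FiniteType.of_surjective (Ideal.Quotient.mkₐ k J) (Ideal.Quotient.mkₐ_surjective k J)
  haveI : IsNoetherianRing (A ⧸ J) := Algebra.FiniteType.isNoetherianRing k (A ⧸ J)
  constructor
  · intro hB
    haveI : (nilradical (A ⧸ J)).IsHopfIdeal k := nilradical_isHopfIdeal k (A ⧸ J)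
    let ψ : A →ₐc[k] (A ⧸ J) ⧸ nilradical (A ⧸ J) :=
      (Bialgebra.Quotient.mkBialgHom (nilradical (A ⧸ J))).comp (Bialgebra.Quotient.mkBialgHom J)
    haveI hK : (RingHom.ker (ψ : A →+* (A ⧸ J) ⧸ nilradical (A ⧸ J))).IsHopfIdeal k :=
      isHopfIdeal_ker ψ
    have hψ : ∀ a : A, ψ a = 0 ↔ IsNilpotent (Ideal.Quotient.mk J a) := by
      intro a
      change Ideal.Quotient.mk (nilradical (A ⧸ J)) (Ideal.Quotient.mk J a) = 0 ↔ _
      rw [Ideal.Quotient.eq_zero_iff_mem, mem_nilradical]
    have hle : RingHom.ker (ψ : A →+* (A ⧸ J) ⧸ nilradical (A ⧸ J)) ≤ RingHom.ker φ := by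
      intro a ha
      have ha' : ψ a = 0 := ha
      obtain ⟨n, hn⟩ := (hψ a).mp ha'
      rw [← map_pow, Ideal.Quotient.eq_zero_iff_mem] at hn
      have h1 : φ (a ^ n) = 0 := hJ hn
      rw [map_pow] at h1
      rw [RingHom.mem_ker]
      exact IsNilpotent.eq_zero ⟨n, h1⟩
    have hKJ := hmax _ hle
    refine ⟨fun x hx => ?_⟩
    obtain ⟨a, rfl⟩ := Ideal.Quotient.mk_surjective x
    rw [Ideal.Quotient.eq_zero_iff_mem]
    apply hKJ
    exact (hψ a).mpr hx
  · intro hB
    obtain ⟨e₀, he₀, hε₀, hmin⟩ := exists_min_idem (k := k) (C := A ⧸ J)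
    haveI hI₀ : (Ideal.span {1 - e₀} : Ideal (A ⧸ J)).IsHopfIdeal k :=
      unitComp_isHopfIdeal he₀ hε₀ hmin
    let ψ : A →ₐc[k] (A ⧸ J) ⧸ (Ideal.span {1 - e₀} : Ideal (A ⧸ J)) :=
      (Bialgebra.Quotient.mkBialgHom (Ideal.span {1 - e₀} : Ideal (A ⧸ J))).comp
        (Bialgebra.Quotient.mkBialgHom J)
    haveI hK : (RingHom.ker (ψ : A →+* (A ⧸ J) ⧸ (Ideal.span {1 - e₀} : Ideal (A ⧸ J)))).IsHopfIdeal k :=
      isHopfIdeal_ker ψ
    have hψ : ∀ a : A, ψ a = 0 ↔ Ideal.Quotient.mk J a ∈ (Ideal.span {1 - e₀} : Ideal (A ⧸ J)) := by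
      intro a
      change Ideal.Quotient.mk (Ideal.span {1 - e₀} : Ideal (A ⧸ J)) (Ideal.Quotient.mk J a) = 0 ↔ _
      rw [Ideal.Quotient.eq_zero_iff_mem]
    let φ' : A ⧸ J →ₐ[k] B := Ideal.Quotient.liftₐ J φ (fun a ha => hJ ha)
    have hφ' : ∀ a : A, φ' (Ideal.Quotient.mk J a) = φ a := fun a => rfl
    have hoφ : ∀ c : A ⧸ J, o (φ' c) = Coalgebra.counit (R := k) c := by
      intro c
      obtain ⟨a, rfl⟩ := Ideal.Quotient.mk_surjective c
      rw [hφ']
      exact AlgHom.congr_fun ho a
    have hφe : φ' e₀ = 1 := by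
      rcases hB (φ' e₀) (he₀.map φ') with h | h
      · exfalso
        have := hoφ e₀
        rw [h, map_zero, hε₀] at this
        exact zero_ne_one this
      · exact h
    have hle : RingHom.ker (ψ : A →+* (A ⧸ J) ⧸ (Ideal.span {1 - e₀} : Ideal (A ⧸ J))) ≤
        RingHom.ker φ := by
      intro a ha
      have ha' : ψ a = 0 := ha
      obtain ⟨t, ht⟩ := Ideal.mem_span_singleton'.mp ((hψ a).mp ha')
      rw [RingHom.mem_ker, ← hφ', ← ht, map_mul, map_sub, map_one, hφe, sub_self, mul_zero]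
    have hKJ := hmax _ hle
    have he1 : e₀ = 1 := by
      obtain ⟨a, ha⟩ := Ideal.Quotient.mk_surjective (1 - e₀)
      have haK : a ∈ RingHom.ker (ψ : A →+* (A ⧸ J) ⧸ (Ideal.span {1 - e₀} : Ideal (A ⧸ J))) := by
        change ψ a = 0
        rw [hψ, ha]
        exact Ideal.subset_span rfl
      have := hKJ haK
      rw [← Ideal.Quotient.eq_zero_iff_mem, ha, sub_eq_zero] at this
      exact this.symm
    intro e he
    have := idem_le_min he₀ hε₀ hmin he (by rw [he1, mul_one])
    rw [he1] at this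
    exact this

end Main

end Groth.Agent.Lib.Helper4.GenSubgrp1
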