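import Mathlib
import Groth.Agent.Lib.Helper2.FF.HopfFGU
import Groth.Agent.Lib.Helper2.Hopf.KernelTorsor
import Groth.Agent.Lib.Helper2.Hopf.BialgTransport

/-!
# Normal Hopf ideals are kernels, part 1: the reduced case (semi-invariants, Plücker minors and Cramer) (helper4)
-/

set_option backward.isDefEq.respectTransparency.types false
set_option synthInstance.maxHeartbeats 400000
set_option autoImplicit false
set_option linter.unusedSectionVars false
set_option linter.style.haveILetI false
set_option linter.unusedSimpArgs false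
universe u v w
open TensorProduct
open Groth.Agent.Helper2.HopfFGU
open Groth.Agent.Helper2.HopfLib

namespace Groth.Agent.Lib.Helper4.NormKer1

noncomputable section

variable {k : Type u} [Field k] {A : Type u} [CommRing A] [HopfAlgebra k A]

/-! ### contractions and the comultiplication -/

lemma comul_Lc (ψ : A →ₗ[k] k) (a : A) :
    Coalgebra.comul (R := k) (Lc ψ a) = (Lc ψ).rTensor A (Coalgebra.comul (R := k) a) := by
  have hF : ∀ t : A ⊗[k] A, Coalgebra.comul (R := k) (TensorProduct.lid k A (ψ.rTensor A t)) =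
      TensorProduct.lid k (A ⊗[k] A)
        (ψ.rTensor (A ⊗[k] A) ((Coalgebra.comul (R := k) (A := A)).lTensor A t)) := by
    intro t
    induction t using TensorProduct.induction_on with
    | zero => simp
    | tmul p q =>
      simp only [LinearMap.rTensor_tmul, LinearMap.lTensor_tmul, TensorProduct.lid_tmul, map_smul]
    | add s t hs ht => simp only [map_add, hs, ht]
  have hG : ∀ (s : A ⊗[k] A) (q : A), (TensorProduct.lid k A (ψ.rTensor A s)) ⊗ₜ[k] q =
      TensorProduct.lid k (A ⊗[k] A)
        (ψ.rTensor (A ⊗[k] A) (TensorProduct.assoc k A A A (s ⊗ₜ[k] q))) := by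
    intro s q
    induction s using TensorProduct.induction_on with
    | zero => simp
    | tmul p p' =>
      simp only [LinearMap.rTensor_tmul, TensorProduct.lid_tmul, TensorProduct.assoc_tmul,
        TensorProduct.smul_tmul']
    | add s t hs ht => simp only [map_add, TensorProduct.add_tmul, hs, ht]
  have hH : ∀ t : A ⊗[k] A, (Lc ψ).rTensor A t =
      TensorProduct.lid k (A ⊗[k] A) (ψ.rTensor (A ⊗[k] A)
        (TensorProduct.assoc k A A A ((Coalgebra.comul (R := k) (A := A)).rTensor A t))) := by
    intro t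
    induction t using TensorProduct.induction_on with
    | zero => simp
    | tmul p q =>
      rw [LinearMap.rTensor_tmul, LinearMap.rTensor_tmul]
      exact hG (Coalgebra.comul (R := k) p) q
    | add s t hs ht => simp only [map_add, hs, ht]
  have e : Lc ψ a = TensorProduct.lid k A (ψ.rTensor A (Coalgebra.comul (R := k) a)) := rfl
  rw [e, hF, hH, Coalgebra.coassoc_apply]

lemma comul_Rc (φ : A →ₗ[k] k) (a : A) :
    Coalgebra.comul (R := k) (Rc φ a) = (Rc φ).lTensor A (Coalgebra.comul (R := k) a) := by
  have hF : ∀ t : A ⊗[k] A, Coalgebra.comul (R := k) (TensorProduct.rid k A (φ.lTensor A t)) =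
      TensorProduct.rid k (A ⊗[k] A)
        (φ.lTensor (A ⊗[k] A) ((Coalgebra.comul (R := k) (A := A)).rTensor A t)) := by
    intro t
    induction t using TensorProduct.induction_on with
    | zero => simp
    | tmul p q =>
      simp only [LinearMap.rTensor_tmul, LinearMap.lTensor_tmul, TensorProduct.rid_tmul, map_smul]
    | add s t hs ht => simp only [map_add, hs, ht]
  have hG : ∀ (p : A) (s : A ⊗[k] A), p ⊗ₜ[k] (TensorProduct.rid k A (φ.lTensor A s)) =
      TensorProduct.rid k (A ⊗[k] A)
        (φ.lTensor (A ⊗[k] A) ((TensorProduct.assoc k A A A).symm (p ⊗ₜ[k] s))) := by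
    intro p s
    induction s using TensorProduct.induction_on with
    | zero => simp
    | tmul q q' =>
      simp only [LinearMap.lTensor_tmul, TensorProduct.rid_tmul, TensorProduct.assoc_symm_tmul,
        TensorProduct.tmul_smul]
    | add s t hs ht => simp only [map_add, TensorProduct.tmul_add, hs, ht]
  have hH : ∀ t : A ⊗[k] A, (Rc φ).lTensor A t =
      TensorProduct.rid k (A ⊗[k] A) (φ.lTensor (A ⊗[k] A)
        ((TensorProduct.assoc k A A A).symm ((Coalgebra.comul (R := k) (A := A)).lTensor A t))) := by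
    intro t
    induction t using TensorProduct.induction_on with
    | zero => simp
    | tmul p q =>
      rw [LinearMap.lTensor_tmul, LinearMap.lTensor_tmul]
      exact hG p (Coalgebra.comul (R := k) q)
    | add s t hs ht => simp only [map_add, hs, ht]
  have e : Rc φ a = TensorProduct.rid k A (φ.lTensor A (Coalgebra.comul (R := k) a)) := rfl
  rw [e, hF, hH, ← Coalgebra.coassoc_apply, LinearEquiv.symm_apply_apply]

lemma counit_Lc (ψ : A →ₗ[k] k) (a : A) : Coalgebra.counit (R := k) (Lc ψ a) = ψ a := by
  have h : ∀ t : A ⊗[k] A, Coalgebra.counit (R := k) (TensorProduct.lid k A (ψ.rTensor A t)) =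
      ψ (TensorProduct.rid k A ((Coalgebra.counit (R := k) (A := A)).lTensor A t)) := by
    intro t
    induction t using TensorProduct.induction_on with
    | zero => simp
    | tmul p q =>
      simp only [LinearMap.rTensor_tmul, LinearMap.lTensor_tmul, TensorProduct.lid_tmul,
        TensorProduct.rid_tmul, map_smul, smul_eq_mul, mul_comm]
    | add s t hs ht => simp only [map_add, hs, ht]
  have e : Lc ψ a = TensorProduct.lid k A (ψ.rTensor A (Coalgebra.comul (R := k) a)) := rfl
  rw [e, h, Coalgebra.lTensor_counit_comul, TensorProduct.rid_tmul, one_smul]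

lemma counit_Rc (φ : A →ₗ[k] k) (a : A) : Coalgebra.counit (R := k) (Rc φ a) = φ a := by
  have h : ∀ t : A ⊗[k] A, Coalgebra.counit (R := k) (TensorProduct.rid k A (φ.lTensor A t)) =
      φ (TensorProduct.lid k A ((Coalgebra.counit (R := k) (A := A)).rTensor A t)) := by
    intro t
    induction t using TensorProduct.induction_on with
    | zero => simp
    | tmul p q =>
      simp only [LinearMap.rTensor_tmul, LinearMap.lTensor_tmul, TensorProduct.lid_tmul,
        TensorProduct.rid_tmul, map_smul, smul_eq_mul, mul_comm]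
    | add s t hs ht => simp only [map_add, hs, ht]
  have e : Rc φ a = TensorProduct.rid k A (φ.lTensor A (Coalgebra.comul (R := k) a)) := rfl
  rw [e, h, Coalgebra.rTensor_counit_comul, TensorProduct.lid_tmul, one_smul]

lemma rid_lTensor_smul (φ : A →ₗ[k] k) (a : A) (t : A ⊗[k] A) :
    TensorProduct.rid k A (φ.lTensor A (a • t)) = a * TensorProduct.rid k A (φ.lTensor A t) := by
  induction t using TensorProduct.induction_on with
  | zero => simp
  | tmul p q =>
    rw [TensorProduct.smul_tmul', LinearMap.lTensor_tmul, LinearMap.lTensor_tmul,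
      TensorProduct.rid_tmul, TensorProduct.rid_tmul, smul_eq_mul, mul_smul_comm]
  | add s t hs ht => rw [smul_add, map_add, map_add, hs, ht, map_add, map_add, mul_add]

/-! ### the two coactions of a quotient -/

variable {C : Type u} [CommRing C] [HopfAlgebra k C] (π : A →ₐc[k] C)

/-- right coaction -/
def rho : A →ₐ[k] A ⊗[k] C :=
  (Algebra.TensorProduct.map (AlgHom.id k A) (π : A →ₐ[k] C)).comp (Bialgebra.comulAlgHom k A)

/-- left coaction -/
def lam : A →ₐ[k] C ⊗[k] A :=
  (Algebra.TensorProduct.map (π : A →ₐ[k] C) (AlgHom.id k A)).comp (Bialgebra.comulAlgHom k A)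

lemma rho_apply (a : A) :
    rho π a = (π : A →ₐ[k] C).toLinearMap.lTensor A (Coalgebra.comul (R := k) a) := by
  show Algebra.TensorProduct.map (AlgHom.id k A) (π : A →ₐ[k] C) (Coalgebra.comul (R := k) a) = _
  generalize Coalgebra.comul (R := k) a = t
  induction t using TensorProduct.induction_on with
  | zero => simp
  | tmul p q => rfl
  | add s t hs ht => rw [map_add, map_add, hs, ht]

lemma lam_apply (a : A) :
    lam π a = (π : A →ₐ[k] C).toLinearMap.rTensor A (Coalgebra.comul (R := k) a) := by
  show Algebra.TensorProduct.map (π : A →ₐ[k] C) (AlgHom.id k A) (Coalgebra.comul (R := k) a) = _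
  generalize Coalgebra.comul (R := k) a = t
  induction t using TensorProduct.induction_on with
  | zero => simp
  | tmul p q => rfl
  | add s t hs ht => rw [map_add, map_add, hs, ht]

lemma lam_antipode (a : A) : lam π (HopfAlgebra.antipode k a) =
    TensorProduct.map (HopfAlgebra.antipode k) (HopfAlgebra.antipode k)
      (TensorProduct.comm k A C (rho π a)) := by
  rw [lam_apply, rho_apply, comul_antipode]
  generalize Coalgebra.comul (R := k) a = t
  induction t using TensorProduct.induction_on with
  | zero => simp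
  | tmul p q =>
    simp only [TensorProduct.comm_tmul, TensorProduct.map_tmul, LinearMap.rTensor_tmul,
      LinearMap.lTensor_tmul]
    congr 1
    exact bialgHom_antipode_apply π q
  | add s t hs ht => simp only [map_add, hs, ht]

lemma rho_antipode (a : A) : rho π (HopfAlgebra.antipode k a) =
    TensorProduct.map (HopfAlgebra.antipode k) (HopfAlgebra.antipode k)
      (TensorProduct.comm k C A (lam π a)) := by
  rw [lam_apply, rho_apply, comul_antipode]
  generalize Coalgebra.comul (R := k) a = t
  induction t using TensorProduct.induction_on with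
  | zero => simp
  | tmul p q =>
    simp only [TensorProduct.comm_tmul, TensorProduct.map_tmul, LinearMap.rTensor_tmul,
      LinearMap.lTensor_tmul]
    congr 1
    exact bialgHom_antipode_apply π p
  | add s t hs ht => simp only [map_add, hs, ht]

/-! ### the reduced situation -/

variable (c : C →ₐ[k] C ⊗[k] A)

/-- `a ⊗ x ↦ (1 ⊗ a) * c x` -/
def psi : A ⊗[k] C →ₐ[k] C ⊗[k] A :=
  Algebra.TensorProduct.productMap (Algebra.TensorProduct.includeRight : A →ₐ[k] C ⊗[k] A) c

/-- The data of a *reduced* normal pair: `n g = g (g⁻¹ n g)`, characters are conjugation invariant and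
the only right coinvariants are the scalars. -/
structure Red : Prop where
  key : lam π = (psi c).comp (rho π)
  chi : ∀ χ : C, IsGroupLikeElem k χ → c χ = χ ⊗ₜ[k] (1 : A)
  coinv : ∀ x : A, rho π x = x ⊗ₜ[k] (1 : C) → ∃ r : k, x = algebraMap k A r

variable {π c}

lemma lam_of_rho (h : Red π c) {x : A} {χ : C} (hg : IsGroupLikeElem k χ)
    (hx : rho π x = x ⊗ₜ[k] χ) : lam π x = χ ⊗ₜ[k] x := by
  have h1 : lam π x = psi c (rho π x) := by
    have := congrArg (fun f : A →ₐ[k] C ⊗[k] A => f x) h.key
    simpa only [AlgHom.comp_apply] using this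
  rw [h1, hx]
  show Algebra.TensorProduct.productMap _ c (x ⊗ₜ[k] χ) = _
  rw [Algebra.TensorProduct.productMap_apply_tmul, h.chi χ hg,
    Algebra.TensorProduct.includeRight_apply, Algebra.TensorProduct.tmul_mul_tmul, one_mul, mul_one]

lemma scalar_of_lam (h : Red π c) {y : A} (hy : lam π y = (1 : C) ⊗ₜ[k] y) :
    ∃ r : k, y = algebraMap k A r := by
  have h1 : rho π (HopfAlgebra.antipode k y) = HopfAlgebra.antipode k y ⊗ₜ[k] (1 : C) := by
    rw [rho_antipode, hy, TensorProduct.comm_tmul, TensorProduct.map_tmul, HopfAlgebra.antipode_one]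
  obtain ⟨r, hr⟩ := h.coinv _ h1
  refine ⟨r, ?_⟩
  have h2 := congrArg (HopfAlgebra.antipode k) hr
  rw [antipode_antipode] at h2
  rw [h2, Algebra.algebraMap_eq_smul_one, map_smul, HopfAlgebra.antipode_one]

lemma key_prod (h : Red π c) {x : A} {χ : C} (hg : IsGroupLikeElem k χ)
    (hx : rho π x = x ⊗ₜ[k] χ) (φ : A →ₗ[k] k) :
    HopfAlgebra.antipode k x * Rc φ x =
      algebraMap k A (Coalgebra.counit (R := k) x * φ x) := by
  have hl := lam_of_rho h hg hx
  have h1 : lam π (HopfAlgebra.antipode k x) =
      HopfAlgebra.antipode k χ ⊗ₜ[k] HopfAlgebra.antipode k x := by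
    rw [lam_antipode, hx, TensorProduct.comm_tmul, TensorProduct.map_tmul]
  have h2 : lam π (Rc φ x) = χ ⊗ₜ[k] Rc φ x := by
    rw [lam_apply, comul_Rc]
    have hc : ∀ t : A ⊗[k] A, (π : A →ₐ[k] C).toLinearMap.rTensor A ((Rc φ).lTensor A t) =
        (Rc φ).lTensor C ((π : A →ₐ[k] C).toLinearMap.rTensor A t) := by
      intro t
      induction t using TensorProduct.induction_on with
      | zero => simp
      | tmul p q => rfl
      | add s t hs ht => simp only [map_add, hs, ht]
    rw [hc, ← lam_apply, hl, LinearMap.lTensor_tmul]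
  have h3 : lam π (HopfAlgebra.antipode k x * Rc φ x) =
      (1 : C) ⊗ₜ[k] (HopfAlgebra.antipode k x * Rc φ x) := by
    rw [map_mul, h1, h2, Algebra.TensorProduct.tmul_mul_tmul, hg.antipode_mul_cancel]
  obtain ⟨r, hr⟩ := scalar_of_lam h h3
  have h4 := congrArg (Coalgebra.counit (R := k)) hr
  rw [Bialgebra.counit_mul, HopfAlgebra.counit_antipode, counit_Rc,
    Bialgebra.counit_algebraMap] at h4
  rw [hr, h4]

lemma eq_zero_of_counit (h : Red π c) {x : A} {χ : C} (hg : IsGroupLikeElem k χ)
    (hx : rho π x = x ⊗ₜ[k] χ) (hε : Coalgebra.counit (R := k) x = 0) : x = 0 := by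
  have hs : ∀ φ : A →ₗ[k] k, HopfAlgebra.antipode k x * Rc φ x = 0 := by
    intro φ
    rw [key_prod h hg hx, hε, zero_mul, map_zero]
  have hT : shear k A (HopfAlgebra.antipode k x ⊗ₜ[k] x) = 0 := by
    have e1 : shear k A (HopfAlgebra.antipode k x ⊗ₜ[k] x) =
        HopfAlgebra.antipode k x • Coalgebra.comul (R := k) x := by
      have e0 : HopfAlgebra.antipode k x ⊗ₜ[k] x =
          HopfAlgebra.antipode k x • ((1 : A) ⊗ₜ[k] x) := by
        rw [TensorProduct.smul_tmul', smul_eq_mul, mul_one]
      rw [e0, map_smul, shear_one_tmul]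
    rw [e1]
    have hm := mem_range_left (⊥ : Submodule k A)
      (HopfAlgebra.antipode k x • Coalgebra.comul (R := k) x) (by
        intro φ'
        rw [rid_lTensor_smul, Submodule.mem_bot]
        exact hs φ')
    have hz0 : ∀ z : (⊥ : Submodule k A) ⊗[k] A, z = 0 := by
      intro z
      induction z using TensorProduct.induction_on with
      | zero => rfl
      | tmul w a =>
        have : w = 0 := Subsingleton.elim _ _
        rw [this, TensorProduct.zero_tmul]
      | add s t hs ht => rw [hs, ht, add_zero]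
    obtain ⟨z, hz⟩ := hm
    rw [← hz, hz0 z, map_zero]
  have h0' : HopfAlgebra.antipode k x ⊗ₜ[k] x = 0 := by
    have := congrArg (shear k A).symm hT
    simpa using this
  by_contra hne
  obtain ⟨φ, hφ⟩ : ∃ φ : Module.Dual k A, φ x ≠ 0 := by
    by_contra hall
    push Not at hall
    exact hne ((Module.forall_dual_apply_eq_zero_iff k x).mp hall)
  have h5 := congrArg (fun t => TensorProduct.rid k A (LinearMap.lTensor A φ t)) h0'
  simp only [LinearMap.lTensor_tmul, TensorProduct.rid_tmul, map_zero] at h5
  have h6 : HopfAlgebra.antipode k x = 0 := by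
    rcases smul_eq_zero.mp h5 with h7 | h7
    · exact absurd h7 hφ
    · exact h7
  have h7 := congrArg (HopfAlgebra.antipode k) h6
  rw [antipode_antipode, map_zero] at h7
  exact hne h7

lemma antipode_mul_self (h : Red π c) {x : A} {χ : C} (hg : IsGroupLikeElem k χ)
    (hx : rho π x = x ⊗ₜ[k] χ) (hε : Coalgebra.counit (R := k) x = 1) :
    HopfAlgebra.antipode k x * x = 1 := by
  have := key_prod h hg hx (Coalgebra.counit (R := k))
  rwa [Rc_counit, hε, one_mul, map_one] at this

/-! ### the matrix argument -/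

section MAT

variable {ι κ : Type} [Fintype ι] [DecidableEq ι] [Fintype κ] [DecidableEq κ]

variable (π) in
/-- a finite-dimensional right coideal with an adapted basis, in matrix form -/
structure MatData (v : ι ⊕ κ → A) (M : Matrix (ι ⊕ κ) (ι ⊕ κ) A) : Prop where
  h1 : ∀ q, Coalgebra.comul (R := k) (v q) = ∑ p, v p ⊗ₜ[k] M p q
  h2 : ∀ p q, Coalgebra.comul (R := k) (M p q) = ∑ r, M p r ⊗ₜ[k] M r q
  h3 : ∀ p q, Coalgebra.counit (R := k) (M p q) = if p = q then 1 else 0
  h4 : ∀ e j, π (M (Sum.inr e) (Sum.inl j)) = 0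
  h5 : ∀ i, π (v (Sum.inl i)) = 0

/-- the `ι × ι` matrix with rows `s` and the first columns -/
def Ms (M : Matrix (ι ⊕ κ) (ι ⊕ κ) A) (s : ι → ι ⊕ κ) : Matrix ι ι A :=
  fun r c' => M (s r) (Sum.inl c')

variable {v : ι ⊕ κ → A} {M : Matrix (ι ⊕ κ) (ι ⊕ κ) A}

lemma rho_entry (D : MatData π v M) (p : ι ⊕ κ) (c' : ι) :
    rho π (M p (Sum.inl c')) =
      ∑ l : ι, M p (Sum.inl l) ⊗ₜ[k] π (M (Sum.inl l) (Sum.inl c')) := by
  rw [rho_apply, D.h2, map_sum, Fintype.sum_sum_type]
  simp only [LinearMap.lTensor_tmul]
  have hz : ∑ e : κ, M p (Sum.inr e) ⊗ₜ[k]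
      (π : A →ₐ[k] C).toLinearMap (M (Sum.inr e) (Sum.inl c')) = 0 := by
    apply Finset.sum_eq_zero
    intro e _
    have h4 : (π : A →ₐ[k] C).toLinearMap (M (Sum.inr e) (Sum.inl c')) = 0 := D.h4 e c'
    rw [h4, TensorProduct.tmul_zero]
  rw [hz, add_zero]
  rfl

lemma rho_det (D : MatData π v M) (s : ι → ι ⊕ κ) :
    rho π (Ms M s).det = (Ms M s).det ⊗ₜ[k] π ((Ms M Sum.inl).det) := by
  rw [AlgHom.map_det]
  have hmat : (rho π).mapMatrix (Ms M s) =
      (Algebra.TensorProduct.includeLeft : A →ₐ[k] A ⊗[k] C).mapMatrix (Ms M s) *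
      (Algebra.TensorProduct.includeRight : C →ₐ[k] A ⊗[k] C).mapMatrix
        ((π : A →ₐ[k] C).mapMatrix (Ms M Sum.inl)) := by
    ext r c'
    rw [Matrix.mul_apply]
    simp only [AlgHom.mapMatrix_apply, Matrix.map_apply, Ms]
    rw [rho_entry D]
    apply Finset.sum_congr rfl
    intro l _
    rw [Algebra.TensorProduct.includeLeft_apply, Algebra.TensorProduct.includeRight_apply,
      Algebra.TensorProduct.tmul_mul_tmul, mul_one, one_mul]
    rfl
  rw [hmat, Matrix.det_mul, ← AlgHom.map_det, ← AlgHom.map_det, ← AlgHom.map_det,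
    Algebra.TensorProduct.includeLeft_apply, Algebra.TensorProduct.includeRight_apply,
    Algebra.TensorProduct.tmul_mul_tmul, mul_one, one_mul]
  rfl

lemma counit_det_inl (D : MatData π v M) :
    Coalgebra.counit (R := k) (Ms M Sum.inl).det = 1 := by
  have h := AlgHom.map_det (Bialgebra.counitAlgHom k A) (Ms M Sum.inl)
  rw [Bialgebra.counitAlgHom_apply] at h
  rw [h]
  have h1 : (Bialgebra.counitAlgHom k A).mapMatrix (Ms M Sum.inl) = 1 := by
    ext r c'
    simp only [AlgHom.mapMatrix_apply, Matrix.map_apply, Ms, Bialgebra.counitAlgHom_apply, D.h3,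
      Matrix.one_apply, Sum.inl.injEq]
  rw [h1, Matrix.det_one]

lemma counit_det_update (D : MatData π v M) (j₀ : ι) (e₀ : κ) :
    Coalgebra.counit (R := k)
      (Ms M (Function.update Sum.inl j₀ (Sum.inr e₀))).det = 0 := by
  have h := AlgHom.map_det (Bialgebra.counitAlgHom k A)
    (Ms M (Function.update Sum.inl j₀ (Sum.inr e₀)))
  rw [Bialgebra.counitAlgHom_apply] at h
  rw [h]
  apply Matrix.det_eq_zero_of_row_eq_zero j₀
  intro c'
  simp only [AlgHom.mapMatrix_apply, Matrix.map_apply, Ms, Bialgebra.counitAlgHom_apply, D.h3,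
    Function.update_self]
  simp

lemma chi_groupLike (D : MatData π v M) : IsGroupLikeElem k (π (Ms M Sum.inl).det) := by
  constructor
  · rw [CoalgHomClass.counit_comp_apply]
    exact counit_det_inl D
  · have h1 := rho_det D Sum.inl
    have h2 : ∀ a : A, Coalgebra.comul (R := k) (π a) =
        (π : A →ₐ[k] C).toLinearMap.rTensor C (rho π a) := by
      intro a
      rw [rho_apply, ← CoalgHomClass.map_comp_comul_apply]
      generalize Coalgebra.comul (R := k) a = t
      induction t using TensorProduct.induction_on with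
      | zero => simp
      | tmul p q => rfl
      | add s t hs ht => simp only [map_add, hs, ht]
    rw [h2, h1, LinearMap.rTensor_tmul]
    rfl

theorem v_inl_eq_zero (h : Red π c) (D : MatData π v M) (j : ι) : v (Sum.inl j) = 0 := by
  have hg : IsGroupLikeElem k (π (Ms M Sum.inl).det) := chi_groupLike D
  have hunit : HopfAlgebra.antipode k (Ms M Sum.inl).det * (Ms M Sum.inl).det = 1 :=
    antipode_mul_self h hg (rho_det D Sum.inl) (counit_det_inl D)
  have hY : ∀ (e₀ : κ) (c' : ι), M (Sum.inr e₀) (Sum.inl c') = 0 := by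
    intro e₀
    have hup : ∀ j₀, ((Ms M Sum.inl).updateRow j₀
        (fun c' => M (Sum.inr e₀) (Sum.inl c'))).det = 0 := by
      intro j₀
      have e : (Ms M Sum.inl).updateRow j₀ (fun c' => M (Sum.inr e₀) (Sum.inl c')) =
          Ms M (Function.update Sum.inl j₀ (Sum.inr e₀)) := by
        ext r c'
        rw [Matrix.updateRow_apply]
        simp only [Ms, Function.update_apply]
        split_ifs <;> rfl
      rw [e]
      exact eq_zero_of_counit h hg (rho_det D _) (counit_det_update D j₀ e₀)
    have hcr : (Ms M Sum.inl).transpose.cramer (fun c' => M (Sum.inr e₀) (Sum.inl c')) = 0 := by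
      funext j₀
      rw [Matrix.cramer_transpose_apply, hup]
      rfl
    have hm := Matrix.mulVec_cramer (Ms M Sum.inl).transpose
      (fun c' => M (Sum.inr e₀) (Sum.inl c'))
    rw [hcr, Matrix.mulVec_zero, Matrix.det_transpose] at hm
    intro c'
    have h6 : (Ms M Sum.inl).det * M (Sum.inr e₀) (Sum.inl c') = 0 := by
      have := congrFun hm c'
      simpa [Pi.smul_apply, smul_eq_mul] using this.symm
    calc M (Sum.inr e₀) (Sum.inl c')
        = (HopfAlgebra.antipode k (Ms M Sum.inl).det * (Ms M Sum.inl).det) *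
            M (Sum.inr e₀) (Sum.inl c') := by rw [hunit, one_mul]
      _ = HopfAlgebra.antipode k (Ms M Sum.inl).det *
            ((Ms M Sum.inl).det * M (Sum.inr e₀) (Sum.inl c')) := by ring
      _ = 0 := by rw [h6, mul_zero]
  have hcom := D.h1 (Sum.inl j)
  rw [Fintype.sum_sum_type] at hcom
  have hz : ∑ e : κ, v (Sum.inr e) ⊗ₜ[k] M (Sum.inr e) (Sum.inl j) = 0 := by
    apply Finset.sum_eq_zero
    intro e _
    rw [hY, TensorProduct.tmul_zero]
  rw [hz, add_zero] at hcom
  have h7 := Coalgebra.rTensor_counit_comul (R := k) (v (Sum.inl j))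
  rw [hcom, map_sum] at h7
  simp only [LinearMap.rTensor_tmul] at h7
  have h8 : ∀ i, Coalgebra.counit (R := k) (v (Sum.inl i)) = 0 := by
    intro i
    rw [← CoalgHomClass.counit_comp_apply π, D.h5, map_zero]
  simp only [h8, TensorProduct.zero_tmul, Finset.sum_const_zero] at h7
  have h9 := congrArg (TensorProduct.lid k A) h7
  simpa using h9.symm

end MAT

/-! ### choosing an adapted basis -/

/-- a functional on `C` inducing a given functional on `V` that vanishes on the kernel -/
lemma exists_functional {V : Type u} [AddCommGroup V] [Module k V] (f : V →ₗ[k] C) (g : V →ₗ[k] k)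
    (hle : LinearMap.ker f ≤ LinearMap.ker g) : ∃ θ : C →ₗ[k] k, ∀ x, θ (f x) = g x := by
  let θ₀ : LinearMap.range f →ₗ[k] k :=
    ((LinearMap.ker f).liftQ g hle) ∘ₗ (LinearMap.quotKerEquivRange f).symm.toLinearMap
  obtain ⟨θ, hθ⟩ := LinearMap.exists_extend θ₀
  refine ⟨θ, fun x => ?_⟩
  have h1 := LinearMap.congr_fun hθ ⟨f x, LinearMap.mem_range_self f x⟩
  simp only [LinearMap.coe_comp, Function.comp_apply, Submodule.coe_subtype] at h1
  rw [h1]
  show ((LinearMap.ker f).liftQ g hle) ((LinearMap.quotKerEquivRange f).symm ⟨f x, _⟩) = _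
  rw [LinearMap.quotKerEquivRange_symm_apply_image]
  exact Submodule.liftQ_apply _ _ _

theorem injective_of_red (h : Red π c) : Function.Injective π := by
  rw [injective_iff_map_eq_zero]
  intro f hf
  classical
  obtain ⟨V, hfV, hVfd, hVΔ⟩ := exists_fd_subcoalgebra (k := k) f
  haveI := hVfd
  let πV : V →ₗ[k] C := (π : A →ₐ[k] C).toLinearMap ∘ₗ V.subtype
  obtain ⟨U, hU⟩ := Submodule.exists_isCompl (LinearMap.ker πV)
  haveI : Module.Free k (LinearMap.ker πV) := Module.Free.of_divisionRing k (LinearMap.ker πV)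
  haveI : Module.Free k U := Module.Free.of_divisionRing k U
  let bW := Module.finBasis k (LinearMap.ker πV)
  let bU := Module.finBasis k U
  let bV : Module.Basis (Fin (Module.finrank k (LinearMap.ker πV)) ⊕ Fin (Module.finrank k U)) k V :=
    (bW.prod bU).map (Submodule.prodEquivOfIsCompl _ _ hU)
  obtain ⟨P, hP⟩ := LinearMap.exists_leftInverse_of_injective V.subtype (Submodule.ker_subtype V)
  let φ : (Fin (Module.finrank k (LinearMap.ker πV)) ⊕ Fin (Module.finrank k U)) → A →ₗ[k] k :=
    fun p => (bV.coord p) ∘ₗ P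
  let v : (Fin (Module.finrank k (LinearMap.ker πV)) ⊕ Fin (Module.finrank k U)) → A :=
    fun q => ((bV q : V) : A)
  let M : Matrix (Fin (Module.finrank k (LinearMap.ker πV)) ⊕ Fin (Module.finrank k U))
      (Fin (Module.finrank k (LinearMap.ker πV)) ⊕ Fin (Module.finrank k U)) A :=
    fun p q => Lc (φ p) (v q)
  -- basic facts on the basis
  have hφv : ∀ p (u : V), φ p (u : A) = bV.repr u p := by
    intro p u
    show bV.coord p (P (V.subtype u)) = _
    have := LinearMap.congr_fun hP u
    simp only [LinearMap.coe_comp, Function.comp_apply, LinearMap.id_coe, id_eq] at this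
    rw [this, Module.Basis.coord_apply]
  have hbV_inl : ∀ i, bV (Sum.inl i) = ((bW i : LinearMap.ker πV) : V) := by
    intro i
    show (Submodule.prodEquivOfIsCompl _ _ hU) ((bW.prod bU) (Sum.inl i)) = _
    rw [Submodule.coe_prodEquivOfIsCompl', Module.Basis.prod_apply_inl_fst,
      Module.Basis.prod_apply_inl_snd, Submodule.coe_zero, add_zero]
  have hrepr_inr : ∀ (w : V), w ∈ LinearMap.ker πV → ∀ e, bV.repr w (Sum.inr e) = 0 := by
    intro w hw e
    show ((bW.prod bU).map (Submodule.prodEquivOfIsCompl _ _ hU)).repr w (Sum.inr e) = 0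
    rw [Module.Basis.map_repr]
    show (bW.prod bU).repr ((Submodule.prodEquivOfIsCompl _ _ hU).symm w) (Sum.inr e) = 0
    have := Submodule.prodEquivOfIsCompl_symm_apply_left _ _ hU (⟨w, hw⟩ : LinearMap.ker πV)
    simp only at this
    rw [this, Module.Basis.prod_repr_inr]
    simp
  -- h1
  have hcore : ∀ z' : V ⊗[k] A, (V.subtype.rTensor A) z' =
      ∑ p, v p ⊗ₜ[k] (TensorProduct.lid k A ((φ p).rTensor A ((V.subtype.rTensor A) z'))) := by
    intro z'
    induction z' using TensorProduct.induction_on with
    | zero => simp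
    | tmul u a =>
      simp only [LinearMap.rTensor_tmul, TensorProduct.lid_tmul, Submodule.coe_subtype, hφv]
      have h1 : ∀ p, v p ⊗ₜ[k] ((bV.repr u) p • a) = ((bV.repr u) p • v p) ⊗ₜ[k] a := by
        intro p
        rw [TensorProduct.tmul_smul, TensorProduct.smul_tmul']
      simp only [h1]
      rw [← TensorProduct.sum_tmul]
      congr 1
      have h2 := bV.sum_repr u
      have h3 := congrArg (fun x : V => (x : A)) h2
      simp only [Submodule.coe_sum, Submodule.coe_smul] at h3
      exact h3.symm
    | add s t hs ht =>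
      simp only [map_add, TensorProduct.tmul_add, Finset.sum_add_distrib]
      rw [← hs, ← ht]
  have hmapV : ∀ z : V ⊗[k] V, TensorProduct.map V.subtype V.subtype z =
      (V.subtype.rTensor A) ((V.subtype.lTensor V) z) := by
    intro z
    induction z using TensorProduct.induction_on with
    | zero => simp
    | tmul p q => rfl
    | add s t hs ht => simp only [map_add, hs, ht]
  have h1 : ∀ q, Coalgebra.comul (R := k) (v q) = ∑ p, v p ⊗ₜ[k] M p q := by
    intro q
    obtain ⟨z, hz⟩ := hVΔ (v q) (bV q).2
    rw [hmapV] at hz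
    have := hcore ((V.subtype.lTensor V) z)
    rw [hz] at this
    exact this
  have D : MatData π v M := by
    refine ⟨h1, ?_, ?_, ?_, ?_⟩
    · intro p q
      show Coalgebra.comul (R := k) (Lc (φ p) (v q)) = _
      rw [comul_Lc, h1 q, map_sum]
      simp only [LinearMap.rTensor_tmul]
      rfl
    · intro p q
      show Coalgebra.counit (R := k) (Lc (φ p) (v q)) = _
      rw [counit_Lc, hφv, Module.Basis.repr_self, Finsupp.single_apply]
      simp only [eq_comm]
    · intro e j
      -- the functional θ
      obtain ⟨θ, hθ⟩ := exists_functional πV (bV.coord (Sum.inr e)) (by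
        intro w hw
        rw [LinearMap.mem_ker, Module.Basis.coord_apply]
        exact hrepr_inr w hw e)
      have hπv : π (v (Sum.inl j)) = 0 := by
        show πV (bV (Sum.inl j)) = 0
        rw [hbV_inl]
        exact LinearMap.mem_ker.mp (bW j).2
      have hw : TensorProduct.map (π : A →ₐ[k] C).toLinearMap (π : A →ₐ[k] C).toLinearMap
          (Coalgebra.comul (R := k) (v (Sum.inl j))) = 0 := by
        have := CoalgHomClass.map_comp_comul_apply π (v (Sum.inl j))
        rw [hπv, map_zero] at this
        exact this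
      rw [h1, map_sum] at hw
      simp only [TensorProduct.map_tmul] at hw
      have hw2 := congrArg (fun t => TensorProduct.lid k C (θ.rTensor C t)) hw
      simp only [map_sum, LinearMap.rTensor_tmul, TensorProduct.lid_tmul, map_zero] at hw2
      have hθv : ∀ p, θ ((π : A →ₐ[k] C).toLinearMap (v p)) = if p = Sum.inr e then 1 else 0 := by
        intro p
        have := hθ (bV p)
        rw [Module.Basis.coord_apply, Module.Basis.repr_self, Finsupp.single_apply] at this
        exact this
      simp only [hθv, ite_smul, one_smul, zero_smul, Finset.sum_ite_eq', Finset.mem_univ,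
        if_true] at hw2
      exact hw2
    · intro i
      show πV (bV (Sum.inl i)) = 0
      rw [hbV_inl]
      exact LinearMap.mem_ker.mp (bW i).2
  -- conclusion
  have hfW : (⟨f, hfV⟩ : V) ∈ LinearMap.ker πV := by
    rw [LinearMap.mem_ker]
    exact hf
  have h2 := bW.sum_repr ⟨⟨f, hfV⟩, hfW⟩
  have h3 := congrArg (fun x : LinearMap.ker πV => ((x : V) : A)) h2
  simp only [Submodule.coe_sum, Submodule.coe_smul] at h3
  rw [← h3]
  apply Finset.sum_eq_zero
  intro i _
  have h4 : (((bW i : LinearMap.ker πV) : V) : A) = v (Sum.inl i) := by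
    show _ = ((bV (Sum.inl i) : V) : A)
    rw [hbV_inl]
  rw [h4, v_inl_eq_zero h D i, smul_zero]

end

end Groth.Agent.Lib.Helper4.NormKer1
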