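import Mathlib
import Groth.Agent.Lib.Helper4.NormKer1
import Groth.Agent.Lib.Helper2.FF.Union
import Groth.Agent.Lib.Helper6.NormFix.NFa
import Groth.Agent.Lib.Helper2.Unip.MultPart

/-!
# Normal Hopf ideals: the coinvariant subalgebra is a Hopf subalgebra (helper4) (helper4)
-/

set_option backward.isDefEq.respectTransparency.types false
set_option synthInstance.maxHeartbeats 400000
set_option autoImplicit false
set_option linter.unusedSectionVars false
set_option linter.style.haveILetI false
set_option linter.unusedSimpArgs false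
universe u v w
open TensorProduct
open WithConv
open Groth.Agent.Helper2.HopfFGU
open Groth.Agent.Helper2.HopfLib
open Groth.Agent.Helper2.FF
open Groth.Agent.Lib.Helper4.NormKer1
open Groth.Agent.Lib.Helper6.NormFix
open Groth.Agent.Helper2.MultPart

namespace Groth.Agent.Lib.Helper4.NormKer2

noncomputable section

variable {k : Type u} [Field k] {A : Type u} [CommRing A] [HopfAlgebra k A]
variable {C : Type u} [CommRing C] [HopfAlgebra k C] (π : A →ₐc[k] C)

/-! ### the subalgebra of right coinvariants -/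

/-- the subalgebra of right coinvariants -/
def coinvSub : Subalgebra k A :=
  AlgHom.equalizer (rho π) (Algebra.TensorProduct.includeLeft : A →ₐ[k] A ⊗[k] C)

lemma mem_coinvSub {x : A} : x ∈ coinvSub π ↔ rho π x = x ⊗ₜ[k] (1 : C) := by
  rw [coinvSub, AlgHom.mem_equalizer, Algebra.TensorProduct.includeLeft_apply]

lemma rho_Lc (ψ : A →ₗ[k] k) (a : A) : rho π (Lc ψ a) = (Lc ψ).rTensor C (rho π a) := by
  rw [rho_apply, rho_apply, comul_Lc]
  generalize Coalgebra.comul (R := k) a = t
  induction t using TensorProduct.induction_on with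
  | zero => simp
  | tmul p q => rfl
  | add s t hs ht => simp only [map_add, hs, ht]

lemma lam_Rc (φ : A →ₗ[k] k) (a : A) : lam π (Rc φ a) = (Rc φ).lTensor C (lam π a) := by
  rw [lam_apply, lam_apply, comul_Rc]
  generalize Coalgebra.comul (R := k) a = t
  induction t using TensorProduct.induction_on with
  | zero => simp
  | tmul p q => rfl
  | add s t hs ht => simp only [map_add, hs, ht]

variable (c : C →ₐ[k] C ⊗[k] A)

/-- normality data: `n g = g (g⁻¹ n g)` and the conjugates of a character are right invariant -/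
structure Nor : Prop where
  key : lam π = (psi c).comp (rho π)
  inv : ∀ χ : C, IsGroupLikeElem k χ →
    Algebra.TensorProduct.map (AlgHom.id k C) (rho π) (c χ) =
    Algebra.TensorProduct.map (AlgHom.id k C)
      (Algebra.TensorProduct.includeLeft : A →ₐ[k] A ⊗[k] C) (c χ)

variable {π c}

lemma lam_of_mem (h : Nor π c) {x : A} (hx : x ∈ coinvSub π) : lam π x = (1 : C) ⊗ₜ[k] x := by
  have h1 : lam π x = psi c (rho π x) := by
    have := congrArg (fun f : A →ₐ[k] C ⊗[k] A => f x) h.key
    simpa only [AlgHom.comp_apply] using this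
  rw [h1, (mem_coinvSub π).mp hx]
  show Algebra.TensorProduct.productMap _ c (x ⊗ₜ[k] (1 : C)) = _
  rw [Algebra.TensorProduct.productMap_apply_tmul, map_one, mul_one,
    Algebra.TensorProduct.includeRight_apply]

lemma mem_of_lam (h : Nor π c) {x : A} (hx : lam π x = (1 : C) ⊗ₜ[k] x) : x ∈ coinvSub π := by
  have h1 : HopfAlgebra.antipode k x ∈ coinvSub π := by
    rw [mem_coinvSub, rho_antipode, hx, TensorProduct.comm_tmul, TensorProduct.map_tmul,
      HopfAlgebra.antipode_one]
  have h2 := lam_of_mem h h1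
  have h3 := rho_antipode π (HopfAlgebra.antipode k x)
  rw [antipode_antipode, h2, TensorProduct.comm_tmul, TensorProduct.map_tmul,
    HopfAlgebra.antipode_one, antipode_antipode] at h3
  exact (mem_coinvSub π).mpr h3

theorem hs_coinvSub (h : Nor π c) : HS (coinvSub π) := by
  apply HS_of_isHopfSub
  · intro b hb
    have hL : ∀ χ : A →ₗ[k] k, Rc χ b ∈ coinvSub π := by
      intro χ
      apply mem_of_lam h
      rw [lam_Rc, lam_of_mem h hb, LinearMap.lTensor_tmul]
    have hR : ∀ χ : A →ₗ[k] k, Lc χ b ∈ coinvSub π := by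
      intro χ
      rw [mem_coinvSub, rho_Lc, (mem_coinvSub π).mp hb, LinearMap.rTensor_tmul]
    have h1 := mem_range_left (Subalgebra.toSubmodule (coinvSub π))
      (Coalgebra.comul (R := k) b) (fun χ => hL χ)
    have h2 := mem_range_right (Subalgebra.toSubmodule (coinvSub π))
      (Coalgebra.comul (R := k) b) (fun χ => hR χ)
    obtain ⟨z, hz⟩ := mem_range_both _ _ h1 h2
    refine ⟨TensorProduct.map (Subalgebra.toSubmoduleEquiv (coinvSub π)).toLinearMap
      (Subalgebra.toSubmoduleEquiv (coinvSub π)).toLinearMap z, ?_⟩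
    rw [← hz, ← LinearMap.comp_apply, ← TensorProduct.map_comp]
    rfl
  · intro b hb
    rw [mem_coinvSub, rho_antipode, lam_of_mem h hb, TensorProduct.comm_tmul,
      TensorProduct.map_tmul, HopfAlgebra.antipode_one]

/-- `(id ⊗ ε) ∘ c = id` -/
lemma counit_c (h : Nor π c) (hπ : Function.Surjective π) (y : C) :
    TensorProduct.rid k C ((Coalgebra.counit (R := k) (A := A)).lTensor C (c y)) = y := by
  let E : C ⊗[k] A →ₐ[k] C := Algebra.TensorProduct.productMap (AlgHom.id k C)
    ((Algebra.ofId k C).comp (Bialgebra.counitAlgHom k A))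
  have hE : ∀ t : C ⊗[k] A, E t =
      TensorProduct.rid k C ((Coalgebra.counit (R := k) (A := A)).lTensor C t) := by
    intro t
    induction t using TensorProduct.induction_on with
    | zero => simp
    | tmul p q =>
      show Algebra.TensorProduct.productMap _ _ (p ⊗ₜ[k] q) = _
      rw [Algebra.TensorProduct.productMap_apply_tmul, LinearMap.lTensor_tmul,
        TensorProduct.rid_tmul]
      simp [Algebra.ofId_apply, Algebra.smul_def, mul_comm]
    | add s t hs ht => simp only [map_add, hs, ht]
  have h1 : ∀ t : A ⊗[k] A, E (Algebra.TensorProduct.map (π : A →ₐ[k] C) (AlgHom.id k A) t) =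
      π (TensorProduct.rid k A ((Coalgebra.counit (R := k) (A := A)).lTensor A t)) := by
    intro t
    induction t using TensorProduct.induction_on with
    | zero => simp
    | tmul p q =>
      rw [Algebra.TensorProduct.map_tmul, hE, LinearMap.lTensor_tmul, LinearMap.lTensor_tmul,
        TensorProduct.rid_tmul, TensorProduct.rid_tmul, map_smul]
      rfl
    | add s t hs ht => simp only [map_add, hs, ht]
  have h2 : ∀ t : A ⊗[k] A,
      E (psi c (Algebra.TensorProduct.map (AlgHom.id k A) (π : A →ₐ[k] C) t)) =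
      E (c (π (TensorProduct.lid k A ((Coalgebra.counit (R := k) (A := A)).rTensor A t)))) := by
    intro t
    induction t using TensorProduct.induction_on with
    | zero => simp
    | tmul p q =>
      rw [Algebra.TensorProduct.map_tmul, LinearMap.rTensor_tmul, TensorProduct.lid_tmul]
      show E (Algebra.TensorProduct.productMap _ c (p ⊗ₜ[k] π q)) = _
      rw [Algebra.TensorProduct.productMap_apply_tmul, map_mul,
        Algebra.TensorProduct.includeRight_apply, hE ((1 : C) ⊗ₜ[k] p), LinearMap.lTensor_tmul,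
        TensorProduct.rid_tmul, map_smul, map_smul, map_smul, Algebra.smul_def]
      rw [mul_one, ← Algebra.smul_def]
    | add s t hs ht => simp only [map_add, hs, ht]
  have h3 : ∀ a : A, E (c (π a)) = π a := by
    intro a
    have e1 : lam π a = psi c (rho π a) := by
      have := congrArg (fun f : A →ₐ[k] C ⊗[k] A => f a) h.key
      simpa only [AlgHom.comp_apply] using this
    have e2 := h1 (Coalgebra.comul (R := k) a)
    have e3 := h2 (Coalgebra.comul (R := k) a)
    rw [Coalgebra.lTensor_counit_comul, TensorProduct.rid_tmul, one_smul] at e2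
    rw [Coalgebra.rTensor_counit_comul, TensorProduct.lid_tmul, one_smul] at e3
    rw [← e3, ← e2]
    exact congrArg E e1.symm
  obtain ⟨a, rfl⟩ := hπ y
  rw [← hE, h3]

/-! ### slices -/

/-- if all left contractions of `t : C ⊗ A` lie in `W`, then `t ∈ C ⊗ W` -/
lemma mem_range_right' (W : Submodule k A) (t : C ⊗[k] A)
    (ht : ∀ θ : C →ₗ[k] k, TensorProduct.lid k A (LinearMap.rTensor A θ t) ∈ W) :
    t ∈ LinearMap.range (W.subtype.lTensor C) := by
  classical
  let b := Module.Basis.ofVectorSpace k C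
  have hc : ∀ i, TensorProduct.equivFinsuppOfBasisLeft b t i ∈ W := by
    intro i
    rw [TensorProduct.equivFinsuppOfBasisLeft_apply]
    exact ht _
  have ht' : t = (TensorProduct.equivFinsuppOfBasisLeft b t).sum fun i m => b i ⊗ₜ[k] m := by
    rw [← TensorProduct.equivFinsuppOfBasisLeft_symm_apply, LinearEquiv.symm_apply_apply]
  rw [ht']
  apply Submodule.sum_mem
  intro i _
  exact ⟨b i ⊗ₜ[k] (⟨_, hc i⟩ : W), by simp⟩

/-- algebra maps commute with left contractions -/
lemma slice_map {R : Type u} [CommRing R] [Algebra k R] (g : A →ₐ[k] R) (θ : C →ₗ[k] k)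
    (t : C ⊗[k] A) :
    g (TensorProduct.lid k A (LinearMap.rTensor A θ t)) =
      TensorProduct.lid k R (LinearMap.rTensor R θ
        (Algebra.TensorProduct.map (AlgHom.id k C) g t)) := by
  induction t using TensorProduct.induction_on with
  | zero => simp
  | tmul γ a =>
    rw [Algebra.TensorProduct.map_tmul, LinearMap.rTensor_tmul, LinearMap.rTensor_tmul,
      TensorProduct.lid_tmul, TensorProduct.lid_tmul, map_smul]
    rfl
  | add s t hs ht => simp only [map_add, hs, ht]

/-- the conjugates of a character have all their left slices in the coinvariants -/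
lemma slice_mem_coinvSub (h : Nor π c) {χ : C} (hg : IsGroupLikeElem k χ) (θ : C →ₗ[k] k) :
    TensorProduct.lid k A (LinearMap.rTensor A θ (c χ)) ∈ coinvSub π := by
  rw [mem_coinvSub, slice_map (rho π) θ (c χ), h.inv χ hg,
    ← slice_map (Algebra.TensorProduct.includeLeft : A →ₐ[k] A ⊗[k] C) θ (c χ),
    Algebra.TensorProduct.includeLeft_apply]

/-- on `C ⊗ B` the map `id ⊗ mk` is `id ⊗ ε` -/
lemma lTensor_mk_of_mem (B : Subalgebra k A) (t : C ⊗[k] A)
    (ht : t ∈ LinearMap.range ((Subalgebra.toSubmodule B).subtype.lTensor C)) :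
    (Ideal.Quotient.mkₐ k (augJ B)).toLinearMap.lTensor C t =
      (TensorProduct.rid k C ((Coalgebra.counit (R := k) (A := A)).lTensor C t)) ⊗ₜ[k]
        (1 : A ⧸ augJ B) := by
  obtain ⟨s, rfl⟩ := ht
  induction s using TensorProduct.induction_on with
  | zero => simp
  | tmul γ b =>
    rw [LinearMap.lTensor_tmul, LinearMap.lTensor_tmul, LinearMap.lTensor_tmul,
      TensorProduct.rid_tmul]
    show γ ⊗ₜ[k] (Ideal.Quotient.mk (augJ B) (b : A)) = _
    rw [mk_eq_of_mem B b.2, Algebra.algebraMap_eq_smul_one,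
      TensorProduct.tmul_smul, TensorProduct.smul_tmul']
    rfl
  | add s t hs ht => simp only [map_add, hs, ht, TensorProduct.add_tmul]

/-- modulo the ideal generated by the augmentation ideal of the coinvariants, characters are
conjugation invariant -/
theorem chi_bar (h : Nor π c) (hπ : Function.Surjective π) {χ : C} (hg : IsGroupLikeElem k χ) :
    (Ideal.Quotient.mkₐ k (augJ (coinvSub π))).toLinearMap.lTensor C
      (c χ) = χ ⊗ₜ[k] (1 : A ⧸ augJ (coinvSub π)) := by
  have h1 : c χ ∈ LinearMap.range ((Subalgebra.toSubmodule (coinvSub π)).subtype.lTensor C) :=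
    mem_range_right' _ _ (fun θ => slice_mem_coinvSub h hg θ)
  rw [lTensor_mk_of_mem (coinvSub π) (c χ) h1, counit_c h hπ]

/-! ### the conjugation coaction of a normal Hopf ideal -/

section points

variable {R R' : Type u} [CommSemiring R] [Algebra k R] [CommSemiring R'] [Algebra k R']

/-- post-composition as a homomorphism of the monoids of points -/
def compHom (F : R →ₐ[k] R') : WithConv (A →ₐ[k] R) →* WithConv (A →ₐ[k] R') where
  toFun f := toConv (F.comp f.ofConv)
  map_one' := by
    apply WithConv.ofConv_injective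
    apply AlgHom.ext
    intro a
    simp [AlgHom.convOne_def]
  map_mul' f g := by
    rw [AlgHom.comp_convMul_distrib]

/-- pre-composition with a bialgebra map as a homomorphism of the monoids of points -/
def precompHom (π : A →ₐc[k] C) : WithConv (C →ₐ[k] R) →* WithConv (A →ₐ[k] R) where
  toFun f := toConv (f.ofConv.comp (π : A →ₐ[k] C))
  map_one' := by
    apply WithConv.ofConv_injective
    apply AlgHom.ext
    intro a
    simp [AlgHom.convOne_def]
  map_mul' f g := by
    rw [AlgHom.convMul_comp_bialgHom_distrib]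

lemma conv_apply_gl (f g : WithConv (C →ₐ[k] R)) {χ : C} (hg : IsGroupLikeElem k χ) :
    (f * g).ofConv χ = f.ofConv χ * g.ofConv χ := by
  have h := AlgHom.convMul_apply f g χ
  rw [hg.comul_eq_tmul_self, Algebra.TensorProduct.lift_tmul] at h
  exact h

lemma rho_eq_conv : toConv (rho π) =
    toConv (Algebra.TensorProduct.includeLeft : A →ₐ[k] A ⊗[k] C) *
      toConv ((Algebra.TensorProduct.includeRight : C →ₐ[k] A ⊗[k] C).comp (π : A →ₐ[k] C)) := by
  rw [AlgHom.convMul_def]
  apply congrArg toConv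
  show (Algebra.TensorProduct.map (AlgHom.id k A) (π : A →ₐ[k] C)).comp
    (Bialgebra.comulAlgHom k A) = _
  rw [← AlgHom.comp_assoc]
  congr 1
  ext a <;> simp

end points

section generic

variable (π)

lemma monoid_cancel {M : Type*} [Monoid M] {g g' x y : M} (h : g' * g = 1) (hxy : g * x = g * y) :
    x = y := by
  have := congrArg (fun z => g' * z) hxy
  simpa only [← mul_assoc, h, one_mul] using this

lemma monoid_conj_aux {M : Type*} [Monoid M] {g g' n m kF kG : M} (hinv : g' * g = 1)
    (e1 : n * (g * m) = g * m * kF) (e2 : n * g = g * kG) : m * kF = kG * m := by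
  apply monoid_cancel hinv
  calc g * (m * kF) = g * m * kF := (mul_assoc _ _ _).symm
    _ = n * (g * m) := e1.symm
    _ = n * g * m := (mul_assoc _ _ _).symm
    _ = g * kG * m := by rw [e2]
    _ = g * (kG * m) := mul_assoc _ _ _

/-- the universal point of `N = Spec C` with values in `C ⊗ A` -/
def ptNg : A →ₐ[k] C ⊗[k] A :=
  (Algebra.TensorProduct.includeLeft : C →ₐ[k] C ⊗[k] A).comp (π : A →ₐ[k] C)

/-- the universal point of `G = Spec A` with values in `C ⊗ A` -/
def ptGg : A →ₐ[k] C ⊗[k] A := Algebra.TensorProduct.includeRight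

/-- `g⁻¹ n g` -/
def ptKg : A →ₐ[k] C ⊗[k] A :=
  (toConv ((ptGg (k := k) (A := A) (C := C)).comp (HopfAlgebra.antipodeAlgHom k A)) *
    toConv (ptNg π) * toConv (ptGg (k := k) (A := A) (C := C))).ofConv

theorem inv_of_conj (c : C →ₐ[k] C ⊗[k] A) (hc : c.comp (π : A →ₐ[k] C) = ptKg π)
    (p : A) (hg : IsGroupLikeElem k (π p)) :
    Algebra.TensorProduct.map (AlgHom.id k C) (rho π) (c (π p)) =
    Algebra.TensorProduct.map (AlgHom.id k C)
      (Algebra.TensorProduct.includeLeft : A →ₐ[k] A ⊗[k] C) (c (π p)) := by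
  let F : C ⊗[k] A →ₐ[k] C ⊗[k] (A ⊗[k] C) :=
    Algebra.TensorProduct.map (AlgHom.id k C) (rho π)
  let G : C ⊗[k] A →ₐ[k] C ⊗[k] (A ⊗[k] C) :=
    Algebra.TensorProduct.map (AlgHom.id k C)
      (Algebra.TensorProduct.includeLeft : A →ₐ[k] A ⊗[k] C)
  let μ : C →ₐ[k] C ⊗[k] (A ⊗[k] C) :=
    (Algebra.TensorProduct.includeRight : A ⊗[k] C →ₐ[k] _).comp
      (Algebra.TensorProduct.includeRight : C →ₐ[k] A ⊗[k] C)
  let ξ : C →ₐ[k] C ⊗[k] (A ⊗[k] C) := G.comp c
  let ζ : C →ₐ[k] C ⊗[k] (A ⊗[k] C) := F.comp c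
  -- the points
  let ΦF := compHom (k := k) (A := A) (R := C ⊗[k] A) (R' := C ⊗[k] (A ⊗[k] C)) F
  let ΦG := compHom (k := k) (A := A) (R := C ⊗[k] A) (R' := C ⊗[k] (A ⊗[k] C)) G
  let ΦR := compHom (k := k) (A := A) (R := A ⊗[k] C) (R' := C ⊗[k] (A ⊗[k] C))
    (Algebra.TensorProduct.includeRight : A ⊗[k] C →ₐ[k] C ⊗[k] (A ⊗[k] C))
  let Pm := precompHom (k := k) (A := A) (C := C) (R := C ⊗[k] (A ⊗[k] C)) π
  have hgi : toConv ((ptGg (k := k) (A := A) (C := C)).comp (HopfAlgebra.antipodeAlgHom k A)) *
      toConv (ptGg (k := k) (A := A) (C := C)) = 1 :=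
    inv_mul_cancel (toConv (ptGg (k := k) (A := A) (C := C)))
  have hgi' : toConv (ptGg (k := k) (A := A) (C := C)) *
      toConv ((ptGg (k := k) (A := A) (C := C)).comp (HopfAlgebra.antipodeAlgHom k A)) = 1 :=
    mul_inv_cancel (toConv (ptGg (k := k) (A := A) (C := C)))
  have h0 : toConv (ptNg π) * toConv (ptGg (k := k) (A := A) (C := C)) =
      toConv (ptGg (k := k) (A := A) (C := C)) * toConv (ptKg π) := by
    show _ = _ * (toConv ((ptGg (k := k) (A := A) (C := C)).comp (HopfAlgebra.antipodeAlgHom k A)) *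
      toConv (ptNg π) * toConv (ptGg (k := k) (A := A) (C := C)))
    rw [← mul_assoc, ← mul_assoc, hgi', one_mul]
  have hFN : ΦF (toConv (ptNg π)) = ΦG (toConv (ptNg π)) := by
    apply WithConv.ofConv_injective
    apply AlgHom.ext
    intro a
    show F (ptNg π a) = G (ptNg π a)
    simp [F, G, ptNg, Algebra.TensorProduct.one_def]
  have hFG : ΦF (toConv (ptGg (k := k) (A := A) (C := C))) =
      ΦG (toConv (ptGg (k := k) (A := A) (C := C))) * Pm (toConv μ) := by
    have e1 : ΦF (toConv (ptGg (k := k) (A := A) (C := C))) = ΦR (toConv (rho π)) := by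
      apply WithConv.ofConv_injective
      apply AlgHom.ext
      intro a
      show F (ptGg a) = _
      simp [F, ptGg, compHom, ΦR]
    rw [e1, rho_eq_conv, map_mul]
    congr 1
  have hinv : ΦG (toConv ((ptGg (k := k) (A := A) (C := C)).comp (HopfAlgebra.antipodeAlgHom k A))) *
      ΦG (toConv (ptGg (k := k) (A := A) (C := C))) = 1 := by
    rw [← map_mul, hgi, map_one]
  have hGk : ΦG (toConv (ptKg π)) = Pm (toConv ξ) := by
    apply WithConv.ofConv_injective
    show G.comp (ptKg π) = (G.comp c).comp (π : A →ₐ[k] C)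
    rw [AlgHom.comp_assoc, hc]
  have hFk : ΦF (toConv (ptKg π)) = Pm (toConv ζ) := by
    apply WithConv.ofConv_injective
    show F.comp (ptKg π) = (F.comp c).comp (π : A →ₐ[k] C)
    rw [AlgHom.comp_assoc, hc]
  have hconj : Pm (toConv μ * toConv ζ) = Pm (toConv ξ * toConv μ) := by
    rw [map_mul, map_mul, ← hGk, ← hFk]
    have e1 := congrArg ΦF h0
    have e2 := congrArg ΦG h0
    rw [map_mul, map_mul] at e1 e2
    rw [hFN, hFG] at e1
    exact monoid_conj_aux (M := WithConv (A →ₐ[k] C ⊗[k] (A ⊗[k] C))) hinv e1 e2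
  have h1 := congrArg (fun f : WithConv (A →ₐ[k] C ⊗[k] (A ⊗[k] C)) => f.ofConv p) hconj
  have h2 : (toConv μ * toConv ζ).ofConv (π p) = (toConv ξ * toConv μ).ofConv (π p) := h1
  rw [conv_apply_gl _ _ hg, conv_apply_gl _ _ hg] at h2
  have h3 : μ (π p) * F (c (π p)) = G (c (π p)) * μ (π p) := h2
  have h4 : μ (HopfAlgebra.antipode k (π p)) * μ (π p) = 1 := by
    rw [← map_mul, hg.antipode_mul_cancel, map_one]
  show F _ = G _
  calc F (c (π p))
      = μ (HopfAlgebra.antipode k (π p)) * (μ (π p) * F (c (π p))) := by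
        rw [← mul_assoc, h4, one_mul]
    _ = G (c (π p)) := by
        rw [h3, mul_comm (G _) _, ← mul_assoc, h4, one_mul]

end generic

section concrete

variable {k : Type u} [Field k] {A : Type u} [CommRing A] [HopfAlgebra k A]
variable (I : Ideal A) [I.IsHopfIdeal k] (hI : SGA3.IsNormalHopfIdeal k A I)

/-- the quotient map as a bialgebra map -/
abbrev πI : A →ₐc[k] A ⧸ I := Bialgebra.Quotient.mkBialgHom I

lemma πI_coe : ((πI (k := k) I : A →ₐc[k] A ⧸ I) : A →ₐ[k] A ⧸ I) = Ideal.Quotient.mkₐ k I := rfl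

include hI in
theorem inv_kapBar (χ : A ⧸ I) (hg : IsGroupLikeElem k χ) :
    Algebra.TensorProduct.map (AlgHom.id k (A ⧸ I)) (rho (πI (k := k) I)) (kapBar k I hI χ) =
    Algebra.TensorProduct.map (AlgHom.id k (A ⧸ I))
      (Algebra.TensorProduct.includeLeft : A →ₐ[k] A ⊗[k] (A ⧸ I)) (kapBar k I hI χ) := by
  obtain ⟨p, rfl⟩ := Ideal.Quotient.mk_surjective χ
  exact inv_of_conj (πI (k := k) I) (kapBar k I hI) (kapBar_comp k I hI) p hg

theorem nor_kapBar : Nor (πI (k := k) I) (kapBar k I hI) where
  key := key k I hI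
  inv := inv_kapBar I hI

end concrete

end

end Groth.Agent.Lib.Helper4.NormKer2
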