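import Mathlib
import Groth.Agent.Lib.Helper4.NormKer1
import Groth.Agent.Lib.Helper4.NormKer2
import Groth.Agent.Lib.Helper2.FF.Union
import Groth.Agent.Lib.Helper2.Hopf.KernelTorsor
import Groth.Agent.Lib.Helper2.Hopf.HopfSub
import Groth.Agent.Lib.Helper2.Unip.MultPart
import Groth.Agent.Lib.Helper6.NormQ.NQ1
import Groth.Agent.Lib.Helper6.NormQ.NQ7
import Groth.Agent.Lib.Helper6.NormFix.NFa

/-!
# A normal Hopf ideal is generated by the augmentation ideal of its coinvariants (helper4) (helper4)
-/

set_option backward.isDefEq.respectTransparency.types false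
set_option synthInstance.maxHeartbeats 400000
set_option autoImplicit false
set_option linter.unusedSectionVars false
set_option linter.style.haveILetI false
set_option linter.unusedSimpArgs false
universe u v w
open TensorProduct
open Groth.Agent.Helper2.HopfLib
open Groth.Agent.Helper2.HopfSub
open Groth.Agent.Helper2.FF
open Groth.Agent.Helper2.MultPart
open Groth.Agent.Lib.Helper4.NormKer1
open Groth.Agent.Lib.Helper4.NormKer2
open Groth.Agent.Lib.Helper6.NormQ
open Groth.Agent.Lib.Helper6.NormFix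

namespace Groth.Agent.Lib.Helper4.NormKer3

noncomputable section

variable {k : Type u} [Field k] {A : Type u} [CommRing A] [HopfAlgebra k A]
variable {C : Type u} [CommRing C] [HopfAlgebra k C] (π : A →ₐc[k] C)

/-! ### generalities -/

lemma exact_subtype_mk (J : Ideal A) :
    Function.Exact ((J.restrictScalars k).subtype) ((Ideal.Quotient.mkₐ k J).toLinearMap) := by
  intro x
  constructor
  · intro hx
    have hx' : Ideal.Quotient.mk J x = 0 := hx
    exact ⟨⟨x, Ideal.Quotient.eq_zero_iff_mem.mp hx'⟩, rfl⟩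
  · rintro ⟨j, rfl⟩
    exact Ideal.Quotient.eq_zero_iff_mem.mpr j.2

lemma mkₐ_surj (J : Ideal A) : Function.Surjective ((Ideal.Quotient.mkₐ k J).toLinearMap) :=
  Ideal.Quotient.mk_surjective

lemma map_id_eq_lTensor {R R' : Type u} [CommRing R] [Algebra k R] [CommRing R'] [Algebra k R']
    (f : R →ₐ[k] R') (t : C ⊗[k] R) :
    Algebra.TensorProduct.map (AlgHom.id k C) f t = f.toLinearMap.lTensor C t := by
  induction t using TensorProduct.induction_on with
  | zero => simp
  | tmul p q => rfl
  | add s t hs ht => simp only [map_add, hs, ht]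

/-! ### coactions on a Hopf quotient -/

section quot

variable (J : Ideal A) [J.IsHopfIdeal k] (hle : J ≤ RingHom.ker (π : A →+* C))

lemma rho_quotLift_mk (a : A) :
    rho (quotLift π J hle) (Ideal.Quotient.mk J a) =
      (Ideal.Quotient.mkₐ k J).toLinearMap.rTensor C (rho π a) := by
  rw [rho_apply, rho_apply, Bialgebra.Quotient.comul_mk]
  generalize Coalgebra.comul (R := k) a = t
  induction t using TensorProduct.induction_on with
  | zero => simp
  | tmul p q => rfl
  | add s t hs ht => simp only [map_add, hs, ht]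

lemma lam_quotLift_mk (a : A) :
    lam (quotLift π J hle) (Ideal.Quotient.mk J a) =
      (Ideal.Quotient.mkₐ k J).toLinearMap.lTensor C (lam π a) := by
  rw [lam_apply, lam_apply, Bialgebra.Quotient.comul_mk]
  generalize Coalgebra.comul (R := k) a = t
  induction t using TensorProduct.induction_on with
  | zero => simp
  | tmul p q => rfl
  | add s t hs ht => simp only [map_add, hs, ht]

lemma psi_bar (c : C →ₐ[k] C ⊗[k] A) (t : A ⊗[k] C) :
    psi ((Algebra.TensorProduct.map (AlgHom.id k C) (Ideal.Quotient.mkₐ k J)).comp c)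
      ((Ideal.Quotient.mkₐ k J).toLinearMap.rTensor C t) =
    (Ideal.Quotient.mkₐ k J).toLinearMap.lTensor C (psi c t) := by
  rw [← map_id_eq_lTensor]
  induction t using TensorProduct.induction_on with
  | zero => simp
  | tmul p γ =>
    rw [LinearMap.rTensor_tmul]
    show Algebra.TensorProduct.productMap _ _ (_ ⊗ₜ[k] γ) =
      Algebra.TensorProduct.map _ _ (Algebra.TensorProduct.productMap _ c (p ⊗ₜ[k] γ))
    rw [Algebra.TensorProduct.productMap_apply_tmul, Algebra.TensorProduct.productMap_apply_tmul,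
      map_mul, Algebra.TensorProduct.includeRight_apply, Algebra.TensorProduct.includeRight_apply,
      Algebra.TensorProduct.map_tmul]
    rfl
  | add s t hs ht => simp only [map_add, hs, ht]

end quot

/-! ### the coinvariance defect -/

/-- `a ↦ a ⊗ γ` as a `B`-linear map -/
def inclC (B : Subalgebra k A) (γ : C) : A →ₗ[B] A ⊗[k] C where
  toFun a := a ⊗ₜ[k] γ
  map_add' a a' := TensorProduct.add_tmul a a' γ
  map_smul' b a := by
    show ((b : A) * a) ⊗ₜ[k] γ = (b : A) • (a ⊗ₜ[k] γ)
    rw [TensorProduct.smul_tmul', smul_eq_mul]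

/-- the coinvariance defect `a ↦ ρ a - a ⊗ 1` as a `B`-linear map -/
def dB (B : Subalgebra k A) (hB : B ≤ coinvSub π) : A →ₗ[B] A ⊗[k] C where
  toFun a := rho π a - a ⊗ₜ[k] (1 : C)
  map_add' a a' := by
    rw [map_add, TensorProduct.add_tmul]; abel
  map_smul' b a := by
    have hb : rho π (b : A) = (b : A) ⊗ₜ[k] (1 : C) := (mem_coinvSub π).mp (hB b.2)
    show rho π ((b : A) * a) - ((b : A) * a) ⊗ₜ[k] (1 : C) =
      (b : A) • (rho π a - a ⊗ₜ[k] (1 : C))
    rw [map_mul, hb, smul_sub, TensorProduct.smul_tmul', smul_eq_mul]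
    congr 1
    rw [Algebra.smul_def, Algebra.TensorProduct.algebraMap_apply]
    rfl

lemma exact_dB (B : Subalgebra k A) (hBeq : B = coinvSub π) :
    Function.Exact (Algebra.linearMap B A) (dB π B hBeq.le) := by
  intro a
  constructor
  · intro ha
    have h1 : rho π a = a ⊗ₜ[k] (1 : C) := sub_eq_zero.mp ha
    have h2 : a ∈ B := by rw [hBeq]; exact (mem_coinvSub π).mpr h1
    exact ⟨⟨a, h2⟩, rfl⟩
  · rintro ⟨b, rfl⟩
    exact sub_eq_zero.mpr ((mem_coinvSub π).mp (hBeq.le b.2))

/-- the defect as a `k`-linear map -/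
def dk : A →ₗ[k] A ⊗[k] C := (rho π).toLinearMap - (TensorProduct.mk k A C).flip 1

lemma dk_apply (a : A) : dk π a = rho π a - a ⊗ₜ[k] (1 : C) := rfl

/-- `(S ⊗ id) ∘ Δ` -/
def sig : A →ₗ[k] A ⊗[k] A :=
  (Algebra.TensorProduct.map (HopfAlgebra.antipodeAlgHom k A) (AlgHom.id k A)).toLinearMap ∘ₗ
    Coalgebra.comul

lemma sig_apply (a : A) : sig (k := k) a =
    Algebra.TensorProduct.map (HopfAlgebra.antipodeAlgHom k A) (AlgHom.id k A)
      (Coalgebra.comul (R := k) a) := rfl

/-- `a ⊗ γ ↦ Σ S a₁ ⊗ (a₂ ⊗ γ)` -/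
def Psi : A ⊗[k] C →ₗ[k] A ⊗[k] (A ⊗[k] C) :=
  (TensorProduct.assoc k A A C).toLinearMap ∘ₗ (sig (k := k) (A := A)).rTensor C

lemma Psi_tmul (a : A) (γ : C) : Psi (k := k) (a ⊗ₜ[k] γ) =
    TensorProduct.assoc k A A C ((sig (k := k) a) ⊗ₜ[k] γ) := rfl

theorem lTensor_dk_sig (y : A) :
    (dk π).lTensor A (sig (k := k) y) = Psi (k := k) (rho π y - y ⊗ₜ[k] (1 : C)) := by
  have b1 : ∀ t : A ⊗[k] A, (dk π).lTensor A
      (Algebra.TensorProduct.map (HopfAlgebra.antipodeAlgHom k A) (AlgHom.id k A) t) =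
      TensorProduct.map (HopfAlgebra.antipode k) (rho π).toLinearMap t -
      TensorProduct.map (HopfAlgebra.antipode k) ((TensorProduct.mk k A C).flip 1) t := by
    intro t
    induction t using TensorProduct.induction_on with
    | zero => simp
    | tmul p q =>
      rw [Algebra.TensorProduct.map_tmul, LinearMap.lTensor_tmul, dk_apply, TensorProduct.tmul_sub]
      rfl
    | add s t hs ht => simp only [map_add, hs, ht]; abel
  have b2i : ∀ t : A ⊗[k] A, TensorProduct.map (HopfAlgebra.antipode k) (rho π).toLinearMap t =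
      TensorProduct.map (HopfAlgebra.antipode k)
        (TensorProduct.map LinearMap.id (π : A →ₐ[k] C).toLinearMap)
        ((Coalgebra.comul (R := k) (A := A)).lTensor A t) := by
    intro t
    induction t using TensorProduct.induction_on with
    | zero => simp
    | tmul p q =>
      rw [TensorProduct.map_tmul, LinearMap.lTensor_tmul, TensorProduct.map_tmul]
      congr 1
    | add s t hs ht => simp only [map_add, hs, ht]
  have b2ii : ∀ t : A ⊗[k] A, Psi (k := k) ((π : A →ₐ[k] C).toLinearMap.lTensor A t) =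
      TensorProduct.map (HopfAlgebra.antipode k)
        (TensorProduct.map LinearMap.id (π : A →ₐ[k] C).toLinearMap)
        (TensorProduct.assoc k A A A ((Coalgebra.comul (R := k) (A := A)).rTensor A t)) := by
    intro t
    induction t using TensorProduct.induction_on with
    | zero => simp
    | tmul p q =>
      rw [LinearMap.lTensor_tmul, LinearMap.rTensor_tmul, Psi_tmul, sig_apply]
      generalize Coalgebra.comul (R := k) p = s
      induction s using TensorProduct.induction_on with
      | zero => simp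
      | tmul p' p'' => rfl
      | add s s' hs hs' => simp only [map_add, TensorProduct.add_tmul, hs, hs']
    | add s t hs ht => simp only [map_add, hs, ht]
  have b3 : ∀ t : A ⊗[k] A,
      TensorProduct.map (HopfAlgebra.antipode k) ((TensorProduct.mk k A C).flip 1) t =
      TensorProduct.assoc k A A C ((Algebra.TensorProduct.map (HopfAlgebra.antipodeAlgHom k A)
        (AlgHom.id k A) t) ⊗ₜ[k] (1 : C)) := by
    intro t
    induction t using TensorProduct.induction_on with
    | zero => simp
    | tmul p q => rfl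
    | add s t hs ht => simp only [map_add, TensorProduct.add_tmul, hs, ht]
  rw [sig_apply, b1, b2i, ← Coalgebra.coassoc_apply, ← b2ii, b3, map_sub, ← rho_apply, Psi_tmul,
    sig_apply]

/-! ### the coinvariants of the quotient by `B⁺A` under `C` are the scalars -/

theorem coinv_core (c : C →ₐ[k] C ⊗[k] A) (h : Nor π c) (B : Subalgebra k A) (hB : HS B)
    (hBeq : B = coinvSub π) (J : Ideal A) (hJ : J = augJ B) (y : A)
    (hy : (Ideal.Quotient.mkₐ k J).toLinearMap.rTensor C (rho π y) =
      (Ideal.Quotient.mk J y) ⊗ₜ[k] (1 : C)) :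
    ∃ r : k, Ideal.Quotient.mk J y = algebraMap k (A ⧸ J) r := by
  letI := hopfB B hB
  have hJ' : J = kerIdeal k A B := hJ.trans (augJ_eq_kerIdeal B hB)
  subst hJ'
  haveI : Module.FaithfullyFlat B A := faithfullyFlat_of_HS B hB
  have hΔ' : (Bialgebra.comulAlgHom k A).comp (IsScalarTower.toAlgHom k B A) =
      (Algebra.TensorProduct.map (IsScalarTower.toAlgHom k B A)
        (IsScalarTower.toAlgHom k B A)).comp (Bialgebra.comulAlgHom k B) :=
    (ι₂_comp_comulB (ι := B.val) Subtype.val_injective (hΔ_of_HS B hB)).symm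
  have hε' : (Bialgebra.counitAlgHom k A).comp (IsScalarTower.toAlgHom k B A) =
      Bialgebra.counitAlgHom k B := rfl
  -- step 0 : the defect of `y` lies in `J ⊗ C`
  have hex0 := rTensor_exact C (exact_subtype_mk (k := k) (kerIdeal k A B))
    (mkₐ_surj (k := k) (kerIdeal k A B))
  obtain ⟨w0, hw0⟩ := (hex0 (rho π y - y ⊗ₜ[k] (1 : C))).mp (by
    rw [map_sub, hy, LinearMap.rTensor_tmul]
    exact sub_self _)
  -- `τ = canT ∘ σ`
  have hτ : ∀ b : A, torsorInvG₀ (R := k) (A := A) (A'' := B) b =
      canT k A B (sig (k := k) b) := by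
    intro b
    rw [torsorInvG₀_apply, shear_symm_one_tmul]
    rfl
  have ha : ∀ z : A ⊗[k] A, (dB π B hBeq.le).lTensor A (canT k A B z) =
      TensorProduct.mapOfCompatibleSMul B k k A (A ⊗[k] C)
        (((dB π B hBeq.le).restrictScalars k).lTensor A z) := by
    intro z
    induction z using TensorProduct.induction_on with
    | zero => simp
    | tmul p q => rfl
    | add s t hs ht => simp only [map_add, hs, ht]
  have hc1 : ∀ (s : A ⊗[k] A) (γ : C),
      TensorProduct.mapOfCompatibleSMul B k k A (A ⊗[k] C)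
        (TensorProduct.assoc k A A C (s ⊗ₜ[k] γ)) =
      (inclC B γ).lTensor A (canT k A B s) := by
    intro s γ
    induction s using TensorProduct.induction_on with
    | zero => simp
    | tmul p q => rfl
    | add s t hs ht => simp only [map_add, TensorProduct.add_tmul, hs, ht]
  have hc : ∀ w' : ((kerIdeal k A B).restrictScalars k) ⊗[k] C,
      TensorProduct.mapOfCompatibleSMul B k k A (A ⊗[k] C)
        (Psi (k := k) (((kerIdeal k A B).restrictScalars k).subtype.rTensor C w')) = 0 := by
    intro w'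
    induction w' using TensorProduct.induction_on with
    | zero => simp
    | tmul j γ =>
      rw [LinearMap.rTensor_tmul, Psi_tmul, hc1]
      have hj : canT k A B (sig (k := k) (j : A)) = 0 := by
        rw [← hτ]
        exact torsorInvG₀_mem hΔ' hε' (j : A) j.2
      show (inclC B γ).lTensor A (canT k A B (sig (k := k) (j : A))) = 0
      rw [hj, map_zero]
    | add s t hs ht => rw [map_add, map_add, map_add, hs, ht, add_zero]
  have h3 : (dB π B hBeq.le).lTensor A (torsorInvG₀ (R := k) (A := A) (A'' := B) y) = 0 := by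
    rw [hτ, ha]
    have e : ((dB π B hBeq.le).restrictScalars k) = dk π := rfl
    rw [e, lTensor_dk_sig, ← hw0]
    exact hc w0
  -- flatness
  have hex := Module.Flat.lTensor_exact A (exact_dB π B hBeq)
  obtain ⟨w, hw⟩ := (hex _).mp h3
  obtain ⟨a, rfl⟩ : ∃ a : A, w = a ⊗ₜ[B] (1 : B) :=
    ⟨TensorProduct.rid B A w, by rw [← TensorProduct.rid_symm_apply, LinearEquiv.symm_apply_apply]⟩
  have h4 : torsorInvG₀ (R := k) (A := A) (A'' := B) y = a ⊗ₜ[B] (1 : A) := by
    rw [← hw, LinearMap.lTensor_tmul]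
    rfl
  have h5 : torsorHom hΔ' (torsorInvG₀ (R := k) (A := A) (A'' := B) y) =
      (1 : A) ⊗ₜ[k] (Ideal.Quotient.mk (kerIdeal k A B) y) := by
    have e1 : torsorInv hΔ' hε' ((1 : A) ⊗ₜ[k] (Ideal.Quotient.mk (kerIdeal k A B) y)) =
        torsorInvG₀ (R := k) (A := A) (A'' := B) y := by
      unfold torsorInv
      rw [Algebra.TensorProduct.lift_tmul, map_one, one_mul]
      rfl
    rw [← e1]
    have e2 : torsorEquiv hΔ' hε' ((torsorEquiv hΔ' hε').symm
        ((1 : A) ⊗ₜ[k] (Ideal.Quotient.mk (kerIdeal k A B) y))) =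
        (1 : A) ⊗ₜ[k] (Ideal.Quotient.mk (kerIdeal k A B) y) :=
      (torsorEquiv hΔ' hε').apply_symm_apply _
    exact e2
  have h6 : torsorHom hΔ' (a ⊗ₜ[B] (1 : A)) = a ⊗ₜ[k] (1 : A ⧸ kerIdeal k A B) := by
    unfold torsorHom
    rw [Algebra.TensorProduct.lift_tmul, map_one, mul_one]
    rfl
  have h7 : (1 : A) ⊗ₜ[k] (Ideal.Quotient.mk (kerIdeal k A B) y) =
      a ⊗ₜ[k] (1 : A ⧸ kerIdeal k A B) := by
    rw [← h5, h4, h6]
  have h8 := congrArg (fun t => TensorProduct.lid k (A ⧸ kerIdeal k A B)
    ((Coalgebra.counit (R := k) (A := A)).rTensor _ t)) h7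
  simp only [LinearMap.rTensor_tmul, TensorProduct.lid_tmul, Bialgebra.counit_one, one_smul] at h8
  exact ⟨Coalgebra.counit (R := k) a, by rw [h8, Algebra.algebraMap_eq_smul_one]⟩

/-! ### the kernel is generated by the augmentation ideal of the coinvariants -/

theorem augJ_le_ker : augJ (coinvSub π) ≤ RingHom.ker (π : A →+* C) := by
  unfold augJ
  rw [Ideal.span_le]
  rintro b ⟨hb, hε⟩
  rw [SetLike.mem_coe, RingHom.mem_ker]
  have h1 := (mem_coinvSub π).mp hb
  have h3 : ∀ t : A ⊗[k] A, TensorProduct.lid k C ((Coalgebra.counit (R := k) (A := A)).rTensor C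
      ((π : A →ₐ[k] C).toLinearMap.lTensor A t)) =
      π (TensorProduct.lid k A ((Coalgebra.counit (R := k) (A := A)).rTensor A t)) := by
    intro t
    induction t using TensorProduct.induction_on with
    | zero => simp
    | tmul p q =>
      rw [LinearMap.lTensor_tmul, LinearMap.rTensor_tmul, LinearMap.rTensor_tmul,
        TensorProduct.lid_tmul, TensorProduct.lid_tmul, map_smul]
      rfl
    | add s t hs ht => simp only [map_add, hs, ht]
  have h2 := congrArg (fun t => TensorProduct.lid k C
    ((Coalgebra.counit (R := k) (A := A)).rTensor C t)) h1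
  rw [rho_apply, h3, Coalgebra.rTensor_counit_comul, TensorProduct.lid_tmul, one_smul,
    LinearMap.rTensor_tmul, TensorProduct.lid_tmul, hε, zero_smul] at h2
  exact h2

lemma chi_bar' (c : C →ₐ[k] C ⊗[k] A) (h : Nor π c) (hπ : Function.Surjective π) (J : Ideal A)
    (hJ : J = augJ (coinvSub π)) {χ : C} (hg : IsGroupLikeElem k χ) :
    (Ideal.Quotient.mkₐ k J).toLinearMap.lTensor C (c χ) = χ ⊗ₜ[k] (1 : A ⧸ J) := by
  subst hJ
  exact chi_bar h hπ hg

theorem ker_le_augJ (c : C →ₐ[k] C ⊗[k] A) (h : Nor π c) (hπ : Function.Surjective π)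
    (J : Ideal A) [J.IsHopfIdeal k] (hJ : J = augJ (coinvSub π)) :
    RingHom.ker (π : A →+* C) ≤ J := by
  have hle : J ≤ RingHom.ker (π : A →+* C) := hJ.le.trans (augJ_le_ker π)
  have hred : Red (quotLift π J hle)
      ((Algebra.TensorProduct.map (AlgHom.id k C) (Ideal.Quotient.mkₐ k J)).comp c) := by
    refine ⟨?_, ?_, ?_⟩
    · apply AlgHom.ext
      intro x
      obtain ⟨a, rfl⟩ := Ideal.Quotient.mk_surjective x
      rw [AlgHom.comp_apply, lam_quotLift_mk, rho_quotLift_mk, psi_bar]
      have := congrArg (fun f : A →ₐ[k] C ⊗[k] A => f a) h.key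
      simp only [AlgHom.comp_apply] at this
      rw [this]
    · intro χ hg
      show Algebra.TensorProduct.map (AlgHom.id k C) (Ideal.Quotient.mkₐ k J) (c χ) = _
      rw [map_id_eq_lTensor]
      exact chi_bar' π c h hπ J hJ hg
    · intro x hx
      obtain ⟨y, rfl⟩ := Ideal.Quotient.mk_surjective x
      rw [rho_quotLift_mk] at hx
      exact coinv_core π c h (coinvSub π) (hs_coinvSub h) rfl J hJ y hx
  have hinj := injective_of_red hred
  intro a ha
  apply Ideal.Quotient.eq_zero_iff_mem.mp
  apply hinj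
  rw [map_zero]
  exact ha

theorem ker_eq_augJ (c : C →ₐ[k] C ⊗[k] A) (h : Nor π c) (hπ : Function.Surjective π) :
    RingHom.ker (π : A →+* C) = augJ (coinvSub π) := by
  haveI : (augJ (coinvSub π)).IsHopfIdeal k := isHopfIdeal_augJ _ (hs_coinvSub h)
  exact le_antisymm (ker_le_augJ π c h hπ _ rfl) (augJ_le_ker π)

/-! ### normal Hopf ideals -/

section concrete

variable (I : Ideal A) [I.IsHopfIdeal k] (hI : SGA3.IsNormalHopfIdeal k A I)

/-- the right coinvariants of `A ⧸ I` -/
def coinvI : Subalgebra k A := coinvSub (πI (k := k) I)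

include hI in
theorem hs_coinvI : HS (coinvI (k := k) I) := hs_coinvSub (nor_kapBar I hI)

include hI in
theorem eq_augJ_coinvI : I = augJ (coinvI (k := k) I) := by
  have h := ker_eq_augJ (πI (k := k) I) (kapBar k I hI) (nor_kapBar I hI)
    Ideal.Quotient.mk_surjective
  have e : RingHom.ker ((πI (k := k) I : A →ₐc[k] A ⧸ I) : A →+* A ⧸ I) = I := by
    ext a
    rw [RingHom.mem_ker]
    exact Ideal.Quotient.eq_zero_iff_mem
  rw [e] at h
  exact h

lemma mem_coinvI_iff (x : A) : x ∈ coinvI (k := k) I ↔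
    (Ideal.Quotient.mkₐ k I).toLinearMap.lTensor A (Coalgebra.comul (R := k) x) =
      x ⊗ₜ[k] (1 : A ⧸ I) := by
  unfold coinvI
  rw [mem_coinvSub, rho_apply]
  rfl

lemma mem_coinvI_iff' (x : A) : x ∈ coinvI (k := k) I ↔
    Coalgebra.comul (R := k) x - x ⊗ₜ[k] (1 : A) ∈
      LinearMap.range (LinearMap.lTensor A (I.restrictScalars k).subtype) := by
  rw [mem_coinvI_iff]
  have hex := lTensor_exact A (exact_subtype_mk (k := k) I) (mkₐ_surj (k := k) I)
  rw [LinearMap.mem_range]
  have := hex (Coalgebra.comul (R := k) x - x ⊗ₜ[k] (1 : A))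
  rw [map_sub, LinearMap.lTensor_tmul, sub_eq_zero] at this
  rw [← Set.mem_range, ← this]
  rfl

end concrete

end

end Groth.Agent.Lib.Helper4.NormKer3
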