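import Mathlib
import Groth.Prelude.Def_SGA3
import Groth.Agent.Lib.Helper4.NormKer3
import Groth.Agent.Lib.Helper4.GenSubgrp1
import Groth.Agent.Lib.Helper2.Hopf.BialgTransport

/-!
# The (opposite) category of finitely generated commutative cocommutative Hopf algebras over a field: kernels, cokernels, normal monos/epis, finite products (helper4)
-/

set_option backward.isDefEq.respectTransparency.types false
set_option synthInstance.maxHeartbeats 400000
set_option autoImplicit false
set_option linter.unusedSectionVars false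
set_option linter.style.haveILetI false
set_option linter.unusedSimpArgs false
universe u v w
open CategoryTheory
open CategoryTheory.Limits
open scoped TensorProduct
open WithConv
open Groth.Agent.Helper2.FF
open Groth.Agent.Helper2.MultPart
open Groth.Agent.Helper2.HopfSub
open Groth.Agent.Helper2.HopfLib
open Groth.Agent.Lib.Helper6.NormQ
open Groth.Agent.Lib.Helper6.NormFix
open Groth.Agent.Lib.Helper4.NormKer2
open Groth.Agent.Lib.Helper4.NormKer3
open Groth.Agent.Lib.Helper4.GenSubgrp1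

namespace Groth.Agent.Lib.Helper4.AbCatH1

noncomputable section

variable {k : Type u} [Field k]

section generic

variable {A C W : Type u} [CommRing A] [CommRing C] [CommRing W]
  [HopfAlgebra k A] [HopfAlgebra k C] [HopfAlgebra k W]

variable (k A W) in
/-- the trivial bialgebra map `a ↦ ε(a)·1` -/
def triv : A →ₐc[k] W := (Bialgebra.unitBialgHom k W).comp (Bialgebra.counitBialgHom k A)

lemma triv_apply (a : A) : triv k A W a = algebraMap k W (Coalgebra.counit (R := k) a) := rfl

lemma triv_comp (f : C →ₐc[k] A) : (triv k A W).comp f = triv k C W := by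
  refine BialgHom.ext fun c => ?_
  show algebraMap k W (Coalgebra.counit (R := k) (f c)) =
    algebraMap k W (Coalgebra.counit (R := k) c)
  rw [CoalgHomClass.counit_comp_apply f c]

lemma comp_triv (f : W →ₐc[k] C) : f.comp (triv k A W) = triv k A C := by
  refine BialgHom.ext fun a => ?_
  show f (algebraMap k W _) = algebraMap k C _
  exact AlgHomClass.commutes f _

lemma comul_map (π : A →ₐc[k] C) (a : A) :
    Coalgebra.comul (R := k) (π a) =
      Algebra.TensorProduct.map (π : A →ₐ[k] C) (π : A →ₐ[k] C) (Coalgebra.comul (R := k) a) := by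
  have h1 := congrArg (fun f => f a) (BialgHom.map_comp_comulAlgHom π)
  exact h1.symm

section liftS
variable (π : A →ₐc[k] C) (hπ : Function.Surjective π) (γ : A →ₐc[k] W)
  (h : ∀ a, π a = 0 → γ a = 0)

/-- descend along a surjection (algebra map) -/
def liftS₀ : C →ₐ[k] W :=
  AlgHom.liftOfSurjective (π : A →ₐ[k] C) hπ (γ : A →ₐ[k] W) (fun a ha => h a ha)

lemma liftS₀_apply (a : A) : liftS₀ π hπ γ h (π a) = γ a :=
  AlgHom.liftOfSurjective_apply (π : A →ₐ[k] C) hπ (γ : A →ₐ[k] W) _ a

lemma liftS₀_comp : (liftS₀ π hπ γ h).comp (π : A →ₐ[k] C) = (γ : A →ₐ[k] W) :=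
  AlgHom.ext fun a => liftS₀_apply π hπ γ h a

/-- descend along a surjection (bialgebra map) -/
def liftS : C →ₐc[k] W :=
  BialgHom.ofAlgHom (liftS₀ π hπ γ h)
    (by
      refine AlgHom.ext fun c => ?_
      obtain ⟨a, rfl⟩ := hπ c
      show Coalgebra.counit (R := k) (liftS₀ π hπ γ h (π a)) = Coalgebra.counit (R := k) (π a)
      rw [liftS₀_apply, CoalgHomClass.counit_comp_apply γ a, CoalgHomClass.counit_comp_apply π a])
    (by
      refine AlgHom.ext fun c => ?_
      obtain ⟨a, rfl⟩ := hπ c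
      have h3 : (Algebra.TensorProduct.map (liftS₀ π hπ γ h) (liftS₀ π hπ γ h)).comp
          (Algebra.TensorProduct.map (π : A →ₐ[k] C) (π : A →ₐ[k] C)) =
          Algebra.TensorProduct.map (γ : A →ₐ[k] W) (γ : A →ₐ[k] W) := by
        rw [← Algebra.TensorProduct.map_comp, liftS₀_comp]
      show (Algebra.TensorProduct.map (liftS₀ π hπ γ h) (liftS₀ π hπ γ h))
        (Coalgebra.comul (R := k) (π a)) = Coalgebra.comul (R := k) (liftS₀ π hπ γ h (π a))
      rw [liftS₀_apply, comul_map π a, comul_map γ a, ← h3]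
      rfl)

lemma liftS_apply (a : A) : liftS π hπ γ h (π a) = γ a := liftS₀_apply π hπ γ h a

lemma liftS_comp : (liftS π hπ γ h).comp π = γ := BialgHom.ext fun a => liftS_apply π hπ γ h a

end liftS

lemma bialgHom_cancel_right {π : A →ₐc[k] C} (hπ : Function.Surjective π) {f g : C →ₐc[k] W}
    (hfg : f.comp π = g.comp π) : f = g := by
  refine BialgHom.ext fun c => ?_
  obtain ⟨a, rfl⟩ := hπ c
  exact congrArg (fun φ => φ a) hfg

lemma bialgHom_cancel_left {ι : C →ₐc[k] A} (hι : Function.Injective ι) {f g : W →ₐc[k] C}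
    (hfg : ι.comp f = ι.comp g) : f = g := by
  refine BialgHom.ext fun c => ?_
  apply hι
  exact congrArg (fun φ => φ c) hfg


section factI
variable (ι : C →ₐc[k] A) (hι : Function.Injective ι) (γ : W →ₐc[k] A)
  (h : ∀ w, γ w ∈ (ι : C →ₐ[k] A).range)

/-- factor through an injection (algebra map) -/
def factI₀ : W →ₐ[k] C :=
  ((AlgEquiv.ofInjective (ι : C →ₐ[k] A) hι).symm : (ι : C →ₐ[k] A).range →ₐ[k] C).comp
    ((γ : W →ₐ[k] A).codRestrict (ι : C →ₐ[k] A).range h)

lemma ι_factI₀ (w : W) : ι (factI₀ ι hι γ h w) = γ w := by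
  unfold factI₀
  rw [AlgHom.comp_apply]
  have := (AlgEquiv.ofInjective (ι : C →ₐ[k] A) hι).apply_symm_apply
    (((γ : W →ₐ[k] A).codRestrict (ι : C →ₐ[k] A).range h) w)
  exact congrArg Subtype.val this

lemma ι_comp_factI₀ : (ι : C →ₐ[k] A).comp (factI₀ ι hι γ h) = (γ : W →ₐ[k] A) :=
  AlgHom.ext fun w => ι_factI₀ ι hι γ h w

/-- factor through an injection (bialgebra map) -/
def factI : W →ₐc[k] C :=
  BialgHom.ofAlgHom (factI₀ ι hι γ h)
    (by
      refine AlgHom.ext fun w => ?_
      show Coalgebra.counit (R := k) (factI₀ ι hι γ h w) = Coalgebra.counit (R := k) w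
      rw [← CoalgHomClass.counit_comp_apply ι, ι_factI₀, CoalgHomClass.counit_comp_apply γ w])
    (by
      refine AlgHom.ext fun w => ?_
      apply ι₂_injective (ι := (ι : C →ₐ[k] A)) hι
      show ι₂ (ι : C →ₐ[k] A) ((Algebra.TensorProduct.map (factI₀ ι hι γ h) (factI₀ ι hι γ h))
        (Coalgebra.comul (R := k) w)) =
        ι₂ (ι : C →ₐ[k] A) (Coalgebra.comul (R := k) (factI₀ ι hι γ h w))
      have h3 : (ι₂ (ι : C →ₐ[k] A)).comp
          (Algebra.TensorProduct.map (factI₀ ι hι γ h) (factI₀ ι hι γ h)) =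
          Algebra.TensorProduct.map (γ : W →ₐ[k] A) (γ : W →ₐ[k] A) := by
        rw [← Algebra.TensorProduct.map_comp, ι_comp_factI₀]
      have h4 : ι₂ (ι : C →ₐ[k] A) (Coalgebra.comul (R := k) (factI₀ ι hι γ h w)) =
          Coalgebra.comul (R := k) (ι (factI₀ ι hι γ h w)) := (comul_map ι _).symm
      rw [h4, ι_factI₀, comul_map γ w, ← h3]
      rfl)

lemma ι_factI (w : W) : ι (factI ι hι γ h w) = γ w := ι_factI₀ ι hι γ h w

lemma ι_comp_factI : ι.comp (factI ι hι γ h) = γ := BialgHom.ext fun w => ι_factI ι hι γ h w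

end factI

lemma coinv_key {Q' : Type u} [CommRing Q'] [Algebra k Q'] (γ : W →ₐc[k] A) (q : A →ₐ[k] Q')
    (hq : ∀ w, q (γ w) = algebraMap k Q' (Coalgebra.counit (R := k) w)) (w : W) :
    q.toLinearMap.lTensor A (Coalgebra.comul (R := k) (γ w)) = γ w ⊗ₜ[k] (1 : Q') := by
  rw [comul_map γ w]
  have key : ∀ z : W ⊗[k] W,
      q.toLinearMap.lTensor A
        (Algebra.TensorProduct.map (γ : W →ₐ[k] A) (γ : W →ₐ[k] A) z) =
        γ (TensorProduct.rid k W ((Coalgebra.counit (R := k) (A := W)).lTensor W z)) ⊗ₜ[k]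
          (1 : Q') := by
    intro z
    induction z using TensorProduct.induction_on with
    | zero => simp
    | tmul x y =>
      rw [Algebra.TensorProduct.map_tmul, LinearMap.lTensor_tmul, LinearMap.lTensor_tmul,
        TensorProduct.rid_tmul]
      show (γ x) ⊗ₜ[k] q (γ y) = _
      rw [hq y, Algebra.algebraMap_eq_smul_one, TensorProduct.tmul_smul, map_smul,
        TensorProduct.smul_tmul']
    | add x y hx hy => simp only [map_add, hx, hy, TensorProduct.add_tmul]
  rw [key, Coalgebra.lTensor_counit_comul, TensorProduct.rid_tmul, one_smul]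

lemma isNormal_of_isCocomm [Coalgebra.IsCocomm k A] (I : Ideal A) :
    SGA3.IsNormalHopfIdeal k A I := by
  intro R _ _ g h hh a ha
  rw [conv3_eq]
  have e : toConv g * toConv h * toConv (g.comp (HopfAlgebra.antipodeAlgHom k A)) = toConv h := by
    rw [mul_comm (toConv g) (toConv h), mul_assoc, mul_comp_antipode, mul_one]
  rw [e]
  exact hh a ha

lemma isCocomm_of_surjective [Coalgebra.IsCocomm k A] (π : A →ₐc[k] C)
    (hπ : Function.Surjective π) : Coalgebra.IsCocomm k C := by
  refine ⟨LinearMap.ext fun c => ?_⟩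
  obtain ⟨a, rfl⟩ := hπ c
  show TensorProduct.comm k C C (Coalgebra.comul (R := k) (π a)) = Coalgebra.comul (R := k) (π a)
  rw [comul_map π a]
  have key : ∀ z : A ⊗[k] A, TensorProduct.comm k C C
      (Algebra.TensorProduct.map (π : A →ₐ[k] C) (π : A →ₐ[k] C) z) =
      Algebra.TensorProduct.map (π : A →ₐ[k] C) (π : A →ₐ[k] C) (TensorProduct.comm k A A z) := by
    intro z
    induction z using TensorProduct.induction_on with
    | zero => simp
    | tmul x y => rfl
    | add x y hx hy => simp only [map_add, hx, hy]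
  rw [key, Coalgebra.comm_comul]

lemma isCocomm_of_injective [Coalgebra.IsCocomm k A] (ι : C →ₐc[k] A)
    (hι : Function.Injective ι) : Coalgebra.IsCocomm k C := by
  refine ⟨LinearMap.ext fun c => ?_⟩
  apply ι₂_injective (ι := (ι : C →ₐ[k] A)) hι
  show ι₂ (ι : C →ₐ[k] A) (TensorProduct.comm k C C (Coalgebra.comul (R := k) c)) =
    ι₂ (ι : C →ₐ[k] A) (Coalgebra.comul (R := k) c)
  have key : ∀ z : C ⊗[k] C, ι₂ (ι : C →ₐ[k] A) (TensorProduct.comm k C C z) =
      TensorProduct.comm k A A (ι₂ (ι : C →ₐ[k] A) z) := by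
    intro z
    induction z using TensorProduct.induction_on with
    | zero => simp
    | tmul x y => rfl
    | add x y hx hy => simp only [map_add, hx, hy]
  rw [key, ← comul_map ι c, Coalgebra.comm_comul]

lemma hs_range (φ : C →ₐc[k] A) : HS (φ : C →ₐ[k] A).range := by
  constructor
  · rintro b ⟨c, rfl⟩
    show Coalgebra.comul (R := k) (φ c) ∈ _
    rw [comul_map φ c]
    have e : Algebra.TensorProduct.map (φ : C →ₐ[k] A) (φ : C →ₐ[k] A) =
        (Algebra.TensorProduct.map (φ : C →ₐ[k] A).range.val (φ : C →ₐ[k] A).range.val).comp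
          (Algebra.TensorProduct.map (φ : C →ₐ[k] A).rangeRestrict
            (φ : C →ₐ[k] A).rangeRestrict) := by
      rw [← Algebra.TensorProduct.map_comp, AlgHom.val_comp_rangeRestrict]
    rw [e]
    exact ⟨_, rfl⟩
  · rintro b ⟨c, rfl⟩
    show HopfAlgebra.antipode k (φ c) ∈ _
    rw [← bialgHom_antipode_apply φ c]
    exact ⟨_, rfl⟩

end generic

/-! ### the category of finitely generated commutative cocommutative Hopf algebras (opposite) -/

/-- bundled finitely generated commutative cocommutative Hopf algebras -/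
structure HObj (k : Type u) [Field k] where
  /-- carrier -/
  A : Type u
  [cr : CommRing A]
  [ha : HopfAlgebra k A]
  [cc : Coalgebra.IsCocomm k A]
  [ft : Algebra.FiniteType k A]

attribute [instance] HObj.cr HObj.ha HObj.cc HObj.ft

instance : Category (HObj k) where
  Hom X Y := Y.A →ₐc[k] X.A
  id X := BialgHom.id k X.A
  comp f g := BialgHom.comp f g
  id_comp f := BialgHom.id_comp f
  comp_id f := BialgHom.comp_id f
  assoc f g h := BialgHom.comp_assoc f g h

/-- underlying bialgebra map -/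
def toB {X Y : HObj k} (f : X ⟶ Y) : Y.A →ₐc[k] X.A := f

/-- morphism from a bialgebra map -/
def ofB {X Y : HObj k} (f : Y.A →ₐc[k] X.A) : X ⟶ Y := f

lemma toB_ofB {X Y : HObj k} (f : Y.A →ₐc[k] X.A) : toB (ofB f) = f := rfl
lemma ofB_toB {X Y : HObj k} (f : X ⟶ Y) : ofB (toB f) = f := rfl
lemma toB_comp {X Y Z : HObj k} (f : X ⟶ Y) (g : Y ⟶ Z) : toB (f ≫ g) = (toB f).comp (toB g) := rfl
lemma toB_id (X : HObj k) : toB (𝟙 X) = BialgHom.id k X.A := rfl
lemma hom_ext' {X Y : HObj k} {f g : X ⟶ Y} (h : toB f = toB g) : f = g := h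

instance : HasZeroMorphisms (HObj k) where
  zero X Y := ⟨ofB (triv k Y.A X.A)⟩
  comp_zero f Z := comp_triv (toB f)
  zero_comp X {Y Z} f := triv_comp (toB f)

lemma toB_zero (X Y : HObj k) : toB (0 : X ⟶ Y) = triv k Y.A X.A := rfl



/-! ### kernels -/

section kernels

variable {X Y : HObj k} (f : X ⟶ Y)

/-- the ideal of the kernel -/
def kerJ : Ideal X.A := augJ ((toB f : Y.A →ₐc[k] X.A) : Y.A →ₐ[k] X.A).range

instance : (kerJ f).IsHopfIdeal k := isHopfIdeal_augJ _ (hs_range (toB f))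

/-- the kernel object -/
def kObj : HObj k where
  A := X.A ⧸ kerJ f
  cc := isCocomm_of_surjective (Bialgebra.Quotient.mkBialgHom (kerJ f))
    Ideal.Quotient.mk_surjective
  ft := Algebra.FiniteType.of_surjective (Ideal.Quotient.mkₐ k (kerJ f))
    Ideal.Quotient.mk_surjective

/-- the kernel inclusion -/
def kι : kObj f ⟶ X := ofB (Bialgebra.Quotient.mkBialgHom (kerJ f))

lemma kι_apply (a : X.A) : toB (kι f) a = Ideal.Quotient.mk (kerJ f) a := rfl

lemma kι_surj : Function.Surjective (toB (kι f)) := Ideal.Quotient.mk_surjective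

lemma kι_comp : kι f ≫ f = 0 := by
  apply hom_ext'
  rw [toB_comp, toB_zero]
  refine BialgHom.ext fun y => ?_
  show Ideal.Quotient.mk (augJ ((toB f : Y.A →ₐc[k] X.A) : Y.A →ₐ[k] X.A).range) (toB f y) =
    algebraMap k _ (Coalgebra.counit (R := k) y)
  rw [mk_eq_of_mem _ (⟨y, rfl⟩ : toB f y ∈ ((toB f : Y.A →ₐc[k] X.A) : Y.A →ₐ[k] X.A).range),
    CoalgHomClass.counit_comp_apply]

lemma kerJ_le {W : HObj k} (g : W ⟶ X) (hg : g ≫ f = 0) (a : X.A)
    (ha : toB (kι f) a = 0) : toB g a = 0 := by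
  have ha' : Ideal.Quotient.mk (kerJ f) a = 0 := ha
  rw [Ideal.Quotient.eq_zero_iff_mem] at ha'
  have hle : kerJ f ≤ RingHom.ker ((toB g : X.A →ₐc[k] W.A) : X.A →+* W.A) := by
    unfold kerJ augJ
    rw [Ideal.span_le]
    rintro b ⟨⟨y, rfl⟩, hb⟩
    have hb' : Coalgebra.counit (R := k) (toB f y) = 0 := hb
    have h1 : toB g (toB f y) = algebraMap k W.A (Coalgebra.counit (R := k) y) :=
      congrArg (fun φ => toB φ y) hg
    show toB g (toB f y) = 0
    rw [h1, ← CoalgHomClass.counit_comp_apply (toB f) y, hb', map_zero]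
  exact hle ha'

/-- the lift to the kernel -/
def kLift {W : HObj k} (g : W ⟶ X) (hg : g ≫ f = 0) : W ⟶ kObj f :=
  ofB (liftS (toB (kι f)) (kι_surj f) (toB g) (kerJ_le f g hg))

lemma kLift_fac {W : HObj k} (g : W ⟶ X) (hg : g ≫ f = 0) : kLift f g hg ≫ kι f = g := by
  apply hom_ext'
  rw [toB_comp]
  exact liftS_comp _ _ _ _

/-- the kernel fork is a limit -/
def kIsLimit : IsLimit (KernelFork.ofι (kι f) (kι_comp f)) :=
  KernelFork.IsLimit.ofι _ _ (fun g hg => kLift f g hg) (fun g hg => kLift_fac f g hg)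
    (fun g hg m hm => by
      apply hom_ext'
      apply bialgHom_cancel_right (kι_surj f)
      rw [← toB_comp, ← toB_comp, hm, kLift_fac])

instance : HasKernels (HObj k) := ⟨fun f => ⟨⟨⟨_, kIsLimit f⟩⟩⟩⟩

end kernels

/-! ### cokernels -/

section cokernels

variable {X Y : HObj k} (f : X ⟶ Y)

/-- the kernel ideal of the underlying map -/
def cI : Ideal Y.A := RingHom.ker ((toB f : Y.A →ₐc[k] X.A) : Y.A →+* X.A)

instance : (cI f).IsHopfIdeal k := isHopfIdeal_ker (toB f)

lemma mem_cI (a : Y.A) : a ∈ cI f ↔ toB f a = 0 := Iff.rfl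

/-- the coinvariants -/
def cB : Subalgebra k Y.A := coinvI (k := k) (cI f)

lemma hs_cB : HS (cB f) := hs_coinvI (cI f) (isNormal_of_isCocomm (cI f))

lemma cI_eq : cI f = augJ (cB f) := eq_augJ_coinvI (cI f) (isNormal_of_isCocomm (cI f))

/-- the cokernel object -/
def cObj : HObj k :=
  letI : HopfAlgebra k (cB f) := hopfB (cB f) (hs_cB f)
  { A := cB f
    ha := hopfB (cB f) (hs_cB f)
    cc := isCocomm_of_injective (inclB (cB f) (hs_cB f)) (inclB_injective _ _)
    ft := (Subalgebra.fg_iff_finiteType (cB f)).mp (fg_of_HS (cB f) (hs_cB f)) }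

/-- the cokernel projection -/
def cπ : Y ⟶ cObj f := ofB (inclB (cB f) (hs_cB f))

lemma cπ_inj : Function.Injective (toB (cπ f)) := inclB_injective (cB f) (hs_cB f)

lemma comp_cπ : f ≫ cπ f = 0 := by
  apply hom_ext'
  rw [toB_comp, toB_zero]
  have key : ∀ b : cB f, toB f (b : Y.A) =
      algebraMap k X.A (Coalgebra.counit (R := k) (b : Y.A)) := by
    intro b
    have hb : (b : Y.A) - algebraMap k Y.A (Coalgebra.counit (R := k) (b : Y.A)) ∈ cI f := by
      rw [cI_eq]
      exact sub_counit_mem_augJ _ b.2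
    rw [mem_cI, map_sub, sub_eq_zero, AlgHomClass.commutes] at hb
    exact hb
  exact BialgHom.ext fun b => key b

lemma range_le {Z : HObj k} (g : Y ⟶ Z) (hg : f ≫ g = 0) (z : Z.A) : toB g z ∈ cB f := by
  have h1 : ∀ w, toB f (toB g w) = algebraMap k X.A (Coalgebra.counit (R := k) w) :=
    fun w => congrArg (fun φ => toB φ w) hg
  unfold cB
  rw [mem_coinvI_iff]
  refine coinv_key (toB g) (Ideal.Quotient.mkₐ k (cI f)) (fun w => ?_) z
  have : toB g w - algebraMap k Y.A (Coalgebra.counit (R := k) w) ∈ cI f := by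
    rw [mem_cI, map_sub, h1 w, AlgHomClass.commutes, sub_self]
  have h2 := Ideal.Quotient.eq_zero_iff_mem.mpr this
  rw [map_sub, sub_eq_zero] at h2
  exact h2

/-- the descent from the cokernel -/
def cDesc {Z : HObj k} (g : Y ⟶ Z) (hg : f ≫ g = 0) : cObj f ⟶ Z :=
  ofB (factI (toB (cπ f)) (cπ_inj f) (toB g)
    (fun z => ⟨⟨toB g z, range_le f g hg z⟩, rfl⟩))

lemma cDesc_fac {Z : HObj k} (g : Y ⟶ Z) (hg : f ≫ g = 0) : cπ f ≫ cDesc f g hg = g := by
  apply hom_ext'
  rw [toB_comp]
  exact ι_comp_factI _ _ _ _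

/-- the cokernel cofork is a colimit -/
def cIsColimit : IsColimit (CokernelCofork.ofπ (cπ f) (comp_cπ f)) :=
  CokernelCofork.IsColimit.ofπ _ _ (fun g hg => cDesc f g hg) (fun g hg => cDesc_fac f g hg)
    (fun g hg m hm => by
      apply hom_ext'
      apply bialgHom_cancel_left (cπ_inj f)
      rw [← toB_comp, ← toB_comp, hm, cDesc_fac])

instance : HasCokernels (HObj k) := ⟨fun f => ⟨⟨⟨_, cIsColimit f⟩⟩⟩⟩

end cokernels

/-! ### monos and epis -/

section normal

variable {X Y : HObj k} (f : X ⟶ Y)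

lemma surj_of_mono [Mono f] : Function.Surjective (toB f) := by
  have h0 : kι f = 0 := by
    rw [← cancel_mono f, kι_comp, zero_comp]
  intro a
  have h1 : ∀ w : X.A, Ideal.Quotient.mkₐ k (kerJ f) (BialgHom.id k X.A w) =
      algebraMap k (X.A ⧸ kerJ f) (Coalgebra.counit (R := k) w) :=
    fun w => congrArg (fun φ => toB φ w) h0
  have h2 := coinv_key (BialgHom.id k X.A) (Ideal.Quotient.mkₐ k (kerJ f)) h1 a
  have h3 : a ∈ ((toB f : Y.A →ₐc[k] X.A) : Y.A →ₐ[k] X.A).range :=
    mem_of_coinv _ (hs_range (toB f)) (kerJ f) rfl a h2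
  obtain ⟨y, hy⟩ := h3
  exact ⟨y, hy⟩

lemma inj_of_epi [Epi f] : Function.Injective (toB f) := by
  have h0 : cπ f = 0 := by
    rw [← cancel_epi f, comp_cπ, comp_zero]
  have h1 : ∀ b : Y.A, b ∈ cB f → b = algebraMap k Y.A (Coalgebra.counit (R := k) b) := by
    intro b hb
    exact congrArg (fun φ => toB φ (⟨b, hb⟩ : (cObj f).A)) h0
  have h2 : cI f = ⊥ := by
    rw [cI_eq, eq_bot_iff]
    unfold augJ
    rw [Ideal.span_le]
    rintro a ⟨ha, hε⟩
    rw [h1 a ha, hε, map_zero]
    exact Ideal.zero_mem _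
  have h3 : Function.Injective ((toB f : Y.A →ₐc[k] X.A) : Y.A →+* X.A) :=
    (RingHom.injective_iff_ker_eq_bot _).mpr h2
  exact h3

lemma normalMono_aux {W : HObj k} (g : W ⟶ Y) (hg : g ≫ cπ f = 0) (a : Y.A)
    (ha : toB f a = 0) : toB g a = 0 := by
  have h1 : ∀ b : Y.A, b ∈ cB f →
      toB g b = algebraMap k W.A (Coalgebra.counit (R := k) b) := by
    intro b hb
    exact congrArg (fun φ => toB φ (⟨b, hb⟩ : (cObj f).A)) hg
  have hle : cI f ≤ RingHom.ker ((toB g : Y.A →ₐc[k] W.A) : Y.A →+* W.A) := by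
    rw [cI_eq]
    unfold augJ
    rw [Ideal.span_le]
    rintro b ⟨hb, hε⟩
    show toB g b = 0
    rw [h1 b hb, hε, map_zero]
  exact hle ((mem_cI f a).mpr ha)

lemma normalEpi_aux {Z : HObj k} (g : X ⟶ Z) (hg : kι f ≫ g = 0) (z : Z.A) :
    toB g z ∈ ((toB f : Y.A →ₐc[k] X.A) : Y.A →ₐ[k] X.A).range := by
  have h1 : ∀ w : Z.A, Ideal.Quotient.mkₐ k (kerJ f) (toB g w) =
      algebraMap k (X.A ⧸ kerJ f) (Coalgebra.counit (R := k) w) :=
    fun w => congrArg (fun φ => toB φ w) hg
  exact mem_of_coinv _ (hs_range (toB f)) (kerJ f) rfl (toB g z)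
    (coinv_key (toB g) (Ideal.Quotient.mkₐ k (kerJ f)) h1 z)

instance : IsNormalMonoCategory (HObj k) where
  normalMonoOfMono {X Y} f _ := ⟨
    { Z := cObj f
      g := cπ f
      w := comp_cπ f
      isLimit := KernelFork.IsLimit.ofι _ _
        (fun g hg => ofB (liftS (toB f) (surj_of_mono f) (toB g) (normalMono_aux f g hg)))
        (fun g hg => by
          apply hom_ext'
          rw [toB_comp]
          exact liftS_comp _ _ _ _)
        (fun g hg m hm => by
          apply hom_ext'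
          apply bialgHom_cancel_right (surj_of_mono f)
          rw [toB_ofB, liftS_comp, ← toB_comp, hm]) }⟩

instance : IsNormalEpiCategory (HObj k) where
  normalEpiOfEpi {X Y} f _ := ⟨
    { W := kObj f
      g := kι f
      w := kι_comp f
      isColimit := CokernelCofork.IsColimit.ofπ _ _
        (fun g hg => ofB (factI (toB f) (inj_of_epi f) (toB g) (normalEpi_aux f g hg)))
        (fun g hg => by
          apply hom_ext'
          rw [toB_comp]
          exact ι_comp_factI _ _ _ _)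
        (fun g hg m hm => by
          apply hom_ext'
          apply bialgHom_cancel_left (inj_of_epi f)
          rw [toB_ofB, ι_comp_factI, ← toB_comp, hm]) }⟩

end normal


/-! ### finite products -/

section products

variable (k) in
/-- the terminal object -/
def tObj : HObj k where
  A := k

/-- the terminal object is terminal -/
def tIsTerminal : IsTerminal (tObj k) :=
  IsTerminal.ofUniqueHom (fun X => ofB (Bialgebra.unitBialgHom k X.A))
    (fun X m => by
      have h : ∀ f g : k →ₐc[k] X.A, f = g :=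
        fun f g => BialgHom.ext_of_ring (by rw [map_one, map_one])
      exact h _ _)

instance : HasTerminal (HObj k) := (tIsTerminal (k := k)).hasTerminal

variable (X Y : HObj k)

/-- the product object -/
def pObj : HObj k where
  A := X.A ⊗[k] Y.A
  ft := Algebra.FiniteType.trans (inferInstance : Algebra.FiniteType k X.A)
    (inferInstance : Algebra.FiniteType X.A (X.A ⊗[k] Y.A))

/-- left inclusion as a bialgebra map -/
def inL : X.A →ₐc[k] X.A ⊗[k] Y.A :=
  (Bialgebra.TensorProduct.map (BialgHom.id k X.A) (Bialgebra.unitBialgHom k Y.A)).comp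
    ((Bialgebra.TensorProduct.rid k k X.A).symm : X.A →ₐc[k] X.A ⊗[k] k)

lemma inL_apply (a : X.A) : inL X Y a = a ⊗ₜ[k] (1 : Y.A) := by
  show (Bialgebra.TensorProduct.map (BialgHom.id k X.A) (Bialgebra.unitBialgHom k Y.A))
    ((Bialgebra.TensorProduct.rid k k X.A).symm a) = _
  rw [Bialgebra.TensorProduct.rid_symm_apply, Bialgebra.TensorProduct.map_tmul, map_one]
  rfl

/-- right inclusion as a bialgebra map -/
def inR : Y.A →ₐc[k] X.A ⊗[k] Y.A :=
  (Bialgebra.TensorProduct.map (Bialgebra.unitBialgHom k X.A) (BialgHom.id k Y.A)).comp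
    ((Bialgebra.TensorProduct.lid k Y.A).symm : Y.A →ₐc[k] k ⊗[k] Y.A)

lemma inR_apply (b : Y.A) : inR X Y b = (1 : X.A) ⊗ₜ[k] b := by
  show (Bialgebra.TensorProduct.map (Bialgebra.unitBialgHom k X.A) (BialgHom.id k Y.A))
    ((Bialgebra.TensorProduct.lid k Y.A).symm b) = _
  rw [Bialgebra.TensorProduct.lid_symm_apply, Bialgebra.TensorProduct.map_tmul, map_one]
  rfl

/-- first projection -/
def pFst : pObj X Y ⟶ X := ofB (inL X Y)

/-- second projection -/
def pSnd : pObj X Y ⟶ Y := ofB (inR X Y)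

variable {X Y}

/-- the pairing -/
def pLift {W : HObj k} (f : W ⟶ X) (g : W ⟶ Y) : W ⟶ pObj X Y :=
  ofB ((Bialgebra.mulBialgHom k W.A).comp (Bialgebra.TensorProduct.map (toB f) (toB g)))

lemma pLift_apply {W : HObj k} (f : W ⟶ X) (g : W ⟶ Y) (a : X.A) (b : Y.A) :
    toB (pLift f g) (a ⊗ₜ[k] b) = toB f a * toB g b := by
  show (Bialgebra.mulBialgHom k W.A) ((Bialgebra.TensorProduct.map (toB f) (toB g)) (a ⊗ₜ[k] b)) = _
  rw [Bialgebra.TensorProduct.map_tmul, Bialgebra.coe_mulBialgHom, LinearMap.mul'_apply]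

lemma pLift_uniq {W : HObj k} (f : W ⟶ X) (g : W ⟶ Y) (m : W ⟶ pObj X Y)
    (h1 : m ≫ pFst X Y = f) (h2 : m ≫ pSnd X Y = g) : m = pLift f g := by
  apply hom_ext'
  let φ : X.A ⊗[k] Y.A →ₐc[k] W.A := toB m
  let ψ : X.A ⊗[k] Y.A →ₐc[k] W.A := toB (pLift f g)
  show φ = ψ
  have e1 : ∀ a : X.A, φ (a ⊗ₜ[k] (1 : Y.A)) = toB f a := by
    intro a
    rw [← inL_apply]
    exact congrArg (fun φ => toB φ a) h1
  have e2 : ∀ b : Y.A, φ ((1 : X.A) ⊗ₜ[k] b) = toB g b := by
    intro b
    rw [← inR_apply]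
    exact congrArg (fun φ => toB φ b) h2
  refine BialgHom.ext fun z => ?_
  induction z using TensorProduct.induction_on with
  | zero => rw [map_zero, map_zero]
  | tmul a b =>
    have h3 : ψ (a ⊗ₜ[k] b) = toB f a * toB g b := pLift_apply f g a b
    have h4 : a ⊗ₜ[k] b = (a ⊗ₜ[k] (1 : Y.A)) * ((1 : X.A) ⊗ₜ[k] b) := by
      rw [Algebra.TensorProduct.tmul_mul_tmul, mul_one, one_mul]
    rw [h3, ← e1, ← e2, ← map_mul, ← h4]
  | add x y hx hy => rw [map_add, map_add, hx, hy]

variable (X Y)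

/-- the product fan is a limit -/
def pIsLimit : IsLimit (BinaryFan.mk (pFst X Y) (pSnd X Y)) :=
  BinaryFan.IsLimit.mk _ (fun f g => pLift f g)
    (fun f g => hom_ext' (BialgHom.ext fun a => by
      show toB (pLift f g) (inL X Y a) = toB f a
      rw [inL_apply, pLift_apply, map_one, mul_one]))
    (fun f g => hom_ext' (BialgHom.ext fun b => by
      show toB (pLift f g) (inR X Y b) = toB g b
      rw [inR_apply, pLift_apply, map_one, one_mul]))
    (fun f g m h1 h2 => pLift_uniq f g m h1 h2)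

instance : HasBinaryProducts (HObj k) :=
  haveI : ∀ {X Y : HObj k}, HasLimit (pair X Y) := fun {X Y} => ⟨⟨⟨_, pIsLimit X Y⟩⟩⟩
  hasBinaryProducts_of_hasLimit_pair _

instance : HasFiniteProducts (HObj k) := hasFiniteProducts_of_has_binary_and_terminal

end products

end

end Groth.Agent.Lib.Helper4.AbCatH1
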