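import Mathlib
import Groth.Agent.Lib.Helper4.AbCatH1

/-!
# Commutative affine algebraic groups over a field form an abelian category (via the equivalence with finitely generated commutative cocommutative Hopf algebras) (helper4)
-/

set_option backward.isDefEq.respectTransparency.types false
set_option synthInstance.maxHeartbeats 400000
set_option autoImplicit false
set_option linter.unusedSectionVars false
set_option linter.style.haveILetI false
set_option linter.unusedSimpArgs false
universe u v w
open CategoryTheory
open CategoryTheory.Limits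
open MonoidalCategory
open CartesianMonoidalCategory
open MonObj
open AlgebraicGeometry
open scoped TensorProduct
open WithConv
open Groth.Agent.Lib.Helper4.AbCatH1

namespace Groth.Agent.Lib.Helper4.AbCatS1

noncomputable section

section preadd

variable {C : Type v} [Category.{w} C] [CartesianMonoidalCategory C] [BraidedCategory C]

/-- morphisms of commutative group objects as morphisms of group objects -/
def homE (G H : CommGrp C) : (G ⟶ H) ≃ (G.toGrp ⟶ H.toGrp) := InducedCategory.homEquiv

lemma homE_comp {G H K : CommGrp C} (f : G ⟶ H) (g : H ⟶ K) :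
    homE G K (f ≫ g) = homE G H f ≫ homE H K g := rfl

instance homAddCommGroup (G H : CommGrp C) : AddCommGroup (G ⟶ H) :=
  ((homE G H).trans Additive.ofMul).addCommGroup

lemma homE_add {G H : CommGrp C} (f f' : G ⟶ H) :
    homE G H (f + f') = homE G H f * homE G H f' := by
  rw [Equiv.add_def]
  simp

instance : Preadditive (CommGrp C) where
  homGroup G H := inferInstance
  add_comp G H K f f' g := by
    apply (homE G K).injective
    rw [homE_comp, homE_add, homE_add, homE_comp, homE_comp]
    exact MonObj.mul_comp _ _ _
  comp_add G H K f g g' := by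
    apply (homE G K).injective
    rw [homE_comp, homE_add, homE_add, homE_comp, homE_comp]
    exact MonObj.comp_mul _ _ _

end preadd


section equivalence

variable (k : Type u) [Field k]

/-- schemes over `Spec k` -/
abbrev CC := Over (Spec (CommRingCat.of k))

/-- the property cutting out commutative affine algebraic groups -/
abbrev PP : ObjectProperty (CommGrp (CC k)) :=
  fun G => LocallyOfFiniteType G.X.hom ∧ QuasiCompact G.X.hom ∧ IsAffine G.X.left

/-- commutative affine algebraic groups -/
abbrev AA := (PP k).FullSubcategory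

/-- to Hopf algebras -/
def toHopfOp : HObj k ⥤ (CommHopfAlgCat.{u} (CommRingCat.of k))ᵒᵖ where
  obj X := Opposite.op (CommHopfAlgCat.of k X.A)
  map f := (CommHopfAlgCat.ofHom (toB f)).op
  map_id X := rfl
  map_comp f g := rfl

instance : (toHopfOp k).Faithful where
  map_injective {X Y} f g h := by
    have h1 := congrArg (fun t => t.unop.hom) h
    exact h1

instance : (toHopfOp k).Full where
  map_surjective {X Y} g := ⟨ofB g.unop.hom, rfl⟩

/-- to group schemes -/
def Ψ : HObj k ⥤ Grp (CC k) := toHopfOp k ⋙ hopfSpec (CommRingCat.of k)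

instance : (Ψ k).Full := by
  haveI h1 : (hopfSpec (CommRingCat.of k)).Full := hopfSpec.instFull
  haveI h2 : (toHopfOp k).Full := inferInstance
  exact Functor.Full.comp (toHopfOp k) (hopfSpec (CommRingCat.of k))

instance : (Ψ k).Faithful := by
  haveI h1 : (hopfSpec (CommRingCat.of k)).Faithful := hopfSpec.instFaithful
  haveI h2 : (toHopfOp k).Faithful := inferInstance
  exact Functor.Faithful.comp (toHopfOp k) (hopfSpec (CommRingCat.of k))

instance ΨX_comm (X : HObj k) : IsCommMonObj ((Ψ k).obj X).X :=
  isCommMonObj_spec_asOver_spec (R := CommRingCat.of k) (A := CommRingCat.of X.A)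

/-- the commutative group scheme of a Hopf algebra -/
def ΨcObj (X : HObj k) : CommGrp (CC k) := ⟨((Ψ k).obj X).X⟩

lemma hP (X : HObj k) : PP k (ΨcObj k X) := by
  refine ⟨?_, ?_, ?_⟩
  · show LocallyOfFiniteType (Spec.map (CommRingCat.ofHom (algebraMap k X.A)))
    rw [HasRingHomProperty.Spec_iff (P := @LocallyOfFiniteType)]
    exact RingHom.finiteType_algebraMap.mpr inferInstance
  · show QuasiCompact (Spec.map (CommRingCat.ofHom (algebraMap k X.A)))
    infer_instance
  · show IsAffine (Spec (CommRingCat.of X.A))
    infer_instance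

/-- to commutative group schemes -/
def Ψc : HObj k ⥤ CommGrp (CC k) where
  obj X := ΨcObj k X
  map f := (homE _ _).symm ((Ψ k).map f)
  map_id X := (homE _ _).injective ((Ψ k).map_id X)
  map_comp f g := (homE _ _).injective ((Ψ k).map_comp f g)

lemma homE_Ψc_map {X Y : HObj k} (f : X ⟶ Y) :
    homE _ _ ((Ψc k).map f) = (Ψ k).map f := rfl

instance : (Ψc k).Faithful where
  map_injective {X Y} f g h := (Ψ k).map_injective (congrArg (homE _ _) h)

instance : (Ψc k).Full where
  map_surjective {X Y} g := by
    obtain ⟨f, hf⟩ := (Ψ k).map_surjective (homE _ _ g)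
    exact ⟨f, (homE _ _).injective hf⟩

/-- to commutative affine algebraic groups -/
def Φ : HObj k ⥤ AA k := (PP k).lift (Ψc k) (hP k)

instance : (Φ k).Faithful := by
  unfold Φ
  infer_instance

instance : (Φ k).Full := by
  unfold Φ
  infer_instance

/-- commutativity of points transported along a monoid isomorphism -/
lemma comm_pts {M G : CC k} [MonObj M] [MonObj G] [IsCommMonObj G] (e : M ≅ G) [IsMonHom e.hom]
    {T : CC k} (a b : T ⟶ M) : a * b = b * a := by
  have h : (a * b) ≫ e.hom = (b * a) ≫ e.hom := by
    rw [MonObj.mul_comp, MonObj.mul_comp, mul_comm]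
  exact (cancel_mono e.hom).mp h

lemma isCocomm_of_comm (A : Type u) [CommRing A] [HopfAlgebra k A]
    (h : ∀ a b : (Spec (.of (A ⊗[k] A))).asOver (Spec (.of k)) ⟶
      (Spec (.of A)).asOver (Spec (.of k)), a * b = b * a) :
    Coalgebra.IsCocomm k A := by
  let MA := Spec.mapMulEquiv (R := k) (S := A) (T := A ⊗[k] A)
  let ι₁ : A →ₐ[k] A ⊗[k] A := Algebra.TensorProduct.includeLeft
  let ι₂ : A →ₐ[k] A ⊗[k] A := Algebra.TensorProduct.includeRight
  have hc : toConv ι₁ * toConv ι₂ = toConv ι₂ * toConv ι₁ := by
    apply MA.injective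
    rw [map_mul, map_mul]
    exact h _ _
  refine ⟨LinearMap.ext fun a => ?_⟩
  have h1 := congrArg (fun f => f a) hc
  have k1 : ∀ z : A ⊗[k] A,
      Algebra.TensorProduct.lift ι₁ ι₂ (fun _ _ => .all ..) z = z := by
    intro z
    induction z using TensorProduct.induction_on with
    | zero => simp
    | tmul x y => simp [ι₁, ι₂]
    | add x y hx hy => simp only [map_add, hx, hy]
  have k2 : ∀ z : A ⊗[k] A,
      Algebra.TensorProduct.lift ι₂ ι₁ (fun _ _ => .all ..) z = TensorProduct.comm k A A z := by
    intro z
    induction z using TensorProduct.induction_on with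
    | zero => simp
    | tmul x y => simp [ι₁, ι₂]
    | add x y hx hy => simp only [map_add, hx, hy]
  have e1 : (toConv ι₁ * toConv ι₂) a = Coalgebra.comul (R := k) a := by
    rw [AlgHom.convMul_apply]
    exact k1 _
  have e2 : (toConv ι₂ * toConv ι₁) a = TensorProduct.comm k A A (Coalgebra.comul (R := k) a) := by
    rw [AlgHom.convMul_apply]
    exact k2 _
  show TensorProduct.comm k A A (Coalgebra.comul (R := k) a) = Coalgebra.comul (R := k) a
  rw [← e2, ← e1]
  exact h1.symm

instance : (Φ k).EssSurj where
  mem_essImage G := by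
    obtain ⟨hlft, hqc, haff⟩ := G.property
    have h1 : (hopfSpec (CommRingCat.of k)).essImage G.obj.toGrp := by
      rw [essImage_hopfSpec]
      exact haff
    obtain ⟨Hop, ⟨e⟩⟩ := h1
    let e0 : (Spec (.of Hop.unop)).asOver (Spec (.of k)) ≅ G.obj.X := (Grp.forget _).mapIso e
    haveI hm0 : IsMonHom e0.hom := inferInstanceAs (IsMonHom e.hom.hom.hom)
    have hft : Algebra.FiniteType k Hop.unop := by
      have hw : e0.hom.left ≫ G.obj.X.hom =
          Spec.map (CommRingCat.ofHom (algebraMap k Hop.unop)) := Over.w e0.hom
      haveI : LocallyOfFiniteType (Spec.map (CommRingCat.ofHom (algebraMap k Hop.unop))) := by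
        rw [← hw]
        haveI hi0 : IsIso e0.hom.left := inferInstanceAs (IsIso ((Over.forget _).map e0.hom))
        haveI t1 : LocallyOfFiniteType e0.hom.left := inferInstance
        exact MorphismProperty.comp_mem (W := @LocallyOfFiniteType) _ _ t1 hlft
      have h3 : RingHom.FiniteType (CommRingCat.ofHom (algebraMap k Hop.unop)).hom :=
        HasRingHomProperty.Spec_iff.mp ‹_›
      exact RingHom.finiteType_algebraMap.mp h3
    have hcc : Coalgebra.IsCocomm k Hop.unop :=
      isCocomm_of_comm k Hop.unop (fun a b => comm_pts k e0 a b)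
    let X : HObj k := { A := Hop.unop, cc := hcc, ft := hft }
    exact ⟨X, ⟨(PP k).isoMk ((CommGrp.fullyFaithfulForget₂Grp _).preimageIso e)⟩⟩

instance : (Φ k).IsEquivalence where

end equivalence


section final

variable (k : Type u) [Field k]

/-- the inverse equivalence -/
abbrev FF : AA k ⥤ HObj k := (Φ k).inv

instance : IsNormalMonoCategory (AA k) where
  normalMonoOfMono f _ :=
    ⟨equivalenceReflectsNormalMono (FF k) (normalMonoOfMono ((FF k).map f))⟩

instance : IsNormalEpiCategory (AA k) where
  normalEpiOfEpi f _ :=
    ⟨equivalenceReflectsNormalEpi (FF k) (normalEpiOfEpi ((FF k).map f))⟩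

instance : HasFiniteProducts (AA k) :=
  ⟨fun n => Adjunction.hasLimitsOfShape_of_equivalence (FF k)⟩

/-- the comparison of parallel pairs -/
def ppIso {G H : AA k} (f : G ⟶ H) :
    parallelPair ((FF k).map f) 0 ≅ parallelPair f 0 ⋙ FF k :=
  parallelPair.eqOfHomEq rfl ((FF k).map_zero _ _).symm ≪≫
    (diagramIsoParallelPair (parallelPair f 0 ⋙ FF k)).symm

instance : HasKernels (AA k) where
  has_limit {G H} f := by
    haveI : HasLimit (parallelPair ((FF k).map f) 0) :=
      inferInstanceAs (HasKernel ((FF k).map f))
    haveI : HasLimit (parallelPair f 0 ⋙ FF k) := hasLimit_of_iso (ppIso k f)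
    exact Adjunction.hasLimit_of_comp_equivalence (parallelPair f 0) (FF k)

instance : HasCokernels (AA k) where
  has_colimit {G H} f := by
    haveI : HasColimit (parallelPair ((FF k).map f) 0) :=
      inferInstanceAs (HasCokernel ((FF k).map f))
    haveI : HasColimit (parallelPair f 0 ⋙ FF k) := hasColimit_of_iso (ppIso k f).symm
    exact Adjunction.hasColimit_of_comp_equivalence (parallelPair f 0) (FF k)

theorem main : Nonempty (Abelian (ObjectProperty.FullSubcategory
    (fun G : CommGrp (Over (Spec (CommRingCat.of k))) =>
      LocallyOfFiniteType G.X.hom ∧ QuasiCompact G.X.hom ∧ IsAffine G.X.left))) :=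
  ⟨{ toPreadditive := inferInstanceAs (Preadditive (AA k))
     toIsNormalMonoCategory := inferInstanceAs (IsNormalMonoCategory (AA k))
     toIsNormalEpiCategory := inferInstanceAs (IsNormalEpiCategory (AA k))
     has_finite_products := inferInstanceAs (HasFiniteProducts (AA k))
     has_kernels := inferInstanceAs (HasKernels (AA k))
     has_cokernels := inferInstanceAs (HasCokernels (AA k)) }⟩

end final

end

end Groth.Agent.Lib.Helper4.AbCatS1
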