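import Mathlib
import Groth.Prelude.Def_AlgGrp
import Groth.Prelude.Def_SGA7IX
import Groth.Agent.Lib.Helper4.Rigidity1
import Groth.Agent.Lib.Helper4.GrpConn1
import Groth.Agent.Lib.Helper2.Sch.GrpHomAb

/-!
# Abelian subvarieties of smooth connected groups are central (rigidity); A x N -> G isogeny (helper4)
-/

set_option backward.isDefEq.respectTransparency.types false
set_option synthInstance.maxHeartbeats 400000
set_option autoImplicit false
set_option linter.unusedSectionVars false
set_option linter.style.haveILetI false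
set_option linter.unusedSimpArgs false
universe u v w
open CategoryTheory CategoryTheory.Limits AlgebraicGeometry TopologicalSpace Opposite
open MonoidalCategory CartesianMonoidalCategory MonObj GrpObj

namespace Groth.Agent.Lib.Helper4.AbCentral1

variable {k : Type u} [Field k]

/-- a smooth connected group scheme over a field is geometrically integral -/
theorem geometricallyIntegral_of_smooth_connected (G : Over (Spec (CommRingCat.of k))) [GrpObj G]
    [Smooth G.hom] [ConnectedSpace G.left] : GeometricallyIntegral G.hom := by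
  haveI : GeometricallyReduced G.hom := Groth.Agent.Helper2.GrpHom.geometricallyReduced_of_smooth _
  haveI : IrreducibleSpace G.left := Groth.Agent.Lib.Helper4.GrpConn1.main_S0348 k G
  haveI : GeometricallyIrreducible G.hom := by
    have h := Groth.Agent.Lib.Helper4.GrpIrr2.S7517_main k G G.left (𝟙 _) (by
      rw [Scheme.Hom.id_base, TopCat.coe_id, Set.range_id]
      have : irreducibleComponents G.left = {Set.univ} := irreducibleComponents_eq_singleton
      rw [this]; rfl) (by
      rw [Scheme.Hom.id_base, TopCat.coe_id, Set.range_id]; trivial)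
    rwa [Category.id_comp] at h
  exact GeometricallyIntegral.of_geometricallyReduced_of_geometricallyIrreducible _


section Central
variable (G A : Over (Spec (CommRingCat.of k))) [GrpObj G] [GrpObj A] [Smooth G.hom]
  [ConnectedSpace G.left]
  (j : A ⟶ G) [IsMonHom j] [Smooth A.hom] [ConnectedSpace A.left] [IsProper A.hom]

theorem commutator_trivial :
    (fst A G ≫ j) * snd A G * (fst A G ≫ j)⁻¹ * (snd A G)⁻¹ = 1 := by
  haveI := geometricallyIntegral_of_smooth_connected G
  haveI := geometricallyIntegral_of_smooth_connected A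
  haveI : IsSeparated G.hom := Groth.Agent.Lib.Helper6.GrpSch.Sep.isSeparated_of_subsingleton G
  have h1 : (toUnit A ≫ η[G] : A ⟶ G) = 1 := rfl
  have h2 : (toUnit G ≫ η[G] : G ⟶ G) = 1 := rfl
  have key := Groth.Agent.Lib.Helper4.Rigidity1.rigidity A G G
    ((fst A G ≫ j) * snd A G * (fst A G ≫ j)⁻¹ * (snd A G)⁻¹) η[A] η[G] η[G] ?_ ?_
  · rw [key]; rfl
  · rw [MonObj.comp_mul, MonObj.comp_mul, MonObj.comp_mul, GrpObj.comp_inv, GrpObj.comp_inv,
      ← Category.assoc, lift_fst, lift_snd, Category.id_comp, h1]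
    simp
  · rw [MonObj.comp_mul, MonObj.comp_mul, MonObj.comp_mul, GrpObj.comp_inv, GrpObj.comp_inv,
      ← Category.assoc, lift_fst, lift_snd, Category.assoc, IsMonHom.one_hom, h2]
    simp

theorem comm_of_proper {T : Over (Spec (CommRingCat.of k))} (x : T ⟶ A) (g : T ⟶ G) :
    (x ≫ j) * g = g * (x ≫ j) := by
  have h := congrArg (fun c => lift x g ≫ c) (commutator_trivial G A j)
  simp only [MonObj.comp_mul, GrpObj.comp_inv, ← Category.assoc, lift_fst, lift_snd,
    MonObj.comp_one] at h
  rw [mul_inv_eq_one, mul_inv_eq_iff_eq_mul] at h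
  exact h

end Central


section MulHom
variable {C : Type*} [Category C] [CartesianMonoidalCategory C]

theorem mul_comp_eq {M G : C} [MonObj M] [MonObj G] (α : M ⟶ G) [IsMonHom α] :
    μ[M] ≫ α = (fst M M ≫ α) * (snd M M ≫ α) := by
  rw [IsMonHom.mul_hom, MonObj.mul_eq_mul, MonObj.comp_mul, tensorHom_fst, tensorHom_snd]

theorem tensorHom_mul_eq {M G : C} [MonObj G] (γ' : M ⟶ G) :
    (γ' ⊗ₘ γ') ≫ μ[G] = (fst M M ≫ γ') * (snd M M ≫ γ') := by
  rw [MonObj.mul_eq_mul, MonObj.comp_mul, tensorHom_fst, tensorHom_snd]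

/-- the pointwise product of two commuting homomorphisms is a homomorphism -/
theorem isMonHom_mul {M G : C} [MonObj M] [MonObj G] (α β : M ⟶ G) [IsMonHom α] [IsMonHom β]
    (hc : (snd M M ≫ α) * (fst M M ≫ β) = (fst M M ≫ β) * (snd M M ≫ α)) :
    IsMonHom (α * β) where
  one_hom := by
    rw [MonObj.comp_mul, IsMonHom.one_hom, IsMonHom.one_hom, MonObj.one_eq_one, _root_.mul_one]
  mul_hom := by
    rw [tensorHom_mul_eq, MonObj.comp_mul, MonObj.comp_mul, MonObj.comp_mul, mul_comp_eq α,
      mul_comp_eq β]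
    calc fst M M ≫ α * snd M M ≫ α * (fst M M ≫ β * snd M M ≫ β)
        = fst M M ≫ α * (snd M M ≫ α * fst M M ≫ β) * snd M M ≫ β := by
          simp only [_root_.mul_assoc]
      _ = fst M M ≫ α * (fst M M ≫ β * snd M M ≫ α) * snd M M ≫ β := by rw [hc]
      _ = _ := by simp only [_root_.mul_assoc]

end MulHom


section Fin

/-- a scheme which is a closed subscheme of both a proper scheme and an affine scheme (via a pullback
of closed immersions) is finite over the base field -/
theorem isFinite_of_isPullback {X N A G : Over (Spec (CommRingCat.of k))}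
    (n : X ⟶ N) (a : X ⟶ A) (i : N ⟶ G) (j' : A ⟶ G) (h : IsPullback n a i j')
    [IsClosedImmersion i.left] [IsClosedImmersion j'.left] [IsAffine N.left] [IsProper A.hom] :
    IsFinite X.hom := by
  have h' := h.map (Over.forget _)
  simp only [Over.forget_obj, Over.forget_map] at h'
  haveI : IsClosedImmersion n.left :=
    MorphismProperty.of_isPullback (P := @IsClosedImmersion) h'.flip inferInstance
  haveI : IsClosedImmersion a.left :=
    MorphismProperty.of_isPullback (P := @IsClosedImmersion) h' inferInstance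
  haveI : IsAffine X.left := isAffine_of_isAffineHom n.left
  haveI : IsProper X.hom := by rw [← Over.w a]; infer_instance
  rw [IsFinite.iff_isProper_and_isAffineHom]
  exact ⟨inferInstance, inferInstance⟩

end Fin


section Ker
variable {G N A Q : Over (Spec (CommRingCat.of k))} [GrpObj G] [GrpObj N] [GrpObj A] [GrpObj Q]
  (i : N ⟶ G) [IsMonHom i] (π : G ⟶ Q) [IsMonHom π] (hker : AlgGrp.IsKernel i π)
  (j : A ⟶ G) [IsMonHom j]

theorem m_eq : (j ⊗ₘ i) ≫ μ[G] = (fst A N ≫ j) * (snd A N ≫ i) := by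
  rw [MonObj.mul_eq_mul, MonObj.comp_mul, tensorHom_fst, tensorHom_snd]

/-- kernel of `A × N → G` as the pullback of `i` and `a ↦ j(a)⁻¹` -/
theorem isPullback_ker_mul {Nk : Over (Spec (CommRingCat.of k))} (ik : Nk ⟶ A ⊗ N)
    (h : AlgGrp.IsKernel ik ((j ⊗ₘ i) ≫ μ[G])) :
    IsPullback (ik ≫ snd A N) (ik ≫ fst A N) i (j ≫ ι[G]) := by
  have hw : ik ≫ ((fst A N ≫ j) * (snd A N ≫ i)) = 1 := by
    rw [← m_eq]; exact h.w
  have comm : (ik ≫ snd A N) ≫ i = (ik ≫ fst A N) ≫ j ≫ ι[G] := by
    rw [MonObj.comp_mul, mul_eq_one_iff_eq_inv'] at hw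
    rw [Category.assoc, Category.assoc, ← Category.assoc (fst A N), ← Category.assoc ik,
      ← Hom.inv_def]
    rw [← Category.assoc, ← Category.assoc] at hw
    rw [GrpObj.comp_inv, hw, Category.assoc]
  refine ⟨⟨comm⟩, ⟨PullbackCone.IsLimit.mk comm
    (fun s => h.lift (lift s.snd s.fst) (toUnit _) ?_) ?_ ?_ ?_⟩⟩
  · rw [m_eq, MonObj.comp_mul, ← Category.assoc, ← Category.assoc, lift_fst, lift_snd]
    have hc : s.fst ≫ i = (s.snd ≫ j)⁻¹ := by
      rw [Hom.inv_def, Category.assoc]; exact s.condition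
    rw [hc, mul_inv_cancel]
    rfl
  · intro s
    rw [← Category.assoc, h.lift_fst, lift_snd]
  · intro s
    rw [← Category.assoc, h.lift_fst, lift_fst]
  · intro s m h1 h2
    apply h.hom_ext
    · rw [h.lift_fst]
      apply CartesianMonoidalCategory.hom_ext
      · rw [lift_fst, Category.assoc, h2]
      · rw [lift_snd, Category.assoc, h1]
    · exact toUnit_unique _ _



include hker in
/-- kernel of `A → G → Q` as the pullback of `i` and `j` -/
theorem isPullback_ker_comp {N' : Over (Spec (CommRingCat.of k))} (i' : N' ⟶ A)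
    (h : AlgGrp.IsKernel i' (j ≫ π)) :
    ∃ n' : N' ⟶ N, IsPullback n' i' i j := by
  have hw : (i' ≫ j) ≫ π = toUnit N' ≫ η[Q] := by rw [Category.assoc]; exact h.w
  let n' : N' ⟶ N := hker.lift (i' ≫ j) (toUnit N') hw
  have comm : n' ≫ i = i' ≫ j := hker.lift_fst _ _ _
  refine ⟨n', ⟨⟨comm⟩, ⟨PullbackCone.IsLimit.mk comm
    (fun s => h.lift s.snd (toUnit _) ?_) ?_ ?_ ?_⟩⟩⟩
  · rw [← Category.assoc, ← s.condition, Category.assoc, hker.w, ← Category.assoc]
    congr 1
    exact toUnit_unique _ _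
  · intro s
    apply hker.hom_ext
    · rw [Category.assoc, comm, ← Category.assoc, h.lift_fst, s.condition]
    · exact toUnit_unique _ _
  · intro s
    rw [h.lift_fst]
  · intro s m h1 h2
    apply h.hom_ext
    · rw [h.lift_fst, h2]
    · exact toUnit_unique _ _

end Ker


theorem main (k : Type u) [Field k] [IsAlgClosed k]
    (G N A Q : Over (Spec (CommRingCat.of k))) [GrpObj G] [GrpObj N] [GrpObj A] [GrpObj Q]
    [Smooth G.hom] [QuasiCompact G.hom] [ConnectedSpace ↥G.left]
    (i : N ⟶ G) [IsMonHom i] [IsClosedImmersion i.left] [IsAffine N.left]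
    (π : G ⟶ Q) [IsMonHom π] [Flat π.left] [Surjective π.left] (hker : AlgGrp.IsKernel i π)
    (j : A ⟶ G) [IsMonHom j] [IsClosedImmersion j.left] [Smooth A.hom] [ConnectedSpace ↥A.left] [IsProper A.hom]
    (hsurj : Surjective ((j ⊗ₘ i) ≫ μ[G]).left) :
    IsMonHom ((j ⊗ₘ i) ≫ μ[G]) ∧ SGA7.IsIsogenyOver ((j ⊗ₘ i) ≫ μ[G]) ∧ SGA7.IsIsogenyOver (j ≫ π) := by
  haveI : IsIso ι[G].left := inferInstanceAs (IsIso ((Over.forget _).map ι[G]))
  haveI : IsClosedImmersion (j ≫ ι[G]).left := by rw [Over.comp_left]; infer_instance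
  have hπs : Surjective π.left := inferInstance
  refine ⟨?_, ⟨hsurj, fun Nk ik h =>
    isFinite_of_isPullback _ _ i (j ≫ ι[G]) (isPullback_ker_mul i j ik h)⟩, ⟨⟨fun q => ?_⟩, ?_⟩⟩
  · rw [m_eq]
    apply isMonHom_mul
    have := comm_of_proper G A j (snd (A ⊗ N) (A ⊗ N) ≫ fst A N)
      (fst (A ⊗ N) (A ⊗ N) ≫ snd A N ≫ i)
    simpa only [Category.assoc] using this
  · obtain ⟨g, rfl⟩ := hπs.surj q
    obtain ⟨z, rfl⟩ := hsurj.surj g
    refine ⟨(fst A N).left z, ?_⟩
    have e : ((j ⊗ₘ i) ≫ μ[G]) ≫ π = fst A N ≫ j ≫ π := by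
      have h1 : snd A N ≫ toUnit N ≫ η[Q] = 1 := by
        rw [← Category.assoc, toUnit_unique (snd A N ≫ toUnit N) (toUnit _)]; rfl
      rw [m_eq, MonObj.mul_comp, Category.assoc, Category.assoc, hker.w, h1, _root_.mul_one]
    rw [← Scheme.Hom.comp_apply, ← Over.comp_left, ← Scheme.Hom.comp_apply, ← Over.comp_left, e]
  · intro N' i' h
    obtain ⟨n', hp⟩ := isPullback_ker_comp i π hker j i' h
    exact isFinite_of_isPullback n' i' i j hp

end Groth.Agent.Lib.Helper4.AbCentral1
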