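import Mathlib
import Groth.Prelude.Def_AlgGrp

/-!
# infinitesimal points of group schemes: additivity of the group law on points congruent to the unit modulo a square-zero ideal, n-th power acts as multiplication by n (helper4)
-/

set_option backward.isDefEq.respectTransparency.types false
set_option synthInstance.maxHeartbeats 400000
set_option autoImplicit false
set_option linter.unusedSectionVars false
set_option linter.style.haveILetI false
set_option linter.unusedSimpArgs false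
universe u v w
open CategoryTheory CategoryTheory.Limits AlgebraicGeometry TopologicalSpace Opposite
open MonoidalCategory CartesianMonoidalCategory MonObj GrpObj

namespace Groth.Agent.Lib.Helper4.InfGrp1

section Alg
variable {C R : Type u} [CommRing C] [CommRing R] (I : Ideal R) (hI : I ^ 2 = ⊥)
include hI

lemma mul_eq_zero_of_mem {x y : R} (hx : x ∈ I) (hy : y ∈ I) : x * y = 0 := by
  have h : x * y ∈ I ^ 2 := by rw [pow_two]; exact Ideal.mul_mem_mul hx hy
  rw [hI] at h; exact h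

/-- `c ↦ h c + u (f c - h c) + v (g c - h c)` is a ring hom when `f ≡ g ≡ h` mod a square zero
ideal. -/
def lin (h f g : C →+* R) (hf : ∀ c, f c - h c ∈ I) (hg : ∀ c, g c - h c ∈ I) (u v : R) :
    C →+* R where
  toFun c := h c + u * (f c - h c) + v * (g c - h c)
  map_one' := by simp
  map_zero' := by simp
  map_add' a b := by simp only [map_add]; ring
  map_mul' a b := by
    have e1 := mul_eq_zero_of_mem I hI (hf a) (hf b)
    have e2 := mul_eq_zero_of_mem I hI (hf a) (hg b)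
    have e3 := mul_eq_zero_of_mem I hI (hg a) (hf b)
    have e4 := mul_eq_zero_of_mem I hI (hg a) (hg b)
    simp only [map_mul]
    linear_combination (u - u ^ 2) * e1 + (v - v ^ 2) * e4 - u * v * e2 - u * v * e3

lemma lin_apply (h f g : C →+* R) (hf : ∀ c, f c - h c ∈ I) (hg : ∀ c, g c - h c ∈ I) (u v : R)
    (c : C) : lin I hI h f g hf hg u v c = h c + u * (f c - h c) + v * (g c - h c) := rfl

end Alg

section Thick
variable {R R₀ : CommRingCat.{u}} (φ : R ⟶ R₀) (hφ : Function.Surjective φ.hom)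
  (hI : RingHom.ker φ.hom ^ 2 = ⊥)
include hφ hI

lemma surjective_specMap : Function.Surjective (Spec.map φ).base := by
  intro p
  have h1 : Set.range (PrimeSpectrum.comap φ.hom) = PrimeSpectrum.zeroLocus (RingHom.ker φ.hom) :=
    range_comap_of_surjective _ φ.hom hφ
  have h2 : (p : PrimeSpectrum R) ∈ PrimeSpectrum.zeroLocus (RingHom.ker φ.hom : Set R) := by
    intro x hx
    have : x * x = 0 := mul_eq_zero_of_mem _ hI hx hx
    have h3 : x * x ∈ (p : PrimeSpectrum R).asIdeal := by rw [this]; exact zero_mem _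
    rcases (p : PrimeSpectrum R).isPrime.mem_or_mem h3 with h | h <;> exact h
  rw [← h1] at h2
  obtain ⟨q, hq⟩ := h2
  exact ⟨q, hq⟩

lemma base_eq_of_comp_eq {Y : Scheme.{u}} (k k' : Spec R ⟶ Y)
    (h : Spec.map φ ≫ k = Spec.map φ ≫ k') (x : Spec R) : k.base x = k'.base x := by
  obtain ⟨y, rfl⟩ := surjective_specMap φ hφ hI x
  have := congrArg (fun f => f.base y) h
  simpa using this

end Thick

section Beta
variable {K₀ R : CommRingCat.{u}} (t : Spec R ⟶ Spec K₀) {X : Over (Spec K₀)}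
  {W : X.left.Opens} (hW : IsAffineOpen W)

/-- the ring map of a T-point landing in W -/
noncomputable def beta (k : Over.mk t ⟶ X) (hk : k.left ⁻¹ᵁ W = ⊤) : Γ(X.left, W) ⟶ R :=
  Scheme.Hom.appLE (X := Spec R) k.left W ⊤ (by rw [hk]) ≫ (Scheme.ΓSpecIso R).hom

include hW in
lemma specMap_beta (k : Over.mk t ⟶ X) (hk : k.left ⁻¹ᵁ W = ⊤) :
    Spec.map (beta t k hk) ≫ hW.fromSpec = k.left := by
  unfold beta
  rw [Spec.map_comp, Category.assoc,
    IsAffineOpen.SpecMap_appLE_fromSpec (X := Spec R) k.left hW (isAffineOpen_top (Spec R)),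
    IsAffineOpen.fromSpec_top, Scheme.isoSpec_Spec_inv, ← Category.assoc, ← Spec.map_comp,
    Iso.inv_hom_id, Spec.map_id, Category.id_comp]

include hW in
lemma beta_inj (k k' : Over.mk t ⟶ X) (hk : k.left ⁻¹ᵁ W = ⊤) (hk' : k'.left ⁻¹ᵁ W = ⊤)
    (h : beta t k hk = beta t k' hk') : k = k' := by
  ext1
  rw [← specMap_beta t hW k hk, ← specMap_beta t hW k' hk', h]

lemma beta_comp {Y : Over (Spec K₀)} (g : X ⟶ Y) (W' : Y.left.Opens) (hle : W ≤ g.left ⁻¹ᵁ W')
    (k : Over.mk t ⟶ X) (hk : k.left ⁻¹ᵁ W = ⊤) (hk' : (k ≫ g).left ⁻¹ᵁ W' = ⊤) :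
    beta t (k ≫ g) hk' = g.left.appLE W' W hle ≫ beta t k hk := by
  unfold beta
  rw [← Category.assoc, Scheme.Hom.appLE_comp_appLE]
  rfl

/-- structure map on functions on `W` -/
noncomputable def sig : K₀ ⟶ Γ(X.left, W) := Spec.preimage (hW.fromSpec ≫ X.hom)

lemma specMap_sig : Spec.map (sig hW) = hW.fromSpec ≫ X.hom := Spec.map_preimage _

lemma sig_beta (k : Over.mk t ⟶ X) (hk : k.left ⁻¹ᵁ W = ⊤) :
    sig hW ≫ beta t k hk = Spec.preimage t := by
  apply Spec.map_injective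
  rw [Spec.map_comp, specMap_sig, ← Category.assoc, specMap_beta t hW k hk, Spec.map_preimage]
  exact Over.w k

/-- T-point from a ring map -/
noncomputable def ofHom (ψ : Γ(X.left, W) ⟶ R) (hψ : sig hW ≫ ψ = Spec.preimage t) :
    Over.mk t ⟶ X :=
  Over.homMk (Spec.map ψ ≫ hW.fromSpec) (by
    rw [Category.assoc, ← specMap_sig, ← Spec.map_comp, hψ, Spec.map_preimage]; rfl)

lemma ofHom_left (ψ : Γ(X.left, W) ⟶ R) (hψ : sig hW ≫ ψ = Spec.preimage t) :
    (ofHom t hW ψ hψ).left = Spec.map ψ ≫ hW.fromSpec := rfl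

lemma ofHom_preimage (ψ : Γ(X.left, W) ⟶ R) (hψ : sig hW ≫ ψ = Spec.preimage t) :
    (ofHom t hW ψ hψ).left ⁻¹ᵁ W = ⊤ := by
  rw [ofHom_left, Scheme.Hom.comp_preimage, hW.fromSpec_preimage_self]
  rfl

lemma beta_ofHom (ψ : Γ(X.left, W) ⟶ R) (hψ : sig hW ≫ ψ = Spec.preimage t) :
    beta t (ofHom t hW ψ hψ) (ofHom_preimage t hW ψ hψ) = ψ := by
  apply Spec.map_injective
  rw [← cancel_mono hW.fromSpec, specMap_beta t hW]
  rfl

end Beta

section Near
variable {K₀ R R₀ : CommRingCat.{u}} (φ : R ⟶ R₀) (hφ : Function.Surjective φ.hom)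
  (hI : RingHom.ker φ.hom ^ 2 = ⊥) (t : Spec R ⟶ Spec K₀)

/-- the thickening as a morphism over `Spec K₀` -/
noncomputable def thick : Over.mk (Spec.map φ ≫ t) ⟶ Over.mk t := Over.homMk (Spec.map φ)

@[simp] lemma thick_left : (thick φ t).left = Spec.map φ := rfl

variable {X : Over (Spec K₀)} {W : X.left.Opens} (hW : IsAffineOpen W)

lemma beta_congr {k k' : Over.mk t ⟶ X} (h : k = k') (hk : k.left ⁻¹ᵁ W = ⊤)
    (hk' : k'.left ⁻¹ᵁ W = ⊤) : beta t k hk = beta t k' hk' := by subst h; rfl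

include hφ hI in
lemma near_preimage (o k : Over.mk t ⟶ X) (ho : o.left ⁻¹ᵁ W = ⊤)
    (h : thick φ t ≫ k = thick φ t ≫ o) : k.left ⁻¹ᵁ W = ⊤ := by
  have h' : Spec.map φ ≫ k.left = Spec.map φ ≫ o.left := congrArg CommaMorphism.left h
  ext x
  have hx : o.left.base x ∈ W := by
    have : x ∈ o.left ⁻¹ᵁ W := by rw [ho]; trivial
    exact this
  have e := base_eq_of_comp_eq φ hφ hI (Y := X.left) k.left o.left h' x
  simp only [Scheme.Hom.mem_preimage, e, hx, TopologicalSpace.Opens.coe_top, Set.mem_univ,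
    SetLike.mem_coe]

include hW in
lemma beta_comp_eq_of_near (o k : Over.mk t ⟶ X) (ho : o.left ⁻¹ᵁ W = ⊤) (hk : k.left ⁻¹ᵁ W = ⊤)
    (h : thick φ t ≫ k = thick φ t ≫ o) : beta t k hk ≫ φ = beta t o ho ≫ φ := by
  have h' : Spec.map φ ≫ k.left = Spec.map φ ≫ o.left := congrArg CommaMorphism.left h
  apply Spec.map_injective
  rw [← cancel_mono hW.fromSpec, Spec.map_comp, Spec.map_comp, Category.assoc, Category.assoc,
    specMap_beta t hW, specMap_beta t hW, h']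

include hW in
lemma sub_mem_of_near (o k : Over.mk t ⟶ X) (ho : o.left ⁻¹ᵁ W = ⊤) (hk : k.left ⁻¹ᵁ W = ⊤)
    (h : thick φ t ≫ k = thick φ t ≫ o) (c : Γ(X.left, W)) :
    (beta t k hk).hom c - (beta t o ho).hom c ∈ RingHom.ker φ.hom := by
  have := beta_comp_eq_of_near φ t hW o k ho hk h
  have h2 := congrArg (fun f => f.hom c) this
  simp only [CommRingCat.hom_comp, RingHom.coe_comp, Function.comp_apply] at h2
  rw [RingHom.mem_ker, map_sub, h2, sub_self]

include hW in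
lemma near_of_beta_comp_eq (o k : Over.mk t ⟶ X) (ho : o.left ⁻¹ᵁ W = ⊤) (hk : k.left ⁻¹ᵁ W = ⊤)
    (h : beta t k hk ≫ φ = beta t o ho ≫ φ) : thick φ t ≫ k = thick φ t ≫ o := by
  ext1
  simp only [Over.comp_left, thick_left]
  rw [← specMap_beta t hW k hk, ← specMap_beta t hW o ho, ← Category.assoc, ← Category.assoc,
    ← Spec.map_comp, ← Spec.map_comp, h]

/-- the point `o + u (a - o) + v (b - o)` -/
noncomputable def linPt (o a b : Over.mk t ⟶ X) (ho : o.left ⁻¹ᵁ W = ⊤)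
    (ha : thick φ t ≫ a = thick φ t ≫ o) (hb : thick φ t ≫ b = thick φ t ≫ o) (u v : R) :
    Over.mk t ⟶ X :=
  ofHom t hW (CommRingCat.ofHom (lin _ hI (beta t o ho).hom
      (beta t a (near_preimage φ hφ hI t o a ho ha)).hom
      (beta t b (near_preimage φ hφ hI t o b ho hb)).hom
      (sub_mem_of_near φ t hW o a ho _ ha) (sub_mem_of_near φ t hW o b ho _ hb) u v)) (by
    ext c
    have e1 := congrArg (fun f => f.hom c) (sig_beta t hW o ho)
    have e2 := congrArg (fun f => f.hom c) (sig_beta t hW a (near_preimage φ hφ hI t o a ho ha))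
    have e3 := congrArg (fun f => f.hom c) (sig_beta t hW b (near_preimage φ hφ hI t o b ho hb))
    simp only [CommRingCat.hom_comp, RingHom.coe_comp, Function.comp_apply] at e1 e2 e3
    simp only [CommRingCat.hom_comp, RingHom.coe_comp, Function.comp_apply, CommRingCat.hom_ofHom,
      lin_apply, e1, e2, e3]
    ring)

lemma linPt_preimage (o a b : Over.mk t ⟶ X) (ho : o.left ⁻¹ᵁ W = ⊤)
    (ha : thick φ t ≫ a = thick φ t ≫ o) (hb : thick φ t ≫ b = thick φ t ≫ o) (u v : R) :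
    (linPt φ hφ hI t hW o a b ho ha hb u v).left ⁻¹ᵁ W = ⊤ := ofHom_preimage _ _ _ _

lemma beta_linPt (o a b : Over.mk t ⟶ X) (ho : o.left ⁻¹ᵁ W = ⊤)
    (ha : thick φ t ≫ a = thick φ t ≫ o) (hb : thick φ t ≫ b = thick φ t ≫ o) (u v : R)
    (c : Γ(X.left, W)) :
    (beta t (linPt φ hφ hI t hW o a b ho ha hb u v) (linPt_preimage φ hφ hI t hW o a b ho ha hb u v)).hom c
      = (beta t o ho).hom c
        + u * ((beta t a (near_preimage φ hφ hI t o a ho ha)).hom c - (beta t o ho).hom c)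
        + v * ((beta t b (near_preimage φ hφ hI t o b ho hb)).hom c - (beta t o ho).hom c) := by
  unfold linPt
  rw [beta_ofHom]
  rfl

lemma linPt_near (o a b : Over.mk t ⟶ X) (ho : o.left ⁻¹ᵁ W = ⊤)
    (ha : thick φ t ≫ a = thick φ t ≫ o) (hb : thick φ t ≫ b = thick φ t ≫ o) (u v : R) :
    thick φ t ≫ linPt φ hφ hI t hW o a b ho ha hb u v = thick φ t ≫ o := by
  apply near_of_beta_comp_eq φ t hW o _ ho (linPt_preimage φ hφ hI t hW o a b ho ha hb u v)
  ext c
  have e2 := sub_mem_of_near φ t hW o a ho (near_preimage φ hφ hI t o a ho ha) ha c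
  have e3 := sub_mem_of_near φ t hW o b ho (near_preimage φ hφ hI t o b ho hb) hb c
  rw [RingHom.mem_ker] at e2 e3
  simp only [CommRingCat.hom_comp, RingHom.coe_comp, Function.comp_apply]
  rw [beta_linPt, map_add, map_add, map_mul, map_mul, e2, e3]
  simp

end Near

section Comp
variable {K₀ R R₀ : CommRingCat.{u}} (φ : R ⟶ R₀) (hφ : Function.Surjective φ.hom)
  (hI : RingHom.ker φ.hom ^ 2 = ⊥) (t : Spec R ⟶ Spec K₀)
variable {X Y : Over (Spec K₀)} {W : X.left.Opens} (hW : IsAffineOpen W)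
  {W' : Y.left.Opens} (g : X ⟶ Y) (hle : W ≤ g.left ⁻¹ᵁ W')

include hle in
lemma comp_preimage_top (k : Over.mk t ⟶ X) (hk : k.left ⁻¹ᵁ W = ⊤) :
    (k ≫ g).left ⁻¹ᵁ W' = ⊤ := by
  rw [eq_top_iff]
  intro x _
  have hx : x ∈ k.left ⁻¹ᵁ W := by rw [hk]; trivial
  exact hle hx

include hle in
lemma beta_linPt_comp (o a b : Over.mk t ⟶ X) (ho : o.left ⁻¹ᵁ W = ⊤)
    (ha : thick φ t ≫ a = thick φ t ≫ o) (hb : thick φ t ≫ b = thick φ t ≫ o) (u v : R)
    (c : Γ(Y.left, W')) (ho' : (o ≫ g).left ⁻¹ᵁ W' = ⊤) (ha' : (a ≫ g).left ⁻¹ᵁ W' = ⊤)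
    (hb' : (b ≫ g).left ⁻¹ᵁ W' = ⊤)
    (hc' : (linPt φ hφ hI t hW o a b ho ha hb u v ≫ g).left ⁻¹ᵁ W' = ⊤) :
    (beta t (linPt φ hφ hI t hW o a b ho ha hb u v ≫ g) hc').hom c
      = (beta t (o ≫ g) ho').hom c
        + u * ((beta t (a ≫ g) ha').hom c - (beta t (o ≫ g) ho').hom c)
        + v * ((beta t (b ≫ g) hb').hom c - (beta t (o ≫ g) ho').hom c) := by
  rw [beta_comp t g W' hle _ (linPt_preimage φ hφ hI t hW o a b ho ha hb u v) hc',
    beta_comp t g W' hle o ho ho',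
    beta_comp t g W' hle a (near_preimage φ hφ hI t o a ho ha) ha',
    beta_comp t g W' hle b (near_preimage φ hφ hI t o b ho hb) hb']
  simp only [CommRingCat.hom_comp, RingHom.coe_comp, Function.comp_apply]
  rw [beta_linPt]

end Comp

section Grp
variable {K₀ R R₀ : CommRingCat.{u}} (φ : R ⟶ R₀) (hφ : Function.Surjective φ.hom)
  (hI : RingHom.ker φ.hom ^ 2 = ⊥) (t : Spec R ⟶ Spec K₀)
variable {A : Over (Spec K₀)} [GrpObj A] (s₀ : Spec K₀) (ht : ∀ x, t.base x = s₀)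
  {W : A.left.Opens} (hW : IsAffineOpen W) (he : η[A].left.base s₀ ∈ W)

include ht he in
lemma comp_unit_preimage {Y : Over (Spec K₀)} (y : 𝟙_ (Over (Spec K₀)) ⟶ Y) {V : Y.left.Opens}
    (hy : y.left.base s₀ ∈ V) : (toUnit (Over.mk t) ≫ y).left ⁻¹ᵁ V = ⊤ := by
  rw [eq_top_iff]
  intro x _
  change y.left.base (t.base x) ∈ V
  rw [ht x]; exact hy

include ht he in
lemma one_preimage : (1 : Over.mk t ⟶ A).left ⁻¹ᵁ W = ⊤ :=
  comp_unit_preimage t s₀ ht he η[A] he

include hφ hI ht he hW in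
theorem beta_mul (k₁ k₂ : Over.mk t ⟶ A) (h₁ : thick φ t ≫ k₁ = 1) (h₂ : thick φ t ≫ k₂ = 1)
    (hk₁ : k₁.left ⁻¹ᵁ W = ⊤) (hk₂ : k₂.left ⁻¹ᵁ W = ⊤) (hk : (k₁ * k₂).left ⁻¹ᵁ W = ⊤)
    (h1 : (1 : Over.mk t ⟶ A).left ⁻¹ᵁ W = ⊤) (c : Γ(A.left, W)) :
    (beta t (k₁ * k₂) hk).hom c
      = (beta t k₁ hk₁).hom c + (beta t k₂ hk₂).hom c - (beta t 1 h1).hom c := by
  -- the base point of the product
  let y : 𝟙_ (Over (Spec K₀)) ⟶ A ⊗ A := lift η[A] η[A]
  have hy1 : y ≫ fst A A = η[A] := lift_fst _ _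
  have hy2 : y ≫ snd A A = η[A] := lift_snd _ _
  have hy3 : y ≫ μ[A] = η[A] := by
    change (η[A] : 𝟙_ _ ⟶ A) * η[A] = _
    have : (η[A] : 𝟙_ _ ⟶ A) = 1 := rfl
    rw [this, _root_.mul_one]
  let O : (A ⊗ A).left.Opens := (fst A A).left ⁻¹ᵁ W ⊓ (snd A A).left ⁻¹ᵁ W ⊓ (μ[A]).left ⁻¹ᵁ W
  have hpO : y.left.base s₀ ∈ O := by
    refine ⟨⟨?_, ?_⟩, ?_⟩
    · change (y ≫ fst A A).left.base s₀ ∈ W; rw [hy1]; exact he
    · change (y ≫ snd A A).left.base s₀ ∈ W; rw [hy2]; exact he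
    · change (y ≫ μ[A]).left.base s₀ ∈ W; rw [hy3]; exact he
  obtain ⟨_, ⟨WP, hWP, rfl⟩, hpW, hWO⟩ :=
    (A ⊗ A).left.isBasis_affineOpens.exists_subset_of_mem_open hpO O.isOpen
  have hle1 : WP ≤ (fst A A).left ⁻¹ᵁ W := fun x hx => (hWO hx).1.1
  have hle2 : WP ≤ (snd A A).left ⁻¹ᵁ W := fun x hx => (hWO hx).1.2
  have hle3 : WP ≤ (μ[A]).left ⁻¹ᵁ W := fun x hx => (hWO hx).2
  -- points of the product
  let oP : Over.mk t ⟶ A ⊗ A := toUnit _ ≫ y
  have hoP : oP.left ⁻¹ᵁ WP = ⊤ := comp_unit_preimage t s₀ ht he y hpW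
  have hoP' : oP = lift 1 1 := by
    change toUnit _ ≫ lift η[A] η[A] = _
    rw [comp_lift]; rfl
  let a : Over.mk t ⟶ A ⊗ A := lift k₁ 1
  let b : Over.mk t ⟶ A ⊗ A := lift 1 k₂
  have ha : thick φ t ≫ a = thick φ t ≫ oP := by
    rw [hoP', comp_lift, comp_lift, h₁, MonObj.comp_one]
  have hb : thick φ t ≫ b = thick φ t ≫ oP := by
    rw [hoP', comp_lift, comp_lift, h₂, MonObj.comp_one]
  let cc := linPt φ hφ hI t hWP oP a b hoP ha hb 1 1
  have hcc : cc.left ⁻¹ᵁ WP = ⊤ := linPt_preimage φ hφ hI t hWP oP a b hoP ha hb 1 1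
  have e_o1 : oP ≫ fst A A = 1 := by rw [hoP', lift_fst]
  have e_o2 : oP ≫ snd A A = 1 := by rw [hoP', lift_snd]
  have e_o3 : oP ≫ μ[A] = 1 := by
    rw [hoP']; change (1 : Over.mk t ⟶ A) * 1 = 1; rw [_root_.mul_one]
  have e_a1 : a ≫ fst A A = k₁ := lift_fst _ _
  have e_a2 : a ≫ snd A A = 1 := lift_snd _ _
  have e_a3 : a ≫ μ[A] = k₁ := by change k₁ * 1 = k₁; rw [_root_.mul_one]
  have e_b1 : b ≫ fst A A = 1 := lift_fst _ _
  have e_b2 : b ≫ snd A A = k₂ := lift_snd _ _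
  have e_b3 : b ≫ μ[A] = k₂ := by change 1 * k₂ = k₂; rw [_root_.one_mul]
  -- the components of cc
  have hc1 : cc ≫ fst A A = k₁ := by
    apply beta_inj t hW _ _ (comp_preimage_top t (fst A A) hle1 cc hcc) hk₁
    ext x
    rw [beta_linPt_comp φ hφ hI t hWP (fst A A) hle1 oP a b hoP ha hb 1 1 x
      (comp_preimage_top t (fst A A) hle1 oP hoP)
      (comp_preimage_top t (fst A A) hle1 a (near_preimage φ hφ hI t oP a hoP ha))
      (comp_preimage_top t (fst A A) hle1 b (near_preimage φ hφ hI t oP b hoP hb))]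
    rw [beta_congr t e_o1 _ h1, beta_congr t e_a1 _ hk₁, beta_congr t e_b1 _ h1]
    ring
  have hc2 : cc ≫ snd A A = k₂ := by
    apply beta_inj t hW _ _ (comp_preimage_top t (snd A A) hle2 cc hcc) hk₂
    ext x
    rw [beta_linPt_comp φ hφ hI t hWP (snd A A) hle2 oP a b hoP ha hb 1 1 x
      (comp_preimage_top t (snd A A) hle2 oP hoP)
      (comp_preimage_top t (snd A A) hle2 a (near_preimage φ hφ hI t oP a hoP ha))
      (comp_preimage_top t (snd A A) hle2 b (near_preimage φ hφ hI t oP b hoP hb))]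
    rw [beta_congr t e_o2 _ h1, beta_congr t e_a2 _ h1, beta_congr t e_b2 _ hk₂]
    ring
  have hcc' : cc = lift k₁ k₂ := by
    apply CartesianMonoidalCategory.hom_ext
    · rw [hc1, lift_fst]
    · rw [hc2, lift_snd]
  have hmul : k₁ * k₂ = cc ≫ μ[A] := by rw [hcc']; rfl
  rw [beta_congr t hmul hk (comp_preimage_top t μ[A] hle3 cc hcc)]
  rw [beta_linPt_comp φ hφ hI t hWP μ[A] hle3 oP a b hoP ha hb 1 1 c
      (comp_preimage_top t μ[A] hle3 oP hoP)
      (comp_preimage_top t μ[A] hle3 a (near_preimage φ hφ hI t oP a hoP ha))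
      (comp_preimage_top t μ[A] hle3 b (near_preimage φ hφ hI t oP b hoP hb))]
  rw [beta_congr t e_o3 _ h1, beta_congr t e_a3 _ hk₁, beta_congr t e_b3 _ hk₂]
  ring

end Grp

section Pow
variable {K₀ R R₀ : CommRingCat.{u}} (φ : R ⟶ R₀) (hφ : Function.Surjective φ.hom)
  (hI : RingHom.ker φ.hom ^ 2 = ⊥) (t : Spec R ⟶ Spec K₀)
variable {A : Over (Spec K₀)} [GrpObj A] (s₀ : Spec K₀) (ht : ∀ x, t.base x = s₀)
  {W : A.left.Opens} (hW : IsAffineOpen W) (he : η[A].left.base s₀ ∈ W)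

lemma thick_one : thick φ t ≫ (1 : Over.mk t ⟶ A) = 1 := MonObj.comp_one _

include hφ hI ht he in
lemma near_one_preimage (k : Over.mk t ⟶ A) (h : thick φ t ≫ k = 1) : k.left ⁻¹ᵁ W = ⊤ :=
  near_preimage φ hφ hI t 1 k (one_preimage t s₀ ht he) (by rw [h, thick_one])

lemma thick_pow (k : Over.mk t ⟶ A) (h : thick φ t ≫ k = 1) (n : ℕ) :
    thick φ t ≫ k ^ n = 1 := by rw [MonObj.comp_pow, h, one_pow]

lemma thick_inv (k : Over.mk t ⟶ A) (h : thick φ t ≫ k = 1) :
    thick φ t ≫ k⁻¹ = 1 := by rw [GrpObj.comp_inv, h, inv_one]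

lemma thick_zpow (k : Over.mk t ⟶ A) (h : thick φ t ≫ k = 1) (n : ℤ) :
    thick φ t ≫ k ^ n = 1 := by rw [GrpObj.comp_zpow, h, one_zpow]

include hφ hI ht he hW in
theorem beta_pow (k : Over.mk t ⟶ A) (h : thick φ t ≫ k = 1) (n : ℕ) (c : Γ(A.left, W)) :
    (beta t (k ^ n) (near_one_preimage φ hφ hI t s₀ ht he _ (thick_pow φ t k h n))).hom c
        - (beta t 1 (one_preimage t s₀ ht he)).hom c
      = n • ((beta t k (near_one_preimage φ hφ hI t s₀ ht he _ h)).hom c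
        - (beta t 1 (one_preimage t s₀ ht he)).hom c) := by
  induction n with
  | zero =>
    rw [beta_congr t (pow_zero k) _ (one_preimage t s₀ ht he), sub_self, zero_smul]
  | succ n ih =>
    have hk := near_one_preimage φ hφ hI t s₀ ht he (W := W) _ h
    have hkn := near_one_preimage φ hφ hI t s₀ ht he (W := W) _ (thick_pow φ t k h n)
    have hmul : (k ^ n * k).left ⁻¹ᵁ W = ⊤ := by
      rw [← pow_succ]; exact near_one_preimage φ hφ hI t s₀ ht he _ (thick_pow φ t k h (n + 1))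
    rw [beta_congr t (pow_succ k n) _ hmul,
      beta_mul φ hφ hI t s₀ ht hW he (k ^ n) k (thick_pow φ t k h n) h hkn hk hmul
        (one_preimage t s₀ ht he) c, succ_nsmul, ← ih]
    ring

include hφ hI ht he hW in
theorem beta_inv (k : Over.mk t ⟶ A) (h : thick φ t ≫ k = 1) (c : Γ(A.left, W)) :
    (beta t k⁻¹ (near_one_preimage φ hφ hI t s₀ ht he _ (thick_inv φ t k h))).hom c
        - (beta t 1 (one_preimage t s₀ ht he)).hom c
      = - ((beta t k (near_one_preimage φ hφ hI t s₀ ht he _ h)).hom c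
        - (beta t 1 (one_preimage t s₀ ht he)).hom c) := by
  have hk := near_one_preimage φ hφ hI t s₀ ht he (W := W) _ h
  have hki := near_one_preimage φ hφ hI t s₀ ht he (W := W) _ (thick_inv φ t k h)
  have hmul : (k * k⁻¹).left ⁻¹ᵁ W = ⊤ := by
    rw [mul_inv_cancel]; exact one_preimage t s₀ ht he
  have e := beta_mul φ hφ hI t s₀ ht hW he k k⁻¹ h (thick_inv φ t k h) hk hki hmul
    (one_preimage t s₀ ht he) c
  rw [beta_congr t (mul_inv_cancel k) hmul (one_preimage t s₀ ht he)] at e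
  linear_combination -e

include hφ hI ht he hW in
theorem beta_zpow (k : Over.mk t ⟶ A) (h : thick φ t ≫ k = 1) (n : ℤ) (c : Γ(A.left, W)) :
    (beta t (k ^ n) (near_one_preimage φ hφ hI t s₀ ht he _ (thick_zpow φ t k h n))).hom c
        - (beta t 1 (one_preimage t s₀ ht he)).hom c
      = n • ((beta t k (near_one_preimage φ hφ hI t s₀ ht he _ h)).hom c
        - (beta t 1 (one_preimage t s₀ ht he)).hom c) := by
  obtain ⟨m, rfl | rfl⟩ := n.eq_nat_or_neg
  · rw [beta_congr t (zpow_natCast k m) _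
      (near_one_preimage φ hφ hI t s₀ ht he _ (thick_pow φ t k h m)),
      beta_pow φ hφ hI t s₀ ht hW he k h m c, natCast_zsmul]
  · have e1 : k ^ (-(m : ℤ)) = (k ^ m)⁻¹ := by rw [zpow_neg, zpow_natCast]
    rw [beta_congr t e1 _
      (near_one_preimage φ hφ hI t s₀ ht he _ (thick_inv φ t _ (thick_pow φ t k h m))),
      beta_inv φ hφ hI t s₀ ht hW he (k ^ m) (thick_pow φ t k h m) c,
      beta_pow φ hφ hI t s₀ ht hW he k h m c, neg_smul, natCast_zsmul]

end Pow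

section Cons
variable {K₀ R R₀ : CommRingCat.{u}} (φ : R ⟶ R₀) (hφ : Function.Surjective φ.hom)
  (hI : RingHom.ker φ.hom ^ 2 = ⊥) (t : Spec R ⟶ Spec K₀)
variable {A : Over (Spec K₀)} [GrpObj A] (s₀ : Spec K₀) (ht : ∀ x, t.base x = s₀)
  {W : A.left.Opens} (hW : IsAffineOpen W) (he : η[A].left.base s₀ ∈ W)

include hφ hI ht he hW in
theorem eq_one_of_zpow_eq_one (k : Over.mk t ⟶ A) (h : thick φ t ≫ k = 1) (n : ℤ)
    (hn : IsUnit ((n : ℤ) : R)) (hkn : k ^ n = 1) : k = 1 := by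
  apply beta_inj t hW k 1 (near_one_preimage φ hφ hI t s₀ ht he _ h) (one_preimage t s₀ ht he)
  ext c
  have e := beta_zpow φ hφ hI t s₀ ht hW he k h n c
  rw [beta_congr t hkn _ (one_preimage t s₀ ht he), sub_self, zsmul_eq_mul] at e
  have := (hn.mul_right_eq_zero).mp e.symm
  exact sub_eq_zero.mp this

include hφ hI ht he hW in
theorem zpow_eq_one_of_cast_eq_zero (k : Over.mk t ⟶ A) (h : thick φ t ≫ k = 1) (n : ℤ)
    (hn : ((n : ℤ) : R) = 0) : k ^ n = 1 := by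
  apply beta_inj t hW (k ^ n) 1 (near_one_preimage φ hφ hI t s₀ ht he _ (thick_zpow φ t k h n))
    (one_preimage t s₀ ht he)
  ext c
  have e := beta_zpow φ hφ hI t s₀ ht hW he k h n c
  rw [zsmul_eq_mul, hn, zero_mul] at e
  exact sub_eq_zero.mp e

include hφ hI ht he hW in
theorem exists_zpow_eq (z : Over.mk t ⟶ A) (hz : thick φ t ≫ z = 1) (n : ℤ)
    (hn : IsUnit ((n : ℤ) : R)) : ∃ k : Over.mk t ⟶ A, thick φ t ≫ k = 1 ∧ k ^ n = z := by
  have h1 := one_preimage t s₀ ht he (A := A) (W := W)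
  have hz' : thick φ t ≫ z = thick φ t ≫ 1 := by rw [hz, thick_one]
  have h11 : thick φ t ≫ (1 : Over.mk t ⟶ A) = thick φ t ≫ 1 := rfl
  obtain ⟨u, hu⟩ := hn.exists_right_inv
  let k := linPt φ hφ hI t hW 1 z 1 h1 hz' h11 u 0
  have hk : thick φ t ≫ k = 1 := by
    rw [linPt_near φ hφ hI t hW 1 z 1 h1 hz' h11 u 0, thick_one]
  refine ⟨k, hk, ?_⟩
  apply beta_inj t hW (k ^ n) z (near_one_preimage φ hφ hI t s₀ ht he _ (thick_zpow φ t k hk n))
    (near_one_preimage φ hφ hI t s₀ ht he _ hz)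
  ext c
  have e := beta_zpow φ hφ hI t s₀ ht hW he k hk n c
  have e2 := beta_linPt φ hφ hI t hW 1 z 1 h1 hz' h11 u 0 c
  rw [zsmul_eq_mul] at e
  linear_combination e + (n : R) * e2 + ((beta t z (near_one_preimage φ hφ hI t s₀ ht he _ hz)).hom c
        - (beta t 1 h1).hom c) * hu

end Cons

end Groth.Agent.Lib.Helper4.InfGrp1
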