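import Mathlib

/-!
# flatness of a local endomorphism inducing iso on completions (noetherian local ring, map m = m, residue surjective) (helper4)
-/

set_option backward.isDefEq.respectTransparency.types false
set_option synthInstance.maxHeartbeats 400000
set_option autoImplicit false
set_option linter.unusedSectionVars false
set_option linter.style.haveILetI false
set_option linter.unusedSimpArgs false
universe u v w
open IsLocalRing

namespace Groth.Agent.Lib.Helper4.LocFlat1

section Noeth
variable {A : Type u} [CommRing A] [IsNoetherianRing A]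

/-- a surjective ring endomorphism of a noetherian ring is injective -/
theorem injective_of_surjective_ringEnd (f : A →+* A) (hf : Function.Surjective f) :
    Function.Injective f := by
  let K : ℕ →o Ideal A :=
    ⟨fun n => RingHom.ker (f ^ n), by
      intro a b hab x hx
      obtain ⟨c, rfl⟩ := Nat.exists_eq_add_of_le hab
      rw [RingHom.mem_ker] at hx ⊢
      rw [add_comm, pow_add]
      change (f ^ c) ((f ^ a) x) = 0
      rw [hx, map_zero]⟩
  obtain ⟨n, hn⟩ := monotone_stabilizes_iff_noetherian.mpr (inferInstance : IsNoetherian A A) K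
  rw [injective_iff_map_eq_zero]
  intro x hx
  have hsurj : Function.Surjective (f ^ n) := by
    rw [RingHom.coe_pow]; exact hf.iterate n
  obtain ⟨y, rfl⟩ := hsurj x
  have h1 : y ∈ K (n + 1) := by
    change y ∈ RingHom.ker (f ^ (n + 1))
    rw [RingHom.mem_ker, pow_succ']
    change f ((f ^ n) y) = 0
    exact hx
  rw [← hn (n + 1) (Nat.le_succ n)] at h1
  exact h1

end Noeth

section Local
variable {O : Type u} [CommRing O] [IsLocalRing O] [IsNoetherianRing O] (φ : O →+* O)
  (hm : (maximalIdeal O).map φ = maximalIdeal O)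
  (hres : ∀ x : O, ∃ y : O, x - φ y ∈ maximalIdeal O)

include hm in
lemma map_pow_eq (n : ℕ) : (maximalIdeal O ^ n).map φ = maximalIdeal O ^ n := by
  rw [Ideal.map_pow, hm]

include hm in
lemma le_comap_pow (n : ℕ) : maximalIdeal O ^ n ≤ (maximalIdeal O ^ n).comap φ := by
  rw [← Ideal.map_le_iff_le_comap, map_pow_eq φ hm]

include hm hres in
lemma exists_sub_mem_pow (n : ℕ) (x : O) : ∃ y : O, x - φ y ∈ maximalIdeal O ^ n := by
  induction n generalizing x with
  | zero => exact ⟨0, by simp⟩
  | succ n ih =>
    obtain ⟨y, hy⟩ := ih x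
    -- refine the approximation
    suffices H : ∀ z ∈ (maximalIdeal O ^ n).map φ,
        ∃ w ∈ maximalIdeal O ^ n, z - φ w ∈ maximalIdeal O ^ (n + 1) by
      rw [← map_pow_eq φ hm n] at hy
      obtain ⟨w, -, hw⟩ := H _ hy
      refine ⟨y + w, ?_⟩
      rw [map_add, ← sub_sub]; exact hw
    intro z hz
    refine Submodule.span_induction (p := fun z _ => ∃ w ∈ maximalIdeal O ^ n,
      z - φ w ∈ maximalIdeal O ^ (n + 1)) ?_ ?_ ?_ ?_ hz
    · rintro _ ⟨a, ha, rfl⟩
      exact ⟨a, ha, by simp⟩
    · exact ⟨0, zero_mem _, by simp⟩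
    · rintro z₁ z₂ _ _ ⟨w₁, hw₁, h₁⟩ ⟨w₂, hw₂, h₂⟩
      refine ⟨w₁ + w₂, add_mem hw₁ hw₂, ?_⟩
      have : z₁ + z₂ - φ (w₁ + w₂) = (z₁ - φ w₁) + (z₂ - φ w₂) := by rw [map_add]; ring
      rw [this]; exact add_mem h₁ h₂
    · rintro b z _ ⟨w, hw, h⟩
      obtain ⟨c, hc⟩ := hres b
      refine ⟨c * w, Ideal.mul_mem_left _ _ hw, ?_⟩
      have e : b • z - φ (c * w) = b * (z - φ w) + (b - φ c) * φ w := by
        rw [map_mul, smul_eq_mul]; ring
      rw [e]
      refine add_mem (Ideal.mul_mem_left _ _ h) ?_
      rw [pow_succ']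
      exact Ideal.mul_mem_mul hc (le_comap_pow φ hm n hw)

end Local

section Quot
variable {O : Type u} [CommRing O] [IsLocalRing O] [IsNoetherianRing O] (φ : O →+* O)
  (hm : (maximalIdeal O).map φ = maximalIdeal O)
  (hres : ∀ x : O, ∃ y : O, x - φ y ∈ maximalIdeal O)

/-- the induced endomorphism of `O ⧸ 𝔪 ^ n` -/
noncomputable def qmap (n : ℕ) : O ⧸ maximalIdeal O ^ n →+* O ⧸ maximalIdeal O ^ n :=
  Ideal.quotientMap _ φ (le_comap_pow φ hm n)

lemma qmap_mk (n : ℕ) (x : O) :
    qmap φ hm n (Ideal.Quotient.mk _ x) = Ideal.Quotient.mk _ (φ x) := by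
  simp [qmap]

include hres in
lemma qmap_surjective (n : ℕ) : Function.Surjective (qmap φ hm n) := by
  intro x
  obtain ⟨x, rfl⟩ := Ideal.Quotient.mk_surjective x
  obtain ⟨y, hy⟩ := exists_sub_mem_pow φ hm hres n x
  refine ⟨Ideal.Quotient.mk _ y, ?_⟩
  rw [qmap_mk, eq_comm, Ideal.Quotient.eq]
  exact hy

include hres in
lemma qmap_bijective (n : ℕ) : Function.Bijective (qmap φ hm n) :=
  ⟨injective_of_surjective_ringEnd _ (qmap_surjective φ hm hres n), qmap_surjective φ hm hres n⟩

/-- `qmap` as a ring equivalence -/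
noncomputable def qequiv (n : ℕ) : O ⧸ maximalIdeal O ^ n ≃+* O ⧸ maximalIdeal O ^ n :=
  RingEquiv.ofBijective (qmap φ hm n) (qmap_bijective φ hm hres n)

lemma factorPow_qmap {a b : ℕ} (hle : a ≤ b) (x : O ⧸ maximalIdeal O ^ b) :
    Ideal.Quotient.factorPow _ hle (qmap φ hm b x) = qmap φ hm a (Ideal.Quotient.factorPow _ hle x) := by
  obtain ⟨x, rfl⟩ := Ideal.Quotient.mk_surjective x
  simp [qmap_mk]

end Quot

section Compl
variable {O : Type u} [CommRing O] [IsLocalRing O] [IsNoetherianRing O] (φ : O →+* O)
  (hm : (maximalIdeal O).map φ = maximalIdeal O)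
  (hres : ∀ x : O, ∃ y : O, x - φ y ∈ maximalIdeal O)

lemma factorPow_evalₐ {R : Type u} [CommRing R] (I : Ideal R) {a b : ℕ} (hle : a ≤ b)
    (x : AdicCompletion I R) :
    Ideal.Quotient.factorPow I hle (AdicCompletion.evalₐ I b x) = AdicCompletion.evalₐ I a x := by
  obtain ⟨x, rfl⟩ := AdicCompletion.mk_surjective I R x
  rw [AdicCompletion.evalₐ_mk, AdicCompletion.evalₐ_mk]
  simp only [Ideal.Quotient.factorPow, Ideal.Quotient.factor_mk]
  rw [Ideal.Quotient.eq]
  have := (x.prop hle).symm
  rw [SModEq.sub_mem] at this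
  simpa using this


lemma chat_compat {a b : ℕ} (hle : a ≤ b) :
    (Ideal.Quotient.factorPow (maximalIdeal O) hle).comp ((qmap φ hm b).comp
      (AdicCompletion.evalₐ (maximalIdeal O) b).toRingHom)
    = (qmap φ hm a).comp
      (AdicCompletion.evalₐ (maximalIdeal O) a).toRingHom := by
  ext x
  change Ideal.Quotient.factorPow (maximalIdeal O) hle
    (qmap φ hm b (AdicCompletion.evalₐ (maximalIdeal O) b x))
    = qmap φ hm a (AdicCompletion.evalₐ (maximalIdeal O) a x)
  rw [factorPow_qmap, factorPow_evalₐ]

/-- the induced map on completions -/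
noncomputable def chat : AdicCompletion (maximalIdeal O) O →+* AdicCompletion (maximalIdeal O) O :=
  AdicCompletion.liftRingHom (maximalIdeal O)
    (fun n => (qmap φ hm n).comp
      (AdicCompletion.evalₐ (maximalIdeal O) n).toRingHom)
    (fun hle => chat_compat φ hm hle)

lemma evalₐ_chat (n : ℕ) (x : AdicCompletion (maximalIdeal O) O) :
    AdicCompletion.evalₐ (maximalIdeal O) n (chat φ hm x)
      = qmap φ hm n (AdicCompletion.evalₐ (maximalIdeal O) n x) := by
  unfold chat
  exact AdicCompletion.evalₐ_liftRingHom _ _ _ n x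

lemma factorPow_qequiv_symm {a b : ℕ} (hle : a ≤ b) (y : O ⧸ maximalIdeal O ^ b) :
    Ideal.Quotient.factorPow _ hle ((qequiv φ hm hres b).symm y)
      = (qequiv φ hm hres a).symm (Ideal.Quotient.factorPow _ hle y) := by
  apply (qequiv φ hm hres a).injective
  rw [RingEquiv.apply_symm_apply]
  change qmap φ hm a _ = _
  rw [← factorPow_qmap]
  congr 1
  exact (qequiv φ hm hres b).apply_symm_apply y

lemma chatInv_compat {a b : ℕ} (hle : a ≤ b) :
    (Ideal.Quotient.factorPow (maximalIdeal O) hle).comp
      ((qequiv φ hm hres b).symm.toRingHom.comp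
      (AdicCompletion.evalₐ (maximalIdeal O) b).toRingHom)
    = (qequiv φ hm hres a).symm.toRingHom.comp
      (AdicCompletion.evalₐ (maximalIdeal O) a).toRingHom := by
  ext x
  change Ideal.Quotient.factorPow (maximalIdeal O) hle
    ((qequiv φ hm hres b).symm (AdicCompletion.evalₐ (maximalIdeal O) b x))
    = (qequiv φ hm hres a).symm (AdicCompletion.evalₐ (maximalIdeal O) a x)
  rw [factorPow_qequiv_symm, factorPow_evalₐ]

/-- the inverse of the induced map on completions -/
noncomputable def chatInv : AdicCompletion (maximalIdeal O) O →+* AdicCompletion (maximalIdeal O) O :=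
  AdicCompletion.liftRingHom (maximalIdeal O)
    (fun n => (qequiv φ hm hres n).symm.toRingHom.comp
      (AdicCompletion.evalₐ (maximalIdeal O) n).toRingHom)
    (fun hle => chatInv_compat φ hm hres hle)

lemma evalₐ_chatInv (n : ℕ) (x : AdicCompletion (maximalIdeal O) O) :
    AdicCompletion.evalₐ (maximalIdeal O) n (chatInv φ hm hres x)
      = (qequiv φ hm hres n).symm (AdicCompletion.evalₐ (maximalIdeal O) n x) := by
  unfold chatInv
  exact AdicCompletion.evalₐ_liftRingHom _ _ _ n x

include hres in
lemma chat_bijective : Function.Bijective (chat φ hm) := by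
  refine Function.bijective_iff_has_inverse.mpr ⟨chatInv φ hm hres, fun x => ?_, fun x => ?_⟩
  · apply AdicCompletion.ext_evalₐ
    intro n
    rw [evalₐ_chatInv, evalₐ_chat]
    exact (qequiv φ hm hres n).symm_apply_apply _
  · apply AdicCompletion.ext_evalₐ
    intro n
    rw [evalₐ_chat, evalₐ_chatInv]
    exact (qequiv φ hm hres n).apply_symm_apply _

lemma chat_of (x : O) :
    chat φ hm (AdicCompletion.of (maximalIdeal O) O x) = AdicCompletion.of (maximalIdeal O) O (φ x) := by
  apply AdicCompletion.ext_evalₐ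
  intro n
  rw [evalₐ_chat, AdicCompletion.evalₐ_of, AdicCompletion.evalₐ_of, qmap_mk]

end Compl

section Descent
open TensorProduct
variable {A B C : Type u} [CommRing A] [CommRing B] [CommRing C] [Algebra A B] [Algebra B C]
  [Algebra A C] [IsScalarTower A B C]

/-- flatness descends along a faithfully flat extension of the target -/
lemma flat_of_flat_of_faithfullyFlat [Module.Flat A C] [Module.FaithfullyFlat B C] :
    Module.Flat A B := by
  rw [Module.Flat.iff_lTensor_preserves_injective_linearMap]
  intro N P _ _ _ _ f hf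
  have h1 : Function.Injective (f.lTensor C) :=
    Module.Flat.lTensor_preserves_injective_linearMap f hf
  let g : B ⊗[A] N →ₗ[B] B ⊗[A] P := f.baseChange B
  change Function.Injective g
  rw [← Module.FaithfullyFlat.lTensor_injective_iff_injective B C g]
  let eN := AlgebraTensorModule.cancelBaseChange A B C C N
  let eP := AlgebraTensorModule.cancelBaseChange A B C C P
  have hcomm : ∀ x, eP (g.lTensor C x) = f.lTensor C (eN x) := by
    intro x
    induction x using TensorProduct.induction_on with
    | zero => simp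
    | add x y hx hy => simp only [map_add, hx, hy]
    | tmul c y =>
      induction y using TensorProduct.induction_on with
      | zero => simp
      | add x y hx hy => simp only [tmul_add, map_add, hx, hy]
      | tmul b n => simp [eN, eP, g]
  intro x y hxy
  apply eN.injective
  apply h1
  rw [← hcomm, ← hcomm, hxy]

end Descent

section Main

lemma ringHom_flat_of_comp_faithfullyFlat {A B C : Type u} [CommRing A] [CommRing B]
    [CommRing C] (f : A →+* B) (g : B →+* C) (hg : g.FaithfullyFlat) (h : (g.comp f).Flat) :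
    f.Flat := by
  algebraize [f, g, g.comp f]
  exact flat_of_flat_of_faithfullyFlat (A := A) (B := B) (C := C)

variable {O : Type u} [CommRing O] [IsLocalRing O] [IsNoetherianRing O] (φ : O →+* O)
  (hm : (maximalIdeal O).map φ = maximalIdeal O)
  (hres : ∀ x : O, ∃ y : O, x - φ y ∈ maximalIdeal O)

include hm hres in
/-- **Key lemma**: an endomorphism of a noetherian local ring which is surjective on the residue
field and maps the maximal ideal onto generators of the maximal ideal is flat. -/
theorem flat_of_map_maximalIdeal_eq : φ.Flat := by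
  let ι : O →+* AdicCompletion (maximalIdeal O) O := algebraMap O _
  have hι : ι.FaithfullyFlat := by
    rw [RingHom.faithfullyFlat_algebraMap_iff]
    exact Module.FaithfullyFlat.of_flat_of_isLocalHom
  have hc : (chat φ hm).Flat := RingHom.Flat.of_bijective (chat_bijective φ hm hres)
  have hcomp : ι.comp φ = (chat φ hm).comp ι := by
    refine RingHom.ext fun x => ?_
    change AdicCompletion.of _ _ (φ x) = chat φ hm (AdicCompletion.of _ _ x)
    rw [chat_of]
  refine ringHom_flat_of_comp_faithfullyFlat φ ι hι ?_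
  rw [hcomp]
  exact RingHom.Flat.comp hι.flat hc

end Main

section Two
variable {R S : Type u} [CommRing R] [CommRing S] [IsLocalRing R] [IsLocalRing S]

lemma map_maximalIdeal_ringEquiv (e : R ≃+* S) :
    (maximalIdeal R).map (e : R →+* S) = maximalIdeal S := by
  have h1 : (maximalIdeal R).map (e : R →+* S) = (maximalIdeal R).comap (e.symm : S →+* R) :=
    Ideal.map_comap_of_equiv e
  rw [h1]
  apply eq_maximalIdeal
  exact Ideal.comap_isMaximal_of_surjective _ e.symm.surjective

variable [IsNoetherianRing R]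

/-- two-ring version of the key lemma -/
theorem flat_of_map_maximalIdeal_eq' (e : R ≃+* S) (φ : R →+* S)
    (hm : (maximalIdeal R).map φ = maximalIdeal S)
    (hres : ∀ s : S, ∃ r : R, s - φ r ∈ maximalIdeal S) : φ.Flat := by
  let φ' : R →+* R := (e.symm : S →+* R).comp φ
  have hm' : (maximalIdeal R).map φ' = maximalIdeal R := by
    rw [← Ideal.map_map, hm, map_maximalIdeal_ringEquiv e.symm]
  have hres' : ∀ x : R, ∃ y : R, x - φ' y ∈ maximalIdeal R := by
    intro x
    obtain ⟨r, hr⟩ := hres (e x)
    refine ⟨r, ?_⟩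
    have h2 : e.symm (e x - φ r) ∈ (maximalIdeal S).map (e.symm : S →+* R) :=
      Ideal.mem_map_of_mem _ hr
    rw [map_maximalIdeal_ringEquiv e.symm] at h2
    simpa [φ'] using h2
  have hf := flat_of_map_maximalIdeal_eq φ' hm' hres'
  have : φ = (e : R →+* S).comp φ' := by
    ext x; simp [φ']
  rw [this]
  exact RingHom.Flat.comp hf (RingHom.Flat.of_bijective e.bijective)

end Two

end Groth.Agent.Lib.Helper4.LocFlat1
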