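import Mathlib
import Groth.Agent.Lib.Helper4.LocFlat1

/-!
# etale at a prime from local flatness + unramifiedness; ring-level criterion isEtaleAt_RL for near-identity endomorphisms (helper4)
-/

set_option backward.isDefEq.respectTransparency.types false
set_option synthInstance.maxHeartbeats 400000
set_option autoImplicit false
set_option linter.unusedSectionVars false
set_option linter.style.haveILetI false
set_option linter.unusedSimpArgs false
universe u v w
open IsLocalRing TensorProduct
open Groth.Agent.Lib.Helper4.LocFlat1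

namespace Groth.Agent.Lib.Helper4.LocEtale1

section SmoothAt
open Algebra

local notation "𝓀[" R "]" => ResidueField R

set_option backward.defeqAttrib.useBackward true in
set_option backward.isDefEq.respectTransparency false in
/-- flat at `q` + unramified at `q` ⇒ étale at `q` (local flatness version of Mathlib's
`Algebra.IsEtaleAt.of_isUnramifiedAt_of_flat`) -/
theorem isEtaleAt_of_flat_of_isUnramifiedAt {A B : Type u} [CommRing A] [CommRing B] [Algebra A B]
    [Algebra.FinitePresentation A B] (p : Ideal A) (q : Ideal B) [p.IsPrime] [q.IsPrime]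
    [q.LiesOver p]
    [Algebra (Localization.AtPrime p) (Localization.AtPrime q)]
    [Localization.AtPrime.IsLiesOverAlgebra p q]
    [Module.Flat (Localization.AtPrime p) (Localization.AtPrime q)]
    [Algebra.IsUnramifiedAt A q] : Algebra.IsEtaleAt A q := by
  let Rp := Localization.AtPrime p
  let Sp := Localization (algebraMapSubmonoid B p.primeCompl)
  let Sq := Localization.AtPrime q
  let f : Sp →ₐ[B] Sq := IsLocalization.liftAlgHom (M := algebraMapSubmonoid B p.primeCompl)
        (f := Algebra.ofId _ _) (by
      rintro ⟨_, x, hx, rfl⟩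
      simpa using! IsLocalization.map_units (M := q.primeCompl) Sq ⟨algebraMap _ _ x,
        by simp_all [q.over_def p]⟩)
  algebraize [f.toRingHom]
  have : IsScalarTower A Sp Sq := .to₁₃₄ _ B _ _
  have : IsScalarTower Rp Sp Sq := .of_algebraMap_eq' <| by
    apply IsLocalization.ringHom_ext p.primeCompl
    simp only [RingHom.comp_assoc, ← IsScalarTower.algebraMap_eq]
  have : IsLocalization (algebraMapSubmonoid Sp q.primeCompl) Sq :=
    .isLocalization_of_submonoid_le _ _ (algebraMapSubmonoid B p.primeCompl) _
    (by rintro _ ⟨x, hx, rfl⟩; simp_all [q.over_def p])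
  have : FinitePresentation Rp Sp := by
    have : Algebra.IsPushout A Rp B Sp :=
      .symm <| Algebra.isPushout_of_isLocalization p.primeCompl _ _ _
    exact .equiv (Algebra.IsPushout.equiv A Rp B Sp)
  have hu : FormallyUnramified Rp Sq := .of_restrictScalars A _ _
  have : IsLocalHom (algebraMap Rp Sq) := by
    rw [Localization.AtPrime.IsLiesOverAlgebra.algebraMap_eq (p := p) (P := q)]
    infer_instance
  have : EssFiniteType Rp Sq := .of_comp A _ _
  have : FormallySmooth 𝓀[Rp] (𝓀[Rp] ⊗[Rp] Sq) := by
    have : FormallyEtale 𝓀[Rp] (𝓀[Rp] ⊗[Rp] Sq) :=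
      FormallyEtale.of_formallyUnramified_of_field _ _
    infer_instance
  have := FormallySmooth.of_formallySmooth_residueField_tensor
    (R := Rp) (S := Sq) (P := Sp) (algebraMapSubmonoid _ q.primeCompl)
  have : FormallySmooth A Sq := .comp A Rp Sq
  exact FormallyEtale.of_formallyUnramified_and_formallySmooth
end SmoothAt

section Away
variable {A B : Type u} [CommRing A] [CommRing B] [Algebra A B] (h : A) [IsLocalization.Away h B]
  (q : Ideal B) [q.IsPrime]

include h in
lemma exists_equiv_of_away :
    Nonempty (Localization.AtPrime (q.comap (algebraMap A B)) ≃+* Localization.AtPrime q) := by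
  have := IsLocalization.isLocalization_isLocalization_atPrime_isLocalization
    (Submonoid.powers h) (Localization.AtPrime q) q
  exact ⟨(IsLocalization.algEquiv (q.comap (algebraMap A B)).primeCompl
    (Localization.AtPrime (q.comap (algebraMap A B))) (Localization.AtPrime q)).toRingEquiv⟩

include h in
lemma map_comap_of_away : (q.comap (algebraMap A B)).map (algebraMap A B) = q :=
  IsLocalization.map_comap (Submonoid.powers h) B q

end Away

section RL
variable {A B : Type u} [CommRing A] [CommRing B] [IsNoetherianRing A] [IsNoetherianRing B]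
  (ψ ρ : A →+* B) (h : A) (hρ : letI := ρ.toAlgebra; IsLocalization.Away h B)
  (q : Ideal B) [hq : q.IsMaximal]
  (hcomap : q.comap ψ = q.comap ρ)
  (n : B) (hn : n ∉ q)
  (htan : ∀ c ∈ q.comap ψ, ψ c - n * ρ c ∈ q ^ 2)
  (hres : ∀ b : B, ∃ a : A, b - ψ a ∈ q)

include hρ hcomap in
lemma exists_equiv_RL :
    Nonempty (Localization.AtPrime (q.comap ψ) ≃+* Localization.AtPrime q) := by
  have key : ∀ (p' : Ideal A) [p'.IsPrime], p' = q.comap ρ →
      Nonempty (Localization.AtPrime p' ≃+* Localization.AtPrime q) := by
    intro p' _ hp'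
    subst hp'
    letI := ρ.toAlgebra
    exact exists_equiv_of_away h q
  exact key _ hcomap

include hρ hcomap in
lemma map_rho_RL : (q.comap ψ).map ρ = q := by
  rw [hcomap]
  letI := ρ.toAlgebra
  exact map_comap_of_away h q


include hρ hcomap hn htan in
lemma map_maximalIdeal_RL :
    (maximalIdeal (Localization.AtPrime (q.comap ψ))).map
      (Localization.localRingHom (q.comap ψ) q ψ rfl) = maximalIdeal (Localization.AtPrime q) := by
  let ιA := algebraMap A (Localization.AtPrime (q.comap ψ))
  let ιB := algebraMap B (Localization.AtPrime q)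
  have hcompat : (Localization.localRingHom (q.comap ψ) q ψ rfl).comp ιA = ιB.comp ψ :=
    RingHom.ext fun x => Localization.localRingHom_to_map (q.comap ψ) q ψ rfl x
  have hmB : maximalIdeal (Localization.AtPrime q) = q.map ιB :=
    (Localization.AtPrime.map_eq_maximalIdeal).symm
  have hmA : maximalIdeal (Localization.AtPrime (q.comap ψ)) = (q.comap ψ).map ιA :=
    (Localization.AtPrime.map_eq_maximalIdeal).symm
  have hN : q.map ιB = (q.comap ψ).map (ιB.comp ρ) := by
    rw [← Ideal.map_map, map_rho_RL ψ ρ h hρ q hcomap]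
  rw [hmA, Ideal.map_map, hcompat, ← Ideal.map_map]
  apply le_antisymm
  · rw [hmB]
    exact Ideal.map_mono (Ideal.map_le_iff_le_comap.mpr le_rfl)
  · have hunit : IsUnit (ιB n) :=
      IsLocalization.map_units (Localization.AtPrime q) (⟨n, hn⟩ : q.primeCompl)
    refine Submodule.le_of_le_smul_of_le_jacobson_bot
      (I := maximalIdeal (Localization.AtPrime q))
      (IsNoetherian.noetherian _) (IsLocalRing.maximalIdeal_le_jacobson _) ?_
    rw [smul_eq_mul, ← pow_two]
    conv_lhs => rw [hmB, hN]
    rw [Ideal.map_le_iff_le_comap]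
    intro c hc
    rw [Ideal.mem_comap]
    have h1 : ιB (ψ c) ∈ ((q.comap ψ).map ψ).map ιB :=
      Ideal.mem_map_of_mem _ (Ideal.mem_map_of_mem _ hc)
    have h2 : ιB (ψ c - n * ρ c) ∈ maximalIdeal (Localization.AtPrime q) ^ 2 := by
      rw [hmB, ← Ideal.map_pow]
      exact Ideal.mem_map_of_mem _ (htan c hc)
    have e : (ιB.comp ρ) c = ↑hunit.unit⁻¹ * (ιB (ψ c) - ιB (ψ c - n * ρ c)) := by
      rw [Units.eq_inv_mul_iff_mul_eq, IsUnit.unit_spec, RingHom.comp_apply, ← map_mul, ← map_sub]
      congr 1; ring
    rw [e]
    refine Ideal.mul_mem_left _ _ (Submodule.sub_mem _ ?_ ?_)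
    · exact Submodule.mem_sup_left h1
    · exact Submodule.mem_sup_right h2


include hres in
lemma residue_RL (s : Localization.AtPrime q) :
    ∃ r : Localization.AtPrime (q.comap ψ),
      s - Localization.localRingHom (q.comap ψ) q ψ rfl r ∈ maximalIdeal (Localization.AtPrime q) := by
  let ιA := algebraMap A (Localization.AtPrime (q.comap ψ))
  let ιB := algebraMap B (Localization.AtPrime q)
  have hmB : maximalIdeal (Localization.AtPrime q) = q.map ιB :=
    (Localization.AtPrime.map_eq_maximalIdeal).symm
  obtain ⟨b, ⟨t, ht⟩, rfl⟩ := IsLocalization.exists_mk'_eq q.primeCompl s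
  obtain ⟨t', i, hi, e⟩ := hq.exists_inv ht
  obtain ⟨a, ha⟩ := hres (b * t')
  refine ⟨ιA a, ?_⟩
  rw [Localization.localRingHom_to_map]
  have e1 : IsLocalization.mk' (Localization.AtPrime q) b (⟨t, ht⟩ : q.primeCompl) - ιB (ψ a)
      = IsLocalization.mk' (Localization.AtPrime q) b (⟨t, ht⟩ : q.primeCompl) * ιB i
        + ιB (b * t' - ψ a) := by
    have e2 : IsLocalization.mk' (Localization.AtPrime q) b (⟨t, ht⟩ : q.primeCompl) * ιB t = ιB b :=
      IsLocalization.mk'_spec (Localization.AtPrime q) b (⟨t, ht⟩ : q.primeCompl)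
    have e3 : ιB i = 1 - ιB t' * ιB t := by
      rw [← map_mul, ← map_one ιB, ← e, map_add]; ring
    rw [e3, map_sub, map_mul]
    linear_combination (ιB t') * e2
  rw [e1, hmB]
  exact add_mem (Ideal.mul_mem_left _ _ (Ideal.mem_map_of_mem _ hi)) (Ideal.mem_map_of_mem _ ha)


include hρ hcomap hn htan hres in
/-- **Ring-level criterion**: a "near-identity" endomorphism is étale at a rational point. -/
theorem isEtaleAt_RL (hfp : ψ.FinitePresentation) :
    letI := ψ.toAlgebra
    Algebra.IsEtaleAt A q := by
  letI := ψ.toAlgebra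
  have : Algebra.FinitePresentation A B := hfp
  have hLO : q.LiesOver (q.comap ψ) := ⟨rfl⟩
  letI := Localization.AtPrime.algebraOfLiesOver (q.comap ψ) q
  obtain ⟨e⟩ := exists_equiv_RL ψ ρ h hρ q hcomap
  have hmm := map_maximalIdeal_RL ψ ρ h hρ q hcomap n hn htan
  have hflat : (Localization.localRingHom (q.comap ψ) q ψ rfl).Flat :=
    flat_of_map_maximalIdeal_eq' e _ hmm (residue_RL ψ q hres)
  have : Module.Flat (Localization.AtPrime (q.comap ψ)) (Localization.AtPrime q) := hflat
  have : Algebra.IsUnramifiedAt A q := by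
    rw [Algebra.isUnramifiedAt_iff_map_eq A (q.comap ψ) q]
    refine ⟨?_, ?_⟩
    · refine ⟨fun y => ?_⟩
      obtain ⟨b, rfl⟩ := Ideal.algebraMap_residueField_surjective q y
      obtain ⟨a, ha⟩ := hres b
      have h0 : algebraMap B q.ResidueField (b - ψ a) = 0 :=
        Ideal.algebraMap_residueField_eq_zero.mpr ha
      rw [map_sub, sub_eq_zero] at h0
      rw [h0]
      have : algebraMap B q.ResidueField (ψ a)
          = algebraMap (q.comap ψ).ResidueField q.ResidueField
            (algebraMap A (q.comap ψ).ResidueField a) := by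
        rw [← IsScalarTower.algebraMap_apply A (q.comap ψ).ResidueField q.ResidueField,
          IsScalarTower.algebraMap_apply A B q.ResidueField]
        rfl
      rw [this]
      exact isSeparable_algebraMap _
    · rw [← hmm, ← Localization.AtPrime.map_eq_maximalIdeal, Ideal.map_map]
      congr 1
      exact RingHom.ext fun x =>
        (Localization.localRingHom_to_map (q.comap ψ) q ψ rfl x).symm ▸ rfl
  exact isEtaleAt_of_flat_of_isUnramifiedAt (q.comap ψ) q

end RL

end Groth.Agent.Lib.Helper4.LocEtale1
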