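import Mathlib
import Groth.Prelude.Def_AlgGrp
import Groth.Agent.Lib.Helper4.InfGrp1
import Groth.Agent.Lib.Helper4.LocFlat1
import Groth.Agent.Lib.Helper4.LocEtale1

/-!
# n-th power map of a lft group scheme over a field is etale near the unit (n invertible); tangent computation (helper4)
-/

set_option backward.isDefEq.respectTransparency.types false
set_option synthInstance.maxHeartbeats 400000
set_option autoImplicit false
set_option linter.unusedSectionVars false
set_option linter.style.haveILetI false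
set_option linter.unusedSimpArgs false
universe u v w
open CategoryTheory CategoryTheory.Limits AlgebraicGeometry TopologicalSpace Opposite
open MonoidalCategory CartesianMonoidalCategory MonObj GrpObj
open Groth.Agent.Lib.Helper4.InfGrp1 Groth.Agent.Lib.Helper4.LocEtale1

namespace Groth.Agent.Lib.Helper4.PowEtale1

section Sch
variable {X Y : Scheme.{u}} (f : X ⟶ Y)

set_option backward.defeqAttrib.useBackward true in
set_option backward.isDefEq.respectTransparency false in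
/-- from étaleness at a prime of a chart to étaleness on a basic open -/
lemma exists_etale_appLE_of_isEtaleAt {U : Y.Opens} (hU : IsAffineOpen U) {V : X.Opens}
    (hV : IsAffineOpen V) (hVU : V ≤ f ⁻¹ᵁ U)
    (hfp : (f.appLE U V hVU).hom.FinitePresentation)
    (q : Ideal Γ(X, V)) [q.IsPrime]
    (H : letI := (f.appLE U V hVU).hom.toAlgebra; Algebra.IsEtaleAt Γ(Y, U) q) :
    ∃ r : Γ(X, V), r ∉ q ∧
      (f.appLE U (X.basicOpen r) ((X.basicOpen_le r).trans hVU)).hom.Etale := by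
  algebraize [(f.appLE U V hVU).hom]
  have : Algebra.FinitePresentation Γ(Y, U) Γ(X, V) := hfp
  obtain ⟨r, hrx, hr⟩ := Algebra.exists_etale_of_isEtaleAt (R := Γ(Y, U)) q
  refine ⟨r, hrx, ?_⟩
  have := hV.isLocalization_basicOpen r
  rw [← RingHom.etale_algebraMap] at hr
  convert!
    RingHom.Etale.propertyIsLocal.respectsIso.1 _
      (IsLocalization.algEquiv (.powers r) _ Γ(X, X.basicOpen r)).toRingEquiv hr
  ext
  dsimp
  simp only [IsScalarTower.algebraMap_apply Γ(Y, U) Γ(X, V) (Localization _),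
    IsLocalization.map_eq]
  simp only [RingHom.algebraMap_toAlgebra, RingHomCompTriple.comp_apply, ← ConcreteCategory.comp_apply,
    Scheme.Hom.appLE_map]

/-- étaleness of the restriction to an affine open from the ring map -/
lemma etale_ι_comp_of_appLE {U : Y.Opens} (hU : IsAffineOpen U) {V : X.Opens}
    (hV : IsAffineOpen V) (hVU : V ≤ f ⁻¹ᵁ U) (H : (f.appLE U V hVU).hom.Etale) :
    Etale (V.ι ≫ f) := by
  have e : V.ι ≫ f = f.resLE U V hVU ≫ U.ι := (Scheme.Hom.resLE_comp_ι f hVU).symm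
  rw [e]
  have : IsAffine _ := hU
  have : IsAffine _ := hV
  have : Etale (f.resLE U V hVU) := by
    rw [HasRingHomProperty.iff_of_isAffine (P := @Etale)]
    exact (RingHom.Etale.propertyIsLocal.respectsIso.arrow_mk_iso_iff
      (arrowResLEAppIso f U V hVU)).mpr H
  infer_instance

end Sch

section BetaMore
variable {K₀ R R' : CommRingCat.{u}} (t : Spec R ⟶ Spec K₀) (t' : Spec R' ⟶ Spec K₀)
  {X : Over (Spec K₀)} {W V : X.left.Opens} (hW : IsAffineOpen W)

include hW in
lemma beta_precomp (j : Over.mk t' ⟶ Over.mk t) (k : Over.mk t ⟶ X) (hk : k.left ⁻¹ᵁ W = ⊤)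
    (hk' : (j ≫ k).left ⁻¹ᵁ W = ⊤) :
    beta t' (j ≫ k) hk' = beta t k hk ≫ Spec.preimage j.left := by
  apply Spec.map_injective
  rw [← cancel_mono hW.fromSpec, specMap_beta t' hW, Spec.map_comp, Spec.map_preimage,
    Category.assoc, specMap_beta t hW]
  rfl

lemma beta_restrict (hVW : V ≤ W) (k : Over.mk t ⟶ X) (hk : k.left ⁻¹ᵁ V = ⊤)
    (hk' : k.left ⁻¹ᵁ W = ⊤) :
    beta t k hk' = X.left.presheaf.map (homOfLE hVW).op ≫ beta t k hk := by
  unfold beta
  rw [← Category.assoc, Scheme.Hom.map_appLE]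

end BetaMore

section Grp
variable (k : Type u) [Field k] (G : Over (Spec (CommRingCat.of k))) [GrpObj G]

/-- the point of `Spec k` -/
noncomputable def pt : ↥(Spec (CommRingCat.of k)) := IsLocalRing.closedPoint k

lemma eq_pt {Z : Scheme.{u}} (t : Z ⟶ Spec (CommRingCat.of k)) (x : Z) : t.base x = pt k :=
  Subsingleton.elim _ _

variable {W V : G.left.Opens} (hW : IsAffineOpen W) (he : η[G].left.base (pt k) ∈ W)
  (hV : IsAffineOpen V) (heV : η[G].left.base (pt k) ∈ V)

/-- the counit on the chart `W` -/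
noncomputable def eps : Γ(G.left, W) ⟶ CommRingCat.of k :=
  beta (𝟙 (Spec (CommRingCat.of k))) (1 : Over.mk (𝟙 (Spec (CommRingCat.of k))) ⟶ G)
    (one_preimage (𝟙 _) (pt k) (eq_pt k _) he)

include hW in
lemma sig_eps : sig hW ≫ eps k G he = 𝟙 _ := by
  unfold eps
  rw [sig_beta (𝟙 _) hW]
  apply Spec.map_injective
  rw [Spec.map_preimage, Spec.map_id]

include hW in
lemma beta_one {R : CommRingCat.{u}} (t : Spec R ⟶ Spec (CommRingCat.of k)) :
    beta t (1 : Over.mk t ⟶ G) (one_preimage t (pt k) (eq_pt k t) he)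
      = eps k G he ≫ Spec.preimage t := by
  let j : Over.mk t ⟶ Over.mk (𝟙 (Spec (CommRingCat.of k))) := Over.homMk t
  have hj : j ≫ (1 : Over.mk (𝟙 (Spec (CommRingCat.of k))) ⟶ G) = 1 := MonObj.comp_one j
  have h1 : (j ≫ (1 : Over.mk (𝟙 (Spec (CommRingCat.of k))) ⟶ G)).left ⁻¹ᵁ W = ⊤ := by
    rw [hj]; exact one_preimage t (pt k) (eq_pt k t) he
  rw [← beta_congr t hj h1 (one_preimage t (pt k) (eq_pt k t) he)]
  exact beta_precomp (𝟙 _) t hW j 1 (one_preimage (𝟙 _) (pt k) (eq_pt k _) he) h1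

lemma restrict_eps (hVW : V ≤ W) :
    G.left.presheaf.map (homOfLE hVW).op ≫ eps k G heV = eps k G he :=
  (beta_restrict (𝟙 _) hVW 1 _ _).symm

lemma appLE_eps (g : G ⟶ G) (hg : η[G] ≫ g = η[G]) (hle : V ≤ g.left ⁻¹ᵁ W) :
    g.left.appLE W V hle ≫ eps k G heV = eps k G he := by
  have h1 : (1 : Over.mk (𝟙 (Spec (CommRingCat.of k))) ⟶ G) ≫ g = 1 := hg
  have h2 : ((1 : Over.mk (𝟙 (Spec (CommRingCat.of k))) ⟶ G) ≫ g).left ⁻¹ᵁ W = ⊤ := by
    rw [h1]; exact one_preimage (𝟙 _) (pt k) (eq_pt k _) he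
  unfold eps
  rw [← beta_comp (𝟙 _) g W hle 1 (one_preimage (𝟙 _) (pt k) (eq_pt k _) heV) h2]
  exact beta_congr (𝟙 _) h1 h2 _


include hW hV in
/-- **Tangent computation**: the `n`-th power map is `n` on the cotangent space at the unit. -/
theorem tangent (n : ℕ) (hVW : V ≤ W) (hle : V ≤ ((𝟙 G : G ⟶ G) ^ n).left ⁻¹ᵁ W)
    (c : Γ(G.left, W)) (hc : (eps k G he).hom c = 0) :
    (((𝟙 G : G ⟶ G) ^ n).left.appLE W V hle).hom c
      - n • (G.left.presheaf.map (homOfLE hVW).op).hom c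
      ∈ (RingHom.ker (eps k G heV).hom) ^ 2 := by
  set q := RingHom.ker (eps k G heV).hom with hq
  let R : CommRingCat.{u} := CommRingCat.of (Γ(G.left, V) ⧸ q ^ 2)
  let R₀ : CommRingCat.{u} := CommRingCat.of (Γ(G.left, V) ⧸ q)
  have hle2 : q ^ 2 ≤ q := Ideal.pow_le_self two_ne_zero
  let φ : R ⟶ R₀ := CommRingCat.ofHom (Ideal.Quotient.factor hle2)
  have hφ : Function.Surjective φ.hom := Ideal.Quotient.factor_surjective hle2
  have hker : RingHom.ker φ.hom = q.map (Ideal.Quotient.mk (q ^ 2)) := by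
    change RingHom.ker (Ideal.Quotient.factor hle2) = _
    rw [Ideal.Quotient.factor_ker]
  have hI : RingHom.ker φ.hom ^ 2 = ⊥ := by
    rw [hker, ← Ideal.map_pow, Ideal.map_quotient_self]
  let mk2 : Γ(G.left, V) ⟶ R := CommRingCat.ofHom (Ideal.Quotient.mk (q ^ 2))
  let t : Spec R ⟶ Spec (CommRingCat.of k) := Spec.map (sig hV ≫ mk2)
  have hψ : sig hV ≫ mk2 = Spec.preimage t := (Spec.preimage_map _).symm
  let κ : Over.mk t ⟶ G := ofHom t hV mk2 hψ
  have hκV : κ.left ⁻¹ᵁ V = ⊤ := ofHom_preimage t hV mk2 hψ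
  have hβκ : beta t κ hκV = mk2 := beta_ofHom t hV mk2 hψ
  have hκ1 : thick φ t ≫ κ = 1 := by
    rw [← thick_one φ t (A := G)]
    apply near_of_beta_comp_eq φ t hV 1 κ (one_preimage t (pt k) (eq_pt k t) heV) hκV
    rw [hβκ, beta_one k G hV heV t, ← hψ]
    ext b
    change Ideal.Quotient.factor hle2 (Ideal.Quotient.mk (q ^ 2) b)
      = Ideal.Quotient.factor hle2 (Ideal.Quotient.mk (q ^ 2) ((sig hV).hom ((eps k G heV).hom b)))
    rw [Ideal.Quotient.factor_mk, Ideal.Quotient.factor_mk, Ideal.Quotient.eq, hq, RingHom.mem_ker,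
      map_sub, sub_eq_zero]
    have := congrArg (fun f => f.hom ((eps k G heV).hom b)) (sig_eps k G hV heV)
    exact this.symm
  have key := beta_pow φ hφ hI t (pt k) (eq_pt k t) hW he κ hκ1 n c
  have h1 : (beta t (1 : Over.mk t ⟶ G) (one_preimage t (pt k) (eq_pt k t) he)).hom c = 0 := by
    rw [beta_one k G hW he t]
    change (Spec.preimage t).hom ((eps k G he).hom c) = 0
    rw [hc, map_zero]
  have hκW : κ.left ⁻¹ᵁ W = ⊤ := near_one_preimage φ hφ hI t (pt k) (eq_pt k t) he κ hκ1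
  have h2 : beta t κ hκW = G.left.presheaf.map (homOfLE hVW).op ≫ mk2 := by
    rw [beta_restrict t hVW κ hκV hκW, hβκ]
  have hpow : κ ≫ ((𝟙 G : G ⟶ G) ^ n) = κ ^ n := by rw [MonObj.comp_pow, Category.comp_id]
  have hκnW : (κ ^ n).left ⁻¹ᵁ W = ⊤ :=
    near_one_preimage φ hφ hI t (pt k) (eq_pt k t) he _ (thick_pow φ t κ hκ1 n)
  have hκnW' : (κ ≫ ((𝟙 G : G ⟶ G) ^ n)).left ⁻¹ᵁ W = ⊤ := by rw [hpow]; exact hκnW
  have h3 : beta t (κ ^ n) hκnW = ((𝟙 G : G ⟶ G) ^ n).left.appLE W V hle ≫ mk2 := by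
    rw [← beta_congr t hpow hκnW' hκnW, beta_comp t _ W hle κ hκV hκnW', hβκ]
  rw [h1, sub_zero, sub_zero, beta_congr t rfl _ hκnW, h3, beta_congr t rfl _ hκW, h2] at key
  change Ideal.Quotient.mk (q ^ 2) _ = n • Ideal.Quotient.mk (q ^ 2) _ at key
  rw [← Ideal.Quotient.eq_zero_iff_mem, map_sub, map_nsmul]
  exact sub_eq_zero.mpr key


include hV in
lemma unit_mem_basicOpen (r : Γ(G.left, V)) (hr : (eps k G heV).hom r ≠ 0) :
    η[G].left.base (pt k) ∈ G.left.basicOpen r := by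
  have hx1 : (1 : Over.mk (𝟙 (Spec (CommRingCat.of k))) ⟶ G).left
      = Spec.map (eps k G heV) ≫ hV.fromSpec :=
    (specMap_beta (𝟙 _) hV 1 (one_preimage (𝟙 _) (pt k) (eq_pt k _) heV)).symm
  have h2 : η[G].left.base (pt k)
      = (1 : Over.mk (𝟙 (Spec (CommRingCat.of k))) ⟶ G).left.base (pt k) := rfl
  rw [h2, hx1, Scheme.Hom.comp_base, TopCat.comp_app, ← Scheme.Hom.mem_preimage,
    hV.fromSpec_preimage_basicOpen]
  change r ∉ Ideal.comap (eps k G heV).hom (IsLocalRing.maximalIdeal k)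
  rw [Ideal.mem_comap, IsLocalRing.notMem_maximalIdeal]
  exact IsUnit.mk0 _ hr

end Grp


section Main
variable (k : Type u) [Field k] (G : Over (Spec (CommRingCat.of k))) [GrpObj G]
  [LocallyOfFiniteType G.hom]

include k in
/-- the `n`-th power map of a group scheme locally of finite type over a field is étale near the
unit section, if `n` is invertible in `k` (no smoothness or commutativity assumption) -/
theorem exists_etale_nhd_unit (n : ℕ) (hn : (n : k) ≠ 0) :
    ∃ U : G.left.Opens, η[G].left.base (pt k) ∈ U ∧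
      Etale (U.ι ≫ ((𝟙 G : G ⟶ G) ^ n).left) := by
  have hu1 : η[G] ≫ ((𝟙 G : G ⟶ G) ^ n) = η[G] := by
    rw [MonObj.comp_pow, Category.comp_id]
    exact one_pow n
  obtain ⟨_, ⟨W, hW, rfl⟩, he, -⟩ :=
    G.left.isBasis_affineOpens.exists_subset_of_mem_open
      (Set.mem_univ (η[G].left.base (pt k))) isOpen_univ
  have hue : ((𝟙 G : G ⟶ G) ^ n).left.base (η[G].left.base (pt k)) = η[G].left.base (pt k) :=
    congrArg (fun f : 𝟙_ (Over (Spec (CommRingCat.of k))) ⟶ G => f.left.base (pt k)) hu1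
  have he2 : η[G].left.base (pt k) ∈ W ⊓ ((𝟙 G : G ⟶ G) ^ n).left ⁻¹ᵁ W :=
    ⟨he, by change ((𝟙 G : G ⟶ G) ^ n).left.base _ ∈ W; rw [hue]; exact he⟩
  obtain ⟨h, hle0, heV⟩ := hW.exists_basicOpen_le ⟨_, he2⟩ he
  have hV : IsAffineOpen (G.left.basicOpen h) := hW.basicOpen h
  have hVW : G.left.basicOpen h ≤ W := G.left.basicOpen_le h
  have hle : G.left.basicOpen h ≤ ((𝟙 G : G ⟶ G) ^ n).left ⁻¹ᵁ W := hle0.trans inf_le_right
  -- ring-level data
  let ψ : Γ(G.left, W) →+* Γ(G.left, G.left.basicOpen h) :=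
    (((𝟙 G : G ⟶ G) ^ n).left.appLE W (G.left.basicOpen h) hle).hom
  let ρ : Γ(G.left, W) →+* Γ(G.left, G.left.basicOpen h) :=
    (G.left.presheaf.map (homOfLE hVW).op).hom
  let q : Ideal Γ(G.left, G.left.basicOpen h) := RingHom.ker (eps k G heV).hom
  have hεsurj : Function.Surjective (eps k G heV).hom := fun x =>
    ⟨(sig hV).hom x, congrArg (fun f => f.hom x) (sig_eps k G hV heV)⟩
  haveI hqmax : q.IsMaximal := RingHom.ker_isMaximal_of_surjective _ hεsurj
  have hψε : ∀ c, (eps k G heV).hom (ψ c) = (eps k G he).hom c := fun c =>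
    congrArg (fun f => f.hom c) (appLE_eps k G he heV _ hu1 hle)
  have hρε : ∀ c, (eps k G heV).hom (ρ c) = (eps k G he).hom c := fun c =>
    congrArg (fun f => f.hom c) (restrict_eps k G he heV hVW)
  have hcomap : q.comap ψ = q.comap ρ := by
    ext c
    simp only [Ideal.mem_comap, q, RingHom.mem_ker, hψε, hρε]
  haveI : IsLocallyNoetherian G.left := LocallyOfFiniteType.isLocallyNoetherian G.hom
  haveI : IsNoetherianRing Γ(G.left, W) := IsLocallyNoetherian.component_noetherian ⟨W, hW⟩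
  haveI : IsNoetherianRing Γ(G.left, G.left.basicOpen h) :=
    IsLocallyNoetherian.component_noetherian ⟨_, hV⟩
  have hρ : letI := ρ.toAlgebra; IsLocalization.Away h Γ(G.left, G.left.basicOpen h) :=
    hW.isLocalization_basicOpen h
  have hn' : ((n : ℕ) : Γ(G.left, G.left.basicOpen h)) ∉ q := by
    simp only [q, RingHom.mem_ker, map_natCast]
    exact hn
  have htan : ∀ c ∈ q.comap ψ, ψ c - (n : Γ(G.left, G.left.basicOpen h)) * ρ c ∈ q ^ 2 := by
    intro c hc
    have hc' : (eps k G he).hom c = 0 := by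
      rw [← hψε]; exact hc
    have := tangent k G hW he hV heV n hVW hle c hc'
    rwa [nsmul_eq_mul] at this
  have hres : ∀ b : Γ(G.left, G.left.basicOpen h), ∃ a : Γ(G.left, W), b - ψ a ∈ q := by
    intro b
    refine ⟨(sig hW).hom ((eps k G heV).hom b), ?_⟩
    simp only [q, RingHom.mem_ker, map_sub, hψε]
    rw [sub_eq_zero]
    exact (congrArg (fun f => f.hom ((eps k G heV).hom b)) (sig_eps k G hW he)).symm
  have hw : ((𝟙 G : G ⟶ G) ^ n).left ≫ G.hom = G.hom := Over.w _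
  haveI : LocallyOfFiniteType (((𝟙 G : G ⟶ G) ^ n).left ≫ G.hom) := by rw [hw]; infer_instance
  haveI : LocallyOfFiniteType (((𝟙 G : G ⟶ G) ^ n).left) :=
    locallyOfFiniteType_of_comp _ G.hom
  haveI : LocallyOfFinitePresentation (((𝟙 G : G ⟶ G) ^ n).left) :=
    LocallyOfFinitePresentation.iff_locallyOfFiniteType.mpr inferInstance
  have hfp : ψ.FinitePresentation :=
    HasRingHomProperty.appLE @LocallyOfFinitePresentation _ inferInstance ⟨W, hW⟩ ⟨_, hV⟩ hle
  have H := isEtaleAt_RL ψ ρ h hρ q hcomap _ hn' htan hres hfp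
  obtain ⟨r, hrq, hr⟩ := exists_etale_appLE_of_isEtaleAt _ hW hV hle hfp q H
  refine ⟨G.left.basicOpen r, unit_mem_basicOpen k G hV heV r ?_,
    etale_ι_comp_of_appLE _ hW (hV.basicOpen r) _ hr⟩
  simpa [q, RingHom.mem_ker] using hrq

end Main

section S4111
variable (k : Type u) [Field k] (G : Over (Spec (CommRingCat.of k))) [GrpObj G]
  [LocallyOfFiniteType G.hom]

include k in
theorem main_S4111 (n : ℕ) (hn : (n : k) ≠ 0) :
    ∃ U : G.left.Opens, (∀ p : ↥(𝟙_ (Over (Spec (CommRingCat.of k)))).left, η[G].left.base p ∈ U) ∧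
      Etale (U.ι ≫ ((𝟙 G : G ⟶ G) ^ n).left) := by
  obtain ⟨U, hU, hE⟩ := exists_etale_nhd_unit k G n hn
  refine ⟨U, fun p => ?_, hE⟩
  have : p = pt k := Subsingleton.elim (α := ↥(Spec (CommRingCat.of k))) _ _
  rw [this]; exact hU

end S4111

end Groth.Agent.Lib.Helper4.PowEtale1
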