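import Mathlib
import Groth.Prelude.Def_AlgGrp
import Groth.Agent.S5355
import Groth.Agent.Lib.Helper2.Sch.Reduced
import Groth.Agent.Lib.Helper4.WordPts1

/-!
# HN = G from K-points: closed points are images of K-points, composite H -> G/N flat surjective (helper4) (helper4)
-/

set_option backward.isDefEq.respectTransparency.types false
set_option synthInstance.maxHeartbeats 400000
set_option autoImplicit false
set_option linter.unusedSectionVars false
set_option linter.style.haveILetI false
set_option linter.unusedSimpArgs false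
universe u v w
open CategoryTheory CategoryTheory.Limits AlgebraicGeometry TopologicalSpace Opposite
open MonoidalCategory CartesianMonoidalCategory MonObj GrpObj

namespace Groth.Agent.Lib.Helper4.SubgrpProd1

/-- a closed point of a scheme locally of finite type over `k` is the image of a `K`-point,
for `K` an algebraically closed extension of `k` -/
theorem exists_Kpoint_of_closed (k K : Type u) [Field k] [Field K] [Algebra k K] [IsAlgClosed K]
    {Y : Scheme.{u}} (p : Y ⟶ Spec (CommRingCat.of k)) [LocallyOfFiniteType p] (y : Y)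
    (hy : IsClosed ({y} : Set Y)) :
    ∃ c : Spec (CommRingCat.of K) ⟶ Y, c ≫ p = Spec.map (CommRingCat.ofHom (algebraMap k K)) ∧
      ∀ t, c t = y := by
  have hfin : IsFinite (Y.fromSpecResidueField y ≫ p) := by
    rw [isClosed_singleton_iff_isClosedImmersion] at hy
    haveI : JacobsonSpace ↥(Spec (CommRingCat.of k)) := inferInstance
    rw [isFinite_iff_locallyOfFiniteType_of_jacobsonSpace]
    infer_instance
  let φ : CommRingCat.of k ⟶ Y.residueField y := Spec.preimage (Y.fromSpecResidueField y ≫ p)
  have hφ : Spec.map φ = Y.fromSpecResidueField y ≫ p := Spec.map_preimage _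
  have hφfin : φ.hom.Finite := by
    have : IsFinite (Spec.map φ) := by rw [hφ]; exact hfin
    exact (IsFinite.SpecMap_iff φ).mp this
  letI : Algebra k (Y.residueField y) := φ.hom.toAlgebra
  haveI : Algebra.IsAlgebraic k (Y.residueField y) := by
    haveI : Module.Finite k (Y.residueField y) := hφfin
    infer_instance
  let ψ : (Y.residueField y) →ₐ[k] K := IsAlgClosed.lift
  refine ⟨Spec.map (CommRingCat.ofHom ψ.toRingHom) ≫ Y.fromSpecResidueField y, ?_, ?_⟩
  · rw [Category.assoc, ← hφ, ← Spec.map_comp]
    congr 1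
    ext a
    exact ψ.commutes a
  · intro t
    rw [Scheme.Hom.comp_apply]
    exact Scheme.fromSpecResidueField_apply _ _

theorem main (k K : Type u) [Field k] [Field K] [Algebra k K]
    [IsAlgClosed K] (G H N Q : Over (Spec (CommRingCat.of k))) [GrpObj G] [GrpObj H] [GrpObj N] [GrpObj Q]
    [LocallyOfFiniteType G.hom] [QuasiCompact G.hom] [LocallyOfFiniteType H.hom] [QuasiCompact H.hom] [LocallyOfFiniteType N.hom] [QuasiCompact N.hom] [LocallyOfFiniteType Q.hom] [QuasiCompact Q.hom] [Smooth Q.hom]
    (iH : H ⟶ G) [IsMonHom iH] [IsClosedImmersion iH.left] (iN : N ⟶ G) [IsMonHom iN] [IsClosedImmersion iN.left]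
    (hN : AlgGrp.IsNormalHom iN) (q : G ⟶ Q) [IsMonHom q] [Flat q.left] [Surjective q.left] (hq : AlgGrp.IsKernel iN q)
    (hpts : ∀ g : Over.mk (Spec.map (CommRingCat.ofHom (algebraMap k K))) ⟶ G, ∃ (h : Over.mk (Spec.map (CommRingCat.ofHom (algebraMap k K))) ⟶ H) (n : Over.mk (Spec.map (CommRingCat.ofHom (algebraMap k K))) ⟶ N), g = (h ≫ iH) * (n ≫ iN)) :
    Flat (iH ≫ q).left ∧ Surjective (iH ≫ q).left := by
  haveI : IsReduced Q.left := Groth.Agent.Helper2.SchLib.isReduced_of_smooth Q.hom
  haveI : IsLocallyNoetherian Q.left := LocallyOfFiniteType.isLocallyNoetherian Q.hom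
  haveI : QuasiSeparated Q.hom := inferInstance
  haveI : QuasiCompact (iH ≫ q).left := by
    haveI : QuasiCompact ((iH ≫ q).left ≫ Q.hom) := by rw [Over.w]; infer_instance
    exact QuasiCompact.of_comp _ Q.hom
  haveI : LocallyOfFiniteType q.left := by
    haveI : LocallyOfFiniteType (q.left ≫ Q.hom) := by rw [Over.w]; infer_instance
    exact locallyOfFiniteType_of_comp _ Q.hom
  have hiq : iN ≫ q = 1 := by rw [hq.w]; rfl
  have hdense : DenseRange (iH ≫ q).left.base := by
    haveI : JacobsonSpace Q.left := LocallyOfFiniteType.jacobsonSpace Q.hom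
    rw [DenseRange, dense_iff_closure_eq]
    apply Set.eq_univ_of_univ_subset
    rw [← closure_closedPoints]
    apply closure_mono
    intro y hy
    obtain ⟨c, hc, hcy⟩ := exists_Kpoint_of_closed k K Q.hom y hy
    let t₀ : Spec (CommRingCat.of K) := IsLocalRing.closedPoint K
    obtain ⟨x, hx⟩ := q.left.surjective (c t₀)
    obtain ⟨z, -, -⟩ := Scheme.Pullback.exists_preimage_pullback x t₀ hx
    haveI : Nonempty ↥(pullback q.left c) := ⟨z⟩
    obtain ⟨σ, hσ⟩ :=
      Groth.Agent.Lib.Helper4.WordPts1.exists_section_of_lft (pullback.snd q.left c)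
    have hgq : (σ ≫ pullback.fst q.left c) ≫ q.left = c := by
      rw [Category.assoc, pullback.condition, ← Category.assoc, hσ, Category.id_comp]
    let g' : Over.mk (Spec.map (CommRingCat.ofHom (algebraMap k K))) ⟶ G :=
      Over.homMk (σ ≫ pullback.fst q.left c) (by
        show (σ ≫ pullback.fst q.left c) ≫ G.hom = Spec.map _
        rw [← Over.w q, ← Category.assoc, hgq, hc])
    obtain ⟨h, n, hg⟩ := hpts g'
    have key : g' ≫ q = h ≫ iH ≫ q := by
      rw [hg, MonObj.mul_comp, Category.assoc, Category.assoc, hiq, MonObj.comp_one,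
        _root_.mul_one]
    have key' : c = (h ≫ iH ≫ q).left := by
      rw [← key, Over.comp_left]; exact hgq.symm
    refine ⟨h.left t₀, ?_⟩
    rw [← hcy t₀, key', Over.comp_left, Scheme.Hom.comp_apply]
    rfl
  obtain ⟨h1, h2⟩ := Groth.Agent.S5355.result k H Q (iH ≫ q) hdense
  exact ⟨h2 inferInstance, h1⟩

end Groth.Agent.Lib.Helper4.SubgrpProd1
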