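import Mathlib
import Groth.Prelude.Def_AlgGrp
import Groth.Agent.Lib.Helper4.PowEtale1
import Groth.Agent.Lib.Helper4.SubgrpProd1
import Groth.Agent.Lib.Helper4.HomogDim1

/-!
# translations of group objects; n-th power map etale at central rational points; etale everywhere for commutative lft group schemes over a field (helper4)
-/

set_option backward.isDefEq.respectTransparency.types false
set_option synthInstance.maxHeartbeats 400000
set_option autoImplicit false
set_option linter.unusedSectionVars false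
set_option linter.style.haveILetI false
set_option linter.unusedSimpArgs false
universe u v w
open CategoryTheory CategoryTheory.Limits AlgebraicGeometry TopologicalSpace Opposite
open MonoidalCategory CartesianMonoidalCategory MonObj GrpObj
open Groth.Agent.Lib.Helper4.PowEtale1

namespace Groth.Agent.Lib.Helper4.PowEtale2

section Transl
variable {C : Type u} [Category.{v} C] [CartesianMonoidalCategory C] {G : C} [GrpObj G]

/-- left translation by a point -/
def transl (a : 𝟙_ C ⟶ G) : G ⟶ G := (toUnit G ≫ a) * 𝟙 G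

lemma transl_one : transl (1 : 𝟙_ C ⟶ G) = 𝟙 G := by
  unfold transl
  rw [MonObj.comp_one, _root_.one_mul]

lemma transl_comp (a b : 𝟙_ C ⟶ G) : transl a ≫ transl b = transl (b * a) := by
  unfold transl
  rw [MonObj.comp_mul, Category.comp_id, ← Category.assoc, toUnit_unique (_ ≫ toUnit G) (toUnit G),
    MonObj.comp_mul, _root_.mul_assoc]

instance (a : 𝟙_ C ⟶ G) : IsIso (transl a) :=
  ⟨transl a⁻¹, by rw [transl_comp, inv_mul_cancel, transl_one],
    by rw [transl_comp, mul_inv_cancel, transl_one]⟩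

lemma point_comp_transl (a b : 𝟙_ C ⟶ G) : a ≫ transl b = b * a := by
  unfold transl
  rw [MonObj.comp_mul, Category.comp_id, ← Category.assoc, toUnit_unique (_ ≫ toUnit G) (𝟙 _),
    Category.id_comp]

lemma transl_comp_pow (a : 𝟙_ C ⟶ G) (hc : Commute (toUnit G ≫ a) (𝟙 G)) (n : ℕ) :
    transl a ≫ ((𝟙 G : G ⟶ G) ^ n) = ((𝟙 G : G ⟶ G) ^ n) ≫ transl (a ^ n) := by
  rw [MonObj.comp_pow, Category.comp_id]
  unfold transl
  rw [hc.mul_pow, MonObj.comp_mul, Category.comp_id, ← Category.assoc,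
    toUnit_unique (_ ≫ toUnit G) (toUnit G), MonObj.comp_pow]

end Transl

section S8395
variable (k : Type u) [Field k] (G : Over (Spec (CommRingCat.of k))) [GrpObj G]
  [LocallyOfFiniteType G.hom]

include k in
/-- étaleness of the power map transported by a translation -/
theorem etale_near_of_commute (n : ℕ) (hn : (n : k) ≠ 0)
    (g : 𝟙_ (Over (Spec (CommRingCat.of k))) ⟶ G) (hc : Commute (toUnit G ≫ g) (𝟙 G)) :
    ∃ U : G.left.Opens, Set.range g.left.base ⊆ (U : Set ↥G.left) ∧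
      Etale (U.ι ≫ ((𝟙 G : G ⟶ G) ^ n).left) := by
  obtain ⟨U₀, hU₀, hE⟩ := exists_etale_nhd_unit k G n hn
  have hc' : Commute (toUnit G ≫ g⁻¹) (𝟙 G) := by
    rw [GrpObj.comp_inv]; exact hc.inv_left
  have h1 : transl g⁻¹ ≫ ((𝟙 G : G ⟶ G) ^ n) = ((𝟙 G : G ⟶ G) ^ n) ≫ transl (g⁻¹ ^ n) :=
    transl_comp_pow g⁻¹ hc' n
  have h2 : ((𝟙 G : G ⟶ G) ^ n)
      = transl g⁻¹ ≫ ((𝟙 G : G ⟶ G) ^ n) ≫ transl (g⁻¹ ^ n)⁻¹ := by
    rw [← Category.assoc, h1, Category.assoc, transl_comp, inv_mul_cancel, transl_one,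
      Category.comp_id]
  have h2' : ((𝟙 G : G ⟶ G) ^ n).left
      = (transl g⁻¹).left ≫ ((𝟙 G : G ⟶ G) ^ n).left ≫ (transl (g⁻¹ ^ n)⁻¹).left := by
    conv_lhs => rw [h2]
    rfl
  refine ⟨(transl g⁻¹).left ⁻¹ᵁ U₀, ?_, ?_⟩
  · rintro _ ⟨p, rfl⟩
    change (transl g⁻¹).left.base (g.left.base p) ∈ U₀
    have h3 : g ≫ transl g⁻¹ = 1 := by rw [point_comp_transl, inv_mul_cancel]
    have e : (transl g⁻¹).left.base (g.left.base p) = η[G].left.base p :=
      congrArg (fun f : 𝟙_ (Over (Spec (CommRingCat.of k))) ⟶ G => f.left.base p) h3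
    rw [e]
    have hp : p = pt k := Subsingleton.elim (α := ↥(Spec (CommRingCat.of k))) _ _
    rw [hp]; exact hU₀
  · haveI : IsIso (transl g⁻¹).left :=
      inferInstanceAs (IsIso ((Over.forget _).map (transl g⁻¹)))
    haveI : IsIso (transl (g⁻¹ ^ n)⁻¹).left :=
      inferInstanceAs (IsIso ((Over.forget _).map (transl (g⁻¹ ^ n)⁻¹)))
    have e : ((transl g⁻¹).left ⁻¹ᵁ U₀).ι ≫ ((𝟙 G : G ⟶ G) ^ n).left
        = ((transl g⁻¹).left ∣_ U₀) ≫ (U₀.ι ≫ ((𝟙 G : G ⟶ G) ^ n).left)
          ≫ (transl (g⁻¹ ^ n)⁻¹).left := by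
      conv_lhs => rw [h2']
      rw [← Category.assoc, ← morphismRestrict_ι, Category.assoc, Category.assoc]
    rw [e]
    infer_instance

include k in
theorem main_S8395 (n : ℕ) (hn : (n : k) ≠ 0)
    (g : 𝟙_ (Over (Spec (CommRingCat.of k))) ⟶ G)
    (hg : ∀ (X : Over (Spec (CommRingCat.of k))) (x : X ⟶ G),
      (toUnit X ≫ g) * x = x * (toUnit X ≫ g)) :
    ∃ U : G.left.Opens, Set.range g.left.base ⊆ (U : Set ↥G.left) ∧
      Etale (U.ι ≫ ((𝟙 G : G ⟶ G) ^ n).left) :=
  etale_near_of_commute k G n hn g (hg G (𝟙 G))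

end S8395


section AlgClosed
variable (K : Type u) [Field K] [IsAlgClosed K]
  (G : Over (Spec (CommRingCat.of K))) [GrpObj G] [IsCommMonObj G] [LocallyOfFiniteType G.hom]

include K in
theorem etale_pow_of_isAlgClosed (n : ℕ) (hn : (n : K) ≠ 0) :
    Etale ((𝟙 G : G ⟶ G) ^ n).left := by
  haveI : JacobsonSpace G.left := LocallyOfFiniteType.jacobsonSpace G.hom
  have H : ∀ x : G.left, IsClosed ({x} : Set G.left) →
      ∃ U : G.left.Opens, x ∈ U ∧ Etale (U.ι ≫ ((𝟙 G : G ⟶ G) ^ n).left) := by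
    intro x hx
    obtain ⟨c, hc, hcx⟩ :=
      Groth.Agent.Lib.Helper4.SubgrpProd1.exists_Kpoint_of_closed K K G.hom x hx
    have hc' : c ≫ G.hom = 𝟙 _ := by
      rw [hc]
      change Spec.map (CommRingCat.ofHom (RingHom.id K)) = _
      exact Spec.map_id _
    let g : 𝟙_ (Over (Spec (CommRingCat.of K))) ⟶ G := Over.homMk c hc'
    have hcomm : Commute (toUnit G ≫ g) (𝟙 G) := by
      change (toUnit G ≫ g) * 𝟙 G = 𝟙 G * (toUnit G ≫ g)
      rw [Hom.mul_def, Hom.mul_def]
      conv_rhs => rw [← IsCommMonObj.mul_comm G]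
      rw [← Category.assoc]
      congr 1
      apply CartesianMonoidalCategory.hom_ext <;> simp
    obtain ⟨U, hU, hE⟩ := etale_near_of_commute K G n hn g hcomm
    exact ⟨U, hU ⟨pt K, hcx _⟩, hE⟩
  choose U hxU hE using H
  let V : {x : G.left // IsClosed ({x} : Set G.left)} → G.left.Opens := fun x => U x.1 x.2
  have hV : iSup V = ⊤ := by
    rw [eq_top_iff]
    intro y _
    by_contra hy
    have hZ : IsClosed ((iSup V : G.left.Opens) : Set G.left)ᶜ := (iSup V).2.isClosed_compl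
    have h1 := closure_inter_closedPoints hZ
    have h2 : ((iSup V : G.left.Opens) : Set G.left)ᶜ ∩ closedPoints G.left = ∅ := by
      ext z
      simp only [Set.mem_inter_iff, Set.mem_compl_iff, Set.mem_empty_iff_false, iff_false, not_and]
      intro hz hzc
      exact hz (Opens.mem_iSup.mpr ⟨⟨z, hzc⟩, hxU z hzc⟩)
    rw [h2, closure_empty] at h1
    have : y ∈ ((iSup V : G.left.Opens) : Set G.left)ᶜ := hy
    rw [← h1] at this
    exact this
  exact (IsZariskiLocalAtSource.iff_of_iSup_eq_top (P := @Etale) V hV).mpr fun x => hE x.1 x.2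

end AlgClosed

section S4112
open Groth.Agent.Lib.Helper4.HomogDim1
open scoped Obj
variable (k : Type u) [Field k] (G : Over (Spec (CommRingCat.of k))) [GrpObj G] [IsCommMonObj G]
  [LocallyOfFiniteType G.hom]

include k in
theorem main_S4112 (n : ℕ) (hn : (n : k) ≠ 0) : Etale ((𝟙 G : G ⟶ G) ^ n).left := by
  let K := AlgebraicClosure k
  let σ : Spec (CommRingCat.of K) ⟶ Spec (CommRingCat.of k) :=
    Spec.map (CommRingCat.ofHom (algebraMap k K))
  let G' : Over (Spec (CommRingCat.of K)) := (Over.pullback σ).obj G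
  haveI : LocallyOfFiniteType G'.hom :=
    inferInstanceAs (LocallyOfFiniteType (pullback.snd G.hom σ))
  have hnK : ((n : ℕ) : K) ≠ 0 := by
    intro h0
    apply hn
    have : algebraMap k K (n : k) = 0 := by rw [map_natCast]; exact h0
    exact (map_eq_zero (algebraMap k K)).mp this
  have hE' : Etale ((𝟙 G' : G' ⟶ G') ^ n).left := etale_pow_of_isAlgClosed K G' n hnK
  have hmap : (Over.pullback σ).map ((𝟙 G : G ⟶ G) ^ n) = (𝟙 G' : G' ⟶ G') ^ n := by
    have := map_pow ((Over.pullback σ).homMonoidHom (X := G) (M := G)) (𝟙 G) n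
    simpa using this
  have hpb := isPullback_bc_map' σ ((𝟙 G : G ⟶ G) ^ n)
  rw [hmap] at hpb
  haveI : Flat σ := by
    rw [HasRingHomProperty.Spec_iff (P := @Flat)]
    simp only [CommRingCat.hom_ofHom, RingHom.Flat]
    infer_instance
  haveI : Surjective σ :=
    ⟨fun z => ⟨IsLocalRing.closedPoint _, Subsingleton.elim (α := PrimeSpectrum _) _ _⟩⟩
  have hQ : (@Surjective ⊓ @Flat ⊓ @QuasiCompact : MorphismProperty Scheme.{u})
      (pullback.fst G.hom σ) := ⟨⟨inferInstance, inferInstance⟩, inferInstance⟩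
  exact MorphismProperty.of_isPullback_of_descendsAlong (P := @Etale)
    (Q := @Surjective ⊓ @Flat ⊓ @QuasiCompact) hpb hQ hE'

end S4112

end Groth.Agent.Lib.Helper4.PowEtale2
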