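import Mathlib
import Groth.Agent.S0981
import Groth.Agent.Lib.Helper4.RigidProper1
import Groth.Agent.Lib.Helper4.GrpKer2

/-!
# rigidity corollaries for abelian schemes over an arbitrary base (GIT 6.4): homomorphism, commutativity, uniqueness of the group law, cancellation by isogenies (helper4)
-/

set_option backward.isDefEq.respectTransparency.types false
set_option synthInstance.maxHeartbeats 400000
set_option autoImplicit false
set_option linter.unusedSectionVars false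
set_option linter.style.haveILetI false
set_option linter.unusedSimpArgs false
universe u v w
open CategoryTheory CategoryTheory.Limits AlgebraicGeometry TopologicalSpace Opposite
open MonoidalCategory CartesianMonoidalCategory MonObj GrpObj
open Groth.Agent.Lib.Helper4.RigidProper1

namespace Groth.Agent.Lib.Helper4.AbSchRigid1

/-- universal `O`-connectedness from geometrically reduced and connected fibres -/
theorem hall_of_geom {X S : Scheme.{u}} (f : X ⟶ S) [IsProper f] [Flat f]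
    [LocallyOfFinitePresentation f] [GeometricallyReduced f] [GeometricallyConnected f] :
    ∀ (T : Scheme.{u}) (g : T ⟶ S) (U : T.Opens), IsIso ((pullback.snd f g).app U) := by
  intro T g U
  refine Groth.Agent.S0981.result (pullback.snd f g) ?_ U
  intro K _ _ t
  exact ⟨GeometricallyReduced.geometrically_isReduced (f := pullback.snd f g) t _ _
      (IsPullback.of_hasPullback _ t),
    GeometricallyConnected.geometrically_connectedSpace (f := pullback.snd f g) t _ _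
      (IsPullback.of_hasPullback _ t)⟩

/-- local form: if the fibre over `t` is contracted, the map factors through any section near
`t` -/
theorem eq_comp_section_near {Z T Y : Scheme.{u}} (p : Z ⟶ T) [UniversallyClosed p]
    (hall : ∀ (T' : Scheme.{u}) (g : T' ⟶ T) (U : T'.Opens), IsIso ((pullback.snd p g).app U))
    (e : T ⟶ Z) (he : e ≫ p = 𝟙 T) (ψ : Z ⟶ Y) (z₀ : Z)
    (hc : ∀ z : Z, p z = p z₀ → ψ z = ψ z₀) :
    ∃ U : T.Opens, p z₀ ∈ U ∧ (p ⁻¹ᵁ U).ι ≫ ψ = (p ⁻¹ᵁ U).ι ≫ p ≫ e ≫ ψ := by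
  obtain ⟨U, τ, htU, hτ⟩ := exists_facOn_near p hall ψ (p z₀) z₀ hc
  refine ⟨U, htU, ?_⟩
  have e₁ := hτ.eq (p ⁻¹ᵁ U).ι (p ∣_ U) (morphismRestrict_ι p _).symm
  have e₂ := hτ.eq (U.ι ≫ e) (𝟙 _) (by rw [Category.assoc, he, Category.comp_id, Category.id_comp])
  rw [Category.id_comp] at e₂
  rw [e₁, ← e₂]
  have h3 : p ∣_ U ≫ U.ι = (p ⁻¹ᵁ U).ι ≫ p := morphismRestrict_ι p U
  simp only [Category.assoc]
  rw [reassoc_of% h3]

/-- global form: if all fibres are contracted, the map factors through any section -/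
theorem eq_comp_section_of_contracts {Z T Y : Scheme.{u}} (p : Z ⟶ T) [UniversallyClosed p]
    (hall : ∀ (T' : Scheme.{u}) (g : T' ⟶ T) (U : T'.Opens), IsIso ((pullback.snd p g).app U))
    (e : T ⟶ Z) (he : e ≫ p = 𝟙 T) (ψ : Z ⟶ Y)
    (hc : ∀ z z' : Z, p z = p z' → ψ z = ψ z') : ψ = p ≫ e ≫ ψ := by
  apply Scheme.hom_ext_of_forall
  intro z
  obtain ⟨U, hzU, hU⟩ := eq_comp_section_near p hall e he ψ z (fun z' hz' => hc z' z hz')
  exact ⟨p ⁻¹ᵁ U, hzU, hU⟩


/-- fibrewise connected rigidity: clopen argument along a preconnected subset of the base -/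
theorem rigid_clopen {Z T Y : Scheme.{u}} (p : Z ⟶ T) [UniversallyClosed p] (hop : IsOpenMap p)
    (hall : ∀ (T' : Scheme.{u}) (g : T' ⟶ T) (U : T'.Opens), IsIso ((pullback.snd p g).app U))
    (e : T ⟶ Z) (he : e ≫ p = 𝟙 T) (ψ : Z ⟶ Y) (C : Set Y) (hC : IsClosed C)
    (h1 : ∀ t : T, ψ (e t) ∈ C)
    (h2 : ∀ z z' : Z, p z = p z' → ψ z ∈ C → ψ z' ∈ C → ψ z = ψ z')
    (F : Set T) (hF : _root_.IsPreconnected F) (t₀ : T) (ht₀ : t₀ ∈ F) (h0 : ∀ z : Z, p z = t₀ → ψ z ∈ C) :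
    ∀ t ∈ F, ∀ z : Z, p z = t → ψ z ∈ C := by
  let u : Set T := {t | ∃ U : T.Opens, t ∈ U ∧ ∀ z : Z, p z ∈ U → ψ z ∈ C}
  let v : Set T := p '' (ψ ⁻¹' C)ᶜ
  have hu : IsOpen u := by
    rw [isOpen_iff_forall_mem_open]
    rintro t ⟨U, htU, hU⟩
    exact ⟨U, fun t' ht' => ⟨U, ht', hU⟩, U.2, htU⟩
  have hv : IsOpen v := hop _ (hC.preimage ψ.continuous).isOpen_compl
  have hpe : ∀ t : T, p (e t) = t := fun t => by
    rw [← Scheme.Hom.comp_apply, he]; rfl
  have key : ∀ t : T, (∀ z : Z, p z = t → ψ z ∈ C) → t ∈ u := by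
    intro t ht
    obtain ⟨U, hU1, hU2⟩ := eq_comp_section_near p hall e he ψ (e t) (fun z hz =>
      h2 z (e t) hz (ht z (hz.trans (hpe t))) (h1 t))
    rw [hpe] at hU1
    refine ⟨U, hU1, fun z hz => ?_⟩
    have h3 := congrArg (fun φ : (p ⁻¹ᵁ U : Z.Opens).toScheme ⟶ Y => φ ⟨z, hz⟩) hU2
    simp only [Scheme.Hom.comp_apply] at h3
    change ψ z = ψ (e (p z)) at h3
    rw [h3]
    exact h1 _
  have hdisj : Disjoint u v := by
    rw [Set.disjoint_left]
    rintro t ⟨U, htU, hU⟩ ⟨z, hz, rfl⟩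
    exact hz (hU z htU)
  have hcov : F ⊆ u ∪ v := by
    intro t _
    by_cases h : t ∈ v
    · exact Or.inr h
    · refine Or.inl (key t fun z hz => ?_)
      by_contra hzC
      exact h ⟨z, hzC, hz⟩
  have hFu : F ⊆ u :=
    hF.subset_left_of_subset_union hu hv hdisj hcov ⟨t₀, ht₀, key t₀ h0⟩
  intro t ht z hz
  obtain ⟨U, htU, hU⟩ := hFu ht
  exact hU z (hz ▸ htU)


section Axes
variable {S : Scheme.{u}} (X Y G : Over S) [IsProper X.hom] [Flat X.hom]
  [LocallyOfFinitePresentation X.hom] [GeometricallyReduced X.hom] [GeometricallyConnected X.hom]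
  [GeometricallyConnected Y.hom] [GrpObj G] [IsSeparated G.hom]

/-- rigidity for abelian schemes: a morphism `X × Y → G` to a separated group scheme which is trivial
on both axes `X × e` and `e × Y` is trivial. -/
theorem eq_one_of_axes (eX : 𝟙_ (Over S) ⟶ X) (eY : 𝟙_ (Over S) ⟶ Y) (D : X ⊗ Y ⟶ G)
    (h1 : lift (𝟙 X) (toUnit X ≫ eY) ≫ D = 1) (h2 : lift (toUnit Y ≫ eX) (𝟙 Y) ≫ D = 1) :
    D = 1 := by
  have hall := hall_of_geom (pullback.snd X.hom Y.hom)
  have hop : IsOpenMap (pullback.snd X.hom Y.hom) := (pullback.snd X.hom Y.hom).isOpenMap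
  let e₂ : Y ⟶ X ⊗ Y := lift (toUnit Y ≫ eX) (𝟙 Y)
  let ie : X ⟶ X ⊗ Y := lift (𝟙 X) (toUnit X ≫ eY)
  have he₂ : e₂.left ≫ pullback.snd X.hom Y.hom = 𝟙 Y.left :=
    congrArg (fun φ => φ.left) (lift_snd (toUnit Y ≫ eX) (𝟙 Y))
  have hie2 : ie.left ≫ pullback.snd X.hom Y.hom = X.hom ≫ eY.left :=
    congrArg (fun φ => φ.left) (lift_snd (𝟙 X) (toUnit X ≫ eY))
  have hie1 : ie.left ≫ pullback.fst X.hom Y.hom = 𝟙 X.left :=
    congrArg (fun φ => φ.left) (lift_fst (𝟙 X) (toUnit X ≫ eY))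
  have hsq : IsPullback ie.left X.hom (pullback.snd X.hom Y.hom) eY.left := by
    have h2 : eY.left ≫ Y.hom = 𝟙 S := Over.w eY
    have t : IsPullback (ie.left ≫ pullback.fst X.hom Y.hom) X.hom X.hom (eY.left ≫ Y.hom) := by
      rw [hie1, h2]; exact IsPullback.id_horiz _
    exact IsPullback.of_right t hie2 (IsPullback.of_hasPullback X.hom Y.hom)
  have hηG : η[G].left ≫ G.hom = 𝟙 S := Over.w η[G]
  haveI : IsClosedImmersion (η[G].left ≫ G.hom) := by
    rw [hηG]; exact inferInstanceAs (IsClosedImmersion (𝟙 S))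
  haveI : IsClosedImmersion η[G].left := IsClosedImmersion.of_comp η[G].left G.hom
  have hC : IsClosed (Set.range η[G].left) := η[G].left.isClosedEmbedding.isClosed_range
  have hw : ∀ z : ↥(pullback X.hom Y.hom),
      G.hom (D.left z) = Y.hom (pullback.snd X.hom Y.hom z) := by
    intro z
    rw [← Scheme.Hom.comp_apply, ← Scheme.Hom.comp_apply, Over.w D]
    exact congrArg (fun φ : (X ⊗ Y).left ⟶ S => φ z) (Over.w (snd X Y)).symm
  have hGη : ∀ a : S, G.hom (η[G].left a) = a := fun a => by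
    rw [← Scheme.Hom.comp_apply, hηG]; rfl
  have hone : ∀ (W : Over S) (w : W.left), (1 : W ⟶ G).left w ∈ Set.range η[G].left := by
    intro W w
    exact ⟨(toUnit W).left w, rfl⟩
  have hinj : ∀ z z' : ↥(pullback X.hom Y.hom),
      pullback.snd X.hom Y.hom z = pullback.snd X.hom Y.hom z' →
      D.left z ∈ Set.range η[G].left → D.left z' ∈ Set.range η[G].left → D.left z = D.left z' := by
    rintro z z' hp ⟨a, ha⟩ ⟨a', ha'⟩
    have e1 : a = Y.hom (pullback.snd X.hom Y.hom z) := by rw [← hw, ← ha, hGη]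
    have e2 : a' = Y.hom (pullback.snd X.hom Y.hom z') := by rw [← hw, ← ha', hGη]
    rw [← ha, ← ha', e1, e2, hp]
  have hmem : ∀ z : ↥(pullback X.hom Y.hom), D.left z ∈ Set.range η[G].left := by
    intro z
    refine rigid_clopen (pullback.snd X.hom Y.hom) hop hall e₂.left he₂ D.left _ hC ?_ hinj
      (Y.hom ⁻¹' {Y.hom (pullback.snd X.hom Y.hom z)})
      (Y.hom.isConnected_preimage_singleton _).isPreconnected
      (eY.left (Y.hom (pullback.snd X.hom Y.hom z))) ?_ ?_ (pullback.snd X.hom Y.hom z) rfl z rfl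
    · intro t
      rw [← Scheme.Hom.comp_apply]
      change (e₂ ≫ D).left t ∈ _
      rw [h2]
      exact hone _ _
    · change Y.hom (eY.left _) = _
      rw [← Scheme.Hom.comp_apply, Over.w eY]; rfl
    · intro z' hz'
      obtain ⟨x, hx1, hx2⟩ := Scheme.exists_preimage_of_isPullback hsq z' _ hz'
      rw [← hx1, ← Scheme.Hom.comp_apply]
      change (ie ≫ D).left x ∈ _
      rw [h1]
      exact hone _ _
  have hD : D.left = pullback.snd X.hom Y.hom ≫ e₂.left ≫ D.left :=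
    eq_comp_section_of_contracts _ hall e₂.left he₂ D.left
      (fun z z' hp => hinj z z' hp (hmem z) (hmem z'))
  have hD' : D = snd X Y ≫ (e₂ ≫ D) := by
    ext1
    exact hD
  rw [hD', h2, MonObj.comp_one]

end Axes


section Hom
variable {S : Scheme.{u}} (X Y : Over S) [GrpObj X] [IsProper X.hom] [Flat X.hom]
  [LocallyOfFinitePresentation X.hom] [GeometricallyReduced X.hom] [GeometricallyConnected X.hom]
  [GrpObj Y] [IsSeparated Y.hom]

theorem main_S7784 (f : X ⟶ Y) (hf : η[X] ≫ f = η[Y]) : IsMonHom f := by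
  refine ⟨hf, ?_⟩
  have hone : (toUnit X ≫ η[Y] : X ⟶ Y) = 1 := rfl
  have key := eq_one_of_axes X X Y η[X] η[X]
    ((μ[X] ≫ f) * ((fst X X ≫ f) * (snd X X ≫ f))⁻¹) ?_ ?_
  · rw [mul_inv_eq_one] at key
    rw [key, MonObj.mul_eq_mul, MonObj.comp_mul, tensorHom_fst, tensorHom_snd]
  · rw [MonObj.comp_mul, GrpObj.comp_inv, MonObj.comp_mul, ← Category.assoc, ← Category.assoc,
      ← Category.assoc, lift_fst, lift_snd, MonObj.lift_comp_one_right, Category.id_comp,
      Category.assoc, hf, hone, _root_.mul_one, mul_inv_cancel]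
  · rw [MonObj.comp_mul, GrpObj.comp_inv, MonObj.comp_mul, ← Category.assoc, ← Category.assoc,
      ← Category.assoc, lift_fst, lift_snd, MonObj.lift_comp_one_left, Category.id_comp,
      Category.assoc, hf, hone, _root_.one_mul, mul_inv_cancel]

end Hom


section Comm
variable {S : Scheme.{u}} (X : Over S) [GrpObj X] [IsProper X.hom] [Flat X.hom]
  [LocallyOfFinitePresentation X.hom] [GeometricallyReduced X.hom] [GeometricallyConnected X.hom]

theorem main_S7785 : IsCommMonObj X := by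
  haveI : IsMonHom ι[X] := main_S7784 X X ι[X] GrpObj.one_inv
  rw [isCommMonObj_iff_isMulCommutative]
  intro T
  have h : ∀ a b : T ⟶ X, (a * b)⁻¹ = a⁻¹ * b⁻¹ := by
    intro a b
    rw [Hom.inv_def, Hom.inv_def, Hom.inv_def, MonObj.mul_comp]
  refine ⟨⟨fun a b => ?_⟩⟩
  have h' := h a⁻¹ b⁻¹
  rw [_root_.mul_inv_rev, _root_.inv_inv, _root_.inv_inv] at h'
  exact h'.symm

end Comm

section Uniq
variable {S : Scheme.{u}} (X : Over S) [IsProper X.hom] [Flat X.hom]
  [LocallyOfFinitePresentation X.hom] [GeometricallyReduced X.hom] [GeometricallyConnected X.hom]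

theorem main_S7786 (h₁ h₂ : GrpObj X) (he : h₁.one = h₂.one) : h₁ = h₂ := by
  have hm := @main_S7784 S X X h₁ _ _ _ _ _ h₂ inferInstance (𝟙 X)
    (by rw [Category.comp_id]; exact he)
  have h := @IsMonHom.mul_hom _ _ _ X X h₁.toMonObj h₂.toMonObj (𝟙 X) hm
  rw [Category.comp_id, id_tensorHom_id, Category.id_comp] at h
  exact GrpObj.ext h₁ h₂ (MonObj.ext _ _ h)

end Uniq

section Cancel
variable {S : Scheme.{u}} (X Y Z : Over S) [GrpObj X] [GrpObj Y]
  [GrpObj Z] [IsProper Z.hom] [Flat Z.hom]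
  [LocallyOfFinitePresentation Z.hom] [GeometricallyReduced Z.hom] [GeometricallyConnected Z.hom]

theorem hom_cancel_left (f : X ⟶ Y) [IsMonHom f] [LocallyQuasiFinite f.left]
    (h₁ h₂ : Z ⟶ X) [IsMonHom h₁] [IsMonHom h₂] (h : h₁ ≫ f = h₂ ≫ f) : h₁ = h₂ := by
  have hall := hall_of_geom Z.hom
  have hδf : (h₁ * h₂⁻¹) ≫ f = 1 := by
    rw [MonObj.mul_comp, GrpObj.inv_comp, h, mul_inv_cancel]
  have hδη : η[Z] ≫ (h₁ * h₂⁻¹) = η[X] := by
    rw [MonObj.comp_mul, GrpObj.comp_inv, IsMonHom.one_hom, IsMonHom.one_hom, mul_inv_cancel,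
      MonObj.one_eq_one]
  have hηZ : η[Z].left ≫ Z.hom = 𝟙 S := Over.w η[Z]
  have hc : ∀ z z' : Z.left, Z.hom z = Z.hom z' →
      (h₁ * h₂⁻¹).left z = (h₁ * h₂⁻¹).left z' := by
    intro z z' hz
    refine (Z.hom.isConnected_preimage_singleton (Z.hom z)).isPreconnected.constant_of_mapsTo
      (f.left.isDiscrete_preimage_singleton (η[Y].left (Z.hom z)))
      (h₁ * h₂⁻¹).left.continuous.continuousOn ?_ rfl hz.symm
    intro w hw
    change f.left ((h₁ * h₂⁻¹).left w) = _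
    rw [← Scheme.Hom.comp_apply]
    change ((h₁ * h₂⁻¹) ≫ f).left w = _
    rw [hδf]
    change η[Y].left ((toUnit Z).left w) = _
    rw [Groth.Agent.Lib.Helper4.GrpKer2.toUnit_left]
    exact congrArg _ hw
  have hD := eq_comp_section_of_contracts Z.hom hall η[Z].left hηZ (h₁ * h₂⁻¹).left hc
  have hD' : h₁ * h₂⁻¹ = 1 := by
    ext1
    rw [hD]
    change Z.hom ≫ (η[Z] ≫ (h₁ * h₂⁻¹)).left = (toUnit Z).left ≫ η[X].left
    rw [hδη, Groth.Agent.Lib.Helper4.GrpKer2.toUnit_left]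
  exact mul_inv_eq_one.1 hD'

theorem main_S7793 {S : Scheme.{u}} (X Y Z : Over S) [GrpObj X] [GrpObj Y]
    [GrpObj Z] [IsProper Z.hom] [Flat Z.hom]
    [LocallyOfFinitePresentation Z.hom] [GeometricallyReduced Z.hom] [GeometricallyConnected Z.hom]
    (f : X ⟶ Y) [IsMonHom f] [IsFinite f.left] [Flat f.left] [Surjective f.left] :
    (∀ g₁ g₂ : Y ⟶ Z, IsMonHom g₁ → IsMonHom g₂ → f ≫ g₁ = f ≫ g₂ → g₁ = g₂) ∧
      (∀ h₁ h₂ : Z ⟶ X, IsMonHom h₁ → IsMonHom h₂ → h₁ ≫ f = h₂ ≫ f → h₁ = h₂) := by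
  refine ⟨fun g₁ g₂ _ _ h => ?_, fun h₁ h₂ _ _ h => hom_cancel_left X Y Z f h₁ h₂ h⟩
  haveI : Epi f.left := Flat.epi_of_flat_of_surjective f.left
  ext1
  rw [← cancel_epi f.left]
  exact congrArg (fun φ => φ.left) h

end Cancel

end Groth.Agent.Lib.Helper4.AbSchRigid1
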