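import Mathlib
import Groth.Prelude.Def_Red
import Groth.Prelude.Def_MoreMor
import Groth.Agent.S4112
import Groth.Agent.S7785
import Groth.Agent.S7795
import Groth.Agent.Lib.Helper7.FibEt.Smooth
import Groth.Agent.Lib.Helper2.LfpOfComp
import Groth.Agent.Lib.Helper2.EtaleLocal

/-!
# Multiplication by n on an abelian scheme is finite etale when n is invertible (S7789): fibrewise via S4112 + helper7 FibEt (helper4)
-/

set_option backward.isDefEq.respectTransparency.types false
set_option synthInstance.maxHeartbeats 400000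
set_option autoImplicit false
set_option linter.unusedSectionVars false
set_option linter.style.haveILetI false
set_option linter.unusedSimpArgs false
universe u v w
open CategoryTheory CategoryTheory.Limits AlgebraicGeometry TopologicalSpace Opposite
open MonoidalCategory CartesianMonoidalCategory MonObj GrpObj

namespace Groth.Agent.Lib.Helper4.AbSchMulEtale1

section Cat
variable {C : Type*} [Category C] [CartesianMonoidalCategory C]
  {D : Type*} [Category D] [CartesianMonoidalCategory D] (F : C ⥤ D) [F.Monoidal]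

open scoped Obj in
theorem map_id_zpow (G : C) [GrpObj G] (n : ℤ) : F.map ((𝟙 G) ^ n) = (𝟙 (F.obj G)) ^ n := by
  have h := map_zpow (F.homMonoidHom (X := G) (M := G)) (𝟙 G) n
  simpa using h

end Cat

section Fib

theorem isPullback_map_left {S S' : Scheme.{u}} (b : S' ⟶ S) {X : Over S} (φ : X ⟶ X) :
    IsPullback ((Over.pullback b).map φ).left (pullback.fst X.hom b) (pullback.fst X.hom b)
      φ.left := by
  have hr : IsPullback (pullback.snd X.hom b) (pullback.fst X.hom b) b X.hom :=
    (IsPullback.of_hasPullback X.hom b).flip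
  refine IsPullback.of_right ?_ ?_ hr
  · have e1 : ((Over.pullback b).map φ).left ≫ pullback.snd X.hom b = pullback.snd X.hom b :=
      Over.w ((Over.pullback b).map φ)
    rw [e1, Over.w φ]
    exact hr
  · simp
    rw [pullback.lift_fst]

variable {S : Scheme.{u}} (X : Over S) [GrpObj X] (s : S)

open scoped Obj in
example [IsCommMonObj X] : IsCommMonObj (Red.bc (S.fromSpecResidueField s) X) := inferInstance

end Fib


section Main
variable {S : Scheme.{u}} (X : Over S) [GrpObj X] [IsProper X.hom] [Flat X.hom]
  [LocallyOfFinitePresentation X.hom] [GeometricallyReduced X.hom] [GeometricallyConnected X.hom]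

open scoped Obj in
theorem etale_fibre (n : ℤ) (s : S) (hn : (n : S.residueField s) ≠ 0) :
    Etale ((Over.pullback (S.fromSpecResidueField s)).map ((𝟙 X) ^ n)).left := by
  haveI : IsCommMonObj X := Groth.Agent.S7785.result X
  rw [map_id_zpow]
  obtain ⟨Xs, hXs⟩ : ∃ Xs, Xs = Red.bc (S.fromSpecResidueField s) X := ⟨_, rfl⟩
  haveI hlft : LocallyOfFiniteType (Red.bc (S.fromSpecResidueField s) X).hom :=
    inferInstanceAs (LocallyOfFiniteType (pullback.snd X.hom (S.fromSpecResidueField s)))
  haveI hqc : QuasiCompact (Red.bc (S.fromSpecResidueField s) X).hom :=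
    inferInstanceAs (QuasiCompact (pullback.snd X.hom (S.fromSpecResidueField s)))
  haveI hcomm : IsCommMonObj (Red.bc (S.fromSpecResidueField s) X) := inferInstance
  obtain ⟨m, rfl | rfl⟩ := n.eq_nat_or_neg
  · rw [zpow_natCast]
    exact Groth.Agent.S4112.result (S.residueField s) (Red.bc (S.fromSpecResidueField s) X) m
      (by simpa using hn)
  · rw [zpow_neg, zpow_natCast, Hom.inv_def, Over.comp_left]
    haveI := Groth.Agent.S4112.result (S.residueField s) (Red.bc (S.fromSpecResidueField s) X) m
      (by simpa using hn)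
    haveI : IsIso ι[Red.bc (S.fromSpecResidueField s) X].left :=
      inferInstanceAs (IsIso ((Over.forget _).map ι[Red.bc (S.fromSpecResidueField s) X]))
    infer_instance

end Main


section Main2
variable {S : Scheme.{u}} (X : Over S) [GrpObj X] [IsProper X.hom] [Flat X.hom]
  [LocallyOfFinitePresentation X.hom] [GeometricallyReduced X.hom] [GeometricallyConnected X.hom]

theorem etale_snd (n : ℤ) (s : S) (hn : (n : S.residueField s) ≠ 0) :
    Etale (pullback.snd ((𝟙 X) ^ n).left (X.hom.fiberι s)) := by
  have h := isPullback_map_left (S.fromSpecResidueField s) ((𝟙 X) ^ n)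
  have h' : IsPullback (X.hom.fiberι s)
      ((Over.pullback (S.fromSpecResidueField s)).map ((𝟙 X) ^ n)).left ((𝟙 X) ^ n).left
      (X.hom.fiberι s) := h.flip
  have e : pullback.snd ((𝟙 X) ^ n).left (X.hom.fiberι s) = h'.isoPullback.inv ≫
      ((Over.pullback (S.fromSpecResidueField s)).map ((𝟙 X) ^ n)).left :=
    (Iso.eq_inv_comp h'.isoPullback).mpr h'.isoPullback_hom_snd
  rw [e]
  exact (MorphismProperty.cancel_left_of_respectsIso @Etale _ _).mpr (etale_fibre X n s hn)

theorem intCast_ne_zero_of_isUnit (n : ℤ) (hn : IsUnit (n : Γ(S, ⊤))) (s : S) :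
    (n : S.residueField s) ≠ 0 := by
  let ψ : Γ(S, ⊤) →+* S.residueField s :=
    ((S.fromSpecResidueField s).appTop ≫ (Scheme.ΓSpecIso (S.residueField s)).hom).hom
  have h1 : IsUnit (ψ (n : Γ(S, ⊤))) := hn.map ψ
  rw [map_intCast] at h1
  exact h1.ne_zero

open Groth.Agent.Helper7.FibEt in
theorem main (n : ℤ) (hn : IsUnit (n : Γ(S, ⊤))) :
    IsFinite ((𝟙 X) ^ n).left ∧ Etale ((𝟙 X) ^ n).left := by
  obtain ⟨f, hf⟩ : ∃ f, f = ((𝟙 X) ^ n).left := ⟨_, rfl⟩
  have hfg : f ≫ X.hom = X.hom := by rw [hf]; exact Over.w _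
  haveI hlfp' : LocallyOfFinitePresentation (f ≫ X.hom) := by rw [hfg]; infer_instance
  haveI hlfp : LocallyOfFinitePresentation f :=
    Groth.Agent.Helper2.locallyOfFinitePresentation_of_comp f X.hom inferInstance hlfp'
  haveI hflat : Flat (f ≫ X.hom) := by rw [hfg]; infer_instance
  have het : ∀ s, Etale (pullback.snd f (X.hom.fiberι s)) := fun s => by
    rw [hf]; exact etale_snd X n s (intCast_ne_zero_of_isUnit n hn s)
  have hsm : Smooth f := by
    rw [← Scheme.Hom.smoothLocus_eq_top_iff]
    ext x
    simp only [Opens.coe_top, Set.mem_univ, iff_true]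
    by_contra hx
    have h1 : Smooth (MoreMor.fiberMap f X.hom ((f ≫ X.hom) x)) := by
      rw [← prop_snd_iff f X.hom @Smooth]
      haveI := het ((f ≫ X.hom) x)
      infer_instance
    exact (smooth_fiberMap_iff f X.hom ((f ≫ X.hom) x)
      (fun x' _ => Flat.stalkMap (f ≫ X.hom) x')).mp h1 ⟨x, hx, rfl⟩
  have hun : FormallyUnramified f := by
    refine of_forall_exists_nhd @FormallyUnramified f fun x => ?_
    have h1 : FormallyUnramified (MoreMor.fiberMap f X.hom ((f ≫ X.hom) x)) := by
      rw [← prop_snd_iff f X.hom @FormallyUnramified]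
      haveI := het ((f ≫ X.hom) x)
      infer_instance
    have h2 := (formallyUnramified_fiberMap_iff f X.hom ((f ≫ X.hom) x)).mp h1
    by_contra hx
    exact h2 ⟨x, hx, rfl⟩
  haveI hét : Etale f := (etale_iff_smooth_and_formallyUnramified f).mpr ⟨hsm, hun⟩
  haveI : IsProper (f ≫ X.hom) := by rw [hfg]; infer_instance
  haveI : IsProper f := IsProper.of_comp f X.hom
  haveI : LocallyQuasiFinite f := Groth.Agent.Helper2.EtaleLocal.locallyQuasiFinite_of_etale f
  rw [← hf]
  exact ⟨IsFinite.of_isProper_of_locallyQuasiFinite f, hét⟩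

end Main2

end Groth.Agent.Lib.Helper4.AbSchMulEtale1
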