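import Mathlib
import Groth.Agent.S7789
import Groth.Agent.Lib.Helper4.SecNbhd5

/-!
# Multiplication by an invertible integer on an abelian scheme is surjective, hence etale-locally surjective on points (S17252) (helper4)
-/

set_option backward.isDefEq.respectTransparency.types false
set_option synthInstance.maxHeartbeats 400000
set_option autoImplicit false
set_option linter.unusedSectionVars false
set_option linter.style.haveILetI false
set_option linter.unusedSimpArgs false
universe u v w
open CategoryTheory CategoryTheory.Limits AlgebraicGeometry TopologicalSpace Opposite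
open MonoidalCategory CartesianMonoidalCategory MonObj GrpObj

namespace Groth.Agent.Lib.Helper4.AbSchMulEtale2

section
variable {S : Scheme.{u}} (A : Over S) [GrpObj A] [Smooth A.hom] [IsProper A.hom]
  [GeometricallyConnected A.hom]

theorem unit_fixed (m : ℤ) (s : S) :
    ((𝟙 A) ^ m).left (η[A].left s) = η[A].left s := by
  have h : η[A] ≫ (𝟙 A) ^ m = η[A] := by
    rw [GrpObj.comp_zpow, Category.comp_id, one_eq_one, one_zpow]
  rw [← Scheme.Hom.comp_apply, ← Over.comp_left, h]

theorem surjective_of_clopen (f : A ⟶ A) (hopen : IsOpenMap f.left.base)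
    (hclosed : IsClosedMap f.left.base) (hunit : ∀ s : S, f.left (η[A].left s) = η[A].left s) :
    Surjective f.left := by
  constructor
  intro x
  obtain ⟨s, hs⟩ : ∃ s, s = A.hom x := ⟨_, rfl⟩
  have hI : IsClopen (Set.range f.left.base) := ⟨hclosed.isClosed_range, hopen.isOpen_range⟩
  have hconn : _root_.IsPreconnected (A.hom.base ⁻¹' {s}) := by
    rw [← Scheme.Hom.range_fiberι]
    exact (isPreconnected_range (A.hom.fiberι s).continuous)
  have hη : A.hom (η[A].left s) = s := by
    have h1 : η[A].left ≫ A.hom = 𝟙 S := Over.w η[A]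
    rw [← Scheme.Hom.comp_apply, h1]
    rfl
  have hsub := hconn.subset_isClopen hI ⟨η[A].left s, hη, ⟨η[A].left s, hunit s⟩⟩
  exact hsub hs.symm

theorem main (m : ℤ) (hm : IsUnit (m : Γ(S, ⊤))) (T : Over S) (α : T ⟶ A) :
    ∃ (T' : Over S) (φ : T' ⟶ T) (β : T' ⟶ A),
      Etale φ.left ∧ Surjective φ.left ∧ β ≫ (𝟙 A ^ m) = φ ≫ α := by
  haveI : GeometricallyReduced A.hom :=
    Groth.Agent.Lib.Helper4.SecNbhd5.geometricallyReduced_of_smooth A.hom
  obtain ⟨hfin, het⟩ := Groth.Agent.S7789.result A m hm
  haveI := hfin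
  haveI := het
  have hsurj : Surjective ((𝟙 A) ^ m).left :=
    surjective_of_clopen A ((𝟙 A) ^ m) ((𝟙 A) ^ m).left.isOpenMap ((𝟙 A) ^ m).left.isClosedMap
      (unit_fixed A m)
  have hpb : IsPullback (pullback.fst α ((𝟙 A) ^ m)).left (pullback.snd α ((𝟙 A) ^ m)).left α.left
      ((𝟙 A) ^ m).left := (IsPullback.of_hasPullback α ((𝟙 A) ^ m)).map (Over.forget S)
  exact ⟨pullback α ((𝟙 A) ^ m), pullback.fst _ _, pullback.snd _ _,
    MorphismProperty.of_isPullback hpb.flip het, MorphismProperty.of_isPullback hpb.flip hsurj,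
    pullback.condition.symm⟩

end

end Groth.Agent.Lib.Helper4.AbSchMulEtale2
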