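import Mathlib

namespace Groth.Agent.Helper4.EP

open AlgebraicGeometry CategoryTheory Opposite TopologicalSpace

universe u

theorem presheaf_map_eq_id {X : Scheme.{u}} {U : X.Opens} (e : op U ⟶ op U) :
    X.presheaf.map e = 𝟙 _ := by
  have : e = 𝟙 _ := Subsingleton.elim _ _
  rw [this, X.presheaf.map_id]

theorem epi_of_surjective_of_app_injective {S' S : Scheme.{u}} (g : S' ⟶ S) [Surjective g]
    (hinj : ∀ U : S.Opens, Function.Injective (g.app U).hom) : Epi g := by
  refine ⟨fun {T} a b hab => ?_⟩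
  have h_base : a.base = b.base := by
    ext x
    obtain ⟨y, rfl⟩ := g.surjective x
    have := congrArg (fun f : S' ⟶ T => f y) hab
    simpa using this
  refine Scheme.Hom.ext h_base fun U => ?_
  have hmono : Mono (g.app (b ⁻¹ᵁ U)) := ConcreteCategory.mono_of_injective _ (hinj (b ⁻¹ᵁ U))
  rw [← cancel_mono (g.app (b ⁻¹ᵁ U)), Category.assoc, Scheme.Hom.naturality, ← Category.assoc,
    ← Scheme.Hom.comp_app, ← Scheme.Hom.comp_app, Scheme.Hom.congr_app hab U]
  refine (Category.assoc _ _ _).trans ?_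
  refine (congrArg (fun m => (g ≫ b).app U ≫ m) (S'.presheaf.map_comp _ _).symm).trans ?_
  refine (congrArg (fun m => (g ≫ b).app U ≫ m) (presheaf_map_eq_id _)).trans ?_
  exact Category.comp_id _

end Groth.Agent.Helper4.EP
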