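import Mathlib
import Groth.Prelude.Def_AlgGrp
import Groth.Agent.Lib.Lead.GITQuot
import Groth.Agent.Lib.Helper7.GeomConn.ZarFibre
import Groth.Agent.Lib.Helper4.ContentRep2
import Groth.Agent.Lib.Helper4.ProperPush1
import Groth.Agent.Lib.Helper4.Epi1

/-!
# Blanchard's lemma: topological factorisation through a proper O-connected morphism, flat base change of O_Y = f_* O_X on all opens, descent of a group action (S17473) (helper4)
-/

set_option backward.isDefEq.respectTransparency.types false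
set_option synthInstance.maxHeartbeats 400000
set_option autoImplicit false
set_option linter.unusedSectionVars false
set_option linter.style.haveILetI false
set_option linter.unusedSimpArgs false
universe u v w
open CategoryTheory CategoryTheory.Limits AlgebraicGeometry TopologicalSpace Opposite
open MonoidalCategory CartesianMonoidalCategory MonObj GrpObj

namespace Groth.Agent.Lib.Helper4.Blanchard1

/-- topological factorisation lemma: a closed surjective morphism with `O_Y ≅ f_* O_X` is a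
quotient for morphisms which are constant on its set-theoretic fibres -/
theorem exists_fac_top {X Y Z : Scheme.{u}} (f : X ⟶ Y) (ψ : X ⟶ Z)
    (hf : ∀ U : Y.Opens, IsIso (f.app U)) (hs : Function.Surjective f.base)
    (hcl : IsClosedMap f.base) (hconst : ∀ p q : X, f p = f q → ψ p = ψ q) :
    ∃ χ : Y ⟶ Z, f ≫ χ = ψ := by
  have hsat : ∀ W : Set X, (pullback.fst ψ ψ).base '' ((pullback.snd ψ ψ).base ⁻¹' W) ⊆ W →
      ∀ x x' : X, x ∈ W → ψ x' = ψ x → x' ∈ W := by
    intro W hW x x' hx hxx'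
    obtain ⟨z, hz1, hz2⟩ := Scheme.Pullback.exists_preimage_pullback x' x hxx'
    apply hW
    exact ⟨z, by show (pullback.snd ψ ψ) z ∈ W; rw [hz2]; exact hx, hz1⟩
  refine Groth.Agent.Lead.GITQuot.exists_fac (pullback.fst ψ ψ) (pullback.snd ψ ψ) f ψ
    pullback.condition (fun U => ?_) hs (fun W hW _ => hcl W hW) ?_
  · have := hf U
    have hb := ConcreteCategory.bijective_of_isIso (f.app U)
    exact ⟨hb.1, fun s _ => hb.2 s⟩
  · intro J W hW
    apply Set.Subset.antisymm
    · exact Set.image_iInter_subset _ _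
    · intro y hy
      rw [Set.mem_iInter] at hy
      obtain ⟨x, rfl⟩ := hs y
      refine ⟨x, ?_, rfl⟩
      rw [Set.mem_iInter]
      intro i
      obtain ⟨xi, hxi, hfx⟩ := hy i
      exact hsat (W i) (hW i).2 xi x hxi (hconst _ _ hfx.symm)


open Groth.Agent.Helper7.GeomConn.ZC in
/-- flat base change of the property `O_Y ≅ f_* O_X` (all opens) -/
theorem isIso_app_of_flat_baseChange_all {X Y T X' : Scheme.{u}} (f : X ⟶ Y) (g : T ⟶ Y) [Flat g]
    [QuasiCompact f] [QuasiSeparated f] (f' : X' ⟶ T) (g' : X' ⟶ X) (H : IsPullback g' f' f g)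
    (hf : ∀ U : Y.Opens, IsIso (f.app U)) (V : T.Opens) : IsIso (f'.app V) := by
  let ι' := {V : T.Opens // IsAffineOpen V ∧ ∃ W : Y.Opens, IsAffineOpen W ∧ V ≤ g ⁻¹ᵁ W}
  let F : TopCat.Sheaf CommRingCat T := T.sheaf
  let G' : TopCat.Sheaf CommRingCat T := (TopCat.Sheaf.pushforward CommRingCat f'.base).obj X'.sheaf
  let φ : F ⟶ G' := ObjectProperty.homMk f'.c
  have hB : Opens.IsBasis (Set.range (fun V : ι' => (V.1 : T.Opens))) := by
    rw [Opens.isBasis_iff_nbhd]
    intro U x hx
    obtain ⟨_, ⟨W, hW, rfl⟩, hxW, -⟩ :=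
      Y.isBasis_affineOpens.exists_subset_of_mem_open (Set.mem_univ (g x)) isOpen_univ
    obtain ⟨_, ⟨V, hV, rfl⟩, hxV, hVU⟩ :=
      T.isBasis_affineOpens.exists_subset_of_mem_open (show x ∈ (U ⊓ g ⁻¹ᵁ W : T.Opens) from ⟨hx, hxW⟩)
        (U ⊓ g ⁻¹ᵁ W).isOpen
    exact ⟨V, ⟨⟨V, hV, W, hW, fun z hz => (hVU hz).2⟩, rfl⟩, hxV, fun z hz => (hVU hz).1⟩
  haveI : IsIso φ :=
    TopCat.Sheaf.isIso_iff_isIso_basis (B := fun V : ι' => (V.1 : T.Opens)) hB
      (fun V => by
        obtain ⟨V, hV, W, hW, hVW⟩ := V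
        exact isIso_app_of_flat_baseChange f g f' g' H W hW V hV hVW (hf W))
  haveI : IsIso φ.hom := (inferInstance : IsIso ((TopCat.Sheaf.forget CommRingCat T).map φ))
  exact NatIso.isIso_app_of_isIso φ.hom (Opposite.op V)


section Act

variable {k : Type u} [Field k] {G X Y : Over (Spec (CommRingCat.of k))} [GrpObj G]
  (f : X ⟶ Y) [IsProper f.left] (hf : ∀ U : Y.left.Opens, IsIso (f.left.app U))

include hf

theorem wl_proper (T : Over (Spec (CommRingCat.of k))) : IsProper (T ◁ f).left :=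
  MorphismProperty.of_isPullback (P := @IsProper)
    (Groth.Agent.Lib.Helper4.ContentRep2.isPullback_whiskerLeft T Y f).flip inferInstance

theorem wl_iso (T : Over (Spec (CommRingCat.of k))) (U : (T ⊗ Y).left.Opens) :
    IsIso ((T ◁ f).left.app U) := by
  have hfl : Flat (snd T Y).left := by
    have : (snd T Y).left = pullback.snd T.hom Y.hom := rfl
    rw [this]; infer_instance
  exact isIso_app_of_flat_baseChange_all f.left (snd T Y).left (T ◁ f).left (snd T X).left
    (Groth.Agent.Lib.Helper4.ContentRep2.isPullback_whiskerLeft T Y f).flip hf U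

theorem wl_surj (T : Over (Spec (CommRingCat.of k))) : Surjective (T ◁ f).left := by
  haveI := wl_proper f hf T
  exact Groth.Agent.Helper7.GeomConn.ZC.surjective_of_isIso_app _ (wl_iso f hf T)

theorem wl_epi_left (T : Over (Spec (CommRingCat.of k))) : Epi (T ◁ f).left := by
  haveI := wl_surj f hf T
  apply Groth.Agent.Helper4.EP.epi_of_surjective_of_app_injective
  intro V
  haveI := wl_iso f hf T V
  exact (ConcreteCategory.bijective_of_isIso ((T ◁ f).left.app V)).1

theorem wl_epi (T : Over (Spec (CommRingCat.of k))) : Epi (T ◁ f) := by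
  haveI := wl_epi_left f hf T
  exact Over.epi_of_epi_left _



variable (a : AlgGrp.Action G X)

/-- descent of the action from set-theoretic constancy on the fibres of `G × X → G × Y` -/
theorem exists_action_of_const
    (hconst : ∀ p q : ↥(G ⊗ X).left, (G ◁ f).left.base p = (G ◁ f).left.base q →
        (a.act ≫ f).left.base p = (a.act ≫ f).left.base q) :
    ∃ b : AlgGrp.Action G Y, (G ◁ f) ≫ b.act = a.act ≫ f := by
  haveI := wl_proper f hf G
  haveI := wl_surj f hf G
  obtain ⟨χ, hχ⟩ := exists_fac_top (G ◁ f).left (a.act ≫ f).left (wl_iso f hf G)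
    (G ◁ f).left.surjective (G ◁ f).left.isClosedMap hconst
  haveI hepi : Epi (G ◁ f).left := wl_epi_left f hf G
  let b₀ : G ⊗ Y ⟶ Y := Over.homMk χ (by
    rw [← cancel_epi (G ◁ f).left, ← Category.assoc, hχ, Over.w, Over.w])
  have hb : (G ◁ f) ≫ b₀ = a.act ≫ f := by
    apply Over.OverMorphism.ext
    exact hχ
  refine ⟨⟨b₀, ?_, ?_⟩, hb⟩
  · haveI := wl_epi f hf (𝟙_ (Over (Spec (CommRingCat.of k))))
    rw [← cancel_epi (𝟙_ (Over (Spec (CommRingCat.of k))) ◁ f), ← Category.assoc,
      whisker_exchange, Category.assoc, hb, ← Category.assoc, a.one_act,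
      leftUnitor_naturality]
  · haveI := wl_epi f hf (G ⊗ G)
    rw [← cancel_epi ((G ⊗ G) ◁ f), ← Category.assoc, whisker_exchange, Category.assoc, hb,
      ← Category.assoc, a.mul_act]
    rw [associator_naturality_right_assoc]
    simp only [Category.assoc]
    rw [← MonoidalCategory.whiskerLeft_comp_assoc, hb, MonoidalCategory.whiskerLeft_comp,
      Category.assoc, hb]

end Act


theorem main_S17473 (k : Type u) [Field k]
    (G X Y : Over (Spec (CommRingCat.of k))) [GrpObj G] [LocallyOfFiniteType G.hom]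
    [IsSeparated X.hom] [IsSeparated Y.hom]
    (f : X ⟶ Y) [IsProper f.left] (hf : ∀ U : Y.left.Opens, IsIso (f.left.app U))
    (a : AlgGrp.Action G X) :
    [∃ b : AlgGrp.Action G Y, (G ◁ f) ≫ b.act = a.act ≫ f,
      ∀ (T : Over (Spec (CommRingCat.of k))) (g : T ⟶ G) (x₁ x₂ : T ⟶ X),
        x₁ ≫ f = x₂ ≫ f → lift g x₁ ≫ a.act ≫ f = lift g x₂ ≫ a.act ≫ f,
      ∀ p q : ↥(G ⊗ X).left, (G ◁ f).left.base p = (G ◁ f).left.base q →
        (a.act ≫ f).left.base p = (a.act ≫ f).left.base q].TFAE := by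
  tfae_have 1 → 2 := by
    rintro ⟨b, hb⟩ T g x₁ x₂ h
    rw [← hb, ← Category.assoc, ← Category.assoc, lift_whiskerLeft, lift_whiskerLeft, h]
  tfae_have 2 → 3 := by
    intro h2 p q hpq
    obtain ⟨r, hr1, hr2⟩ := Scheme.Pullback.exists_preimage_pullback p q hpq
    let R := pullback (G ◁ f).left (G ◁ f).left
    let T : Over (Spec (CommRingCat.of k)) := Over.mk (pullback.fst (G ◁ f).left (G ◁ f).left ≫ (G ⊗ X).hom)
    let P₁ : T ⟶ G ⊗ X := Over.homMk (pullback.fst _ _) rfl
    let P₂ : T ⟶ G ⊗ X := Over.homMk (pullback.snd _ _) (by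
      show pullback.snd _ _ ≫ (G ⊗ X).hom = pullback.fst _ _ ≫ (G ⊗ X).hom
      rw [← Over.w (G ◁ f), ← Category.assoc, ← pullback.condition, Category.assoc])
    have hP : P₁ ≫ (G ◁ f) = P₂ ≫ (G ◁ f) := by
      apply Over.OverMorphism.ext
      exact pullback.condition
    have hg : P₁ ≫ fst G X = P₂ ≫ fst G X := by
      have := congrArg (fun t => t ≫ fst G Y) hP
      simpa only [Category.assoc, whiskerLeft_fst] using this
    have hx : (P₁ ≫ snd G X) ≫ f = (P₂ ≫ snd G X) ≫ f := by
      have := congrArg (fun t => t ≫ snd G Y) hP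
      simpa only [Category.assoc, whiskerLeft_snd] using this
    have h3 := h2 T (P₁ ≫ fst G X) (P₁ ≫ snd G X) (P₂ ≫ snd G X) hx
    have e1 : lift (P₁ ≫ fst G X) (P₁ ≫ snd G X) = P₁ := by
      rw [← comp_lift, lift_fst_snd, Category.comp_id]
    have e2 : lift (P₁ ≫ fst G X) (P₂ ≫ snd G X) = P₂ := by
      rw [hg, ← comp_lift, lift_fst_snd, Category.comp_id]
    rw [e1, e2] at h3
    have h4 := congrArg (fun t => t.left.base r) h3
    simp only [Over.comp_left, Scheme.Hom.comp_base, TopCat.comp_app] at h4 ⊢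
    rw [← hr1, ← hr2]
    exact h4
  tfae_have 3 → 1 := fun h3 => exists_action_of_const f hf a h3
  tfae_finish

end Groth.Agent.Lib.Helper4.Blanchard1
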