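import Mathlib
import Groth.Agent.S0981
import Groth.Agent.Lib.Helper4.RigidProper1
import Groth.Agent.Lib.Helper4.Blanchard1
import Groth.Agent.Lib.Helper4.AbSchRigid1
import Groth.Agent.Lib.Helper4.GrpKer2

/-!
# clopen collapsed locus without noetherian hypotheses (GIT 6.1 general form) and agreement of homomorphisms of abelian schemes on clopen neighbourhoods (helper4)
-/

set_option backward.isDefEq.respectTransparency.types false
set_option synthInstance.maxHeartbeats 400000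
set_option autoImplicit false
set_option linter.unusedSectionVars false
set_option linter.style.haveILetI false
set_option linter.unusedSimpArgs false
universe u v w
open CategoryTheory CategoryTheory.Limits AlgebraicGeometry TopologicalSpace Opposite
open MonoidalCategory CartesianMonoidalCategory MonObj GrpObj
open Groth.Agent.Lib.Helper4.RigidProper1 Groth.Agent.Lib.Helper4.AbSchRigid1

namespace Groth.Agent.Lib.Helper4.AbSchRigid2

/-- the collapsed locus -/
def collapsed {T X Y : Scheme.{u}} (g : X ⟶ T) (f : X ⟶ Y) : Set T :=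
  {t | ∀ x₁ x₂ : X, g x₁ = t → g x₂ = t → f x₁ = f x₂}

theorem isOpen_collapsed {T X Y : Scheme.{u}} (g : X ⟶ T) [UniversallyClosed g] [Surjective g]
    (hall : ∀ (T' : Scheme.{u}) (g' : T' ⟶ T) (U : T'.Opens), IsIso ((pullback.snd g g').app U))
    (f : X ⟶ Y) : IsOpen (collapsed g f) := by
  rw [isOpen_iff_forall_mem_open]
  intro s hs
  obtain ⟨x₀, hx₀⟩ := g.surjective s
  obtain ⟨U, τ, hsU, hτ⟩ := exists_facOn_near g hall f s x₀ (fun x hx => hs x x₀ hx hx₀)
  refine ⟨U, ?_, U.isOpen, hsU⟩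
  intro s' hs' x₁ x₂ h₁ h₂
  have e₁ := hτ.apply x₁ (by rw [h₁]; exact hs')
  have e₂ := hτ.apply x₂ (by rw [h₂]; exact hs')
  rw [e₁, e₂]
  congr 1
  exact Subtype.ext (h₁.trans h₂.symm)

theorem isClosed_collapsed {S T X Y : Scheme.{u}} (g : X ⟶ T) [UniversallyClosed g] [Surjective g]
    (hop : IsOpenMap (pullback.fst g g ≫ g))
    (hall : ∀ (T' : Scheme.{u}) (g' : T' ⟶ T) (U : T'.Opens), IsIso ((pullback.snd g g').app U))
    (p : T ⟶ S) (q : Y ⟶ S) [IsSeparated q] (f : X ⟶ Y) (hf : f ≫ q = g ≫ p) :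
    IsClosed (collapsed g f) := by
  have hcond : (pullback.fst g g ≫ f) ≫ q = (pullback.snd g g ≫ f) ≫ q := by
    rw [Category.assoc, Category.assoc, hf, ← Category.assoc, ← Category.assoc, pullback.condition]
  let φ : pullback g g ⟶ pullback q q :=
    pullback.lift (pullback.fst g g ≫ f) (pullback.snd g g ≫ f) hcond
  have hφ1 : φ ≫ pullback.fst q q = pullback.fst g g ≫ f := pullback.lift_fst _ _ _
  have hφ2 : φ ≫ pullback.snd q q = pullback.snd g g ≫ f := pullback.lift_snd _ _ _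
  have hE : IsClosed (φ ⁻¹' Set.range (pullback.diagonal q)) :=
    (pullback.diagonal q).isClosedEmbedding.isClosed_range.preimage φ.continuous
  have himg : (collapsed g f)ᶜ = (pullback.fst g g ≫ g) '' (φ ⁻¹' Set.range (pullback.diagonal q))ᶜ := by
    apply Set.Subset.antisymm
    · intro t ht
      simp only [collapsed, Set.mem_compl_iff, Set.mem_setOf_eq, not_forall] at ht
      obtain ⟨x₁, x₂, h₁, h₂, hne⟩ := ht
      obtain ⟨z, hz1, hz2⟩ := Scheme.Pullback.exists_preimage_pullback (f := g) (g := g) x₁ x₂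
        (h₁.trans h₂.symm)
      refine ⟨z, ?_, by rw [Scheme.Hom.comp_apply, hz1, h₁]⟩
      rintro ⟨y, hy⟩
      apply hne
      have e1 : f x₁ = pullback.fst q q (φ z) := by
        rw [← Scheme.Hom.comp_apply, hφ1, Scheme.Hom.comp_apply, hz1]
      have e2 : f x₂ = pullback.snd q q (φ z) := by
        rw [← Scheme.Hom.comp_apply, hφ2, Scheme.Hom.comp_apply, hz2]
      rw [e1, e2, ← hy, ← Scheme.Hom.comp_apply, ← Scheme.Hom.comp_apply,
        pullback.diagonal_fst, pullback.diagonal_snd]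
    · rintro t ⟨z, hz, rfl⟩ ht
      apply hz
      obtain ⟨x₀, hx₀⟩ := g.surjective ((pullback.fst g g ≫ g) z)
      obtain ⟨U, τ, hsU, hτ⟩ := exists_facOn_near g hall f _ x₀ (fun x hx => ht x x₀ hx hx₀)
      let PU : (pullback g g).Opens := (pullback.fst g g ≫ g) ⁻¹ᵁ U
      have h1 : (PU.ι ≫ pullback.fst g g) ≫ g = ((pullback.fst g g ≫ g) ∣_ U) ≫ U.ι := by
        rw [Category.assoc]; exact (morphismRestrict_ι _ _).symm
      have h2 : (PU.ι ≫ pullback.snd g g) ≫ g = ((pullback.fst g g ≫ g) ∣_ U) ≫ U.ι := by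
        rw [Category.assoc, ← pullback.condition]; exact (morphismRestrict_ι _ _).symm
      have e₁ := hτ.eq _ _ h1
      have e₂ := hτ.eq _ _ h2
      have hfac : PU.ι ≫ φ = ((PU.ι ≫ pullback.fst g g) ≫ f) ≫ pullback.diagonal q := by
        apply pullback.hom_ext
        · rw [Category.assoc, hφ1, Category.assoc, pullback.diagonal_fst, Category.comp_id,
            Category.assoc]
        · rw [Category.assoc, hφ2, Category.assoc, pullback.diagonal_snd, Category.comp_id,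
            e₁, ← e₂, Category.assoc]
      have hzU : z ∈ PU := hsU
      have : φ z = (PU.ι ≫ φ) ⟨z, hzU⟩ := rfl
      rw [Set.mem_preimage, this, hfac, Scheme.Hom.comp_apply]
      exact ⟨_, rfl⟩
  have : IsOpen (collapsed g f)ᶜ := by
    rw [himg]
    exact hop _ hE.isOpen_compl
  exact isOpen_compl_iff.1 this


/-- factorisation over the collapsed locus -/
theorem exists_fac_collapsed {T X Y : Scheme.{u}} (g : X ⟶ T) [UniversallyClosed g] [Surjective g]
    (hiso : ∀ U : T.Opens, IsIso (g.app U)) (f : X ⟶ Y) (W : T.Opens)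
    (hW : (W : Set T) ⊆ collapsed g f) :
    ∃ k : (W : Scheme.{u}) ⟶ Y, (g ⁻¹ᵁ W).ι ≫ f = (g ∣_ W) ≫ k := by
  haveI : Surjective (g ∣_ W) :=
    MorphismProperty.of_isPullback (P := @Surjective) (isPullback_morphismRestrict g W).flip
      inferInstance
  have hi : ∀ U : (W : Scheme.{u}).Opens, IsIso ((g ∣_ W).app U) := by
    intro U
    rw [morphismRestrict_app]
    have h1 := hiso (W.ι ''ᵁ U)
    have h2 : IsIso (X.presheaf.map (eqToHom (image_morphismRestrict_preimage g W U)).op) :=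
      inferInstance
    exact IsIso.comp_isIso' h1 h2
  have hc : ∀ a b : ↥(g ⁻¹ᵁ W : Scheme.{u}), (g ∣_ W) a = (g ∣_ W) b →
      ((g ⁻¹ᵁ W).ι ≫ f) a = ((g ⁻¹ᵁ W).ι ≫ f) b := by
    intro a b hab
    rw [Scheme.Hom.comp_apply, Scheme.Hom.comp_apply]
    have h1 : g a.1 = g b.1 := by
      rw [← morphismRestrict_base_coe g W a, ← morphismRestrict_base_coe g W b, hab]
    exact hW (show g a.1 ∈ W from a.2) a.1 b.1 rfl h1.symm
  obtain ⟨k, hk⟩ := Groth.Agent.Lib.Helper4.Blanchard1.exists_fac_top (g ∣_ W) ((g ⁻¹ᵁ W).ι ≫ f)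
    hi (g ∣_ W).surjective (g ∣_ W).isClosedMap hc
  exact ⟨k, hk.symm⟩

theorem main_S7783 {S T X Y : Scheme.{u}} (p : T ⟶ S) (q : Y ⟶ S) [IsSeparated q]
    (g : X ⟶ T) [IsProper g] [Flat g] [LocallyOfFinitePresentation g] [GeometricallyConnected g]
    [GeometricallyReduced g]
    (f : X ⟶ Y) (hf : f ≫ q = g ≫ p) (t : T) (ht : (f '' (g ⁻¹' {t})).Subsingleton) :
    ∃ W : T.Opens, IsClosed (W : Set T) ∧ t ∈ W ∧
      ∃ k : (W : Scheme.{u}) ⟶ Y, (g ⁻¹ᵁ W).ι ≫ f = (g ∣_ W) ≫ k := by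
  have hall := hall_of_geom g
  have hop : IsOpenMap (pullback.fst g g ≫ g) := (pullback.fst g g ≫ g).isOpenMap
  have hiso : ∀ U : T.Opens, IsIso (g.app U) := by
    intro U
    refine Groth.Agent.S0981.result g ?_ U
    intro K _ _ t
    exact ⟨GeometricallyReduced.geometrically_isReduced (f := g) t _ _
        (IsPullback.of_hasPullback _ t),
      GeometricallyConnected.geometrically_connectedSpace (f := g) t _ _
        (IsPullback.of_hasPullback _ t)⟩
  refine ⟨⟨collapsed g f, isOpen_collapsed g hall f⟩, isClosed_collapsed g hop hall p q f hf, ?_,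
    exists_fac_collapsed g hiso f _ (fun _ h => h)⟩
  intro x₁ x₂ h₁ h₂
  exact ht (Set.mem_image_of_mem _ h₁) (Set.mem_image_of_mem _ h₂)


theorem main_S7794 {S : Scheme.{u}} (X : Over S) [GrpObj X] [IsProper X.hom] [Flat X.hom]
    [LocallyOfFinitePresentation X.hom] [GeometricallyReduced X.hom] [GeometricallyConnected X.hom]
    (Y : Over S) [GrpObj Y] [IsSeparated Y.hom]
    (f g : X ⟶ Y) [IsMonHom f] [IsMonHom g] (s : S)
    (hs : X.hom.fiberι s ≫ f.left = X.hom.fiberι s ≫ g.left) :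
    ∃ W : S.Opens, IsClosed (W : Set S) ∧ s ∈ W ∧
      (X.hom ⁻¹ᵁ W).ι ≫ f.left = (X.hom ⁻¹ᵁ W).ι ≫ g.left := by
  have hδη : η[X] ≫ (f * g⁻¹) = η[Y] := by
    rw [MonObj.comp_mul, GrpObj.comp_inv, IsMonHom.one_hom, IsMonHom.one_hom, mul_inv_cancel,
      MonObj.one_eq_one]
  -- the fibre over `s` is collapsed
  have hfib : ∀ x : X.left, X.hom x = s → (f * g⁻¹).left x = η[Y].left s := by
    intro x hx
    obtain ⟨x', rfl⟩ : x ∈ Set.range (X.hom.fiberι s) := by
      rw [Scheme.Hom.range_fiberι]; exact hx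
    let Fs : Over S := Over.mk (X.hom.fiberι s ≫ X.hom)
    let j : Fs ⟶ X := Over.homMk (X.hom.fiberι s) rfl
    have hj : j ≫ f = j ≫ g := Over.OverMorphism.ext hs
    have hjδ : j ≫ (f * g⁻¹) = 1 := by
      rw [MonObj.comp_mul, GrpObj.comp_inv, hj, mul_inv_cancel]
    have h1 : (f * g⁻¹).left (X.hom.fiberι s x') = (j ≫ (f * g⁻¹)).left x' := rfl
    rw [h1, hjδ]
    change η[Y].left ((toUnit Fs).left x') = _
    rw [Groth.Agent.Lib.Helper4.GrpKer2.toUnit_left]
    exact congrArg _ hx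
  have hw : (f * g⁻¹).left ≫ Y.hom = X.hom ≫ 𝟙 S := by
    rw [Category.comp_id]; exact Over.w (f * g⁻¹)
  obtain ⟨W, hWc, hsW, k, hk⟩ := main_S7783 (𝟙 S) Y.hom X.hom (f * g⁻¹).left hw s (by
    rintro _ ⟨x₁, h₁, rfl⟩ _ ⟨x₂, h₂, rfl⟩
    rw [hfib x₁ h₁, hfib x₂ h₂])
  refine ⟨W, hWc, hsW, ?_⟩
  have hηX : η[X].left ≫ X.hom = 𝟙 S := Over.w η[X]
  have hrange : Set.range (W.ι ≫ η[X].left) ⊆ Set.range (X.hom ⁻¹ᵁ W).ι := by
    rw [Scheme.Opens.range_ι]
    rintro _ ⟨w, rfl⟩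
    change X.hom ((W.ι ≫ η[X].left) w) ∈ W
    rw [← Scheme.Hom.comp_apply, Category.assoc, hηX, Category.comp_id]
    exact w.2
  let eW : (W : Scheme.{u}) ⟶ (X.hom ⁻¹ᵁ W : Scheme.{u}) :=
    IsOpenImmersion.lift (X.hom ⁻¹ᵁ W).ι (W.ι ≫ η[X].left) hrange
  have heW : eW ≫ (X.hom ⁻¹ᵁ W).ι = W.ι ≫ η[X].left := IsOpenImmersion.lift_fac _ _ _
  have heW2 : eW ≫ (X.hom ∣_ W) = 𝟙 _ := by
    rw [← cancel_mono W.ι, Category.assoc, morphismRestrict_ι, ← Category.assoc, heW,
      Category.assoc, hηX, Category.comp_id, Category.id_comp]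
  have hk' : k = W.ι ≫ η[Y].left := by
    calc k = (eW ≫ (X.hom ∣_ W)) ≫ k := by rw [heW2, Category.id_comp]
      _ = eW ≫ (X.hom ⁻¹ᵁ W).ι ≫ (f * g⁻¹).left := by rw [Category.assoc, hk]
      _ = W.ι ≫ (η[X] ≫ (f * g⁻¹)).left := by rw [← Category.assoc, heW, Category.assoc]; rfl
      _ = W.ι ≫ η[Y].left := by rw [hδη]
  let XW : Over S := Over.mk ((X.hom ⁻¹ᵁ W).ι ≫ X.hom)
  let jW : XW ⟶ X := Over.homMk (X.hom ⁻¹ᵁ W).ι rfl
  have hjW : jW ≫ (f * g⁻¹) = 1 := by
    ext1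
    change (X.hom ⁻¹ᵁ W).ι ≫ (f * g⁻¹).left = (toUnit XW).left ≫ η[Y].left
    rw [hk, hk', ← Category.assoc, morphismRestrict_ι,
      Groth.Agent.Lib.Helper4.GrpKer2.toUnit_left]
    rfl
  rw [MonObj.comp_mul, GrpObj.comp_inv, mul_inv_eq_one] at hjW
  exact congrArg (fun φ => φ.left) hjW

end Groth.Agent.Lib.Helper4.AbSchRigid2
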