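import Mathlib
import Groth.Prelude.Def_Grpd
import Groth.Prelude.Def_AlgGrp
import Groth.Agent.Lib.Helper4.Act1

/-!
# Groupoid scheme from an equivalence relation with chosen structure maps; the action groupoid of a free action (helper4)
-/

set_option backward.isDefEq.respectTransparency.types false
set_option synthInstance.maxHeartbeats 400000
set_option autoImplicit false
set_option linter.unusedSectionVars false
set_option linter.style.haveILetI false
set_option linter.unusedSimpArgs false
universe u v w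
open CategoryTheory CategoryTheory.Limits AlgebraicGeometry TopologicalSpace Opposite
open MonoidalCategory CartesianMonoidalCategory MonObj GrpObj

namespace Groth.Agent.Lib.Helper4.ActGpd1

section Generic
variable {S : Scheme.{u}} {U R : Scheme.{u}} (pU : U ⟶ S) (pR : R ⟶ S) (s t : R ⟶ U)
  (s_over : s ≫ pU = pR) (t_over : t ≫ pU = pR)
  (hext : ∀ {T : Scheme.{u}} (α β : T ⟶ R), α ≫ t = β ≫ t → α ≫ s = β ≫ s → α = β)
  (e : U ⟶ R) (e_s : e ≫ s = 𝟙 U) (e_t : e ≫ t = 𝟙 U)
  (i : R ⟶ R) (i_s : i ≫ s = t) (i_t : i ≫ t = s)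
  (c : pullback s t ⟶ R) (c_t : c ≫ t = pullback.fst s t ≫ t)
  (c_s : c ≫ s = pullback.snd s t ≫ s)

/-- a groupoid scheme from an equivalence relation given with chosen structure maps -/
noncomputable def gpdOfRel : Grpd.GroupoidScheme S where
  U := U
  R := R
  pU := pU
  pR := pR
  s := s
  t := t
  e := e
  i := i
  c := c
  s_over := s_over
  t_over := t_over
  comp_s := fun a b h => by rw [Category.assoc, c_s, pullback.lift_snd_assoc]
  comp_t := fun a b h => by rw [Category.assoc, c_t, pullback.lift_fst_assoc]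
  assoc := fun a b d h₁ h₂ => hext _ _
    (by simp only [Category.assoc, c_t, pullback.lift_fst_assoc])
    (by simp only [Category.assoc, c_s, pullback.lift_snd_assoc])
  e_s := e_s
  e_t := e_t
  comp_e := fun a => hext _ _
    (by simp only [Category.assoc, c_t, pullback.lift_fst_assoc])
    (by simp only [Category.assoc, c_s, pullback.lift_snd_assoc, e_s, Category.comp_id])
  e_comp := fun a => hext _ _
    (by simp only [Category.assoc, c_t, pullback.lift_fst_assoc, e_t, Category.comp_id])
    (by simp only [Category.assoc, c_s, pullback.lift_snd_assoc])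
  i_s := i_s
  i_t := i_t
  comp_i := fun a => hext _ _
    (by simp only [Category.assoc, c_t, pullback.lift_fst_assoc, e_t, Category.comp_id])
    (by simp only [Category.assoc, c_s, pullback.lift_snd_assoc, i_s, e_s, Category.comp_id])
  i_comp := fun a => hext _ _
    (by simp only [Category.assoc, c_t, pullback.lift_fst_assoc, i_t, e_t, Category.comp_id])
    (by simp only [Category.assoc, c_s, pullback.lift_snd_assoc, e_s, Category.comp_id])

end Generic


section ActGpd
open Groth.Agent.Helper4.Act
variable {S : Scheme.{u}} {G X : Over S} [GrpObj G] (a : AlgGrp.Action G X)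

theorem act_one {T : Over S} (x : T ⟶ X) : lift (1 : T ⟶ G) x ≫ a.act = x :=
  one_smul' a.act a.one_act x

theorem act_mul {T : Over S} (g h : T ⟶ G) (x : T ⟶ X) :
    lift (g * h) x ≫ a.act = lift g (lift h x ≫ a.act) ≫ a.act :=
  mul_smul' a.act a.mul_act g h x

theorem lift_fst_snd' {T : Over S} (r : T ⟶ G ⊗ X) : lift (r ≫ fst G X) (r ≫ snd G X) = r := by
  ext <;> simp

section Free
variable (hfree : ∀ (T : Over S) (g : T ⟶ G) (x : T ⟶ X),
  lift g x ≫ a.act = x → g = toUnit T ≫ η[G])

include hfree in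
theorem act_hext_over {T : Over S} (α β : T ⟶ G ⊗ X) (h1 : α ≫ a.act = β ≫ a.act)
    (h2 : α ≫ snd G X = β ≫ snd G X) : α = β := by
  have hα : lift (α ≫ fst G X) (α ≫ snd G X) = α := lift_fst_snd' α
  have hβ : lift (β ≫ fst G X) (α ≫ snd G X) = β := by rw [h2]; exact lift_fst_snd' β
  have h3 : lift ((β ≫ fst G X)⁻¹ * (α ≫ fst G X)) (α ≫ snd G X) ≫ a.act = α ≫ snd G X := by
    calc lift ((β ≫ fst G X)⁻¹ * (α ≫ fst G X)) (α ≫ snd G X) ≫ a.act
        = lift (β ≫ fst G X)⁻¹ (lift (α ≫ fst G X) (α ≫ snd G X) ≫ a.act) ≫ a.act :=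
          act_mul a _ _ _
      _ = lift (β ≫ fst G X)⁻¹ (β ≫ a.act) ≫ a.act := by rw [hα, h1]
      _ = lift (β ≫ fst G X)⁻¹ (lift (β ≫ fst G X) (α ≫ snd G X) ≫ a.act) ≫ a.act := by rw [hβ]
      _ = lift ((β ≫ fst G X)⁻¹ * (β ≫ fst G X)) (α ≫ snd G X) ≫ a.act := (act_mul a _ _ _).symm
      _ = α ≫ snd G X := by rw [inv_mul_cancel, act_one]
  have h4 := hfree T _ _ h3
  have h5 : (β ≫ fst G X)⁻¹ * (α ≫ fst G X) = 1 := by rw [h4, Hom.one_def]
  have h6 : α ≫ fst G X = β ≫ fst G X := by
    have := congrArg (fun z => (β ≫ fst G X) * z) h5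
    simpa using this
  rw [← hα, ← hβ, h6]

include hfree in
theorem act_hext {T : Scheme.{u}} (α β : T ⟶ (G ⊗ X).left)
    (h1 : α ≫ a.act.left = β ≫ a.act.left) (h2 : α ≫ (snd G X).left = β ≫ (snd G X).left) :
    α = β := by
  have hpR : β ≫ (G ⊗ X).hom = α ≫ (G ⊗ X).hom := by
    rw [← Over.w (snd G X), ← Category.assoc, ← Category.assoc, h2]
  let αO : Over.mk (α ≫ (G ⊗ X).hom) ⟶ G ⊗ X := Over.homMk α rfl
  let βO : Over.mk (α ≫ (G ⊗ X).hom) ⟶ G ⊗ X := Over.homMk β hpR
  have := act_hext_over a hfree αO βO (by ext; exact h1) (by ext; exact h2)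
  exact congrArg (fun f => f.left) this

end Free

/-- identity of the action groupoid -/
noncomputable def actE : X.left ⟶ (G ⊗ X).left := (lift (1 : X ⟶ G) (𝟙 X)).left

theorem actE_s : actE (G := G) (X := X) ≫ (snd G X).left = 𝟙 _ := by
  rw [actE, ← Over.comp_left, lift_snd]
  rfl

theorem actE_t : actE (G := G) (X := X) ≫ a.act.left = 𝟙 _ := by
  rw [actE, ← Over.comp_left, act_one]
  rfl

/-- inverse of the action groupoid -/
noncomputable def actI : (G ⊗ X).left ⟶ (G ⊗ X).left := (lift (fst G X)⁻¹ a.act).left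

theorem actI_s : actI a ≫ (snd G X).left = a.act.left := by
  rw [actI, ← Over.comp_left, lift_snd]

theorem actI_t : actI a ≫ a.act.left = (snd G X).left := by
  rw [actI, ← Over.comp_left]
  congr 1
  calc lift (fst G X)⁻¹ a.act ≫ a.act
      = lift (fst G X)⁻¹ (lift (fst G X) (snd G X) ≫ a.act) ≫ a.act := by
        rw [lift_fst_snd, Category.id_comp]
    _ = lift ((fst G X)⁻¹ * fst G X) (snd G X) ≫ a.act := (act_mul a _ _ _).symm
    _ = snd G X := by rw [inv_mul_cancel, act_one]

/-- the scheme of composable pairs, over `S` -/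
noncomputable abbrev actP : Over S :=
  Over.mk (pullback.fst (snd G X).left a.act.left ≫ (G ⊗ X).hom)

noncomputable def actP1 : actP a ⟶ G ⊗ X := Over.homMk (pullback.fst (snd G X).left a.act.left) rfl

noncomputable def actP2 : actP a ⟶ G ⊗ X :=
  Over.homMk (pullback.snd (snd G X).left a.act.left) (by
    change pullback.snd (snd G X).left a.act.left ≫ (G ⊗ X).hom =
      pullback.fst (snd G X).left a.act.left ≫ (G ⊗ X).hom
    calc pullback.snd (snd G X).left a.act.left ≫ (G ⊗ X).hom
        = pullback.snd (snd G X).left a.act.left ≫ a.act.left ≫ X.hom := by rw [Over.w a.act]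
      _ = pullback.fst (snd G X).left a.act.left ≫ (snd G X).left ≫ X.hom := by
        rw [← Category.assoc, ← pullback.condition, Category.assoc]
      _ = pullback.fst (snd G X).left a.act.left ≫ (G ⊗ X).hom := by rw [Over.w (snd G X)])

theorem actP_cond : actP1 a ≫ snd G X = actP2 a ≫ a.act := by
  ext
  exact pullback.condition

/-- composition of the action groupoid, over `S` -/
noncomputable def actCO : actP a ⟶ G ⊗ X :=
  lift ((actP1 a ≫ fst G X) * (actP2 a ≫ fst G X)) (actP2 a ≫ snd G X)

/-- composition of the action groupoid -/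
noncomputable def actC : pullback (snd G X).left a.act.left ⟶ (G ⊗ X).left := (actCO a).left

theorem actC_t : actC a ≫ a.act.left = pullback.fst (snd G X).left a.act.left ≫ a.act.left := by
  have h : actCO a ≫ a.act = actP1 a ≫ a.act := by
    rw [actCO, act_mul, lift_fst_snd', ← actP_cond, lift_fst_snd']
  have := congrArg (fun f => f.left) h
  exact this

theorem actC_s : actC a ≫ (snd G X).left = pullback.snd (snd G X).left a.act.left ≫ (snd G X).left := by
  have h : actCO a ≫ snd G X = actP2 a ≫ snd G X := by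
    rw [actCO, lift_snd]
  have := congrArg (fun f => f.left) h
  exact this

/-- the action groupoid of a free action -/
noncomputable def actGpd (hfree : ∀ (T : Over S) (g : T ⟶ G) (x : T ⟶ X),
    lift g x ≫ a.act = x → g = toUnit T ≫ η[G]) : Grpd.GroupoidScheme S :=
  gpdOfRel X.hom (G ⊗ X).hom (snd G X).left a.act.left (Over.w _) (Over.w _)
    (fun α β h1 h2 => act_hext a hfree α β h1 h2) actE actE_s (actE_t a) (actI a) (actI_s a)
    (actI_t a) (actC a) (actC_t a) (actC_s a)

end ActGpd

end Groth.Agent.Lib.Helper4.ActGpd1
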