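import Mathlib

/-!
# Flat closed subschemes: pure ideals (Stacks 04PS (5)), sup of pure ideals, the flat closed subscheme cut out by a family of clopen subsets, factorisation of morphisms through a flat closed immersion (helper4)
-/

set_option backward.isDefEq.respectTransparency.types false
set_option synthInstance.maxHeartbeats 400000
set_option autoImplicit false
set_option linter.unusedSectionVars false
set_option linter.style.haveILetI false
set_option linter.unusedSimpArgs false
universe u v w
open CategoryTheory CategoryTheory.Limits AlgebraicGeometry TopologicalSpace Opposite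

namespace Groth.Agent.Lib.Helper4.FlatClosed1

section Alg
variable {A : Type*} [CommRing A]

/-- property (5) of Stacks 04PS -/
def LocIdem (I : Ideal A) : Prop := ∀ x ∈ I, ∃ y ∈ I, x = x * y

lemma LocIdem.pure {I : Ideal A} (h : LocIdem I) : I.Pure := by
  apply Ideal.Pure.of_inf_eq_mul
  intro J _
  apply le_antisymm
  · intro x hx
    obtain ⟨y, hy, hxy⟩ := h x hx.1
    rw [hxy, mul_comm x y]
    exact Ideal.mul_mem_mul hy hx.2
  · exact Ideal.mul_le_inf

lemma locIdem_of_pure {I : Ideal A} [I.Pure] : LocIdem I :=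
  fun _ hx => Ideal.exists_eq_mul_of_pure hx

lemma locIdem_iSup {J : Type*} (I : J → Ideal A) (h : ∀ j, LocIdem (I j)) :
    LocIdem (⨆ j, I j) := by
  intro x hx
  induction hx using Submodule.iSup_induction' with
  | mem j x hx =>
    obtain ⟨y, hy, hxy⟩ := h j x hx
    exact ⟨y, (le_iSup I j) hy, hxy⟩
  | zero => exact ⟨0, Ideal.zero_mem _, by simp⟩
  | add x x' hx hx' ih ih' =>
    obtain ⟨y, hy, hxy⟩ := ih
    obtain ⟨y', hy', hxy'⟩ := ih'
    refine ⟨y + y' - y * y', ?_, ?_⟩
    · exact Ideal.sub_mem _ (Ideal.add_mem _ hy hy') (Ideal.mul_mem_right _ _ hy)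
    · have e1 : x * (1 - y) = 0 := by rw [mul_sub, mul_one, ← hxy, sub_self]
      have e2 : x' * (1 - y') = 0 := by rw [mul_sub, mul_one, ← hxy', sub_self]
      have : (x + x') * (1 - (y + y' - y * y')) = 0 := by
        have : (x + x') * (1 - (y + y' - y * y')) =
            (x * (1 - y)) * (1 - y') + (x' * (1 - y')) * (1 - y) := by ring
        rw [this, e1, e2]; ring
      have h2 : (x + x') * (1 - (y + y' - y * y')) = (x + x') - (x + x') * (y + y' - y * y') := by
        ring
      rw [h2, sub_eq_zero] at this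
      exact this

/-- the kernel of a flat surjective ring map is a pure ideal -/
lemma pure_ker_of_flat_of_surjective {B : Type*} [CommRing B] (φ : A →+* B) (hf : φ.Flat)
    (hs : Function.Surjective φ) : (RingHom.ker φ).Pure := by
  letI := φ.toAlgebra
  have hfl : Module.Flat A B := hf
  let e : (A ⧸ RingHom.ker (Algebra.ofId A B)) ≃ₐ[A] B :=
    Ideal.quotientKerAlgEquivOfSurjective (f := Algebra.ofId A B) hs
  exact Module.Flat.of_linearEquiv e.toLinearEquiv

end Alg


section Sch
variable {X : Scheme.{u}}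

/-- the quotient map by a pure ideal is flat -/
lemma flat_quotient_mk {A : Type*} [CommRing A] (I : Ideal A) [hI : I.Pure] :
    (Ideal.Quotient.mk I).Flat := by
  have : Module.Flat A (A ⧸ I) := hI
  exact RingHom.flat_algebraMap_iff.mpr this

/-- a closed subscheme is flat in the ambient scheme as soon as all ideals are pure -/
theorem flat_subschemeι_of_pure (I : X.IdealSheafData)
    (h : ∀ U : X.affineOpens, (I.ideal U).Pure) : Flat I.subschemeι := by
  have hloc : RingHom.PropertyIsLocal @RingHom.Flat := RingHom.Flat.propertyIsLocal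
  have h1 : targetAffineLocally (affineAnd @RingHom.Flat) I.subschemeι := by
    rw [targetAffineLocally_affineAnd_iff' RingHom.Flat.respectsIso]
    refine ⟨inferInstance, fun U hU => ?_⟩
    have := I.subschemeι_app ⟨U, hU⟩
    rw [this, CommRingCat.hom_comp]
    haveI := h ⟨U, hU⟩
    refine RingHom.Flat.comp (flat_quotient_mk _) ?_
    exact RingHom.Flat.of_bijective (ConcreteCategory.bijective_of_isIso (I.subschemeObjIso ⟨U, hU⟩).inv)
  have h2 := (targetAffineLocally_affineAnd_iff_affineLocally hloc _).mp h1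
  rw [HasRingHomProperty.eq_affineLocally @Flat]
  exact h2.2

/-- the kernel ideals of a flat closed immersion are pure -/
theorem pure_ker_ideal {W : Scheme.{u}} (j : W ⟶ X) [IsClosedImmersion j] [Flat j]
    (U : X.affineOpens) : (j.ker.ideal U).Pure := by
  rw [Scheme.Hom.ker_apply]
  apply pure_ker_of_flat_of_surjective
  · have hV : IsAffineOpen (j ⁻¹ᵁ U.1) := U.2.preimage j
    have := HasRingHomProperty.appLE @Flat j ‹Flat j› U ⟨_, hV⟩ le_rfl
    rwa [Scheme.Hom.appLE_eq_app] at this
  · exact j.app_surjective U.1 U.2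

end Sch


section Clopen
variable {X : Scheme.{u}}

lemma isClosedImmersion_ι_of_isClosed (W : X.Opens) (hW : IsClosed (W : Set X)) :
    IsClosedImmersion W.ι :=
  IsClosedImmersion.of_isPreimmersion W.ι (by rw [Scheme.Opens.range_ι]; exact hW)

/-- the ideal sheaf of an intersection of clopen subsets -/
noncomputable def clopenIdeal (𝒲 : Set X.Opens) : X.IdealSheafData :=
  ⨆ W : 𝒲, (W.1.ι).ker

theorem pure_clopenIdeal (𝒲 : Set X.Opens) (h𝒲 : ∀ W ∈ 𝒲, IsClosed (W : Set X))
    (U : X.affineOpens) : ((clopenIdeal 𝒲).ideal U).Pure := by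
  apply LocIdem.pure
  have : (clopenIdeal 𝒲).ideal U = ⨆ W : 𝒲, ((W.1.ι).ker).ideal U := by
    rw [clopenIdeal, Scheme.IdealSheafData.ideal_iSup, iSup_apply]
  rw [this]
  apply locIdem_iSup
  intro W
  haveI := isClosedImmersion_ι_of_isClosed W.1 (h𝒲 W.1 W.2)
  haveI := pure_ker_ideal W.1.ι U
  exact locIdem_of_pure

theorem flat_clopenIdeal (𝒲 : Set X.Opens) (h𝒲 : ∀ W ∈ 𝒲, IsClosed (W : Set X)) :
    Flat (clopenIdeal 𝒲).subschemeι :=
  flat_subschemeι_of_pure _ (pure_clopenIdeal 𝒲 h𝒲)

theorem range_clopenIdeal (𝒲 : Set X.Opens) (h𝒲 : ∀ W ∈ 𝒲, IsClosed (W : Set X)) :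
    Set.range (clopenIdeal 𝒲).subschemeι = ⋂ W ∈ 𝒲, (W : Set X) := by
  rw [Scheme.IdealSheafData.range_subschemeι]
  apply subset_antisymm
  · intro x hx
    simp only [Set.mem_iInter]
    intro W hW
    haveI := isClosedImmersion_ι_of_isClosed W (h𝒲 W hW)
    have hle : (W.ι).ker ≤ clopenIdeal 𝒲 := le_iSup (fun W : 𝒲 => (W.1.ι).ker) ⟨W, hW⟩
    have h1 : x ∈ (((W.ι).ker.support : Closeds X) : Set X) :=
      Scheme.IdealSheafData.support_antitone hle hx
    rw [Scheme.Hom.support_ker, Scheme.Opens.range_ι, (h𝒲 W hW).closure_eq] at h1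
    exact h1
  · intro x hx
    simp only [Set.mem_iInter] at hx
    have hle : clopenIdeal 𝒲 ≤ (X.fromSpecResidueField x).ker := by
      apply iSup_le
      intro W
      have hr : Set.range (X.fromSpecResidueField x) ⊆ Set.range W.1.ι := by
        rw [Scheme.range_fromSpecResidueField, Scheme.Opens.range_ι]
        exact Set.singleton_subset_iff.mpr (hx W.1 W.2)
      have hfac : IsOpenImmersion.lift W.1.ι (X.fromSpecResidueField x) hr ≫ W.1.ι =
          X.fromSpecResidueField x := IsOpenImmersion.lift_fac _ _ _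
      rw [← hfac]
      exact Scheme.Hom.le_ker_comp _ _
    have h1 := Scheme.IdealSheafData.support_antitone hle
    apply h1
    apply Scheme.Hom.range_subset_ker_support
    rw [Scheme.range_fromSpecResidueField]; rfl

end Clopen

section Factor
variable {X : Scheme.{u}}

/-- morphisms landing set-theoretically in a flat closed subscheme factor through it -/
theorem exists_lift_of_flat_closedImmersion {Z T' : Scheme.{u}} (i : Z ⟶ X) [IsClosedImmersion i]
    [Flat i] (f : T' ⟶ X) (h : Set.range f ⊆ Set.range i) : ∃ f' : T' ⟶ Z, f' ≫ i = f := by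
  haveI : Surjective (pullback.fst f i) := by
    constructor
    rw [← Set.range_eq_univ, Scheme.Pullback.range_fst]
    exact Set.eq_univ_of_forall fun t => h ⟨t, rfl⟩
  haveI : IsIso (pullback.fst f i) := Flat.isIso_of_surjective_of_mono _
  refine ⟨inv (pullback.fst f i) ≫ pullback.snd f i, ?_⟩
  rw [Category.assoc, ← pullback.condition, IsIso.inv_hom_id_assoc]

end Factor

end Groth.Agent.Lib.Helper4.FlatClosed1
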