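import Mathlib

/-!
# Gluing local categorical quotients of a pair of morphisms on invariant opens (locally directed colimit); flat case (helper4)
-/

set_option backward.isDefEq.respectTransparency.types false
set_option synthInstance.maxHeartbeats 400000
set_option autoImplicit false
set_option linter.unusedSectionVars false
set_option linter.style.haveILetI false
set_option linter.unusedSimpArgs false
universe u v w
open CategoryTheory CategoryTheory.Limits AlgebraicGeometry TopologicalSpace Opposite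

namespace Groth.Agent.Lib.Helper4.GrpdGlue1

section Defs
variable {U R : Scheme.{u}} (s t : R ⟶ U)

/-- `q : W ⟶ Y` is invariant under the arrows of `R` (on `T`-points). -/
def IsInvHom (W : U.Opens) {Y : Scheme.{u}} (q : (W : Scheme.{u}) ⟶ Y) : Prop :=
  ∀ ⦃T : Scheme.{u}⦄ (r : T ⟶ R) (a b : T ⟶ (W : Scheme.{u})),
    a ≫ W.ι = r ≫ t → b ≫ W.ι = r ≫ s → a ≫ q = b ≫ q

/-- `q : W ⟶ Y` is a categorical quotient of `W` by the arrows of `R`. -/
structure IsCoeqOn (W : U.Opens) {Y : Scheme.{u}} (q : (W : Scheme.{u}) ⟶ Y) : Prop where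
  inv : IsInvHom s t W q
  desc : ∀ ⦃Z : Scheme.{u}⦄ (f : (W : Scheme.{u}) ⟶ Z), IsInvHom s t W f → ∃ g : Y ⟶ Z, q ≫ g = f
  hom_ext : ∀ ⦃Z : Scheme.{u}⦄ (g g' : Y ⟶ Z), q ≫ g = q ≫ g' → g = g'

variable {s t}

theorem IsInvHom.comp {W : U.Opens} {Y Z : Scheme.{u}} {q : (W : Scheme.{u}) ⟶ Y}
    (h : IsInvHom s t W q) (g : Y ⟶ Z) : IsInvHom s t W (q ≫ g) := by
  intro T r a b ha hb
  rw [← Category.assoc, ← Category.assoc, h r a b ha hb]

theorem IsInvHom.of_le {W W' : U.Opens} (hle : W' ≤ W) {Y : Scheme.{u}}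
    {q : (W : Scheme.{u}) ⟶ Y} (h : IsInvHom s t W q) :
    IsInvHom s t W' (U.homOfLE hle ≫ q) := by
  intro T r a b ha hb
  rw [← Category.assoc, ← Category.assoc]
  apply h r
  · rw [Category.assoc, Scheme.homOfLE_ι, ha]
  · rw [Category.assoc, Scheme.homOfLE_ι, hb]

/-- two categorical quotients of the same open are isomorphic -/
theorem IsCoeqOn.exists_iso {W : U.Opens} {Y Y' : Scheme.{u}} {q : (W : Scheme.{u}) ⟶ Y}
    {q' : (W : Scheme.{u}) ⟶ Y'} (h : IsCoeqOn s t W q) (h' : IsCoeqOn s t W q') :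
    ∃ e : Y ≅ Y', q ≫ e.hom = q' := by
  obtain ⟨g, hg⟩ := h.desc q' h'.inv
  obtain ⟨g', hg'⟩ := h'.desc q h.inv
  refine ⟨⟨g, g', ?_, ?_⟩, hg⟩
  · apply h.hom_ext
    rw [← Category.assoc, hg, hg', Category.comp_id]
  · apply h'.hom_ext
    rw [← Category.assoc, hg', hg, Category.comp_id]

theorem IsCoeqOn.comp_iso {W : U.Opens} {Y Y' : Scheme.{u}} {q : (W : Scheme.{u}) ⟶ Y}
    (h : IsCoeqOn s t W q) (e : Y ≅ Y') : IsCoeqOn s t W (q ≫ e.hom) where
  inv := h.inv.comp _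
  desc := fun Z f hf => by
    obtain ⟨g, hg⟩ := h.desc f hf
    exact ⟨e.inv ≫ g, by rw [Category.assoc, Iso.hom_inv_id_assoc, hg]⟩
  hom_ext := fun Z g g' hgg => by
    rw [Category.assoc, Category.assoc] at hgg
    exact (cancel_epi e.hom).mp (h.hom_ext _ _ hgg)

end Defs


/-- an atlas of local categorical quotients on invariant opens -/
structure QuotAtlas {U R : Scheme.{u}} (s t : R ⟶ U) where
  J : Type u
  W : J → U.Opens
  cover : ∀ x : U, ∃ i, x ∈ W i
  inv : ∀ i, s ⁻¹ᵁ (W i) = t ⁻¹ᵁ (W i)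
  directed : ∀ i j (x : U), x ∈ W i → x ∈ W j → ∃ k, W k ≤ W i ∧ W k ≤ W j ∧ x ∈ W k
  M : J → Scheme.{u}
  q : ∀ i, (W i : Scheme.{u}) ⟶ M i
  coeq : ∀ i, IsCoeqOn s t (W i) (q i)
  surj : ∀ i, Function.Surjective (q i).base
  fib : ∀ i (x y : (W i : Scheme.{u})), (q i).base x = (q i).base y ↔
      ∃ r : R, t.base r = (W i).ι.base x ∧ s.base r = (W i).ι.base y
  openImm : ∀ i j (h : W i ≤ W j) (g : M i ⟶ M j), q i ≫ g = U.homOfLE h ≫ q j →
    IsOpenImmersion g

namespace QuotAtlas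
variable {U R : Scheme.{u}} {s t : R ⟶ U} (D : QuotAtlas s t)

instance : Preorder D.J := Preorder.lift D.W

theorem le_iff {i j : D.J} : i ≤ j ↔ D.W i ≤ D.W j := Iff.rfl

/-- transition maps -/
noncomputable def trans {i j : D.J} (h : D.W i ≤ D.W j) : D.M i ⟶ D.M j :=
  ((D.coeq i).desc (U.homOfLE h ≫ D.q j) ((D.coeq j).inv.of_le h)).choose

theorem q_trans {i j : D.J} (h : D.W i ≤ D.W j) :
    D.q i ≫ D.trans h = U.homOfLE h ≫ D.q j :=
  ((D.coeq i).desc (U.homOfLE h ≫ D.q j) ((D.coeq j).inv.of_le h)).choose_spec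

theorem trans_rfl (i : D.J) : D.trans (le_refl (D.W i)) = 𝟙 _ := by
  apply (D.coeq i).hom_ext
  rw [q_trans, Scheme.homOfLE_rfl, Category.id_comp, Category.comp_id]

theorem trans_trans {i j k : D.J} (h : D.W i ≤ D.W j) (h' : D.W j ≤ D.W k) :
    D.trans h ≫ D.trans h' = D.trans (h.trans h') := by
  apply (D.coeq i).hom_ext
  rw [← Category.assoc, q_trans, Category.assoc, q_trans, q_trans, ← Category.assoc,
    Scheme.homOfLE_homOfLE]

instance {i j : D.J} (h : D.W i ≤ D.W j) : IsOpenImmersion (D.trans h) :=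
  D.openImm i j h _ (D.q_trans h)

/-- the diagram of local quotients -/
noncomputable def F : D.J ⥤ Scheme.{u} where
  obj := D.M
  map f := D.trans (leOfHom f)
  map_id i := D.trans_rfl i
  map_comp f g := (D.trans_trans _ _).symm

instance {i j : D.J} (f : i ⟶ j) : IsOpenImmersion (D.F.map f) :=
  inferInstanceAs (IsOpenImmersion (D.trans (leOfHom f)))

theorem q_apply_trans {i j : D.J} (h : D.W i ≤ D.W j) (x : (D.W i : Scheme.{u})) :
    (D.trans h).base ((D.q i).base x) = (D.q j).base ((U.homOfLE h).base x) := by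
  rw [← Scheme.Hom.comp_apply, ← Scheme.Hom.comp_apply, q_trans]

theorem t_mem_iff (i : D.J) (r : R) : t.base r ∈ D.W i ↔ s.base r ∈ D.W i := by
  have h := D.inv i
  constructor
  · intro h1
    have : r ∈ s ⁻¹ᵁ D.W i := by rw [h]; exact h1
    exact this
  · intro h1
    have : r ∈ t ⁻¹ᵁ D.W i := by rw [← h]; exact h1
    exact this

theorem ι_mk (W : U.Opens) (u : U) (hu : u ∈ W) : W.ι.base (⟨u, hu⟩ : (W : Scheme.{u})) = u := rfl

theorem mk_ι (W : U.Opens) (x : (W : Scheme.{u})) (h : W.ι.base x ∈ W) :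
    (⟨W.ι.base x, h⟩ : (W : Scheme.{u})) = x := rfl

theorem ι_mem (W : U.Opens) (x : (W : Scheme.{u})) : W.ι.base x ∈ W := x.2

theorem locDir {i j k : D.J} (hi : D.W i ≤ D.W k) (hj : D.W j ≤ D.W k) (xi : D.M i) (xj : D.M j)
    (hx : (D.trans hi).base xi = (D.trans hj).base xj) :
    ∃ (l : D.J) (hli : D.W l ≤ D.W i) (hlj : D.W l ≤ D.W j) (x : D.M l),
      (D.trans hli).base x = xi ∧ (D.trans hlj).base x = xj := by
  obtain ⟨ui, hui⟩ := D.surj i xi
  obtain ⟨uj, huj⟩ := D.surj j xj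
  have h1 : (D.q k).base ((U.homOfLE hi).base ui) = (D.q k).base ((U.homOfLE hj).base uj) := by
    rw [← q_apply_trans, ← q_apply_trans, hui, huj, hx]
  obtain ⟨r, hr1, hr2⟩ := (D.fib k _ _).mp h1
  have e1 : (D.W k).ι.base ((U.homOfLE hi).base ui) = (D.W i).ι.base ui := by
    rw [← Scheme.Hom.comp_apply, Scheme.homOfLE_ι]
  have e2 : (D.W k).ι.base ((U.homOfLE hj).base uj) = (D.W j).ι.base uj := by
    rw [← Scheme.Hom.comp_apply, Scheme.homOfLE_ι]
  rw [e1] at hr1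
  rw [e2] at hr2
  have h2 : (D.W i).ι.base ui ∈ D.W j := by
    rw [← hr1, D.t_mem_iff j r, hr2]
    exact ι_mem _ uj
  obtain ⟨l, hli, hlj, hl⟩ := D.directed i j _ (ι_mem _ ui) h2
  refine ⟨l, hli, hlj, (D.q l).base ⟨(D.W i).ι.base ui, hl⟩, ?_, ?_⟩
  · rw [q_apply_trans, Scheme.homOfLE_apply', ← hui]
    rfl
  · rw [q_apply_trans, Scheme.homOfLE_apply', ← huj]
    exact (D.fib j _ _).mpr ⟨r, hr1, hr2⟩

instance : (D.F ⋙ Scheme.forget).IsLocallyDirected where
  cond {i j k} fi fj xi xj hx := by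
    obtain ⟨l, hli, hlj, x, h1, h2⟩ := D.locDir (leOfHom fi) (leOfHom fj) xi xj hx
    exact ⟨l, homOfLE hli, homOfLE hlj, x, h1, h2⟩

/-- the glued quotient -/
noncomputable def Y : Scheme.{u} := colimit D.F

/-- the open charts of the glued quotient -/
noncomputable def ι (i : D.J) : D.M i ⟶ D.Y := colimit.ι D.F i

instance (i : D.J) : IsOpenImmersion (D.ι i) :=
  inferInstanceAs (IsOpenImmersion (colimit.ι D.F i))

theorem trans_ι {i j : D.J} (h : D.W i ≤ D.W j) : D.trans h ≫ D.ι j = D.ι i :=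
  colimit.w D.F (homOfLE h)

theorem isOpenCover : IsOpenCover D.W := by
  apply top_le_iff.mp
  intro x _
  obtain ⟨i, hi⟩ := D.cover x
  exact Opens.mem_iSup.mpr ⟨i, hi⟩

/-- the cover of `U` by the invariant opens -/
noncomputable abbrev cov : U.OpenCover := U.openCoverOfIsOpenCover D.W D.isOpenCover

instance : Preorder D.cov.I₀ := inferInstanceAs (Preorder D.J)

noncomputable instance : Scheme.Cover.LocallyDirected D.cov where
  trans {i j} hij := U.homOfLE (leOfHom hij)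
  trans_id i := Scheme.homOfLE_rfl _ _
  trans_comp hij hjk := (Scheme.homOfLE_homOfLE _ _ _).symm
  w hij := Scheme.homOfLE_ι _ _
  property_trans hij := by
    change IsOpenImmersion (U.homOfLE (leOfHom hij))
    exact IsOpenImmersion.of_comp _ (D.W _).ι
  directed {i j} x := by
    have h1 : ((pullback.fst (D.W i).ι (D.W j).ι ≫ (D.W i).ι).base x) ∈ D.W i := by
      rw [Scheme.Hom.comp_apply]; exact ι_mem _ _
    have h2 : ((pullback.fst (D.W i).ι (D.W j).ι ≫ (D.W i).ι).base x) ∈ D.W j := by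
      rw [pullback.condition, Scheme.Hom.comp_apply]; exact ι_mem _ _
    obtain ⟨k, hki, hkj, hk⟩ := D.directed i j _ h1 h2
    refine ⟨k, homOfLE hki, homOfLE hkj, ⟨_, hk⟩, ?_⟩
    apply (pullback.fst (D.W i).ι (D.W j).ι ≫ (D.W i).ι).isOpenEmbedding.injective
    have e1 : pullback.lift (U.homOfLE hki) (U.homOfLE hkj)
        (by rw [Scheme.homOfLE_ι, Scheme.homOfLE_ι]) ≫ pullback.fst (D.W i).ι (D.W j).ι ≫
        (D.W i).ι = (D.W k).ι := by
      rw [pullback.lift_fst_assoc, Scheme.homOfLE_ι]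
    exact congrArg (fun f => f.base (⟨_, hk⟩ : (D.W k : Scheme.{u}))) e1

/-- the quotient map -/
theorem p_compat {i j : D.cov.I₀} (hij : i ⟶ j) :
    D.cov.trans hij ≫ (fun i => D.q i ≫ D.ι i) j = (fun i => D.q i ≫ D.ι i) i := by
  change U.homOfLE (leOfHom hij) ≫ D.q j ≫ D.ι j = D.q i ≫ D.ι i
  rw [← Category.assoc, ← q_trans, Category.assoc, trans_ι]

/-- the quotient map -/
noncomputable def p : U ⟶ D.Y :=
  D.cov.glueMorphismsOfLocallyDirected (fun i => D.q i ≫ D.ι i) (fun hij => D.p_compat hij)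

theorem ι_p (i : D.J) : (D.W i).ι ≫ D.p = D.q i ≫ D.ι i :=
  D.cov.map_glueMorphismsOfLocallyDirected (fun i => D.q i ≫ D.ι i) (fun hij => D.p_compat hij) i

theorem p_apply (i : D.J) (x : (D.W i : Scheme.{u})) :
    D.p.base ((D.W i).ι.base x) = (D.ι i).base ((D.q i).base x) := by
  rw [← Scheme.Hom.comp_apply, ← Scheme.Hom.comp_apply, ι_p]

theorem ι_jointly_surjective (y : D.Y) : ∃ (i : D.J) (x : D.M i), (D.ι i).base x = y :=
  Scheme.IsLocallyDirected.ι_jointly_surjective D.F y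

theorem ι_eq_ι_iff {i j : D.J} (xi : D.M i) (xj : D.M j) :
    (D.ι i).base xi = (D.ι j).base xj ↔ ∃ (k : D.J) (hki : D.W k ≤ D.W i) (hkj : D.W k ≤ D.W j)
      (x : D.M k), (D.trans hki).base x = xi ∧ (D.trans hkj).base x = xj := by
  constructor
  · intro h
    obtain ⟨k, fi, fj, x, h1, h2⟩ := (Scheme.IsLocallyDirected.ι_eq_ι_iff D.F).mp h
    exact ⟨k, leOfHom fi, leOfHom fj, x, h1, h2⟩
  · rintro ⟨k, hki, hkj, x, rfl, rfl⟩
    rw [← Scheme.Hom.comp_apply, ← Scheme.Hom.comp_apply, trans_ι, trans_ι]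

theorem p_surjective : Function.Surjective D.p.base := by
  intro y
  obtain ⟨i, x, rfl⟩ := D.ι_jointly_surjective y
  obtain ⟨u, rfl⟩ := D.surj i x
  exact ⟨_, D.p_apply i u⟩

/-- the preimage of a chart is the corresponding invariant open -/
theorem p_preimage (i : D.J) : D.p ⁻¹ᵁ (D.ι i).opensRange = D.W i := by
  ext u
  constructor
  · rintro ⟨x, hx⟩
    obtain ⟨k, hk⟩ := D.cover u
    have h1 : (D.ι k).base ((D.q k).base ⟨u, hk⟩) = (D.ι i).base x := by
      rw [← p_apply]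
      exact hx.symm
    obtain ⟨l, hlk, hli, y, h2, h3⟩ := (D.ι_eq_ι_iff _ _).mp h1
    obtain ⟨u', rfl⟩ := D.surj l y
    rw [q_apply_trans] at h2
    obtain ⟨r, hr1, hr2⟩ := (D.fib k _ _).mp h2
    have e1 : (D.W k).ι.base ((U.homOfLE hlk).base u') = (D.W l).ι.base u' := by
      rw [← Scheme.Hom.comp_apply, Scheme.homOfLE_ι]
    rw [e1] at hr1
    have hr2' : s.base r = u := hr2
    have h4 : u ∈ D.W l := by
      rw [← hr2', ← D.t_mem_iff l r, hr1]
      exact ι_mem _ u'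
    exact hli h4
  · intro hu
    exact ⟨(D.q i).base ⟨u, hu⟩, (D.p_apply i ⟨u, hu⟩).symm⟩

theorem isPullback_chart (i : D.J) : IsPullback (D.q i) (D.W i).ι (D.ι i) D.p :=
  IsOpenImmersion.isPullback (D.q i) (D.W i).ι (D.ι i) D.p (D.ι_p i) (by
    rw [p_preimage, Scheme.Opens.opensRange_ι])

theorem isInvHom_ι_comp (W : U.Opens) {Z : Scheme.{u}} (f : U ⟶ Z) (hf : t ≫ f = s ≫ f) :
    IsInvHom s t W (W.ι ≫ f) := by
  intro T r a b ha hb
  rw [← Category.assoc, ← Category.assoc, ha, hb, Category.assoc, Category.assoc, hf]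

theorem t_p : t ≫ D.p = s ≫ D.p := by
  have hcov : IsOpenCover (fun i => s ⁻¹ᵁ D.W i) := by
    apply top_le_iff.mp
    intro x _
    obtain ⟨i, hi⟩ := D.cover (s.base x)
    exact Opens.mem_iSup.mpr ⟨i, hi⟩
  apply (R.openCoverOfIsOpenCover _ hcov).hom_ext
  intro i
  change (s ⁻¹ᵁ D.W i).ι ≫ t ≫ D.p = (s ⁻¹ᵁ D.W i).ι ≫ s ≫ D.p
  have e1 : (s ⁻¹ᵁ D.W i).ι ≫ t = t.resLE (D.W i) (s ⁻¹ᵁ D.W i) (le_of_eq (D.inv i)) ≫ (D.W i).ι :=
    (Scheme.Hom.resLE_comp_ι _ _).symm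
  have e2 : (s ⁻¹ᵁ D.W i).ι ≫ s = (s ∣_ D.W i) ≫ (D.W i).ι := (morphismRestrict_ι _ _).symm
  rw [← Category.assoc, ← Category.assoc, e1, e2, Category.assoc, Category.assoc, ι_p,
    ← Category.assoc, ← Category.assoc]
  congr 1
  exact (D.coeq i).inv (s ⁻¹ᵁ D.W i).ι _ _ e1.symm e2.symm

theorem exists_desc {Z : Scheme.{u}} (f : U ⟶ Z) (hf : t ≫ f = s ≫ f) :
    ∃ g : D.Y ⟶ Z, D.p ≫ g = f := by
  have h1 : ∀ i, ∃ g : D.M i ⟶ Z, D.q i ≫ g = (D.W i).ι ≫ f := fun i =>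
    (D.coeq i).desc _ (isInvHom_ι_comp _ f hf)
  choose g hg using h1
  have hnat : ∀ {i j : D.J} (h : D.W i ≤ D.W j), D.trans h ≫ g j = g i := by
    intro i j h
    apply (D.coeq i).hom_ext
    rw [← Category.assoc, q_trans, Category.assoc, hg, hg, ← Category.assoc, Scheme.homOfLE_ι]
  have hnat' : ∀ (i j : D.J) (f : i ⟶ j), D.F.map f ≫ g j = g i ≫ ((Functor.const D.J).obj Z).map f := by
    intro i j f
    change D.trans (leOfHom f) ≫ g j = g i ≫ 𝟙 Z
    rw [hnat, Category.comp_id]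
  let c : Cocone D.F := { pt := Z, ι := { app := g, naturality := hnat' } }
  refine ⟨colimit.desc D.F c, ?_⟩
  apply D.cov.hom_ext
  intro i
  change (D.W i).ι ≫ D.p ≫ colimit.desc D.F c = (D.W i).ι ≫ f
  rw [← Category.assoc, ι_p, Category.assoc]
  have : D.ι i ≫ colimit.desc D.F c = g i := colimit.ι_desc c i
  rw [this, hg]

theorem p_hom_ext {Z : Scheme.{u}} (g g' : D.Y ⟶ Z) (h : D.p ≫ g = D.p ≫ g') : g = g' := by
  apply colimit.hom_ext
  intro i
  change D.ι i ≫ g = D.ι i ≫ g'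
  apply (D.coeq i).hom_ext
  rw [← Category.assoc, ← Category.assoc, ← ι_p, Category.assoc, Category.assoc, h]

/-- the glued quotient is a coequalizer in the category of schemes -/
noncomputable def isColimit : IsColimit (Cofork.ofπ D.p D.t_p) :=
  Cofork.IsColimit.mk' _ (fun c => ⟨(D.exists_desc c.π c.condition).choose,
    (D.exists_desc c.π c.condition).choose_spec, fun {m} hm => by
      apply D.p_hom_ext
      rw [(D.exists_desc c.π c.condition).choose_spec]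
      exact hm⟩)

/-- properties local on the target pass from the charts to the glued quotient map -/
theorem of_charts (P : MorphismProperty Scheme.{u}) [IsZariskiLocalAtTarget P]
    (hq : ∀ i, P (D.q i)) : P D.p := by
  apply IsZariskiLocalAtTarget.of_openCover (Scheme.IsLocallyDirected.openCover D.F)
  intro i
  have h := (D.isPullback_chart i).flip
  change P (pullback.snd D.p (D.ι i))
  rw [← P.cancel_left_of_respectsIso h.isoPullback.hom, h.isoPullback_hom_snd]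
  exact hq i

theorem p_eq_iff (x y : U) :
    D.p.base x = D.p.base y ↔ ∃ r : R, t.base r = x ∧ s.base r = y := by
  constructor
  · intro h
    obtain ⟨i, hi⟩ := D.cover x
    have hy : y ∈ D.W i := by
      rw [← D.p_preimage i]
      change D.p.base y ∈ (D.ι i).opensRange
      rw [← h]
      exact ⟨_, (D.p_apply i ⟨x, hi⟩).symm⟩
    have h1 : (D.ι i).base ((D.q i).base ⟨x, hi⟩) = (D.ι i).base ((D.q i).base ⟨y, hy⟩) := by
      rw [← p_apply, ← p_apply]
      exact h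
    exact (D.fib i _ _).mp ((D.ι i).isOpenEmbedding.injective h1)
  · rintro ⟨r, rfl, rfl⟩
    rw [← Scheme.Hom.comp_apply, ← Scheme.Hom.comp_apply, t_p]

/-- if one of the invariant opens is everything, the glued quotient is that chart -/
theorem isIso_ι_of_eq_top (i : D.J) (hi : D.W i = ⊤) : IsIso (D.ι i) := by
  haveI : Epi (D.ι i).base := by
    rw [TopCat.epi_iff_surjective]
    intro y
    obtain ⟨u, rfl⟩ := D.p_surjective y
    have hu : u ∈ D.W i := by rw [hi]; trivial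
    exact ⟨_, (D.p_apply i ⟨u, hu⟩).symm⟩
  exact IsOpenImmersion.isIso (D.ι i)

theorem exists_arrow
    (hcart : ∀ i ⦃T : Scheme.{u}⦄ (a b : T ⟶ (D.W i : Scheme.{u})), a ≫ D.q i = b ≫ D.q i →
      ∃ r : T ⟶ R, r ≫ t = a ≫ (D.W i).ι ∧ r ≫ s = b ≫ (D.W i).ι)
    (hmono : ∀ ⦃T : Scheme.{u}⦄ (r r' : T ⟶ R), r ≫ t = r' ≫ t → r ≫ s = r' ≫ s → r = r')
    {T : Scheme.{u}} (a b : T ⟶ U) (h : a ≫ D.p = b ≫ D.p) :
    ∃ r : T ⟶ R, r ≫ t = a ∧ r ≫ s = b := by
  have hab : ∀ i, a ⁻¹ᵁ D.W i = b ⁻¹ᵁ D.W i := by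
    intro i
    rw [← D.p_preimage i, ← Scheme.Hom.comp_preimage, ← Scheme.Hom.comp_preimage, h]
  have hcov : IsOpenCover (fun i => a ⁻¹ᵁ D.W i) := by
    apply top_le_iff.mp
    intro x _
    obtain ⟨i, hi⟩ := D.cover (a.base x)
    exact Opens.mem_iSup.mpr ⟨i, hi⟩
  have h1 : ∀ i, ∃ r : (a ⁻¹ᵁ D.W i : Scheme.{u}) ⟶ R,
      r ≫ t = (a ⁻¹ᵁ D.W i).ι ≫ a ∧ r ≫ s = (a ⁻¹ᵁ D.W i).ι ≫ b := by
    intro i
    have ea : a.resLE (D.W i) (a ⁻¹ᵁ D.W i) le_rfl ≫ (D.W i).ι = (a ⁻¹ᵁ D.W i).ι ≫ a :=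
      Scheme.Hom.resLE_comp_ι _ _
    have eb : b.resLE (D.W i) (a ⁻¹ᵁ D.W i) (le_of_eq (hab i)) ≫ (D.W i).ι =
        (a ⁻¹ᵁ D.W i).ι ≫ b := Scheme.Hom.resLE_comp_ι _ _
    obtain ⟨r, hr1, hr2⟩ := hcart i (a.resLE (D.W i) (a ⁻¹ᵁ D.W i) le_rfl)
      (b.resLE (D.W i) (a ⁻¹ᵁ D.W i) (le_of_eq (hab i))) (by
        rw [← cancel_mono (D.ι i), Category.assoc, Category.assoc, ← ι_p, ← Category.assoc,
          ← Category.assoc, ea, eb, Category.assoc, Category.assoc, h])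
    exact ⟨r, hr1.trans ea, hr2.trans eb⟩
  choose r hr1 hr2 using h1
  let 𝒱 := T.openCoverOfIsOpenCover _ hcov
  have hcompat : ∀ i j : D.J, pullback.fst (a ⁻¹ᵁ D.W i).ι (a ⁻¹ᵁ D.W j).ι ≫ r i =
      pullback.snd (a ⁻¹ᵁ D.W i).ι (a ⁻¹ᵁ D.W j).ι ≫ r j := by
    intro i j
    apply hmono
    · rw [Category.assoc, Category.assoc, hr1, hr1, ← Category.assoc, ← Category.assoc]
      congr 1
      exact pullback.condition
    · rw [Category.assoc, Category.assoc, hr2, hr2, ← Category.assoc, ← Category.assoc]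
      congr 1
      exact pullback.condition
  refine ⟨𝒱.glueMorphisms r hcompat, ?_, ?_⟩
  · apply 𝒱.hom_ext
    intro i
    rw [← Category.assoc, 𝒱.ι_glueMorphisms]
    exact hr1 i
  · apply 𝒱.hom_ext
    intro i
    rw [← Category.assoc, 𝒱.ι_glueMorphisms]
    exact hr2 i

/-- the cartesian property glues -/
theorem isPullback_of_charts
    (hcart : ∀ i ⦃T : Scheme.{u}⦄ (a b : T ⟶ (D.W i : Scheme.{u})), a ≫ D.q i = b ≫ D.q i →
      ∃ r : T ⟶ R, r ≫ t = a ≫ (D.W i).ι ∧ r ≫ s = b ≫ (D.W i).ι)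
    (hmono : ∀ ⦃T : Scheme.{u}⦄ (r r' : T ⟶ R), r ≫ t = r' ≫ t → r ≫ s = r' ≫ s → r = r') :
    IsPullback t s D.p D.p := by
  refine ⟨⟨D.t_p⟩, ⟨PullbackCone.IsLimit.mk _
    (fun c => (D.exists_arrow hcart hmono c.fst c.snd c.condition).choose)
    (fun c => (D.exists_arrow hcart hmono c.fst c.snd c.condition).choose_spec.1)
    (fun c => (D.exists_arrow hcart hmono c.fst c.snd c.condition).choose_spec.2) ?_⟩⟩
  intro c m hm1 hm2
  apply hmono
  · rw [hm1]; exact ((D.exists_arrow hcart hmono c.fst c.snd c.condition).choose_spec.1).symm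
  · rw [hm2]; exact ((D.exists_arrow hcart hmono c.fst c.snd c.condition).choose_spec.2).symm

end QuotAtlas


section LocQ
variable {U R : Scheme.{u}} (s t : R ⟶ U)

/-- a local quotient on an invariant affine open, universal on its saturated opens -/
structure LocQ (W : U.Opens) where
  M : Scheme.{u}
  q : (W : Scheme.{u}) ⟶ M
  aff : IsAffine M
  affHom : IsAffineHom q
  surj : Function.Surjective q.base
  isOpenMap : IsOpenMap q.base
  fib : ∀ (x y : (W : Scheme.{u})), q.base x = q.base y ↔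
      ∃ r : R, t.base r = W.ι.base x ∧ s.base r = W.ι.base y
  coeqV : ∀ (V : M.Opens) (W' : U.Opens) (hle : W' ≤ W) (_ : W.ι ''ᵁ (q ⁻¹ᵁ V) = W')
    (qV : (W' : Scheme.{u}) ⟶ V), qV ≫ V.ι = U.homOfLE hle ≫ q → IsCoeqOn s t W' qV

/-- invariant affine opens -/
structure InvAff where
  W : U.Opens
  aff : IsAffineOpen W
  inv : s ⁻¹ᵁ W = t ⁻¹ᵁ W

variable {s t}

theorem mem_iff_of_inv {W : U.Opens} (hW : s ⁻¹ᵁ W = t ⁻¹ᵁ W) (r : R) :
    t.base r ∈ W ↔ s.base r ∈ W := by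
  constructor
  · intro h1
    have : r ∈ s ⁻¹ᵁ W := by rw [hW]; exact h1
    exact this
  · intro h1
    have : r ∈ t ⁻¹ᵁ W := by rw [← hW]; exact h1
    exact this

namespace LocQ
variable {W : U.Opens} (L : LocQ s t W)

/-- the saturated open of `U` attached to an open of the local quotient -/
noncomputable def sat (V : L.M.Opens) : U.Opens := W.ι ''ᵁ (L.q ⁻¹ᵁ V)

theorem mem_sat (V : L.M.Opens) (x : U) :
    x ∈ L.sat V ↔ ∃ h : x ∈ W, L.q.base ⟨x, h⟩ ∈ V := by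
  constructor
  · rintro ⟨y, hy, rfl⟩
    exact ⟨y.2, hy⟩
  · rintro ⟨h, hx⟩
    exact ⟨⟨x, h⟩, hx, rfl⟩

theorem sat_le (V : L.M.Opens) : L.sat V ≤ W := fun x hx => ((L.mem_sat V x).mp hx).1

theorem sat_inv (hW : s ⁻¹ᵁ W = t ⁻¹ᵁ W) (V : L.M.Opens) :
    s ⁻¹ᵁ (L.sat V) = t ⁻¹ᵁ (L.sat V) := by
  ext r
  change s.base r ∈ L.sat V ↔ t.base r ∈ L.sat V
  rw [mem_sat, mem_sat]
  constructor
  · rintro ⟨h, hx⟩
    have ht : t.base r ∈ W := (mem_iff_of_inv hW r).mpr h
    refine ⟨ht, ?_⟩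
    have : L.q.base ⟨t.base r, ht⟩ = L.q.base ⟨s.base r, h⟩ := (L.fib _ _).mpr ⟨r, rfl, rfl⟩
    rw [this]
    exact hx
  · rintro ⟨h, hx⟩
    have hs : s.base r ∈ W := (mem_iff_of_inv hW r).mp h
    refine ⟨hs, ?_⟩
    have : L.q.base ⟨t.base r, h⟩ = L.q.base ⟨s.base r, hs⟩ := (L.fib _ _).mpr ⟨r, rfl, rfl⟩
    rw [← this]
    exact hx

theorem sat_aff (hWa : IsAffineOpen W) (V : L.M.Opens) (hV : IsAffineOpen V) :
    IsAffineOpen (L.sat V) := by
  haveI := L.affHom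
  exact (hV.preimage L.q).image_of_isOpenImmersion W.ι

/-- the image of an open of `W` -/
noncomputable def img (W' : U.Opens) : L.M.Opens :=
  ⟨L.q.base '' (W.ι ⁻¹ᵁ W' : Set (W : Scheme.{u})), L.isOpenMap _ (W.ι ⁻¹ᵁ W').2⟩

theorem mem_img (W' : U.Opens) (m : L.M) :
    m ∈ L.img W' ↔ ∃ (x : U) (h : x ∈ W), x ∈ W' ∧ L.q.base ⟨x, h⟩ = m := by
  constructor
  · rintro ⟨y, hy, rfl⟩
    exact ⟨y.1, y.2, hy, rfl⟩
  · rintro ⟨x, h, hx, rfl⟩
    exact ⟨⟨x, h⟩, hx, rfl⟩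

/-- saturation of the image of an invariant open gives it back -/
theorem sat_img (W' : U.Opens) (hle : W' ≤ W) (hW' : s ⁻¹ᵁ W' = t ⁻¹ᵁ W') :
    L.sat (L.img W') = W' := by
  ext x
  change x ∈ L.sat (L.img W') ↔ x ∈ W'
  rw [mem_sat]
  constructor
  · rintro ⟨h, hx⟩
    obtain ⟨y, hy, hy', e⟩ := (L.mem_img W' _).mp hx
    obtain ⟨r, hr1, hr2⟩ := (L.fib _ _).mp e
    have hr1' : t.base r = y := hr1
    have hr2' : s.base r = x := hr2
    rw [← hr2', ← mem_iff_of_inv hW' r, hr1']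
    exact hy'
  · intro hx
    exact ⟨hle hx, (L.mem_img W' _).mpr ⟨x, hle hx, hx, rfl⟩⟩

/-- the local quotient is a categorical quotient -/
theorem coeq : IsCoeqOn s t W L.q := by
  have h1 : W.ι ''ᵁ (L.q ⁻¹ᵁ (⊤ : L.M.Opens)) = W := by
    rw [Scheme.Hom.preimage_top, Scheme.Hom.image_top_eq_opensRange, Scheme.Opens.opensRange_ι]
  have h2 := L.coeqV ⊤ W le_rfl h1 (L.q ≫ (Scheme.topIso L.M).inv) (by
    rw [Category.assoc, ← Scheme.topIso_hom, Iso.inv_hom_id, Scheme.homOfLE_rfl,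
      Category.id_comp, Category.comp_id])
  have h3 := h2.comp_iso (Scheme.topIso L.M)
  rwa [Category.assoc, Iso.inv_hom_id, Category.comp_id] at h3

/-- transition maps between local quotients are open immersions -/
theorem openImm {W' : U.Opens} (L' : LocQ s t W') (hle : W' ≤ W) (hW' : s ⁻¹ᵁ W' = t ⁻¹ᵁ W')
    (g : L'.M ⟶ L.M) (hg : L'.q ≫ g = U.homOfLE hle ≫ L.q) : IsOpenImmersion g := by
  have hrange : Set.range (U.homOfLE hle ≫ L.q).base ⊆ Set.range (L.img W').ι.base := by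
    rintro _ ⟨x, rfl⟩
    rw [Scheme.Opens.range_ι]
    refine (L.mem_img W' _).mpr ⟨x.1, hle x.2, x.2, ?_⟩
    rw [Scheme.Hom.comp_apply]
    congr 1
    exact (Scheme.homOfLE_apply' hle x.1 x.2).symm
  have h1 := L.coeqV (L.img W') W' hle (L.sat_img W' hle hW')
    (IsOpenImmersion.lift (L.img W').ι (U.homOfLE hle ≫ L.q) hrange)
    (IsOpenImmersion.lift_fac _ _ _)
  obtain ⟨e, he⟩ := L'.coeq.exists_iso h1
  have h2 : g = e.hom ≫ (L.img W').ι := by
    apply L'.coeq.hom_ext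
    rw [hg, ← Category.assoc, he, IsOpenImmersion.lift_fac]
  rw [h2]
  infer_instance

end LocQ

section Atlas
variable (L : ∀ j : InvAff s t, LocQ s t j.W) (hcov : ∀ x : U, ∃ j : InvAff s t, x ∈ j.W)

include L in
theorem directed (i j : InvAff s t) (x : U) (hi : x ∈ i.W) (hj : x ∈ j.W) :
    ∃ k : InvAff s t, k.W ≤ i.W ∧ k.W ≤ j.W ∧ x ∈ k.W := by
  have hm : (L i).q.base ⟨x, hi⟩ ∈ (L i).img j.W :=
    ((L i).mem_img j.W _).mpr ⟨x, hi, hj, rfl⟩
  obtain ⟨D, hDaff, hmD, hDV⟩ := Opens.isBasis_iff_nbhd.mp (L i).M.isBasis_affineOpens hm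
  refine ⟨⟨(L i).sat D, (L i).sat_aff i.aff D hDaff, (L i).sat_inv i.inv D⟩, (L i).sat_le D, ?_,
    ((L i).mem_sat D x).mpr ⟨hi, hmD⟩⟩
  intro y hy
  obtain ⟨hyi, hyD⟩ := ((L i).mem_sat D y).mp hy
  obtain ⟨z, hzi, hzj, e⟩ := ((L i).mem_img j.W _).mp (hDV hyD)
  obtain ⟨r, hr1, hr2⟩ := ((L i).fib _ _).mp e
  have hr1' : t.base r = z := hr1
  have hr2' : s.base r = y := hr2
  change y ∈ j.W
  rw [← hr2', ← mem_iff_of_inv j.inv r, hr1']
  exact hzj

/-- the atlas of local quotients on all invariant affine opens -/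
noncomputable def atlas : QuotAtlas s t where
  J := InvAff s t
  W := fun j => j.W
  cover := hcov
  inv := fun j => j.inv
  directed := directed L
  M := fun j => (L j).M
  q := fun j => (L j).q
  coeq := fun j => (L j).coeq
  surj := fun j => (L j).surj
  fib := fun j => (L j).fib
  openImm := fun i j h g hg => (L j).openImm (L i) h i.inv g hg

end Atlas

section FlatCase
variable {W : U.Opens} {M : Scheme.{u}} (q : (W : Scheme.{u}) ⟶ M)

/-- a flat surjective quasi-compact invariant morphism whose kernel pair is given by the arrows is a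
categorical quotient -/
theorem isCoeqOn_of_flat [Flat q] [Surjective q] [QuasiCompact q] (hinv : IsInvHom s t W q)
    (hcart : ∀ ⦃T : Scheme.{u}⦄ (a b : T ⟶ (W : Scheme.{u})), a ≫ q = b ≫ q →
      ∃ r : T ⟶ R, r ≫ t = a ≫ W.ι ∧ r ≫ s = b ≫ W.ι) : IsCoeqOn s t W q where
  inv := hinv
  desc := fun Z f hf => ⟨EffectiveEpi.desc q f (fun g₁ g₂ h => by
    obtain ⟨r, hr1, hr2⟩ := hcart g₁ g₂ h
    exact hf r g₁ g₂ hr1.symm hr2.symm), EffectiveEpi.fac _ _ _⟩
  hom_ext := fun Z g g' h => by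
    haveI : Epi q := Flat.epi_of_flat_of_surjective q
    exact (cancel_epi q).mp h

theorem fib_of_cart (hinv : IsInvHom s t W q)
    (hcart : ∀ ⦃T : Scheme.{u}⦄ (a b : T ⟶ (W : Scheme.{u})), a ≫ q = b ≫ q →
      ∃ r : T ⟶ R, r ≫ t = a ≫ W.ι ∧ r ≫ s = b ≫ W.ι) (x y : (W : Scheme.{u})) :
    q.base x = q.base y ↔ ∃ r : R, t.base r = W.ι.base x ∧ s.base r = W.ι.base y := by
  constructor
  · intro h
    obtain ⟨z, hz1, hz2⟩ := Scheme.Pullback.exists_preimage_pullback (f := q) (g := q) x y h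
    obtain ⟨r, hr1, hr2⟩ := hcart (pullback.fst q q) (pullback.snd q q) pullback.condition
    refine ⟨r.base z, ?_, ?_⟩
    · rw [← Scheme.Hom.comp_apply, hr1, Scheme.Hom.comp_apply, hz1]
    · rw [← Scheme.Hom.comp_apply, hr2, Scheme.Hom.comp_apply, hz2]
  · rintro ⟨r, hr1, hr2⟩
    have hpt : ∀ z, (R.fromSpecResidueField r).base z = r := by
      intro z
      have := Scheme.range_fromSpecResidueField r
      have hz : (R.fromSpecResidueField r).base z ∈ Set.range (R.fromSpecResidueField r).base :=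
        ⟨z, rfl⟩
      rw [this] at hz
      exact hz
    have hrt : Set.range (R.fromSpecResidueField r ≫ t).base ⊆ Set.range W.ι.base := by
      rintro _ ⟨z, rfl⟩
      rw [Scheme.Opens.range_ι, Scheme.Hom.comp_apply, hpt, hr1]
      exact x.2
    have hrs : Set.range (R.fromSpecResidueField r ≫ s).base ⊆ Set.range W.ι.base := by
      rintro _ ⟨z, rfl⟩
      rw [Scheme.Opens.range_ι, Scheme.Hom.comp_apply, hpt, hr2]
      exact y.2
    have h1 := hinv (R.fromSpecResidueField r) (IsOpenImmersion.lift W.ι _ hrt)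
      (IsOpenImmersion.lift W.ι _ hrs) (IsOpenImmersion.lift_fac _ _ _)
      (IsOpenImmersion.lift_fac _ _ _)
    obtain ⟨z₀⟩ : Nonempty (Spec (R.residueField r)) := inferInstance
    have ex : (IsOpenImmersion.lift W.ι _ hrt).base z₀ = x := by
      apply W.ι.isOpenEmbedding.injective
      rw [← Scheme.Hom.comp_apply, IsOpenImmersion.lift_fac, Scheme.Hom.comp_apply, hpt, hr1]
    have ey : (IsOpenImmersion.lift W.ι _ hrs).base z₀ = y := by
      apply W.ι.isOpenEmbedding.injective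
      rw [← Scheme.Hom.comp_apply, IsOpenImmersion.lift_fac, Scheme.Hom.comp_apply, hpt, hr2]
    rw [← ex, ← ey, ← Scheme.Hom.comp_apply, ← Scheme.Hom.comp_apply, h1]

/-- local quotient data in the flat case -/
noncomputable def LocQ.ofFlat [IsAffine M] [IsAffineHom q] [Flat q] [Surjective q]
    [LocallyOfFinitePresentation q] (hinv : IsInvHom s t W q)
    (hcart : ∀ ⦃T : Scheme.{u}⦄ (a b : T ⟶ (W : Scheme.{u})), a ≫ q = b ≫ q →
      ∃ r : T ⟶ R, r ≫ t = a ≫ W.ι ∧ r ≫ s = b ≫ W.ι) : LocQ s t W where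
  M := M
  q := q
  aff := inferInstance
  affHom := inferInstance
  surj := q.surjective
  isOpenMap := q.isOpenMap
  fib := fib_of_cart q hinv hcart
  coeqV := fun V W' hle hV qV hqV => by
    have hpb : IsPullback qV (U.homOfLE hle) V.ι q :=
      IsOpenImmersion.isPullback qV (U.homOfLE hle) V.ι q hqV.symm (by
        rw [Scheme.Opens.opensRange_ι, Scheme.opensRange_homOfLE, ← hV,
          Scheme.Hom.preimage_image_eq])
    haveI : Flat qV := MorphismProperty.of_isPullback hpb.flip inferInstance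
    haveI : Surjective qV := MorphismProperty.of_isPullback hpb.flip inferInstance
    haveI : QuasiCompact qV := MorphismProperty.of_isPullback hpb.flip inferInstance
    refine isCoeqOn_of_flat qV ?_ ?_
    · intro T r a b ha hb
      rw [← cancel_mono V.ι, Category.assoc, Category.assoc, hqV]
      exact hinv.of_le hle r a b ha hb
    · intro T a b hab
      obtain ⟨r, hr1, hr2⟩ := hcart (a ≫ U.homOfLE hle) (b ≫ U.homOfLE hle) (by
        rw [Category.assoc, Category.assoc, ← hqV, ← Category.assoc, ← Category.assoc, hab])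
      refine ⟨r, ?_, ?_⟩
      · rw [hr1, Category.assoc, Scheme.homOfLE_ι]
      · rw [hr2, Category.assoc, Scheme.homOfLE_ι]

end FlatCase

end LocQ

end Groth.Agent.Lib.Helper4.GrpdGlue1
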