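import Mathlib
import Groth.Prelude.Def_Grpd

/-!
# Groupoid schemes: inverse is an involution; restriction of a groupoid scheme to an invariant open (helper4)
-/

set_option backward.isDefEq.respectTransparency.types false
set_option synthInstance.maxHeartbeats 400000
set_option autoImplicit false
set_option linter.unusedSectionVars false
set_option linter.style.haveILetI false
set_option linter.unusedSimpArgs false
universe u v w
open CategoryTheory CategoryTheory.Limits AlgebraicGeometry TopologicalSpace Opposite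

namespace Groth.Agent.Lib.Helper4.GrpdRes1

variable {S : Scheme.{u}} (G : Grpd.GroupoidScheme S)

/-- composition of two `T`-valued arrows -/
noncomputable def comp {T : Scheme.{u}} (α β : T ⟶ G.R) (h : α ≫ G.s = β ≫ G.t) : T ⟶ G.R :=
  pullback.lift α β h ≫ G.c

theorem comp_congr {T : Scheme.{u}} {α α' β β' : T ⟶ G.R} (hα : α = α') (hβ : β = β')
    (h : α ≫ G.s = β ≫ G.t) (h' : α' ≫ G.s = β' ≫ G.t) : comp G α β h = comp G α' β' h' := by
  subst hα hβ
  rfl

theorem comp_s {T : Scheme.{u}} (α β : T ⟶ G.R) (h : α ≫ G.s = β ≫ G.t) :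
    comp G α β h ≫ G.s = β ≫ G.s := G.comp_s α β h

theorem comp_t {T : Scheme.{u}} (α β : T ⟶ G.R) (h : α ≫ G.s = β ≫ G.t) :
    comp G α β h ≫ G.t = α ≫ G.t := G.comp_t α β h

theorem comp_e' {T : Scheme.{u}} (α β : T ⟶ G.R) (hβ : β = α ≫ G.s ≫ G.e)
    (h : α ≫ G.s = β ≫ G.t) : comp G α β h = α := by
  subst hβ
  exact G.comp_e α

theorem e_comp' {T : Scheme.{u}} (α β : T ⟶ G.R) (hα : α = β ≫ G.t ≫ G.e)
    (h : α ≫ G.s = β ≫ G.t) : comp G α β h = β := by
  subst hα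
  exact G.e_comp β

theorem comp_i' {T : Scheme.{u}} (α β : T ⟶ G.R) (hβ : β = α ≫ G.i)
    (h : α ≫ G.s = β ≫ G.t) : comp G α β h = α ≫ G.t ≫ G.e := by
  subst hβ
  exact G.comp_i α

theorem i_comp' {T : Scheme.{u}} (α β : T ⟶ G.R) (hα : α = β ≫ G.i)
    (h : α ≫ G.s = β ≫ G.t) : comp G α β h = β ≫ G.s ≫ G.e := by
  subst hα
  exact G.i_comp β

theorem assoc' {T : Scheme.{u}} (α β γ : T ⟶ G.R) (h₁ : α ≫ G.s = β ≫ G.t)
    (h₂ : β ≫ G.s = γ ≫ G.t) (h₃ : comp G α β h₁ ≫ G.s = γ ≫ G.t)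
    (h₄ : α ≫ G.s = comp G β γ h₂ ≫ G.t) :
    comp G (comp G α β h₁) γ h₃ = comp G α (comp G β γ h₂) h₄ :=
  G.assoc α β γ h₁ h₂

theorem i_i : G.i ≫ G.i = 𝟙 G.R := by
  have h₁ : (𝟙 G.R) ≫ G.s = G.i ≫ G.t := by rw [Category.id_comp, G.i_t]
  have h₂ : G.i ≫ G.s = (G.i ≫ G.i) ≫ G.t := by rw [Category.assoc, G.i_t]
  have h₃ : comp G (𝟙 G.R) G.i h₁ ≫ G.s = (G.i ≫ G.i) ≫ G.t := (comp_s G _ _ h₁).trans h₂
  have h₄ : (𝟙 G.R) ≫ G.s = comp G G.i (G.i ≫ G.i) h₂ ≫ G.t := h₁.trans (comp_t G _ _ h₂).symm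
  have hassoc := assoc' G (𝟙 G.R) G.i (G.i ≫ G.i) h₁ h₂ h₃ h₄
  have e1 : comp G (𝟙 G.R) G.i h₁ = (G.i ≫ G.i) ≫ G.t ≫ G.e := by
    rw [comp_i' G (𝟙 G.R) G.i (Category.id_comp _).symm, Category.id_comp, Category.assoc,
      ← Category.assoc G.i G.t, G.i_t, ← Category.assoc, G.i_s]
  have e2 : comp G G.i (G.i ≫ G.i) h₂ = (𝟙 G.R) ≫ G.s ≫ G.e := by
    rw [comp_i' G G.i (G.i ≫ G.i) rfl, ← Category.assoc, G.i_t, Category.id_comp]
  rw [e_comp' G _ _ e1, comp_e' G _ _ e2] at hassoc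
  exact hassoc

instance : IsIso G.i := ⟨G.i, i_i G, i_i G⟩

theorem t_eq : G.t = G.i ≫ G.s := G.i_s.symm


theorem c_t' : G.c ≫ G.t = pullback.fst G.s G.t ≫ G.t := by
  have := G.comp_t (pullback.fst G.s G.t) (pullback.snd G.s G.t) pullback.condition
  have h1 : pullback.lift (pullback.fst G.s G.t) (pullback.snd G.s G.t) pullback.condition =
      𝟙 _ := by apply pullback.hom_ext <;> simp
  rwa [h1, Category.id_comp] at this

theorem c_s' : G.c ≫ G.s = pullback.snd G.s G.t ≫ G.s := by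
  have := G.comp_s (pullback.fst G.s G.t) (pullback.snd G.s G.t) pullback.condition
  have h1 : pullback.lift (pullback.fst G.s G.t) (pullback.snd G.s G.t) pullback.condition =
      𝟙 _ := by apply pullback.hom_ext <;> simp
  rwa [h1, Category.id_comp] at this

section Res
variable (W : G.U.Opens) (hW : G.s ⁻¹ᵁ W = G.t ⁻¹ᵁ W)

/-- the arrows over an invariant open -/
abbrev RW : G.R.Opens := G.s ⁻¹ᵁ W

noncomputable def sW : (RW G W : Scheme.{u}) ⟶ W := G.s.resLE W (RW G W) le_rfl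

noncomputable def tW : (RW G W : Scheme.{u}) ⟶ W := G.t.resLE W (RW G W) (le_of_eq hW)

theorem sW_ι : sW G W ≫ W.ι = (RW G W).ι ≫ G.s := Scheme.Hom.resLE_comp_ι _ _

theorem tW_ι : tW G W hW ≫ W.ι = (RW G W).ι ≫ G.t := Scheme.Hom.resLE_comp_ι _ _

noncomputable def eW : (W : Scheme.{u}) ⟶ RW G W := G.e.resLE (RW G W) W (by
  rw [← Scheme.Hom.comp_preimage, G.e_s, Scheme.Hom.id_preimage])

theorem eW_ι : eW G W ≫ (RW G W).ι = W.ι ≫ G.e := Scheme.Hom.resLE_comp_ι _ _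

include hW in
theorem iW_aux : RW G W ≤ G.i ⁻¹ᵁ RW G W := by
  rw [← Scheme.Hom.comp_preimage, G.i_s]
  exact le_of_eq hW

noncomputable def iW : (RW G W : Scheme.{u}) ⟶ RW G W :=
  G.i.resLE (RW G W) (RW G W) (iW_aux G W hW)

theorem iW_ι : iW G W hW ≫ (RW G W).ι = (RW G W).ι ≫ G.i := Scheme.Hom.resLE_comp_ι _ _

/-- the comparison of composable pairs -/
noncomputable def pairW : pullback (sW G W) (tW G W hW) ⟶ pullback G.s G.t :=
  pullback.map (sW G W) (tW G W hW) G.s G.t (RW G W).ι (RW G W).ι W.ι (sW_ι G W) (tW_ι G W hW)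

theorem cW_aux : Set.range (pairW G W hW ≫ G.c).base ⊆ Set.range (RW G W).ι.base := by
  rintro _ ⟨x, rfl⟩
  rw [Scheme.Opens.range_ι]
  change G.s.base ((pairW G W hW ≫ G.c).base x) ∈ W
  rw [← Scheme.Hom.comp_apply, Category.assoc, c_s', pairW, pullback.lift_snd_assoc,
    Category.assoc, ← sW_ι, Scheme.Hom.comp_apply, Scheme.Hom.comp_apply]
  exact (sW G W ((pullback.snd (sW G W) (tW G W hW)) x)).2

noncomputable def cW : pullback (sW G W) (tW G W hW) ⟶ RW G W :=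
  IsOpenImmersion.lift (RW G W).ι (pairW G W hW ≫ G.c) (cW_aux G W hW)

theorem cW_ι : cW G W hW ≫ (RW G W).ι = pairW G W hW ≫ G.c :=
  IsOpenImmersion.lift_fac _ _ _

theorem lift_pairW {T : Scheme.{u}} (α β : T ⟶ (RW G W : Scheme.{u}))
    (h : α ≫ sW G W = β ≫ tW G W hW) :
    pullback.lift α β h ≫ pairW G W hW = pullback.lift (α ≫ (RW G W).ι) (β ≫ (RW G W).ι)
      (by rw [Category.assoc, Category.assoc, ← sW_ι, ← tW_ι G W hW, ← Category.assoc,
        ← Category.assoc, h]) := by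
  apply pullback.hom_ext
  · rw [Category.assoc, pairW, pullback.lift_fst, pullback.lift_fst_assoc, pullback.lift_fst]
  · rw [Category.assoc, pairW, pullback.lift_snd, pullback.lift_snd_assoc, pullback.lift_snd]

theorem compW_ι {T : Scheme.{u}} (α β : T ⟶ (RW G W : Scheme.{u}))
    (h : α ≫ sW G W = β ≫ tW G W hW) :
    (pullback.lift α β h ≫ cW G W hW) ≫ (RW G W).ι = comp G (α ≫ (RW G W).ι) (β ≫ (RW G W).ι)
      (by rw [Category.assoc, Category.assoc, ← sW_ι, ← tW_ι G W hW, ← Category.assoc,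
        ← Category.assoc, h]) := by
  rw [Category.assoc, cW_ι, ← Category.assoc, lift_pairW]
  rfl

theorem eW_sW : eW G W ≫ sW G W = 𝟙 _ := by
  rw [← cancel_mono W.ι, Category.assoc, sW_ι, ← Category.assoc, eW_ι, Category.assoc, G.e_s,
    Category.comp_id, Category.id_comp]

theorem eW_tW : eW G W ≫ tW G W hW = 𝟙 _ := by
  rw [← cancel_mono W.ι, Category.assoc, tW_ι, ← Category.assoc, eW_ι, Category.assoc, G.e_t,
    Category.comp_id, Category.id_comp]

theorem iW_sW : iW G W hW ≫ sW G W = tW G W hW := by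
  rw [← cancel_mono W.ι, Category.assoc, sW_ι, ← Category.assoc, iW_ι, Category.assoc, G.i_s,
    tW_ι]

theorem iW_tW : iW G W hW ≫ tW G W hW = sW G W := by
  rw [← cancel_mono W.ι, Category.assoc, tW_ι, ← Category.assoc, iW_ι, Category.assoc, G.i_t,
    sW_ι]

theorem compW_s {T : Scheme.{u}} (α β : T ⟶ (RW G W : Scheme.{u}))
    (h : α ≫ sW G W = β ≫ tW G W hW) :
    (pullback.lift α β h ≫ cW G W hW) ≫ sW G W = β ≫ sW G W := by
  rw [← cancel_mono W.ι, Category.assoc, sW_ι, ← Category.assoc, compW_ι, comp_s,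
    Category.assoc, Category.assoc, sW_ι]

theorem compW_t {T : Scheme.{u}} (α β : T ⟶ (RW G W : Scheme.{u}))
    (h : α ≫ sW G W = β ≫ tW G W hW) :
    (pullback.lift α β h ≫ cW G W hW) ≫ tW G W hW = α ≫ tW G W hW := by
  rw [← cancel_mono W.ι, Category.assoc, tW_ι, ← Category.assoc, compW_ι, comp_t,
    Category.assoc, Category.assoc, tW_ι]

theorem ι_s_eq_ι_t {T : Scheme.{u}} (α β : T ⟶ (RW G W : Scheme.{u}))
    (h : α ≫ sW G W = β ≫ tW G W hW) : (α ≫ (RW G W).ι) ≫ G.s = (β ≫ (RW G W).ι) ≫ G.t := by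
  rw [Category.assoc, Category.assoc, ← sW_ι, ← tW_ι G W hW, ← Category.assoc,
    ← Category.assoc, h]

theorem assocW {T : Scheme.{u}} (α β γ : T ⟶ (RW G W : Scheme.{u}))
    (h₁ : α ≫ sW G W = β ≫ tW G W hW) (h₂ : β ≫ sW G W = γ ≫ tW G W hW)
    (h₃ : (pullback.lift α β h₁ ≫ cW G W hW) ≫ sW G W = γ ≫ tW G W hW)
    (h₄ : α ≫ sW G W = (pullback.lift β γ h₂ ≫ cW G W hW) ≫ tW G W hW) :
    pullback.lift (pullback.lift α β h₁ ≫ cW G W hW) γ h₃ ≫ cW G W hW =
      pullback.lift α (pullback.lift β γ h₂ ≫ cW G W hW) h₄ ≫ cW G W hW := by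
  have eL := compW_ι G W hW (pullback.lift α β h₁ ≫ cW G W hW) γ h₃
  have eR := compW_ι G W hW α (pullback.lift β γ h₂ ≫ cW G W hW) h₄
  have e1 := compW_ι G W hW α β h₁
  have e2 := compW_ι G W hW β γ h₂
  rw [← cancel_mono (RW G W).ι]
  refine eL.trans (Eq.trans ?_ eR.symm)
  have k₁ := ι_s_eq_ι_t G W hW α β h₁
  have k₂ := ι_s_eq_ι_t G W hW β γ h₂
  have k₃ : comp G (α ≫ (RW G W).ι) (β ≫ (RW G W).ι) k₁ ≫ G.s = (γ ≫ (RW G W).ι) ≫ G.t :=
    (comp_s G _ _ k₁).trans k₂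
  have k₄ : (α ≫ (RW G W).ι) ≫ G.s = comp G (β ≫ (RW G W).ι) (γ ≫ (RW G W).ι) k₂ ≫ G.t :=
    k₁.trans (comp_t G _ _ k₂).symm
  exact (comp_congr G e1 rfl _ k₃).trans ((assoc' G _ _ _ k₁ k₂ k₃ k₄).trans
    (comp_congr G rfl e2 _ k₄).symm)

/-- the restriction of a groupoid scheme to an invariant open -/
noncomputable def res : Grpd.GroupoidScheme S where
  U := W
  R := RW G W
  pU := W.ι ≫ G.pU
  pR := (RW G W).ι ≫ G.pR
  s := sW G W
  t := tW G W hW
  e := eW G W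
  i := iW G W hW
  c := cW G W hW
  s_over := by rw [← Category.assoc, sW_ι, Category.assoc, G.s_over]
  t_over := by rw [← Category.assoc, tW_ι, Category.assoc, G.t_over]
  comp_s := fun α β h => compW_s G W hW α β h
  comp_t := fun α β h => compW_t G W hW α β h
  assoc := fun α β γ h₁ h₂ => assocW G W hW α β γ h₁ h₂ _ _
  e_s := eW_sW G W
  e_t := eW_tW G W hW
  comp_e := fun α => by
    rw [← cancel_mono (RW G W).ι, compW_ι]
    apply comp_e'
    rw [Category.assoc, Category.assoc, eW_ι, Category.assoc, ← Category.assoc (sW G W),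
      sW_ι, Category.assoc]
  e_comp := fun α => by
    rw [← cancel_mono (RW G W).ι, compW_ι]
    apply e_comp'
    rw [Category.assoc, Category.assoc, eW_ι, Category.assoc, ← Category.assoc (tW G W hW),
      tW_ι, Category.assoc]
  i_s := iW_sW G W hW
  i_t := iW_tW G W hW
  comp_i := fun α => by
    rw [← cancel_mono (RW G W).ι, compW_ι]
    rw [comp_i' G _ _ (by rw [Category.assoc, iW_ι, Category.assoc])]
    simp only [Category.assoc]
    rw [eW_ι, ← Category.assoc (tW G W hW), tW_ι, Category.assoc]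
  i_comp := fun α => by
    rw [← cancel_mono (RW G W).ι, compW_ι]
    rw [i_comp' G _ _ (by rw [Category.assoc, iW_ι, Category.assoc])]
    simp only [Category.assoc]
    rw [eW_ι, ← Category.assoc (sW G W), sW_ι, Category.assoc]

end Res

end Groth.Agent.Lib.Helper4.GrpdRes1
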