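import Mathlib
import Groth.Prelude.Def_Grpd
import Groth.Prelude.Def_Mor2
import Groth.Agent.Lib.Helper4.GrpdGlue1
import Groth.Agent.Lib.Helper4.GrpdRes1
import Groth.Agent.Lib.Helper2.Grpd.FiniteFlatQuot
import Groth.Agent.Lib.Helper2.Grpd.Points
import Groth.Agent.Lib.Helper2.Grpd.InvOpen4

/-!
# Quotient of a scheme by a finite locally free equivalence relation with orbits in affine opens: global gluing (S4086) (helper4)
-/

set_option backward.isDefEq.respectTransparency.types false
set_option synthInstance.maxHeartbeats 400000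
set_option autoImplicit false
set_option linter.unusedSectionVars false
set_option linter.style.haveILetI false
set_option linter.unusedSimpArgs false
universe u v w
open CategoryTheory CategoryTheory.Limits AlgebraicGeometry TopologicalSpace Opposite
open Groth.Agent.Lib.Helper4.GrpdGlue1 Groth.Agent.Lib.Helper4.GrpdRes1

namespace Groth.Agent.Lib.Helper4.GrpdQuotMono1

variable {S : Scheme.{u}} (G : Grpd.GroupoidScheme S)

section Inst
variable [IsFinite G.s] [Flat G.s] [LocallyOfFinitePresentation G.s]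

theorem isFinite_t : IsFinite G.t := by rw [t_eq G]; infer_instance
theorem flat_t : Flat G.t := by rw [t_eq G]; infer_instance
theorem lofp_t : LocallyOfFinitePresentation G.t := by rw [t_eq G]; infer_instance

variable (W : G.U.Opens) (hW : G.s ⁻¹ᵁ W = G.t ⁻¹ᵁ W)

theorem res_s_eq : (res G W hW).s = G.s ∣_ W := by
  change sW G W = _
  unfold sW
  exact Scheme.Hom.resLE_eq_morphismRestrict G.s

instance isFinite_res_s : IsFinite (res G W hW).s := by
  rw [res_s_eq]
  exact IsZariskiLocalAtTarget.restrict (P := @IsFinite) inferInstance W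

instance flat_res_s : Flat (res G W hW).s := by
  rw [res_s_eq]
  exact IsZariskiLocalAtTarget.restrict (P := @Flat) inferInstance W

instance lofp_res_s : LocallyOfFinitePresentation (res G W hW).s := by
  rw [res_s_eq]
  exact IsZariskiLocalAtTarget.restrict (P := @LocallyOfFinitePresentation) inferInstance W

instance isFinite_res_t : IsFinite (res G W hW).t := isFinite_t _
instance flat_res_t : Flat (res G W hW).t := flat_t _
instance lofp_res_t : LocallyOfFinitePresentation (res G W hW).t := lofp_t _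

theorem isAffine_res_U (hWa : IsAffineOpen W) : IsAffine (res G W hW).U := hWa

theorem isAffine_res_R (hWa : IsAffineOpen W) : IsAffine (res G W hW).R :=
  hWa.preimage G.s

theorem res_mono_aux [Mono G.j] {T : Scheme.{u}} (a b : T ⟶ (RW G W : Scheme.{u}))
    (h1 : a ≫ tW G W hW = b ≫ tW G W hW) (h2 : a ≫ sW G W = b ≫ sW G W) : a = b := by
  rw [← cancel_mono (RW G W).ι, ← cancel_mono G.j]
  apply pullback.hom_ext
  · rw [Category.assoc, Category.assoc, Category.assoc, Category.assoc, Grpd.GroupoidScheme.j,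
      pullback.lift_fst, ← tW_ι G W hW, ← Category.assoc, ← Category.assoc, h1]
  · rw [Category.assoc, Category.assoc, Category.assoc, Category.assoc, Grpd.GroupoidScheme.j,
      pullback.lift_snd, ← sW_ι G W, ← Category.assoc, ← Category.assoc, h2]

instance mono_res_j [Mono G.j] : Mono (res G W hW).j := by
  constructor
  intro T a b hab
  have h1 : a ≫ (res G W hW).t = b ≫ (res G W hW).t := by
    have := congrArg (fun f => f ≫ pullback.fst _ _) hab
    simpa [Grpd.GroupoidScheme.j, Category.assoc, pullback.lift_fst] using this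
  have h2 : a ≫ (res G W hW).s = b ≫ (res G W hW).s := by
    have := congrArg (fun f => f ≫ pullback.snd _ _) hab
    simpa [Grpd.GroupoidScheme.j, Category.assoc, pullback.lift_snd] using this
  exact res_mono_aux G W hW a b h1 h2

end Inst


section Mono
open Groth.Agent.Helper2.GrpdLib
variable [IsFinite G.s] [Flat G.s] [LocallyOfFinitePresentation G.s]
variable (W : G.U.Opens) (hW : G.s ⁻¹ᵁ W = G.t ⁻¹ᵁ W)

/-- lifting an arrow with source in `W` to the restricted groupoid -/
theorem exists_lift_arrow {T : Scheme.{u}} (r : T ⟶ G.R) (a b : T ⟶ (W : Scheme.{u}))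
    (ha : a ≫ W.ι = r ≫ G.t) (hb : b ≫ W.ι = r ≫ G.s) :
    ∃ r' : T ⟶ (RW G W : Scheme.{u}), r' ≫ (RW G W).ι = r ∧ r' ≫ tW G W hW = a ∧
      r' ≫ sW G W = b := by
  have hrange : Set.range r.base ⊆ Set.range (RW G W).ι.base := by
    rintro _ ⟨z, rfl⟩
    rw [Scheme.Opens.range_ι]
    change G.s.base (r.base z) ∈ W
    rw [← Scheme.Hom.comp_apply, ← hb, Scheme.Hom.comp_apply]
    exact (b.base z).2
  refine ⟨IsOpenImmersion.lift (RW G W).ι r hrange, IsOpenImmersion.lift_fac _ _ _, ?_, ?_⟩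
  · rw [← cancel_mono W.ι, Category.assoc, tW_ι, ← Category.assoc, IsOpenImmersion.lift_fac, ha]
  · rw [← cancel_mono W.ι, Category.assoc, sW_ι, ← Category.assoc, IsOpenImmersion.lift_fac, hb]

theorem isInvHom_toQuot (hWa : IsAffineOpen W) :
    IsInvHom G.s G.t W (res G W hW).toQuot := by
  haveI := isAffine_res_U G W hW hWa
  haveI := isAffine_res_R G W hW hWa
  intro T r a b ha hb
  obtain ⟨r', -, h1, h2⟩ := exists_lift_arrow G W hW r a b ha hb
  have h3 := t_toQuot (res G W hW)
  rw [← h1, ← h2, Category.assoc, Category.assoc]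
  congr 1

variable [Mono G.j]

theorem cart_toQuot (hWa : IsAffineOpen W) ⦃T : Scheme.{u}⦄ (a b : T ⟶ (W : Scheme.{u}))
    (h : a ≫ (res G W hW).toQuot = b ≫ (res G W hW).toQuot) :
    ∃ r : T ⟶ G.R, r ≫ G.t = a ≫ W.ι ∧ r ≫ G.s = b ≫ W.ι := by
  haveI := isAffine_res_U G W hW hWa
  haveI := isAffine_res_R G W hW hWa
  have hpb := isPullback_toQuot (res G W hW)
  obtain ⟨r', hr1, hr2⟩ : ∃ r' : T ⟶ (RW G W : Scheme.{u}),
      r' ≫ tW G W hW = a ∧ r' ≫ sW G W = b :=
    ⟨hpb.lift a b h, hpb.lift_fst a b h, hpb.lift_snd a b h⟩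
  refine ⟨r' ≫ (RW G W).ι, ?_, ?_⟩
  · rw [Category.assoc, ← tW_ι G W hW, ← Category.assoc, hr1]
  · rw [Category.assoc, ← sW_ι G W, ← Category.assoc, hr2]

/-- the local quotient on an invariant affine open, equivalence relation case -/
noncomputable def locQ (j : InvAff G.s G.t) : LocQ G.s G.t j.W := by
  haveI := isAffine_res_U G j.W j.inv j.aff
  haveI := isAffine_res_R G j.W j.inv j.aff
  have h := finite_flat_quotient (res G j.W j.inv)
  let q : (j.W : Scheme.{u}) ⟶ Spec (CommRingCat.of (res G j.W j.inv).invariants) :=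
    (res G j.W j.inv).toQuot
  haveI : IsFinite q := h.1.1
  haveI : IsAffineHom q := inferInstance
  haveI : Flat q := h.1.2.1
  haveI : LocallyOfFinitePresentation q := h.1.2.2
  haveI : Surjective q := surjective_toQuot' _
  exact LocQ.ofFlat (W := j.W) q (isInvHom_toQuot G j.W j.inv j.aff)
    (cart_toQuot G j.W j.inv j.aff)

end Mono


section Global
open Groth.Agent.Helper2.GrpdLib
variable [IsFinite G.s] [Flat G.s] [LocallyOfFinitePresentation G.s]

theorem cover_invAff (hb : ∀ x : G.U, ∃ V : G.U.Opens, IsAffineOpen V ∧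
      G.t.base '' (G.s.base ⁻¹' {x}) ⊆ (V : Set G.U)) (x : G.U) :
    ∃ j : InvAff G.s G.t, x ∈ j.W := by
  obtain ⟨V, hV, hVx⟩ := hb x
  obtain ⟨W, hWa, hxW, -, hWinv⟩ := InvOpen.exists_invariant_affine_open G x V hV
    (fun r hr => hVx ⟨r, hr, rfl⟩)
  exact ⟨⟨W, hWa, hWinv⟩, hxW⟩

theorem mono_points [Mono G.j] ⦃T : Scheme.{u}⦄ (r r' : T ⟶ G.R) (h1 : r ≫ G.t = r' ≫ G.t)
    (h2 : r ≫ G.s = r' ≫ G.s) : r = r' := by
  rw [← cancel_mono G.j]
  apply pullback.hom_ext
  · rw [Category.assoc, Category.assoc, Grpd.GroupoidScheme.j, pullback.lift_fst, h1]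
  · rw [Category.assoc, Category.assoc, Grpd.GroupoidScheme.j, pullback.lift_snd, h2]

variable [Mono G.j]

/-- the atlas of local quotients in the equivalence relation case -/
noncomputable def atlasMono (hb : ∀ x : G.U, ∃ V : G.U.Opens, IsAffineOpen V ∧
      G.t.base '' (G.s.base ⁻¹' {x}) ⊆ (V : Set G.U)) : QuotAtlas G.s G.t :=
  atlas (fun j => locQ G j) (cover_invAff G hb)

theorem main_mono (hb : ∀ x : G.U, ∃ V : G.U.Opens, IsAffineOpen V ∧
      G.t.base '' (G.s.base ⁻¹' {x}) ⊆ (V : Set G.U)) :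
    ∃ (Y : Scheme.{u}) (p : G.U ⟶ Y) (w : G.t ≫ p = G.s ≫ p),
      Nonempty (IsColimit (Cofork.ofπ p w)) ∧ IsPullback G.t G.s p p ∧
      IsFinite p ∧ Flat p ∧ LocallyOfFinitePresentation p ∧ Surjective p := by
  let D := atlasMono G hb
  have hq : ∀ j : InvAff G.s G.t, IsFinite (D.q j) ∧ Flat (D.q j) ∧
      LocallyOfFinitePresentation (D.q j) := by
    intro j
    haveI := isAffine_res_U G j.W j.inv j.aff
    haveI := isAffine_res_R G j.W j.inv j.aff
    have h := finite_flat_quotient (res G j.W j.inv)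
    exact h.1
  refine ⟨D.Y, D.p, D.t_p, ⟨D.isColimit⟩, ?_, ?_, ?_, ?_, ⟨D.p_surjective⟩⟩
  · exact D.isPullback_of_charts (fun i => cart_toQuot G i.W i.inv i.aff) (mono_points G)
  · exact D.of_charts @IsFinite (fun j => (hq j).1)
  · exact D.of_charts @Flat (fun j => (hq j).2.1)
  · exact D.of_charts @LocallyOfFinitePresentation (fun j => (hq j).2.2)

end Global


theorem main (S : Scheme.{u}) (G : Grpd.GroupoidScheme S)
    (ha : Mor2.IsFinLocFree G.s)
    (hb : ∀ x : G.U, ∃ V : G.U.Opens, IsAffineOpen V ∧ G.t.base '' (G.s.base ⁻¹' {x}) ⊆ (V : Set G.U))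
    [Mono G.j] (Y : Scheme.{u}) (p : G.U ⟶ Y) (w : G.t ≫ p = G.s ≫ p) (hc : IsColimit (Cofork.ofπ p w)) :
    IsPullback G.t G.s p p ∧ Mor2.IsFinLocFree p := by
  obtain ⟨h1, h2, h3⟩ := ha
  haveI := h1
  haveI := h2
  haveI := h3
  obtain ⟨Y₀, p₀, w₀, ⟨hc₀⟩, hpb, hfin, hflat, hlfp, -⟩ := main_mono G hb
  let e : Y₀ ≅ Y := hc₀.coconePointUniqueUpToIso hc
  have he : p₀ ≫ e.hom = p :=
    hc₀.comp_coconePointUniqueUpToIso_hom hc WalkingParallelPair.one
  refine ⟨?_, ?_, ?_, ?_⟩ <;> rw [← he]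
  · refine IsPullback.of_iso hpb (Iso.refl _) (Iso.refl _) (Iso.refl _) e ?_ ?_ ?_ ?_
    · simp
    · simp
    · simp
    · simp
  · infer_instance
  · infer_instance
  · infer_instance

end Groth.Agent.Lib.Helper4.GrpdQuotMono1
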