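import Mathlib
import Groth.Prelude.Def_Grpd
import Groth.Prelude.Def_Mor2
import Groth.Prelude.Def_AlgGrp
import Groth.Prelude.Def_QuotSh
import Groth.Prelude.Def_NonAbH2
import Groth.Agent.Lib.Helper4.ActGpd1
import Groth.Agent.Lib.Helper4.GrpdQuotMono1
import Groth.Agent.Lib.Helper2.Grpd.InvOpen3
import Groth.Agent.S5224

/-!
# Quotient of a scheme by a free action of a finite locally free group scheme (S10245) (helper4)
-/

set_option backward.isDefEq.respectTransparency.types false
set_option synthInstance.maxHeartbeats 400000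
set_option autoImplicit false
set_option linter.unusedSectionVars false
set_option linter.style.haveILetI false
set_option linter.unusedSimpArgs false
universe u v w
open CategoryTheory CategoryTheory.Limits AlgebraicGeometry TopologicalSpace Opposite
open MonoidalCategory CartesianMonoidalCategory MonObj GrpObj
open Groth.Agent.Lib.Helper4.ActGpd1 Groth.Agent.Lib.Helper4.GrpdQuotMono1

namespace Groth.Agent.Lib.Helper4.FreeActQuot1

variable {S : Scheme.{u}} {G X : Over S} [GrpObj G] (a : AlgGrp.Action G X)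

section Orbits

/-- every orbit lies in an affine open when `X ⟶ S` is affine -/
theorem hb_affineHom [IsAffineHom X.hom] (x : X.left) :
    ∃ V : X.left.Opens, IsAffineOpen V ∧
      a.act.left.base '' ((snd G X).left.base ⁻¹' {x}) ⊆ (V : Set X.left) := by
  obtain ⟨_, ⟨V₀, hV₀, rfl⟩, hxV₀, -⟩ :=
    S.isBasis_affineOpens.exists_subset_of_mem_open (Set.mem_univ (X.hom.base x)) isOpen_univ
  refine ⟨X.hom ⁻¹ᵁ V₀, IsAffineOpen.preimage hV₀ X.hom, ?_⟩
  rintro _ ⟨r, hr, rfl⟩
  have hr' : (snd G X).left.base r = x := hr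
  change X.hom.base (a.act.left.base r) ∈ V₀
  rw [← Scheme.Hom.comp_apply, Over.w a.act, ← Over.w (snd G X), Scheme.Hom.comp_apply, hr']
  exact hxV₀

/-- every orbit lies in an affine open when `X` is quasi-affine and `G` is finite -/
theorem hb_quasiAffine [IsFinite (snd G X).left] (R : CommRingCat.{u}) (i : X.left ⟶ Spec R)
    [IsOpenImmersion i] (x : X.left) :
    ∃ V : X.left.Opens, IsAffineOpen V ∧
      a.act.left.base '' ((snd G X).left.base ⁻¹' {x}) ⊆ (V : Set X.left) := by
  let E : Set X.left := a.act.left.base '' ((snd G X).left.base ⁻¹' {x})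
  have hE : E.Finite := ((snd G X).left.finite_preimage_singleton x).image _
  obtain ⟨f, hf1, hf2⟩ := Groth.Agent.Helper2.GrpdLib.InvOpen.exists_basicOpen_of_finite_subset
    (X := Spec R) (V := ⊤) (isAffineOpen_top (Spec R)) i.opensRange (i.base '' E) (hE.image _)
    (by rintro _ ⟨y, -, rfl⟩; exact ⟨y, rfl⟩) (fun _ _ => trivial)
  refine ⟨i ⁻¹ᵁ ((Spec R).basicOpen f),
    IsAffineOpen.preimage_of_isOpenImmersion ((isAffineOpen_top (Spec R)).basicOpen f) i hf2, ?_⟩
  intro y hy
  exact hf1 ⟨y, hy, rfl⟩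

/-- every orbit is a point when `G ⟶ S` is radicial -/
theorem hb_radicial [UniversallyInjective G.hom] (x : X.left) :
    ∃ V : X.left.Opens, IsAffineOpen V ∧
      a.act.left.base '' ((snd G X).left.base ⁻¹' {x}) ⊆ (V : Set X.left) := by
  haveI : UniversallyInjective (snd G X).left := by
    rw [Over.snd_left]
    exact MorphismProperty.pullback_snd (P := @UniversallyInjective) _ _ inferInstance
  obtain ⟨_, ⟨V, hV, rfl⟩, hxV, -⟩ :=
    X.left.isBasis_affineOpens.exists_subset_of_mem_open (Set.mem_univ x) isOpen_univ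
  refine ⟨V, hV, ?_⟩
  rintro _ ⟨r, hr, rfl⟩
  have hr' : (snd G X).left.base r = x := hr
  have he : (snd G X).left.base ((actE (G := G) (X := X)).base x) = x := by
    rw [← Scheme.Hom.comp_apply, actE_s]
    rfl
  have : r = (actE (G := G) (X := X)).base x :=
    (snd G X).left.injective (hr'.trans he.symm)
  rw [this, ← Scheme.Hom.comp_apply, actE_t]
  exact hxV

end Orbits


theorem main {S : Scheme.{u}} (G X : Over S) [GrpObj G]
    (a : AlgGrp.Action G X) (hG : Mor2.IsFinLocFree G.hom)
    (hfree : ∀ (T : Over S) (g : T ⟶ G) (x : T ⟶ X), lift g x ≫ a.act = x → g = toUnit T ≫ η[G])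
    (h3 : IsAffineHom X.hom ∨ (∃ (R : CommRingCat.{u}) (i : X.left ⟶ Spec R), IsOpenImmersion i) ∨
      UniversallyInjective G.hom) :
    ∃ (M : Over S) (q : X ⟶ M), QuotSh.IsQuotient Scheme.fppfPrecoverage (snd G X) a.act q ∧
      IsPullback a.act.left (snd G X).left q.left q.left ∧
      NonAbH1.IsLocallyTrivialFor Scheme.fppfPrecoverage (Over.mk q.left) := by
  obtain ⟨h1, h2, h3'⟩ := hG
  haveI := h1
  haveI := h2
  haveI := h3'
  haveI hsf : IsFinite (snd G X).left := by rw [Over.snd_left]; infer_instance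
  haveI hsfl : Flat (snd G X).left := by rw [Over.snd_left]; infer_instance
  haveI hsfp : LocallyOfFinitePresentation (snd G X).left := by rw [Over.snd_left]; infer_instance
  let Gd := actGpd a hfree
  haveI : IsFinite Gd.s := hsf
  haveI : Flat Gd.s := hsfl
  haveI : LocallyOfFinitePresentation Gd.s := hsfp
  haveI : Mono Gd.j := by
    constructor
    intro T α β hab
    have e1 : Gd.j ≫ pullback.fst Gd.pU Gd.pU = Gd.t := pullback.lift_fst _ _ _
    have e2 : Gd.j ≫ pullback.snd Gd.pU Gd.pU = Gd.s := pullback.lift_snd _ _ _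
    have ht : α ≫ Gd.t = β ≫ Gd.t := by
      rw [← e1, ← Category.assoc, ← Category.assoc, hab]
    have hs : α ≫ Gd.s = β ≫ Gd.s := by
      rw [← e2, ← Category.assoc, ← Category.assoc, hab]
    exact act_hext a hfree α β ht hs
  have hb : ∀ x : Gd.U, ∃ V : Gd.U.Opens, IsAffineOpen V ∧
      Gd.t.base '' (Gd.s.base ⁻¹' {x}) ⊆ (V : Set Gd.U) := by
    rcases h3 with h | ⟨R, i, hi⟩ | h
    · haveI := h
      exact hb_affineHom a
    · haveI := hi
      exact hb_quasiAffine a R i
    · haveI := h
      exact hb_radicial a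
  obtain ⟨Y, p, w, ⟨hc⟩, hpb, hfin, hflat, hlfp, hsurj⟩ := main_mono Gd hb
  have wS : Gd.t ≫ Gd.pU = Gd.s ≫ Gd.pU := Gd.t_over.trans Gd.s_over.symm
  let qS : Y ⟶ S := Cofork.IsColimit.desc hc Gd.pU wS
  have hqS : p ≫ qS = X.hom := Cofork.IsColimit.π_desc' hc Gd.pU wS
  let m : X ⟶ Over.mk qS := Over.homMk p hqS
  have hpb' : IsPullback a.act.left (snd G X).left p p := hpb
  have hkp : IsKernelPair m (snd G X) a.act := by
    apply IsPullback.of_map (Over.forget S)
    · ext
      exact w.symm
    · exact hpb'.flip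
  haveI : IsEquivalenceRelation (snd G X) a.act :=
    (IsKernelPair.equivalenceRelation m (snd G X) a.act (pullbackIsPullback a.act (snd G X))
      hkp).isEquivalenceRelation
  haveI : Surjective (snd G X).left := by
    constructor
    intro x
    exact ⟨(actE (G := G) (X := X)).base x, by rw [← Scheme.Hom.comp_apply, actE_s]; rfl⟩
  have hflat' : Flat m.left := hflat
  have hsurj' : Surjective m.left := hsurj
  have hlfp' : LocallyOfFinitePresentation m.left := hlfp
  refine ⟨Over.mk qS, m, (Groth.Agent.S5224.result (snd G X) a.act m).mp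
    ⟨hkp, hflat', hsurj', hlfp'⟩, hpb', ?_⟩
  haveI := hflat
  haveI := hsurj
  haveI := hlfp
  refine ⟨Presieve.singleton p, Scheme.Hom.singleton_mem_fppfPrecoverage p, ?_⟩
  rintro S' f ⟨⟩
  exact ⟨𝟙 _, Category.id_comp _⟩

end Groth.Agent.Lib.Helper4.FreeActQuot1
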