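import Mathlib
import Groth.Prelude.Def_AlgGrp
import Groth.Prelude.Def_SGA3
import Groth.Agent.Lib.Helper4.NormKer3
import Groth.Agent.Lib.Helper4.GenSubgrp1
import Groth.Agent.Lib.Helper6.NormQ.NQ1
import Groth.Agent.Lib.Helper6.NormQ.NQ7
import Groth.Agent.Lib.Helper6.NormFix.NFa

/-!
# Affine quotient of an affine algebraic group by a normal closed subgroup scheme (via Takeuchi) (helper4)
-/

set_option backward.isDefEq.respectTransparency.types false
set_option synthInstance.maxHeartbeats 400000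
set_option autoImplicit false
set_option linter.unusedSectionVars false
set_option linter.style.haveILetI false
set_option linter.unusedSimpArgs false
universe u v w
open CategoryTheory CategoryTheory.Limits MonoidalCategory CartesianMonoidalCategory MonObj GrpObj AlgebraicGeometry Opposite
open scoped TensorProduct
open WithConv

namespace Groth.Agent.Lib.Helper4.NormQuotSch1

noncomputable section

section alg

variable {k : Type u} [Field k] {A AN : Type u} [CommRing A] [HopfAlgebra k A] [CommRing AN]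
  [HopfAlgebra k AN]

/-- normality of the kernel of a surjective bialgebra map, from conjugation of points -/
theorem normal_of_points (φ : A →ₐc[k] AN) (hφ : Function.Surjective φ)
    (hconj : ∀ (R : Type u) [CommRing R] [Algebra k R] (g : A →ₐ[k] R) (h' : AN →ₐ[k] R),
      ∃ ν : AN →ₐ[k] R,
        (toConv g * toConv (h'.comp (φ : A →ₐ[k] AN)) *
          toConv (g.comp (HopfAlgebra.antipodeAlgHom k A))).ofConv = ν.comp (φ : A →ₐ[k] AN)) :
    SGA3.IsNormalHopfIdeal k A (RingHom.ker (φ : A →+* AN)) := by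
  intro R _ _ g h hh a ha
  rw [Groth.Agent.Lib.Helper6.NormFix.conv3_eq]
  have hker : RingHom.ker (φ : A →ₐ[k] AN).toRingHom ≤ RingHom.ker h.toRingHom := by
    intro x hx
    exact hh x hx
  let h' : AN →ₐ[k] R := AlgHom.liftOfSurjective (φ : A →ₐ[k] AN) hφ h hker
  have hh' : h'.comp (φ : A →ₐ[k] AN) = h := AlgHom.liftOfSurjective_comp _ hφ h hker
  obtain ⟨ν, hν⟩ := hconj R g h'
  rw [hh'] at hν
  rw [hν, AlgHom.comp_apply]
  have ha' : (φ : A →ₐ[k] AN) a = 0 := ha
  rw [ha', map_zero]

end alg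

section sch

theorem surjective_of_isClosedImmersion_SpecMap {R S : CommRingCat.{u}} (φ : R ⟶ S)
    [IsClosedImmersion (Spec.map φ)] : Function.Surjective φ.hom := by
  have h := (IsClosedImmersion.isAffine_surjective_of_isAffine (Spec.map φ)).2
  have e : φ = (Scheme.ΓSpecIso R).inv ≫ (Spec.map φ).appTop ≫ (Scheme.ΓSpecIso S).hom := by
    rw [← Scheme.ΓSpecIso_inv_naturality_assoc, Iso.inv_hom_id, Category.comp_id]
  rw [e]
  simp only [CommRingCat.hom_comp, RingHom.coe_comp]
  exact (ConcreteCategory.bijective_of_isIso (Scheme.ΓSpecIso S).hom).2.comp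
    (h.comp (ConcreteCategory.bijective_of_isIso (Scheme.ΓSpecIso R).inv).2)

variable (k : Type u) [Field k]

/-- post-composition with a homomorphism, as a homomorphism of groups of points -/
def postHom {S : Scheme.{u}} {G H : Over S} [GrpObj G] [GrpObj H] (T : Over S) (f : G ⟶ H)
    [IsMonHom f] : (T ⟶ G) →* (T ⟶ H) :=
  MonoidHom.mk' (fun x => x ≫ f) (fun x y => MonObj.mul_comp x y f)

lemma postHom_apply {S : Scheme.{u}} {G H : Over S} [GrpObj G] [GrpObj H] (T : Over S) (f : G ⟶ H)
    [IsMonHom f] (x : T ⟶ G) : postHom T f x = x ≫ f := rfl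

set_option maxHeartbeats 800000 in
theorem step1 (G N : Over (Spec (CommRingCat.of k))) [GrpObj G] [GrpObj N] [IsAffine G.left]
    [LocallyOfFiniteType G.hom] (i : N ⟶ G) [IsMonHom i] [IsClosedImmersion i.left]
    (hN : AlgGrp.IsNormalHom i) :
    ∃ (A : Type u) (_ : CommRing A) (_ : HopfAlgebra k A) (AN : Type u) (_ : CommRing AN)
      (_ : HopfAlgebra k AN) (φ : A →ₐc[k] AN)
      (eG : (Spec (.of A)).asOver (Spec (.of k)) ≅ G)
      (eN : (Spec (.of AN)).asOver (Spec (.of k)) ≅ N),
      IsMonHom eG.hom ∧ IsMonHom eG.inv ∧ IsMonHom eN.hom ∧ Function.Surjective φ ∧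
      (Spec.map (CommRingCat.ofHom (φ : A →ₐ[k] AN).toRingHom)).asOver (Spec (.of k)) = eN.hom ≫ i ≫ eG.inv ∧
      Algebra.FiniteType k A ∧
      SGA3.IsNormalHopfIdeal k A (RingHom.ker (φ : A →+* AN)) := by
  haveI : IsAffine N.left := isAffine_of_isAffineHom i.left
  have h1 : (hopfSpec (CommRingCat.of k)).essImage (Grp.mk G) := by
    rw [essImage_hopfSpec]
    infer_instance
  have h2 : (hopfSpec (CommRingCat.of k)).essImage (Grp.mk N) := by
    rw [essImage_hopfSpec]
    infer_instance
  obtain ⟨Hop, ⟨e⟩⟩ := h1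
  obtain ⟨HopN, ⟨e'⟩⟩ := h2
  let hG : Grp.mk N ⟶ Grp.mk G := Grp.homMk i
  let t : (hopfSpec (CommRingCat.of k)).obj HopN ⟶ (hopfSpec (CommRingCat.of k)).obj Hop :=
    e'.hom ≫ hG ≫ e.inv
  have hfull : (hopfSpec (CommRingCat.of k)).Full := hopfSpec.instFull
  obtain ⟨φop, hφ⟩ := (hopfSpec (CommRingCat.of k)).map_surjective t
  let φ : Hop.unop →ₐc[k] HopN.unop := φop.unop.hom
  let e0 : (Spec (.of Hop.unop)).asOver (Spec (.of k)) ≅ G := (Grp.forget _).mapIso e
  let e0' : (Spec (.of HopN.unop)).asOver (Spec (.of k)) ≅ N := (Grp.forget _).mapIso e'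
  haveI hm0 : IsMonHom e0.hom := inferInstanceAs (IsMonHom e.hom.hom.hom)
  haveI hm0' : IsMonHom e0'.hom := inferInstanceAs (IsMonHom e'.hom.hom.hom)
  haveI hm0i : IsMonHom e0.inv := inferInstanceAs (IsMonHom e.inv.hom.hom)
  haveI hm0i' : IsMonHom e0'.inv := inferInstanceAs (IsMonHom e'.inv.hom.hom)
  have hsq : (Spec.map (CommRingCat.ofHom (φ : Hop.unop →ₐ[k] HopN.unop).toRingHom)).asOver (Spec (.of k)) =
      e0'.hom ≫ i ≫ e0.inv := by
    show ((hopfSpec (CommRingCat.of k)).map φop).hom.hom = _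
    rw [hφ]
    rfl
  have hi0 : IsIso e0.hom.left := inferInstanceAs (IsIso ((Over.forget _).map e0.hom))
  have hi0' : IsIso e0'.hom.left := inferInstanceAs (IsIso ((Over.forget _).map e0'.hom))
  have hi0i : IsIso e0.inv.left := inferInstanceAs (IsIso ((Over.forget _).map e0.inv))
  have hleft : Spec.map (CommRingCat.ofHom (φ : Hop.unop →ₐ[k] HopN.unop).toRingHom) =
      e0'.hom.left ≫ i.left ≫ e0.inv.left := congrArg (fun f => f.left) hsq
  have hsurj : Function.Surjective φ := by
    haveI : IsClosedImmersion (Spec.map (CommRingCat.ofHom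
        (φ : Hop.unop →ₐ[k] HopN.unop).toRingHom)) := by
      rw [hleft]
      haveI t1 : IsClosedImmersion e0.inv.left := inferInstance
      haveI t2 : IsClosedImmersion e0'.hom.left := inferInstance
      haveI t3 : IsClosedImmersion (i.left ≫ e0.inv.left) := inferInstance
      exact MorphismProperty.comp_mem (W := @IsClosedImmersion) _ _ t2 t3
    exact surjective_of_isClosedImmersion_SpecMap
      (CommRingCat.ofHom (φ : Hop.unop →ₐ[k] HopN.unop).toRingHom)
  have hft : Algebra.FiniteType k Hop.unop := by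
    have hw : e0.hom.left ≫ G.hom = Spec.map (CommRingCat.ofHom (algebraMap k Hop.unop)) :=
      Over.w e0.hom
    haveI : LocallyOfFiniteType (Spec.map (CommRingCat.ofHom (algebraMap k Hop.unop))) := by
      rw [← hw]
      haveI t1 : LocallyOfFiniteType e0.hom.left := inferInstance
      exact MorphismProperty.comp_mem (W := @LocallyOfFiniteType) _ _ t1 inferInstance
    have h3 : RingHom.FiniteType (CommRingCat.ofHom (algebraMap k Hop.unop)).hom :=
      HasRingHomProperty.Spec_iff.mp ‹_›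
    exact RingHom.finiteType_algebraMap.mp h3
  refine ⟨Hop.unop, inferInstance, inferInstance, HopN.unop, inferInstance, inferInstance, φ, e0, e0',
    hm0, hm0i, hm0', hsurj, hsq, hft, ?_⟩
  apply normal_of_points φ hsurj
  intro R _ _ g h'
  let TT : Over (Spec (CommRingCat.of k)) := (Spec (.of R)).asOver (Spec (.of k))
  let MA := Spec.mapMulEquiv (R := k) (S := Hop.unop) (T := R)
  let MN := Spec.mapMulEquiv (R := k) (S := HopN.unop) (T := R)
  obtain ⟨n'', hn''⟩ := hN TT (MA (toConv g) ≫ e0.hom) (MN (toConv h') ≫ e0'.hom)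
  have hF := congrArg (postHom TT e0.inv) hn''
  rw [map_mul, map_mul, map_inv, postHom_apply, postHom_apply, postHom_apply, Category.assoc,
    Iso.hom_inv_id, Category.comp_id] at hF
  have hcomp : ∀ f : HopN.unop →ₐ[k] R, MN (toConv f) ≫ (e0'.hom ≫ i ≫ e0.inv) =
      MA (toConv (f.comp (φ : Hop.unop →ₐ[k] HopN.unop))) := by
    intro f
    rw [← hsq]
    apply Over.OverMorphism.ext
    show Spec.map (CommRingCat.ofHom f.toRingHom) ≫
      Spec.map (CommRingCat.ofHom (φ : Hop.unop →ₐ[k] HopN.unop).toRingHom) =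
      Spec.map (CommRingCat.ofHom (f.comp (φ : Hop.unop →ₐ[k] HopN.unop)).toRingHom)
    rw [← Spec.map_comp, ← CommRingCat.ofHom_comp]
    rfl
  have e_mid : ((MN (toConv h') ≫ e0'.hom) ≫ i) ≫ e0.inv =
      MA (toConv (h'.comp (φ : Hop.unop →ₐ[k] HopN.unop))) := by
    rw [← hcomp]
    simp only [Category.assoc]
  let ν : HopN.unop →ₐ[k] R := (MN.symm (n'' ≫ e0'.inv)).ofConv
  have e_rhs : (n'' ≫ i) ≫ e0.inv = MA (toConv (ν.comp (φ : Hop.unop →ₐ[k] HopN.unop))) := by
    rw [← hcomp]
    show _ = MN (MN.symm (n'' ≫ e0'.inv)) ≫ _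
    rw [MulEquiv.apply_symm_apply]
    simp only [Category.assoc, Iso.inv_hom_id_assoc]
  have hinv : (MA (toConv g))⁻¹ =
      MA (toConv (g.comp (HopfAlgebra.antipodeAlgHom k Hop.unop))) := by
    apply inv_eq_of_mul_eq_one_right
    rw [← map_mul, Groth.Agent.Lib.Helper6.NormFix.mul_comp_antipode, map_one]
  rw [e_mid, e_rhs, hinv, ← map_mul, ← map_mul] at hF
  refine ⟨ν, ?_⟩
  have h5 := MA.injective hF
  exact congrArg WithConv.ofConv h5

section step2

open Groth.Agent.Helper2.FF Groth.Agent.Helper2.MultPart Groth.Agent.Lib.Helper6.NormQ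

variable {A : Type u} [CommRing A] [HopfAlgebra k A]

/-- `Spec` of a bialgebra map is a homomorphism of group schemes -/
theorem exists_monHom_of_bialgHom {A' : Type u} [CommRing A'] [HopfAlgebra k A']
    (inc : A' →ₐc[k] A) :
    ∃ q' : (Spec (.of A)).asOver (Spec (.of k)) ⟶ (Spec (.of A')).asOver (Spec (.of k)),
      IsMonHom q' ∧ q'.left = Spec.map (CommRingCat.ofHom (inc : A' →+* A)) := by
  let Ψ := (hopfSpec (CommRingCat.of k)).map (CommHopfAlgCat.ofHom inc).op
  exact ⟨Ψ.hom.hom, inferInstanceAs (IsMonHom Ψ.hom.hom), rfl⟩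

end step2

section step3

open Groth.Agent.Helper2.FF Groth.Agent.Helper2.MultPart Groth.Agent.Lib.Helper6.NormQ

variable {A AN : Type u} [CommRing A] [HopfAlgebra k A] [CommRing AN] [HopfAlgebra k AN]

theorem isPushout_ring (φ : A →ₐc[k] AN) (hφ : Function.Surjective φ) (B : Subalgebra k A)
    (hB : HS B) (hker : RingHom.ker (φ : A →+* AN) = augJ B) :
    letI := hopfB B hB
    IsPushout (CommRingCat.ofHom (algebraMap ↥B A))
      (CommRingCat.ofHom (Bialgebra.counitAlgHom k ↥B : ↥B →+* k))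
      (CommRingCat.ofHom (φ : A →+* AN)) (CommRingCat.ofHom (algebraMap k AN)) := by
  letI := hopfB B hB
  have hφc : ∀ c : k, φ (algebraMap k A c) = algebraMap k AN c :=
    fun c => AlgHom.commutes (φ : A →ₐ[k] AN) c
  have hb0 : ∀ b : ↥B, φ (b : A) = algebraMap k AN (Coalgebra.counit (R := k) (b : A)) := by
    intro b
    have h1 : (b : A) - algebraMap k A (Coalgebra.counit (R := k) (b : A)) ∈ augJ B :=
      sub_counit_mem_augJ B b.2
    rw [← hker] at h1
    have h2 : φ ((b : A) - algebraMap k A (Coalgebra.counit (R := k) (b : A))) = 0 := h1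
    rw [map_sub, sub_eq_zero] at h2
    rw [h2, hφc]
  have hw : CommRingCat.ofHom (algebraMap ↥B A) ≫ CommRingCat.ofHom (φ : A →+* AN) =
      CommRingCat.ofHom (Bialgebra.counitAlgHom k ↥B : ↥B →+* k) ≫
        CommRingCat.ofHom (algebraMap k AN) := by
    ext b
    exact hb0 b
  have hk : ∀ s : PushoutCocone (CommRingCat.ofHom (algebraMap ↥B A))
      (CommRingCat.ofHom (Bialgebra.counitAlgHom k ↥B : ↥B →+* k)),
      RingHom.ker (φ : A →+* AN) ≤ RingHom.ker s.inl.hom := by
    intro s
    rw [hker]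
    unfold augJ
    rw [Ideal.span_le]
    rintro b ⟨hb, hε⟩
    rw [SetLike.mem_coe, RingHom.mem_ker]
    have h1 := congrArg (fun f => f.hom (⟨b, hb⟩ : ↥B)) s.condition
    have h2 : s.inl.hom b = s.inr.hom (Coalgebra.counit (R := k) b) := h1
    rw [h2, hε, map_zero]
  refine ⟨⟨hw⟩, ⟨PushoutCocone.IsColimit.mk _
    (fun s => CommRingCat.ofHom ((RingHom.liftOfSurjective (φ : A →+* AN) hφ) ⟨s.inl.hom, hk s⟩))
    ?_ ?_ ?_⟩⟩
  · intro s
    ext a
    exact RingHom.liftOfSurjective_comp_apply (φ : A →+* AN) hφ ⟨s.inl.hom, hk s⟩ a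
  · intro s
    ext c
    show (RingHom.liftOfSurjective (φ : A →+* AN) hφ) ⟨s.inl.hom, hk s⟩ (algebraMap k AN c) = _
    rw [← hφc]
    have h0 := RingHom.liftOfSurjective_comp_apply (φ : A →+* AN) hφ ⟨s.inl.hom, hk s⟩
      (algebraMap k A c)
    refine h0.trans ?_
    have h1 := congrArg (fun f => f.hom (algebraMap k ↥B c)) s.condition
    have h2 : s.inl.hom (algebraMap k A c) =
        s.inr.hom (Coalgebra.counit (R := k) (algebraMap k A c)) := h1
    rw [h2, Bialgebra.counit_algebraMap]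
  · intro s m hm1 hm2
    ext y
    obtain ⟨a, rfl⟩ := hφ y
    have h0 := RingHom.liftOfSurjective_comp_apply (φ : A →+* AN) hφ ⟨s.inl.hom, hk s⟩ a
    have h1 := congrArg (fun f => f.hom a) hm1
    exact h1.trans h0.symm

end step3

section final

open Groth.Agent.Helper2.FF Groth.Agent.Helper2.MultPart Groth.Agent.Lib.Helper6.NormQ
open Groth.Agent.Lib.Helper4.NormKer3 Groth.Agent.Lib.Helper4.GenSubgrp1

set_option maxHeartbeats 800000 in
theorem main3278 (G N : Over (Spec (CommRingCat.of k))) [GrpObj G] [GrpObj N] [IsAffine G.left]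
    [LocallyOfFiniteType G.hom] (i : N ⟶ G) [IsMonHom i] [IsClosedImmersion i.left]
    (hN : AlgGrp.IsNormalHom i) :
    ∃ (Q : Over (Spec (CommRingCat.of k))) (_ : GrpObj Q) (q : G ⟶ Q), IsMonHom q ∧
      IsAffine Q.left ∧ LocallyOfFiniteType Q.hom ∧ Flat q.left ∧ Surjective q.left ∧
      AlgGrp.IsKernel i q := by
  obtain ⟨A, _, _, AN, _, _, φ, eG, eN, hmG, hmGi, hmN, hφ, hsq, hft, hnor⟩ := step1 k G N i hN
  haveI hI : (RingHom.ker (φ : A →+* AN)).IsHopfIdeal k := isHopfIdeal_ker φ
  have hB : HS (coinvI (k := k) (RingHom.ker (φ : A →+* AN))) := hs_coinvI _ hnor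
  have hIB : RingHom.ker (φ : A →+* AN) = augJ (coinvI (k := k) (RingHom.ker (φ : A →+* AN))) :=
    eq_augJ_coinvI _ hnor
  generalize coinvI (k := k) (RingHom.ker (φ : A →+* AN)) = B at hB hIB
  haveI ff : Module.FaithfullyFlat B A := faithfullyFlat_of_HS B hB
  have hfg : B.FG := fg_of_HS B hB
  letI := hopfB B hB
  obtain ⟨q', hq'mon, hq'left⟩ := exists_monHom_of_bialgHom k (inclB B hB)
  have hq'left' : q'.left = Spec.map (CommRingCat.ofHom (algebraMap ↥B A)) := hq'left
  have hFF : (CommRingCat.ofHom (algebraMap ↥B A)).hom.FaithfullyFlat :=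
    (RingHom.faithfullyFlat_algebraMap_iff).mpr ff
  obtain ⟨hfl, hsj⟩ := (flat_and_surjective_SpecMap_iff (CommRingCat.ofHom (algebraMap ↥B A))).mpr hFF
  have hiG : IsIso eG.inv.left := inferInstanceAs (IsIso ((Over.forget _).map eG.inv))
  refine ⟨(Spec (.of ↥B)).asOver (Spec (.of k)), inferInstance, eG.inv ≫ q', inferInstance, ?_, ?_,
    ?_, ?_, ?_⟩
  · exact inferInstanceAs (IsAffine (Spec (.of ↥B)))
  · show LocallyOfFiniteType (Spec.map (CommRingCat.ofHom (algebraMap k ↥B)))
    exact HasRingHomProperty.Spec_iff.mpr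
      (RingHom.finiteType_algebraMap.mpr ((Subalgebra.fg_iff_finiteType B).mp hfg))
  · show Flat (eG.inv.left ≫ q'.left)
    rw [hq'left']
    haveI t1 : Flat eG.inv.left := inferInstance
    exact MorphismProperty.comp_mem (W := @Flat) _ _ t1 hfl
  · show Surjective (eG.inv.left ≫ q'.left)
    rw [hq'left']
    haveI t1 : Surjective eG.inv.left := inferInstance
    exact MorphismProperty.comp_mem (W := @Surjective) _ _ t1 hsj
  · let spA : Over (Spec (CommRingCat.of k)) := (Spec (.of A)).asOver (Spec (.of k))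
    let spN : Over (Spec (CommRingCat.of k)) := (Spec (.of AN)).asOver (Spec (.of k))
    let spB : Over (Spec (CommRingCat.of k)) := (Spec (.of ↥B)).asOver (Spec (.of k))
    let j : spN ⟶ spA :=
      (Spec.map (CommRingCat.ofHom (φ : A →ₐ[k] AN).toRingHom)).asOver (Spec (.of k))
    have hpb := isPullback_SpecMap_of_isPushout _ _ _ _ (isPushout_ring k φ hφ B hB hIB)
    have hη : (η[spB]).left =
        Spec.map (CommRingCat.ofHom (Bialgebra.counitAlgHom k ↥B : ↥B →+* k)) := rfl
    have hu : (toUnit spN).left = Spec.map (CommRingCat.ofHom (algebraMap k AN)) := by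
      have h1 : (toUnit spN).left = spN.hom := by
        have := Over.w (toUnit spN)
        simpa using this
      rw [h1]
      rfl
    have hjl : j.left = Spec.map (CommRingCat.ofHom (φ : A →+* AN)) := rfl
    have hw : j ≫ q' = toUnit spN ≫ η[spB] := by
      apply Over.OverMorphism.ext
      rw [Over.comp_left, Over.comp_left, hu, hη, hjl, hq'left']
      exact hpb.w
    have hsp : IsPullback j (toUnit spN) q' η[spB] := by
      apply IsPullback.of_map (Over.forget _) hw
      simp only [Over.forget_obj, Over.forget_map]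
      rw [hu, hη, hjl, hq'left']
      exact hpb
    show IsPullback i (toUnit N) (eG.inv ≫ q') η[spB]
    refine IsPullback.of_iso hsp eN eG (Iso.refl _) (Iso.refl _) ?_ ?_ ?_ ?_
    · show j ≫ eG.hom = eN.hom ≫ i
      show (Spec.map (CommRingCat.ofHom (φ : A →ₐ[k] AN).toRingHom)).asOver (Spec (.of k)) ≫ eG.hom
        = eN.hom ≫ i
      rw [hsq]
      simp only [Category.assoc, Iso.inv_hom_id, Category.comp_id]
    · exact toUnit_unique _ _
    · simp only [Iso.refl_hom, Category.comp_id, Iso.hom_inv_id_assoc]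
    · simp only [Iso.refl_hom, Category.comp_id, Category.id_comp]

end final

end sch

end

end Groth.Agent.Lib.Helper4.NormQuotSch1
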