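import Mathlib
import Groth.Prelude.Def_AlgGrp
import Groth.Agent.Lib.Helper4.NormQuotSch1
import Groth.Agent.Lib.Helper6.GrpSch.Sep
import Groth.Agent.Lib.Helper6.GrpSm.Perfect
import Groth.Agent.Lib.Helper5.GFib.Red
import Groth.Agent.Lib.Helper7.SmoothBC.GeomRed

/-!
# Quotients of affine / smooth / connected algebraic groups over a field: kernels as group schemes via limits in Grp, uniqueness of fppf quotients via effective epimorphisms (helper4)
-/

set_option backward.isDefEq.respectTransparency.types false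
set_option synthInstance.maxHeartbeats 400000
set_option autoImplicit false
set_option linter.unusedSectionVars false
set_option linter.style.haveILetI false
set_option linter.unusedSimpArgs false
universe u v w
open CategoryTheory
open CategoryTheory.Limits
open MonoidalCategory
open CartesianMonoidalCategory
open MonObj
open AlgebraicGeometry
open Groth.Agent.Lib.Helper4.NormQuotSch1

namespace Groth.Agent.Lib.Helper4.QuotExt1

noncomputable section

section kernel

variable {S : Scheme.{u}} {G Q : Over S} [GrpObj G] [GrpObj Q] (q : G ⟶ Q) [IsMonHom q]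

/-- the kernel of a homomorphism of group schemes, as a group scheme -/
theorem exists_kernel : ∃ (N : Over S) (_ : GrpObj N) (i : N ⟶ G), IsMonHom i ∧
    AlgGrp.IsKernel i q := by
  let qG : Grp.mk G ⟶ Grp.mk Q := Grp.homMk q
  let eQ : Grp.mk (𝟙_ (Over S)) ⟶ Grp.mk Q := Grp.homMk η[Q]
  have hpb := (IsPullback.of_hasPullback qG eQ).map (Grp.forget (Over S))
  refine ⟨(pullback qG eQ).X, (pullback qG eQ).grp, (pullback.fst qG eQ).hom.hom,
    inferInstance, ?_⟩
  have h1 : (pullback.snd qG eQ).hom.hom = toUnit _ := toUnit_unique _ _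
  unfold AlgGrp.IsKernel
  rw [← h1]
  exact hpb

variable {N : Over S} [GrpObj N] (i : N ⟶ G) [IsMonHom i]

lemma comp_eq_one_of_isKernel (hK : AlgGrp.IsKernel i q) {T : Over S} (n : T ⟶ N) :
    (n ≫ i) ≫ q = 1 := by
  rw [Category.assoc, hK.w, ← Category.assoc, Hom.one_def]
  congr 1
  exact toUnit_unique _ _

lemma exists_of_comp_eq_one (hK : AlgGrp.IsKernel i q) {T : Over S} (c : T ⟶ G)
    (hc : c ≫ q = 1) : ∃ n : T ⟶ N, n ≫ i = c := by
  refine ⟨hK.lift c (toUnit T) ?_, hK.lift_fst _ _ _⟩
  rw [hc, Hom.one_def]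

theorem isNormalHom_of_isKernel (hK : AlgGrp.IsKernel i q) : AlgGrp.IsNormalHom i := by
  intro T g n
  obtain ⟨n', hn'⟩ := exists_of_comp_eq_one q i hK (g * (n ≫ i) * g⁻¹) (by
    have h1 := map_mul (postHom T q) (g * (n ≫ i)) g⁻¹
    have h2 := map_mul (postHom T q) g (n ≫ i)
    have h3 := map_inv (postHom T q) g
    simp only [postHom_apply] at h1 h2 h3
    rw [h1, h2, h3, comp_eq_one_of_isKernel q i hK n, _root_.mul_one, _root_.mul_inv_cancel])
  exact ⟨n', hn'.symm⟩

/-- two homomorphisms with the same kernel identify the same pairs of points -/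
theorem comp_eq_of_isKernel {Q' : Over S} [GrpObj Q'] (q' : G ⟶ Q') [IsMonHom q']
    (hK : AlgGrp.IsKernel i q) (hK' : AlgGrp.IsKernel i q') {T : Over S} (a b : T ⟶ G)
    (hab : a ≫ q = b ≫ q) : a ≫ q' = b ≫ q' := by
  have h1 : (a⁻¹ * b) ≫ q = 1 := by
    have h2 := map_mul (postHom T q) a⁻¹ b
    have h3 := map_inv (postHom T q) a
    simp only [postHom_apply] at h2 h3
    rw [h2, h3, hab, _root_.inv_mul_cancel]
  obtain ⟨n, hn⟩ := exists_of_comp_eq_one q i hK _ h1
  have h4 : (a⁻¹ * b) ≫ q' = 1 := by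
    rw [← hn]
    exact comp_eq_one_of_isKernel q' i hK' n
  have h5 := map_mul (postHom T q') a⁻¹ b
  have h6 := map_inv (postHom T q') a
  simp only [postHom_apply] at h5 h6
  rw [h5, h6] at h4
  exact (inv_mul_eq_one.mp h4)

end kernel

section main

variable (k : Type u) [Field k]
variable (G Q : Over (Spec (CommRingCat.of k))) [GrpObj G] [GrpObj Q]
  [LocallyOfFiniteType G.hom] [QuasiCompact G.hom] [LocallyOfFiniteType Q.hom] [QuasiCompact Q.hom]
  (q : G ⟶ Q) [IsMonHom q] [Flat q.left] [Surjective q.left]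

include q

omit [LocallyOfFiniteType G.hom] [QuasiCompact G.hom] [LocallyOfFiniteType Q.hom] [QuasiCompact Q.hom] [Flat q.left] [Surjective q.left] in
lemma desc_aux {Q' : Over (Spec (CommRingCat.of k))} [GrpObj Q'] (q' : G ⟶ Q') [IsMonHom q']
    {N : Over (Spec (CommRingCat.of k))} [GrpObj N] (i : N ⟶ G) [IsMonHom i]
    (hK : AlgGrp.IsKernel i q) (hK' : AlgGrp.IsKernel i q') {Z : Scheme.{u}} (g₁ g₂ : Z ⟶ G.left)
    (hg : g₁ ≫ q.left = g₂ ≫ q.left) : g₁ ≫ q'.left = g₂ ≫ q'.left := by
  have hw : g₂ ≫ G.hom = g₁ ≫ G.hom := by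
    rw [← Over.w q, ← Category.assoc, ← Category.assoc, hg]
  let T : Over (Spec (CommRingCat.of k)) := Over.mk (g₁ ≫ G.hom)
  let a : T ⟶ G := Over.homMk g₁ rfl
  let b : T ⟶ G := Over.homMk g₂ hw
  have hab : a ≫ q = b ≫ q := Over.OverMorphism.ext hg
  have h := comp_eq_of_isKernel q i q' hK hK' a b hab
  exact congrArg (fun t => t.left) h

theorem affine_part [IsAffine G.left] : IsAffine Q.left := by
  obtain ⟨N, instN, i, hi, hK⟩ := exists_kernel q
  haveI := hi
  have hη : IsClosedImmersion η[Q].left := by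
    have hsec : η[Q].left ≫ Q.hom = 𝟙 _ := by
      have := Over.w η[Q]
      simpa using this
    exact isClosedImmersion_of_comp_eq_id Q.hom η[Q].left hsec
  have hpbL := hK.map (Over.forget _)
  haveI : IsClosedImmersion i.left :=
    MorphismProperty.of_isPullback (P := @IsClosedImmersion) hpbL.flip hη
  obtain ⟨Q', instQ', q', hq', haff, hlft, hfl, hsj, hK'⟩ :=
    main3278 k G N i (isNormalHom_of_isKernel q i hK)
  haveI := hq'
  haveI := haff
  haveI := hfl
  haveI := hsj
  haveI : IsLocallyNoetherian Q.left := LocallyOfFiniteType.isLocallyNoetherian Q.hom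
  haveI : QuasiCompact q.left := inferInstance
  haveI : QuasiCompact q'.left := inferInstance
  haveI : EffectiveEpi q.left := inferInstance
  haveI : EffectiveEpi q'.left := inferInstance
  let u : Q.left ⟶ Q'.left := EffectiveEpi.desc q.left q'.left
    (fun g₁ g₂ hg => desc_aux k G Q q q' i hK hK' g₁ g₂ hg)
  let u' : Q'.left ⟶ Q.left := EffectiveEpi.desc q'.left q.left
    (fun g₁ g₂ hg => desc_aux k G Q' q' q i hK' hK g₁ g₂ hg)
  have hu : q.left ≫ u = q'.left := EffectiveEpi.fac _ _ _
  have hu' : q'.left ≫ u' = q.left := EffectiveEpi.fac _ _ _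
  have h1 : u ≫ u' = 𝟙 _ := by
    rw [← cancel_epi q.left, ← Category.assoc, hu, hu', Category.comp_id]
  have h2 : u' ≫ u = 𝟙 _ := by
    rw [← cancel_epi q'.left, ← Category.assoc, hu', hu, Category.comp_id]
  haveI : IsIso u := ⟨u', h1, h2⟩
  exact IsAffine.of_isIso u

theorem smooth_part [Smooth G.hom] : Smooth Q.hom := by
  let Ω : Type u := AlgebraicClosure k
  let g : Spec (.of Ω) ⟶ Spec (.of k) := Spec.map (CommRingCat.ofHom <| algebraMap k Ω)
  apply MorphismProperty.of_pullback_snd_of_descendsAlong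
    (Q := @Surjective ⊓ @Flat ⊓ @QuasiCompact) (g := g)
  · exact ⟨⟨inferInstance, inferInstance⟩, inferInstance⟩
  · haveI : GrpObj (Over.mk Q.hom) := ‹GrpObj Q›
    letI : GrpObj (Over.mk (pullback.snd Q.hom g)) := Over.grpObjMkPullbackSnd
    haveI : IsReduced (pullback Q.hom g) := by
      let e := pullbackRightPullbackFstIso Q.hom g q.left
      haveI : Smooth (q.left ≫ Q.hom) := by
        rw [Over.w q]
        infer_instance
      haveI : IsReduced (pullback (q.left ≫ Q.hom) g) :=
        Groth.Agent.Helper7.SmoothBC.isReduced_of_smooth_over_field Ω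
          (pullback.snd (q.left ≫ Q.hom) g)
      haveI : IsReduced (pullback q.left (pullback.fst Q.hom g)) :=
        isReduced_of_isOpenImmersion e.hom
      exact Groth.Agent.Lib.Helper5.GFib.isReduced_of_flat_of_surjective
        (pullback.snd q.left (pullback.fst Q.hom g))
    exact Groth.Agent.Lib.Helper6.GrpSm.smooth_of_grpObj_of_perfectField (pullback.snd Q.hom g)

theorem main :
    (IsAffine G.left → IsAffine Q.left) ∧ (Smooth G.hom → Smooth Q.hom) ∧
      (ConnectedSpace G.left → ConnectedSpace Q.left) := by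
  refine ⟨fun h => ?_, fun h => ?_, fun h => ?_⟩
  · haveI := h
    exact affine_part k G Q q
  · haveI := h
    exact smooth_part k G Q q
  · haveI := h
    exact (q.left.surjective).connectedSpace q.left.continuous

end main

end

end Groth.Agent.Lib.Helper4.QuotExt1
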