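import Mathlib
import Groth.Agent.Lib.Helper4.GrpConn1
import Groth.Agent.Lib.Helper4.FlatClosed1
import Groth.Agent.Lib.Helper4.SchClosGrp1
import Groth.Agent.Lib.Helper4.GI2Sch1

/-!
# Identity component of an arbitrary group scheme over a field as a flat closed subgroup scheme, geometrically irreducible and quasi-compact (Stacks 0B7R) (helper4)
-/

set_option backward.isDefEq.respectTransparency.types false
set_option synthInstance.maxHeartbeats 400000
set_option autoImplicit false
set_option linter.unusedSectionVars false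
set_option linter.style.haveILetI false
set_option linter.unusedSimpArgs false
universe u v w
open CategoryTheory CategoryTheory.Limits AlgebraicGeometry TopologicalSpace Opposite
open MonoidalCategory CartesianMonoidalCategory MonObj GrpObj

namespace Groth.Agent.Lib.Helper4.GrpConn2

open Groth.Agent.Lib.Helper4.GrpIrr1 Groth.Agent.Lib.Helper4.GrpConn1
  Groth.Agent.Lib.Helper4.FlatClosed1

variable {K : Type u} [Field K] (G : Over (Spec (CommRingCat.of K))) [GrpObj G]

/-- the clopen neighbourhoods of the identity -/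
def clopens : Set G.left.Opens := {W | IsClosed (W : Set G.left) ∧ ept G ∈ W}

lemma iInter_clopens : ⋂ W ∈ clopens G, (W : Set G.left) = Z0 G := by
  apply subset_antisymm
  · intro x hx
    by_contra hx0
    obtain ⟨W, hW, hxW, heW⟩ := exists_clopen_of_not_mem hx0
    have := Set.mem_iInter₂.mp hx ⟨Wᶜ, hW.compl.isOpen⟩ ⟨hW.compl.isClosed, heW⟩
    exact this hxW
  · intro x hx
    simp only [Set.mem_iInter]
    rintro W ⟨hWc, heW⟩
    have hclopen : IsClopen (W : Set G.left) := ⟨hWc, W.isOpen⟩
    have := hclopen.connectedComponent_subset heW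
    rw [connectedComponent_ept] at this
    exact this hx

/-- the identity component as a flat closed subscheme -/
noncomputable def G0 : Over (Spec (CommRingCat.of K)) :=
  Over.mk ((clopenIdeal (clopens G)).subschemeι ≫ G.hom)

/-- the inclusion of the identity component -/
noncomputable def incl : G0 G ⟶ G := Over.homMk (clopenIdeal (clopens G)).subschemeι rfl

instance : IsClosedImmersion (incl G).left :=
  inferInstanceAs (IsClosedImmersion (clopenIdeal (clopens G)).subschemeι)

instance : Flat (incl G).left :=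
  flat_clopenIdeal (clopens G) (fun _ hW => hW.1)

lemma range_incl : Set.range (incl G).left = Z0 G := by
  rw [← iInter_clopens]
  exact range_clopenIdeal (clopens G) (fun _ hW => hW.1)

instance : Mono (incl G) := by
  haveI : Mono (incl G).left := inferInstance
  exact Over.mono_of_mono_left _

variable {G}

lemma exists_lift_G0 {T' : Over (Spec (CommRingCat.of K))} (f : T' ⟶ G)
    (h : Set.range f.left ⊆ Z0 G) : ∃ f' : T' ⟶ G0 G, f' ≫ incl G = f := by
  obtain ⟨f', hf'⟩ := exists_lift_of_flat_closedImmersion (incl G).left f.left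
    (by rw [range_incl]; exact h)
  refine ⟨Over.homMk f' ?_, ?_⟩
  · rw [← Over.w (incl G), ← Category.assoc, hf']
    exact Over.w f
  · ext; exact hf'

lemma inv_mem_Z0 {g : G.left} (hg : g ∈ Z0 G) : ι[G].left g ∈ Z0 G := by
  have hS : IsIrreducible (ι[G].left '' Z0 G) :=
    (isIrreducible_Z0 G).image _ ι[G].left.continuous.continuousOn
  have he : ept G ∈ ι[G].left '' Z0 G := by
    refine ⟨ept G, ept_mem_Z0 G, ?_⟩
    rw [ept, ← Scheme.Hom.comp_apply, ← Over.comp_left, GrpObj.one_inv]
  exact subset_Z0_of_irreducible G hS he (ept_mem_Z0 G) ⟨g, hg, rfl⟩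

variable (G)

theorem exists_identityComponent :
    ∃ (G₀ : Over (Spec (CommRingCat.of K))) (_ : GrpObj G₀) (i : G₀ ⟶ G), IsMonHom i ∧
      IsClosedImmersion i.left ∧ Flat i.left ∧ Set.range i.left = Z0 G ∧
      GeometricallyIrreducible G₀.hom ∧ CompactSpace G₀.left := by
  obtain ⟨mul', hm⟩ := exists_lift_G0 ((incl G ⊗ₘ incl G) ≫ μ[G]) (by
    rintro _ ⟨z, rfl⟩
    rw [Over.comp_left, Scheme.Hom.comp_apply]
    apply mul_mem_Z0
    · rw [← Scheme.Hom.comp_apply, ← Over.comp_left, tensorHom_fst, Over.comp_left,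
        Scheme.Hom.comp_apply, ← range_incl]
      exact ⟨_, rfl⟩
    · rw [← Scheme.Hom.comp_apply, ← Over.comp_left, tensorHom_snd, Over.comp_left,
        Scheme.Hom.comp_apply, ← range_incl]
      exact ⟨_, rfl⟩)
  obtain ⟨inv', hi⟩ := exists_lift_G0 (incl G ≫ ι[G]) (by
    rintro _ ⟨z, rfl⟩
    rw [Over.comp_left, Scheme.Hom.comp_apply]
    apply inv_mem_Z0
    rw [← range_incl]; exact ⟨_, rfl⟩)
  obtain ⟨one', h1⟩ := exists_lift_G0 (η[G]) (by
    rintro _ ⟨z, rfl⟩
    rw [eta_apply]; exact ept_mem_Z0 G)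
  letI inst : GrpObj (G0 G) :=
    Groth.Agent.Lib.Helper4.SchClosGrp1.grpObjOfMono (incl G) one' mul' inv' h1 hm hi
  refine ⟨G0 G, inst, incl G, ⟨h1, hm⟩, inferInstance, inferInstance, range_incl G, ?_, ?_⟩
  · -- geometric irreducibility
    obtain ⟨Z', i', hci, hirr, r⟩ := exists_closedImmersion_of_irreducible (Z0 G) (isClosed_Z0 G)
      (isIrreducible_Z0 G)
    have gi : GeometricallyIrreducible (i' ≫ G.hom) :=
      Groth.Agent.Lib.Helper4.GrpIrr2.S7517_main K G Z' i'
        (by rw [r]; exact irreducibleComponent_mem_irreducibleComponents _)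
        (by rw [r]; exact ept_mem_Z0 G)
    have h2 := (Groth.Agent.Lib.Helper4.GI2Sch1.geometricallyIrreducible_comp_iff i' G.hom).mp gi
    rw [r, ← range_incl G] at h2
    exact (Groth.Agent.Lib.Helper4.GI2Sch1.geometricallyIrreducible_comp_iff
      (incl G).left G.hom).mpr h2
  · -- compactness
    have hc : IsCompact ((incl G).left ⁻¹' Z0 G) :=
      (incl G).left.isClosedEmbedding.isCompact_preimage isCompact_Z0
    have : (incl G).left ⁻¹' Z0 G = Set.univ := by
      rw [← range_incl G]; exact Set.preimage_range _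
    rw [this] at hc
    exact ⟨hc⟩

theorem main_S7520 (K : Type u) [Field K] (G : Over (Spec (CommRingCat.of K))) [GrpObj G] :
    ∃ (G₀ : Over (Spec (CommRingCat.of K))) (_ : GrpObj G₀) (incl : G₀ ⟶ G) (_ : IsMonHom incl),
      IsClosedImmersion incl.left ∧ Flat incl.left ∧
      Set.range ⇑incl.left = connectedComponent (η[G].left (IsLocalRing.closedPoint K)) ∧
      GeometricallyIrreducible G₀.hom ∧ CompactSpace ↥G₀.left := by
  obtain ⟨G₀, inst, i, h1, h2, h3, h4, h5, h6⟩ := exists_identityComponent G
  refine ⟨G₀, inst, i, h1, h2, h3, ?_, h5, h6⟩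
  rw [h4, ← connectedComponent_ept]; rfl

theorem main_S3023 (k : Type u) [Field k] (G : Over (Spec (CommRingCat.of k))) [GrpObj G] :
    ∃ (G0 : Over (Spec (CommRingCat.of k))) (_ : GrpObj G0) (i : G0 ⟶ G), IsMonHom i ∧
      IsClosedImmersion i.left ∧ Flat i.left ∧
      (∀ pt : ↥(𝟙_ (Over (Spec (CommRingCat.of k)))).left,
        Set.range i.left.base = connectedComponent (η[G].left.base pt)) := by
  obtain ⟨G₀, inst, i, h1, h2, h3, h4, -, -⟩ := exists_identityComponent G
  refine ⟨G₀, inst, i, h1, h2, h3, fun pt => ?_⟩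
  have : η[G].left.base pt = ept G := eta_apply G pt
  rw [this, connectedComponent_ept]
  exact h4

end Groth.Agent.Lib.Helper4.GrpConn2
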