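import Mathlib
import Groth.Prelude.Def_AlgGrp
import Groth.Prelude.Def_SGA7IX
import Groth.Agent.Lib.Helper4.FreeActQuot1
import Groth.Agent.Lib.Helper4.QuotExt1
import Groth.Agent.Lib.Helper4.FlatClosed1
import Groth.Agent.Lib.Helper6.FlatQ.QuotGrp
import Groth.Agent.S5353
import Groth.Agent.S3023

/-!
# Quotient of a group scheme by a finite locally free radicial normal subgroup scheme, as a group scheme (helper4)
-/

set_option backward.isDefEq.respectTransparency.types false
set_option synthInstance.maxHeartbeats 400000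
set_option autoImplicit false
set_option linter.unusedSectionVars false
set_option linter.style.haveILetI false
set_option linter.unusedSimpArgs false
universe u v w
open CategoryTheory CategoryTheory.Limits AlgebraicGeometry TopologicalSpace Opposite
open MonoidalCategory CartesianMonoidalCategory MonObj GrpObj
open Groth.Agent.Lib.Helper4.ActGpd1 Groth.Agent.Lib.Helper4.GrpdQuotMono1
open Groth.Agent.Lib.Helper4.FreeActQuot1 Groth.Agent.Lib.Helper4.NormQuotSch1
open Groth.Agent.Lib.Helper4.QuotExt1 Groth.Agent.Lib.Helper4.FlatClosed1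
open Groth.Agent.Lib.Helper6.FlatQ

namespace Groth.Agent.Lib.Helper4.NormRadQuot1

section Gen

variable {C : Type w} [Category.{v} C]

/-- a commutative square is cartesian as soon as it is so on `T`-points -/
theorem isPullback_of_points {P X Y Z : C} (fst : P ⟶ X) (snd : P ⟶ Y) (f : X ⟶ Z) (g : Y ⟶ Z)
    (w : fst ≫ f = snd ≫ g)
    (hex : ∀ {T : C} (a : T ⟶ X) (b : T ⟶ Y), a ≫ f = b ≫ g →
      ∃ c : T ⟶ P, c ≫ fst = a ∧ c ≫ snd = b)
    (huniq : ∀ {T : C} (c c' : T ⟶ P), c ≫ fst = c' ≫ fst → c ≫ snd = c' ≫ snd → c = c') :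
    IsPullback fst snd f g := by
  refine ⟨⟨w⟩, ⟨PullbackCone.IsLimit.mk w (fun s => (hex s.fst s.snd s.condition).choose)
    (fun s => (hex s.fst s.snd s.condition).choose_spec.1)
    (fun s => (hex s.fst s.snd s.condition).choose_spec.2) ?_⟩⟩
  intro s m h1 h2
  exact huniq _ _ (h1.trans (hex s.fst s.snd s.condition).choose_spec.1.symm)
    (h2.trans (hex s.fst s.snd s.condition).choose_spec.2.symm)

end Gen

section Sch

/-- a morphism with a surjective section is universally injective -/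
theorem univInj_of_section {X Y : Scheme.{u}} (p : X ⟶ Y) (e : Y ⟶ X) (he : e ≫ p = 𝟙 Y)
    [Surjective e] : UniversallyInjective p := by
  refine ⟨fun X' Y' i₁ i₂ f' h => ?_⟩
  obtain ⟨s', hs1, hs2⟩ : ∃ s' : Y' ⟶ X', s' ≫ f' = 𝟙 Y' ∧ s' ≫ i₁ = i₂ ≫ e :=
    ⟨h.lift (𝟙 Y') (i₂ ≫ e) (by rw [Category.id_comp, Category.assoc, he, Category.comp_id]),
      h.lift_fst _ _ _, h.lift_snd _ _ _⟩
  have hpb : IsPullback s' i₂ i₁ e := by
    refine IsPullback.of_right ?_ hs2 h
    rw [hs1, he]
    exact IsPullback.of_id_fst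
  haveI : Surjective s' := MorphismProperty.of_isPullback (P := @Surjective) hpb.flip inferInstance
  intro x₁ x₂ hx
  obtain ⟨y₁, rfl⟩ := s'.surjective x₁
  obtain ⟨y₂, rfl⟩ := s'.surjective x₂
  have e1 : f' (s' y₁) = y₁ := by
    rw [← Scheme.Hom.comp_apply, hs1]
    rfl
  have e2 : f' (s' y₂) = y₂ := by
    rw [← Scheme.Hom.comp_apply, hs1]
    rfl
  have hx' : f' (s' y₁) = f' (s' y₂) := hx
  rw [e1, e2] at hx'
  rw [hx']

/-- a flat closed immersion with open range is an open immersion -/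
theorem isOpenImmersion_of_flat_closed {Z X : Scheme.{u}} (i : Z ⟶ X) [IsClosedImmersion i]
    [Flat i] (ho : IsOpen (Set.range i)) : IsOpenImmersion i := by
  let U : X.Opens := ⟨Set.range i, ho⟩
  obtain ⟨l, hl⟩ := exists_lift_of_flat_closedImmersion i U.ι (by
    rw [Scheme.Opens.range_ι]
    exact fun x hx => hx)
  have hr : Set.range i ⊆ Set.range U.ι := by
    rw [Scheme.Opens.range_ι]
    exact fun x hx => hx
  obtain ⟨l', hl'⟩ : ∃ l' : Z ⟶ U, l' ≫ U.ι = i :=
    ⟨IsOpenImmersion.lift U.ι i hr, IsOpenImmersion.lift_fac _ _ _⟩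
  haveI : Mono i := inferInstance
  haveI : IsIso l' := ⟨l, by rw [← cancel_mono i, Category.assoc, hl, hl', Category.id_comp],
    by rw [← cancel_mono U.ι, Category.assoc, hl', hl, Category.id_comp]⟩
  rw [← hl']
  infer_instance

end Sch

section Quot

variable {S : Scheme.{u}}

/-- the strengthened quotient by a free action of a finite locally free radicial group -/
theorem exists_quot_sch (G X : Over S) [GrpObj G]
    (a : AlgGrp.Action G X) (hG : Mor2.IsFinLocFree G.hom)
    (hfree : ∀ (T : Over S) (g : T ⟶ G) (x : T ⟶ X), lift g x ≫ a.act = x → g = toUnit T ≫ η[G])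
    (h3 : UniversallyInjective G.hom) :
    ∃ (M : Over S) (q : X ⟶ M), IsPullback a.act (snd G X) q q ∧
      IsFinite q.left ∧ Flat q.left ∧ LocallyOfFinitePresentation q.left ∧ Surjective q.left := by
  obtain ⟨h1, h2, h3'⟩ := hG
  haveI := h1
  haveI := h2
  haveI := h3'
  haveI hsf : IsFinite (snd G X).left := by rw [Over.snd_left]; infer_instance
  haveI hsfl : Flat (snd G X).left := by rw [Over.snd_left]; infer_instance
  haveI hsfp : LocallyOfFinitePresentation (snd G X).left := by rw [Over.snd_left]; infer_instance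
  let Gd := actGpd a hfree
  haveI : IsFinite Gd.s := hsf
  haveI : Flat Gd.s := hsfl
  haveI : LocallyOfFinitePresentation Gd.s := hsfp
  haveI : Mono Gd.j := by
    constructor
    intro T α β hab
    have e1 : Gd.j ≫ pullback.fst Gd.pU Gd.pU = Gd.t := pullback.lift_fst _ _ _
    have e2 : Gd.j ≫ pullback.snd Gd.pU Gd.pU = Gd.s := pullback.lift_snd _ _ _
    have ht : α ≫ Gd.t = β ≫ Gd.t := by
      rw [← e1, ← Category.assoc, ← Category.assoc, hab]
    have hs : α ≫ Gd.s = β ≫ Gd.s := by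
      rw [← e2, ← Category.assoc, ← Category.assoc, hab]
    exact act_hext a hfree α β ht hs
  have hb : ∀ x : Gd.U, ∃ V : Gd.U.Opens, IsAffineOpen V ∧
      Gd.t.base '' (Gd.s.base ⁻¹' {x}) ⊆ (V : Set Gd.U) := by
    haveI := h3
    exact hb_radicial a
  obtain ⟨Y, p, w, ⟨hc⟩, hpb, hfin, hflat, hlfp, hsurj⟩ := main_mono Gd hb
  have wS : Gd.t ≫ Gd.pU = Gd.s ≫ Gd.pU := Gd.t_over.trans Gd.s_over.symm
  let qS : Y ⟶ S := Cofork.IsColimit.desc hc Gd.pU wS
  have hqS : p ≫ qS = X.hom := Cofork.IsColimit.π_desc' hc Gd.pU wS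
  let m : X ⟶ Over.mk qS := Over.homMk p hqS
  have hpb' : IsPullback a.act.left (snd G X).left p p := hpb
  have hkp : IsPullback (snd G X) a.act m m := by
    apply IsPullback.of_map (Over.forget S)
    · ext
      exact w.symm
    · exact hpb'.flip
  exact ⟨Over.mk qS, m, hkp.flip, hfin, hflat, hlfp, hsurj⟩

theorem isDesc_of_fpqc {X Y : Over S} (p : X ⟶ Y) [Flat p.left] [Surjective p.left]
    [QuasiCompact p.left] : IsDesc p := by
  haveI : EffectiveEpi p.left := inferInstance
  have hepi : Epi p.left := inferInstance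
  refine ⟨Over.epi_of_epi_left p, ?_⟩
  intro W f hf
  have hcond : ∀ {Z : Scheme.{u}} (g₁ g₂ : Z ⟶ X.left), g₁ ≫ p.left = g₂ ≫ p.left →
      g₁ ≫ f.left = g₂ ≫ f.left := by
    intro Z g₁ g₂ hg
    have h2 : g₂ ≫ X.hom = g₁ ≫ X.hom := by
      rw [← Over.w p, ← Category.assoc, ← hg, Category.assoc]
    let T : Over S := Over.mk (g₁ ≫ X.hom)
    let a : T ⟶ X := Over.homMk g₁ rfl
    let b : T ⟶ X := Over.homMk g₂ h2
    have := hf a b (Over.OverMorphism.ext hg)
    exact congrArg (fun z => z.left) this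
  let f' := EffectiveEpi.desc p.left f.left hcond
  have hfac : p.left ≫ f' = f.left := EffectiveEpi.fac p.left f.left hcond
  have hw : f' ≫ W.hom = Y.hom := by
    rw [← cancel_epi p.left, ← Category.assoc, hfac, Over.w f, Over.w p]
  exact ⟨Over.homMk f' hw, Over.OverMorphism.ext hfac⟩

variable {G N0 : Over S} [GrpObj G] [GrpObj N0] (u : N0 ⟶ G) [IsMonHom u]

/-- pointwise left translation -/
noncomputable def actPt {T : Over S} (n : T ⟶ N0) (g : T ⟶ G) : T ⟶ G := (n ≫ u) * g

lemma comp_actPt {T T' : Over S} (f : T' ⟶ T) (n : T ⟶ N0) (g : T ⟶ G) :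
    f ≫ actPt u n g = actPt u (f ≫ n) (f ≫ g) := by
  unfold actPt
  rw [MonObj.comp_mul, Category.assoc]

lemma actPt_one {T : Over S} (g : T ⟶ G) : actPt u (1 : T ⟶ N0) g = g := by
  unfold actPt
  rw [MonObj.one_comp, _root_.one_mul]

lemma actPt_mul {T : Over S} (a b : T ⟶ N0) (g : T ⟶ G) :
    actPt u (a * b) g = actPt u a (actPt u b g) := by
  unfold actPt
  rw [MonObj.mul_comp, _root_.mul_assoc]

/-- left translation as a morphism -/
noncomputable def actMor : N0 ⊗ G ⟶ G := actPt u (fst N0 G) (snd N0 G)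

lemma lift_actMor {T : Over S} (n : T ⟶ N0) (g : T ⟶ G) :
    lift n g ≫ actMor u = actPt u n g := by
  unfold actMor
  rw [comp_actPt, lift_fst, lift_snd]

/-- the left translation action of a subgroup -/
noncomputable def ltAct : AlgGrp.Action N0 G where
  act := actMor u
  one_act := by
    unfold actMor
    rw [comp_actPt, whiskerRight_fst, whiskerRight_snd, leftUnitor_hom]
    have h1 : fst (𝟙_ (Over S)) G ≫ η[N0] = 1 := by
      rw [Hom.one_def, toUnit_unique (fst (𝟙_ (Over S)) G) (toUnit _)]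
    rw [h1, actPt_one]
  mul_act := by
    unfold actMor
    rw [comp_actPt, whiskerRight_fst, whiskerRight_snd]
    rw [← Category.assoc, comp_actPt]
    rw [Category.assoc, whiskerLeft_fst, associator_hom_fst, Category.assoc, whiskerLeft_snd,
      ← Category.assoc, comp_actPt]
    simp only [Category.assoc, associator_hom_snd_fst, associator_hom_snd_snd]
    rw [← actPt_mul]
    congr 1
    rw [Hom.mul_def]
    congr 1
    apply CartesianMonoidalCategory.hom_ext
    · rw [lift_fst]
    · rw [lift_snd]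

lemma ltAct_act : (ltAct u).act = actMor u := rfl

theorem ltAct_free [Mono u] (T : Over S) (n : T ⟶ N0) (x : T ⟶ G)
    (h : lift n x ≫ (ltAct u).act = x) : n = toUnit T ≫ η[N0] := by
  rw [ltAct_act, lift_actMor] at h
  unfold actPt at h
  have h2 : n ≫ u = 1 := by
    have : (n ≫ u) * x = 1 * x := by rw [h, _root_.one_mul]
    exact mul_right_cancel this
  rw [← Hom.one_def, ← cancel_mono u, h2, MonObj.one_comp]

/-- the quotient of a group scheme by a finite locally free radicial normal subgroup scheme -/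
theorem exists_quot [Mono u] (hN : AlgGrp.IsNormalHom u) (hfl : Mor2.IsFinLocFree N0.hom)
    (hui : UniversallyInjective N0.hom) :
    ∃ (Q : Over S) (_ : GrpObj Q) (q : G ⟶ Q), IsMonHom q ∧ AlgGrp.IsKernel u q ∧
      IsFinite q.left ∧ Flat q.left ∧ LocallyOfFinitePresentation q.left ∧ Surjective q.left := by
  obtain ⟨Q, q, hpb, hfin, hflat, hlfp, hsurj⟩ :=
    exists_quot_sch N0 G (ltAct u) hfl (ltAct_free u) hui
  haveI := hfin
  haveI := hflat
  haveI := hlfp
  haveI := hsurj
  haveI hqc : QuasiCompact q.left := inferInstance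
  have hw : actMor u ≫ q = snd N0 G ≫ q := hpb.w
  have hfib : ∀ {T : Over S} (a b : T ⟶ G), a ≫ q = b ≫ q ↔ ∃ h : T ⟶ N0, a = b * (h ≫ u) := by
    intro T a b
    constructor
    · intro hab
      obtain ⟨z, h1, h2⟩ : ∃ z : T ⟶ N0 ⊗ G, z ≫ actMor u = a ∧ z ≫ snd N0 G = b :=
        ⟨hpb.lift a b hab, hpb.lift_fst _ _ _, hpb.lift_snd _ _ _⟩
      have h3 : a = ((z ≫ fst N0 G) ≫ u) * b := by
        rw [← h1, ← h2]
        unfold actMor
        rw [comp_actPt]
        rfl
      obtain ⟨n', hn'⟩ := hN T b⁻¹ (z ≫ fst N0 G)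
      rw [_root_.inv_inv] at hn'
      refine ⟨n', ?_⟩
      rw [h3, ← hn']
      group
    · rintro ⟨h, rfl⟩
      obtain ⟨n', hn'⟩ := hN T b h
      have h1 : b * (h ≫ u) = actPt u n' b := by
        unfold actPt
        rw [← hn']
        group
      rw [h1, ← lift_actMor, Category.assoc, hw, lift_snd_assoc]
  have d1 := isDesc_of_fpqc q
  haveI : Flat (q ⊗ₘ q).left := prop_tensorHom' @Flat q q hflat hflat
  haveI : Surjective (q ⊗ₘ q).left := prop_tensorHom' @Surjective q q hsurj hsurj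
  haveI : QuasiCompact (q ⊗ₘ q).left := prop_tensorHom' @QuasiCompact q q hqc hqc
  have d2 := isDesc_of_fpqc (q ⊗ₘ q)
  haveI : Flat ((q ⊗ₘ q) ⊗ₘ q).left := prop_tensorHom' @Flat (q ⊗ₘ q) q inferInstance hflat
  haveI : Surjective ((q ⊗ₘ q) ⊗ₘ q).left :=
    prop_tensorHom' @Surjective (q ⊗ₘ q) q inferInstance hsurj
  haveI : QuasiCompact ((q ⊗ₘ q) ⊗ₘ q).left :=
    prop_tensorHom' @QuasiCompact (q ⊗ₘ q) q inferInstance hqc
  have d3 := isDesc_of_fpqc ((q ⊗ₘ q) ⊗ₘ q)
  obtain ⟨instQ, hqm, -⟩ := exists_grpObj_quot u q @hfib (fun g n => hN _ g n) d1 d2 d3.epi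
  refine ⟨Q, instQ, q, hqm, ?_, hfin, hflat, hlfp, hsurj⟩
  unfold AlgGrp.IsKernel
  refine isPullback_of_points u (toUnit N0) q η[Q] ?_ ?_ ?_
  · have := (hfib u (1 : N0 ⟶ G)).mpr ⟨𝟙 N0, by rw [Category.id_comp, _root_.one_mul]⟩
    rw [this, MonObj.one_comp, Hom.one_def]
  · intro T a b hab
    have h1 : a ≫ q = (1 : T ⟶ G) ≫ q := by
      rw [hab, MonObj.one_comp, Hom.one_def, toUnit_unique b (toUnit T)]
    obtain ⟨h, hh⟩ := (hfib a 1).mp h1
    refine ⟨h, ?_, toUnit_unique _ _⟩
    rw [hh, _root_.one_mul]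
  · intro T c c' h1 _
    exact (cancel_mono u).mp h1

end Quot

end Groth.Agent.Lib.Helper4.NormRadQuot1
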