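import Mathlib
import Groth.Agent.Lib.Helper4.NormRadQuot1

/-!
# The action of the quotient by the kernel of an action: existence, uniqueness, faithfulness, same homogeneity (helper4)
-/

set_option backward.isDefEq.respectTransparency.types false
set_option synthInstance.maxHeartbeats 400000
set_option autoImplicit false
set_option linter.unusedSectionVars false
set_option linter.style.haveILetI false
set_option linter.unusedSimpArgs false
universe u v w
open CategoryTheory CategoryTheory.Limits AlgebraicGeometry TopologicalSpace Opposite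
open MonoidalCategory CartesianMonoidalCategory MonObj GrpObj
open Groth.Agent.Lib.Helper4.ActGpd1 Groth.Agent.Lib.Helper4.NormQuotSch1
open Groth.Agent.Lib.Helper4.QuotExt1 Groth.Agent.Lib.Helper6.FlatQ
open Groth.Agent.Lib.Helper4.NormRadQuot1

namespace Groth.Agent.Lib.Helper4.ActKerQuot1

section Gen

variable {S : Scheme.{u}} {G N Q X : Over S} [GrpObj G] [GrpObj N] [GrpObj Q]

theorem action_ext (b b' : AlgGrp.Action Q X) (h : b.act = b'.act) : b = b' := by
  obtain ⟨act, h1, h2⟩ := b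
  obtain ⟨act', h1', h2'⟩ := b'
  have : act = act' := h
  subst this
  rfl

/-- base change properties of `π ▷ X` -/
theorem whisker_props {A B : Over S} (π : A ⟶ B) (X : Over S) [Flat π.left] [Surjective π.left]
    [QuasiCompact π.left] :
    Flat (π ▷ X).left ∧ Surjective (π ▷ X).left ∧ QuasiCompact (π ▷ X).left := by
  have e : π ▷ X = π ⊗ₘ 𝟙 X := (tensorHom_id π X).symm
  rw [e]
  refine ⟨prop_tensorHom' @Flat π (𝟙 X) inferInstance ?_,
    prop_tensorHom' @Surjective π (𝟙 X) inferInstance ?_,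
    prop_tensorHom' @QuasiCompact π (𝟙 X) inferInstance ?_⟩
  · rw [Over.id_left]; infer_instance
  · rw [Over.id_left]; infer_instance
  · rw [Over.id_left]; infer_instance

variable (a : AlgGrp.Action G X) (n : N ⟶ G) [IsMonHom n] (π : G ⟶ Q) [IsMonHom π]

theorem const_on_fibres' (hker : AlgGrp.IsKernel n π)
    (hN1 : ∀ (T : Over S) (m : T ⟶ N) (x : T ⟶ X), lift (m ≫ n) x ≫ a.act = x)
    {T : Over S} (g g' : T ⟶ G) (x : T ⟶ X) (h : g ≫ π = g' ≫ π) :
    lift g x ≫ a.act = lift g' x ≫ a.act := by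
  have h3 : (g⁻¹ * g') ≫ π = 1 := by
    have e2 := map_mul (postHom T π) g⁻¹ g'
    have e3 := map_inv (postHom T π) g
    simp only [postHom_apply] at e2 e3
    rw [e2, e3, h, _root_.inv_mul_cancel]
  obtain ⟨m, hm⟩ := exists_of_comp_eq_one π n hker _ h3
  have h4 : g' = g * (m ≫ n) := by
    rw [hm]
    group
  rw [h4, act_mul, hN1]

theorem const_on_fibres (hker : AlgGrp.IsKernel n π)
    (hN1 : ∀ (T : Over S) (m : T ⟶ N) (x : T ⟶ X), lift (m ≫ n) x ≫ a.act = x)
    {T : Over S} (α β : T ⟶ G ⊗ X) (h : α ≫ (π ▷ X) = β ≫ (π ▷ X)) :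
    α ≫ a.act = β ≫ a.act := by
  have h1 : (α ≫ fst G X) ≫ π = (β ≫ fst G X) ≫ π := by
    have := congrArg (fun z => z ≫ fst Q X) h
    simpa only [Category.assoc, whiskerRight_fst] using this
  have h2 : α ≫ snd G X = β ≫ snd G X := by
    have := congrArg (fun z => z ≫ snd Q X) h
    simpa only [Category.assoc, whiskerRight_snd] using this
  have e := const_on_fibres' a n π hker hN1 (α ≫ fst G X) (β ≫ fst G X) (α ≫ snd G X) h1
  rw [lift_fst_snd' α, h2, lift_fst_snd' β] at e
  exact e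

variable [Flat π.left] [Surjective π.left] [QuasiCompact π.left]

theorem exists_act (hker : AlgGrp.IsKernel n π)
    (hN1 : ∀ (T : Over S) (m : T ⟶ N) (x : T ⟶ X), lift (m ≫ n) x ≫ a.act = x) :
    ∃ b : AlgGrp.Action Q X, (π ▷ X) ≫ b.act = a.act := by
  obtain ⟨hf, hs, hq⟩ := whisker_props π X
  haveI := hf
  haveI := hs
  haveI := hq
  have d := isDesc_of_fpqc (π ▷ X)
  obtain ⟨bact, hb⟩ := d.desc a.act (fun α β h => const_on_fibres a n π hker hN1 α β h)
  have hbpt : ∀ {T : Over S} (g : T ⟶ G) (x : T ⟶ X),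
      lift (g ≫ π) x ≫ bact = lift g x ≫ a.act := by
    intro T g x
    rw [← hb, ← Category.assoc, lift_whiskerRight]
  have hL : ∀ {T : Over S} (p1 p2 : T ⟶ G) (p3 : T ⟶ X),
      lift (lift (p1 ≫ π) (p2 ≫ π)) p3 ≫ (μ[Q] ▷ X) ≫ bact =
        lift p1 (lift p2 p3 ≫ a.act) ≫ a.act := by
    intro T p1 p2 p3
    rw [lift_whiskerRight_assoc, ← Hom.mul_def, ← MonObj.mul_comp, hbpt, act_mul]
  have hR : ∀ {T : Over S} (p1 p2 : T ⟶ G) (p3 : T ⟶ X),
      lift (lift (p1 ≫ π) (p2 ≫ π)) p3 ≫ (α_ Q Q X).hom ≫ (Q ◁ bact) ≫ bact =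
        lift p1 (lift p2 p3 ≫ a.act) ≫ a.act := by
    intro T p1 p2 p3
    rw [lift_lift_associator_hom_assoc, lift_whiskerLeft_assoc, hbpt, hbpt]
  refine ⟨⟨bact, ?_, ?_⟩, hb⟩
  · rw [← IsMonHom.one_hom π, comp_whiskerRight, Category.assoc, hb, a.one_act]
  · haveI : Flat (π ⊗ₘ π).left := prop_tensorHom' @Flat π π inferInstance inferInstance
    haveI : Surjective (π ⊗ₘ π).left := prop_tensorHom' @Surjective π π inferInstance inferInstance
    haveI : QuasiCompact (π ⊗ₘ π).left :=
      prop_tensorHom' @QuasiCompact π π inferInstance inferInstance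
    obtain ⟨hf2, hs2, hq2⟩ := whisker_props (π ⊗ₘ π) X
    haveI := hf2
    haveI := hs2
    haveI := hq2
    haveI : Epi ((π ⊗ₘ π) ▷ X) := (isDesc_of_fpqc ((π ⊗ₘ π) ▷ X)).epi
    have hE : (π ⊗ₘ π) ▷ X = lift (lift ((fst (G ⊗ G) X ≫ fst G G) ≫ π)
        ((fst (G ⊗ G) X ≫ snd G G) ≫ π)) (snd (G ⊗ G) X) := by
      apply CartesianMonoidalCategory.hom_ext
      · rw [whiskerRight_fst, lift_fst]
        apply CartesianMonoidalCategory.hom_ext
        · rw [Category.assoc, tensorHom_fst, lift_fst, Category.assoc]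
        · rw [Category.assoc, tensorHom_snd, lift_snd, Category.assoc]
      · rw [whiskerRight_snd, lift_snd]
    rw [← cancel_epi ((π ⊗ₘ π) ▷ X), hE, hL, hR]

theorem main (hker : AlgGrp.IsKernel n π)
    (hN : ∀ (T : Over S) (g : T ⟶ G), (∃ m : T ⟶ N, m ≫ n = g) ↔
      ∀ (T' : Over S) (s : T' ⟶ T) (x : T' ⟶ X), lift (s ≫ g) x ≫ a.act = x) :
    (∃! b : AlgGrp.Action Q X, (π ▷ X) ≫ b.act = a.act) ∧
    ∀ b : AlgGrp.Action Q X, (π ▷ X) ≫ b.act = a.act →
      (∀ (T : Over S) (q : T ⟶ Q),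
        (∀ (T' : Over S) (s : T' ⟶ T) (x : T' ⟶ X), lift (s ≫ q) x ≫ b.act = x) → q = 1) ∧
      (Surjective (lift (snd G X) a.act).left ↔ Surjective (lift (snd Q X) b.act).left) ∧
      (IsDominant (lift (snd G X) a.act).left ↔ IsDominant (lift (snd Q X) b.act).left) := by
  have hN1 : ∀ (T : Over S) (m : T ⟶ N) (x : T ⟶ X), lift (m ≫ n) x ≫ a.act = x := by
    intro T m x
    have := (hN T (m ≫ n)).mp ⟨m, rfl⟩ T (𝟙 T) x
    rwa [Category.id_comp] at this
  obtain ⟨hf, hs, hq⟩ := whisker_props π X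
  haveI := hf
  haveI := hs
  haveI := hq
  haveI : Epi (π ▷ X) := (isDesc_of_fpqc (π ▷ X)).epi
  refine ⟨?_, ?_⟩
  · obtain ⟨b, hb⟩ := exists_act a n π hker hN1
    refine ⟨b, hb, ?_⟩
    intro b' hb'
    apply action_ext
    rw [← cancel_epi (π ▷ X), hb, hb']
  · intro b hb
    have hbpt : ∀ {T : Over S} (g : T ⟶ G) (x : T ⟶ X),
        lift (g ≫ π) x ≫ b.act = lift g x ≫ a.act := by
      intro T g x
      rw [← hb, ← Category.assoc, lift_whiskerRight]
    refine ⟨?_, ?_, ?_⟩
    · intro T q hq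
      have hpbL : IsPullback (pullback.fst q π).left (pullback.snd q π).left q.left π.left :=
        (IsPullback.of_hasPullback q π).map (Over.forget S)
      haveI : Flat (pullback.fst q π).left :=
        MorphismProperty.of_isPullback (P := @Flat) hpbL.flip inferInstance
      haveI : Surjective (pullback.fst q π).left :=
        MorphismProperty.of_isPullback (P := @Surjective) hpbL.flip inferInstance
      haveI : QuasiCompact (pullback.fst q π).left :=
        MorphismProperty.of_isPullback (P := @QuasiCompact) hpbL.flip inferInstance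
      haveI : Epi (pullback.fst q π) := (isDesc_of_fpqc (pullback.fst q π)).epi
      have hg : ∀ (T' : Over S) (s : T' ⟶ pullback q π) (x : T' ⟶ X),
          lift (s ≫ pullback.snd q π) x ≫ a.act = x := by
        intro T' s x
        rw [← hbpt, Category.assoc, ← pullback.condition, ← Category.assoc]
        exact hq T' (s ≫ pullback.fst q π) x
      obtain ⟨m, hm⟩ := (hN _ (pullback.snd q π)).mpr hg
      have h1 : pullback.snd q π ≫ π = 1 := by
        rw [← hm]
        exact comp_eq_one_of_isKernel π n hker m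
      rw [← cancel_epi (pullback.fst q π), pullback.condition, h1, MonObj.comp_one]
    · have hΓ : lift (snd G X) a.act = (π ▷ X) ≫ lift (snd Q X) b.act := by
        rw [comp_lift, whiskerRight_snd, hb]
      rw [hΓ, Over.comp_left]
      exact Surjective.comp_iff _ _
    · have hΓ : lift (snd G X) a.act = (π ▷ X) ≫ lift (snd Q X) b.act := by
        rw [comp_lift, whiskerRight_snd, hb]
      rw [hΓ, Over.comp_left]
      exact IsDominant.comp_iff _ _

end Gen

section Field

theorem main_field (k : Type u) [Field k]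
    (G N Q X : Over (Spec (CommRingCat.of k))) [GrpObj G] [QuasiCompact G.hom]
    (a : AlgGrp.Action G X)
    [GrpObj N] (n : N ⟶ G) [IsMonHom n]
    (hN : ∀ (T : Over (Spec (CommRingCat.of k))) (g : T ⟶ G),
      (∃ m : T ⟶ N, m ≫ n = g) ↔
        ∀ (T' : Over (Spec (CommRingCat.of k))) (s : T' ⟶ T) (x : T' ⟶ X),
          lift (s ≫ g) x ≫ a.act = x)
    [GrpObj Q] [LocallyOfFiniteType Q.hom] (π : G ⟶ Q) [IsMonHom π] [Flat π.left]
    [Surjective π.left] (hker : AlgGrp.IsKernel n π) :
    (∃! b : AlgGrp.Action Q X, (π ▷ X) ≫ b.act = a.act) ∧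
    ∀ b : AlgGrp.Action Q X, (π ▷ X) ≫ b.act = a.act →
      (∀ (T : Over (Spec (CommRingCat.of k))) (q : T ⟶ Q),
        (∀ (T' : Over (Spec (CommRingCat.of k))) (s : T' ⟶ T) (x : T' ⟶ X),
          lift (s ≫ q) x ≫ b.act = x) → q = 1) ∧
      (Surjective (lift (snd G X) a.act).left ↔ Surjective (lift (snd Q X) b.act).left) ∧
      (IsDominant (lift (snd G X) a.act).left ↔ IsDominant (lift (snd Q X) b.act).left) := by
  haveI : CompactSpace G.left := QuasiCompact.compactSpace_of_compactSpace G.hom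
  haveI : IsLocallyNoetherian Q.left := LocallyOfFiniteType.isLocallyNoetherian Q.hom
  haveI : QuasiCompact π.left := inferInstance
  exact main a n π hker hN

end Field

end Groth.Agent.Lib.Helper4.ActKerQuot1
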