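import Mathlib
import Groth.Prelude.Def_AlgGrp
import Groth.Prelude.Def_SGA7a
import Groth.Agent.Lib.Helper7.SepPt.Main

/-!
# The torsor square N x G = G x_Q G for a kernel; smoothness of quotient maps with smooth kernel; separable points (helper4) (helper4)
-/

set_option backward.isDefEq.respectTransparency.types false
set_option synthInstance.maxHeartbeats 400000
set_option autoImplicit false
set_option linter.unusedSectionVars false
set_option linter.style.haveILetI false
set_option linter.unusedSimpArgs false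
universe u v w
open CategoryTheory CategoryTheory.Limits AlgebraicGeometry TopologicalSpace Opposite
open MonoidalCategory CartesianMonoidalCategory MonObj GrpObj

namespace Groth.Agent.Lib.Helper4.TorsorSq1

section Torsor
variable {S : Scheme.{u}} (N G Q : Over S) [GrpObj N] [GrpObj G] [GrpObj Q]
  (i : N ⟶ G) [IsMonHom i] (q : G ⟶ Q) [IsMonHom q]

/-- the action map `(n, g) ↦ i(n) g` -/
noncomputable def actMap : N ⊗ G ⟶ G := (i ▷ G) ≫ μ[G]

theorem lift_actMap {T : Over S} (x : T ⟶ N) (y : T ⟶ G) :
    lift x y ≫ actMap N G i = (x ≫ i) * y := by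
  unfold actMap
  rw [lift_whiskerRight_assoc, Hom.mul_def]

theorem actMap_eq : actMap N G i = (fst N G ≫ i) * snd N G := by
  rw [← lift_actMap, lift_fst_snd, Category.id_comp]

theorem mono_of_isKernel (h : AlgGrp.IsKernel i q) {T : Over S} (x y : T ⟶ N)
    (hxy : x ≫ i = y ≫ i) : x = y :=
  IsPullback.hom_ext h hxy (toUnit_unique _ _)

theorem actMap_comp (hker : AlgGrp.IsKernel i q) : actMap N G i ≫ q = snd N G ≫ q := by
  rw [actMap_eq, MonObj.mul_comp, Category.assoc, hker.w, ← Category.assoc,
    toUnit_unique (fst N G ≫ toUnit N) (toUnit (N ⊗ G)), ← Hom.one_def, _root_.one_mul]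

theorem torsor_existsUnique (hker : AlgGrp.IsKernel i q) {Z : Scheme.{u}} (g₁ g₂ : Z ⟶ G.left)
    (h : g₁ ≫ q.left = g₂ ≫ q.left) :
    ∃! ρ : Z ⟶ (N ⊗ G).left, ρ ≫ (snd N G).left = g₁ ∧ ρ ≫ (actMap N G i).left = g₂ := by
  have hw : g₂ ≫ G.hom = g₁ ≫ G.hom := by
    rw [← Over.w q, ← Category.assoc, ← h, Category.assoc]
  let ZO : Over S := Over.mk (g₁ ≫ G.hom)
  let a : ZO ⟶ G := Over.homMk g₁ rfl
  let b : ZO ⟶ G := Over.homMk g₂ hw
  have hab : a ≫ q = b ≫ q := Over.OverMorphism.ext h
  have hd : (b * a⁻¹) ≫ q = toUnit ZO ≫ η[Q] := by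
    rw [MonObj.mul_comp, GrpObj.inv_comp, hab, mul_inv_cancel]
    rfl
  obtain ⟨n, hn⟩ : ∃ n : ZO ⟶ N, n ≫ i = b * a⁻¹ :=
    ⟨hker.lift (b * a⁻¹) (toUnit ZO) hd, hker.lift_fst _ _ _⟩
  refine ⟨(lift n a).left, ⟨?_, ?_⟩, ?_⟩
  · show (lift n a ≫ snd N G).left = a.left
    rw [lift_snd]
  · have h1 : lift n a ≫ actMap N G i = b := by
      rw [lift_actMap, hn, inv_mul_cancel_right]
    show (lift n a ≫ actMap N G i).left = b.left
    rw [h1]
  · rintro ρ' ⟨h1, h2⟩
    have hρw : ρ' ≫ (N ⊗ G).hom = ZO.hom := by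
      rw [← Over.w (snd N G), ← Category.assoc, h1]
      rfl
    let ρO : ZO ⟶ N ⊗ G := Over.homMk ρ' hρw
    have e1 : ρO ≫ snd N G = a := Over.OverMorphism.ext h1
    have e2 : ρO ≫ actMap N G i = b := Over.OverMorphism.ext h2
    have e3 : ρO ≫ fst N G = n := by
      apply mono_of_isKernel N G Q i q hker
      rw [hn, ← e2, actMap_eq, MonObj.comp_mul, e1, mul_inv_cancel_right, Category.assoc]
    have e4 : ρO = lift n a := by
      apply CartesianMonoidalCategory.hom_ext
      · rw [e3, lift_fst]
      · rw [e1, lift_snd]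
    exact congrArg (fun t => t.left) e4

theorem isPullback_torsor (hker : AlgGrp.IsKernel i q) :
    IsPullback (snd N G).left (actMap N G i).left q.left q.left := by
  have hw : (snd N G).left ≫ q.left = (actMap N G i).left ≫ q.left := by
    have := congrArg (fun t => t.left) (actMap_comp N G Q i q hker)
    simpa using this.symm
  refine ⟨⟨hw⟩, ⟨PullbackCone.IsLimit.mk hw
    (fun s => (torsor_existsUnique N G Q i q hker s.fst s.snd s.condition).exists.choose)
    (fun s => (torsor_existsUnique N G Q i q hker s.fst s.snd s.condition).exists.choose_spec.1)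
    (fun s => (torsor_existsUnique N G Q i q hker s.fst s.snd s.condition).exists.choose_spec.2)
    (fun s m h1 h2 => ?_)⟩⟩
  exact (torsor_existsUnique N G Q i q hker s.fst s.snd s.condition).unique ⟨h1, h2⟩
    (torsor_existsUnique N G Q i q hker s.fst s.snd s.condition).exists.choose_spec

theorem smooth_of_smooth_kernel (hker : AlgGrp.IsKernel i q) [Smooth N.hom] [Surjective q.left]
    [Flat q.left] [QuasiCompact q.left] : Smooth q.left := by
  have H := isPullback_torsor N G Q i q hker
  haveI : Smooth (snd N G).left := by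
    show Smooth (pullback.snd N.hom G.hom)
    infer_instance
  exact MorphismProperty.of_isPullback_of_descendsAlong (P := @Smooth)
    (Q := @Surjective ⊓ @Flat ⊓ @QuasiCompact) H ⟨⟨inferInstance, inferInstance⟩, inferInstance⟩
    inferInstance

end Torsor

theorem main_S16063 (k : Type u) [Field k]
    (ks : Type u) [Field ks] [Algebra k ks] [IsSepClosure k ks]
    (N G Q : Over (Spec (CommRingCat.of k))) [GrpObj N] [GrpObj G] [GrpObj Q]
    [LocallyOfFiniteType N.hom] [QuasiCompact N.hom] [LocallyOfFiniteType G.hom] [QuasiCompact G.hom]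
    [LocallyOfFiniteType Q.hom] [QuasiCompact Q.hom]
    (i : N ⟶ G) [IsMonHom i] (q : G ⟶ Q) [IsMonHom q] [Flat q.left] [Surjective q.left]
    (hNG : AlgGrp.IsKernel i q) [Smooth N.hom] :
    ∀ x : SGA7.Pts ks Q, ∃ g : SGA7.Pts ks G, g ≫ q = x := by
  intro x
  haveI : IsLocallyNoetherian Q.left := LocallyOfFiniteType.isLocallyNoetherian Q.hom
  haveI : QuasiSeparatedSpace Q.left := inferInstance
  haveI : QuasiSeparated Q.hom := inferInstance
  haveI : QuasiCompact (q.left ≫ Q.hom) := by rw [Over.w q]; infer_instance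
  haveI : QuasiCompact q.left := QuasiCompact.of_comp q.left Q.hom
  haveI : Smooth q.left := smooth_of_smooth_kernel N G Q i q hNG
  haveI : IsSepClosed ks := IsSepClosure.sep_closed k
  -- the fibre
  let F := pullback q.left x.left
  haveI : Smooth (pullback.snd q.left x.left) := inferInstance
  haveI : Surjective (pullback.snd q.left x.left) := inferInstance
  haveI : Nonempty ↥(SGA7.pt (K := k) ks).left :=
    inferInstanceAs (Nonempty ↥(Spec (CommRingCat.of ks)))
  obtain ⟨z, -⟩ := (pullback.snd q.left x.left).surjective (Classical.arbitrary _)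
  obtain ⟨z', hz'⟩ := F.affineCover.covers z
  haveI : Nonempty (F.affineCover.X (F.affineCover.idx z)) := ⟨z'⟩
  haveI : Smooth (F.affineCover.f (F.affineCover.idx z) ≫ pullback.snd q.left x.left) :=
    inferInstance
  obtain ⟨s, hs⟩ := Groth.Agent.Helper7.SepPt.exists_section_of_smooth_affine ks
    (Z := F.affineCover.X (F.affineCover.idx z)) ⟨_, rfl⟩
    (F.affineCover.f (F.affineCover.idx z) ≫ pullback.snd q.left x.left)
  let gl : Spec (CommRingCat.of ks) ⟶ G.left :=
    s ≫ F.affineCover.f (F.affineCover.idx z) ≫ pullback.fst q.left x.left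
  have hgl : gl ≫ q.left = x.left := by
    show (s ≫ F.affineCover.f (F.affineCover.idx z) ≫ pullback.fst q.left x.left) ≫ q.left = x.left
    rw [Category.assoc, Category.assoc, pullback.condition, ← Category.assoc, ← Category.assoc]
    rw [Category.assoc s, hs, Category.id_comp]
  have hw : gl ≫ G.hom = (SGA7.pt (K := k) ks).hom := by
    rw [← Over.w q, ← Category.assoc, hgl]
    exact Over.w x
  exact ⟨Over.homMk gl hw, Over.OverMorphism.ext hgl⟩

end Groth.Agent.Lib.Helper4.TorsorSq1
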