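import Mathlib
import Groth.Prelude.Def_AlgGrp
import Groth.Agent.Lib.Helper4.AlgClosedPts1
import Groth.Agent.Lib.Helper4.GrpExtProps1
import Groth.Agent.Lib.Helper7.SmoothBC.GeomRed

/-!
# a smooth connected group acts trivially on a reduced zero-dimensional scheme of finite type (helper4)
-/

set_option backward.isDefEq.respectTransparency.types false
set_option synthInstance.maxHeartbeats 400000
set_option autoImplicit false
set_option linter.unusedSectionVars false
set_option linter.style.haveILetI false
set_option linter.unusedSimpArgs false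
universe u v w
open CategoryTheory CategoryTheory.Limits AlgebraicGeometry TopologicalSpace Opposite
open MonoidalCategory CartesianMonoidalCategory MonObj GrpObj

namespace Groth.Agent.Lib.Helper4.ActZeroDim1
open Groth.Agent.Lib.Helper4.AlgClosedPts1 Groth.Agent.Lib.Helper4.GrpExtProps1

theorem main_S14633 (k : Type u) [Field k]
    (G Z : Over (Spec (CommRingCat.of k))) [GrpObj G] [Smooth G.hom] [ConnectedSpace ↥G.left]
    [LocallyOfFiniteType Z.hom] [QuasiCompact Z.hom] [IsReduced Z.left]
    (hdim : topologicalKrullDim ↥Z.left ≤ 0)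
    (a : AlgGrp.Action G Z) : a.act = snd G Z := by
  let K := AlgebraicClosure k
  let P : Over (Spec (CommRingCat.of k)) :=
    Over.mk (Spec.map (CommRingCat.ofHom (algebraMap k K)))
  haveI : IsLocallyNoetherian Z.left := LocallyOfFiniteType.isLocallyNoetherian Z.hom
  haveI : IsLocallyArtinian Z.left := IsLocallyArtinian.of_topologicalKrullDim_le_zero hdim
  haveI : DiscreteTopology Z.left := inferInstance
  haveI : CompactSpace Z.left := QuasiCompact.compactSpace_of_compactSpace Z.hom
  haveI : Finite Z.left := finite_of_compact_of_discrete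
  haveI : IsAffine Z.left := inferInstance
  haveI : IsSeparated Z.hom := inferInstance
  haveI : LocallyQuasiFinite Z.hom :=
    locallyQuasiFinite_iff_finite_preimage_singleton.2 (fun _ => Set.toFinite _)
  haveI : LocallyOfFiniteType G.hom := inferInstance
  haveI : IsReduced G.left :=
    Groth.Agent.Helper7.SmoothBC.isReduced_of_smooth_over_field k G.hom
  haveI : GeometricallyReduced G.hom := by
    rw [Groth.Agent.Helper7.SmoothBC.geometricallyReduced_iff_dense_smooth_open k G.left G.hom]
    exact ⟨⊤, by simp, inferInstance⟩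
  haveI : Flat G.hom := inferInstance
  haveI : IsReduced (G ⊗ Z).left := inferInstanceAs (IsReduced (pullback G.hom Z.hom))
  haveI : LocallyOfFiniteType (G ⊗ Z).hom := by
    rw [← Over.w (snd G Z)]
    haveI : LocallyOfFiniteType (snd G Z).left := by
      show LocallyOfFiniteType (pullback.snd G.hom Z.hom)
      infer_instance
    infer_instance
  have key : ∀ (g : P ⟶ G) (z : P ⟶ Z), lift g z ≫ a.act = z := by
    intro g z
    haveI : ConnectedSpace (G ⊗ P).left :=
      connectedSpace_tensor_of_section k G η[G] K (Spec.map (CommRingCat.ofHom (algebraMap k K)))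
    let hK : (P ⊗ Z).left ⟶ Spec (CommRingCat.of K) := (fst P Z).left
    haveI : LocallyOfFiniteType hK := by
      show LocallyOfFiniteType (pullback.fst P.hom Z.hom)
      infer_instance
    haveI : LocallyQuasiFinite hK := by
      show LocallyQuasiFinite (pullback.fst P.hom Z.hom)
      infer_instance
    haveI : DiscreteTopology (P ⊗ Z).left := by
      have h := hK.isDiscrete_preimage_singleton (IsLocalRing.closedPoint K)
      have huniv : (⇑hK ⁻¹' {IsLocalRing.closedPoint K}) = Set.univ :=
        Set.eq_univ_of_forall fun x => Subsingleton.elim (α := Spec (CommRingCat.of K)) _ _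
      exact isDiscrete_univ_iff.mp (Eq.mp (congrArg _root_.IsDiscrete huniv) h)
    let ψK : G ⊗ P ⟶ P ⊗ Z := lift (snd G P) ((G ◁ z) ≫ a.act)
    let sg : P ⟶ G ⊗ P := lift g (𝟙 P)
    let se : P ⟶ G ⊗ P := lift (toUnit P ≫ η[G]) (𝟙 P)
    have hconst : ∀ x y : (G ⊗ P).left, ψK.left x = ψK.left y := fun x y =>
      PreconnectedSpace.constant inferInstance ψK.left.continuous
    have hf₁ : (sg ≫ ψK).left ≫ hK = 𝟙 _ := by
      rw [← Over.comp_left, Category.assoc, lift_fst, lift_snd]
      rfl
    have hf₂ : (se ≫ ψK).left ≫ hK = 𝟙 _ := by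
      rw [← Over.comp_left, Category.assoc, lift_fst, lift_snd]
      rfl
    have H : (sg ≫ ψK).left (IsLocalRing.closedPoint K) =
        (se ≫ ψK).left (IsLocalRing.closedPoint K) := by
      rw [Over.comp_left, Over.comp_left, Scheme.Hom.comp_apply, Scheme.Hom.comp_apply]
      exact hconst _ _
    have hEq : (sg ≫ ψK).left = (se ≫ ψK).left := ext_of_apply_closedPoint_eq hK hf₁ hf₂ H
    have hEq' : sg ≫ ψK = se ≫ ψK := Over.OverMorphism.ext hEq
    have h2 := congrArg (fun t => t ≫ snd P Z) hEq'
    simp only [Category.assoc, ψK, lift_snd, sg, se, lift_whiskerLeft_assoc,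
      Category.id_comp] at h2
    rw [h2]
    have h1 : lift (toUnit P ≫ η[G]) z = lift (toUnit P) z ≫ (η[G] ▷ Z) := by
      rw [lift_whiskerRight]
    rw [h1, Category.assoc, a.one_act, lift_leftUnitor_hom]
  let j := (equalizer.ι a.act (snd G Z)).left
  haveI : IsClosedImmersion j := inferInstance
  haveI : Surjective j := by
    refine surjective_of_pts_algClosed k K (G ⊗ Z).left (G ⊗ Z).hom j (fun x hx => ?_)
    let xO : P ⟶ G ⊗ Z := Over.homMk x hx
    have e0 : xO = lift (xO ≫ fst G Z) (xO ≫ snd G Z) := by
      ext <;> simp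
    have e1 : xO ≫ a.act = xO ≫ snd G Z := by
      rw [e0, key, lift_snd]
    exact ⟨(equalizer.lift xO e1).left, by rw [← Over.comp_left, equalizer.lift_ι]; rfl⟩
  haveI : IsIso j := isIso_of_isClosedImmersion_of_surjective j
  ext
  rw [← cancel_epi j, ← Over.comp_left, ← Over.comp_left, equalizer.condition]

end Groth.Agent.Lib.Helper4.ActZeroDim1
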