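import Mathlib
import Groth.Prelude
import Groth.Agent.Lib.Helper2.CartierFinal
import Groth.Agent.Lib.Helper2.SepMain
import Groth.Agent.Lib.Helper4.DimFT2

/-!
# Regular + separable residue field iff adapted germs (S5027); Cartier criterion for geometric reducedness (helper4)
-/

set_option backward.isDefEq.respectTransparency.types false
set_option synthInstance.maxHeartbeats 400000
set_option autoImplicit false
set_option linter.unusedSectionVars false
set_option linter.style.haveILetI false
set_option linter.unusedSimpArgs false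
universe u v w
open TensorProduct IsLocalRing KaehlerDifferential

namespace Groth.Agent.Lib.Helper4.AdaptGerm1

section Field

variable (k K : Type u) [Field k] [Field K] [Algebra k K] [Algebra.EssFiniteType k K]

/-- For an essentially finite type field extension: geometrically reduced iff
`dim Ω ≤ trdeg`. -/
theorem isGeometricallyReduced_iff_finrank_le :
    Algebra.IsGeometricallyReduced k K ↔
      Module.finrank K (Ω[K⁄k]) ≤ Cardinal.toNat (Algebra.trdeg k K) := by
  obtain ⟨h1, h2, h3⟩ := Groth.Agent.Helper2.Cartier.cartier_eq k K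
  rw [Groth.Agent.Helper2.Sep.isGeometricallyReduced_iff_injective_int]
  constructor
  · intro hinj
    have h4 : EGA41.imperfection ℤ k K = ⊥ := LinearMap.ker_eq_bot.mpr hinj
    rw [h4, finrank_bot] at h3
    omega
  · intro hle
    have h5 : Module.finrank K (EGA41.imperfection ℤ k K) = 0 := by omega
    have h6 : EGA41.imperfection ℤ k K = ⊥ := Submodule.finrank_eq_zero.mp h5
    exact LinearMap.ker_eq_bot.mp h6

theorem finrank_eq_trdeg_of_isGeometricallyReduced [Algebra.IsGeometricallyReduced k K] :
    Module.finrank K (Ω[K⁄k]) = Cardinal.toNat (Algebra.trdeg k K) := by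
  obtain ⟨h1, h2, h3⟩ := Groth.Agent.Helper2.Cartier.cartier_eq k K
  have hinj := (Groth.Agent.Helper2.Sep.isGeometricallyReduced_iff_injective_int k K).mp ‹_›
  have h4 : EGA41.imperfection ℤ k K = ⊥ := LinearMap.ker_eq_bot.mpr hinj
  rw [h4, finrank_bot] at h3
  omega

end Field


section Main

variable (k A : Type u) [Field k] [CommRing A] [Algebra k A] [Algebra.FiniteType k A]
  (n r : ℕ) (p : Ideal A) [p.IsPrime]

instance essFT : Algebra.EssFiniteType k p.ResidueField :=
  Algebra.EssFiniteType.of_surjective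
    (IsScalarTower.toAlgHom k (Localization.AtPrime p) p.ResidueField)
    IsLocalRing.residue_surjective

/-- the dimension formula: `n = r + trdeg κ(p)` -/
theorem trdeg_eq (hn : FlatMor.localDim (PrimeSpectrum A) ⟨p, inferInstance⟩ = (n : WithBot ℕ∞))
    (hr : ringKrullDim (Localization.AtPrime p) = (r : WithBot ℕ∞)) :
    Cardinal.toNat (Algebra.trdeg k p.ResidueField) + r = n := by
  haveI : Algebra.FiniteType k (A ⧸ p) :=
    Algebra.FiniteType.of_surjective (Ideal.Quotient.mkₐ k p) (Ideal.Quotient.mkₐ_surjective k p)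
  obtain ⟨t, htr, -⟩ := Groth.Agent.Lib.Helper4.DimFT1.exists_dim_eq_trdeg k (A ⧸ p)
  have ht : Algebra.trdeg k p.ResidueField = t := by
    rw [Groth.Agent.Lib.Helper4.DimFT1.trdeg_fractionRing_eq k (A ⧸ p) p.ResidueField, htr]
  have h1 := Groth.Agent.Lib.Helper4.DimFT2.S2141_main (k := k) p t ht
  rw [hn, hr] at h1
  rw [ht]
  have h2 : n = r + t := by exact_mod_cast h1
  simp
  omega

theorem ncard_lt_le : ({i : Fin n | (i : ℕ) < r} : Set (Fin n)).ncard ≤ r := by
  rw [Set.ncard_eq_toFinset_card']
  have : ({i : Fin n | (i : ℕ) < r} : Set (Fin n)).toFinset = Finset.univ.filter (fun i : Fin n => (i : ℕ) < r) := by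
    ext i; simp
  rw [this, Fin.card_filter_val_lt]
  exact min_le_right _ _

theorem ncard_ge_le : ({i : Fin n | r ≤ (i : ℕ)} : Set (Fin n)).ncard ≤ n - r := by
  have h1 : ({i : Fin n | r ≤ (i : ℕ)} : Set (Fin n)) = ({i : Fin n | (i : ℕ) < r} : Set (Fin n))ᶜ := by
    ext i; simp
  have h2 := Set.ncard_add_ncard_compl ({i : Fin n | (i : ℕ) < r} : Set (Fin n))
  rw [← h1, Nat.card_fin] at h2
  have h3 : ({i : Fin n | (i : ℕ) < r} : Set (Fin n)).ncard = min n r := by
    rw [Set.ncard_eq_toFinset_card']
    have : ({i : Fin n | (i : ℕ) < r} : Set (Fin n)).toFinset = Finset.univ.filter (fun i : Fin n => (i : ℕ) < r) := by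
      ext i; simp
    rw [this, Fin.card_filter_val_lt]
  rw [h3] at h2
  omega

theorem main_mpr (hn : FlatMor.localDim (PrimeSpectrum A) ⟨p, inferInstance⟩ = (n : WithBot ℕ∞))
    (hr : ringKrullDim (Localization.AtPrime p) = (r : WithBot ℕ∞))
    (g : Fin n → Localization.AtPrime p)
    (ha : Ideal.span (g '' {i : Fin n | (i : ℕ) < r}) = IsLocalRing.maximalIdeal (Localization.AtPrime p))
    (hb : Submodule.span p.ResidueField ((fun i : Fin n =>
            KaehlerDifferential.D k p.ResidueField (IsLocalRing.residue (Localization.AtPrime p) (g i))) ''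
              {i : Fin n | r ≤ (i : ℕ)}) = ⊤) :
    IsRegularLocalRing (Localization.AtPrime p) ∧ Algebra.IsGeometricallyReduced k p.ResidueField := by
  haveI : IsNoetherianRing A := Algebra.FiniteType.isNoetherianRing k A
  haveI : IsNoetherianRing (Localization.AtPrime p) :=
    IsLocalization.isNoetherianRing p.primeCompl _ inferInstance
  constructor
  · apply IsRegularLocalRing.of_spanFinrank_maximalIdeal_le
    rw [hr, ← ha]
    have hfin : (g '' {i : Fin n | (i : ℕ) < r}).Finite := Set.toFinite _
    have h1 := Submodule.spanFinrank_span_le_ncard_of_finite (R := Localization.AtPrime p) hfin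
    have h2 : (g '' {i : Fin n | (i : ℕ) < r}).ncard ≤ r :=
      (Set.ncard_image_le (Set.toFinite _)).trans (ncard_lt_le n r)
    have h3 : (Ideal.span (g '' {i : Fin n | (i : ℕ) < r})).spanFinrank ≤ r := h1.trans h2
    exact_mod_cast h3
  · rw [isGeometricallyReduced_iff_finrank_le]
    have ht := trdeg_eq k A n r p hn hr
    set s := (fun i : Fin n =>
            KaehlerDifferential.D k p.ResidueField (IsLocalRing.residue (Localization.AtPrime p) (g i))) ''
              {i : Fin n | r ≤ (i : ℕ)} with hs
    have hfin : s.Finite := Set.toFinite _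
    have h1 : Module.finrank p.ResidueField (Ω[p.ResidueField⁄k]) =
        Module.finrank p.ResidueField (Submodule.span p.ResidueField s) := by
      rw [hb, finrank_top]
    have h2 : Module.finrank p.ResidueField (Submodule.span p.ResidueField s) ≤ s.ncard := by
      haveI := hfin.fintype
      have := finrank_span_le_card (R := p.ResidueField) s
      rwa [← Set.ncard_eq_toFinset_card'] at this
    have h3 : s.ncard ≤ n - r := (Set.ncard_image_le (Set.toFinite _)).trans (ncard_ge_le n r)
    omega

theorem main_mp (hn : FlatMor.localDim (PrimeSpectrum A) ⟨p, inferInstance⟩ = (n : WithBot ℕ∞))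
    (hr : ringKrullDim (Localization.AtPrime p) = (r : WithBot ℕ∞))
    (hreg : IsRegularLocalRing (Localization.AtPrime p))
    (hgr : Algebra.IsGeometricallyReduced k p.ResidueField) :
    ∃ g : Fin n → Localization.AtPrime p,
        Ideal.span (g '' {i : Fin n | (i : ℕ) < r}) = IsLocalRing.maximalIdeal (Localization.AtPrime p) ∧
          Submodule.span p.ResidueField ((fun i : Fin n =>
            KaehlerDifferential.D k p.ResidueField (IsLocalRing.residue (Localization.AtPrime p) (g i))) ''
              {i : Fin n | r ≤ (i : ℕ)}) = ⊤ := by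
  set R := Localization.AtPrime p
  set κ := p.ResidueField
  have ht := trdeg_eq k A n r p hn hr
  set t := Cardinal.toNat (Algebra.trdeg k κ) with ht_def
  -- generators of the maximal ideal
  have hfg : (maximalIdeal R).FG := IsNoetherian.noetherian _
  set gens := Submodule.generators (maximalIdeal R) with hgens
  have hgcard : gens.ncard = r := by
    have h1 := Submodule.FG.generators_ncard hfg
    have h2 : ((maximalIdeal R).spanFinrank : WithBot ℕ∞) = r := by
      rw [hreg.spanFinrank_maximalIdeal, hr]
    have h3 : (maximalIdeal R).spanFinrank = r := by exact_mod_cast h2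
    rw [hgens, h1, h3]
  have hgfin : gens.Finite := Submodule.FG.finite_generators hfg
  have hgspan : Ideal.span gens = maximalIdeal R := Submodule.span_generators _
  haveI : Finite ↥gens := hgfin
  let e1 : ↥gens ≃ Fin r := Finite.equivFinOfCardEq (by rw [Nat.card_coe_set_eq, hgcard])
  -- a basis of differentials
  obtain ⟨b, hbsub, hbspan, hbli⟩ := exists_linearIndependent κ (Set.range (D k κ))
  rw [KaehlerDifferential.span_range_derivation] at hbspan
  let B : Module.Basis ↥b κ (Ω[κ⁄k]) := Module.Basis.mk hbli (by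
    rw [Subtype.range_coe_subtype, Set.setOf_mem_eq, hbspan])
  have hfr := finrank_eq_trdeg_of_isGeometricallyReduced k κ
  have hbcard : Nat.card ↥b = t := by
    rw [← Module.finrank_eq_nat_card_basis B, hfr]
  haveI : Module.Finite κ (Ω[κ⁄k]) := inferInstance
  haveI : Finite ↥b := hbli.finite
  let e2 : ↥b ≃ Fin t := Finite.equivFinOfCardEq hbcard
  -- choose preimages
  have hlift : ∀ y : ↥b, ∃ x : R, D k κ (IsLocalRing.residue R x) = (y : Ω[κ⁄k]) := by
    intro y
    obtain ⟨z, hz⟩ := hbsub y.2
    obtain ⟨x, rfl⟩ := IsLocalRing.residue_surjective z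
    exact ⟨x, hz⟩
  choose lift hlift' using hlift
  let g : Fin n → R := fun i =>
    if h : (i : ℕ) < r then ((e1.symm ⟨i, h⟩ : ↥gens) : R)
    else lift (e2.symm ⟨(i : ℕ) - r, by have := i.2; omega⟩)
  refine ⟨g, ?_, ?_⟩
  · apply le_antisymm
    · rw [Ideal.span_le]
      rintro _ ⟨i, hi, rfl⟩
      have hi' : (i : ℕ) < r := hi
      simp only [g, dif_pos hi']
      exact Submodule.FG.generators_mem (maximalIdeal R) (e1.symm ⟨i, hi'⟩).2
    · rw [← hgspan]
      apply Ideal.span_mono
      intro x hx
      have hlt : ((e1 ⟨x, hx⟩ : Fin r) : ℕ) < n := by have := (e1 ⟨x, hx⟩).2; omega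
      refine ⟨⟨(e1 ⟨x, hx⟩ : Fin r), hlt⟩, (e1 ⟨x, hx⟩).2, ?_⟩
      simp only [g, dif_pos (e1 ⟨x, hx⟩).2]
      simp
  · rw [eq_top_iff, ← hbspan]
    apply Submodule.span_mono
    intro y hy
    have hlt : ((e2 ⟨y, hy⟩ : Fin t) : ℕ) + r < n := by have := (e2 ⟨y, hy⟩).2; omega
    refine ⟨⟨(e2 ⟨y, hy⟩ : Fin t) + r, hlt⟩, ?_, ?_⟩
    · show r ≤ (e2 ⟨y, hy⟩ : ℕ) + r
      omega
    · have hnot : ¬ ((e2 ⟨y, hy⟩ : ℕ) + r < r) := by omega
      simp only [g, dif_neg hnot]
      rw [hlift']
      simp

theorem main (hn : FlatMor.localDim (PrimeSpectrum A) ⟨p, inferInstance⟩ = (n : WithBot ℕ∞))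
    (hr : ringKrullDim (Localization.AtPrime p) = (r : WithBot ℕ∞)) :
    (IsRegularLocalRing (Localization.AtPrime p) ∧ Algebra.IsGeometricallyReduced k p.ResidueField) ↔
      ∃ g : Fin n → Localization.AtPrime p,
        Ideal.span (g '' {i : Fin n | (i : ℕ) < r}) = IsLocalRing.maximalIdeal (Localization.AtPrime p) ∧
          Submodule.span p.ResidueField ((fun i : Fin n =>
            KaehlerDifferential.D k p.ResidueField (IsLocalRing.residue (Localization.AtPrime p) (g i))) ''
              {i : Fin n | r ≤ (i : ℕ)}) = ⊤ :=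
  ⟨fun ⟨h1, h2⟩ => main_mp k A n r p hn hr h1 h2,
   fun ⟨g, ha, hb⟩ => main_mpr k A n r p hn hr g ha hb⟩

end Main

end Groth.Agent.Lib.Helper4.AdaptGerm1
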