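import Mathlib
import Groth.Prelude.Def_EGA43
import Groth.Prelude.Def_FDesc

/-!
# Universal openness at a point and geometric reducedness at a point restrict to open subschemes (helper4) (helper4)
-/

set_option backward.isDefEq.respectTransparency.types false
set_option synthInstance.maxHeartbeats 400000
set_option autoImplicit false
set_option linter.unusedSectionVars false
set_option linter.style.haveILetI false
set_option linter.unusedSimpArgs false
universe u v w
open CategoryTheory CategoryTheory.Limits AlgebraicGeometry TopologicalSpace Topology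

namespace Groth.Agent.Lib.Helper4.OpenTransfer1

/-- universal openness at a point restricts to open subschemes of source and target -/
theorem isUnivOpenAt_of_isOpenImmersion {X Y U V : Scheme.{u}} (f : X ⟶ Y) (j : U ⟶ X)
    (i : V ⟶ Y) [IsOpenImmersion j] [Mono i] (f' : U ⟶ V) (hc : f' ≫ i = j ≫ f) (u : U)
    (h : EGA43.IsUnivOpenAt f (j u)) : EGA43.IsUnivOpenAt f' u := by
  intro Y' g' u' hu'
  have e₂ : g' ≫ i = 𝟙 Y' ≫ (g' ≫ i) := by simp
  let m : pullback f' g' ⟶ pullback f (g' ≫ i) :=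
    pullback.map f' g' f (g' ≫ i) j (𝟙 Y') i hc e₂
  haveI : IsOpenImmersion m := inferInstance
  have hm1 : m ≫ pullback.fst f (g' ≫ i) = pullback.fst f' g' ≫ j := pullback.lift_fst _ _ _
  have hm2 : m ≫ pullback.snd f (g' ≫ i) = pullback.snd f' g' := by
    have h0 : m ≫ pullback.snd f (g' ≫ i) = pullback.snd f' g' ≫ 𝟙 Y' := pullback.lift_snd _ _ _
    rw [h0, Category.comp_id]
  have h1 := h Y' (g' ≫ i) (m u') (by
    rw [← Scheme.Hom.comp_apply, hm1, Scheme.Hom.comp_apply, hu'])
  intro N hN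
  have hmN : m '' N ∈ nhds (m u') := m.isOpenEmbedding.image_mem_nhds.mpr hN
  have h2 := h1 _ hmN
  have h3 : (pullback.snd f (g' ≫ i)).base '' (m '' N) = (pullback.snd f' g').base '' N := by
    rw [Set.image_image]
    congr 1
    ext w
    rw [← hm2]
    rfl
  have h4 : (pullback.snd f (g' ≫ i)).base (m u') = (pullback.snd f' g').base u' := by
    rw [← hm2]
    rfl
  rw [h3, h4] at h2
  exact h2

/-- geometric reducedness at a point restricts to open subschemes -/
theorem isGeomReducedAt_of_isOpenImmersion {k₀ k₁ : Type u} [Field k₀] [Field k₁]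
    {Z₀ Z₁ : Scheme.{u}} (F₀ : Z₀ ⟶ Spec (CommRingCat.of k₀)) (F₁ : Z₁ ⟶ Spec (CommRingCat.of k₁))
    (ψ : Z₁ ⟶ Z₀) [IsOpenImmersion ψ] (φ : CommRingCat.of k₀ ⟶ CommRingCat.of k₁)
    [Mono (Spec.map φ)] (hc : F₁ ≫ Spec.map φ = ψ ≫ F₀) (z : Z₁)
    (h : FBase.IsGeomReducedAt F₀ (ψ z)) : FBase.IsGeomReducedAt F₁ z := by
  intro K _ _ w hw
  letI : Algebra k₀ K := ((algebraMap k₁ K).comp φ.hom).toAlgebra
  have e₂ : Spec.map (CommRingCat.ofHom (algebraMap k₁ K)) ≫ Spec.map φ =
      𝟙 _ ≫ Spec.map (CommRingCat.ofHom (algebraMap k₀ K)) := by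
    rw [Category.id_comp, ← Spec.map_comp]
    rfl
  have hmo : IsOpenImmersion (pullback.map F₁ (Spec.map (CommRingCat.ofHom (algebraMap k₁ K))) F₀
      (Spec.map (CommRingCat.ofHom (algebraMap k₀ K))) ψ (𝟙 _) (Spec.map φ) hc e₂) := inferInstance
  let m : FBase.bc F₁ K ⟶ FBase.bc F₀ K :=
    pullback.map F₁ (Spec.map (CommRingCat.ofHom (algebraMap k₁ K))) F₀
      (Spec.map (CommRingCat.ofHom (algebraMap k₀ K))) ψ (𝟙 _) (Spec.map φ) hc e₂
  haveI : IsOpenImmersion m := hmo
  have hm1 : m ≫ FBase.bcπ F₀ K = FBase.bcπ F₁ K ≫ ψ := pullback.lift_fst _ _ _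
  haveI := h K (m w) (by rw [← Scheme.Hom.comp_apply, hm1, Scheme.Hom.comp_apply, hw])
  exact isReduced_of_injective (inv (m.stalkMap w)).hom
    ((ConcreteCategory.bijective_of_isIso (inv (m.stalkMap w))).injective)

/-- transport of geometric reducedness at a point of a fibre along an equality of base points -/
theorem isGeomReducedAt_fiber_congr {X Y : Scheme.{u}} (f : X ⟶ Y) (y₁ y₂ : Y) (h : y₁ = y₂)
    (z₁ : ↥(f.fiber y₁)) (z₂ : ↥(f.fiber y₂)) (hz : f.fiberι y₁ z₁ = f.fiberι y₂ z₂)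
    (H : FBase.IsGeomReducedAt (f.fiberToSpecResidueField y₁) z₁) :
    FBase.IsGeomReducedAt (f.fiberToSpecResidueField y₂) z₂ := by
  subst h
  have : z₁ = z₂ := (f.fiberι y₁).isEmbedding.injective hz
  subst this
  exact H

/-- the two ways of stating geometric reducedness of a fibre along a subset -/
theorem isGeomReducedAt_fiber_of_asFiber {X Y : Scheme.{u}} (f : X ⟶ Y) (y : Y) (S : Set X)
    (H : ∀ x ∈ S, f x = y →
      FBase.IsGeomReducedAt (f.fiberToSpecResidueField (f x)) (f.asFiber x))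
    (x' : ↥(f.fiber y)) (hx' : f.fiberι y x' ∈ S) :
    FBase.IsGeomReducedAt (f.fiberToSpecResidueField y) x' := by
  have hfx : f (f.fiberι y x') = y := by
    have h0 : f.fiberι y x' ∈ f ⁻¹' {y} := by
      rw [← f.range_fiberι y]
      exact Set.mem_range_self x'
    exact h0
  exact isGeomReducedAt_fiber_congr f _ y hfx (f.asFiber (f.fiberι y x')) x'
    (f.fiberι_asFiber _) (H _ hx' hfx)

end Groth.Agent.Lib.Helper4.OpenTransfer1
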