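import Mathlib
import Groth.Agent.Lib.Helper1.LocalCrit
import Groth.Agent.Lib.Helper4.RelEffCartier

/-!
# Flatness from flatness at the generic points of a reduced closed fibre (helper4)
-/

set_option backward.isDefEq.respectTransparency.types false
set_option synthInstance.maxHeartbeats 400000
set_option autoImplicit false
set_option linter.unusedSectionVars false
set_option linter.style.haveILetI false
set_option linter.unusedSimpArgs false
universe u v w
open TensorProduct

namespace Groth.Agent.Lib.Helper4.ValFlat2

/-- Reduction of flatness to the generic points of the closed fibre: if `A → B` is a local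
homomorphism with `B` Noetherian, the closed fibre `B/𝔪B` is reduced, and the localization of
`B` at every minimal prime of `𝔪B` is `A`-flat, then `B` is `A`-flat. -/
theorem flat_of_flat_at_minimal {A B : Type u} [CommRing A] [IsLocalRing A] [CommRing B]
    [IsNoetherianRing B] [IsLocalRing B] [Algebra A B] [IsLocalHom (algebraMap A B)]
    (hrad : ((IsLocalRing.maximalIdeal A).map (algebraMap A B)).IsRadical)
    (h : ∀ (z : Ideal B) [z.IsPrime],
      z ∈ ((IsLocalRing.maximalIdeal A).map (algebraMap A B)).minimalPrimes →
      Module.Flat A (Localization.AtPrime z)) : Module.Flat A B := by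
  classical
  set I := (IsLocalRing.maximalIdeal A).map (algebraMap A B) with hI
  have hfin : I.minimalPrimes.Finite := Ideal.finite_minimalPrimes_of_isNoetherianRing B I
  haveI : Finite I.minimalPrimes := hfin
  haveI hpr : ∀ z : I.minimalPrimes, z.1.IsPrime := fun z => z.2.1.1
  haveI hfl : ∀ z : I.minimalPrimes, Module.Flat A (Localization.AtPrime z.1) := fun z => h z.1 z.2
  let M := ∀ z : I.minimalPrimes, Localization.AtPrime z.1
  haveI : Module.Flat A M := by
    have := Fintype.ofFinite I.minimalPrimes
    exact Module.Flat.of_linearEquiv
      (DFinsupp.linearEquivFunOnFintype (R := A)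
        (M := fun z : I.minimalPrimes => Localization.AtPrime z.1)).symm
  let u : B →ₗ[A] M := LinearMap.pi
    (fun z => (IsScalarTower.toAlgHom A B (Localization.AtPrime z.1)).toLinearMap)
  have hu : ∀ (x : B) (z : I.minimalPrimes), u x z = algebraMap B (Localization.AtPrime z.1) x :=
    fun x z => rfl
  have hmem : ∀ (z : I.minimalPrimes) (y : Localization.AtPrime z.1),
      y ∈ IsLocalRing.maximalIdeal A • (⊤ : Submodule A (Localization.AtPrime z.1)) →
      y ∈ IsLocalRing.maximalIdeal (Localization.AtPrime z.1) := by
    intro z y hy
    refine Submodule.smul_induction_on hy (fun a ha y _ => ?_) (fun a b ha hb => add_mem ha hb)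
    rw [Algebra.smul_def]
    apply Ideal.mul_mem_right
    rw [IsScalarTower.algebraMap_apply A B (Localization.AtPrime z.1),
      IsLocalization.AtPrime.to_map_mem_maximal_iff (Localization.AtPrime z.1) z.1]
    exact z.2.1.2 (Ideal.mem_map_of_mem _ ha)
  have hinj : Function.Injective (u.lTensor (IsLocalRing.ResidueField A)) := by
    rw [Groth.Agent.Helper1.LocalCrit.lTensor_residueField_injective_iff]
    intro x hx
    have hxz : ∀ z : I.minimalPrimes, x ∈ z.1 := by
      intro z
      have h1 : (LinearMap.proj z : M →ₗ[A] _) (u x) ∈
          IsLocalRing.maximalIdeal A • (⊤ : Submodule A (Localization.AtPrime z.1)) := by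
        have h2 : Submodule.map (LinearMap.proj z : M →ₗ[A] _)
            (IsLocalRing.maximalIdeal A • (⊤ : Submodule A M)) ≤
            IsLocalRing.maximalIdeal A • (⊤ : Submodule A (Localization.AtPrime z.1)) := by
          rw [Submodule.map_smul'']
          exact Submodule.smul_mono le_rfl le_top
        exact h2 (Submodule.mem_map_of_mem hx)
      have h3 := hmem z _ h1
      rw [LinearMap.proj_apply, hu,
        IsLocalization.AtPrime.to_map_mem_maximal_iff (Localization.AtPrime z.1) z.1] at h3
      exact h3
    have hxI : x ∈ I := by
      rw [← hrad.radical, ← Ideal.sInf_minimalPrimes, Ideal.mem_sInf]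
      intro z hz
      exact hxz ⟨z, hz⟩
    rw [Ideal.smul_top_eq_map]
    exact hxI
  have h1 : Function.Injective u :=
    Groth.Agent.Helper1.LocalCrit.injective_of_lTensor_residueField_injective (S := B) u hinj
  haveI h2 : Module.Flat A (M ⧸ LinearMap.range u) :=
    Groth.Agent.Helper1.LocalCrit.flat_quotient_range_of_lTensor_residueField_injective
      (S := B) u hinj
  exact Groth.Agent.Helper4.FlatExact.flat_ker_of_exact u (LinearMap.range u).mkQ h1
    (Submodule.mkQ_surjective _) (LinearMap.exact_map_mkQ_range u)

end Groth.Agent.Lib.Helper4.ValFlat2
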