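import Mathlib

/-!
# Transfer of the valuative flatness hypothesis to a polynomial ring (helper4)
-/

set_option backward.isDefEq.respectTransparency.types false
set_option synthInstance.maxHeartbeats 400000
set_option autoImplicit false
set_option linter.unusedSectionVars false
set_option linter.style.haveILetI false
set_option linter.unusedSimpArgs false
universe u v w
open TensorProduct Polynomial

namespace Groth.Agent.Lib.Helper4.ValFlat3

/-- A field containing a domain `D` is a flat `D`-module. -/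
theorem flat_field_of_injective {D : Type u} [CommRing D] [IsDomain D] {κ : Type v} [Field κ]
    [Algebra D κ] (hinj : Function.Injective (algebraMap D κ)) : Module.Flat D κ := by
  letI : Algebra (FractionRing D) κ := (IsFractionRing.lift hinj).toAlgebra
  haveI : IsScalarTower D (FractionRing D) κ := IsScalarTower.of_algebraMap_eq fun a => by
    rw [RingHom.algebraMap_toAlgebra, IsFractionRing.lift_algebraMap]
  exact Module.Flat.trans D (FractionRing D) κ

/-- `lTensor` of a left multiplication is a left multiplication. -/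
theorem lTensor_mulLeft {S : Type u} [CommRing S] {M P : Type u} [CommRing M] [Algebra S M]
    [CommRing P] [Algebra S P] (s : P) (e : M ⊗[S] P) :
    (LinearMap.mulLeft S s).lTensor M e = ((1 : M) ⊗ₜ[S] s) * e := by
  induction e using TensorProduct.induction_on with
  | zero => simp
  | tmul l w => simp [Algebra.TensorProduct.tmul_mul_tmul]
  | add x y hx hy => rw [map_add, hx, hy, mul_add]

theorem nzd_dom {D : Type u} [CommRing D] [IsDomain D] {K κ : Type u} [CommRing K] [IsDomain K]
    [Field κ] [Algebra D K] [Algebra D κ] (b : κ)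
    (hb : Function.Injective (Polynomial.aeval (R := D) b)) (c : K) (e : κ ⊗[D] K)
    (he : (b ⊗ₜ[D] (1 : K) - (1 : κ) ⊗ₜ[D] c) * e = 0) : e = 0 := by
  letI : Algebra D[X] κ := (Polynomial.aeval (R := D) b).toRingHom.toAlgebra
  haveI : IsScalarTower D D[X] κ := IsScalarTower.of_algebraMap_eq fun a => by
    rw [RingHom.algebraMap_toAlgebra]
    simp
  have hX : algebraMap D[X] κ X = b := by
    rw [RingHom.algebraMap_toAlgebra]; simp
  haveI : Module.Flat D[X] κ := flat_field_of_injective hb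
  -- the auxiliary ring `D[X] ⊗ K ≅ K[X]`
  let ψ : D[X] ⊗[D] K ≃ₐ[D] K[X] :=
    (Algebra.TensorProduct.comm D D[X] K).trans (polyEquivTensor D K).symm
  let sP : D[X] ⊗[D] K := (X : D[X]) ⊗ₜ[D] (1 : K) - (1 : D[X]) ⊗ₜ[D] c
  have hψs : ψ sP = X - C c := by
    simp only [ψ, sP, map_sub, AlgEquiv.trans_apply, Algebra.TensorProduct.comm_tmul,
      polyEquivTensor_symm_apply_tmul_eq_smul]
    simp [Algebra.smul_def]
  have hinjP : Function.Injective (LinearMap.mulLeft D[X] sP) := by
    rw [injective_iff_map_eq_zero]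
    intro w hw
    have h1 : ψ sP * ψ w = 0 := by
      rw [← map_mul]
      have : sP * w = 0 := hw
      rw [this, map_zero]
    rw [hψs] at h1
    have h2 : ψ w = 0 := (mul_eq_zero.mp h1).resolve_left (Polynomial.X_sub_C_ne_zero c)
    exact (map_eq_zero_iff ψ ψ.injective).mp h2
  have hinjT : Function.Injective ((LinearMap.mulLeft D[X] sP).lTensor κ) :=
    Module.Flat.lTensor_preserves_injective_linearMap _ hinjP
  let E := Algebra.TensorProduct.cancelBaseChange D D[X] D[X] κ K
  have hE : E ((1 : κ) ⊗ₜ[D[X]] sP) = b ⊗ₜ[D] (1 : K) - (1 : κ) ⊗ₜ[D] c := by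
    simp only [sP, TensorProduct.tmul_sub, map_sub, E,
      Algebra.TensorProduct.cancelBaseChange_tmul]
    rw [Algebra.smul_def, hX, mul_one, one_smul]
  have h3 : ((1 : κ) ⊗ₜ[D[X]] sP) * E.symm e = 0 := by
    apply E.injective
    rw [map_mul, hE, AlgEquiv.apply_symm_apply, he, map_zero]
  rw [← lTensor_mulLeft] at h3
  have h4 : E.symm e = 0 := hinjT (h3.trans (map_zero _).symm)
  exact (map_eq_zero_iff E.symm E.symm.injective).mp h4


/-- Over a discrete valuation ring a module is flat iff a uniformizer acts injectively. -/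
theorem flat_dvr_iff {R : Type u} [CommRing R] [IsDomain R] [IsDiscreteValuationRing R]
    (M : Type v) [AddCommGroup M] [Module R M] (π : R) (hπ : Irreducible π) :
    Module.Flat R M ↔ ∀ m : M, π • m = 0 → m = 0 := by
  rw [IsDedekindDomain.flat_iff_torsion_eq_bot]
  constructor
  · intro h m hm
    have : m ∈ Submodule.torsion R M :=
      ⟨⟨π, mem_nonZeroDivisors_of_ne_zero hπ.ne_zero⟩, hm⟩
    rw [h] at this
    exact (Submodule.mem_bot R).mp this
  · intro h
    rw [eq_bot_iff]
    rintro m ⟨⟨r, hr⟩, hrm⟩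
    have hr0 : r ≠ 0 := nonZeroDivisors.ne_zero hr
    obtain ⟨n, u, hru⟩ := IsDiscreteValuationRing.eq_unit_mul_pow_irreducible hr0 hπ
    have h1 : (r : R) • m = 0 := hrm
    rw [hru, mul_smul] at h1
    have h2 : π ^ n • m = 0 := by
      have := congrArg (fun x => ((u⁻¹ : Rˣ) : R) • x) h1
      simpa [smul_smul] using this
    rw [Submodule.mem_bot]
    clear h1 hru hrm
    induction n with
    | zero => simpa using h2
    | succ k ih =>
      apply ih
      apply h
      rw [smul_smul, ← pow_succ']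
      exact h2

/-- Exchange lemma for a regular sequence of length two. -/
theorem swap_regular {E : Type u} [CommRing E] (π s : E) (h1 : ∀ e : E, π * e = 0 → e = 0)
    (h2 : ∀ e e' : E, s * e = π * e' → ∃ e'' : E, e = π * e'') :
    ∀ e e' : E, π * e = s * e' → ∃ e'' : E, e = s * e'' := by
  intro e e' h
  obtain ⟨e'', he''⟩ := h2 e' e h.symm
  refine ⟨e'', ?_⟩
  have : π * (e - s * e'') = 0 := by
    rw [mul_sub, h, he'']; ring
  have := h1 _ this
  exact sub_eq_zero.mp this


section
variable {A : Type u} [CommRing A] {R L : Type u} [CommRing R] [CommRing L]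
  [Algebra A R] [Algebra A L] [Algebra A[X] R] [Algebra A[X] L]
  [IsScalarTower A A[X] R] [IsScalarTower A A[X] L]

/-- the difference of the two actions of a polynomial on `R ⊗[A] L` lies in the ideal generated
by the difference of the two actions of `X`. -/
theorem diff_mem_span (a : A[X]) :
    ((algebraMap A[X] R a) ⊗ₜ[A] (1 : L) - (1 : R) ⊗ₜ[A] (algebraMap A[X] L a)) ∈
      Ideal.span {((algebraMap A[X] R X) ⊗ₜ[A] (1 : L) - (1 : R) ⊗ₜ[A] (algebraMap A[X] L X))} := by
  set J : Ideal (R ⊗[A] L) :=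
    Ideal.span {((algebraMap A[X] R X) ⊗ₜ[A] (1 : L) - (1 : R) ⊗ₜ[A] (algebraMap A[X] L X))}
  let φ₁ : A[X] →+* (R ⊗[A] L) ⧸ J := (Ideal.Quotient.mk J).comp
    ((Algebra.TensorProduct.includeLeft (R := A) (S := A) (A := R) (B := L)).toRingHom.comp
      (algebraMap A[X] R))
  let φ₂ : A[X] →+* (R ⊗[A] L) ⧸ J := (Ideal.Quotient.mk J).comp
    ((Algebra.TensorProduct.includeRight (R := A) (A := R) (B := L)).toRingHom.comp
      (algebraMap A[X] L))
  have h : φ₁ = φ₂ := by
    apply Polynomial.ringHom_ext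
    · intro r
      simp only [φ₁, φ₂, RingHom.comp_apply, AlgHom.toRingHom_eq_coe, RingHom.coe_coe,
        Algebra.TensorProduct.includeLeft_apply, Algebra.TensorProduct.includeRight_apply]
      congr 1
      have e1 : (C r : A[X]) = algebraMap A A[X] r := rfl
      rw [e1, ← IsScalarTower.algebraMap_apply A A[X] R,
        ← IsScalarTower.algebraMap_apply A A[X] L, Algebra.algebraMap_eq_smul_one,
        Algebra.algebraMap_eq_smul_one (A := L), TensorProduct.smul_tmul]
    · simp only [φ₁, φ₂, RingHom.comp_apply, AlgHom.toRingHom_eq_coe, RingHom.coe_coe,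
        Algebra.TensorProduct.includeLeft_apply, Algebra.TensorProduct.includeRight_apply]
      rw [Ideal.Quotient.eq]
      exact Ideal.subset_span rfl
  have := congrArg (fun f => f a) h
  simp only [φ₁, φ₂, RingHom.comp_apply, AlgHom.toRingHom_eq_coe, RingHom.coe_coe,
    Algebra.TensorProduct.includeLeft_apply, Algebra.TensorProduct.includeRight_apply] at this
  rwa [Ideal.Quotient.eq] at this

/-- the kernel of `R ⊗[A] L → R ⊗[A[X]] L` is generated by `X ⊗ 1 - 1 ⊗ X`. -/
theorem ker_le_span (e : R ⊗[A] L)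
    (he : TensorProduct.mapOfCompatibleSMul A[X] A A[X] R L e = 0) :
    e ∈ Ideal.span
      {((algebraMap A[X] R X) ⊗ₜ[A] (1 : L) - (1 : R) ⊗ₜ[A] (algebraMap A[X] L X))} := by
  set J : Ideal (R ⊗[A] L) :=
    Ideal.span {((algebraMap A[X] R X) ⊗ₜ[A] (1 : L) - (1 : R) ⊗ₜ[A] (algebraMap A[X] L X))}
  have hk : e ∈ LinearMap.ker (TensorProduct.mapOfCompatibleSMul A[X] A A[X] R L) := he
  rw [TensorProduct.AlgebraTensorModule.ker_mapOfCompatibleSMul] at hk
  have hle : Submodule.span A[X] {x : R ⊗[A] L | ∃ (a : A[X]) (m : R) (n : L),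
      (a • m) ⊗ₜ[A] n - m ⊗ₜ[A] (a • n) = x} ≤ J.restrictScalars A[X] := by
    rw [Submodule.span_le]
    rintro _ ⟨a, m, n, rfl⟩
    have h1 : (a • m) ⊗ₜ[A] n - m ⊗ₜ[A] (a • n) =
        (m ⊗ₜ[A] n) * ((algebraMap A[X] R a) ⊗ₜ[A] (1 : L) -
          (1 : R) ⊗ₜ[A] (algebraMap A[X] L a)) := by
      rw [mul_sub, Algebra.TensorProduct.tmul_mul_tmul, Algebra.TensorProduct.tmul_mul_tmul,
        mul_one, mul_one, Algebra.smul_def, Algebra.smul_def, mul_comm m, mul_comm n]
    show _ ∈ J
    rw [h1]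
    exact Ideal.mul_mem_left _ _ (diff_mem_span a)
  exact hle hk

end


section
variable {A : Type u} [CommRing A] {R L : Type u} [CommRing R] [CommRing L]
  [Algebra A R] [Algebra A L] [Algebra A[X] R] [Algebra A[X] L]
  [IsScalarTower A A[X] R] [IsScalarTower A A[X] L]

theorem sreg_mod_pi (p : Ideal A) [p.IsPrime] [IsLocalRing L] [IsLocalRing R] (π : R)
    (hπ : IsLocalRing.maximalIdeal R = Ideal.span {π})
    (hpL : IsLocalRing.maximalIdeal L = p.map (algebraMap A L))
    (htr : (IsLocalRing.maximalIdeal L).comap (algebraMap A[X] L) = p.map C)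
    (hR : (IsLocalRing.maximalIdeal R).comap (algebraMap A R) = p)
    (e e' : R ⊗[A] L)
    (h : ((algebraMap A[X] R X) ⊗ₜ[A] (1 : L) - (1 : R) ⊗ₜ[A] (algebraMap A[X] L X)) * e =
      (π ⊗ₜ[A] (1 : L)) * e') :
    ∃ e'' : R ⊗[A] L, e = (π ⊗ₜ[A] (1 : L)) * e'' := by
  classical
  let K := IsLocalRing.ResidueField R
  let κ := IsLocalRing.ResidueField L
  have hK0 : ∀ a ∈ p, algebraMap A K a = 0 := by
    intro a ha
    rw [IsScalarTower.algebraMap_apply A R K, IsLocalRing.ResidueField.algebraMap_eq,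
      IsLocalRing.residue_eq_zero_iff]
    have : a ∈ (IsLocalRing.maximalIdeal R).comap (algebraMap A R) := by rw [hR]; exact ha
    exact this
  have hκ0 : ∀ a ∈ p, algebraMap A κ a = 0 := by
    intro a ha
    rw [IsScalarTower.algebraMap_apply A L κ, IsLocalRing.ResidueField.algebraMap_eq,
      IsLocalRing.residue_eq_zero_iff, hpL]
    exact Ideal.mem_map_of_mem _ ha
  letI aK : Algebra (A ⧸ p) K := (Ideal.Quotient.lift p (algebraMap A K) hK0).toAlgebra
  letI aκ : Algebra (A ⧸ p) κ := (Ideal.Quotient.lift p (algebraMap A κ) hκ0).toAlgebra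
  haveI tK : IsScalarTower A (A ⧸ p) K := IsScalarTower.of_algebraMap_eq fun a => rfl
  haveI tκ : IsScalarTower A (A ⧸ p) κ := IsScalarTower.of_algebraMap_eq fun a => rfl
  haveI : TensorProduct.CompatibleSMul A (A ⧸ p) κ K :=
    TensorProduct.CompatibleSMul.of_algebraMap_surjective (R := A) (A := A ⧸ p) (M := κ) (N := K)
      Ideal.Quotient.mk_surjective
  let f : R →ₐ[A] K := IsScalarTower.toAlgHom A R K
  let g : L →ₐ[A] κ := IsScalarTower.toAlgHom A L κ
  have hf : Function.Surjective f := IsLocalRing.residue_surjective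
  have hg : Function.Surjective g := IsLocalRing.residue_surjective
  let q₁ : R ⊗[A] L →ₐ[A] K ⊗[A] κ := Algebra.TensorProduct.map f g
  let ι₁ : K ⊗[A] κ ≃ₐ[A] κ ⊗[A] K := Algebra.TensorProduct.comm A K κ
  let ι₂ : κ ⊗[A] K ≃ₐ[A] κ ⊗[A ⧸ p] K :=
    (Algebra.TensorProduct.equivOfCompatibleSMul A (A ⧸ p) A κ K).symm
  let b : κ := IsLocalRing.residue L (algebraMap A[X] L X)
  let c : K := IsLocalRing.residue R (algebraMap A[X] R X)
  -- transcendence
  have hb : Function.Injective (Polynomial.aeval (R := A ⧸ p) b) := by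
    rw [injective_iff_map_eq_zero]
    intro g₀ hg₀
    obtain ⟨f₀, rfl⟩ := Polynomial.map_surjective (Ideal.Quotient.mk p)
      Ideal.Quotient.mk_surjective g₀
    have hφ : ((Polynomial.aeval (R := A ⧸ p) b).toRingHom.comp
        (Polynomial.mapRingHom (Ideal.Quotient.mk p))) =
        (IsLocalRing.residue L).comp (algebraMap A[X] L) := by
      apply Polynomial.ringHom_ext
      · intro a
        simp only [RingHom.comp_apply, Polynomial.coe_mapRingHom, Polynomial.map_C,
          AlgHom.toRingHom_eq_coe, RingHom.coe_coe, Polynomial.aeval_C]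
        have e1 : (C a : A[X]) = algebraMap A A[X] a := rfl
        rw [e1, ← IsScalarTower.algebraMap_apply A A[X] L]
        rfl
      · simp [b]
    have h1 : IsLocalRing.residue L (algebraMap A[X] L f₀) = 0 := by
      have := congrArg (fun φ => φ f₀) hφ
      simp only [RingHom.comp_apply, Polynomial.coe_mapRingHom,
        AlgHom.toRingHom_eq_coe, RingHom.coe_coe] at this
      rw [← this]; exact hg₀
    rw [IsLocalRing.residue_eq_zero_iff] at h1
    have h2 : f₀ ∈ p.map C := by rw [← htr]; exact h1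
    rw [Ideal.mem_map_C_iff] at h2
    ext n
    rw [Polynomial.coeff_map, Polynomial.coeff_zero, Ideal.Quotient.eq_zero_iff_mem]
    exact h2 n
  -- images
  have hΦs : ι₂ (ι₁ (q₁ ((algebraMap A[X] R X) ⊗ₜ[A] (1 : L) -
      (1 : R) ⊗ₜ[A] (algebraMap A[X] L X)))) =
      - (b ⊗ₜ[A ⧸ p] (1 : K) - (1 : κ) ⊗ₜ[A ⧸ p] c) := by
    simp only [map_sub, q₁, ι₁, ι₂, Algebra.TensorProduct.map_tmul, map_one,
      Algebra.TensorProduct.comm_tmul]
    rw [neg_sub]
    rfl
  have hΦπ : ι₂ (ι₁ (q₁ (π ⊗ₜ[A] (1 : L)))) = 0 := by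
    have : f π = 0 := by
      show IsLocalRing.residue R π = 0
      rw [IsLocalRing.residue_eq_zero_iff, hπ]
      exact Ideal.mem_span_singleton_self π
    simp only [q₁, Algebra.TensorProduct.map_tmul, this, TensorProduct.zero_tmul, map_zero]
  have h1 : (b ⊗ₜ[A ⧸ p] (1 : K) - (1 : κ) ⊗ₜ[A ⧸ p] c) * ι₂ (ι₁ (q₁ e)) = 0 := by
    have := congrArg (fun x => ι₂ (ι₁ (q₁ x))) h
    simp only [map_mul, hΦs, hΦπ, zero_mul] at this
    rw [neg_mul, neg_eq_zero] at this
    exact this
  have h2 : ι₂ (ι₁ (q₁ e)) = 0 := nzd_dom b hb c _ h1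
  have h3 : q₁ e = 0 := by
    have := (map_eq_zero_iff ι₂ ι₂.injective).mp h2
    exact (map_eq_zero_iff ι₁ ι₁.injective).mp this
  have h4 : e ∈ RingHom.ker q₁ := h3
  rw [Algebra.TensorProduct.map_ker f g hf hg] at h4
  have hle : (RingHom.ker f).map (Algebra.TensorProduct.includeLeft : R →ₐ[A] R ⊗[A] L) ⊔
      (RingHom.ker g).map (Algebra.TensorProduct.includeRight : L →ₐ[A] R ⊗[A] L) ≤
      Ideal.span {π ⊗ₜ[A] (1 : L)} := by
    apply sup_le
    · rw [Ideal.map_le_iff_le_comap]
      intro r hr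
      have hr' : r ∈ IsLocalRing.maximalIdeal R := by
        have : IsLocalRing.residue R r = 0 := hr
        rwa [IsLocalRing.residue_eq_zero_iff] at this
      rw [hπ, Ideal.mem_span_singleton'] at hr'
      obtain ⟨a, rfl⟩ := hr'
      rw [Ideal.mem_comap]
      show (a * π) ⊗ₜ[A] (1 : L) ∈ _
      rw [Ideal.mem_span_singleton']
      exact ⟨a ⊗ₜ 1, by rw [Algebra.TensorProduct.tmul_mul_tmul, mul_one]⟩
    · rw [Ideal.map_le_iff_le_comap]
      intro l hl
      have hl' : l ∈ IsLocalRing.maximalIdeal L := by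
        have : IsLocalRing.residue L l = 0 := hl
        rwa [IsLocalRing.residue_eq_zero_iff] at this
      rw [hpL] at hl'
      rw [Ideal.mem_comap]
      refine Submodule.span_induction (p := fun l _ => (1 : R) ⊗ₜ[A] l ∈
        Ideal.span {π ⊗ₜ[A] (1 : L)}) ?_ ?_ ?_ ?_ hl'
      · rintro _ ⟨a, ha, rfl⟩
        have ha' : algebraMap A R a ∈ IsLocalRing.maximalIdeal R := by
          have : a ∈ (IsLocalRing.maximalIdeal R).comap (algebraMap A R) := by rw [hR]; exact ha
          exact this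
        rw [hπ, Ideal.mem_span_singleton'] at ha'
        obtain ⟨r, hr⟩ := ha'
        have : (1 : R) ⊗ₜ[A] (algebraMap A L a) = (r ⊗ₜ[A] (1 : L)) * (π ⊗ₜ[A] (1 : L)) := by
          rw [Algebra.TensorProduct.tmul_mul_tmul, mul_one, hr, Algebra.algebraMap_eq_smul_one,
            Algebra.algebraMap_eq_smul_one (A := R), TensorProduct.smul_tmul]
        rw [this]
        exact Ideal.mul_mem_left _ _ (Ideal.mem_span_singleton_self _)
      · rw [TensorProduct.tmul_zero]; exact Ideal.zero_mem _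
      · intro x y _ _ hx hy
        rw [TensorProduct.tmul_add]; exact Ideal.add_mem _ hx hy
      · intro a x _ hx
        have : (1 : R) ⊗ₜ[A] (a • x) = ((1 : R) ⊗ₜ[A] a) * ((1 : R) ⊗ₜ[A] x) := by
          rw [Algebra.TensorProduct.tmul_mul_tmul, mul_one, smul_eq_mul]
        rw [this]
        exact Ideal.mul_mem_left _ _ hx
  have h5 := hle h4
  rw [Ideal.mem_span_singleton'] at h5
  obtain ⟨a, ha⟩ := h5
  exact ⟨a, by rw [← ha, mul_comm]⟩

end


section
variable {A : Type u} [CommRing A] {R L : Type u} [CommRing R] [CommRing L]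
  [Algebra A R] [Algebra A L] [Algebra A[X] R] [Algebra A[X] L]
  [IsScalarTower A A[X] R] [IsScalarTower A A[X] L]

/-- Transfer of the valuative hypothesis from `A` to `A[X]`: if `R ⊗[A] L` is flat over the
discrete valuation ring `R`, the maximal ideal of `L` is generated by `p` and lies over `p[X]`,
then `R ⊗[A[X]] L` is flat over `R`. -/
theorem flat_tensor_poly (p : Ideal A) [p.IsPrime] [IsLocalRing L] [IsDomain R]
    [IsDiscreteValuationRing R]
    (hpL : IsLocalRing.maximalIdeal L = p.map (algebraMap A L))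
    (htr : (IsLocalRing.maximalIdeal L).comap (algebraMap A[X] L) = p.map C)
    (hR : (IsLocalRing.maximalIdeal R).comap (algebraMap A R) = p)
    [hfl : Module.Flat R (R ⊗[A] L)] : Module.Flat R (R ⊗[A[X]] L) := by
  obtain ⟨π, hπ⟩ := IsDiscreteValuationRing.exists_irreducible R
  have hπm : IsLocalRing.maximalIdeal R = Ideal.span {π} := hπ.maximalIdeal_eq
  have hreg := (flat_dvr_iff (R ⊗[A] L) π hπ).mp hfl
  have hsm : ∀ e : R ⊗[A] L, π • e = (π ⊗ₜ[A] (1 : L)) * e := by
    intro e
    rw [Algebra.smul_def, Algebra.TensorProduct.algebraMap_apply]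
    rfl
  have h1 : ∀ e : R ⊗[A] L, (π ⊗ₜ[A] (1 : L)) * e = 0 → e = 0 := by
    intro e he
    exact hreg e (by rw [hsm, he])
  have h2 := sreg_mod_pi p π hπm hpL htr hR
  have h3 := swap_regular (π ⊗ₜ[A] (1 : L))
    ((algebraMap A[X] R X) ⊗ₜ[A] (1 : L) - (1 : R) ⊗ₜ[A] (algebraMap A[X] L X)) h1 h2
  rw [flat_dvr_iff _ π hπ]
  intro e₁ he₁
  let Ψ : R ⊗[A] L →ₐ[R] R ⊗[A[X]] L := Algebra.TensorProduct.mapOfCompatibleSMul A[X] A R R L
  obtain ⟨e, rfl⟩ := Algebra.TensorProduct.mapOfCompatibleSMul_surjective A[X] A R R L e₁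
  have hΨs : Ψ ((algebraMap A[X] R X) ⊗ₜ[A] (1 : L) - (1 : R) ⊗ₜ[A] (algebraMap A[X] L X)) = 0 := by
    simp only [Ψ, map_sub, Algebra.TensorProduct.mapOfCompatibleSMul_tmul]
    rw [Algebra.algebraMap_eq_smul_one, Algebra.algebraMap_eq_smul_one (A := L),
      TensorProduct.smul_tmul, sub_self]
  have h4 : Ψ ((π ⊗ₜ[A] (1 : L)) * e) = 0 := by
    rw [← hsm, map_smul]; exact he₁
  have h5 : TensorProduct.mapOfCompatibleSMul A[X] A A[X] R L ((π ⊗ₜ[A] (1 : L)) * e) = 0 := h4
  have h6 := ker_le_span _ h5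
  rw [Ideal.mem_span_singleton'] at h6
  obtain ⟨e', he'⟩ := h6
  obtain ⟨e'', rfl⟩ := h3 e e' (by rw [← he', mul_comm])
  show Ψ _ = 0
  rw [map_mul, hΨs, zero_mul]

end

end Groth.Agent.Lib.Helper4.ValFlat3
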