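import Mathlib
import Groth.Agent.Lib.Helper4.FlatDVR1
import Groth.Agent.Lib.Helper1.LocalCrit
import Groth.Agent.Lib.Helper4.RelEffCartier

/-!
# Local valuative criterion of flatness for finite modules (helper4)
-/

set_option backward.isDefEq.respectTransparency.types false
set_option synthInstance.maxHeartbeats 400000
set_option autoImplicit false
set_option linter.unusedSectionVars false
set_option linter.style.haveILetI false
set_option linter.unusedSimpArgs false
universe u v w
open TensorProduct

namespace Groth.Agent.Lib.Helper4.ValFlat1

open Groth.Agent.Lib.Helper4.FlatDVR1 in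
/-- Local form of the valuative criterion for flatness of finite modules: over a reduced
Noetherian local ring, a finite module is flat as soon as its base change to every discrete
valuation ring dominating the local ring is flat. -/
theorem flat_of_local_dvr {H : Type u} [CommRing H] [IsNoetherianRing H] [IsReduced H]
    [IsLocalRing H] (M : Type u) [AddCommGroup M] [Module H M] [Module.Finite H M]
    (h : ∀ (W : Type u) [CommRing W] [IsDomain W] [IsDiscreteValuationRing W] [Algebra H W],
      (IsLocalRing.maximalIdeal W).comap (algebraMap H W) = IsLocalRing.maximalIdeal H →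
      Module.Flat W (W ⊗[H] M)) :
    Module.Flat H M := by
  have key : ∀ (q : Ideal H) [q.IsPrime], q ≤ IsLocalRing.maximalIdeal H →
      Module.finrank q.ResidueField (q.ResidueField ⊗[H] M) =
        Module.finrank (IsLocalRing.maximalIdeal H).ResidueField
          ((IsLocalRing.maximalIdeal H).ResidueField ⊗[H] M) := by
    intro q _ hqm
    by_cases hne : q = IsLocalRing.maximalIdeal H
    · subst hne; rfl
    obtain ⟨W, i1, i2, i3, φ, hφ1, hφ2⟩ :=
      exists_dvr_between q (IsLocalRing.maximalIdeal H) hqm hne
    letI := φ.toAlgebra
    haveI : Module.Flat W (W ⊗[H] M) := h W hφ2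
    have e1 := finrank_fiber_baseChange (B := W) M (⊥ : Ideal W) q hφ1
    have e2 := finrank_fiber_baseChange (B := W) M (IsLocalRing.maximalIdeal W)
      (IsLocalRing.maximalIdeal H) hφ2
    have e3 := Ideal.finrank_fiber_eq_finrank (R := W) (M := W ⊗[H] M) (⊥ : Ideal W)
    have e4 := Ideal.finrank_fiber_eq_finrank (R := W) (M := W ⊗[H] M) (IsLocalRing.maximalIdeal W)
    rw [← e1, ← e2]
    exact e3.trans e4.symm
  apply Module.flat_of_localized_maximal
  intro m hm
  haveI : m.IsPrime := hm.isPrime
  have hm' : m = IsLocalRing.maximalIdeal H := IsLocalRing.eq_maximalIdeal hm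
  subst hm'
  haveI := Groth.Agent.Lib.Helper4.FiberKer2.free_atPrime_of_const_rank M
    (IsLocalRing.maximalIdeal H) _ (fun q hq hqm => key q hqm)
  exact Module.Flat.trans H (Localization.AtPrime (IsLocalRing.maximalIdeal H)) _

end Groth.Agent.Lib.Helper4.ValFlat1
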