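import Mathlib
import Groth.Agent.S0506
import Groth.Agent.S0507
import Groth.Agent.S0508
import Groth.Agent.S0509
import Groth.Agent.S0511
import Groth.Agent.S0514
import Groth.Agent.S5035
import Groth.Agent.Lib.Helper1.LocalCrit
import Groth.Agent.Lib.Helper4.ValFlat1

/-!
# The quasi-finite case of the valuative criterion of flatness via henselization (helper4)
-/

set_option backward.isDefEq.respectTransparency.types false
set_option synthInstance.maxHeartbeats 400000
set_option autoImplicit false
set_option linter.unusedSectionVars false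
set_option linter.style.haveILetI false
set_option linter.unusedSimpArgs false
universe u v w
open TensorProduct Polynomial

namespace Groth.Agent.Lib.Helper4.ValFlat4

/-- Base change of a localization of `H ⊗[A] L` along `H → W` is flat over `W` when
`W ⊗[A] L` is. -/
theorem flat_tensor_localization {A H W L : Type u} [CommRing A] [CommRing H] [CommRing W]
    [CommRing L] [Algebra A H] [Algebra H W] [Algebra A W] [IsScalarTower A H W] [Algebra A L]
    (P : Ideal (H ⊗[A] L)) [P.IsPrime] [hfl : Module.Flat W (W ⊗[A] L)] :
    Module.Flat W (W ⊗[H] Localization.AtPrime P) := by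
  let e : W ⊗[H] (H ⊗[A] L) ≃ₐ[W] W ⊗[A] L := Algebra.TensorProduct.cancelBaseChange A H W W L
  haveI : Module.Flat W (W ⊗[H] (H ⊗[A] L)) := Module.Flat.of_linearEquiv e.toLinearEquiv
  letI alg : Algebra (W ⊗[H] (H ⊗[A] L)) (W ⊗[H] Localization.AtPrime P) :=
    (Algebra.TensorProduct.map (AlgHom.id H W)
      (IsScalarTower.toAlgHom H (H ⊗[A] L) (Localization.AtPrime P))).toRingHom.toAlgebra
  haveI : IsScalarTower W (W ⊗[H] (H ⊗[A] L)) (W ⊗[H] Localization.AtPrime P) :=
    IsScalarTower.of_algebraMap_eq (R := W) (S := W ⊗[H] (H ⊗[A] L))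
      (A := W ⊗[H] Localization.AtPrime P) <| by
      intro w
      show _ = (Algebra.TensorProduct.map (AlgHom.id H W)
        (IsScalarTower.toAlgHom H (H ⊗[A] L) (Localization.AtPrime P))) _
      simp [Algebra.TensorProduct.algebraMap_apply]
  haveI : IsLocalization (P.primeCompl.map
      (Algebra.TensorProduct.includeRight (R := H) (A := W) (B := H ⊗[A] L)))
      (W ⊗[H] Localization.AtPrime P) :=
    IsLocalization.tensorProduct_tensorProduct_right H W P.primeCompl (Localization.AtPrime P)
      (by
        refine RingHom.ext fun x => ?_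
        show (Algebra.TensorProduct.map (AlgHom.id H W)
          (IsScalarTower.toAlgHom H (H ⊗[A] L) (Localization.AtPrime P))) ((1 : W) ⊗ₜ[H] x) = _
        simp)
  haveI : Module.Flat (W ⊗[H] (H ⊗[A] L)) (W ⊗[H] Localization.AtPrime P) :=
    IsLocalization.flat _ (P.primeCompl.map
      (Algebra.TensorProduct.includeRight (R := H) (A := W) (B := H ⊗[A] L)))
  exact Module.Flat.trans W (W ⊗[H] (H ⊗[A] L)) (W ⊗[H] Localization.AtPrime P)


/-- The localization of `H ⊗[A] B_z` at a prime `P` is the localization of `H ⊗[A] B` at the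
contraction of `P`; in particular finiteness over `H` transfers. -/
theorem finite_localization_tensor {A H B : Type u} [CommRing A] [CommRing H] [CommRing B]
    [Algebra A H] [Algebra A B] (z : Ideal B) [z.IsPrime]
    (P : Ideal (H ⊗[A] Localization.AtPrime z)) [P.IsPrime]
    (zh : Ideal (H ⊗[A] B)) [zh.IsPrime]
    (hzh : zh = P.comap (Algebra.TensorProduct.map (AlgHom.id H H)
      (IsScalarTower.toAlgHom A B (Localization.AtPrime z))).toRingHom)
    [hfin : Module.Finite H (Localization.AtPrime zh)] :
    Module.Finite H (Localization.AtPrime P) := by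
  letI alg : Algebra (H ⊗[A] B) (H ⊗[A] Localization.AtPrime z) :=
    (Algebra.TensorProduct.map (AlgHom.id H H)
      (IsScalarTower.toAlgHom A B (Localization.AtPrime z))).toRingHom.toAlgebra
  haveI : IsScalarTower H (H ⊗[A] B) (H ⊗[A] Localization.AtPrime z) :=
    IsScalarTower.of_algebraMap_eq (R := H) (S := H ⊗[A] B)
      (A := H ⊗[A] Localization.AtPrime z) <| by
      intro w
      show _ = (Algebra.TensorProduct.map (AlgHom.id H H)
        (IsScalarTower.toAlgHom A B (Localization.AtPrime z))) _
      simp [Algebra.TensorProduct.algebraMap_apply]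
  haveI : IsLocalization (z.primeCompl.map
      (Algebra.TensorProduct.includeRight (R := A) (A := H) (B := B)))
      (H ⊗[A] Localization.AtPrime z) :=
    IsLocalization.tensorProduct_tensorProduct_right A H z.primeCompl (Localization.AtPrime z)
      (by
        refine RingHom.ext fun x => ?_
        show (Algebra.TensorProduct.map (AlgHom.id H H)
          (IsScalarTower.toAlgHom A B (Localization.AtPrime z))) ((1 : H) ⊗ₜ[A] x) = _
        simp)
  haveI : IsScalarTower H (H ⊗[A] B) (Localization.AtPrime P) :=
    IsScalarTower.to₁₂₄ H (H ⊗[A] B) (H ⊗[A] Localization.AtPrime z) (Localization.AtPrime P)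
  haveI h1 : IsLocalization.AtPrime (Localization.AtPrime P)
      (P.comap (algebraMap (H ⊗[A] B) (H ⊗[A] Localization.AtPrime z))) :=
    IsLocalization.isLocalization_isLocalization_atPrime_isLocalization (z.primeCompl.map
      (Algebra.TensorProduct.includeRight (R := A) (A := H) (B := B))) (Localization.AtPrime P) P
  have h2 : P.comap (algebraMap (H ⊗[A] B) (H ⊗[A] Localization.AtPrime z)) = zh := hzh.symm
  haveI h3 : IsLocalization.AtPrime (Localization.AtPrime P) zh := by
    have := h1
    simp only [h2] at this
    exact this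
  let e : Localization.AtPrime zh ≃ₐ[H ⊗[A] B] Localization.AtPrime P :=
    IsLocalization.algEquiv zh.primeCompl _ _
  exact Module.Finite.equiv (e.toLinearEquiv.restrictScalars H)


attribute [local instance] Algebra.TensorProduct.rightAlgebra in
/-- Descent of flatness along the local flat map `L → (H ⊗[A] L)_P`. -/
theorem flat_of_flat_localization_tensor {A H L : Type u} [CommRing A] [CommRing H] [CommRing L]
    [IsLocalRing L] [Algebra A H] [Algebra A L] [Module.Flat A H]
    (P : Ideal (H ⊗[A] L)) [P.IsPrime]
    (hP : P.comap (Algebra.TensorProduct.includeRight (R := A) (A := H) (B := L)).toRingHom =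
      IsLocalRing.maximalIdeal L)
    [hfl : Module.Flat A (Localization.AtPrime P)] : Module.Flat A L := by
  let e : H ⊗[A] L ≃ₐ[L] L ⊗[A] H :=
    { __ := Algebra.TensorProduct.comm _ _ _, commutes' _ := rfl }
  haveI : Module.Flat L (H ⊗[A] L) := Module.Flat.of_linearEquiv e.toLinearEquiv
  haveI : Module.Flat (H ⊗[A] L) (Localization.AtPrime P) := IsLocalization.flat _ P.primeCompl
  haveI : Module.Flat L (Localization.AtPrime P) :=
    Module.Flat.trans L (H ⊗[A] L) (Localization.AtPrime P)
  haveI : IsLocalHom (algebraMap L (Localization.AtPrime P)) := by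
    refine ⟨fun l hl => ?_⟩
    by_contra hnu
    have h1 : l ∈ IsLocalRing.maximalIdeal L := (IsLocalRing.mem_maximalIdeal l).mpr hnu
    rw [← hP] at h1
    have h2 : ((1 : H) ⊗ₜ[A] l) ∈ P := h1
    have h3 : algebraMap (H ⊗[A] L) (Localization.AtPrime P) ((1 : H) ⊗ₜ[A] l) ∈
        IsLocalRing.maximalIdeal (Localization.AtPrime P) :=
      (IsLocalization.AtPrime.to_map_mem_maximal_iff (Localization.AtPrime P) P _).mpr h2
    have h4 : algebraMap L (Localization.AtPrime P) l =
        algebraMap (H ⊗[A] L) (Localization.AtPrime P) ((1 : H) ⊗ₜ[A] l) := by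
      rw [IsScalarTower.algebraMap_apply L (H ⊗[A] L) (Localization.AtPrime P)]
      rfl
    rw [h4] at hl
    exact (IsLocalRing.mem_maximalIdeal _).mp h3 hl
  haveI : Module.FaithfullyFlat L (Localization.AtPrime P) :=
    Module.FaithfullyFlat.of_flat_of_isLocalHom
  exact Groth.Agent.Helper1.LocalCrit.flat_of_faithfullyFlat_of_flat (R := A) (S := L)
    (Localization.AtPrime P)


/-- Existence of a prime of `H ⊗[A] L` lying over the maximal ideals of both factors, for `H` a
local `R₀`-algebra with trivial residue field extension. -/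
theorem exists_prime_tensor {A R₀ H L : Type u} [CommRing A] [CommRing R₀] [CommRing H]
    [CommRing L] [IsLocalRing R₀] [IsLocalRing H] [IsLocalRing L]
    [Algebra A R₀] [Algebra R₀ H] [Algebra A H] [IsScalarTower A R₀ H]
    [Algebra A L] [Algebra R₀ L] [IsScalarTower A R₀ L]
    [IsLocalHom (algebraMap R₀ H)] [IsLocalHom (algebraMap R₀ L)]
    (hbij : Function.Bijective (IsLocalRing.ResidueField.map (algebraMap R₀ H))) :
    ∃ P : Ideal (H ⊗[A] L), P.IsPrime ∧
      P.comap (Algebra.TensorProduct.includeRight (R := A) (A := H) (B := L)).toRingHom =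
        IsLocalRing.maximalIdeal L ∧
      P.comap (algebraMap H (H ⊗[A] L)) = IsLocalRing.maximalIdeal H := by
  let κ := IsLocalRing.ResidueField L
  let σ : IsLocalRing.ResidueField H ≃+* IsLocalRing.ResidueField R₀ :=
    (RingEquiv.ofBijective _ hbij).symm
  let ωH₀ : H →+* κ := (IsLocalRing.ResidueField.map (algebraMap R₀ L)).comp
    (σ.toRingHom.comp (IsLocalRing.residue H))
  have hω : ∀ a : R₀, ωH₀ (algebraMap R₀ H a) = IsLocalRing.residue L (algebraMap R₀ L a) := by
    intro a
    simp only [ωH₀, RingHom.comp_apply]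
    have h1 : IsLocalRing.residue H (algebraMap R₀ H a) =
        IsLocalRing.ResidueField.map (algebraMap R₀ H) (IsLocalRing.residue R₀ a) := by
      rw [IsLocalRing.ResidueField.map_residue]
    rw [h1]
    have h2 : σ.toRingHom (IsLocalRing.ResidueField.map (algebraMap R₀ H)
        (IsLocalRing.residue R₀ a)) = IsLocalRing.residue R₀ a := by
      show σ _ = _
      rw [RingEquiv.symm_apply_eq]
      rfl
    rw [h2, IsLocalRing.ResidueField.map_residue]
  let ωH : H →ₐ[A] κ :=
    { ωH₀ with
      commutes' := fun a => by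
        show ωH₀ (algebraMap A H a) = _
        rw [IsScalarTower.algebraMap_apply A R₀ H, hω, ← IsScalarTower.algebraMap_apply A R₀ L]
        rfl }
  let ωL : L →ₐ[A] κ := IsScalarTower.toAlgHom A L κ
  let ω : H ⊗[A] L →ₐ[A] κ := Algebra.TensorProduct.productMap ωH ωL
  refine ⟨RingHom.ker ω.toRingHom, RingHom.ker_isPrime _, ?_, ?_⟩
  · ext l
    rw [Ideal.mem_comap, RingHom.mem_ker]
    show ω ((1 : H) ⊗ₜ[A] l) = 0 ↔ _
    rw [Algebra.TensorProduct.productMap_apply_tmul, map_one, one_mul]
    show IsLocalRing.residue L l = 0 ↔ _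
    rw [IsLocalRing.residue_eq_zero_iff]
  · ext h
    rw [Ideal.mem_comap, RingHom.mem_ker, Algebra.TensorProduct.algebraMap_apply]
    show ω ((algebraMap H H h) ⊗ₜ[A] (1 : L)) = 0 ↔ _
    rw [Algebra.TensorProduct.productMap_apply_tmul, map_one, mul_one]
    show ωH₀ h = 0 ↔ _
    simp only [ωH₀, RingHom.comp_apply, Algebra.algebraMap_self, RingHom.id_apply]
    rw [map_eq_zero_iff _ (IsLocalRing.ResidueField.map (algebraMap R₀ L)).injective]
    show σ _ = 0 ↔ _
    rw [map_eq_zero_iff _ σ.injective, IsLocalRing.residue_eq_zero_iff]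


open Groth.Agent.Lib.Helper4.ValFlat1 in
/-- The quasi-finite case of the valuative criterion. -/
theorem flat_of_quasiFiniteAt {A : Type u} [CommRing A] [IsNoetherianRing A] {B : Type u}
    [CommRing B] [Algebra A B] [Algebra.FiniteType A B] (p : Ideal A) [p.IsPrime]
    (hred : IsReduced (Localization.AtPrime p)) (z : Ideal B) [z.IsPrime] [z.LiesOver p]
    [hqf : Algebra.QuasiFiniteAt A z]
    (hyp : ∀ (R : Type u) [CommRing R] [IsDomain R] [IsDiscreteValuationRing R] [Algebra A R],
      (IsLocalRing.maximalIdeal R).comap (algebraMap A R) = p →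
        Module.Flat R (R ⊗[A] Localization.AtPrime z)) :
    Module.Flat A (Localization.AtPrime z) := by
  obtain ⟨H, iH1, iH2, iH3, iH4, hH⟩ := Groth.Agent.S0506.result (Localization.AtPrime p)
  letI algAH : Algebra A H :=
    ((algebraMap (Localization.AtPrime p) H).comp (algebraMap A (Localization.AtPrime p))).toAlgebra
  haveI : IsScalarTower A (Localization.AtPrime p) H := .of_algebraMap_eq fun _ => rfl
  letI algR₀L : Algebra (Localization.AtPrime p) (Localization.AtPrime z) :=
    Localization.AtPrime.algebraOfLiesOver p z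
  have hbij := Groth.Agent.S0508.result (Localization.AtPrime p) H
  obtain ⟨P, hP, hPL, hPH⟩ := exists_prime_tensor (A := A) (R₀ := Localization.AtPrime p)
    (H := H) (L := Localization.AtPrime z) hbij
  haveI := hP
  haveI : IsNoetherianRing H :=
    (Groth.Agent.S0511.result (Localization.AtPrime p) H).mp inferInstance
  haveI : IsReduced H := (Groth.Agent.S0514.result (Localization.AtPrime p) H).mp hred
  haveI : HenselianLocalRing H := hH.henselian
  haveI : Module.FaithfullyFlat (Localization.AtPrime p) H :=
    Groth.Agent.S0509.result (Localization.AtPrime p) H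
  haveI : Module.Flat A H := Module.Flat.trans A (Localization.AtPrime p) H
  -- the contraction of `P`
  let φ : H ⊗[A] B →ₐ[H] H ⊗[A] Localization.AtPrime z :=
    Algebra.TensorProduct.map (AlgHom.id H H) (IsScalarTower.toAlgHom A B (Localization.AtPrime z))
  let zh : Ideal (H ⊗[A] B) := P.comap φ.toRingHom
  haveI : zh.IsPrime := Ideal.comap_isPrime _ _
  have hzhz : z = zh.comap (Algebra.TensorProduct.includeRight (R := A) (A := H) (B := B)).toRingHom := by
    ext x
    rw [Ideal.mem_comap]
    show _ ↔ φ ((1 : H) ⊗ₜ[A] x) ∈ P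
    have h1 : φ ((1 : H) ⊗ₜ[A] x) =
        (Algebra.TensorProduct.includeRight (R := A) (A := H) (B := Localization.AtPrime z))
          (algebraMap B (Localization.AtPrime z) x) := by
      simp [φ]
    rw [h1]
    have h2 : (Algebra.TensorProduct.includeRight (R := A) (A := H) (B := Localization.AtPrime z))
          (algebraMap B (Localization.AtPrime z) x) ∈ P ↔
        algebraMap B (Localization.AtPrime z) x ∈ IsLocalRing.maximalIdeal (Localization.AtPrime z) := by
      rw [← hPL]; rfl
    rw [h2, IsLocalization.AtPrime.to_map_mem_maximal_iff (Localization.AtPrime z) z]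
  haveI hlo : zh.LiesOver (IsLocalRing.maximalIdeal H) := by
    refine ⟨?_⟩
    rw [← hPH]
    ext h
    simp only [Ideal.under, Ideal.mem_comap]
    show _ ↔ φ (algebraMap H (H ⊗[A] B) h) ∈ P
    rw [AlgHom.commutes]
  haveI hqf' : Algebra.QuasiFiniteAt H zh := Algebra.QuasiFiniteAt.baseChange z zh hzhz
  haveI hfin : Module.Finite H (Localization.AtPrime zh) :=
    (Groth.Agent.S5035.result H).mp inferInstance (H ⊗[A] B) zh hlo hqf'
  haveI : Module.Finite H (Localization.AtPrime P) := finite_localization_tensor z P zh rfl
  haveI : Module.Flat H (Localization.AtPrime P) := by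
    apply flat_of_local_dvr
    intro W _ _ _ _ hW
    letI : Algebra A W := ((algebraMap H W).comp (algebraMap A H)).toAlgebra
    haveI : IsScalarTower A H W := .of_algebraMap_eq fun _ => rfl
    have hc : (IsLocalRing.maximalIdeal W).comap (algebraMap A W) = p := by
      rw [IsScalarTower.algebraMap_eq A H W, ← Ideal.comap_comap, hW,
        IsScalarTower.algebraMap_eq A (Localization.AtPrime p) H, ← Ideal.comap_comap,
        IsLocalRing.maximalIdeal_comap]
      exact IsLocalization.AtPrime.under_maximalIdeal (Localization.AtPrime p) p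
    haveI := hyp W hc
    exact flat_tensor_localization P
  haveI : Module.Flat A (Localization.AtPrime P) := Module.Flat.trans A H (Localization.AtPrime P)
  exact flat_of_flat_localization_tensor P hPL

end Groth.Agent.Lib.Helper4.ValFlat4
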