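import Mathlib
import Groth.Agent.Lib.Helper4.ValFlat3
import Groth.Agent.Lib.Helper4.ValFlat4

/-!
# Core of the valuative criterion of flatness: induction on the number of generators (helper4)
-/

set_option backward.isDefEq.respectTransparency.types false
set_option synthInstance.maxHeartbeats 400000
set_option autoImplicit false
set_option linter.unusedSectionVars false
set_option linter.style.haveILetI false
set_option linter.unusedSimpArgs false
universe u v w
open TensorProduct Polynomial

namespace Groth.Agent.Lib.Helper4.ValFlat5

/-- `(p[X])ᶜ ∩ A = p`. -/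
theorem comap_C_map_C {A : Type u} [CommRing A] (p : Ideal A) : (p.map C).comap C = p := by
  ext a
  rw [Ideal.mem_comap, Ideal.mem_map_C_iff]
  constructor
  · intro h
    simpa using h 0
  · intro h n
    rw [Polynomial.coeff_C]
    split_ifs
    · exact h
    · exact p.zero_mem

/-- If `A_p` is reduced then so is `A[X]` localized at `p[X]`. -/
theorem isReduced_localization_map_C {A : Type u} [CommRing A] (p : Ideal A) [p.IsPrime]
    (hred : IsReduced (Localization.AtPrime p)) :
    IsReduced (Localization.AtPrime (p.map (C : A →+* A[X]))) := by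
  classical
  refine ⟨fun y hy => ?_⟩
  obtain ⟨x, t, rfl⟩ := IsLocalization.exists_mk'_eq (p.map (C : A →+* A[X])).primeCompl y
  obtain ⟨n, hn⟩ := hy
  rw [← IsLocalization.mk'_pow, IsLocalization.mk'_eq_zero_iff] at hn
  obtain ⟨t', ht'⟩ := hn
  -- `t' * x` is nilpotent
  have hnil : IsNilpotent ((t' : A[X]) * x) := by
    refine ⟨n + 1, ?_⟩
    have : ((t' : A[X]) * x) ^ (n + 1) = (t' : A[X]) ^ n * x * ((t' : A[X]) * x ^ n) := by ring
    rw [this, ht', mul_zero]
  rw [Polynomial.isNilpotent_iff] at hnil
  -- each coefficient is killed by some element outside `p`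
  have hcoef : ∀ j, ∃ u : A, u ∉ p ∧ u * ((t' : A[X]) * x).coeff j = 0 := by
    intro j
    have h1 : IsNilpotent (algebraMap A (Localization.AtPrime p) (((t' : A[X]) * x).coeff j)) :=
      (hnil j).map _
    have h2 := hred.eq_zero _ h1
    rw [IsLocalization.map_eq_zero_iff p.primeCompl] at h2
    obtain ⟨u, hu⟩ := h2
    exact ⟨u.1, u.2, hu⟩
  choose u hu1 hu2 using hcoef
  let U : A := ∏ j ∈ ((t' : A[X]) * x).support, u j
  have hU : U ∉ p := by
    intro h
    obtain ⟨j, -, hj⟩ := (Ideal.IsPrime.prod_mem_iff).mp h
    exact hu1 j hj
  have hUx : C U * ((t' : A[X]) * x) = 0 := by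
    ext j
    rw [Polynomial.coeff_C_mul, Polynomial.coeff_zero]
    by_cases hj : j ∈ ((t' : A[X]) * x).support
    · have : U = (∏ k ∈ ((t' : A[X]) * x).support.erase j, u k) * u j := by
        rw [Finset.prod_erase_mul _ _ hj]
      rw [this, mul_assoc, hu2 j, mul_zero]
    · rw [Polynomial.notMem_support_iff.mp hj, mul_zero]
  have hCU : C U ∉ p.map (C : A →+* A[X]) := by
    intro h
    have : U ∈ (p.map (C : A →+* A[X])).comap C := h
    rw [comap_C_map_C] at this
    exact hU this
  rw [IsLocalization.mk'_eq_zero_iff]
  refine ⟨⟨C U * (t' : A[X]), ?_⟩, ?_⟩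
  · exact (p.map (C : A →+* A[X])).primeCompl.mul_mem hCU t'.2
  · show C U * (t' : A[X]) * x = 0
    rw [mul_assoc, hUx]


/-- If all the generators of `B` are algebraic modulo `z` over the residue field of `p`, then the
residue field of `z` is finite over that of `p`. -/
theorem finite_residueField_of_algebraic {A B : Type u} [CommRing A] [CommRing B] [Algebra A B]
    {n : ℕ} (s : Fin n → B) (hs : Algebra.adjoin A (Set.range s) = ⊤) (p : Ideal A) [p.IsPrime]
    (z : Ideal B) [z.IsPrime] [z.LiesOver p]
    [Algebra (Localization.AtPrime p) (Localization.AtPrime z)]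
    [Localization.AtPrime.IsLiesOverAlgebra p z]
    (halg : ∀ i, ∃ f : A[X], aeval (s i) f ∈ z ∧ f ∉ p.map C) :
    Module.Finite p.ResidueField z.ResidueField := by
  classical
  let k := p.ResidueField
  let κ := z.ResidueField
  let sb : Fin n → κ := fun i => algebraMap B κ (s i)
  have hint : ∀ x ∈ Set.range sb, IsIntegral k x := by
    rintro _ ⟨i, rfl⟩
    obtain ⟨f, hf1, hf2⟩ := halg i
    apply IsAlgebraic.isIntegral
    refine ⟨f.map (algebraMap A k), ?_, ?_⟩
    · intro h0
      apply hf2
      rw [Ideal.mem_map_C_iff]
      intro m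
      have := congrArg (fun g => g.coeff m) h0
      simp only [Polynomial.coeff_map, Polynomial.coeff_zero] at this
      exact Ideal.algebraMap_residueField_eq_zero.mp this
    · rw [Polynomial.aeval_map_algebraMap]
      show aeval (algebraMap B κ (s i)) f = 0
      rw [Polynomial.aeval_algebraMap_apply]
      exact Ideal.algebraMap_residueField_eq_zero.mpr hf1
  haveI : Finite (Set.range sb) := Set.finite_range sb
  haveI hfd : FiniteDimensional k (IntermediateField.adjoin k (Set.range sb)) :=
    IntermediateField.finiteDimensional_adjoin hint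
  have htop : IntermediateField.adjoin k (Set.range sb) = ⊤ := by
    rw [eq_top_iff]
    intro w _
    have himg : ∀ x : B, algebraMap B κ x ∈ IntermediateField.adjoin k (Set.range sb) := by
      intro x
      have hx : x ∈ Algebra.adjoin A (Set.range s) := by rw [hs]; trivial
      induction hx using Algebra.adjoin_induction with
      | mem x hx =>
        obtain ⟨i, rfl⟩ := hx
        exact IntermediateField.subset_adjoin _ _ ⟨i, rfl⟩
      | algebraMap a =>
        rw [← IsScalarTower.algebraMap_apply A B κ, IsScalarTower.algebraMap_apply A k κ]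
        exact IntermediateField.algebraMap_mem _ _
      | add x y _ _ hx hy => rw [map_add]; exact add_mem hx hy
      | mul x y _ _ hx hy => rw [map_mul]; exact mul_mem hx hy
    obtain ⟨x, y, -, rfl⟩ := IsFractionRing.div_surjective (A := B ⧸ z) w
    obtain ⟨x, rfl⟩ := Ideal.Quotient.mk_surjective x
    obtain ⟨y, rfl⟩ := Ideal.Quotient.mk_surjective y
    have e1 : ∀ b : B, algebraMap (B ⧸ z) κ (Ideal.Quotient.mk z b) = algebraMap B κ b :=
      fun b => (IsScalarTower.algebraMap_apply B (B ⧸ z) κ b).symm
    rw [e1, e1]
    exact div_mem (himg x) (himg y)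
  rw [htop] at hfd
  exact Module.Finite.equiv (IntermediateField.topEquiv (F := k) (E := κ)).toLinearEquiv

/-- Quasi-finiteness at a prime whose residue field is finite over that of the base and at which
the fibre is a field. -/
theorem quasiFiniteAt_of_finite_residueField {A B : Type u} [CommRing A] [CommRing B]
    [Algebra A B] [Algebra.FiniteType A B] (p : Ideal A) [p.IsPrime]
    (z : Ideal B) [z.IsPrime] [z.LiesOver p]
    [Algebra (Localization.AtPrime p) (Localization.AtPrime z)]
    [Localization.AtPrime.IsLiesOverAlgebra p z]
    (hz : IsLocalRing.maximalIdeal (Localization.AtPrime z) =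
      p.map (algebraMap A (Localization.AtPrime z)))
    [Module.Finite p.ResidueField z.ResidueField] : Algebra.QuasiFiniteAt A z := by
  haveI : Algebra.QuasiFinite A z.ResidueField :=
    Algebra.QuasiFinite.trans A p.ResidueField z.ResidueField
  have hI : (z.under A).map (algebraMap A (Localization.AtPrime z)) =
      IsLocalRing.maximalIdeal (Localization.AtPrime z) := by
    rw [hz, ← Ideal.over_def z p]
  haveI : Algebra.WeaklyQuasiFiniteAt A z := by
    rw [Algebra.weaklyQuasiFiniteAt_iff]
    exact (Algebra.QuasiFinite.iff_of_algEquiv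
      (Ideal.quotientEquivAlgOfEq A hI)).mpr ‹Algebra.QuasiFinite A z.ResidueField›
  exact Algebra.QuasiFiniteAt.of_weaklyQuasiFiniteAt z


open Groth.Agent.Lib.Helper4.ValFlat3 Groth.Agent.Lib.Helper4.ValFlat4 in
/-- Core of the valuative criterion: induction on the number of generators. -/
theorem core (n : ℕ) : ∀ (A : Type u) [CommRing A] [IsNoetherianRing A] (B : Type u) [CommRing B]
    [Algebra A B] (s : Fin n → B) (_ : Algebra.adjoin A (Set.range s) = ⊤) (p : Ideal A)
    [p.IsPrime] (_ : IsReduced (Localization.AtPrime p)) (z : Ideal B) [z.IsPrime] [z.LiesOver p]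
    (_ : IsLocalRing.maximalIdeal (Localization.AtPrime z) =
      p.map (algebraMap A (Localization.AtPrime z)))
    (_ : ∀ (R : Type u) [CommRing R] [IsDomain R] [IsDiscreteValuationRing R] [Algebra A R],
      (IsLocalRing.maximalIdeal R).comap (algebraMap A R) = p →
        Module.Flat R (R ⊗[A] Localization.AtPrime z)),
    Module.Flat A (Localization.AtPrime z) := by
  induction n with
  | zero =>
    intro A _ _ B _ _ s hs p _ hred z _ _ hz hyp
    haveI : Algebra.FiniteType A B :=
      ⟨Subalgebra.fg_def.mpr ⟨Set.range s, Set.finite_range s, hs⟩⟩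
    letI := Localization.AtPrime.algebraOfLiesOver p z
    haveI := finite_residueField_of_algebraic s hs p z (fun i => i.elim0)
    haveI := quasiFiniteAt_of_finite_residueField p z hz
    exact flat_of_quasiFiniteAt p hred z hyp
  | succ m ih =>
    intro A _ _ B _ _ s hs p _ hred z _ _ hz hyp
    haveI : Algebra.FiniteType A B :=
      ⟨Subalgebra.fg_def.mpr ⟨Set.range s, Set.finite_range s, hs⟩⟩
    by_cases hcase : ∃ i, z.comap (aeval (R := A) (s i)).toRingHom ≤ p.map C
    · obtain ⟨i, hi⟩ := hcase
      letI algA'B : Algebra A[X] B := (aeval (R := A) (s i)).toRingHom.toAlgebra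
      haveI : IsScalarTower A A[X] B := IsScalarTower.of_algebraMap_eq fun a => by
        rw [RingHom.algebraMap_toAlgebra]
        simp
      have hX : algebraMap A[X] B X = s i := by
        rw [RingHom.algebraMap_toAlgebra]; simp
      -- `z` lies over `p[X]`
      haveI hlo : z.LiesOver (p.map (C : A →+* A[X])) := by
        refine ⟨le_antisymm ?_ hi⟩
        rw [Ideal.map_le_iff_le_comap]
        intro a ha
        show algebraMap A[X] B (C a) ∈ z
        have e1 : (C a : A[X]) = algebraMap A A[X] a := rfl
        rw [e1, ← IsScalarTower.algebraMap_apply A A[X] B]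
        have : a ∈ z.under A := by rw [← Ideal.over_def z p]; exact ha
        exact this
      have hred' := isReduced_localization_map_C p hred
      -- generators
      have hs' : Algebra.adjoin A[X] (Set.range fun j : Fin m => s (i.succAbove j)) = ⊤ := by
        rw [eq_top_iff]
        have h1 : Algebra.adjoin A (Set.range s) ≤
            (Algebra.adjoin A[X] (Set.range fun j : Fin m => s (i.succAbove j))).restrictScalars A := by
          rw [Algebra.adjoin_le_iff]
          rintro _ ⟨j, rfl⟩
          show s j ∈ Algebra.adjoin A[X] (Set.range fun j : Fin m => s (i.succAbove j))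
          by_cases hj : j = i
          · subst hj
            rw [← hX]
            exact (Algebra.adjoin A[X] (Set.range fun j' : Fin m => s (j.succAbove j'))).algebraMap_mem X
          · obtain ⟨j', rfl⟩ := Fin.exists_succAbove_eq hj
            exact Algebra.subset_adjoin (R := A[X]) ⟨j', rfl⟩
        rw [hs] at h1
        intro x _
        exact h1 (Algebra.mem_top : x ∈ (⊤ : Subalgebra A B))
      have hz' : IsLocalRing.maximalIdeal (Localization.AtPrime z) =
          (p.map (C : A →+* A[X])).map (algebraMap A[X] (Localization.AtPrime z)) := by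
        rw [hz, Ideal.map_map]
        congr 1
        refine RingHom.ext fun a => ?_
        have e1 : (C a : A[X]) = algebraMap A A[X] a := rfl
        rw [RingHom.comp_apply, e1, ← IsScalarTower.algebraMap_apply A A[X] (Localization.AtPrime z)]
      have htr : (IsLocalRing.maximalIdeal (Localization.AtPrime z)).comap
          (algebraMap A[X] (Localization.AtPrime z)) = p.map C := by
        rw [IsScalarTower.algebraMap_eq A[X] B (Localization.AtPrime z), ← Ideal.comap_comap]
        have e2 : Ideal.comap (algebraMap B (Localization.AtPrime z))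
            (IsLocalRing.maximalIdeal (Localization.AtPrime z)) = z :=
          IsLocalization.AtPrime.under_maximalIdeal (Localization.AtPrime z) z
        rw [e2]
        exact (Ideal.over_def z (p.map (C : A →+* A[X]))).symm
      have hyp' : ∀ (R : Type u) [CommRing R] [IsDomain R] [IsDiscreteValuationRing R]
          [Algebra A[X] R],
          (IsLocalRing.maximalIdeal R).comap (algebraMap A[X] R) = p.map C →
            Module.Flat R (R ⊗[A[X]] Localization.AtPrime z) := by
        intro R _ _ _ _ hR
        letI : Algebra A R := ((algebraMap A[X] R).comp C).toAlgebra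
        haveI : IsScalarTower A A[X] R := IsScalarTower.of_algebraMap_eq fun a => rfl
        have hR' : (IsLocalRing.maximalIdeal R).comap (algebraMap A R) = p := by
          show (IsLocalRing.maximalIdeal R).comap ((algebraMap A[X] R).comp C) = p
          rw [← Ideal.comap_comap, hR, comap_C_map_C]
        haveI := hyp R hR'
        exact flat_tensor_poly p hz htr hR'
      haveI := ih A[X] B (fun j : Fin m => s (i.succAbove j)) hs' (p.map C) hred' z hz' hyp'
      exact Module.Flat.trans A A[X] (Localization.AtPrime z)
    · push Not at hcase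
      have halg : ∀ i, ∃ f : A[X], aeval (s i) f ∈ z ∧ f ∉ p.map C := by
        intro i
        obtain ⟨f, hf1, hf2⟩ := Set.not_subset.mp (hcase i)
        exact ⟨f, hf1, hf2⟩
      letI := Localization.AtPrime.algebraOfLiesOver p z
      haveI := finite_residueField_of_algebraic s hs p z halg
      haveI := quasiFiniteAt_of_finite_residueField p z hz
      exact flat_of_quasiFiniteAt p hred z hyp

end Groth.Agent.Lib.Helper4.ValFlat5
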