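import Mathlib
import Groth.Agent.Lib.Helper4.ValFlat2
import Groth.Agent.Lib.Helper4.ValFlat3
import Groth.Agent.Lib.Helper4.ValFlat5

/-!
# Ring-level valuative criterion of flatness (EGA IV 15.2.2) (helper4)
-/

set_option backward.isDefEq.respectTransparency.types false
set_option synthInstance.maxHeartbeats 400000
set_option autoImplicit false
set_option linter.unusedSectionVars false
set_option linter.style.haveILetI false
set_option linter.unusedSimpArgs false
universe u v w
open TensorProduct Polynomial

namespace Groth.Agent.Lib.Helper4.ValFlat6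

open Groth.Agent.Lib.Helper4.ValFlat3 in
/-- From flatness of the local rings of `R ⊗[A] B` at the primes over `z` and the closed point of
the discrete valuation ring `R` to flatness of `R ⊗[A] B_z`, for `z` a minimal prime of `pB`. -/
theorem flat_tensor_of_flat_localizations {A B : Type u} [CommRing A] [CommRing B] [Algebra A B]
    (p : Ideal A) (z : Ideal B) [z.IsPrime]
    (hzmin : z ∈ (p.map (algebraMap A B)).minimalPrimes)
    (L' : Type u) [CommRing L'] [Algebra B L'] [Algebra A L'] [IsScalarTower A B L']
    [IsLocalization.AtPrime L' z]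
    (R : Type u) [CommRing R] [IsDomain R] [IsDiscreteValuationRing R] [Algebra A R]
    (hR : (IsLocalRing.maximalIdeal R).comap (algebraMap A R) = p)
    (hyp : ∀ (ζ : Ideal (R ⊗[A] B)) [ζ.IsPrime],
      ζ.comap (Algebra.TensorProduct.includeRight (R := A) (A := R) (B := B)).toRingHom = z →
      ζ.comap (algebraMap R (R ⊗[A] B)) = IsLocalRing.maximalIdeal R →
      Module.Flat R (Localization.AtPrime ζ)) :
    Module.Flat R (R ⊗[A] L') := by
  classical
  obtain ⟨π, hπ⟩ := IsDiscreteValuationRing.exists_irreducible R
  have hπm : IsLocalRing.maximalIdeal R = Ideal.span {π} := hπ.maximalIdeal_eq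
  letI alg : Algebra (R ⊗[A] B) (R ⊗[A] L') :=
    (Algebra.TensorProduct.map (AlgHom.id R R) (IsScalarTower.toAlgHom A B L')).toRingHom.toAlgebra
  haveI : IsScalarTower R (R ⊗[A] B) (R ⊗[A] L') :=
    IsScalarTower.of_algebraMap_eq (R := R) (S := R ⊗[A] B) (A := R ⊗[A] L') <| by
      intro w
      show _ = (Algebra.TensorProduct.map (AlgHom.id R R) (IsScalarTower.toAlgHom A B L')) _
      simp [Algebra.TensorProduct.algebraMap_apply]
  haveI hloc : IsLocalization (z.primeCompl.map
      (Algebra.TensorProduct.includeRight (R := A) (A := R) (B := B))) (R ⊗[A] L') :=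
    IsLocalization.tensorProduct_tensorProduct_right A R z.primeCompl L'
      (by
        refine RingHom.ext fun x => ?_
        show (Algebra.TensorProduct.map (AlgHom.id R R) (IsScalarTower.toAlgHom A B L'))
          ((1 : R) ⊗ₜ[A] x) = _
        simp)
  set N : Submonoid (R ⊗[A] B) := z.primeCompl.map
      (Algebra.TensorProduct.includeRight (R := A) (A := R) (B := B)) with hN
  rw [flat_dvr_iff _ π hπ]
  intro y hy
  obtain ⟨e, n, rfl⟩ := IsLocalization.exists_mk'_eq N y
  -- `π • e` dies in the localization
  have h1 : IsLocalization.mk' (R ⊗[A] L') (π • e) n = 0 := by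
    rw [← hy, Algebra.smul_def π e, Algebra.smul_def π,
      IsScalarTower.algebraMap_apply R (R ⊗[A] B) (R ⊗[A] L'), ← IsLocalization.mul_mk'_eq_mk'_of_mul]
  rw [IsLocalization.mk'_eq_zero_iff] at h1
  obtain ⟨n', hn'⟩ := h1
  -- the element `e₁ = n' * e` is `π`-torsion
  set e₁ : R ⊗[A] B := (n' : R ⊗[A] B) * e with he₁
  have hπe₁ : (π ⊗ₜ[A] (1 : B)) * e₁ = 0 := by
    have : π • e = (π ⊗ₜ[A] (1 : B)) * e := by
      rw [Algebra.smul_def, Algebra.TensorProduct.algebraMap_apply]; rfl
    rw [he₁, ← mul_assoc, mul_comm _ (n' : R ⊗[A] B), mul_assoc, ← this]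
    exact hn'
  -- it suffices to kill `e₁` by an element of `N`
  suffices hsuff : ∃ n'' ∈ N, n'' * e₁ = 0 by
    obtain ⟨n'', hn''N, hn''⟩ := hsuff
    rw [IsLocalization.mk'_eq_zero_iff]
    exact ⟨⟨n'', hn''N⟩ * n', by
      show n'' * (n' : R ⊗[A] B) * e = 0
      rw [mul_assoc]; exact hn''⟩
  by_contra hcon
  push Not at hcon
  -- the annihilator of `e₁` is disjoint from `N`
  let Ann : Ideal (R ⊗[A] B) := Ideal.span {e₁} |>.annihilator
  have hAnn : ∀ a, a ∈ Ann ↔ a * e₁ = 0 := by
    intro a
    simp only [Ann, Submodule.mem_annihilator_span_singleton, smul_eq_mul]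
  have hdisj : Disjoint (Ann : Set (R ⊗[A] B)) (N : Set (R ⊗[A] B)) := by
    rw [Set.disjoint_left]
    intro a ha haN
    exact hcon a haN ((hAnn a).mp ha)
  obtain ⟨ζ, hζp, hAζ, hζN⟩ := Ideal.exists_le_prime_disjoint Ann N hdisj
  haveI := hζp
  -- `ζ` lies over the maximal ideal of `R`
  have hπζ : (π ⊗ₜ[A] (1 : B)) ∈ ζ := hAζ ((hAnn _).mpr hπe₁)
  have hζR : ζ.comap (algebraMap R (R ⊗[A] B)) = IsLocalRing.maximalIdeal R := by
    have hle : IsLocalRing.maximalIdeal R ≤ ζ.comap (algebraMap R (R ⊗[A] B)) := by
      rw [hπm, Ideal.span_singleton_le_iff_mem, Ideal.mem_comap,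
        Algebra.TensorProduct.algebraMap_apply]
      exact hπζ
    exact ((IsLocalRing.maximalIdeal.isMaximal R).eq_of_le
      (Ideal.comap_ne_top _ hζp.ne_top) hle).symm
  -- `ζ` lies over `z`
  have hζz : ζ.comap (Algebra.TensorProduct.includeRight (R := A) (A := R) (B := B)).toRingHom = z := by
    have hle : ζ.comap (Algebra.TensorProduct.includeRight (R := A) (A := R) (B := B)).toRingHom ≤ z := by
      intro b hb
      by_contra hbz
      have : (Algebra.TensorProduct.includeRight (R := A) (A := R) (B := B)) b ∈ N :=
        ⟨b, hbz, rfl⟩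
      exact Set.disjoint_left.mp hζN hb this
    refine le_antisymm hle (hzmin.2 ⟨Ideal.comap_isPrime _ _, ?_⟩ hle)
    rw [Ideal.map_le_iff_le_comap]
    intro a ha
    rw [Ideal.mem_comap, Ideal.mem_comap]
    show (1 : R) ⊗ₜ[A] (algebraMap A B a) ∈ ζ
    have h2 : (1 : R) ⊗ₜ[A] (algebraMap A B a) = algebraMap R (R ⊗[A] B) (algebraMap A R a) := by
      rw [Algebra.TensorProduct.algebraMap_apply, Algebra.algebraMap_eq_smul_one (A := B),
        Algebra.algebraMap_self, RingHom.id_apply, Algebra.algebraMap_eq_smul_one (A := R),
        TensorProduct.smul_tmul]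
    rw [h2, ← Ideal.mem_comap, hζR]
    have : a ∈ (IsLocalRing.maximalIdeal R).comap (algebraMap A R) := by rw [hR]; exact ha
    exact this
  -- use flatness at `ζ`
  haveI := hyp ζ hζz hζR
  have h3 := (flat_dvr_iff (Localization.AtPrime ζ) π hπ).mp inferInstance
    (algebraMap (R ⊗[A] B) (Localization.AtPrime ζ) e₁) (by
      rw [Algebra.smul_def, IsScalarTower.algebraMap_apply R (R ⊗[A] B) (Localization.AtPrime ζ),
        ← map_mul, Algebra.TensorProduct.algebraMap_apply]
      have : (algebraMap R R π) ⊗ₜ[A] (1 : B) = π ⊗ₜ[A] (1 : B) := rfl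
      rw [this, hπe₁, map_zero])
  rw [IsLocalization.map_eq_zero_iff ζ.primeCompl] at h3
  obtain ⟨σ, hσ⟩ := h3
  exact σ.2 (hAζ ((hAnn _).mpr hσ))


open Groth.Agent.Lib.Helper4.ValFlat5 in
/-- The core statement for an arbitrary model `L'` of the localization at `z`. -/
theorem core' {A : Type u} [CommRing A] [IsNoetherianRing A] {B : Type u} [CommRing B]
    [Algebra A B] [Algebra.FiniteType A B] (p : Ideal A)
    [p.IsPrime] (hred : IsReduced (Localization.AtPrime p)) (z : Ideal B) [z.IsPrime]
    [z.LiesOver p]
    (L' : Type u) [CommRing L'] [Algebra B L'] [Algebra A L'] [IsScalarTower A B L']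
    [IsLocalization.AtPrime L' z]
    (hz : z.map (algebraMap B L') = p.map (algebraMap A L'))
    (hyp : ∀ (R : Type u) [CommRing R] [IsDomain R] [IsDiscreteValuationRing R] [Algebra A R],
      (IsLocalRing.maximalIdeal R).comap (algebraMap A R) = p →
        Module.Flat R (R ⊗[A] L')) :
    Module.Flat A L' := by
  let e : Localization.AtPrime z ≃ₐ[B] L' := IsLocalization.algEquiv z.primeCompl _ _
  let eA : Localization.AtPrime z ≃ₐ[A] L' := e.restrictScalars A
  obtain ⟨t, ht⟩ := (Algebra.FiniteType.out : (⊤ : Subalgebra A B).FG)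
  have hs : Algebra.adjoin A (Set.range (fun i : Fin t.card => ((t.equivFin.symm i : t) : B))) = ⊤ := by
    rw [← ht]
    congr 1
    ext x
    constructor
    · rintro ⟨i, rfl⟩
      exact (t.equivFin.symm i).2
    · intro hx
      exact ⟨t.equivFin ⟨x, hx⟩, by simp⟩
  have hz' : IsLocalRing.maximalIdeal (Localization.AtPrime z) =
      p.map (algebraMap A (Localization.AtPrime z)) := by
    rw [← Localization.AtPrime.map_eq_maximalIdeal]
    have h1 := congrArg (Ideal.map e.symm.toRingHom) hz
    rw [Ideal.map_map, Ideal.map_map] at h1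
    have h2 : (e.symm.toRingHom).comp (algebraMap B L') = algebraMap B (Localization.AtPrime z) :=
      RingHom.ext fun b => e.symm.commutes b
    have h3 : (e.symm.toRingHom).comp (algebraMap A L') = algebraMap A (Localization.AtPrime z) :=
      RingHom.ext fun a => eA.symm.commutes a
    rw [h2, h3] at h1
    exact h1
  have hyp' : ∀ (R : Type u) [CommRing R] [IsDomain R] [IsDiscreteValuationRing R] [Algebra A R],
      (IsLocalRing.maximalIdeal R).comap (algebraMap A R) = p →
        Module.Flat R (R ⊗[A] Localization.AtPrime z) := by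
    intro R _ _ _ _ hR
    haveI := hyp R hR
    exact Module.Flat.of_linearEquiv
      (TensorProduct.AlgebraTensorModule.congr (LinearEquiv.refl R R) eA.toLinearEquiv)
  haveI := core t.card A B _ hs p hred z hz' hyp'
  exact Module.Flat.of_linearEquiv eA.symm.toLinearEquiv

open Groth.Agent.Lib.Helper4.ValFlat2 in
/-- Ring-level form of the valuative criterion (EGA IV 15.2.2). -/
theorem ring_main {A : Type u} [CommRing A] [IsNoetherianRing A] {B : Type u} [CommRing B]
    [Algebra A B] [Algebra.FiniteType A B] (q : Ideal B) [q.IsPrime] (p : Ideal A) [p.IsPrime]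
    [q.LiesOver p] (hred : IsReduced (Localization.AtPrime p))
    (hrad : (p.map (algebraMap A (Localization.AtPrime q))).IsRadical)
    (hyp : ∀ (z : Ideal B) [z.IsPrime], z ≤ q → z ∈ (p.map (algebraMap A B)).minimalPrimes →
      ∀ (R : Type u) [CommRing R] [IsDomain R] [IsDiscreteValuationRing R] [Algebra A R],
      (IsLocalRing.maximalIdeal R).comap (algebraMap A R) = p →
      ∀ (ζ : Ideal (R ⊗[A] B)) [ζ.IsPrime],
      ζ.comap (Algebra.TensorProduct.includeRight (R := A) (A := R) (B := B)).toRingHom = z →
      ζ.comap (algebraMap R (R ⊗[A] B)) = IsLocalRing.maximalIdeal R →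
      Module.Flat R (Localization.AtPrime ζ)) :
    Module.Flat A (Localization.AtPrime q) := by
  haveI : IsNoetherianRing B := Algebra.FiniteType.isNoetherianRing A B
  letI := Localization.AtPrime.algebraOfLiesOver p q
  have hI : (IsLocalRing.maximalIdeal (Localization.AtPrime p)).map
      (algebraMap (Localization.AtPrime p) (Localization.AtPrime q)) =
      p.map (algebraMap A (Localization.AtPrime q)) := by
    rw [← Localization.AtPrime.map_eq_maximalIdeal, Ideal.map_map,
      ← IsScalarTower.algebraMap_eq A (Localization.AtPrime p) (Localization.AtPrime q)]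
  have hI' : p.map (algebraMap A (Localization.AtPrime q)) =
      (p.map (algebraMap A B)).map (algebraMap B (Localization.AtPrime q)) := by
    rw [Ideal.map_map, ← IsScalarTower.algebraMap_eq A B (Localization.AtPrime q)]
  haveI : Module.Flat (Localization.AtPrime p) (Localization.AtPrime q) := by
    apply flat_of_flat_at_minimal (A := Localization.AtPrime p) (B := Localization.AtPrime q)
    · rw [hI]; exact hrad
    · intro Z _ hZ
      rw [hI, hI', IsLocalization.minimalPrimes_map q.primeCompl (Localization.AtPrime q)] at hZ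
      have hzmin : Z.under B ∈ (p.map (algebraMap A B)).minimalPrimes := hZ
      have hzq : Z.under B ≤ q := by
        have h1 : Z ≤ IsLocalRing.maximalIdeal (Localization.AtPrime q) :=
          IsLocalRing.le_maximalIdeal (Ideal.IsPrime.ne_top inferInstance)
        have h2 := Ideal.comap_mono (f := algebraMap B (Localization.AtPrime q)) h1
        have h2' : Ideal.comap (algebraMap B (Localization.AtPrime q))
            (IsLocalRing.maximalIdeal (Localization.AtPrime q)) = q :=
          IsLocalization.AtPrime.under_maximalIdeal (Localization.AtPrime q) q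
        rw [h2'] at h2
        exact h2
      haveI : (Z.under B).IsPrime := Ideal.comap_isPrime _ _
      haveI : (Z.under B).LiesOver p := by
        refine ⟨le_antisymm ?_ ?_⟩
        · intro a ha
          have : algebraMap A B a ∈ p.map (algebraMap A B) := Ideal.mem_map_of_mem _ ha
          exact hzmin.1.2 this
        · have h3 := Ideal.comap_mono (f := algebraMap A B) hzq
          have h4 : q.comap (algebraMap A B) = p := (Ideal.over_def q p).symm
          rw [h4] at h3
          exact h3
      -- the maximal ideal of the localization at `Z` is generated by `p`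
      have hz : (Z.under B).map (algebraMap B (Localization.AtPrime Z)) =
          p.map (algebraMap A (Localization.AtPrime Z)) := by
        have h5 := IsLocalization.AtPrime.radical_map_of_mem_minimalPrimes
          (Localization.AtPrime Z) Z (p.map (algebraMap A (Localization.AtPrime q)))
          (by rw [hI', IsLocalization.minimalPrimes_map q.primeCompl (Localization.AtPrime q)]; exact hzmin)
        have h6 := IsLocalization.map_radical Z.primeCompl (Localization.AtPrime Z)
          (p.map (algebraMap A (Localization.AtPrime q)))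
        rw [hrad.radical] at h6
        rw [← h6] at h5
        rw [Ideal.map_map, ← IsScalarTower.algebraMap_eq A (Localization.AtPrime q)
          (Localization.AtPrime Z)] at h5
        rw [h5, IsScalarTower.algebraMap_eq B (Localization.AtPrime q) (Localization.AtPrime Z),
          ← Ideal.map_map, IsLocalization.map_under q.primeCompl (Localization.AtPrime q) Z]
      haveI : Module.Flat A (Localization.AtPrime Z) := by
        apply core' p hred (Z.under B) (Localization.AtPrime Z) hz
        intro R _ _ _ _ hR
        exact flat_tensor_of_flat_localizations p (Z.under B) hzmin (Localization.AtPrime Z) R hR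
          (fun ζ _ h1 h2 => hyp (Z.under B) hzq hzmin R hR ζ h1 h2)
      exact (Module.flat_iff_of_isLocalization (Localization.AtPrime p) p.primeCompl
        (Localization.AtPrime Z)).mpr inferInstance
  exact Module.Flat.trans A (Localization.AtPrime p) (Localization.AtPrime q)


end Groth.Agent.Lib.Helper4.ValFlat6
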