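import Mathlib
import Groth.Agent.Lib.Helper4.ValFlat6
import Groth.Prelude.Def_FDesc
import Groth.Prelude.Def_EGA43
import Groth.Agent.Lib.Helper4.DvrFlat1
import Groth.Agent.Lib.Helper4.SecNbhd1

/-!
# valuative flatness (EGA IV 15.2.2), part 10: ring_main for models; radical of the fibre ideal (helper4)
-/

set_option backward.isDefEq.respectTransparency.types false
set_option synthInstance.maxHeartbeats 400000
set_option autoImplicit false
set_option linter.unusedSectionVars false
set_option linter.style.haveILetI false
set_option linter.unusedSimpArgs false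
universe u v w
open CategoryTheory CategoryTheory.Limits AlgebraicGeometry TopologicalSpace Topology TensorProduct

namespace Groth.Agent.Lib.Helper4.ValFlat10

/-- `ring_main` for arbitrary models of the localizations -/
theorem ring_main' {A : Type u} [CommRing A] [IsNoetherianRing A] {B : Type u} [CommRing B]
    [Algebra A B] [Algebra.FiniteType A B] (q : Ideal B) [q.IsPrime] (p : Ideal A) [p.IsPrime]
    [q.LiesOver p]
    (Ap : Type u) [CommRing Ap] [Algebra A Ap] [IsLocalization.AtPrime Ap p]
    (S : Type u) [CommRing S] [Algebra B S] [Algebra A S] [IsScalarTower A B S]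
    [IsLocalization.AtPrime S q]
    (hred : IsReduced Ap) (hrad : (p.map (algebraMap A S)).IsRadical)
    (hyp : ∀ (z : Ideal B) [z.IsPrime], z ≤ q → z ∈ (p.map (algebraMap A B)).minimalPrimes →
      ∀ (R : Type u) [CommRing R] [IsDomain R] [IsDiscreteValuationRing R] [Algebra A R],
      (IsLocalRing.maximalIdeal R).comap (algebraMap A R) = p →
      ∀ (ζ : Ideal (R ⊗[A] B)) [ζ.IsPrime],
      ζ.comap (Algebra.TensorProduct.includeRight (R := A) (A := R) (B := B)).toRingHom = z →
      ζ.comap (algebraMap R (R ⊗[A] B)) = IsLocalRing.maximalIdeal R →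
      Module.Flat R (Localization.AtPrime ζ)) :
    Module.Flat A S := by
  let e : Localization.AtPrime q ≃ₐ[B] S := IsLocalization.algEquiv q.primeCompl _ _
  let eA : Localization.AtPrime q ≃ₐ[A] S := e.restrictScalars A
  have hred' : IsReduced (Localization.AtPrime p) := by
    let e' : Localization.AtPrime p ≃ₐ[A] Ap := IsLocalization.algEquiv p.primeCompl _ _
    exact isReduced_of_injective e'.toRingHom e'.injective
  have hrad' : (p.map (algebraMap A (Localization.AtPrime q))).IsRadical := by
    have h1 : p.map (algebraMap A (Localization.AtPrime q)) =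
        (p.map (algebraMap A S)).comap eA.toRingHom := by
      have h2 : algebraMap A S = eA.toRingHom.comp (algebraMap A (Localization.AtPrime q)) := by
        ext a
        exact (eA.commutes a).symm
      rw [h2, ← Ideal.map_map]
      exact (Ideal.comap_map_of_bijective _ eA.bijective).symm
    rw [h1]
    exact hrad.comap _
  have key := Groth.Agent.Lib.Helper4.ValFlat6.ring_main q p hred' hrad' hyp
  exact Module.Flat.of_linearEquiv eA.toLinearEquiv.symm


/-- if the fibre is reduced at a point, the maximal ideal of the base generates a radical ideal -/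
theorem isRadical_map_maximalIdeal {X Y : Scheme.{u}} (f : X ⟶ Y) (y : Y) (x' : f.fiber y)
    (hred : _root_.IsReduced ((f.fiber y).presheaf.stalk x')) :
    ((IsLocalRing.maximalIdeal (Y.presheaf.stalk (f (f.fiberι y x')))).map
      (f.stalkMap (f.fiberι y x')).hom).IsRadical := by
  have hsurj := (f.fiberι y).stalkMap_surjective x'
  have hker1 := Groth.Agent.Lib.Helper4.FibreStalkDim1.ker_stalkMap_fiberι_le f y x'
  have hker2 : (IsLocalRing.maximalIdeal (Y.presheaf.stalk (f (f.fiberι y x')))).map
      (f.stalkMap (f.fiberι y x')).hom ≤ RingHom.ker ((f.fiberι y).stalkMap x').hom := by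
    rw [Ideal.map_le_iff_le_comap]
    intro t ht
    rw [Ideal.mem_comap, RingHom.mem_ker]
    have e := Groth.Agent.Lib.Helper4.DvrFlat1.stalkMap_eq_zero_of_factors_field
      (Field.toIsField (Y.residueField y))
      (f.fiberι y ≫ f) (f.fiberToSpecResidueField y) (Y.fromSpecResidueField y)
      (f.fiber_fac y) x' t ht
    rw [Scheme.Hom.stalkMap_comp] at e
    exact e
  rw [← le_antisymm hker1 hker2]
  exact (RingHom.ker_isRadical_iff_reduced_of_surjective hsurj).mpr hred

/-- geometric reducedness of the fibre at a point implies that the fibre is reduced there -/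
theorem isReduced_stalk_fiber_of_isGeomReducedAt {X Y : Scheme.{u}} (f : X ⟶ Y) (y : Y)
    (x' : f.fiber y) (h : FBase.IsGeomReducedAt (f.fiberToSpecResidueField y) x') :
    _root_.IsReduced ((f.fiber y).presheaf.stalk x') := by
  have hpb : IsPullback (𝟙 (f.fiber y)) (f.fiberToSpecResidueField y)
      (f.fiberToSpecResidueField y) (Spec.map (𝟙 _)) := by
    rw [Spec.map_id]
    exact IsPullback.id_horiz _
  exact Groth.Agent.Lib.Helper4.SecNbhd1.isReduced_stalk_of_isGeomReducedAt _ (𝟙 _) (𝟙 _) _ hpb
    _ h

end Groth.Agent.Lib.Helper4.ValFlat10
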