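import Mathlib
import Groth.Prelude
import Groth.Agent.Lib.Lead.RkLoc8
import Groth.Agent.Lib.Helper8.CplQuot2
import Groth.Agent.Lib.Helper7.SmoothBC.MinPrime
import Groth.Agent.Lib.Helper4.UniComp2
import Groth.Agent.Lib.Helper4.OpenTransfer1
import Groth.Agent.Lib.Helper4.ValFlat10

/-!
# Geometric reducedness of a fibre at a maximal point passes to closed subschemes through the point (helper4)
-/

set_option backward.isDefEq.respectTransparency.types false
set_option synthInstance.maxHeartbeats 400000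
set_option autoImplicit false
set_option linter.unusedSectionVars false
set_option linter.style.haveILetI false
set_option linter.unusedSimpArgs false
universe u v w
open CategoryTheory CategoryTheory.Limits AlgebraicGeometry TopologicalSpace Topology

namespace Groth.Agent.Lib.Helper4.Adm1

open Groth.Agent.Lead.RkLoc LocCoh Groth.Agent.Lead.FibCons Groth.Agent.Lead.SkLoc
open Groth.Agent.Lib.Helper4.UniComp2

/-- geometric reducedness at a point in terms of `(R_0)` and `(S_1)` -/
theorem isGeomReducedAt_iff {κ : Type u} [Field κ] {W : Scheme.{u}}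
    (h : W ⟶ Spec (CommRingCat.of κ)) [LocallyOfFinitePresentation h] (w : W) :
    FBase.IsGeomReducedAt h w ↔
      RkAt 0 h w ∧ HasSk 1 (W.presheaf.stalk w) (W.presheaf.stalk w) := by
  rw [← forall_reduced_iff (κ := κ) h (fun K _ _ => True) (fun _ _ _ _ => trivial) w]
  unfold FBase.IsGeomReducedAt
  constructor
  · intro H K i1 i2 _ x' hx'
    exact @H K i1 i2 x' hx'
  · intro H K i1 i2 x' hx'
    exact @H K i1 i2 trivial x' hx'

theorem formallySmooth_stalkMap_of_eq {F Z S : Scheme.{u}} (j : F ⟶ Z) (h : Z ⟶ S) (h' : F ⟶ S)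
    (e : h' = j ≫ h) (t : F) (hbij : Function.Bijective (j.stalkMap t).hom)
    (hs : (h.stalkMap (j t)).hom.FormallySmooth) : (h'.stalkMap t).hom.FormallySmooth := by
  subst e
  have e2 : (j ≫ h).stalkMap t = h.stalkMap (j t) ≫ j.stalkMap t := Scheme.Hom.stalkMap_comp j h t
  rw [e2]
  exact RingHom.FormallySmooth.comp hs (RingHom.FormallySmooth.of_bijective hbij)

/-- geometric reducedness of a fibre at a maximal point of the fibre passes to closed subschemes
through this point -/
theorem isGeomReducedAt_of_fiberMapOver {W X Y : Scheme.{u}} [IsLocallyNoetherian Y] (ι : W ⟶ X)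
    [IsClosedImmersion ι] (f : X ⟶ Y) [LocallyOfFiniteType f] (g : W ⟶ Y) (hg : ι ≫ f = g) (y : Y)
    (w' : ↥(g.fiber y))
    (hzmax : ∀ z' : ↥(f.fiber y), z' ⤳ CohIII.fiberMapOver ι g f hg y w' →
      z' = CohIII.fiberMapOver ι g f hg y w')
    (hredz : FBase.IsGeomReducedAt (f.fiberToSpecResidueField y)
      (CohIII.fiberMapOver ι g f hg y w')) :
    FBase.IsGeomReducedAt (g.fiberToSpecResidueField y) w' := by
  haveI : LocallyOfFinitePresentation f :=
    LocallyOfFinitePresentation.iff_locallyOfFiniteType.mpr inferInstance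
  haveI : LocallyOfFiniteType g := by rw [← hg]; infer_instance
  haveI : LocallyOfFinitePresentation g :=
    LocallyOfFinitePresentation.iff_locallyOfFiniteType.mpr inferInstance
  haveI i1 := lfp_fiber f y
  haveI i2 := lfp_fiber g y
  obtain ⟨j, hjdef⟩ : ∃ j : g.fiber y ⟶ f.fiber y, j = CohIII.fiberMapOver ι g f hg y := ⟨_, rfl⟩
  rw [← hjdef] at hzmax hredz
  have hj1 : j ≫ f.fiberι y = g.fiberι y ≫ ι := by rw [hjdef]; exact pullback.lift_fst _ _ _
  have hj2 : j ≫ f.fiberToSpecResidueField y = g.fiberToSpecResidueField y := by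
    have : j ≫ f.fiberToSpecResidueField y = g.fiberToSpecResidueField y ≫ 𝟙 _ := by
      rw [hjdef]; exact pullback.lift_snd _ _ _
    rw [this, Category.comp_id]
  obtain ⟨hRk, hSk⟩ := (isGeomReducedAt_iff (κ := Y.residueField y)
    (f.fiberToSpecResidueField y) (j w')).mp hredz
  have hembf := (f.fiberι y).isEmbedding
  have hembg := (g.fiberι y).isEmbedding
  have hjinj : Function.Injective j := by
    intro a b hab
    apply hembg.injective
    apply ι.isClosedEmbedding.injective
    have h1 : ι (g.fiberι y a) = f.fiberι y (j a) := by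
      rw [← Scheme.Hom.comp_apply, ← hj1, Scheme.Hom.comp_apply]
    have h2 : ι (g.fiberι y b) = f.fiberι y (j b) := by
      rw [← Scheme.Hom.comp_apply, ← hj1, Scheme.Hom.comp_apply]
    rw [h1, h2, hab]
  have hdim := ringKrullDim_stalk_le_zero_of_max (j w') hzmax
  have hfs := hRk (j w') specializes_rfl hdim
  haveI hredst : _root_.IsReduced ((f.fiber y).presheaf.stalk (j w')) :=
    Groth.Agent.Lib.Helper4.ValFlat10.isReduced_stalk_fiber_of_isGeomReducedAt f y (j w') hredz
  haveI : Subsingleton (PrimeSpectrum ((f.fiber y).presheaf.stalk (j w'))) := by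
    constructor
    intro P Q
    apply ((f.fiber y).fromSpecStalk (j w')).isEmbedding.injective
    rw [hzmax _ (Groth.Agent.Lib.Helper4.Equi1.fromSpecStalk_specializes (j w') P),
      hzmax _ (Groth.Agent.Lib.Helper4.Equi1.fromSpecStalk_specializes (j w') Q)]
  have hfield : IsField ((f.fiber y).presheaf.stalk (j w')) :=
    Groth.Agent.Helper7.SmoothBC.isField_of_subsingleton_primeSpectrum _
  haveI : SurjectiveOnStalks (j ≫ f.fiberι y) := by rw [hj1]; infer_instance
  haveI : SurjectiveOnStalks j := SurjectiveOnStalks.of_comp j (f.fiberι y)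
  have hsurj : Function.Surjective (j.stalkMap w').hom := j.stalkMap_surjective w'
  have hinj : Function.Injective (j.stalkMap w').hom := by
    letI := hfield.toField
    exact (j.stalkMap w').hom.injective
  have hbij : Function.Bijective (j.stalkMap w').hom := ⟨hinj, hsurj⟩
  refine (isGeomReducedAt_iff (κ := Y.residueField y) (g.fiberToSpecResidueField y) w').mpr
    ⟨?_, ?_⟩
  · intro t ht _
    have htw : t = w' := by
      apply hjinj
      exact hzmax _ (ht.map j.continuous)
    rw [htw]
    exact formallySmooth_stalkMap_of_eq j _ _ hj2.symm w' hbij hfs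
  · exact Groth.Agent.Helper8.CplQuot.hasSk_of_ringEquiv (RingEquiv.ofBijective _ hbij) 1 hSk

/-- pointwise form -/
theorem isGeomReducedAt_comp_of_max {W X Y : Scheme.{u}} [IsLocallyNoetherian Y] (ι : W ⟶ X)
    [IsClosedImmersion ι] (f : X ⟶ Y) [LocallyOfFiniteType f] (w : W)
    (hmax : ∀ z' : X, f z' = f (ι w) → z' ⤳ ι w → z' = ι w)
    (hred : FBase.IsGeomReducedAt (f.fiberToSpecResidueField (f (ι w))) (f.asFiber (ι w))) :
    FBase.IsGeomReducedAt ((ι ≫ f).fiberToSpecResidueField ((ι ≫ f) w)) ((ι ≫ f).asFiber w) := by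
  have hj1 : CohIII.fiberMapOver ι (ι ≫ f) f rfl ((ι ≫ f) w) ≫ f.fiberι ((ι ≫ f) w) =
      (ι ≫ f).fiberι ((ι ≫ f) w) ≫ ι := pullback.lift_fst _ _ _
  have key : f.fiberι ((ι ≫ f) w)
      (CohIII.fiberMapOver ι (ι ≫ f) f rfl ((ι ≫ f) w) ((ι ≫ f).asFiber w)) = ι w := by
    rw [← Scheme.Hom.comp_apply, hj1, Scheme.Hom.comp_apply, (ι ≫ f).fiberι_asFiber]
  have hfib : ∀ t : ↥(f.fiber ((ι ≫ f) w)), f (f.fiberι ((ι ≫ f) w) t) = (ι ≫ f) w := by
    intro t
    have h0 : f.fiberι ((ι ≫ f) w) t ∈ f ⁻¹' {(ι ≫ f) w} := by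
      rw [← f.range_fiberι ((ι ≫ f) w)]
      exact Set.mem_range_self t
    exact h0
  apply isGeomReducedAt_of_fiberMapOver ι f (ι ≫ f) rfl ((ι ≫ f) w) ((ι ≫ f).asFiber w)
  · intro z' hz'
    apply (f.fiberι ((ι ≫ f) w)).isEmbedding.injective
    rw [key]
    apply hmax _ (hfib z')
    have := hz'.map (f.fiberι ((ι ≫ f) w)).continuous
    rwa [key] at this
  · exact Groth.Agent.Lib.Helper4.OpenTransfer1.isGeomReducedAt_fiber_congr f (f (ι w))
      ((ι ≫ f) w) rfl (f.asFiber (ι w)) _ (by rw [f.fiberι_asFiber, key]) hred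

end Groth.Agent.Lib.Helper4.Adm1
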