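import Mathlib
import Groth.Prelude.Def_FDesc
import Groth.Prelude.Def_EGA43
import Groth.Agent.Lib.Helper4.DvrFlat1

/-!
# flat families over a DVR with reduced closed fibre: components of the total space contain components of the closed fibre (helper4)
-/

set_option backward.isDefEq.respectTransparency.types false
set_option synthInstance.maxHeartbeats 400000
set_option autoImplicit false
set_option linter.unusedSectionVars false
set_option linter.style.haveILetI false
set_option linter.unusedSimpArgs false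
universe u v w
open CategoryTheory CategoryTheory.Limits AlgebraicGeometry TopologicalSpace Topology TensorProduct

namespace Groth.Agent.Lib.Helper4.ValFlat14

/-- In a Noetherian local ring, if a non-zero-divisor `π` of the maximal ideal generates a radical
ideal, then every minimal prime is contained in a minimal prime over `π`. -/
theorem exists_minimalPrimes_span_ge {B : Type u} [CommRing B] [IsNoetherianRing B] [IsLocalRing B]
    (π : B) (hπ : π ∈ IsLocalRing.maximalIdeal B) (hreg : π ∈ nonZeroDivisors B)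
    (hrad : (Ideal.span {π}).IsRadical) (P : Ideal B) (hP : P ∈ minimalPrimes B) :
    ∃ Q ∈ (Ideal.span {π}).minimalPrimes, P ≤ Q := by
  classical
  by_contra hcon
  push Not at hcon
  have hfin : (minimalPrimes B).Finite := minimalPrimes.finite_of_isNoetherianRing B
  let S : Finset (Ideal B) := hfin.toFinset.erase P
  let I : Ideal B := S.inf id
  have hS : ∀ P' ∈ S, P' ∈ minimalPrimes B ∧ P' ≠ P := by
    intro P' hP'
    rw [Finset.mem_erase, Set.Finite.mem_toFinset] at hP'
    exact ⟨hP'.2, hP'.1⟩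
  -- I ≤ span π
  have h1 : I ≤ Ideal.span {π} := by
    rw [← hrad.radical, ← Ideal.sInf_minimalPrimes]
    refine le_sInf ?_
    intro Q hQ
    haveI : Q.IsPrime := hQ.1.1
    obtain ⟨P', hP'min, hP'Q⟩ := Ideal.exists_minimalPrimes_le (bot_le : (⊥ : Ideal B) ≤ Q)
    have hne : P' ≠ P := by
      rintro rfl
      exact hcon Q hQ hP'Q
    have hmem : P' ∈ S := by
      rw [Finset.mem_erase, Set.Finite.mem_toFinset]
      exact ⟨hne, hP'min⟩
    exact le_trans (Finset.inf_le hmem) hP'Q
  -- I ≤ π • I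
  have h2 : I ≤ Ideal.span {π} • I := by
    intro a ha
    obtain ⟨b, rfl⟩ := Ideal.mem_span_singleton'.mp (h1 ha)
    have hb : b ∈ I := by
      rw [Submodule.mem_finsetInf]
      intro P' hP'
      obtain ⟨hP'min, -⟩ := hS P' hP'
      haveI : P'.IsPrime := hP'min.1.1
      have h3 : b * π ∈ P' := (Submodule.mem_finsetInf.mp ha) P' hP'
      rcases Ideal.IsPrime.mem_or_mem inferInstance h3 with h4 | h4
      · exact h4
      · exfalso
        have := Ideal.disjoint_nonZeroDivisors_of_mem_minimalPrimes hP'min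
        exact Set.disjoint_left.mp this h4 hreg
    rw [mul_comm]
    exact Ideal.mul_mem_mul (Ideal.mem_span_singleton_self π) hb
  have h3 : I = ⊥ := by
    apply Submodule.eq_bot_of_le_smul_of_le_jacobson_bot (Ideal.span {π}) I
      (IsNoetherian.noetherian I) h2
    rw [IsLocalRing.jacobson_eq_maximalIdeal ⊥ bot_ne_top, Ideal.span_singleton_le_iff_mem]
    exact hπ
  haveI : P.IsPrime := hP.1.1
  have h4 : S.inf id ≤ P := by
    show I ≤ P
    rw [h3]
    exact bot_le
  rw [Ideal.IsPrime.inf_le' inferInstance] at h4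
  obtain ⟨P', hP'S, hP'P⟩ := h4
  obtain ⟨hP'min, hne⟩ := hS P' hP'S
  have : P ≤ P' := hP.2 ⟨hP'min.1.1, bot_le⟩ hP'P
  exact hne (le_antisymm hP'P this)
open IsLocalRing in
/-- Over a discrete valuation ring: if `f` is flat at a point `x` of the closed fibre and the
closed fibre is reduced at `x`, every maximal point of `X` specializing to `x` specializes to a
maximal point of the closed fibre which specializes to `x`. -/
theorem exists_fibreMax_between {A : Type u} [CommRing A] [IsDomain A]
    [IsDiscreteValuationRing A] {X : Scheme.{u}} (f : X ⟶ Spec (CommRingCat.of A))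
    [LocallyOfFiniteType f] (x : X) (hx : f x = IsLocalRing.closedPoint A)
    (hflat : (f.stalkMap x).hom.Flat)
    (hrad : ((maximalIdeal ((Spec (CommRingCat.of A)).presheaf.stalk (f x))).map
      (f.stalkMap x).hom).IsRadical)
    (ξ : X) (hξx : ξ ⤳ x) (hξmax : ∀ ξ' : X, ξ' ⤳ ξ → ξ' = ξ) :
    ∃ z : X, ξ ⤳ z ∧ z ⤳ x ∧ f z = f x ∧ (∀ z' : X, f z' = f z → z' ⤳ z → z' = z) := by
  haveI : IsLocallyNoetherian X := LocallyOfFiniteType.isLocallyNoetherian f
  obtain ⟨ϖ, hϖ⟩ := IsDiscreteValuationRing.exists_irreducible A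
  letI alg0 : Algebra A ((Spec (CommRingCat.of A)).presheaf.stalk (f x)) :=
    StructureSheaf.stalkAlgebra (R := A) (f x)
  haveI loc0 : IsLocalization.AtPrime
      ((Spec (CommRingCat.of A)).presheaf.stalk (f x)) (f x).asIdeal :=
    StructureSheaf.IsLocalization.to_stalk A (f x)
  have hasIdeal : (f x).asIdeal = maximalIdeal A := by rw [hx]; rfl
  set π₀ := algebraMap A ((Spec (CommRingCat.of A)).presheaf.stalk (f x)) ϖ with hπ₀
  set π := (f.stalkMap x).hom π₀ with hπdef
  have hJ : (maximalIdeal ((Spec (CommRingCat.of A)).presheaf.stalk (f x))).map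
      (f.stalkMap x).hom = Ideal.span {π} := by
    rw [← IsLocalization.AtPrime.map_eq_maximalIdeal (f x).asIdeal
      ((Spec (CommRingCat.of A)).presheaf.stalk (f x)), hasIdeal,
      hϖ.maximalIdeal_eq, Ideal.map_span, Ideal.map_span, Set.image_singleton,
      Set.image_singleton]
  have hπ₀mem : π₀ ∈ maximalIdeal _ := by
    rw [← IsLocalization.AtPrime.map_eq_maximalIdeal (f x).asIdeal
      ((Spec (CommRingCat.of A)).presheaf.stalk (f x)), hasIdeal]
    apply Ideal.mem_map_of_mem
    rw [hϖ.maximalIdeal_eq]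
    exact Ideal.mem_span_singleton_self ϖ
  have hπmem : π ∈ maximalIdeal (X.presheaf.stalk x) := by
    have : IsLocalHom (f.stalkMap x).hom := inferInstance
    exact ((IsLocalRing.local_hom_TFAE (f.stalkMap x).hom).out 0 2 rfl rfl).mp this
      (Ideal.mem_map_of_mem _ hπ₀mem)
  -- π is a non-zero-divisor
  have hle : (f x).asIdeal.primeCompl ≤ nonZeroDivisors A :=
    le_nonZeroDivisors_of_noZeroDivisors (fun h0 => h0 (Ideal.zero_mem _))
  haveI hdom : IsDomain ((Spec (CommRingCat.of A)).presheaf.stalk (f x)) :=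
    IsLocalization.isDomain_of_le_nonZeroDivisors _ hle
  have hπ₀ne : π₀ ≠ 0 := by
    intro h0
    have hinj := IsLocalization.injective
      ((Spec (CommRingCat.of A)).presheaf.stalk (f x)) hle
    have : ϖ = 0 := hinj (by rw [← hπ₀, h0, map_zero])
    exact hϖ.ne_zero this
  have hreg₀ : IsSMulRegular ((Spec (CommRingCat.of A)).presheaf.stalk (f x)) π₀ := by
    intro a b hab
    exact mul_left_cancel₀ hπ₀ne hab
  have hreg : π ∈ nonZeroDivisors (X.presheaf.stalk x) := by
    algebraize [(f.stalkMap x).hom]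
    haveI : Module.Flat ((Spec (CommRingCat.of A)).presheaf.stalk (f x)) (X.presheaf.stalk x) :=
      hflat
    have h1 : IsSMulRegular (X.presheaf.stalk x) (algebraMap
        ((Spec (CommRingCat.of A)).presheaf.stalk (f x)) (X.presheaf.stalk x) π₀) :=
      IsSMulRegular.of_flat hreg₀
    have h2 : IsSMulRegular (X.presheaf.stalk x) π := h1
    rw [mem_nonZeroDivisors_iff_right]
    intro b hb
    apply h2
    show π * b = π * 0
    rw [mul_zero, mul_comm]
    exact hb
  rw [hJ] at hrad
  -- the prime of ξ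
  obtain ⟨Pξ, hPξ⟩ : ξ ∈ Set.range (X.fromSpecStalk x) := by
    rw [Scheme.range_fromSpecStalk]; exact hξx
  have hemb := (X.fromSpecStalk x).isEmbedding
  have hPmin : Pξ.asIdeal ∈ minimalPrimes (X.presheaf.stalk x) := by
    refine ⟨⟨Pξ.isPrime, bot_le⟩, ?_⟩
    rintro P' ⟨hP', -⟩ hle
    let p' : Spec (X.presheaf.stalk x) := ⟨P', hP'⟩
    have h1 : p' ⤳ Pξ := (PrimeSpectrum.le_iff_specializes (R := X.presheaf.stalk x) p' Pξ).mp hle
    have h2 : (X.fromSpecStalk x) p' ⤳ ξ := by
      have := h1.map (X.fromSpecStalk x).continuous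
      rwa [hPξ] at this
    have h3 := hξmax _ h2
    have h4 : p' = Pξ := hemb.injective (h3.trans hPξ.symm)
    rw [← h4]
  obtain ⟨Q, hQ, hPQ⟩ := exists_minimalPrimes_span_ge π hπmem hreg hrad Pξ.asIdeal hPmin
  haveI hQp : Q.IsPrime := hQ.1.1
  let q : Spec (X.presheaf.stalk x) := ⟨Q, hQp⟩
  have hJQ : (maximalIdeal ((Spec (CommRingCat.of A)).presheaf.stalk (f x))).map
      (f.stalkMap x).hom ≤ q.asIdeal := by
    rw [hJ]; exact hQ.1.2
  have hzx : (X.fromSpecStalk x) q ⤳ x := by
    have : (X.fromSpecStalk x) q ∈ Set.range (X.fromSpecStalk x) := ⟨q, rfl⟩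
    rwa [Scheme.range_fromSpecStalk] at this
  have hfz : f ((X.fromSpecStalk x) q) = f x :=
    (Groth.Agent.Lib.Helper4.DvrFlat1.fromSpecStalk_mem_fibre_iff f x q).mpr hJQ
  refine ⟨(X.fromSpecStalk x) q, ?_, hzx, hfz, ?_⟩
  · have h1 : Pξ ⤳ q := (PrimeSpectrum.le_iff_specializes (R := X.presheaf.stalk x) Pξ q).mp hPQ
    have := h1.map (X.fromSpecStalk x).continuous
    rwa [hPξ] at this
  · intro z' hz' hsp
    obtain ⟨q₁, hq₁⟩ : z' ∈ Set.range (X.fromSpecStalk x) := by
      rw [Scheme.range_fromSpecStalk]; exact hsp.trans hzx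
    have h4 : q₁ ⤳ q := (hemb.isInducing.specializes_iff).mp (by rw [hq₁]; exact hsp)
    have h5 : q₁.asIdeal ≤ Q :=
      (PrimeSpectrum.le_iff_specializes (R := X.presheaf.stalk x) q₁ q).mpr h4
    have h6 : (maximalIdeal ((Spec (CommRingCat.of A)).presheaf.stalk (f x))).map
        (f.stalkMap x).hom ≤ q₁.asIdeal :=
      (Groth.Agent.Lib.Helper4.DvrFlat1.fromSpecStalk_mem_fibre_iff f x q₁).mp
        (by rw [hq₁, hz', hfz])
    rw [hJ] at h6
    have h7 : Q ≤ q₁.asIdeal := hQ.2 ⟨q₁.isPrime, h6⟩ h5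
    have h8 : q₁ = q := PrimeSpectrum.ext (le_antisymm h5 h7)
    rw [← hq₁, h8]

end Groth.Agent.Lib.Helper4.ValFlat14
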