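import Mathlib
import Groth.Prelude.Def_FDesc
import Groth.Prelude.Def_EGA43
import Groth.Agent.S4948
import Groth.Agent.Lib.Helper4.FibDimBC2
import Groth.Agent.Lib.Helper4.ValFlat10
import Groth.Agent.Lib.Helper4.ValFlat14
import Groth.Agent.Lib.Helper4.GeomRedAt1
import Groth.Agent.Lib.Helper4.OpenTransfer1
import Groth.Agent.Lib.Helper7.MaxPt

/-!
# the residual transcendence degree at maximal points above a point with geometrically reduced equidimensional fibre (helper4)
-/

set_option backward.isDefEq.respectTransparency.types false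
set_option synthInstance.maxHeartbeats 400000
set_option autoImplicit false
set_option linter.unusedSectionVars false
set_option linter.style.haveILetI false
set_option linter.unusedSimpArgs false
universe u v w
open CategoryTheory CategoryTheory.Limits AlgebraicGeometry TopologicalSpace Topology TensorProduct

namespace Groth.Agent.Lib.Helper4.ValFlat15

open Groth.Agent.Lib.Helper4.FibDim1 Groth.Agent.Helper7.GeomConn in
/-- the key inequality: residual transcendence degree at the maximal points above `x` -/
theorem le_tr_of_isMax {X Y : Scheme.{u}} [IsLocallyNoetherian Y] (f : X ⟶ Y)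
    [LocallyOfFiniteType f] (x : X) (e : ℕ)
    (hUO : ∀ z₁ : X, f z₁ = f x → z₁ ⤳ x → (∀ z' : X, f z' = f z₁ → z' ⤳ z₁ → z' = z₁) →
      EGA43.IsUnivOpenAt f z₁ ∧ tr f z₁ = e)
    (hred : FBase.IsGeomReducedAt (f.fiberToSpecResidueField (f x)) (f.asFiber x))
    (ξ : X) (hξx : ξ ⤳ x) (hξmax : ∀ ξ' : X, ξ' ⤳ ξ → ξ' = ξ) : e ≤ tr f ξ := by
  haveI : IsLocallyNoetherian X := LocallyOfFiniteType.isLocallyNoetherian f
  by_cases hne : ξ = x
  · subst hne
    have := (hUO ξ rfl specializes_rfl (fun z' _ hz' => hξmax z' hz')).2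
    rw [this]
  obtain ⟨R, _, _, _, φ, hφcl, hφgen⟩ :=
    Groth.Agent.Lib.Helper4.UOp.exists_dvr_of_specializes ξ x hξx hne
  let g : Spec (CommRingCat.of R) ⟶ Y := φ ≫ f
  have hsq : IsPullback (pullback.fst f g) (pullback.snd f g) f g := IsPullback.of_hasPullback f g
  let s : Spec (CommRingCat.of R) ⟶ pullback f g := pullback.lift φ (𝟙 _) (by simp [g])
  have hs1 : s ≫ pullback.fst f g = φ := pullback.lift_fst _ _ _
  have hs2 : s ≫ pullback.snd f g = 𝟙 _ := pullback.lift_snd _ _ _
  have hfst_s : ∀ t, pullback.fst f g (s t) = φ t := by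
    intro t; rw [← Scheme.Hom.comp_apply, hs1]
  have hsnd_s : ∀ t, pullback.snd f g (s t) = t := by
    intro t; rw [← Scheme.Hom.comp_apply, hs2]; rfl
  have hcomm : ∀ w : ↥(pullback f g), f (pullback.fst f g w) = g (pullback.snd f g w) := by
    intro w
    have := congr($(hsq.w) w)
    simpa [Scheme.Hom.comp_apply] using this
  set xR := s (IsLocalRing.closedPoint R) with hxR
  set P₀ := s (⟨⊥, Ideal.isPrime_bot⟩ : PrimeSpectrum R) with hP₀
  have hxR1 : pullback.fst f g xR = x := by rw [hxR, hfst_s, hφcl]
  have hxR2 : pullback.snd f g xR = IsLocalRing.closedPoint R := hsnd_s _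
  have hP₀1 : pullback.fst f g P₀ = ξ := by rw [hP₀, hfst_s, hφgen]
  have hP₀x : P₀ ⤳ xR := by
    have h0 : (⟨⊥, Ideal.isPrime_bot⟩ : PrimeSpectrum R) ⤳ IsLocalRing.closedPoint R :=
      (PrimeSpectrum.le_iff_specializes (R := R) _ _).mp bot_le
    exact h0.map s.continuous
  -- a maximal point above P₀
  obtain ⟨P', hP'P₀, hP'max⟩ :=
    Groth.Agent.Helper7.MaxPt.exists_maximal_generization (Y := ↥(pullback f g)) P₀
  have hP'1 : pullback.fst f g P' = ξ := by
    apply hξmax
    rw [← hP₀1]
    exact hP'P₀.map (pullback.fst f g).continuous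
  have hP'x : P' ⤳ xR := hP'P₀.trans hP₀x
  haveI : LocallyOfFiniteType (pullback.snd f g) := inferInstance
  -- maximal points of the closed fibre through xR
  have hkey : ∀ w : ↥(pullback f g), pullback.snd f g w = pullback.snd f g xR → w ⤳ xR →
      (∀ w' : ↥(pullback f g), pullback.snd f g w' = pullback.snd f g w → w' ⤳ w → w' = w) →
      EGA43.IsUnivOpenAt f (pullback.fst f g w) ∧ tr (pullback.snd f g) w = e := by
    intro w hw hsp hmax
    obtain ⟨h1, h2⟩ := Groth.Agent.Lib.Helper4.FibDimBC2.tr_eq_of_max_abs f g (pullback.fst f g)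
      (pullback.snd f g) hsq w hmax
    have h3 : f (pullback.fst f g w) = f x := by rw [hcomm, hw, ← hcomm, hxR1]
    have h4 : pullback.fst f g w ⤳ x := by
      rw [← hxR1]; exact hsp.map (pullback.fst f g).continuous
    obtain ⟨h5, h6⟩ := hUO _ h3 h4 h2
    exact ⟨h5, h1.trans h6⟩
  -- the closed fibre is reduced at xR
  have hredst : _root_.IsReduced (((pullback.snd f g).fiber (pullback.snd f g xR)).presheaf.stalk
      ((pullback.snd f g).asFiber xR)) := by
    have hy : f x = g (pullback.snd f g xR) := by rw [← hxR1]; exact hcomm xR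
    have h6 := Groth.Agent.Lib.Helper4.OpenTransfer1.isGeomReducedAt_fiber_congr f (f x)
      (g (pullback.snd f g xR)) hy (f.asFiber x)
      (fibreMap f (pullback.snd f g) (pullback.fst f g) g hsq (pullback.snd f g xR)
        ((pullback.snd f g).asFiber xR)) (by
        rw [f.fiberι_asFiber, ← Scheme.Hom.comp_apply, fibreMap_fiberι, Scheme.Hom.comp_apply,
          (pullback.snd f g).fiberι_asFiber, hxR1]) hred
    have h7 := Groth.Agent.Lib.Helper4.GeomRedAt1.isGeomReducedAt_fibre_ascend f
      (pullback.snd f g) (pullback.fst f g) g hsq (pullback.snd f g xR)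
      ((pullback.snd f g).asFiber xR) h6
    exact Groth.Agent.Lib.Helper4.ValFlat10.isReduced_stalk_fiber_of_isGeomReducedAt _ _ _ h7
  have hflat : ((pullback.snd f g).stalkMap xR).hom.Flat := by
    apply Groth.Agent.S4948.result (A := R) (pullback.snd f g) xR hxR2
    · intro z hz hzmax
      have hemb := ((pullback.snd f g).fiberι (pullback.snd f g xR)).isEmbedding
      have hfib : ∀ t : ↥((pullback.snd f g).fiber (pullback.snd f g xR)),
          pullback.snd f g ((pullback.snd f g).fiberι _ t) = pullback.snd f g xR := by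
        intro t
        have : (pullback.snd f g).fiberι _ t ∈ (pullback.snd f g) ⁻¹' {pullback.snd f g xR} := by
          rw [← (pullback.snd f g).range_fiberι]
          exact Set.mem_range_self t
        exact this
      have hw2 : (pullback.snd f g).fiberι _ z ⤳ xR := by
        have h2 : z ⤳ (pullback.snd f g).asFiber xR := specializes_iff_mem_closure.mpr hz
        have h3 := h2.map ((pullback.snd f g).fiberι _).continuous
        rwa [(pullback.snd f g).fiberι_asFiber] at h3
      have hw3 : ∀ w' : ↥(pullback f g), pullback.snd f g w' =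
          pullback.snd f g ((pullback.snd f g).fiberι _ z) → w' ⤳ (pullback.snd f g).fiberι _ z →
          w' = (pullback.snd f g).fiberι _ z := by
        intro w' hw' hsp'
        obtain ⟨z', hz'⟩ : w' ∈ Set.range ((pullback.snd f g).fiberι (pullback.snd f g xR)) := by
          rw [(pullback.snd f g).range_fiberι]
          exact hw'.trans (hfib z)
        have h1 : z' ⤳ z := by
          rw [← hemb.isInducing.specializes_iff, hz']
          exact hsp'
        rw [← hz', hzmax z' (specializes_iff_mem_closure.mp h1)]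
      exact (hkey _ (hfib z) hw2 hw3).1 _ g _ rfl
    · exact hredst
  have hrad : ((IsLocalRing.maximalIdeal ((Spec (CommRingCat.of R)).presheaf.stalk
      (pullback.snd f g xR))).map ((pullback.snd f g).stalkMap xR).hom).IsRadical := by
    have h1 := Groth.Agent.Lib.Helper4.ValFlat10.isRadical_map_maximalIdeal (pullback.snd f g)
      (pullback.snd f g xR) ((pullback.snd f g).asFiber xR) hredst
    have e1 : ∀ a b : ↥(pullback f g), a = b →
        ((IsLocalRing.maximalIdeal ((Spec (CommRingCat.of R)).presheaf.stalk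
          (pullback.snd f g a))).map ((pullback.snd f g).stalkMap a).hom).IsRadical →
        ((IsLocalRing.maximalIdeal ((Spec (CommRingCat.of R)).presheaf.stalk
          (pullback.snd f g b))).map ((pullback.snd f g).stalkMap b).hom).IsRadical := by
      rintro a _ rfl h; exact h
    exact e1 _ _ ((pullback.snd f g).fiberι_asFiber xR) h1
  obtain ⟨z₁, hP'z₁, hz₁x, hfz₁, hz₁max⟩ :=
    Groth.Agent.Lib.Helper4.ValFlat14.exists_fibreMax_between (pullback.snd f g) xR hxR2 hflat hrad
      P' hP'x hP'max
  have h1 := (hkey z₁ hfz₁ hz₁x hz₁max).2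
  have hV : IsAffineOpen (⊤ : (Spec (CommRingCat.of R)).Opens) := isAffineOpen_top _
  have hdiv : ∀ a b : Γ(Spec (CommRingCat.of R), ⊤), a ∣ b ∨ b ∣ a := by
    intro a b
    let e : Γ(Spec (CommRingCat.of R), ⊤) ≃+* R :=
      (Scheme.ΓSpecIso (CommRingCat.of R)).commRingCatIsoToRingEquiv
    rcases ValuationRing.dvd_total (e a) (e b) with h | h
    · left
      have := map_dvd e.symm h
      simpa using this
    · right
      have := map_dvd e.symm h
      simpa using this
  have h2 : tr (pullback.snd f g) z₁ ≤ tr (pullback.snd f g) P' :=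
    Groth.Agent.Lib.Helper4.Val1.tr_le_tr_of_dvd_total (pullback.snd f g) hV hdiv P' z₁ hP'z₁ trivial
  have h3 : tr (pullback.snd f g) P' ≤ tr f (pullback.fst f g P') :=
    Groth.Agent.Lib.Helper4.BaseChg1.tr_snd_le f g P'
  rw [hP'1] at h3
  omega

end Groth.Agent.Lib.Helper4.ValFlat15
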