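import Mathlib
import Groth.Prelude.Def_FDesc
import Groth.Prelude.Def_EGA43
import Groth.Agent.S4948
import Groth.Agent.Lib.Helper4.GeomRedAt1
import Groth.Agent.Lib.Helper4.OpenTransfer1
import Groth.Agent.Lib.Helper6.EtLoc.SmoothFiber

/-!
# valuative flatness (EGA IV 15.2.2), part 8: flatness over a DVR after base change (helper4)
-/

set_option backward.isDefEq.respectTransparency.types false
set_option synthInstance.maxHeartbeats 400000
set_option autoImplicit false
set_option linter.unusedSectionVars false
set_option linter.style.haveILetI false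
set_option linter.unusedSimpArgs false
universe u v w
open CategoryTheory CategoryTheory.Limits AlgebraicGeometry TopologicalSpace Topology TensorProduct

namespace Groth.Agent.Lib.Helper4.ValFlat8

open Groth.Agent.Helper7.GeomConn in
/-- Flatness over a discrete valuation ring after base change, at points over a maximal point of
the fibre at which the morphism is universally open and the fibre geometrically reduced. -/
theorem flat_stalkMap_baseChange_dvr {X Y : Scheme.{u}} (f : X ⟶ Y) [LocallyOfFiniteType f]
    (z₀ : X) (hU : EGA43.IsUnivOpenAt f z₀)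
    (hmax : ∀ x' : X, f x' = f z₀ → x' ⤳ z₀ → x' = z₀)
    (hgr : FBase.IsGeomReducedAt (f.fiberToSpecResidueField (f z₀)) (f.asFiber z₀))
    (R : Type u) [CommRing R] [IsDomain R] [IsDiscreteValuationRing R]
    (g : Spec (CommRingCat.of R) ⟶ Y) (ξ : ↥(pullback f g))
    (hξ1 : pullback.fst f g ξ = z₀) (hξ2 : pullback.snd f g ξ = IsLocalRing.closedPoint R) :
    ((pullback.snd f g).stalkMap ξ).hom.Flat := by
  have hc : IsPullback (pullback.fst f g) (pullback.snd f g) f g := IsPullback.of_hasPullback f g
  have pbcond : ∀ pt : ↥(pullback f g), f (pullback.fst f g pt) = g (pullback.snd f g pt) := by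
    intro pt
    have := congr($(pullback.condition (f := f) (g := g)) pt)
    simpa [Scheme.Hom.comp_apply] using this
  apply Groth.Agent.S4948.result (A := R) (pullback.snd f g) ξ hξ2
  · intro w hw _
    apply hU (Spec (CommRingCat.of R)) g
    have h1 : (pullback.snd f g).fiberι _ w ⤳ ξ := by
      have h2 : w ⤳ (pullback.snd f g).asFiber ξ := specializes_iff_mem_closure.mpr hw
      have h3 := h2.map ((pullback.snd f g).fiberι _).continuous
      rwa [(pullback.snd f g).fiberι_asFiber] at h3
    have h4 : pullback.fst f g ((pullback.snd f g).fiberι _ w) ⤳ z₀ := by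
      have := h1.map (pullback.fst f g).continuous
      rwa [hξ1] at this
    apply hmax _ ?_ h4
    have h5 : pullback.snd f g ((pullback.snd f g).fiberι _ w) = pullback.snd f g ξ := by
      have h0 : (pullback.snd f g).fiberι _ w ∈ (pullback.snd f g) ⁻¹' {pullback.snd f g ξ} := by
        rw [← (pullback.snd f g).range_fiberι]
        exact Set.mem_range_self w
      exact h0
    have h7 : f z₀ = g (pullback.snd f g ξ) := by
      rw [← hξ1]; exact pbcond ξ
    rw [pbcond, h5, h7]
  · have hy : f z₀ = g (pullback.snd f g ξ) := by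
      rw [← hξ1]; exact pbcond ξ
    have h6 := Groth.Agent.Lib.Helper4.OpenTransfer1.isGeomReducedAt_fiber_congr f (f z₀)
      (g (pullback.snd f g ξ)) hy (f.asFiber z₀)
      (fibreMap f (pullback.snd f g) (pullback.fst f g) g hc (pullback.snd f g ξ)
        ((pullback.snd f g).asFiber ξ)) (by
        rw [f.fiberι_asFiber, ← Scheme.Hom.comp_apply, fibreMap_fiberι, Scheme.Hom.comp_apply,
          (pullback.snd f g).fiberι_asFiber, hξ1]) hgr
    have h7 := Groth.Agent.Lib.Helper4.GeomRedAt1.isGeomReducedAt_fibre_ascend f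
      (pullback.snd f g) (pullback.fst f g) g hc (pullback.snd f g ξ)
      ((pullback.snd f g).asFiber ξ) h6
    have hpb : IsPullback (𝟙 ((pullback.snd f g).fiber (pullback.snd f g ξ)))
        ((pullback.snd f g).fiberToSpecResidueField (pullback.snd f g ξ))
        ((pullback.snd f g).fiberToSpecResidueField (pullback.snd f g ξ))
        (Spec.map (𝟙 _)) := by
      rw [Spec.map_id]
      exact IsPullback.id_horiz _
    exact Groth.Agent.Lib.Helper4.SecNbhd1.isReduced_stalk_of_isGeomReducedAt _ (𝟙 _) (𝟙 _) _ hpb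
      _ h7
/-- converse of the lead's `flat_stalkMap_SpecMap` -/
theorem flat_of_flat_stalkMap_SpecMap {R S : Type u} [CommRing R] [CommRing S] [Algebra R S]
    (ζ : Ideal S) [ζ.IsPrime]
    (h : ((Spec.map (CommRingCat.ofHom (algebraMap R S))).stalkMap ⟨ζ, inferInstance⟩).hom.Flat) :
    Module.Flat R (Localization.AtPrime ζ) := by
  have h2 := (RingHom.Flat.respectsIso.arrow_mk_iso_iff
    (Scheme.arrowStalkMapSpecIso (CommRingCat.ofHom (algebraMap R S)) ⟨ζ, inferInstance⟩)).mp h
  let _ := Localization.AtPrime.algebraOfLiesOver (ζ.under R) ζ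
  have h3 : (algebraMap (Localization.AtPrime (ζ.under R)) (Localization.AtPrime ζ)).Flat := h2
  rw [RingHom.flat_algebraMap_iff] at h3
  exact Module.Flat.trans R (Localization.AtPrime (ζ.under R)) (Localization.AtPrime ζ)
theorem affine_dvr {A B : Type u} [CommRing A] [CommRing B] [Algebra A B]
    [Algebra.FiniteType A B] (z : Ideal B) [z.IsPrime]
    (hU : EGA43.IsUnivOpenAt (Spec.map (CommRingCat.ofHom (algebraMap A B))) ⟨z, inferInstance⟩)
    (hmin : z ∈ ((z.comap (algebraMap A B)).map (algebraMap A B)).minimalPrimes)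
    (hgr : FBase.IsGeomReducedAt
      ((Spec.map (CommRingCat.ofHom (algebraMap A B))).fiberToSpecResidueField
        ((Spec.map (CommRingCat.ofHom (algebraMap A B))) ⟨z, inferInstance⟩))
      ((Spec.map (CommRingCat.ofHom (algebraMap A B))).asFiber ⟨z, inferInstance⟩))
    (R : Type u) [CommRing R] [IsDomain R] [IsDiscreteValuationRing R] [Algebra A R]
    (ζ : Ideal (R ⊗[A] B)) [ζ.IsPrime]
    (h1 : ζ.comap (Algebra.TensorProduct.includeRight (R := A) (A := R) (B := B)).toRingHom = z)
    (h2 : ζ.comap (algebraMap R (R ⊗[A] B)) = IsLocalRing.maximalIdeal R) :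
    Module.Flat R (Localization.AtPrime ζ) := by
  haveI : LocallyOfFiniteType (Spec.map (CommRingCat.ofHom (algebraMap A B))) := by
    rw [HasRingHomProperty.Spec_iff (P := @LocallyOfFiniteType)]
    exact RingHom.finiteType_algebraMap.mpr inferInstance
  have hpo := (CommRingCat.isPushout_tensorProduct A R B).flip
  have hpb := isPullback_SpecMap_of_isPushout _ _ _ _ hpo
  let e := hpb.isoPullback
  have he1 : e.hom ≫ pullback.fst _ _ = _ := hpb.isoPullback_hom_fst
  have he2 : e.hom ≫ pullback.snd _ _ = _ := hpb.isoPullback_hom_snd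
  let ξ := e.hom ⟨ζ, inferInstance⟩
  have key := flat_stalkMap_baseChange_dvr (Spec.map (CommRingCat.ofHom (algebraMap A B)))
    ⟨z, inferInstance⟩ hU ?_ hgr R (Spec.map (CommRingCat.ofHom (algebraMap A R))) ξ ?_ ?_
  · have k2 := (Groth.Agent.Lib.Helper6.EtLoc.flat_stalkMap_comp_iff e.hom (pullback.snd _ _)
      ⟨ζ, inferInstance⟩).mp key
    rw [he2] at k2
    exact flat_of_flat_stalkMap_SpecMap ζ k2
  · intro x' hx' hsp
    have hle' : x'.asIdeal ≤ z :=
      (PrimeSpectrum.le_iff_specializes (R := B) x' ⟨z, inferInstance⟩).mpr hsp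
    have hc : x'.asIdeal.comap (algebraMap A B) = z.comap (algebraMap A B) :=
      congrArg PrimeSpectrum.asIdeal hx'
    have h3 : (z.comap (algebraMap A B)).map (algebraMap A B) ≤ x'.asIdeal := by
      rw [Ideal.map_le_iff_le_comap, hc]
    have h4 : z ≤ x'.asIdeal := hmin.2 ⟨x'.isPrime, h3⟩ hle'
    exact PrimeSpectrum.ext (le_antisymm hle' h4)
  · show (pullback.fst (Spec.map (CommRingCat.ofHom (algebraMap A B)))
      (Spec.map (CommRingCat.ofHom (algebraMap A R)))) (e.hom ⟨ζ, inferInstance⟩) = _
    rw [← Scheme.Hom.comp_apply, he1]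
    exact PrimeSpectrum.ext h1
  · show (pullback.snd (Spec.map (CommRingCat.ofHom (algebraMap A B)))
      (Spec.map (CommRingCat.ofHom (algebraMap A R)))) (e.hom ⟨ζ, inferInstance⟩) = _
    rw [← Scheme.Hom.comp_apply, he2]
    exact PrimeSpectrum.ext h2

end Groth.Agent.Lib.Helper4.ValFlat8
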