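import Mathlib
import Groth.Prelude.Def_FDesc
import Groth.Agent.Lib.Helper4.GeomRedAt1
import Groth.Agent.Lib.Helper4.LocNoethFib1
import Groth.Agent.Lib.Helper8.GeomAlgClosed
import Groth.Agent.Lib.Helper2.Sch.ReducedStalkSmooth

/-!
# Geometric reducedness at a point passes to generizations (helper4)
-/

set_option backward.isDefEq.respectTransparency.types false
set_option synthInstance.maxHeartbeats 400000
set_option autoImplicit false
set_option linter.unusedSectionVars false
set_option linter.style.haveILetI false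
set_option linter.unusedSimpArgs false
universe u v w
open CategoryTheory CategoryTheory.Limits AlgebraicGeometry TopologicalSpace Topology TensorProduct

namespace Groth.Agent.Lib.Helper4.ValFlat7

/-- Over an algebraically closed field, a point with reduced local ring is a point of geometric
reducedness. -/
theorem isGeomReducedAt_of_isAlgClosed {k : Type u} [Field k] [IsAlgClosed k] {Z : Scheme.{u}}
    (F : Z ⟶ Spec (CommRingCat.of k)) (z : Z)
    (h : _root_.IsReduced (Z.presheaf.stalk z)) : FBase.IsGeomReducedAt F z := by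
  intro K _ _ w hw
  let ι : Spec (Z.presheaf.stalk z) ⟶ Z := Z.fromSpecStalk z
  haveI : Flat ι := Groth.Agent.Lib.Helper4.LocNoethFib1.flat_fromSpecStalk Z z
  let ψ : CommRingCat.of k ⟶ Z.presheaf.stalk z := Spec.preimage (ι ≫ F)
  have hψ : Spec.map ψ = ι ≫ F := Spec.map_preimage _
  letI : Algebra k (Z.presheaf.stalk z) := ψ.hom.toAlgebra
  haveI : _root_.IsReduced ((Z.presheaf.stalk z) ⊗[k] K) :=
    Groth.Agent.Helper8.isReduced_tensor_of_isAlgClosed (k := k) (Z.presheaf.stalk z) K
  -- the pullback of the local scheme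
  let r := pullback.snd ι (FBase.bcπ F K)
  haveI : Flat r := MorphismProperty.pullback_snd (P := @Flat) _ _ inferInstance
  obtain ⟨t, -, ht⟩ := Scheme.Pullback.exists_preimage_pullback (f := ι) (g := FBase.bcπ F K)
    (IsLocalRing.closedPoint (Z.presheaf.stalk z)) w
    (by rw [hw]; exact Scheme.fromSpecStalk_closedPoint)
  -- it is the spectrum of the tensor product
  let e1 : pullback ι (FBase.bcπ F K) ≅
      pullback (ι ≫ F) (Spec.map (CommRingCat.ofHom (algebraMap k K))) :=
    pullbackRightPullbackFstIso F (Spec.map (CommRingCat.ofHom (algebraMap k K))) ι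
  have hι : ι ≫ F = Spec.map (CommRingCat.ofHom (algebraMap k (Z.presheaf.stalk z))) := hψ.symm
  let e2 : pullback (Spec.map (CommRingCat.ofHom (algebraMap k (Z.presheaf.stalk z))))
      (Spec.map (CommRingCat.ofHom (algebraMap k K))) ≅
      Spec (CommRingCat.of ((Z.presheaf.stalk z) ⊗[k] K)) := pullbackSpecIso k _ K
  haveI : AlgebraicGeometry.IsReduced (Spec (CommRingCat.of ((Z.presheaf.stalk z) ⊗[k] K))) :=
    (affine_isReduced_iff _).mpr inferInstance
  haveI : AlgebraicGeometry.IsReduced (pullback (Spec.map (CommRingCat.ofHom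
      (algebraMap k (Z.presheaf.stalk z)))) (Spec.map (CommRingCat.ofHom (algebraMap k K)))) :=
    isReduced_of_isOpenImmersion e2.hom
  haveI : AlgebraicGeometry.IsReduced (pullback (ι ≫ F)
      (Spec.map (CommRingCat.ofHom (algebraMap k K)))) := by
    rw [hι]; infer_instance
  haveI : AlgebraicGeometry.IsReduced (pullback ι (FBase.bcπ F K)) :=
    isReduced_of_isOpenImmersion e1.hom
  have h1 : _root_.IsReduced ((pullback ι (FBase.bcπ F K)).presheaf.stalk t) := inferInstance
  have h2 := Groth.Agent.Lib.Helper4.GeomRedAt1.isReduced_stalk_of_flat r t h1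
  rw [ht] at h2
  exact h2

/-- Geometric reducedness at a point passes to generizations. -/
theorem isGeomReducedAt_of_specializes {k : Type u} [Field k] {Z : Scheme.{u}}
    (F : Z ⟶ Spec (CommRingCat.of k)) {z x : Z} (hsp : z ⤳ x)
    (h : FBase.IsGeomReducedAt F x) : FBase.IsGeomReducedAt F z := by
  let kb := AlgebraicClosure k
  let φ : CommRingCat.of k ⟶ CommRingCat.of kb := CommRingCat.ofHom (algebraMap k kb)
  have hpb : IsPullback (FBase.bcπ F kb) (FBase.bcStr F kb) F (Spec.map φ) :=
    IsPullback.of_hasPullback _ _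
  haveI : IsIntegralHom (Spec.map φ) := by
    rw [IsIntegralHom.SpecMap_iff]
    exact algebraMap_isIntegral_iff.mpr inferInstance
  haveI : Surjective (Spec.map φ) := by
    constructor
    intro t
    refine ⟨IsLocalRing.closedPoint _, ?_⟩
    exact Subsingleton.elim _ _
  haveI : IsIntegralHom (FBase.bcπ F kb) :=
    MorphismProperty.pullback_fst (P := @IsIntegralHom) _ _ inferInstance
  haveI : Surjective (FBase.bcπ F kb) :=
    MorphismProperty.pullback_fst (P := @Surjective) _ _ inferInstance
  obtain ⟨zb, hzb⟩ := (FBase.bcπ F kb).surjective z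
  have hcl : IsClosedMap (FBase.bcπ F kb) := (FBase.bcπ F kb).isClosedMap
  obtain ⟨xb, hxb1, hxb2⟩ := hcl.specializingMap (show (FBase.bcπ F kb) zb ⤳ x by rw [hzb]; exact hsp)
  have h1 : _root_.IsReduced ((FBase.bc F kb).presheaf.stalk xb) := h kb xb hxb2
  have h2 : _root_.IsReduced ((FBase.bc F kb).presheaf.stalk zb) :=
    Groth.Agent.Helper2.RedStalk.isReduced_stalk_of_specializes hxb1 h1
  have h3 := isGeomReducedAt_of_isAlgClosed (FBase.bcStr F kb) zb h2
  have h4 := Groth.Agent.Lib.Helper4.GeomRedAt1.isGeomReducedAt_descend F (FBase.bcStr F kb) φ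
    (FBase.bcπ F kb) hpb zb h3
  rw [hzb] at h4
  exact h4

end Groth.Agent.Lib.Helper4.ValFlat7
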