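import Mathlib
import Groth.Prelude.Def_FDesc
import Groth.Prelude.Def_EGA43
import Groth.Agent.Lib.Helper4.OpenTransfer1
import Groth.Agent.Lib.Helper6.RedFib.Sch
import Groth.Agent.Lib.Helper4.ValFlat7

/-!
# valuative flatness (EGA IV 15.2.2), part 9: transfer of the hypotheses to an affine chart (helper4)
-/

set_option backward.isDefEq.respectTransparency.types false
set_option synthInstance.maxHeartbeats 400000
set_option autoImplicit false
set_option linter.unusedSectionVars false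
set_option linter.style.haveILetI false
set_option linter.unusedSimpArgs false
universe u v w
open CategoryTheory CategoryTheory.Limits AlgebraicGeometry TopologicalSpace Topology TensorProduct

namespace Groth.Agent.Lib.Helper4.ValFlat9

open Groth.Agent.Lib.Helper4.OpenTransfer1 in
/-- transfer of universal openness and geometric reducedness of the fibre to an affine chart -/
theorem chart_affine {X Y : Scheme.{u}} (f : X ⟶ Y) (V : Y.Opens) (hV : IsAffineOpen V)
    (U : X.Opens) (hU : IsAffineOpen U) (hUV : U ≤ f ⁻¹ᵁ V) (P : Spec Γ(X, U))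
    (h1 : EGA43.IsUnivOpenAt f (hU.fromSpec P))
    (h2 : FBase.IsGeomReducedAt (f.fiberToSpecResidueField (f (hU.fromSpec P)))
      (f.asFiber (hU.fromSpec P))) :
    EGA43.IsUnivOpenAt (Spec.map (f.appLE V U hUV)) P ∧
    FBase.IsGeomReducedAt
      ((Spec.map (f.appLE V U hUV)).fiberToSpecResidueField ((Spec.map (f.appLE V U hUV)) P))
      ((Spec.map (f.appLE V U hUV)).asFiber P) := by
  have hc : Spec.map (f.appLE V U hUV) ≫ hV.fromSpec = hU.fromSpec ≫ f :=
    IsAffineOpen.SpecMap_appLE_fromSpec f hV hU hUV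
  refine ⟨isUnivOpenAt_of_isOpenImmersion f hU.fromSpec hV.fromSpec _ hc P h1, ?_⟩
  obtain ⟨ψ, hψo, hψ1, hψ2⟩ := Groth.Agent.Lib.Helper6.RedFib.exists_fiber_chart f hU.fromSpec
    hV.fromSpec (Spec.map (f.appLE V U hUV)) hc ((Spec.map (f.appLE V U hUV)) P)
  haveI := hψo
  haveI : IsIso (Spec.map (hV.fromSpec.residueFieldMap ((Spec.map (f.appLE V U hUV)) P))) :=
    inferInstance
  have hmono : Mono (Spec.map (hV.fromSpec.residueFieldMap ((Spec.map (f.appLE V U hUV)) P))) :=
    inferInstance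
  refine @isGeomReducedAt_of_isOpenImmersion _ _ _ _ _ _
    (f.fiberToSpecResidueField (hV.fromSpec ((Spec.map (f.appLE V U hUV)) P)))
    ((Spec.map (f.appLE V U hUV)).fiberToSpecResidueField ((Spec.map (f.appLE V U hUV)) P)) ψ hψo
    (hV.fromSpec.residueFieldMap ((Spec.map (f.appLE V U hUV)) P)) hmono hψ1.symm
    ((Spec.map (f.appLE V U hUV)).asFiber P) ?_
  have heq : f (hU.fromSpec P) = hV.fromSpec ((Spec.map (f.appLE V U hUV)) P) := by
    have := congr($(hc) P)
    simpa [Scheme.Hom.comp_apply] using this.symm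
  refine isGeomReducedAt_fiber_congr f _ _ heq (f.asFiber (hU.fromSpec P)) _ ?_ h2
  rw [f.fiberι_asFiber, ← Scheme.Hom.comp_apply, hψ2, Scheme.Hom.comp_apply,
    (Spec.map (f.appLE V U hUV)).fiberι_asFiber]
/-- `f` on a point of an affine chart -/
theorem apply_fromSpec {X Y : Scheme.{u}} (f : X ⟶ Y) (V : Y.Opens) (hV : IsAffineOpen V)
    (U : X.Opens) (hU : IsAffineOpen U) (hUV : U ≤ f ⁻¹ᵁ V) (P : Spec Γ(X, U)) :
    f (hU.fromSpec P) = hV.fromSpec ((Spec.map (f.appLE V U hUV)) P) := by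
  have := congr($(IsAffineOpen.SpecMap_appLE_fromSpec f hV hU hUV) P)
  simpa [Scheme.Hom.comp_apply] using this.symm

open Groth.Agent.Lib.Helper4.OpenTransfer1 in
/-- the hypotheses of EGA IV 15.2.2 at the generic points of the fibre through `x`, in a chart -/
theorem chart_generic {X Y : Scheme.{u}} (f : X ⟶ Y) (x : X)
    (hopen : ∀ z : ↥(f.fiber (f x)), f.asFiber x ∈ closure {z} →
      (∀ z' : ↥(f.fiber (f x)), z ∈ closure {z'} → z' = z) →
      EGA43.IsUnivOpenAt f ((f.fiberι (f x)) z))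
    (hred : FBase.IsGeomReducedAt (f.fiberToSpecResidueField (f x)) (f.asFiber x))
    (V : Y.Opens) (hV : IsAffineOpen V)
    (U : X.Opens) (hU : IsAffineOpen U) (hUV : U ≤ f ⁻¹ᵁ V) (hx : x ∈ U)
    (z : Ideal Γ(X, U)) [z.IsPrime] (hzq : z ≤ (hU.primeIdealOf ⟨x, hx⟩).asIdeal)
    (hzmin : z ∈ (((hU.primeIdealOf ⟨x, hx⟩).asIdeal.comap (f.appLE V U hUV).hom).map
      (f.appLE V U hUV).hom).minimalPrimes) :
    EGA43.IsUnivOpenAt f (hU.fromSpec ⟨z, inferInstance⟩) ∧
    FBase.IsGeomReducedAt (f.fiberToSpecResidueField (f (hU.fromSpec ⟨z, inferInstance⟩)))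
      (f.asFiber (hU.fromSpec ⟨z, inferInstance⟩)) := by
  set φ := (f.appLE V U hUV).hom with hφ
  set q := (hU.primeIdealOf ⟨x, hx⟩).asIdeal with hq
  let Pz : Spec Γ(X, U) := ⟨z, inferInstance⟩
  -- comap of z
  have hzc : z.comap φ = q.comap φ := by
    apply le_antisymm (Ideal.comap_mono hzq)
    rw [← Ideal.map_le_iff_le_comap]
    exact hzmin.1.2
  have hxP : hU.fromSpec (hU.primeIdealOf ⟨x, hx⟩) = x := hU.fromSpec_primeIdealOf ⟨x, hx⟩
  -- z₀ ⤳ x
  have hsp : hU.fromSpec Pz ⤳ x := by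
    have h0 : Pz ⤳ hU.primeIdealOf ⟨x, hx⟩ :=
      (PrimeSpectrum.le_iff_specializes (R := Γ(X, U)) Pz (hU.primeIdealOf ⟨x, hx⟩)).mp hzq
    have := h0.map hU.fromSpec.continuous
    rwa [hxP] at this
  -- f z₀ = f x
  have hfz : f (hU.fromSpec Pz) = f x := by
    rw [← hxP, apply_fromSpec f V hV U hU hUV, apply_fromSpec f V hV U hU hUV]
    congr 1
    exact PrimeSpectrum.ext hzc
  -- the point of the fibre
  obtain ⟨zf, hzf⟩ : ∃ zf : ↥(f.fiber (f x)), f.fiberι (f x) zf = hU.fromSpec Pz := by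
    have : hU.fromSpec Pz ∈ Set.range (f.fiberι (f x)) := by
      rw [f.range_fiberι]
      exact hfz
    exact this
  have hemb := (f.fiberι (f x)).isEmbedding
  have hsp' : zf ⤳ f.asFiber x := by
    rw [← hemb.isInducing.specializes_iff, hzf, f.fiberι_asFiber]
    exact hsp
  have hz0U : hU.fromSpec Pz ∈ U := by
    rw [← SetLike.mem_coe, ← hU.range_fromSpec]
    exact ⟨Pz, rfl⟩
  have hmax : ∀ z' : ↥(f.fiber (f x)), zf ∈ closure {z'} → z' = zf := by
    intro z' hz'
    have h1 : z' ⤳ zf := specializes_iff_mem_closure.mpr hz'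
    have h2 : f.fiberι (f x) z' ⤳ hU.fromSpec Pz := by
      have := h1.map (f.fiberι (f x)).continuous
      rwa [hzf] at this
    have h3 : f.fiberι (f x) z' ∈ U := h2.mem_open U.isOpen hz0U
    obtain ⟨P', hP'⟩ : ∃ P' : Spec Γ(X, U), hU.fromSpec P' = f.fiberι (f x) z' := by
      have : f.fiberι (f x) z' ∈ Set.range hU.fromSpec := by
        rw [hU.range_fromSpec]
        exact h3
      exact this
    have h4 : P' ⤳ Pz := by
      rw [← hU.fromSpec.isOpenEmbedding.isInducing.specializes_iff, hP']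
      exact h2
    have h5 : P'.asIdeal ≤ z :=
      (PrimeSpectrum.le_iff_specializes (R := Γ(X, U)) P' Pz).mpr h4
    have h6 : f (f.fiberι (f x) z') = f x := by
      have : f.fiberι (f x) z' ∈ f ⁻¹' {f x} := by
        rw [← f.range_fiberι]
        exact Set.mem_range_self z'
      exact this
    have h7 : (Spec.map (f.appLE V U hUV)) P' = (Spec.map (f.appLE V U hUV)) Pz := by
      apply hV.fromSpec.isOpenEmbedding.injective
      rw [← apply_fromSpec f V hV U hU hUV, ← apply_fromSpec f V hV U hU hUV, hP', h6, hfz]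
    have h8 : P'.asIdeal.comap φ = z.comap φ := congrArg PrimeSpectrum.asIdeal h7
    have h9 : (q.comap φ).map φ ≤ P'.asIdeal := by
      rw [Ideal.map_le_iff_le_comap, h8, hzc]
    have h10 : z ≤ P'.asIdeal := hzmin.2 ⟨P'.isPrime, h9⟩ h5
    have h11 : P' = Pz := PrimeSpectrum.ext (le_antisymm h5 h10)
    apply hemb.injective
    rw [hzf, ← hP', h11]
  constructor
  · rw [← hzf]
    exact hopen zf (specializes_iff_mem_closure.mp hsp') hmax
  · have h1 := Groth.Agent.Lib.Helper4.ValFlat7.isGeomReducedAt_of_specializes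
      (f.fiberToSpecResidueField (f x)) hsp' hred
    refine isGeomReducedAt_fiber_congr f (f x) _ hfz.symm zf _ ?_ h1
    rw [hzf, f.fiberι_asFiber]

end Groth.Agent.Lib.Helper4.ValFlat9
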