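import Mathlib
import Groth.Prelude.Def_FDesc
import Groth.Prelude.Def_EGA43
import Groth.Agent.Lib.Helper4.ValFlat8
import Groth.Agent.Lib.Helper4.ValFlat9
import Groth.Agent.Lib.Helper4.ValFlat10

/-!
# valuative flatness (EGA IV 15.2.2, 15.2.3), part 11: the main theorems (helper4)
-/

set_option backward.isDefEq.respectTransparency.types false
set_option synthInstance.maxHeartbeats 400000
set_option autoImplicit false
set_option linter.unusedSectionVars false
set_option linter.style.haveILetI false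
set_option linter.unusedSimpArgs false
universe u v w
open CategoryTheory CategoryTheory.Limits AlgebraicGeometry TopologicalSpace Topology TensorProduct

namespace Groth.Agent.Lib.Helper4.ValFlat11

open Groth.Agent.Lib.Helper4.ValFlat8 Groth.Agent.Lib.Helper4.ValFlat9
  Groth.Agent.Lib.Helper4.ValFlat10 in
theorem main_core {X Y : Scheme.{u}} [IsLocallyNoetherian Y] (f : X ⟶ Y)
    [LocallyOfFiniteType f] (x : X)
    (hy : _root_.IsReduced (Y.presheaf.stalk (f x)))
    (hrad : ((IsLocalRing.maximalIdeal (Y.presheaf.stalk (f x))).map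
      (f.stalkMap x).hom).IsRadical)
    (hgen : ∀ (V : Y.Opens) (hV : IsAffineOpen V) (U : X.Opens) (hU : IsAffineOpen U)
      (hUV : U ≤ f ⁻¹ᵁ V) (hx : x ∈ U) (z : Ideal Γ(X, U)) [z.IsPrime],
      z ≤ (hU.primeIdealOf ⟨x, hx⟩).asIdeal →
      z ∈ (((hU.primeIdealOf ⟨x, hx⟩).asIdeal.comap (f.appLE V U hUV).hom).map
        (f.appLE V U hUV).hom).minimalPrimes →
      EGA43.IsUnivOpenAt f (hU.fromSpec ⟨z, inferInstance⟩) ∧
      FBase.IsGeomReducedAt (f.fiberToSpecResidueField (f (hU.fromSpec ⟨z, inferInstance⟩)))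
        (f.asFiber (hU.fromSpec ⟨z, inferInstance⟩))) :
    (f.stalkMap x).hom.Flat := by
  obtain ⟨_, ⟨V, hV, rfl⟩, hxV, -⟩ :=
    Y.isBasis_affineOpens.exists_subset_of_mem_open (Set.mem_univ (f x)) isOpen_univ
  obtain ⟨_, ⟨U, hU, rfl⟩, hxU, hUV'⟩ :=
    X.isBasis_affineOpens.exists_subset_of_mem_open (show x ∈ f ⁻¹ᵁ V from hxV) (f ⁻¹ᵁ V).isOpen
  have hUV : U ≤ f ⁻¹ᵁ V := hUV'
  have hV' : IsAffineOpen V := hV
  have hU' : IsAffineOpen U := hU
  letI algAB : Algebra Γ(Y, V) Γ(X, U) := (f.appLE V U hUV).hom.toAlgebra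
  haveI : IsNoetherianRing Γ(Y, V) := IsLocallyNoetherian.component_noetherian ⟨V, hV'⟩
  haveI : Algebra.FiniteType Γ(Y, V) Γ(X, U) := by
    have := HasRingHomProperty.appLE (P := @LocallyOfFiniteType) f inferInstance ⟨V, hV'⟩
      ⟨U, hU'⟩ hUV
    exact RingHom.finiteType_algebraMap.mp this
  have hpq : (hV'.primeIdealOf ⟨f x, hxV⟩).asIdeal =
      (hU'.primeIdealOf ⟨x, hxU⟩).asIdeal.comap (algebraMap Γ(Y, V) Γ(X, U)) :=
    congr($(IsAffineOpen.comap_primeIdealOf_appLE V hV' U hU' hUV hxU).1).symm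
  haveI hlo : (hU'.primeIdealOf ⟨x, hxU⟩).asIdeal.LiesOver
      (hV'.primeIdealOf ⟨f x, hxV⟩).asIdeal := ⟨hpq⟩
  letI algA : Algebra Γ(Y, V) (Y.presheaf.stalk (f x)) :=
    Y.presheaf.algebra_section_stalk ⟨f x, hxV⟩
  haveI locA : IsLocalization.AtPrime (Y.presheaf.stalk (f x))
      (hV'.primeIdealOf ⟨f x, hxV⟩).asIdeal := hV'.isLocalization_stalk ⟨f x, hxV⟩
  letI algB : Algebra Γ(X, U) (X.presheaf.stalk x) := X.presheaf.algebra_section_stalk ⟨x, hxU⟩
  haveI locB : IsLocalization.AtPrime (X.presheaf.stalk x)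
      (hU'.primeIdealOf ⟨x, hxU⟩).asIdeal := hU'.isLocalization_stalk ⟨x, hxU⟩
  letI algYS : Algebra (Y.presheaf.stalk (f x)) (X.presheaf.stalk x) :=
    (f.stalkMap x).hom.toAlgebra
  letI algAS : Algebra Γ(Y, V) (X.presheaf.stalk x) :=
    ((f.stalkMap x).hom.comp (algebraMap Γ(Y, V) (Y.presheaf.stalk (f x)))).toAlgebra
  haveI st1 : IsScalarTower Γ(Y, V) (Y.presheaf.stalk (f x)) (X.presheaf.stalk x) :=
    .of_algebraMap_eq fun _ => rfl
  haveI st2 : IsScalarTower Γ(Y, V) Γ(X, U) (X.presheaf.stalk x) := by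
    refine .of_algebraMap_eq fun a => ?_
    show (f.stalkMap x).hom ((Y.presheaf.germ V (f x) hxV).hom a) =
      (X.presheaf.germ U x hxU).hom ((f.appLE V U hUV).hom a)
    have h1 := Scheme.Hom.germ_stalkMap_apply f V x hxV a
    have h2 : (X.presheaf.germ U x hxU).hom ((f.appLE V U hUV).hom a) =
        (X.presheaf.germ (f ⁻¹ᵁ V) x hxV).hom ((f.app V).hom a) := by
      rw [Scheme.Hom.appLE]
      exact TopCat.Presheaf.germ_res_apply X.presheaf (homOfLE hUV) x hxU ((f.app V).hom a)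
    exact h1.trans h2.symm
  have hrad' : ((hV'.primeIdealOf ⟨f x, hxV⟩).asIdeal.map
      (algebraMap Γ(Y, V) (X.presheaf.stalk x))).IsRadical := by
    have h1 : algebraMap Γ(Y, V) (X.presheaf.stalk x) =
        (f.stalkMap x).hom.comp (algebraMap Γ(Y, V) (Y.presheaf.stalk (f x))) := rfl
    rw [h1, ← Ideal.map_map, IsLocalization.AtPrime.map_eq_maximalIdeal
      (hV'.primeIdealOf ⟨f x, hxV⟩).asIdeal (Y.presheaf.stalk (f x))]
    exact hrad
  have key : Module.Flat Γ(Y, V) (X.presheaf.stalk x) := by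
    refine ring_main' (hU'.primeIdealOf ⟨x, hxU⟩).asIdeal (hV'.primeIdealOf ⟨f x, hxV⟩).asIdeal
      (Y.presheaf.stalk (f x)) (X.presheaf.stalk x) hy hrad' ?_
    intro z _ hzq hzmin R _ _ _ _ hR ζ _ h1 h2
    have hzmin' : z ∈ (((hU'.primeIdealOf ⟨x, hxU⟩).asIdeal.comap (f.appLE V U hUV).hom).map
        (f.appLE V U hUV).hom).minimalPrimes := by
      rw [hpq] at hzmin
      exact hzmin
    obtain ⟨ha, hb⟩ := hgen V hV' U hU' hUV hxU z hzq hzmin'
    obtain ⟨hc, hd⟩ := chart_affine f V hV' U hU' hUV ⟨z, inferInstance⟩ ha hb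
    have hzc : z.comap (algebraMap Γ(Y, V) Γ(X, U)) =
        (hV'.primeIdealOf ⟨f x, hxV⟩).asIdeal := by
      rw [hpq]
      apply le_antisymm (Ideal.comap_mono hzq)
      rw [← Ideal.map_le_iff_le_comap, ← hpq]
      exact hzmin.1.2
    have hmin2 : z ∈ ((z.comap (algebraMap Γ(Y, V) Γ(X, U))).map
        (algebraMap Γ(Y, V) Γ(X, U))).minimalPrimes := by
      rw [hzc]
      exact hzmin
    exact affine_dvr z hc hmin2 hd R ζ h1 h2
  have h3 : Module.Flat (Y.presheaf.stalk (f x)) (X.presheaf.stalk x) :=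
    (Module.flat_iff_of_isLocalization (Y.presheaf.stalk (f x))
      (hV'.primeIdealOf ⟨f x, hxV⟩).asIdeal.primeCompl _).mpr key
  exact RingHom.flat_algebraMap_iff.mpr h3
open Groth.Agent.Lib.Helper4.ValFlat8 Groth.Agent.Lib.Helper4.ValFlat9
  Groth.Agent.Lib.Helper4.ValFlat10 in
/-- EGA IV 15.2.2 -/
theorem S2561_main {X Y : Scheme.{u}} [IsLocallyNoetherian Y]
    (f : X ⟶ Y) [LocallyOfFiniteType f] (x : X)
    (hopen : ∀ z : ↥(f.fiber (f.base x)), f.asFiber x ∈ closure {z} →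
      (∀ z' : ↥(f.fiber (f.base x)), z ∈ closure {z'} → z' = z) →
      EGA43.IsUnivOpenAt f ((f.fiberι (f.base x)).base z))
    (hred : FBase.IsGeomReducedAt (f.fiberToSpecResidueField (f.base x)) (f.asFiber x))
    (hy : _root_.IsReduced (Y.presheaf.stalk (f.base x))) :
    (f.stalkMap x).hom.Flat := by
  refine main_core f x hy ?_ ?_
  · have h1 := isRadical_map_maximalIdeal f (f x) (f.asFiber x)
      (isReduced_stalk_fiber_of_isGeomReducedAt f (f x) (f.asFiber x) hred)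
    have e1 : ∀ a b : X, a = b →
        ((IsLocalRing.maximalIdeal (Y.presheaf.stalk (f a))).map (f.stalkMap a).hom).IsRadical →
        ((IsLocalRing.maximalIdeal (Y.presheaf.stalk (f b))).map (f.stalkMap b).hom).IsRadical := by
      rintro a _ rfl h; exact h
    exact e1 _ _ (f.fiberι_asFiber x) h1
  · intro V hV U hU hUV hx z _ hzq hzmin
    exact chart_generic f x hopen hred V hV U hU hUV hx z hzq hzmin

/-- EGA IV 15.2.3 -/
theorem S2560_main {X Y : Scheme.{u}} [IsLocallyNoetherian Y] [IsReduced Y]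
    (f : X ⟶ Y) [LocallyOfFiniteType f] [UniversallyOpen f]
    (hfib : ∀ x : X, FBase.IsGeomReducedAt (f.fiberToSpecResidueField (f.base x)) (f.asFiber x)) :
    Flat f := by
  apply Flat.of_stalkMap
  intro x
  refine S2561_main f x ?_ (hfib x) inferInstance
  intro z _ _ Y' g x' _ W hW
  exact (pullback.snd f g).isOpenMap.image_mem_nhds hW

end Groth.Agent.Lib.Helper4.ValFlat11
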