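import Mathlib
import Groth.Prelude.Def_FDesc
import Groth.Prelude.Def_EGA43
import Groth.Agent.Lib.Helper4.UnivOpenAt
import Groth.Agent.S2561
import Groth.Agent.S4963
import Groth.Agent.Lib.Helper4.OpenTransfer1
import Groth.Agent.Lib.Helper4.GeomRedAt1
import Groth.Agent.Lib.Helper4.FiberChart
import Groth.Agent.Lib.Helper6.EtLoc.SmoothFiber

/-!
# EGA IV 15.2.2, first part: universally open neighbourhood with geometrically reduced fibres (S3407) (helper4)
-/

set_option backward.isDefEq.respectTransparency.types false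
set_option synthInstance.maxHeartbeats 400000
set_option autoImplicit false
set_option linter.unusedSectionVars false
set_option linter.style.haveILetI false
set_option linter.unusedSimpArgs false
universe u v w
open CategoryTheory CategoryTheory.Limits AlgebraicGeometry TopologicalSpace Topology TensorProduct

namespace Groth.Agent.Lib.Helper4.ValFlat13

/-- universal openness descends along a surjective closed immersion of the base -/
theorem universallyOpen_of_isPullback_closedImmersion {Z Y Z' Y' : Scheme.{u}} (h : Z ⟶ Y)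
    (h' : Z' ⟶ Y') (a : Z' ⟶ Z) (i : Y' ⟶ Y) (hpb : IsPullback a h' h i)
    [IsClosedImmersion i] [Surjective i] [UniversallyOpen h'] : UniversallyOpen h := by
  constructor
  intro P T i₁ i₂ f' hsq
  let q := pullback.fst i₂ i
  let r := pullback.snd i₂ i
  let p₁ := pullback.fst f' q
  let p₂ := pullback.snd f' q
  have S1 : IsPullback p₁ p₂ f' q := IsPullback.of_hasPullback f' q
  have big := S1.paste_horiz hsq.flip
  have hqr : q ≫ i₂ = r ≫ i := pullback.condition
  rw [hqr] at big
  let ℓ : pullback f' q ⟶ Z' := hpb.lift (p₁ ≫ i₁) (p₂ ≫ r) (by rw [Category.assoc]; exact big.w)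
  have hℓ1 : ℓ ≫ a = p₁ ≫ i₁ := hpb.lift_fst _ _ _
  have hℓ2 : ℓ ≫ h' = p₂ ≫ r := hpb.lift_snd _ _ _
  rw [← hℓ1] at big
  have left := IsPullback.of_right big hℓ2 hpb
  haveI : UniversallyOpen p₂ := MorphismProperty.of_isPullback (P := @UniversallyOpen) left
    inferInstance
  haveI : IsClosedImmersion q := inferInstance
  haveI : Surjective q := inferInstance
  have hq : IsQuotientMap q :=
    (q.isClosedEmbedding.isClosedMap).isQuotientMap q.continuous q.surjective
  intro s hs
  show IsOpen (f' '' s)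
  rw [← hq.isOpen_preimage, ← Scheme.image_preimage_eq_of_isPullback S1]
  exact p₂.isOpenMap _ (hs.preimage p₁.continuous)


/-- the hypothesis of universal openness at the generic points of the fibre passes to the base
change along a closed immersion -/
theorem hopen_baseChange {X Y X' Y' : Scheme.{u}} (f : X ⟶ Y) (f' : X' ⟶ Y') (g' : X' ⟶ X)
    (g : Y' ⟶ Y) (hc : IsPullback g' f' f g) [IsClosedImmersion g] (x' : X')
    (hopen : ∀ z : ↥(f.fiber (f (g' x'))), f.asFiber (g' x') ∈ closure {z} →
      (∀ z₂ : ↥(f.fiber (f (g' x'))), z ∈ closure {z₂} → z₂ = z) →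
      EGA43.IsUnivOpenAt f ((f.fiberι (f (g' x'))) z)) :
    ∀ z' : ↥(f'.fiber (f' x')), f'.asFiber x' ∈ closure {z'} →
      (∀ z₂ : ↥(f'.fiber (f' x')), z' ∈ closure {z₂} → z₂ = z') →
      EGA43.IsUnivOpenAt f' ((f'.fiberι (f' x')) z') := by
  intro z' hcl hmax
  have hcomm : ∀ p : X', f (g' p) = g (f' p) := by
    intro p
    have := congr($(hc.w) p)
    simpa [Scheme.Hom.comp_apply] using this
  have hfib' : ∀ t : ↥(f'.fiber (f' x')), f' (f'.fiberι (f' x') t) = f' x' := by
    intro t
    have : f'.fiberι (f' x') t ∈ f' ⁻¹' {f' x'} := by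
      rw [← f'.range_fiberι]
      exact Set.mem_range_self t
    exact this
  have hfib : ∀ t : ↥(f.fiber (f (g' x'))), f (f.fiberι (f (g' x')) t) = f (g' x') := by
    intro t
    have : f.fiberι (f (g' x')) t ∈ f ⁻¹' {f (g' x')} := by
      rw [← f.range_fiberι]
      exact Set.mem_range_self t
    exact this
  have hfw : f (g' (f'.fiberι (f' x') z')) = f (g' x') := by
    rw [hcomm, hfib', ← hcomm]
  obtain ⟨z, hz⟩ : ∃ z : ↥(f.fiber (f (g' x'))),
      f.fiberι (f (g' x')) z = g' (f'.fiberι (f' x') z') := by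
    have : g' (f'.fiberι (f' x') z') ∈ Set.range (f.fiberι (f (g' x'))) := by
      rw [f.range_fiberι]
      exact hfw
    exact this
  have hemb := (f.fiberι (f (g' x'))).isEmbedding
  have hemb' := (f'.fiberι (f' x')).isEmbedding
  haveI : IsClosedImmersion g' := MorphismProperty.of_isPullback (P := @IsClosedImmersion) hc.flip
    inferInstance
  have hsp' : z' ⤳ f'.asFiber x' := specializes_iff_mem_closure.mpr hcl
  have h1 : f'.fiberι (f' x') z' ⤳ x' := by
    have := hsp'.map (f'.fiberι (f' x')).continuous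
    rwa [f'.fiberι_asFiber] at this
  have hsp : z ⤳ f.asFiber (g' x') := by
    rw [← hemb.isInducing.specializes_iff, hz, f.fiberι_asFiber]
    exact h1.map g'.continuous
  have hUO := hopen z (specializes_iff_mem_closure.mp hsp) ?_
  · rw [hz] at hUO
    exact Groth.Agent.Lib.Helper4.UO.isUnivOpenAt_of_isPullback hUO hc _ rfl
  · intro z₂ hz₂
    have h2 : z₂ ⤳ z := specializes_iff_mem_closure.mpr hz₂
    have h3 : f.fiberι (f (g' x')) z₂ ⤳ g' (f'.fiberι (f' x') z') := by
      have := h2.map (f.fiberι (f (g' x'))).continuous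
      rwa [hz] at this
    obtain ⟨w₂, hw₂1, hw₂2⟩ := Scheme.exists_preimage_of_isPullback hc
      (f.fiberι (f (g' x')) z₂) (f' x') (by rw [hfib, hcomm])
    have h4 : w₂ ⤳ f'.fiberι (f' x') z' := by
      rw [← g'.isClosedEmbedding.isInducing.specializes_iff, hw₂1]
      exact h3
    obtain ⟨z₂', hz₂'⟩ : ∃ z₂' : ↥(f'.fiber (f' x')), f'.fiberι (f' x') z₂' = w₂ := by
      have : w₂ ∈ Set.range (f'.fiberι (f' x')) := by
        rw [f'.range_fiberι]
        exact hw₂2
      exact this
    have h5 : z₂' ⤳ z' := by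
      rw [← hemb'.isInducing.specializes_iff, hz₂']
      exact h4
    have h6 : z₂' = z' := hmax z₂' (specializes_iff_mem_closure.mp h5)
    apply hemb.injective
    rw [hz, ← hw₂1, ← hz₂', h6]


open Groth.Agent.Helper7.GeomConn Groth.Agent.Lib.Helper4.OpenTransfer1
  Groth.Agent.Lib.Helper4.GeomRedAt1 in
/-- EGA IV 15.2.2, first part -/
theorem S3407_main {X Y : Scheme.{u}} [IsLocallyNoetherian Y] (f : X ⟶ Y)
    [LocallyOfFiniteType f] (x : X)
    (hopen : ∀ z : ↥(f.fiber (f.base x)), f.asFiber x ∈ closure {z} →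
      (∀ z' : ↥(f.fiber (f.base x)), z ∈ closure {z'} → z' = z) →
      EGA43.IsUnivOpenAt f ((f.fiberι (f.base x)).base z))
    (hred : FBase.IsGeomReducedAt (f.fiberToSpecResidueField (f.base x)) (f.asFiber x)) :
    ∃ U : X.Opens, x ∈ U ∧ UniversallyOpen (U.ι ≫ f) ∧
      ∀ x' : X, x' ∈ U →
        FBase.IsGeomReducedAt (f.fiberToSpecResidueField (f.base x')) (f.asFiber x') := by
  let i := Y.nilradical.subschemeι
  haveI hredY' : IsReduced Y.nilradical.subscheme :=
    Groth.Agent.Lib.Helper4.FiberChart.isReduced_nilradical_subscheme Y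
  haveI hsurj : Surjective i := by
    constructor
    rw [← Set.range_eq_univ, Scheme.IdealSheafData.range_subschemeι, Scheme.support_nilradical]
    rfl
  haveI : IsLocallyNoetherian Y.nilradical.subscheme :=
    LocallyOfFiniteType.isLocallyNoetherian i
  let f' := pullback.snd f i
  let g' := pullback.fst f i
  have hc : IsPullback g' f' f i := IsPullback.of_hasPullback f i
  haveI : Surjective g' := inferInstance
  haveI : IsClosedImmersion g' := inferInstance
  obtain ⟨x', rfl⟩ := g'.surjective x
  have hcomm : ∀ p : ↥(pullback f i), f (g' p) = i (f' p) := by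
    intro p
    have := congr($(hc.w) p)
    simpa [Scheme.Hom.comp_apply] using this
  have hopen' := hopen_baseChange f f' g' i hc x' hopen
  have htr : ∀ p : ↥(pullback f i),
      f.fiberι (f (g' p)) (f.asFiber (g' p)) =
        f.fiberι (i (f' p)) (fibreMap f f' g' i hc (f' p) (f'.asFiber p)) := by
    intro p
    rw [f.fiberι_asFiber, ← Scheme.Hom.comp_apply, fibreMap_fiberι, Scheme.Hom.comp_apply,
      f'.fiberι_asFiber]
  have hred' : FBase.IsGeomReducedAt (f'.fiberToSpecResidueField (f' x')) (f'.asFiber x') := by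
    apply isGeomReducedAt_fibre_ascend f f' g' i hc (f' x') (f'.asFiber x')
    exact isGeomReducedAt_fiber_congr f _ _ (hcomm x') (f.asFiber (g' x')) _ (htr x') hred
  have hflat := Groth.Agent.S2561.result f' x' hopen' hred' inferInstance
  haveI : LocallyOfFiniteType f' := inferInstance
  haveI : LocallyOfFinitePresentation f' :=
    LocallyOfFinitePresentation.iff_locallyOfFiniteType.mpr inferInstance
  let W' : (pullback f i).Opens := ⟨_, Groth.Agent.S4963.result f'⟩
  have hx'W : x' ∈ W' := ⟨hflat, hred'⟩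
  have hg'open : IsOpenMap g' :=
    (g'.isClosedEmbedding.isEmbedding.toHomeomorphOfSurjective g'.surjective).isOpenMap
  let U : X.Opens := ⟨g' '' W', hg'open _ W'.isOpen⟩
  refine ⟨U, ⟨x', hx'W, rfl⟩, ?_, ?_⟩
  · have sq := (isPullback_morphismRestrict g' U).paste_vert hc
    haveI : Flat ((g' ⁻¹ᵁ U).ι ≫ f') := by
      apply Flat.of_stalkMap
      intro w
      refine (Groth.Agent.Lib.Helper6.EtLoc.flat_stalkMap_comp_iff (g' ⁻¹ᵁ U).ι f' w).mp ?_
      obtain ⟨w', hw', hww⟩ := w.2
      have : w' = (g' ⁻¹ᵁ U).ι w := g'.isClosedEmbedding.injective hww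
      rw [← this]
      exact hw'.1
    haveI : UniversallyOpen ((g' ⁻¹ᵁ U).ι ≫ f') := inferInstance
    exact universallyOpen_of_isPullback_closedImmersion (U.ι ≫ f) _ _ i sq
  · rintro _ ⟨w', hw', rfl⟩
    have h1 := isGeomReducedAt_fibre_descend f f' g' i hc (f' w') (f'.asFiber w') hw'.2
    exact isGeomReducedAt_fiber_congr f _ _ (hcomm w').symm _ (f.asFiber (g' w')) (htr w').symm h1

end Groth.Agent.Lib.Helper4.ValFlat13
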