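import Mathlib
import Groth.Prelude.Def_Cyc
import Groth.Agent.Lib.Helper4.JacDim1
import Groth.Prelude.Def_EGA43
import Groth.Agent.Lib.Helper4.FibreStalkDim1
import Groth.Agent.Lib.Helper4.DimFT1
import Groth.Agent.Lib.Helper4.DimFT2
import Groth.Agent.Lib.Helper4.Chev8
import Groth.Agent.Lib.Helper4.FibDim7
import Groth.Agent.Lib.Helper4.EffCartierDim1
import Groth.Agent.Lib.Helper4.JacDim4
import Groth.Agent.Lib.Helper4.Chev9
import Groth.Agent.Lib.Helper4.Chev10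
import Groth.Agent.Lib.Helper4.Chev11
import Groth.Agent.Lib.Helper4.Equi1
import Groth.Agent.Lib.Helper4.Equi2
import Groth.Agent.Lib.Helper4.Equi3
import Groth.Agent.Lib.Helper4.Equi4
import Groth.Agent.Lib.Helper4.Equi5
import Groth.Agent.Lib.Helper4.Equi6
import Groth.Agent.Lib.Helper4.Equi7
import Groth.Agent.Lib.Helper4.Aff1
import Groth.Agent.Lib.Helper4.Aff2
import Groth.Agent.Lib.Helper4.Equi10
import Groth.Agent.Lib.Helper4.Val1
import Groth.Agent.Lib.Helper4.BaseChg1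
import Groth.Agent.Lib.Helper4.UnivOpen1
import Groth.Agent.Lib.Helper4.FibClosure1
import Groth.Agent.Lib.Helper4.OpenNoeth1
import Groth.Agent.Lib.Helper4.SecComp1
import Groth.Agent.Lib.Helper4.SecComp2
import Groth.Agent.Lib.Helper4.UnivOpen2
import Groth.Agent.Lib.Helper4.UnivOpenAt
import Groth.Agent.Lib.Helper4.RegularLocalCopy
import Groth.Agent.Lib.Helper4.ZMTNormalPt1
import Groth.Agent.Lib.Helper4.LocFinComp1
import Groth.Agent.Lib.Helper4.SecComp3
import Groth.Agent.Lib.Helper4.PropDim1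
import Groth.Prelude.Def_FDesc
import Groth.Prelude.Def_MoreMor
import Groth.Agent.Lib.Helper4.ChevCrit1
import Groth.Agent.Lib.Helper4.ChevCrit2
import Groth.Agent.Lib.Helper4.ChevCrit3
import Groth.Agent.Lib.Helper4.IrrCompDomain1
import Groth.Agent.Lib.Helper4.ChevCrit4
import Groth.Agent.Lib.Helper4.ChevCrit5
import Groth.Agent.Lib.Helper4.ChevCrit6
import Groth.Agent.Lib.Helper4.ChevCrit7
import Groth.Agent.Lib.Helper4.DedekindOpen1
import Groth.Agent.Lib.Helper4.UnivOpenT1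
import Groth.Agent.Lib.Helper4.DvrFlat1
import Groth.Agent.Lib.Helper4.SatChain1
import Groth.Agent.Lib.Helper4.FlatDimK1
import Groth.Agent.Lib.Helper4.BaseChgMax1
import Groth.Agent.Lib.Helper4.ProdDim1
import Groth.Agent.Lib.Helper4.FibDimBC1
import Groth.Agent.Lib.Helper4.FibMap1
import Groth.Agent.Lib.Helper4.GenFib1
import Groth.Agent.Lib.Helper4.EquiBC1
import Groth.Agent.Lib.Helper4.ValFlat15
import Groth.Agent.S3407

/-!
# EGA IV 15.2.2: equidimensionality at a point with geometrically reduced equidimensional fibre (S3409) (helper4)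
-/

set_option backward.isDefEq.respectTransparency.types false
set_option synthInstance.maxHeartbeats 400000
set_option autoImplicit false
set_option linter.unusedSectionVars false
set_option linter.style.haveILetI false
set_option linter.unusedSimpArgs false
universe u v w
open CategoryTheory CategoryTheory.Limits AlgebraicGeometry TopologicalSpace IsLocalRing Opposite
open Cardinal AffineSpace MvPolynomial
open Groth.Agent.Lib.Helper4.DimIneq1 Groth.Agent.Lib.Helper4.DimFT2 Groth.Agent.Lib.Helper4.Catenary1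
open Groth.Agent.Lib.Helper4.DimEq1 Groth.Agent.Lib.Helper4.DimIneq2 Groth.Agent.Lib.Helper4.DimEq2
open Groth.Agent.Lib.Helper4.DimIneq3 Groth.Agent.Lib.Helper4.DimIneq4
open Groth.Agent.Lib.Helper4.NormFibre2 Groth.Agent.Lib.Helper4.RadBir3 Groth.Agent.Lib.Helper4.DimFT3
open Groth.Agent.Lib.Helper4.FibDim1 Groth.Agent.Lib.Helper4.FibDim2 Groth.Agent.Lib.Helper4.LocUC1
open Groth.Agent.Lib.Helper4.FibDim3 Groth.Agent.Lib.Helper4.FibDim4 Groth.Agent.Lib.Helper4.FibDim5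
open Groth.Agent.Lib.Helper4.FibDim6 Groth.Agent.Lib.Helper4.FibDim7 Groth.Agent.Lib.Helper4.JacDim1
open Groth.Agent.Lib.Helper4.DimFT1
open Groth.Agent.Lib.Helper4.Chev2 Groth.Agent.Lib.Helper4.Chev5 Groth.Agent.Lib.Helper4.Chev6 Groth.Agent.Lib.Helper4.Chev8
open Groth.Agent.Lib.Helper4.JacDim4 Groth.Agent.Lib.Helper4.EffCartierDim1
open Groth.Agent.Lib.Helper4.Chev9 Groth.Agent.Lib.Helper4.Chev4
open Groth.Agent.Lib.Helper4.Chev10 Groth.Agent.Lib.Helper4.Chev11 Groth.Agent.Lib.Helper4.Chev3 Groth.Agent.Lib.Helper4.Equi1 Groth.Agent.Lib.Helper4.Equi2 Groth.Agent.Lib.Helper4.OpenAt1 Groth.Agent.Lib.Helper4.Equi3 Groth.Agent.Lib.Helper4.Equi4 Groth.Agent.Lib.Helper4.Equi5 Groth.Agent.Lib.Helper4.Equi6 Groth.Agent.Lib.Helper4.Equi7 Groth.Agent.Lib.Helper4.Aff1 Groth.Agent.Lib.Helper4.Aff2 Groth.Agent.Lib.Helper4.Equi10 Groth.Agent.Lib.Helper4.Val1 Groth.Agent.Lib.Helper4.BaseChg1 Groth.Agent.Lib.Helper4.UnivOpen1 Groth.Agent.Lib.Helper4.FibClosure1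 Groth.Agent.Lib.Helper4.OpenNoeth1 Groth.Agent.Lib.Helper4.SecComp1 Groth.Agent.Lib.Helper4.SecComp2
open Groth.Agent.Lib.Helper4.SecComp3 Groth.Agent.Lib.Helper4.PropDim1 Groth.Agent.Lib.Helper4.ZMTNormalPt1 Groth.Agent.Lib.Helper4.UO Groth.Agent.Lib.Helper4.UOp
open Groth.Agent.Lib.Helper4.ChevCrit1 Groth.Agent.Lib.Helper4.ChevCrit2 Groth.Agent.Lib.Helper4.ChevCrit3
open Groth.Agent.Lib.Helper4.IrrCompDomain1 Groth.Agent.Lib.Helper4.RadBir1
open Groth.Agent.Lib.Helper4.ChevCrit4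
open Groth.Agent.Lib.Helper4.ChevCrit5
open Groth.Agent.Lib.Helper4.DedekindOpen1 Groth.Agent.Lib.Helper4.UnivOpenT1
open Groth.Agent.Lib.Helper4.ChevCrit7
open Groth.Agent.Lib.Helper4.DvrFlat1 Groth.Agent.Lib.Helper4.FlatDimK1 Groth.Agent.Lib.Helper4.BaseChgMax1 Groth.Agent.Lib.Helper4.ProdDim1 Groth.Agent.Lib.Helper4.FibDimBC1 Groth.Agent.Lib.Helper4.FibMap1 Groth.Agent.Lib.Helper4.GenFib1

namespace Groth.Agent.Lib.Helper4.ValFlat16

/-- the residual transcendence degree of a point of a fibre whose closure has dimension `e` -/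
theorem tr_of_dim_closure {X Y : Scheme.{u}} (f : X ⟶ Y) [LocallyOfFiniteType f] (y : Y) (e : ℕ)
    (w : f.fiber y) (h3 : topologicalKrullDim ↥(closure ({w} : Set ↥(f.fiber y))) = e) :
    tr f (f.fiberι y w) = e := by
  rw [← tr_fiber f y w]
  rw [dim_closure_singleton (f.fiber y) w] at h3
  have hall : ∀ w' : f.fiber y, (f.fiberToSpecResidueField y) w' = (f.fiberToSpecResidueField y) w := by
    intro w'
    rw [Scheme.Hom.fiberToSpecResidueField_apply, Scheme.Hom.fiberToSpecResidueField_apply]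
  let ψ : ↥(f.fiber y) ≃o {w' : ↥(f.fiber y) // (f.fiberToSpecResidueField y) w' =
      (f.fiberToSpecResidueField y) w} :=
    { toFun := fun w' => ⟨w', hall w'⟩
      invFun := fun w' => w'.1
      left_inv := fun _ => rfl
      right_inv := fun _ => rfl
      map_rel_iff' := Iff.rfl }
  have h4 := height_fib_eq' (f.fiberToSpecResidueField y) ((f.fiberToSpecResidueField y) w) w rfl
  have h5 : Order.height w = Order.height (ψ w) := (Order.height_orderIso ψ w).symm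
  rw [h5] at h3
  have h6 : ψ w = ⟨w, rfl⟩ := rfl
  rw [h6, h4] at h3
  exact_mod_cast h3
/-- translation of the hypotheses on the fibre through `x` to points of `X` -/
theorem fibre_facts {X Y : Scheme.{u}} (f : X ⟶ Y) [LocallyOfFiniteType f] (x : X)
    (hopen : ∀ z : ↥(f.fiber (f.base x)), f.asFiber x ∈ closure {z} →
      (∀ z' : ↥(f.fiber (f.base x)), z ∈ closure {z'} → z' = z) →
      EGA43.IsUnivOpenAt f ((f.fiberι (f.base x)).base z))
    (e : ℕ) (heq : ∀ Z ∈ irreducibleComponents (↥(f.fiber (f.base x)) : Type u), f.asFiber x ∈ Z →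
      topologicalKrullDim (↥Z : Type u) = e)
    (z₁ : X) (hz₁ : f z₁ = f x) (hsp : z₁ ⤳ x)
    (hmax : ∀ z' : X, f z' = f z₁ → z' ⤳ z₁ → z' = z₁) :
    EGA43.IsUnivOpenAt f z₁ ∧ tr f z₁ = e := by
  obtain ⟨w, hw⟩ : ∃ w : ↥(f.fiber (f x)), f.fiberι (f x) w = z₁ := by
    have : z₁ ∈ Set.range (f.fiberι (f x)) := by
      rw [f.range_fiberι]
      exact hz₁
    exact this
  have hemb := (f.fiberι (f x)).isEmbedding
  have hfib : ∀ t : ↥(f.fiber (f x)), f (f.fiberι (f x) t) = f x := fun t => fiberι_mem f _ t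
  have h1 : w ⤳ f.asFiber x := by
    rw [← hemb.isInducing.specializes_iff, hw, f.fiberι_asFiber]
    exact hsp
  have h2 : ∀ z' : ↥(f.fiber (f x)), w ∈ closure {z'} → z' = w := by
    intro z' hz'
    have h3 : z' ⤳ w := specializes_iff_mem_closure.mpr hz'
    have h4 : f.fiberι (f x) z' ⤳ z₁ := by
      have := h3.map (f.fiberι (f x)).continuous
      rwa [hw] at this
    apply hemb.injective
    rw [hw]
    exact hmax _ ((hfib z').trans hz₁.symm) h4
  refine ⟨by rw [← hw]; exact hopen w (specializes_iff_mem_closure.mp h1) h2, ?_⟩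
  have hwmax : IsMax w := by
    intro b hb
    have hb' : b ⤳ w := hb
    rw [h2 b (specializes_iff_mem_closure.mp hb')]
  have hZ := closure_mem_irreducibleComponents_of_isMax (f.fiber (f x)) w hwmax
  have h5 := heq _ hZ (specializes_iff_mem_closure.mp h1)
  rw [← hw]
  exact tr_of_dim_closure f (f x) e w h5
/-- EGA IV 15.2.2, equidimensionality -/
theorem S3409_main {X Y : Scheme.{u}} [IsLocallyNoetherian Y] (f : X ⟶ Y)
    [LocallyOfFiniteType f] (x : X)
    (hopen : ∀ z : ↥(f.fiber (f.base x)), f.asFiber x ∈ closure {z} →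
      (∀ z' : ↥(f.fiber (f.base x)), z ∈ closure {z'} → z' = z) →
      EGA43.IsUnivOpenAt f ((f.fiberι (f.base x)).base z))
    (hred : FBase.IsGeomReducedAt (f.fiberToSpecResidueField (f.base x)) (f.asFiber x))
    (heq : ∃ e : ℕ, ∀ Z ∈ irreducibleComponents (↥(f.fiber (f.base x)) : Type u), f.asFiber x ∈ Z →
      topologicalKrullDim (↥Z : Type u) = e) :
    EGA43.IsEquidimAt f x := by
  obtain ⟨e, heq⟩ := heq
  haveI : IsLocallyNoetherian X := LocallyOfFiniteType.isLocallyNoetherian f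
  have hF := fibre_facts f x hopen e heq
  obtain ⟨U₀, hxU₀, hUO₀, -⟩ := Groth.Agent.S3407.result f x hopen hred
  have hle : FlatMor.fibreDimAt f x ≤ (e : WithBot ℕ∞) := by
    apply fibreDimAt_le_of_max_tr_le_nn f x e
    intro z₁ hz₁ hsp hmax
    rw [(hF z₁ hz₁ hsp hmax).2]
  let U₁ : X.Opens := ⟨{x' : X | FlatMor.fibreDimAt f x' ≤ (e : WithBot ℕ∞)},
    Groth.Agent.Lib.Helper4.Chev2.S0402_main f _⟩
  obtain ⟨W₀, hW₀, hxW₀, -⟩ := exists_isAffineOpen_mem_and_subset (U := (⊤ : X.Opens))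
    (x := x) trivial
  haveI : IsNoetherianRing Γ(X, W₀) := IsLocallyNoetherian.component_noetherian ⟨W₀, hW₀⟩
  haveI : NoetherianSpace ↥(W₀ : Scheme.{u}) := noetherianSpace_of_isAffineOpen W₀ hW₀
  obtain ⟨U₂, hU₂o, hxU₂, hU₂⟩ := exists_nhd_max_gen (W₀ : Scheme.{u}) (fun w => W₀.ι w)
    W₀.ι.continuous x
  have hgen : ∀ ξ : X, ξ ∈ W₀ → ξ ∈ U₂ → (∀ ξ' : X, ξ' ⤳ ξ → ξ' = ξ) → ξ ⤳ x := by
    intro ξ hξW hξU hξmax
    obtain ⟨σ, hσ1, hσ2, -⟩ := hU₂ ⟨ξ, hξW⟩ hξU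
    have h1 : W₀.ι σ ⤳ ξ := hσ1.map W₀.ι.continuous
    rw [hξmax _ h1] at hσ2
    exact hσ2
  apply isEquidimAt_of_facts_nn f x e (U₀ ⊓ U₁ ⊓ (W₀ ⊓ ⟨U₂, hU₂o⟩))
  · exact ⟨⟨hxU₀, hle⟩, hxW₀, hxU₂⟩
  · rintro ξ ⟨⟨hξU₀, -⟩, hξW₀, hξU₂⟩ hξmax
    have hξx := hgen ξ hξW₀ hξU₂ hξmax
    refine ⟨?_, hξx.map f.continuous⟩
    have hop : EGA43.IsOpenAt f.base ξ := by
      intro N hN
      have h1 : U₀.ι ⁻¹' N ∈ nhds (⟨ξ, hξU₀⟩ : ↥(U₀ : Scheme.{u})) :=
        U₀.ι.continuous.continuousAt hN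
      have h2 := (U₀.ι ≫ f).isOpenMap.image_mem_nhds h1
      refine Filter.mem_of_superset h2 ?_
      rintro _ ⟨w, hw, rfl⟩
      exact ⟨U₀.ι w, hw, rfl⟩
    have hηmax : ∀ η' : Y, η' ⤳ f ξ → η' = f ξ := by
      intro η' hη'
      obtain ⟨ξ', hξ', hfξ'⟩ := Groth.Agent.Lib.Helper4.OpenAt1.exists_generization_of_isOpenAt f ξ hop η' hη'
      rw [← hfξ', hξmax ξ' hξ']
    exact closure_mem_irreducibleComponents_of_isMax Y _ (isMax_of_forall _ hηmax)
  · rintro z ⟨⟨-, hzU₁⟩, hzW₀, hzU₂⟩ hzmax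
    have h1 : ((tr f z : ℕ) : WithBot ℕ∞) ≤ e := by
      rw [← fibreDimAt_eq_tr_of_max_nn f z hzmax]
      exact hzU₁
    obtain ⟨ξ, hξz, hξmax⟩ := Groth.Agent.Helper7.MaxPt.exists_maximal_generization z
    have hξW₀ : ξ ∈ W₀ := hξz.mem_open W₀.isOpen hzW₀
    have hξU₂ : ξ ∈ U₂ := hξz.mem_open hU₂o hzU₂
    have hξx := hgen ξ hξW₀ hξU₂ hξmax
    have h2 : e ≤ tr f ξ :=
      Groth.Agent.Lib.Helper4.ValFlat15.le_tr_of_isMax f x e hF hred ξ hξx hξmax
    have h3 := tr_le_fibreDimAt_of_specializes_nn f z ξ hξz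
    rw [fibreDimAt_eq_tr_of_max_nn f z hzmax] at h3
    have h3' : tr f ξ ≤ tr f z := by exact_mod_cast h3
    have h1' : tr f z ≤ e := by exact_mod_cast h1
    omega

end Groth.Agent.Lib.Helper4.ValFlat16
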