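import Mathlib
import Groth.Prelude
import Groth.Agent.Lib.Helper4.ValFlat16
import Groth.Agent.Lib.Helper1.DomGen

/-!
# Irreducible components through a point contain the generic point of an integral equidimensional fibre (helper4)
-/

set_option backward.isDefEq.respectTransparency.types false
set_option synthInstance.maxHeartbeats 400000
set_option autoImplicit false
set_option linter.unusedSectionVars false
set_option linter.style.haveILetI false
set_option linter.unusedSimpArgs false
universe u v w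
open CategoryTheory CategoryTheory.Limits AlgebraicGeometry TopologicalSpace Topology

namespace Groth.Agent.Lib.Helper4.UniComp3

open Groth.Agent.Lib.Helper4.FibDim1 Groth.Agent.Lib.Helper4.FibDim2 Groth.Agent.Lib.Helper4.FibDim4
  Groth.Agent.Lib.Helper4.FibDim6 Groth.Agent.Lib.Helper4.Equi10 Groth.Agent.Lib.Helper4.Equi7
  Groth.Agent.Lib.Helper4.Aff2 Groth.Agent.Lib.Helper4.Equi1

/-- the dimension of the closure of a point of a fibre is its residual transcendence degree -/
theorem dim_closure_eq_tr {X Y : Scheme.{u}} [IsLocallyNoetherian Y] (f : X ⟶ Y)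
    [LocallyOfFiniteType f] (y : Y)
    (w : f.fiber y) :
    topologicalKrullDim ↥(closure ({w} : Set ↥(f.fiber y))) = (tr f (f.fiberι y w) : ℕ) := by
  rw [← tr_fiber f y w, dim_closure_singleton (f.fiber y) w]
  have hall : ∀ w' : f.fiber y, (f.fiberToSpecResidueField y) w' = (f.fiberToSpecResidueField y) w := by
    intro w'
    rw [Scheme.Hom.fiberToSpecResidueField_apply, Scheme.Hom.fiberToSpecResidueField_apply]
  let ψ : ↥(f.fiber y) ≃o {w' : ↥(f.fiber y) // (f.fiberToSpecResidueField y) w' =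
      (f.fiberToSpecResidueField y) w} :=
    { toFun := fun w' => ⟨w', hall w'⟩
      invFun := fun w' => w'.1
      left_inv := fun _ => rfl
      right_inv := fun _ => rfl
      map_rel_iff' := Iff.rfl }
  have h4 := height_fib_eq' (f.fiberToSpecResidueField y) ((f.fiberToSpecResidueField y) w) w rfl
  have h5 : Order.height w = Order.height (ψ w) := (Order.height_orderIso ψ w).symm
  have h6 : ψ w = ⟨w, rfl⟩ := rfl
  rw [h5, h6, h4]
  rfl

/-- every irreducible component through `x` contains the unique maximal point of the fibre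
generizing `x`, when the residual transcendence degrees at maximal points of fibres are constant -/
theorem mem_component_of_fibre_generic {X Y : Scheme.{u}} (f : X ⟶ Y)
    [LocallyOfFiniteType f]
    (x ζ : X) (hfζ : f ζ = f x) (hsp : ζ ⤳ x)
    (hζmax : ∀ z' : X, f z' = f ζ → z' ⤳ ζ → z' = ζ)
    (huniq : ∀ ζ' : X, f ζ' = f x → ζ' ⤳ x →
      (∀ z' : X, f z' = f ζ' → z' ⤳ ζ' → z' = ζ') → ζ' = ζ)
    (e : ℕ) (U : X.Opens) (hxU : x ∈ U)
    (H2 : ∀ z : X, z ∈ U → (∀ z' : X, f z' = f z → z' ⤳ z → z' = z) → tr f z = e)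
    (Z : Set X) (hZ : Z ∈ irreducibleComponents X) (hxZ : x ∈ Z) : ζ ∈ Z := by
  have hZcl : IsClosed Z := isClosed_of_mem_irreducibleComponents Z hZ
  obtain ⟨η, hη⟩ := QuasiSober.sober hZ.1 hZcl
  have hηx : η ⤳ x := hη.specializes hxZ
  have hηmax : ∀ ξ : X, ξ ⤳ η → ξ = η :=
    Groth.Agent.Helper1.DomGen.genMax_of_mem_irreducibleComponents η (by rw [hη.def]; exact hZ)
  let Zc : TopologicalSpace.Closeds X := ⟨Z, hZcl⟩
  let ι := (Scheme.IdealSheafData.vanishingIdeal Zc).subschemeι
  have hr : Set.range ι = Z := by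
    rw [Scheme.IdealSheafData.range_subschemeι, Scheme.IdealSheafData.coe_support_vanishingIdeal]
    rfl
  have hr' : Set.range ι = closure ({η} : Set X) := by rw [hr, hη.def]
  haveI : IrreducibleSpace ↥(Scheme.IdealSheafData.vanishingIdeal Zc).subscheme :=
    irreducibleSpace_vanishingIdeal_subscheme Zc hZ.1
  have hgen : ι (genericPoint _) = η := map_genericPoint_of_range ι η hr'
  obtain ⟨w, hw⟩ : x ∈ Set.range ι := by rw [hr]; exact hxZ
  have htrη : tr f η = e := H2 η (hηx.mem_open U.2 hxU) (fun z' _ hsp' => hηmax z' hsp')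
  have htrζ : tr f ζ = e := H2 ζ (hsp.mem_open U.2 hxU) hζmax
  have h1 := tr_le_fibreDimAt_of_specializes_nn (ι ≫ f) w (genericPoint _)
    (genericPoint_specializes w)
  rw [tr_comp_closedImmersion, hgen, htrη] at h1
  obtain ⟨z, hz, hzsp, hzmax, hztr⟩ := exists_max_tr_eq_fibreDimAt (ι ≫ f) w
  rw [tr_comp_closedImmersion] at hztr
  rw [← hztr] at h1
  have h1' : e ≤ tr f (ι z) := by exact_mod_cast h1
  have hιzx : ι z ⤳ x := by
    have := hzsp.map ι.continuous
    rwa [hw] at this
  have hfιz : f (ι z) = f x := by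
    have : (ι ≫ f) z = (ι ≫ f) w := hz
    rw [Scheme.Hom.comp_apply, Scheme.Hom.comp_apply, hw] at this
    exact this
  obtain ⟨ζ', hζ'sp, hζ'max⟩ := exists_isMax_ge_fib f (f x) ⟨ι z, hfιz⟩
  have hsp' : ζ'.1 ⤳ ι z := hζ'sp
  have hmax' : ∀ z' : X, f z' = f ζ'.1 → z' ⤳ ζ'.1 → z' = ζ'.1 := by
    intro z' hz' hsp''
    have h1 : ζ' ≤ ⟨z', hz'.trans ζ'.2⟩ := hsp''
    have h2 : ζ'.1 ⤳ z' := hζ'max h1
    exact (hsp''.antisymm h2).eq
  have hζ'ζ : ζ'.1 = ζ := huniq ζ'.1 ζ'.2 (hsp'.trans hιzx) hmax'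
  rw [hζ'ζ] at hsp'
  by_cases hne : ζ = ι z
  · rw [hne, ← hr]
    exact ⟨z, rfl⟩
  · have hlt := tr_lt_of_specializes f ζ (ι z) hsp' hne (hfζ.trans hfιz.symm)
    omega

end Groth.Agent.Lib.Helper4.UniComp3
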