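import Mathlib
import Groth.Prelude
import Groth.Agent.Lib.Helper4.UniComp3
import Groth.Agent.Lib.Helper4.Chev6

/-!
# The generic point of the unique fibre component through a point lies on every admissible component (towards S3459) (helper4) (helper4)
-/

set_option backward.isDefEq.respectTransparency.types false
set_option synthInstance.maxHeartbeats 400000
set_option autoImplicit false
set_option linter.unusedSectionVars false
set_option linter.style.haveILetI false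
set_option linter.unusedSimpArgs false
universe u v w
open CategoryTheory CategoryTheory.Limits AlgebraicGeometry TopologicalSpace Topology

namespace Groth.Agent.Lib.Helper4.Adm2

open Groth.Agent.Lib.Helper4.FibDim1 Groth.Agent.Lib.Helper4.FibDim2 Groth.Agent.Lib.Helper4.FibDim4
  Groth.Agent.Lib.Helper4.FibDim6 Groth.Agent.Lib.Helper4.Equi10 Groth.Agent.Lib.Helper4.Equi7
  Groth.Agent.Lib.Helper4.Aff2 Groth.Agent.Lib.Helper4.Equi1

/-- the generic point of the unique irreducible component of the fibre through a point -/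
theorem exists_fibre_generic {X Y : Scheme.{u}} (f : X ⟶ Y)
    [LocallyOfFiniteType f] (x : X)
    (h1 : ∃! Zc : Set ↥(f.fiber (f.base x)),
      Zc ∈ irreducibleComponents (↥(f.fiber (f.base x)) : Type u) ∧ f.asFiber x ∈ Zc) :
    ∃ ζ₀ : X, f ζ₀ = f x ∧ ζ₀ ⤳ x ∧ (∀ z' : X, f z' = f ζ₀ → z' ⤳ ζ₀ → z' = ζ₀) ∧
      (∀ ζ' : X, f ζ' = f x → ζ' ⤳ x →
        (∀ z' : X, f z' = f ζ' → z' ⤳ ζ' → z' = ζ') → ζ' = ζ₀) ∧
      ((tr f ζ₀ : ℕ) : WithBot ℕ∞) = FlatMor.fibreDimAt f x ∧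
      ∃ z₀ : ↥(f.fiber (f x)), f.fiberι (f x) z₀ = ζ₀ ∧ f.asFiber x ∈ closure {z₀} ∧
        (∀ z' : ↥(f.fiber (f x)), z₀ ∈ closure {z'} → z' = z₀) := by
  obtain ⟨Zc, ⟨hZc, hxZc⟩, huniqZ⟩ := h1
  have hZcl := isClosed_of_mem_irreducibleComponents Zc hZc
  obtain ⟨z₀, hz₀⟩ := QuasiSober.sober hZc.1 hZcl
  have hz₀sp : z₀ ⤳ f.asFiber x := hz₀.specializes hxZc
  have hz₀m : ∀ z' : ↥(f.fiber (f x)), z' ⤳ z₀ → z' = z₀ :=
    Groth.Agent.Helper1.DomGen.genMax_of_mem_irreducibleComponents z₀ (by rw [hz₀.def]; exact hZc)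
  have hemb := (f.fiberι (f x)).isEmbedding
  have lift : ∀ ζ' : X, f ζ' = f x → ∃ z' : ↥(f.fiber (f x)), f.fiberι (f x) z' = ζ' := by
    intro ζ' h
    have : ζ' ∈ Set.range (f.fiberι (f x)) := by rw [f.range_fiberι]; exact h
    exact this
  have hfζ : f (f.fiberι (f x) z₀) = f x := fiberι_mem f (f x) z₀
  have hspζ : f.fiberι (f x) z₀ ⤳ x := by
    have := hz₀sp.map (f.fiberι (f x)).continuous
    rwa [f.fiberι_asFiber] at this
  have huniq : ∀ ζ' : X, f ζ' = f x → ζ' ⤳ x →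
      (∀ z' : X, f z' = f ζ' → z' ⤳ ζ' → z' = ζ') → ζ' = f.fiberι (f x) z₀ := by
    intro ζ' hfζ' hsp' hmax'
    obtain ⟨w', rfl⟩ := lift ζ' hfζ'
    have h1 : w' ⤳ f.asFiber x := by
      rw [← hemb.isInducing.specializes_iff, f.fiberι_asFiber]; exact hsp'
    have h2 : ∀ z' : ↥(f.fiber (f x)), z' ⤳ w' → z' = w' := by
      intro z' hz'
      apply hemb.injective
      exact hmax' _ ((fiberι_mem f (f x) z').trans hfζ'.symm)
        (hz'.map (f.fiberι (f x)).continuous)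
    have h3 : closure ({w'} : Set ↥(f.fiber (f x))) ∈ irreducibleComponents ↥(f.fiber (f x)) :=
      Groth.Agent.Lib.Helper4.Chev6.closure_mem_irreducibleComponents_of_max w' h2
    have h4 : closure ({w'} : Set ↥(f.fiber (f x))) = Zc :=
      huniqZ _ ⟨h3, specializes_iff_mem_closure.mp h1⟩
    have h5 : IsGenericPoint w' Zc := h4
    rw [h5.eq hz₀]
  have hζmax : ∀ z' : X, f z' = f (f.fiberι (f x) z₀) → z' ⤳ f.fiberι (f x) z₀ →
      z' = f.fiberι (f x) z₀ := by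
    intro z' hz' hsp'
    obtain ⟨w', rfl⟩ := lift z' (hz'.trans hfζ)
    rw [hemb.isInducing.specializes_iff] at hsp'
    rw [hz₀m w' hsp']
  refine ⟨f.fiberι (f x) z₀, hfζ, hspζ, hζmax, huniq, ?_, z₀, rfl,
    specializes_iff_mem_closure.mp hz₀sp, fun z' hz' =>
      hz₀m z' (specializes_iff_mem_closure.mpr hz')⟩
  obtain ⟨z, hz, hsp, hmax, htr⟩ := exists_max_tr_eq_fibreDimAt f x
  rw [← huniq z hz hsp hmax]
  exact htr

/-- a closed subset through `x` whose fibre has full local dimension at `x` contains the generic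
point of the unique fibre component through `x` -/
theorem fibre_generic_mem {X Y : Scheme.{u}} (f : X ⟶ Y)
    [LocallyOfFiniteType f] (x ζ₀ : X) (hfζ : f ζ₀ = f x)
    (huniq : ∀ ζ' : X, f ζ' = f x → ζ' ⤳ x →
      (∀ z' : X, f z' = f ζ' → z' ⤳ ζ' → z' = ζ') → ζ' = ζ₀)
    (htr : ((tr f ζ₀ : ℕ) : WithBot ℕ∞) = FlatMor.fibreDimAt f x)
    (X' : TopologicalSpace.Closeds X) (hx : x ∈ X')
    (hdim : FlatMor.localDim ↥((X' : Set X) ∩ f.base ⁻¹' {f.base x})
      ⟨x, ⟨hx, Set.mem_singleton (f.base x)⟩⟩ = FlatMor.fibreDimAt f x) :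
    ζ₀ ∈ (X' : Set X) := by
  let ι := (Scheme.IdealSheafData.vanishingIdeal X').subschemeι
  have hr : Set.range ι = (X' : Set X) := by
    rw [Scheme.IdealSheafData.range_subschemeι, Scheme.IdealSheafData.coe_support_vanishingIdeal]
  obtain ⟨w, hw⟩ : x ∈ Set.range ι := by rw [hr]; exact hx
  have hfd := fibreDimAt_comp_eq_localDim' f ι ι.isEmbedding (X' : Set X) hr w x hw
    ⟨hx, Set.mem_singleton (f.base x)⟩
  obtain ⟨z, hz, hzsp, hzmax, hztr⟩ := exists_max_tr_eq_fibreDimAt (ι ≫ f) w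
  rw [tr_comp_closedImmersion, hfd, hdim, ← htr] at hztr
  have hztr' : tr f (ι z) = tr f ζ₀ := by exact_mod_cast hztr
  have hιzx : ι z ⤳ x := by
    have := hzsp.map ι.continuous
    rwa [hw] at this
  have hfιz : f (ι z) = f x := by
    have : (ι ≫ f) z = (ι ≫ f) w := hz
    rw [Scheme.Hom.comp_apply, Scheme.Hom.comp_apply, hw] at this
    exact this
  obtain ⟨ζ', hζ'sp, hζ'max⟩ := exists_isMax_ge_fib f (f x) ⟨ι z, hfιz⟩
  have hsp' : ζ'.1 ⤳ ι z := hζ'sp
  have hmax' : ∀ z' : X, f z' = f ζ'.1 → z' ⤳ ζ'.1 → z' = ζ'.1 := by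
    intro z' hz' hsp''
    have h1 : ζ' ≤ ⟨z', hz'.trans ζ'.2⟩ := hsp''
    have h2 : ζ'.1 ⤳ z' := hζ'max h1
    exact (hsp''.antisymm h2).eq
  have hζ'ζ : ζ'.1 = ζ₀ := huniq ζ'.1 ζ'.2 (hsp'.trans hιzx) hmax'
  rw [hζ'ζ] at hsp'
  by_cases hne : ζ₀ = ι z
  · rw [hne, ← hr]
    exact ⟨z, rfl⟩
  · have hlt := tr_lt_of_specializes f ζ₀ (ι z) hsp' hne (hfζ.trans hfιz.symm)
    omega

end Groth.Agent.Lib.Helper4.Adm2
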