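import Mathlib
import Groth.Prelude
import Groth.Agent.Lib.Helper4.Adm1
import Groth.Agent.Lib.Helper4.FibreIso1
import Groth.Agent.Lib.Helper3.FibStalk
import Groth.Agent.S2561
import Groth.Agent.Lib.Helper4.FibDim1

/-!
# Bijectivity of the stalk map of a closed immersion through a fibre-generic point (towards S3459) (helper4) (helper4)
-/

set_option backward.isDefEq.respectTransparency.types false
set_option synthInstance.maxHeartbeats 400000
set_option autoImplicit false
set_option linter.unusedSectionVars false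
set_option linter.style.haveILetI false
set_option linter.unusedSimpArgs false
universe u v w
open CategoryTheory CategoryTheory.Limits AlgebraicGeometry TopologicalSpace Topology

namespace Groth.Agent.Lib.Helper4.Adm3

open Groth.Agent.Lib.Helper4.Equi1

/-- at a maximal point of a fibre where the fibre is geometrically reduced, the maximal ideal of
the local ring is generated by the maximal ideal of the base -/
theorem maximalIdeal_le_map_of_max_aux {X Y : Scheme.{u}} (f : X ⟶ Y) (y : Y) (z : ↥(f.fiber y))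
    (hzmax : ∀ z' : ↥(f.fiber y), z' ⤳ z → z' = z)
    (hred : FBase.IsGeomReducedAt (f.fiberToSpecResidueField y) z) :
    IsLocalRing.maximalIdeal (X.presheaf.stalk (f.fiberι y z)) ≤
      (IsLocalRing.maximalIdeal (Y.presheaf.stalk (f (f.fiberι y z)))).map
        (f.stalkMap (f.fiberι y z)).hom := by
  rw [← Groth.Agent.Helper3.FibStalk.ker_stalkMap_fiberι f y z]
  haveI hredst : _root_.IsReduced ((f.fiber y).presheaf.stalk z) :=
    Groth.Agent.Lib.Helper4.ValFlat10.isReduced_stalk_fiber_of_isGeomReducedAt f y z hred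
  haveI : Subsingleton (PrimeSpectrum ((f.fiber y).presheaf.stalk z)) := by
    constructor
    intro P Q
    apply ((f.fiber y).fromSpecStalk z).isEmbedding.injective
    rw [hzmax _ (fromSpecStalk_specializes z P), hzmax _ (fromSpecStalk_specializes z Q)]
  have hfield : IsField ((f.fiber y).presheaf.stalk z) :=
    Groth.Agent.Helper7.SmoothBC.isField_of_subsingleton_primeSpectrum _
  intro b hb
  rw [RingHom.mem_ker]
  have hnu : ¬ IsUnit (((f.fiberι y).stalkMap z).hom b) := by
    intro hu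
    exact hb (isUnit_of_map_unit ((f.fiberι y).stalkMap z).hom b hu)
  letI := hfield.toField
  by_contra hne
  exact hnu (IsUnit.mk0 _ hne)

theorem maximalIdeal_le_map_of_max {X Y : Scheme.{u}} (f : X ⟶ Y) (ζ : X)
    (hmax : ∀ z' : X, f z' = f ζ → z' ⤳ ζ → z' = ζ)
    (hred : FBase.IsGeomReducedAt (f.fiberToSpecResidueField (f ζ)) (f.asFiber ζ)) :
    IsLocalRing.maximalIdeal (X.presheaf.stalk ζ) ≤
      (IsLocalRing.maximalIdeal (Y.presheaf.stalk (f ζ))).map (f.stalkMap ζ).hom := by
  have hemb := (f.fiberι (f ζ)).isEmbedding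
  have hzmax : ∀ z' : ↥(f.fiber (f ζ)), z' ⤳ f.asFiber ζ → z' = f.asFiber ζ := by
    intro z' hz'
    apply hemb.injective
    rw [f.fiberι_asFiber]
    apply hmax _ (Groth.Agent.Lib.Helper4.FibDim1.fiberι_mem f (f ζ) z')
    have := hz'.map (f.fiberι (f ζ)).continuous
    rwa [f.fiberι_asFiber] at this
  have h := maximalIdeal_le_map_of_max_aux f (f ζ) (f.asFiber ζ) hzmax hred
  have key : ∀ t : X, t = ζ →
      IsLocalRing.maximalIdeal (X.presheaf.stalk t) ≤
        (IsLocalRing.maximalIdeal (Y.presheaf.stalk (f t))).map (f.stalkMap t).hom →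
      IsLocalRing.maximalIdeal (X.presheaf.stalk ζ) ≤
        (IsLocalRing.maximalIdeal (Y.presheaf.stalk (f ζ))).map (f.stalkMap ζ).hom := by
    rintro _ rfl h
    exact h
  exact key _ (f.fiberι_asFiber ζ) h

/-- Lemma B -/
theorem bijective_stalkMap_of_flat_comp {W X Y : Scheme.{u}} [IsLocallyNoetherian Y] (ι : W ⟶ X)
    [IsClosedImmersion ι] (f : X ⟶ Y) [LocallyOfFiniteType f] (w : W)
    (hflat : ((ι ≫ f).stalkMap w).hom.Flat)
    (hmax : ∀ z' : X, f z' = f (ι w) → z' ⤳ ι w → z' = ι w)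
    (hred : FBase.IsGeomReducedAt (f.fiberToSpecResidueField (f (ι w))) (f.asFiber (ι w))) :
    Function.Bijective (ι.stalkMap w).hom ∧ (f.stalkMap (ι w)).hom.Flat := by
  haveI : IsLocallyNoetherian X := LocallyOfFiniteType.isLocallyNoetherian f
  have e2 : (ι ≫ f).stalkMap w = f.stalkMap (ι w) ≫ ι.stalkMap w := Scheme.Hom.stalkMap_comp ι f w
  have hsurj : Function.Surjective (ι.stalkMap w).hom := ι.stalkMap_surjective w
  have hfl' : ((ι.stalkMap w).hom.comp (f.stalkMap (ι w)).hom).Flat := by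
    rw [e2] at hflat
    exact hflat
  have hker : RingHom.ker (ι.stalkMap w).hom ≤
      (IsLocalRing.maximalIdeal (Y.presheaf.stalk (f (ι w)))).map (f.stalkMap (ι w)).hom := by
    refine le_trans ?_ (maximalIdeal_le_map_of_max f (ι w) hmax hred)
    apply IsLocalRing.le_maximalIdeal
    exact RingHom.ker_ne_top _
  have hinj := Groth.Agent.Lib.Helper4.FibreIso1.injective_of_flat_of_ker_le
    (φ := (f.stalkMap (ι w)).hom) (ψ := (ι.stalkMap w).hom) hsurj hfl' hker
  have hbij : Function.Bijective (ι.stalkMap w).hom := ⟨hinj, hsurj⟩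
  refine ⟨hbij, ?_⟩
  let e := RingEquiv.ofBijective (ι.stalkMap w).hom hbij
  have h3 : (f.stalkMap (ι w)).hom =
      e.symm.toRingHom.comp ((ι.stalkMap w).hom.comp (f.stalkMap (ι w)).hom) := by
    ext a
    simp only [RingHom.comp_apply]
    exact (e.symm_apply_apply _).symm
  rw [h3]
  exact RingHom.Flat.comp hfl' (RingHom.Flat.of_bijective e.symm.bijective)

/-- Lemma C -/
theorem bijective_stalkMap_of_isUnivOpenAt {W X Y : Scheme.{u}} [IsLocallyNoetherian Y]
    [IsReduced Y] (ι : W ⟶ X)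
    [IsClosedImmersion ι] (f : X ⟶ Y) [LocallyOfFiniteType f] (w : W)
    (hUO : EGA43.IsUnivOpenAt (ι ≫ f) w)
    (hmax : ∀ z' : X, f z' = f (ι w) → z' ⤳ ι w → z' = ι w)
    (hred : FBase.IsGeomReducedAt (f.fiberToSpecResidueField (f (ι w))) (f.asFiber (ι w))) :
    Function.Bijective (ι.stalkMap w).hom ∧ (f.stalkMap (ι w)).hom.Flat := by
  have hredg := Groth.Agent.Lib.Helper4.Adm1.isGeomReducedAt_comp_of_max ι f w hmax hred
  have hopen : ∀ z : ↥((ι ≫ f).fiber ((ι ≫ f) w)), (ι ≫ f).asFiber w ∈ closure {z} →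
      (∀ z' : ↥((ι ≫ f).fiber ((ι ≫ f) w)), z ∈ closure {z'} → z' = z) →
      EGA43.IsUnivOpenAt (ι ≫ f) (((ι ≫ f).fiberι ((ι ≫ f) w)) z) := by
    intro z hz _
    have hsp : z ⤳ (ι ≫ f).asFiber w := specializes_iff_mem_closure.mpr hz
    have h1 : (ι ≫ f).fiberι ((ι ≫ f) w) z ⤳ w := by
      have := hsp.map ((ι ≫ f).fiberι ((ι ≫ f) w)).continuous
      rwa [(ι ≫ f).fiberι_asFiber] at this
    have h2 : ι ((ι ≫ f).fiberι ((ι ≫ f) w) z) = ι w := by
      apply hmax _ _ (h1.map ι.continuous)
      exact Groth.Agent.Lib.Helper4.FibDim1.fiberι_mem (ι ≫ f) ((ι ≫ f) w) z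
    rw [ι.isClosedEmbedding.injective h2]
    exact hUO
  have hflat := Groth.Agent.S2561.result (ι ≫ f) w hopen hredg inferInstance
  exact bijective_stalkMap_of_flat_comp ι f w hflat hmax hred

end Groth.Agent.Lib.Helper4.Adm3
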