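import Mathlib
import Groth.Prelude.Def_FDesc
import Groth.Agent.Lib.Helper4.GeomRedAt1
import Groth.Agent.Lib.Helper4.OpenTransfer1

/-!
# Geometric pointwise integrality at a point: ascent along base field extensions and cartesian squares (helper4)
-/

set_option backward.isDefEq.respectTransparency.types false
set_option synthInstance.maxHeartbeats 400000
set_option autoImplicit false
set_option linter.unusedSectionVars false
set_option linter.style.haveILetI false
set_option linter.unusedSimpArgs false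
universe u v w
open CategoryTheory CategoryTheory.Limits AlgebraicGeometry TopologicalSpace Topology

namespace Groth.Agent.Lib.Helper4.UniComp1

/-- integrality of a stalk is invariant under isomorphisms of schemes -/
theorem isDomain_stalk_of_iso {Z Z' : Scheme.{u}} (e : Z ≅ Z') (z : Z)
    (h : IsDomain (Z'.presheaf.stalk (e.hom z))) :
    IsDomain (Z.presheaf.stalk z) := by
  have hiso : IsIso (e.hom.stalkMap z) := inferInstance
  let E := (asIso (e.hom.stalkMap z)).commRingCatIsoToRingEquiv
  exact E.symm.toMulEquiv.isDomain _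

/-- geometric pointwise integrality at a point passes to any base change to a field -/
theorem isDomain_stalk_of_isGeomPtIntegralAt {k : Type u} [Field k] {Z₀ : Scheme.{u}}
    (F : Z₀ ⟶ Spec (CommRingCat.of k)) {K : Type u} [Field K]
    (φ : CommRingCat.of k ⟶ CommRingCat.of K) {Z : Scheme.{u}} (q : Z ⟶ Z₀)
    (snd : Z ⟶ Spec (CommRingCat.of K)) (hpb : IsPullback q snd F (Spec.map φ)) (z : Z)
    (h : FBase.IsGeomPtIntegralAt F (q z)) : IsDomain (Z.presheaf.stalk z) := by
  letI : Algebra k K := φ.hom.toAlgebra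
  have hpb' : IsPullback q snd F (Spec.map (CommRingCat.ofHom (algebraMap k K))) := hpb
  let e : Z ≅ FBase.bc F K := hpb'.isoPullback
  have he : e.hom ≫ FBase.bcπ F K = q := hpb'.isoPullback_hom_fst
  have h1 := h K (e.hom z) (by rw [← Scheme.Hom.comp_apply, he])
  exact isDomain_stalk_of_iso e z h1

/-- geometric pointwise integrality at a point ascends along extensions of the base field -/
theorem isGeomPtIntegralAt_ascend {k K : Type u} [Field k] [Field K] {Z Z' : Scheme.{u}}
    (F : Z ⟶ Spec (CommRingCat.of k)) (F' : Z' ⟶ Spec (CommRingCat.of K))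
    (φ : CommRingCat.of k ⟶ CommRingCat.of K) (q : Z' ⟶ Z)
    (hpb : IsPullback q F' F (Spec.map φ)) (z' : Z')
    (h : FBase.IsGeomPtIntegralAt F (q z')) : FBase.IsGeomPtIntegralAt F' z' := by
  intro K' _ _ w hw
  have s1 : IsPullback (FBase.bcπ F' K') (FBase.bcStr F' K') F'
      (Spec.map (CommRingCat.ofHom (algebraMap K K'))) := IsPullback.of_hasPullback _ _
  have s2 := s1.paste_horiz hpb
  rw [← Spec.map_comp] at s2
  refine isDomain_stalk_of_isGeomPtIntegralAt F
    (φ ≫ CommRingCat.ofHom (algebraMap K K')) (FBase.bcπ F' K' ≫ q) (FBase.bcStr F' K') s2 w ?_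
  rw [Scheme.Hom.comp_apply, hw]
  exact h

theorem isGeomReducedAt_of_isGeomPtIntegralAt {k : Type u} [Field k] {Z : Scheme.{u}}
    (F : Z ⟶ Spec (CommRingCat.of k)) (z : Z) (h : FBase.IsGeomPtIntegralAt F z) :
    FBase.IsGeomReducedAt F z := by
  intro K _ _ x' hx'
  haveI := h K x' hx'
  infer_instance

theorem isDomain_stalk_of_isGeomPtIntegralAt_self {k : Type u} [Field k] {Z : Scheme.{u}}
    (F : Z ⟶ Spec (CommRingCat.of k)) (z : Z) (h : FBase.IsGeomPtIntegralAt F z) :
    IsDomain (Z.presheaf.stalk z) := by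
  have hpb : IsPullback (𝟙 Z) F F (Spec.map (𝟙 (CommRingCat.of k))) := by
    rw [Spec.map_id]
    exact IsPullback.of_horiz_isIso ⟨by simp⟩
  exact isDomain_stalk_of_isGeomPtIntegralAt F (𝟙 _) (𝟙 Z) F hpb z h

section Sch
open Groth.Agent.Helper7.GeomConn

variable {X Y X' Y' : Scheme.{u}} (f : X ⟶ Y) (f' : X' ⟶ Y') (g' : X' ⟶ X) (g : Y' ⟶ Y)
  (hc : IsPullback g' f' f g)

theorem isGeomPtIntegralAt_fibre_ascend (y' : Y') (z' : ↥(f'.fiber y'))
    (h : FBase.IsGeomPtIntegralAt (f.fiberToSpecResidueField (g y')) (fibreMap f f' g' g hc y' z')) :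
    FBase.IsGeomPtIntegralAt (f'.fiberToSpecResidueField y') z' :=
  isGeomPtIntegralAt_ascend (f.fiberToSpecResidueField (g y')) (f'.fiberToSpecResidueField y')
    (g.residueFieldMap y') (fibreMap f f' g' g hc y') (isPullback_fibreMap f f' g' g hc y') z' h

end Sch

/-- transport of geometric integrality at a point of a fibre along an equality of base points -/
theorem isGeomPtIntegralAt_fiber_congr {X Y : Scheme.{u}} (f : X ⟶ Y) (y₁ y₂ : Y) (h : y₁ = y₂)
    (z₁ : ↥(f.fiber y₁)) (z₂ : ↥(f.fiber y₂)) (hz : f.fiberι y₁ z₁ = f.fiberι y₂ z₂)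
    (H : FBase.IsGeomPtIntegralAt (f.fiberToSpecResidueField y₁) z₁) :
    FBase.IsGeomPtIntegralAt (f.fiberToSpecResidueField y₂) z₂ := by
  subst h
  have : z₁ = z₂ := (f.fiberι y₁).isEmbedding.injective hz
  subst this
  exact H

end Groth.Agent.Lib.Helper4.UniComp1
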