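import Mathlib
import Groth.Prelude
import Groth.Agent.Lib.Helper4.Adm1
import Groth.Agent.Lib.Helper4.Adm3
import Groth.Agent.Lib.Helper4.ValFlat13
import Groth.Agent.Lib.Helper4.UniComp1
import Groth.Agent.Lib.Lead.GUnib13

/-!
# Unique component and generic geometric reducedness through a fibre-generic point with universally open reduced closed subscheme (towards S3459) (helper4) (helper4)
-/

set_option backward.isDefEq.respectTransparency.types false
set_option synthInstance.maxHeartbeats 400000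
set_option autoImplicit false
set_option linter.unusedSectionVars false
set_option linter.style.haveILetI false
set_option linter.unusedSimpArgs false
universe u v w
open CategoryTheory CategoryTheory.Limits AlgebraicGeometry TopologicalSpace Topology

namespace Groth.Agent.Lib.Helper4.Adm4

open Groth.Agent.Lib.Helper4.Equi1 Groth.Agent.Lib.Helper4.Adm3

open Groth.Agent.Helper7.GeomConn Groth.Agent.Lib.Helper4.OpenTransfer1
  Groth.Agent.Lib.Helper4.GeomRedAt1 in
/-- Lemma D -/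
theorem core {W X Y : Scheme.{u}} [IsLocallyNoetherian Y] (ι : W ⟶ X) [IsClosedImmersion ι]
    [IsIntegral W] (f : X ⟶ Y) [LocallyOfFiniteType f] (w₀ : W)
    (hUO : EGA43.IsUnivOpenAt (ι ≫ f) w₀)
    (hmax : ∀ z' : X, f z' = f (ι w₀) → z' ⤳ ι w₀ → z' = ι w₀)
    (hred : FBase.IsGeomReducedAt (f.fiberToSpecResidueField (f (ι w₀))) (f.asFiber (ι w₀))) :
    (∀ Z Z' : Set X, Z ∈ irreducibleComponents (X : Type u) →
      Z' ∈ irreducibleComponents (X : Type u) → ι w₀ ∈ Z → ι w₀ ∈ Z' → Z = Z') ∧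
    (∀ ξ : X, ξ ⤳ ι w₀ →
      FBase.IsGeomReducedAt (f.fiberToSpecResidueField (f ξ)) (f.asFiber ξ)) := by
  let i := Y.nilradical.subschemeι
  haveI hredY' : IsReduced Y.nilradical.subscheme :=
    Groth.Agent.Lib.Helper4.FiberChart.isReduced_nilradical_subscheme Y
  haveI hsurj : Surjective i := by
    constructor
    rw [← Set.range_eq_univ, Scheme.IdealSheafData.range_subschemeι, Scheme.support_nilradical]
    rfl
  haveI : IsLocallyNoetherian Y.nilradical.subscheme :=
    LocallyOfFiniteType.isLocallyNoetherian i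
  let f₁ := pullback.snd f i
  let p := pullback.fst f i
  have hc : IsPullback p f₁ f i := IsPullback.of_hasPullback f i
  haveI : Surjective p := inferInstance
  haveI : IsClosedImmersion p := inferInstance
  let q := pullback.fst ι p
  let ι₁ := pullback.snd ι p
  have hc₂ : IsPullback q ι₁ ι p := IsPullback.of_hasPullback ι p
  have hsq : IsPullback q (ι₁ ≫ f₁) (ι ≫ f) i := hc₂.paste_vert hc
  haveI : IsClosedImmersion q := inferInstance
  haveI : Surjective q := inferInstance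
  haveI : IsClosedImmersion ι₁ := inferInstance
  haveI : IsIso q := isIso_of_isClosedImmersion_of_surjective q
  obtain ⟨w₁, hw₁⟩ := q.surjective w₀
  have hpζ : p (ι₁ w₁) = ι w₀ := by
    rw [← hw₁, ← Scheme.Hom.comp_apply, ← Scheme.Hom.comp_apply, hc₂.w]
  have hcomm : ∀ t : ↥(pullback f i), f (p t) = i (f₁ t) := by
    intro t
    have := congr($(hc.w) t)
    simpa [Scheme.Hom.comp_apply] using this
  have hUO₁ : EGA43.IsUnivOpenAt (ι₁ ≫ f₁) w₁ :=
    Groth.Agent.Lib.Helper4.UO.isUnivOpenAt_of_isPullback hUO hsq w₁ hw₁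
  have hmax₁ : ∀ z' : ↥(pullback f i), f₁ z' = f₁ (ι₁ w₁) → z' ⤳ ι₁ w₁ → z' = ι₁ w₁ := by
    intro z' hz' hsp
    apply p.isClosedEmbedding.injective
    rw [hpζ]
    apply hmax
    · rw [hcomm, hz', ← hcomm, hpζ]
    · have := hsp.map p.continuous
      rwa [hpζ] at this
  have htr : ∀ t : ↥(pullback f i),
      f.fiberι (f (p t)) (f.asFiber (p t)) =
        f.fiberι (i (f₁ t)) (fibreMap f f₁ p i hc (f₁ t) (f₁.asFiber t)) := by
    intro t
    rw [f.fiberι_asFiber, ← Scheme.Hom.comp_apply, fibreMap_fiberι, Scheme.Hom.comp_apply,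
      f₁.fiberι_asFiber]
  have hred₁ : FBase.IsGeomReducedAt (f₁.fiberToSpecResidueField (f₁ (ι₁ w₁)))
      (f₁.asFiber (ι₁ w₁)) := by
    apply isGeomReducedAt_fibre_ascend f f₁ p i hc (f₁ (ι₁ w₁)) (f₁.asFiber (ι₁ w₁))
    refine isGeomReducedAt_fiber_congr f (f (ι w₀)) _ ?_ (f.asFiber (ι w₀)) _ ?_ hred
    · rw [← hpζ, hcomm]
    · rw [← htr, f.fiberι_asFiber, f.fiberι_asFiber, hpζ]
  obtain ⟨hbij, hflat₁⟩ := bijective_stalkMap_of_isUnivOpenAt ι₁ f₁ w₁ hUO₁ hmax₁ hred₁
  haveI : LocallyOfFinitePresentation f₁ :=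
    LocallyOfFinitePresentation.iff_locallyOfFiniteType.mpr inferInstance
  have hpopen : IsOpenMap p :=
    (p.isClosedEmbedding.isEmbedding.toHomeomorphOfSurjective p.surjective).isOpenMap
  have hoe : IsOpenEmbedding p := ⟨p.isClosedEmbedding.isEmbedding, hpopen.isOpen_range⟩
  constructor
  · -- uniqueness of the component
    haveI hdW : IsDomain (W.presheaf.stalk (q w₁)) := inferInstance
    haveI hdW₁ : IsDomain ((pullback ι p).presheaf.stalk w₁) :=
      Groth.Agent.Lib.Helper4.UniComp1.isDomain_stalk_of_iso (asIso q) w₁ hdW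
    haveI hdX₁ : IsDomain ((pullback f i).presheaf.stalk (ι₁ w₁)) :=
      (RingEquiv.ofBijective _ hbij).toMulEquiv.isDomain _
    have hcount : {Z : Set ↥(pullback f i) | Z ∈ irreducibleComponents ↥(pullback f i) ∧
        ι₁ w₁ ∈ Z}.encard ≤ 1 := by
      rw [Groth.Agent.Lead.GUnib.encard_components_eq (pullback f i) (ι₁ w₁),
        IsDomain.minimalPrimes_eq_singleton_bot, Set.encard_singleton]
    intro Z Z' hZ hZ' hζZ hζZ'
    have p1 := preimage_mem_irreducibleComponents hZ hoe ⟨p (ι₁ w₁), by rw [hpζ]; exact hζZ,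
      ι₁ w₁, rfl⟩
    have p2 := preimage_mem_irreducibleComponents hZ' hoe ⟨p (ι₁ w₁), by rw [hpζ]; exact hζZ',
      ι₁ w₁, rfl⟩
    have h3 : p ⁻¹' Z = p ⁻¹' Z' :=
      Set.encard_le_one_iff.mp hcount _ _ ⟨p1, by show p (ι₁ w₁) ∈ Z; rw [hpζ]; exact hζZ⟩
        ⟨p2, by show p (ι₁ w₁) ∈ Z'; rw [hpζ]; exact hζZ'⟩
    exact (Set.preimage_injective.mpr p.surjective) h3
  · intro ξ hξ
    obtain ⟨ξ₁, rfl⟩ := p.surjective ξ
    have hsp₁ : ξ₁ ⤳ ι₁ w₁ := by
      rw [← p.isClosedEmbedding.isInducing.specializes_iff, hpζ]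
      exact hξ
    have hΩ := Groth.Agent.S4963.result f₁
    have hmem : ξ₁ ∈ {x : ↥(pullback f i) | (f₁.stalkMap x).hom.Flat ∧
        FBase.IsGeomReducedAt (f₁.fiberToSpecResidueField (f₁.base x)) (f₁.asFiber x)} :=
      hsp₁.mem_open hΩ ⟨hflat₁, hred₁⟩
    have h1 := isGeomReducedAt_fibre_descend f f₁ p i hc (f₁ ξ₁) (f₁.asFiber ξ₁) hmem.2
    exact isGeomReducedAt_fiber_congr f _ _ (hcomm ξ₁).symm _ (f.asFiber (p ξ₁)) (htr ξ₁).symm h1

end Groth.Agent.Lib.Helper4.Adm4
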