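import Mathlib
import Groth.Prelude
import Groth.Agent.Lib.Helper4.Adm2
import Groth.Agent.Lib.Helper4.Adm4
import Groth.Agent.Lib.Helper4.Equi7

/-!
# EGA IV 15.2.5: at most one admissible component, and generic geometric reducedness (S3459) (helper4) (helper4)
-/

set_option backward.isDefEq.respectTransparency.types false
set_option synthInstance.maxHeartbeats 400000
set_option autoImplicit false
set_option linter.unusedSectionVars false
set_option linter.style.haveILetI false
set_option linter.unusedSimpArgs false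
universe u v w
open CategoryTheory CategoryTheory.Limits AlgebraicGeometry TopologicalSpace Topology

namespace Groth.Agent.Lib.Helper4.Adm5

open Groth.Agent.Lib.Helper4.Adm2 Groth.Agent.Lib.Helper4.Adm4
  Groth.Agent.Lib.Helper4.OpenTransfer1 Groth.Agent.Lib.Helper4.FibDim1

/-- admissible irreducible components (EGA IV 15.2.5) -/
def Adm {X Y : Scheme.{u}} (f : X ⟶ Y) (x : X) : TopologicalSpace.Closeds X → Prop := fun X' =>
      (X' : Set X) ∈ irreducibleComponents (X : Type u) ∧ ∃ hx : x ∈ X',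
        FlatMor.localDim ↥((X' : Set X) ∩ f.base ⁻¹' {f.base x}) ⟨x, ⟨hx, Set.mem_singleton (f.base x)⟩⟩ =
          FlatMor.fibreDimAt f x ∧
        ∀ w : ↥(Scheme.IdealSheafData.vanishingIdeal X').subscheme,
          f.base ((Scheme.IdealSheafData.vanishingIdeal X').subschemeι.base w) = f.base x →
          x ∈ closure {(Scheme.IdealSheafData.vanishingIdeal X').subschemeι.base w} →
          (∀ t : X, t ∈ (X' : Set X) → f.base t = f.base x →
              (Scheme.IdealSheafData.vanishingIdeal X').subschemeι.base w ∈ closure {t} →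
              t = (Scheme.IdealSheafData.vanishingIdeal X').subschemeι.base w) →
          EGA43.IsUnivOpenAt ((Scheme.IdealSheafData.vanishingIdeal X').subschemeι ≫ f) w

/-- EGA IV 15.2.5 (ii)-(iii) -/
theorem S3459_main {X Y : Scheme.{u}} [IrreducibleSpace Y]
    [IsLocallyNoetherian Y] (f : X ⟶ Y) [LocallyOfFiniteType f] (x : X)
    (h1 : ∃! Zc : Set ↥(f.fiber (f.base x)), Zc ∈ irreducibleComponents (↥(f.fiber (f.base x)) : Type u) ∧ f.asFiber x ∈ Zc)
    (h2 : ∀ z : ↥(f.fiber (f.base x)), f.asFiber x ∈ closure {z} →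
      (∀ z' : ↥(f.fiber (f.base x)), z ∈ closure {z'} → z' = z) →
      FBase.IsGeomReducedAt (f.fiberToSpecResidueField (f.base x)) z) :
    {X' : TopologicalSpace.Closeds X | Adm f x X'}.Subsingleton ∧
      ∀ X' : TopologicalSpace.Closeds X, Adm f x X' →
        ∀ ζ : ↥(f.fiber (genericPoint Y)), closure {(f.fiberι (genericPoint Y)).base ζ} = (X' : Set X) →
          FBase.IsGeomReducedAt (f.fiberToSpecResidueField (genericPoint Y)) ζ := by
  obtain ⟨ζ₀, hfζ, hspζ, hζmax, huniq, htr, z₀, hz₀, hz₀cl, hz₀max⟩ := exists_fibre_generic f x h1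
  have hredζ : FBase.IsGeomReducedAt (f.fiberToSpecResidueField (f ζ₀)) (f.asFiber ζ₀) :=
    isGeomReducedAt_fiber_congr f (f x) (f ζ₀) hfζ.symm z₀ (f.asFiber ζ₀)
      (by rw [f.fiberι_asFiber]; exact hz₀) (h2 z₀ hz₀cl hz₀max)
  have key : ∀ X' : TopologicalSpace.Closeds X, Adm f x X' →
      (X' : Set X) ∈ irreducibleComponents (X : Type u) ∧ ζ₀ ∈ (X' : Set X) ∧
      (∀ Z Z' : Set X, Z ∈ irreducibleComponents (X : Type u) →
        Z' ∈ irreducibleComponents (X : Type u) → ζ₀ ∈ Z → ζ₀ ∈ Z' → Z = Z') ∧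
      (∀ ξ : X, ξ ⤳ ζ₀ →
        FBase.IsGeomReducedAt (f.fiberToSpecResidueField (f ξ)) (f.asFiber ξ)) := by
    intro X' hX'
    obtain ⟨hcomp, hx, hdim, hUOall⟩ := hX'
    have hmem := fibre_generic_mem f x ζ₀ hfζ huniq htr X' hx hdim
    have hr : Set.range (Scheme.IdealSheafData.vanishingIdeal X').subschemeι = (X' : Set X) := by
      rw [Scheme.IdealSheafData.range_subschemeι,
        Scheme.IdealSheafData.coe_support_vanishingIdeal]
    obtain ⟨w₀, hw₀⟩ : ζ₀ ∈ Set.range (Scheme.IdealSheafData.vanishingIdeal X').subschemeι := by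
      rw [hr]; exact hmem
    have hUO := hUOall w₀ (by rw [hw₀]; exact hfζ)
      (by rw [hw₀]; exact specializes_iff_mem_closure.mp hspζ)
      (fun t _ ht hcl => by
        rw [hw₀] at hcl ⊢
        exact hζmax t (ht.trans hfζ.symm) (specializes_iff_mem_closure.mpr hcl))
    haveI : IsReduced (Scheme.IdealSheafData.vanishingIdeal X').subscheme :=
      Groth.Agent.Lib.Helper4.Equi7.isReduced_vanishingIdeal_subscheme X'
    haveI : IrreducibleSpace ↥(Scheme.IdealSheafData.vanishingIdeal X').subscheme :=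
      Groth.Agent.Lib.Helper4.Equi7.irreducibleSpace_vanishingIdeal_subscheme X' hcomp.1
    haveI : IsIntegral (Scheme.IdealSheafData.vanishingIdeal X').subscheme :=
      isIntegral_of_irreducibleSpace_of_isReduced _
    subst hw₀
    exact ⟨hcomp, hmem, core _ f w₀ hUO hζmax hredζ⟩
  constructor
  · intro X' hX' X'' hX''
    obtain ⟨hc', hm', hu', -⟩ := key X' hX'
    obtain ⟨hc'', hm'', -, -⟩ := key X'' hX''
    exact SetLike.coe_injective (hu' _ _ hc' hc'' hm' hm'')
  · intro X' hX' ζ hζ
    obtain ⟨-, hm', -, hgr⟩ := key X' hX'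
    have hsp : (f.fiberι (genericPoint Y)) ζ ⤳ ζ₀ := by
      rw [specializes_iff_mem_closure]
      exact hζ ▸ hm'
    have h3 := hgr _ hsp
    exact isGeomReducedAt_fiber_congr f _ (genericPoint Y) (fiberι_mem f _ ζ) _ ζ
      (by rw [f.fiberι_asFiber]) h3

end Groth.Agent.Lib.Helper4.Adm5
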