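import Mathlib
import Groth.Prelude.Def_Formal
import Groth.Prelude.Def_Algz
import Groth.Agent.Lib.Helper4.SectLimEpi
import Groth.Agent.Lib.Helper4.CanonExtLim
import Groth.Agent.Lib.Helper4.CohFormalPro
import Groth.Agent.Lib.Helper1.AffPushEpi

/-!
# ML of sections when canonically extends (S9532) (helper4)
-/

set_option backward.isDefEq.respectTransparency.types false
set_option synthInstance.maxHeartbeats 400000
set_option autoImplicit false
set_option linter.unusedSectionVars false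
set_option linter.style.haveILetI false
set_option linter.unusedSimpArgs false
universe u v w
open CategoryTheory CategoryTheory.Limits AlgebraicGeometry TopologicalSpace Topology

namespace Groth.Agent.Lib.Helper4.CanonExtML

open Opposite Groth.Agent.Lib.Helper4 Groth.Agent.Lib.Helper4.SectLimEpi
  Groth.Agent.Lib.Helper4.CanonExtLim

section Img

variable {A : Type u} [CommRing A]

/-- the subobject attached to a submodule -/
noncomputable def subR {P : ModuleCat.{u} A} (R : Submodule A P) : Subobject P :=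
  haveI : Mono (ModuleCat.ofHom R.subtype) :=
    (ModuleCat.mono_iff_injective _).2 R.injective_subtype
  Subobject.mk (ModuleCat.ofHom R.subtype)

theorem imageSubobject_eq_subR {M P : ModuleCat.{u} A} (f : M ⟶ P) :
    imageSubobject f = subR (LinearMap.range f.hom) := by
  haveI : Mono (ModuleCat.ofHom (LinearMap.range f.hom).subtype) :=
    (ModuleCat.mono_iff_injective _).2 (LinearMap.range f.hom).injective_subtype
  exact Subobject.mk_eq_mk_of_comm (image.ι f) (ModuleCat.ofHom (LinearMap.range f.hom).subtype)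
    (ModuleCat.imageIsoRange f) (ModuleCat.imageIsoRange_hom_subtype f)

theorem imageSubobject_eq_of_range_eq {M N P : ModuleCat.{u} A} (f : M ⟶ P) (g : N ⟶ P)
    (h : LinearMap.range f.hom = LinearMap.range g.hom) :
    imageSubobject f = imageSubobject g := by
  rw [imageSubobject_eq_subR, imageSubobject_eq_subR, h]

end Img

section ProML

variable {A : Type u} [CommRing A]

variable (X Y : ℕᵒᵖ ⥤ ModuleCat.{u} A) (m : ℕ → ℕ) (hm : Monotone m) (hle : ∀ n, n ≤ m n)
  (aj : ∀ j, X.obj (op (m j)) ⟶ Y.obj (op j))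
  (nat : ∀ j j' (h : j ≤ j'), trm X (hm h) ≫ aj j = aj j' ≫ trm Y h)
  (pro : ∀ n, ∃ (k : ℕ) (hk : n ≤ k) (b : Y.obj (op k) ⟶ X.obj (op (m n))),
    aj k ≫ b = trm X (hm hk) ∧ b ≫ aj n = trm Y hk)
  (hY : ∀ (j j' : ℕ) (h : j ≤ j'), Function.Surjective (trm Y h).hom)

include hle nat pro hY in
theorem range_stable (n : ℕ) : ∃ (K : ℕ) (St : Submodule A (X.obj (op n))),
    ∀ (p : ℕ) (hp : n ≤ p), K ≤ p → LinearMap.range (trm X hp).hom = St := by
  obtain ⟨k, hk, b, hb1, hb2⟩ := pro n
  have hb1' : ∀ (x : X.obj (op (m k))), b.hom ((aj k).hom x) = (trm X (hm hk)).hom x :=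
    fun x => congrArg (fun φ => φ.hom x) hb1
  have nat' : ∀ j j' (h : j ≤ j') (x : X.obj (op (m j'))),
      (aj j).hom ((trm X (hm h)).hom x) = (trm Y h).hom ((aj j').hom x) :=
    fun j j' h x => congrArg (fun φ => φ.hom x) (nat j j' h)
  refine ⟨m k, Submodule.map (trm X (hle n)).hom (LinearMap.range b.hom), fun p hp hKp => ?_⟩
  apply le_antisymm
  · rintro _ ⟨x, rfl⟩
    refine ⟨b.hom ((aj k).hom ((trm X hKp).hom x)), ⟨_, rfl⟩, ?_⟩
    rw [hb1', trm_comp, trm_comp]
  · rintro _ ⟨_, ⟨y, rfl⟩, rfl⟩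
    -- k' = max k p
    have hkk' : k ≤ max k p := le_max_left _ _
    have hpk' : p ≤ max k p := le_max_right _ _
    obtain ⟨y', rfl⟩ := hY k (max k p) hkk' y
    obtain ⟨k'', hk'', b', hb1'', hb2''⟩ := pro (max k p)
    obtain ⟨y'', rfl⟩ := hY (max k p) k'' hk'' y'
    have hb2' : ∀ (w : Y.obj (op k'')), (aj (max k p)).hom (b'.hom w) = (trm Y hk'').hom w :=
      fun w => congrArg (fun φ => φ.hom w) hb2''
    have hpm : p ≤ m (max k p) := hpk'.trans (hle _)
    refine ⟨(trm X hpm).hom (b'.hom y''), ?_⟩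
    rw [← hb2', ← nat' k (max k p) hkk', hb1', trm_comp, trm_comp, trm_comp]

include hle nat pro hY in
theorem isML_of_pro : ARSys.IsML X := by
  intro n
  obtain ⟨K, St, hSt⟩ := range_stable X Y m hm hle aj nat pro hY n
  refine ⟨K, fun s hs => ?_⟩
  apply imageSubobject_eq_of_range_eq
  have h1 := hSt (n + s) (Nat.le_add_right n s) (by omega)
  have h2 := hSt (n + K) (Nat.le_add_right n K) (by omega)
  exact h1.trans h2.symm

end ProML

section Main

open Groth.Agent.Helper1 Groth.Agent.Lib.Helper4.CohFormalPro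

variable (A : Type u) [CommRing A]

theorem surj_tr (I : Ideal A) (G' : ℕᵒᵖ ⥤ (Spec (CommRingCat.of A)).Modules)
    (hG' : @Formal.IsCohFormal A _ (Spec (CommRingCat.of A)) ⟨𝟙 _⟩ I G') (j j' : ℕ) (h : j ≤ j') :
    Function.Surjective (trm (G' ⋙ moduleSpecΓFunctor (R := CommRingCat.of A)) h).hom := by
  let _ : (Spec (CommRingCat.of A)).Over (Spec (CommRingCat.of A)) := ⟨𝟙 _⟩
  haveI : Epi (G'.map (homOfLE h).op) := epi_tr (isFormalSys_of_isCohFormal I hG') h
  haveI : (G'.obj (op j)).IsQuasicoherent := (hG'.1 j).1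
  haveI : (G'.obj (op j')).IsQuasicoherent := (hG'.1 j').1
  exact AffPushEpi.app_surjective_of_epi (G'.map (homOfLE h).op) ⊤ (isAffineOpen_top _)

theorem main_gen (I : Ideal A) (U : (Spec (CommRingCat.of A)).Opens)
    (G : ℕᵒᵖ ⥤ (↑U : Scheme.{u}).Modules)
    (h : Algz.CanonicallyExtends A I U G) : ARSys.IsML (Algz.sectMod A U G) := by
  obtain ⟨G', hG', hpro⟩ := h
  have hpro2 := isProIsomorphic_sectMod A U G G' hpro
  obtain ⟨m, hm, hle, aj, nat, pro⟩ := exists_data hpro2
  exact isML_of_pro (Algz.sectMod A U G) (G' ⋙ moduleSpecΓFunctor (R := CommRingCat.of A))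
    m hm hle aj nat pro (surj_tr A I G' hG')

theorem main [IsNoetherianRing A] (I 𝔞 : Ideal A) (hI𝔞 : I ≤ 𝔞)
    (G : ℕᵒᵖ ⥤ (↑(LocCoh.puncturedOpen A 𝔞) : Scheme.{u}).Modules) (hG : Formal.IsCohFormal I G)
    (h : Algz.CanonicallyExtends A I (LocCoh.puncturedOpen A 𝔞) G) :
    ARSys.IsML (Algz.sectMod A (LocCoh.puncturedOpen A 𝔞) G) :=
  main_gen A I (LocCoh.puncturedOpen A 𝔞) G h

end Main

end Groth.Agent.Lib.Helper4.CanonExtML
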