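import Mathlib
import Groth.Prelude.Def_Formal
import Groth.Prelude.Def_Formal2
import Groth.Prelude.Def_Algz
import Groth.Agent.Lib.Helper4.ComplExt
import Groth.Agent.Lib.Helper4.CanonExtML
import Groth.Agent.Lib.Helper9.AdicLim9
import Groth.Agent.Lib.Helper1.AffFin
import Groth.Agent.Lib.Helper1.CohRestr

/-!
# affine existence for coherent formal modules; extends => completion (S9535) (helper4)
-/

set_option backward.isDefEq.respectTransparency.types false
set_option synthInstance.maxHeartbeats 400000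
set_option autoImplicit false
set_option linter.unusedSectionVars false
set_option linter.style.haveILetI false
set_option linter.unusedSimpArgs false
universe u v w
open CategoryTheory CategoryTheory.Limits AlgebraicGeometry TopologicalSpace Topology

namespace Groth.Agent.Lib.Helper4.AffExist

open Opposite Groth.Agent.Lib.Helper4 Groth.Agent.Lib.Helper4.IPow1 Groth.Agent.Lib.Helper4.CohFormalPB
  Groth.Agent.Lib.Helper4.SectLimEpi Groth.Agent.Lib.Helper4.CanonExtLim
  Groth.Agent.Lib.Helper4.CanonExtOf Groth.Agent.Lib.Helper4.ComplExt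

section TildeCok

variable (A : Type u) [CommRing A]

/-- `tt~` is the cokernel of the action of `J` on `P1~` when `tt : P1 → P0` is surjective with
kernel inside `J P1` and `J` kills `P0` -/
theorem tilde_cokernel (J : Ideal A) {P1 P0 : ModuleCat.{u} A} (tt : P1 ⟶ P0)
    (hsurj : Function.Surjective tt.hom)
    (hker : ∀ x : P1, tt.hom x = 0 → x ∈ (J • ⊤ : Submodule A P1))
    (hkill : ∀ a ∈ J, ∀ y : P0, a • y = 0) :
    ∃ w : @Formal.smulFamily A _ (Spec (CommRingCat.of A)) ⟨𝟙 _⟩ J
        ((tilde.functor (CommRingCat.of A)).obj P1) ≫ (tilde.functor (CommRingCat.of A)).map tt = 0,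
      IsIso (cokernel.desc _ _ w) := by
  let _ : (Spec (CommRingCat.of A)).Over (Spec (CommRingCat.of A)) := ⟨𝟙 _⟩
  have hw : Formal.smulFamily J ((tilde.functor (CommRingCat.of A)).obj P1) ≫
      (tilde.functor (CommRingCat.of A)).map tt = 0 := by
    apply Sigma.hom_ext
    intro a
    rw [← Category.assoc, smulFamily_ι, comp_zero, smulMod_nat, smulMod_tilde]
    have : smulHom A P0 a = 0 := by
      ext x
      exact hkill a a.2 x
    rw [this]
    have h0 : (tilde.functor (CommRingCat.of A)).map (0 : P0 ⟶ P0) = 0 :=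
      tilde.map_zero (R := CommRingCat.of A)
    rw [h0, comp_zero]
  refine ⟨hw, isIso_desc_of_isColimit _ _ hw ?_⟩
  haveI : Epi tt := (ModuleCat.epi_iff_surjective _).2 hsurj
  haveI : (tilde.functor (CommRingCat.of A)).PreservesEpimorphisms :=
    Functor.preservesEpimorphisms_of_adjunction (tilde.adjunction (R := CommRingCat.of A))
  haveI hepi : Epi ((tilde.functor (CommRingCat.of A)).map tt) := inferInstance
  have hfac : ∀ {Z : (Spec (CommRingCat.of A)).Modules}
      (ψ : (tilde.functor (CommRingCat.of A)).obj P1 ⟶ Z),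
      Formal.smulFamily J ((tilde.functor (CommRingCat.of A)).obj P1) ≫ ψ = 0 →
      ∃ χ : (tilde.functor (CommRingCat.of A)).obj P0 ⟶ Z,
        (tilde.functor (CommRingCat.of A)).map tt ≫ χ = ψ := by
    intro Z ψ hψ
    let adj := tilde.adjunction (R := CommRingCat.of A)
    let ψf : P1 ⟶ (moduleSpecΓFunctor (R := CommRingCat.of A)).obj Z := adj.homEquiv P1 Z ψ
    have h1 : ∀ a ∈ J, smulHom A P1 a ≫ ψf = 0 := by
      intro a ha
      have e1 : Formal.smulMod A ((tilde.functor (CommRingCat.of A)).obj P1) a ≫ ψ = 0 := by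
        rw [← smulFamily_ι J ((tilde.functor (CommRingCat.of A)).obj P1) ⟨a, ha⟩, Category.assoc, hψ,
          comp_zero]
      rw [smulMod_tilde] at e1
      have e2 := adj.homEquiv_naturality_left (smulHom A P1 a) ψ
      rw [e1] at e2
      change smulHom A P1 a ≫ adj.homEquiv P1 Z ψ = 0
      rw [← e2]
      exact homEquiv_zero A P1 Z
    have hk0 : ∀ x : P1, x ∈ (J • ⊤ : Submodule A P1) → ψf.hom x = 0 := by
      intro x hx'
      induction hx' using Submodule.smul_induction_on' with
      | smul a ha y _ =>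
        have := congrArg (fun φ => φ.hom y) (h1 a ha)
        exact this
      | add y _ z _ hy hz => rw [map_add, hy, hz, add_zero]
    obtain ⟨χf, hχf⟩ := exists_factor A tt hsurj ψf (fun x hx => hk0 x (hker x hx))
    refine ⟨(adj.homEquiv P0 Z).symm χf, ?_⟩
    rw [← adj.homEquiv_naturality_left_symm, hχf]
    exact (adj.homEquiv P1 Z).symm_apply_apply ψ
  exact CokernelCofork.IsColimit.ofπ _ _
    (fun ψ hψ => (hfac ψ hψ).choose)
    (fun ψ hψ => (hfac ψ hψ).choose_spec)
    (fun ψ hψ χ hχ => by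
      have hχ' : (tilde.functor (CommRingCat.of A)).map tt ≫ χ = ψ := hχ
      rw [← cancel_epi ((tilde.functor (CommRingCat.of A)).map tt), hχ']
      exact (hfac ψ hψ).choose_spec.symm)

end TildeCok

section Sys

open Groth.Agent.Lib.Helper4.BaseChgRing1 Groth.Agent.Helper1

variable (A : Type u) [CommRing A] (I : Ideal A)
  (G' : ℕᵒᵖ ⥤ (Spec (CommRingCat.of A)).Modules)
  (hG' : @Formal.IsCohFormal A _ (Spec (CommRingCat.of A)) ⟨𝟙 _⟩ I G')

include hG' in
theorem N_kill (n : ℕ) (a : A) (ha : a ∈ I ^ (n + 1))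
    (y : (G' ⋙ moduleSpecΓFunctor (R := CommRingCat.of A)).obj (op n)) : a • y = 0 := by
  let _ : (Spec (CommRingCat.of A)).Over (Spec (CommRingCat.of A)) := ⟨𝟙 _⟩
  change a • (show (moduleSpecΓFunctor (R := CommRingCat.of A)).obj (G'.obj (op n)) from y) = 0
  rw [Γsmul_eq]
  have := congrArg (fun φ => Scheme.Modules.Hom.app φ ⊤ y) (hG'.2.1 n a ha)
  exact this

include hG' in
theorem N_ker (hI : I.FG) (n : ℕ)
    (y : (G' ⋙ moduleSpecΓFunctor (R := CommRingCat.of A)).obj (op (n + 1)))
    (hy : (trm (G' ⋙ moduleSpecΓFunctor (R := CommRingCat.of A)) (Nat.le_succ n)).hom y = 0) :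
    y ∈ (I ^ (n + 1) • ⊤ : Submodule A
      ↑((G' ⋙ moduleSpecΓFunctor (R := CommRingCat.of A)).obj (op (n + 1)))) := by
  let _ : (Spec (CommRingCat.of A)).Over (Spec (CommRingCat.of A)) := ⟨𝟙 _⟩
  have hQ := isQCohFormal A I G' hG'
  have hAff : IsAffineOpen (⊤ : (Spec (CommRingCat.of A)).Opens) := isAffineOpen_top _
  have h1 := ModPowLim2.ker_tr_sections I G' hQ hAff hI n y hy
  rw [← ModPowLim2.IM_eq] at h1
  exact mem_smul_top_of_mem_IM (alphaRing A (Spec (CommRingCat.of A)) ⊤) (alpha_surjective A)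
    (P := Γ(G'.obj (op (n + 1)), ⊤))
    (Q := ↑((G' ⋙ moduleSpecΓFunctor (R := CommRingCat.of A)).obj (op (n + 1))))
    (AddMonoidHom.id _) (fun a p => (Γsmul_eq A _ a p).symm) I (n + 1) y h1

include hG' in
/-- affine existence: over a Noetherian ring complete for `I`, every coherent formal module on
`Spec A` is the completion of a coherent module -/
theorem exists_coh_completion_iso [IsNoetherianRing A] [IsAdicComplete I A] :
    ∃ F' : (Spec (CommRingCat.of A)).Modules, Coh.IsCoh F' ∧
      Nonempty (@Formal.completion A _ (Spec (CommRingCat.of A)) ⟨𝟙 _⟩ I F' ≅ G') := by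
  let _ : (Spec (CommRingCat.of A)).Over (Spec (CommRingCat.of A)) := ⟨𝟙 _⟩
  have hI : I.FG := IsNoetherian.noetherian I
  let N : ℕᵒᵖ ⥤ ModuleCat.{u} A := G' ⋙ moduleSpecΓFunctor (R := CommRingCat.of A)
  have hfin0 : Module.Finite A ↑(N.obj (op 0)) :=
    AffFin.finite_Γ_of_isFiniteType (R := CommRingCat.of A) (G'.obj (op 0)) (hG'.1 0).1 (hG'.1 0).2
  have hmain := Groth.Agent.Helper9.AdicLim9.main I (fun n => ↑(N.obj (op n)))
    (fun n => (trm N (Nat.le_succ n)).hom)
    (fun n => CanonExtML.surj_tr A I G' hG' n (n + 1) (Nat.le_succ n))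
    (fun n => by
      rw [eq_bot_iff, Submodule.smul_le]
      intro a ha y _
      rw [Submodule.mem_bot]
      exact N_kill A I G' hG' n a ha y)
    (fun n => by
      apply le_antisymm
      · intro y hy
        exact N_ker A I G' hG' hI n y hy
      · rw [Submodule.smul_le]
        intro a ha y _
        rw [LinearMap.mem_ker, map_smul]
        exact N_kill A I G' hG' n a ha _)
    ↑(limit N : ModuleCat.{u} A) (fun n => (limit.π N (op n)).hom)
    (fun n => by
      ext z
      exact pi_compat N n (n + 1) (Nat.le_succ n) z)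
    (fun x hx => lim_ext_mod N x 0 (fun m => (hx m).trans (map_zero _).symm))
    (fun y hy => lim_exists_mod N y hy) hfin0
  obtain ⟨hfinL, -, hπ⟩ := hmain
  let F' : (Spec (CommRingCat.of A)).Modules := (tilde.functor (CommRingCat.of A)).obj (limit N)
  have hF' : Coh.IsCoh F' :=
    ⟨inferInstanceAs (tilde (R := CommRingCat.of A) (limit N)).IsQuasicoherent,
      TildeFT.tilde_isFiniteType (CommRingCat.of A) (limit N) hfinL⟩
  refine ⟨F', hF', ?_⟩
  let adj := tilde.adjunction (R := CommRingCat.of A)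
  have hε : ∀ n : ℕ, IsIso (adj.counit.app (G'.obj (op n))) := fun n =>
    @Scheme.Modules.isIso_fromTildeΓ_of_isQuasicoherent (CommRingCat.of A) (G'.obj (op n)) (hG'.1 n).1
  refine completion_iso_of_cokernels I F' G'
    (fun n => (tilde.functor (CommRingCat.of A)).map (limit.π N (op n)) ≫
      adj.counit.app (G'.obj (op n))) ?_ ?_
  · intro n
    have hnat := adj.counit.naturality (G'.map (homOfLE (Nat.le_succ n)).op)
    have hw : limit.π N (op (n + 1)) ≫ N.map (homOfLE (Nat.le_succ n)).op = limit.π N (op n) :=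
      limit.w N (homOfLE (Nat.le_succ n)).op
    calc ((tilde.functor (CommRingCat.of A)).map (limit.π N (op (n + 1))) ≫
          adj.counit.app (G'.obj (op (n + 1)))) ≫ G'.map (homOfLE (Nat.le_succ n)).op
        = (tilde.functor (CommRingCat.of A)).map (limit.π N (op (n + 1))) ≫
          (adj.counit.app (G'.obj (op (n + 1))) ≫ G'.map (homOfLE (Nat.le_succ n)).op) := by
          rw [Category.assoc]
      _ = (tilde.functor (CommRingCat.of A)).map (limit.π N (op (n + 1))) ≫
          ((tilde.functor (CommRingCat.of A)).map (N.map (homOfLE (Nat.le_succ n)).op) ≫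
            adj.counit.app (G'.obj (op n))) := by
          congr 1
          exact hnat.symm
      _ = (tilde.functor (CommRingCat.of A)).map (limit.π N (op n)) ≫
          adj.counit.app (G'.obj (op n)) := by
          rw [← Category.assoc, ← Functor.map_comp, hw]
  · intro n
    obtain ⟨w, hi⟩ := tilde_cokernel A (I ^ (n + 1)) (limit.π N (op n)) (hπ n).1
      (fun x hx => by
        have : x ∈ LinearMap.ker (limit.π N (op n)).hom := hx
        rw [(hπ n).2] at this
        exact this)
      (fun a ha y => N_kill A I G' hG' n a ha y)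
    have hc0 := isColimitOfIsIsoDesc _ _ w hi
    have w2 : Formal.smulFamily (I ^ (n + 1)) F' ≫
        (tilde.functor (CommRingCat.of A)).map (limit.π N (op n)) ≫
          (@asIso _ _ _ _ _ (hε n)).hom = 0 := by
      rw [← Category.assoc, w, zero_comp]
    have hc2 := CanonExt.isColimitCompIso _ _ w hc0 (@asIso _ _ _ _ _ (hε n)) w2
    exact ⟨w2, isIso_desc_of_isColimit _ _ w2 hc2⟩

end Sys

section Main

open Groth.Agent.Helper1

variable (A : Type u) [CommRing A]

theorem main_gen [IsNoetherianRing A] (I : Ideal A) [IsAdicComplete I A]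
    (U : (Spec (CommRingCat.of A)).Opens) (G : ℕᵒᵖ ⥤ (↑U : Scheme.{u}).Modules)
    (h : @Algz.Extends A _ (Spec (CommRingCat.of A)) ⟨𝟙 (Spec (CommRingCat.of A))⟩ I U G) :
    ∃ F : (↑U : Scheme.{u}).Modules, Coh.IsCoh F ∧ Nonempty (Formal.completion I F ≅ G) := by
  obtain ⟨G', hG', ⟨κ⟩⟩ := h
  obtain ⟨F', hF', ⟨e'⟩⟩ := exists_coh_completion_iso A I G' hG'
  let _ : (Spec (CommRingCat.of A)).Over (Spec (CommRingCat.of A)) := ⟨𝟙 _⟩
  refine ⟨(Scheme.Modules.restrictFunctor U.ι).obj F', FinPush.isCoh_restrict U.ι F' hF', ?_⟩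
  obtain ⟨ρ⟩ := restrict_completion_iso A I U F' ((Scheme.Modules.restrictFunctor U.ι).obj F')
    (Iso.refl _)
  exact ⟨ρ ≪≫ Functor.isoWhiskerRight e' (Scheme.Modules.restrictFunctor U.ι) ≪≫ κ⟩

theorem main [IsNoetherianRing A] (I 𝔞 : Ideal A) (hI𝔞 : I ≤ 𝔞)
    (G : ℕᵒᵖ ⥤ (↑(LocCoh.puncturedOpen A 𝔞) : Scheme.{u}).Modules) (hG : Formal.IsCohFormal I G)
    [IsAdicComplete I A]
    (h : @Algz.Extends A _ (Spec (CommRingCat.of A)) ⟨𝟙 (Spec (CommRingCat.of A))⟩ I
      (LocCoh.puncturedOpen A 𝔞) G) :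
    ∃ F : (↑(LocCoh.puncturedOpen A 𝔞) : Scheme.{u}).Modules, Coh.IsCoh F ∧
      Nonempty (Formal.completion I F ≅ G) :=
  main_gen A I (LocCoh.puncturedOpen A 𝔞) G h

end Main

end Groth.Agent.Lib.Helper4.AffExist
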