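import Mathlib
import Groth.Prelude
import Groth.Agent.Lib.Helper4.ExtGm1

/-!
# Morphisms to affine S-schemes factor through the base when O_S = f_* O_X universally (S15364) (helper4)
-/

set_option backward.isDefEq.respectTransparency.types false
set_option synthInstance.maxHeartbeats 400000
set_option autoImplicit false
set_option linter.unusedSectionVars false
set_option linter.style.haveILetI false
set_option linter.unusedSimpArgs false
universe u v w
open CategoryTheory CategoryTheory.Limits AlgebraicGeometry TopologicalSpace Opposite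
open MonoidalCategory CartesianMonoidalCategory MonObj GrpObj

namespace Groth.Agent.Lib.Helper4.AffFac1

open Groth.Agent.Lib.Helper4.RigidProper1 in
/-- gluing local factorizations through the base. -/
theorem exists_section_of_local_facOn {X Y S : Scheme.{u}}
    (f : X ⟶ S) [Surjective f]
    (hall : ∀ (T : Scheme.{u}) (g : T ⟶ S) (U : T.Opens), IsIso ((pullback.snd f g).app U))
    (g : Y ⟶ S) (π : X ⟶ Y) (hπ : π ≫ g = f)
    (hall' : ∀ s : S, ∃ (U : S.Opens) (τ : (U : Scheme.{u}) ⟶ Y), s ∈ U ∧ FacOn f π U τ) :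
    ∃ σ : S ⟶ Y, σ ≫ g = 𝟙 S ∧ π = f ≫ σ := by
  choose U τ hsU hτ using hall'
  have hcover : IsOpenCover U := by
    rw [IsOpenCover, eq_top_iff]
    intro x _
    exact Opens.mem_iSup.2 ⟨x, hsU x⟩
  let 𝒰 : S.OpenCover := S.openCoverOfIsOpenCover U hcover
  have compat : ∀ x y : S, pullback.fst (𝒰.f x) (𝒰.f y) ≫ τ x = pullback.snd (𝒰.f x) (𝒰.f y) ≫ τ y := by
    intro x y
    have hc : pullback.fst (𝒰.f x) (𝒰.f y) ≫ (U x).ι = pullback.snd (𝒰.f x) (𝒰.f y) ≫ (U y).ι :=
      pullback.condition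
    obtain ⟨v, hv⟩ : ∃ v, v = pullback.fst (𝒰.f x) (𝒰.f y) ≫ (U x).ι := ⟨_, rfl⟩
    haveI := epi_pullback_snd f hall v
    rw [← cancel_epi (pullback.snd f v)]
    have e₁ := (hτ x).eq (pullback.fst f v) (pullback.snd f v ≫ pullback.fst (𝒰.f x) (𝒰.f y))
      (pullback.condition.trans ((congrArg (fun m => pullback.snd f v ≫ m) hv).trans
        (Category.assoc _ _ _).symm))
    have e₂ := (hτ y).eq (pullback.fst f v) (pullback.snd f v ≫ pullback.snd (𝒰.f x) (𝒰.f y))
      (pullback.condition.trans ((congrArg (fun m => pullback.snd f v ≫ m) (hv.trans hc)).trans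
        (Category.assoc _ _ _).symm))
    rw [Category.assoc] at e₁ e₂
    exact e₁.symm.trans e₂
  let σ : S ⟶ Y := 𝒰.glueMorphisms τ compat
  have hσ : ∀ x : S, (U x).ι ≫ σ = τ x := fun x => 𝒰.ι_glueMorphisms τ compat x
  have hfac : π = f ≫ σ := by
    apply Scheme.hom_ext_of_forall
    intro x
    refine ⟨f ⁻¹ᵁ (U (f x)), hsU (f x), ?_⟩
    have e₁ := (hτ (f x)).eq (f ⁻¹ᵁ (U (f x))).ι (f ∣_ (U (f x))) (morphismRestrict_ι f _).symm
    rw [e₁, ← hσ (f x), ← Category.assoc, morphismRestrict_ι, Category.assoc]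
  refine ⟨σ, ?_, hfac⟩
  haveI := epi_self f hall
  rw [← cancel_epi f, ← Category.assoc, ← hfac, hπ, Category.comp_id]

open Groth.Agent.Lib.Helper4.RigidProper1 in
/-- morphisms to an affine `S`-scheme factor through the base when `O_S = f_* O_X` universally -/
theorem exists_section_of_isAffineHom {X Y S : Scheme.{u}}
    (f : X ⟶ S) [Surjective f]
    (hall : ∀ (T : Scheme.{u}) (g : T ⟶ S) (U : T.Opens), IsIso ((pullback.snd f g).app U))
    (g : Y ⟶ S) [IsAffineHom g] (π : X ⟶ Y) (hπ : π ≫ g = f) :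
    ∃ σ : S ⟶ Y, σ ≫ g = 𝟙 S ∧ π = f ≫ σ := by
  refine exists_section_of_local_facOn f hall g π hπ (fun s => ?_)
  obtain ⟨_, ⟨(U : S.Opens), hU, rfl⟩, hsU, -⟩ :=
    S.isBasis_affineOpens.exists_subset_of_mem_open (Set.mem_univ s) isOpen_univ
  have hV : IsAffineOpen (g ⁻¹ᵁ U) := hU.preimage g
  haveI : IsAffine ((g ⁻¹ᵁ U : Y.Opens) : Scheme.{u}) := hV
  obtain ⟨h, hh⟩ : ∃ h : pullback f U.ι ⟶ (U : Scheme.{u}), h = pullback.snd f U.ι := ⟨_, rfl⟩
  haveI : IsIso h.appTop := by rw [hh]; exact hall _ U.ι ⊤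
  have hrange : Set.range (pullback.fst f U.ι ≫ π) ⊆ Set.range (g ⁻¹ᵁ U).ι := by
    rintro _ ⟨z, rfl⟩
    rw [Scheme.Opens.range_ι]
    show g ((pullback.fst f U.ι ≫ π) z) ∈ U
    rw [← Scheme.Hom.comp_apply, Category.assoc, hπ, pullback.condition, Scheme.Hom.comp_apply]
    exact (pullback.snd f U.ι z).2
  obtain ⟨τ', hτ'⟩ := exists_fac_of_isIso_appTop h
    (IsOpenImmersion.lift (g ⁻¹ᵁ U).ι (pullback.fst f U.ι ≫ π) hrange)
  refine ⟨U, τ' ≫ (g ⁻¹ᵁ U).ι, hsU, ?_⟩
  show pullback.fst f U.ι ≫ π = pullback.snd f U.ι ≫ τ' ≫ (g ⁻¹ᵁ U).ι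
  rw [← hh, ← Category.assoc, hτ', IsOpenImmersion.lift_fac]

open Groth.Agent.Lib.Helper4.RigidProper1 in
theorem main_S15364 {T : Scheme.{u}} [IsLocallyNoetherian T]
    (A : Over T) [GrpObj A] [IsCommMonObj A] [IsProper A.hom] [Smooth A.hom] [GeometricallyConnected A.hom]
    (H : Over T) [IsFinite H.hom] [Flat H.hom] [LocallyOfFinitePresentation H.hom] :
    Function.Bijective fun s : (𝟙_ (Over T) ⟶ H) => toUnit A ≫ s := by
  obtain ⟨hall, hsurj, -⟩ := Groth.Agent.Lib.Helper4.ExtGm1.hall_of_abelian A η[A]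
  haveI := hsurj
  haveI : IsAffineHom H.hom := inferInstance
  constructor
  · intro s s' h
    haveI := epi_self A.hom hall
    ext1
    rw [← cancel_epi A.hom]
    have := congrArg (fun t => t.left) h
    simpa [Over.toUnit_left] using this
  · intro ρ
    obtain ⟨σ, hσ1, hσ2⟩ := exists_section_of_isAffineHom A.hom hall H.hom ρ.left (Over.w ρ)
    refine ⟨Over.homMk σ hσ1, ?_⟩
    ext1
    show (toUnit A).left ≫ σ = ρ.left
    rw [Over.toUnit_left, hσ2]

end Groth.Agent.Lib.Helper4.AffFac1
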