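import Mathlib
import Groth.Prelude.Def_AlgGrp
import Groth.Agent.Lib.Helper4.NormRadQuot1
import Groth.Agent.Lib.Helper2.Grpd.FiniteFlatQuot
import Groth.Agent.Lib.Helper2.Grpd.Points

/-!
# Quotient of an affine group scheme by a finite locally free normal subgroup scheme, as a group scheme, with its cartesian square (helper4)
-/

set_option backward.isDefEq.respectTransparency.types false
set_option synthInstance.maxHeartbeats 400000
set_option autoImplicit false
set_option linter.unusedSectionVars false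
set_option linter.style.haveILetI false
set_option linter.unusedSimpArgs false
universe u v w
open CategoryTheory CategoryTheory.Limits AlgebraicGeometry TopologicalSpace Opposite
open MonoidalCategory CartesianMonoidalCategory MonObj GrpObj
open Groth.Agent.Lib.Helper4.ActGpd1 Groth.Agent.Lib.Helper4.GrpdQuotMono1
open Groth.Agent.Lib.Helper4.FreeActQuot1 Groth.Agent.Lib.Helper4.NormQuotSch1
open Groth.Agent.Lib.Helper4.QuotExt1 Groth.Agent.Lib.Helper4.FlatClosed1
open Groth.Agent.Lib.Helper6.FlatQ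
open Groth.Agent.Lib.Helper4.NormRadQuot1
open Groth.Agent.Helper2.GrpdLib

namespace Groth.Agent.Lib.Helper4.AffGrpQuot1

variable {S : Scheme.{u}}

/-- the quotient of an affine scheme by a free action of a finite locally free group scheme -/
theorem exists_quot_aff (G X : Over S) [GrpObj G]
    (a : AlgGrp.Action G X) (hG : Mor2.IsFinLocFree G.hom)
    (hfree : ∀ (T : Over S) (g : T ⟶ G) (x : T ⟶ X), lift g x ≫ a.act = x → g = toUnit T ≫ η[G])
    [IsAffine X.left] :
    ∃ (M : Over S) (q : X ⟶ M), IsPullback a.act (snd G X) q q ∧ IsAffine M.left ∧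
      IsFinite q.left ∧ Flat q.left ∧ LocallyOfFinitePresentation q.left ∧ Surjective q.left := by
  obtain ⟨h1, h2, h3'⟩ := hG
  haveI := h1
  haveI := h2
  haveI := h3'
  haveI hsf : IsFinite (snd G X).left := by rw [Over.snd_left]; infer_instance
  haveI hsfl : Flat (snd G X).left := by rw [Over.snd_left]; infer_instance
  haveI hsfp : LocallyOfFinitePresentation (snd G X).left := by rw [Over.snd_left]; infer_instance
  let Gd := actGpd a hfree
  haveI : IsFinite Gd.s := hsf
  haveI : Flat Gd.s := hsfl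
  haveI : LocallyOfFinitePresentation Gd.s := hsfp
  haveI : IsFinite Gd.t := isFinite_t Gd
  haveI : Flat Gd.t := flat_t Gd
  haveI : LocallyOfFinitePresentation Gd.t := lofp_t Gd
  haveI : Mono Gd.j := by
    constructor
    intro T α β hab
    have e1 : Gd.j ≫ pullback.fst Gd.pU Gd.pU = Gd.t := pullback.lift_fst _ _ _
    have e2 : Gd.j ≫ pullback.snd Gd.pU Gd.pU = Gd.s := pullback.lift_snd _ _ _
    have ht : α ≫ Gd.t = β ≫ Gd.t := by
      rw [← e1, ← Category.assoc, ← Category.assoc, hab]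
    have hs : α ≫ Gd.s = β ≫ Gd.s := by
      rw [← e2, ← Category.assoc, ← Category.assoc, hab]
    exact act_hext a hfree α β ht hs
  haveI : IsAffine Gd.U := ‹IsAffine X.left›
  haveI : IsAffine Gd.R := isAffine_of_isAffineHom Gd.s
  obtain ⟨⟨hfin, hflat, hlfp⟩, -⟩ := finite_flat_quotient Gd
  have hsurj : Surjective Gd.toQuot := surjective_toQuot' Gd
  have hpb : IsPullback Gd.t Gd.s Gd.toQuot Gd.toQuot := isPullback_toQuot Gd
  haveI := hfin
  haveI := hflat
  haveI := hlfp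
  haveI := hsurj
  have hcond : ∀ {Z : Scheme.{u}} (g₁ g₂ : Z ⟶ Gd.U), g₁ ≫ Gd.toQuot = g₂ ≫ Gd.toQuot →
      g₁ ≫ Gd.pU = g₂ ≫ Gd.pU := by
    intro Z g₁ g₂ hg
    obtain ⟨r, e1, e2⟩ : ∃ r : Z ⟶ Gd.R, r ≫ Gd.t = g₁ ∧ r ≫ Gd.s = g₂ :=
      ⟨hpb.lift g₁ g₂ hg, hpb.lift_fst _ _ _, hpb.lift_snd _ _ _⟩
    rw [← e1, ← e2, Category.assoc, Category.assoc, Gd.t_over, Gd.s_over]
  haveI : QuasiCompact Gd.toQuot := inferInstance
  haveI : EffectiveEpi Gd.toQuot := inferInstance
  let qS : Spec (CommRingCat.of Gd.invariants) ⟶ S := EffectiveEpi.desc Gd.toQuot Gd.pU hcond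
  have hqS : Gd.toQuot ≫ qS = X.hom := EffectiveEpi.fac Gd.toQuot Gd.pU hcond
  let m : X ⟶ Over.mk qS := Over.homMk Gd.toQuot hqS
  have hpb' : IsPullback a.act.left (snd G X).left Gd.toQuot Gd.toQuot := hpb
  have hkp : IsPullback (snd G X) a.act m m := by
    apply IsPullback.of_map (Over.forget S)
    · ext
      exact hpb'.w.symm
    · exact hpb'.flip
  exact ⟨Over.mk qS, m, hkp.flip, inferInstanceAs (IsAffine (Spec _)), hfin, hflat, hlfp, hsurj⟩

variable {G N0 : Over S} [GrpObj G] [GrpObj N0] (u : N0 ⟶ G) [IsMonHom u]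

/-- a cartesian square for the left translation action makes the quotient a group scheme -/
theorem exists_grp_of_sq [Mono u] (hN : AlgGrp.IsNormalHom u) (Q : Over S) (q : G ⟶ Q)
    (hpb : IsPullback (ltAct u).act (snd N0 G) q q) (hflat : Flat q.left)
    (hsurj : Surjective q.left) (hqc : QuasiCompact q.left) :
    ∃ (_ : GrpObj Q), IsMonHom q ∧ AlgGrp.IsKernel u q := by
  haveI := hflat
  haveI := hsurj
  haveI := hqc
  have hw : actMor u ≫ q = snd N0 G ≫ q := hpb.w
  have hfib : ∀ {T : Over S} (a b : T ⟶ G), a ≫ q = b ≫ q ↔ ∃ h : T ⟶ N0, a = b * (h ≫ u) := by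
    intro T a b
    constructor
    · intro hab
      obtain ⟨z, h1, h2⟩ : ∃ z : T ⟶ N0 ⊗ G, z ≫ actMor u = a ∧ z ≫ snd N0 G = b :=
        ⟨hpb.lift a b hab, hpb.lift_fst _ _ _, hpb.lift_snd _ _ _⟩
      have h3 : a = ((z ≫ fst N0 G) ≫ u) * b := by
        rw [← h1, ← h2]
        unfold actMor
        rw [comp_actPt]
        rfl
      obtain ⟨n', hn'⟩ := hN T b⁻¹ (z ≫ fst N0 G)
      rw [_root_.inv_inv] at hn'
      refine ⟨n', ?_⟩
      rw [h3, ← hn']
      group
    · rintro ⟨h, rfl⟩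
      obtain ⟨n', hn'⟩ := hN T b h
      have h1 : b * (h ≫ u) = actPt u n' b := by
        unfold actPt
        rw [← hn']
        group
      rw [h1, ← lift_actMor, Category.assoc, hw, lift_snd_assoc]
  have d1 := isDesc_of_fpqc q
  haveI : Flat (q ⊗ₘ q).left := prop_tensorHom' @Flat q q hflat hflat
  haveI : Surjective (q ⊗ₘ q).left := prop_tensorHom' @Surjective q q hsurj hsurj
  haveI : QuasiCompact (q ⊗ₘ q).left := prop_tensorHom' @QuasiCompact q q hqc hqc
  have d2 := isDesc_of_fpqc (q ⊗ₘ q)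
  haveI : Flat ((q ⊗ₘ q) ⊗ₘ q).left := prop_tensorHom' @Flat (q ⊗ₘ q) q inferInstance hflat
  haveI : Surjective ((q ⊗ₘ q) ⊗ₘ q).left :=
    prop_tensorHom' @Surjective (q ⊗ₘ q) q inferInstance hsurj
  haveI : QuasiCompact ((q ⊗ₘ q) ⊗ₘ q).left :=
    prop_tensorHom' @QuasiCompact (q ⊗ₘ q) q inferInstance hqc
  have d3 := isDesc_of_fpqc ((q ⊗ₘ q) ⊗ₘ q)
  obtain ⟨instQ, hqm, -⟩ := exists_grpObj_quot u q @hfib (fun g n => hN _ g n) d1 d2 d3.epi
  refine ⟨instQ, hqm, ?_⟩
  unfold AlgGrp.IsKernel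
  refine isPullback_of_points u (toUnit N0) q η[Q] ?_ ?_ ?_
  · have := (hfib u (1 : N0 ⟶ G)).mpr ⟨𝟙 N0, by rw [Category.id_comp, _root_.one_mul]⟩
    rw [this, MonObj.one_comp, Hom.one_def]
  · intro T a b hab
    have h1 : a ≫ q = (1 : T ⟶ G) ≫ q := by
      rw [hab, MonObj.one_comp, Hom.one_def, toUnit_unique b (toUnit T)]
    obtain ⟨h, hh⟩ := (hfib a 1).mp h1
    refine ⟨h, ?_, toUnit_unique _ _⟩
    rw [hh, _root_.one_mul]
  · intro T c c' h1 _
    exact (cancel_mono u).mp h1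

/-- the quotient of an affine group scheme by a finite locally free normal subgroup scheme -/
theorem exists_quot_affine [Mono u] (hN : AlgGrp.IsNormalHom u) (hfl : Mor2.IsFinLocFree N0.hom)
    [IsAffine G.left] :
    ∃ (Q : Over S) (_ : GrpObj Q) (q : G ⟶ Q), IsMonHom q ∧ AlgGrp.IsKernel u q ∧
      IsPullback (ltAct u).act (snd N0 G) q q ∧ IsAffine Q.left ∧
      IsFinite q.left ∧ Flat q.left ∧ LocallyOfFinitePresentation q.left ∧ Surjective q.left := by
  obtain ⟨Q, q, hpb, haff, hfin, hflat, hlfp, hsurj⟩ :=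
    exists_quot_aff N0 G (ltAct u) hfl (ltAct_free u)
  haveI := hfin
  haveI hqc : QuasiCompact q.left := inferInstance
  obtain ⟨instQ, hqm, hK⟩ := exists_grp_of_sq u hN Q q hpb hflat hsurj hqc
  exact ⟨Q, instQ, q, hqm, hK, hpb, haff, hfin, hflat, hlfp, hsurj⟩

end Groth.Agent.Lib.Helper4.AffGrpQuot1
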