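import Mathlib

/-!
# Affine quotients by finite groupoids are categorical quotients over every open of the target (helper4)
-/

set_option backward.isDefEq.respectTransparency.types false
set_option synthInstance.maxHeartbeats 400000
set_option autoImplicit false
set_option linter.unusedSectionVars false
set_option linter.style.haveILetI false
set_option linter.unusedSimpArgs false
universe u v w
open CategoryTheory CategoryTheory.Limits AlgebraicGeometry TopologicalSpace Opposite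

namespace Groth.Agent.Lib.Helper4.AffQuotCoeq1

section LemmaA
variable {X Y : Scheme.{u}} (π : X ⟶ Y)

theorem resLE_appTop_injective [IsSchemeTheoreticallyDominant π] [QuasiCompact π] (O : Y.Opens) :
    Function.Injective (π ∣_ O).appTop.hom := by
  have h0 : π ∣_ O = π.resLE O (π ⁻¹ᵁ O) le_rfl := (Scheme.Hom.resLE_eq_morphismRestrict π).symm
  have h1 : (π.resLE O (π ⁻¹ᵁ O) le_rfl).appTop =
      O.topIso.hom ≫ π.appLE O (π ⁻¹ᵁ O) le_rfl ≫ (π ⁻¹ᵁ O).topIso.inv :=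
    Scheme.Hom.resLE_app_top π le_rfl
  rw [h0, h1, ← Scheme.Hom.app_eq_appLE]
  intro x y hxy
  simp only [CommRingCat.hom_comp, RingHom.comp_apply] at hxy
  have h2 := (ConcreteCategory.bijective_of_isIso (π ⁻¹ᵁ O).topIso.inv).1 hxy
  have h3 := π.app_injective O h2
  exact (ConcreteCategory.bijective_of_isIso O.topIso.hom).1 h3

/-- a surjective, quasi-compact, scheme-theoretically dominant morphism is an epimorphism -/
theorem epi_of_surjective_of_std [Surjective π] [IsSchemeTheoreticallyDominant π]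
    [QuasiCompact π] : Epi π := by
  constructor
  intro Z g g' h
  have hpt : ∀ y : Y, g.base y = g'.base y := by
    intro y
    obtain ⟨x, rfl⟩ := π.surjective y
    rw [← Scheme.Hom.comp_apply, ← Scheme.Hom.comp_apply, h]
  have hpre : ∀ Z' : Z.Opens, g ⁻¹ᵁ Z' = g' ⁻¹ᵁ Z' := by
    intro Z'
    ext y
    change g.base y ∈ Z' ↔ g'.base y ∈ Z'
    rw [hpt y]
  -- the cover of `Y` by preimages of affine opens of `Z`
  have hcov : IsOpenCover (fun Z' : Z.affineOpens => g ⁻¹ᵁ Z'.1) := by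
    apply top_le_iff.mp
    intro y _
    obtain ⟨_, ⟨Z', hZ', rfl⟩, hy, -⟩ :=
      Z.isBasis_affineOpens.exists_subset_of_mem_open (Set.mem_univ (g.base y)) isOpen_univ
    exact Opens.mem_iSup.mpr ⟨⟨Z', hZ'⟩, hy⟩
  apply (Y.openCoverOfIsOpenCover _ hcov).hom_ext
  intro Z'
  change (g ⁻¹ᵁ Z'.1).ι ≫ g = (g ⁻¹ᵁ Z'.1).ι ≫ g'
  have e1 : (g ⁻¹ᵁ Z'.1).ι ≫ g = g.resLE Z'.1 (g ⁻¹ᵁ Z'.1) le_rfl ≫ Z'.1.ι :=
    (Scheme.Hom.resLE_comp_ι _ _).symm
  have e2 : (g ⁻¹ᵁ Z'.1).ι ≫ g' = g'.resLE Z'.1 (g ⁻¹ᵁ Z'.1) (le_of_eq (hpre Z'.1)) ≫ Z'.1.ι :=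
    (Scheme.Hom.resLE_comp_ι _ _).symm
  rw [e1, e2]
  congr 1
  haveI : IsAffine (Z'.1 : Scheme.{u}) := Z'.2
  apply ext_of_isAffine
  -- compare after composing with the restriction of `π`
  have hinj := resLE_appTop_injective π (g ⁻¹ᵁ Z'.1)
  have h3 : (π ∣_ (g ⁻¹ᵁ Z'.1)) ≫ g.resLE Z'.1 (g ⁻¹ᵁ Z'.1) le_rfl =
      (π ∣_ (g ⁻¹ᵁ Z'.1)) ≫ g'.resLE Z'.1 (g ⁻¹ᵁ Z'.1) (le_of_eq (hpre Z'.1)) := by
    rw [← cancel_mono Z'.1.ι, Category.assoc, Category.assoc, ← e1, ← e2,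
      ← Category.assoc, ← Category.assoc, morphismRestrict_ι, Category.assoc, Category.assoc, h]
  have h4 := congrArg Scheme.Hom.appTop h3
  rw [Scheme.Hom.comp_appTop, Scheme.Hom.comp_appTop] at h4
  ext b
  apply hinj
  have := congrArg (fun φ => φ.hom b) h4
  simpa using this

end LemmaA


section Covers
variable {X : Scheme.{u}}

/-- a cover of an open subscheme by smaller opens -/
noncomputable def coverOfLE (V : X.Opens) {ι : Type u} (O : ι → X.Opens) (hO : ∀ i, O i ≤ V)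
    (hcov : ∀ x ∈ V, ∃ i, x ∈ O i) : (V : Scheme.{u}).OpenCover where
  I₀ := ι
  X i := O i
  f i := X.homOfLE (hO i)
  mem₀ := by
    rw [Scheme.presieve₀_mem_precoverage_iff]
    refine ⟨fun x => ?_, fun i => ?_⟩
    · obtain ⟨i, hi⟩ := hcov x.1 x.2
      exact ⟨i, ⟨x.1, hi⟩, Scheme.homOfLE_apply' (hO i) x.1 hi⟩
    · exact IsOpenImmersion.of_comp _ V.ι

end Covers

section LemmaB
variable {X M Z : Scheme.{u}} (q : X ⟶ M)

theorem restrict_homOfLE {O O' : M.Opens} (h : O' ≤ O) :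
    (q ∣_ O') ≫ M.homOfLE h = X.homOfLE (q.preimage_mono h) ≫ (q ∣_ O) := by
  rw [← cancel_mono O.ι, Category.assoc, Category.assoc, Scheme.homOfLE_ι, morphismRestrict_ι,
    morphismRestrict_ι, ← Category.assoc, Scheme.homOfLE_ι]

variable (V : M.Opens) (f : (q ⁻¹ᵁ V : Scheme.{u}) ⟶ Z)

theorem exists_desc_of_local
    (hepi : ∀ O : M.Opens, O ≤ V → Epi (q ∣_ O))
    (hloc : ∀ m ∈ V, ∃ (O : M.Opens) (hO : O ≤ V), m ∈ O ∧ ∃ g : (O : Scheme.{u}) ⟶ Z,
      (q ∣_ O) ≫ g = X.homOfLE (q.preimage_mono hO) ≫ f) :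
    ∃ g : (V : Scheme.{u}) ⟶ Z, (q ∣_ V) ≫ g = f := by
  have hloc' : ∀ m : V, ∃ (O : M.Opens) (hO : O ≤ V), m.1 ∈ O ∧ ∃ g : (O : Scheme.{u}) ⟶ Z,
      (q ∣_ O) ≫ g = X.homOfLE (q.preimage_mono hO) ≫ f := fun m => hloc m.1 m.2
  choose O hO hmO g hg using hloc'
  let 𝒱 := coverOfLE V O hO (fun x hx => ⟨⟨x, hx⟩, hmO ⟨x, hx⟩⟩)
  have key : ∀ i j : V, M.homOfLE (inf_le_left : O i ⊓ O j ≤ O i) ≫ g i =
      M.homOfLE (inf_le_right : O i ⊓ O j ≤ O j) ≫ g j := by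
    intro i j
    haveI := hepi (O i ⊓ O j) (inf_le_left.trans (hO i))
    rw [← cancel_epi (q ∣_ (O i ⊓ O j)), ← Category.assoc, ← Category.assoc, restrict_homOfLE,
      restrict_homOfLE, Category.assoc, Category.assoc, hg, hg, ← Category.assoc,
      ← Category.assoc, Scheme.homOfLE_homOfLE, Scheme.homOfLE_homOfLE]
  have hcompat : ∀ i j : V, pullback.fst (M.homOfLE (hO i)) (M.homOfLE (hO j)) ≫ g i =
      pullback.snd (M.homOfLE (hO i)) (M.homOfLE (hO j)) ≫ g j := by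
    intro i j
    have hpb := isPullback_opens_inf_le (hO i) (hO j)
    rw [← cancel_epi hpb.isoPullback.hom, ← Category.assoc, ← Category.assoc,
      hpb.isoPullback_hom_fst, hpb.isoPullback_hom_snd]
    exact key i j
  refine ⟨𝒱.glueMorphisms g hcompat, ?_⟩
  let 𝒲 := coverOfLE (q ⁻¹ᵁ V) (fun i : V => q ⁻¹ᵁ O i) (fun i => q.preimage_mono (hO i))
    (fun x hx => ⟨⟨q.base x, hx⟩, hmO ⟨q.base x, hx⟩⟩)
  apply 𝒲.hom_ext
  intro (i : V)
  change X.homOfLE (q.preimage_mono (hO i)) ≫ (q ∣_ V) ≫ 𝒱.glueMorphisms g hcompat =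
    X.homOfLE (q.preimage_mono (hO i)) ≫ f
  rw [← Category.assoc, ← restrict_homOfLE q (hO i), Category.assoc]
  have := 𝒱.ι_glueMorphisms g hcompat i
  change M.homOfLE (hO i) ≫ _ = g i at this
  rw [this, hg]

end LemmaB


section LemmaD0

/-- factorisation of a morphism to an affine scheme through a morphism injective on global
sections whose image on global sections contains the needed functions -/
theorem exists_fac_of_affine {X' Y' Z' : Scheme.{u}} [IsAffine Z'] (π : X' ⟶ Y') (φ : X' ⟶ Z')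
    (hinj : Function.Injective π.appTop.hom)
    (hrange : ∀ b : Γ(Z', ⊤), φ.appTop.hom b ∈ Set.range π.appTop.hom) :
    ∃ ψ : Y' ⟶ Z', π ≫ ψ = φ := by
  let e : Γ(Y', ⊤) ≃+* π.appTop.hom.range :=
    RingEquiv.ofBijective π.appTop.hom.rangeRestrict
      ⟨fun a b hab => hinj (congrArg Subtype.val hab), π.appTop.hom.rangeRestrict_surjective⟩
  let ψr : Γ(Z', ⊤) →+* Γ(Y', ⊤) :=
    (e.symm : π.appTop.hom.range →+* Γ(Y', ⊤)).comp
      (φ.appTop.hom.codRestrict π.appTop.hom.range hrange)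
  have hψ : ∀ b, π.appTop.hom (ψr b) = φ.appTop.hom b := by
    intro b
    have h1 : π.appTop.hom.rangeRestrict (ψr b) =
        φ.appTop.hom.codRestrict π.appTop.hom.range hrange b := e.apply_symm_apply _
    exact congrArg Subtype.val h1
  have hcomp : CommRingCat.ofHom ψr ≫ π.appTop = φ.appTop := by
    ext b
    exact hψ b
  refine ⟨Y'.toSpecΓ ≫ Spec.map (CommRingCat.ofHom ψr) ≫ Z'.isoSpec.inv, ?_⟩
  rw [← Category.assoc, Scheme.toSpecΓ_naturality, Category.assoc, ← Category.assoc (Spec.map _),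
    ← Spec.map_comp, hcomp, ← Category.assoc, ← Scheme.toSpecΓ_naturality, Category.assoc]
  have : Z'.toSpecΓ ≫ Z'.isoSpec.inv = 𝟙 _ := Scheme.toSpecΓ_isoSpec_inv Z'
  rw [this, Category.comp_id]

end LemmaD0


section Exact
variable {X Y : Scheme.{u}}

/-- restriction from global sections -/
noncomputable abbrev resTop (X : Scheme.{u}) (W : X.Opens) : Γ(X, ⊤) ⟶ Γ(X, W) :=
  X.presheaf.map (homOfLE le_top).op

theorem appLE_resTop (f : X ⟶ Y) (V : Y.Opens) (W : X.Opens) (e : W ≤ f ⁻¹ᵁ V) (a : Γ(Y, ⊤)) :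
    (f.appLE V W e).hom ((resTop Y V).hom a) = (resTop X W).hom (f.appTop.hom a) := by
  have h1 : resTop Y V ≫ f.appLE V W e = f.appLE ⊤ W le_top := Scheme.Hom.map_appLE f e _
  have h2 : f.appTop ≫ resTop X W = f.appLE ⊤ W le_top := by
    rw [Scheme.Hom.appTop, Scheme.Hom.app_eq_appLE]
    exact Scheme.Hom.appLE_map f _ _
  rw [← CommRingCat.comp_apply, ← CommRingCat.comp_apply, h1, h2]

end Exact


section ExactBasic
variable {X R M : Scheme.{u}} (s t : R ⟶ X) (q : X ⟶ M)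

theorem isUnit_resTop_basicOpen (M : Scheme.{u}) (c' : Γ(M, ⊤)) :
    IsUnit ((resTop M (M.basicOpen c')).hom c') :=
  RingedSpace.isUnit_res_basicOpen M.toRingedSpace c'

include s t q in
theorem exact_basicOpen_aux [IsAffine X] [IsAffine R] (hq : t ≫ q = s ≫ q)
    (hexact : ∀ a : Γ(X, ⊤), s.appTop.hom a = t.appTop.hom a →
      ∃ γ : Γ(M, ⊤), q.appTop.hom γ = a) (c' : Γ(M, ⊤))
    (ĉ : Γ(X, ⊤)) (hĉ : q.appTop.hom c' = ĉ) (ŝ : Γ(R, ⊤)) (hŝ : s.appTop.hom ĉ = ŝ)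
    (es : R.basicOpen ŝ ≤ s ⁻¹ᵁ X.basicOpen ĉ) (et : R.basicOpen ŝ ≤ t ⁻¹ᵁ X.basicOpen ĉ)
    (eq : X.basicOpen ĉ ≤ q ⁻¹ᵁ (M.basicOpen c'))
    (a : Γ(X, X.basicOpen ĉ))
    (ha : (s.appLE (X.basicOpen ĉ) (R.basicOpen ŝ) es).hom a =
      (t.appLE (X.basicOpen ĉ) (R.basicOpen ŝ) et).hom a) :
    ∃ γ : Γ(M, M.basicOpen c'), (q.appLE (M.basicOpen c') (X.basicOpen ĉ) eq).hom γ = a := by
  have hŝt : t.appTop.hom ĉ = ŝ := by
    have h1 := congrArg Scheme.Hom.appTop hq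
    rw [Scheme.Hom.comp_appTop, Scheme.Hom.comp_appTop] at h1
    have h2 := congrArg (fun φ => φ.hom c') h1
    simp only [CommRingCat.hom_comp, RingHom.comp_apply] at h2
    rw [hĉ, hŝ] at h2
    exact h2
  obtain ⟨n, a₀, ha₀⟩ := exists_eq_pow_mul_of_isAffineOpen X ⊤ (isAffineOpen_top X) ĉ a
  have ha₀' : (resTop X (X.basicOpen ĉ)).hom a₀ = ((resTop X (X.basicOpen ĉ)).hom ĉ) ^ n * a :=
    ha₀
  have hs := congrArg (s.appLE (X.basicOpen ĉ) (R.basicOpen ŝ) es).hom ha₀'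
  have ht := congrArg (t.appLE (X.basicOpen ĉ) (R.basicOpen ŝ) et).hom ha₀'
  rw [map_mul, map_pow, appLE_resTop, appLE_resTop] at hs ht
  rw [hŝt] at ht
  rw [hŝ] at hs
  rw [← ha, ← hs] at ht
  have H : (resTop R (R.basicOpen ŝ)).hom (s.appTop.hom a₀ - t.appTop.hom a₀) = 0 := by
    rw [map_sub, ht, sub_self]
  obtain ⟨N, hN⟩ := exists_pow_mul_eq_zero_of_res_basicOpen_eq_zero_of_isAffineOpen R
    (isAffineOpen_top R) (s.appTop.hom a₀ - t.appTop.hom a₀) ŝ H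
  have h1 : s.appTop.hom (ĉ ^ N * a₀) = t.appTop.hom (ĉ ^ N * a₀) := by
    rw [map_mul, map_mul, map_pow, map_pow, hŝt, hŝ, ← sub_eq_zero, ← mul_sub]
    exact hN
  obtain ⟨γ₁, hγ₁⟩ := hexact _ h1
  obtain ⟨u, hu⟩ := isUnit_resTop_basicOpen M c'
  refine ⟨((u⁻¹ ^ (N + n) : (Γ(M, M.basicOpen c'))ˣ) : Γ(M, M.basicOpen c')) *
    (resTop M (M.basicOpen c')).hom γ₁, ?_⟩
  have hunit : IsUnit ((resTop X (X.basicOpen ĉ)).hom ĉ) := isUnit_resTop_basicOpen X ĉ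
  apply (hunit.pow (N + n)).mul_left_cancel
  have e1 : (resTop X (X.basicOpen ĉ)).hom ĉ =
      (q.appLE (M.basicOpen c') (X.basicOpen ĉ) eq).hom (u : Γ(M, M.basicOpen c')) := by
    rw [hu, appLE_resTop, hĉ]
  rw [e1, ← map_pow, ← map_mul, ← mul_assoc, ← Units.val_pow_eq_pow_val, ← Units.val_mul,
    ← mul_pow, mul_inv_cancel, one_pow, Units.val_one, one_mul, appLE_resTop, hγ₁, map_mul,
    map_pow, Units.val_pow_eq_pow_val, map_pow, ← e1, pow_add, mul_assoc, ← ha₀']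



theorem resLE_appTop' {X Y : Scheme.{u}} (f : X ⟶ Y) (U : Y.Opens) (V : X.Opens)
    (e : V ≤ f ⁻¹ᵁ U) :
    (f.resLE U V e).appTop = U.topIso.hom ≫ f.appLE U V e ≫ V.topIso.inv :=
  Scheme.Hom.resLE_app_top f e

include s t q in
theorem exact_basicOpen_sch [IsAffine X] [IsAffine R] (hq : t ≫ q = s ≫ q)
    (hexact : ∀ a : Γ(X, ⊤), s.appTop.hom a = t.appTop.hom a →
      ∃ γ : Γ(M, ⊤), q.appTop.hom γ = a) (c' : Γ(M, ⊤))
    (ĉ : Γ(X, ⊤)) (hĉ : q.appTop.hom c' = ĉ) (ŝ : Γ(R, ⊤)) (hŝ : s.appTop.hom ĉ = ŝ)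
    (es : R.basicOpen ŝ ≤ s ⁻¹ᵁ X.basicOpen ĉ) (et : R.basicOpen ŝ ≤ t ⁻¹ᵁ X.basicOpen ĉ)
    (eq : X.basicOpen ĉ ≤ q ⁻¹ᵁ (M.basicOpen c'))
    (a : Γ((X.basicOpen ĉ : Scheme.{u}), ⊤))
    (ha : (s.resLE (X.basicOpen ĉ) (R.basicOpen ŝ) es).appTop.hom a =
      (t.resLE (X.basicOpen ĉ) (R.basicOpen ŝ) et).appTop.hom a) :
    ∃ γ : Γ((M.basicOpen c' : Scheme.{u}), ⊤),
      (q.resLE (M.basicOpen c') (X.basicOpen ĉ) eq).appTop.hom γ = a := by
  rw [resLE_appTop', resLE_appTop'] at ha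
  simp only [CommRingCat.hom_comp, RingHom.comp_apply] at ha
  have ha' := (ConcreteCategory.bijective_of_isIso (R.basicOpen ŝ).topIso.inv).1 ha
  obtain ⟨γ, hγ⟩ := exact_basicOpen_aux s t q hq hexact c' ĉ hĉ ŝ hŝ es et eq _ ha'
  refine ⟨(M.basicOpen c').topIso.inv.hom γ, ?_⟩
  rw [resLE_appTop']
  simp only [CommRingCat.hom_comp, RingHom.comp_apply]
  have h1 : (M.basicOpen c').topIso.hom.hom ((M.basicOpen c').topIso.inv.hom γ) = γ := by
    rw [← CommRingCat.comp_apply, Iso.inv_hom_id]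
    rfl
  rw [h1, hγ, ← CommRingCat.comp_apply, Iso.hom_inv_id]
  rfl

end ExactBasic

section ClaimL
variable {X R M : Scheme.{u}} (s t : R ⟶ X) (q : X ⟶ M)

theorem resLE_appTop_injective' [IsSchemeTheoreticallyDominant q] [QuasiCompact q] (O : M.Opens)
    (X' : X.Opens) (e : X' = q ⁻¹ᵁ O) :
    Function.Injective (q.resLE O X' (le_of_eq e)).appTop.hom := by
  subst e
  rw [Scheme.Hom.resLE_eq_morphismRestrict]
  exact resLE_appTop_injective q O

/-- invariance of a morphism defined on an open of `X` under the arrows of `R` -/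
def InvOn (X' : X.Opens) {Z : Scheme.{u}} (f : (X' : Scheme.{u}) ⟶ Z) : Prop :=
  ∀ ⦃T : Scheme.{u}⦄ (r : T ⟶ R) (a b : T ⟶ (X' : Scheme.{u})),
    a ≫ X'.ι = r ≫ t → b ≫ X'.ι = r ≫ s → a ≫ f = b ≫ f

include s t q in
theorem exists_fac_basicOpen_aux [IsAffine X] [IsAffine R] [IsSchemeTheoreticallyDominant q]
    [QuasiCompact q] (hq : t ≫ q = s ≫ q)
    (hexact : ∀ a : Γ(X, ⊤), s.appTop.hom a = t.appTop.hom a →
      ∃ γ : Γ(M, ⊤), q.appTop.hom γ = a) (c' : Γ(M, ⊤))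
    (X' : X.Opens) (e : X' = q ⁻¹ᵁ (M.basicOpen c'))
    {Z' : Scheme.{u}} [IsAffine Z'] (φ : (X' : Scheme.{u}) ⟶ Z') (hφ : InvOn s t X' φ) :
    ∃ ψ : (M.basicOpen c' : Scheme.{u}) ⟶ Z', q.resLE (M.basicOpen c') X' (le_of_eq e) ≫ ψ = φ := by
  have e' : X' = X.basicOpen (q.appTop.hom c') := by
    rw [e]
    exact Scheme.preimage_basicOpen_top q c'
  subst e'
  apply exists_fac_of_affine _ φ (resLE_appTop_injective' q _ _ e)
  intro b
  have es : R.basicOpen (s.appTop.hom (q.appTop.hom c')) ≤ s ⁻¹ᵁ X.basicOpen (q.appTop.hom c') :=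
    le_of_eq (Scheme.preimage_basicOpen_top s _).symm
  have et : R.basicOpen (s.appTop.hom (q.appTop.hom c')) ≤ t ⁻¹ᵁ X.basicOpen (q.appTop.hom c') := by
    have h1 := congrArg Scheme.Hom.appTop hq
    rw [Scheme.Hom.comp_appTop, Scheme.Hom.comp_appTop] at h1
    have h2 := congrArg (fun φ => φ.hom c') h1
    simp only [CommRingCat.hom_comp, RingHom.comp_apply] at h2
    rw [← h2]
    exact le_of_eq (Scheme.preimage_basicOpen_top t _).symm
  have hinv := hφ (R.basicOpen (s.appTop.hom (q.appTop.hom c'))).ι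
    (t.resLE _ _ et) (s.resLE _ _ es) (Scheme.Hom.resLE_comp_ι _ _) (Scheme.Hom.resLE_comp_ι _ _)
  have h3 := congrArg Scheme.Hom.appTop hinv
  rw [Scheme.Hom.comp_appTop, Scheme.Hom.comp_appTop] at h3
  have h4 := congrArg (fun ψ => ψ.hom b) h3
  simp only [CommRingCat.hom_comp, RingHom.comp_apply] at h4
  exact exact_basicOpen_sch s t q hq hexact c' _ rfl _ rfl es et (le_of_eq e) _ h4.symm

end ClaimL


section OpenMap
variable {X R M : Scheme.{u}} (s t : R ⟶ X) (q : X ⟶ M)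

include s t in
theorem isOpenMap_of_orbits (hcl : IsClosedMap q.base) (hsurj : Function.Surjective q.base)
    (hto : IsOpenMap t.base)
    (hfib : ∀ x y : X, q.base x = q.base y ↔ ∃ r : R, t.base r = x ∧ s.base r = y) :
    IsOpenMap q.base := by
  have hquot : Topology.IsQuotientMap q.base := hcl.isQuotientMap q.base.hom.continuous hsurj
  intro O hO
  rw [← hquot.isOpen_preimage]
  have : q.base ⁻¹' (q.base '' O) = t.base '' (s.base ⁻¹' O) := by
    ext x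
    constructor
    · rintro ⟨y, hy, hxy⟩
      obtain ⟨r, hr1, hr2⟩ := (hfib x y).mp hxy.symm
      exact ⟨r, by rw [Set.mem_preimage, hr2]; exact hy, hr1⟩
    · rintro ⟨r, hr, rfl⟩
      exact ⟨s.base r, hr, ((hfib _ _).mpr ⟨r, rfl, rfl⟩).symm⟩
  rw [this]
  exact hto _ (hO.preimage s.base.hom.continuous)

end OpenMap

section AffCoeq
variable {X R M : Scheme.{u}} (s t : R ⟶ X) (q : X ⟶ M)

theorem epi_restrict [Surjective q] [IsSchemeTheoreticallyDominant q] [QuasiCompact q]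
    (O : M.Opens) : Epi (q ∣_ O) := by
  haveI : Surjective (q ∣_ O) := IsZariskiLocalAtTarget.restrict (P := @Surjective) inferInstance O
  haveI : QuasiCompact (q ∣_ O) :=
    IsZariskiLocalAtTarget.restrict (P := @QuasiCompact) inferInstance O
  haveI : IsSchemeTheoreticallyDominant (q ∣_ O) :=
    IsSchemeTheoreticallyDominant.of_isPullback (isPullback_morphismRestrict q O).flip
  exact epi_of_surjective_of_std _

variable {s t}

theorem InvOn.apply_eq {X' : X.Opens} {Z : Scheme.{u}} {f : (X' : Scheme.{u}) ⟶ Z}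
    (hf : InvOn s t X' f) (r : R) (x y : (X' : Scheme.{u})) (hx : t.base r = X'.ι.base x)
    (hy : s.base r = X'.ι.base y) : f.base x = f.base y := by
  have hpt : ∀ z, (R.fromSpecResidueField r).base z = r := by
    intro z
    have := Scheme.range_fromSpecResidueField r
    have hz : (R.fromSpecResidueField r).base z ∈ Set.range (R.fromSpecResidueField r).base :=
      ⟨z, rfl⟩
    rw [this] at hz
    exact hz
  have hrt : Set.range (R.fromSpecResidueField r ≫ t).base ⊆ Set.range X'.ι.base := by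
    rintro _ ⟨z, rfl⟩
    rw [Scheme.Opens.range_ι, Scheme.Hom.comp_apply, hpt, hx]
    exact x.2
  have hrs : Set.range (R.fromSpecResidueField r ≫ s).base ⊆ Set.range X'.ι.base := by
    rintro _ ⟨z, rfl⟩
    rw [Scheme.Opens.range_ι, Scheme.Hom.comp_apply, hpt, hy]
    exact y.2
  have h1 := hf (R.fromSpecResidueField r) (IsOpenImmersion.lift X'.ι _ hrt)
    (IsOpenImmersion.lift X'.ι _ hrs) (IsOpenImmersion.lift_fac _ _ _)
    (IsOpenImmersion.lift_fac _ _ _)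
  obtain ⟨z₀⟩ : Nonempty (Spec (R.residueField r)) := inferInstance
  have ex : (IsOpenImmersion.lift X'.ι _ hrt).base z₀ = x := by
    apply X'.ι.isOpenEmbedding.injective
    rw [← Scheme.Hom.comp_apply, IsOpenImmersion.lift_fac, Scheme.Hom.comp_apply, hpt, hx]
  have ey : (IsOpenImmersion.lift X'.ι _ hrs).base z₀ = y := by
    apply X'.ι.isOpenEmbedding.injective
    rw [← Scheme.Hom.comp_apply, IsOpenImmersion.lift_fac, Scheme.Hom.comp_apply, hpt, hy]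
  rw [← ex, ← ey, ← Scheme.Hom.comp_apply, ← Scheme.Hom.comp_apply, h1]

theorem InvOn.of_le {X' X'' : X.Opens} (hle : X'' ≤ X') {Z : Scheme.{u}}
    {f : (X' : Scheme.{u}) ⟶ Z} (hf : InvOn s t X' f) : InvOn s t X'' (X.homOfLE hle ≫ f) := by
  intro T r a b ha hb
  rw [← Category.assoc, ← Category.assoc]
  apply hf r
  · rw [Category.assoc, Scheme.homOfLE_ι, ha]
  · rw [Category.assoc, Scheme.homOfLE_ι, hb]

theorem InvOn.of_comp_mono {X' : X.Opens} {Z Z' : Scheme.{u}} {f : (X' : Scheme.{u}) ⟶ Z}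
    (g : Z ⟶ Z') [Mono g] (hf : InvOn s t X' (f ≫ g)) : InvOn s t X' f := by
  intro T r a b ha hb
  rw [← cancel_mono g, Category.assoc, Category.assoc]
  exact hf r a b ha hb

variable (s t)

include s t in
/-- the affine quotient is a categorical quotient over every open of the target -/
theorem affCoeq [IsAffine X] [IsAffine R] [IsAffine M] [Surjective q]
    [IsSchemeTheoreticallyDominant q] [QuasiCompact q] (hq : t ≫ q = s ≫ q)
    (hexact : ∀ a : Γ(X, ⊤), s.appTop.hom a = t.appTop.hom a →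
      ∃ γ : Γ(M, ⊤), q.appTop.hom γ = a)
    (hopen : IsOpenMap q.base)
    (hfib : ∀ x y : X, q.base x = q.base y ↔ ∃ r : R, t.base r = x ∧ s.base r = y)
    (V : M.Opens) {Z : Scheme.{u}} (f : (q ⁻¹ᵁ V : Scheme.{u}) ⟶ Z)
    (hf : InvOn s t (q ⁻¹ᵁ V) f) : ∃ g : (V : Scheme.{u}) ⟶ Z, (q ∣_ V) ≫ g = f := by
  apply exists_desc_of_local q V f (fun O _ => epi_restrict q O)
  intro m hm
  obtain ⟨x, rfl⟩ := q.surjective m
  let x' : (q ⁻¹ᵁ V : Scheme.{u}) := ⟨x, hm⟩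
  obtain ⟨Z', hZ', hzZ'⟩ : ∃ Z' : Z.Opens, IsAffineOpen Z' ∧ f.base x' ∈ Z' := by
    obtain ⟨_, ⟨Z', hZ', rfl⟩, hzZ', -⟩ :=
      Z.isBasis_affineOpens.exists_subset_of_mem_open (Set.mem_univ (f.base x')) isOpen_univ
    exact ⟨Z', hZ', hzZ'⟩
  -- the saturated open `f⁻¹ Z'` and its image in `M`
  let P₁ : X.Opens := (q ⁻¹ᵁ V).ι ''ᵁ (f ⁻¹ᵁ Z')
  have hP₁V : P₁ ≤ q ⁻¹ᵁ V := by
    rintro _ ⟨y, -, rfl⟩
    exact y.2
  let O₁ : M.Opens := ⟨q.base '' (P₁ : Set X), hopen _ P₁.2⟩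
  have hxP₁ : x ∈ P₁ := ⟨x', hzZ', rfl⟩
  have hmO₁ : q.base x ∈ O₁ := ⟨x, hxP₁, rfl⟩
  obtain ⟨_, ⟨c', rfl⟩, hmc, hcO₁⟩ := Opens.isBasis_iff_nbhd.mp (isBasis_basicOpen M) hmO₁
  have hO₁V : O₁ ≤ V := by
    rintro _ ⟨y, hy, rfl⟩
    exact hP₁V hy
  have hcV : M.basicOpen c' ≤ V := le_trans hcO₁ hO₁V
  -- saturation
  have hsat : q ⁻¹ᵁ (M.basicOpen c') ≤ P₁ := by
    intro y hy
    obtain ⟨y₁, hy₁, hy₁y⟩ := hcO₁ hy
    obtain ⟨r, hr1, hr2⟩ := (hfib y₁ y).mp hy₁y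
    obtain ⟨y₁', hy₁', rfl⟩ := hy₁
    have hyV : y ∈ q ⁻¹ᵁ V := q.preimage_mono hcV hy
    have h1 := hf.apply_eq r y₁' ⟨y, hyV⟩ hr1 hr2
    refine ⟨⟨y, hyV⟩, ?_, rfl⟩
    change f.base ⟨y, hyV⟩ ∈ Z'
    rw [← h1]
    exact hy₁'
  refine ⟨M.basicOpen c', hcV, hmc, ?_⟩
  -- the restriction of `f` to `q⁻¹ (D c')` lands in `Z'`
  have hrange : Set.range (X.homOfLE (q.preimage_mono hcV) ≫ f).base ⊆ Set.range Z'.ι.base := by
    rintro _ ⟨y, rfl⟩
    rw [Scheme.Opens.range_ι, Scheme.Hom.comp_apply]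
    obtain ⟨y', hy', hyy'⟩ := hsat y.2
    have : (X.homOfLE (q.preimage_mono hcV)).base y = y' := by
      apply (q ⁻¹ᵁ V).ι.isOpenEmbedding.injective
      rw [← Scheme.Hom.comp_apply, Scheme.homOfLE_ι]
      exact hyy'.symm
    rw [this]
    exact hy'
  let φ : (q ⁻¹ᵁ (M.basicOpen c') : Scheme.{u}) ⟶ Z' := IsOpenImmersion.lift Z'.ι _ hrange
  have hφ : φ ≫ Z'.ι = X.homOfLE (q.preimage_mono hcV) ≫ f := IsOpenImmersion.lift_fac _ _ _
  haveI : IsAffine (Z' : Scheme.{u}) := hZ'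
  have hφinv : InvOn s t (q ⁻¹ᵁ (M.basicOpen c')) φ := by
    apply InvOn.of_comp_mono Z'.ι
    rw [hφ]
    exact hf.of_le _
  obtain ⟨ψ, hψ⟩ := exists_fac_basicOpen_aux s t q hq hexact c' _ rfl φ hφinv
  refine ⟨ψ ≫ Z'.ι, ?_⟩
  rw [← Category.assoc, ← Scheme.Hom.resLE_eq_morphismRestrict q, hψ, hφ]

end AffCoeq

end Groth.Agent.Lib.Helper4.AffQuotCoeq1
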