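import Mathlib
import Groth.Prelude.Def_AlgGrp
import Groth.Agent.Lib.Helper4.Rigidity1
import Groth.Agent.Lib.Helper6.GenFib.Basic

/-!
# formal consequences of the Albanese universal property (S14826, S14834); isMonHom_of_pointed' for proper geometrically integral groups (helper4)
-/

set_option backward.isDefEq.respectTransparency.types false
set_option synthInstance.maxHeartbeats 400000
set_option autoImplicit false
set_option linter.unusedSectionVars false
set_option linter.style.haveILetI false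
set_option linter.unusedSimpArgs false
universe u v w
open CategoryTheory CategoryTheory.Limits AlgebraicGeometry TopologicalSpace Opposite
open MonoidalCategory CartesianMonoidalCategory MonObj GrpObj

namespace Groth.Agent.Lib.Helper4.AlbFormal1

variable {k : Type u} [Field k]

/-- rigidity: a pointed morphism from a proper geometrically integral group to a separated lft
group is a homomorphism -/
theorem isMonHom_of_pointed' (A C : Over (Spec (CommRingCat.of k))) [GrpObj A] [GrpObj C]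
    [IsProper A.hom] [GeometricallyIntegral A.hom] [LocallyOfFiniteType C.hom]
    [IsSeparated C.hom]
    (t : A ⟶ C) (ht0 : η[A] ≫ t = η[C]) : IsMonHom t := by
  haveI : LocallyOfFiniteType A.hom := inferInstance
  obtain ⟨d, hd⟩ : ∃ d : A ⊗ A ⟶ C, d = (μ[A] ≫ t) * ((fst A A ≫ t) * (snd A A ≫ t))⁻¹ :=
    ⟨_, rfl⟩
  have hone : (toUnit A ≫ η[A] : A ⟶ A) = 1 := rfl
  have honeC : (toUnit A ≫ η[C] : A ⟶ C) = 1 := rfl
  have hV : lift (𝟙 A) (toUnit A ≫ η[A]) ≫ d = toUnit A ≫ η[C] := by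
    have h1 : lift (𝟙 A) (toUnit A ≫ η[A]) ≫ μ[A] = 𝟙 A := by
      rw [← Hom.mul_def, hone]; exact _root_.mul_one _
    rw [hd, MonObj.comp_mul, GrpObj.comp_inv, MonObj.comp_mul, ← Category.assoc,
      ← Category.assoc, ← Category.assoc, lift_fst, lift_snd, h1, Category.id_comp,
      Category.assoc, ht0, honeC, _root_.mul_one, mul_inv_cancel]
  have hW : lift (toUnit A ≫ η[A]) (𝟙 A) ≫ d = toUnit A ≫ η[C] := by
    have h1 : lift (toUnit A ≫ η[A]) (𝟙 A) ≫ μ[A] = 𝟙 A := by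
      rw [← Hom.mul_def, hone]; exact _root_.one_mul _
    rw [hd, MonObj.comp_mul, GrpObj.comp_inv, MonObj.comp_mul, ← Category.assoc,
      ← Category.assoc, ← Category.assoc, lift_fst, lift_snd, h1, Category.id_comp,
      Category.assoc, ht0, honeC, _root_.one_mul, mul_inv_cancel]
  have key := Groth.Agent.Lib.Helper4.Rigidity1.rigidity A A C d η[A] η[A] η[C] hV hW
  have hmul : μ[A] ≫ t = (fst A A ≫ t) * (snd A A ≫ t) := by
    have h1 : d = 1 := key
    rw [hd] at h1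
    exact mul_inv_eq_one.mp h1
  refine { one_hom := ht0, mul_hom := ?_ }
  rw [hmul, Hom.mul_def]
  congr 1

/-- a point composed with itself inverse is the unit -/
lemma point_mul_inv (A' : Over (Spec (CommRingCat.of k))) [GrpObj A']
    (c : 𝟙_ (Over (Spec (CommRingCat.of k))) ⟶ A') : c * c⁻¹ = η[A'] := by
  rw [mul_inv_cancel, MonObj.one_eq_one]

theorem alb_translate (XX A A' : Over (Spec (CommRingCat.of k)))
    [GrpObj A] [IsProper A.hom] [GeometricallyIntegral A.hom]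
    [GrpObj A'] [IsProper A'.hom]
    (x₀ : 𝟙_ (Over (Spec (CommRingCat.of k))) ⟶ XX) (alb : XX ⟶ A) (halb : x₀ ≫ alb = η[A])
    (huniv : ∀ g : XX ⟶ A', x₀ ≫ g = η[A'] → ∃! h : A ⟶ A', IsMonHom h ∧ alb ≫ h = g)
    (φ : XX ⟶ A') :
    ∃ h : A ⟶ A', IsMonHom h ∧ (alb ≫ h) * (toUnit XX ≫ x₀ ≫ φ) = φ ∧
      ∀ g : A ⟶ A', alb ≫ g = φ → g = h * (toUnit A ≫ x₀ ≫ φ) := by
  obtain ⟨c, hc⟩ : ∃ c : 𝟙_ (Over (Spec (CommRingCat.of k))) ⟶ A', c = x₀ ≫ φ := ⟨_, rfl⟩
  rw [← hc]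
  obtain ⟨φ', hφ'⟩ : ∃ φ' : XX ⟶ A', φ' = φ * (toUnit XX ≫ c)⁻¹ := ⟨_, rfl⟩
  have h1 : x₀ ≫ φ' = η[A'] := by
    rw [hφ', MonObj.comp_mul, GrpObj.comp_inv, ← Category.assoc,
      toUnit_unique (x₀ ≫ toUnit XX) (𝟙 _), Category.id_comp, ← hc]
    exact point_mul_inv A' c
  obtain ⟨h, ⟨hh, hh'⟩, huniq⟩ := huniv φ' h1
  refine ⟨h, hh, ?_, ?_⟩
  · rw [hh', hφ', inv_mul_cancel_right]
  · intro g hg
    obtain ⟨g', hg'⟩ : ∃ g' : A ⟶ A', g' = g * (toUnit A ≫ c)⁻¹ := ⟨_, rfl⟩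
    have h2 : η[A] ≫ g' = η[A'] := by
      rw [hg', MonObj.comp_mul, GrpObj.comp_inv, ← Category.assoc,
        toUnit_unique (η[A] ≫ toUnit A) (𝟙 _), Category.id_comp, ← halb, Category.assoc, hg, ← hc]
      exact point_mul_inv A' c
    haveI : IsMonHom g' := isMonHom_of_pointed' A A' g' h2
    have h3 : alb ≫ g' = φ' := by
      rw [hg', hφ', MonObj.comp_mul, GrpObj.comp_inv, hg, ← Category.assoc,
        toUnit_unique (alb ≫ toUnit A) (toUnit XX)]
    have h4 : g' = h := huniq g' ⟨inferInstance, h3⟩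
    rw [← h4, hg', inv_mul_cancel_right]

theorem main_S14826 (k : Type u) [Field k] (X : Scheme.{u}) [X.Over (Spec (CommRingCat.of k))]
    [IsProper (X ↘ Spec (CommRingCat.of k))]
    (x₀ : 𝟙_ (Over (Spec (CommRingCat.of k))) ⟶ Over.mk (X ↘ Spec (CommRingCat.of k)))
    (A : Over (Spec (CommRingCat.of k))) [GrpObj A] [IsProper A.hom] [GeometricallyIntegral A.hom]
    (alb : Over.mk (X ↘ Spec (CommRingCat.of k)) ⟶ A) (halb : x₀ ≫ alb = η[A])
    (huniv : ∀ (B : Over (Spec (CommRingCat.of k))) [GrpObj B] [IsProper B.hom] [GeometricallyReduced B.hom] [ConnectedSpace ↥B.left]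
      (g : Over.mk (X ↘ Spec (CommRingCat.of k)) ⟶ B), x₀ ≫ g = η[B] → ∃! h : A ⟶ B, IsMonHom h ∧ alb ≫ h = g)
    (A' : Over (Spec (CommRingCat.of k))) [GrpObj A'] [IsProper A'.hom] [GeometricallyReduced A'.hom] [ConnectedSpace ↥A'.left]
    (φ : Over.mk (X ↘ Spec (CommRingCat.of k)) ⟶ A') :
    ∃ h : A ⟶ A', IsMonHom h ∧ (alb ≫ h) * (toUnit (Over.mk (X ↘ Spec (CommRingCat.of k))) ≫ x₀ ≫ φ) = φ ∧
      ∀ g : A ⟶ A', alb ≫ g = φ → g = h * (toUnit A ≫ x₀ ≫ φ) :=
  alb_translate _ A A' x₀ alb halb (fun g hg => huniv A' g hg) φ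

/-- a morphism inducing isomorphisms on all sections is scheme-theoretically dominant -/
theorem schDominant_of_isIso_app {X Y : Scheme.{u}} (r : X ⟶ Y)
    (hr : ∀ U : Y.Opens, IsIso (r.app U)) : IsSchemeTheoreticallyDominant r := by
  rw [isSchemeTheoreticallyDominant_iff]
  apply Scheme.IdealSheafData.ext
  funext U
  rw [Scheme.IdealSheafData.ideal_bot]
  refine le_bot_iff.1 ((Scheme.Hom.ideal_ker_le r U).trans ?_)
  haveI := hr U.1
  have hinj : Function.Injective (r.app U.1).hom :=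
    ((ConcreteCategory.isIso_iff_bijective (r.app U.1)).1 inferInstance).1
  rw [(RingHom.injective_iff_ker_eq_bot _).1 hinj]

theorem main_S14834 (k : Type u) [Field k] (X Y : Over (Spec (CommRingCat.of k)))
    [IsProper X.hom] [IsProper Y.hom]
    (x₀ : 𝟙_ (Over (Spec (CommRingCat.of k))) ⟶ X)
    (A : Over (Spec (CommRingCat.of k))) [GrpObj A] [IsProper A.hom] [GeometricallyIntegral A.hom]
    (alb : X ⟶ A) (halb : x₀ ≫ alb = η[A])
    (huniv : ∀ (B : Over (Spec (CommRingCat.of k))) [GrpObj B] [IsProper B.hom] [GeometricallyReduced B.hom] [ConnectedSpace ↥B.left]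
      (g : X ⟶ B), x₀ ≫ g = η[B] → ∃! h : A ⟶ B, IsMonHom h ∧ alb ≫ h = g)
    (r : X ⟶ Y) (hr : ∀ U : Y.left.Opens, IsIso (r.left.app U)) (s : Y ⟶ A) [IsFinite s.left]
    (hrs : r ≫ s = alb)
    (B : Over (Spec (CommRingCat.of k))) [GrpObj B] [IsProper B.hom] [GeometricallyReduced B.hom] [ConnectedSpace ↥B.left]
    (g : Y ⟶ B) (hg : x₀ ≫ r ≫ g = η[B]) :
    ∃! h : A ⟶ B, IsMonHom h ∧ s ≫ h = g := by
  haveI := schDominant_of_isIso_app r.left hr
  have cancel : ∀ a b : Y ⟶ B, r ≫ a = r ≫ b → a = b := by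
    intro a b hab
    ext1
    refine Groth.Agent.Lib.Helper6.GenFib.ext_of_isSchemeTheoreticallyDominant r.left B.hom ?_ ?_
    · rw [Over.w a, Over.w b]
    · rw [← Over.comp_left, ← Over.comp_left, hab]
  obtain ⟨h, ⟨hh, hh'⟩, huniq⟩ := huniv B (r ≫ g) hg
  refine ⟨h, ⟨hh, ?_⟩, ?_⟩
  · apply cancel
    rw [← Category.assoc, hrs, hh']
  · rintro h' ⟨hh1, hh2⟩
    apply huniq
    refine ⟨hh1, ?_⟩
    rw [← hrs, Category.assoc, hh2]

end Groth.Agent.Lib.Helper4.AlbFormal1
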