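import Mathlib
import Groth.Prelude.Def_Coh
import Groth.Agent.Lib.Helper1.HH0

/-!
# Albanese image a point iff Albanese variety trivial; maps from schemes with H^0 = k into affine opens factor through Spec k (helper4)
-/

set_option backward.isDefEq.respectTransparency.types false
set_option synthInstance.maxHeartbeats 400000
set_option autoImplicit false
set_option linter.unusedSectionVars false
set_option linter.style.haveILetI false
set_option linter.unusedSimpArgs false
universe u v w
open CategoryTheory CategoryTheory.Limits AlgebraicGeometry TopologicalSpace Opposite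
open MonoidalCategory CartesianMonoidalCategory MonObj GrpObj

namespace Groth.Agent.Lib.Helper4.AlbTriv1

variable (k : Type u) [Field k] (X : Scheme.{u}) [X.Over (Spec (CommRingCat.of k))]

/-- `H^0(X, O_X)` one-dimensional ⇒ `k → Γ(X, ⊤)` bijective -/
theorem bijective_toGlobal (h0 : Module.finrank k (Coh.HH X (Coh.structureModule X) 0) = 1) :
    Function.Bijective (Coh.toGlobal (X ↘ Spec (CommRingCat.of k))) := by
  letI : Algebra k Γ(X, ⊤) := (Coh.toGlobal (X ↘ Spec (CommRingCat.of k))).toAlgebra
  let E := Groth.Agent.Helper1.HH0.equiv X (Coh.structureModule X)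
  let toG : ↑((Coh.structureModule X).val.obj (op ⊤)) → Γ(X, ⊤) := fun m => m
  let ofG : Γ(X, ⊤) → ↑((Coh.structureModule X).val.obj (op ⊤)) := fun m => m
  let e2 : Coh.HH X (Coh.structureModule X) 0 ≃ₗ[k] Γ(X, ⊤) :=
    { toFun := fun x => toG (E x)
      invFun := fun s => E.symm (ofG s)
      map_add' := fun x y => by
        show toG (E (x + y)) = toG (E x) + toG (E y)
        rw [map_add]; rfl
      map_smul' := fun a x => by
        show toG (E (a • x)) = algebraMap k Γ(X, ⊤) a * toG (E x)
        rw [Groth.Agent.Helper1.HH0.equiv_smul_over]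
        rfl
      left_inv := fun x => E.left_inv x
      right_inv := fun s => E.right_inv (ofG s) }
  have h1 : Module.finrank k Γ(X, ⊤) = 1 := by rw [← LinearEquiv.finrank_eq e2, h0]
  exact (Algebra.finrank_eq_one_iff_bijective_algebraMap).1 h1


theorem exists_factor (hb : Function.Bijective (Coh.toGlobal (X ↘ Spec (CommRingCat.of k))))
    {Z : Scheme.{u}} (g : X ⟶ Z) (U : Z.Opens) (hU : IsAffineOpen U)
    (hg : Set.range g ⊆ (U : Set Z)) :
    ∃ s : Spec (CommRingCat.of k) ⟶ Z, g = (X ↘ Spec (CommRingCat.of k)) ≫ s := by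
  let p := X ↘ Spec (CommRingCat.of k)
  have hi : Function.Bijective (Scheme.ΓSpecIso (CommRingCat.of k)).inv.hom :=
    (ConcreteCategory.isIso_iff_bijective (Scheme.ΓSpecIso (CommRingCat.of k)).inv).1 inferInstance
  have hp : Function.Bijective p.appTop.hom := by
    have h1 : (Coh.toGlobal p : k → _) = p.appTop.hom ∘ (Scheme.ΓSpecIso (CommRingCat.of k)).inv.hom :=
      rfl
    have h2 : Function.Bijective (p.appTop.hom ∘ (Scheme.ΓSpecIso (CommRingCat.of k)).inv.hom) := by
      rw [← h1]; exact hb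
    exact (Function.Bijective.of_comp_iff _ hi).1 h2
  haveI : IsIso p.appTop := (ConcreteCategory.isIso_iff_bijective p.appTop).2 hp
  haveI : IsAffine (U : Scheme.{u}) := hU
  let g' : X ⟶ (U : Scheme.{u}) := IsOpenImmersion.lift U.ι g (by simpa using hg)
  have hg' : g' ≫ U.ι = g := IsOpenImmersion.lift_fac _ _ _
  have n1 := Scheme.toSpecΓ_naturality g'
  have n2 := Scheme.toSpecΓ_naturality p
  have h3 : X.toSpecΓ = p ≫ (Spec (CommRingCat.of k)).toSpecΓ ≫ inv (Spec.map p.appTop) := by
    rw [← Category.assoc, n2, Category.assoc, IsIso.hom_inv_id, Category.comp_id]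
  refine ⟨(Spec (CommRingCat.of k)).toSpecΓ ≫ inv (Spec.map p.appTop) ≫ Spec.map g'.appTop ≫
    inv (U : Scheme.{u}).toSpecΓ ≫ U.ι, ?_⟩
  calc g = (g' ≫ (U : Scheme.{u}).toSpecΓ) ≫ inv (U : Scheme.{u}).toSpecΓ ≫ U.ι := by
        rw [Category.assoc, IsIso.hom_inv_id_assoc, hg']
    _ = _ := by
        rw [n1, h3]
        simp only [Category.assoc]
        rfl


theorem isMonHom_trivial {C : Type*} [Category C] [CartesianMonoidalCategory C] (A B : C)
    [MonObj A] [MonObj B] : IsMonHom (toUnit A ≫ η[B]) where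
  one_hom := by
    rw [← Category.assoc, toUnit_unique (η[A] ≫ toUnit A) (𝟙 _), Category.id_comp]
  mul_hom := by
    rw [← Category.assoc, toUnit_unique (μ[A] ≫ toUnit A) (toUnit _)]
    have : (toUnit A ≫ η[B]) ⊗ₘ (toUnit A ≫ η[B]) = lift (toUnit _ ≫ η[B]) (toUnit _ ≫ η[B]) := by
      ext1 <;> simp
    rw [this, lift_comp_one_left]

theorem main (k : Type u) [Field k] (X : Scheme.{u}) [X.Over (Spec (CommRingCat.of k))]
    [IsProper (X ↘ Spec (CommRingCat.of k))] (h0 : Module.finrank k (Coh.HH X (Coh.structureModule X) 0) = 1)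
    (x₀ : 𝟙_ (Over (Spec (CommRingCat.of k))) ⟶ Over.mk (X ↘ Spec (CommRingCat.of k)))
    (A : Over (Spec (CommRingCat.of k))) [GrpObj A] [IsProper A.hom] [GeometricallyIntegral A.hom]
    (alb : Over.mk (X ↘ Spec (CommRingCat.of k)) ⟶ A) (halb : x₀ ≫ alb = η[A])
    (huniv : ∀ (B : Over (Spec (CommRingCat.of k))) [GrpObj B] [IsProper B.hom] [GeometricallyReduced B.hom] [ConnectedSpace ↥B.left]
      (g : Over.mk (X ↘ Spec (CommRingCat.of k)) ⟶ B), x₀ ≫ g = η[B] → ∃! h : A ⟶ B, IsMonHom h ∧ alb ≫ h = g) :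
    (Set.range alb.left.base).Subsingleton ↔ IsIso A.hom := by
  haveI : Subsingleton (Spec (CommRingCat.of k)) :=
    inferInstanceAs (Subsingleton (PrimeSpectrum k))
  constructor
  · intro hsub
    let p := X ↘ Spec (CommRingCat.of k)
    let pt : Spec (CommRingCat.of k) := IsLocalRing.closedPoint k
    let e : A.left := η[A].left pt
    have hx : x₀.left ≫ alb.left = η[A].left := by rw [← Over.comp_left, halb]
    have he : e ∈ Set.range alb.left.base := ⟨x₀.left pt, by
      show (x₀.left ≫ alb.left) pt = e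
      rw [hx]⟩
    obtain ⟨U, hU, heU⟩ : ∃ U : A.left.Opens, IsAffineOpen U ∧ e ∈ U := by
      obtain ⟨_, ⟨U, hU, rfl⟩, hxU, -⟩ := A.left.isBasis_affineOpens.exists_subset_of_mem_open
        (Set.mem_univ e) isOpen_univ
      exact ⟨U, hU, hxU⟩
    have hr : Set.range alb.left ⊆ (U : Set A.left) := by
      rintro _ ⟨z, rfl⟩
      have : alb.left z = e := hsub ⟨z, rfl⟩ he
      rw [this]; exact heU
    obtain ⟨s, hs⟩ := exists_factor k X (bijective_toGlobal k X h0) alb.left U hU hr
    have hxp : x₀.left ≫ p = 𝟙 _ := Over.w x₀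
    have hs' : s = η[A].left := by
      rw [← hx, hs, ← Category.assoc, hxp, Category.id_comp]
    have halb' : alb = toUnit _ ≫ η[A] := by
      ext1
      rw [hs, hs', Over.comp_left]
      rfl
    haveI : IsIntegral A.left := GeometricallyIntegral.isIntegral_of_subsingleton A.hom
    obtain ⟨h, -, huniq⟩ := huniv A alb halb
    have h1 := huniq (𝟙 A) ⟨inferInstance, Category.comp_id _⟩
    have h2 := huniq (toUnit A ≫ η[A]) ⟨isMonHom_trivial A A, by
      rw [halb', Category.assoc, ← Category.assoc η[A], toUnit_unique (η[A] ≫ toUnit A) (𝟙 _),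
        Category.id_comp]⟩
    have h3 : 𝟙 A = toUnit A ≫ η[A] := h1.trans h2.symm
    refine ⟨η[A].left, ?_, Over.w η[A]⟩
    have := congrArg (fun t => t.left) h3
    simp only [Over.id_left, Over.comp_left] at this
    rw [this]
    rfl
  · intro hiso a b _ _
    exact (A.hom.homeomorph).injective (Subsingleton.elim _ _)

end Groth.Agent.Lib.Helper4.AlbTriv1
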