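import Mathlib
import Groth.Agent.S11559
import Groth.Agent.S1530
import Groth.Agent.Lib.Helper1.AmpleAff
import Groth.Agent.Lib.Helper1.PullGen2
import Groth.Agent.Lib.Helper4.Equi7

/-!
# Ampleness on proper schemes of dimension at most one via degrees on components (helper4)
-/

set_option backward.isDefEq.respectTransparency.types false
set_option synthInstance.maxHeartbeats 400000
set_option autoImplicit false
set_option linter.unusedSectionVars false
set_option linter.style.haveILetI false
set_option linter.unusedSimpArgs false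
universe u v w
open CategoryTheory CategoryTheory.Limits AlgebraicGeometry TopologicalSpace Topology

namespace Groth.Agent.Lib.Helper4.AmpleComp1

/-- an irreducible scheme of dimension zero has a single point -/
theorem eq_genericPoint_of_dim_le_zero (W : Scheme.{u}) [IrreducibleSpace W]
    (h : topologicalKrullDim W ≤ 0) (x : W) : x = genericPoint W := by
  by_contra hne
  have hlt : (⟨closure {x}, isIrreducible_singleton.closure, isClosed_closure⟩ :
      IrreducibleCloseds W) < ⟨Set.univ, IrreducibleSpace.isIrreducible_univ _, isClosed_univ⟩ := by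
    rw [lt_iff_le_and_ne]
    refine ⟨fun _ _ => Set.mem_univ _, ?_⟩
    intro heq
    have h1 : closure {x} = Set.univ := congrArg IrreducibleCloseds.carrier heq
    have h2 : IsGenericPoint x (Set.univ : Set W) := h1
    exact hne (h2.eq (genericPoint_spec W))
  have : (1 : WithBot ℕ∞) ≤ topologicalKrullDim W := by
    unfold topologicalKrullDim
    rw [Order.one_le_krullDim_iff]
    exact ⟨_, _, hlt⟩
  have h01 : (1 : WithBot ℕ∞) ≤ 0 := this.trans h
  exact absurd h01 (by decide)

theorem isAffine_of_dim_le_zero (W : Scheme.{u}) [IrreducibleSpace W]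
    (h : topologicalKrullDim W ≤ 0) : IsAffine W := by
  obtain ⟨_, ⟨U, hU, rfl⟩, hηU, -⟩ :=
    W.isBasis_affineOpens.exists_subset_of_mem_open (Set.mem_univ (genericPoint W)) isOpen_univ
  have hU' : IsAffineOpen U := hU
  have hUtop : U = ⊤ := by
    rw [eq_top_iff]
    intro x _
    rw [eq_genericPoint_of_dim_le_zero W h x]
    exact hηU
  subst hUtop
  haveI : IsAffine (⊤ : W.Opens).toScheme := hU'
  exact IsAffine.of_isIso W.topIso.inv

theorem le_zero_of_le_one_of_ne (d : WithBot ℕ∞) (h1 : d ≤ 1) (h2 : d ≠ 1) : d ≤ 0 := by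
  induction d using WithBot.recBotCoe with
  | bot => exact bot_le
  | coe n =>
    have h1' : n ≤ 1 := by exact_mod_cast h1
    have h2' : n ≠ 1 := by
      intro h; apply h2; rw [h]; rfl
    have h3 : n < 1 := lt_of_le_of_ne h1' h2'
    have h4 : n = 0 := Order.lt_one_iff.mp h3
    rw [h4]; rfl

open Groth.Agent.Helper1.AmpleLib Groth.Agent.Helper1.PullGen in
theorem comp_iff (k : Type u) [Field k] (X : Scheme.{u}) [X.Over (Spec (CommRingCat.of k))]
    [IsProper (X ↘ (Spec (CommRingCat.of k)))] (hdim : topologicalKrullDim X ≤ 1)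
    (L : X.Modules) (hL : PicF.IsInvertible L)
    (Z : Closeds X) (hZ : (Z : Set X) ∈ irreducibleComponents X)
    (J : X.IdealSheafData) (hJ : J = Scheme.IdealSheafData.vanishingIdeal Z) :
    CohB1.IsAmple ((Scheme.Modules.pullback J.subschemeι).obj L) ↔
      (topologicalKrullDim (Z : Set X) = 1 →
        0 < @Curv2.deg k _ J.subscheme ⟨J.subschemeι ≫ (X ↘ (Spec (CommRingCat.of k)))⟩
          ((Scheme.Modules.pullback J.subschemeι).obj L) 1) := by
  subst hJ
  letI : (Scheme.IdealSheafData.vanishingIdeal Z).subscheme.Over (Spec (CommRingCat.of k)) :=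
    ⟨(Scheme.IdealSheafData.vanishingIdeal Z).subschemeι ≫ (X ↘ (Spec (CommRingCat.of k)))⟩
  haveI : IsProper ((Scheme.IdealSheafData.vanishingIdeal Z).subscheme ↘
      (Spec (CommRingCat.of k))) :=
    (inferInstance : IsProper ((Scheme.IdealSheafData.vanishingIdeal Z).subschemeι ≫
      (X ↘ (Spec (CommRingCat.of k)))))
  haveI : IsReduced (Scheme.IdealSheafData.vanishingIdeal Z).subscheme :=
    Groth.Agent.Lib.Helper4.Equi7.isReduced_vanishingIdeal_subscheme Z
  haveI : IrreducibleSpace ↥(Scheme.IdealSheafData.vanishingIdeal Z).subscheme :=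
    Groth.Agent.Lib.Helper4.Equi7.irreducibleSpace_vanishingIdeal_subscheme Z hZ.1
  haveI : IsIntegral (Scheme.IdealSheafData.vanishingIdeal Z).subscheme :=
    isIntegral_of_irreducibleSpace_of_isReduced _
  have hrange : Set.range (Scheme.IdealSheafData.vanishingIdeal Z).subschemeι = (Z : Set X) := by
    rw [Scheme.IdealSheafData.range_subschemeι,
      Scheme.IdealSheafData.coe_support_vanishingIdeal]
  have hdimW : topologicalKrullDim ↥(Scheme.IdealSheafData.vanishingIdeal Z).subscheme =
      topologicalKrullDim (Z : Set X) := by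
    have hemb := (Scheme.IdealSheafData.vanishingIdeal Z).subschemeι.isEmbedding
    let e := hemb.toHomeomorph.trans (Homeomorph.setCongr hrange)
    exact IsHomeomorph.topologicalKrullDim_eq e e.isHomeomorph
  have hL' := isInvertible_pullback (Scheme.IdealSheafData.vanishingIdeal Z).subschemeι hL
  by_cases h1 : topologicalKrullDim (Z : Set X) = 1
  · rw [Groth.Agent.S1530.result k _ (hdimW.trans h1) _ hL']
    exact ⟨fun h _ => h, fun h => h h1⟩
  · have h0 : topologicalKrullDim ↥(Scheme.IdealSheafData.vanishingIdeal Z).subscheme ≤ 0 := by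
      rw [hdimW]
      exact le_zero_of_le_one_of_ne _
        ((topologicalKrullDim_subspace_le X (Z : Set X)).trans hdim) h1
    haveI := isAffine_of_dim_le_zero _ h0
    exact ⟨fun _ h => absurd h h1, fun _ => isAmple_of_isAffine hL'⟩

theorem isAmple_congr_ideal {X : Scheme.{u}} (L : X.Modules) (J J' : X.IdealSheafData) (h : J = J')
    (ha : CohB1.IsAmple ((Scheme.Modules.pullback J.subschemeι).obj L)) :
    CohB1.IsAmple ((Scheme.Modules.pullback J'.subschemeι).obj L) := by
  subst h; exact ha

theorem radical_irreducibleComponentIdeal (X : Scheme.{u}) [IsNoetherian X] (C : Set X)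
    (hC : C ∈ irreducibleComponents (X : Type u)) :
    (X.irreducibleComponentIdeal C hC).radical =
      Scheme.IdealSheafData.vanishingIdeal ⟨C, isClosed_of_mem_irreducibleComponents C hC⟩ := by
  rw [← Scheme.IdealSheafData.vanishingIdeal_support]
  congr 1

theorem S7642_main (k : Type u) [Field k] (X : Scheme.{u}) [X.Over (Spec (CommRingCat.of k))]
    [IsProper (X ↘ (Spec (CommRingCat.of k)))] [IsNoetherian X]
    (hdim : topologicalKrullDim X ≤ 1) (L : X.Modules) (hL : PicF.IsInvertible L) :
    CohB1.IsAmple L ↔ ∀ (C : Set X) (hC : C ∈ irreducibleComponents (X : Type u)),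
      topologicalKrullDim C = 1 → 0 < @Curv2.deg k _
        (X.irreducibleComponentIdeal C hC).radical.subscheme
        ⟨(X.irreducibleComponentIdeal C hC).radical.subschemeι ≫ (X ↘ (Spec (CommRingCat.of k)))⟩
        ((Scheme.Modules.pullback (X.irreducibleComponentIdeal C hC).radical.subschemeι).obj L)
        1 := by
  rw [Groth.Agent.S11559.result k X L hL]
  constructor
  · intro h C hC
    have hcl : IsClosed C := isClosed_of_mem_irreducibleComponents C hC
    have hJ := radical_irreducibleComponentIdeal X C hC
    have h1 := h ⟨C, hcl⟩ hC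
    have h2 := isAmple_congr_ideal L _ _ hJ.symm h1
    exact (comp_iff k X hdim L hL ⟨C, hcl⟩ hC _ hJ).mp h2
  · intro h Z hZ
    have hJ := radical_irreducibleComponentIdeal X (Z : Set X) hZ
    have h1 := (comp_iff k X hdim L hL ⟨(Z : Set X), _⟩ hZ _ hJ).mpr (h (Z : Set X) hZ)
    exact isAmple_congr_ideal L _ _ hJ h1

end Groth.Agent.Lib.Helper4.AmpleComp1
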