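import Mathlib
import Groth.Prelude.Def_AlgGrp
import Groth.Agent.Lib.Helper4.AntiAffRigid2
import Groth.Agent.Lib.Helper6.GrpSchSep
import Groth.Agent.Lib.Helper7.GeomConn.SchemeGlue

/-!
# Families of morphisms from an anti-affine group: f(g,s) = phi(s) psi(g) (helper4)
-/

set_option backward.isDefEq.respectTransparency.types false
set_option synthInstance.maxHeartbeats 400000
set_option autoImplicit false
set_option linter.unusedSectionVars false
set_option linter.style.haveILetI false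
set_option linter.unusedSimpArgs false
universe u v w
open CategoryTheory CategoryTheory.Limits AlgebraicGeometry TopologicalSpace Opposite
open MonoidalCategory CartesianMonoidalCategory MonObj GrpObj

namespace Groth.Agent.Lib.Helper4.AntiAffFam1
open Groth.Agent.Lib.Helper4.AntiAffRigid2

section AA
variable (k : Type u) [Field k]

/-- an anti-affine scheme is connected -/
theorem connectedSpace_of_antiAffine (G : Over (Spec (CommRingCat.of k))) [Nonempty G.left]
    (hG : Function.Bijective ((Scheme.ΓSpecIso (CommRingCat.of k)).inv ≫ G.hom.appTop).hom) :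
    ConnectedSpace G.left := by
  apply Groth.Agent.Helper7.GeomConn.connectedSpace_of_idempotent_trivial
  intro e he
  obtain ⟨c, rfl⟩ := hG.2 e
  have hc : IsIdempotentElem c := by
    apply hG.1
    rw [map_mul]
    exact he
  rcases IsIdempotentElem.iff_eq_zero_or_one.1 hc with rfl | rfl
  · left; exact map_zero _
  · right; exact map_one _

end AA

section Cart
variable {C : Type v} [Category.{w} C] [CartesianMonoidalCategory C]

theorem fst_comp_lift_id_toUnit {G S : C} (s₀ : 𝟙_ C ⟶ S) :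
    fst G (𝟙_ C) ≫ lift (𝟙 G) (toUnit G ≫ s₀) = G ◁ s₀ := by
  apply CartesianMonoidalCategory.hom_ext
  · simp
  · rw [Category.assoc, lift_snd, whiskerLeft_snd, ← Category.assoc]
    congr 1
    exact toUnit_unique _ _

end Cart

section Main
variable (k : Type u) [Field k] [IsAlgClosed k]

theorem main_S11421 (G H S : Over (Spec (CommRingCat.of k))) [GrpObj G] [Smooth G.hom]
    [QuasiCompact G.hom]
    (hG : Function.Bijective ((Scheme.ΓSpecIso (CommRingCat.of k)).inv ≫ G.hom.appTop).hom)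
    [GrpObj H] [LocallyOfFiniteType S.hom] [QuasiCompact S.hom] [ConnectedSpace ↥S.left]
    (f : G ⊗ S ⟶ H) :
    ∃ (φ : S ⟶ H) (ψ : G ⟶ H), IsMonHom ψ ∧ f = (snd G S ≫ φ) * (fst G S ≫ ψ) ∧
      ∀ (φ' : S ⟶ H) (ψ' : G ⟶ H), IsMonHom ψ' → f = (snd G S ≫ φ') * (fst G S ≫ ψ') →
        φ' = φ ∧ ψ' = ψ := by
  haveI : DiscreteTopology ↥(Spec (CommRingCat.of k)) :=
    inferInstanceAs (DiscreteTopology (PrimeSpectrum k))
  haveI : IsSeparated H.hom := Groth.Agent.Helper6.GrpSchSep.isSeparated_of_discrete H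
  haveI : LocallyOfFiniteType G.hom := inferInstance
  haveI : Nonempty G.left :=
    ⟨η[G].left (show ↥(Spec (CommRingCat.of k)) from IsLocalRing.closedPoint k)⟩
  haveI : ConnectedSpace G.left := connectedSpace_of_antiAffine k G hG
  haveI : CompactSpace S.left := (quasiCompact_iff_compactSpace S.hom).1 inferInstance
  -- rational point of S
  obtain ⟨s, -, hs⟩ := IsClosed.exists_closed_singleton (X := S.left) isClosed_univ
    Set.univ_nonempty
  obtain ⟨s₀, -⟩ : ∃ s₀ : 𝟙_ (Over (Spec (CommRingCat.of k))) ⟶ S, True :=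
    ⟨Over.homMk (pointOfClosedPoint S.hom s hs) (pointOfClosedPoint_comp S.hom s hs), trivial⟩
  -- the candidates
  obtain ⟨φ, hφ⟩ : ∃ φ : S ⟶ H, φ = lift (toUnit S ≫ η[G]) (𝟙 S) ≫ f := ⟨_, rfl⟩
  obtain ⟨F, hF⟩ : ∃ F : G ⊗ S ⟶ H, F = (snd G S ≫ φ)⁻¹ * f := ⟨_, rfl⟩
  obtain ⟨ψ, hψ⟩ : ∃ ψ : G ⟶ H, ψ = lift (𝟙 G) (toUnit G ≫ s₀) ≫ F := ⟨_, rfl⟩
  have hfF : f = (snd G S ≫ φ) * F := by rw [hF, mul_inv_cancel_left]
  -- F(e, s) = 1
  have hFe : lift (toUnit S ≫ η[G]) (𝟙 S) ≫ F = 1 := by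
    rw [hF, MonObj.comp_mul, GrpObj.comp_inv, lift_snd_assoc, Category.id_comp, ← hφ,
      inv_mul_cancel]
  -- ψ(e) = 1
  have hψe : η[G] ≫ ψ = 1 := by
    have e1 : η[G] ≫ lift (𝟙 G) (toUnit G ≫ s₀) = s₀ ≫ lift (toUnit S ≫ η[G]) (𝟙 S) := by
      apply CartesianMonoidalCategory.hom_ext
      · rw [Category.assoc, lift_fst, Category.comp_id, Category.assoc, lift_fst,
          ← Category.assoc, toUnit_unique (s₀ ≫ toUnit S) (𝟙 _), Category.id_comp]
      · rw [Category.assoc, lift_snd, Category.assoc, lift_snd, Category.comp_id,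
          ← Category.assoc, toUnit_unique (η[G] ≫ toUnit G) (𝟙 _), Category.id_comp]
    rw [hψ, ← Category.assoc, e1, Category.assoc, hFe, MonObj.comp_one]
  -- Claim 1
  have hΨ : (G ◁ s₀) ≫ (F * (fst G S ≫ ψ)⁻¹) = toUnit _ ≫ η[H] := by
    rw [MonObj.comp_mul, GrpObj.comp_inv, whiskerLeft_fst_assoc, hψ, ← Category.assoc (fst G _),
      fst_comp_lift_id_toUnit, mul_inv_cancel]
    rfl
  obtain ⟨g, hg, -⟩ := main_S11395 k G S H hG (F * (fst G S ≫ ψ)⁻¹) s₀ η[H] hΨ
  have hg1 : g = 1 := by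
    have h1 : g = lift (toUnit S ≫ η[G]) (𝟙 S) ≫ (F * (fst G S ≫ ψ)⁻¹) := by
      rw [hg, ← Category.assoc, lift_snd, Category.id_comp]
    rw [h1, MonObj.comp_mul, GrpObj.comp_inv, hFe, lift_fst_assoc, Category.assoc, hψe,
      MonObj.comp_one, inv_one, _root_.mul_one]
  have hFψ : F = fst G S ≫ ψ := by
    rw [hg1, MonObj.comp_one] at hg
    exact mul_inv_eq_one.1 hg
  -- Claim 2
  have hmulψ : μ[G] ≫ ψ = (fst G G ≫ ψ) * (snd G G ≫ ψ) := by
    have hμ1 : (G ◁ η[G]) ≫ μ[G] = fst G _ := by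
      rw [MonObj.mul_one, rightUnitor_hom]
    have hΘ : (G ◁ η[G]) ≫ ((μ[G] ≫ ψ) * ((fst G G ≫ ψ) * (snd G G ≫ ψ))⁻¹) =
        toUnit _ ≫ η[H] := by
      rw [MonObj.comp_mul, GrpObj.comp_inv, MonObj.comp_mul, ← Category.assoc, hμ1,
        whiskerLeft_fst_assoc, whiskerLeft_snd_assoc, hψe, MonObj.comp_one, _root_.mul_one,
        mul_inv_cancel]
      rfl
    obtain ⟨g', hg', -⟩ := main_S11395 k G G H hG
      ((μ[G] ≫ ψ) * ((fst G G ≫ ψ) * (snd G G ≫ ψ))⁻¹) η[G] η[H] hΘ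
    have hg'1 : g' = 1 := by
      have h1 : g' = lift (toUnit G ≫ η[G]) (𝟙 G) ≫
          ((μ[G] ≫ ψ) * ((fst G G ≫ ψ) * (snd G G ≫ ψ))⁻¹) := by
        rw [hg', ← Category.assoc, lift_snd, Category.id_comp]
      have h2 : lift (toUnit G ≫ η[G]) (𝟙 G) ≫ μ[G] = 𝟙 G := lift_comp_one_left _ _
      rw [h1, MonObj.comp_mul, GrpObj.comp_inv, MonObj.comp_mul, ← Category.assoc, h2,
        Category.id_comp, lift_fst_assoc, lift_snd_assoc, Category.id_comp, Category.assoc, hψe,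
        MonObj.comp_one, _root_.one_mul, mul_inv_cancel]
    rw [hg'1, MonObj.comp_one] at hg'
    exact mul_inv_eq_one.1 hg'
  have hψhom : IsMonHom ψ := by
    refine ⟨?_, ?_⟩
    · rw [hψe]; rfl
    · rw [hmulψ, ← lift_fst_comp_snd_comp, ← Hom.mul_def]
  refine ⟨φ, ψ, hψhom, ?_, ?_⟩
  · rw [hfF, hFψ]
  · intro φ' ψ' hψ' hf'
    haveI := hψ'
    have hφ' : φ' = φ := by
      rw [hφ, hf', MonObj.comp_mul, lift_snd_assoc, Category.id_comp, lift_fst_assoc,
        Category.assoc, IsMonHom.one_hom, ← Hom.one_def, _root_.mul_one]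
    refine ⟨hφ', ?_⟩
    have h3 : fst G S ≫ ψ' = fst G S ≫ ψ := by
      rw [← hFψ, hF, hf', hφ', inv_mul_cancel_left]
    have h4 := congrArg (fun m => lift (𝟙 G) (toUnit G ≫ s₀) ≫ m) h3
    simpa using h4

end Main

end Groth.Agent.Lib.Helper4.AntiAffFam1
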