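import Mathlib
import Groth.Prelude.Def_AlgGrp
import Groth.Agent.Lib.Helper4.AntiAffRigid3
import Groth.Agent.Lib.Helper2.Sch.SchImageGrp

/-!
# pointed morphism from anti-affine group factors through the largest anti-affine subgroup (S19703) (helper4)
-/

set_option backward.isDefEq.respectTransparency.types false
set_option synthInstance.maxHeartbeats 400000
set_option autoImplicit false
set_option linter.unusedSectionVars false
set_option linter.style.haveILetI false
set_option linter.unusedSimpArgs false
universe u v w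
open CategoryTheory CategoryTheory.Limits AlgebraicGeometry TopologicalSpace Opposite
open MonoidalCategory CartesianMonoidalCategory MonObj GrpObj

namespace Groth.Agent.Lib.Helper4.AntiAffRigid4

theorem main_S19703 (k : Type u) [Field k]
    (G H : Over (Spec (CommRingCat.of k))) [GrpObj G] [Smooth G.hom] [QuasiCompact G.hom]
    (hG : Function.Bijective ((Scheme.ΓSpecIso (CommRingCat.of k)).inv ≫ G.hom.appTop).hom)
    [GrpObj H] [LocallyOfFiniteType H.hom] [QuasiCompact H.hom] [ConnectedSpace ↥H.left]
    (M : Over (Spec (CommRingCat.of k))) [GrpObj M] [LocallyOfFiniteType M.hom] [QuasiCompact M.hom] (j : M ⟶ H) [IsMonHom j] [IsClosedImmersion j.left]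
    (hM : Function.Bijective ((Scheme.ΓSpecIso (CommRingCat.of k)).inv ≫ M.hom.appTop).hom)
    (hMmax : ∀ (M₁ : Over (Spec (CommRingCat.of k))) [GrpObj M₁] [LocallyOfFiniteType M₁.hom] [QuasiCompact M₁.hom] (j₁ : M₁ ⟶ H) [IsMonHom j₁] [IsClosedImmersion j₁.left],
      Function.Bijective ((Scheme.ΓSpecIso (CommRingCat.of k)).inv ≫ M₁.hom.appTop).hom → ∃ g : M₁ ⟶ M, g ≫ j = j₁)
    (f : G ⟶ H) (hf : η[G] ≫ f = η[H]) :
    ∃ g : G ⟶ M, g ≫ j = f := by
  haveI : LocallyOfFiniteType G.hom := inferInstance
  haveI : IsMonHom f := Groth.Agent.Lib.Helper4.AntiAffRigid3.main_S14578 k G H hG f hf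
  haveI : IsLocallyNoetherian H.left := LocallyOfFiniteType.isLocallyNoetherian H.hom
  haveI : QuasiSeparatedSpace H.left := inferInstance
  haveI : QuasiSeparated H.hom := (quasiSeparated_iff_quasiSeparatedSpace H.hom).2 inferInstance
  haveI : QuasiCompact (f.left ≫ H.hom) := by rw [Over.w f]; infer_instance
  haveI : QuasiCompact f.left := QuasiCompact.of_comp f.left H.hom
  obtain ⟨K, hKdef⟩ : ∃ K : Over (Spec (CommRingCat.of k)), K = Over.mk (f.left.imageι ≫ H.hom) :=
    ⟨_, rfl⟩
  subst hKdef
  let i : Over.mk (f.left.imageι ≫ H.hom) ⟶ H := Over.homMk f.left.imageι rfl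
  let g : G ⟶ Over.mk (f.left.imageι ≫ H.hom) := Over.homMk f.left.toImage (by
    simp only [Over.mk_hom, Scheme.Hom.toImage_imageι_assoc]
    exact Over.w f)
  have hgi : g ≫ i = f := by
    ext1
    simp only [g, i, Over.comp_left, Over.homMk_left, Scheme.Hom.toImage_imageι]
  haveI : IsClosedImmersion i.left := inferInstanceAs (IsClosedImmersion f.left.imageι)
  haveI : IsSchemeTheoreticallyDominant g.left :=
    inferInstanceAs (IsSchemeTheoreticallyDominant f.left.toImage)
  haveI : QuasiCompact (g.left ≫ i.left) := by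
    rw [← Over.comp_left, hgi]; infer_instance
  haveI : QuasiCompact g.left := QuasiCompact.of_comp g.left i.left
  obtain ⟨instK, hi, hg⟩ := Groth.Agent.Helper2.SchImage.exists_grpObj f i g hgi
  haveI : LocallyOfFiniteType (Over.mk (f.left.imageι ≫ H.hom)).hom := by
    show LocallyOfFiniteType (f.left.imageι ≫ H.hom); infer_instance
  haveI : QuasiCompact (Over.mk (f.left.imageι ≫ H.hom)).hom := by
    show QuasiCompact (f.left.imageι ≫ H.hom); infer_instance
  have hK : Function.Bijective ((Scheme.ΓSpecIso (CommRingCat.of k)).inv ≫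
      (Over.mk (f.left.imageι ≫ H.hom)).hom.appTop).hom := by
    have hinj : Function.Injective g.left.appTop.hom := g.left.app_injective ⊤
    have hcomp : ∀ c, ((Scheme.ΓSpecIso (CommRingCat.of k)).inv ≫ G.hom.appTop).hom c =
        g.left.appTop.hom (((Scheme.ΓSpecIso (CommRingCat.of k)).inv ≫
          (Over.mk (f.left.imageι ≫ H.hom)).hom.appTop).hom c) := by
      intro c
      rw [← Over.w g, Scheme.Hom.comp_appTop]
      rfl
    constructor
    · intro a b hab
      apply hG.1
      rw [hcomp, hcomp, hab]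
    · intro a
      obtain ⟨c, hc⟩ := hG.2 (g.left.appTop.hom a)
      exact ⟨c, hinj (by rw [← hc, hcomp])⟩
  obtain ⟨g', hg'⟩ := @hMmax _ instK _ _ i hi _ hK
  exact ⟨g ≫ g', by rw [Category.assoc, hg', hgi]⟩

end Groth.Agent.Lib.Helper4.AntiAffRigid4
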