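import Mathlib
import Groth.Prelude.Def_Red2
import Groth.Prelude.Def_NonAbH2
import Groth.Agent.Lib.Helper6.GaGm.GaGrp
import Groth.Agent.Lib.Helper6.DS.Pts
import Groth.Prelude.Def_TwC

/-!
# Artin–Schreier exact sequence for the fpqc topology (S6008) (helper4)
-/

set_option backward.isDefEq.respectTransparency.types false
set_option synthInstance.maxHeartbeats 400000
set_option autoImplicit false
set_option linter.unusedSectionVars false
set_option linter.style.haveILetI false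
set_option linter.unusedSimpArgs false
universe u v w
open CategoryTheory CategoryTheory.Limits AlgebraicGeometry TopologicalSpace Opposite
open MonoidalCategory CartesianMonoidalCategory MonObj GrpObj
open Groth.Agent.Lib.Helper6.GaGm

namespace Groth.Agent.Lib.Helper4.ArtinSchreier1

noncomputable section

/-! ## Part A: the ring map `X ↦ X - X^p` on `ℤ[X]` is faithfully flat -/

section RingLevel

open Polynomial

/-- The ring map `ℤ[X] → ℤ[X]`, `X ↦ X - X^p`. -/
def phi (p : ℕ) : Sym.{u} →+* Sym.{u} := ringHomOfElem (genA - genA ^ p)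

lemma phi_genA (p : ℕ) : phi.{u} p genA = genA - genA ^ p := ringHomOfElem_genA _

/-- The Artin–Schreier polynomial `Z^p - Z + X` over `ℤ[X]`. -/
def asPoly (p : ℕ) : Sym.{u}[X] := X ^ p + (-X + C genA)

lemma asPoly_monic {p : ℕ} (hp : 1 < p) : (asPoly.{u} p).Monic := by
  apply monic_X_pow_add
  have h1 : (-X + C (genA : Sym.{u}) : Sym.{u}[X]).degree ≤ 1 := by
    refine (degree_add_le _ _).trans (max_le ?_ ?_)
    · rw [degree_neg]; exact degree_X_le
    · exact degree_C_le.trans zero_le_one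
  refine lt_of_le_of_lt h1 ?_
  exact_mod_cast hp

lemma eval₂_asPoly (p : ℕ) : (asPoly.{u} p).eval₂ (phi p) genA = 0 := by
  unfold asPoly
  rw [eval₂_add, eval₂_add, eval₂_neg, eval₂_X_pow, eval₂_X, eval₂_C, phi_genA]
  ring

/-- forward map -/
def fwd (p : ℕ) : AdjoinRoot (asPoly.{u} p) →+* Sym.{u} :=
  AdjoinRoot.lift (phi p) genA (eval₂_asPoly p)

/-- backward map -/
def bwd (p : ℕ) : Sym.{u} →+* AdjoinRoot (asPoly.{u} p) :=
  ringHomOfElem (AdjoinRoot.root (asPoly.{u} p))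

lemma root_rel (p : ℕ) : AdjoinRoot.of (asPoly.{u} p) genA =
    AdjoinRoot.root (asPoly.{u} p) - AdjoinRoot.root (asPoly.{u} p) ^ p := by
  have h := AdjoinRoot.eval₂_root (asPoly.{u} p)
  unfold asPoly at h
  rw [eval₂_add, eval₂_add, eval₂_neg, eval₂_X_pow, eval₂_X, eval₂_C] at h
  have h2 : AdjoinRoot.of (X ^ p + (-X + C (genA : Sym.{u}))) genA =
    AdjoinRoot.root (X ^ p + (-X + C (genA : Sym.{u}))) -
      AdjoinRoot.root (X ^ p + (-X + C (genA : Sym.{u}))) ^ p := by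
    linear_combination h
  exact h2

lemma fwd_bwd (p : ℕ) : (fwd.{u} p).comp (bwd p) = RingHom.id _ := by
  apply ringHom_ext_genA
  rw [RingHom.comp_apply, RingHom.id_apply]
  unfold bwd fwd
  rw [ringHomOfElem_genA, AdjoinRoot.lift_root]

lemma bwd_phi (p : ℕ) : (bwd.{u} p).comp (phi p) = AdjoinRoot.of (asPoly.{u} p) := by
  apply ringHom_ext_genA
  rw [RingHom.comp_apply, phi_genA, map_sub, map_pow, root_rel]
  unfold bwd
  rw [ringHomOfElem_genA]

lemma bwd_fwd (p : ℕ) : (bwd.{u} p).comp (fwd p) = RingHom.id _ := by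
  apply Ideal.Quotient.ringHom_ext
  apply Polynomial.ringHom_ext
  · intro a
    have h := congrArg (fun ψ : Sym.{u} →+* AdjoinRoot (asPoly.{u} p) => ψ a) (bwd_phi.{u} p)
    simp only [RingHom.comp_apply] at h ⊢
    change bwd p (fwd p (AdjoinRoot.of (asPoly p) a)) = AdjoinRoot.of (asPoly p) a
    unfold fwd
    rw [AdjoinRoot.lift_of]
    exact h
  · simp only [RingHom.comp_apply]
    change bwd p (fwd p (AdjoinRoot.root (asPoly p))) = AdjoinRoot.root (asPoly p)
    unfold fwd bwd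
    rw [AdjoinRoot.lift_root, ringHomOfElem_genA]

lemma ff_of_ringEquiv {R B S : Type*} [CommRing R] [CommRing B] [CommRing S] [Algebra R B]
    [Algebra R S] [Module.Free R B] [Nontrivial S] (f : B →+* S) (g : S →+* B)
    (hfg : f.comp g = RingHom.id S) (hgf : g.comp f = RingHom.id B)
    (hcomm : ∀ r, f (algebraMap R B r) = algebraMap R S r) : Module.FaithfullyFlat R S := by
  let e : B ≃ₗ[R] S :=
    { toFun := f
      map_add' := map_add _
      map_smul' := by
        intro a b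
        rw [Algebra.smul_def, map_mul, RingHom.id_apply, hcomm, Algebra.smul_def]
      invFun := g
      left_inv := fun b => congrArg (fun ψ : B →+* B => ψ b) hgf
      right_inv := fun b => congrArg (fun ψ : S →+* S => ψ b) hfg }
  haveI : Nontrivial B := e.toEquiv.nontrivial
  exact Module.FaithfullyFlat.of_linearEquiv _ _ e.symm

theorem phi_faithfullyFlat {p : ℕ} (hp : 1 < p) : (phi.{u} p).FaithfullyFlat := by
  unfold RingHom.FaithfullyFlat
  have hfree : Module.Free Sym.{u} (AdjoinRoot (asPoly.{u} p)) :=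
    Module.Free.of_basis (AdjoinRoot.powerBasis' (asPoly_monic hp)).basis
  refine @ff_of_ringEquiv Sym.{u} (AdjoinRoot (asPoly.{u} p)) Sym.{u} _ _ _ _ (phi p).toAlgebra
    hfree _ (fwd p) (bwd p) (fwd_bwd p) (bwd_fwd p) ?_
  intro r
  change fwd p (AdjoinRoot.of (asPoly p) r) = phi p r
  unfold fwd
  rw [AdjoinRoot.lift_of]

end RingLevel



/-! ## Part B: local triviality -/

section LocTriv

variable {S : Scheme.{u}}

/-- The map `X ↦ X - X^p` on `𝔸¹_ℤ`. -/
def Q0 (p : ℕ) : Spec (CommRingCat.of Sym.{u}) ⟶ Spec (CommRingCat.of Sym.{u}) :=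
  Spec.map (CommRingCat.ofHom (phi p))

lemma Q0_props {p : ℕ} (hp : 1 < p) : Flat (Q0.{u} p) ∧ Surjective (Q0.{u} p) :=
  (flat_and_surjective_SpecMap_iff _).2 (by
    rw [CommRingCat.hom_ofHom]; exact phi_faithfullyFlat hp)

lemma gaFn_id : Red.gaFn (𝟙 (Red.Ga S)) =
    (pullback.fst fGa (GmPts.toBaseZ S)).appTop.hom Red.gaCoord := by
  unfold Red.gaFn
  rw [Over.id_left, Category.id_comp]
  rfl

lemma Q0_appTop_gaCoord (p : ℕ) :
    (Q0.{u} p).appTop.hom Red.gaCoord = Red.gaCoord - Red.gaCoord ^ p := by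
  unfold Q0 Red.gaCoord
  have h := Scheme.ΓSpecIso_inv_naturality (CommRingCat.ofHom (phi.{u} p))
  have h2 := congrArg (fun ψ => ψ.hom (genA : Sym.{u})) h
  rw [CommRingCat.hom_comp, CommRingCat.hom_comp, RingHom.comp_apply, RingHom.comp_apply,
    CommRingCat.hom_ofHom, phi_genA, map_sub, map_pow] at h2
  exact h2.symm

lemma left_fst (P : Red.Ga S ⟶ Red.Ga S) (p : ℕ)
    (hP : Red.gaFn P = Red.gaFn (𝟙 (Red.Ga S)) - Red.gaFn (𝟙 (Red.Ga S)) ^ p) :
    P.left ≫ pullback.fst fGa (GmPts.toBaseZ S) = pullback.fst fGa (GmPts.toBaseZ S) ≫ Q0 p := by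
  apply AlgebraicGeometry.ext_to_Spec
  apply CommRingCat.hom_ext
  apply ringHom_ext_genA
  simp only [CommRingCat.hom_comp, RingHom.comp_apply]
  change (P.left ≫ pullback.fst fGa (GmPts.toBaseZ S)).appTop.hom Red.gaCoord =
    (pullback.fst fGa (GmPts.toBaseZ S) ≫ Q0 p).appTop.hom Red.gaCoord
  have h1 : (P.left ≫ pullback.fst fGa (GmPts.toBaseZ S)).appTop.hom Red.gaCoord = Red.gaFn P := rfl
  rw [h1, hP, gaFn_id, Scheme.Hom.comp_appTop, CommRingCat.hom_comp, RingHom.comp_apply,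
    Q0_appTop_gaCoord, map_sub, map_pow]
  rfl

lemma isPullback_left (P : Red.Ga S ⟶ Red.Ga S) (p : ℕ)
    (hP : Red.gaFn P = Red.gaFn (𝟙 (Red.Ga S)) - Red.gaFn (𝟙 (Red.Ga S)) ^ p) :
    IsPullback P.left (pullback.fst fGa (GmPts.toBaseZ S))
      (pullback.fst fGa (GmPts.toBaseZ S)) (Q0 p) := by
  have hbig : IsPullback (P.left ≫ pullback.snd fGa (GmPts.toBaseZ S))
      (pullback.fst fGa (GmPts.toBaseZ S)) (GmPts.toBaseZ S) (Q0 p ≫ fGa) := by
    have h1 : P.left ≫ pullback.snd fGa (GmPts.toBaseZ S) = pullback.snd _ _ := Over.w P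
    have h2 : Q0 p ≫ fGa = fGa := specULiftZIsTerminal.hom_ext _ _
    rw [h1, h2]
    exact (IsPullback.of_hasPullback fGa (GmPts.toBaseZ S)).flip
  exact IsPullback.of_right hbig (left_fst P p hP)
    (IsPullback.of_hasPullback fGa (GmPts.toBaseZ S)).flip

theorem locTriv (P : Red.Ga S ⟶ Red.Ga S) {p : ℕ} (hp : 1 < p)
    (hP : Red.gaFn P = Red.gaFn (𝟙 (Red.Ga S)) - Red.gaFn (𝟙 (Red.Ga S)) ^ p) :
    NonAbH1.IsLocallyTrivialFor Scheme.fpqcPrecoverage
      (Over.mk P.left : Over (Red.Ga S).left) := by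
  have sq := (isPullback_left P p hP).flip
  haveI : Flat P.left := MorphismProperty.of_isPullback sq (Q0_props hp).1
  haveI : Surjective P.left := MorphismProperty.of_isPullback sq (Q0_props hp).2
  haveI : QuasiCompact (Q0.{u} p) := by unfold Q0; infer_instance
  haveI : QuasiCompact P.left :=
    MorphismProperty.of_isPullback (P := @QuasiCompact) sq inferInstance
  refine ⟨Presieve.singleton P.left, Scheme.Hom.singleton_mem_fpqcPrecoverage P.left, ?_⟩
  rintro S' f ⟨⟩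
  exact ⟨𝟙 _, Category.id_comp _⟩

end LocTriv



/-! ## Part C: group-theoretic parts -/

section Alg

lemma frob_add {R : Type*} [CommRing R] (p : ℕ) [Fact p.Prime] (hp : (p : R) = 0) (a b : R) :
    (a + b) ^ p = a ^ p + b ^ p := by
  rcases subsingleton_or_nontrivial R with h | h
  · exact Subsingleton.elim _ _
  · haveI : CharP R p := by
      have h1 := CharP.ringChar_of_prime_eq_zero (Fact.out : p.Prime) hp
      exact h1 ▸ ringChar.charP R
    exact add_pow_char a b p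

lemma frob_sub {R : Type*} [CommRing R] (p : ℕ) [Fact p.Prime] (hp : (p : R) = 0) (a b : R) :
    (a - b) ^ p = a ^ p - b ^ p := by
  have h := frob_add p hp (a - b) b
  rw [sub_add_cancel] at h
  rw [h, add_sub_cancel_right]

lemma frob_natCast {R : Type*} [CommRing R] (p : ℕ) [Fact p.Prime] (hp : (p : R) = 0) (n : ℕ) :
    (n : R) ^ p = n := by
  induction n with
  | zero => rw [Nat.cast_zero, zero_pow (Fact.out : p.Prime).ne_zero]
  | succ n ih => rw [Nat.cast_succ, frob_add p hp, ih, one_pow]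

lemma one_eq_zero_of_natCast_eq {R : Type*} [CommRing R] (p : ℕ) [Fact p.Prime]
    (hp : (p : R) = 0) (a b : ℕ) (ha : a < p) (hb : b < p) (hab : a ≠ b)
    (h : (a : R) = b) : (1 : R) = 0 := by
  wlog hlt : a < b generalizing a b
  · exact this b a hb ha hab.symm h.symm (lt_of_le_of_ne (not_lt.mp hlt) hab.symm)
  obtain ⟨d, hd⟩ : ∃ d, b = a + d := ⟨b - a, by omega⟩
  have hd0 : 0 < d := by omega
  have hdp : d < p := by omega
  have hdR : (d : R) = 0 := by
    have h2 : (b : R) = (a : R) + d := by rw [hd, Nat.cast_add]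
    rw [← h] at h2
    exact (left_eq_add.mp h2)
  have hcop : Nat.Coprime p d := Nat.coprime_of_lt_prime hd0.ne' hdp (Fact.out : p.Prime)
  obtain ⟨x, y, hxy⟩ := Nat.Coprime.isCoprime hcop
  have h3 := congrArg (fun z : ℤ => (z : R)) hxy
  simp only [Int.cast_add, Int.cast_mul, Int.cast_natCast, Int.cast_one] at h3
  rw [hp, hdR, mul_zero, mul_zero, add_zero] at h3
  exact h3.symm

end Alg



section Grp

variable {S : Scheme.{u}}

lemma p_eq_zero_of {p : ℕ} (hp : (p : Γ(S, ⊤)) = 0) (T : Over S) : (p : Γ(T.left, ⊤)) = 0 := by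
  have h := congrArg T.hom.appTop.hom hp
  rwa [map_natCast, map_zero] at h

lemma gaFn_pow {T : Over S} (x : T ⟶ Red.Ga S) (n : ℕ) : Red.gaFn (x ^ n) = n • Red.gaFn x := by
  induction n with
  | zero => rw [pow_zero, gaFn_one, zero_smul]
  | succ n ih => rw [pow_succ, gaFn_mul, ih, succ_nsmul]

lemma pow_comp_hom {G H : Over S} [GrpObj G] [GrpObj H] (i : G ⟶ H) [IsMonHom i] {T : Over S}
    (a : T ⟶ G) (n : ℕ) : (a ^ n) ≫ i = (a ≫ i) ^ n := by
  induction n with
  | zero => rw [pow_zero, pow_zero, MonObj.one_comp]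
  | succ n ih => rw [pow_succ, pow_succ, MonObj.mul_comp, ih]

variable (p : ℕ) [Fact p.Prime] (hp : (p : Γ(S, ⊤)) = 0) (F : Red.Ga S ⟶ Red.Ga S)
    (hF : ∀ (T : Over S) (x : T ⟶ Red.Ga S), Red.gaFn (x ≫ F) = Red.gaFn x ^ p)

include hF in
lemma gaFn_comp_P (T : Over S) (x : T ⟶ Red.Ga S) :
    Red.gaFn (x ≫ (𝟙 (Red.Ga S) * F⁻¹)) = Red.gaFn x - Red.gaFn x ^ p := by
  rw [MonObj.comp_mul, GrpObj.comp_inv, Category.comp_id, gaFn_mul, gaFn_inv, hF, sub_eq_add_neg]

include hp hF in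
lemma isMonHom_P : IsMonHom (𝟙 (Red.Ga S) * F⁻¹) := by
  apply Groth.Agent.Lib.Helper6.DS.isMonHom_of_pts
  · apply gaFn_injective
    rw [gaFn_comp_P p F hF, gaFn_one, zero_pow (Fact.out : p.Prime).ne_zero, sub_zero]
  · intro T x y
    apply gaFn_injective
    rw [gaFn_comp_P p F hF, gaFn_mul, gaFn_mul, gaFn_comp_P p F hF, gaFn_comp_P p F hF,
      frob_add p (p_eq_zero_of hp T)]
    ring

/-- Morphisms out of a constant scheme are determined on the components. -/
lemma hom_ext_const {M : Type v} [Small.{u} M] {Y : Over S} (f f' : TwC.const S M ⟶ Y)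
    (h : ∀ m, TwC.pt S M m ≫ f = TwC.pt S M m ≫ f') : f = f' := by
  apply Over.OverMorphism.ext
  apply Sigma.hom_ext
  intro m
  have h1 := congrArg (fun g => g.left) (h m)
  simp only [Over.comp_left] at h1
  exact h1

variable {G' : Over S} [GrpObj G'] (e : G' ≅ TwC.const S (Multiplicative (ZMod p)))
    (he : TwC.IsConstGrp (Multiplicative (ZMod p)) G' e)
    (i : G' ⟶ Red.Ga S) [IsMonHom i]
    (hi : Red.gaFn (TwC.pt S (Multiplicative (ZMod p)) (Multiplicative.ofAdd 1) ≫ e.inv ≫ i) = 1)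

include he in
lemma pt_one' : TwC.pt S (Multiplicative (ZMod p)) 1 ≫ e.inv = 1 := by
  have h := he 1 1
  rw [show (1 : Multiplicative (ZMod p)) * 1 = 1 from _root_.mul_one 1] at h
  apply mul_left_cancel (a := TwC.pt S (Multiplicative (ZMod p)) 1 ≫ e.inv)
  rw [h, _root_.mul_one]

include he in
lemma pt_pow' (z : Multiplicative (ZMod p)) (n : ℕ) :
    (TwC.pt S (Multiplicative (ZMod p)) z ≫ e.inv) ^ n =
      TwC.pt S (Multiplicative (ZMod p)) (z ^ n) ≫ e.inv := by
  induction n with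
  | zero => rw [pow_zero, pow_zero, pt_one' p e he]
  | succ n ih => rw [pow_succ, ih, he, pow_succ]

include he hi in
lemma gaFn_pt (k : ZMod p) :
    Red.gaFn (TwC.pt S (Multiplicative (ZMod p)) (Multiplicative.ofAdd k) ≫ e.inv ≫ i) =
      ((k.val : ℕ) : Γ((𝟙_ (Over S)).left, ⊤)) := by
  have h1 : Multiplicative.ofAdd k = (Multiplicative.ofAdd (1 : ZMod p)) ^ k.val := by
    rw [← ofAdd_nsmul, nsmul_eq_mul, _root_.mul_one, ZMod.natCast_zmod_val]
  rw [h1, ← Category.assoc, ← pt_pow' p e he, pow_comp_hom i, gaFn_pow, Category.assoc, hi,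
    nsmul_eq_mul, _root_.mul_one]

include hp hF he hi in
lemma i_comp_P : i ≫ (𝟙 (Red.Ga S) * F⁻¹) = 1 := by
  rw [← cancel_epi e.inv, MonObj.comp_one]
  apply hom_ext_const
  intro m
  rw [MonObj.comp_one]
  apply gaFn_injective
  obtain ⟨k, rfl⟩ : ∃ k : ZMod p, Multiplicative.ofAdd k = m := ⟨m.toAdd, rfl⟩
  rw [← Category.assoc, ← Category.assoc, gaFn_comp_P p F hF, Category.assoc,
    gaFn_pt p e he i hi, gaFn_one, frob_natCast p (p_eq_zero_of hp _), sub_self]

end Grp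



/-! ## Part D: decomposition of a scheme by a root of `t^p = t` -/

section Dec

lemma isUnit_of_basicOpen_eq_top {Y : Scheme.{u}} (f : Γ(Y, ⊤)) (h : Y.basicOpen f = ⊤) :
    IsUnit f := by
  apply Y.toRingedSpace.isUnit_of_isUnit_germ ⊤ f
  intro x hx
  exact (Y.mem_basicOpen f x hx).1 (by rw [h]; trivial)

variable {X : Scheme.{u}} (p : ℕ) [Fact p.Prime] (hp : (p : Γ(X, ⊤)) = 0) (t : Γ(X, ⊤))
  (ht : t ^ p = t)

/-- The idempotent cutting out `t = k`. -/
def ek (k : ZMod p) : Γ(X, ⊤) := 1 - (t - ((k.val : ℕ) : Γ(X, ⊤))) ^ (p - 1)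

/-- The open where `t = k`. -/
def Uk (k : ZMod p) : X.Opens := X.basicOpen (ek p t k)

include hp ht in
lemma sub_mul_ek (k : ZMod p) : (t - ((k.val : ℕ) : Γ(X, ⊤))) * ek p t k = 0 := by
  unfold ek
  have h1 : p - 1 + 1 = p := Nat.sub_add_cancel (Fact.out : p.Prime).one_le
  rw [mul_sub, _root_.mul_one, ← pow_succ', h1, frob_sub p hp, ht, frob_natCast p hp, sub_self]

lemma charP_residue (hp : (p : Γ(X, ⊤)) = 0) (τ : X) : CharP (X.residueField τ) p := by
  have h0 : (p : X.residueField τ) = 0 := by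
    have h := congrArg (X.evaluation ⊤ τ trivial).hom hp
    rwa [map_natCast, map_zero] at h
  have h1 := CharP.ringChar_of_prime_eq_zero (Fact.out : p.Prime) h0
  exact h1 ▸ ringChar.charP _

include hp ht in
lemma eval_eq_of_mem (k : ZMod p) (τ : X) (hτ : τ ∈ Uk p t k) :
    (X.evaluation ⊤ τ trivial).hom t = ((k.val : ℕ) : X.residueField τ) := by
  have h := congrArg (X.evaluation ⊤ τ trivial).hom (sub_mul_ek p hp t ht k)
  rw [map_mul, map_zero, map_sub, map_natCast] at h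
  rcases mul_eq_zero.mp h with h1 | h1
  · exact sub_eq_zero.mp h1
  · exact absurd h1 ((X.evaluation_ne_zero_iff_mem_basicOpen (U := ⊤) τ trivial _).2 hτ)

include hp ht in
lemma exists_mem_Uk (τ : X) : ∃ k, τ ∈ Uk p t k := by
  haveI := charP_residue p hp τ
  have ha : ((X.evaluation ⊤ τ trivial).hom t) ^ p = (X.evaluation ⊤ τ trivial).hom t := by
    rw [← map_pow, ht]
  obtain ⟨n, hn⟩ := (mem_bot_iff_intCast p (X.residueField τ)).1
    ((Subfield.mem_bot_iff_pow_eq_self (X.residueField τ) p).2 ha)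
  refine ⟨(n : ZMod p), ?_⟩
  apply (X.evaluation_ne_zero_iff_mem_basicOpen (U := ⊤) τ trivial _).1
  unfold ek
  rw [map_sub, map_one, map_pow, map_sub, map_natCast, ZMod.natCast_val,
    ZMod.cast_intCast (dvd_refl p), hn, sub_self,
    zero_pow (Nat.sub_ne_zero_of_lt (Fact.out : p.Prime).one_lt), sub_zero]
  exact one_ne_zero

include hp ht in
lemma Uk_disjoint (k k' : ZMod p) (h : k ≠ k') : Uk p t k ⊓ Uk p t k' = ⊥ := by
  rw [eq_bot_iff]
  rintro τ ⟨h1, h2⟩
  exfalso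
  have e1 := eval_eq_of_mem p hp t ht k τ h1
  have e2 := eval_eq_of_mem p hp t ht k' τ h2
  have h0 : (p : X.residueField τ) = 0 := by
    have h := congrArg (X.evaluation ⊤ τ trivial).hom hp
    rwa [map_natCast, map_zero] at h
  have := one_eq_zero_of_natCast_eq p h0 k.val k'.val (ZMod.val_lt k) (ZMod.val_lt k')
    (fun hv => h (ZMod.val_injective p hv)) (e1.symm.trans e2)
  exact one_ne_zero this

include hp ht in
lemma res_eq (k : ZMod p) :
    (Uk p t k).ι.appTop.hom t = ((k.val : ℕ) : Γ((Uk p t k).toScheme, ⊤)) := by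
  have h := congrArg (Uk p t k).ι.appTop.hom (sub_mul_ek p hp t ht k)
  rw [map_mul, map_zero, map_sub, map_natCast] at h
  have hu : IsUnit ((Uk p t k).ι.appTop.hom (ek p t k)) := by
    apply isUnit_of_basicOpen_eq_top
    rw [← Scheme.preimage_basicOpen_top]
    exact Scheme.Opens.ι_preimage_self _
  exact sub_eq_zero.mp (hu.mul_left_eq_zero.mp h)

end Dec



/-! ## Part E: gluing and the key lemma -/

section Glue

variable {S : Scheme.{u}} {M : Type v} [Small.{u} M]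

lemma exists_glue {X : Scheme.{u}} (f : X ⟶ S) (U : M → X.Opens) (hU : IsOpenCover U)
    (hdisj : ∀ k k', k ≠ k' → U k ⊓ U k' = ⊥) :
    ∃ g : X ⟶ ∐ (fun _ : M => S), g ≫ Sigma.desc (fun _ : M => 𝟙 S) = f ∧
      ∀ k, (U k).ι ≫ g = (U k).ι ≫ f ≫ Sigma.ι (fun _ : M => S) k := by
  classical
  let 𝒰 := X.openCoverOfIsOpenCover U hU
  have compat : ∀ k k' : M, pullback.fst (𝒰.f k) (𝒰.f k') ≫
      ((U k).ι ≫ f ≫ Sigma.ι (fun _ : M => S) k) =
      pullback.snd (𝒰.f k) (𝒰.f k') ≫ ((U k').ι ≫ f ≫ Sigma.ι (fun _ : M => S) k') := by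
    intro k k'
    by_cases h : k = k'
    · subst h
      have hc := pullback.condition (f := 𝒰.f k) (g := 𝒰.f k)
      exact (Category.assoc _ _ _).symm.trans ((congrArg
        (fun q => q ≫ f ≫ Sigma.ι (fun _ : M => S) k) hc).trans (Category.assoc _ _ _))
    · haveI : IsEmpty ↑(pullback (𝒰.f k) (𝒰.f k')) := ⟨fun z => by
        have hc : (𝒰.f k) (pullback.fst (𝒰.f k) (𝒰.f k') z) =
            (𝒰.f k') (pullback.snd (𝒰.f k) (𝒰.f k') z) := by
          rw [← Scheme.Hom.comp_apply, ← Scheme.Hom.comp_apply, pullback.condition]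
        have h1 : (𝒰.f k) (pullback.fst (𝒰.f k) (𝒰.f k') z) ∈ U k ⊓ U k' :=
          ⟨(pullback.fst (𝒰.f k) (𝒰.f k') z).2, hc ▸ (pullback.snd (𝒰.f k) (𝒰.f k') z).2⟩
        rw [hdisj k k' h] at h1
        exact h1⟩
      exact isInitialOfIsEmpty.hom_ext _ _
  refine ⟨𝒰.glueMorphisms _ compat, ?_, fun k => 𝒰.ι_glueMorphisms _ compat k⟩
  apply 𝒰.hom_ext
  intro k
  rw [← Category.assoc, 𝒰.ι_glueMorphisms, Category.assoc, Category.assoc, Sigma.ι_desc,
    Category.comp_id]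
  rfl

/-- A morphism to a constant scheme landing in one component. -/
lemma eq_pt_of_range {T : Over S} (f : T ⟶ TwC.const S M) (m : M)
    (h : Set.range f.left ⊆ Set.range (Sigma.ι (fun _ : M => S) m)) :
    f = toUnit T ≫ TwC.pt S M m := by
  obtain ⟨g, hg⟩ : ∃ g : T.left ⟶ S, g ≫ Sigma.ι (fun _ : M => S) m = f.left :=
    ⟨IsOpenImmersion.lift _ _ h, IsOpenImmersion.lift_fac _ _ _⟩
  have hw : f.left ≫ Sigma.desc (fun _ : M => 𝟙 S) = T.hom := Over.w f
  have h1 : g = T.hom := by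
    rw [← hw, ← hg, Category.assoc, Sigma.ι_desc, Category.comp_id]
  apply Over.OverMorphism.ext
  rw [Over.comp_left, Over.toUnit_left, ← hg, h1]
  rfl

/-- restriction of an object over `S` to an open -/
def res (T : Over S) (U : T.left.Opens) : Over S := Over.mk (U.ι ≫ T.hom)

/-- the inclusion -/
def resι (T : Over S) (U : T.left.Opens) : res T U ⟶ T := Over.homMk U.ι rfl

lemma hom_ext_local {T Y : Over S} (f f' : T ⟶ Y)
    (h : ∀ τ : T.left, ∃ U : T.left.Opens, τ ∈ U ∧ resι T U ≫ f = resι T U ≫ f') : f = f' := by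
  apply Over.OverMorphism.ext
  apply Scheme.hom_ext_of_forall
  intro τ
  obtain ⟨U, hτ, hU⟩ := h τ
  exact ⟨U, hτ, congrArg (fun g => g.left) hU⟩

end Glue



section Key

lemma exists_mem_opensRange {S : Scheme.{u}} {M : Type v} [Small.{u} M]
    (y : ↥(∐ fun _ : M => S)) :
    ∃ m, y ∈ (Sigma.ι (fun _ : M => S) m).opensRange := by
  obtain ⟨m, z, hz⟩ := (sigmaOpenCover (fun _ : M => S)).exists_eq y
  exact ⟨m, z, hz⟩

variable {S : Scheme.{u}} (p : ℕ) [Fact p.Prime] (hp : (p : Γ(S, ⊤)) = 0)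
variable {G' : Over S} [GrpObj G'] (e : G' ≅ TwC.const S (Multiplicative (ZMod p)))
    (he : TwC.IsConstGrp (Multiplicative (ZMod p)) G' e)
    (i : G' ⟶ Red.Ga S) [IsMonHom i]
    (hi : Red.gaFn (TwC.pt S (Multiplicative (ZMod p)) (Multiplicative.ofAdd 1) ≫ e.inv ≫ i) = 1)

include he hi in
/-- the function of a point of the constant group landing in one component -/
lemma gaFn_of_eq_pt {W : Over S} (h : W ⟶ TwC.const S (Multiplicative (ZMod p))) (k : ZMod p)
    (hh : h = toUnit W ≫ TwC.pt S (Multiplicative (ZMod p)) (Multiplicative.ofAdd k)) :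
    Red.gaFn (h ≫ e.inv ≫ i) = ((k.val : ℕ) : Γ(W.left, ⊤)) := by
  rw [hh, Category.assoc, gaFn_comp, gaFn_pt p e he i hi, map_natCast]

include hp he hi in
theorem key_exists (T : Over S) (d : T ⟶ Red.Ga S) (hd : Red.gaFn d ^ p = Red.gaFn d) :
    ∃ g : T ⟶ G', g ≫ i = d := by
  have hpT := p_eq_zero_of hp T
  obtain ⟨t, htdef⟩ : ∃ t, t = Red.gaFn d := ⟨_, rfl⟩
  rw [← htdef] at hd
  have hcover : IsOpenCover (fun m : Multiplicative (ZMod p) => Uk p t m.toAdd) := by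
    unfold IsOpenCover
    rw [eq_top_iff]
    intro τ _
    obtain ⟨k, hk⟩ := exists_mem_Uk p hpT t hd τ
    exact Opens.mem_iSup.2 ⟨Multiplicative.ofAdd k, hk⟩
  obtain ⟨g, hg1, hg2⟩ := exists_glue T.hom
    (fun m : Multiplicative (ZMod p) => Uk p t m.toAdd) hcover
    (fun m m' hmm => Uk_disjoint p hpT t hd _ _ (fun h => hmm (Multiplicative.toAdd.injective h)))
  obtain ⟨h, hh⟩ : ∃ h : T ⟶ TwC.const S (Multiplicative (ZMod p)), h.left = g :=
    ⟨Over.homMk g hg1, rfl⟩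
  refine ⟨h ≫ e.inv, ?_⟩
  apply hom_ext_local
  intro τ
  obtain ⟨k, hk⟩ := exists_mem_Uk p hpT t hd τ
  refine ⟨Uk p t k, hk, ?_⟩
  have h1 : resι T (Uk p t k) ≫ h =
      toUnit (res T (Uk p t k)) ≫ TwC.pt S (Multiplicative (ZMod p)) (Multiplicative.ofAdd k) := by
    apply Over.OverMorphism.ext
    rw [Over.comp_left, Over.comp_left, Over.toUnit_left, hh]
    exact hg2 (Multiplicative.ofAdd k)
  apply gaFn_injective
  rw [Category.assoc, ← Category.assoc, gaFn_of_eq_pt p e he i hi _ k h1, gaFn_comp, ← htdef]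
  exact (res_eq p hpT t hd k).symm

include hp he hi in
theorem key_unique (T : Over S) (g g' : T ⟶ G') (h : g ≫ i = g' ≫ i) : g = g' := by
  rw [← cancel_mono e.hom]
  apply hom_ext_local
  intro τ
  obtain ⟨m, hm⟩ := exists_mem_opensRange ((g ≫ e.hom).left τ)
  obtain ⟨m', hm'⟩ := exists_mem_opensRange ((g' ≫ e.hom).left τ)
  obtain ⟨V, hV⟩ : ∃ V : T.left.Opens, V =
      (g ≫ e.hom).left ⁻¹ᵁ (Sigma.ι (fun _ : Multiplicative (ZMod p) => S) m).opensRange ⊓
      (g' ≫ e.hom).left ⁻¹ᵁ (Sigma.ι (fun _ : Multiplicative (ZMod p) => S) m').opensRange :=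
    ⟨_, rfl⟩
  have hτV : τ ∈ V := by
    rw [hV]
    exact ⟨hm, hm'⟩
  refine ⟨V, hτV, ?_⟩
  have h1 : resι T V ≫ g ≫ e.hom =
      toUnit (res T V) ≫ TwC.pt S (Multiplicative (ZMod p)) m := by
    apply eq_pt_of_range
    rintro _ ⟨z, rfl⟩
    have hz : (V.ι z) ∈ V := (show ↥V from z).2
    exact (hV.le hz).1
  have h2 : resι T V ≫ g' ≫ e.hom =
      toUnit (res T V) ≫ TwC.pt S (Multiplicative (ZMod p)) m' := by
    apply eq_pt_of_range
    rintro _ ⟨z, rfl⟩
    have hz : (V.ι z) ∈ V := (show ↥V from z).2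
    exact (hV.le hz).2
  have e1 := gaFn_of_eq_pt p e he i hi _ m.toAdd h1
  have e2 := gaFn_of_eq_pt p e he i hi _ m'.toAdd h2
  have e3 : (resι T V ≫ g ≫ e.hom) ≫ e.inv ≫ i = (resι T V ≫ g' ≫ e.hom) ≫ e.inv ≫ i := by
    simp only [Category.assoc, Iso.hom_inv_id_assoc]
    rw [h]
  rw [e3, e2] at e1
  have hmm : m = m' := by
    by_contra hne
    have h0 := one_eq_zero_of_natCast_eq p (p_eq_zero_of hp (res T V)) _ _
      (ZMod.val_lt m'.toAdd) (ZMod.val_lt m.toAdd)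
      (fun hv => hne (Multiplicative.toAdd.injective (ZMod.val_injective p hv)).symm) e1
    haveI : Nonempty (⊤ : (res T V).left.Opens) := ⟨⟨⟨τ, hτV⟩, trivial⟩⟩
    haveI : Nontrivial Γ((res T V).left, ⊤) := Scheme.component_nontrivial _ ⊤
    exact one_ne_zero h0
  rw [h1, h2, hmm]

end Key



section Main

variable {S : Scheme.{u}} (p : ℕ) [Fact p.Prime] (hp : (p : Γ(S, ⊤)) = 0)
    (F : Red.Ga S ⟶ Red.Ga S)
    (hF : ∀ (T : Over S) (x : T ⟶ Red.Ga S), Red.gaFn (x ≫ F) = Red.gaFn x ^ p)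
    {G' : Over S} [GrpObj G'] (e : G' ≅ TwC.const S (Multiplicative (ZMod p)))
    (he : TwC.IsConstGrp (Multiplicative (ZMod p)) G' e)
    (i : G' ⟶ Red.Ga S) [IsMonHom i]
    (hi : Red.gaFn (TwC.pt S (Multiplicative (ZMod p)) (Multiplicative.ofAdd 1) ≫ e.inv ≫ i) = 1)

lemma lift_whisker_mul' {E G : Over S} [GrpObj E] [GrpObj G] (u : G ⟶ E) {T : Over S}
    (a : T ⟶ E) (h : T ⟶ G) : lift a h ≫ (E ◁ u) ≫ μ[E] = a * (h ≫ u) := by
  rw [← Category.assoc, lift_whiskerLeft, Hom.mul_def]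

include hp hF he hi in
lemma key (T : Over S) (a b : T ⟶ Red.Ga S)
    (hab : a ≫ (𝟙 (Red.Ga S) * F⁻¹) = b ≫ (𝟙 (Red.Ga S) * F⁻¹)) :
    ∃! g : T ⟶ G', a * (g ≫ i) = b := by
  have hpT := p_eq_zero_of hp T
  have h1 := congrArg Red.gaFn hab
  rw [gaFn_comp_P p F hF, gaFn_comp_P p F hF] at h1
  have hd : Red.gaFn (a⁻¹ * b) ^ p = Red.gaFn (a⁻¹ * b) := by
    rw [gaFn_mul, gaFn_inv, neg_add_eq_sub, frob_sub p hpT]
    linear_combination h1
  obtain ⟨g, hg⟩ := key_exists p hp e he i hi T (a⁻¹ * b) hd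
  refine ⟨g, ?_, ?_⟩
  · show a * (g ≫ i) = b
    rw [hg, mul_inv_cancel_left]
  · intro g' hg'
    apply key_unique p hp e he i hi T
    have h2 : a * (g' ≫ i) = a * (g ≫ i) := by
      rw [hg', hg, mul_inv_cancel_left]
    calc g' ≫ i = a⁻¹ * (a * (g' ≫ i)) := (inv_mul_cancel_left _ _).symm
      _ = a⁻¹ * (a * (g ≫ i)) := by rw [h2]
      _ = g ≫ i := inv_mul_cancel_left _ _

include hp hF he hi in
theorem isPullback_main :
    IsPullback (fst (Red.Ga S) G') ((Red.Ga S ◁ i) ≫ μ[Red.Ga S])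
      (𝟙 (Red.Ga S) * F⁻¹) (𝟙 (Red.Ga S) * F⁻¹) := by
  haveI : IsMonHom (𝟙 (Red.Ga S) * F⁻¹) := isMonHom_P p hp F hF
  have hiP : i ≫ (𝟙 (Red.Ga S) * F⁻¹) = 1 := i_comp_P p hp F hF e he i hi
  have hact : (Red.Ga S ◁ i) ≫ μ[Red.Ga S] = fst (Red.Ga S) G' * (snd (Red.Ga S) G' ≫ i) := by
    have h := lift_whisker_mul' i (fst (Red.Ga S) G') (snd (Red.Ga S) G')
    rwa [lift_fst_snd, Category.id_comp] at h
  have w : fst (Red.Ga S) G' ≫ (𝟙 (Red.Ga S) * F⁻¹) =
      ((Red.Ga S ◁ i) ≫ μ[Red.Ga S]) ≫ (𝟙 (Red.Ga S) * F⁻¹) := by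
    have h5 := MonObj.mul_comp (fst (Red.Ga S) G') (snd (Red.Ga S) G' ≫ i) (𝟙 (Red.Ga S) * F⁻¹)
    rw [hact, h5, Category.assoc, hiP, MonObj.comp_one, _root_.mul_one]
  choose gg hgg using fun (s : PullbackCone (𝟙 (Red.Ga S) * F⁻¹) (𝟙 (Red.Ga S) * F⁻¹)) =>
    (key p hp F hF e he i hi s.pt s.fst s.snd s.condition)
  refine ⟨⟨w⟩, ⟨PullbackCone.IsLimit.mk w (fun s => lift s.fst (gg s)) (fun s => lift_fst _ _)
    (fun s => ?_) (fun s m h1 h2 => ?_)⟩⟩
  · rw [lift_whisker_mul']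
    exact (hgg s).1
  · have h3 : m ≫ snd (Red.Ga S) G' = gg s := by
      apply (hgg s).2
      show s.fst * ((m ≫ snd (Red.Ga S) G') ≫ i) = s.snd
      rw [← h2, hact, MonObj.comp_mul, h1, Category.assoc]
    apply CartesianMonoidalCategory.hom_ext
    · rw [h1, lift_fst]
    · rw [h3, lift_snd]

include hp hF he hi in
theorem main : NonAbH1.IsExactSeq Scheme.fpqcPrecoverage i (𝟙 (Red.Ga S) * F⁻¹) := by
  refine ⟨inferInstance, isMonHom_P p hp F hF, i_comp_P p hp F hF e he i hi,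
    isPullback_main p hp F hF e he i hi, ?_⟩
  apply locTriv _ (Fact.out : p.Prime).one_lt
  have h := gaFn_comp_P p F hF _ (𝟙 (Red.Ga S))
  rwa [Category.id_comp] at h

end Main

end

end Groth.Agent.Lib.Helper4.ArtinSchreier1
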