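import Mathlib
import Groth.Prelude.Def_CAlg
import Groth.Prelude.Def_FlatMod2
import Groth.Prelude.Def_Coh
import Groth.Prelude.Def_CurvBase
import Groth.Agent.Lib.Lead.SD1
import Groth.Agent.Lib.Helper1.AffFin
import Groth.Agent.Lib.Helper8.Loc1
import Groth.Agent.Lib.Helper8.Depth29
import Groth.Agent.Lib.Helper4.CohHartogs1

/-!
# Coherent modules on locally Noetherian schemes: no embedded points iff (S1); dictionary ass points/Sk vs sections (S8871) (helper4)
-/

set_option backward.isDefEq.respectTransparency.types false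
set_option synthInstance.maxHeartbeats 400000
set_option autoImplicit false
set_option linter.unusedSectionVars false
set_option linter.style.haveILetI false
set_option linter.unusedSimpArgs false
universe u v w
open CategoryTheory CategoryTheory.Limits AlgebraicGeometry TopologicalSpace IsLocalRing Opposite Topology

namespace Groth.Agent.Lib.Helper4.CohSk1

attribute [local instance] Groth.Agent.Lead.SD.stalkModule

section aff
variable {X : Scheme.{u}} (F : X.Modules) [F.IsQuasicoherent] {V : X.Opens} (hV : IsAffineOpen V)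

include hV in
theorem finite_sections [IsLocallyNoetherian X] (hft : F.IsFiniteType) :
    Module.Finite Γ(X, V) Γ(F, V) := by
  haveI : Module.Finite Γ(X, V) Γ(F.restrict hV.fromSpec, ⊤) :=
    Groth.Agent.Helper1.AffFin.finite_restrict F inferInstance hft hV.fromSpec
  exact Module.Finite.equiv (Groth.Agent.Lib.Helper4.CohHartogs1.secEquiv F hV).symm

theorem ass_iff [IsNoetherianRing Γ(X, V)] (x : V) :
    Curv2.IsAssPoint F x.1 ↔
      (hV.primeIdealOf x).asIdeal ∈ associatedPrimes Γ(X, V) Γ(F, V) := by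
  haveI := Groth.Agent.Lead.SD.isLocalizedModule_germ F hV x
  haveI := hV.isLocalization_stalk x
  have h := Module.associatedPrimes.preimage_comap_associatedPrimes_eq_associatedPrimes_of_isLocalizedModule
    (hV.primeIdealOf x).asIdeal.primeCompl (X.presheaf.stalk x.1) (Groth.Agent.Lead.SD.germₗ F x)
  have h2 : maximalIdeal (X.presheaf.stalk x.1) ∈ associatedPrimes (X.presheaf.stalk x.1) (F.presheaf.stalk x.1) ↔
      (maximalIdeal (X.presheaf.stalk x.1)).comap (algebraMap Γ(X, V) (X.presheaf.stalk x.1)) ∈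
        associatedPrimes Γ(X, V) Γ(F, V) := by
    rw [← h]; rfl
  have hc : (maximalIdeal (X.presheaf.stalk x.1)).comap (algebraMap Γ(X, V) (X.presheaf.stalk x.1)) =
      (hV.primeIdealOf x).asIdeal :=
    IsLocalization.AtPrime.comap_maximalIdeal (X.presheaf.stalk x.1) (hV.primeIdealOf x).asIdeal
  rw [hc] at h2
  exact h2

theorem sk_iff (x : V) (k : ℕ) :
    (min (k : WithBot ℕ∞) (Module.supportDim ↑(X.presheaf.stalk x.1) ↑(F.presheaf.stalk x.1)) ≤
        ((LocCoh.depth (X.presheaf.stalk x.1) (F.presheaf.stalk x.1) : ℕ∞) : WithBot ℕ∞)) ↔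
    (min (k : WithBot ℕ∞) (Module.supportDim (Localization.AtPrime (hV.primeIdealOf x).asIdeal)
        (LocalizedModule (hV.primeIdealOf x).asIdeal.primeCompl Γ(F, V))) ≤
      ((LocCoh.depth (Localization.AtPrime (hV.primeIdealOf x).asIdeal)
        (LocalizedModule (hV.primeIdealOf x).asIdeal.primeCompl Γ(F, V)) : ℕ∞) : WithBot ℕ∞)) := by
  haveI := Groth.Agent.Lead.SD.isLocalizedModule_germ F hV x
  haveI := hV.isLocalization_stalk x
  rw [Groth.Agent.Helper8.Loc.supportDim_eq (hV.primeIdealOf x).asIdeal Γ(F, V) (X.presheaf.stalk x.1)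
    (F.presheaf.stalk x.1) (Groth.Agent.Lead.SD.germₗ F x),
    Groth.Agent.Helper8.Loc.depth_eq (hV.primeIdealOf x).asIdeal Γ(F, V) (X.presheaf.stalk x.1)
    (F.presheaf.stalk x.1) (Groth.Agent.Lead.SD.germₗ F x)]

theorem spec_iff (x y : V) : y.1 ⤳ x.1 ↔ hV.primeIdealOf y ≤ hV.primeIdealOf x := by
  rw [PrimeSpectrum.le_iff_specializes]
  have := hV.fromSpec.isOpenEmbedding.isInducing.specializes_iff
    (x := hV.primeIdealOf y) (y := hV.primeIdealOf x)
  rw [hV.fromSpec_primeIdealOf, hV.fromSpec_primeIdealOf] at this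
  exact this

end aff

theorem S8871_main (X : Scheme.{u}) [IsLocallyNoetherian X] (F : X.Modules) (hF : Coh.IsCoh F) :
    (∀ x : ↥X, Curv2.IsAssPoint F x → ∀ y : ↥X, Curv2.IsAssPoint F y → y ⤳ x → y = x) ↔
      ∀ x : ↥X, min (1 : WithBot ℕ∞) (Module.supportDim ↑(X.presheaf.stalk x) ↑(F.presheaf.stalk x)) ≤
        ((LocCoh.depth (X.presheaf.stalk x) (F.presheaf.stalk x) : ℕ∞) : WithBot ℕ∞) := by
  haveI : F.IsQuasicoherent := hF.1
  -- the two affine-local properties
  have key : ∀ (V : X.Opens) (hV : IsAffineOpen V),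
      (∀ p ∈ associatedPrimes Γ(X, V) Γ(F, V), p ∈ (Module.annihilator Γ(X, V) Γ(F, V)).minimalPrimes) ↔
        LocCoh.HasSk 1 Γ(X, V) Γ(F, V) := by
    intro V hV
    haveI : IsNoetherianRing Γ(X, V) := IsLocallyNoetherian.component_noetherian ⟨V, hV⟩
    haveI := finite_sections F hV hF.2
    exact Groth.Agent.Helper8.Depth.noEmbeddedPrimes_iff_hasSk_one
  constructor
  · intro h x
    obtain ⟨V, hV, hxV, -⟩ := exists_isAffineOpen_mem_and_subset (x := x) (U := ⊤) trivial
    haveI : IsNoetherianRing Γ(X, V) := IsLocallyNoetherian.component_noetherian ⟨V, hV⟩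
    haveI := finite_sections F hV hF.2
    have hsk : LocCoh.HasSk 1 Γ(X, V) Γ(F, V) := by
      rw [← key V hV]
      intro p hp
      haveI hpp : p.IsPrime := IsAssociatedPrime.isPrime hp
      obtain ⟨q, hq, hqp⟩ := Ideal.exists_minimalPrimes_le
        (I := Module.annihilator Γ(X, V) Γ(F, V)) (J := p) (by
          have := IsAssociatedPrime.annihilator_le hp
          rw [Submodule.annihilator_top] at this
          exact this)
      haveI hqp' : q.IsPrime := hq.1.1
      have hqa : q ∈ associatedPrimes Γ(X, V) Γ(F, V) :=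
        Module.associatedPrimes.minimalPrimes_annihilator_subset_associatedPrimes _ _ hq
      obtain ⟨x', hx'⟩ : ∃ x' : V, x' = ⟨hV.fromSpec ⟨p, hpp⟩, Groth.Agent.Lead.SD.fromSpec_mem hV _⟩ := ⟨_, rfl⟩
      obtain ⟨y', hy'⟩ : ∃ y' : V, y' = ⟨hV.fromSpec ⟨q, hqp'⟩, Groth.Agent.Lead.SD.fromSpec_mem hV _⟩ := ⟨_, rfl⟩
      have hxp : hV.primeIdealOf x' = ⟨p, hpp⟩ := by
        rw [hx']; exact Groth.Agent.Lead.SD.primeIdealOf_fromSpec hV _
      have hyq : hV.primeIdealOf y' = ⟨q, hqp'⟩ := by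
        rw [hy']; exact Groth.Agent.Lead.SD.primeIdealOf_fromSpec hV _
      have h1 : Curv2.IsAssPoint F x'.1 := by rw [ass_iff F hV x', hxp]; exact hp
      have h2 : Curv2.IsAssPoint F y'.1 := by rw [ass_iff F hV y', hyq]; exact hqa
      have h3 : y'.1 ⤳ x'.1 := by rw [spec_iff hV x' y', hxp, hyq]; exact hqp
      have h4 := h x'.1 h1 y'.1 h2 h3
      have h5 : y' = x' := Subtype.ext h4
      have h6 : (⟨q, hqp'⟩ : PrimeSpectrum Γ(X, V)) = ⟨p, hpp⟩ := by rw [← hxp, ← hyq, h5]
      have h7 : q = p := congrArg PrimeSpectrum.asIdeal h6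
      rw [← h7]; exact hq
    have := hsk (hV.primeIdealOf ⟨x, hxV⟩).asIdeal
    exact (sk_iff F hV ⟨x, hxV⟩ 1).2 this
  · intro h x hx y hy hyx
    obtain ⟨V, hV, hxV, -⟩ := exists_isAffineOpen_mem_and_subset (x := x) (U := ⊤) trivial
    have hyV : y ∈ V := hyx.mem_open V.isOpen hxV
    haveI : IsNoetherianRing Γ(X, V) := IsLocallyNoetherian.component_noetherian ⟨V, hV⟩
    haveI := finite_sections F hV hF.2
    have hsk : LocCoh.HasSk 1 Γ(X, V) Γ(F, V) := by
      intro p hp
      obtain ⟨x', hx'⟩ : ∃ x' : V, x' = ⟨hV.fromSpec ⟨p, hp⟩, Groth.Agent.Lead.SD.fromSpec_mem hV _⟩ := ⟨_, rfl⟩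
      have hxp : hV.primeIdealOf x' = ⟨p, hp⟩ := by
        rw [hx']; exact Groth.Agent.Lead.SD.primeIdealOf_fromSpec hV _
      have h1 := (sk_iff F hV x' 1).1 (h x'.1)
      have hpe : (hV.primeIdealOf x').asIdeal = p := congrArg PrimeSpectrum.asIdeal hxp
      have key2 : ∀ (q : Ideal Γ(X, V)) [q.IsPrime], q = p →
          (min ((1 : ℕ) : WithBot ℕ∞) (Module.supportDim (Localization.AtPrime q)
            (LocalizedModule q.primeCompl Γ(F, V))) ≤
          ((LocCoh.depth (Localization.AtPrime q)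
            (LocalizedModule q.primeCompl Γ(F, V)) : ℕ∞) : WithBot ℕ∞)) →
          (min ((1 : ℕ) : WithBot ℕ∞) (Module.supportDim (Localization.AtPrime p)
            (LocalizedModule p.primeCompl Γ(F, V))) ≤
          ((LocCoh.depth (Localization.AtPrime p)
            (LocalizedModule p.primeCompl Γ(F, V)) : ℕ∞) : WithBot ℕ∞)) := by
        rintro q _ rfl hq; exact hq
      exact key2 _ hpe h1
    rw [← key V hV] at hsk
    have h1 := (ass_iff F hV ⟨x, hxV⟩).1 hx
    have h2 := (ass_iff F hV ⟨y, hyV⟩).1 hy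
    have h3 := (spec_iff hV ⟨x, hxV⟩ ⟨y, hyV⟩).1 hyx
    have hmin := hsk _ h1
    have hmin2 := hsk _ h2
    have h4 : (hV.primeIdealOf ⟨x, hxV⟩).asIdeal ≤ (hV.primeIdealOf ⟨y, hyV⟩).asIdeal :=
      hmin.2 hmin2.1 h3
    have h5 : hV.primeIdealOf ⟨y, hyV⟩ = hV.primeIdealOf ⟨x, hxV⟩ :=
      PrimeSpectrum.ext (le_antisymm h3 h4)
    have h6 := congrArg hV.fromSpec h5
    rw [hV.fromSpec_primeIdealOf, hV.fromSpec_primeIdealOf] at h6
    exact h6

end Groth.Agent.Lib.Helper4.CohSk1
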