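import Mathlib
import Groth.Prelude.Def_FDesc
import Groth.Agent.Lib.Lead.SD1
import Groth.Agent.Lib.Helper1.AssFlat1
import Groth.Agent.Lib.Helper4.CohSk1
import Groth.Agent.Lib.Helper1.IdealModL

/-!
# Associated points of a flat module map to maximal points when base has no embedded points (helper4)
-/

set_option backward.isDefEq.respectTransparency.types false
set_option synthInstance.maxHeartbeats 400000
set_option autoImplicit false
set_option linter.unusedSectionVars false
set_option linter.style.haveILetI false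
set_option linter.unusedSimpArgs false
universe u v w
open CategoryTheory CategoryTheory.Limits AlgebraicGeometry TopologicalSpace Opposite IsLocalRing

namespace Groth.Agent.Lib.Helper4.AssFlatMax1

attribute [local instance] Groth.Agent.Lead.SD.stalkModule

theorem alg_step {A M : Type*} [CommRing A] [IsNoetherianRing A] [IsLocalRing A] [AddCommGroup M]
    [Module A M] [Module.Flat A M]
    (t : M) (ht : t ≠ 0) (h : ∀ a ∈ maximalIdeal A, ∃ n : ℕ, a ^ n • t = 0) :
    maximalIdeal A ∈ associatedPrimes A A := by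
  by_contra hnot
  have hex : ∃ a ∈ maximalIdeal A, a ∈ nonZeroDivisors A := by
    by_contra hcon
    push Not at hcon
    have hsub : ((maximalIdeal A : Ideal A) : Set A) ⊆ ⋃ p ∈ associatedPrimes A A, (p : Set A) := by
      rw [biUnion_associatedPrimes_eq_compl_nonZeroDivisors]
      intro a ha
      exact hcon a ha
    obtain ⟨p0, hp0⟩ := associatedPrimes.nonempty A A
    obtain ⟨p, hp, hle⟩ := (Ideal.subset_union_prime_finite (associatedPrimes.finite A A) p0 p0
      (fun i hi _ _ => (show IsAssociatedPrime i A from hi).isPrime)).mp hsub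
    have hpp : p.IsPrime := (show IsAssociatedPrime p A from hp).isPrime
    have : maximalIdeal A = p := (maximalIdeal.isMaximal A).eq_of_le hpp.ne_top hle
    exact hnot (this ▸ hp)
  obtain ⟨a, ham, hnzd⟩ := hex
  obtain ⟨n, hn⟩ := h a ham
  have hreg : IsSMulRegular M (a ^ n) :=
    Module.Flat.isSMulRegular_of_nonZeroDivisors (pow_mem hnzd n)
  exact ht (hreg (by show a ^ n • t = a ^ n • 0; rw [hn, smul_zero]))

theorem main {X Y : Scheme.{u}} (f : X ⟶ Y) [IsLocallyNoetherian X]
    [IsLocallyNoetherian Y] (hY : AssSch.NoEmbedded (Coh.structureModule Y)) (F : X.Modules)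
    (hF : Coh.IsQCoh F)
    (hfl : FlatMod.IsFlatOver f F) (x : X) (hx : x ∈ AssSch.Ass F) (y : Y) (hy : y ⤳ f x) :
    y = f x := by
  have h1 : IsAssociatedPrime (maximalIdeal (Y.presheaf.stalk (f x))) (Y.presheaf.stalk (f x)) := by
    have hx' : IsAssociatedPrime (maximalIdeal (X.presheaf.stalk x)) (F.presheaf.stalk x) := hx
    obtain ⟨hp, t, ht⟩ := (Submodule.isAssociatedPrime_def).1 hx'
    letI := FlatMod.moduleStalkOver f F x
    haveI : Module.Flat (Y.presheaf.stalk (f x)) (F.presheaf.stalk x) := hfl x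
    apply alg_step t
    · rintro rfl
      have : maximalIdeal (X.presheaf.stalk x) = ⊤ := by rw [ht]; simp
      exact (maximalIdeal.isMaximal _).ne_top this
    · intro a ha
      have h2 : (f.stalkMap x).hom a ∈ maximalIdeal (X.presheaf.stalk x) := by
        rw [mem_maximalIdeal, mem_nonunits_iff] at ha ⊢
        intro hu
        exact ha (isUnit_of_map_unit (f.stalkMap x).hom a hu)
      rw [ht, Ideal.mem_radical_iff] at h2
      obtain ⟨n, hn⟩ := h2
      rw [Submodule.mem_colon_singleton, Submodule.mem_bot] at hn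
      refine ⟨n, ?_⟩
      show (f.stalkMap x).hom (a ^ n) • t = 0
      rw [map_pow]; exact hn
  have hfx : f x ∈ AssSch.Ass (Coh.structureModule Y) :=
    (Groth.Agent.Helper1.AssFlat.isAssPoint_structure_iff (f x)).mpr h1
  obtain ⟨_, ⟨V : Y.Opens, hV, rfl⟩, hxV, -⟩ :=
    Y.isBasis_affineOpens.exists_subset_of_mem_open (Set.mem_univ (f x)) isOpen_univ
  haveI : IsNoetherianRing Γ(Y, V) := IsLocallyNoetherian.component_noetherian ⟨V, hV⟩
  have hyV : y ∈ V := hy.mem_open V.isOpen hxV
  obtain ⟨y', rfl⟩ : ∃ y' : V, y'.1 = y := ⟨⟨y, hyV⟩, rfl⟩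
  obtain ⟨q0, hq0min, hq0le⟩ := Ideal.exists_minimalPrimes_le
    (bot_le : (⊥ : Ideal Γ(Y, V)) ≤ (hV.primeIdealOf y').asIdeal)
  have hq0p : q0.IsPrime := hq0min.1.1
  have hq0ass : q0 ∈ associatedPrimes Γ(Y, V) Γ(Y, V) := by
    apply Module.associatedPrimes.minimalPrimes_annihilator_subset_associatedPrimes Γ(Y, V) Γ(Y, V)
    have : Module.annihilator Γ(Y, V) Γ(Y, V) = ⊥ := by
      rw [eq_bot_iff]
      intro r hr
      have := Module.mem_annihilator.mp hr (1 : Γ(Y, V))
      simpa using this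
    rw [this]
    exact hq0min
  obtain ⟨y0, hy0⟩ : ∃ y0 : V, hV.primeIdealOf y0 = ⟨q0, hq0p⟩ :=
    ⟨⟨hV.fromSpec ⟨q0, hq0p⟩, Groth.Agent.Lead.SD.fromSpec_mem hV _⟩,
      Groth.Agent.Lead.SD.primeIdealOf_fromSpec hV _⟩
  haveI : (Coh.structureModule Y).IsQuasicoherent :=
    Groth.Agent.Helper1.IdealModL.isQuasicoherent_structureModule
  have hy0ass : y0.1 ∈ AssSch.Ass (Coh.structureModule Y) := by
    show Curv2.IsAssPoint (Coh.structureModule Y) y0.1
    rw [Groth.Agent.Lib.Helper4.CohSk1.ass_iff (Coh.structureModule Y) hV y0, hy0]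
    exact hq0ass
  have hy0y : y0.1 ⤳ y'.1 :=
    (Groth.Agent.Lib.Helper4.CohSk1.spec_iff hV y' y0).mpr (by rw [hy0]; exact hq0le)
  have h3 : f x = y0.1 := hY (f x) hfx y0.1 hy0ass (hy0y.trans hy)
  rw [← h3] at hy0y
  exact (hy.antisymm hy0y).eq

end Groth.Agent.Lib.Helper4.AssFlatMax1
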