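import Mathlib
import Groth.Agent.Lib.Helper4.GrpKer2

/-!
# S16676: isogeny purely inseparable iff kernel connected; morphism with surjective section is universally injective (helper4)
-/

set_option backward.isDefEq.respectTransparency.types false
set_option synthInstance.maxHeartbeats 400000
set_option autoImplicit false
set_option linter.unusedSectionVars false
set_option linter.style.haveILetI false
set_option linter.unusedSimpArgs false
universe u v w
open CategoryTheory CategoryTheory.Limits AlgebraicGeometry
open MonoidalCategory CartesianMonoidalCategory MonObj GrpObj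
open Groth.Agent.Lib.Helper4.GrpKer1 Groth.Agent.Lib.Helper4.GrpKer2

namespace Groth.Agent.Lib.Helper4.GrpKer3

/-- a morphism with a surjective section is universally injective -/
lemma universallyInjective_of_surjective_section {X Y : Scheme.{u}} (p : X ⟶ Y) (e : Y ⟶ X)
    (he : e ≫ p = 𝟙 Y) [Surjective e] : UniversallyInjective p := by
  constructor
  intro X' Y' i₁ i₂ f' hpb
  -- section of f'
  obtain ⟨s, hs1, hs2⟩ : ∃ s : Y' ⟶ X', s ≫ f' = 𝟙 Y' ∧ s ≫ i₁ = i₂ ≫ e :=
    ⟨hpb.lift (𝟙 Y') (i₂ ≫ e) (by rw [Category.id_comp, Category.assoc, he, Category.comp_id]),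
      hpb.lift_fst _ _ _, hpb.lift_snd _ _ _⟩
  have hbig : IsPullback (s ≫ f') i₂ i₂ (e ≫ p) := by
    rw [hs1, he]
    exact IsPullback.of_horiz_isIso ⟨by simp⟩
  have hleft : IsPullback s i₂ i₁ e := IsPullback.of_right hbig hs2 hpb
  have hsurj : Surjective s := MorphismProperty.of_isPullback (P := @Surjective) hleft.flip inferInstance
  intro x x' hxx
  obtain ⟨y, rfl⟩ := hsurj.surj x
  obtain ⟨y', rfl⟩ := hsurj.surj x'
  have h1 : ∀ z : Y', f' (s z) = z := by
    intro z
    rw [← Scheme.Hom.comp_apply, hs1]; rfl
  rw [h1, h1] at hxx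
  rw [hxx]

/-- the unit section of a kernel -/
lemma isKer_exists_unit {C : Type u} [Category.{v} C] [CartesianMonoidalCategory C]
    {N X Y : C} [GrpObj X] [GrpObj Y] (f : X ⟶ Y) [IsMonHom f] (i : N ⟶ X)
    (h : IsKer i f) : ∃ e : 𝟙_ C ⟶ N, e ≫ i = η[X] := by
  apply h.exists_lift
  rw [IsMonHom.one_hom, MonObj.one_eq_one]

theorem S16676_main (k : Type u) [Field k]
    (X Y : Over (Spec (CommRingCat.of k))) [GrpObj X] [GrpObj Y]
    (f : X ⟶ Y) [IsMonHom f] [IsFinite f.left] [Flat f.left] [Surjective f.left]
    (N : Over (Spec (CommRingCat.of k))) (i : N ⟶ X) (hN : IsKer i f) :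
    UniversallyInjective f.left ↔ ConnectedSpace ↥N.left := by
  rw [isKer_prop_iff hN @UniversallyInjective]
  obtain ⟨e, he⟩ := isKer_exists_unit f i hN
  have hsub : Subsingleton (Spec (CommRingCat.of k)) := inferInstance
  have hne : Nonempty N.left := ⟨e.left (default : Spec (CommRingCat.of k))⟩
  have hfin : IsFinite N.hom := isKer_prop_hom hN @IsFinite inferInstance
  constructor
  · intro hinj
    have : Subsingleton N.left := (N.hom.injective).subsingleton
    exact { toPreconnectedSpace := inferInstance, toNonempty := hne }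
  · intro hconn
    have hdisc : DiscreteTopology N.left := by
      have h1 := N.hom.isDiscrete_preimage_singleton (default : Spec (CommRingCat.of k))
      have h2 : (N.hom ⁻¹' {(default : Spec (CommRingCat.of k))} : Set N.left) = Set.univ := by
        ext x; simp [Subsingleton.elim (N.hom x) default]
      rw [h2] at h1
      exact isDiscrete_univ_iff.mp h1
    have hsubN : Subsingleton N.left := by
      have := (isPreconnected_univ (α := N.left)).subsingleton
      exact ⟨fun a b => this (Set.mem_univ a) (Set.mem_univ b)⟩
    have hesurj : Surjective e.left :=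
      ⟨fun x => ⟨(default : Spec (CommRingCat.of k)), Subsingleton.elim _ _⟩⟩
    have hw : e.left ≫ N.hom = 𝟙 _ := by
      have := Over.w e
      erw [this]; rfl
    exact universallyInjective_of_surjective_section N.hom e.left hw

end Groth.Agent.Lib.Helper4.GrpKer3
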