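import Mathlib
import Groth.Prelude.Def_NonAbH2
import Groth.Agent.Lib.Helper4.GrpKer3

/-!
# Pseudo-torsors under universally injective (e.g. finite connected over a field) group schemes are universally injective (helper4)
-/

set_option backward.isDefEq.respectTransparency.types false
set_option synthInstance.maxHeartbeats 400000
set_option autoImplicit false
set_option linter.unusedSectionVars false
set_option linter.style.haveILetI false
set_option linter.unusedSimpArgs false
universe u v w
open CategoryTheory CategoryTheory.Limits AlgebraicGeometry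
open MonoidalCategory CartesianMonoidalCategory MonObj GrpObj
open Groth.Agent.Lib.Helper4.GrpKer1 Groth.Agent.Lib.Helper4.GrpKer2 Groth.Agent.Lib.Helper4.GrpKer3

namespace Groth.Agent.Lib.Helper4.TorsFC1

/-- unit axiom of an action on points -/
lemma action_one_point {S : Scheme.{u}} {G X : Over S} [GrpObj G] (a : AlgGrp.Action G X)
    {T : Over S} (q : T ⟶ X) : lift (toUnit T ≫ η[G]) q ≫ a.act = q := by
  have h1 : lift (toUnit T ≫ η[G]) q = lift (toUnit T) q ≫ (η[G] ▷ X) := by
    rw [lift_whiskerRight]
  rw [h1, Category.assoc, a.one_act, lift_leftUnitor_hom]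

/-- a finite connected scheme over a field is a single point -/
lemma subsingleton_of_finite_connected (K : Type u) [Field K] (G : Scheme.{u})
    (f : G ⟶ Spec (CommRingCat.of K)) [IsFinite f] [ConnectedSpace G] : Subsingleton G := by
  have hdisc : DiscreteTopology G := by
    have h1 := f.isDiscrete_preimage_singleton (default : Spec (CommRingCat.of K))
    have h2 : (f ⁻¹' {(default : Spec (CommRingCat.of K))} : Set G) = Set.univ := by
      ext x; simp [Subsingleton.elim (f x) default]
    rw [h2] at h1
    exact isDiscrete_univ_iff.mp h1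
  have := (isPreconnected_univ (α := G)).subsingleton
  exact ⟨fun a b => this (Set.mem_univ a) (Set.mem_univ b)⟩

/-- a finite connected group scheme over a field is universally injective over the base -/
lemma universallyInjective_of_finite_connected_grp (K : Type u) [Field K]
    (G : Over (Spec (CommRingCat.of K))) [GrpObj G] [IsFinite G.hom] [ConnectedSpace G.left] :
    UniversallyInjective G.hom := by
  have hsub := subsingleton_of_finite_connected K G.left G.hom
  have hesurj : Surjective η[G].left :=
    ⟨fun x => ⟨(default : Spec (CommRingCat.of K)), Subsingleton.elim _ _⟩⟩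
  have hw : η[G].left ≫ G.hom = 𝟙 _ := by
    have := Over.w η[G]
    erw [this]; rfl
  exact universallyInjective_of_surjective_section G.hom η[G].left hw

/-- a pseudo-torsor under a universally injective group scheme is universally injective -/
lemma universallyInjective_of_pseudoTorsor {S : Scheme.{u}} {G X : Over S} [GrpObj G]
    (a : AlgGrp.Action G X) (h : NonAbH1.IsPseudoTorsorSch a) (hG : UniversallyInjective G.hom) :
    UniversallyInjective X.hom := by
  have hG2 := ((tfae_universallyInjective G.hom).out 0 1).mp hG
  refine ((tfae_universallyInjective X.hom).out 0 1).mpr ?_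
  intro Ω _ g₁ g₂ hg
  dsimp only at hg
  obtain ⟨T, hT⟩ : ∃ T : Over S, T = Over.mk (g₁ ≫ X.hom) := ⟨_, rfl⟩
  obtain ⟨p, hp⟩ : ∃ p : Over.mk (g₁ ≫ X.hom) ⟶ X, p.left = g₁ := ⟨Over.homMk g₁ rfl, rfl⟩
  obtain ⟨q, hq⟩ : ∃ q : Over.mk (g₁ ≫ X.hom) ⟶ X, q.left = g₂ := ⟨Over.homMk g₂ hg.symm, rfl⟩
  unfold NonAbH1.IsPseudoTorsorSch at h
  obtain ⟨r, hr⟩ : ∃ r : Over.mk (g₁ ≫ X.hom) ⟶ G ⊗ X, r ≫ lift a.act (snd G X) = lift p q :=
    ⟨lift p q ≫ inv (lift a.act (snd G X)), by rw [Category.assoc, IsIso.inv_hom_id, Category.comp_id]⟩
  have hr1 : r ≫ a.act = p := by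
    have := congrArg (fun m => m ≫ fst X X) hr
    simpa using this
  have hr2 : r ≫ snd G X = q := by
    have := congrArg (fun m => m ≫ snd X X) hr
    simpa using this
  have hg1 : r ≫ fst G X = toUnit _ ≫ η[G] := by
    apply Over.OverMorphism.ext
    apply hG2 Ω
    dsimp only
    rw [Over.w, Over.w]
  have hr3 : r = lift (toUnit _ ≫ η[G]) q := by
    apply CartesianMonoidalCategory.hom_ext
    · rw [hg1, lift_fst]
    · rw [hr2, lift_snd]
  have : p = q := by
    rw [← hr1, hr3, action_one_point]
  rw [← hp, ← hq, this]

end Groth.Agent.Lib.Helper4.TorsFC1
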