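import Mathlib
import Groth.Prelude.Def_NonAbH2
import Groth.Agent.Lib.Helper4.TorsFC1

/-!
# S18317, S18319: torsors under finite connected group schemes over a field have rational points (etale torsors; fppf over perfect fields) (helper4)
-/

set_option backward.isDefEq.respectTransparency.types false
set_option synthInstance.maxHeartbeats 400000
set_option autoImplicit false
set_option linter.unusedSectionVars false
set_option linter.style.haveILetI false
set_option linter.unusedSimpArgs false
universe u v w
open CategoryTheory CategoryTheory.Limits AlgebraicGeometry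
open MonoidalCategory CartesianMonoidalCategory MonObj GrpObj
open Groth.Agent.Lib.Helper4.GrpKer1 Groth.Agent.Lib.Helper4.GrpKer2 Groth.Agent.Lib.Helper4.GrpKer3 Groth.Agent.Lib.Helper4.TorsFC1

namespace Groth.Agent.Lib.Helper4.TorsFC2

/-- if field-valued points of `X → Spec K` are determined by their image, residue fields are
purely inseparable over `K`. -/
lemma isPurelyInseparable_of_injective_points (K : Type u) [Field K] (X : Scheme.{u})
    (p : X ⟶ Spec (CommRingCat.of K))
    (hX : ∀ (Ω : Type u) [Field Ω], Function.Injective (fun g : Spec (CommRingCat.of Ω) ⟶ X ↦ g ≫ p))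
    (x : X) (ψ : CommRingCat.of K ⟶ X.residueField x)
    (hψ : Spec.map ψ = X.fromSpecResidueField x ≫ p) :
    ψ.hom.IsPurelyInseparable := by
  algebraize [ψ.hom]
  rw [RingHom.IsPurelyInseparable, isPurelyInseparable_iff_subsingleton_emb, subsingleton_iff]
  intro σ₁ σ₂
  apply AlgHom.coe_ringHom_injective
  have key : ∀ σ : (X.residueField x) →ₐ[K] AlgebraicClosure (X.residueField x),
      (Spec.map (CommRingCat.ofHom σ.toRingHom) ≫ X.fromSpecResidueField x) ≫ p =
        Spec.map (CommRingCat.ofHom (algebraMap K (AlgebraicClosure (X.residueField x)))) := by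
    intro σ
    rw [Category.assoc, ← hψ, ← Spec.map_comp]
    congr 1
    ext a
    exact σ.commutes a
  have h1 := hX (AlgebraicClosure (X.residueField x)) ((key σ₁).trans (key σ₂).symm)
  have h2 : Spec.map (CommRingCat.ofHom σ₁.toRingHom) = Spec.map (CommRingCat.ofHom σ₂.toRingHom) := by
    rwa [cancel_mono] at h1
  have h3 := Spec.map_injective h2
  exact congrArg CommRingCat.Hom.hom h3

lemma hasSection_of_bijective (K : Type u) [Field K] (X : Over (Spec (CommRingCat.of K)))
    (x : X.left) (ψ : CommRingCat.of K ⟶ X.left.residueField x)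
    (hψ : Spec.map ψ = X.left.fromSpecResidueField x ≫ X.hom)
    (hbij : Function.Bijective ψ.hom) :
    NonAbH1.HasSectionOver X (𝟙 (Spec (CommRingCat.of K))) := by
  have : IsIso ψ := (ConcreteCategory.isIso_iff_bijective _).mpr hbij
  refine ⟨Spec.map (inv ψ) ≫ X.left.fromSpecResidueField x, ?_⟩
  rw [Category.assoc, ← hψ, ← Spec.map_comp, IsIso.hom_inv_id, Spec.map_id]

lemma exists_member_of_mem_precoverage (P : MorphismProperty Scheme.{u}) {S : Scheme.{u}}
    {R : Presieve S} (hR : R ∈ Scheme.precoverage P S) (x : S) :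
    ∃ (Y : Scheme.{u}) (f : Y ⟶ S), R f ∧ P f ∧ x ∈ Set.range f := by
  obtain ⟨Y, f, hf, hx⟩ := (Presieve.mem_comap_jointlySurjectivePrecoverage_iff _).mp hR.1 x
  exact ⟨Y, f, hf, hR.2 hf, hx⟩

/-- points of a pseudo-torsor under a finite connected group over a field -/
lemma injective_points_of_torsor (K : Type u) [Field K]
    (G X : Over (Spec (CommRingCat.of K))) [GrpObj G] [IsFinite G.hom] [ConnectedSpace G.left]
    (a : AlgGrp.Action G X) (h : NonAbH1.IsPseudoTorsorSch a) :
    ∀ (Ω : Type u) [Field Ω], Function.Injective (fun g : Spec (CommRingCat.of Ω) ⟶ X.left ↦ g ≫ X.hom) :=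
  ((tfae_universallyInjective X.hom).out 0 1).mp
    (universallyInjective_of_pseudoTorsor a h (universallyInjective_of_finite_connected_grp K G))

theorem S18319_main (K : Type u) [Field K]
    [PerfectField K] (G X : Over (Spec (CommRingCat.of K))) [GrpObj G] [IsFinite G.hom] [ConnectedSpace G.left]
    (a : AlgGrp.Action G X) (h : NonAbH1.IsTorsorFor Scheme.fppfPrecoverage a) :
    NonAbH1.HasSectionOver X (𝟙 (Spec (CommRingCat.of K))) := by
  obtain ⟨hps, R, hR, hsec⟩ := h
  obtain ⟨U, f, hRf, -, ⟨u0, hu0⟩⟩ := exists_member_of_mem_precoverage _ hR (default : Spec (CommRingCat.of K))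
  obtain ⟨s, hs⟩ := hsec f hRf
  obtain ⟨x, hx⟩ : ∃ x : X.left, x = s u0 := ⟨_, rfl⟩
  obtain ⟨ψ, hψ⟩ : ∃ ψ : CommRingCat.of K ⟶ X.left.residueField x,
      Spec.map ψ = X.left.fromSpecResidueField x ≫ X.hom := ⟨Spec.preimage _, Spec.map_preimage _⟩
  have hpi := isPurelyInseparable_of_injective_points K X.left X.hom
    (injective_points_of_torsor K G X a hps) x ψ hψ
  apply hasSection_of_bijective K X x ψ hψ
  algebraize [ψ.hom]
  have : Algebra.IsAlgebraic K (X.left.residueField x) := inferInstance
  exact IsPurelyInseparable.bijective_algebraMap_of_isSeparable K (X.left.residueField x)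

/-- `Spec κ(s) → Spec K` is an isomorphism for a field `K` (as in helper7's `FieldBC`). -/
theorem isIso_fromSpecResidueField_field (k : Type u) [Field k] (s : Spec (CommRingCat.of k)) :
    IsIso ((Spec (CommRingCat.of k)).fromSpecResidueField s) := by
  rw [← Scheme.Spec.map_residueFieldIso_inv_eq_fromSpecResidueField]
  have hmax : s.asIdeal.IsMaximal := by
    have : s.asIdeal = ⊥ := Ideal.eq_bot_of_prime s.asIdeal
    rw [this]; exact Ideal.bot_isMaximal
  have hbij : Function.Bijective (algebraMap (CommRingCat.of k) s.asIdeal.ResidueField) :=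
    ⟨(algebraMap k s.asIdeal.ResidueField).injective, Ideal.algebraMap_residueField_surjective _⟩
  have h2 : IsIso (CommRingCat.ofHom (algebraMap (CommRingCat.of k) s.asIdeal.ResidueField)) :=
    (ConcreteCategory.isIso_iff_bijective _).mpr hbij
  infer_instance

/-- residue fields of a scheme étale over a field are separable over the field. -/
lemma isSeparable_of_etale (K : Type u) [Field K] (U : Scheme.{u}) (f : U ⟶ Spec (CommRingCat.of K))
    [Etale f] (u0 : U) (ψ' : CommRingCat.of K ⟶ U.residueField u0)
    (hψ' : Spec.map ψ' = U.fromSpecResidueField u0 ≫ f) :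
    letI := ψ'.hom.toAlgebra
    Algebra.IsSeparable K (U.residueField u0) := by
  obtain ⟨ρ, hρ⟩ : ∃ ρ : CommRingCat.of K ⟶ (Spec (CommRingCat.of K)).residueField (f u0),
      Spec.map ρ = (Spec (CommRingCat.of K)).fromSpecResidueField (f u0) :=
    ⟨Spec.preimage _, Spec.map_preimage _⟩
  have hbij : Function.Bijective ρ.hom := by
    rw [← isIso_SpecMap_iff, hρ]
    exact isIso_fromSpecResidueField_field K _
  have hcomp : ψ' = ρ ≫ f.residueFieldMap u0 := by
    apply Spec.map_injective
    rw [Spec.map_comp, hρ, hψ', Scheme.Hom.SpecMap_residueFieldMap_fromSpecResidueField]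
  letI := ψ'.hom.toAlgebra
  letI := (f.residueFieldMap u0).hom.toAlgebra
  have hsep : Algebra.IsSeparable ((Spec (CommRingCat.of K)).residueField (f u0)) (U.residueField u0) :=
    inferInstance
  refine Algebra.IsSeparable.of_equiv_equiv (RingEquiv.ofBijective ρ.hom hbij).symm
    (RingEquiv.refl _) ?_
  ext a
  obtain ⟨b, rfl⟩ := hbij.2 a
  simp only [RingHom.coe_comp, RingHom.coe_coe, Function.comp_apply, RingEquiv.refl_apply]
  have h1 : (RingEquiv.ofBijective ρ.hom hbij).symm (ρ.hom b) = b :=
    (RingEquiv.ofBijective ρ.hom hbij).symm_apply_apply b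
  rw [h1, RingHom.algebraMap_toAlgebra, RingHom.algebraMap_toAlgebra, hcomp]
  rfl

theorem S18317_main (K : Type u) [Field K]
    (G X : Over (Spec (CommRingCat.of K))) [GrpObj G] [IsFinite G.hom] [ConnectedSpace G.left]
    (a : AlgGrp.Action G X) (h : NonAbH1.IsTorsorFor Scheme.etalePrecoverage a) :
    NonAbH1.HasSectionOver X (𝟙 (Spec (CommRingCat.of K))) := by
  obtain ⟨hps, R, hR, hsec⟩ := h
  obtain ⟨U, f, hRf, hf, ⟨u0, hu0⟩⟩ := exists_member_of_mem_precoverage _ hR (default : Spec (CommRingCat.of K))
  have hfet : Etale f := hf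
  obtain ⟨s, hs⟩ := hsec f hRf
  obtain ⟨ψ, hψ⟩ : ∃ ψ : CommRingCat.of K ⟶ X.left.residueField (s u0),
      Spec.map ψ = X.left.fromSpecResidueField (s u0) ≫ X.hom := ⟨Spec.preimage _, Spec.map_preimage _⟩
  have hpi := isPurelyInseparable_of_injective_points K X.left X.hom
    (injective_points_of_torsor K G X a hps) (s u0) ψ hψ
  apply hasSection_of_bijective K X (s u0) ψ hψ
  have hψ' : Spec.map (ψ ≫ s.residueFieldMap u0) = U.fromSpecResidueField u0 ≫ f := by
    rw [Spec.map_comp, hψ, ← Category.assoc, Scheme.Hom.SpecMap_residueFieldMap_fromSpecResidueField,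
      Category.assoc, hs]
  have hsep' := isSeparable_of_etale K U f u0 _ hψ'
  algebraize [ψ.hom, (s.residueFieldMap u0).hom, (ψ ≫ s.residueFieldMap u0).hom]
  have : IsScalarTower K (X.left.residueField (s u0)) (U.residueField u0) :=
    IsScalarTower.of_algebraMap_eq (fun a => rfl)
  have : Algebra.IsSeparable K (X.left.residueField (s u0)) :=
    Algebra.isSeparable_tower_bot_of_isSeparable K (X.left.residueField (s u0)) (U.residueField u0)
  exact IsPurelyInseparable.bijective_algebraMap_of_isSeparable K (X.left.residueField (s u0))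

end Groth.Agent.Lib.Helper4.TorsFC2
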