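import Mathlib
import Groth.Prelude.Def_W4bk4git07Quot
import Groth.Prelude.Def_QuotSh
import Groth.Agent.Lib.Helper2.Sch.QuotEffK
import Groth.Agent.Lib.Helper2.Sch.EpiFppf
import Groth.Agent.Lib.Helper4.Act1
import Groth.Agent.Lib.Helper4.TorsFC2

/-!
# fppf quotient sheaf representability implies geometric quotient (S16684) (helper4)
-/

set_option backward.isDefEq.respectTransparency.types false
set_option synthInstance.maxHeartbeats 400000
set_option autoImplicit false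
set_option linter.unusedSectionVars false
set_option linter.style.haveILetI false
set_option linter.unusedSimpArgs false
universe u v w
open CategoryTheory CategoryTheory.Limits AlgebraicGeometry TopologicalSpace Opposite
open MonoidalCategory CartesianMonoidalCategory MonObj GrpObj
open Groth.Agent.Helper2.QuotEff (psh pshMap)
open Groth.Agent.Helper2.QuotEffK

namespace Groth.Agent.Lib.Helper4.FppfGeomQuot1

variable {S : Scheme.{u}}

section rel
variable (K : Precoverage Scheme.{u}) [(QuotSh.J K S).Subcanonical]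
variable {R U : Over S} (s t : R ⟶ U)

theorem rel_of_π_eq'
    (heq : ∀ T : Over S, Equivalence (fun a b : T ⟶ U => ∃ r : T ⟶ R, r ≫ t = a ∧ r ≫ s = b))
    (T : Over S) (x y : (psh U).obj (op T))
    (hxy : (coequalizer.π (pshMap s) (pshMap t)).app (op T) x =
      (coequalizer.π (pshMap s) (pshMap t)).app (op T) y) :
    ∃ r : T ⟶ R, r ≫ t = x.down ∧ r ≫ s = y.down := by
  let G := (evaluation (Over S)ᵒᵖ (Type (u+1))).obj (op T)
  have hcol := isColimitCoforkMapOfIsColimit G (coequalizer.condition (pshMap s) (pshMap t))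
    (coequalizerIsCoequalizer (pshMap s) (pshMap t))
  let Us : Set ((psh U).obj (op T)) := {z | ∃ r : T ⟶ R, r ≫ t = x.down ∧ r ≫ s = z.down}
  have heq := heq T
  have H : (G.map (pshMap s)) ⁻¹' Us = (G.map (pshMap t)) ⁻¹' Us := by
    ext r0
    constructor
    · rintro ⟨r, hr1, hr2⟩
      have h1 : ∃ r' : T ⟶ R, r' ≫ t = r0.down ≫ s ∧ r' ≫ s = r0.down ≫ t :=
        heq.symm ⟨r0.down, rfl, rfl⟩
      exact heq.trans ⟨r, hr1, hr2⟩ h1
    · rintro ⟨r, hr1, hr2⟩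
      exact heq.trans ⟨r, hr1, hr2⟩ ⟨r0.down, rfl, rfl⟩
  have key := Types.coequalizer_preimage_image_eq_of_preimage_eq (G.map (pshMap s))
    (G.map (pshMap t)) (G.map (coequalizer.π (pshMap s) (pshMap t))) _ hcol Us H
  have hy : y ∈ (G.map (coequalizer.π (pshMap s) (pshMap t))) ⁻¹'
      ((G.map (coequalizer.π (pshMap s) (pshMap t))) '' Us) :=
    ⟨x, heq.refl _, hxy⟩
  rw [key] at hy
  exact hy

theorem local_rel_of_qπ_app_eq
    (heq : ∀ T : Over S, Equivalence (fun a b : T ⟶ U => ∃ r : T ⟶ R, r ≫ t = a ∧ r ≫ s = b))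
    {T : Over S} (a b : T ⟶ U)
    (hab : (qπ K s t).hom.app (op T) (ULift.up a) = (qπ K s t).hom.app (op T) (ULift.up b)) :
    ∃ Sv : Sieve T, Sv ∈ QuotSh.J K S T ∧ ∀ ⦃T' : Over S⦄ (f : T' ⟶ T), Sv f →
      ∃ r : T' ⟶ R, r ≫ t = f ≫ a ∧ r ≫ s = f ≫ b := by
  classical
  obtain ⟨e, he⟩ := exists_iso_sheafify K s t
  let P := coequalizer (pshMap s) (pshMap t)
  let π := coequalizer.π (pshMap s) (pshMap t)
  have h1 := he T (ULift.up a)
  have h2 := he T (ULift.up b)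
  rw [h1, h2] at hab
  have hinj : Function.Injective (e.hom.hom.app (op T)) :=
    (((sheafToPresheaf (QuotSh.J K S) (Type (u+1))).mapIso e).app (op T)).toEquiv.injective
  have hab' := hinj hab
  have hmem := Presheaf.equalizerSieve_mem (QuotSh.J K S) (toSheafify (QuotSh.J K S) P) _ _ hab'
  refine ⟨_, hmem, ?_⟩
  intro T' f hf
  have hf' : P.map f.op (π.app (op T) (ULift.up a)) = P.map f.op (π.app (op T) (ULift.up b)) := hf
  have na : π.app (op T') ((psh U).map f.op (ULift.up a)) =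
      P.map f.op (π.app (op T) (ULift.up a)) := NatTrans.naturality_apply π f.op _
  have nb : π.app (op T') ((psh U).map f.op (ULift.up b)) =
      P.map f.op (π.app (op T) (ULift.up b)) := NatTrans.naturality_apply π f.op _
  have hf'' : π.app (op T') ((psh U).map f.op (ULift.up a)) =
      π.app (op T') ((psh U).map f.op (ULift.up b)) := na.trans (hf'.trans nb.symm)
  exact rel_of_π_eq' s t heq T' _ _ hf''

theorem local_rel_of_comp_eq
    (heq : ∀ T : Over S, Equivalence (fun a b : T ⟶ U => ∃ r : T ⟶ R, r ≫ t = a ∧ r ≫ s = b))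
    {Y : Over S} (q : U ⟶ Y) (hq : QuotSh.IsQuotient K s t q)
    {T : Over S} (a b : T ⟶ U) (hab : a ≫ q = b ≫ q) :
    ∃ Sv : Sieve T, Sv ∈ QuotSh.J K S T ∧ ∀ ⦃T' : Over S⦄ (f : T' ⟶ T), Sv f →
      ∃ r : T' ⟶ R, r ≫ t = f ≫ a ∧ r ≫ s = f ≫ b := by
  obtain ⟨w, hiso⟩ := hq
  have key : qπ K s t ≫ QuotSh.quotDesc K q w =
      (yonK K).map q ≫ (QuotSh.repIsoUliftYoneda K Y).inv := by
    unfold qπ
    rw [Category.assoc, quotπ_quotDesc, repIso_inv_repMap]
  have h1 : (yonK K).map a ≫ qπ K s t = (yonK K).map b ≫ qπ K s t := by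
    apply (cancel_mono (QuotSh.quotDesc K q w)).1
    calc ((yonK K).map a ≫ qπ K s t) ≫ QuotSh.quotDesc K q w
        = (yonK K).map a ≫ (qπ K s t ≫ QuotSh.quotDesc K q w) :=
          Category.assoc _ _ _
      _ = (yonK K).map a ≫ (yonK K).map q ≫
            (QuotSh.repIsoUliftYoneda K Y).inv := by rw [key]
      _ = (yonK K).map b ≫ (yonK K).map q ≫
            (QuotSh.repIsoUliftYoneda K Y).inv := by
          rw [← Category.assoc, ← Functor.map_comp, hab, Functor.map_comp, Category.assoc]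
      _ = (yonK K).map b ≫ (qπ K s t ≫ QuotSh.quotDesc K q w) := by rw [key]
      _ = ((yonK K).map b ≫ qπ K s t) ≫ QuotSh.quotDesc K q w :=
          (Category.assoc _ _ _).symm
  apply local_rel_of_qπ_app_eq K s t heq
  have h1' := congrArg (fun m => m.hom.app (op T) (ULift.up (𝟙 T))) h1
  have ha : ((yonK K).map a).hom.app (op T) (ULift.up (𝟙 T)) = ULift.up a := by
    show ULift.up (𝟙 T ≫ a) = _
    rw [Category.id_comp]
  have hb : ((yonK K).map b).hom.app (op T) (ULift.up (𝟙 T)) = ULift.up b := by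
    show ULift.up (𝟙 T ≫ b) = _
    rw [Category.id_comp]
  rw [← ha, ← hb]
  exact h1'

end rel


section act
variable {G X : Over S} [GrpObj G] (a : AlgGrp.Action G X)

theorem act_equivalence (T : Over S) :
    Equivalence (fun x y : T ⟶ X => ∃ r : T ⟶ G ⊗ X, r ≫ snd G X = x ∧ r ≫ a.act = y) := by
  have hr : ∀ (r : T ⟶ G ⊗ X), r = lift (r ≫ fst G X) (r ≫ snd G X) := by
    intro r; ext <;> simp
  refine ⟨fun x => ⟨lift 1 x, lift_snd _ _,
    Groth.Agent.Helper4.Act.one_smul' a.act a.one_act x⟩, ?_, ?_⟩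
  · rintro x y ⟨r, hr1, hr2⟩
    refine ⟨lift (r ≫ fst G X)⁻¹ y, lift_snd _ _, ?_⟩
    have e : lift (r ≫ fst G X) x = r := by rw [← hr1]; exact (hr r).symm
    calc lift (r ≫ fst G X)⁻¹ y ≫ a.act
        = lift (r ≫ fst G X)⁻¹ (lift (r ≫ fst G X) x ≫ a.act) ≫ a.act := by rw [e, hr2]
      _ = x := by
        rw [← Groth.Agent.Helper4.Act.mul_smul' a.act a.mul_act, inv_mul_cancel,
          Groth.Agent.Helper4.Act.one_smul' a.act a.one_act]
  · rintro x y z ⟨r1, h11, h12⟩ ⟨r2, h21, h22⟩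
    refine ⟨lift ((r2 ≫ fst G X) * (r1 ≫ fst G X)) x, lift_snd _ _, ?_⟩
    rw [Groth.Agent.Helper4.Act.mul_smul' a.act a.mul_act]
    have e1 : lift (r1 ≫ fst G X) x = r1 := by rw [← h11]; exact (hr r1).symm
    rw [e1, h12]
    have e2 : lift (r2 ≫ fst G X) y = r2 := by rw [← h21]; exact (hr r2).symm
    rw [e2, h22]

end act


/-- Scheme-level data of an fppf quotient: local lifts and the local relation. -/
structure QData {X Y R : Scheme.{u}} (q : X ⟶ Y) (s t : R ⟶ X) : Prop where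
  w : s ≫ q = t ≫ q
  lifts : ∃ Sv : Sieve Y, Sv ∈ Scheme.fppfTopology Y ∧
    ∀ ⦃T : Scheme.{u}⦄ (f : T ⟶ Y), Sv f → ∃ g : T ⟶ X, g ≫ q = f
  rel : ∀ ⦃T : Scheme.{u}⦄ (a b : T ⟶ X), a ≫ q = b ≫ q →
    ∃ Sv : Sieve T, Sv ∈ Scheme.fppfTopology T ∧
      ∀ ⦃T' : Scheme.{u}⦄ (f : T' ⟶ T), Sv f → ∃ r : T' ⟶ R, r ≫ t = f ≫ a ∧ r ≫ s = f ≫ b

section conv
variable {G X Y : Over S} [GrpObj G] (a : AlgGrp.Action G X) (q : X ⟶ Y)

theorem qdata_of_isQuotient
    (hq : QuotSh.IsQuotient Scheme.fppfPrecoverage a.act (snd G X) q) :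
    QData q.left a.act.left (snd G X).left := by
  refine ⟨?_, ?_, ?_⟩
  · obtain ⟨w, -⟩ := hq
    rw [← Over.comp_left, ← Over.comp_left, w]
  · obtain ⟨Sv, hSv, hl⟩ := exists_sieve_of_epi Scheme.fppfPrecoverage q
      (epi_repMap_of_isQuotient Scheme.fppfPrecoverage q hq)
    refine ⟨Sieve.overEquiv Y Sv, (GrothendieckTopology.mem_over_iff _ _).1 hSv, ?_⟩
    intro T f hf
    rw [Sieve.overEquiv_iff] at hf
    obtain ⟨g, hg⟩ := hl _ hf
    exact ⟨g.left, by rw [← Over.comp_left, hg]; rfl⟩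
  · intro T x y hxy
    have hy : y ≫ X.hom = x ≫ X.hom := by
      rw [← Over.w q, ← Category.assoc, ← hxy, Category.assoc]
    let To : Over S := Over.mk (x ≫ X.hom)
    let xo : To ⟶ X := Over.homMk x rfl
    let yo : To ⟶ X := Over.homMk y hy
    have hxyo : xo ≫ q = yo ≫ q := by
      ext
      exact hxy
    obtain ⟨Sv, hSv, hl⟩ := local_rel_of_comp_eq Scheme.fppfPrecoverage a.act (snd G X)
      (act_equivalence a) q hq xo yo hxyo
    refine ⟨Sieve.overEquiv To Sv, (GrothendieckTopology.mem_over_iff _ _).1 hSv, ?_⟩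
    intro T' f hf
    rw [Sieve.overEquiv_iff] at hf
    obtain ⟨r, hr1, hr2⟩ := hl _ hf
    refine ⟨r.left, ?_, ?_⟩
    · have := congrArg CommaMorphism.left hr1
      exact this
    · have := congrArg CommaMorphism.left hr2
      exact this

end conv


section sieve

theorem exists_point_of_sieve {T : Scheme.{u}} (Sv : Sieve T) (hSv : Sv ∈ Scheme.fppfTopology T)
    (x : T) :
    ∃ (T' : Scheme.{u}) (f : T' ⟶ T), Sv f ∧ Flat f ∧ LocallyOfFinitePresentation f ∧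
      x ∈ Set.range f.base := by
  haveI : Scheme.fppfPrecoverage.{u}.HasIsos := by
    unfold Scheme.fppfPrecoverage; infer_instance
  rw [Precoverage.mem_toGrothendieck_iff_of_isStableUnderComposition] at hSv
  obtain ⟨R, hR, hle⟩ := hSv
  obtain ⟨T', f, hRf, hP, hx⟩ :=
    Groth.Agent.Lib.Helper4.TorsFC2.exists_member_of_mem_precoverage _ hR x
  exact ⟨T', f, hle _ _ hRf, hP.1, hP.2, hx⟩

theorem glue_sch {T V : Scheme.{u}} (Sv : Sieve T) (hSv : Sv ∈ Scheme.fppfTopology T)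
    (r : ∀ ⦃T' : Scheme.{u}⦄ (f : T' ⟶ T), Sv f → (T' ⟶ V))
    (hr : ∀ ⦃T' T'' : Scheme.{u}⦄ (f : T' ⟶ T) (g : T'' ⟶ T') (hf : Sv f),
      g ≫ r f hf = r (g ≫ f) (Sv.downward_closed hf g)) :
    ∃ r0 : T ⟶ V, ∀ ⦃T' : Scheme.{u}⦄ (f : T' ⟶ T) (hf : Sv f), f ≫ r0 = r f hf := by
  have hsh : Presieve.IsSheaf Scheme.fppfTopology.{u} (yoneda.obj V) :=
    GrothendieckTopology.Subcanonical.isSheaf_of_isRepresentable _
  let fam : Presieve.FamilyOfElements (yoneda.obj V) Sv.arrows := fun T' f hf => r f hf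
  have hcompat : fam.Compatible := by
    rw [Presieve.compatible_iff_sieveCompatible]
    intro T' T'' f g hf
    exact (hr f g hf).symm
  refine ⟨(hsh Sv hSv).amalgamate fam hcompat, fun T' f hf => ?_⟩
  exact (hsh Sv hSv).valid_glue hcompat f hf

theorem hom_ext_sch {T V : Scheme.{u}} (Sv : Sieve T) (hSv : Sv ∈ Scheme.fppfTopology T)
    (a b : T ⟶ V)
    (hab : ∀ ⦃T' : Scheme.{u}⦄ (f : T' ⟶ T), Sv f → f ≫ a = f ≫ b) : a = b := by
  have hsh : Presieve.IsSheaf Scheme.fppfTopology.{u} (yoneda.obj V) :=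
    GrothendieckTopology.Subcanonical.isSheaf_of_isRepresentable _
  exact (hsh Sv hSv).isSeparatedFor.ext (fun T' f hf => hab f hf)

/-- The affine line over `ℤ`. -/
noncomputable def A1 : Scheme.{u} :=
  Spec (CommRingCat.of (MvPolynomial PUnit.{u+1} (ULift.{u} ℤ)))

/-- Morphisms to the affine line are global sections. -/
noncomputable def sec {Z : Scheme.{u}} : (Z ⟶ A1.{u}) ≃ Γ(Z, ⊤) :=
  (AffineSpace.toSpecMvPolyIntEquiv PUnit.{u+1}).trans (Equiv.funUnique PUnit.{u+1} _)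

theorem sec_comp {Z W : Scheme.{u}} (f : W ⟶ Z) (g : Z ⟶ A1.{u}) :
    sec (f ≫ g) = f.appTop (sec g) := rfl

theorem sec_ext {T : Scheme.{u}} (Sv : Sieve T) (hSv : Sv ∈ Scheme.fppfTopology T)
    (s1 s2 : Γ(T, ⊤))
    (h : ∀ ⦃T' : Scheme.{u}⦄ (f : T' ⟶ T), Sv f → f.appTop s1 = f.appTop s2) : s1 = s2 := by
  have : sec.symm s1 = sec.symm s2 := by
    apply hom_ext_sch Sv hSv
    intro T' f hf
    apply sec.injective
    rw [sec_comp, sec_comp, Equiv.apply_symm_apply, Equiv.apply_symm_apply]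
    exact h f hf
  exact sec.symm.injective this

theorem sec_glue {T : Scheme.{u}} (Sv : Sieve T) (hSv : Sv ∈ Scheme.fppfTopology T)
    (σ : ∀ ⦃T' : Scheme.{u}⦄ (f : T' ⟶ T), Sv f → Γ(T', ⊤))
    (hσ : ∀ ⦃T' T'' : Scheme.{u}⦄ (f : T' ⟶ T) (g : T'' ⟶ T') (hf : Sv f),
      g.appTop (σ f hf) = σ (g ≫ f) (Sv.downward_closed hf g)) :
    ∃ y : Γ(T, ⊤), ∀ ⦃T' : Scheme.{u}⦄ (f : T' ⟶ T) (hf : Sv f), f.appTop y = σ f hf := by
  obtain ⟨r0, hr0⟩ := glue_sch (V := A1.{u}) Sv hSv (fun T' f hf => sec.symm (σ f hf)) (by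
    intro T' T'' f g hf
    apply sec.injective
    rw [sec_comp, Equiv.apply_symm_apply, Equiv.apply_symm_apply]
    exact hσ f g hf)
  refine ⟨sec r0, fun T' f hf => ?_⟩
  rw [← sec_comp, hr0 f hf, Equiv.apply_symm_apply]

end sieve


namespace QData
variable {X Y R : Scheme.{u}} {q : X ⟶ Y} {s t : R ⟶ X}

theorem surjective (h : QData q s t) : Function.Surjective q.base := by
  obtain ⟨Sv, hSv, hl⟩ := h.lifts
  intro y
  obtain ⟨T', f, hf, -, -, ⟨x, hx⟩⟩ := exists_point_of_sieve Sv hSv y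
  obtain ⟨g, hg⟩ := hl f hf
  refine ⟨g.base x, ?_⟩
  rw [← hx, ← hg]
  rfl

theorem orbit (h : QData q s t) : Function.Surjective (pullback.lift s t h.w).base := by
  intro z
  let j0 := (pullback q q).fromSpecResidueField z
  obtain ⟨Sv, hSv, hl⟩ := h.rel (j0 ≫ pullback.snd q q) (j0 ≫ pullback.fst q q) (by
    rw [Category.assoc, Category.assoc, pullback.condition])
  have x0 : Spec ((pullback q q).residueField z) := Classical.arbitrary _
  obtain ⟨T', f, hf, -, -, ⟨x', hx'⟩⟩ := exists_point_of_sieve Sv hSv x0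
  obtain ⟨r, hr1, hr2⟩ := hl f hf
  have hcomp : r ≫ pullback.lift s t h.w = f ≫ j0 := by
    apply pullback.hom_ext
    · rw [Category.assoc, pullback.lift_fst, hr2, Category.assoc]
    · rw [Category.assoc, pullback.lift_snd, hr1, Category.assoc]
  refine ⟨r.base x', ?_⟩
  have h1 : (pullback.lift s t h.w).base (r.base x') = (r ≫ pullback.lift s t h.w).base x' := rfl
  rw [h1, hcomp]
  have h2 : (f ≫ j0).base x' = j0.base (f.base x') := rfl
  rw [h2]
  exact Scheme.fromSpecResidueField_apply _ _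

theorem univSubm (h : QData q s t) :
    MorphismProperty.universally (topologically @Topology.IsQuotientMap) q := by
  obtain ⟨Sv, hSv, hl⟩ := h.lifts
  intro X' Y' i₁ i₂ q' hpb
  have hsurj : Function.Surjective q'.base := by
    haveI : Surjective q := ⟨h.surjective⟩
    haveI : Surjective q' := MorphismProperty.of_isPullback hpb.flip inferInstance
    exact q'.surjective
  refine ⟨Topology.IsCoinducing.of_isOpen_preimage_iff_isOpen fun V => ⟨fun hV => ?_, fun hV => hV.preimage q'.continuous⟩, hsurj⟩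
  rw [isOpen_iff_mem_nhds]
  intro y' hy'
  obtain ⟨T', f, hf, hflat, hlfp, ⟨x, hx⟩⟩ := exists_point_of_sieve Sv hSv (i₂.base y')
  obtain ⟨g, hg⟩ := hl f hf
  -- the base change of the cover member
  let p : pullback f i₂ ⟶ Y' := pullback.snd f i₂
  haveI : Flat p := inferInstance
  haveI : LocallyOfFinitePresentation p := inferInstance
  have hopen : IsOpenMap p.base := p.isOpenMap
  let l : pullback f i₂ ⟶ X' := hpb.lift p (pullback.fst f i₂ ≫ g) (by
    rw [Category.assoc, hg, pullback.condition])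
  have hl1 : l ≫ q' = p := hpb.lift_fst _ _ _
  obtain ⟨w, hw1, hw2⟩ := Scheme.Pullback.exists_preimage_pullback x y' hx
  have hsub : p.base '' (l.base ⁻¹' (q'.base ⁻¹' V)) ⊆ V := by
    rintro _ ⟨w', hw', rfl⟩
    have : p.base w' = q'.base (l.base w') := by rw [← hl1]; rfl
    rw [this]
    exact hw'
  refine Filter.mem_of_superset ?_ hsub
  apply IsOpen.mem_nhds
  · exact hopen _ (hV.preimage l.continuous)
  · refine ⟨w, ?_, hw2⟩
    show q'.base (l.base w) ∈ V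
    have : q'.base (l.base w) = p.base w := by rw [← hl1]; rfl
    rw [this, hw2]
    exact hy'

end QData


theorem comp_appTop_apply {A B C : Scheme.{u}} (f : A ⟶ B) (g : B ⟶ C) (x : Γ(C, ⊤)) :
    (f ≫ g).appTop x = f.appTop (g.appTop x) := by
  rw [Scheme.Hom.comp_appTop]; rfl

namespace QData
variable {X Y R : Scheme.{u}} {q : X ⟶ Y} {s t : R ⟶ X}

/-- An invariant function takes the same value on two lifts of the same point. -/
theorem indep (h : QData q s t) (φ : Γ(X, ⊤)) (hφ : s.appTop φ = t.appTop φ)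
    {T : Scheme.{u}} (a b : T ⟶ X) (hab : a ≫ q = b ≫ q) : a.appTop φ = b.appTop φ := by
  obtain ⟨Sv, hSv, hl⟩ := h.rel a b hab
  apply sec_ext Sv hSv
  intro T' f hf
  obtain ⟨r, hr1, hr2⟩ := hl f hf
  rw [← comp_appTop_apply, ← comp_appTop_apply, ← hr1, ← hr2, comp_appTop_apply,
    comp_appTop_apply, hφ]

theorem sectionsTop (h : QData q s t) :
    Function.Injective q.appTop ∧
      Set.range q.appTop = {φ : Γ(X, ⊤) | s.appTop φ = t.appTop φ} := by
  obtain ⟨Sv, hSv, hl⟩ := h.lifts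
  refine ⟨?_, ?_⟩
  · intro y1 y2 hy
    apply sec_ext Sv hSv
    intro T' f hf
    obtain ⟨g, hg⟩ := hl f hf
    rw [← hg, comp_appTop_apply, comp_appTop_apply, hy]
  · ext φ
    constructor
    · rintro ⟨y, rfl⟩
      show s.appTop (q.appTop y) = t.appTop (q.appTop y)
      rw [← comp_appTop_apply, ← comp_appTop_apply, h.w]
    · intro hφ
      have hφ' : s.appTop φ = t.appTop φ := hφ
      choose g hg using hl
      obtain ⟨y, hy⟩ := sec_glue Sv hSv (fun T' f hf => (g f hf).appTop φ) (by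
        intro T' T'' f k hf
        rw [← comp_appTop_apply]
        apply h.indep φ hφ'
        rw [Category.assoc, hg, hg])
      refine ⟨y, ?_⟩
      have hpb : Sv.pullback q ∈ Scheme.fppfTopology X :=
        Scheme.fppfTopology.pullback_stable q hSv
      apply sec_ext _ hpb
      intro W k hk
      have hk' : Sv (k ≫ q) := hk
      rw [← comp_appTop_apply, hy (k ≫ q) hk']
      apply h.indep φ hφ'
      rw [hg]

end QData


theorem exists_lift_opens {Z W : Scheme.{u}} (V : Z.Opens) (g : W ⟶ Z)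
    (hg : ∀ x : W, g.base x ∈ V) : ∃ g' : W ⟶ V.toScheme, g' ≫ V.ι = g := by
  refine ⟨IsOpenImmersion.lift V.ι g ?_, IsOpenImmersion.lift_fac _ _ _⟩
  rw [Scheme.Opens.range_ι]
  rintro _ ⟨x, rfl⟩
  exact hg x

theorem ι_mem {Z : Scheme.{u}} (V : Z.Opens) (x : V.toScheme) : V.ι.base x ∈ V := by
  have : V.ι.base x ∈ Set.range V.ι.base := ⟨x, rfl⟩
  rw [Scheme.Opens.range_ι] at this
  exact this

namespace QData
variable {X Y R : Scheme.{u}} {q : X ⟶ Y} {s t : R ⟶ X}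

theorem restrict (h : QData q s t) (U : Y.Opens) :
    QData (q.resLE U (q ⁻¹ᵁ U) le_rfl)
      (s.resLE (q ⁻¹ᵁ U) (s ⁻¹ᵁ (q ⁻¹ᵁ U) ⊓ t ⁻¹ᵁ (q ⁻¹ᵁ U)) inf_le_left)
      (t.resLE (q ⁻¹ᵁ U) (s ⁻¹ᵁ (q ⁻¹ᵁ U) ⊓ t ⁻¹ᵁ (q ⁻¹ᵁ U)) inf_le_right) := by
  obtain ⟨V, hV⟩ : ∃ V : X.Opens, V = q ⁻¹ᵁ U := ⟨_, rfl⟩
  obtain ⟨N, hN⟩ : ∃ N : R.Opens, N = s ⁻¹ᵁ (q ⁻¹ᵁ U) ⊓ t ⁻¹ᵁ (q ⁻¹ᵁ U) := ⟨_, rfl⟩
  refine ⟨?_, ?_, ?_⟩
  · rw [← cancel_mono U.ι, Category.assoc, Category.assoc, Scheme.Hom.resLE_comp_ι,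
      ← Category.assoc, ← Category.assoc, Scheme.Hom.resLE_comp_ι, Scheme.Hom.resLE_comp_ι,
      Category.assoc, Category.assoc, h.w]
  · obtain ⟨Sv, hSv, hl⟩ := h.lifts
    refine ⟨Sv.pullback U.ι, Scheme.fppfTopology.pullback_stable U.ι hSv, ?_⟩
    intro T f hf
    have hf' : Sv (f ≫ U.ι) := hf
    obtain ⟨g, hg⟩ := hl _ hf'
    obtain ⟨g', hg'⟩ := exists_lift_opens (q ⁻¹ᵁ U) g (by
      intro x
      show q.base (g.base x) ∈ U
      have : q.base (g.base x) = (g ≫ q).base x := rfl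
      rw [this, hg]
      exact ι_mem U _)
    refine ⟨g', ?_⟩
    rw [← cancel_mono U.ι, Category.assoc, Scheme.Hom.resLE_comp_ι, ← Category.assoc, hg', hg]
  · intro T a b hab
    have hab' : (a ≫ (q ⁻¹ᵁ U).ι) ≫ q = (b ≫ (q ⁻¹ᵁ U).ι) ≫ q := by
      rw [Category.assoc, Category.assoc, ← Scheme.Hom.resLE_comp_ι q (le_refl (q ⁻¹ᵁ U)),
        ← Category.assoc, ← Category.assoc, hab]
    obtain ⟨Sv, hSv, hl⟩ := h.rel _ _ hab'
    refine ⟨Sv, hSv, ?_⟩
    intro T' f hf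
    obtain ⟨r, hr1, hr2⟩ := hl f hf
    obtain ⟨r', hr'⟩ := exists_lift_opens (s ⁻¹ᵁ (q ⁻¹ᵁ U) ⊓ t ⁻¹ᵁ (q ⁻¹ᵁ U)) r (by
      intro x
      refine ⟨?_, ?_⟩
      · show s.base (r.base x) ∈ q ⁻¹ᵁ U
        have : s.base (r.base x) = (r ≫ s).base x := rfl
        rw [this, hr2]
        exact ι_mem _ _
      · show t.base (r.base x) ∈ q ⁻¹ᵁ U
        have : t.base (r.base x) = (r ≫ t).base x := rfl
        rw [this, hr1]
        exact ι_mem _ _)
    refine ⟨r', ?_, ?_⟩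
    · rw [← cancel_mono (q ⁻¹ᵁ U).ι, Category.assoc, Scheme.Hom.resLE_comp_ι, ← Category.assoc,
        hr', hr1, Category.assoc]
    · rw [← cancel_mono (q ⁻¹ᵁ U).ι, Category.assoc, Scheme.Hom.resLE_comp_ι, ← Category.assoc,
        hr', hr2, Category.assoc]

end QData


theorem resLE_appTop_apply {A B : Scheme.{u}} (f : A ⟶ B) (U : B.Opens) (V : A.Opens)
    (e : V ≤ f ⁻¹ᵁ U) (y : Γ(B, U)) :
    (f.resLE U V e).appTop (U.topIso.inv y) = V.topIso.inv (f.appLE U V e y) := by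
  have e1 : (f.resLE U V e).appTop = U.topIso.hom ≫ f.appLE U V e ≫ V.topIso.inv :=
    Scheme.Hom.resLE_app_top f e
  rw [e1]
  simp only [CommRingCat.comp_apply]
  congr 2
  exact Iso.inv_hom_id_apply _ _

namespace QData
variable {X Y R : Scheme.{u}} {q : X ⟶ Y} {s t : R ⟶ X}

theorem sections (h : QData q s t) (U : Y.Opens) :
    Function.Injective (q.app U) ∧
      Set.range (q.app U) = {f : Γ(X, q ⁻¹ᵁ U) |
        s.appLE (q ⁻¹ᵁ U) (s ⁻¹ᵁ (q ⁻¹ᵁ U) ⊓ t ⁻¹ᵁ (q ⁻¹ᵁ U)) inf_le_left f =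
        t.appLE (q ⁻¹ᵁ U) (s ⁻¹ᵁ (q ⁻¹ᵁ U) ⊓ t ⁻¹ᵁ (q ⁻¹ᵁ U)) inf_le_right f} := by
  obtain ⟨hinj, hrange⟩ := (h.restrict U).sectionsTop
  have hU : Function.Injective U.topIso.inv :=
    (ConcreteCategory.bijective_of_isIso U.topIso.inv).1
  have hV : Function.Injective (q ⁻¹ᵁ U).topIso.inv :=
    (ConcreteCategory.bijective_of_isIso (q ⁻¹ᵁ U).topIso.inv).1
  have hVs : Function.Surjective (q ⁻¹ᵁ U).topIso.inv :=
    (ConcreteCategory.bijective_of_isIso (q ⁻¹ᵁ U).topIso.inv).2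
  have hN : Function.Injective (s ⁻¹ᵁ (q ⁻¹ᵁ U) ⊓ t ⁻¹ᵁ (q ⁻¹ᵁ U)).topIso.inv :=
    (ConcreteCategory.bijective_of_isIso _).1
  have key : ∀ y : Γ(Y, U), (q.resLE U (q ⁻¹ᵁ U) le_rfl).appTop (U.topIso.inv y) =
      (q ⁻¹ᵁ U).topIso.inv (q.app U y) := by
    intro y
    rw [resLE_appTop_apply, Scheme.Hom.appLE_eq_app]
  refine ⟨?_, ?_⟩
  · intro y1 y2 hy
    apply hU
    apply hinj
    rw [key, key, hy]
  · ext f
    constructor
    · rintro ⟨y, rfl⟩
      have : (q.resLE U (q ⁻¹ᵁ U) le_rfl).appTop (U.topIso.inv y) ∈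
          Set.range (q.resLE U (q ⁻¹ᵁ U) le_rfl).appTop := ⟨_, rfl⟩
      rw [hrange, key] at this
      have h2 := this
      simp only [Set.mem_setOf_eq] at h2
      rw [resLE_appTop_apply, resLE_appTop_apply] at h2
      exact hN h2
    · intro hf
      have hf' : s.appLE (q ⁻¹ᵁ U) (s ⁻¹ᵁ (q ⁻¹ᵁ U) ⊓ t ⁻¹ᵁ (q ⁻¹ᵁ U)) inf_le_left f =
        t.appLE (q ⁻¹ᵁ U) (s ⁻¹ᵁ (q ⁻¹ᵁ U) ⊓ t ⁻¹ᵁ (q ⁻¹ᵁ U)) inf_le_right f := hf
      have : (q ⁻¹ᵁ U).topIso.inv f ∈ Set.range (q.resLE U (q ⁻¹ᵁ U) le_rfl).appTop := by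
        rw [hrange]
        show _ = _
        rw [resLE_appTop_apply, resLE_appTop_apply, hf']
      obtain ⟨y0, hy0⟩ := this
      obtain ⟨y, rfl⟩ : ∃ y, U.topIso.inv y = y0 :=
        (ConcreteCategory.bijective_of_isIso U.topIso.inv).2 y0
      rw [key] at hy0
      exact ⟨y, hV hy0⟩

end QData

section main
variable {G X Y : Over S} [GrpObj G] (a : AlgGrp.Action G X) (q : X ⟶ Y)

theorem main_S16684
    (hq : QuotSh.IsQuotient Scheme.fppfPrecoverage a.act (snd G X) q) :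
    GIT.IsGeomQuot a q := by
  have h := qdata_of_isQuotient a q hq
  have hinv : GIT.IsInvariant a q := hq.1
  refine ⟨hinv, h.surjective, ?_, h.univSubm, ?_⟩
  · exact h.orbit
  · intro U
    exact h.sections U

end main

end Groth.Agent.Lib.Helper4.FppfGeomQuot1
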