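import Mathlib
import Groth.Prelude.Def_W4bk4git07Quot
import Groth.Prelude.Def_NonAbH2
import Groth.Agent.Lib.Helper4.FppfGeomQuot1
import Groth.Agent.Lib.Helper4.FpqcQuot
import Groth.Agent.S0082

/-!
# fpqc torsor => affine morphism and geometric quotient (S18975); fpqc version of QData (helper4)
-/

set_option backward.isDefEq.respectTransparency.types false
set_option synthInstance.maxHeartbeats 400000
set_option autoImplicit false
set_option linter.unusedSectionVars false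
set_option linter.style.haveILetI false
set_option linter.unusedSimpArgs false
universe u v w
open CategoryTheory CategoryTheory.Limits AlgebraicGeometry TopologicalSpace Opposite
open MonoidalCategory CartesianMonoidalCategory MonObj GrpObj
open Groth.Agent.Lib.Helper4.FppfGeomQuot1

namespace Groth.Agent.Lib.Helper4.FpqcGeomQuot1

/-- Scheme-level data of an fpqc quotient: local lifts and the local relation. -/
structure QDataQ {X Y R : Scheme.{u}} (q : X ⟶ Y) (s t : R ⟶ X) : Prop where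
  w : s ≫ q = t ≫ q
  lifts : ∃ Sv : Sieve Y, Sv ∈ Scheme.fpqcTopology Y ∧
    ∀ ⦃T : Scheme.{u}⦄ (f : T ⟶ Y), Sv f → ∃ g : T ⟶ X, g ≫ q = f
  rel : ∀ ⦃T : Scheme.{u}⦄ (a b : T ⟶ X), a ≫ q = b ≫ q →
    ∃ Sv : Sieve T, Sv ∈ Scheme.fpqcTopology T ∧
      ∀ ⦃T' : Scheme.{u}⦄ (f : T' ⟶ T), Sv f → ∃ r : T' ⟶ R, r ≫ t = f ≫ a ∧ r ≫ s = f ≫ b

section sieve

theorem exists_point_of_sieveQ {T : Scheme.{u}} (Sv : Sieve T) (hSv : Sv ∈ Scheme.fpqcTopology T)
    (x : T) :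
    ∃ (T' : Scheme.{u}) (f : T' ⟶ T), Sv f ∧ Flat f ∧ x ∈ Set.range f.base := by
  rw [Precoverage.mem_toGrothendieck_iff_of_isStableUnderComposition] at hSv
  obtain ⟨R, hR, hle⟩ := hSv
  obtain ⟨T', f, hRf, hP, hx⟩ :=
    Groth.Agent.Lib.Helper4.TorsFC2.exists_member_of_mem_precoverage _ hR.2 x
  exact ⟨T', f, hle _ _ hRf, hP, hx⟩

theorem isQuotientMap_of_lifts {X Y : Scheme.{u}} (q : X ⟶ Y) (Sv : Sieve Y)
    (hSv : Sv ∈ Scheme.fpqcTopology Y)
    (hl : ∀ ⦃T : Scheme.{u}⦄ (f : T ⟶ Y), Sv f → ∃ g : T ⟶ X, g ≫ q = f) :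
    Topology.IsQuotientMap q.base := by
  have hsurj : Function.Surjective q.base := by
    intro y
    obtain ⟨T', f, hf, -, ⟨x, hx⟩⟩ := exists_point_of_sieveQ Sv hSv y
    obtain ⟨g, hg⟩ := hl f hf
    refine ⟨g.base x, ?_⟩
    rw [← hx, ← hg]
    rfl
  refine ⟨Topology.IsCoinducing.of_isOpen_preimage_iff_isOpen fun V =>
    ⟨fun hV => ?_, fun hV => hV.preimage q.continuous⟩, hsurj⟩
  rw [Precoverage.mem_toGrothendieck_iff_of_isStableUnderComposition] at hSv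
  obtain ⟨R, hR, hle⟩ := hSv
  obtain ⟨I0, Ti, f, rfl⟩ := R.exists_eq_ofArrows
  let E : PreZeroHypercover.{u+1} Y := ⟨I0, Ti, f⟩
  have hE : E.presieve₀ = Presieve.ofArrows Ti f := rfl
  have hqc : QuasiCompactCover E := Scheme.presieve₀_mem_qcPrecoverage_iff.mp (hE ▸ hR.1)
  obtain ⟨hcovers, hflat⟩ := (Scheme.presieve₀_mem_precoverage_iff E).mp (hE ▸ hR.2)
  have : ∀ i, Flat (f i) := hflat
  have hpre : ∀ i, IsOpen ((f i).base ⁻¹' V) := by
    intro i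
    obtain ⟨g, hg⟩ := hl (f i) (hle _ _ (Presieve.ofArrows.mk i))
    have : (f i).base ⁻¹' V = g.base ⁻¹' (q.base ⁻¹' V) := by rw [← hg]; rfl
    rw [this]
    exact hV.preimage g.continuous
  rw [isOpen_iff_mem_nhds]
  intro y hy
  obtain ⟨_, ⟨A, hA : IsAffineOpen A, rfl⟩, hyA, -⟩ :=
    Y.isBasis_affineOpens.exists_subset_of_mem_open (Set.mem_univ y) isOpen_univ
  have := Groth.Agent.Lib.Helper4.FpqcQuot.isOpen_inter_of_isCompactOpenCovered f A hA
    (hA.isCompactOpenCovered E) V hpre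
  exact Filter.mem_of_superset (this.mem_nhds ⟨hy, hyA⟩) Set.inter_subset_left

theorem glue_schQ {T V : Scheme.{u}} (Sv : Sieve T) (hSv : Sv ∈ Scheme.fpqcTopology T)
    (r : ∀ ⦃T' : Scheme.{u}⦄ (f : T' ⟶ T), Sv f → (T' ⟶ V))
    (hr : ∀ ⦃T' T'' : Scheme.{u}⦄ (f : T' ⟶ T) (g : T'' ⟶ T') (hf : Sv f),
      g ≫ r f hf = r (g ≫ f) (Sv.downward_closed hf g)) :
    ∃ r0 : T ⟶ V, ∀ ⦃T' : Scheme.{u}⦄ (f : T' ⟶ T) (hf : Sv f), f ≫ r0 = r f hf := by
  have hsh : Presieve.IsSheaf Scheme.fpqcTopology.{u} (yoneda.obj V) :=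
    GrothendieckTopology.Subcanonical.isSheaf_of_isRepresentable _
  let fam : Presieve.FamilyOfElements (yoneda.obj V) Sv.arrows := fun T' f hf => r f hf
  have hcompat : fam.Compatible := by
    rw [Presieve.compatible_iff_sieveCompatible]
    intro T' T'' f g hf
    exact (hr f g hf).symm
  refine ⟨(hsh Sv hSv).amalgamate fam hcompat, fun T' f hf => ?_⟩
  exact (hsh Sv hSv).valid_glue hcompat f hf

theorem hom_ext_schQ {T V : Scheme.{u}} (Sv : Sieve T) (hSv : Sv ∈ Scheme.fpqcTopology T)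
    (a b : T ⟶ V)
    (hab : ∀ ⦃T' : Scheme.{u}⦄ (f : T' ⟶ T), Sv f → f ≫ a = f ≫ b) : a = b := by
  have hsh : Presieve.IsSheaf Scheme.fpqcTopology.{u} (yoneda.obj V) :=
    GrothendieckTopology.Subcanonical.isSheaf_of_isRepresentable _
  exact (hsh Sv hSv).isSeparatedFor.ext (fun T' f hf => hab f hf)

theorem sec_extQ {T : Scheme.{u}} (Sv : Sieve T) (hSv : Sv ∈ Scheme.fpqcTopology T)
    (s1 s2 : Γ(T, ⊤))
    (h : ∀ ⦃T' : Scheme.{u}⦄ (f : T' ⟶ T), Sv f → f.appTop s1 = f.appTop s2) : s1 = s2 := by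
  have : sec.symm s1 = sec.symm s2 := by
    apply hom_ext_schQ Sv hSv
    intro T' f hf
    apply sec.injective
    rw [sec_comp, sec_comp, Equiv.apply_symm_apply, Equiv.apply_symm_apply]
    exact h f hf
  exact sec.symm.injective this

theorem sec_glueQ {T : Scheme.{u}} (Sv : Sieve T) (hSv : Sv ∈ Scheme.fpqcTopology T)
    (σ : ∀ ⦃T' : Scheme.{u}⦄ (f : T' ⟶ T), Sv f → Γ(T', ⊤))
    (hσ : ∀ ⦃T' T'' : Scheme.{u}⦄ (f : T' ⟶ T) (g : T'' ⟶ T') (hf : Sv f),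
      g.appTop (σ f hf) = σ (g ≫ f) (Sv.downward_closed hf g)) :
    ∃ y : Γ(T, ⊤), ∀ ⦃T' : Scheme.{u}⦄ (f : T' ⟶ T) (hf : Sv f), f.appTop y = σ f hf := by
  obtain ⟨r0, hr0⟩ := glue_schQ (V := A1.{u}) Sv hSv (fun T' f hf => sec.symm (σ f hf)) (by
    intro T' T'' f g hf
    apply sec.injective
    rw [sec_comp, Equiv.apply_symm_apply, Equiv.apply_symm_apply]
    exact hσ f g hf)
  refine ⟨sec r0, fun T' f hf => ?_⟩
  rw [← sec_comp, hr0 f hf, Equiv.apply_symm_apply]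

end sieve


namespace QDataQ
variable {X Y R : Scheme.{u}} {q : X ⟶ Y} {s t : R ⟶ X}

theorem surjective (h : QDataQ q s t) : Function.Surjective q.base := by
  obtain ⟨Sv, hSv, hl⟩ := h.lifts
  intro y
  obtain ⟨T', f, hf, -, ⟨x, hx⟩⟩ := exists_point_of_sieveQ Sv hSv y
  obtain ⟨g, hg⟩ := hl f hf
  refine ⟨g.base x, ?_⟩
  rw [← hx, ← hg]
  rfl

theorem orbit (h : QDataQ q s t) : Function.Surjective (pullback.lift s t h.w).base := by
  intro z
  let j0 := (pullback q q).fromSpecResidueField z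
  obtain ⟨Sv, hSv, hl⟩ := h.rel (j0 ≫ pullback.snd q q) (j0 ≫ pullback.fst q q) (by
    rw [Category.assoc, Category.assoc, pullback.condition])
  have x0 : Spec ((pullback q q).residueField z) := Classical.arbitrary _
  obtain ⟨T', f, hf, -, ⟨x', hx'⟩⟩ := exists_point_of_sieveQ Sv hSv x0
  obtain ⟨r, hr1, hr2⟩ := hl f hf
  have hcomp : r ≫ pullback.lift s t h.w = f ≫ j0 := by
    apply pullback.hom_ext
    · rw [Category.assoc, pullback.lift_fst, hr2, Category.assoc]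
    · rw [Category.assoc, pullback.lift_snd, hr1, Category.assoc]
  refine ⟨r.base x', ?_⟩
  have h1 : (pullback.lift s t h.w).base (r.base x') = (r ≫ pullback.lift s t h.w).base x' := rfl
  rw [h1, hcomp]
  have h2 : (f ≫ j0).base x' = j0.base (f.base x') := rfl
  rw [h2]
  exact Scheme.fromSpecResidueField_apply _ _

theorem univSubm (h : QDataQ q s t) :
    MorphismProperty.universally (topologically @Topology.IsQuotientMap) q := by
  obtain ⟨Sv, hSv, hl⟩ := h.lifts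
  intro X' Y' i₁ i₂ q' hpb
  refine isQuotientMap_of_lifts q' (Sv.pullback i₂)
    (Scheme.fpqcTopology.pullback_stable i₂ hSv) ?_
  intro T f hf
  have hf' : Sv (f ≫ i₂) := hf
  obtain ⟨g, hg⟩ := hl _ hf'
  exact ⟨hpb.lift f g hg.symm, hpb.lift_fst _ _ _⟩

end QDataQ


namespace QDataQ
variable {X Y R : Scheme.{u}} {q : X ⟶ Y} {s t : R ⟶ X}

/-- An invariant function takes the same value on two lifts of the same point. -/
theorem indep (h : QDataQ q s t) (φ : Γ(X, ⊤)) (hφ : s.appTop φ = t.appTop φ)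
    {T : Scheme.{u}} (a b : T ⟶ X) (hab : a ≫ q = b ≫ q) : a.appTop φ = b.appTop φ := by
  obtain ⟨Sv, hSv, hl⟩ := h.rel a b hab
  apply sec_extQ Sv hSv
  intro T' f hf
  obtain ⟨r, hr1, hr2⟩ := hl f hf
  rw [← comp_appTop_apply, ← comp_appTop_apply, ← hr1, ← hr2, comp_appTop_apply,
    comp_appTop_apply, hφ]

theorem sectionsTop (h : QDataQ q s t) :
    Function.Injective q.appTop ∧
      Set.range q.appTop = {φ : Γ(X, ⊤) | s.appTop φ = t.appTop φ} := by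
  obtain ⟨Sv, hSv, hl⟩ := h.lifts
  refine ⟨?_, ?_⟩
  · intro y1 y2 hy
    apply sec_extQ Sv hSv
    intro T' f hf
    obtain ⟨g, hg⟩ := hl f hf
    rw [← hg, comp_appTop_apply, comp_appTop_apply, hy]
  · ext φ
    constructor
    · rintro ⟨y, rfl⟩
      show s.appTop (q.appTop y) = t.appTop (q.appTop y)
      rw [← comp_appTop_apply, ← comp_appTop_apply, h.w]
    · intro hφ
      have hφ' : s.appTop φ = t.appTop φ := hφ
      choose g hg using hl
      obtain ⟨y, hy⟩ := sec_glueQ Sv hSv (fun T' f hf => (g f hf).appTop φ) (by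
        intro T' T'' f k hf
        rw [← comp_appTop_apply]
        apply h.indep φ hφ'
        rw [Category.assoc, hg, hg])
      refine ⟨y, ?_⟩
      have hpb : Sv.pullback q ∈ Scheme.fpqcTopology X :=
        Scheme.fpqcTopology.pullback_stable q hSv
      apply sec_extQ _ hpb
      intro W k hk
      have hk' : Sv (k ≫ q) := hk
      rw [← comp_appTop_apply, hy (k ≫ q) hk']
      apply h.indep φ hφ'
      rw [hg]

end QDataQ


namespace QDataQ
variable {X Y R : Scheme.{u}} {q : X ⟶ Y} {s t : R ⟶ X}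

theorem restrict (h : QDataQ q s t) (U : Y.Opens) :
    QDataQ (q.resLE U (q ⁻¹ᵁ U) le_rfl)
      (s.resLE (q ⁻¹ᵁ U) (s ⁻¹ᵁ (q ⁻¹ᵁ U) ⊓ t ⁻¹ᵁ (q ⁻¹ᵁ U)) inf_le_left)
      (t.resLE (q ⁻¹ᵁ U) (s ⁻¹ᵁ (q ⁻¹ᵁ U) ⊓ t ⁻¹ᵁ (q ⁻¹ᵁ U)) inf_le_right) := by
  obtain ⟨V, hV⟩ : ∃ V : X.Opens, V = q ⁻¹ᵁ U := ⟨_, rfl⟩
  obtain ⟨N, hN⟩ : ∃ N : R.Opens, N = s ⁻¹ᵁ (q ⁻¹ᵁ U) ⊓ t ⁻¹ᵁ (q ⁻¹ᵁ U) := ⟨_, rfl⟩
  refine ⟨?_, ?_, ?_⟩
  · rw [← cancel_mono U.ι, Category.assoc, Category.assoc, Scheme.Hom.resLE_comp_ι,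
      ← Category.assoc, ← Category.assoc, Scheme.Hom.resLE_comp_ι, Scheme.Hom.resLE_comp_ι,
      Category.assoc, Category.assoc, h.w]
  · obtain ⟨Sv, hSv, hl⟩ := h.lifts
    refine ⟨Sv.pullback U.ι, Scheme.fpqcTopology.pullback_stable U.ι hSv, ?_⟩
    intro T f hf
    have hf' : Sv (f ≫ U.ι) := hf
    obtain ⟨g, hg⟩ := hl _ hf'
    obtain ⟨g', hg'⟩ := exists_lift_opens (q ⁻¹ᵁ U) g (by
      intro x
      show q.base (g.base x) ∈ U
      have : q.base (g.base x) = (g ≫ q).base x := rfl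
      rw [this, hg]
      exact ι_mem U _)
    refine ⟨g', ?_⟩
    rw [← cancel_mono U.ι, Category.assoc, Scheme.Hom.resLE_comp_ι, ← Category.assoc, hg', hg]
  · intro T a b hab
    have hab' : (a ≫ (q ⁻¹ᵁ U).ι) ≫ q = (b ≫ (q ⁻¹ᵁ U).ι) ≫ q := by
      rw [Category.assoc, Category.assoc, ← Scheme.Hom.resLE_comp_ι q (le_refl (q ⁻¹ᵁ U)),
        ← Category.assoc, ← Category.assoc, hab]
    obtain ⟨Sv, hSv, hl⟩ := h.rel _ _ hab'
    refine ⟨Sv, hSv, ?_⟩
    intro T' f hf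
    obtain ⟨r, hr1, hr2⟩ := hl f hf
    obtain ⟨r', hr'⟩ := exists_lift_opens (s ⁻¹ᵁ (q ⁻¹ᵁ U) ⊓ t ⁻¹ᵁ (q ⁻¹ᵁ U)) r (by
      intro x
      refine ⟨?_, ?_⟩
      · show s.base (r.base x) ∈ q ⁻¹ᵁ U
        have : s.base (r.base x) = (r ≫ s).base x := rfl
        rw [this, hr2]
        exact ι_mem _ _
      · show t.base (r.base x) ∈ q ⁻¹ᵁ U
        have : t.base (r.base x) = (r ≫ t).base x := rfl
        rw [this, hr1]
        exact ι_mem _ _)
    refine ⟨r', ?_, ?_⟩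
    · rw [← cancel_mono (q ⁻¹ᵁ U).ι, Category.assoc, Scheme.Hom.resLE_comp_ι, ← Category.assoc,
        hr', hr1, Category.assoc]
    · rw [← cancel_mono (q ⁻¹ᵁ U).ι, Category.assoc, Scheme.Hom.resLE_comp_ι, ← Category.assoc,
        hr', hr2, Category.assoc]

end QDataQ


namespace QDataQ
variable {X Y R : Scheme.{u}} {q : X ⟶ Y} {s t : R ⟶ X}

theorem sections (h : QDataQ q s t) (U : Y.Opens) :
    Function.Injective (q.app U) ∧
      Set.range (q.app U) = {f : Γ(X, q ⁻¹ᵁ U) |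
        s.appLE (q ⁻¹ᵁ U) (s ⁻¹ᵁ (q ⁻¹ᵁ U) ⊓ t ⁻¹ᵁ (q ⁻¹ᵁ U)) inf_le_left f =
        t.appLE (q ⁻¹ᵁ U) (s ⁻¹ᵁ (q ⁻¹ᵁ U) ⊓ t ⁻¹ᵁ (q ⁻¹ᵁ U)) inf_le_right f} := by
  obtain ⟨hinj, hrange⟩ := (h.restrict U).sectionsTop
  have hU : Function.Injective U.topIso.inv :=
    (ConcreteCategory.bijective_of_isIso U.topIso.inv).1
  have hV : Function.Injective (q ⁻¹ᵁ U).topIso.inv :=
    (ConcreteCategory.bijective_of_isIso (q ⁻¹ᵁ U).topIso.inv).1
  have hVs : Function.Surjective (q ⁻¹ᵁ U).topIso.inv :=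
    (ConcreteCategory.bijective_of_isIso (q ⁻¹ᵁ U).topIso.inv).2
  have hN : Function.Injective (s ⁻¹ᵁ (q ⁻¹ᵁ U) ⊓ t ⁻¹ᵁ (q ⁻¹ᵁ U)).topIso.inv :=
    (ConcreteCategory.bijective_of_isIso _).1
  have key : ∀ y : Γ(Y, U), (q.resLE U (q ⁻¹ᵁ U) le_rfl).appTop (U.topIso.inv y) =
      (q ⁻¹ᵁ U).topIso.inv (q.app U y) := by
    intro y
    rw [resLE_appTop_apply, Scheme.Hom.appLE_eq_app]
  refine ⟨?_, ?_⟩
  · intro y1 y2 hy
    apply hU
    apply hinj
    rw [key, key, hy]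
  · ext f
    constructor
    · rintro ⟨y, rfl⟩
      have : (q.resLE U (q ⁻¹ᵁ U) le_rfl).appTop (U.topIso.inv y) ∈
          Set.range (q.resLE U (q ⁻¹ᵁ U) le_rfl).appTop := ⟨_, rfl⟩
      rw [hrange, key] at this
      have h2 := this
      simp only [Set.mem_setOf_eq] at h2
      rw [resLE_appTop_apply, resLE_appTop_apply] at h2
      exact hN h2
    · intro hf
      have hf' : s.appLE (q ⁻¹ᵁ U) (s ⁻¹ᵁ (q ⁻¹ᵁ U) ⊓ t ⁻¹ᵁ (q ⁻¹ᵁ U)) inf_le_left f =
        t.appLE (q ⁻¹ᵁ U) (s ⁻¹ᵁ (q ⁻¹ᵁ U) ⊓ t ⁻¹ᵁ (q ⁻¹ᵁ U)) inf_le_right f := hf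
      have : (q ⁻¹ᵁ U).topIso.inv f ∈ Set.range (q.resLE U (q ⁻¹ᵁ U) le_rfl).appTop := by
        rw [hrange]
        show _ = _
        rw [resLE_appTop_apply, resLE_appTop_apply, hf']
      obtain ⟨y0, hy0⟩ := this
      obtain ⟨y, rfl⟩ : ∃ y, U.topIso.inv y = y0 :=
        (ConcreteCategory.bijective_of_isIso U.topIso.inv).2 y0
      rw [key] at hy0
      exact ⟨y, hV hy0⟩

end QDataQ



section affine

/-- Affineness of a morphism can be checked on the members of an fpqc covering family. -/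
theorem isAffineHom_of_fpqc_local {X Y : Scheme.{u}} (q : X ⟶ Y) (Rc : Presieve Y)
    (hRc : Rc ∈ Scheme.fpqcPrecoverage Y)
    (h : ∀ ⦃T : Scheme.{u}⦄ (f : T ⟶ Y), Rc f → IsAffineHom (pullback.snd q f)) :
    IsAffineHom q := by
  haveI hdesc : MorphismProperty.DescendsAlong (@IsAffineHom : MorphismProperty Scheme.{u})
      (@Surjective ⊓ @Flat ⊓ @QuasiCompact : MorphismProperty Scheme.{u}) :=
    Groth.Agent.S0082.result.{u}
  obtain ⟨I0, Ti, f, rfl⟩ := Rc.exists_eq_ofArrows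
  let E : PreZeroHypercover.{u+1} Y := ⟨I0, Ti, f⟩
  have hE : E.presieve₀ = Presieve.ofArrows Ti f := rfl
  have hqc : QuasiCompactCover E := Scheme.presieve₀_mem_qcPrecoverage_iff.mp (hE ▸ hRc.1)
  obtain ⟨hcovers, hflat⟩ := (Scheme.presieve₀_mem_precoverage_iff E).mp (hE ▸ hRc.2)
  have hflat' : ∀ i, Flat (f i) := hflat
  rw [IsZariskiLocalAtTarget.iff_of_iSup_eq_top (P := @IsAffineHom) _ (iSup_affineOpens_eq_top Y)]
  intro A
  obtain ⟨n, idx, V, hVaff, hunion⟩ :=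
    QuasiCompactCover.exists_isAffineOpen_of_isCompact E (U := A.1) A.2.isCompact
  have e : ∀ i, V i ≤ (f (idx i)) ⁻¹ᵁ A.1 := by
    intro i x hx
    show (f (idx i)).base x ∈ (A.1 : Set Y)
    rw [← hunion]
    exact Set.mem_iUnion.2 ⟨i, x, hx, rfl⟩
  haveI : ∀ i, IsAffine (V i).toScheme := hVaff
  haveI : IsAffine A.1.toScheme := A.2
  let wi : ∀ i, (V i).toScheme ⟶ A.1.toScheme := fun i => (f (idx i)).resLE A.1 (V i) (e i)
  haveI : ∀ i, Flat (wi i) := fun i => IsZariskiLocalAtSource.resLE (P := @Flat) (e i) (hflat' _)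
  let w : (∐ fun i => (V i).toScheme) ⟶ A.1.toScheme := Sigma.desc wi
  haveI : Flat w := inferInstance
  haveI : Surjective w := by
    apply Surjective.sigmaDesc_of_union_range_eq_univ
    rw [Set.eq_univ_iff_forall]
    intro y
    have hy : (A.1.ι.base y) ∈ (A.1 : Set Y) := ι_mem _ y
    rw [← hunion] at hy
    obtain ⟨i, x, hx, hxy⟩ := Set.mem_iUnion.1 hy
    refine Set.mem_iUnion.2 ⟨i, ⟨⟨x, hx⟩, ?_⟩⟩
    apply A.1.ι.isOpenEmbedding.injective
    have h1 : A.1.ι.base ((wi i).base ⟨x, hx⟩) = (wi i ≫ A.1.ι).base ⟨x, hx⟩ := rfl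
    rw [h1, Scheme.Hom.resLE_comp_ι]
    exact hxy
  haveI : QuasiCompact w := inferInstance
  refine MorphismProperty.of_isPullback_of_descendsAlong (P := @IsAffineHom)
    (Q := (@Surjective ⊓ @Flat ⊓ @QuasiCompact : MorphismProperty Scheme.{u}))
    (IsPullback.of_hasPullback w (q ∣_ A.1)) ⟨⟨inferInstance, inferInstance⟩, inferInstance⟩ ?_
  rw [IsZariskiLocalAtTarget.iff_of_openCover (P := @IsAffineHom)
    (sigmaOpenCover (fun i => (V i).toScheme))]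
  intro i
  show IsAffineHom (pullback.snd (pullback.fst w (q ∣_ A.1)) (Sigma.ι _ i))
  -- paste squares
  have sq1 : IsPullback (pullback.fst (pullback.fst w (q ∣_ A.1)) (Sigma.ι _ i))
      (pullback.snd (pullback.fst w (q ∣_ A.1)) (Sigma.ι _ i))
      (pullback.fst w (q ∣_ A.1)) (Sigma.ι (fun i => (V i).toScheme) i) := IsPullback.of_hasPullback _ _
  have sq2 : IsPullback (pullback.snd w (q ∣_ A.1)) (pullback.fst w (q ∣_ A.1)) (q ∣_ A.1) w :=
    (IsPullback.of_hasPullback w (q ∣_ A.1)).flip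
  have sq3 : IsPullback (q ⁻¹ᵁ A.1).ι (q ∣_ A.1) q A.1.ι := (isPullback_morphismRestrict q A.1).flip
  have sq12 := sq1.paste_horiz sq2
  have sq123 := sq12.paste_horiz sq3
  have hcomp : (Sigma.ι (fun i => (V i).toScheme) i ≫ w) ≫ A.1.ι = (V i).ι ≫ f (idx i) := by
    rw [Sigma.ι_desc]
    exact Scheme.Hom.resLE_comp_ι _ _
  rw [hcomp] at sq123
  -- factor through the pullback along `f (idx i)`
  have sq4 : IsPullback (pullback.fst q (f (idx i))) (pullback.snd q (f (idx i))) q (f (idx i)) :=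
    IsPullback.of_hasPullback _ _
  let l : pullback (pullback.fst w (q ∣_ A.1)) (Sigma.ι _ i) ⟶ pullback q (f (idx i)) :=
    sq4.lift _ (pullback.snd (pullback.fst w (q ∣_ A.1)) (Sigma.ι _ i) ≫ (V i).ι) (by
      rw [sq123.w, Category.assoc])
  have sq5 : IsPullback l (pullback.snd (pullback.fst w (q ∣_ A.1)) (Sigma.ι _ i))
      (pullback.snd q (f (idx i))) (V i).ι := by
    refine IsPullback.of_right ?_ (sq4.lift_snd _ _ _) sq4
    rw [sq4.lift_fst]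
    exact sq123
  haveI : IsAffineHom (pullback.snd q (f (idx i))) := h _ (Presieve.ofArrows.mk (idx i))
  exact MorphismProperty.of_isPullback sq5 inferInstance

end affine


section torsor

theorem qdataQ_of_torsor {X Y R : Scheme.{u}} (q : X ⟶ Y) (s t : R ⟶ X)
    (hpb : IsPullback s t q q) (Rc : Presieve Y) (hRc : Rc ∈ Scheme.fpqcPrecoverage Y)
    (hsec : ∀ ⦃T : Scheme.{u}⦄ (f : T ⟶ Y), Rc f → ∃ g : T ⟶ X, g ≫ q = f) : QDataQ q s t := by
  refine ⟨hpb.w, ?_, ?_⟩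
  · refine ⟨Sieve.generate Rc, Precoverage.generate_mem_toGrothendieck hRc, ?_⟩
    rintro T f ⟨Z, h, g, hg, rfl⟩
    obtain ⟨g', hg'⟩ := hsec g hg
    exact ⟨h ≫ g', by rw [Category.assoc, hg']⟩
  · intro T a b hab
    refine ⟨⊤, Scheme.fpqcTopology.top_mem T, ?_⟩
    intro T' f _
    refine ⟨f ≫ hpb.lift b a hab.symm, ?_, ?_⟩
    · rw [Category.assoc, hpb.lift_snd]
    · rw [Category.assoc, hpb.lift_fst]

theorem isAffineHom_of_torsor {X Y R : Scheme.{u}} (q : X ⟶ Y) (s t : R ⟶ X)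
    (hpb : IsPullback s t q q) [IsAffineHom t] (Rc : Presieve Y)
    (hRc : Rc ∈ Scheme.fpqcPrecoverage Y)
    (hsec : ∀ ⦃T : Scheme.{u}⦄ (f : T ⟶ Y), Rc f → ∃ g : T ⟶ X, g ≫ q = f) : IsAffineHom q := by
  apply isAffineHom_of_fpqc_local q Rc hRc
  intro T f hf
  obtain ⟨g, hg⟩ := hsec f hf
  have outer : IsPullback (pullback.fst t g ≫ s) (pullback.snd t g) q (g ≫ q) :=
    (IsPullback.of_hasPullback t g).paste_horiz hpb
  rw [hg] at outer
  have e : pullback.snd q f = outer.isoPullback.inv ≫ pullback.snd t g := by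
    rw [Iso.eq_inv_comp]
    exact outer.isoPullback_hom_snd
  rw [e]
  haveI : IsAffineHom (pullback.snd t g) :=
    MorphismProperty.pullback_snd (P := @IsAffineHom) t g inferInstance
  infer_instance

theorem isGeomQuot_of_qdataQ {S : Scheme.{u}} {G X Y : Over S} [GrpObj G]
    (a : AlgGrp.Action G X) (q : X ⟶ Y) (hinv : GIT.IsInvariant a q)
    (h : QDataQ q.left a.act.left (snd G X).left) : GIT.IsGeomQuot a q :=
  ⟨hinv, h.surjective, h.orbit, h.univSubm, fun U => h.sections U⟩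

theorem main_S18975 {S : Scheme.{u}} [IsAffine S]
    (G X Y : Over S) [GrpObj G] [IsAffine G.left]
    (a : AlgGrp.Action G X) (φ : X ⟶ Y)
    (hcart : IsPullback a.act (snd G X) φ φ)
    (hloc : NonAbH1.IsLocallyTrivialFor Scheme.fpqcPrecoverage (Over.mk φ.left : Over Y.left)) :
    IsAffineHom φ.left ∧ GIT.IsGeomQuot a φ := by
  obtain ⟨Rc, hRc, hsec⟩ := hloc
  have hpb : IsPullback a.act.left (snd G X).left φ.left φ.left := hcart.map (Over.forget S)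
  have hsec' : ∀ ⦃T : Scheme.{u}⦄ (f : T ⟶ Y.left), Rc f → ∃ g : T ⟶ X.left, g ≫ φ.left = f := by
    intro T f hf
    obtain ⟨s, hs⟩ := hsec f hf
    exact ⟨s, hs⟩
  haveI : IsAffineHom G.hom := inferInstance
  haveI : IsAffineHom (snd G X).left := by
    show IsAffineHom (pullback.snd G.hom X.hom)
    exact MorphismProperty.pullback_snd (P := @IsAffineHom) G.hom X.hom inferInstance
  exact ⟨isAffineHom_of_torsor _ _ _ hpb Rc hRc hsec',
    isGeomQuot_of_qdataQ a φ hcart.w (qdataQ_of_torsor _ _ _ hpb Rc hRc hsec')⟩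

end torsor

end Groth.Agent.Lib.Helper4.FpqcGeomQuot1
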