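import Mathlib
import Groth.Prelude.Def_W4bk4git07Quot
import Groth.Agent.Lib.Helper4.FppfGeomQuot1
import Groth.Agent.Lib.Helper4.FpqcGeomQuot1

/-!
# fpqc descent of geometric quotients (S18507); flat base change of injectivity of O -> f_*O; fpqc descent of sections (helper4)
-/

set_option backward.isDefEq.respectTransparency.types false
set_option synthInstance.maxHeartbeats 400000
set_option autoImplicit false
set_option linter.unusedSectionVars false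
set_option linter.style.haveILetI false
set_option linter.unusedSimpArgs false
universe u v w
open CategoryTheory CategoryTheory.Limits AlgebraicGeometry TopologicalSpace Opposite
open MonoidalCategory CartesianMonoidalCategory MonObj GrpObj
open Groth.Agent.Lib.Helper4.FppfGeomQuot1 Groth.Agent.Lib.Helper4.FpqcGeomQuot1

namespace Groth.Agent.Lib.Helper4.GeomQuotDesc1

theorem appLE_comp_apply {A B C : Scheme.{u}} (f : A ⟶ B) (g : B ⟶ C) (U : C.Opens)
    (V : B.Opens) (W : A.Opens) (e₁ : V ≤ g ⁻¹ᵁ U) (e₂ : W ≤ f ⁻¹ᵁ V) (x : Γ(C, U)) :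
    f.appLE V W e₂ (g.appLE U V e₁ x) =
      (f ≫ g).appLE U W (e₂.trans ((Opens.map f.base).map (homOfLE e₁)).le) x := by
  rw [← Scheme.Hom.appLE_comp_appLE]
  rfl

theorem appLE_congr_hom {A B : Scheme.{u}} {f f' : A ⟶ B} (h : f = f') (U : B.Opens)
    (V : A.Opens) (e : V ≤ f ⁻¹ᵁ U) (x : Γ(B, U)) :
    f.appLE U V e x = f'.appLE U V (h ▸ e) x := by
  subst h
  rfl

theorem injective_of_isPushout {R S R' P : CommRingCat.{u}} (a : R ⟶ S) (b : R ⟶ R')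
    (c : S ⟶ P) (d : R' ⟶ P) (h : IsPushout a b c d) (ha : Function.Injective a.hom)
    (hb : b.hom.Flat) : Function.Injective d.hom := by
  algebraize [a.hom, b.hom]
  have h0 := CommRingCat.isPushout_tensorProduct R S R'
  have ea : CommRingCat.ofHom (algebraMap R S) = a := rfl
  have eb : CommRingCat.ofHom (algebraMap R R') = b := rfl
  rw [ea, eb] at h0
  have hd := IsPushout.inr_isoIsPushout_hom _ _ h0 h
  have hinj : Function.Injective
      (Algebra.TensorProduct.includeRight : R' →ₐ[R] TensorProduct R S R') :=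
    Algebra.TensorProduct.includeRight_injective ha
  rw [← hd]
  intro x y hxy
  apply hinj
  have hiso : Function.Injective (h0.isoIsPushout _ _ h).hom.hom :=
    (ConcreteCategory.bijective_of_isIso (h0.isoIsPushout _ _ h).hom).1
  apply hiso
  exact hxy


/-- Flat base change preserves injectivity of `O_S → iX_* O_X` (for `iX` qcqs). -/
theorem injective_app_of_flat_baseChange {P X T S : Scheme.{u}} {g : P ⟶ X} {iY : P ⟶ T}
    {iX : X ⟶ S} {f : T ⟶ S} (H : IsPullback g iY iX f) [Flat f] [QuasiCompact iX]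
    [QuasiSeparated iX]
    (hinj : ∀ US : S.Opens, Function.Injective (iX.app US)) (UT : T.Opens) :
    Function.Injective (iY.app UT) := by
  -- affine case
  have haff : ∀ (W : S.Opens) (hW : IsAffineOpen W) (N : T.Opens) (hN : IsAffineOpen N)
      (hNW : N ≤ f ⁻¹ᵁ W), Function.Injective (iY.app N) := by
    intro W hW N hN hNW
    have hUY : iY ⁻¹ᵁ N = g ⁻¹ᵁ (iX ⁻¹ᵁ W) ⊓ iY ⁻¹ᵁ N := by
      apply le_antisymm
      · refine le_inf ?_ le_rfl
        intro p hp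
        show iX.base (g.base p) ∈ W
        have e1 : iX.base (g.base p) = (g ≫ iX).base p := rfl
        rw [e1, H.w]
        exact hNW hp
      · exact inf_le_right
    have hcomp : IsCompact (iX ⁻¹ᵁ W : Set X) := iX.isCompact_preimage hW.isCompact
    have hqs : IsQuasiSeparated (iX ⁻¹ᵁ W : Set X) :=
      iX.isQuasiSeparated_preimage hW.isQuasiSeparated
    have hiso := isIso_pushoutSection_of_isQuasiSeparated_of_flat_right H
      (US := W) (UT := N) (UX := iX ⁻¹ᵁ W) (UY := iY ⁻¹ᵁ N) hNW le_rfl hUY hW hN hcomp hqs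
    have hpo := (isIso_pushoutSection_iff ..).mp hiso
    have h1 := injective_of_isPushout _ _ _ _ hpo (by
      rw [Scheme.Hom.appLE_eq_app]; exact hinj W) (f.flat_appLE hW hN _)
    rw [Scheme.Hom.appLE_eq_app] at h1
    exact h1
  intro x y hxy
  -- local equality
  have hloc : ∀ t : UT, ∃ N : T.Opens, t.1 ∈ N ∧ ∃ hNU : N ≤ UT,
      T.presheaf.map (homOfLE hNU).op x = T.presheaf.map (homOfLE hNU).op y := by
    intro t
    obtain ⟨_, ⟨W, hW : IsAffineOpen W, rfl⟩, htW, -⟩ :=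
      S.isBasis_affineOpens.exists_subset_of_mem_open (Set.mem_univ (f.base t.1)) isOpen_univ
    obtain ⟨_, ⟨N, hN : IsAffineOpen N, rfl⟩, htN, hNsub⟩ :=
      T.isBasis_affineOpens.exists_subset_of_mem_open
        (show t.1 ∈ ((UT ⊓ f ⁻¹ᵁ W : T.Opens) : Set T) from ⟨t.2, htW⟩) (UT ⊓ f ⁻¹ᵁ W).isOpen
    have hNU : N ≤ UT := fun p hp => (hNsub hp).1
    have hNW : N ≤ f ⁻¹ᵁ W := fun p hp => (hNsub hp).2
    refine ⟨N, htN, hNU, ?_⟩
    apply haff W hW N hN hNW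
    have nat := iY.naturality (homOfLE hNU).op
    have e1 := congrArg (fun k => k.hom x) nat
    have e2 := congrArg (fun k => k.hom y) nat
    simp only [CommRingCat.hom_comp, RingHom.coe_comp, Function.comp_apply] at e1 e2
    rw [e1, e2, hxy]
  choose N htN hNU hN using hloc
  exact T.sheaf.eq_of_locally_eq' N UT (fun t => homOfLE (hNU t))
    (fun p hp => by
      rw [Opens.mem_iSup]
      exact ⟨⟨p, hp⟩, htN ⟨p, hp⟩⟩) x y hN


theorem topIso_inv_appTop {B Z : Scheme.{u}} (V : B.Opens) (k : Z ⟶ V.toScheme) (x : Γ(B, V)) :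
    k.appTop (V.topIso.inv x) =
      (k ≫ V.ι).appLE V ⊤ (fun z _ => ι_mem V (k.base z)) x := by
  have h1 : V.ι.appLE V ⊤ (fun z _ => ι_mem V z) = V.topIso.inv := by
    rw [Scheme.Opens.ι_appLE, Scheme.Opens.topIso_inv]
    rfl
  have h2 : k.appLE ⊤ ⊤ le_top = k.appTop := by
    rw [Scheme.Hom.appTop, Scheme.Hom.app_eq_appLE]
    rfl
  rw [← h1, ← h2, appLE_comp_apply]

theorem morphismRestrict_appTop_apply {A B : Scheme.{u}} (f : A ⟶ B) (U : B.Opens) (y : Γ(B, U)) :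
    (f ∣_ U).appTop (U.topIso.inv y) = (f ⁻¹ᵁ U).topIso.inv (f.app U y) := by
  rw [← Scheme.Hom.resLE_eq_morphismRestrict, resLE_appTop_apply, Scheme.Hom.appLE_eq_app]

section fpqc
variable {Y' Y : Scheme.{u}} (α : Y' ⟶ Y) [Flat α] [Surjective α] [QuasiCompact α]

theorem effectiveEpi_restrict (U : Y.Opens) : EffectiveEpi (α ∣_ U) := by
  haveI : Flat (α ∣_ U) := MorphismProperty.of_isPullback (isPullback_morphismRestrict α U).flip
    inferInstance
  haveI : Surjective (α ∣_ U) :=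
    MorphismProperty.of_isPullback (isPullback_morphismRestrict α U).flip inferInstance
  haveI : QuasiCompact (α ∣_ U) :=
    MorphismProperty.of_isPullback (isPullback_morphismRestrict α U).flip inferInstance
  infer_instance

theorem injective_app_of_fpqc (U : Y.Opens) : Function.Injective (α.app U) := by
  haveI := effectiveEpi_restrict α U
  intro x y hxy
  have h1 : (α ∣_ U) ≫ sec.symm (U.topIso.inv x) = (α ∣_ U) ≫ sec.symm (U.topIso.inv y) := by
    apply sec.injective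
    rw [sec_comp, sec_comp, Equiv.apply_symm_apply, Equiv.apply_symm_apply,
      morphismRestrict_appTop_apply, morphismRestrict_appTop_apply, hxy]
  have h2 := (cancel_epi _).1 h1
  have h3 := sec.symm.injective h2
  exact (ConcreteCategory.bijective_of_isIso U.topIso.inv).1 h3

theorem exists_descent_section (U : Y.Opens) (g' : Γ(Y', α ⁻¹ᵁ U))
    (hcoc : ∀ (Z : Scheme.{u}) (k₁ k₂ : Z ⟶ Y') (_ : k₁ ≫ α = k₂ ≫ α)
      (e₁ : ⊤ ≤ k₁ ⁻¹ᵁ (α ⁻¹ᵁ U)) (e₂ : ⊤ ≤ k₂ ⁻¹ᵁ (α ⁻¹ᵁ U)),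
      k₁.appLE (α ⁻¹ᵁ U) ⊤ e₁ g' = k₂.appLE (α ⁻¹ᵁ U) ⊤ e₂ g') :
    ∃ g : Γ(Y, U), α.app U g = g' := by
  haveI := effectiveEpi_restrict α U
  let m' : (α ⁻¹ᵁ U).toScheme ⟶ A1.{u} := sec.symm ((α ⁻¹ᵁ U).topIso.inv g')
  have hm' : ∀ {Z : Scheme.{u}} (k₁ k₂ : Z ⟶ (α ⁻¹ᵁ U).toScheme),
      k₁ ≫ (α ∣_ U) = k₂ ≫ (α ∣_ U) → k₁ ≫ m' = k₂ ≫ m' := by
    intro Z k₁ k₂ hk
    apply sec.injective
    rw [sec_comp, sec_comp, Equiv.apply_symm_apply, topIso_inv_appTop, topIso_inv_appTop]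
    apply hcoc
    rw [Category.assoc, Category.assoc, ← morphismRestrict_ι, ← Category.assoc, ← Category.assoc, hk]
  let m : U.toScheme ⟶ A1.{u} := EffectiveEpi.desc (α ∣_ U) m' hm'
  have hfac : (α ∣_ U) ≫ m = m' := EffectiveEpi.fac _ _ _
  refine ⟨U.topIso.hom (sec m), ?_⟩
  apply (ConcreteCategory.bijective_of_isIso (α ⁻¹ᵁ U).topIso.inv).1
  rw [← morphismRestrict_appTop_apply]
  have h1 : U.topIso.inv (U.topIso.hom (sec m)) = sec m := Iso.hom_inv_id_apply _ _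
  rw [h1, ← sec_comp, hfac, Equiv.apply_symm_apply]

end fpqc


theorem exists_lift_point {Z Y Y' : Scheme.{u}} (y : Z ⟶ Y) (α : Y' ⟶ Y) [Surjective α] (z0 : Z) :
    ∃ (L : Scheme.{u}) (tt : L ⟶ Z) (yL : L ⟶ Y') (l0 : L), tt ≫ y = yL ≫ α ∧ tt.base l0 = z0 := by
  obtain ⟨y', hy'⟩ := α.surjective (y.base z0)
  obtain ⟨q0, hq1, hq2⟩ := Scheme.Pullback.exists_preimage_pullback (f := y) (g := α)
    z0 y' hy'.symm
  exact ⟨pullback y α, pullback.fst y α, pullback.snd y α, q0, pullback.condition, hq1⟩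

section descent
variable {X Y X' Y' R R' : Scheme.{u}} {φ : X ⟶ Y} {φ' : X' ⟶ Y'} {α : Y' ⟶ Y} {pr : X' ⟶ X}
  (H : IsPullback pr φ' φ α)
  {s t : R ⟶ X} {s' t' : R' ⟶ X'} {ρ : R' ⟶ R}
  (hs : s' ≫ pr = ρ ≫ s) (ht : t' ≫ pr = ρ ≫ t)
  (w : s ≫ φ = t ≫ φ) (w' : s' ≫ φ' = t' ≫ φ')

include H in
theorem desc_surjective [Surjective α] (h : Function.Surjective φ'.base) :
    Function.Surjective φ.base := by
  intro y
  obtain ⟨y', rfl⟩ := α.surjective y
  obtain ⟨x', rfl⟩ := h y'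
  refine ⟨pr.base x', ?_⟩
  have e1 : φ.base (pr.base x') = (pr ≫ φ).base x' := rfl
  rw [e1, H.w]
  rfl

include H hs ht in
theorem desc_orbit [Surjective α] (h : Function.Surjective (pullback.lift s' t' w').base) :
    Function.Surjective (pullback.lift s t w).base := by
  intro z
  let j0 := (pullback φ φ).fromSpecResidueField z
  let x1 := j0 ≫ pullback.fst φ φ
  let x2 := j0 ≫ pullback.snd φ φ
  have hx12 : x1 ≫ φ = x2 ≫ φ := by
    simp only [x1, x2, Category.assoc, pullback.condition]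
  -- a point of Y' over the image
  have pt0 : Spec ((pullback φ φ).residueField z) := Classical.arbitrary _
  obtain ⟨L, tt, yL, ptL, hyL, -⟩ := exists_lift_point (x1 ≫ φ) α pt0
  let x1' := H.lift (tt ≫ x1) yL (by rw [Category.assoc, hyL])
  let x2' := H.lift (tt ≫ x2) yL (by rw [Category.assoc, ← hx12, hyL])
  have h1f : x1' ≫ pr = tt ≫ x1 := H.lift_fst _ _ _
  have h1s : x1' ≫ φ' = yL := H.lift_snd _ _ _
  have h2f : x2' ≫ pr = tt ≫ x2 := H.lift_fst _ _ _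
  have h2s : x2' ≫ φ' = yL := H.lift_snd _ _ _
  let z' := pullback.lift x1' x2' (by rw [h1s, h2s])
  obtain ⟨w0, hw0⟩ := h (z'.base ptL)
  refine ⟨ρ.base w0, ?_⟩
  -- compatibility of the orbit maps
  have hcomp : ρ ≫ pullback.lift s t w = pullback.lift s' t' w' ≫
      pullback.map φ' φ' φ φ pr pr α H.w.symm H.w.symm := by
    apply pullback.hom_ext
    · rw [Category.assoc, pullback.lift_fst, Category.assoc, pullback.lift_fst,
        ← Category.assoc, pullback.lift_fst, hs]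
    · rw [Category.assoc, pullback.lift_snd, Category.assoc, pullback.lift_snd,
        ← Category.assoc, pullback.lift_snd, ht]
  have hz' : z' ≫ pullback.map φ' φ' φ φ pr pr α H.w.symm H.w.symm = tt ≫ j0 := by
    apply pullback.hom_ext
    · rw [Category.assoc, pullback.lift_fst, ← Category.assoc, pullback.lift_fst, h1f,
        Category.assoc]
    · rw [Category.assoc, pullback.lift_snd, ← Category.assoc, pullback.lift_snd, h2f,
        Category.assoc]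
  have e1 : (pullback.lift s t w).base (ρ.base w0) = (ρ ≫ pullback.lift s t w).base w0 := rfl
  rw [e1, hcomp]
  have e2 : (pullback.lift s' t' w' ≫ pullback.map φ' φ' φ φ pr pr α H.w.symm H.w.symm).base w0 =
      (pullback.map φ' φ' φ φ pr pr α H.w.symm H.w.symm).base ((pullback.lift s' t' w').base w0) :=
    rfl
  rw [e2, hw0]
  have e3 : (pullback.map φ' φ' φ φ pr pr α H.w.symm H.w.symm).base (z'.base ptL) =
      (z' ≫ pullback.map φ' φ' φ φ pr pr α H.w.symm H.w.symm).base ptL := rfl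
  rw [e3, hz']
  have e4 : (tt ≫ j0).base ptL = j0.base (tt.base ptL) := rfl
  rw [e4]
  exact Scheme.fromSpecResidueField_apply _ _

include H in
theorem desc_univSubm [Flat α] [Surjective α] [QuasiCompact α]
    (h : MorphismProperty.universally (topologically @Topology.IsQuotientMap) φ') :
    MorphismProperty.universally (topologically @Topology.IsQuotientMap) φ := by
  intro X₁ Z i₁ i₂ q' hpb
  let αZ : pullback i₂ α ⟶ Z := pullback.fst i₂ α
  have hαZ : Topology.IsQuotientMap αZ.base := Flat.isQuotientMap_of_surjective αZ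
  let sZ : pullback q' αZ ⟶ pullback i₂ α := pullback.snd q' αZ
  have hw0 : (pullback.fst q' αZ ≫ i₁) ≫ φ = (sZ ≫ pullback.snd i₂ α) ≫ α := by
    rw [Category.assoc, ← hpb.w, ← Category.assoc, pullback.condition, Category.assoc,
      Category.assoc, pullback.condition]
  let uu : pullback q' αZ ⟶ X' := H.lift (pullback.fst q' αZ ≫ i₁) (sZ ≫ pullback.snd i₂ α) hw0
  have hu1 : uu ≫ pr = pullback.fst q' αZ ≫ i₁ := H.lift_fst _ _ _
  have hu2 : uu ≫ φ' = sZ ≫ pullback.snd i₂ α := H.lift_snd _ _ _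
  have outer : IsPullback (pullback.fst q' αZ ≫ i₁) sZ φ (αZ ≫ i₂) :=
    (IsPullback.of_hasPullback q' αZ).paste_horiz hpb.flip
  have outer' : IsPullback (uu ≫ pr) sZ φ (pullback.snd i₂ α ≫ α) := by
    rw [hu1, ← pullback.condition]
    exact outer
  have sq : IsPullback uu sZ φ' (pullback.snd i₂ α) := IsPullback.of_right outer' hu2 H
  have hsZ : Topology.IsQuotientMap sZ.base := h _ _ _ sq.flip
  have hcomp : Topology.IsQuotientMap (αZ.base ∘ sZ.base) := hαZ.comp hsZ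
  have heq : (αZ.base ∘ sZ.base : _ → _) = q'.base ∘ (pullback.fst q' αZ).base := by
    ext p0
    have e1 : αZ.base (sZ.base p0) = (sZ ≫ αZ).base p0 := rfl
    have e2 : q'.base ((pullback.fst q' αZ).base p0) = (pullback.fst q' αZ ≫ q').base p0 := rfl
    show αZ.base (sZ.base p0) = q'.base ((pullback.fst q' αZ).base p0)
    rw [e1, e2, pullback.condition]
  rw [heq] at hcomp
  exact Topology.IsQuotientMap.of_comp (pullback.fst q' αZ).continuous q'.continuous hcomp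

theorem le_of_square {A B C D : Scheme.{u}} {a : A ⟶ B} {b : B ⟶ D} {c : A ⟶ C} {d : C ⟶ D}
    (h : a ≫ b = c ≫ d) (U : D.Opens) : c ⁻¹ᵁ (d ⁻¹ᵁ U) ≤ a ⁻¹ᵁ (b ⁻¹ᵁ U) := by
  show (c ≫ d) ⁻¹ᵁ U ≤ (a ≫ b) ⁻¹ᵁ U
  rw [h]

theorem appLE_injective_of_eq {A B : Scheme.{u}} (f : A ⟶ B) (U : B.Opens) (V : A.Opens)
    (e : V ≤ f ⁻¹ᵁ U) (heq : f ⁻¹ᵁ U = V) (hinj : Function.Injective (f.app U)) :
    Function.Injective (f.appLE U V e) := by
  subst heq
  rw [Scheme.Hom.appLE_eq_app]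
  exact hinj

include H hs ht w in
theorem desc_sections [Flat α] [Surjective α] [QuasiCompact α] [QuasiCompact φ] [QuasiSeparated φ]
    (h : ∀ U' : Y'.Opens, Function.Injective (φ'.app U') ∧
      Set.range (φ'.app U') = {f : Γ(X', φ' ⁻¹ᵁ U') |
        s'.appLE (φ' ⁻¹ᵁ U') (s' ⁻¹ᵁ (φ' ⁻¹ᵁ U') ⊓ t' ⁻¹ᵁ (φ' ⁻¹ᵁ U')) inf_le_left f =
        t'.appLE (φ' ⁻¹ᵁ U') (s' ⁻¹ᵁ (φ' ⁻¹ᵁ U') ⊓ t' ⁻¹ᵁ (φ' ⁻¹ᵁ U')) inf_le_right f})
    (U : Y.Opens) :
    Function.Injective (φ.app U) ∧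
      Set.range (φ.app U) = {f : Γ(X, φ ⁻¹ᵁ U) |
        s.appLE (φ ⁻¹ᵁ U) (s ⁻¹ᵁ (φ ⁻¹ᵁ U) ⊓ t ⁻¹ᵁ (φ ⁻¹ᵁ U)) inf_le_left f =
        t.appLE (φ ⁻¹ᵁ U) (s ⁻¹ᵁ (φ ⁻¹ᵁ U) ⊓ t ⁻¹ᵁ (φ ⁻¹ᵁ U)) inf_le_right f} := by
  haveI : Flat pr := MorphismProperty.of_isPullback H.flip inferInstance
  haveI : Surjective pr := MorphismProperty.of_isPullback H.flip inferInstance
  haveI : QuasiCompact pr := MorphismProperty.of_isPullback H.flip inferInstance
  haveI : QuasiCompact φ' := MorphismProperty.of_isPullback H inferInstance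
  haveI : QuasiSeparated φ' := MorphismProperty.of_isPullback H inferInstance
  obtain ⟨U', hU'⟩ : ∃ U' : Y'.Opens, U' = α ⁻¹ᵁ U := ⟨_, rfl⟩
  obtain ⟨V, hV⟩ : ∃ V : X.Opens, V = φ ⁻¹ᵁ U := ⟨_, rfl⟩
  obtain ⟨V', hV'⟩ : ∃ V' : X'.Opens, V' = φ' ⁻¹ᵁ U' := ⟨_, rfl⟩
  have hVV' : V' ≤ pr ⁻¹ᵁ V := by
    rw [hV', hV, hU']
    exact le_of_square H.w U
  have hVeq : pr ⁻¹ᵁ V = V' := by
    apply le_antisymm _ hVV'
    rw [hV', hV, hU']
    exact le_of_square H.w.symm U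
  have hUU' : U' ≤ α ⁻¹ᵁ U := by rw [hU']
  have hφV : V ≤ φ ⁻¹ᵁ U := by rw [hV]
  have hφV' : V' ≤ φ' ⁻¹ᵁ U' := by rw [hV']
  have key0 : ∀ y : Γ(Y, U), pr.appLE V V' hVV' (φ.appLE U V hφV y) =
      φ'.appLE U' V' hφV' (α.appLE U U' hUU' y) := by
    intro y
    rw [appLE_comp_apply, appLE_comp_apply]
    exact appLE_congr_hom H.w _ _ _ _
  have pr_inj : Function.Injective (pr.appLE V V' hVV') :=
    appLE_injective_of_eq pr V V' hVV' hVeq (injective_app_of_fpqc pr V)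
  have hφ'inj : Function.Injective (φ'.appLE U' V' hφV') := by
    subst hV'
    rw [Scheme.Hom.appLE_eq_app]
    exact (h U').1
  have hαinj : Function.Injective (α.appLE U U' hUU') := by
    subst hU'
    rw [Scheme.Hom.appLE_eq_app]
    exact injective_app_of_fpqc α U
  subst hV
  subst hV'
  subst hU'
  refine ⟨?_, ?_⟩
  · intro x y hxy
    apply hαinj
    apply hφ'inj
    rw [← key0, ← key0, Scheme.Hom.appLE_eq_app, hxy]
  · ext f
    constructor
    · rintro ⟨y, rfl⟩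
      show s.appLE _ _ _ (φ.app U y) = t.appLE _ _ _ (φ.app U y)
      rw [← Scheme.Hom.appLE_eq_app, appLE_comp_apply, appLE_comp_apply]
      exact appLE_congr_hom w _ _ _ _
    · intro hf
      have hf0 : s.appLE (φ ⁻¹ᵁ U) (s ⁻¹ᵁ (φ ⁻¹ᵁ U) ⊓ t ⁻¹ᵁ (φ ⁻¹ᵁ U)) inf_le_left f =
        t.appLE (φ ⁻¹ᵁ U) (s ⁻¹ᵁ (φ ⁻¹ᵁ U) ⊓ t ⁻¹ᵁ (φ ⁻¹ᵁ U)) inf_le_right f := hf
      -- the pulled back section is invariant
      have hρN : s' ⁻¹ᵁ (φ' ⁻¹ᵁ (α ⁻¹ᵁ U)) ⊓ t' ⁻¹ᵁ (φ' ⁻¹ᵁ (α ⁻¹ᵁ U)) ≤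
          ρ ⁻¹ᵁ (s ⁻¹ᵁ (φ ⁻¹ᵁ U) ⊓ t ⁻¹ᵁ (φ ⁻¹ᵁ U)) := by
        intro p0 hp0
        refine ⟨?_, ?_⟩
        · have h1 : p0 ∈ s' ⁻¹ᵁ (pr ⁻¹ᵁ (φ ⁻¹ᵁ U)) := hVV' hp0.1
          exact le_of_square hs.symm _ h1
        · have h1 : p0 ∈ t' ⁻¹ᵁ (pr ⁻¹ᵁ (φ ⁻¹ᵁ U)) := hVV' hp0.2
          exact le_of_square ht.symm _ h1
      have hf' : s'.appLE (φ' ⁻¹ᵁ (α ⁻¹ᵁ U))
            (s' ⁻¹ᵁ (φ' ⁻¹ᵁ (α ⁻¹ᵁ U)) ⊓ t' ⁻¹ᵁ (φ' ⁻¹ᵁ (α ⁻¹ᵁ U))) inf_le_left
            (pr.appLE (φ ⁻¹ᵁ U) (φ' ⁻¹ᵁ (α ⁻¹ᵁ U)) hVV' f) =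
          t'.appLE (φ' ⁻¹ᵁ (α ⁻¹ᵁ U))
            (s' ⁻¹ᵁ (φ' ⁻¹ᵁ (α ⁻¹ᵁ U)) ⊓ t' ⁻¹ᵁ (φ' ⁻¹ᵁ (α ⁻¹ᵁ U))) inf_le_right
            (pr.appLE (φ ⁻¹ᵁ U) (φ' ⁻¹ᵁ (α ⁻¹ᵁ U)) hVV' f) := by
        have e1 := appLE_comp_apply ρ s (φ ⁻¹ᵁ U) _ _ inf_le_left hρN f
        have e2 := appLE_comp_apply ρ t (φ ⁻¹ᵁ U) _ _ inf_le_right hρN f
        rw [appLE_comp_apply, appLE_comp_apply]
        refine (appLE_congr_hom hs _ _ _ _).trans (e1.symm.trans ?_)
        rw [hf0]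
        exact e2.trans (appLE_congr_hom ht _ _ _ _).symm
      have hmem : pr.appLE (φ ⁻¹ᵁ U) (φ' ⁻¹ᵁ (α ⁻¹ᵁ U)) hVV' f ∈
          Set.range (φ'.app (α ⁻¹ᵁ U)) := by
        rw [(h (α ⁻¹ᵁ U)).2]
        exact hf'
      obtain ⟨g', hg'⟩ := hmem
      -- the cocycle condition on `Y' ×_Y Y'`
      obtain ⟨W, hW⟩ : ∃ W : (pullback α α).Opens, W = pullback.fst α α ⁻¹ᵁ (α ⁻¹ᵁ U) := ⟨_, rfl⟩
      have eW1 : W ≤ pullback.fst α α ⁻¹ᵁ (α ⁻¹ᵁ U) := by rw [hW]
      have eW2 : W ≤ pullback.snd α α ⁻¹ᵁ (α ⁻¹ᵁ U) := by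
        rw [hW]
        exact le_of_square pullback.condition.symm U
      have star : (pullback.fst α α).appLE (α ⁻¹ᵁ U) W eW1 g' =
          (pullback.snd α α).appLE (α ⁻¹ᵁ U) W eW2 g' := by
        have H'' : IsPullback (pullback.fst φ' (pullback.fst α α))
            (pullback.snd φ' (pullback.fst α α)) φ' (pullback.fst α α) :=
          IsPullback.of_hasPullback φ' (pullback.fst α α)
        haveI : Flat (pullback.fst α α) := inferInstance
        have hinj'' := injective_app_of_flat_baseChange H'' (fun US => (h US).1) W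
        apply hinj''
        have hu1b : pullback.fst φ' (pullback.fst α α) ≫ φ' =
            pullback.snd φ' (pullback.fst α α) ≫ pullback.fst α α := pullback.condition
        have hw2 : (pullback.fst φ' (pullback.fst α α) ≫ pr) ≫ φ =
            (pullback.snd φ' (pullback.fst α α) ≫ pullback.snd α α) ≫ α := by
          rw [Category.assoc, H.w, ← Category.assoc, hu1b, Category.assoc, Category.assoc,
            pullback.condition]
        obtain ⟨u₂, hu2a, hu2b⟩ : ∃ u₂ : pullback φ' (pullback.fst α α) ⟶ X',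
            u₂ ≫ pr = pullback.fst φ' (pullback.fst α α) ≫ pr ∧
            u₂ ≫ φ' = pullback.snd φ' (pullback.fst α α) ≫ pullback.snd α α :=
          ⟨H.lift _ _ hw2, H.lift_fst _ _ _, H.lift_snd _ _ _⟩
        have eu1 : pullback.snd φ' (pullback.fst α α) ⁻¹ᵁ W ≤
            pullback.fst φ' (pullback.fst α α) ⁻¹ᵁ (φ' ⁻¹ᵁ (α ⁻¹ᵁ U)) := by
          rw [hW]
          exact le_of_square hu1b _
        have eu2 : pullback.snd φ' (pullback.fst α α) ⁻¹ᵁ W ≤ u₂ ⁻¹ᵁ (φ' ⁻¹ᵁ (α ⁻¹ᵁ U)) :=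
          ((Opens.map (pullback.snd φ' (pullback.fst α α)).base).map (homOfLE eW2)).le.trans
            (le_of_square hu2b _)
        have L1 : (pullback.snd φ' (pullback.fst α α)).app W
            ((pullback.fst α α).appLE (α ⁻¹ᵁ U) W eW1 g') =
            (pullback.fst φ' (pullback.fst α α)).appLE _ _ eu1
              (φ'.appLE (α ⁻¹ᵁ U) (φ' ⁻¹ᵁ (α ⁻¹ᵁ U)) le_rfl g') := by
          rw [← Scheme.Hom.appLE_eq_app, appLE_comp_apply, appLE_comp_apply]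
          exact (appLE_congr_hom hu1b _ _ _ _).symm
        have L2 : (pullback.snd φ' (pullback.fst α α)).app W
            ((pullback.snd α α).appLE (α ⁻¹ᵁ U) W eW2 g') =
            u₂.appLE _ _ eu2 (φ'.appLE (α ⁻¹ᵁ U) (φ' ⁻¹ᵁ (α ⁻¹ᵁ U)) le_rfl g') := by
          rw [← Scheme.Hom.appLE_eq_app, appLE_comp_apply, appLE_comp_apply]
          exact (appLE_congr_hom hu2b _ _ _ _).symm
        have hg'' : φ'.appLE (α ⁻¹ᵁ U) (φ' ⁻¹ᵁ (α ⁻¹ᵁ U)) le_rfl g' =
            pr.appLE (φ ⁻¹ᵁ U) (φ' ⁻¹ᵁ (α ⁻¹ᵁ U)) hVV' f := by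
          rw [Scheme.Hom.appLE_eq_app]
          exact hg'
        rw [L1, L2, hg'', appLE_comp_apply, appLE_comp_apply]
        exact (appLE_congr_hom hu2a _ _ _ _).symm
      have hcoc : ∀ (Z : Scheme.{u}) (k₁ k₂ : Z ⟶ Y') (_ : k₁ ≫ α = k₂ ≫ α)
          (e₁ : ⊤ ≤ k₁ ⁻¹ᵁ (α ⁻¹ᵁ U)) (e₂ : ⊤ ≤ k₂ ⁻¹ᵁ (α ⁻¹ᵁ U)),
          k₁.appLE (α ⁻¹ᵁ U) ⊤ e₁ g' = k₂.appLE (α ⁻¹ᵁ U) ⊤ e₂ g' := by
        intro Z k₁ k₂ hk e₁ e₂
        obtain ⟨l, hl1, hl2⟩ : ∃ l : Z ⟶ pullback α α, l ≫ pullback.fst α α = k₁ ∧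
            l ≫ pullback.snd α α = k₂ :=
          ⟨pullback.lift k₁ k₂ hk, pullback.lift_fst _ _ _, pullback.lift_snd _ _ _⟩
        have elW : ⊤ ≤ l ⁻¹ᵁ W := by
          rw [hW]
          intro z _
          show (pullback.fst α α).base (l.base z) ∈ α ⁻¹ᵁ U
          have e0 : (pullback.fst α α).base (l.base z) = (l ≫ pullback.fst α α).base z := rfl
          rw [e0, hl1]
          exact e₁ trivial
        have c1 : k₁.appLE (α ⁻¹ᵁ U) ⊤ e₁ g' =
            l.appLE W ⊤ elW ((pullback.fst α α).appLE (α ⁻¹ᵁ U) W eW1 g') := by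
          rw [appLE_comp_apply]
          exact appLE_congr_hom hl1.symm _ _ _ _
        have c2 : k₂.appLE (α ⁻¹ᵁ U) ⊤ e₂ g' =
            l.appLE W ⊤ elW ((pullback.snd α α).appLE (α ⁻¹ᵁ U) W eW2 g') := by
          rw [appLE_comp_apply]
          exact appLE_congr_hom hl2.symm _ _ _ _
        rw [c1, c2, star]
      obtain ⟨g, hg⟩ := exists_descent_section α U g' hcoc
      refine ⟨g, ?_⟩
      apply pr_inj
      have h1 := key0 g
      rw [Scheme.Hom.appLE_eq_app, Scheme.Hom.appLE_eq_app, Scheme.Hom.appLE_eq_app, hg, hg'] at h1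
      exact h1

end descent


section main
variable {S : Scheme.{u}}

theorem isGeomQuot_of_fpqc_baseChange (G X Y X' Y' : Over S) [GrpObj G]
    (a : AlgGrp.Action G X) (φ : X ⟶ Y) (hinv : GIT.IsInvariant a φ)
    [QuasiCompact φ.left] [QuasiSeparated φ.left]
    (α : Y' ⟶ Y) [Flat α.left] [Surjective α.left] [QuasiCompact α.left]
    (pr : X' ⟶ X) (φ' : X' ⟶ Y') (hpb : IsPullback pr φ' φ α)
    (a' : AlgGrp.Action G X') (heq : a'.act ≫ pr = (G ◁ pr) ≫ a.act)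
    (h : GIT.IsGeomQuot a' φ') : GIT.IsGeomQuot a φ := by
  have H : IsPullback pr.left φ'.left φ.left α.left := hpb.map (Over.forget S)
  have hs : a'.act.left ≫ pr.left = (G ◁ pr).left ≫ a.act.left := by
    rw [← Over.comp_left, heq]
    rfl
  have ht : (snd G X').left ≫ pr.left = (G ◁ pr).left ≫ (snd G X).left := by
    rw [← Over.comp_left, ← Over.comp_left, whiskerLeft_snd]
  exact ⟨hinv, desc_surjective H h.surj, desc_orbit H hs ht hinv.left h.inv.left h.orbit,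
    desc_univSubm H h.subm,
    fun U => desc_sections H hs ht hinv.left (fun U' => h.sections U') U⟩

theorem main_S18507 (k : Type u) [Field k]
    (G X Y X' Y' : Over (Spec (CommRingCat.of k))) [GrpObj G]
    [QuasiCompact X.hom] [IsSeparated X.hom]
    [IsSeparated Y.hom]
    (a : AlgGrp.Action G X) (φ : X ⟶ Y) (hinv : GIT.IsInvariant a φ)
    (α : Y' ⟶ Y) [Flat α.left] [Surjective α.left] [QuasiCompact α.left]
    (pr : X' ⟶ X) (φ' : X' ⟶ Y') (hpb : IsPullback pr φ' φ α)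
    (a' : AlgGrp.Action G X') (heq : a'.act ≫ pr = (G ◁ pr) ≫ a.act)
    (h : GIT.IsGeomQuot a' φ') :
    GIT.IsGeomQuot a φ := by
  haveI : QuasiCompact (φ.left ≫ Y.hom) := by rw [Over.w φ]; infer_instance
  haveI : QuasiSeparated (φ.left ≫ Y.hom) := by rw [Over.w φ]; infer_instance
  haveI : QuasiCompact φ.left := QuasiCompact.of_comp φ.left Y.hom
  haveI : QuasiSeparated φ.left := QuasiSeparated.of_comp φ.left Y.hom
  exact isGeomQuot_of_fpqc_baseChange G X Y X' Y' a φ hinv α pr φ' hpb a' heq h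

end main

end Groth.Agent.Lib.Helper4.GeomQuotDesc1
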