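import Mathlib
import Groth.Agent.Lib.Helper3.GeomReducedProd

/-!
# Reduced finite type algebras over an algebraically closed field: tensor product with a reduced algebra is reduced; affine reduced finite type schemes over an algebraically closed field are geometrically reduced (helper4)
-/

set_option backward.isDefEq.respectTransparency.types false
set_option synthInstance.maxHeartbeats 400000
set_option autoImplicit false
set_option linter.unusedSectionVars false
set_option linter.style.haveILetI false
set_option linter.unusedSimpArgs false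
universe u v w
open CategoryTheory CategoryTheory.Limits AlgebraicGeometry TopologicalSpace Opposite
open TensorProduct

namespace Groth.Agent.Lib.Helper4.RedAlgClosed1

section Ring

/-- a `k`-point of a finitely generated reduced algebra over an algebraically closed field
not vanishing at a given nonzero element -/
theorem exists_algHom_ne_zero (k : Type u) [Field k] [IsAlgClosed k] (A : Type u) [CommRing A]
    [Algebra k A] [Algebra.FiniteType k A] [IsReduced A] (c : A) (hc : c ≠ 0) :
    ∃ ψ : A →ₐ[k] k, ψ c ≠ 0 := by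
  haveI : IsJacobsonRing A := isJacobsonRing_of_finiteType (A := k)
  have hcn : c ∉ (⊥ : Ideal A).jacobson := by
    rw [← Ideal.radical_eq_jacobson]
    intro h
    have : IsNilpotent c := by
      obtain ⟨n, hn⟩ := h
      exact ⟨n, by simpa using hn⟩
    exact hc this.eq_zero
  rw [Ideal.jacobson, Ideal.mem_sInf] at hcn
  push Not at hcn
  obtain ⟨m, ⟨-, hm⟩, hcm⟩ := hcn
  haveI : m.IsMaximal := hm
  letI : Field (A ⧸ m) := Ideal.Quotient.field m
  haveI : Algebra.FiniteType k (A ⧸ m) :=
    Algebra.FiniteType.of_surjective (Ideal.Quotient.mkₐ k m) Ideal.Quotient.mk_surjective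
  haveI : Module.Finite k (A ⧸ m) := finite_of_finite_type_of_isJacobsonRing k (A ⧸ m)
  haveI : Algebra.IsIntegral k (A ⧸ m) := Algebra.IsIntegral.of_finite k (A ⧸ m)
  have hbij : Function.Bijective (algebraMap k (A ⧸ m)) :=
    IsAlgClosed.algebraMap_bijective_of_isIntegral
  let e : k ≃ₐ[k] (A ⧸ m) := AlgEquiv.ofBijective (Algebra.ofId k (A ⧸ m)) hbij
  refine ⟨(e.symm : (A ⧸ m) →ₐ[k] k).comp (Ideal.Quotient.mkₐ k m), fun h0 => hcm ?_⟩
  have h1 : e.symm (Ideal.Quotient.mk m c) = 0 := h0
  have h2 : Ideal.Quotient.mk m c = 0 := by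
    have := congrArg e h1
    rwa [AlgEquiv.apply_symm_apply, map_zero] at this
  exact Ideal.Quotient.eq_zero_iff_mem.mp h2

theorem isReduced_tensor_of_isAlgClosed (k : Type u) [Field k] [IsAlgClosed k] (A C : Type u)
    [CommRing A] [CommRing C] [Algebra k A] [Algebra k C] [Algebra.FiniteType k A]
    [IsReduced A] [IsReduced C] : IsReduced (A ⊗[k] C) := by
  let b := Module.Free.chooseBasis k C
  refine ⟨fun x hx => ?_⟩
  by_contra hne
  have hrepr : (Algebra.TensorProduct.basis A b).repr x ≠ 0 := by
    intro h0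
    exact hne ((Algebra.TensorProduct.basis A b).repr.map_eq_zero_iff.mp h0)
  obtain ⟨i, hi⟩ : ∃ i, (Algebra.TensorProduct.basis A b).repr x i ≠ 0 := by
    by_contra hcon
    push Not at hcon
    exact hrepr (Finsupp.ext hcon)
  obtain ⟨ψ, hψ⟩ := exists_algHom_ne_zero k A _ hi
  let φ : A ⊗[k] C →ₐ[k] k ⊗[k] C := Algebra.TensorProduct.map ψ (AlgHom.id k C)
  have hred : IsReduced (k ⊗[k] C) :=
    isReduced_of_injective (Algebra.TensorProduct.lid k C).toRingHom
      (Algebra.TensorProduct.lid k C).injective
  have hφx : φ x = 0 := (hx.map φ).eq_zero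
  have key : ∀ y : A ⊗[k] C, (Algebra.TensorProduct.basis k b).repr (φ y) i =
      ψ ((Algebra.TensorProduct.basis A b).repr y i) := by
    intro y
    induction y using TensorProduct.induction_on with
    | zero => simp
    | tmul a' c' =>
      simp only [φ, Algebra.TensorProduct.map_tmul, Algebra.TensorProduct.basis_repr_tmul,
        AlgHom.coe_id, id_eq, Finsupp.smul_apply, Finsupp.mapRange_apply, smul_eq_mul, map_mul]
      congr 1
      simp
    | add y z hy hz => simp [map_add, hy, hz]
  have := key x
  rw [hφx, map_zero, Finsupp.zero_apply] at this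
  exact hψ this.symm

end Ring

section Sch

theorem isReduced_pullback_SpecMap' {k : Type u} [Field k] [IsAlgClosed k] (R K : CommRingCat.{u})
    (φ : CommRingCat.of k ⟶ R) (ψ : CommRingCat.of k ⟶ K) (hft : φ.hom.FiniteType)
    [_root_.IsReduced R] [_root_.IsReduced K] : IsReduced (pullback (Spec.map φ) (Spec.map ψ)) := by
  algebraize [φ.hom, ψ.hom]
  haveI : Algebra.FiniteType k R := hft
  have h5 : _root_.IsReduced (R ⊗[k] K) := isReduced_tensor_of_isAlgClosed k R K
  have h6 : IsReduced (Spec (.of (R ⊗[k] K))) := (affine_isReduced_iff _).mpr h5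
  exact isReduced_of_isOpenImmersion (pullbackSpecIso k R K).hom

theorem geometricallyReduced_of_isAlgClosed (k : Type u) [Field k] [IsAlgClosed k]
    {Z : Scheme.{u}} [IsAffine Z] [IsReduced Z] (g : Z ⟶ Spec (CommRingCat.of k))
    [LocallyOfFiniteType g] : GeometricallyReduced g := by
  refine ⟨geometrically_iff_of_isClosedUnderIsomorphisms.mpr fun K _ y => ?_⟩
  obtain ⟨φ, hφ⟩ := Spec.map_surjective (Z.isoSpec.inv ≫ g)
  obtain ⟨ψ, hψ⟩ := Spec.map_surjective y
  have hlft : LocallyOfFiniteType (Spec.map φ) := by rw [hφ]; infer_instance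
  have hft : φ.hom.FiniteType := (HasRingHomProperty.Spec_iff (P := @LocallyOfFiniteType)).mp hlft
  haveI : _root_.IsReduced Γ(Z, ⊤) := inferInstance
  have key := isReduced_pullback_SpecMap' _ (CommRingCat.of K) φ ψ hft
  rw [hφ, hψ] at key
  exact isReduced_of_isOpenImmersion
    (pullback.map g y (Z.isoSpec.inv ≫ g) y Z.isoSpec.hom (𝟙 _) (𝟙 _) (by simp) (by simp))

end Sch

end Groth.Agent.Lib.Helper4.RedAlgClosed1
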