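import Mathlib
import Groth.Prelude.Def_W4bk4git07Quot
import Groth.Prelude.Def_DescFam
import Groth.Agent.Lib.Helper4.Act1
import Groth.Agent.Lib.Helper4.GeomQuotDesc1
import Groth.Agent.Lib.Helper2.Desc.AffEff
import Groth.Agent.Lib.Helper2.Desc.EffCrit
import Groth.Agent.Lib.Helper2.AlgSp.RepDesc2
import Groth.Agent.Lib.Helper4.RedAlgClosed1
import Groth.Agent.S0082

/-!
# Descent datum on an equivariant G-scheme over the total space of a principal G-bundle; quotient of affine equivariant schemes (associated bundles), diagonal action, S16133 (helper4)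
-/

set_option backward.isDefEq.respectTransparency.types false
set_option synthInstance.maxHeartbeats 400000
set_option autoImplicit false
set_option linter.unusedSectionVars false
set_option linter.style.haveILetI false
set_option linter.unusedSimpArgs false
universe u v w
open CategoryTheory CategoryTheory.Limits AlgebraicGeometry TopologicalSpace Opposite
open MonoidalCategory CartesianMonoidalCategory MonObj GrpObj

namespace Groth.Agent.Lib.Helper4.AssocBundle1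

section OverLevel
variable {S : Scheme.{u}} {G X Y P : Over S} [GrpObj G]
  (a : AlgGrp.Action G X) (f : X ⟶ Y)
  (hsq : IsPullback a.act.left (snd G X).left f.left f.left)

include hsq in
theorem isPullback_over : IsPullback a.act (snd G X) f f := by
  refine IsPullback.of_map (Over.forget S) ?_ hsq
  ext
  exact hsq.w

/-- the translating element: the unique `γ` with `γ · x₀ = x₁` -/
noncomputable def tr {T : Over S} (x₀ x₁ : T ⟶ X) (h : x₀ ≫ f = x₁ ≫ f) : T ⟶ G :=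
  (isPullback_over a f hsq).lift x₁ x₀ h.symm ≫ fst G X

theorem tr_spec {T : Over S} (x₀ x₁ : T ⟶ X) (h : x₀ ≫ f = x₁ ≫ f) :
    lift (tr a f hsq x₀ x₁ h) x₀ ≫ a.act = x₁ := by
  have e : lift (tr a f hsq x₀ x₁ h) x₀ = (isPullback_over a f hsq).lift x₁ x₀ h.symm := by
    apply CartesianMonoidalCategory.hom_ext
    · rw [lift_fst]; rfl
    · rw [lift_snd, (isPullback_over a f hsq).lift_snd]
  rw [e, (isPullback_over a f hsq).lift_fst]

theorem tr_unique {T : Over S} (x₀ x₁ : T ⟶ X) (h : x₀ ≫ f = x₁ ≫ f) (γ' : T ⟶ G)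
    (hγ : lift γ' x₀ ≫ a.act = x₁) : γ' = tr a f hsq x₀ x₁ h := by
  have e : lift γ' x₀ = (isPullback_over a f hsq).lift x₁ x₀ h.symm := by
    apply (isPullback_over a f hsq).hom_ext
    · rw [hγ, (isPullback_over a f hsq).lift_fst]
    · rw [lift_snd, (isPullback_over a f hsq).lift_snd]
  unfold tr
  rw [← e, lift_fst]

theorem tr_self {T : Over S} (x : T ⟶ X) : tr a f hsq x x rfl = 1 :=
  (tr_unique a f hsq x x rfl 1 (Groth.Agent.Helper4.Act.one_smul' a.act a.one_act x)).symm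

theorem tr_comp {T : Over S} (x₀ x₁ x₂ : T ⟶ X) (h₀₁ : x₀ ≫ f = x₁ ≫ f)
    (h₁₂ : x₁ ≫ f = x₂ ≫ f) :
    tr a f hsq x₁ x₂ h₁₂ * tr a f hsq x₀ x₁ h₀₁ = tr a f hsq x₀ x₂ (h₀₁.trans h₁₂) := by
  apply tr_unique
  rw [Groth.Agent.Helper4.Act.mul_smul' a.act a.mul_act, tr_spec, tr_spec]

theorem tr_nat {T T' : Over S} (g : T' ⟶ T) (x₀ x₁ : T ⟶ X) (h : x₀ ≫ f = x₁ ≫ f) :
    g ≫ tr a f hsq x₀ x₁ h =
      tr a f hsq (g ≫ x₀) (g ≫ x₁) (by rw [Category.assoc, h, Category.assoc]) := by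
  apply tr_unique
  rw [← comp_lift, Category.assoc, tr_spec]

variable (δ : AlgGrp.Action G P) (π : P ⟶ X) (hπ : δ.act ≫ π = (G ◁ π) ≫ a.act)

/-- the gluing map on points -/
noncomputable def Φ {T : Over S} (x₀ x₁ : T ⟶ X) (h : x₀ ≫ f = x₁ ≫ f) (p : T ⟶ P) : T ⟶ P :=
  lift (tr a f hsq x₀ x₁ h) p ≫ δ.act

include hπ in
theorem Φ_π {T : Over S} (x₀ x₁ : T ⟶ X) (h : x₀ ≫ f = x₁ ≫ f) (p : T ⟶ P)
    (hp : p ≫ π = x₀) : Φ a f hsq δ x₀ x₁ h p ≫ π = x₁ := by
  unfold Φ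
  rw [Category.assoc, hπ, lift_whiskerLeft_assoc, hp, tr_spec]

theorem Φ_self {T : Over S} (x : T ⟶ X) (p : T ⟶ P) : Φ a f hsq δ x x rfl p = p := by
  unfold Φ
  rw [tr_self, Groth.Agent.Helper4.Act.one_smul' δ.act δ.one_act]

theorem Φ_comp {T : Over S} (x₀ x₁ x₂ : T ⟶ X) (h₀₁ : x₀ ≫ f = x₁ ≫ f)
    (h₁₂ : x₁ ≫ f = x₂ ≫ f) (p : T ⟶ P) :
    Φ a f hsq δ x₁ x₂ h₁₂ (Φ a f hsq δ x₀ x₁ h₀₁ p) = Φ a f hsq δ x₀ x₂ (h₀₁.trans h₁₂) p := by
  unfold Φ
  rw [← Groth.Agent.Helper4.Act.mul_smul' δ.act δ.mul_act, tr_comp]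

theorem Φ_nat {T T' : Over S} (g : T' ⟶ T) (x₀ x₁ : T ⟶ X) (h : x₀ ≫ f = x₁ ≫ f) (p : T ⟶ P) :
    g ≫ Φ a f hsq δ x₀ x₁ h p =
      Φ a f hsq δ (g ≫ x₀) (g ≫ x₁) (by rw [Category.assoc, h, Category.assoc]) (g ≫ p) := by
  unfold Φ
  rw [← Category.assoc, comp_lift, tr_nat]

end OverLevel

section SchLevel
open Desc
variable {S : Scheme.{u}} {G X Y P : Over S} [GrpObj G]
  (a : AlgGrp.Action G X) (f : X ⟶ Y)
  (hsq : IsPullback a.act.left (snd G X).left f.left f.left)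
  (δ : AlgGrp.Action G P) (π : P ⟶ X) (hπ : δ.act ≫ π = (G ◁ π) ≫ a.act)

/-- scheme-level gluing map, with a free structure morphism `t` -/
noncomputable def Φs {T : Scheme.{u}} (t : T ⟶ S) (x₀ x₁ : T ⟶ X.left)
    (h₀ : x₀ ≫ X.hom = t) (h₁ : x₁ ≫ X.hom = t) (h : x₀ ≫ f.left = x₁ ≫ f.left)
    (v : T ⟶ P.left) (hv : v ≫ P.hom = t) : T ⟶ P.left :=
  (Φ a f hsq δ (T := Over.mk t) (Over.homMk x₀ h₀) (Over.homMk x₁ h₁)
    (by ext; exact h) (Over.homMk v hv)).left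

theorem Φs_congr {T : Scheme.{u}} (t t' : T ⟶ S) (e : t = t') (x₀ x₁ : T ⟶ X.left)
    (h₀ : x₀ ≫ X.hom = t) (h₁ : x₁ ≫ X.hom = t) (h : x₀ ≫ f.left = x₁ ≫ f.left)
    (v : T ⟶ P.left) (hv : v ≫ P.hom = t) :
    Φs a f hsq δ t x₀ x₁ h₀ h₁ h v hv =
      Φs a f hsq δ t' x₀ x₁ (h₀.trans e) (h₁.trans e) h v (hv.trans e) := by
  subst e
  rfl

theorem Φs_hom {T : Scheme.{u}} (t : T ⟶ S) (x₀ x₁ : T ⟶ X.left)
    (h₀ : x₀ ≫ X.hom = t) (h₁ : x₁ ≫ X.hom = t) (h : x₀ ≫ f.left = x₁ ≫ f.left)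
    (v : T ⟶ P.left) (hv : v ≫ P.hom = t) :
    Φs a f hsq δ t x₀ x₁ h₀ h₁ h v hv ≫ P.hom = t :=
  Over.w (Φ a f hsq δ (T := Over.mk t) (Over.homMk x₀ h₀) (Over.homMk x₁ h₁)
    (by ext; exact h) (Over.homMk v hv))

include hπ in
theorem Φs_π {T : Scheme.{u}} (t : T ⟶ S) (x₀ x₁ : T ⟶ X.left)
    (h₀ : x₀ ≫ X.hom = t) (h₁ : x₁ ≫ X.hom = t) (h : x₀ ≫ f.left = x₁ ≫ f.left)
    (v : T ⟶ P.left) (hv : v ≫ P.hom = t) (hvx : v ≫ π.left = x₀) :
    Φs a f hsq δ t x₀ x₁ h₀ h₁ h v hv ≫ π.left = x₁ := by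
  have := Φ_π a f hsq δ π hπ (T := Over.mk t) (Over.homMk x₀ h₀) (Over.homMk x₁ h₁)
    (by ext; exact h) (Over.homMk v hv) (by ext; exact hvx)
  exact congrArg CommaMorphism.left this

theorem Φs_self {T : Scheme.{u}} (t : T ⟶ S) (x : T ⟶ X.left)
    (h₀ : x ≫ X.hom = t) (v : T ⟶ P.left) (hv : v ≫ P.hom = t) :
    Φs a f hsq δ t x x h₀ h₀ rfl v hv = v := by
  have := Φ_self a f hsq δ (T := Over.mk t) (Over.homMk x h₀) (Over.homMk v hv)
  exact congrArg CommaMorphism.left this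

theorem Φs_comp {T : Scheme.{u}} (t : T ⟶ S) (x₀ x₁ x₂ : T ⟶ X.left)
    (h₀ : x₀ ≫ X.hom = t) (h₁ : x₁ ≫ X.hom = t) (h₂ : x₂ ≫ X.hom = t)
    (h₀₁ : x₀ ≫ f.left = x₁ ≫ f.left) (h₁₂ : x₁ ≫ f.left = x₂ ≫ f.left)
    (v : T ⟶ P.left) (hv : v ≫ P.hom = t) :
    Φs a f hsq δ t x₁ x₂ h₁ h₂ h₁₂ (Φs a f hsq δ t x₀ x₁ h₀ h₁ h₀₁ v hv)
        (Φs_hom a f hsq δ t x₀ x₁ h₀ h₁ h₀₁ v hv) =
      Φs a f hsq δ t x₀ x₂ h₀ h₂ (h₀₁.trans h₁₂) v hv := by
  have := Φ_comp a f hsq δ (T := Over.mk t) (Over.homMk x₀ h₀) (Over.homMk x₁ h₁)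
    (Over.homMk x₂ h₂) (by ext; exact h₀₁) (by ext; exact h₁₂) (Over.homMk v hv)
  exact congrArg CommaMorphism.left this

theorem Φs_nat {T T' : Scheme.{u}} (g : T' ⟶ T) (t : T ⟶ S) (x₀ x₁ : T ⟶ X.left)
    (h₀ : x₀ ≫ X.hom = t) (h₁ : x₁ ≫ X.hom = t) (h : x₀ ≫ f.left = x₁ ≫ f.left)
    (v : T ⟶ P.left) (hv : v ≫ P.hom = t) :
    g ≫ Φs a f hsq δ t x₀ x₁ h₀ h₁ h v hv =
      Φs a f hsq δ (g ≫ t) (g ≫ x₀) (g ≫ x₁) (by rw [Category.assoc, h₀])
        (by rw [Category.assoc, h₁]) (by rw [Category.assoc, h, Category.assoc])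
        (g ≫ v) (by rw [Category.assoc, hv]) := by
  have := Φ_nat a f hsq δ (T := Over.mk t) (T' := Over.mk (g ≫ t)) (Over.homMk g rfl)
    (Over.homMk x₀ h₀) (Over.homMk x₁ h₁) (by ext; exact h) (Over.homMk v hv)
  exact congrArg CommaMorphism.left this

end SchLevel

section DD
open Desc
variable {S : Scheme.{u}} {G X Y P : Over S} [GrpObj G]
  (a : AlgGrp.Action G X) (f : X ⟶ Y)
  (hsq : IsPullback a.act.left (snd G X).left f.left f.left)
  (δ : AlgGrp.Action G P) (π : P ⟶ X) (hπ : δ.act ≫ π = (G ◁ π) ≫ a.act)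

theorem hom_eq_of_f {T : Scheme.{u}} (x₀ x₁ : T ⟶ X.left) (h : x₀ ≫ f.left = x₁ ≫ f.left) :
    x₁ ≫ X.hom = x₀ ≫ X.hom := by
  rw [← Over.w f, ← Category.assoc, ← h, Category.assoc]

theorem lift_hom {T : Scheme.{u}} {x₀ : T ⟶ X.left} (v : Lifts (Over.mk π.left) x₀) :
    v.1 ≫ P.hom = x₀ ≫ X.hom := by
  have e : v.1 ≫ π.left = x₀ := v.2
  calc v.1 ≫ P.hom = v.1 ≫ π.left ≫ X.hom := by rw [Over.w π]
    _ = x₀ ≫ X.hom := by rw [← Category.assoc, e]

/-- one direction of the gluing bijection -/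
noncomputable def ddMap {T : Scheme.{u}} (x₀ x₁ : T ⟶ X.left) (h : x₀ ≫ f.left = x₁ ≫ f.left)
    (v : Lifts (Over.mk π.left) x₀) : Lifts (Over.mk π.left) x₁ :=
  ⟨Φs a f hsq δ (x₀ ≫ X.hom) x₀ x₁ rfl (hom_eq_of_f f x₀ x₁ h) h v.1 (lift_hom π v),
    Φs_π a f hsq δ π hπ _ x₀ x₁ rfl (hom_eq_of_f f x₀ x₁ h) h v.1 (lift_hom π v) v.2⟩

theorem ddMap_val {T : Scheme.{u}} (t : T ⟶ S) (x₀ x₁ : T ⟶ X.left)
    (h₀ : x₀ ≫ X.hom = t) (h₁ : x₁ ≫ X.hom = t) (h : x₀ ≫ f.left = x₁ ≫ f.left)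
    (v : Lifts (Over.mk π.left) x₀) (hv : v.1 ≫ P.hom = t) :
    (ddMap a f hsq δ π hπ x₀ x₁ h v).1 = Φs a f hsq δ t x₀ x₁ h₀ h₁ h v.1 hv := by
  subst h₀
  rfl

/-- the descent datum on an equivariant `P ⟶ X` relative to a principal bundle `X ⟶ Y` -/
noncomputable def dd : SchDD f.left where
  obj := Over.mk π.left
  φ T x₀ x₁ h :=
    { toFun := ddMap a f hsq δ π hπ x₀ x₁ h
      invFun := ddMap a f hsq δ π hπ x₁ x₀ h.symm
      left_inv := fun v => by
        apply Subtype.ext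
        rw [ddMap_val a f hsq δ π hπ (x₀ ≫ X.hom) x₁ x₀ (hom_eq_of_f f x₀ x₁ h) rfl h.symm _
          (by rw [lift_hom, hom_eq_of_f f x₀ x₁ h])]
        simp only [ddMap]
        rw [Φs_comp, Φs_self]
      right_inv := fun v => by
        apply Subtype.ext
        rw [ddMap_val a f hsq δ π hπ (x₁ ≫ X.hom) x₀ x₁ (hom_eq_of_f f x₁ x₀ h.symm) rfl h _
          (by rw [lift_hom, hom_eq_of_f f x₁ x₀ h.symm])]
        simp only [ddMap]
        rw [Φs_comp, Φs_self] }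
  φ_natural T T' g x₀ x₁ h h' v v' hv' := by
    show (ddMap a f hsq δ π hπ (g ≫ x₀) (g ≫ x₁) h' v').1 =
      g ≫ (ddMap a f hsq δ π hπ x₀ x₁ h v).1
    rw [ddMap_val a f hsq δ π hπ (g ≫ x₀ ≫ X.hom) (g ≫ x₀) (g ≫ x₁) (Category.assoc _ _ _)
      (by rw [Category.assoc, hom_eq_of_f f x₀ x₁ h]) h' v'
      (by rw [lift_hom, Category.assoc])]
    simp only [ddMap]
    rw [Φs_nat]
    congr 1
  φ_self T x v := by
    apply Subtype.ext
    show (ddMap a f hsq δ π hπ x x rfl v).1 = v.1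
    simp only [ddMap]
    rw [Φs_self]
  φ_comp T x₀ x₁ x₂ h₀₁ h₁₂ v := by
    apply Subtype.ext
    show (ddMap a f hsq δ π hπ x₁ x₂ h₁₂ (ddMap a f hsq δ π hπ x₀ x₁ h₀₁ v)).1 =
      (ddMap a f hsq δ π hπ x₀ x₂ (h₀₁.trans h₁₂) v).1
    rw [ddMap_val a f hsq δ π hπ (x₀ ≫ X.hom) x₁ x₂ (hom_eq_of_f f x₀ x₁ h₀₁)
      (hom_eq_of_f f x₀ x₂ (h₀₁.trans h₁₂)) h₁₂ _
      (by rw [lift_hom, hom_eq_of_f f x₀ x₁ h₀₁])]
    simp only [ddMap]
    rw [Φs_comp]

end DD

section Eff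
open Desc
variable {S : Scheme.{u}} {G X Y P : Over S} [GrpObj G]
  (a : AlgGrp.Action G X) (f : X ⟶ Y)
  (hsq : IsPullback a.act.left (snd G X).left f.left f.left)
  (δ : AlgGrp.Action G P) (π : P ⟶ X) (hπ : δ.act ≫ π = (G ◁ π) ≫ a.act)

theorem Φs_over {T : Over S} (x₀ x₁ : T ⟶ X) (h : x₀ ≫ f = x₁ ≫ f) (p : T ⟶ P) :
    Φs a f hsq δ T.hom x₀.left x₁.left (Over.w x₀) (Over.w x₁)
      (by rw [← Over.comp_left, h, Over.comp_left]) p.left (Over.w p) =
      (Φ a f hsq δ x₀ x₁ h p).left := rfl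

include hπ in
theorem Φ_univ :
    Φ a f hsq δ (snd G P ≫ π) (δ.act ≫ π)
      (by
        have hw : a.act ≫ f = snd G X ≫ f := (isPullback_over a f hsq).w
        rw [Category.assoc, Category.assoc, reassoc_of% hπ, hw, whiskerLeft_snd_assoc])
      (snd G P) = δ.act := by
  unfold Φ
  rw [← tr_unique a f hsq (snd G P ≫ π) (δ.act ≫ π) _ (fst G P)
    (by rw [hπ, ← lift_whiskerLeft_assoc, lift_fst_snd, Category.id_comp])]
  rw [lift_fst_snd, Category.id_comp]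

end Eff

section Quot
open Desc
variable {S : Scheme.{u}} {G X Y P : Over S} [GrpObj G]
  (a : AlgGrp.Action G X) (f : X ⟶ Y)
  (hsq : IsPullback a.act.left (snd G X).left f.left f.left)
  (δ : AlgGrp.Action G P) (π : P ⟶ X) (hπ : δ.act ≫ π = (G ◁ π) ≫ a.act)

include hπ hsq in
theorem exists_quotient_sch [Flat f.left] [Surjective f.left] [QuasiCompact f.left]
    [IsAffineHom π.left] :
    ∃ (U : Over Y.left) (q : P.left ⟶ U.left), IsPullback π.left q f.left U.hom ∧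
      δ.act.left ≫ q = (snd G P).left ≫ q := by
  obtain ⟨D, hD⟩ : ∃ D, D = dd a f hsq δ π hπ := ⟨_, rfl⟩
  have hobj : D.obj = Over.mk π.left := by rw [hD]; rfl
  have hEff : ((SchDDFam.ofSchDD.{u, u} f.left).obj D).IsEffective := by
    haveI : IsAffineHom (((SchDDFam.ofSchDD.{u, u} f.left).obj D).obj ⟨⟩).hom := by
      show IsAffineHom D.obj.hom
      rw [hobj]
      exact ‹IsAffineHom π.left›
    exact Groth.Agent.Helper2.DescAff.isEffective_of_affineHom f.left _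
  obtain ⟨U, ⟨e⟩⟩ := Groth.Agent.Helper2.DescEff.exists_iso_of_isEffective f.left D hEff
  obtain ⟨q, hq, hinv⟩ := Groth.Agent.Helper2.AlgSpDesc.exists_quotient_of_iso f.left D U e
  subst hD
  refine ⟨U, q, hq, ?_⟩
  have hw : a.act ≫ f = snd G X ≫ f := (isPullback_over a f hsq).w
  have h : (snd G P ≫ π) ≫ f = (δ.act ≫ π) ≫ f := by
    rw [Category.assoc, Category.assoc, reassoc_of% hπ, hw, whiskerLeft_snd_assoc]
  have h' : (snd G P ≫ π).left ≫ f.left = (δ.act ≫ π).left ≫ f.left := by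
    rw [← Over.comp_left, h, Over.comp_left]
  have key := hinv (snd G P ≫ π).left (δ.act ≫ π).left h' ⟨(snd G P).left, rfl⟩
  have e1 : ((dd a f hsq δ π hπ).φ (snd G P ≫ π).left (δ.act ≫ π).left h'
      ⟨(snd G P).left, rfl⟩).1 = δ.act.left := by
    show (ddMap a f hsq δ π hπ (snd G P ≫ π).left (δ.act ≫ π).left h' ⟨(snd G P).left, rfl⟩).1 = _
    rw [ddMap_val a f hsq δ π hπ (G ⊗ P).hom _ _ (Over.w _) (Over.w _) h' _ (Over.w (snd G P))]
    have := Φs_over a f hsq δ (snd G P ≫ π) (δ.act ≫ π) h (snd G P)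
    rw [Φ_univ a f hsq δ π hπ] at this
    exact this
  rw [e1] at key
  exact key

end Quot

section Pack
open Desc
variable {S : Scheme.{u}} {G X Y P : Over S} [GrpObj G]
  (a : AlgGrp.Action G X) (f : X ⟶ Y)
  (hsq : IsPullback a.act.left (snd G X).left f.left f.left)
  (δ : AlgGrp.Action G P) (π : P ⟶ X) (hπ : δ.act ≫ π = (G ◁ π) ≫ a.act)

include hπ hsq in
/-- Quotient of a `G`-scheme affine and equivariant over the total space of a principal
`G`-bundle. -/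
theorem exists_quotient [Flat f.left] [Surjective f.left] [QuasiCompact f.left]
    [IsAffineHom π.left] :
    ∃ (W : Over S) (φ : P ⟶ W) (ψ : W ⟶ Y), δ.act ≫ φ = snd G P ≫ φ ∧
      IsPullback π.left φ.left f.left ψ.left ∧ IsAffineHom ψ.left ∧
      (LocallyOfFiniteType π.left → LocallyOfFiniteType ψ.left) ∧
      Flat φ.left ∧ Surjective φ.left ∧ QuasiCompact φ.left := by
  obtain ⟨U, q, hq, hinv⟩ := exists_quotient_sch a f hsq δ π hπ
  have hfpqc : (@Surjective ⊓ @Flat ⊓ @QuasiCompact : MorphismProperty Scheme.{u}) f.left :=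
    ⟨⟨inferInstance, inferInstance⟩, inferInstance⟩
  have hw : q ≫ U.hom ≫ Y.hom = P.hom := by
    rw [← Category.assoc, ← hq.w, Category.assoc, Over.w f, Over.w π]
  refine ⟨Over.mk (U.hom ≫ Y.hom), Over.homMk q hw, Over.homMk U.hom rfl, ?_, hq, ?_, ?_,
    MorphismProperty.of_isPullback hq inferInstance,
    MorphismProperty.of_isPullback hq inferInstance,
    MorphismProperty.of_isPullback hq inferInstance⟩
  · ext
    exact hinv
  · haveI hdesc : MorphismProperty.DescendsAlong (@IsAffineHom : MorphismProperty Scheme.{u})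
        (@Surjective ⊓ @Flat ⊓ @QuasiCompact : MorphismProperty Scheme.{u}) :=
      Groth.Agent.S0082.result.{u}
    exact MorphismProperty.of_isPullback_of_descendsAlong (P := @IsAffineHom) hq hfpqc
      inferInstance
  · intro hlft
    exact MorphismProperty.of_isPullback_of_descendsAlong (P := @LocallyOfFiniteType) hq hfpqc hlft

end Pack

section Diag
variable {S : Scheme.{u}} {G X Z : Over S} [GrpObj G]

/-- the diagonal action on a product -/
noncomputable def diagAct (a : AlgGrp.Action G X) (b : AlgGrp.Action G Z) :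
    AlgGrp.Action G (X ⊗ Z) where
  act := lift ((G ◁ fst X Z) ≫ a.act) ((G ◁ snd X Z) ≫ b.act)
  one_act := by
    apply CartesianMonoidalCategory.hom_ext
    · rw [Category.assoc, lift_fst, ← Category.assoc, ← whisker_exchange, Category.assoc,
        a.one_act, leftUnitor_naturality]
    · rw [Category.assoc, lift_snd, ← Category.assoc, ← whisker_exchange, Category.assoc,
        b.one_act, leftUnitor_naturality]
  mul_act := by
    apply CartesianMonoidalCategory.hom_ext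
    · rw [Category.assoc, lift_fst, ← Category.assoc, ← whisker_exchange, Category.assoc,
        a.mul_act]
      simp only [Category.assoc]
      rw [lift_fst, ← MonoidalCategory.whiskerLeft_comp_assoc, lift_fst,
        MonoidalCategory.whiskerLeft_comp, Category.assoc, associator_naturality_right_assoc]
    · rw [Category.assoc, lift_snd, ← Category.assoc, ← whisker_exchange, Category.assoc,
        b.mul_act]
      simp only [Category.assoc]
      rw [lift_snd, ← MonoidalCategory.whiskerLeft_comp_assoc, lift_snd,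
        MonoidalCategory.whiskerLeft_comp, Category.assoc, associator_naturality_right_assoc]

theorem diagAct_fst (a : AlgGrp.Action G X) (b : AlgGrp.Action G Z) :
    (diagAct a b).act ≫ fst X Z = (G ◁ fst X Z) ≫ a.act := lift_fst _ _

end Diag

section main
open Groth.Agent.Lib.Helper4.GeomQuotDesc1

theorem isReduced_of_fpqc {A W : Scheme.{u}} (φ : A ⟶ W) [Flat φ] [Surjective φ]
    [QuasiCompact φ] [IsReduced A] : IsReduced W :=
  ⟨fun U => isReduced_of_injective (φ.app U).hom (injective_app_of_fpqc φ U)⟩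

theorem main_S16133 (k : Type u) [Field k] [IsAlgClosed k]
    (G X Y Z : Over (Spec (CommRingCat.of k))) [GrpObj G]
    [IsReduced X.left] [QuasiCompact X.hom]
    [IsSeparated Y.hom] [LocallyOfFiniteType Y.hom] [QuasiCompact Y.hom]
    [IsReduced Z.left] [IsAffine Z.left] [LocallyOfFiniteType Z.hom]
    (a : AlgGrp.Action G X) (f : X ⟶ Y) [Flat f.left] [Surjective f.left]
    (hsq : IsPullback a.act.left (snd G X).left f.left f.left) (b : AlgGrp.Action G Z) :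
    ∃ (W : Over (Spec (CommRingCat.of k))) (φ : X ⊗ Z ⟶ W) (ψ : W ⟶ Y),
      IsReduced W.left ∧ IsSeparated W.hom ∧ LocallyOfFiniteType W.hom ∧ QuasiCompact W.hom ∧
      lift ((G ◁ fst X Z) ≫ a.act) ((G ◁ snd X Z) ≫ b.act) ≫ φ = snd G (X ⊗ Z) ≫ φ ∧
      IsPullback (fst X Z).left φ.left f.left ψ.left := by
  haveI : QuasiCompact (f.left ≫ Y.hom) := by rw [Over.w f]; infer_instance
  haveI : QuasiCompact f.left := QuasiCompact.of_comp f.left Y.hom
  have hfst : (fst X Z).left = pullback.fst X.hom Z.hom := rfl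
  haveI : IsAffineHom Z.hom := inferInstance
  haveI : IsAffineHom (fst X Z).left := by
    rw [hfst]
    exact MorphismProperty.pullback_fst (P := @IsAffineHom) _ _ inferInstance
  have hlft : LocallyOfFiniteType (fst X Z).left := by
    rw [hfst]
    exact MorphismProperty.pullback_fst (P := @LocallyOfFiniteType) _ _ inferInstance
  obtain ⟨W, φ, ψ, hinv, hpb, haff, hψlft, hfl, hsurj, hqc⟩ :=
    exists_quotient a f hsq (diagAct a b) (fst X Z) (diagAct_fst a b)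
  haveI := haff
  haveI := hψlft hlft
  haveI := hfl
  haveI := hsurj
  haveI := hqc
  -- the product is reduced
  haveI : GeometricallyReduced Z.hom :=
    Groth.Agent.Lib.Helper4.RedAlgClosed1.geometricallyReduced_of_isAlgClosed k Z.hom
  haveI hred0 : IsReduced (pullback Z.hom X.hom) :=
    Groth.Agent.Helper3.isReduced_pullback_of_geometricallyReduced Z.hom X.hom
  haveI hred : IsReduced (X ⊗ Z).left := by
    show IsReduced (pullback X.hom Z.hom)
    exact isReduced_of_isOpenImmersion (pullbackSymmetry X.hom Z.hom).hom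
  have hW : W.hom = ψ.left ≫ Y.hom := (Over.w ψ).symm
  refine ⟨W, φ, ψ, isReduced_of_fpqc φ.left, ?_, ?_, ?_, hinv, hpb⟩
  · rw [hW]; infer_instance
  · rw [hW]; infer_instance
  · rw [hW]; infer_instance

end main

end Groth.Agent.Lib.Helper4.AssocBundle1
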