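import Mathlib
import Groth.Prelude.Def_W4bk4git07Quot
import Groth.Prelude.Def_NonAbH2
import Groth.Prelude.Def_ChGrp
import Groth.Agent.Lib.Helper4.AssocBundle1
import Groth.Agent.Lib.Helper4.FpqcGeomQuot1
import Groth.Agent.Lib.Helper2.AlgSp.Fpqc

/-!
# fpqc-local properties of morphisms on covering families, base change of principal bundles, associated bundle of an fpqc torsor with affine fibre (S18976) (helper4)
-/

set_option backward.isDefEq.respectTransparency.types false
set_option synthInstance.maxHeartbeats 400000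
set_option autoImplicit false
set_option linter.unusedSectionVars false
set_option linter.style.haveILetI false
set_option linter.unusedSimpArgs false
universe u v w
open CategoryTheory CategoryTheory.Limits AlgebraicGeometry TopologicalSpace Opposite
open MonoidalCategory CartesianMonoidalCategory MonObj GrpObj
open Groth.Agent.Lib.Helper4.AssocBundle1 Groth.Agent.Lib.Helper4.FpqcGeomQuot1
open Groth.Agent.Lib.Helper4.FppfGeomQuot1

namespace Groth.Agent.Lib.Helper4.AssocBundle2

section local_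

/-- A property that descends along fpqc morphisms and is Zariski-local on the target can be
checked on the members of an fpqc covering family. -/
theorem prop_of_fpqc_local (P : MorphismProperty Scheme.{u}) [P.IsStableUnderBaseChange]
    [IsZariskiLocalAtTarget P]
    [P.DescendsAlong (@Surjective ⊓ @Flat ⊓ @QuasiCompact : MorphismProperty Scheme.{u})]
    {X Y : Scheme.{u}} (q : X ⟶ Y) (Rc : Presieve Y)
    (hRc : Rc ∈ Scheme.fpqcPrecoverage Y)
    (h : ∀ ⦃T : Scheme.{u}⦄ (f : T ⟶ Y), Rc f → P (pullback.snd q f)) :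
    P q := by
  obtain ⟨I0, Ti, f, rfl⟩ := Rc.exists_eq_ofArrows
  let E : PreZeroHypercover.{u+1} Y := ⟨I0, Ti, f⟩
  have hE : E.presieve₀ = Presieve.ofArrows Ti f := rfl
  have hqc : QuasiCompactCover E := Scheme.presieve₀_mem_qcPrecoverage_iff.mp (hE ▸ hRc.1)
  obtain ⟨hcovers, hflat⟩ := (Scheme.presieve₀_mem_precoverage_iff E).mp (hE ▸ hRc.2)
  have hflat' : ∀ i, Flat (f i) := hflat
  rw [IsZariskiLocalAtTarget.iff_of_iSup_eq_top (P := P) _ (iSup_affineOpens_eq_top Y)]
  intro A
  obtain ⟨n, idx, V, hVaff, hunion⟩ :=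
    QuasiCompactCover.exists_isAffineOpen_of_isCompact E (U := A.1) A.2.isCompact
  have e : ∀ i, V i ≤ (f (idx i)) ⁻¹ᵁ A.1 := by
    intro i x hx
    show (f (idx i)).base x ∈ (A.1 : Set Y)
    rw [← hunion]
    exact Set.mem_iUnion.2 ⟨i, x, hx, rfl⟩
  haveI : ∀ i, IsAffine (V i).toScheme := hVaff
  haveI : IsAffine A.1.toScheme := A.2
  let wi : ∀ i, (V i).toScheme ⟶ A.1.toScheme := fun i => (f (idx i)).resLE A.1 (V i) (e i)
  haveI : ∀ i, Flat (wi i) := fun i => IsZariskiLocalAtSource.resLE (P := @Flat) (e i) (hflat' _)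
  let w : (∐ fun i => (V i).toScheme) ⟶ A.1.toScheme := Sigma.desc wi
  haveI : Flat w := inferInstance
  haveI : Surjective w := by
    apply Surjective.sigmaDesc_of_union_range_eq_univ
    rw [Set.eq_univ_iff_forall]
    intro y
    have hy : (A.1.ι.base y) ∈ (A.1 : Set Y) := ι_mem _ y
    rw [← hunion] at hy
    obtain ⟨i, x, hx, hxy⟩ := Set.mem_iUnion.1 hy
    refine Set.mem_iUnion.2 ⟨i, ⟨⟨x, hx⟩, ?_⟩⟩
    apply A.1.ι.isOpenEmbedding.injective
    have h1 : A.1.ι.base ((wi i).base ⟨x, hx⟩) = (wi i ≫ A.1.ι).base ⟨x, hx⟩ := rfl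
    rw [h1, Scheme.Hom.resLE_comp_ι]
    exact hxy
  haveI : QuasiCompact w := inferInstance
  refine MorphismProperty.of_isPullback_of_descendsAlong (P := P)
    (Q := (@Surjective ⊓ @Flat ⊓ @QuasiCompact : MorphismProperty Scheme.{u}))
    (IsPullback.of_hasPullback w (q ∣_ A.1)) ⟨⟨inferInstance, inferInstance⟩, inferInstance⟩ ?_
  rw [IsZariskiLocalAtTarget.iff_of_openCover (P := P)
    (sigmaOpenCover (fun i => (V i).toScheme))]
  intro i
  show P (pullback.snd (pullback.fst w (q ∣_ A.1)) (Sigma.ι _ i))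
  -- paste squares
  have sq1 : IsPullback (pullback.fst (pullback.fst w (q ∣_ A.1)) (Sigma.ι _ i))
      (pullback.snd (pullback.fst w (q ∣_ A.1)) (Sigma.ι _ i))
      (pullback.fst w (q ∣_ A.1)) (Sigma.ι (fun i => (V i).toScheme) i) := IsPullback.of_hasPullback _ _
  have sq2 : IsPullback (pullback.snd w (q ∣_ A.1)) (pullback.fst w (q ∣_ A.1)) (q ∣_ A.1) w :=
    (IsPullback.of_hasPullback w (q ∣_ A.1)).flip
  have sq3 : IsPullback (q ⁻¹ᵁ A.1).ι (q ∣_ A.1) q A.1.ι := (isPullback_morphismRestrict q A.1).flip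
  have sq12 := sq1.paste_horiz sq2
  have sq123 := sq12.paste_horiz sq3
  have hcomp : (Sigma.ι (fun i => (V i).toScheme) i ≫ w) ≫ A.1.ι = (V i).ι ≫ f (idx i) := by
    rw [Sigma.ι_desc]
    exact Scheme.Hom.resLE_comp_ι _ _
  rw [hcomp] at sq123
  have sq4 : IsPullback (pullback.fst q (f (idx i))) (pullback.snd q (f (idx i))) q (f (idx i)) :=
    IsPullback.of_hasPullback _ _
  let l : pullback (pullback.fst w (q ∣_ A.1)) (Sigma.ι _ i) ⟶ pullback q (f (idx i)) :=
    sq4.lift _ (pullback.snd (pullback.fst w (q ∣_ A.1)) (Sigma.ι _ i) ≫ (V i).ι) (by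
      rw [sq123.w, Category.assoc])
  have sq5 : IsPullback l (pullback.snd (pullback.fst w (q ∣_ A.1)) (Sigma.ι _ i))
      (pullback.snd q (f (idx i))) (V i).ι := by
    refine IsPullback.of_right ?_ (sq4.lift_snd _ _ _) sq4
    rw [sq4.lift_fst]
    exact sq123
  have hP : P (pullback.snd q (f (idx i))) := h _ (Presieve.ofArrows.mk (idx i))
  exact MorphismProperty.of_isPullback sq5 hP

theorem prop_of_torsor (P : MorphismProperty Scheme.{u}) [P.IsStableUnderBaseChange]
    [IsZariskiLocalAtTarget P]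
    [P.DescendsAlong (@Surjective ⊓ @Flat ⊓ @QuasiCompact : MorphismProperty Scheme.{u})]
    {X Y R : Scheme.{u}} (q : X ⟶ Y) (s t : R ⟶ X)
    (hpb : IsPullback s t q q) (ht : P t) (Rc : Presieve Y)
    (hRc : Rc ∈ Scheme.fpqcPrecoverage Y)
    (hsec : ∀ ⦃T : Scheme.{u}⦄ (f : T ⟶ Y), Rc f → ∃ g : T ⟶ X, g ≫ q = f) : P q := by
  apply prop_of_fpqc_local P q Rc hRc
  intro T f hf
  obtain ⟨g, hg⟩ := hsec f hf
  have outer : IsPullback (pullback.fst t g ≫ s) (pullback.snd t g) q (g ≫ q) :=
    (IsPullback.of_hasPullback t g).paste_horiz hpb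
  rw [hg] at outer
  have e : pullback.snd q f = outer.isoPullback.inv ≫ pullback.snd t g := by
    rw [Iso.eq_inv_comp]
    exact outer.isoPullback_hom_snd
  rw [e]
  exact (P.cancel_left_of_respectsIso _ _).mpr (P.pullback_snd t g ht)

end local_

section bc
variable {S : Scheme.{u}} {G X Y P Q : Over S} [GrpObj G]
  (a : AlgGrp.Action G X) (f : X ⟶ Y)
  (hsq : IsPullback a.act (snd G X) f f)
  (δ : AlgGrp.Action G P) (π : P ⟶ X) (hπ : δ.act ≫ π = (G ◁ π) ≫ a.act)
  (q : P ⟶ Q) (r : Q ⟶ Y) (hinv : δ.act ≫ q = snd G P ≫ q) (hpb : IsPullback π q f r)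

include hsq hπ hinv hpb in
/-- the base change of a principal bundle is principal -/
theorem isPullback_act_of_isPullback : IsPullback δ.act (snd G P) q q := by
  have hsq' : IsPullback a.act.left (snd G X).left f.left f.left := hsq.map (Over.forget S)
  refine ⟨⟨hinv⟩, ⟨PullbackCone.IsLimit.mk _
    (fun s => lift (tr a f hsq' (s.snd ≫ π) (s.fst ≫ π) (by
      rw [Category.assoc, Category.assoc, hpb.w, ← Category.assoc, ← Category.assoc, s.condition]))
      s.snd) ?_ ?_ ?_⟩⟩
  · intro s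
    apply hpb.hom_ext
    · rw [Category.assoc, hπ, lift_whiskerLeft_assoc, tr_spec]
    · rw [Category.assoc, hinv, lift_snd_assoc, s.condition]
  · intro s
    rw [lift_snd]
  · intro s m hm1 hm2
    apply CartesianMonoidalCategory.hom_ext
    · rw [lift_fst]
      apply tr_unique
      rw [← hm2, ← hm1, Category.assoc, Category.assoc, hπ, ← Category.assoc m,
        ← lift_whiskerLeft_assoc]
      congr 1
      apply CartesianMonoidalCategory.hom_ext
      · rw [lift_fst]
      · rw [lift_snd]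
    · rw [lift_snd, hm2]

end bc

section main

theorem surjective_snd_left {S : Scheme.{u}} (G X : Over S) [GrpObj G] :
    Surjective (snd G X).left := by
  have h : lift (toUnit X ≫ η[G]) (𝟙 X) ≫ snd G X = 𝟙 X := lift_snd _ _
  refine ⟨fun x => ⟨(lift (toUnit X ≫ η[G]) (𝟙 X)).left x, ?_⟩⟩
  rw [← Scheme.Hom.comp_apply, ← Over.comp_left, h]
  rfl

theorem main_S18976 (k : Type u) [Field k]
    (G X Y F : Over (Spec (CommRingCat.of k))) [GrpObj G] [IsAffine G.left]
    (a : AlgGrp.Action G X) (φ : X ⟶ Y)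
    (hcart : IsPullback a.act (snd G X) φ φ)
    (hloc : NonAbH1.IsLocallyTrivialFor Scheme.fpqcPrecoverage (Over.mk φ.left : Over Y.left))
    [IsAffine F.left] (b : AlgGrp.Action G F) :
    ∃ (Q : Over (Spec (CommRingCat.of k))) (q : X ⊗ F ⟶ Q) (r : Q ⟶ Y),
      q ≫ r = fst X F ≫ φ ∧
      IsPullback (a.prod b).act (snd G (X ⊗ F)) q q ∧
      NonAbH1.IsLocallyTrivialFor Scheme.fpqcPrecoverage (Over.mk q.left : Over Q.left) ∧
      IsAffineHom q.left ∧ GIT.IsGeomQuot (a.prod b) q := by
  have hloc' := hloc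
  obtain ⟨Rc, hRc, hsec⟩ := hloc
  have hpb : IsPullback a.act.left (snd G X).left φ.left φ.left := hcart.map (Over.forget _)
  have hsec' : ∀ ⦃T : Scheme.{u}⦄ (f : T ⟶ Y.left), Rc f → ∃ g : T ⟶ X.left, g ≫ φ.left = f := by
    intro T f hf
    obtain ⟨s, hs⟩ := hsec f hf
    exact ⟨s, hs⟩
  haveI : IsAffineHom G.hom := inferInstance
  haveI : Flat G.hom := inferInstance
  have hsnd : (snd G X).left = pullback.snd G.hom X.hom := rfl
  haveI : IsAffineHom (snd G X).left := by
    rw [hsnd]
    exact MorphismProperty.pullback_snd (P := @IsAffineHom) G.hom X.hom inferInstance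
  have hflsnd : Flat (snd G X).left := by
    rw [hsnd]
    exact MorphismProperty.pullback_snd (P := @Flat) G.hom X.hom inferInstance
  haveI : IsAffineHom φ.left := isAffineHom_of_torsor _ _ _ hpb Rc hRc hsec'
  haveI : Flat φ.left :=
    prop_of_torsor @Flat φ.left _ _ hpb hflsnd Rc hRc hsec'
  haveI : Surjective φ.left :=
    prop_of_torsor @Surjective φ.left _ _ hpb (surjective_snd_left G X) Rc hRc hsec'
  have hfst : (fst X F).left = pullback.fst X.hom F.hom := rfl
  haveI : IsAffineHom F.hom := inferInstance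
  haveI : IsAffineHom (fst X F).left := by
    rw [hfst]
    exact MorphismProperty.pullback_fst (P := @IsAffineHom) _ _ inferInstance
  obtain ⟨W, q, r, hinv, hpbW, haff, -, hfl, hsurj, hqc⟩ :=
    exists_quotient a φ hpb (a.prod b) (fst X F) (lift_fst _ _)
  have hqr : q ≫ r = fst X F ≫ φ := by
    ext
    exact hpbW.w.symm
  have hpbO : IsPullback (fst X F) q φ r :=
    IsPullback.of_map (Over.forget _) hqr.symm hpbW
  have h2 : IsPullback (a.prod b).act (snd G (X ⊗ F)) q q :=
    isPullback_act_of_isPullback a φ hcart (a.prod b) (fst X F) (lift_fst _ _) q r hinv hpbO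
  have h3 : NonAbH1.IsLocallyTrivialFor Scheme.fpqcPrecoverage (Over.mk q.left : Over W.left) := by
    obtain ⟨I0, Ti, f, rfl⟩ := Rc.exists_eq_ofArrows
    refine ⟨Presieve.ofArrows (fun i => pullback r.left (f i))
      (fun i => pullback.fst r.left (f i)), ?_, ?_⟩
    · exact Precoverage.mem_coverings_of_isPullback (J := Scheme.fpqcPrecoverage) f hRc r.left _
        (fun i => pullback.snd r.left (f i)) (fun i => IsPullback.of_hasPullback _ _)
    · rintro S' g ⟨i⟩
      obtain ⟨s, hs⟩ := hsec' (f i) (Presieve.ofArrows.mk i)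
      refine ⟨hpbW.lift (pullback.snd r.left (f i) ≫ s) (pullback.fst r.left (f i)) ?_, ?_⟩
      · rw [Category.assoc, hs, pullback.condition]
      · exact hpbW.lift_snd _ _ _
  obtain ⟨h4, h5⟩ := main_S18975 G (X ⊗ F) W (a.prod b) q h2 h3
  exact ⟨W, q, r, hqr, h2, h3, h4, h5⟩

end main

end Groth.Agent.Lib.Helper4.AssocBundle2
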