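import Mathlib
import Groth.Prelude.Def_W4bk4git07Quot
import Groth.Prelude.Def_ChGrp
import Groth.Agent.Lib.Helper4.AssocBundle1
import Groth.Agent.Lib.Helper4.AssocBundle2
import Groth.Agent.Lib.Helper2.Desc.TrivEff
import Groth.Agent.Lib.Helper2.Desc.BaseLocal

/-!
# Quotients of equivariant schemes over a Zariski-locally trivial principal bundle via local effectivity of descent (S18506) (helper4)
-/

set_option backward.isDefEq.respectTransparency.types false
set_option synthInstance.maxHeartbeats 400000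
set_option autoImplicit false
set_option linter.unusedSectionVars false
set_option linter.style.haveILetI false
set_option linter.unusedSimpArgs false
universe u v w
open CategoryTheory CategoryTheory.Limits AlgebraicGeometry TopologicalSpace Opposite
open MonoidalCategory CartesianMonoidalCategory MonObj GrpObj
open Groth.Agent.Lib.Helper4.AssocBundle1 Groth.Agent.Lib.Helper4.AssocBundle2

namespace Groth.Agent.Lib.Helper4.AssocBundle3

section Quot
open Desc
variable {S : Scheme.{u}} {G X Y P : Over S} [GrpObj G]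
  (a : AlgGrp.Action G X) (f : X ⟶ Y)
  (hsq : IsPullback a.act.left (snd G X).left f.left f.left)
  (δ : AlgGrp.Action G P) (π : P ⟶ X) (hπ : δ.act ≫ π = (G ◁ π) ≫ a.act)

include hπ hsq in
theorem exists_quotient_sch_of_effective
    (hEff : ((SchDDFam.ofSchDD.{u, u} f.left).obj (dd a f hsq δ π hπ)).IsEffective) :
    ∃ (U : Over Y.left) (q : P.left ⟶ U.left), IsPullback π.left q f.left U.hom ∧
      δ.act.left ≫ q = (snd G P).left ≫ q := by
  obtain ⟨U, ⟨e⟩⟩ := Groth.Agent.Helper2.DescEff.exists_iso_of_isEffective f.left _ hEff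
  obtain ⟨q, hq, hinv⟩ := Groth.Agent.Helper2.AlgSpDesc.exists_quotient_of_iso f.left _ U e
  refine ⟨U, q, hq, ?_⟩
  have hw : a.act ≫ f = snd G X ≫ f := (isPullback_over a f hsq).w
  have h : (snd G P ≫ π) ≫ f = (δ.act ≫ π) ≫ f := by
    rw [Category.assoc, Category.assoc, reassoc_of% hπ, hw, whiskerLeft_snd_assoc]
  have h' : (snd G P ≫ π).left ≫ f.left = (δ.act ≫ π).left ≫ f.left := by
    rw [← Over.comp_left, h, Over.comp_left]
  have key := hinv (snd G P ≫ π).left (δ.act ≫ π).left h' ⟨(snd G P).left, rfl⟩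
  have e1 : ((dd a f hsq δ π hπ).φ (snd G P ≫ π).left (δ.act ≫ π).left h'
      ⟨(snd G P).left, rfl⟩).1 = δ.act.left := by
    show (ddMap a f hsq δ π hπ (snd G P ≫ π).left (δ.act ≫ π).left h' ⟨(snd G P).left, rfl⟩).1 = _
    rw [ddMap_val a f hsq δ π hπ (G ⊗ P).hom _ _ (Over.w _) (Over.w _) h' _ (Over.w (snd G P))]
    have := Φs_over a f hsq δ (snd G P ≫ π) (δ.act ≫ π) h (snd G P)
    rw [Φ_univ a f hsq δ π hπ] at this
    exact this
  rw [e1] at key
  exact key

include hπ hsq in
/-- Quotient of an equivariant `G`-scheme over the total space of a principal bundle with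
Zariski-local sections. -/
theorem exists_quotient_of_zariski [Flat f.left] [Surjective f.left] [QuasiCompact f.left]
    (hzar : ∀ y : ↥Y.left, ∃ (W : Y.left.Opens) (s : (↑W : Scheme.{u}) ⟶ X.left),
      y ∈ W ∧ s ≫ f.left = W.ι) :
    ∃ (W : Over S) (φ : P ⟶ W) (ψ : W ⟶ Y), δ.act ≫ φ = snd G P ≫ φ ∧
      IsPullback π.left φ.left f.left ψ.left ∧
      Flat φ.left ∧ Surjective φ.left ∧ QuasiCompact φ.left := by
  have hEff : ((SchDDFam.ofSchDD.{u, u} f.left).obj (dd a f hsq δ π hπ)).IsEffective := by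
    choose Wy sy hy1 hy2 using hzar
    refine Groth.Agent.Helper2.DescBase.isEffective_of_forall_opens
      (Groth.Agent.Helper2.DescAff.single_mem_fpqc f.left) _ Wy (fun y => ⟨y, hy1 y⟩) ?_
    intro y
    -- the restricted morphism has a section
    have hr : Set.range (sy y).base ⊆ Set.range (f.left ⁻¹ᵁ Wy y).ι.base := by
      rintro _ ⟨w, rfl⟩
      rw [Scheme.Opens.range_ι]
      show f.left.base ((sy y).base w) ∈ (Wy y : Set Y.left)
      rw [← Scheme.Hom.comp_apply, hy2 y]
      exact w.2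
    let σ : (↑(Wy y) : Scheme.{u}) ⟶ ↑(f.left ⁻¹ᵁ Wy y) :=
      IsOpenImmersion.lift (f.left ⁻¹ᵁ Wy y).ι (sy y) hr
    have hσ : σ ≫ (f.left ∣_ Wy y) = 𝟙 _ := by
      rw [← cancel_mono (Wy y).ι, Category.assoc, morphismRestrict_ι, ← Category.assoc,
        IsOpenImmersion.lift_fac, hy2 y, Category.id_comp]
    exact Groth.Agent.Helper2.DescTriv.isEffective_of_section ⟨⟩ σ hσ _
  obtain ⟨U, q, hq, hinv⟩ := exists_quotient_sch_of_effective a f hsq δ π hπ hEff
  have hw : q ≫ U.hom ≫ Y.hom = P.hom := by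
    rw [← Category.assoc, ← hq.w, Category.assoc, Over.w f, Over.w π]
  refine ⟨Over.mk (U.hom ≫ Y.hom), Over.homMk q hw, Over.homMk U.hom rfl, ?_, hq,
    MorphismProperty.of_isPullback hq inferInstance,
    MorphismProperty.of_isPullback hq inferInstance,
    MorphismProperty.of_isPullback hq inferInstance⟩
  ext
  exact hinv

end Quot

section main

theorem isPullback_of_isIso_psiY' {S : Scheme.{u}} {G X Y : Over S} [GrpObj G]
    (a : AlgGrp.Action G X) (φ : X ⟶ Y)
    (h : GIT.IsInvariant a φ) (hiso : IsIso (GIT.PsiY a φ h)) :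
    IsPullback a.act.left (snd G X).left φ.left φ.left := by
  refine IsPullback.of_iso_pullback ⟨h.left⟩ (asIso (GIT.PsiY a φ h)) ?_ ?_
  · exact pullback.lift_fst _ _ _
  · exact pullback.lift_snd _ _ _

theorem isIso_psiY_of_isPullback {S : Scheme.{u}} {G X Y : Over S} [GrpObj G]
    (a : AlgGrp.Action G X) (φ : X ⟶ Y)
    (h : GIT.IsInvariant a φ) (hpb : IsPullback a.act.left (snd G X).left φ.left φ.left) :
    IsIso (GIT.PsiY a φ h) := by
  have e : GIT.PsiY a φ h = hpb.isoPullback.hom := by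
    apply pullback.hom_ext
    · rw [hpb.isoPullback_hom_fst]
      exact pullback.lift_fst _ _ _
    · rw [hpb.isoPullback_hom_snd]
      exact pullback.lift_snd _ _ _
  rw [e]
  infer_instance

theorem main_S18506 (k : Type u) [Field k]
    (G X U B : Over (Spec (CommRingCat.of k))) [GrpObj G]
    [QuasiCompact U.hom]
    [QuasiSeparated B.hom]
    (a : AlgGrp.Action G X) (b : AlgGrp.Action G U) (π : U ⟶ B) (hinv : GIT.IsInvariant b π)
    [Flat π.left] [Surjective π.left] (hcart : IsIso (GIT.PsiY b π hinv))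
    (hzar : ∀ y : ↥B.left, ∃ (W : B.left.Opens) (s : (↑W : Scheme.{u}) ⟶ U.left), y ∈ W ∧ s ≫ π.left = W.ι) :
    ∃ (Q : Over (Spec (CommRingCat.of k))) (ρ : X ⊗ U ⟶ Q) (hρ : GIT.IsInvariant (a.prod b) ρ),
      Flat ρ.left ∧ Surjective ρ.left ∧ IsIso (GIT.PsiY (a.prod b) ρ hρ) := by
  haveI : QuasiCompact (π.left ≫ B.hom) := by rw [Over.w π]; infer_instance
  haveI : QuasiCompact π.left := QuasiCompact.of_comp π.left B.hom
  have hsq : IsPullback b.act.left (snd G U).left π.left π.left :=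
    isPullback_of_isIso_psiY' b π hinv hcart
  have hπ : (a.prod b).act ≫ snd X U = (G ◁ snd X U) ≫ b.act := lift_snd _ _
  obtain ⟨Q, ρ, ψ, hρ, hpb, hfl, hsurj, -⟩ :=
    exists_quotient_of_zariski b π hsq (a.prod b) (snd X U) hπ hzar
  have hsqO : IsPullback b.act (snd G U) π π := isPullback_over b π hsq
  have hρψ : snd X U ≫ π = ρ ≫ ψ := by
    ext
    exact hpb.w
  have hpbO : IsPullback (snd X U) ρ π ψ := IsPullback.of_map (Over.forget _) hρψ hpb
  have h2 : IsPullback (a.prod b).act (snd G (X ⊗ U)) ρ ρ :=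
    isPullback_act_of_isPullback b π hsqO (a.prod b) (snd X U) hπ ρ ψ hρ hpbO
  exact ⟨Q, ρ, hρ, hfl, hsurj, isIso_psiY_of_isPullback _ _ hρ (h2.map (Over.forget _))⟩

end main

end Groth.Agent.Lib.Helper4.AssocBundle3
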