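import Mathlib
import Groth.Prelude.Def_AlgGrp
import Groth.Agent.Lib.Helper4.AntiAffRigid2
import Groth.Agent.Lib.Helper4.GrpArtin2
import Groth.Agent.Lib.Helper4.Act1
import Groth.Agent.Lib.Helper1.Simple2
import Groth.Agent.Lib.Helper7.GeomConn.GlobSec

/-!
# Actions of a group on a product of proper varieties split (S11420) (helper4)
-/

set_option backward.isDefEq.respectTransparency.types false
set_option synthInstance.maxHeartbeats 400000
set_option autoImplicit false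
set_option linter.unusedSectionVars false
set_option linter.style.haveILetI false
set_option linter.unusedSimpArgs false
universe u v w
open CategoryTheory CategoryTheory.Limits AlgebraicGeometry TopologicalSpace Opposite
open MonoidalCategory CartesianMonoidalCategory MonObj GrpObj

namespace Groth.Agent.Lib.Helper4.ProdAct1

section ActPts
variable {C : Type*} [Category C] [CartesianMonoidalCategory C] {G X : C} [GrpObj G]

theorem one_act_of_points (act : G ⊗ X ⟶ X)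
    (h : ∀ (T : C) (x : T ⟶ X), lift (toUnit T ≫ η[G]) x ≫ act = x) :
    (η[G] ▷ X) ≫ act = (λ_ X).hom := by
  have h1 := h (𝟙_ C ⊗ X) (snd _ _)
  have e : (η[G] ▷ X) = lift (toUnit _ ≫ η[G]) (snd (𝟙_ C) X) := by
    apply CartesianMonoidalCategory.hom_ext
    · rw [whiskerRight_fst, lift_fst, toUnit_unique (toUnit (𝟙_ C ⊗ X)) (fst _ _)]
    · rw [whiskerRight_snd, lift_snd]
  rw [e, h1, leftUnitor_hom]

theorem mul_act_of_points (act : G ⊗ X ⟶ X)
    (h : ∀ (T : C) (g h : T ⟶ G) (x : T ⟶ X),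
      lift (g * h) x ≫ act = lift g (lift h x ≫ act) ≫ act) :
    (μ[G] ▷ X) ≫ act = (α_ G G X).hom ≫ (G ◁ act) ≫ act := by
  have h1 := h ((G ⊗ G) ⊗ X) (fst _ _ ≫ fst _ _) (fst _ _ ≫ snd _ _) (snd _ _)
  have e1 : (μ[G] ▷ X) =
      lift ((fst (G ⊗ G) X ≫ fst G G) * (fst (G ⊗ G) X ≫ snd G G)) (snd _ _) := by
    apply CartesianMonoidalCategory.hom_ext
    · rw [whiskerRight_fst, lift_fst, Hom.mul_def, ← comp_lift, lift_fst_snd, Category.comp_id]
    · rw [whiskerRight_snd, lift_snd]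
  have e2 : (α_ G G X).hom ≫ (G ◁ act) =
      lift (fst _ _ ≫ fst _ _) (lift (fst _ _ ≫ snd _ _) (snd _ _) ≫ act) := by
    apply CartesianMonoidalCategory.hom_ext
    · simp
    · rw [Category.assoc, whiskerLeft_snd, lift_snd, ← Category.assoc]
      congr 1
      apply CartesianMonoidalCategory.hom_ext <;> simp
  rw [e1, h1, ← e2, Category.assoc]

end ActPts

section Main
variable (k : Type u) [Field k] [IsAlgClosed k]

theorem antiAffine_of_proper_integral (Y : Over (Spec (CommRingCat.of k))) [IsProper Y.hom]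
    [IsIntegral Y.left] :
    Function.Bijective ((Scheme.ΓSpecIso (CommRingCat.of k)).inv ≫ Y.hom.appTop).hom := by
  letI alg : Algebra k Γ(Y.left, ⊤) :=
    (Groth.Agent.Helper7.GeomConn.toΓ k Y.left Y.hom).toAlgebra
  haveI hfin : Module.Finite k Γ(Y.left, ⊤) :=
    Groth.Agent.Helper7.GeomConn.finite_globalSections k Y.left Y.hom
  haveI : IsDomain Γ(Y.left, ⊤) := inferInstance
  haveI : Algebra.IsIntegral k Γ(Y.left, ⊤) := Algebra.IsIntegral.of_finite k _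
  have h1 : Function.Bijective (algebraMap k Γ(Y.left, ⊤)) :=
    IsAlgClosed.algebraMap_bijective_of_isIntegral
  exact h1

theorem exists_point (X : Over (Spec (CommRingCat.of k))) [LocallyOfFiniteType X.hom]
    [Nonempty X.left] : Nonempty (𝟙_ (Over (Spec (CommRingCat.of k))) ⟶ X) := by
  obtain ⟨p, hp⟩ := Groth.Agent.Helper1.Simple.exists_section k X.hom
  exact ⟨Over.homMk p (by simpa using hp)⟩

theorem exists_factor (G X Y : Over (Spec (CommRingCat.of k))) [GrpObj G]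
    [LocallyOfFiniteType G.hom] [QuasiCompact G.hom] [ConnectedSpace ↥G.left]
    [IsProper X.hom] [IsIntegral X.left] [IsProper Y.hom] [IsIntegral Y.left]
    (act : G ⊗ (X ⊗ Y) ⟶ X ⊗ Y)
    (hone : ∀ (T : Over (Spec (CommRingCat.of k))) (p : T ⟶ X ⊗ Y),
      lift (toUnit T ≫ η[G]) p ≫ act = p) :
    ∃ b₀ : G ⊗ X ⟶ X, act ≫ fst X Y = (G ◁ fst X Y) ≫ b₀ := by
  haveI : Subsingleton ↥(Spec (CommRingCat.of k)) :=
    inferInstanceAs (Subsingleton (PrimeSpectrum k))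
  haveI : LocallyOfFiniteType X.hom := inferInstance
  haveI : LocallyOfFiniteType Y.hom := inferInstance
  haveI : Nonempty ↥X.left := inferInstance
  obtain ⟨x₀⟩ := exists_point k X
  have hY := antiAffine_of_proper_integral k Y
  haveI : ConnectedSpace ↥X.left := inferInstance
  haveI : ConnectedSpace ↥(G ⊗ X).left :=
    Groth.Agent.Lib.Helper4.GrpArtin2.connectedSpace_pullback X.hom x₀.left (Over.w x₀) G.hom
  haveI : LocallyOfFiniteType (G ⊗ X).hom := by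
    rw [Over.tensorObj_hom]; infer_instance
  haveI : QuasiCompact (G ⊗ X).hom := by
    rw [Over.tensorObj_hom]; infer_instance
  haveI : IsSeparated X.hom := inferInstance
  obtain ⟨ρ, hρ⟩ : ∃ ρ : Y ⊗ (G ⊗ X) ⟶ G ⊗ (X ⊗ Y),
      ρ = lift (snd _ _ ≫ fst G X) (lift (snd _ _ ≫ snd G X) (fst Y _)) := ⟨_, rfl⟩
  obtain ⟨f, hf⟩ : ∃ f : Y ⊗ (G ⊗ X) ⟶ X, f = ρ ≫ act ≫ fst X Y := ⟨_, rfl⟩
  obtain ⟨y₀', hy₀'⟩ : ∃ y₀' : 𝟙_ (Over (Spec (CommRingCat.of k))) ⟶ G ⊗ X, y₀' = lift η[G] x₀ :=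
    ⟨_, rfl⟩
  have hfy : (Y ◁ y₀') ≫ f = toUnit _ ≫ x₀ := by
    have e1 : (Y ◁ y₀') ≫ ρ = lift (toUnit _ ≫ η[G]) (lift (snd Y _ ≫ x₀) (fst Y _)) := by
      rw [hρ, hy₀']
      apply CartesianMonoidalCategory.hom_ext
      · rw [Category.assoc, lift_fst, lift_fst, whiskerLeft_snd_assoc, lift_fst,
          toUnit_unique (snd Y (𝟙_ _)) (toUnit _)]
      · rw [Category.assoc, lift_snd, lift_snd]
        apply CartesianMonoidalCategory.hom_ext
        · rw [Category.assoc, lift_fst, lift_fst, whiskerLeft_snd_assoc, lift_snd]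
        · rw [Category.assoc, lift_snd, lift_snd, whiskerLeft_fst]
    rw [hf, ← Category.assoc, e1, ← Category.assoc, hone, lift_fst,
      toUnit_unique (snd Y (𝟙_ _)) (toUnit _)]
  obtain ⟨b₀, hb₀, -⟩ := Groth.Agent.Lib.Helper4.AntiAffRigid2.main_S11395 k Y (G ⊗ X) X hY f
    y₀' x₀ hfy
  refine ⟨b₀, ?_⟩
  obtain ⟨τ, hτ⟩ : ∃ τ : G ⊗ (X ⊗ Y) ⟶ Y ⊗ (G ⊗ X),
      τ = lift (snd _ _ ≫ snd X Y) (lift (fst G _) (snd _ _ ≫ fst X Y)) := ⟨_, rfl⟩
  have e2 : τ ≫ ρ = 𝟙 _ := by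
    rw [hτ, hρ]
    apply CartesianMonoidalCategory.hom_ext
    · simp
    · apply CartesianMonoidalCategory.hom_ext <;> simp
  have e3 : τ ≫ snd Y (G ⊗ X) = G ◁ fst X Y := by
    rw [hτ, lift_snd]
    apply CartesianMonoidalCategory.hom_ext <;> simp
  have h9 : τ ≫ f = τ ≫ snd Y (G ⊗ X) ≫ b₀ := by rw [← hb₀]
  rw [hf, ← Category.assoc, e2, Category.id_comp, ← Category.assoc, e3] at h9
  exact h9

theorem action_ext {S : Scheme.{u}} {G X : Over S} [GrpObj G] (b b' : AlgGrp.Action G X)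
    (h : b.act = b'.act) : b = b' := by
  cases b; cases b'
  simp only at h
  subst h
  rfl

theorem main_S11420 (G X Y : Over (Spec (CommRingCat.of k))) [GrpObj G]
    [LocallyOfFiniteType G.hom] [QuasiCompact G.hom] [ConnectedSpace ↥G.left]
    [IsProper X.hom] [IsIntegral X.left] [IsProper Y.hom] [IsIntegral Y.left]
    (a : AlgGrp.Action G (X ⊗ Y)) :
    ∃ (b : AlgGrp.Action G X) (c : AlgGrp.Action G Y),
      a.act = lift ((G ◁ fst X Y) ≫ b.act) ((G ◁ snd X Y) ≫ c.act) ∧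
      ∀ (b' : AlgGrp.Action G X) (c' : AlgGrp.Action G Y),
        a.act = lift ((G ◁ fst X Y) ≫ b'.act) ((G ◁ snd X Y) ≫ c'.act) → b' = b ∧ c' = c := by
  haveI : LocallyOfFiniteType X.hom := inferInstance
  haveI : LocallyOfFiniteType Y.hom := inferInstance
  haveI : Nonempty ↥X.left := inferInstance
  haveI : Nonempty ↥Y.left := inferInstance
  obtain ⟨x₀⟩ := exists_point k X
  obtain ⟨y₀⟩ := exists_point k Y
  have hone : ∀ (T : Over (Spec (CommRingCat.of k))) (p : T ⟶ X ⊗ Y),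
      lift (toUnit T ≫ η[G]) p ≫ a.act = p :=
    fun T p => Groth.Agent.Helper4.Act.one_smul' a.act a.one_act p
  have hmul : ∀ (T : Over (Spec (CommRingCat.of k))) (g h : T ⟶ G) (p : T ⟶ X ⊗ Y),
      lift (g * h) p ≫ a.act = lift g (lift h p ≫ a.act) ≫ a.act :=
    fun T g h p => Groth.Agent.Helper4.Act.mul_smul' a.act a.mul_act g h p
  obtain ⟨b₀, hb₀⟩ := exists_factor k G X Y a.act hone
  obtain ⟨sXY, hsXY⟩ : ∃ s : X ⊗ Y ⟶ Y ⊗ X, s = lift (snd X Y) (fst X Y) := ⟨_, rfl⟩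
  obtain ⟨sYX, hsYX⟩ : ∃ s : Y ⊗ X ⟶ X ⊗ Y, s = lift (snd Y X) (fst Y X) := ⟨_, rfl⟩
  have hs1 : sYX ≫ sXY = 𝟙 _ := by
    rw [hsXY, hsYX]; apply CartesianMonoidalCategory.hom_ext <;> simp
  have hs2 : sXY ≫ sYX = 𝟙 _ := by
    rw [hsXY, hsYX]; apply CartesianMonoidalCategory.hom_ext <;> simp
  obtain ⟨act', hact'⟩ : ∃ act' : G ⊗ (Y ⊗ X) ⟶ Y ⊗ X, act' = (G ◁ sYX) ≫ a.act ≫ sXY :=
    ⟨_, rfl⟩
  have hone' : ∀ (T : Over (Spec (CommRingCat.of k))) (p : T ⟶ Y ⊗ X),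
      lift (toUnit T ≫ η[G]) p ≫ act' = p := by
    intro T p
    rw [hact', ← Category.assoc, lift_whiskerLeft, ← Category.assoc, hone, Category.assoc, hs1,
      Category.comp_id]
  obtain ⟨c₀, hc₀'⟩ := exists_factor k G Y X act' hone'
  have hc₀ : a.act ≫ snd X Y = (G ◁ snd X Y) ≫ c₀ := by
    have h : (G ◁ sXY) ≫ act' ≫ fst Y X = (G ◁ sXY) ≫ (G ◁ fst Y X) ≫ c₀ := by rw [hc₀']
    have e1 : (G ◁ sXY) ≫ (G ◁ sYX) = 𝟙 _ := by
      rw [← MonoidalCategory.whiskerLeft_comp, hs2, MonoidalCategory.whiskerLeft_id]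
    have e2 : sXY ≫ fst Y X = snd X Y := by rw [hsXY, lift_fst]
    have e3 : (G ◁ sXY) ≫ (G ◁ fst Y X) = G ◁ snd X Y := by
      rw [← MonoidalCategory.whiskerLeft_comp, e2]
    rw [hact'] at h
    simp only [Category.assoc] at h
    rw [← Category.assoc (G ◁ sXY) (G ◁ sYX), e1, Category.id_comp, e2,
      ← Category.assoc (G ◁ sXY), e3] at h
    exact h
  have keyb : ∀ (T : Over (Spec (CommRingCat.of k))) (g : T ⟶ G) (x : T ⟶ X) (y : T ⟶ Y),
      lift g (lift x y) ≫ a.act ≫ fst X Y = lift g x ≫ b₀ := by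
    intro T g x y
    rw [hb₀, ← Category.assoc, lift_whiskerLeft, lift_fst]
  have keyc : ∀ (T : Over (Spec (CommRingCat.of k))) (g : T ⟶ G) (x : T ⟶ X) (y : T ⟶ Y),
      lift g (lift x y) ≫ a.act ≫ snd X Y = lift g y ≫ c₀ := by
    intro T g x y
    rw [hc₀, ← Category.assoc, lift_whiskerLeft, lift_snd]
  have hb_one : ∀ (T : Over (Spec (CommRingCat.of k))) (x : T ⟶ X),
      lift (toUnit T ≫ η[G]) x ≫ b₀ = x := by
    intro T x
    rw [← keyb T _ x (toUnit T ≫ y₀), ← Category.assoc, hone, lift_fst]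
  have hc_one : ∀ (T : Over (Spec (CommRingCat.of k))) (y : T ⟶ Y),
      lift (toUnit T ≫ η[G]) y ≫ c₀ = y := by
    intro T y
    rw [← keyc T _ (toUnit T ≫ x₀) y, ← Category.assoc, hone, lift_snd]
  have hb_mul : ∀ (T : Over (Spec (CommRingCat.of k))) (g h : T ⟶ G) (x : T ⟶ X),
      lift (g * h) x ≫ b₀ = lift g (lift h x ≫ b₀) ≫ b₀ := by
    intro T g h x
    rw [← keyb T (g * h) x (toUnit T ≫ y₀), ← Category.assoc, hmul, Category.assoc]
    obtain ⟨p, hp⟩ : ∃ p : T ⟶ X ⊗ Y, p = lift h (lift x (toUnit T ≫ y₀)) ≫ a.act := ⟨_, rfl⟩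
    rw [← hp]
    have hp2 : p = lift (p ≫ fst X Y) (p ≫ snd X Y) := (lift_comp_fst_snd p).symm
    have hp3 : p ≫ fst X Y = lift h x ≫ b₀ := by
      rw [hp, Category.assoc, keyb]
    rw [hp2, keyb, hp3]
  have hc_mul : ∀ (T : Over (Spec (CommRingCat.of k))) (g h : T ⟶ G) (y : T ⟶ Y),
      lift (g * h) y ≫ c₀ = lift g (lift h y ≫ c₀) ≫ c₀ := by
    intro T g h y
    rw [← keyc T (g * h) (toUnit T ≫ x₀) y, ← Category.assoc, hmul, Category.assoc]
    obtain ⟨p, hp⟩ : ∃ p : T ⟶ X ⊗ Y, p = lift h (lift (toUnit T ≫ x₀) y) ≫ a.act := ⟨_, rfl⟩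
    rw [← hp]
    have hp2 : p = lift (p ≫ fst X Y) (p ≫ snd X Y) := (lift_comp_fst_snd p).symm
    have hp3 : p ≫ snd X Y = lift h y ≫ c₀ := by
      rw [hp, Category.assoc, keyc]
    rw [hp2, keyc, hp3]
  obtain ⟨b, hb⟩ : ∃ b : AlgGrp.Action G X, b.act = b₀ :=
    ⟨⟨b₀, one_act_of_points b₀ hb_one, mul_act_of_points b₀ hb_mul⟩, rfl⟩
  obtain ⟨c, hc⟩ : ∃ c : AlgGrp.Action G Y, c.act = c₀ :=
    ⟨⟨c₀, one_act_of_points c₀ hc_one, mul_act_of_points c₀ hc_mul⟩, rfl⟩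
  refine ⟨b, c, ?_, ?_⟩
  · apply CartesianMonoidalCategory.hom_ext
    · rw [lift_fst, hb, hb₀]
    · rw [lift_snd, hc, hc₀]
  · intro b' c' h'
    constructor
    · apply action_ext
      rw [hb]
      have e1 : a.act ≫ fst X Y = (G ◁ fst X Y) ≫ b'.act := by
        rw [h', lift_fst]
      have e2 : (G ◁ lift (𝟙 X) (toUnit X ≫ y₀)) ≫ (G ◁ fst X Y) = 𝟙 _ := by
        rw [← MonoidalCategory.whiskerLeft_comp, lift_fst, MonoidalCategory.whiskerLeft_id]
      have e3 : (G ◁ fst X Y) ≫ b'.act = (G ◁ fst X Y) ≫ b₀ := by rw [← e1, hb₀]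
      have e4 := congrArg (fun t => (G ◁ lift (𝟙 X) (toUnit X ≫ y₀)) ≫ t) e3
      simp only [← Category.assoc, e2, Category.id_comp] at e4
      exact e4
    · apply action_ext
      rw [hc]
      have e1 : a.act ≫ snd X Y = (G ◁ snd X Y) ≫ c'.act := by
        rw [h', lift_snd]
      have e2 : (G ◁ lift (toUnit Y ≫ x₀) (𝟙 Y)) ≫ (G ◁ snd X Y) = 𝟙 _ := by
        rw [← MonoidalCategory.whiskerLeft_comp, lift_snd, MonoidalCategory.whiskerLeft_id]
      have e3 : (G ◁ snd X Y) ≫ c'.act = (G ◁ snd X Y) ≫ c₀ := by rw [← e1, hc₀]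
      have e4 := congrArg (fun t => (G ◁ lift (toUnit Y ≫ x₀) (𝟙 Y)) ≫ t) e3
      simp only [← Category.assoc, e2, Category.id_comp] at e4
      exact e4

end Main

end Groth.Agent.Lib.Helper4.ProdAct1
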