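import Mathlib
import Groth.Prelude.Def_AlgGrp
import Groth.Agent.Lib.Helper4.ProdAct1
import Groth.Agent.Lib.Helper4.AntiAffRigid3
import Groth.Agent.Lib.Helper4.AlbFormal1
import Groth.Agent.Lib.Helper4.GrpGeomInt1

/-!
# Automorphisms of A x S over S are translation times group automorphism (S11404) (helper4)
-/

set_option backward.isDefEq.respectTransparency.types false
set_option synthInstance.maxHeartbeats 400000
set_option autoImplicit false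
set_option linter.unusedSectionVars false
set_option linter.style.haveILetI false
set_option linter.unusedSimpArgs false
universe u v w
open CategoryTheory CategoryTheory.Limits AlgebraicGeometry TopologicalSpace Opposite
open MonoidalCategory CartesianMonoidalCategory MonObj GrpObj

namespace Groth.Agent.Lib.Helper4.AutFam1

variable (k : Type u) [Field k] [IsAlgClosed k]

/-- decomposition of a family of pointed-up-to-translation endomorphisms of an abelian variety -/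
theorem decomp (A S : Over (Spec (CommRingCat.of k))) [GrpObj A] [IsProper A.hom] [Smooth A.hom]
    [ConnectedSpace ↥A.left] [LocallyOfFiniteType S.hom] [QuasiCompact S.hom]
    [ConnectedSpace ↥S.left] (s₀ : 𝟙_ (Over (Spec (CommRingCat.of k))) ⟶ S)
    (φ : A ⊗ S ⟶ A) :
    ∃ (g : S ⟶ A) (h : A ⟶ A), IsMonHom h ∧ φ = (snd A S ≫ g) * (fst A S ≫ h) := by
  haveI : LocallyOfFiniteType A.hom := inferInstance
  haveI : GeometricallyIntegral A.hom :=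
    Groth.Agent.Lib.Helper4.GrpGeomInt1.geometricallyIntegral_of_smooth_connected A
  haveI : IrreducibleSpace A.left :=
    Groth.Agent.Lib.Helper4.GrpGeomInt1.irreducibleSpace_of_connected_lft A
  haveI : IsReduced A.left :=
    Groth.Agent.Helper7.SmoothBC.isReduced_of_smooth_over_field k A.hom
  haveI : AlgebraicGeometry.IsIntegral A.left := isIntegral_of_irreducibleSpace_of_isReduced _
  have hX := Groth.Agent.Lib.Helper4.ProdAct1.antiAffine_of_proper_integral k A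
  obtain ⟨e₀, he₀⟩ : ∃ e : S ⟶ A ⊗ S, e = lift (toUnit S ≫ η[A]) (𝟙 S) := ⟨_, rfl⟩
  obtain ⟨i₀, hi₀⟩ : ∃ i : A ⟶ A ⊗ S, i = lift (𝟙 A) (toUnit A ≫ s₀) := ⟨_, rfl⟩
  obtain ⟨g, hg⟩ : ∃ g : S ⟶ A, g = e₀ ≫ φ := ⟨_, rfl⟩
  obtain ⟨ψ, hψ⟩ : ∃ ψ : A ⊗ S ⟶ A, ψ = (snd A S ≫ g)⁻¹ * φ := ⟨_, rfl⟩
  obtain ⟨h, hh⟩ : ∃ h : A ⟶ A, h = i₀ ≫ ψ := ⟨_, rfl⟩
  obtain ⟨D, hD⟩ : ∃ D : A ⊗ S ⟶ A, D = ψ * (fst A S ≫ h)⁻¹ := ⟨_, rfl⟩
  have e_fst : e₀ ≫ fst A S = toUnit S ≫ η[A] := by rw [he₀, lift_fst]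
  have e_snd : e₀ ≫ snd A S = 𝟙 S := by rw [he₀, lift_snd]
  have i_fst : i₀ ≫ fst A S = 𝟙 A := by rw [hi₀, lift_fst]
  have i_snd : i₀ ≫ snd A S = toUnit A ≫ s₀ := by rw [hi₀, lift_snd]
  have eψ : e₀ ≫ ψ = 1 := by
    rw [hψ, MonObj.comp_mul, GrpObj.comp_inv, ← Category.assoc, e_snd, Category.id_comp, ← hg]
    exact inv_mul_cancel g
  have se : s₀ ≫ e₀ = η[A] ≫ i₀ := by
    rw [he₀, hi₀]; apply CartesianMonoidalCategory.hom_ext
    · simp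
    · simp
  have ηone : (1 : 𝟙_ (Over (Spec (CommRingCat.of k))) ⟶ A) = η[A] := (MonObj.one_eq_one A).symm
  have ηh : η[A] ≫ h = η[A] := by
    rw [hh, ← Category.assoc, ← se, Category.assoc, eψ, MonObj.comp_one, ηone]
  have iD : i₀ ≫ D = toUnit A ≫ η[A] := by
    rw [hD, MonObj.comp_mul, GrpObj.comp_inv, ← Category.assoc i₀, i_fst, Category.id_comp, ← hh]
    exact mul_inv_cancel h
  have key := Groth.Agent.Lib.Helper4.AntiAffRigid3.rigidity_antiAffine A S A hX D η[A] s₀ η[A]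
    (by rw [← hi₀]; exact iD)
  rw [← he₀] at key
  have eD : e₀ ≫ D = 1 := by
    rw [hD, MonObj.comp_mul, GrpObj.comp_inv, eψ, ← Category.assoc, e_fst, Category.assoc, ηh]
    have : (toUnit S ≫ η[A] : S ⟶ A) = 1 := rfl
    rw [this]; simp
  have hD1 : D = 1 := by rw [key, eD, MonObj.comp_one]
  have hψ2 : ψ = fst A S ≫ h := by
    have : ψ * (fst A S ≫ h)⁻¹ = 1 := by rw [← hD, hD1]
    exact mul_inv_eq_one.mp this
  refine ⟨g, h, ?_, ?_⟩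
  · exact Groth.Agent.Lib.Helper4.AlbFormal1.isMonHom_of_pointed' A A h ηh
  · rw [← hψ2, hψ]; simp

theorem comp_eq_id (A S : Over (Spec (CommRingCat.of k))) [GrpObj A]
    (s₀ : 𝟙_ (Over (Spec (CommRingCat.of k))) ⟶ S)
    (F F' : A ⊗ S ⟶ A ⊗ S) (hF : F ≫ snd A S = snd A S)
    (hFF' : F ≫ F' = 𝟙 _) (g : S ⟶ A) (h : A ⟶ A) (g' : S ⟶ A) (h' : A ⟶ A)
    [IsMonHom h] [IsMonHom h']
    (hφ : F ≫ fst A S = (snd A S ≫ g) * (fst A S ≫ h))
    (hφ' : F' ≫ fst A S = (snd A S ≫ g') * (fst A S ≫ h')) : h ≫ h' = 𝟙 A := by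
  obtain ⟨i₀, hi₀⟩ : ∃ i : A ⟶ A ⊗ S, i = lift (𝟙 A) (toUnit A ≫ s₀) := ⟨_, rfl⟩
  have i_fst : i₀ ≫ fst A S = 𝟙 A := by rw [hi₀, lift_fst]
  have i_snd : i₀ ≫ snd A S = toUnit A ≫ s₀ := by rw [hi₀, lift_snd]
  have h1 : fst A S = (snd A S ≫ g') * ((snd A S ≫ g ≫ h') * (fst A S ≫ h ≫ h')) := by
    calc fst A S = (F ≫ F') ≫ fst A S := by rw [hFF', Category.id_comp]
      _ = F ≫ ((snd A S ≫ g') * (fst A S ≫ h')) := by rw [Category.assoc, hφ']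
      _ = ((F ≫ snd A S) ≫ g') * ((F ≫ fst A S) ≫ h') := by
          rw [MonObj.comp_mul, Category.assoc, Category.assoc]
      _ = _ := by
          rw [hF, hφ, MonObj.mul_comp, Category.assoc, Category.assoc]
  obtain ⟨c₀, hc₀⟩ : ∃ c : 𝟙_ (Over (Spec (CommRingCat.of k))) ⟶ A,
      c = (s₀ ≫ g') * (s₀ ≫ g ≫ h') := ⟨_, rfl⟩
  have h2 : 𝟙 A = (toUnit A ≫ c₀) * (h ≫ h') := by
    have : i₀ ≫ fst A S = i₀ ≫ ((snd A S ≫ g') * ((snd A S ≫ g ≫ h') * (fst A S ≫ h ≫ h'))) := by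
      rw [← h1]
    rw [i_fst, MonObj.comp_mul, MonObj.comp_mul, ← Category.assoc i₀, ← Category.assoc i₀,
      ← Category.assoc i₀, i_fst, i_snd, Category.id_comp, Category.assoc, Category.assoc,
      ← _root_.mul_assoc, ← MonObj.comp_mul, ← hc₀] at this
    exact this
  have ηone : (1 : 𝟙_ (Over (Spec (CommRingCat.of k))) ⟶ A) = η[A] := (MonObj.one_eq_one A).symm
  have h3 : c₀ = 1 := by
    have : η[A] ≫ 𝟙 A = η[A] ≫ ((toUnit A ≫ c₀) * (h ≫ h')) := by rw [← h2]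
    rw [Category.comp_id, MonObj.comp_mul, ← Category.assoc η[A] h, IsMonHom.one_hom h,
      IsMonHom.one_hom h', ← Category.assoc, toUnit_unique (η[A] ≫ toUnit A) (𝟙 _),
      Category.id_comp, ← ηone, _root_.mul_one] at this
    exact this.symm
  rw [h3, MonObj.comp_one, _root_.one_mul] at h2
  exact h2.symm

theorem main_S11404
    (A S : Over (Spec (CommRingCat.of k))) [GrpObj A] [IsProper A.hom] [Smooth A.hom] [ConnectedSpace ↥A.left]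
    [LocallyOfFiniteType S.hom] [QuasiCompact S.hom] [ConnectedSpace ↥S.left]
    (f : A ⊗ S ≅ A ⊗ S) (hf : f.hom ≫ snd A S = snd A S) :
    ∃ (g : S ⟶ A) (h : A ⟶ A), IsMonHom h ∧ IsIso h ∧
      f.hom ≫ fst A S = (snd A S ≫ g) * (fst A S ≫ h) ∧
      ∀ (g' : S ⟶ A) (h' : A ⟶ A), IsMonHom h' →
        f.hom ≫ fst A S = (snd A S ≫ g') * (fst A S ≫ h') → g' = g ∧ h' = h := by
  obtain ⟨s₀⟩ := Groth.Agent.Lib.Helper4.ProdAct1.exists_point k S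
  obtain ⟨g, h, hh, hφ⟩ := decomp k A S s₀ (f.hom ≫ fst A S)
  have hf' : f.inv ≫ snd A S = snd A S := by rw [Iso.inv_comp_eq, hf]
  obtain ⟨g', h', hh', hφ'⟩ := decomp k A S s₀ (f.inv ≫ fst A S)
  have c1 : h ≫ h' = 𝟙 A := comp_eq_id k A S s₀ f.hom f.inv hf f.hom_inv_id g h g' h' hφ hφ'
  have c2 : h' ≫ h = 𝟙 A := comp_eq_id k A S s₀ f.inv f.hom hf' f.inv_hom_id g' h' g h hφ' hφ
  refine ⟨g, h, hh, ⟨⟨h', c1, c2⟩⟩, hφ, ?_⟩
  intro g₂ h₂ hh₂ hφ₂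
  obtain ⟨e₀, he₀⟩ : ∃ e : S ⟶ A ⊗ S, e = lift (toUnit S ≫ η[A]) (𝟙 S) := ⟨_, rfl⟩
  obtain ⟨i₀, hi₀⟩ : ∃ i : A ⟶ A ⊗ S, i = lift (𝟙 A) (toUnit A ≫ s₀) := ⟨_, rfl⟩
  have e_fst : e₀ ≫ fst A S = toUnit S ≫ η[A] := by rw [he₀, lift_fst]
  have e_snd : e₀ ≫ snd A S = 𝟙 S := by rw [he₀, lift_snd]
  have i_fst : i₀ ≫ fst A S = 𝟙 A := by rw [hi₀, lift_fst]
  have hpt : ∀ (g₃ : S ⟶ A) (h₃ : A ⟶ A), IsMonHom h₃ →
      e₀ ≫ ((snd A S ≫ g₃) * (fst A S ≫ h₃)) = g₃ := by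
    intro g₃ h₃ _
    rw [MonObj.comp_mul, ← Category.assoc, e_snd, Category.id_comp, ← Category.assoc, e_fst,
      Category.assoc, IsMonHom.one_hom h₃]
    exact _root_.mul_one g₃
  have hg2 : g₂ = g := by
    rw [← hpt g₂ h₂ hh₂, ← hφ₂, hφ, hpt g h hh]
  refine ⟨hg2, ?_⟩
  rw [hφ, hg2] at hφ₂
  have h5 : fst A S ≫ h = fst A S ≫ h₂ := mul_left_cancel hφ₂
  have : i₀ ≫ fst A S ≫ h = i₀ ≫ fst A S ≫ h₂ := by rw [h5]
  rw [← Category.assoc, ← Category.assoc, i_fst, Category.id_comp, Category.id_comp] at this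
  exact this.symm

end Groth.Agent.Lib.Helper4.AutFam1
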