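import Mathlib
import Groth.Prelude.Def_ega3
import Groth.Prelude.Def_Pic
import Groth.Prelude.Def_CohBC2
import Groth.Agent.Lib.Helper4.Seesaw2
import Groth.Agent.Lib.Helper1.VT31
import Groth.Agent.Lib.Helper1.PushQc
import Groth.Agent.Lib.Helper1.QcPullGen
import Groth.Agent.Lib.Helper1.AffPushEpi

/-!
# The degree-zero base change map on pulled back sections; an epimorphic base change map to a fibre lifts sections up to a unit (helper4)
-/

set_option backward.isDefEq.respectTransparency.types false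
set_option synthInstance.maxHeartbeats 400000
set_option autoImplicit false
set_option linter.unusedSectionVars false
set_option linter.style.haveILetI false
set_option linter.unusedSimpArgs false
universe u v w
open CategoryTheory
open CategoryTheory.Limits
open AlgebraicGeometry
open TopologicalSpace
open Opposite
open Groth.Agent.Helper1
open Groth.Agent.Helper1.QcCech
open Groth.Agent.Helper1.LGen
open Groth.Agent.Helper1.PullSec
open Groth.Agent.Helper1.PullGen
open Groth.Agent.Helper1.TwForm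
open Groth.Agent.Helper1.InvInv
open Groth.Agent.Lib.Helper4.FibGen1
open Groth.Agent.Lib.Helper4.FibFunc1
open Groth.Agent.Lib.Helper4.HModDelta1
open Groth.Agent.Lib.Helper4.SeesawLift1
open Groth.Agent.Lib.Helper4.SeesawLift2
open Groth.Agent.Lib.Helper4.Seesaw1
open Groth.Agent.Lib.Helper4.Seesaw2

namespace Groth.Agent.Lib.Helper4.BC0Lift1

section Unwind
variable {X S X' S' : Scheme.{u}}
variable (f : X ⟶ S) (g : S' ⟶ S) (f' : X' ⟶ S') (g' : X' ⟶ X) (w : g' ≫ f = f' ≫ g) (F : X.Modules)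

/-- the counit sends the pullback of a section of a direct image to the section -/
theorem counit_app_σ' (N : S'.Modules) (U : S.Opens) (b : Γ(N, g ⁻¹ᵁ U)) :
    ((Scheme.Modules.pullbackPushforwardAdjunction g).counit.app N).app (g ⁻¹ᵁ U)
      (σ g ((Scheme.Modules.pushforward g).obj N) U
        (show Γ((Scheme.Modules.pushforward g).obj N, U) from b)) = b := by
  have h := (Scheme.Modules.pullbackPushforwardAdjunction g).right_triangle_components N
  have h2 := congrArg (fun ψ => Scheme.Modules.Hom.app ψ U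
    (show Γ((Scheme.Modules.pushforward g).obj N, U) from b)) h
  exact h2

include w in
theorem preimage_eq (U : S.Opens) : g' ⁻¹ᵁ (f ⁻¹ᵁ U) = f' ⁻¹ᵁ (g ⁻¹ᵁ U) := by
  have h1 : g' ⁻¹ᵁ (f ⁻¹ᵁ U) = (g' ≫ f) ⁻¹ᵁ U := rfl
  have h2 : f' ⁻¹ᵁ (g ⁻¹ᵁ U) = (f' ≫ g) ⁻¹ᵁ U := rfl
  rw [h1, h2, w]

/-- the adjoint form of the base change map on sections -/
theorem bc0Adj_app (U : S.Opens) (a : Γ(F, f ⁻¹ᵁ U)) :
    (CohBC.bc0Adj f g f' g' w F).app U (show Γ((Scheme.Modules.pushforward f).obj F, U) from a) =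
      (show Γ((Scheme.Modules.pushforward g).obj ((Scheme.Modules.pushforward f').obj
        ((Scheme.Modules.pullback g').obj F)), U) from
        res ((Scheme.Modules.pullback g').obj F) (le_of_eq (preimage_eq f g f' g' w U).symm)
          (σ g' F (f ⁻¹ᵁ U) a)) := by
  rfl

/-- **the base change map on pulled back sections** -/
theorem bc0_app_σ (U : S.Opens) (a : Γ(F, f ⁻¹ᵁ U)) :
    (CohBC.bc0 f g f' g' w F).app (g ⁻¹ᵁ U)
      (σ g ((Scheme.Modules.pushforward f).obj F) U
        (show Γ((Scheme.Modules.pushforward f).obj F, U) from a)) =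
      (show Γ((Scheme.Modules.pushforward f').obj ((Scheme.Modules.pullback g').obj F), g ⁻¹ᵁ U) from
        res ((Scheme.Modules.pullback g').obj F) (le_of_eq (preimage_eq f g f' g' w U).symm)
          (σ g' F (f ⁻¹ᵁ U) a)) := by
  have h1 : CohBC.bc0 f g f' g' w F =
      (Scheme.Modules.pullback g).map (CohBC.bc0Adj f g f' g' w F) ≫
        (Scheme.Modules.pullbackPushforwardAdjunction g).counit.app _ :=
    Adjunction.homEquiv_counit _ _ _ _
  rw [h1]
  change ((Scheme.Modules.pullbackPushforwardAdjunction g).counit.app _).app (g ⁻¹ᵁ U)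
    (((Scheme.Modules.pullback g).map (CohBC.bc0Adj f g f' g' w F)).app (g ⁻¹ᵁ U) _) = _
  rw [σ_natural, bc0Adj_app]
  exact counit_app_σ' g _ U _

end Unwind


section Frac
variable {S : Scheme.{u}} {V : S.Opens} (hV : IsAffineOpen V) (s : S) (hs : s ∈ V)

include hV in
/-- sections over an affine neighbourhood give all of the residue field, as fractions -/
theorem evaluation_frac (c : S.residueField s) :
    ∃ c₁ c₂ : Γ(S, V), (S.evaluation V s hs).hom c₂ ≠ 0 ∧
      c * (S.evaluation V s hs).hom c₂ = (S.evaluation V s hs).hom c₁ := by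
  obtain ⟨z, rfl⟩ := S.residue_surjective s c
  letI := S.presheaf.algebra_section_stalk (⟨s, hs⟩ : V)
  haveI := hV.isLocalization_stalk ⟨s, hs⟩
  obtain ⟨⟨c₁, c₂⟩, h⟩ := IsLocalization.surj (hV.primeIdealOf ⟨s, hs⟩).asIdeal.primeCompl z
  have hu : IsUnit (algebraMap Γ(S, V) (S.presheaf.stalk s) c₂) :=
    IsLocalization.map_units (S.presheaf.stalk s) c₂
  refine ⟨c₁, c₂, ?_, ?_⟩
  · have h1 : IsUnit ((S.residue s).hom (algebraMap Γ(S, V) (S.presheaf.stalk s) c₂)) :=
      hu.map _
    exact h1.ne_zero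
  · have h2 := congrArg (S.residue s).hom h
    rw [map_mul] at h2
    exact h2

/-- the comparison of the residue field with the sections of its spectrum over the preimage of
a neighbourhood -/
noncomputable def theta : S.residueField s ⟶
    Γ(Spec (S.residueField s), (S.fromSpecResidueField s) ⁻¹ᵁ V) :=
  (Scheme.ΓSpecIso (S.residueField s)).inv ≫
    (Spec (S.residueField s)).presheaf.map (homOfLE le_top).op

include hs in
theorem preimage_fromSpecResidueField : (S.fromSpecResidueField s) ⁻¹ᵁ V = ⊤ := by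
  apply le_antisymm le_top
  intro z _
  change S.fromSpecResidueField s z ∈ V
  rw [Scheme.fromSpecResidueField_apply]
  exact hs

end Frac


section Frac2
variable {S : Scheme.{u}} {V : S.Opens} (s : S) (hs : s ∈ V)

theorem app_fromSpecResidueField :
    (S.fromSpecResidueField s).app V = S.evaluation V s hs ≫ theta (V := V) s := by
  change (Spec.map (S.residue s) ≫ S.fromSpecStalk s).app V = _
  rw [Scheme.Hom.comp_app, Scheme.fromSpecStalk_app hs]
  unfold theta
  rw [← Scheme.germ_residue, Category.assoc, Category.assoc, Category.assoc]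
  congr 1
  rw [Scheme.Hom.naturality, ← Category.assoc, ← Category.assoc]
  have h1 : (Scheme.ΓSpecIso (S.presheaf.stalk s)).inv ≫ (Spec.map (S.residue s)).app ⊤ =
      S.residue s ≫ (Scheme.ΓSpecIso (S.residueField s)).inv :=
    (Scheme.ΓSpecIso_inv_naturality (S.residue s)).symm
  rw [h1, Category.assoc]
  rfl

end Frac2


section Frac3
variable {S : Scheme.{u}} {V : S.Opens} (hV : IsAffineOpen V) (s : S) (hs : s ∈ V)

theorem presheaf_map_bijective_of_eq {X : Scheme.{u}} {W W' : X.Opens} (e : W' = W) :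
    Function.Bijective (X.presheaf.map (homOfLE (le_of_eq e)).op).hom := by
  subst e
  have h1 : (homOfLE (le_of_eq (rfl : W' = W'))).op = 𝟙 (op W') := Subsingleton.elim _ _
  rw [h1, CategoryTheory.Functor.map_id]
  exact Function.bijective_id

include hs in
theorem theta_bijective : Function.Bijective (theta (V := V) s).hom := by
  have h1 : Function.Bijective (Scheme.ΓSpecIso (S.residueField s)).inv.hom :=
    ConcreteCategory.bijective_of_isIso _
  have h2 := presheaf_map_bijective_of_eq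
    (preimage_fromSpecResidueField (V := V) s hs)
  exact h2.comp h1

include hV hs in
/-- **the fraction property** of the sections of the spectrum of the residue field -/
theorem app_frac (c : Γ(Spec (S.residueField s), (S.fromSpecResidueField s) ⁻¹ᵁ V)) :
    ∃ c₁ c₂ : Γ(S, V), IsUnit (((S.fromSpecResidueField s).app V).hom c₂) ∧
      c * ((S.fromSpecResidueField s).app V).hom c₂ =
        ((S.fromSpecResidueField s).app V).hom c₁ := by
  obtain ⟨c', rfl⟩ := (theta_bijective (V := V) s hs).2 c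
  obtain ⟨c₁, c₂, hne, h⟩ := evaluation_frac hV s hs c'
  have happ : ∀ b : Γ(S, V), ((S.fromSpecResidueField s).app V).hom b =
      (theta (V := V) s).hom ((S.evaluation V s hs).hom b) := by
    intro b
    rw [app_fromSpecResidueField s hs]
    rfl
  refine ⟨c₁, c₂, ?_, ?_⟩
  · rw [happ]
    exact (IsUnit.mk0 _ hne).map _
  · rw [happ, happ, ← map_mul, h]

end Frac3

section Span
variable {S' S : Scheme.{u}} (g : S' ⟶ S) (G : S.Modules) [G.IsQuasicoherent]
  {V : S.Opens} (hV : IsAffineOpen V) (haff : IsAffineOpen (g ⁻¹ᵁ V))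
  (hfr : ∀ c : Γ(S', g ⁻¹ᵁ V), ∃ c₁ c₂ : Γ(S, V), IsUnit ((g.app V).hom c₂) ∧
    c * (g.app V).hom c₂ = (g.app V).hom c₁)

include hV haff hfr in
/-- under the fraction property, every section of the pullback over the preimage of an affine
open is, up to a unit coming from the base, the pullback of a section -/
theorem exists_σ_eq_smul (e : Γ((Scheme.Modules.pullback g).obj G, g ⁻¹ᵁ V)) :
    ∃ (a : Γ(G, V)) (b : Γ(S, V)), IsUnit ((g.app V).hom b) ∧
      σ g G V a = (g.app V).hom b • e := by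
  have hmem := Groth.Agent.Helper1.VT.mem_span_σ g G hV (g ⁻¹ᵁ V) le_rfl haff e
  induction hmem using Submodule.span_induction with
  | mem x hx =>
    obtain ⟨_, ⟨a, rfl⟩, rfl⟩ := hx
    refine ⟨a, 1, ?_, ?_⟩
    · rw [map_one]; exact isUnit_one
    · rw [map_one, one_smul]
      exact (res_self _ _ _).symm
  | zero =>
    refine ⟨0, 1, ?_, ?_⟩
    · rw [map_one]; exact isUnit_one
    · rw [σ_zero, smul_zero]
  | add x y _ _ hx hy =>
    obtain ⟨a₁, b₁, hb₁, h₁⟩ := hx
    obtain ⟨a₂, b₂, hb₂, h₂⟩ := hy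
    refine ⟨b₂ • a₁ + b₁ • a₂, b₁ * b₂, ?_, ?_⟩
    · rw [map_mul]; exact hb₁.mul hb₂
    · rw [σ_add, σ_smul, σ_smul, h₁, h₂, map_mul, smul_add, smul_smul, smul_smul,
        mul_comm ((g.app V).hom b₂)]
  | smul c x _ hx =>
    obtain ⟨a, b, hb, h⟩ := hx
    obtain ⟨c₁, c₂, hc₂, hc⟩ := hfr c
    refine ⟨c₁ • a, b * c₂, ?_, ?_⟩
    · rw [map_mul]; exact hb.mul hc₂
    · rw [σ_smul, h, map_mul, smul_smul, smul_smul, ← hc]
      congr 1
      ring

end Span


section EpiLift
variable {X S X' S' : Scheme.{u}}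
variable (f : X ⟶ S) (g : S' ⟶ S) (f' : X' ⟶ S') (g' : X' ⟶ X) (w : g' ≫ f = f' ≫ g) (F : X.Modules)

/-- **an epimorphic base change map lifts sections up to a unit from the base** -/
theorem exists_lift_of_epi_bc0 [QuasiCompact f] [QuasiSeparated f] [QuasiCompact f']
    [QuasiSeparated f'] [F.IsQuasicoherent] [Epi (CohBC.bc0 f g f' g' w F)]
    {V : S.Opens} (hV : IsAffineOpen V) (haff : IsAffineOpen (g ⁻¹ᵁ V))
    (hfr : ∀ c : Γ(S', g ⁻¹ᵁ V), ∃ c₁ c₂ : Γ(S, V), IsUnit ((g.app V).hom c₂) ∧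
      c * (g.app V).hom c₂ = (g.app V).hom c₁)
    (t : Γ((Scheme.Modules.pullback g').obj F, f' ⁻¹ᵁ (g ⁻¹ᵁ V))) :
    ∃ (a : Γ(F, f ⁻¹ᵁ V)) (b : Γ(S, V)), IsUnit ((g.app V).hom b) ∧
      res ((Scheme.Modules.pullback g').obj F) (le_of_eq (preimage_eq f g f' g' w V).symm)
        (σ g' F (f ⁻¹ᵁ V) a) = (f'.app (g ⁻¹ᵁ V)).hom ((g.app V).hom b) • t := by
  haveI h1 : ((Scheme.Modules.pushforward f).obj F).IsQuasicoherent :=
    Groth.Agent.Helper1.PushQc.isQuasicoherent_pushforward f F
  haveI h2 : ((Scheme.Modules.pullback g).obj ((Scheme.Modules.pushforward f).obj F)).IsQuasicoherent :=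
    Groth.Agent.Helper1.QcPullGen.isQuasicoherent_pullback g _
  haveI h3 : ((Scheme.Modules.pullback g').obj F).IsQuasicoherent :=
    Groth.Agent.Helper1.QcPullGen.isQuasicoherent_pullback g' _
  haveI h4 : ((Scheme.Modules.pushforward f').obj ((Scheme.Modules.pullback g').obj F)).IsQuasicoherent :=
    Groth.Agent.Helper1.PushQc.isQuasicoherent_pushforward f' _
  obtain ⟨e, he⟩ := Groth.Agent.Helper1.AffPushEpi.app_surjective_of_epi
    (CohBC.bc0 f g f' g' w F) (g ⁻¹ᵁ V) haff
    (show Γ((Scheme.Modules.pushforward f').obj ((Scheme.Modules.pullback g').obj F), g ⁻¹ᵁ V) from t)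
  obtain ⟨a, b, hb, hab⟩ := exists_σ_eq_smul g ((Scheme.Modules.pushforward f).obj F) hV haff hfr e
  refine ⟨a, b, hb, ?_⟩
  have h5 := congrArg ((CohBC.bc0 f g f' g' w F).app (g ⁻¹ᵁ V)) hab
  rw [Scheme.Modules.Hom.app_smul, he] at h5
  exact (bc0_app_σ f g f' g' w F V a).symm.trans h5

end EpiLift


section FibreLift
variable {X S : Scheme.{u}} (f : X ⟶ S) [QuasiCompact f] [QuasiSeparated f]
  (F : X.Modules) [F.IsQuasicoherent]

/-- **lifting sections from a fibre when the base change map to the fibre is an epimorphism** -/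
theorem exists_lift_fibre_section_of_epi (s : S)
    (hepi : Epi (CohBC.bc0 f (S.fromSpecResidueField s) (f.fiberToSpecResidueField s)
      (f.fiberι s) (f.fiber_fac s) F))
    (t : Γ(CohIII.fiberMod f F s, ⊤)) :
    ∃ (V : S.Opens) (_ : s ∈ V) (a : Γ(F, f ⁻¹ᵁ V)) (u : Γ(f.fiber s, ⊤))
      (hle : (⊤ : (f.fiber s).Opens) ≤ (f.fiberι s) ⁻¹ᵁ (f ⁻¹ᵁ V)), IsUnit u ∧
      res (CohIII.fiberMod f F s) hle (σ (f.fiberι s) F (f ⁻¹ᵁ V) a) = u • t := by
  obtain ⟨_, ⟨(V : S.Opens), hV, rfl⟩, hsV, -⟩ := S.isBasis_affineOpens.exists_subset_of_mem_open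
    (Set.mem_univ s) isOpen_univ
  have hT : (S.fromSpecResidueField s) ⁻¹ᵁ V = ⊤ := preimage_fromSpecResidueField s hsV
  have haff : IsAffineOpen ((S.fromSpecResidueField s) ⁻¹ᵁ V) := by
    rw [hT]
    exact isAffineOpen_top _
  haveI : QuasiCompact (f.fiberToSpecResidueField s) :=
    inferInstanceAs (QuasiCompact (pullback.snd f (S.fromSpecResidueField s)))
  haveI : QuasiSeparated (f.fiberToSpecResidueField s) :=
    inferInstanceAs (QuasiSeparated (pullback.snd f (S.fromSpecResidueField s)))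
  haveI := hepi
  have hT' : (f.fiberToSpecResidueField s) ⁻¹ᵁ ((S.fromSpecResidueField s) ⁻¹ᵁ V) = ⊤ := by
    rw [hT]; rfl
  let t₁ : Γ((Scheme.Modules.pullback (f.fiberι s)).obj F,
      (f.fiberToSpecResidueField s) ⁻¹ᵁ ((S.fromSpecResidueField s) ⁻¹ᵁ V)) :=
    res (CohIII.fiberMod f F s) le_top t
  obtain ⟨a, b, hb, hab⟩ := exists_lift_of_epi_bc0 f (S.fromSpecResidueField s)
    (f.fiberToSpecResidueField s) (f.fiberι s) (f.fiber_fac s) F hV haff (app_frac hV s hsV) t₁
  have hpe := preimage_eq f (S.fromSpecResidueField s) (f.fiberToSpecResidueField s)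
    (f.fiberι s) (f.fiber_fac s) V
  have hle : (⊤ : (f.fiber s).Opens) ≤ (f.fiberι s) ⁻¹ᵁ (f ⁻¹ᵁ V) := by
    rw [hpe, hT']
  let u₀ : Γ(f.fiber s, (f.fiberToSpecResidueField s) ⁻¹ᵁ ((S.fromSpecResidueField s) ⁻¹ᵁ V)) :=
    ((f.fiberToSpecResidueField s).app ((S.fromSpecResidueField s) ⁻¹ᵁ V)).hom
      (((S.fromSpecResidueField s).app V).hom b)
  have hu₀ : IsUnit u₀ := (hb.map _)
  refine ⟨V, hsV, a, resR (le_of_eq hT'.symm) u₀, hle, hu₀.map _, ?_⟩
  apply res_injective_of_eq (CohIII.fiberMod f F s) hT'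
  rw [res_res, QcCech.res_smul, resR_resR]
  refine hab.trans ?_
  congr 1
  change u₀ = ((f.fiber s).presheaf.map (homOfLE _).op).hom u₀
  rw [Subsingleton.elim (homOfLE _).op (𝟙 _), CategoryTheory.Functor.map_id]
  rfl

end FibreLift

end Groth.Agent.Lib.Helper4.BC0Lift1
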