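import Mathlib
import Groth.Prelude.Def_ega3
import Groth.Prelude.Def_Pic
import Groth.Prelude.Def_CohBC2
import Groth.Agent.Lib.Helper4.BC0Lift1
import Groth.Agent.Lib.Helper4.RigidProper2
import Groth.Agent.Lib.Helper4.UnivBC2
import Groth.Agent.Lib.Helper1.CoprodMod
import Groth.Agent.Lib.Helper4.UnitFLF1
import Groth.Agent.Lib.Lead.TrivLocus
import Groth.Agent.Lib.Lead.PicCalc

/-!
# Seesaw via epimorphic base change maps to the fibres: a line bundle on a proper flat family with geometrically integral fibres is pulled back from the base iff it and its inverse have fibrewise sections and epimorphic degree-zero base change (helper4)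
-/

set_option backward.isDefEq.respectTransparency.types false
set_option synthInstance.maxHeartbeats 400000
set_option autoImplicit false
set_option linter.unusedSectionVars false
set_option linter.style.haveILetI false
set_option linter.unusedSimpArgs false
universe u v w
open CategoryTheory
open CategoryTheory.Limits
open AlgebraicGeometry
open TopologicalSpace
open Opposite
open Groth.Agent.Helper1
open Groth.Agent.Helper1.QcCech
open Groth.Agent.Helper1.LGen
open Groth.Agent.Helper1.PullSec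
open Groth.Agent.Helper1.PullGen
open Groth.Agent.Helper1.TwForm
open Groth.Agent.Helper1.InvInv
open Groth.Agent.Lib.Helper4.FibGen1
open Groth.Agent.Lib.Helper4.FibFunc1
open Groth.Agent.Lib.Helper4.HModDelta1
open Groth.Agent.Lib.Helper4.SeesawLift1
open Groth.Agent.Lib.Helper4.SeesawLift2
open Groth.Agent.Lib.Helper4.Seesaw1
open Groth.Agent.Lib.Helper4.Seesaw2
open Groth.Agent.Lib.Helper4.BC0Lift1
open Groth.Agent.Lead.PicCalc

namespace Groth.Agent.Lib.Helper4.BC0Seesaw1

section Main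
variable {X S : Scheme.{u}} (f : X ⟶ S) [IsProper f] [Flat f] [IsLocallyNoetherian S]

/-- near a fibre on which `L` is trivial, with `h^0(O) = 1` and an epimorphic base change map,
`L` has a free generator over the preimage of a neighbourhood, and functions descend there -/
theorem exists_isGen_near_fibre_of_epi (L : X.Modules) (hL : PicF.IsInvertible L) (y : S)
    (h0 : Module.finrank (S.residueField y) Γ(f.fiber y, ⊤) = 1)
    (τ : CohIII.fiberMod f L y ≅ Coh.structureModule (f.fiber y))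
    (hepi : Epi (CohBC.bc0 f (S.fromSpecResidueField y) (f.fiberToSpecResidueField y)
      (f.fiberι y) (f.fiber_fac y) L)) :
    ∃ (U : S.Opens) (s : Γ(L, f ⁻¹ᵁ U)), y ∈ U ∧ IsGen L (f ⁻¹ᵁ U) s ∧
      ∀ V : S.Opens, V ≤ U → Function.Bijective (f.app V) := by
  have hLcoh : Coh.IsCoh L := InvQc.isCoh_of_isInvertible L hL
  haveI : L.IsQuasicoherent := hLcoh.1
  let t : Γ(CohIII.fiberMod f L y, ⊤) := τ.inv.app ⊤ (TwForm.one' ⊤)
  have ht : IsGen (CohIII.fiberMod f L y) ⊤ t :=
    PullGen.isGen_of_iso_app τ.symm (AmpleLib.isGen_one' ⊤)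
  obtain ⟨V, hyV, s, c, hle, hc, hs⟩ := exists_lift_fibre_section_of_epi f L y hepi t
  obtain ⟨U, hU, hyU, hgen⟩ := exists_isGen_preimage f hL y V hyV s t ht c hc hle hs
  obtain ⟨U₁, hyU₁, hU₁⟩ := s2393 f y (bijective_algebraMap_of_finrank f y h0)
  refine ⟨U ⊓ U₁, res L (f.preimage_mono inf_le_left) (res L hU s), ⟨hyU, hyU₁⟩,
    hgen.res _, ?_⟩
  intro V' hV'
  have := hU₁ V' (hV'.trans inf_le_right)
  exact (ConcreteCategory.isIso_iff_bijective _).1 this

end Main


section Converse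
variable {X S : Scheme.{u}} (f : X ⟶ S) [QuasiCompact f] [QuasiSeparated f]
  (F : X.Modules) [F.IsQuasicoherent]

/-- if `F` has a free generator over the preimage of a neighbourhood of `s` and the functions on
the fibre come from the residue field, the base change map to the fibre is an epimorphism -/
theorem epi_bc0_of_isGen (s : S) {V : S.Opens} (hs : s ∈ V) (a : Γ(F, f ⁻¹ᵁ V))
    (ha : IsGen F (f ⁻¹ᵁ V) a)
    (hsurj : Function.Surjective (f.fiberToSpecResidueField s).appTop.hom) :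
    Epi (CohBC.bc0 f (S.fromSpecResidueField s) (f.fiberToSpecResidueField s) (f.fiberι s)
      (f.fiber_fac s) F) := by
  apply Groth.Agent.Helper1.AffPushEpi.epi_of_surjective_on_affine
  intro U _
  haveI : Subsingleton ↥(Spec (S.residueField s)) :=
    inferInstanceAs (Subsingleton (PrimeSpectrum (S.residueField s)))
  by_cases hne : (U : Set ↥(Spec (S.residueField s))).Nonempty
  · have hU' : U = ⊤ := by
      apply le_antisymm le_top
      intro z _
      obtain ⟨z', hz'⟩ := hne
      rw [Subsingleton.elim z z']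
      exact hz'
    subst hU'
    intro t
    have hgen := isGen_σ (f.fiberι s) ha
    have hT : (S.fromSpecResidueField s) ⁻¹ᵁ V = ⊤ := preimage_fromSpecResidueField s hs
    have hpe := preimage_eq f (S.fromSpecResidueField s) (f.fiberToSpecResidueField s)
      (f.fiberι s) (f.fiber_fac s) V
    have hle : (⊤ : (f.fiber s).Opens) ≤ (f.fiberι s) ⁻¹ᵁ (f ⁻¹ᵁ V) := by
      rw [hpe, hT]; rfl
    obtain ⟨r, hr⟩ := (hgen ⊤ hle).2 t
    obtain ⟨r₀, rfl⟩ := hsurj r
    refine ⟨r₀ • res _ (le_of_eq hT.symm) (σ (S.fromSpecResidueField s)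
      ((Scheme.Modules.pushforward f).obj F) V
        (show Γ((Scheme.Modules.pushforward f).obj F, V) from a)), ?_⟩
    rw [Scheme.Modules.Hom.app_smul, QcExt.app_res, bc0_app_σ]
    refine Eq.trans ?_ hr
    exact congrArg (fun z : Γ((Scheme.Modules.pullback (f.fiberι s)).obj F, ⊤) =>
      (f.fiberToSpecResidueField s).appTop.hom r₀ • z)
      (res_res ((Scheme.Modules.pullback (f.fiberι s)).obj F) _ _ _)
  · have hU' : U = ⊥ := by
      apply le_antisymm _ bot_le
      intro z hz
      exact (hne ⟨z, hz⟩).elim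
    intro t
    haveI : Subsingleton Γ((Scheme.Modules.pushforward (f.fiberToSpecResidueField s)).obj
        ((Scheme.Modules.pullback (f.fiberι s)).obj F), U) := by
      have h1 : (f.fiberToSpecResidueField s) ⁻¹ᵁ U = ⊥ := by rw [hU']; rfl
      exact Groth.Agent.Helper1.CoprodMod.subsingleton_of_eq_bot
        ((Scheme.Modules.pullback (f.fiberι s)).obj F) h1
    exact ⟨0, Subsingleton.elim _ _⟩

end Converse

section Hall
variable {X S : Scheme.{u}} (f : X ⟶ S)

theorem isIso_app_of_hall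
    (hall : ∀ (T : Scheme.{u}) (g : T ⟶ S) (U : T.Opens), IsIso ((pullback.snd f g).app U))
    (U : S.Opens) : IsIso (f.app U) := by
  have h1 : pullback.fst f (𝟙 S) ≫ f = pullback.snd f (𝟙 S) := by
    rw [pullback.condition, Category.comp_id]
  have h2 := Scheme.Hom.congr_app h1 U
  rw [Scheme.Hom.comp_app] at h2
  haveI := hall S (𝟙 S) U
  have h3 : IsIso (f.app U ≫ (pullback.fst f (𝟙 S)).app (f ⁻¹ᵁ U)) := by
    rw [h2]
    exact @IsIso.comp_isIso _ _ _ _ _ _ _ this (Functor.map_isIso _ _)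
  exact IsIso.of_isIso_comp_right (f.app U) ((pullback.fst f (𝟙 S)).app (f ⁻¹ᵁ U))

end Hall


section Thm

theorem isInvertible_of_iso' {X : Scheme.{u}} {L L' : X.Modules} (e : L ≅ L')
    (h : PicF.IsInvertible L) : PicF.IsInvertible L' := by
  intro y
  obtain ⟨U, hyU, ⟨e'⟩⟩ := h y
  exact ⟨U, hyU, ⟨(Scheme.Modules.restrictFunctor U.ι).mapIso e.symm ≪≫ e'⟩⟩

theorem main16951 {X S : Scheme.{u}} (f : X ⟶ S) [IsProper f] [Flat f] [IsLocallyNoetherian X]
    [IsLocallyNoetherian S] [GeometricallyIntegral f] (L M : X.Modules) (hL : PicF.IsInvertible L)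
    (hM : Nonempty (CohB1.tensorMod L M ≅ Coh.structureModule X)) :
    ((∃ L₀ : S.Modules, PicF.IsInvertible L₀ ∧ Nonempty (L ≅ (Scheme.Modules.pullback f).obj L₀)) ↔
      ((∀ s : S, Nontrivial (CohIII.fiberH f L s 0)) ∧ (∀ s : S, Nontrivial (CohIII.fiberH f M s 0)) ∧
        (∀ s : S, Epi (CohBC.bc0 f (S.fromSpecResidueField s) (f.fiberToSpecResidueField s) (f.fiberι s) (f.fiber_fac s) L)) ∧ (∀ s : S, Epi (CohBC.bc0 f (S.fromSpecResidueField s) (f.fiberToSpecResidueField s) (f.fiberι s) (f.fiber_fac s) M)))) ∧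
    (((∀ s : S, Nontrivial (CohIII.fiberH f L s 0)) ∧ (∀ s : S, Nontrivial (CohIII.fiberH f M s 0)) ∧
        (∀ s : S, Epi (CohBC.bc0 f (S.fromSpecResidueField s) (f.fiberToSpecResidueField s) (f.fiberι s) (f.fiber_fac s) L)) ∧ (∀ s : S, Epi (CohBC.bc0 f (S.fromSpecResidueField s) (f.fiberToSpecResidueField s) (f.fiberι s) (f.fiber_fac s) M))) →
      (∀ s : S, CohIII.fiberRank f L 0 s = 1 ∧ CohIII.fiberRank f M 0 s = 1) ∧
      IsIso ((Scheme.Modules.pullbackPushforwardAdjunction f).counit.app L) ∧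
      ∀ L₀ : S.Modules, PicF.IsInvertible L₀ → Nonempty (L ≅ (Scheme.Modules.pullback f).obj L₀) →
        Nonempty (L₀ ≅ (Scheme.Modules.pushforward f).obj L)) := by
  obtain ⟨eLM⟩ := hM
  have h0 : ∀ y : S, Module.finrank (S.residueField y) Γ(f.fiber y, ⊤) = 1 := fun y =>
    (Algebra.finrank_eq_one_iff_bijective_algebraMap).2
      (Groth.Agent.Lib.Helper4.RigidProper2.bijective_algebraMap_fibre_of_geometricallyIntegral f y)
  have hint : ∀ y, IsIntegral (f.fiber y) := fun y =>
    GeometricallyIntegral.geometrically_isIntegral (f := f) (K := S.residueField y)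
      (S.fromSpecResidueField y) (f.fiberι y) (f.fiberToSpecResidueField y)
      (IsPullback.of_hasPullback f (S.fromSpecResidueField y))
  obtain ⟨K, hK, ⟨eKL⟩⟩ := InvInv2.exists_inverse hL
  have hLM1 : PicF.cl L * PicF.cl M = 1 := cl_eq_of_iso eLM
  have hclM : PicF.cl M = PicF.cl K := by
    have h2 : PicF.cl K * PicF.cl L = 1 := cl_eq_of_iso eKL
    calc PicF.cl M = (PicF.cl K * PicF.cl L) * PicF.cl M := by rw [h2, one_mul]
      _ = PicF.cl K * (PicF.cl L * PicF.cl M) := mul_assoc _ _ _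
      _ = PicF.cl K := by rw [hLM1, mul_one]
  have hMinv : PicF.IsInvertible M :=
    isInvertible_of_iso' (nonempty_iso_of_cl_eq hclM).some.symm hK
  have eML : Nonempty (CohB1.tensorMod M L ≅ Coh.structureModule X) := ⟨commIso M L ≪≫ eLM⟩
  have hLq : L.IsQuasicoherent := (InvQc.isCoh_of_isInvertible L hL).1
  have hMq : M.IsQuasicoherent := (InvQc.isCoh_of_isInvertible M hMinv).1
  have hhall := (Groth.Agent.Lib.Helper4.UnivBC2.main f).1 h0
  have hf : ∀ U : S.Opens, Function.Bijective (f.app U) := fun U =>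
    (ConcreteCategory.isIso_iff_bijective _).1 (isIso_app_of_hall f hhall U)
  -- the consequences of the fibrewise conditions
  have B : ((∀ s : S, Nontrivial (CohIII.fiberH f L s 0)) ∧ (∀ s : S, Nontrivial (CohIII.fiberH f M s 0)) ∧
        (∀ s : S, Epi (CohBC.bc0 f (S.fromSpecResidueField s) (f.fiberToSpecResidueField s) (f.fiberι s) (f.fiber_fac s) L)) ∧ (∀ s : S, Epi (CohBC.bc0 f (S.fromSpecResidueField s) (f.fiberToSpecResidueField s) (f.fiberι s) (f.fiber_fac s) M))) →
      ((∀ s : S, CohIII.fiberRank f L 0 s = 1 ∧ CohIII.fiberRank f M 0 s = 1) ∧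
      IsIso ((Scheme.Modules.pullbackPushforwardAdjunction f).counit.app L) ∧
      ∀ L₀ : S.Modules, PicF.IsInvertible L₀ → Nonempty (L ≅ (Scheme.Modules.pullback f).obj L₀) →
        Nonempty (L₀ ≅ (Scheme.Modules.pushforward f).obj L)) ∧ PicF.IsInvertible ((Scheme.Modules.pushforward f).obj L) := by
    rintro ⟨hnL, hnM, heL, -⟩
    have τL : ∀ s, Nonempty (CohIII.fiberMod f L s ≅ Coh.structureModule (f.fiber s)) := fun s =>
      (Groth.Agent.Lead.TrivLocus.fiber_iso_iff f hint L M hL hMinv eML s).2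
        ⟨(Groth.Agent.Lead.TrivLocus.one_le_fiberRank_iff f L hL s).2 (hnL s),
          (Groth.Agent.Lead.TrivLocus.one_le_fiberRank_iff f M hMinv s).2 (hnM s)⟩
    have τM : ∀ s, Nonempty (CohIII.fiberMod f M s ≅ Coh.structureModule (f.fiber s)) := fun s =>
      (Groth.Agent.Lead.TrivLocus.fiber_iso_iff f hint M L hMinv hL ⟨eLM⟩ s).2
        ⟨(Groth.Agent.Lead.TrivLocus.one_le_fiberRank_iff f M hMinv s).2 (hnM s),
          (Groth.Agent.Lead.TrivLocus.one_le_fiberRank_iff f L hL s).2 (hnL s)⟩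
    have hloc := fun y => exists_isGen_near_fibre_of_epi f L hL y (h0 y) (τL y).some (heL y)
    refine ⟨⟨fun s => ⟨fiberRank_zero_eq_one f L s (h0 s) (τL s).some,
      fiberRank_zero_eq_one f M s (h0 s) (τM s).some⟩,
      isIso_counit_of_locGen f L hloc, ?_⟩, isInvertible_pushforward_of_locGen f L hloc⟩
    rintro L₀ hL₀ ⟨e⟩
    haveI := Groth.Agent.Lib.Helper4.UnitFLF1.isIso_unit_of_isFinLocFree f hf L₀
      (InvInv2.isFinLocFree_of_isInvertible hL₀)
    exact ⟨asIso ((Scheme.Modules.pullbackPushforwardAdjunction f).unit.app L₀) ≪≫ (Scheme.Modules.pushforward f).mapIso e.symm⟩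
  have A : (∃ L₀ : S.Modules, PicF.IsInvertible L₀ ∧ Nonempty (L ≅ (Scheme.Modules.pullback f).obj L₀)) →
      ((∀ s : S, Nontrivial (CohIII.fiberH f L s 0)) ∧ (∀ s : S, Nontrivial (CohIII.fiberH f M s 0)) ∧
        (∀ s : S, Epi (CohBC.bc0 f (S.fromSpecResidueField s) (f.fiberToSpecResidueField s) (f.fiberι s) (f.fiber_fac s) L)) ∧ (∀ s : S, Epi (CohBC.bc0 f (S.fromSpecResidueField s) (f.fiberToSpecResidueField s) (f.fiberι s) (f.fiber_fac s) M))) := by
    rintro ⟨L₀, hL₀, ⟨e⟩⟩
    obtain ⟨K₀, hK₀, ⟨eK₀⟩⟩ := InvInv2.exists_inverse hL₀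
    have hclM' : PicF.cl M = PicF.cl ((Scheme.Modules.pullback f).obj K₀) := by
      have h2 : PicF.pullCl f (PicF.cl K₀) * PicF.pullCl f (PicF.cl L₀) = 1 := by
        rw [← pull_mul, ← cl_tensor, cl_eq_of_iso eK₀, cl_one, pull_one]
      have h3 : PicF.cl L = PicF.pullCl f (PicF.cl L₀) := cl_eq_of_iso e
      calc PicF.cl M = (PicF.pullCl f (PicF.cl K₀) * PicF.pullCl f (PicF.cl L₀)) * PicF.cl M := by
            rw [h2, one_mul]
        _ = PicF.pullCl f (PicF.cl K₀) * (PicF.cl L * PicF.cl M) := by rw [h3, mul_assoc]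
        _ = PicF.pullCl f (PicF.cl K₀) := by rw [hLM1, mul_one]
    obtain ⟨eM⟩ := nonempty_iso_of_cl_eq hclM'
    have τL : ∀ s, Nonempty (CohIII.fiberMod f L s ≅ Coh.structureModule (f.fiber s)) := fun s =>
      trivial_on_fibre f L₀ hL₀ L e.symm s
    have hsurj : ∀ s, Function.Surjective (f.fiberToSpecResidueField s).appTop.hom := by
      intro s
      have hb := Groth.Agent.Lib.Helper4.RigidProper2.bijective_algebraMap_fibre_of_geometricallyIntegral f s
      exact Function.Surjective.of_comp (g := (Scheme.ΓSpecIso (S.residueField s)).inv.hom) hb.2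
    have epiOf : ∀ (N : X.Modules) (N₀ : S.Modules), PicF.IsInvertible N₀ →
        (N ≅ (Scheme.Modules.pullback f).obj N₀) → N.IsQuasicoherent → ∀ s : S,
        Epi (CohBC.bc0 f (S.fromSpecResidueField s) (f.fiberToSpecResidueField s) (f.fiberι s) (f.fiber_fac s) N) := by
      intro N N₀ hN₀ eN hq s
      obtain ⟨W, a₀, hsW, ha₀⟩ := exists_isGen hN₀ s
      have h1 : IsGen ((Scheme.Modules.pullback f).obj N₀) (f ⁻¹ᵁ W) (σ f N₀ W a₀) := isGen_σ f ha₀
      have h2 := PullGen.isGen_of_iso_app eN.symm h1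
      haveI := hq
      exact epi_bc0_of_isGen f N s hsW _ h2 (hsurj s)
    refine ⟨fun s => ?_, fun s => ?_, fun s => epiOf L L₀ hL₀ e hLq s, fun s => epiOf M K₀ hK₀ eM hMq s⟩
    · exact (Groth.Agent.Lead.TrivLocus.one_le_fiberRank_iff f L hL s).1
        ((Groth.Agent.Lead.TrivLocus.fiber_iso_iff f hint L M hL hMinv eML s).1 (τL s)).1
    · exact (Groth.Agent.Lead.TrivLocus.one_le_fiberRank_iff f M hMinv s).1
        ((Groth.Agent.Lead.TrivLocus.fiber_iso_iff f hint L M hL hMinv eML s).1 (τL s)).2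
  refine ⟨⟨A, fun hP => ?_⟩, fun hP => (B hP).1⟩
  obtain ⟨⟨-, hiso, -⟩, hinv⟩ := B hP
  haveI := hiso
  exact ⟨_, hinv, ⟨(asIso ((Scheme.Modules.pullbackPushforwardAdjunction f).counit.app L)).symm⟩⟩

end Thm

end Groth.Agent.Lib.Helper4.BC0Seesaw1
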