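import Mathlib

/-!
# Base change of the component meeting the generic fibre (S4973) (helper4)
-/

set_option backward.isDefEq.respectTransparency.types false
set_option synthInstance.maxHeartbeats 400000
set_option autoImplicit false
set_option linter.unusedSectionVars false
set_option linter.style.haveILetI false
set_option linter.unusedSimpArgs false
universe u v w
open CategoryTheory CategoryTheory.Limits AlgebraicGeometry TopologicalSpace IsLocalRing Opposite

namespace Groth.Agent.Lib.Helper4.BCComp1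

theorem S4973_gen {X₀ Y₀ Y X₀' : Scheme.{u}} [IsIntegral Y₀] [IsIntegral Y]
    (g : Y ⟶ Y₀) [IsDominant g] (f₀ : X₀ ⟶ Y₀)
    (hirr : IsIrreducible (f₀.base ⁻¹' {genericPoint Y₀}))
    (C : TopologicalSpace.Closeds X₀) (hC : (C : Set X₀) ∈ irreducibleComponents (X₀ : Type u))
    (hCη : ((C : Set X₀) ∩ f₀.base ⁻¹' {genericPoint Y₀}).Nonempty) [IsIntegral (pullback f₀ g)]
    (ι : X₀' ⟶ X₀) [IsClosedImmersion ι] (hr : Set.range ι = (C : Set X₀))
    (e₁ : (ι ≫ f₀) ≫ 𝟙 Y₀ = ι ≫ f₀) (e₂ : g ≫ 𝟙 Y₀ = 𝟙 Y ≫ g) :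
    IsIso (pullback.map (ι ≫ f₀) g f₀ g ι (𝟙 Y) (𝟙 Y₀) e₁ e₂) := by
  obtain ⟨m, hm⟩ : ∃ m : pullback (ι ≫ f₀) g ⟶ pullback f₀ g,
      m = pullback.map (ι ≫ f₀) g f₀ g ι (𝟙 Y) (𝟙 Y₀) e₁ e₂ := ⟨_, rfl⟩
  rw [← hm]
  -- m is a closed immersion
  have hpb : IsPullback m (pullback.fst (ι ≫ f₀) g) (pullback.fst f₀ g) ι := by
    apply IsPullback.of_right (h₁₂ := pullback.snd f₀ g) (h₂₂ := f₀) (v₁₃ := g)
    · have : m ≫ pullback.snd f₀ g = pullback.snd (ι ≫ f₀) g := by
        rw [hm]; exact pullback.lift_snd _ _ _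
      rw [this]
      exact (IsPullback.of_hasPullback (ι ≫ f₀) g).flip
    · rw [hm]; exact pullback.lift_fst _ _ _
    · exact (IsPullback.of_hasPullback f₀ g).flip
  haveI : IsClosedImmersion m := MorphismProperty.of_isPullback hpb.flip inferInstance
  -- range of m
  have hrange : Set.range m = (pullback.fst f₀ g) ⁻¹' (C : Set X₀) := by
    rw [hm, Scheme.Pullback.range_map, hr]
    simp
  -- generic points
  have hgη : g (genericPoint Y) = genericPoint Y₀ := by
    have h1 : IsGenericPoint (g (genericPoint Y)) (closure (g '' Set.univ)) :=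
      (genericPoint_spec Y).image g.continuous
    rw [Set.image_univ, g.denseRange.closure_range] at h1
    exact h1.eq (genericPoint_spec Y₀)
  have hF₀ : f₀.base ⁻¹' {genericPoint Y₀} ⊆ (C : Set X₀) := by
    obtain ⟨c, hcC, hcF⟩ := hCη
    have hCirr : IsIrreducible (C : Set X₀) := hC.prop
    obtain ⟨γ, hγ⟩ : ∃ γ, IsGenericPoint γ (C : Set X₀) :=
      QuasiSober.sober hCirr C.isClosed
    have hγc : γ ⤳ c := hγ.specializes hcC
    have hγF : γ ∈ f₀.base ⁻¹' {genericPoint Y₀} := by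
      have h2 : f₀ γ ⤳ genericPoint Y₀ := by
        have := hγc.map f₀.continuous
        rwa [show f₀ c = genericPoint Y₀ from hcF] at this
      exact (h2.antisymm (genericPoint_specializes _)).eq
    have hsub : (C : Set X₀) ⊆ closure (f₀.base ⁻¹' {genericPoint Y₀}) := by
      rw [← hγ.def]
      exact closure_mono (Set.singleton_subset_iff.mpr hγF)
    exact subset_closure.trans (hC.le_of_ge hirr.closure hsub)
  have hξ : genericPoint ↥(pullback f₀ g) ∈ Set.range m := by
    rw [hrange]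
    apply hF₀
    obtain ⟨x₀, hx₀⟩ := hirr.nonempty
    obtain ⟨w, hw1, hw2⟩ := Scheme.Pullback.exists_preimage_pullback (f := f₀) (g := g) x₀
      (genericPoint Y) (by rw [hgη]; exact hx₀)
    have h3 : pullback.snd f₀ g (genericPoint ↥(pullback f₀ g)) = genericPoint Y := by
      have := (genericPoint_specializes w).map (pullback.snd f₀ g).continuous
      rw [hw2] at this
      exact (this.antisymm (genericPoint_specializes _)).eq
    change f₀ (pullback.fst f₀ g (genericPoint ↥(pullback f₀ g))) = genericPoint Y₀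
    rw [← Scheme.Hom.comp_apply, pullback.condition, Scheme.Hom.comp_apply, h3, hgη]
  haveI : Surjective m := by
    rw [surjective_iff, ← Set.range_eq_univ]
    apply Set.eq_univ_of_univ_subset
    rw [← genericPoint_closure (α := ↥(pullback f₀ g))]
    exact closure_minimal (Set.singleton_subset_iff.mpr hξ) m.isClosedEmbedding.isClosed_range
  exact isIso_of_isClosedImmersion_of_surjective m

theorem S4973_main {X₀ Y₀ Y : Scheme.{u}} [IsIntegral Y₀] [IsIntegral Y]
    (g : Y ⟶ Y₀) [IsDominant g] (f₀ : X₀ ⟶ Y₀) [IsDominant f₀]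
    (hirr : IsIrreducible (f₀.base ⁻¹' {genericPoint Y₀}))
    (C : TopologicalSpace.Closeds X₀) (hC : (C : Set X₀) ∈ irreducibleComponents (X₀ : Type u))
    (hCη : ((C : Set X₀) ∩ f₀.base ⁻¹' {genericPoint Y₀}).Nonempty) [IsIntegral (pullback f₀ g)]
    (e₁ : ((Scheme.IdealSheafData.vanishingIdeal C).subschemeι ≫ f₀) ≫ 𝟙 Y₀ =
      (Scheme.IdealSheafData.vanishingIdeal C).subschemeι ≫ f₀) (e₂ : g ≫ 𝟙 Y₀ = 𝟙 Y ≫ g) :
    IsIso (pullback.map ((Scheme.IdealSheafData.vanishingIdeal C).subschemeι ≫ f₀) g f₀ g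
      (Scheme.IdealSheafData.vanishingIdeal C).subschemeι (𝟙 Y) (𝟙 Y₀) e₁ e₂) := by
  apply S4973_gen g f₀ hirr C hC hCη
  rw [Scheme.IdealSheafData.range_subschemeι]
  simp

end Groth.Agent.Lib.Helper4.BCComp1
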