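import Mathlib
import Groth.Statements.S12138
import Groth.Agent.Lib.Helper4.BCSec2

/-!
# S12138: the exchange properties pass to base changes (helper4)
-/

set_option backward.isDefEq.respectTransparency.types false
set_option synthInstance.maxHeartbeats 400000
set_option autoImplicit false
set_option linter.unusedSectionVars false
set_option linter.style.haveILetI false
set_option linter.unusedSimpArgs false
universe u v w
open CategoryTheory
open CategoryTheory.Limits
open AlgebraicGeometry
open Groth.Agent.Lib.Helper4.BCSec2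

namespace Groth.Agent.Lib.Helper4.BCRes1

instance restrictScalars_preservesEpi {A B : Type u} [CommRing A] [CommRing B] (φ : A →+* B) :
    (ModuleCat.restrictScalars.{u} φ).PreservesEpimorphisms :=
  ⟨fun f hf => (ModuleCat.epi_iff_surjective _).2 ((ModuleCat.epi_iff_surjective f).1 hf)⟩

instance restrictScalars_preservesMono {A B : Type u} [CommRing A] [CommRing B] (φ : A →+* B) :
    (ModuleCat.restrictScalars.{u} φ).PreservesMonomorphisms :=
  ⟨fun f hf => (ModuleCat.mono_iff_injective _).2 ((ModuleCat.mono_iff_injective f).1 hf)⟩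

theorem s12138 (A A' : Type u) [CommRing A] [IsNoetherianRing A]
    [CommRing A'] [Algebra A A'] (X X' : Scheme.{u}) [X.Over (Spec (CommRingCat.of A))]
    [X'.Over (Spec (CommRingCat.of A'))] [IsProper (X ↘ Spec (CommRingCat.of A))] (g' : X' ⟶ X)
    (hsq : IsPullback g' (X' ↘ Spec (CommRingCat.of A')) (X ↘ Spec (CommRingCat.of A))
      (Spec.map (CommRingCat.ofHom (algebraMap A A'))))
    (F : X.Modules) (hF : Coh.IsCoh F) (hfl : FlatMod.IsFlatOver (X ↘ Spec (CommRingCat.of A)) F) (p : ℕ) :
    ((CohIII.tensorAFunctor A F ⋙ CohIII.HAb X p).PreservesEpimorphisms →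
        (CohIII.tensorAFunctor A' ((Scheme.Modules.pullback g').obj F) ⋙ CohIII.HAb X' p).PreservesEpimorphisms) ∧
      ((CohIII.tensorAFunctor A F ⋙ CohIII.HAb X p).PreservesMonomorphisms →
        (CohIII.tensorAFunctor A' ((Scheme.Modules.pullback g').obj F) ⋙ CohIII.HAb X' p).PreservesMonomorphisms) := by
  haveI : F.IsQuasicoherent := hF.1
  haveI : CompactSpace X := QuasiCompact.compactSpace_of_compactSpace (X ↘ Spec (CommRingCat.of A))
  obtain ⟨e⟩ := exists_bcIso (algebraMap A A') g' F hsq p
  constructor
  · intro h
    exact Functor.preservesEpimorphisms.of_iso e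
  · intro h
    exact Functor.preservesMonomorphisms.of_iso e

end Groth.Agent.Lib.Helper4.BCRes1
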