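import Mathlib
import Groth.Prelude.Def_W4c4cptpiccptjacBI
set_option autoImplicit false
set_option linter.unusedSectionVars false
universe u
namespace Groth.Agent.Helper4.BI
open LabGraph

variable {V E : Type u} [Fintype V] [Fintype E] [DecidableEq V] [DecidableEq E]

/-- `e` crosses the vertex set `Y`. -/
def Cr (ends : E → V × V) (Y : Finset V) (e : E) : Prop :=
  ((ends e).1 ∈ Y ∧ (ends e).2 ∉ Y) ∨ ((ends e).1 ∉ Y ∧ (ends e).2 ∈ Y)

instance (ends : E → V × V) (Y : Finset V) : DecidablePred (Cr ends Y) := by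
  intro e; unfold Cr; infer_instance

theorem cut_eq (ends : E → V × V) (Y : Finset V) :
    cut ends Y = (Finset.univ.filter (Cr ends Y)).card := by
  unfold cut Cr
  congr

theorem sum_endCount_univ (ends : E → V × V) :
    ∑ v : V, (endCount ends Finset.univ v : ℤ) = 2 * (Fintype.card E : ℤ) := by
  unfold endCount
  push_cast
  rw [Finset.sum_comm]
  simp_rw [Finset.sum_add_distrib]
  simp [two_mul]

theorem canDeg_univ (ends : E → V × V) (w : V → ℕ) :
    canDeg ends w Finset.univ = 2 * genus ends w - 2 := by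
  unfold canDeg genus
  rw [Finset.sum_add_distrib, Finset.sum_sub_distrib, sum_endCount_univ, ← Finset.mul_sum]
  simp
  ring

theorem canDeg_univ_pos (ends : E → V × V) (w : V → ℕ) (hg : 2 ≤ genus ends w) :
    0 < canDeg ends w Finset.univ := by
  rw [canDeg_univ]; linarith

theorem endCount_eq_cut_of_noloop (ends : E → V × V) (s : V) (hs : ∀ e : E, ends e ≠ (s, s)) :
    endCount ends Finset.univ s = cut ends {s} := by
  unfold endCount cut
  rw [Finset.card_filter]
  apply Finset.sum_congr rfl
  intro e _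
  have := hs e
  by_cases h1 : (ends e).1 = s <;> by_cases h2 : (ends e).2 = s
  · exact absurd (Prod.ext h1 h2) this
  · simp [h1, h2]
  · simp [h1, h2]
  · simp [h1, h2]

theorem canDeg_term_exceptional (ends : E → V × V) (w : V → ℕ) (s : V) (hs : IsExceptional ends w s) :
    (2 * (w s : ℤ) - 2 + (endCount ends Finset.univ s : ℤ)) = 0 := by
  obtain ⟨h0, h1, h2⟩ := hs
  rw [endCount_eq_cut_of_noloop ends s h1, h2, h0]
  simp

theorem canDeg_insert_exceptional (ends : E → V × V) (w : V → ℕ) (s : V) (hs : IsExceptional ends w s)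
    (Z : Finset V) (hsZ : s ∉ Z) : canDeg ends w (insert s Z) = canDeg ends w Z := by
  unfold canDeg
  rw [Finset.sum_insert hsZ, canDeg_term_exceptional ends w s hs, zero_add]

/-- an edge at `s` (no loops at `s`) crosses `{s}` -/
theorem cr_singleton_of_at (ends : E → V × V) (s : V) (hs : ∀ e : E, ends e ≠ (s, s)) (f : E)
    (hf : (ends f).1 = s ∨ (ends f).2 = s) : Cr ends {s} f := by
  unfold Cr
  simp only [Finset.mem_singleton]
  by_cases h1 : (ends f).1 = s <;> by_cases h2 : (ends f).2 = s
  · exact absurd (Prod.ext h1 h2) (hs f)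
  · exact Or.inl ⟨h1, h2⟩
  · exact Or.inr ⟨h1, h2⟩
  · rcases hf with h | h <;> contradiction

/-- at an exceptional vertex there are no three distinct edges -/
theorem no_three_edges (ends : E → V × V) (w : V → ℕ) (s : V) (hs : IsExceptional ends w s)
    (e f g : E) (he : (ends e).1 = s ∨ (ends e).2 = s) (hf : (ends f).1 = s ∨ (ends f).2 = s)
    (hg : (ends g).1 = s ∨ (ends g).2 = s) (hef : e ≠ f) (heg : e ≠ g) (hfg : f ≠ g) : False := by
  obtain ⟨h0, h1, h2⟩ := hs
  rw [cut_eq] at h2
  have hsub : ({e, f, g} : Finset E) ⊆ Finset.univ.filter (Cr ends {s}) := by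
    intro x hx
    simp only [Finset.mem_insert, Finset.mem_singleton] at hx
    rw [Finset.mem_filter]
    refine ⟨Finset.mem_univ _, ?_⟩
    rcases hx with rfl | rfl | rfl
    · exact cr_singleton_of_at ends s h1 _ he
    · exact cr_singleton_of_at ends s h1 _ hf
    · exact cr_singleton_of_at ends s h1 _ hg
  have hcard : ({e, f, g} : Finset E).card = 3 := by
    rw [Finset.card_insert_of_notMem, Finset.card_insert_of_notMem, Finset.card_singleton]
    · simpa using hfg
    · simp [hef, heg]
  have := Finset.card_le_card hsub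
  omega


/-- adding an exceptional vertex adjacent to `Z` does not increase the cut -/
theorem cut_insert_le (ends : E → V × V) (w : V → ℕ) (s : V) (hs : IsExceptional ends w s)
    (Z : Finset V) (hsZ : s ∉ Z) (e : E) (u : V) (hu : u ∈ Z)
    (he : ends e = (s, u) ∨ ends e = (u, s)) :
    cut ends (insert s Z) ≤ cut ends Z := by
  classical
  rw [cut_eq, cut_eq]
  have hus : u ≠ s := fun h => hsZ (h ▸ hu)
  have he_at : (ends e).1 = s ∨ (ends e).2 = s := by
    rcases he with h | h <;> simp [h]
  have he_crZ : Cr ends Z e := by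
    rcases he with h | h
    · right; simp [h, hsZ, hu]
    · left; simp [h, hsZ, hu]
  have he_ncr : ¬ Cr ends (insert s Z) e := by
    rcases he with h | h <;> simp [Cr, h, hu]
  -- edges crossing insert but not Z are at s
  have hat : ∀ f, Cr ends (insert s Z) f → ¬ Cr ends Z f → (ends f).1 = s ∨ (ends f).2 = s := by
    intro f hf hnf
    unfold Cr at hf hnf
    simp only [Finset.mem_insert, not_or] at hf
    by_contra hcon
    push_neg at hcon
    apply hnf
    rcases hf with ⟨h1 | h1, h2, h3⟩ | ⟨⟨h1, h2⟩, h3 | h3⟩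
    · exact absurd h1 hcon.1
    · exact Or.inl ⟨h1, h3⟩
    · exact absurd h3 hcon.2
    · exact Or.inr ⟨h2, h3⟩
  apply Finset.card_le_card_of_injOn (fun f => if Cr ends Z f then f else e)
  · intro f hf
    simp only [Finset.coe_filter, Finset.mem_univ, true_and, Set.mem_setOf_eq] at hf ⊢
    by_cases h : Cr ends Z f
    · simpa [h] using h
    · simpa [h] using he_crZ
  · intro f₁ hf₁ f₂ hf₂ heq
    simp only [Finset.coe_filter, Finset.mem_univ, true_and, Set.mem_setOf_eq] at hf₁ hf₂
    by_cases h1 : Cr ends Z f₁ <;> by_cases h2 : Cr ends Z f₂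
    · simpa [h1, h2] using heq
    · simp only [h1, h2, if_true, if_false] at heq
      exact absurd (heq ▸ hf₁) he_ncr
    · simp only [h1, h2, if_true, if_false] at heq
      exact absurd (heq ▸ hf₂) he_ncr
    · by_contra hne
      have a1 := hat f₁ hf₁ h1
      have a2 := hat f₂ hf₂ h2
      have n1 : e ≠ f₁ := fun h => he_ncr (h ▸ hf₁)
      have n2 : e ≠ f₂ := fun h => he_ncr (h ▸ hf₂)
      exact no_three_edges ends w s hs e f₁ f₂ he_at a1 a2 n1 n2 hne

/-- Lemma A: an exceptional vertex of degree one cannot be adjacent to, and outside of, a set at its upper extreme. -/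
theorem lemmaA (ends : E → V × V) (w : V → ℕ) (hK : 0 < canDeg ends w Finset.univ)
    (d : V → ℤ) (hBI : SatisfiesBI ends w d) (Z : Finset V)
    (hext : 2 * (canDeg ends w Finset.univ * (∑ v ∈ Z, d v) - (∑ v, d v) * canDeg ends w Z)
          = (cut ends Z : ℤ) * canDeg ends w Finset.univ)
    (s : V) (hs : IsExceptional ends w s) (hsZ : s ∉ Z) (hds : d s = 1) (e : E) (u : V) (hu : u ∈ Z)
    (he : ends e = (s, u) ∨ ends e = (u, s)) : False := by
  have h1 := hBI (insert s Z)
  rw [Finset.sum_insert hsZ, canDeg_insert_exceptional ends w s hs Z hsZ, hds] at h1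
  have h2 := cut_insert_le ends w s hs Z hsZ e u hu he
  have h3 : (cut ends (insert s Z) : ℤ) * canDeg ends w Finset.univ ≤ (cut ends Z : ℤ) * canDeg ends w Finset.univ := by
    apply mul_le_mul_of_nonneg_right _ hK.le
    exact_mod_cast h2
  have h4 := le_abs_self (canDeg ends w Finset.univ * (1 + ∑ x ∈ Z, d x) - (∑ v, d v) * canDeg ends w Z)
  nlinarith

/-- a nonempty proper subset of a connected multigraph has a crossing edge -/
theorem exists_crossing (ends : E → V × V) (hconn : Connected ends) (Z : Finset V)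
    (hne : Z.Nonempty) (hprop : Z ≠ Finset.univ) : ∃ e, Cr ends Z e := by
  obtain ⟨v, hv⟩ := hne
  obtain ⟨w, hw⟩ : ∃ w, w ∉ Z := by
    by_contra h
    push_neg at h
    exact hprop (Finset.eq_univ_iff_forall.2 h)
  have hpath := hconn.2 v w
  by_contra hno
  push_neg at hno
  have : ∀ x, Relation.ReflTransGen (Adj ends) v x → x ∈ Z := by
    intro x hx
    induction hx with
    | refl => exact hv
    | tail _ hbc ih =>
      obtain ⟨e, he | he⟩ := hbc
      · by_contra hc
        apply hno e
        left; simp [he, ih, hc]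
      · by_contra hc
        apply hno e
        right; simp [he, ih, hc]
  exact hw (this w hpath)

/-- the twist of a labelling that is constant across all edges vanishes -/
theorem twist_eq_zero_of_const (ends : E → V × V) (φ : V → ℤ) (h : ∀ a b, φ a = φ b) (v : V) :
    twist ends φ v = 0 := by
  unfold twist
  apply Finset.sum_eq_zero
  intro e _
  rw [h (ends e).2 (ends e).1]
  simp

theorem twist_indicator_pos (ends : E → V × V) (Z : Finset V) (s : V)
    (h : 0 < twist ends (fun u => if u ∈ Z then (1 : ℤ) else 0) s) :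
    s ∉ Z ∧ ∃ (e : E) (u : V), u ∈ Z ∧ (ends e = (s, u) ∨ ends e = (u, s)) := by
  unfold twist at h
  obtain ⟨e, -, he⟩ := Finset.exists_lt_of_sum_lt (by simpa using h : ∑ _e : E, (0 : ℤ) < _)
  by_cases h1 : (ends e).1 = s
  · by_cases h2 : (ends e).2 = s
    · simp [h1, h2] at he
    · simp only [h1, h2, if_true, if_false, add_zero] at he
      by_cases hb : (ends e).2 ∈ Z <;> by_cases hsZ : s ∈ Z <;> simp [hb, hsZ] at he
      exact ⟨hsZ, e, (ends e).2, hb, Or.inl (Prod.ext h1 rfl)⟩
  · by_cases h2 : (ends e).2 = s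
    · simp only [h1, h2, if_true, if_false, zero_add] at he
      by_cases ha : (ends e).1 ∈ Z <;> by_cases hsZ : s ∈ Z <;> simp [ha, hsZ] at he
      exact ⟨hsZ, e, (ends e).1, ha, Or.inr (Prod.ext rfl h2)⟩
    · simp [h1, h2] at he

theorem twist_indicator_neg (ends : E → V × V) (Z : Finset V) (s : V) (hsZ : s ∈ Z)
    (e : E) (u : V) (hu : u ∉ Z) (he : ends e = (s, u) ∨ ends e = (u, s)) :
    twist ends (fun u => if u ∈ Z then (1 : ℤ) else 0) s < 0 := by
  unfold twist
  have hus : u ≠ s := fun h => hu (h ▸ hsZ)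
  have : ∑ _e : E, (0 : ℤ) = 0 := by simp
  rw [← this]
  apply Finset.sum_lt_sum
  · intro f _
    by_cases h1 : (ends f).1 = s <;> by_cases h2 : (ends f).2 = s
    · simp [h1, h2]
    · simp only [h1, h2, if_true, if_false, add_zero, hsZ]
      by_cases hb : (ends f).2 ∈ Z <;> simp [hb]
    · simp only [h1, h2, if_true, if_false, zero_add, hsZ]
      by_cases ha : (ends f).1 ∈ Z <;> simp [ha]
    · simp [h1, h2]
  · refine ⟨e, Finset.mem_univ _, ?_⟩
    rcases he with h | h
    · simp [h, hus, hsZ, hu]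
    · simp [h, hus, hsZ, hu]

theorem cut_compl (ends : E → V × V) (Y : Finset V) : cut ends Yᶜ = cut ends Y := by
  rw [cut_eq, cut_eq]
  congr 1
  ext e
  simp only [Cr, Finset.mem_compl, Finset.mem_filter, Finset.mem_univ, true_and, not_not]
  tauto

theorem exists_edge_at (ends : E → V × V) (w : V → ℕ) (s : V) (hs : IsExceptional ends w s) :
    ∃ e : E, (ends e).1 = s ∨ (ends e).2 = s := by
  obtain ⟨h0, h1, h2⟩ := hs
  rw [cut_eq] at h2
  have : (Finset.univ.filter (Cr ends {s})).Nonempty := by
    rw [← Finset.card_pos]; omega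
  obtain ⟨e, he⟩ := this
  rw [Finset.mem_filter] at he
  rcases he.2 with ⟨h, _⟩ | ⟨_, h⟩
  · exact ⟨e, Or.inl (Finset.mem_singleton.1 h)⟩
  · exact ⟨e, Or.inr (Finset.mem_singleton.1 h)⟩

theorem toggle_in (ends : E → V × V) (w : V → ℕ) (s : V) (hs : IsExceptional ends w s)
    (Z : Finset V) (hsZ : s ∉ Z)
    (hall : ∀ e : E, ((ends e).1 = s → (ends e).2 ∈ Z) ∧ ((ends e).2 = s → (ends e).1 ∈ Z)) :
    cut ends (insert s Z) ≤ cut ends Z := by
  obtain ⟨e, he | he⟩ := exists_edge_at ends w s hs
  · exact cut_insert_le ends w s hs Z hsZ e (ends e).2 ((hall e).1 he) (Or.inl (Prod.ext he rfl))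
  · exact cut_insert_le ends w s hs Z hsZ e (ends e).1 ((hall e).2 he) (Or.inr (Prod.ext rfl he))

theorem toggle_out (ends : E → V × V) (w : V → ℕ) (s : V) (hs : IsExceptional ends w s)
    (Z : Finset V) (hsZ : s ∈ Z) (e : E) (u : V) (hu : u ∉ Z)
    (he : ends e = (s, u) ∨ ends e = (u, s)) :
    cut ends (Z.erase s) ≤ cut ends Z := by
  have h := cut_insert_le ends w s hs (Zᶜ) (by simpa using hsZ) e u (by simpa using hu) he
  have heq : insert s Zᶜ = (Z.erase s)ᶜ := by
    ext v
    simp only [Finset.mem_insert, Finset.mem_compl, Finset.mem_erase, not_and]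
    constructor
    · rintro (rfl | h)
      · intro hc; exact absurd rfl hc
      · intro _ hc; exact absurd hc h
    · intro h
      by_cases hv : v = s
      · exact Or.inl hv
      · exact Or.inr (fun hc => hv (h hv |> fun x => absurd hc (by simpa using x)))
  rw [heq, cut_compl, cut_compl] at h
  exact h


theorem sum_twist (ends : E → V × V) (φ : V → ℤ) (Y : Finset V) :
    ∑ v ∈ Y, twist ends φ v = ∑ e : E, ((if (ends e).1 ∈ Y then φ (ends e).2 - φ (ends e).1 else 0)
      + (if (ends e).2 ∈ Y then φ (ends e).1 - φ (ends e).2 else 0)) := by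
  unfold twist
  rw [Finset.sum_comm]
  apply Finset.sum_congr rfl
  intro e _
  rw [Finset.sum_add_distrib]
  congr 1
  · rw [Finset.sum_ite_eq]
  · rw [Finset.sum_ite_eq]

theorem sum_twist_univ (ends : E → V × V) (φ : V → ℤ) : ∑ v, twist ends φ v = 0 := by
  rw [sum_twist]
  apply Finset.sum_eq_zero
  intro e _
  simp

theorem cut_cast (ends : E → V × V) (Y : Finset V) :
    (cut ends Y : ℤ) = ∑ e : E, (if Cr ends Y e then (1 : ℤ) else 0) := by
  rw [cut_eq, Finset.card_filter]
  push_cast
  rfl

theorem edge_ineq (ends : E → V × V) (Y Z : Finset V) (e : E) :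
    (if Cr ends (Y ∪ Z) e then (1 : ℤ) else 0) + (if Cr ends (Y ∩ Z) e then (1 : ℤ) else 0)
      - (if Cr ends Z e then (1 : ℤ) else 0)
      + 2 * ((if (ends e).1 ∈ Y then (if (ends e).2 ∈ Z then (1 : ℤ) else 0) - (if (ends e).1 ∈ Z then (1 : ℤ) else 0) else 0)
      + (if (ends e).2 ∈ Y then (if (ends e).1 ∈ Z then (1 : ℤ) else 0) - (if (ends e).2 ∈ Z then (1 : ℤ) else 0) else 0))
      ≤ (if Cr ends Y e then (1 : ℤ) else 0) := by
  unfold Cr
  simp only [Finset.mem_union, Finset.mem_inter]
  by_cases h1 : (ends e).1 ∈ Y <;> by_cases h2 : (ends e).2 ∈ Y <;>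
    by_cases h3 : (ends e).1 ∈ Z <;> by_cases h4 : (ends e).2 ∈ Z <;> simp [h1, h2, h3, h4]

theorem canDeg_union_inter (ends : E → V × V) (w : V → ℕ) (Y Z : Finset V) :
    canDeg ends w (Y ∪ Z) + canDeg ends w (Y ∩ Z) = canDeg ends w Y + canDeg ends w Z := by
  unfold canDeg
  exact Finset.sum_union_inter

theorem canDeg_compl (ends : E → V × V) (w : V → ℕ) (Y : Finset V) :
    canDeg ends w Yᶜ = canDeg ends w Finset.univ - canDeg ends w Y := by
  unfold canDeg
  rw [← Finset.sum_add_sum_compl Y]
  ring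


end Groth.Agent.Helper4.BI
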