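import Mathlib
import Groth.Prelude.Def_BT
import Groth.Agent.Lib.Helper4.GrpKer1

/-!
# S15054: l-torsion of every layer of a BT group is the first layer (helper4)
-/

set_option backward.isDefEq.respectTransparency.types false
set_option synthInstance.maxHeartbeats 400000
set_option autoImplicit false
set_option linter.unusedSectionVars false
set_option linter.style.haveILetI false
set_option linter.unusedSimpArgs false
universe u v w
open CategoryTheory CategoryTheory.Limits AlgebraicGeometry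
open MonoidalCategory CartesianMonoidalCategory MonObj GrpObj
open Groth.Agent.Lib.Helper4.GrpKer1

namespace Groth.Agent.Lib.Helper4.BT1

theorem S15054_main {S : Scheme.{u}} (ℓ h : ℕ) (G : BTGrp.ProBT ℓ S h)
    (i : (t : ℕ) → (G.G 1 ⟶ G.G (t + 1))) (hi0 : i 0 = 𝟙 (G.G 1))
    (hi : ∀ t : ℕ, i (t + 1) = i t ≫ G.incl (t + 1)) (t : ℕ) :
    AlgGrp.IsKernel (i t) ((𝟙 (G.G (t + 1))) ^ ℓ) := by
  change IsKer (i t) ((𝟙 (G.G (t + 1))) ^ ℓ)
  induction t with
  | zero =>
    have hk : IsKer (G.incl 1) ((𝟙 (G.G (1 + 1))) ^ (ℓ ^ 1)) := G.isKernel 1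
    haveI := hk.mono
    have h0 : (𝟙 (G.G 1)) ^ ℓ = 1 := by
      rw [← cancel_mono (G.incl 1), MonObj.pow_comp, Category.id_comp, MonObj.one_comp]
      have := hk.comp_eq_one
      rwa [comp_id_pow, pow_one] at this
    rw [hi0]
    refine isKer_of_points ?_ ?_
    · rw [Category.id_comp]; exact h0
    · intro T x _
      exact ⟨x, Category.comp_id x⟩
  | succ t ih =>
    have hk : IsKer (G.incl (t + 1)) ((𝟙 (G.G (t + 1 + 1))) ^ (ℓ ^ (t + 1))) := G.isKernel (t + 1)
    haveI := hk.mono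
    haveI := ih.mono
    rw [hi]
    refine isKer_of_points ?_ ?_
    · rw [comp_id_pow, ← MonObj.pow_comp]
      have := ih.comp_eq_one
      rw [comp_id_pow] at this
      rw [this, MonObj.one_comp]
    · intro T x hx
      rw [comp_id_pow] at hx
      have hx2 : x ≫ (𝟙 (G.G (t + 1 + 1))) ^ (ℓ ^ (t + 1)) = 1 := by
        rw [comp_id_pow, pow_succ', pow_mul, hx, one_pow]
      obtain ⟨y, hy⟩ := hk.exists_lift x hx2
      have hy2 : y ≫ (𝟙 (G.G (t + 1))) ^ ℓ = 1 := by
        rw [← cancel_mono (G.incl (t + 1)), comp_id_pow, MonObj.pow_comp, hy, hx, MonObj.one_comp]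
      obtain ⟨z, hz⟩ := ih.exists_lift y hy2
      exact ⟨z, by rw [← Category.assoc, hz, hy]⟩

end Groth.Agent.Lib.Helper4.BT1
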