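import Mathlib

/-!
# Tower law for the rank of finite flat morphisms, closed immersions of equal rank are isomorphisms, finiteness below a faithfully flat cover over a Noetherian base (helper4)
-/

set_option backward.isDefEq.respectTransparency.types false
set_option synthInstance.maxHeartbeats 400000
set_option autoImplicit false
set_option linter.unusedSectionVars false
set_option linter.style.haveILetI false
set_option linter.unusedSimpArgs false
universe u v w
open CategoryTheory CategoryTheory.Limits AlgebraicGeometry TensorProduct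

namespace Groth.Agent.Lib.Helper4.FinRankTower1

section alg

theorem core (k B M : Type*) [Field k] [CommRing B] [Algebra k B] [Module.Finite k B]
    [AddCommGroup M] [Module B M] [Module k M] [IsScalarTower k B M]
    [Module.Finite B M] [Module.Flat B M] (m : ℕ)
    (hm : ∀ P : PrimeSpectrum B, Module.rankAtStalk (R := B) M P = m) :
    Module.finrank k M = m * Module.finrank k B := by
  haveI : IsArtinianRing B := IsArtinianRing.of_finite k B
  have hrk : ∀ P : MaximalSpectrum B,
      Module.finrank (B ⧸ P.1) ((B ⧸ P.1) ⊗[B] M) = m := by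
    intro P
    haveI : P.1.IsMaximal := P.2
    letI : Field (B ⧸ P.1) := Ideal.Quotient.field P.1
    let x : PrimeSpectrum (B ⧸ P.1) := ⟨⊥, Ideal.isPrime_bot⟩
    have h1 := congrFun (Module.rankAtStalk_eq_finrank_of_free (R := B ⧸ P.1)
      (M := (B ⧸ P.1) ⊗[B] M)) x
    have h2 := Module.rankAtStalk_baseChange (R := B) (M := M) (S := B ⧸ P.1) x
    rw [hm] at h2
    rw [h2] at h1
    simpa using h1.symm
  obtain ⟨b⟩ := Module.nonempty_basis_of_flat_of_finrank_eq B M m hrk
  have e' : M ≃ₗ[k] (Fin m → B) := b.equivFun.restrictScalars k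
  rw [e'.finrank_eq, Module.finrank_pi_fintype]
  simp

attribute [local instance] Algebra.TensorProduct.rightAlgebra in
theorem rankAtStalk_tower (A B C : Type*) [CommRing A] [CommRing B] [CommRing C]
    [Algebra A B] [Algebra B C] [Algebra A C] [IsScalarTower A B C]
    [Module.Finite A B] [Module.Flat A B] [Module.Finite B C] [Module.Flat B C]
    [Module.Finite A C] [Module.Flat A C] (m : ℕ)
    (hm : ∀ P : PrimeSpectrum B, Module.rankAtStalk (R := B) C P = m) (p : PrimeSpectrum A) :
    Module.rankAtStalk (R := A) C p = m * Module.rankAtStalk (R := A) B p := by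
  let k := p.asIdeal.ResidueField
  let B' := k ⊗[A] B
  have h1 : Module.finrank k (B' ⊗[B] C) = m * Module.finrank k B' :=
    core k B' (B' ⊗[B] C) m (fun P => by rw [Module.rankAtStalk_baseChange]; exact hm _)
  have e := Algebra.IsPushout.cancelBaseChange A k B B' C
  rw [Module.rankAtStalk_eq, Module.rankAtStalk_eq]
  rw [← e.finrank_eq]
  exact h1



theorem tower_ringHom {A B C : Type*} [CommRing A] [CommRing B] [CommRing C] (φ : A →+* B)
    (ψ : B →+* C) (h1 : φ.Finite) (h2 : φ.Flat) (h3 : ψ.Finite) (h4 : ψ.Flat) (m : ℕ)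
    (hm : ∀ P, ψ.finrank P = m) (p : PrimeSpectrum A) :
    (ψ.comp φ).finrank p = m * φ.finrank p := by
  have h5 : (ψ.comp φ).Finite := h3.comp h1
  have h6 : (ψ.comp φ).Flat := h2.comp h4
  algebraize [φ, ψ, ψ.comp φ]
  exact rankAtStalk_tower A B C m hm p

theorem bij_ringHom {A B C : Type*} [CommRing A] [CommRing B] [CommRing C] (φ : A →+* B)
    (ψ : B →+* C) (h1 : φ.Finite) (h2 : φ.Flat) (h3 : (ψ.comp φ).Finite)
    (h4 : (ψ.comp φ).Flat) (hs : Function.Surjective ψ)
    (h : ∀ p, (ψ.comp φ).finrank p = φ.finrank p) : Function.Bijective ψ := by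
  algebraize [φ, ψ, ψ.comp φ]
  exact Module.bijective_of_surjective_of_rankAtStalk_eq
    (φ := (IsScalarTower.toAlgHom A B C).toLinearMap) hs
    (fun m _ => (h ⟨m, inferInstance⟩).symm)

theorem inj_finite_of_noeth {A B C : Type*} [CommRing A] [CommRing B] [CommRing C]
    [IsNoetherianRing A] (φ : A →+* B)
    (ψ : B →+* C) (h3 : (ψ.comp φ).Finite) (hs : Function.Injective ψ) : φ.Finite := by
  algebraize [φ, ψ, ψ.comp φ]
  haveI : IsNoetherian A C := isNoetherian_of_isNoetherianRing_of_finite A C
  exact Module.Finite.of_injective (IsScalarTower.toAlgHom A B C).toLinearMap hs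

end alg

section sch

theorem finrank_eq_appTop {Z Y : Scheme.{u}} (f : Z ⟶ Y) [IsAffine Y] [IsFinite f] [Flat f]
    (y : Y) : f.finrank y = f.appTop.hom.finrank (Y.isoSpec.hom y) := by
  haveI : IsAffine Z := isAffine_of_isAffineHom f
  have sq : IsPullback Z.isoSpec.hom f (Spec.map f.appTop) Y.isoSpec.hom :=
    IsPullback.of_horiz_isIso ⟨Scheme.isoSpec_hom_naturality f⟩
  haveI : IsFinite (Spec.map f.appTop) := (IsFinite.SpecMap_iff _).mpr f.finite_appTop
  haveI : Flat (Spec.map f.appTop) := Flat.SpecMap_iff.mpr f.flat_appTop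
  rw [Scheme.Hom.finrank_of_isPullback _ _ _ _ sq y,
    Scheme.Hom.finrank_SpecMap_eq_finrank f.finite_appTop f.flat_appTop]

theorem finrank_comp_of_const {X Y S : Scheme.{u}} (f : X ⟶ Y) (g : Y ⟶ S) [IsAffine S]
    [IsFinite f] [Flat f] [IsFinite g] [Flat g] (m : ℕ) (hm : ∀ y, f.finrank y = m) (s : S) :
    (f ≫ g).finrank s = m * g.finrank s := by
  haveI : IsAffine Y := isAffine_of_isAffineHom g
  haveI : IsAffine X := isAffine_of_isAffineHom f
  rw [finrank_eq_appTop (f ≫ g) s, finrank_eq_appTop g s]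
  have hm' : ∀ P : PrimeSpectrum Γ(Y, ⊤), f.appTop.hom.finrank P = m := by
    intro P
    have h := hm (Y.isoSpec.inv P)
    rw [finrank_eq_appTop f] at h
    have e : Y.isoSpec.hom (Y.isoSpec.inv P) = P := by
      rw [← Scheme.Hom.comp_apply, Iso.inv_hom_id]
      rfl
    rwa [e] at h
  have := tower_ringHom g.appTop.hom f.appTop.hom g.finite_appTop g.flat_appTop f.finite_appTop
    f.flat_appTop m hm' (S.isoSpec.hom s)
  rw [← this, Scheme.Hom.comp_appTop]
  rfl

theorem isIso_of_closedImmersion_of_finrank_eq {Q Y S : Scheme.{u}} (ρ : Q ⟶ Y) (g : Y ⟶ S)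
    [IsAffine S] [IsClosedImmersion ρ] [IsFinite g] [Flat g] [Flat (ρ ≫ g)]
    (h : ∀ s, (ρ ≫ g).finrank s = g.finrank s) : IsIso ρ := by
  haveI : IsAffine Y := isAffine_of_isAffineHom g
  haveI : IsAffine Q := isAffine_of_isAffineHom ρ
  apply IsClosedImmersion.isIso_of_injective_of_isAffine
  have hs := (IsClosedImmersion.isAffine_surjective_of_isAffine ρ).2
  have h3 : (ρ.appTop.hom.comp g.appTop.hom).Finite := by
    have := (ρ ≫ g).finite_appTop
    rwa [Scheme.Hom.comp_appTop] at this
  have h4 : (ρ.appTop.hom.comp g.appTop.hom).Flat := by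
    have := (ρ ≫ g).flat_appTop
    rwa [Scheme.Hom.comp_appTop] at this
  have key := bij_ringHom g.appTop.hom ρ.appTop.hom g.finite_appTop g.flat_appTop h3 h4 hs (by
    intro p
    have h' := h (S.isoSpec.inv p)
    rw [finrank_eq_appTop (ρ ≫ g), finrank_eq_appTop g] at h'
    have e : S.isoSpec.hom (S.isoSpec.inv p) = p := by
      rw [← Scheme.Hom.comp_apply, Iso.inv_hom_id]
      rfl
    rw [e, Scheme.Hom.comp_appTop] at h'
    exact h')
  exact key.1

theorem isFinite_of_comp_of_noeth {X Q S : Scheme.{u}} (q : X ⟶ Q) (g : Q ⟶ S) [IsAffine S]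
    [IsAffine Q] [IsAffine X] [IsNoetherianRing Γ(S, ⊤)] [IsFinite (q ≫ g)] [Flat q]
    [Surjective q] : IsFinite g := by
  rw [HasAffineProperty.iff_of_isAffine (P := @IsFinite)]
  refine ⟨inferInstance, ?_⟩
  have hff : q.appTop.hom.FaithfullyFlat :=
    (Flat.flat_and_surjective_iff_faithfullyFlat_of_isAffine q).mp ⟨inferInstance, inferInstance⟩
  have h3 : (q.appTop.hom.comp g.appTop.hom).Finite := by
    have := (q ≫ g).finite_appTop
    rwa [Scheme.Hom.comp_appTop] at this
  exact inj_finite_of_noeth g.appTop.hom q.appTop.hom h3 hff.injective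

end sch

end Groth.Agent.Lib.Helper4.FinRankTower1
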