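import Mathlib
import Groth.Prelude.Def_BT
import Groth.Prelude.Def_AlgGrp
import Groth.Agent.Lib.Helper4.FinRankTower1
import Groth.Agent.Lib.Helper4.AffGrpQuot1
import Groth.Agent.Lib.Helper6.FlatQ.Desc

/-!
# Exactness on the right by counting ranks for finite locally free group schemes over a Noetherian affine base; the sequence G_1 -> G_{t+1} -> G_t of a Barsotti-Tate group (helper4)
-/

set_option backward.isDefEq.respectTransparency.types false
set_option synthInstance.maxHeartbeats 400000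
set_option autoImplicit false
set_option linter.unusedSectionVars false
set_option linter.style.haveILetI false
set_option linter.unusedSimpArgs false
universe u v w
open CategoryTheory CategoryTheory.Limits AlgebraicGeometry TopologicalSpace Opposite
open MonoidalCategory CartesianMonoidalCategory MonObj GrpObj
open Groth.Agent.Lib.Helper4.ActGpd1 Groth.Agent.Lib.Helper4.NormQuotSch1
open Groth.Agent.Lib.Helper4.QuotExt1
open Groth.Agent.Lib.Helper6.FlatQ
open Groth.Agent.Lib.Helper4.NormRadQuot1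
open Groth.Agent.Lib.Helper4.FinRankTower1 Groth.Agent.Lib.Helper4.AffGrpQuot1

namespace Groth.Agent.Lib.Helper4.BTProjExact1

section ker

variable {S : Scheme.{u}}

lemma ker_comp {N G Q : Over S} [GrpObj Q] (i : N ⟶ G) (q : G ⟶ Q) (hK : AlgGrp.IsKernel i q)
    {T : Over S} (n : T ⟶ N) : (n ≫ i) ≫ q = 1 := by
  rw [Category.assoc, hK.w, ← Category.assoc, Hom.one_def]
  congr 1
  exact toUnit_unique _ _

lemma ker_lift {N G Q : Over S} [GrpObj Q] (i : N ⟶ G) (q : G ⟶ Q) (hK : AlgGrp.IsKernel i q)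
    {T : Over S} (c : T ⟶ G) (hc : c ≫ q = 1) : ∃ n : T ⟶ N, n ≫ i = c := by
  refine ⟨hK.lift c (toUnit T) ?_, hK.lift_fst _ _ _⟩
  rw [hc, Hom.one_def]

lemma ker_mono {N G Q : Over S} [GrpObj Q] (i : N ⟶ G) (q : G ⟶ Q) (hK : AlgGrp.IsKernel i q) :
    Mono i := by
  constructor
  intro T a b hab
  exact hK.hom_ext hab (toUnit_unique _ _)

lemma isAffine_cod [IsAffine S] (Q : Over S) :
    IsAffine ((Functor.fromPUnit S).obj Q.right) := ‹IsAffine S›

lemma isNoeth_cod [h : IsNoetherianRing Γ(S, ⊤)] (Q : Over S) :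
    IsNoetherianRing Γ((Functor.fromPUnit S).obj Q.right, ⊤) := h

/-- fpqc-local lifting of points along a faithfully flat quasi-compact morphism -/
theorem exists_local_lift {X Q : Over S} (q : X ⟶ Q) [Flat q.left] [Surjective q.left]
    [QuasiCompact q.left] {T : Over S} (a : T ⟶ Q) :
    ∃ (T' : Over S) (π : T' ⟶ T) (a' : T' ⟶ X), Epi π ∧ π ≫ a = a' ≫ q := by
  have hpbL : IsPullback (pullback.fst a q).left (pullback.snd a q).left a.left q.left :=
    (IsPullback.of_hasPullback a q).map (Over.forget S)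
  haveI : Flat (pullback.fst a q).left :=
    MorphismProperty.of_isPullback (P := @Flat) hpbL.flip inferInstance
  haveI : Surjective (pullback.fst a q).left :=
    MorphismProperty.of_isPullback (P := @Surjective) hpbL.flip inferInstance
  haveI : QuasiCompact (pullback.fst a q).left :=
    MorphismProperty.of_isPullback (P := @QuasiCompact) hpbL.flip inferInstance
  exact ⟨pullback a q, pullback.fst a q, pullback.snd a q,
    (isDesc_of_fpqc (pullback.fst a q)).epi, pullback.condition⟩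

end ker

section count

/-- exactness on the right by counting ranks: a homomorphism of finite locally free group
schemes over a Noetherian affine base whose kernel has the complementary rank is finite locally
free of the rank of the kernel, and surjective -/
theorem surj_of_rank {R : Type u} [CommRing R] [IsNoetherianRing R]
    {X Y N : Over (Spec (CommRingCat.of R))} [GrpObj X] [GrpObj Y] [GrpObj N]
    (u : N ⟶ X) [IsMonHom u] (p : X ⟶ Y) [IsMonHom p] (hK : AlgGrp.IsKernel u p)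
    (d e : ℕ) (hd : 0 < d)
    (hN : Mor2.IsFinLocFreeOfDeg d N.hom) (hX : Mor2.IsFinLocFreeOfDeg (d * e) X.hom)
    (hY : Mor2.IsFinLocFreeOfDeg e Y.hom) :
    Mor2.IsFinLocFreeOfDeg d p.left ∧ Surjective p.left := by
  haveI : Mono u := ker_mono _ _ hK
  have hNn : AlgGrp.IsNormalHom u := isNormalHom_of_isKernel p u hK
  obtain ⟨⟨hXfin, hXfl, hXfp⟩, hXrk⟩ := hX
  obtain ⟨⟨hYfin, hYfl, hYfp⟩, hYrk⟩ := hY
  obtain ⟨hNflf, hNrk⟩ := hN
  obtain ⟨hNfin, hNfl, hNfp⟩ := hNflf
  haveI := hXfin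
  haveI := hXfl
  haveI := hXfp
  haveI := hYfin
  haveI := hYfl
  haveI := hYfp
  haveI := hNfin
  haveI := hNfl
  haveI := hNfp
  haveI := isAffine_cod X
  haveI : IsAffine X.left := isAffine_of_isAffineHom X.hom
  obtain ⟨Q, instQ, q, hqm, hKq, hpb, hQaff, hqfin, hqfl, hqfp, hqsurj⟩ :=
    exists_quot_affine u hNn ⟨hNfin, hNfl, hNfp⟩
  haveI := hqm
  haveI := hQaff
  haveI := hqfin
  haveI := hqfl
  haveI := hqfp
  haveI := hqsurj
  haveI hqc : QuasiCompact q.left := inferInstance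
  -- the rank of `q`
  have hqrk : ∀ z : Q.left, q.left.finrank z = d := by
    intro z
    obtain ⟨x, rfl⟩ := q.left.surjective z
    have hpbS : IsPullback (ltAct u).act.left (snd N X).left q.left q.left :=
      hpb.map (Over.forget _)
    have e1 := Scheme.Hom.finrank_of_isPullback _ _ _ _ hpbS x
    rw [← e1, Over.snd_left, Scheme.Hom.finrank_pullback_snd, hNrk]
  -- the structure morphism of `Q`
  have hw : q.left ≫ Q.hom = X.hom := Over.w q
  haveI : Flat (q.left ≫ Q.hom) := by rw [hw]; infer_instance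
  haveI : IsFinite (q.left ≫ Q.hom) := by rw [hw]; infer_instance
  haveI hQfl : Flat Q.hom := flat_of_comp_flat_surjective q.left Q.hom
  haveI : IsNoetherianRing Γ(Spec (CommRingCat.of R), ⊤) :=
    isNoetherianRing_of_ringEquiv R
      (Scheme.ΓSpecIso (CommRingCat.of R)).commRingCatIsoToRingEquiv.symm
  haveI := isAffine_cod Q
  haveI := isNoeth_cod Q
  haveI hQfin : IsFinite Q.hom := isFinite_of_comp_of_noeth q.left Q.hom
  have hQrk : ∀ s, Q.hom.finrank s = e := by
    intro s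
    have h1 := finrank_comp_of_const q.left Q.hom d hqrk s
    have h2 : (q.left ≫ Q.hom).finrank s = d * e := by rw [hw]; exact hXrk s
    rw [h2] at h1
    exact (Nat.eq_of_mul_eq_mul_left hd h1).symm
  -- the induced morphism
  have hconst : ∀ {T : Over (Spec (CommRingCat.of R))} (a b : T ⟶ X),
      a ≫ q = b ≫ q → a ≫ p = b ≫ p :=
    fun a b hab => comp_eq_of_isKernel q u p hKq hK a b hab
  obtain ⟨ρ, hρ⟩ := (isDesc_of_fpqc q).desc p hconst
  have hρmono : Mono ρ := by
    constructor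
    intro T a b hab
    obtain ⟨T1, π1, a', hπ1, ha'⟩ := exists_local_lift q a
    obtain ⟨T2, π2, b', hπ2, hb'⟩ := exists_local_lift q (π1 ≫ b)
    haveI := hπ1
    haveI := hπ2
    have h1 : (π2 ≫ a') ≫ p = b' ≫ p := by
      calc (π2 ≫ a') ≫ p = π2 ≫ (a' ≫ q) ≫ ρ := by rw [← hρ]; simp only [Category.assoc]
        _ = π2 ≫ (π1 ≫ a) ≫ ρ := by rw [ha']
        _ = π2 ≫ π1 ≫ b ≫ ρ := by simp only [Category.assoc]; rw [hab]
        _ = (b' ≫ q) ≫ ρ := by rw [← hb']; simp only [Category.assoc]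
        _ = b' ≫ p := by rw [Category.assoc, hρ]
    have h2 : (π2 ≫ a') ≫ q = b' ≫ q := comp_eq_of_isKernel p u q hK hKq _ _ h1
    rw [← cancel_epi π1, ← cancel_epi π2]
    calc π2 ≫ π1 ≫ a = (π2 ≫ a') ≫ q := by rw [ha', Category.assoc]
      _ = b' ≫ q := h2
      _ = π2 ≫ π1 ≫ b := hb'.symm
  haveI : Mono ρ.left := inferInstance
  have hwρ : ρ.left ≫ Y.hom = Q.hom := Over.w ρ
  haveI : IsFinite (ρ.left ≫ Y.hom) := by rw [hwρ]; exact hQfin
  haveI : IsFinite ρ.left := IsFinite.of_comp ρ.left Y.hom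
  haveI : IsClosedImmersion ρ.left :=
    (IsClosedImmersion.iff_isFinite_and_mono (f := ρ.left)).mpr ⟨inferInstance, inferInstance⟩
  haveI : Flat (ρ.left ≫ Y.hom) := by rw [hwρ]; exact hQfl
  haveI := isAffine_cod Y
  haveI : IsIso ρ.left := isIso_of_closedImmersion_of_finrank_eq ρ.left Y.hom (by
    intro s
    rw [hwρ, hQrk, hYrk])
  have hp : p.left = q.left ≫ ρ.left := by rw [← Over.comp_left, hρ]
  have hpfin : IsFinite p.left := by rw [hp]; infer_instance
  have hpfl : Flat p.left := by rw [hp]; infer_instance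
  have hpfp : LocallyOfFinitePresentation p.left := by rw [hp]; infer_instance
  have hpsurj : Surjective p.left := by rw [hp]; infer_instance
  refine ⟨⟨⟨hpfin, hpfl, hpfp⟩, ?_⟩, hpsurj⟩
  intro y
  have sq : IsPullback (𝟙 X.left) p.left q.left (inv ρ.left) :=
    IsPullback.of_horiz_isIso ⟨by
      rw [Category.id_comp, hp, Category.assoc, IsIso.hom_inv_id, Category.comp_id]⟩
  rw [Scheme.Hom.finrank_of_isPullback _ _ _ _ sq y, hqrk]

end count

section BT

open BTGrp

variable {S : Scheme.{u}} {ℓ h : ℕ} (G : BTGrp.ProBT ℓ S h)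

lemma comp_pw {ν n : ℕ} {T : Over S} (c : T ⟶ G.G ν) : c ≫ (𝟙 (G.G ν)) ^ n = c ^ n := by
  rw [MonObj.comp_pow, Category.comp_id]

lemma incl_mono (ν : ℕ) : Mono (G.incl ν) := ker_mono _ _ (G.isKernel ν)

lemma one_of_G0 {T : Over S} (b : T ⟶ G.G 0) : b ≫ G.incl 0 = 1 := by
  have h1 := ker_comp _ _ (G.isKernel 0) b
  rw [comp_pw, pow_zero, pow_one] at h1
  exact h1

lemma pow_ell_G1 {T : Over S} (n : T ⟶ G.G (0 + 1)) : n ^ ℓ = 1 := by
  have h1 : n ≫ (G.proj 0 ≫ G.incl 0) = n ^ ℓ := by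
    rw [G.proj_incl 0, comp_pw]
  rw [← h1, ← Category.assoc, one_of_G0]

variable (i : (t : ℕ) → (G.G 1 ⟶ G.G (t + 1))) (hi0 : i 0 = 𝟙 (G.G 1))
  (hi : ∀ t : ℕ, i (t + 1) = i t ≫ G.incl (t + 1))

include hi0 hi

lemma isMonHom_i (t : ℕ) : IsMonHom (i t) := by
  induction t with
  | zero => rw [hi0]; infer_instance
  | succ t ih =>
    haveI := ih
    rw [hi t]
    infer_instance

lemma mono_i (t : ℕ) : Mono (i t) := by
  induction t with
  | zero => rw [hi0]; infer_instance
  | succ t ih =>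
    haveI := ih
    haveI := incl_mono G (t + 1)
    rw [hi t]
    exact mono_comp _ _

lemma pow_i (t : ℕ) {T : Over S} (n : T ⟶ G.G 1) : (n ≫ i t) ^ ℓ = 1 := by
  induction t with
  | zero =>
    rw [hi0, Category.comp_id]
    exact pow_ell_G1 G n
  | succ t ih =>
    rw [hi t, ← Category.assoc, ← MonObj.pow_comp, ih, MonObj.one_comp]

lemma lift_i (t : ℕ) : ∀ {T : Over S} (c : T ⟶ G.G (t + 1)), c ^ ℓ = 1 →
    ∃ n : T ⟶ G.G 1, n ≫ i t = c := by
  induction t with
  | zero =>
    intro T c _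
    exact ⟨c, by rw [hi0, Category.comp_id]⟩
  | succ t ih =>
    intro T c hc
    have h1 : c ≫ (𝟙 (G.G (t + 1 + 1))) ^ (ℓ ^ (t + 1)) = 1 := by
      rw [comp_pw, pow_succ' ℓ t, pow_mul, hc, one_pow]
    obtain ⟨b, hb⟩ := ker_lift _ _ (G.isKernel (t + 1)) c h1
    have hb' : b ^ ℓ = 1 := by
      haveI := incl_mono G (t + 1)
      rw [← cancel_mono (G.incl (t + 1)), MonObj.pow_comp, hb, hc, MonObj.one_comp]
    obtain ⟨n, hn⟩ := ih b hb'
    exact ⟨n, by rw [hi t, ← Category.assoc, hn, hb]⟩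

theorem isKernel_proj (t : ℕ) : AlgGrp.IsKernel (i t) (G.proj t) := by
  unfold AlgGrp.IsKernel
  haveI := incl_mono G t
  refine isPullback_of_points (i t) (toUnit _) (G.proj t) η[G.G t] ?_ ?_ ?_
  · have h1 : (𝟙 (G.G 1) ≫ i t) ≫ G.proj t = 1 := by
      rw [← cancel_mono (G.incl t), Category.assoc, G.proj_incl t, comp_pw,
        pow_i G i hi0 hi t (𝟙 _), MonObj.one_comp]
    rw [Category.id_comp] at h1
    rw [h1, Hom.one_def]
  · intro T a b hab
    have h1 : a ≫ G.proj t = 1 := by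
      rw [hab, Hom.one_def, toUnit_unique b (toUnit T)]
    have h2 : a ^ ℓ = 1 := by
      rw [← comp_pw G (n := ℓ) a, ← G.proj_incl t, ← Category.assoc, h1, MonObj.one_comp]
    obtain ⟨n, hn⟩ := lift_i G i hi0 hi t a h2
    exact ⟨n, hn, toUnit_unique _ _⟩
  · intro T c c' h1 _
    haveI := mono_i G i hi0 hi t
    exact (cancel_mono (i t)).mp h1

end BT

theorem main (R : Type u) [CommRing R] [IsNoetherianRing R] (ℓ h : ℕ)
    [Fact ℓ.Prime] (G : BTGrp.ProBT ℓ (Spec (CommRingCat.of R)) h)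
    (i : (t : ℕ) → (G.G 1 ⟶ G.G (t + 1))) (hi0 : i 0 = 𝟙 (G.G 1))
    (hi : ∀ t : ℕ, i (t + 1) = i t ≫ G.incl (t + 1)) (t : ℕ) :
    AlgGrp.IsKernel (i t) (G.proj t) ∧ Mor2.IsFinLocFreeOfDeg (ℓ ^ h) (G.proj t).left ∧
      Surjective (G.proj t).left := by
  have hK := isKernel_proj G i hi0 hi t
  haveI := isMonHom_i G i hi0 hi t
  refine ⟨hK, ?_⟩
  have hpos : 0 < ℓ ^ h := pow_pos (Fact.out : ℓ.Prime).pos h
  have h1 : Mor2.IsFinLocFreeOfDeg (ℓ ^ h) (G.G 1).hom := by
    have := G.finLocFree 1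
    rwa [_root_.one_mul] at this
  have h2 : Mor2.IsFinLocFreeOfDeg (ℓ ^ h * ℓ ^ (t * h)) (G.G (t + 1)).hom := by
    have := G.finLocFree (t + 1)
    have e : ℓ ^ ((t + 1) * h) = ℓ ^ h * ℓ ^ (t * h) := by
      rw [← pow_add]
      congr 1
      ring
    rwa [e] at this
  exact surj_of_rank (i t) (G.proj t) hK (ℓ ^ h) (ℓ ^ (t * h)) hpos h1 h2 (G.finLocFree t)

end Groth.Agent.Lib.Helper4.BTProjExact1
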