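import Mathlib
import Groth.Agent.Lib.Helper4.ZMTBirational
import Groth.Prelude.Def_Cyc
import Groth.Agent.Lib.Helper4.JacDim1
import Groth.Prelude.Def_EGA43
import Groth.Agent.Lib.Helper4.FibreStalkDim1
import Groth.Agent.Lib.Helper4.DimFT1
import Groth.Agent.Lib.Helper4.DimFT2
import Groth.Agent.Lib.Helper4.Chev8
import Groth.Agent.Lib.Helper4.FibDim7
import Groth.Agent.Lib.Helper4.EffCartierDim1
import Groth.Agent.Lib.Helper4.JacDim4
import Groth.Agent.Lib.Helper4.Chev9
import Groth.Agent.Lib.Helper4.Chev10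
import Groth.Agent.Lib.Helper4.Chev11
import Groth.Agent.Lib.Helper4.Equi1
import Groth.Agent.Lib.Helper4.Equi2
import Groth.Agent.Lib.Helper4.Equi3
import Groth.Agent.Lib.Helper4.Equi4
import Groth.Agent.Lib.Helper4.Equi5
import Groth.Agent.Lib.Helper4.Equi6
import Groth.Agent.Lib.Helper4.Equi7
import Groth.Agent.Lib.Helper4.Aff1
import Groth.Agent.Lib.Helper4.Aff2
import Groth.Agent.Lib.Helper4.Equi10
import Groth.Agent.Lib.Helper4.Val1
import Groth.Agent.Lib.Helper4.BaseChg1
import Groth.Agent.Lib.Helper4.UnivOpen1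
import Groth.Agent.Lib.Helper4.FibClosure1
import Groth.Agent.Lib.Helper4.OpenNoeth1
import Groth.Agent.Lib.Helper4.SecComp1
import Groth.Agent.Lib.Helper4.SecComp2
import Groth.Agent.Lib.Helper4.UnivOpen2
import Groth.Agent.Lib.Helper4.UnivOpenAt
import Groth.Agent.Lib.Helper4.RegularLocalCopy
import Groth.Agent.Lib.Helper4.ZMTNormalPt1
import Groth.Agent.Lib.Helper4.LocFinComp1
import Groth.Agent.Lib.Helper4.SecComp3
import Groth.Agent.Lib.Helper4.PropDim1
import Groth.Prelude.Def_FDesc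
import Groth.Prelude.Def_MoreMor
import Groth.Agent.Lib.Helper4.ChevCrit1
import Groth.Agent.Lib.Helper4.ChevCrit2
import Groth.Agent.Lib.Helper4.ChevCrit3
import Groth.Agent.Lib.Helper4.IrrCompDomain1
import Groth.Agent.Lib.Helper4.ChevCrit4
import Groth.Agent.Lib.Helper4.ChevCrit5
import Groth.Agent.Lib.Helper4.ChevCrit6
import Groth.Agent.Lib.Helper4.ChevCrit7
import Groth.Agent.Lib.Helper4.DedekindOpen1
import Groth.Agent.Lib.Helper4.UnivOpenT1
import Groth.Agent.Lib.Helper4.DvrFlat1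
import Groth.Agent.Lib.Helper4.SatChain1
import Groth.Agent.Lib.Helper4.FlatDimK1
import Groth.Agent.Lib.Helper4.BaseChgMax1
import Groth.Agent.Lib.Helper4.ProdDim1
import Groth.Agent.Lib.Helper4.FibDimBC1
import Groth.Agent.Lib.Helper4.FibMap1
import Groth.Agent.Lib.Helper4.GenFib1
import Groth.Agent.Lib.Helper4.EquiBC1
import Groth.Agent.Lib.Helper4.GenEqui1
import Groth.Agent.Lib.Helper4.LocNoethFib1
import Groth.Agent.Lib.Helper4.FibDimBC2
import Groth.Agent.Lib.Helper4.FibDimComp1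
import Groth.Agent.Lib.Helper4.HypDim1
import Groth.Agent.Lib.Helper4.FFlatDelta1
import Groth.Agent.Lib.Helper4.FTDim1
import Groth.Agent.Lib.Helper4.IrrFib1
import Groth.Agent.Lib.Helper4.FTDim2
import Groth.Agent.Lib.Helper4.ProperImgDim1
import Groth.Agent.Lib.Helper4.RangeDim1
import Groth.Agent.Lib.Helper4.WellInt1
import Groth.Agent.Lib.Helper4.WellInt2
import Groth.Agent.Lib.Helper4.FibStrat1
import Groth.Agent.Lib.Helper4.SmoothNormal1

/-!
# Birational morphisms of smooth curves are open immersions (S14519) (helper4)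
-/

set_option backward.isDefEq.respectTransparency.types false
set_option synthInstance.maxHeartbeats 400000
set_option autoImplicit false
set_option linter.unusedSectionVars false
set_option linter.style.haveILetI false
set_option linter.unusedSimpArgs false
universe u v w
open CategoryTheory CategoryTheory.Limits AlgebraicGeometry TopologicalSpace IsLocalRing Opposite
open Cardinal AffineSpace MvPolynomial
open Groth.Agent.Lib.Helper4.DimIneq1 Groth.Agent.Lib.Helper4.DimFT2 Groth.Agent.Lib.Helper4.Catenary1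
open Groth.Agent.Lib.Helper4.DimEq1 Groth.Agent.Lib.Helper4.DimIneq2 Groth.Agent.Lib.Helper4.DimEq2
open Groth.Agent.Lib.Helper4.DimIneq3 Groth.Agent.Lib.Helper4.DimIneq4
open Groth.Agent.Lib.Helper4.NormFibre2 Groth.Agent.Lib.Helper4.RadBir3 Groth.Agent.Lib.Helper4.DimFT3
open Groth.Agent.Lib.Helper4.FibDim1 Groth.Agent.Lib.Helper4.FibDim2 Groth.Agent.Lib.Helper4.LocUC1
open Groth.Agent.Lib.Helper4.FibDim3 Groth.Agent.Lib.Helper4.FibDim4 Groth.Agent.Lib.Helper4.FibDim5
open Groth.Agent.Lib.Helper4.FibDim6 Groth.Agent.Lib.Helper4.FibDim7 Groth.Agent.Lib.Helper4.JacDim1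
open Groth.Agent.Lib.Helper4.DimFT1
open Groth.Agent.Lib.Helper4.Chev2 Groth.Agent.Lib.Helper4.Chev5 Groth.Agent.Lib.Helper4.Chev6 Groth.Agent.Lib.Helper4.Chev8
open Groth.Agent.Lib.Helper4.JacDim4 Groth.Agent.Lib.Helper4.EffCartierDim1
open Groth.Agent.Lib.Helper4.Chev9 Groth.Agent.Lib.Helper4.Chev4
open Groth.Agent.Lib.Helper4.Chev10 Groth.Agent.Lib.Helper4.Chev11 Groth.Agent.Lib.Helper4.Chev3 Groth.Agent.Lib.Helper4.Equi1 Groth.Agent.Lib.Helper4.Equi2 Groth.Agent.Lib.Helper4.OpenAt1 Groth.Agent.Lib.Helper4.Equi3 Groth.Agent.Lib.Helper4.Equi4 Groth.Agent.Lib.Helper4.Equi5 Groth.Agent.Lib.Helper4.Equi6 Groth.Agent.Lib.Helper4.Equi7 Groth.Agent.Lib.Helper4.Aff1 Groth.Agent.Lib.Helper4.Aff2 Groth.Agent.Lib.Helper4.Equi10 Groth.Agent.Lib.Helper4.Val1 Groth.Agent.Lib.Helper4.BaseChg1 Groth.Agent.Lib.Helper4.UnivOpen1 Groth.Agent.Lib.Helper4.FibClosure1 Groth.Agent.Lib.Helper4.OpenNoeth1 Groth.Agent.Lib.Helper4.SecComp1 Groth.Agent.Lib.Helper4.SecComp2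
open Groth.Agent.Lib.Helper4.SecComp3 Groth.Agent.Lib.Helper4.PropDim1 Groth.Agent.Lib.Helper4.ZMTNormalPt1 Groth.Agent.Lib.Helper4.UO Groth.Agent.Lib.Helper4.UOp
open Groth.Agent.Lib.Helper4.ChevCrit1 Groth.Agent.Lib.Helper4.ChevCrit2 Groth.Agent.Lib.Helper4.ChevCrit3
open Groth.Agent.Lib.Helper4.IrrCompDomain1 Groth.Agent.Lib.Helper4.RadBir1
open Groth.Agent.Lib.Helper4.ChevCrit4
open Groth.Agent.Lib.Helper4.ChevCrit5
open Groth.Agent.Lib.Helper4.DedekindOpen1 Groth.Agent.Lib.Helper4.UnivOpenT1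
open Groth.Agent.Lib.Helper4.ChevCrit7
open Groth.Agent.Lib.Helper4.DvrFlat1 Groth.Agent.Lib.Helper4.FlatDimK1 Groth.Agent.Lib.Helper4.BaseChgMax1 Groth.Agent.Lib.Helper4.ProdDim1 Groth.Agent.Lib.Helper4.FibDimBC1 Groth.Agent.Lib.Helper4.FibMap1 Groth.Agent.Lib.Helper4.GenFib1 Groth.Agent.Lib.Helper4.EquiBC1 Groth.Agent.Lib.Helper4.GenEqui1 Groth.Agent.Lib.Helper4.LocNoethFib1 Groth.Agent.Lib.Helper4.FibDimBC2 Groth.Agent.Lib.Helper4.FibDimComp1 Groth.Agent.Lib.Helper4.HypDim1 Groth.Agent.Lib.Helper4.FFlatDelta1 Groth.Agent.Lib.Helper4.FTDim1 Groth.Agent.Lib.Helper4.IrrFib1 Groth.Agent.Lib.Helper4.FTDim2 Groth.Agent.Lib.Helper4.ProperImgDim1 Groth.Agent.Lib.Helper4.RangeDim1 Groth.Agent.Lib.Helper4.WellInt1 Groth.Agent.Lib.Helper4.WellInt2 Groth.Agent.Lib.Helper4.FibStrat1 Groth.Agent.Lib.Helper4.SmoothNormal1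

namespace Groth.Agent.Lib.Helper4.BirCurve1

theorem S14519_main (k : Type u) [Field k]
    (X Y : Scheme.{u}) (pX : X ⟶ Spec (CommRingCat.of k)) (pY : Y ⟶ Spec (CommRingCat.of k))
    [IsIntegral X] [IsSeparated pX] [LocallyOfFiniteType pX] [QuasiCompact pX] (hdimX : topologicalKrullDim X = 1)
    [IsIntegral Y] [IsSeparated pY] [LocallyOfFiniteType pY] [Smooth pY] (hdimY : topologicalKrullDim Y = 1)
    (f : X ⟶ Y) (hf : f ≫ pY = pX)
    (e : f (genericPoint X) = genericPoint Y)
    (hbir : Function.Bijective (Y.presheaf.stalkSpecializes (specializes_of_eq e) ≫ f.stalkMap (genericPoint X)).hom) :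
    IsOpenImmersion f := by
  haveI : LocallyOfFiniteType (f ≫ pY) := by rw [hf]; infer_instance
  haveI : LocallyOfFiniteType f := locallyOfFiniteType_of_comp f pY
  haveI : QuasiCompact (f ≫ pY) := by rw [hf]; infer_instance
  haveI : QuasiCompact f := QuasiCompact.of_comp f pY
  haveI : IsSeparated (f ≫ pY) := by rw [hf]; infer_instance
  haveI : IsSeparated f := IsSeparated.of_comp f pY
  have hN : ∀ y : Y, IsIntegrallyClosed (Y.presheaf.stalk y) :=
    fun y => isIntegrallyClosed_stalk_of_smooth k pY y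
  -- transcendence degrees
  have htX : tr pX (genericPoint X) = 1 := by
    have := dim_eq_tr_genericPoint k pX
    rw [hdimX] at this
    exact_mod_cast this.symm
  have htY : tr pY (genericPoint Y) = 1 := by
    have := dim_eq_tr_genericPoint k pY
    rw [hdimY] at this
    exact_mod_cast this.symm
  have hadd : ∀ x : X, tr pX x = tr pY (f x) + tr f x := by
    intro x
    have := Groth.Agent.Lib.Helper4.PropDim1.tr_comp f pY x
    have h2 : tr (f ≫ pY) x = tr pX x := by
      subst hf; rfl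
    rw [← h2]; exact this
  have hleX : ∀ x : X, tr pX x ≤ 1 := by
    intro x
    have := tr_le_dim k pX x
    rw [hdimX] at this
    exact_mod_cast this
  have htr0 : ∀ x : X, tr f x = 0 := by
    intro x
    have h1 := hadd x
    have h2 := hleX x
    by_cases hy : tr pY (f x) = 0
    · -- then x is closed
      by_contra hne
      have hx1 : tr pX x = 1 := by omega
      have hxgen : x = genericPoint X := by
        by_contra hxne
        have hsp : genericPoint X ⤳ x := (genericPoint_spec X).specializes (by trivial)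
        have := tr_lt_of_specializes_of_field k pX (genericPoint X) x hsp (Ne.symm hxne)
        omega
      rw [hxgen, e, htY] at hy
      omega
    · omega
  haveI : LocallyQuasiFinite f :=
    locallyQuasiFinite_iff_finite_preimage_singleton.mpr
      (fun y => finite_fibre_of_tr_eq_zero f y (fun x _ => htr0 x))
  have hiso : IsIso (f.stalkMap (genericPoint X)) := by
    have h1 : IsIso (Y.presheaf.stalkSpecializes (specializes_of_eq e) ≫ f.stalkMap (genericPoint X)) :=
      (ConcreteCategory.isIso_iff_bijective _).mpr hbir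
    have h2 : IsIso (Y.presheaf.stalkSpecializes (specializes_of_eq e)) := by
      have : Y.presheaf.stalkSpecializes (specializes_of_eq e) =
          (Y.presheaf.stalkCongr (Inseparable.of_eq e.symm)).hom := rfl
      rw [this]; infer_instance
    exact IsIso.of_isIso_comp_left (Y.presheaf.stalkSpecializes (specializes_of_eq e)) _
  exact (Groth.Agent.Lib.Helper4.ZMTBirational.S4809_main hN f e hiso).2 inferInstance

end Groth.Agent.Lib.Helper4.BirCurve1
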