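import Mathlib
import Groth.Prelude.Def_AlgGrp
import Groth.Agent.Lib.Helper4.Blanchard1
import Groth.Agent.Lib.Helper4.RigidProper1
import Groth.Agent.Lib.Helper4.GrpGeomInt1
import Groth.Agent.Lib.Helper4.Act1
import Groth.Agent.Lib.Helper7.GeomConn.GlobSec
import Groth.Agent.Lib.Helper1.RedOpenImm
import Groth.Agent.Lib.Helper1.SchImgRed

/-!
# Blanchard's lemma over any field (S14579): rigidity for product families S x V over an algebraically closed field, constancy on set-theoretic fibres via geometric points (helper4)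
-/

set_option backward.isDefEq.respectTransparency.types false
set_option synthInstance.maxHeartbeats 400000
set_option autoImplicit false
set_option linter.unusedSectionVars false
set_option linter.style.haveILetI false
set_option linter.unusedSimpArgs false
universe u v w
open CategoryTheory CategoryTheory.Limits AlgebraicGeometry TopologicalSpace Opposite
open MonoidalCategory CartesianMonoidalCategory MonObj GrpObj

namespace Groth.Agent.Lib.Helper4.Blanchard2

open Groth.Agent.Helper7.GeomConn in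
/-- a proper connected reduced scheme over an algebraically closed field has only constant
global functions -/
theorem isIso_appTop_of_proper_reduced_connected (Ω : Type u) [Field Ω] [IsAlgClosed Ω]
    (V : Scheme.{u}) (p : V ⟶ Spec (CommRingCat.of Ω)) [IsProper p] [IsReduced V]
    [ConnectedSpace V] : IsIso p.appTop := by
  letI a1 : Algebra Ω Γ(V, ⊤) := (toΓ Ω V p).toAlgebra
  haveI : Module.Finite Ω Γ(V, ⊤) := finite_globalSections Ω V p
  haveI : Nonempty ↥(⊤ : V.Opens) := by
    obtain ⟨x⟩ : Nonempty ↥V := inferInstance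
    exact ⟨⟨x, trivial⟩⟩
  haveI : Nontrivial Γ(V, ⊤) := inferInstance
  have h1 : Module.finrank Ω Γ(V, ⊤) = 1 :=
    finrank_eq_one_of_reduced_connected
      (fun e he => idempotent_trivial_of_connected V e he)
  have hb : Function.Bijective (algebraMap Ω Γ(V, ⊤)) :=
    Algebra.finrank_eq_one_iff_bijective_algebraMap.mp h1
  have hb' : Function.Bijective (toΓ Ω V p) := hb
  have hb'' : Function.Bijective p.appTop.hom := by
    have : (p.appTop.hom : _ → _) =
        (toΓ Ω V p) ∘ (Scheme.ΓSpecIso (CommRingCat.of Ω)).hom.hom := by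
      funext z
      simp only [toΓ, Function.comp, RingHom.comp_apply]
      congr 1
      exact (congrArg (fun φ => φ.hom z) (Scheme.ΓSpecIso (CommRingCat.of Ω)).hom_inv_id).symm
    rw [this]
    exact hb'.comp (ConcreteCategory.bijective_of_isIso (Scheme.ΓSpecIso (CommRingCat.of Ω)).hom)
  exact (ConcreteCategory.isIso_iff_bijective p.appTop).mpr hb''

/-- over a field, `IsIso appTop` gives `IsIso (app U)` for all opens `U` of the base -/
theorem isIso_app_all_of_field (Ω : Type u) [Field Ω] (V : Scheme.{u})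
    (p : V ⟶ Spec (CommRingCat.of Ω)) [IsIso p.appTop] (U : (Spec (CommRingCat.of Ω)).Opens) :
    IsIso (p.app U) := by
  haveI : Subsingleton ↥(Spec (CommRingCat.of Ω)) := inferInstanceAs (Subsingleton (PrimeSpectrum Ω))
  by_cases hU : U = ⊤
  · subst hU
    exact ‹IsIso p.appTop›
  · have hU' : U = ⊥ := by
      ext z
      simp only [Opens.coe_bot, Set.mem_empty_iff_false, iff_false]
      intro hz
      apply hU
      ext w
      simp only [Opens.coe_top, Set.mem_univ, iff_true]
      rwa [Subsingleton.elim w z]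
    subst hU'
    have hpre : p ⁻¹ᵁ (⊥ : (Spec (CommRingCat.of Ω)).Opens) = ⊥ := rfl
    haveI : Subsingleton Γ(V, p ⁻¹ᵁ (⊥ : (Spec (CommRingCat.of Ω)).Opens)) := by
      rw [hpre]; infer_instance
    rw [ConcreteCategory.isIso_iff_bijective]
    constructor
    · intro z w _
      exact Subsingleton.elim _ _
    · intro z
      exact ⟨0, Subsingleton.elim _ _⟩


open Groth.Agent.Lib.Helper4.Blanchard1 Groth.Agent.Lib.Helper4.RigidProper1 in
/-- rigidity for a product family `S ×_Ω V → S` over an algebraically closed field -/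
theorem rigidity_product (Ω : Type u) [Field Ω] [IsAlgClosed Ω] {S V Y' : Scheme.{u}}
    [IsLocallyNoetherian S] [ConnectedSpace S]
    (pΩ : S ⟶ Spec (CommRingCat.of Ω)) (vΩ : V ⟶ Spec (CommRingCat.of Ω)) [IsProper vΩ]
    [IsReduced V] [ConnectedSpace V]
    (gY : Y' ⟶ S) [IsSeparated gY] (π : pullback pΩ vΩ ⟶ Y') (hπ : π ≫ gY = pullback.fst pΩ vΩ)
    (e : Spec (CommRingCat.of Ω) ⟶ S) (c : Spec (CommRingCat.of Ω) ⟶ Y')
    (hc : pullback.fst (pullback.fst pΩ vΩ) e ≫ π = pullback.snd (pullback.fst pΩ vΩ) e ≫ c) :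
    ∃ σ : S ⟶ Y', π = pullback.fst pΩ vΩ ≫ σ := by
  haveI hsub : Subsingleton ↥(Spec (CommRingCat.of Ω)) :=
    inferInstanceAs (Subsingleton (PrimeSpectrum Ω))
  haveI : IsIso vΩ.appTop := isIso_appTop_of_proper_reduced_connected Ω V vΩ
  have hV : ∀ U : (Spec (CommRingCat.of Ω)).Opens, IsIso (vΩ.app U) :=
    isIso_app_all_of_field Ω V vΩ
  haveI : Surjective vΩ := by
    refine ⟨fun z => ?_⟩
    obtain ⟨v⟩ : Nonempty ↥V := inferInstance
    exact ⟨v, Subsingleton.elim _ _⟩
  haveI : Flat vΩ := inferInstance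
  have hall : ∀ (T : Scheme.{u}) (t : T ⟶ S) (U : T.Opens),
      IsIso ((pullback.snd (pullback.fst pΩ vΩ) t).app U) := by
    intro T t U
    haveI : Flat (t ≫ pΩ) := inferInstance
    have H : IsPullback (pullback.fst (pullback.fst pΩ vΩ) t ≫ pullback.snd pΩ vΩ)
        (pullback.snd (pullback.fst pΩ vΩ) t) vΩ (t ≫ pΩ) :=
      IsPullback.paste_horiz (IsPullback.of_hasPullback (pullback.fst pΩ vΩ) t)
        (IsPullback.of_hasPullback pΩ vΩ).flip
    exact isIso_app_of_flat_baseChange_all vΩ (t ≫ pΩ) _ _ H hV U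
  let pt : ↥(Spec (CommRingCat.of Ω)) := (⊥ : PrimeSpectrum Ω)
  obtain ⟨σ, -, hσ⟩ := rigidity_proper (pullback.fst pΩ vΩ) hall gY π hπ (e pt) (by
    intro z₁ z₂ hz₁ hz₂
    obtain ⟨w₁, hw₁, -⟩ := Scheme.Pullback.exists_preimage_pullback
      (f := pullback.fst pΩ vΩ) (g := e) z₁ pt hz₁
    obtain ⟨w₂, hw₂, -⟩ := Scheme.Pullback.exists_preimage_pullback
      (f := pullback.fst pΩ vΩ) (g := e) z₂ pt hz₂
    have k₁ : π z₁ = c pt := by
      rw [← hw₁, ← Scheme.Hom.comp_apply, hc, Scheme.Hom.comp_apply]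
      congr 1
      exact Subsingleton.elim _ _
    have k₂ : π z₂ = c pt := by
      rw [← hw₂, ← Scheme.Hom.comp_apply, hc, Scheme.Hom.comp_apply]
      congr 1
      exact Subsingleton.elim _ _
    rw [k₁, k₂])
  exact ⟨σ, hσ⟩


theorem nilradical_le_ker_of_isReduced {X Y : Scheme.{u}} [IsReduced X] (f : X ⟶ Y) :
    Y.nilradical ≤ f.ker := by
  rw [← Groth.Agent.Helper1.SchImgRed.ker_radical_of_isReduced f]
  intro U
  rw [Scheme.nilradical, Scheme.IdealSheafData.radical_ideal, Scheme.IdealSheafData.radical_ideal]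
  exact Ideal.radical_mono bot_le

section Main

variable {k : Type u} [Field k] {G X Y : Over (Spec (CommRingCat.of k))} [GrpObj G]
  [LocallyOfFiniteType G.hom] [ConnectedSpace ↥G.left] [IsSeparated Y.hom]
  (f : X ⟶ Y) [IsProper f.left] (hf : ∀ U : Y.left.Opens, IsIso (f.left.app U))
  (a : AlgGrp.Action G X)

include hf in
theorem act_eq_of_geomPts [IsLocallyNoetherian Y.left] (Ω : Type u) [Field Ω] [IsAlgClosed Ω]
    (g : Spec (CommRingCat.of Ω) ⟶ G.left) (x₁ x₂ : Spec (CommRingCat.of Ω) ⟶ X.left)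
    (h₁ : g ≫ G.hom = x₁ ≫ X.hom) (h₂ : g ≫ G.hom = x₂ ≫ X.hom)
    (hy : x₁ ≫ f.left = x₂ ≫ f.left) :
    pullback.lift g x₁ h₁ ≫ (a.act ≫ f).left = pullback.lift g x₂ h₂ ≫ (a.act ≫ f).left := by
  let o : Spec (CommRingCat.of Ω) ⟶ Spec (CommRingCat.of k) := g ≫ G.hom
  let y : Spec (CommRingCat.of Ω) ⟶ Y.left := x₁ ≫ f.left
  have hfY : f.left ≫ Y.hom = X.hom := Over.w f
  have hyo : y ≫ Y.hom = o := by
    change (x₁ ≫ f.left) ≫ Y.hom = g ≫ G.hom
    rw [Category.assoc, hfY, h₁]
  -- the group `S = G_Ω`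
  haveI : GeometricallyConnected G.hom :=
    Groth.Agent.Lib.Helper4.GrpGeomInt1.geometricallyConnected_of_connected G
  haveI : ConnectedSpace ↥(pullback G.hom o) :=
    GeometricallyConnected.geometrically_connectedSpace (f := G.hom) o _ _
      (IsPullback.of_hasPullback G.hom o)
  haveI : LocallyOfFiniteType (pullback.snd G.hom o) := inferInstance
  haveI : IsLocallyNoetherian (pullback G.hom o) :=
    LocallyOfFiniteType.isLocallyNoetherian (pullback.snd G.hom o)
  have hS : pullback.fst G.hom o ≫ G.hom = pullback.snd G.hom o ≫ o := pullback.condition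
  -- the reduced geometric fibre `V`
  haveI : GeometricallyConnected f.left :=
    Groth.Agent.Helper7.GeomConn.ZC.geometricallyConnected_of_isIso_app f.left hf
  haveI : ConnectedSpace ↥(pullback f.left y) :=
    GeometricallyConnected.geometrically_connectedSpace (f := f.left) y _ _
      (IsPullback.of_hasPullback f.left y)
  let ιV : (pullback f.left y).nilradical.subscheme ⟶ pullback f.left y :=
    (pullback f.left y).nilradical.subschemeι
  haveI : Surjective ιV := Groth.Agent.Helper1.RedOpenImm.surjective_nilradical_subschemeι _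
  haveI : IsReduced (pullback f.left y).nilradical.subscheme :=
    Groth.Agent.Helper1.RedOpenImm.isReduced_nilradical_subscheme _
  haveI : IsClosedImmersion ιV := inferInstanceAs (IsClosedImmersion (Scheme.IdealSheafData.subschemeι _))
  haveI : ConnectedSpace ↥(pullback f.left y).nilradical.subscheme := by
    let e := ιV.isClosedEmbedding.isEmbedding.toHomeomorphOfSurjective ιV.surjective
    exact e.symm.surjective.connectedSpace e.symm.continuous
  let vX : (pullback f.left y).nilradical.subscheme ⟶ X.left := ιV ≫ pullback.fst f.left y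
  let vΩ : (pullback f.left y).nilradical.subscheme ⟶ Spec (CommRingCat.of Ω) :=
    ιV ≫ pullback.snd f.left y
  haveI : IsProper vΩ := by
    change IsProper (ιV ≫ pullback.snd f.left y)
    infer_instance
  have hvX : vX ≫ f.left = vΩ ≫ y := by
    change (ιV ≫ pullback.fst f.left y) ≫ f.left = (ιV ≫ pullback.snd f.left y) ≫ y
    rw [Category.assoc, Category.assoc, pullback.condition]
  have hvXo : vX ≫ X.hom = vΩ ≫ o := by
    rw [← hfY, ← Category.assoc, hvX, Category.assoc, hyo]
  -- lifting the two geometric points to `V`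
  have hx₁y : x₁ ≫ f.left = 𝟙 _ ≫ y := (Category.id_comp _).symm
  have hx₂y : x₂ ≫ f.left = 𝟙 _ ≫ y := by rw [Category.id_comp]; exact hy.symm
  have hH₁ : ιV.ker ≤ (pullback.lift x₁ (𝟙 _) hx₁y).ker := by
    change (Scheme.IdealSheafData.subschemeι _).ker ≤ _
    rw [Scheme.IdealSheafData.ker_subschemeι]
    exact nilradical_le_ker_of_isReduced _
  have hH₂ : ιV.ker ≤ (pullback.lift x₂ (𝟙 _) hx₂y).ker := by
    change (Scheme.IdealSheafData.subschemeι _).ker ≤ _
    rw [Scheme.IdealSheafData.ker_subschemeι]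
    exact nilradical_le_ker_of_isReduced _
  let xh₁ : Spec (CommRingCat.of Ω) ⟶ (pullback f.left y).nilradical.subscheme :=
    IsClosedImmersion.lift ιV (pullback.lift x₁ (𝟙 _) hx₁y) hH₁
  let xh₂ : Spec (CommRingCat.of Ω) ⟶ (pullback f.left y).nilradical.subscheme :=
    IsClosedImmersion.lift ιV (pullback.lift x₂ (𝟙 _) hx₂y) hH₂
  have hxh₁X : xh₁ ≫ vX = x₁ := by
    change IsClosedImmersion.lift ιV _ hH₁ ≫ ιV ≫ pullback.fst f.left y = x₁
    rw [IsClosedImmersion.lift_fac_assoc, pullback.lift_fst]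
  have hxh₂X : xh₂ ≫ vX = x₂ := by
    change IsClosedImmersion.lift ιV _ hH₂ ≫ ιV ≫ pullback.fst f.left y = x₂
    rw [IsClosedImmersion.lift_fac_assoc, pullback.lift_fst]
  have hxh₁Ω : xh₁ ≫ vΩ = 𝟙 _ := by
    change IsClosedImmersion.lift ιV _ hH₁ ≫ ιV ≫ pullback.snd f.left y = 𝟙 _
    rw [IsClosedImmersion.lift_fac_assoc, pullback.lift_snd]
  have hxh₂Ω : xh₂ ≫ vΩ = 𝟙 _ := by
    change IsClosedImmersion.lift ιV _ hH₂ ≫ ιV ≫ pullback.snd f.left y = 𝟙 _
    rw [IsClosedImmersion.lift_fac_assoc, pullback.lift_snd]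
  have hgo : g ≫ G.hom = o := rfl
  have hx₁y' : x₁ ≫ f.left = y := rfl
  have hx₂y' : x₂ ≫ f.left = y := hy.symm
  clear_value xh₁ xh₂ vX vΩ
  clear hH₁ hH₂ hx₁y hx₂y
  clear_value ιV y o
  -- the family `X' = S ×_Ω V → S` and the map `π : X' → S ×_k Y`
  have hX' : pullback.fst (pullback.snd G.hom o) vΩ ≫ pullback.snd G.hom o =
      pullback.snd (pullback.snd G.hom o) vΩ ≫ vΩ := pullback.condition
  have hθ : (pullback.fst (pullback.snd G.hom o) vΩ ≫ pullback.fst G.hom o) ≫ G.hom =
      (pullback.snd (pullback.snd G.hom o) vΩ ≫ vX) ≫ X.hom := by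
    rw [Category.assoc, hS, ← Category.assoc, hX', Category.assoc, Category.assoc, hvXo]
  let θ : pullback (pullback.snd G.hom o) vΩ ⟶ (G ⊗ X).left :=
    pullback.lift (pullback.fst (pullback.snd G.hom o) vΩ ≫ pullback.fst G.hom o)
      (pullback.snd (pullback.snd G.hom o) vΩ ≫ vX) hθ
  have hθ₁ : θ ≫ pullback.fst G.hom X.hom =
      pullback.fst (pullback.snd G.hom o) vΩ ≫ pullback.fst G.hom o := pullback.lift_fst _ _ _
  have hθ₂ : θ ≫ pullback.snd G.hom X.hom =
      pullback.snd (pullback.snd G.hom o) vΩ ≫ vX := pullback.lift_snd _ _ _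
  let ψ : (G ⊗ X).left ⟶ Y.left := (a.act ≫ f).left
  have hψ : ψ ≫ Y.hom = pullback.fst G.hom X.hom ≫ G.hom := Over.w (a.act ≫ f)
  have hπ0 : pullback.fst (pullback.snd G.hom o) vΩ ≫ (pullback.fst G.hom o ≫ G.hom) =
      (θ ≫ ψ) ≫ Y.hom := by
    rw [Category.assoc, hψ, ← Category.assoc θ, hθ₁, Category.assoc]
  let π : pullback (pullback.snd G.hom o) vΩ ⟶ pullback (pullback.fst G.hom o ≫ G.hom) Y.hom :=
    pullback.lift (pullback.fst (pullback.snd G.hom o) vΩ) (θ ≫ ψ) hπ0
  have hπ₁ : π ≫ pullback.fst (pullback.fst G.hom o ≫ G.hom) Y.hom =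
      pullback.fst (pullback.snd G.hom o) vΩ := pullback.lift_fst _ _ _
  have hπ₂ : π ≫ pullback.snd (pullback.fst G.hom o ≫ G.hom) Y.hom = θ ≫ ψ :=
    pullback.lift_snd _ _ _
  -- the unit section `e` and the contraction of the fibre over it
  have he0 : (o ≫ η[G].left) ≫ G.hom = 𝟙 _ ≫ o := by
    rw [Category.assoc, Over.w η[G], Category.id_comp]
    exact Category.comp_id o
  let e : Spec (CommRingCat.of Ω) ⟶ pullback G.hom o := pullback.lift (o ≫ η[G].left) (𝟙 _) he0
  have he₁ : e ≫ pullback.fst G.hom o = o ≫ η[G].left := pullback.lift_fst _ _ _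
  have he₂ : e ≫ pullback.snd G.hom o = 𝟙 _ := pullback.lift_snd _ _ _
  clear_value e
  have hc0 : e ≫ (pullback.fst G.hom o ≫ G.hom) = y ≫ Y.hom := by
    rw [hS, ← Category.assoc, he₂, Category.id_comp, hyo]
  let c : Spec (CommRingCat.of Ω) ⟶ pullback (pullback.fst G.hom o ≫ G.hom) Y.hom :=
    pullback.lift e y hc0
  have hc₁ : c ≫ pullback.fst (pullback.fst G.hom o ≫ G.hom) Y.hom = e := pullback.lift_fst _ _ _
  have hc₂ : c ≫ pullback.snd (pullback.fst G.hom o ≫ G.hom) Y.hom = y := pullback.lift_snd _ _ _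
  clear_value c
  have hE : pullback.fst (pullback.fst (pullback.snd G.hom o) vΩ) e ≫
      pullback.fst (pullback.snd G.hom o) vΩ =
      pullback.snd (pullback.fst (pullback.snd G.hom o) vΩ) e ≫ e := pullback.condition
  have hEΩ : pullback.fst (pullback.fst (pullback.snd G.hom o) vΩ) e ≫
      pullback.snd (pullback.snd G.hom o) vΩ ≫ vΩ =
      pullback.snd (pullback.fst (pullback.snd G.hom o) vΩ) e := by
    rw [← hX', ← Category.assoc, hE, Category.assoc, he₂, Category.comp_id]
  have hc : pullback.fst (pullback.fst (pullback.snd G.hom o) vΩ) e ≫ π =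
      pullback.snd (pullback.fst (pullback.snd G.hom o) vΩ) e ≫ c := by
    refine pullback.hom_ext ?_ ?_
    · rw [Category.assoc, hπ₁, Category.assoc, hc₁, hE]
    · rw [Category.assoc, hπ₂, Category.assoc, hc₂]
      let v : pullback (pullback.fst (pullback.snd G.hom o) vΩ) e ⟶ X.left :=
        pullback.fst (pullback.fst (pullback.snd G.hom o) vΩ) e ≫
          pullback.snd (pullback.snd G.hom o) vΩ ≫ vX
      have hvo : v ≫ X.hom = pullback.snd (pullback.fst (pullback.snd G.hom o) vΩ) e ≫ o := by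
        change (_ ≫ _ ≫ vX) ≫ X.hom = _
        rw [Category.assoc, Category.assoc, hvXo, ← hEΩ]
        simp only [Category.assoc]
      let T : Over (Spec (CommRingCat.of k)) := Over.mk (v ≫ X.hom)
      let xT : T ⟶ X := Over.homMk v rfl
      have key := Groth.Agent.Helper4.Act.one_smul' a.act a.one_act xT
      have key' : (lift (1 : T ⟶ G) xT).left ≫ a.act.left = v :=
        congrArg (fun t => t.left) key
      have hθE : pullback.fst (pullback.fst (pullback.snd G.hom o) vΩ) e ≫ θ =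
          (lift (1 : T ⟶ G) xT).left := by
        refine pullback.hom_ext (f := G.hom) (g := X.hom) ?_ ?_
        · rw [Category.assoc, hθ₁, ← Category.assoc, hE, Category.assoc, he₁]
          have h1 : (lift (1 : T ⟶ G) xT).left ≫ pullback.fst G.hom X.hom =
              (lift (1 : T ⟶ G) xT ≫ fst G X).left := rfl
          rw [h1, lift_fst, Hom.one_def, Over.comp_left, Over.toUnit_left]
          change _ = (v ≫ X.hom) ≫ _
          rw [hvo, Category.assoc]
        · rw [Category.assoc, hθ₂]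
          have h1 : (lift (1 : T ⟶ G) xT).left ≫ pullback.snd G.hom X.hom =
              (lift (1 : T ⟶ G) xT ≫ snd G X).left := rfl
          rw [h1, lift_snd]
          rfl
      have hψ' : ψ = a.act.left ≫ f.left := rfl
      rw [hψ', ← Category.assoc θ, ← Category.assoc, ← Category.assoc, hθE, key']
      change (_ ≫ _ ≫ vX) ≫ f.left = _
      rw [Category.assoc, Category.assoc, hvX, ← hEΩ]
      simp only [Category.assoc]
  -- rigidity
  haveI : IsSeparated (pullback.fst (pullback.fst G.hom o ≫ G.hom) Y.hom) := inferInstance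
  obtain ⟨σ, hσ⟩ := rigidity_product Ω (pullback.snd G.hom o) vΩ
    (pullback.fst (pullback.fst G.hom o ≫ G.hom) Y.hom) π hπ₁ e c hc
  have hgΩ0 : g ≫ G.hom = 𝟙 _ ≫ o := by rw [Category.id_comp, hgo]
  let gΩ : Spec (CommRingCat.of Ω) ⟶ pullback G.hom o := pullback.lift g (𝟙 _) hgΩ0
  have hgΩ₁ : gΩ ≫ pullback.fst G.hom o = g := pullback.lift_fst _ _ _
  have hgΩ₂ : gΩ ≫ pullback.snd G.hom o = 𝟙 _ := pullback.lift_snd _ _ _
  clear_value gΩ
  have key : ∀ (x : Spec (CommRingCat.of Ω) ⟶ X.left)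
      (xh : Spec (CommRingCat.of Ω) ⟶ (pullback f.left y).nilradical.subscheme)
      (hx : g ≫ G.hom = x ≫ X.hom) (hxX : xh ≫ vX = x) (hxΩ : xh ≫ vΩ = 𝟙 _),
      pullback.lift g x hx ≫ ψ =
        gΩ ≫ σ ≫ pullback.snd (pullback.fst G.hom o ≫ G.hom) Y.hom := by
    intro x xh hx hxX hxΩ
    have hz0 : gΩ ≫ pullback.snd G.hom o = xh ≫ vΩ := by rw [hgΩ₂, hxΩ]
    let z : Spec (CommRingCat.of Ω) ⟶ pullback (pullback.snd G.hom o) vΩ :=
      pullback.lift gΩ xh hz0
    have hz₁ : z ≫ pullback.fst (pullback.snd G.hom o) vΩ = gΩ := pullback.lift_fst _ _ _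
    have hz₂ : z ≫ pullback.snd (pullback.snd G.hom o) vΩ = xh := pullback.lift_snd _ _ _
    clear_value z
    have hzθ : z ≫ θ = pullback.lift g x hx := by
      refine pullback.hom_ext (f := G.hom) (g := X.hom) ?_ ?_
      · rw [Category.assoc, hθ₁, ← Category.assoc, hz₁, hgΩ₁, pullback.lift_fst]
      · rw [Category.assoc, hθ₂, ← Category.assoc, hz₂, hxX, pullback.lift_snd]
    rw [← hzθ, Category.assoc, ← hπ₂, hσ, Category.assoc, ← Category.assoc z, hz₁]
  exact (key x₁ xh₁ h₁ hxh₁X hxh₁Ω).trans (key x₂ xh₂ h₂ hxh₂X hxh₂Ω).symm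



include hf in
theorem const_on_fibres [IsLocallyNoetherian Y.left] (p q : ↥(G ⊗ X).left)
    (hpq : (G ◁ f).left.base p = (G ◁ f).left.base q) :
    (a.act ≫ f).left.base p = (a.act ≫ f).left.base q := by
  obtain ⟨r₀, hr₁, hr₂⟩ := Scheme.Pullback.exists_preimage_pullback
    (f := (G ◁ f).left) (g := (G ◁ f).left) p q hpq
  let Ω := AlgebraicClosure ((pullback (G ◁ f).left (G ◁ f).left).residueField r₀)
  let pt : Spec (CommRingCat.of Ω) ⟶ pullback (G ◁ f).left (G ◁ f).left :=
    Spec.map (CommRingCat.ofHom (algebraMap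
      ((pullback (G ◁ f).left (G ◁ f).left).residueField r₀) Ω)) ≫
      (pullback (G ◁ f).left (G ◁ f).left).fromSpecResidueField r₀
  let z₀ : ↥(Spec (CommRingCat.of Ω)) := (⊥ : PrimeSpectrum Ω)
  have hpt : pt z₀ = r₀ := by
    simp only [pt, Scheme.Hom.comp_apply]
    exact Scheme.fromSpecResidueField_apply _ _
  clear_value pt
  let P : Spec (CommRingCat.of Ω) ⟶ (G ⊗ X).left := pt ≫ pullback.fst (G ◁ f).left (G ◁ f).left
  let Q : Spec (CommRingCat.of Ω) ⟶ (G ⊗ X).left := pt ≫ pullback.snd (G ◁ f).left (G ◁ f).left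
  have hPz : P z₀ = p := by
    simp only [P, Scheme.Hom.comp_apply]
    rw [hpt, hr₁]
  have hQz : Q z₀ = q := by
    simp only [Q, Scheme.Hom.comp_apply]
    rw [hpt, hr₂]
  have hPQ : P ≫ (G ◁ f).left = Q ≫ (G ◁ f).left := by
    change (pt ≫ _) ≫ _ = (pt ≫ _) ≫ _
    rw [Category.assoc, Category.assoc, pullback.condition]
  clear_value P Q
  have hF₁ : (G ◁ f).left ≫ pullback.fst G.hom Y.hom = pullback.fst G.hom X.hom :=
    congrArg (fun t => t.left) (whiskerLeft_fst G f)
  have hF₂ : (G ◁ f).left ≫ pullback.snd G.hom Y.hom = pullback.snd G.hom X.hom ≫ f.left :=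
    congrArg (fun t => t.left) (whiskerLeft_snd G f)
  have hg : P ≫ pullback.fst G.hom X.hom = Q ≫ pullback.fst G.hom X.hom := by
    rw [← hF₁, ← Category.assoc, hPQ, Category.assoc]
  have hc : pullback.fst G.hom X.hom ≫ G.hom = pullback.snd G.hom X.hom ≫ X.hom :=
    pullback.condition
  have h₁ : (P ≫ pullback.fst G.hom X.hom) ≫ G.hom = (P ≫ pullback.snd G.hom X.hom) ≫ X.hom := by
    rw [Category.assoc, Category.assoc, hc]
  have h₂ : (P ≫ pullback.fst G.hom X.hom) ≫ G.hom = (Q ≫ pullback.snd G.hom X.hom) ≫ X.hom := by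
    rw [hg, Category.assoc, Category.assoc, hc]
  have hy : (P ≫ pullback.snd G.hom X.hom) ≫ f.left = (Q ≫ pullback.snd G.hom X.hom) ≫ f.left := by
    rw [Category.assoc, Category.assoc, ← hF₂, ← Category.assoc, hPQ, Category.assoc]
  have hP : pullback.lift (P ≫ pullback.fst G.hom X.hom) (P ≫ pullback.snd G.hom X.hom) h₁ = P := by
    refine pullback.hom_ext (f := G.hom) (g := X.hom) ?_ ?_
    · rw [pullback.lift_fst]
    · rw [pullback.lift_snd]
  have hQ : pullback.lift (P ≫ pullback.fst G.hom X.hom) (Q ≫ pullback.snd G.hom X.hom) h₂ = Q := by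
    refine pullback.hom_ext (f := G.hom) (g := X.hom) ?_ ?_
    · rw [pullback.lift_fst, hg]
    · rw [pullback.lift_snd]
  have main := act_eq_of_geomPts f hf a Ω _ _ _ h₁ h₂ hy
  rw [hP, hQ] at main
  have h3 := congrArg (fun t : Spec (CommRingCat.of Ω) ⟶ Y.left => t z₀) main
  simp only [Scheme.Hom.comp_apply] at h3
  rw [hPz, hQz] at h3
  exact h3

end Main

/-- **S14579** -/
theorem main_S14579 (k : Type u) [Field k]
    (G X Y : Over (Spec (CommRingCat.of k))) [GrpObj G] [LocallyOfFiniteType G.hom] [QuasiCompact G.hom]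
    [ConnectedSpace ↥G.left] [LocallyOfFiniteType X.hom] [QuasiCompact X.hom] [IsSeparated X.hom]
    [LocallyOfFiniteType Y.hom] [QuasiCompact Y.hom] [IsSeparated Y.hom]
    (f : X ⟶ Y) [IsProper f.left] (hf : ∀ U : Y.left.Opens, IsIso (f.left.app U))
    (a : AlgGrp.Action G X) :
    ∃! b : AlgGrp.Action G Y, (G ◁ f) ≫ b.act = a.act ≫ f := by
  haveI : IsLocallyNoetherian Y.left := LocallyOfFiniteType.isLocallyNoetherian Y.hom
  obtain ⟨b, hb⟩ := Groth.Agent.Lib.Helper4.Blanchard1.exists_action_of_const f hf a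
    (const_on_fibres f hf a)
  refine ⟨b, hb, ?_⟩
  intro b' hb'
  haveI := Groth.Agent.Lib.Helper4.Blanchard1.wl_epi f hf G
  have hact : b'.act = b.act := by
    rw [← cancel_epi (G ◁ f), hb, hb']
  cases b
  cases b'
  simp only at hact
  subst hact
  rfl

end Groth.Agent.Lib.Helper4.Blanchard2
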