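import Mathlib
import Groth.Prelude.Def_AlgGrp
import Groth.Agent.Lib.Helper4.Blanchard2

/-!
# Blanchard's lemma without separatedness (S11394): set-theoretic rigidity with arbitrary target (local affine argument + Zariski connectedness of fibres) (helper4)
-/

set_option backward.isDefEq.respectTransparency.types false
set_option synthInstance.maxHeartbeats 400000
set_option autoImplicit false
set_option linter.unusedSectionVars false
set_option linter.style.haveILetI false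
set_option linter.unusedSimpArgs false
universe u v w
open CategoryTheory CategoryTheory.Limits AlgebraicGeometry TopologicalSpace Opposite
open MonoidalCategory CartesianMonoidalCategory MonObj GrpObj
open Groth.Agent.Lib.Helper4.Blanchard1 Groth.Agent.Lib.Helper4.RigidProper1
open Groth.Agent.Lib.Helper4.Blanchard2

namespace Groth.Agent.Lib.Helper4.Blanchard3

/-- constancy on fibres is stable under specialization; separated target, `τ`-free form. -/
theorem const_of_specializes' {X Y S : Scheme.{u}} [IsLocallyNoetherian S] (f : X ⟶ S) [Flat f]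
    [Y.IsSeparated] (π : X ⟶ Y) {ξ s₀ : S} (hsp : ξ ⤳ s₀)
    (U : S.Opens) (hξU : ξ ∈ U)
    (hU : ∀ (W' : Scheme.{u}) (w w' : W' ⟶ X), w ≫ f = w' ≫ f → (∀ z : W', f (w z) ∈ U) →
      w ≫ π = w' ≫ π)
    (x₁ x₂ : X) (h₁ : f x₁ = s₀) (h₂ : f x₂ = s₀) : π x₁ = π x₂ := by
  obtain ⟨𝔭, h𝔭⟩ : ξ ∈ Set.range (S.fromSpecStalk s₀) := by
    rw [Scheme.range_fromSpecStalk]; exact hsp
  haveI : 𝔭.asIdeal.IsPrime := 𝔭.isPrime
  let A := (S.presheaf.stalk s₀) ⧸ 𝔭.asIdeal
  let c : Spec (CommRingCat.of A) ⟶ Spec (S.presheaf.stalk s₀) :=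
    Spec.map (CommRingCat.ofHom (Ideal.Quotient.mk 𝔭.asIdeal))
  let j : Spec (CommRingCat.of A) ⟶ S := c ≫ S.fromSpecStalk s₀
  have hrange : ∀ q : Spec (S.presheaf.stalk s₀), 𝔭.asIdeal ≤ q.asIdeal →
      ∃ t : Spec (CommRingCat.of A), c t = q := by
    intro q hq
    have h1 : q ∈ Set.range (PrimeSpectrum.comap (Ideal.Quotient.mk 𝔭.asIdeal)) := by
      rw [_root_.range_comap_of_surjective _ _ Ideal.Quotient.mk_surjective, Ideal.mk_ker]
      exact hq
    obtain ⟨t, ht⟩ := h1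
    exact ⟨t, ht⟩
  obtain ⟨t₁, ht₁⟩ := hrange 𝔭 le_rfl
  obtain ⟨t₀, ht₀⟩ := hrange (IsLocalRing.closedPoint (S.presheaf.stalk s₀))
    (IsLocalRing.le_maximalIdeal 𝔭.isPrime.ne_top)
  have hjt₁ : j t₁ = ξ := by
    change (c ≫ S.fromSpecStalk s₀) t₁ = ξ
    rw [Scheme.Hom.comp_apply, ht₁, h𝔭]
  have hjt₀ : j t₀ = s₀ := by
    change (c ≫ S.fromSpecStalk s₀) t₀ = s₀
    rw [Scheme.Hom.comp_apply, ht₀, Scheme.fromSpecStalk_closedPoint]
  haveI : IsDomain (CommRingCat.of A) := inferInstanceAs (IsDomain A)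
  haveI : IsNoetherianRing (CommRingCat.of A) := inferInstanceAs (IsNoetherianRing A)
  haveI : IsIntegral (Spec (CommRingCat.of A)) := inferInstance
  haveI : IsLocallyNoetherian (Spec (CommRingCat.of A)) := inferInstance
  let UT : (Spec (CommRingCat.of A)).Opens := j ⁻¹ᵁ U
  have ht₁U : t₁ ∈ UT := by
    change j t₁ ∈ U
    rw [hjt₁]; exact hξU
  haveI : IsDominant UT.ι := by
    refine ⟨?_⟩
    rw [DenseRange, Scheme.Opens.range_ι]
    exact UT.isOpen.dense ⟨t₁, ht₁U⟩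
  haveI : IsSchemeTheoreticallyDominant UT.ι := .of_isDominant _
  let h := pullback.snd f j
  let q₁ := pullback.fst h h
  let q₂ := pullback.snd h h
  let r := q₁ ≫ h
  haveI : Flat h := inferInstance
  haveI : Flat q₁ := inferInstance
  haveI : Flat r := inferInstance
  let W := r ⁻¹ᵁ UT
  haveI : IsSchemeTheoreticallyDominant W.ι :=
    IsSchemeTheoreticallyDominant.of_isPullback (isPullback_morphismRestrict r UT)
  let a₁ := q₁ ≫ pullback.fst f j ≫ π
  let a₂ := q₂ ≫ pullback.fst f j ≫ π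
  have hq : q₁ ≫ h = q₂ ≫ h := pullback.condition
  have hfj : pullback.fst f j ≫ f = h ≫ j := pullback.condition
  have hw₁₂ : (W.ι ≫ q₁ ≫ pullback.fst f j) ≫ f = (W.ι ≫ q₂ ≫ pullback.fst f j) ≫ f := by
    simp only [Category.assoc, hfj]
    rw [← Category.assoc q₁, hq, Category.assoc]
  have hU' : W.ι ≫ a₁ = W.ι ≫ a₂ := by
    have := hU W (W.ι ≫ q₁ ≫ pullback.fst f j) (W.ι ≫ q₂ ≫ pullback.fst f j) hw₁₂ (by
      intro z
      have h1 : f ((W.ι ≫ q₁ ≫ pullback.fst f j) z) = j (r (W.ι z)) := by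
        rw [← Scheme.Hom.comp_apply, Category.assoc, Category.assoc, hfj]
        simp only [Scheme.Hom.comp_apply, r]
      rw [h1]
      exact z.2)
    simpa only [Category.assoc, a₁, a₂] using this
  have hEq : a₁ = a₂ :=
    ext_of_isSchemeTheoreticallyDominant (terminal.from Y) (terminal.hom_ext _ _) W.ι hU'
  obtain ⟨z₁, hz₁x, hz₁t⟩ := Scheme.Pullback.exists_preimage_pullback (f := f) (g := j) x₁ t₀
    (h₁.trans hjt₀.symm)
  obtain ⟨z₂, hz₂x, hz₂t⟩ := Scheme.Pullback.exists_preimage_pullback (f := f) (g := j) x₂ t₀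
    (h₂.trans hjt₀.symm)
  obtain ⟨w, hw1, hw2⟩ := Scheme.Pullback.exists_preimage_pullback (f := h) (g := h) z₁ z₂
    (hz₁t.trans hz₂t.symm)
  have e₁ : a₁ w = π x₁ := by
    change (q₁ ≫ pullback.fst f j ≫ π) w = π x₁
    rw [Scheme.Hom.comp_apply, Scheme.Hom.comp_apply, hw1, hz₁x]
  have e₂ : a₂ w = π x₂ := by
    change (q₂ ≫ pullback.fst f j ≫ π) w = π x₂
    rw [Scheme.Hom.comp_apply, Scheme.Hom.comp_apply, hw2, hz₂x]
  rw [← e₁, ← e₂, hEq]


/-- set-theoretic rigidity, no separatedness of the target -/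
theorem rigidity_set {X Y S : Scheme.{u}} [IsLocallyNoetherian S] [ConnectedSpace S]
    (f : X ⟶ S) [IsProper f] [Flat f] [Surjective f]
    (hf : ∀ U : S.Opens, IsIso (f.app U))
    (hall : ∀ (T : Scheme.{u}) (g : T ⟶ S) (U : T.Opens), IsIso ((pullback.snd f g).app U))
    (ψ : X ⟶ Y) (s : S)
    (hs : ∀ x₁ x₂ : X, f x₁ = s → f x₂ = s → ψ x₁ = ψ x₂) :
    ∀ (s' : S) (x₁ x₂ : X), f x₁ = s' → f x₂ = s' → ψ x₁ = ψ x₂ := by
  let Sg : Set S := {s | ∀ x₁ x₂ : X, f x₁ = s → f x₂ = s → ψ x₁ = ψ x₂}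
  have hloc : ∀ s ∈ Sg, ∃ (U : S.Opens) (τ : (U : Scheme.{u}) ⟶ Y), s ∈ U ∧ FacOn f ψ U τ := by
    intro s hs
    obtain ⟨x₀, hx₀⟩ := f.surjective s
    exact exists_facOn_near f hall ψ s x₀ (fun x hx => hs x x₀ hx hx₀)
  have hsub : ∀ (U : S.Opens) (τ : (U : Scheme.{u}) ⟶ Y), FacOn f ψ U τ → (U : Set S) ⊆ Sg := by
    intro U τ hτ s' hs' x₁ x₂ h₁ h₂
    have e₁ := hτ.apply x₁ (by rw [h₁]; exact hs')
    have e₂ := hτ.apply x₂ (by rw [h₂]; exact hs')
    rw [e₁, e₂]
    congr 1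
    exact Subtype.ext (h₁.trans h₂.symm)
  have hopen : IsOpen Sg := by
    rw [isOpen_iff_forall_mem_open]
    intro s hs
    obtain ⟨U, τ, hsU, hτ⟩ := hloc s hs
    exact ⟨U, hsub U τ hτ, U.isOpen, hsU⟩
  have hspec : StableUnderSpecialization Sg := by
    intro ξ s₀ hsp hξ
    obtain ⟨U, τ, hξU, hτ⟩ := hloc ξ hξ
    have claimA : ∀ (Y₁ : Y.Opens), IsAffineOpen Y₁ → ∀ x₁ x₂ : X, f x₁ = s₀ → f x₂ = s₀ →
        ψ x₁ ∈ Y₁ → ψ x₂ ∈ Y₁ → ψ x₁ = ψ x₂ := by
      intro Y₁ hY₁ x₁ x₂ h₁ h₂ m₁ m₂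
      haveI : IsAffine (Y₁ : Scheme.{u}) := hY₁
      have key := const_of_specializes' ((ψ ⁻¹ᵁ Y₁).ι ≫ f) (ψ ∣_ Y₁) hsp U hξU (by
          intro W' w w' hww' hwU
          rw [← cancel_mono Y₁.ι, Category.assoc, Category.assoc, morphismRestrict_ι]
          have hrange : Set.range (w ≫ (ψ ⁻¹ᵁ Y₁).ι ≫ f) ⊆ Set.range U.ι := by
            rintro _ ⟨z, rfl⟩
            rw [Scheme.Opens.range_ι]
            exact hwU z
          let u := IsOpenImmersion.lift U.ι (w ≫ (ψ ⁻¹ᵁ Y₁).ι ≫ f) hrange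
          have hu : u ≫ U.ι = w ≫ (ψ ⁻¹ᵁ Y₁).ι ≫ f := IsOpenImmersion.lift_fac _ _ _
          have e₁ := hτ.eq (w ≫ (ψ ⁻¹ᵁ Y₁).ι) u (by rw [Category.assoc, hu])
          have e₂ := hτ.eq (w' ≫ (ψ ⁻¹ᵁ Y₁).ι) u (by rw [Category.assoc, hu]; exact hww'.symm)
          rw [← Category.assoc, ← Category.assoc, e₁, e₂])
        ⟨x₁, m₁⟩ ⟨x₂, m₂⟩ h₁ h₂
      have h3 := congrArg (fun z => Y₁.ι z) key
      simp only [← Scheme.Hom.comp_apply, morphismRestrict_ι] at h3
      exact h3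
    intro x₁ x₂ h₁ h₂
    obtain ⟨_, ⟨(W : S.Opens), hW, rfl⟩, hs₀W, -⟩ :=
      S.isBasis_affineOpens.exists_subset_of_mem_open (Set.mem_univ s₀) isOpen_univ
    have hpc : _root_.IsPreconnected (f ⁻¹' {s₀}) :=
      Groth.Agent.Helper7.GeomConn.ZC.isPreconnected_preimage_singleton f s₀ W hW hs₀W (hf W)
    haveI : PreconnectedSpace ↥(f ⁻¹' {s₀}) := Subtype.preconnectedSpace hpc
    let g : ↥(f ⁻¹' {s₀}) → Y := fun x => ψ x.1
    have hg : IsLocallyConstant g := by
      rw [IsLocallyConstant.iff_exists_open]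
      intro x
      obtain ⟨_, ⟨(Y₁ : Y.Opens), hY₁, rfl⟩, hxY₁, -⟩ :=
        Y.isBasis_affineOpens.exists_subset_of_mem_open (Set.mem_univ (ψ x.1)) isOpen_univ
      refine ⟨Subtype.val ⁻¹' (ψ ⁻¹ᵁ Y₁ : Set X),
        (ψ ⁻¹ᵁ Y₁).isOpen.preimage continuous_subtype_val, hxY₁, ?_⟩
      intro x' hx'
      exact claimA Y₁ hY₁ x'.1 x.1 x'.2 x.2 hx' hxY₁
    exact hg.apply_eq_of_preconnectedSpace ⟨x₁, h₁⟩ ⟨x₂, h₂⟩
  have hclosed := isClosed_of_isOpen_of_stableUnderSpecialization Sg hopen hspec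
  have huniv : Sg = Set.univ := IsClopen.eq_univ ⟨hclosed, hopen⟩ ⟨s, hs⟩
  intro s' x₁ x₂ h₁ h₂
  have : s' ∈ Sg := by rw [huniv]; trivial
  exact this x₁ x₂ h₁ h₂


/-- set-theoretic rigidity for a product family `S ×_Ω V → S`, arbitrary target -/
theorem rigidity_product_set (Ω : Type u) [Field Ω] [IsAlgClosed Ω] {S V Y : Scheme.{u}}
    [IsLocallyNoetherian S] [ConnectedSpace S]
    (pΩ : S ⟶ Spec (CommRingCat.of Ω)) (vΩ : V ⟶ Spec (CommRingCat.of Ω)) [IsProper vΩ]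
    [IsReduced V] [ConnectedSpace V]
    (ψ : pullback pΩ vΩ ⟶ Y)
    (e : Spec (CommRingCat.of Ω) ⟶ S) (c : Spec (CommRingCat.of Ω) ⟶ Y)
    (hc : pullback.fst (pullback.fst pΩ vΩ) e ≫ ψ = pullback.snd (pullback.fst pΩ vΩ) e ≫ c) :
    ∀ (s : S) (z₁ z₂ : ↥(pullback pΩ vΩ)), pullback.fst pΩ vΩ z₁ = s → pullback.fst pΩ vΩ z₂ = s →
      ψ z₁ = ψ z₂ := by
  haveI hsub : Subsingleton ↥(Spec (CommRingCat.of Ω)) :=
    inferInstanceAs (Subsingleton (PrimeSpectrum Ω))
  haveI : IsIso vΩ.appTop := isIso_appTop_of_proper_reduced_connected Ω V vΩ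
  have hV : ∀ U : (Spec (CommRingCat.of Ω)).Opens, IsIso (vΩ.app U) :=
    isIso_app_all_of_field Ω V vΩ
  haveI : Surjective vΩ := by
    refine ⟨fun z => ?_⟩
    obtain ⟨v⟩ : Nonempty ↥V := inferInstance
    exact ⟨v, Subsingleton.elim _ _⟩
  haveI : Flat vΩ := inferInstance
  have hall : ∀ (T : Scheme.{u}) (t : T ⟶ S) (U : T.Opens),
      IsIso ((pullback.snd (pullback.fst pΩ vΩ) t).app U) := by
    intro T t U
    haveI : Flat (t ≫ pΩ) := inferInstance
    have H : IsPullback (pullback.fst (pullback.fst pΩ vΩ) t ≫ pullback.snd pΩ vΩ)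
        (pullback.snd (pullback.fst pΩ vΩ) t) vΩ (t ≫ pΩ) :=
      IsPullback.paste_horiz (IsPullback.of_hasPullback (pullback.fst pΩ vΩ) t)
        (IsPullback.of_hasPullback pΩ vΩ).flip
    exact isIso_app_of_flat_baseChange_all vΩ (t ≫ pΩ) _ _ H hV U
  have hf' : ∀ U : S.Opens, IsIso ((pullback.fst pΩ vΩ).app U) := by
    intro U
    haveI : Flat pΩ := inferInstance
    exact isIso_app_of_flat_baseChange_all vΩ pΩ _ _ (IsPullback.of_hasPullback pΩ vΩ).flip hV U
  let pt : ↥(Spec (CommRingCat.of Ω)) := (⊥ : PrimeSpectrum Ω)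
  refine rigidity_set (pullback.fst pΩ vΩ) hf' hall ψ (e pt) ?_
  intro z₁ z₂ hz₁ hz₂
  obtain ⟨w₁, hw₁, -⟩ := Scheme.Pullback.exists_preimage_pullback
    (f := pullback.fst pΩ vΩ) (g := e) z₁ pt hz₁
  obtain ⟨w₂, hw₂, -⟩ := Scheme.Pullback.exists_preimage_pullback
    (f := pullback.fst pΩ vΩ) (g := e) z₂ pt hz₂
  have k₁ : ψ z₁ = c pt := by
    rw [← hw₁, ← Scheme.Hom.comp_apply, hc, Scheme.Hom.comp_apply]
    congr 1
    exact Subsingleton.elim _ _
  have k₂ : ψ z₂ = c pt := by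
    rw [← hw₂, ← Scheme.Hom.comp_apply, hc, Scheme.Hom.comp_apply]
    congr 1
    exact Subsingleton.elim _ _
  rw [k₁, k₂]

section Main

variable {k : Type u} [Field k] {G X Y : Over (Spec (CommRingCat.of k))} [GrpObj G]
  [LocallyOfFiniteType G.hom] [ConnectedSpace ↥G.left]
  (f : X ⟶ Y) [IsProper f.left] (hf : ∀ U : Y.left.Opens, IsIso (f.left.app U))
  (a : AlgGrp.Action G X)

include hf in
theorem act_pt_eq_of_geomPts [IsLocallyNoetherian Y.left] (Ω : Type u) [Field Ω] [IsAlgClosed Ω]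
    (g : Spec (CommRingCat.of Ω) ⟶ G.left) (x₁ x₂ : Spec (CommRingCat.of Ω) ⟶ X.left)
    (h₁ : g ≫ G.hom = x₁ ≫ X.hom) (h₂ : g ≫ G.hom = x₂ ≫ X.hom)
    (hy : x₁ ≫ f.left = x₂ ≫ f.left) :
    ∀ z₀ : ↥(Spec (CommRingCat.of Ω)), (pullback.lift g x₁ h₁ ≫ (a.act ≫ f).left) z₀ =
      (pullback.lift g x₂ h₂ ≫ (a.act ≫ f).left) z₀ := by
  let o : Spec (CommRingCat.of Ω) ⟶ Spec (CommRingCat.of k) := g ≫ G.hom
  let y : Spec (CommRingCat.of Ω) ⟶ Y.left := x₁ ≫ f.left
  have hfY : f.left ≫ Y.hom = X.hom := Over.w f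
  have hyo : y ≫ Y.hom = o := by
    change (x₁ ≫ f.left) ≫ Y.hom = g ≫ G.hom
    rw [Category.assoc, hfY, h₁]
  -- the group `S = G_Ω`
  haveI : GeometricallyConnected G.hom :=
    Groth.Agent.Lib.Helper4.GrpGeomInt1.geometricallyConnected_of_connected G
  haveI : ConnectedSpace ↥(pullback G.hom o) :=
    GeometricallyConnected.geometrically_connectedSpace (f := G.hom) o _ _
      (IsPullback.of_hasPullback G.hom o)
  haveI : LocallyOfFiniteType (pullback.snd G.hom o) := inferInstance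
  haveI : IsLocallyNoetherian (pullback G.hom o) :=
    LocallyOfFiniteType.isLocallyNoetherian (pullback.snd G.hom o)
  have hS : pullback.fst G.hom o ≫ G.hom = pullback.snd G.hom o ≫ o := pullback.condition
  -- the reduced geometric fibre `V`
  haveI : GeometricallyConnected f.left :=
    Groth.Agent.Helper7.GeomConn.ZC.geometricallyConnected_of_isIso_app f.left hf
  haveI : ConnectedSpace ↥(pullback f.left y) :=
    GeometricallyConnected.geometrically_connectedSpace (f := f.left) y _ _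
      (IsPullback.of_hasPullback f.left y)
  let ιV : (pullback f.left y).nilradical.subscheme ⟶ pullback f.left y :=
    (pullback f.left y).nilradical.subschemeι
  haveI : Surjective ιV := Groth.Agent.Helper1.RedOpenImm.surjective_nilradical_subschemeι _
  haveI : IsReduced (pullback f.left y).nilradical.subscheme :=
    Groth.Agent.Helper1.RedOpenImm.isReduced_nilradical_subscheme _
  haveI : IsClosedImmersion ιV := inferInstanceAs (IsClosedImmersion (Scheme.IdealSheafData.subschemeι _))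
  haveI : ConnectedSpace ↥(pullback f.left y).nilradical.subscheme := by
    let e := ιV.isClosedEmbedding.isEmbedding.toHomeomorphOfSurjective ιV.surjective
    exact e.symm.surjective.connectedSpace e.symm.continuous
  let vX : (pullback f.left y).nilradical.subscheme ⟶ X.left := ιV ≫ pullback.fst f.left y
  let vΩ : (pullback f.left y).nilradical.subscheme ⟶ Spec (CommRingCat.of Ω) :=
    ιV ≫ pullback.snd f.left y
  haveI : IsProper vΩ := by
    change IsProper (ιV ≫ pullback.snd f.left y)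
    infer_instance
  have hvX : vX ≫ f.left = vΩ ≫ y := by
    change (ιV ≫ pullback.fst f.left y) ≫ f.left = (ιV ≫ pullback.snd f.left y) ≫ y
    rw [Category.assoc, Category.assoc, pullback.condition]
  have hvXo : vX ≫ X.hom = vΩ ≫ o := by
    rw [← hfY, ← Category.assoc, hvX, Category.assoc, hyo]
  -- lifting the two geometric points to `V`
  have hx₁y : x₁ ≫ f.left = 𝟙 _ ≫ y := (Category.id_comp _).symm
  have hx₂y : x₂ ≫ f.left = 𝟙 _ ≫ y := by rw [Category.id_comp]; exact hy.symm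
  have hH₁ : ιV.ker ≤ (pullback.lift x₁ (𝟙 _) hx₁y).ker := by
    change (Scheme.IdealSheafData.subschemeι _).ker ≤ _
    rw [Scheme.IdealSheafData.ker_subschemeι]
    exact nilradical_le_ker_of_isReduced _
  have hH₂ : ιV.ker ≤ (pullback.lift x₂ (𝟙 _) hx₂y).ker := by
    change (Scheme.IdealSheafData.subschemeι _).ker ≤ _
    rw [Scheme.IdealSheafData.ker_subschemeι]
    exact nilradical_le_ker_of_isReduced _
  let xh₁ : Spec (CommRingCat.of Ω) ⟶ (pullback f.left y).nilradical.subscheme :=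
    IsClosedImmersion.lift ιV (pullback.lift x₁ (𝟙 _) hx₁y) hH₁
  let xh₂ : Spec (CommRingCat.of Ω) ⟶ (pullback f.left y).nilradical.subscheme :=
    IsClosedImmersion.lift ιV (pullback.lift x₂ (𝟙 _) hx₂y) hH₂
  have hxh₁X : xh₁ ≫ vX = x₁ := by
    change IsClosedImmersion.lift ιV _ hH₁ ≫ ιV ≫ pullback.fst f.left y = x₁
    rw [IsClosedImmersion.lift_fac_assoc, pullback.lift_fst]
  have hxh₂X : xh₂ ≫ vX = x₂ := by
    change IsClosedImmersion.lift ιV _ hH₂ ≫ ιV ≫ pullback.fst f.left y = x₂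
    rw [IsClosedImmersion.lift_fac_assoc, pullback.lift_fst]
  have hxh₁Ω : xh₁ ≫ vΩ = 𝟙 _ := by
    change IsClosedImmersion.lift ιV _ hH₁ ≫ ιV ≫ pullback.snd f.left y = 𝟙 _
    rw [IsClosedImmersion.lift_fac_assoc, pullback.lift_snd]
  have hxh₂Ω : xh₂ ≫ vΩ = 𝟙 _ := by
    change IsClosedImmersion.lift ιV _ hH₂ ≫ ιV ≫ pullback.snd f.left y = 𝟙 _
    rw [IsClosedImmersion.lift_fac_assoc, pullback.lift_snd]
  have hgo : g ≫ G.hom = o := rfl
  have hx₁y' : x₁ ≫ f.left = y := rfl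
  have hx₂y' : x₂ ≫ f.left = y := hy.symm
  clear_value xh₁ xh₂ vX vΩ
  clear hH₁ hH₂ hx₁y hx₂y
  clear_value ιV y o
  -- the family `X' = S ×_Ω V → S` and the map `ψ' : X' → Y`
  have hX' : pullback.fst (pullback.snd G.hom o) vΩ ≫ pullback.snd G.hom o =
      pullback.snd (pullback.snd G.hom o) vΩ ≫ vΩ := pullback.condition
  have hθ : (pullback.fst (pullback.snd G.hom o) vΩ ≫ pullback.fst G.hom o) ≫ G.hom =
      (pullback.snd (pullback.snd G.hom o) vΩ ≫ vX) ≫ X.hom := by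
    rw [Category.assoc, hS, ← Category.assoc, hX', Category.assoc, Category.assoc, hvXo]
  let θ : pullback (pullback.snd G.hom o) vΩ ⟶ (G ⊗ X).left :=
    pullback.lift (pullback.fst (pullback.snd G.hom o) vΩ ≫ pullback.fst G.hom o)
      (pullback.snd (pullback.snd G.hom o) vΩ ≫ vX) hθ
  have hθ₁ : θ ≫ pullback.fst G.hom X.hom =
      pullback.fst (pullback.snd G.hom o) vΩ ≫ pullback.fst G.hom o := pullback.lift_fst _ _ _
  have hθ₂ : θ ≫ pullback.snd G.hom X.hom =
      pullback.snd (pullback.snd G.hom o) vΩ ≫ vX := pullback.lift_snd _ _ _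
  let ψ : (G ⊗ X).left ⟶ Y.left := (a.act ≫ f).left
  -- the unit section `e` and the contraction of the fibre over it
  have he0 : (o ≫ η[G].left) ≫ G.hom = 𝟙 _ ≫ o := by
    rw [Category.assoc, Over.w η[G], Category.id_comp]
    exact Category.comp_id o
  let e : Spec (CommRingCat.of Ω) ⟶ pullback G.hom o := pullback.lift (o ≫ η[G].left) (𝟙 _) he0
  have he₁ : e ≫ pullback.fst G.hom o = o ≫ η[G].left := pullback.lift_fst _ _ _
  have he₂ : e ≫ pullback.snd G.hom o = 𝟙 _ := pullback.lift_snd _ _ _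
  clear_value e
  have hE : pullback.fst (pullback.fst (pullback.snd G.hom o) vΩ) e ≫
      pullback.fst (pullback.snd G.hom o) vΩ =
      pullback.snd (pullback.fst (pullback.snd G.hom o) vΩ) e ≫ e := pullback.condition
  have hEΩ : pullback.fst (pullback.fst (pullback.snd G.hom o) vΩ) e ≫
      pullback.snd (pullback.snd G.hom o) vΩ ≫ vΩ =
      pullback.snd (pullback.fst (pullback.snd G.hom o) vΩ) e := by
    rw [← hX', ← Category.assoc, hE, Category.assoc, he₂, Category.comp_id]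
  have hc : pullback.fst (pullback.fst (pullback.snd G.hom o) vΩ) e ≫ (θ ≫ ψ) =
      pullback.snd (pullback.fst (pullback.snd G.hom o) vΩ) e ≫ y := by
    let v : pullback (pullback.fst (pullback.snd G.hom o) vΩ) e ⟶ X.left :=
      pullback.fst (pullback.fst (pullback.snd G.hom o) vΩ) e ≫
        pullback.snd (pullback.snd G.hom o) vΩ ≫ vX
    have hvo : v ≫ X.hom = pullback.snd (pullback.fst (pullback.snd G.hom o) vΩ) e ≫ o := by
      change (_ ≫ _ ≫ vX) ≫ X.hom = _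
      rw [Category.assoc, Category.assoc, hvXo, ← hEΩ]
      simp only [Category.assoc]
    let T : Over (Spec (CommRingCat.of k)) := Over.mk (v ≫ X.hom)
    let xT : T ⟶ X := Over.homMk v rfl
    have key := Groth.Agent.Helper4.Act.one_smul' a.act a.one_act xT
    have key' : (lift (1 : T ⟶ G) xT).left ≫ a.act.left = v :=
      congrArg (fun t => t.left) key
    have hθE : pullback.fst (pullback.fst (pullback.snd G.hom o) vΩ) e ≫ θ =
        (lift (1 : T ⟶ G) xT).left := by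
      refine pullback.hom_ext (f := G.hom) (g := X.hom) ?_ ?_
      · rw [Category.assoc, hθ₁, ← Category.assoc, hE, Category.assoc, he₁]
        have h1 : (lift (1 : T ⟶ G) xT).left ≫ pullback.fst G.hom X.hom =
            (lift (1 : T ⟶ G) xT ≫ fst G X).left := rfl
        rw [h1, lift_fst, Hom.one_def, Over.comp_left, Over.toUnit_left]
        change _ = (v ≫ X.hom) ≫ _
        rw [hvo, Category.assoc]
      · rw [Category.assoc, hθ₂]
        have h1 : (lift (1 : T ⟶ G) xT).left ≫ pullback.snd G.hom X.hom =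
            (lift (1 : T ⟶ G) xT ≫ snd G X).left := rfl
        rw [h1, lift_snd]
        rfl
    have hψ' : ψ = a.act.left ≫ f.left := rfl
    rw [hψ', ← Category.assoc θ, ← Category.assoc, ← Category.assoc, hθE, key']
    change (_ ≫ _ ≫ vX) ≫ f.left = _
    rw [Category.assoc, Category.assoc, hvX, ← hEΩ]
    simp only [Category.assoc]
  -- rigidity
  have hrig := rigidity_product_set Ω (pullback.snd G.hom o) vΩ (θ ≫ ψ) e y hc
  have hgΩ0 : g ≫ G.hom = 𝟙 _ ≫ o := by rw [Category.id_comp, hgo]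
  let gΩ : Spec (CommRingCat.of Ω) ⟶ pullback G.hom o := pullback.lift g (𝟙 _) hgΩ0
  have hgΩ₁ : gΩ ≫ pullback.fst G.hom o = g := pullback.lift_fst _ _ _
  have hgΩ₂ : gΩ ≫ pullback.snd G.hom o = 𝟙 _ := pullback.lift_snd _ _ _
  clear_value gΩ
  intro z₀
  have key : ∀ (x : Spec (CommRingCat.of Ω) ⟶ X.left)
      (xh : Spec (CommRingCat.of Ω) ⟶ (pullback f.left y).nilradical.subscheme)
      (hx : g ≫ G.hom = x ≫ X.hom) (hxX : xh ≫ vX = x) (hxΩ : xh ≫ vΩ = 𝟙 _),
      ∃ z : ↥(pullback (pullback.snd G.hom o) vΩ),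
        pullback.fst (pullback.snd G.hom o) vΩ z = gΩ z₀ ∧
        (pullback.lift g x hx ≫ ψ) z₀ = (θ ≫ ψ) z := by
    intro x xh hx hxX hxΩ
    have hz0 : gΩ ≫ pullback.snd G.hom o = xh ≫ vΩ := by rw [hgΩ₂, hxΩ]
    let z : Spec (CommRingCat.of Ω) ⟶ pullback (pullback.snd G.hom o) vΩ :=
      pullback.lift gΩ xh hz0
    have hz₁ : z ≫ pullback.fst (pullback.snd G.hom o) vΩ = gΩ := pullback.lift_fst _ _ _
    have hz₂ : z ≫ pullback.snd (pullback.snd G.hom o) vΩ = xh := pullback.lift_snd _ _ _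
    clear_value z
    have hzθ : z ≫ θ = pullback.lift g x hx := by
      refine pullback.hom_ext (f := G.hom) (g := X.hom) ?_ ?_
      · rw [Category.assoc, hθ₁, ← Category.assoc, hz₁, hgΩ₁, pullback.lift_fst]
      · rw [Category.assoc, hθ₂, ← Category.assoc, hz₂, hxX, pullback.lift_snd]
    refine ⟨z z₀, ?_, ?_⟩
    · rw [← Scheme.Hom.comp_apply, hz₁]
    · rw [← hzθ, Category.assoc, Scheme.Hom.comp_apply]
  obtain ⟨z₁, hz₁, e₁⟩ := key x₁ xh₁ h₁ hxh₁X hxh₁Ω
  obtain ⟨z₂, hz₂, e₂⟩ := key x₂ xh₂ h₂ hxh₂X hxh₂Ω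
  exact e₁.trans ((hrig (gΩ z₀) z₁ z₂ hz₁ hz₂).trans e₂.symm)

include hf in
theorem const_on_fibres' [IsLocallyNoetherian Y.left] (p q : ↥(G ⊗ X).left)
    (hpq : (G ◁ f).left.base p = (G ◁ f).left.base q) :
    (a.act ≫ f).left.base p = (a.act ≫ f).left.base q := by
  obtain ⟨r₀, hr₁, hr₂⟩ := Scheme.Pullback.exists_preimage_pullback
    (f := (G ◁ f).left) (g := (G ◁ f).left) p q hpq
  let Ω := AlgebraicClosure ((pullback (G ◁ f).left (G ◁ f).left).residueField r₀)
  let pt : Spec (CommRingCat.of Ω) ⟶ pullback (G ◁ f).left (G ◁ f).left :=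
    Spec.map (CommRingCat.ofHom (algebraMap
      ((pullback (G ◁ f).left (G ◁ f).left).residueField r₀) Ω)) ≫
      (pullback (G ◁ f).left (G ◁ f).left).fromSpecResidueField r₀
  let z₀ : ↥(Spec (CommRingCat.of Ω)) := (⊥ : PrimeSpectrum Ω)
  have hpt : pt z₀ = r₀ := by
    simp only [pt, Scheme.Hom.comp_apply]
    exact Scheme.fromSpecResidueField_apply _ _
  clear_value pt
  let P : Spec (CommRingCat.of Ω) ⟶ (G ⊗ X).left := pt ≫ pullback.fst (G ◁ f).left (G ◁ f).left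
  let Q : Spec (CommRingCat.of Ω) ⟶ (G ⊗ X).left := pt ≫ pullback.snd (G ◁ f).left (G ◁ f).left
  have hPz : P z₀ = p := by
    simp only [P, Scheme.Hom.comp_apply]
    rw [hpt, hr₁]
  have hQz : Q z₀ = q := by
    simp only [Q, Scheme.Hom.comp_apply]
    rw [hpt, hr₂]
  have hPQ : P ≫ (G ◁ f).left = Q ≫ (G ◁ f).left := by
    change (pt ≫ _) ≫ _ = (pt ≫ _) ≫ _
    rw [Category.assoc, Category.assoc, pullback.condition]
  clear_value P Q
  have hF₁ : (G ◁ f).left ≫ pullback.fst G.hom Y.hom = pullback.fst G.hom X.hom :=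
    congrArg (fun t => t.left) (whiskerLeft_fst G f)
  have hF₂ : (G ◁ f).left ≫ pullback.snd G.hom Y.hom = pullback.snd G.hom X.hom ≫ f.left :=
    congrArg (fun t => t.left) (whiskerLeft_snd G f)
  have hg : P ≫ pullback.fst G.hom X.hom = Q ≫ pullback.fst G.hom X.hom := by
    rw [← hF₁, ← Category.assoc, hPQ, Category.assoc]
  have hc : pullback.fst G.hom X.hom ≫ G.hom = pullback.snd G.hom X.hom ≫ X.hom :=
    pullback.condition
  have h₁ : (P ≫ pullback.fst G.hom X.hom) ≫ G.hom = (P ≫ pullback.snd G.hom X.hom) ≫ X.hom := by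
    rw [Category.assoc, Category.assoc, hc]
  have h₂ : (P ≫ pullback.fst G.hom X.hom) ≫ G.hom = (Q ≫ pullback.snd G.hom X.hom) ≫ X.hom := by
    rw [hg, Category.assoc, Category.assoc, hc]
  have hy : (P ≫ pullback.snd G.hom X.hom) ≫ f.left = (Q ≫ pullback.snd G.hom X.hom) ≫ f.left := by
    rw [Category.assoc, Category.assoc, ← hF₂, ← Category.assoc, hPQ, Category.assoc]
  have hP : pullback.lift (P ≫ pullback.fst G.hom X.hom) (P ≫ pullback.snd G.hom X.hom) h₁ = P := by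
    refine pullback.hom_ext (f := G.hom) (g := X.hom) ?_ ?_
    · rw [pullback.lift_fst]
    · rw [pullback.lift_snd]
  have hQ : pullback.lift (P ≫ pullback.fst G.hom X.hom) (Q ≫ pullback.snd G.hom X.hom) h₂ = Q := by
    refine pullback.hom_ext (f := G.hom) (g := X.hom) ?_ ?_
    · rw [pullback.lift_fst, hg]
    · rw [pullback.lift_snd]
  have main := act_pt_eq_of_geomPts f hf a Ω _ _ _ h₁ h₂ hy z₀
  rw [hP, hQ] at main
  simp only [Scheme.Hom.comp_apply] at main
  rw [hPz, hQz] at main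
  exact main

end Main

/-- **S11394** -/
theorem main_S11394 (k : Type u) [Field k] [IsAlgClosed k]
    (G X Y : Over (Spec (CommRingCat.of k))) [GrpObj G] [LocallyOfFiniteType G.hom] [QuasiCompact G.hom]
    [ConnectedSpace ↥G.left] [LocallyOfFiniteType X.hom] [QuasiCompact X.hom]
    [LocallyOfFiniteType Y.hom] [QuasiCompact Y.hom]
    (f : X ⟶ Y) [IsProper f.left] (hf : ∀ U : Y.left.Opens, IsIso (f.left.app U))
    (a : AlgGrp.Action G X) :
    ∃! b : AlgGrp.Action G Y, (G ◁ f) ≫ b.act = a.act ≫ f := by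
  haveI : IsLocallyNoetherian Y.left := LocallyOfFiniteType.isLocallyNoetherian Y.hom
  obtain ⟨b, hb⟩ := Groth.Agent.Lib.Helper4.Blanchard1.exists_action_of_const f hf a
    (const_on_fibres' f hf a)
  refine ⟨b, hb, ?_⟩
  intro b' hb'
  haveI := Groth.Agent.Lib.Helper4.Blanchard1.wl_epi f hf G
  have hact : b'.act = b.act := by
    rw [← cancel_epi (G ◁ f), hb, hb']
  cases b
  cases b'
  simp only at hact
  subst hact
  rfl

end Groth.Agent.Lib.Helper4.Blanchard3
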