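import Mathlib
import Groth.Agent.Lib.Helper4.Blowup
import Groth.Agent.Lib.Helper8.RegularLocal

/-!
# A DVR dominating a regular local ring with purely transcendental residue field (EGA IV 19.9.?)
-/
set_option autoImplicit false
set_option linter.unusedSectionVars false
set_option linter.style.haveILetI false

namespace Groth.Agent.Lib.Helper4.Blowup

universe u
open IsLocalRing MvPolynomial


theorem main_of_data {A : Type u} [CommRing A] [IsLocalRing A] [IsDomain A]
    (L : Type u) [CommRing L] [IsDomain L] [IsDiscreteValuationRing L] [Algebra A L]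
    (ψ : L →ₐ[A] FractionRing A) (hψ : Function.Injective ψ)
    (n : ℕ) (β : MvPolynomial (Fin n) A →ₐ[A] L)
    (h1 : ∀ p, β p ∈ maximalIdeal L ↔ p ∈ (maximalIdeal A).map (C : A →+* MvPolynomial (Fin n) A))
    (h2 : ∀ l : L, ∃ p q, β q ∉ maximalIdeal L ∧ l * β q = β p) :
    ∃ (V : Subalgebra A (FractionRing A)) (_ : IsDomain V) (_ : IsDiscreteValuationRing V),
      IsFractionRing V (FractionRing A) ∧
      (IsLocalRing.maximalIdeal V).comap (algebraMap A V) = IsLocalRing.maximalIdeal A ∧
      ∃ (φ : IsLocalRing.ResidueField A →+* IsLocalRing.ResidueField V),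
        φ.comp (IsLocalRing.residue A) = (IsLocalRing.residue V).comp (algebraMap A V) ∧
        letI := φ.toAlgebra
        ∃ (ι : Type u) (t : ι → IsLocalRing.ResidueField V),
          AlgebraicIndependent (IsLocalRing.ResidueField A) t ∧
          IntermediateField.adjoin (IsLocalRing.ResidueField A) (Set.range t) = ⊤ := by
  classical
  let V : Subalgebra A (FractionRing A) := ψ.range
  let e : L ≃ₐ[A] V := AlgEquiv.ofInjective ψ hψ
  haveI : IsDomain V := inferInstance
  haveI hDVR : IsDiscreteValuationRing V := IsDiscreteValuationRing.RingEquivClass.isDiscreteValuationRing e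
  have hmem : ∀ x : L, e x ∈ maximalIdeal V ↔ x ∈ maximalIdeal L := by
    intro x
    rw [mem_maximalIdeal, mem_maximalIdeal, mem_nonunits_iff, mem_nonunits_iff, isUnit_map_iff]
  have hdom : (maximalIdeal V).comap (algebraMap A V) = maximalIdeal A := by
    ext a
    rw [Ideal.mem_comap]
    have h3 : algebraMap A V a = e (β (C a)) := by
      rw [← MvPolynomial.algebraMap_eq, AlgHom.commutes, AlgEquiv.commutes]
    rw [h3, hmem, h1, MvPolynomial.mem_map_C_iff]
    constructor
    · intro h
      simpa using h 0
    · intro h m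
      rw [MvPolynomial.coeff_C]
      split_ifs
      · exact h
      · exact Ideal.zero_mem _
  refine ⟨V, inferInstance, hDVR, ?_, hdom, ?_⟩
  · apply IsFractionRing.of_field
    intro z
    obtain ⟨a, b, hb, rfl⟩ := IsFractionRing.div_surjective (A := A) z
    refine ⟨algebraMap A V a, algebraMap A V b, ?_⟩
    rw [← IsScalarTower.algebraMap_apply, ← IsScalarTower.algebraMap_apply]
  · haveI hloc : IsLocalHom (algebraMap A V) :=
      ((IsLocalRing.local_hom_TFAE (algebraMap A V)).out 0 4).mpr hdom
    refine ⟨IsLocalRing.ResidueField.map (algebraMap A V), ResidueField.map_comp_residue _, ?_⟩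
    letI := (IsLocalRing.ResidueField.map (algebraMap A V)).toAlgebra
    let ρ : MvPolynomial (Fin n) A →+* ResidueField V :=
      (residue V).comp (((e : L →+* V)).comp (β : MvPolynomial (Fin n) A →+* L))
    let t : Fin n → ResidueField V := fun i => ρ (X i)
    have hρ0 : ρ = ((aeval t : MvPolynomial (Fin n) (ResidueField A) →ₐ[ResidueField A]
        ResidueField V) : _ →+* _).comp (MvPolynomial.map (residue A)) := by
      apply MvPolynomial.ringHom_ext
      · intro a
        have h3 : algebraMap A V a = e (β (C a)) := by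
          rw [← MvPolynomial.algebraMap_eq, AlgHom.commutes, AlgEquiv.commutes]
        simp only [RingHom.comp_apply, map_C, RingHom.coe_coe, aeval_C]
        change residue V (e (β (C a))) = ResidueField.map (algebraMap A V) (residue A a)
        rw [ResidueField.map_residue, h3]
      · intro i
        simp only [RingHom.comp_apply, map_X, RingHom.coe_coe, aeval_X]
        rfl
    have hρ1 : ∀ p, ρ p = aeval t (MvPolynomial.map (residue A) p) := by
      intro p
      rw [hρ0]
      rfl
    have hρ2 : ∀ p, ρ p = 0 ↔ p ∈ (maximalIdeal A).map (C : A →+* MvPolynomial (Fin n) A) := by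
      intro p
      rw [← h1, ← hmem]
      exact residue_eq_zero_iff _
    have ht : AlgebraicIndependent (ResidueField A) t := by
      rw [algebraicIndependent_iff_injective_aeval, injective_iff_map_eq_zero]
      intro q hq
      obtain ⟨p, rfl⟩ := MvPolynomial.map_surjective (residue A) residue_surjective q
      rw [← hρ1, hρ2, MvPolynomial.mem_map_C_iff] at hq
      ext m
      rw [coeff_map, coeff_zero]
      exact (residue_eq_zero_iff _).2 (hq m)
    refine ⟨ULift.{u} (Fin n), t ∘ ULift.down, ht.comp _ ULift.down_injective, ?_⟩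
    rw [ULift.down_surjective.range_comp, eq_top_iff]
    intro z _
    obtain ⟨v, rfl⟩ := residue_surjective z
    obtain ⟨l, rfl⟩ := e.surjective v
    obtain ⟨p, q, hq, hpq⟩ := h2 l
    have h3 : residue V (e l) * ρ q = ρ p := by
      change residue V (e l) * residue V (e (β q)) = residue V (e (β p))
      rw [← map_mul, ← map_mul, hpq]
    have hq0 : ρ q ≠ 0 := by
      rw [Ne, hρ2, ← h1]
      exact hq
    have h4 : residue V (e l) = ρ p / ρ q := by
      rw [eq_div_iff hq0, h3]
    rw [h4]
    have hmemρ : ∀ p, ρ p ∈ IntermediateField.adjoin (ResidueField A) (Set.range t) := by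
      intro p
      rw [hρ1]
      apply IntermediateField.algebra_adjoin_le_adjoin
      rw [Algebra.adjoin_range_eq_range_aeval]
      exact ⟨_, rfl⟩
    exact div_mem (hmemρ p) (hmemρ q)



theorem isPrime_map_C' {A : Type u} [CommRing A] {ι : Type*} (m : Ideal A) [m.IsMaximal] :
    (Ideal.map (MvPolynomial.C : A →+* MvPolynomial ι A) m).IsPrime := by
  have e := MvPolynomial.quotientEquivQuotientMvPolynomial (σ := ι) m
  letI : Field (A ⧸ m) := Ideal.Quotient.field m
  have hdom : IsDomain (MvPolynomial ι (A ⧸ m)) := inferInstance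
  have : IsDomain (MvPolynomial ι A ⧸ Ideal.map (MvPolynomial.C : A →+* MvPolynomial ι A) m) :=
    e.toRingEquiv.toMulEquiv.isDomain_iff.1 hdom
  exact (Ideal.Quotient.isDomain_iff_prime _).1 this

/-- a Noetherian domain localized at a nonzero principal prime is a DVR -/
theorem isDVR_localization_of_principal {B : Type u} [CommRing B] [IsDomain B] [IsNoetherianRing B]
    (P : Ideal B) [P.IsPrime] (π : B) (hπ : π ≠ 0) (hP : P = Ideal.span {π}) :
    IsDiscreteValuationRing (Localization.AtPrime P) := by
  haveI : IsNoetherianRing (Localization.AtPrime P) :=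
    IsLocalization.isNoetherianRing P.primeCompl _ inferInstance
  have hmax : maximalIdeal (Localization.AtPrime P) =
      Ideal.span {algebraMap B (Localization.AtPrime P) π} := by
    rw [← IsLocalization.AtPrime.map_eq_maximalIdeal P (Localization.AtPrime P)]
    have : Ideal.map (algebraMap B (Localization.AtPrime P)) P =
        Ideal.map (algebraMap B (Localization.AtPrime P)) (Ideal.span {π}) :=
      congrArg (fun I => Ideal.map (algebraMap B (Localization.AtPrime P)) I) hP
    rw [this, Ideal.map_span, Set.image_singleton]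
  have hinj : Function.Injective (algebraMap B (Localization.AtPrime P)) :=
    IsLocalization.injective _ P.primeCompl_le_nonZeroDivisors
  have hnf : ¬ IsField (Localization.AtPrime P) := by
    rw [IsLocalRing.isField_iff_maximalIdeal_eq, hmax, Ideal.span_singleton_eq_bot]
    exact fun h => hπ (hinj (h.trans (map_zero _).symm))
  refine ((IsDiscreteValuationRing.TFAE (Localization.AtPrime P) hnf).out 0 4).2 ?_
  rw [hmax]
  exact ⟨⟨_, rfl⟩⟩

theorem exists_data {A : Type u} [CommRing A] [IsLocalRing A] [IsNoetherianRing A] [IsDomain A]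
    {n : ℕ} (x : Fin (n + 1) → A) (hx : Ideal.span (Set.range x) = maximalIdeal A) (hx0 : x 0 ≠ 0)
    (hker : RingHom.ker (MvPolynomial.aeval (R := A) (S₁ := Localization.Away (x 0))
      (fun i : Fin n => IsLocalization.mk' (Localization.Away (x 0)) (x i.succ)
        (⟨x 0, Submonoid.mem_powers (x 0)⟩ : Submonoid.powers (x 0)))) =
      Ideal.span (Set.range fun i : Fin n =>
        MvPolynomial.C (x 0) * MvPolynomial.X i - MvPolynomial.C (x i.succ))) :
    ∃ (L : Type u) (_ : CommRing L) (_ : IsDomain L) (_ : IsDiscreteValuationRing L)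
      (_ : Algebra A L) (ψ : L →ₐ[A] FractionRing A) (β : MvPolynomial (Fin n) A →ₐ[A] L),
      Function.Injective ψ ∧
      (∀ p, β p ∈ maximalIdeal L ↔
        p ∈ (maximalIdeal A).map (C : A →+* MvPolynomial (Fin n) A)) ∧
      (∀ l : L, ∃ p q, β q ∉ maximalIdeal L ∧ l * β q = β p) := by
  classical
  set K := FractionRing A with hK
  set A₀ := Localization.Away (x 0) with hA₀
  set φ : MvPolynomial (Fin n) A →ₐ[A] A₀ := MvPolynomial.aeval (R := A) (S₁ := A₀)
      (fun i : Fin n => IsLocalization.mk' A₀ (x i.succ)
        (⟨x 0, Submonoid.mem_powers (x 0)⟩ : Submonoid.powers (x 0))) with hφ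
  set J : Ideal (MvPolynomial (Fin n) A) := Ideal.span (Set.range fun i : Fin n =>
        MvPolynomial.C (x 0) * MvPolynomial.X i - MvPolynomial.C (x i.succ)) with hJ
  set P₀ : Ideal (MvPolynomial (Fin n) A) :=
    (maximalIdeal A).map (C : A →+* MvPolynomial (Fin n) A) with hP₀
  haveI hP₀prime : P₀.IsPrime := isPrime_map_C' (maximalIdeal A)
  have hxmem : ∀ i, C (x i) ∈ P₀ := by
    intro i
    apply Ideal.mem_map_of_mem
    rw [← hx]
    exact Ideal.subset_span ⟨i, rfl⟩
  have hJP₀ : J ≤ P₀ := by
    rw [hJ, Ideal.span_le]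
    rintro _ ⟨i, rfl⟩
    exact Ideal.sub_mem _ (Ideal.mul_mem_right _ _ (hxmem 0)) (hxmem _)
  -- the ring B
  let B := MvPolynomial (Fin n) A ⧸ J
  let mk : MvPolynomial (Fin n) A →ₐ[A] B := Ideal.Quotient.mkₐ A J
  have hmk : Function.Surjective mk := Ideal.Quotient.mkₐ_surjective A J
  -- embedding into K
  have hpow : Submonoid.powers (x 0) ≤ nonZeroDivisors A :=
    powers_le_nonZeroDivisors_of_noZeroDivisors hx0
  have hinjA₀ : Function.Injective (algebraMap A A₀) := IsLocalization.injective A₀ hpow
  haveI : IsDomain A₀ := IsLocalization.isDomain_localization hpow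
  have hunit : ∀ y : Submonoid.powers (x 0), IsUnit (Algebra.ofId A K y) := by
    rintro ⟨y, hy⟩
    apply IsUnit.mk0
    exact (map_ne_zero_iff _ (IsFractionRing.injective A K)).2
      (nonZeroDivisors.ne_zero (hpow hy))
  let ι₀ : A₀ →ₐ[A] K := IsLocalization.liftAlgHom (M := Submonoid.powers (x 0)) (f := Algebra.ofId A K) hunit
  have hι₀ : Function.Injective ι₀ := by
    rw [IsLocalization.coe_liftAlgHom, IsLocalization.lift_injective_iff]
    intro a b
    rw [hinjA₀.eq_iff]
    exact (IsFractionRing.injective A K).eq_iff.symm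
  let g₀ : B →ₐ[A] A₀ := Ideal.Quotient.liftₐ J φ (fun a ha => by
    have : a ∈ RingHom.ker φ := by rw [hker]; exact ha
    exact this)
  have hg₀ : Function.Injective g₀ := by
    apply RingHom.lift_injective_of_ker_le_ideal
    exact le_of_eq hker
  let g : B →ₐ[A] K := ι₀.comp g₀
  have hg : Function.Injective g := hι₀.comp hg₀
  haveI : IsDomain B := hg.isDomain g.toRingHom
  -- the prime P
  let P : Ideal B := P₀.map mk
  haveI hPprime : P.IsPrime := Ideal.map_isPrime_of_surjective hmk (by
    change RingHom.ker (mk : MvPolynomial (Fin n) A →+* B) ≤ P₀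
    have : RingHom.ker (mk : MvPolynomial (Fin n) A →+* B) = J := Ideal.Quotient.mkₐ_ker A J
    rw [this]
    exact hJP₀)
  let π : B := mk (C (x 0))
  have hπ : π ≠ 0 := by
    intro h
    have h1 : g π = 0 := by rw [h, map_zero]
    have h2 : g π = algebraMap A K (x 0) := by
      change g (mk (C (x 0))) = _
      rw [← MvPolynomial.algebraMap_eq, AlgHom.commutes, AlgHom.commutes]
    rw [h2] at h1
    exact hx0 ((IsFractionRing.injective A K) (h1.trans (map_zero _).symm))
  have hPπ : P = Ideal.span {π} := by
    apply le_antisymm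
    · rw [Ideal.map_le_iff_le_comap, hP₀, ← hx, Ideal.map_span, Ideal.span_le]
      rintro _ ⟨_, ⟨i, rfl⟩, rfl⟩
      rw [SetLike.mem_coe, Ideal.mem_comap]
      refine Fin.cases ?_ (fun j => ?_) i
      · exact Ideal.mem_span_singleton_self _
      · have : mk (C (x j.succ)) = π * mk (X j) := by
          rw [← map_mul, eq_comm, ← sub_eq_zero, ← map_sub]
          exact Ideal.Quotient.eq_zero_iff_mem.2 (Ideal.subset_span ⟨j, rfl⟩)
        rw [this]
        exact Ideal.mul_mem_right _ _ (Ideal.mem_span_singleton_self _)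
    · rw [Ideal.span_singleton_le_iff_mem]
      exact Ideal.mem_map_of_mem _ (hxmem 0)
  haveI hDVR : IsDiscreteValuationRing (Localization.AtPrime P) :=
    isDVR_localization_of_principal P π hπ hPπ
  let L := Localization.AtPrime P
  have hunit' : ∀ y : P.primeCompl, IsUnit (g y) := by
    rintro ⟨y, hy⟩
    apply IsUnit.mk0
    intro h
    have : y = 0 := hg (h.trans (map_zero _).symm)
    exact hy (this ▸ Ideal.zero_mem _)
  let ψ : L →ₐ[A] K := IsLocalization.liftAlgHom (M := P.primeCompl) (f := g) hunit'
  have hinjBL : Function.Injective (algebraMap B L) :=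
    IsLocalization.injective L P.primeCompl_le_nonZeroDivisors
  have hψ : Function.Injective ψ := by
    rw [IsLocalization.coe_liftAlgHom, IsLocalization.lift_injective_iff]
    intro a b
    rw [hinjBL.eq_iff]
    exact hg.eq_iff.symm
  let β : MvPolynomial (Fin n) A →ₐ[A] L := (IsScalarTower.toAlgHom A B L).comp mk
  refine ⟨L, inferInstance, inferInstance, hDVR, inferInstance, ψ, β, hψ, ?_, ?_⟩
  · intro p
    change algebraMap B L (mk p) ∈ maximalIdeal L ↔ _
    rw [IsLocalization.AtPrime.to_map_mem_maximal_iff L P]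
    exact Ideal.mem_quotient_iff_mem hJP₀
  · intro l
    obtain ⟨⟨b, s⟩, rfl⟩ := IsLocalization.mk'_surjective P.primeCompl l
    obtain ⟨p, rfl⟩ := hmk b
    obtain ⟨q, hq⟩ := hmk s.1
    refine ⟨p, q, ?_, ?_⟩
    · change algebraMap B L (mk q) ∉ maximalIdeal L
      rw [IsLocalization.AtPrime.to_map_mem_maximal_iff L P, hq]
      exact s.2
    · change IsLocalization.mk' L (mk p) s * algebraMap B L (mk q) = algebraMap B L (mk p)
      rw [hq]
      exact IsLocalization.mk'_spec _ _ _


theorem S4947_main (A : Type u) [CommRing A] [IsRegularLocalRing A] (hA : ¬ IsField A) :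
    ∃ (V : Subalgebra A (FractionRing A)) (_ : IsDomain V) (_ : IsDiscreteValuationRing V),
      IsFractionRing V (FractionRing A) ∧
      (IsLocalRing.maximalIdeal V).comap (algebraMap A V) = IsLocalRing.maximalIdeal A ∧
      ∃ (φ : IsLocalRing.ResidueField A →+* IsLocalRing.ResidueField V),
        φ.comp (IsLocalRing.residue A) = (IsLocalRing.residue V).comp (algebraMap A V) ∧
        letI := φ.toAlgebra
        ∃ (ι : Type u) (t : ι → IsLocalRing.ResidueField V),
          AlgebraicIndependent (IsLocalRing.ResidueField A) t ∧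
          IntermediateField.adjoin (IsLocalRing.ResidueField A) (Set.range t) = ⊤ := by
  classical
  haveI : IsDomain A := Groth.Agent.Helper8.RLR.isDomain A
  obtain ⟨s, hscard, hsspan⟩ := Submodule.FG.exists_span_finset_card_eq_spanFinrank
    (IsNoetherian.noetherian (maximalIdeal A))
  have hdim : ringKrullDim A = s.card := by
    rw [hscard]
    exact IsRegularLocalRing.spanFinrank_maximalIdeal.symm
  have hs0 : s.card ≠ 0 := by
    intro h0
    rw [Finset.card_eq_zero] at h0
    subst h0
    rw [Finset.coe_empty, Submodule.span_empty] at hsspan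
    exact hA (IsLocalRing.isField_iff_maximalIdeal_eq.2 hsspan.symm)
  obtain ⟨n, hn⟩ := Nat.exists_eq_succ_of_ne_zero hs0
  let eqv : s ≃ Fin (n + 1) := Finset.equivFinOfCardEq hn
  let x : Fin (n + 1) → A := fun i => (eqv.symm i : A)
  have hrange : Set.range x = (s : Set A) := by
    have : x = Subtype.val ∘ eqv.symm := rfl
    rw [this, eqv.symm.surjective.range_comp, Subtype.range_coe]
  have hx : Ideal.span (Set.range x) = maximalIdeal A := by
    rw [hrange]
    exact hsspan
  have hreg := Groth.Agent.Helper8.RLR.isRegular_of_span_eq A (n + 1)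
    (by rw [hdim, hn]) x hx
  have hker := S0615_main x hreg.toIsWeaklyRegular
  have hx0 : x 0 ≠ 0 := by
    have h1 := hreg.toIsWeaklyRegular
    rw [List.ofFn_succ, RingTheory.Sequence.isWeaklyRegular_cons_iff] at h1
    intro h0
    have h2 := h1.1
    rw [h0] at h2
    have h3 : (1 : A) = 0 := h2 (by simp)
    exact one_ne_zero h3
  obtain ⟨L, _, _, _, _, ψ, β, hψ, h1, h2⟩ := exists_data x hx hx0 hker
  exact main_of_data L ψ hψ n β h1 h2

end Groth.Agent.Lib.Helper4.Blowup
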