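import Mathlib
import Groth.Prelude
import Groth.Agent.Lib.Helper8.FlatDepth1
import Groth.Agent.Lib.Helper8.Depth18
import Groth.Agent.Lib.Helper8.Depth24
import Groth.Agent.Lib.Helper8.AdicReg2

/-!
# Depth along I-adic completion of a localization (Dual2 bootstrap S8796, S8827) (helper4)
-/

set_option backward.isDefEq.respectTransparency.types false
set_option synthInstance.maxHeartbeats 400000
set_option autoImplicit false
set_option linter.unusedSectionVars false
set_option linter.style.haveILetI false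
set_option linter.unusedSimpArgs false
universe u v w
open TensorProduct IsLocalRing LocCoh

namespace Groth.Agent.Lib.Helper4.BootDepth1

variable {R R' : Type u} [CommRing R] [CommRing R'] [Algebra R R']

/-- idealDepth only depends on the set of primes containing the ideal. -/
theorem idealDepth_eq_of_zeroLocus_eq {B : Type u} [CommRing B] [IsNoetherianRing B]
    (I J : Ideal B) (X : Type u) [AddCommGroup X] [Module B X] [Module.Finite B X]
    (h : ∀ q : PrimeSpectrum B, I ≤ q.asIdeal ↔ J ≤ q.asIdeal) :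
    idealDepth I X = idealDepth J X := by
  rw [Groth.Agent.Helper8.Depth.idealDepth_eq_iInf_depth_localization,
    Groth.Agent.Helper8.Depth.idealDepth_eq_iInf_depth_localization]
  apply le_antisymm
  · refine le_iInf₂ fun q hq => ?_
    exact iInf₂_le q ((h q).mpr hq)
  · refine le_iInf₂ fun q hq => ?_
    exact iInf₂_le q ((h q).mp hq)


section G

variable [IsNoetherianRing R] [IsNoetherianRing R'] [Module.Flat R R']
  (N : Type u) [AddCommGroup N] [Module R N] [Module.Finite R N]
  (P : Ideal R) [P.IsPrime] (p' : Ideal R') [p'.IsPrime] [p'.LiesOver P]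

/-- the only prime of `R'_{p'}` containing `m_{R_P} R'_{p'}` is the maximal ideal, when `p'` is
minimal over `P R'`. -/
theorem eq_maximalIdeal_of_map_le (hmin : p' ∈ (P.map (algebraMap R R')).minimalPrimes)
    (q : Ideal (Localization.AtPrime p')) [q.IsPrime]
    (hq : P.map (algebraMap R (Localization.AtPrime p')) ≤ q) :
    q = maximalIdeal (Localization.AtPrime p') := by
  have h1 : q.comap (algebraMap R' (Localization.AtPrime p')) ≤ p' := by
    intro x hx
    by_contra hxp
    have : IsUnit (algebraMap R' (Localization.AtPrime p') x) :=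
      IsLocalization.map_units (Localization.AtPrime p') (⟨x, hxp⟩ : p'.primeCompl)
    exact (Ideal.IsPrime.ne_top ‹q.IsPrime›) (Ideal.eq_top_of_isUnit_mem _ hx this)
  have h2 : P.map (algebraMap R R') ≤ q.comap (algebraMap R' (Localization.AtPrime p')) := by
    rw [Ideal.map_le_iff_le_comap, Ideal.comap_comap, ← IsScalarTower.algebraMap_eq,
      ← Ideal.map_le_iff_le_comap]
    exact hq
  have h3 : q.comap (algebraMap R' (Localization.AtPrime p')) = p' :=
    le_antisymm h1 (hmin.2 ⟨inferInstance, h2⟩ h1)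
  rw [← Localization.AtPrime.map_eq_maximalIdeal]
  have h4 := IsLocalization.map_comap p'.primeCompl (Localization.AtPrime p') q
  rw [← h4]
  exact congrArg _ h3

/-- depth is unchanged along `R_P → R'_{p'}` for `p'` minimal over `P R'` (`R → R'` flat). -/
theorem depth_localized_baseChange_eq (hmin : p' ∈ (P.map (algebraMap R R')).minimalPrimes) :
    depth (Localization.AtPrime p') (LocalizedModule p'.primeCompl (R' ⊗[R] N)) =
      depth (Localization.AtPrime P) (LocalizedModule P.primeCompl N) := by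
  letI := Localization.AtPrime.algebraOfLiesOver P p'
  set A0 := Localization.AtPrime P
  set B := Localization.AtPrime p'
  set NP := LocalizedModule P.primeCompl N
  haveI : IsNoetherianRing A0 := IsLocalization.isNoetherianRing P.primeCompl A0 inferInstance
  haveI : IsNoetherianRing B := IsLocalization.isNoetherianRing p'.primeCompl B inferInstance
  haveI : IsLocalHom (algebraMap A0 B) := by
    rw [Localization.AtPrime.IsLiesOverAlgebra.algebraMap_eq (p := P) (P := p')]
    exact Localization.isLocalHom_localRingHom _ _ _ _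
  haveI : Module.FaithfullyFlat A0 B := Module.FaithfullyFlat.of_flat_of_isLocalHom
  have hbc := Groth.Agent.Helper8.FlatDepth.idealDepth_baseChange_eq A0 B (maximalIdeal A0) NP
  -- the two base changes of `N` to `B`
  let f1 : N →ₗ[R] NP := LocalizedModule.mkLinearMap P.primeCompl N
  have hf1 : IsBaseChange A0 f1 := IsLocalizedModule.isBaseChange P.primeCompl A0 f1
  let f2 : NP →ₗ[A0] B ⊗[A0] NP := TensorProduct.mk A0 B NP 1
  have hf2 : IsBaseChange B f2 := TensorProduct.isBaseChange A0 NP B
  have hf : IsBaseChange B ((f2.restrictScalars R).comp f1) := IsBaseChange.comp hf1 hf2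
  let g1 : N →ₗ[R] R' ⊗[R] N := TensorProduct.mk R R' N 1
  have hg1 : IsBaseChange R' g1 := TensorProduct.isBaseChange R N R'
  let g2 : R' ⊗[R] N →ₗ[R'] LocalizedModule p'.primeCompl (R' ⊗[R] N) :=
    LocalizedModule.mkLinearMap p'.primeCompl (R' ⊗[R] N)
  have hg2 : IsBaseChange B g2 := IsLocalizedModule.isBaseChange p'.primeCompl B g2
  have hg : IsBaseChange B ((g2.restrictScalars R).comp g1) := IsBaseChange.comp hg1 hg2
  let e : (B ⊗[A0] NP) ≃ₗ[B] LocalizedModule p'.primeCompl (R' ⊗[R] N) :=
    hf.equiv.symm.trans hg.equiv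
  unfold depth
  rw [← Groth.Agent.Helper8.Depth.idealDepth_congr e, ← hbc]
  apply idealDepth_eq_of_zeroLocus_eq
  intro q
  have hloc : (maximalIdeal A0).map (algebraMap A0 B) ≤ maximalIdeal B :=
    ((IsLocalRing.local_hom_TFAE (algebraMap A0 B)).out 0 2).mp ‹_›
  constructor
  · intro h
    exact hloc.trans h
  · intro h
    have h2 : P.map (algebraMap R B) ≤ q.asIdeal := by
      rw [IsScalarTower.algebraMap_eq R A0 B, ← Ideal.map_map,
        Localization.AtPrime.map_eq_maximalIdeal]
      exact h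
    rw [eq_maximalIdeal_of_map_le P p' hmin q.asIdeal h2]

end G

section Main

variable (A : Type u) [CommRing A] [IsNoetherianRing A]

/-- minimal element of a nonempty set of primes in a Noetherian ring -/
theorem exists_minimal_prime_in (S : Set (PrimeSpectrum A)) (hS : S.Nonempty) :
    ∃ q0 ∈ S, ∀ r ∈ S, r ≤ q0 → r = q0 := by
  let f : PrimeSpectrum A → ℕ∞ := fun r => r.asIdeal.height
  obtain ⟨q0, hq0, hmin⟩ := (InvImage.wf f wellFounded_lt).has_min S hS
  refine ⟨q0, hq0, fun r hr hle => ?_⟩
  by_contra hne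
  have hlt : r.asIdeal < q0.asIdeal := lt_of_le_of_ne hle (fun h => hne (PrimeSpectrum.ext h))
  exact hmin r hr (Ideal.height_strict_mono_of_isPrime hlt)

theorem main (I : Ideal A) (M : Type u) [AddCommGroup M] [Module A M] [Module.Finite A M] (T : Set (PrimeSpectrum A)) (hTI : T ⊆ PrimeSpectrum.zeroLocus (I : Set A)) (s : ℕ) (h6 : ∀ q : PrimeSpectrum A, q ∈ T → ∀ p' : PrimeSpectrum (AdicCompletion (I.map (algebraMap A (Localization.AtPrime q.asIdeal))) (Localization.AtPrime q.asIdeal)), ¬ (I.map (algebraMap A (AdicCompletion (I.map (algebraMap A (Localization.AtPrime q.asIdeal))) (Localization.AtPrime q.asIdeal)))) ≤ p'.asIdeal → (∀ q' : PrimeSpectrum (AdicCompletion (I.map (algebraMap A (Localization.AtPrime q.asIdeal))) (Localization.AtPrime q.asIdeal)), p' ≤ q' → (I.map (algebraMap A (AdicCompletion (I.map (algebraMap A (Localization.AtPrime q.asIdeal))) (Localization.AtPrime q.asIdeal)))) ≤ q'.asIdeal → q'.asIdeal.IsMaximal) → (s : ℕ∞) < LocCoh.depth (Localization.AtPrime p'.asIdeal) (LocalizedModule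 p'.asIdeal.primeCompl (AdicCompletion (I.map (algebraMap A (Localization.AtPrime q.asIdeal))) (LocalizedModule q.asIdeal.primeCompl M)))) (p q : PrimeSpectrum A) (hpq : p ≤ q) (hp : ¬ I ≤ p.asIdeal) (hq : q ∈ T) (hr : ∀ r : PrimeSpectrum A, p ≤ r → r ≤ q → I ≤ r.asIdeal → r ∈ T) : (s : ℕ∞) < LocCoh.depth (Localization.AtPrime p.asIdeal) (LocalizedModule p.asIdeal.primeCompl M) := by
  obtain ⟨q0, ⟨hpq0, hq0q, hIq0⟩, hq0min⟩ := exists_minimal_prime_in A
    {r : PrimeSpectrum A | p ≤ r ∧ r ≤ q ∧ I ≤ r.asIdeal}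
    ⟨q, hpq, le_rfl, (PrimeSpectrum.mem_zeroLocus _ _).mp (hTI hq)⟩
  have hq0T : q0 ∈ T := hr q0 hpq0 hq0q hIq0
  set R := Localization.AtPrime q0.asIdeal with hR
  set J := I.map (algebraMap A R) with hJ
  have hJtop : J ≠ ⊤ := by
    intro h
    have h1 : J ≤ maximalIdeal R := by
      rw [hJ, ← Localization.AtPrime.map_eq_maximalIdeal]
      exact Ideal.map_mono hIq0
    rw [h] at h1
    exact (maximalIdeal.isMaximal R).ne_top (top_le_iff.mp h1)
  haveI hRn : IsNoetherianRing R := IsLocalization.isNoetherianRing q0.asIdeal.primeCompl R inferInstance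
  have hJfg : J.FG := IsNoetherian.noetherian J
  set R' := AdicCompletion J R with hR'
  haveI : IsLocalRing R' := Groth.Agent.Helper8.AdicReg.isLocalRing R J hJfg hJtop
  haveI : IsNoetherianRing R' := Groth.Agent.Helper8.AdicReg.isNoetherianRing R J
  haveI : IsLocalHom (algebraMap R R') := Groth.Agent.Helper8.AdicReg.isLocalHom R J hJfg hJtop
  have hmax : maximalIdeal R' = (maximalIdeal R).map (algebraMap R R') :=
    Groth.Agent.Helper8.AdicReg.maximalIdeal_eq R J hJfg hJtop
  -- the prime `P = pR`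
  set P := p.asIdeal.map (algebraMap A R) with hP
  haveI hPprime : P.IsPrime :=
    Groth.Agent.Helper8.Depth.isPrime_map_localization p.asIdeal q0.asIdeal hpq0
  have hPcomap : P.comap (algebraMap A R) = p.asIdeal :=
    Groth.Agent.Helper8.Depth.comap_map_localization p.asIdeal q0.asIdeal hpq0
  -- a minimal prime `p'` over `P R'`
  have hPtop : P.map (algebraMap R R') ≠ ⊤ := by
    intro h
    have h1 : P.map (algebraMap R R') ≤ maximalIdeal R' := by
      rw [hmax]
      exact Ideal.map_mono (IsLocalRing.le_maximalIdeal hPprime.ne_top)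
    rw [h] at h1
    exact (maximalIdeal.isMaximal R').ne_top (top_le_iff.mp h1)
  obtain ⟨p', hp'min⟩ := Ideal.nonempty_minimalPrimes hPtop
  haveI hp'prime : p'.IsPrime := hp'min.1.1
  -- going down: `p' ∩ R = P`
  have hp'comap : p'.comap (algebraMap R R') = P := by
    have hle : P ≤ p'.comap (algebraMap R R') := Ideal.map_le_iff_le_comap.mp hp'min.1.2
    haveI : p'.LiesOver (p'.comap (algebraMap R R')) := ⟨rfl⟩
    obtain ⟨P1, hP1le, hP1prime, hP1over⟩ :=
      Ideal.exists_ideal_le_liesOver_of_le (p := P) (q := p'.comap (algebraMap R R')) p' hle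
    have h2 : P.map (algebraMap R R') ≤ P1 := by
      rw [Ideal.map_le_iff_le_comap]
      exact (hP1over.over).le
    have h3 : p' ≤ P1 := hp'min.2 ⟨hP1prime, h2⟩ hP1le
    have h4 : P1 = p' := le_antisymm hP1le h3
    rw [← h4]
    exact (hP1over.over).symm
  have htower : algebraMap A R' = (algebraMap R R').comp (algebraMap A R) :=
    IsScalarTower.algebraMap_eq A R R'
  have hp'A : p'.comap (algebraMap A R') = p.asIdeal := by
    rw [htower, ← Ideal.comap_comap, hp'comap, hPcomap]
  -- hypotheses of (6)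
  have hc1 : ¬ (I.map (algebraMap A R')) ≤ p' := by
    intro h
    apply hp
    rw [← hp'A]
    exact Ideal.map_le_iff_le_comap.mp h
  have hc2 : ∀ q' : PrimeSpectrum R', (⟨p', hp'prime⟩ : PrimeSpectrum R') ≤ q' →
      (I.map (algebraMap A R')) ≤ q'.asIdeal → q'.asIdeal.IsMaximal := by
    intro q' hle hIq'
    let r : PrimeSpectrum A := ⟨q'.asIdeal.comap (algebraMap A R'), inferInstance⟩
    have hr1 : p ≤ r := by
      change p.asIdeal ≤ q'.asIdeal.comap (algebraMap A R')
      rw [← hp'A]
      exact Ideal.comap_mono hle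
    have hr2 : I ≤ r.asIdeal := Ideal.map_le_iff_le_comap.mp hIq'
    have hQle : q'.asIdeal.comap (algebraMap R R') ≤ maximalIdeal R :=
      IsLocalRing.le_maximalIdeal (Ideal.IsPrime.ne_top inferInstance)
    have hr3 : r ≤ q0 := by
      change q'.asIdeal.comap (algebraMap A R') ≤ q0.asIdeal
      rw [htower, ← Ideal.comap_comap]
      calc Ideal.comap (algebraMap A R) (Ideal.comap (algebraMap R R') q'.asIdeal)
          ≤ Ideal.comap (algebraMap A R) (maximalIdeal R) := Ideal.comap_mono hQle
        _ = q0.asIdeal := Localization.AtPrime.comap_maximalIdeal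
    have hrq0 : r = q0 := hq0min r ⟨hr1, hr3.trans hq0q, hr2⟩ hr3
    have hQ : q'.asIdeal.comap (algebraMap R R') = maximalIdeal R := by
      have h1 := IsLocalization.map_comap q0.asIdeal.primeCompl R
        (q'.asIdeal.comap (algebraMap R R'))
      rw [← h1, ← Localization.AtPrime.map_eq_maximalIdeal (I := q0.asIdeal)]
      congr 1
      have h5 : r.asIdeal = q0.asIdeal := congrArg PrimeSpectrum.asIdeal hrq0
      refine Eq.trans ?_ h5
      change Ideal.comap (algebraMap A R) (Ideal.comap (algebraMap R R') q'.asIdeal) =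
        Ideal.comap (algebraMap A R') q'.asIdeal
      rw [Ideal.comap_comap, ← htower]
    have h2 : maximalIdeal R' ≤ q'.asIdeal := by
      rw [hmax, Ideal.map_le_iff_le_comap, hQ]
    rw [← (maximalIdeal.isMaximal R').eq_of_le (Ideal.IsPrime.ne_top inferInstance) h2]
    exact maximalIdeal.isMaximal R'
  have h6' := h6 q0 hq0T ⟨p', hp'prime⟩ hc1 hc2
  set N := LocalizedModule q0.asIdeal.primeCompl M with hN
  let e0 : R' ⊗[R] N ≃ₗ[R'] AdicCompletion J N :=
    AdicCompletion.ofTensorProductEquivOfFiniteNoetherian J N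
  let e1 : LocalizedModule p'.primeCompl (R' ⊗[R] N) ≃ₗ[Localization.AtPrime p']
      LocalizedModule p'.primeCompl (AdicCompletion J N) :=
    IsLocalizedModule.mapEquiv p'.primeCompl
      (LocalizedModule.mkLinearMap p'.primeCompl (R' ⊗[R] N))
      (LocalizedModule.mkLinearMap p'.primeCompl (AdicCompletion J N))
      (Localization.AtPrime p') e0
  have hd1 : depth (Localization.AtPrime p') (LocalizedModule p'.primeCompl (R' ⊗[R] N)) =
      depth (Localization.AtPrime p') (LocalizedModule p'.primeCompl (AdicCompletion J N)) :=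
    Groth.Agent.Helper8.Depth.idealDepth_congr e1
  haveI : p'.LiesOver P := ⟨hp'comap.symm⟩
  have hd2 := depth_localized_baseChange_eq N P p' hp'min
  have hd3 := Groth.Agent.Helper8.Depth.depth_localizedModule_localizedModule M p.asIdeal
    q0.asIdeal hpq0 P hPcomap
  rw [← hd3, ← hd2, hd1]
  exact h6'

theorem main2 (I : Ideal A) (d : ℕ) (M : Type u) [AddCommGroup M] [Module A M] [Module.Finite A M] (T : Set (PrimeSpectrum A)) (hTI : T ⊆ PrimeSpectrum.zeroLocus (I : Set A)) (s : ℕ) (h4 : ∀ p r q : PrimeSpectrum A, p ≤ r → r ≤ q → ¬ I ≤ p.asIdeal → I ≤ r.asIdeal → r ∉ T → q ∈ T → (s : ℕ∞) ≤ LocCoh.depth (Localization.AtPrime p.asIdeal) (LocalizedModule p.asIdeal.primeCompl M) ∨ ((d + s : ℕ) : WithBot ℕ∞) < (LocCoh.depth (Localization.AtPrime p.asIdeal) (LocalizedModule p.asIdeal.primeCompl M) : WithBot ℕ∞) + Formal2.dimBetween A p.asIdeal q.asIdeal) (h6 : ∀ q : PrimeSpectrum A, q ∈ T → ∀ p' : PrimeSpectrum (AdicCompletion (I.map (algebraMap A (Localization.AtPrime q.asIdeal))) (Localization.AtPrime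 q.asIdeal)), ¬ (I.map (algebraMap A (AdicCompletion (I.map (algebraMap A (Localization.AtPrime q.asIdeal))) (Localization.AtPrime q.asIdeal)))) ≤ p'.asIdeal → (∀ q' : PrimeSpectrum (AdicCompletion (I.map (algebraMap A (Localization.AtPrime q.asIdeal))) (Localization.AtPrime q.asIdeal)), p' ≤ q' → (I.map (algebraMap A (AdicCompletion (I.map (algebraMap A (Localization.AtPrime q.asIdeal))) (Localization.AtPrime q.asIdeal)))) ≤ q'.asIdeal → q'.asIdeal.IsMaximal) → (s : ℕ∞) < LocCoh.depth (Localization.AtPrime p'.asIdeal) (LocalizedModule p'.asIdeal.primeCompl (AdicCompletion (I.map (algebraMap A (Localization.AtPrime q.asIdeal))) (LocalizedModule q.asIdeal.primeCompl M)))) (T' : Set (PrimeSpectrum A)) (hT'T : T' ⊆ T) : (∀ p r q : PrimeSpectrum A, p ≤ r → r ≤ q → ¬ I ≤ p.asIdeal → I ≤ r.asIdeal → r ∉ T' → q ∈ T' → (s : ℕ∞) ≤ LocCoh.depth (Localization.AtPrime p.asIdeal) (LocalizedModule p.asIdeal.primeCompl M) ∨ ((d + s : ℕ) : WithBot ℕ∞) < (LocCoh.depth (Localization.AtPrime p.asIdeal) (LocalizedModule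 p.asIdeal.primeCompl M) : WithBot ℕ∞) + Formal2.dimBetween A p.asIdeal q.asIdeal) ∧ (∀ q : PrimeSpectrum A, q ∈ T' → ∀ p' : PrimeSpectrum (AdicCompletion (I.map (algebraMap A (Localization.AtPrime q.asIdeal))) (Localization.AtPrime q.asIdeal)), ¬ (I.map (algebraMap A (AdicCompletion (I.map (algebraMap A (Localization.AtPrime q.asIdeal))) (Localization.AtPrime q.asIdeal)))) ≤ p'.asIdeal → (∀ q' : PrimeSpectrum (AdicCompletion (I.map (algebraMap A (Localization.AtPrime q.asIdeal))) (Localization.AtPrime q.asIdeal)), p' ≤ q' → (I.map (algebraMap A (AdicCompletion (I.map (algebraMap A (Localization.AtPrime q.asIdeal))) (Localization.AtPrime q.asIdeal)))) ≤ q'.asIdeal → q'.asIdeal.IsMaximal) → (s : ℕ∞) < LocCoh.depth (Localization.AtPrime p'.asIdeal) (LocalizedModule p'.asIdeal.primeCompl (AdicCompletion (I.map (algebraMap A (Localization.AtPrime q.asIdeal))) (LocalizedModule q.asIdeal.primeCompl M)))) := by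
  refine ⟨?_, fun q hq => h6 q (hT'T hq)⟩
  intro p r q hpr hrq hp hIr hrT' hqT'
  by_cases hrT : r ∈ T
  · by_cases hex : ∃ r' : PrimeSpectrum A, p ≤ r' ∧ r' ≤ r ∧ I ≤ r'.asIdeal ∧ r' ∉ T
    · obtain ⟨r', h1, h2, h3, h4'⟩ := hex
      exact h4 p r' q h1 (h2.trans hrq) hp h3 h4' (hT'T hqT')
    · left
      have hall : ∀ r' : PrimeSpectrum A, p ≤ r' → r' ≤ r → I ≤ r'.asIdeal → r' ∈ T := by
        intro r' h1 h2 h3
        by_contra h4'
        exact hex ⟨r', h1, h2, h3, h4'⟩
      exact (main A I M T hTI s h6 p r hpr hp hrT hall).le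
  · exact h4 p r q hpr hrq hp hIr hrT (hT'T hqT')

end Main

end Groth.Agent.Lib.Helper4.BootDepth1
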