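import Mathlib
import Groth.Prelude.Def_AlgGrp
import Groth.Agent.Lib.Helper4.Act1

/-!
# bundle automorphisms of a principal bundle = equivariant maps to G (S11418) (helper4)
-/

set_option backward.isDefEq.respectTransparency.types false
set_option synthInstance.maxHeartbeats 400000
set_option autoImplicit false
set_option linter.unusedSectionVars false
set_option linter.style.haveILetI false
set_option linter.unusedSimpArgs false
universe u v w
open CategoryTheory CategoryTheory.Limits AlgebraicGeometry TopologicalSpace Opposite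
open MonoidalCategory CartesianMonoidalCategory MonObj GrpObj

namespace Groth.Agent.Lib.Helper4.BundleAut1

variable {B : Scheme.{u}}

theorem main_S11418 (G X Y : Over B) [GrpObj G]
    (a : AlgGrp.Action G X) (π : X ⟶ Y)
    (hcart : IsPullback (snd G X) a.act π π)
    (φ : X ≅ X) (hφ : φ.hom ≫ π = π) (hφeq : (G ◁ φ.hom) ≫ a.act = a.act ≫ φ.hom) :
    ∃! f : X ⟶ G, (∀ (S : Over B) (g : S ⟶ G) (x : S ⟶ X),
        lift g x ≫ a.act ≫ f = g * (x ≫ f) * g⁻¹) ∧ φ.hom = lift f (𝟙 X) ≫ a.act := by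
  have free : ∀ {S : Over B} (u : S ⟶ X) (h h' : S ⟶ G),
      lift h u ≫ a.act = lift h' u ≫ a.act → h = h' := by
    intro S u h h' hh
    have e : lift h u = lift h' u := by
      apply hcart.hom_ext
      · rw [lift_snd, lift_snd]
      · exact hh
    have := congrArg (fun m => m ≫ fst G X) e
    simpa using this
  let r : X ⟶ G ⊗ X := hcart.lift (𝟙 X) φ.hom (by rw [Category.id_comp, hφ])
  have hr1 : r ≫ snd G X = 𝟙 X := hcart.lift_fst _ _ _
  have hr2 : r ≫ a.act = φ.hom := hcart.lift_snd _ _ _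
  obtain ⟨f, hfdef⟩ : ∃ f : X ⟶ G, f = r ≫ fst G X := ⟨_, rfl⟩
  have hrf : r = lift f (𝟙 X) := by
    ext
    · simp [hfdef]
    · simp [hr1]
  clear_value r
  have hφf : φ.hom = lift f (𝟙 X) ≫ a.act := by rw [← hrf, hr2]
  refine ⟨f, ⟨?_, hφf⟩, ?_⟩
  · intro S g x
    obtain ⟨y, hy⟩ : ∃ y : S ⟶ X, y = lift g x ≫ a.act := ⟨_, rfl⟩
    have hxφ : x ≫ φ.hom = lift (x ≫ f) x ≫ a.act := by
      rw [hφf, ← Category.assoc, comp_lift, Category.comp_id]
    have hyφ : y ≫ φ.hom = lift (g * (x ≫ f)) x ≫ a.act := by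
      rw [hy, Category.assoc, ← hφeq, ← Category.assoc, lift_whiskerLeft, hxφ,
        ← Groth.Agent.Helper4.Act.mul_smul' a.act a.mul_act]
    have h1 : lift (y ≫ f) y ≫ a.act = y ≫ φ.hom := by
      rw [hφf, ← Category.assoc, comp_lift, Category.comp_id]
    have h2 : lift (g * (x ≫ f) * g⁻¹) y ≫ a.act = lift (g * (x ≫ f)) x ≫ a.act := by
      rw [hy, ← Groth.Agent.Helper4.Act.mul_smul' a.act a.mul_act, inv_mul_cancel_right]
    have h3 : y ≫ f = g * (x ≫ f) * g⁻¹ := free y _ _ (by rw [h1, hyφ, h2])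
    rw [← Category.assoc, ← hy]
    exact h3
  · rintro f' ⟨-, hf'⟩
    exact free (𝟙 X) _ _ (by rw [← hf', ← hφf])

end Groth.Agent.Lib.Helper4.BundleAut1
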