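import Mathlib
import Groth.Prelude.Def_CInt
import Groth.Prelude.Def_Pi1
import Groth.Agent.Lib.Helper4.ValCritBirational1
import Groth.Agent.Lib.Helper7.FormalCompl
import Groth.Agent.Lib.Lead.HartogsNI

/-!
# Effective Cartier divisors on a normal base are determined by their pullback along a proper surjection (S17733) (helper4)
-/

set_option backward.isDefEq.respectTransparency.types false
set_option synthInstance.maxHeartbeats 400000
set_option autoImplicit false
set_option linter.unusedSectionVars false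
set_option linter.style.haveILetI false
set_option linter.unusedSimpArgs false
universe u v w
open CategoryTheory CategoryTheory.Limits AlgebraicGeometry TopologicalSpace Opposite

namespace Groth.Agent.Lib.Helper4.CDivProperEq1

section Alg

/-- the key stalk computation: divisibility descends along a local homomorphism out of a
valuation ring as soon as the image of `g` is nonzero. -/
theorem dvd_of_map_dvd {R R' : Type*} [CommRing R] [IsDomain R] [IsLocalRing R]
    [IsNoetherianRing R] [IsIntegrallyClosed R] (hdim : ringKrullDim R ≤ 1) [CommRing R']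
    [IsLocalRing R'] (φ : R →+* R') [IsLocalHom φ] (g h : R)
    (hgh : φ g ∈ Ideal.span {φ h}) (hg : φ g ≠ 0) : g ∈ Ideal.span {h} := by
  haveI : ValuationRing R :=
    Groth.Agent.Lib.Helper4.ValCritBirational1.valuationRing_of_dim_le_one R hdim
  obtain ⟨c, hc | hc⟩ := ValuationRing.cond g h
  · by_cases hu : IsUnit c
    · obtain ⟨u, rfl⟩ := hu
      rw [Ideal.mem_span_singleton']
      refine ⟨↑u⁻¹, ?_⟩
      rw [← hc, mul_comm, mul_assoc, Units.mul_inv, mul_one]
    · exfalso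
      apply hg
      rw [Ideal.mem_span_singleton'] at hgh
      obtain ⟨b, hb⟩ := hgh
      rw [← hc, map_mul] at hb
      have h1 : φ g * (1 - b * φ c) = 0 := by linear_combination (-1 : R') * hb
      have h2 : IsUnit (1 - b * φ c) := by
        apply IsLocalRing.isUnit_one_sub_self_of_mem_nonunits
        have hc' : φ c ∈ IsLocalRing.maximalIdeal R' := by
          rw [IsLocalRing.mem_maximalIdeal, mem_nonunits_iff]
          exact fun hu' => hu ((isUnit_map_iff φ c).mp hu')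
        exact (IsLocalRing.mem_maximalIdeal _).mp (Ideal.mul_mem_left _ b hc')
      exact (h2.mul_left_eq_zero).mp h1
  · rw [Ideal.mem_span_singleton']
    exact ⟨c, by rw [mul_comm]; exact hc⟩

theorem exists_mul_mem_of_localization {A L : Type*} [CommRing A] [CommRing L] [Algebra A L]
    (M : Submonoid A) [IsLocalization M L] (g h : A)
    (H : algebraMap A L g ∈ Ideal.span {algebraMap A L h}) :
    ∃ a ∈ M, a * g ∈ Ideal.span {h} := by
  rw [Ideal.mem_span_singleton'] at H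
  obtain ⟨c, hc⟩ := H
  obtain ⟨⟨c0, s⟩, hs⟩ := IsLocalization.surj M c
  simp only at hs
  have h1 : algebraMap A L (s * g) = algebraMap A L (c0 * h) := by
    rw [map_mul, map_mul, ← hc, ← hs]; ring
  obtain ⟨t, ht⟩ := IsLocalization.exists_of_eq (M := M) h1
  refine ⟨t * s, M.mul_mem t.2 s.2, ?_⟩
  rw [Ideal.mem_span_singleton']
  exact ⟨t * c0, by rw [mul_assoc, mul_assoc, ← ht]⟩

theorem le_one_of_not_two_le (d : WithBot ℕ∞) (h : ¬ (2 : WithBot ℕ∞) ≤ d) : d ≤ 1 := by
  rw [not_le] at h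
  induction d using WithBot.recBotCoe with
  | bot => exact bot_le
  | coe n =>
    have h' : n < 2 := by
      have h0 : ((n : ℕ∞) : WithBot ℕ∞) < ((2 : ℕ∞) : WithBot ℕ∞) := h
      exact WithBot.coe_lt_coe.mp h0
    have : n ≤ 1 := by
      rw [← one_add_one_eq_two] at h'
      exact (ENat.lt_add_one_iff (by simp)).mp h'
    have h3 : ((n : ℕ∞) : WithBot ℕ∞) ≤ ((1 : ℕ∞) : WithBot ℕ∞) := WithBot.coe_le_coe.mpr this
    exact h3

end Alg

section Geo
variable {S S' : Scheme.{u}}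

lemma res_res {A B C : S.Opens} (i : B ⟶ A) (j : C ⟶ B) (k : C ⟶ A) (s : Γ(S, A)) :
    S.presheaf.map j.op (S.presheaf.map i.op s) = S.presheaf.map k.op s := by
  rw [← ConcreteCategory.comp_apply, ← S.presheaf.map_comp]
  rfl

theorem surjective_of_ker_eq_bot (f : S' ⟶ S) [IsProper f] (hdom : f.ker = ⊥) :
    Function.Surjective f := by
  have h1 := Scheme.Hom.support_ker f
  rw [hdom, Scheme.IdealSheafData.support_bot] at h1
  have h2 : IsClosed (Set.range f) := f.isClosedMap.isClosed_range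
  rw [h2.closure_eq] at h1
  intro y
  have : y ∈ Set.range f := by rw [← h1]; trivial
  exact this

theorem isUnit_germ_of_notMem_support (D : S.IdealSheafData) (W : S.affineOpens) (g : Γ(S, W.1))
    (hg : D.ideal W = Ideal.span {g}) (x : S) (hxW : x ∈ W.1) (hx : x ∉ D.support) :
    IsUnit (S.presheaf.germ W.1 x hxW g) := by
  rw [← Scheme.mem_basicOpen]
  by_contra hb
  apply hx
  have := Scheme.IdealSheafData.coe_support_inter D W
  have h2 : x ∈ S.zeroLocus (U := W.1) (D.ideal W : Set _) ∩ W.1 := by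
    rw [hg, Scheme.zeroLocus_span, Scheme.zeroLocus_singleton]
    exact ⟨hb, hxW⟩
  rw [← this] at h2
  exact h2.1

theorem germ_appLE (f : S' ⟶ S) (W : S.Opens) (V' : S'.Opens) (e : V' ≤ f ⁻¹ᵁ W) (z : S')
    (hz : z ∈ V') (g : Γ(S, W)) :
    S'.presheaf.germ V' z hz (f.appLE W V' e g) =
      f.stalkMap z (S.presheaf.germ W (f z) (e hz) g) := by
  rw [Scheme.Hom.germ_stalkMap_apply, Scheme.Hom.appLE, CommRingCat.comp_apply,
    TopCat.Presheaf.germ_res_apply]

theorem nzd_res (W : S.affineOpens) (h : Γ(S, W.1)) (hh : h ∈ nonZeroDivisors Γ(S, W.1))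
    (V : S.Opens) (hVW : V ≤ W.1) (t : Γ(S, V))
    (ht : t * S.presheaf.map (homOfLE hVW).op h = 0) : t = 0 := by
  apply TopCat.Presheaf.section_ext S.sheaf V t 0
  intro x hx
  rw [map_zero]
  have hxW := hVW hx
  letI := TopCat.Presheaf.algebra_section_stalk S.presheaf ⟨x, hxW⟩
  haveI := W.2.isLocalization_stalk ⟨x, hxW⟩
  have h1 : S.presheaf.germ W.1 x hxW h ∈ nonZeroDivisors (S.presheaf.stalk x) :=
    IsLocalization.map_nonZeroDivisors_le (W.2.primeIdealOf ⟨x, hxW⟩).asIdeal.primeCompl _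
      ⟨h, hh, rfl⟩
  have h2 := congrArg (S.presheaf.germ V x hx) ht
  rw [map_mul, map_zero, TopCat.Presheaf.germ_res_apply] at h2
  exact (mem_nonZeroDivisors_iff_right.mp h1) _ h2

theorem exists_mul_mem [IsLocallyNoetherian S]
    (hnorm : ∀ x : S, IsDomain (S.presheaf.stalk x) ∧ IsIntegrallyClosed (S.presheaf.stalk x))
    (f : S' ⟶ S) [IsProper f] (hdom : f.ker = ⊥)
    (U : S.Opens) (hU' : CInt.IsSchematicallyDense (f ⁻¹ᵁ U))
    (D E : S.IdealSheafData) (hDU : (D.support : Set S) ⊆ (U : Set S)ᶜ)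
    (hle : D.comap f ≤ E.comap f)
    (W : S.affineOpens) (g h : Γ(S, W.1)) (hg : D.ideal W = Ideal.span {g})
    (hh : E.ideal W = Ideal.span {h})
    (y : S) (hyW : y ∈ W.1) (hdim : ringKrullDim (S.presheaf.stalk y) ≤ 1) :
    ∃ a : Γ(S, W.1), y ∈ S.basicOpen a ∧ a * g ∈ Ideal.span {h} := by
  obtain ⟨s', rfl⟩ := surjective_of_ker_eq_bot f hdom y
  obtain ⟨_, ⟨V', hV', rfl⟩, hs'V', hV'W⟩ :=
    S'.isBasis_affineOpens.exists_subset_of_mem_open (show s' ∈ f ⁻¹ᵁ W.1 from hyW)
      (f ⁻¹ᵁ W.1).isOpen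
  have e : V' ≤ f ⁻¹ᵁ W.1 := hV'W
  have h1 : f.appLE W.1 V' e g ∈ Ideal.span {f.appLE W.1 V' e h} := by
    have := (Scheme.IdealSheafData.le_def.mp hle) ⟨V', hV'⟩
    rw [Groth.Agent.Helper7.FormalCompl.ideal_comap_eq_map f D W.1 W.2 V' hV' e,
      Groth.Agent.Helper7.FormalCompl.ideal_comap_eq_map f E W.1 W.2 V' hV' e] at this
    have this' : Ideal.map (f.appLE W.1 V' e).hom (D.ideal W) ≤
        Ideal.map (f.appLE W.1 V' e).hom (E.ideal W) := this
    rw [hg, hh, Ideal.map_span, Ideal.map_span,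
      Set.image_singleton, Set.image_singleton] at this'
    exact (Ideal.span_le.mp this') (Set.mem_singleton _)
  haveI := (hnorm (f s')).1
  haveI := (hnorm (f s')).2
  let φ : S.presheaf.stalk (f s') →+* S'.presheaf.stalk s' := (f.stalkMap s').hom
  haveI : IsLocalHom φ := inferInstanceAs (IsLocalHom (f.stalkMap s').hom)
  have hkey : ∀ (z : S') (hz : z ∈ V') (r : Γ(S, W.1)),
      S'.presheaf.germ V' z hz (f.appLE W.1 V' e r) =
        f.stalkMap z (S.presheaf.germ W.1 (f z) (e hz) r) :=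
    fun z hz r => germ_appLE f W.1 V' e z hz r
  have h2 : S.presheaf.germ W.1 (f s') hyW g ∈
      Ideal.span {S.presheaf.germ W.1 (f s') hyW h} := by
    apply dvd_of_map_dvd hdim φ
    · show f.stalkMap s' _ ∈ Ideal.span {f.stalkMap s' _}
      rw [← hkey s' hs'V' g, ← hkey s' hs'V' h]
      rw [Ideal.mem_span_singleton'] at h1 ⊢
      obtain ⟨b, hb⟩ := h1
      exact ⟨S'.presheaf.germ V' s' hs'V' b, by rw [← map_mul, hb]⟩
    · show f.stalkMap s' _ ≠ 0
      rw [← hkey s' hs'V' g]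
      intro h0
      obtain ⟨N', hs'N', i1, i2, hres⟩ := TopCat.Presheaf.germ_eq S'.presheaf s' hs'V' hs'V'
        (f.appLE W.1 V' e g) 0 (by rw [h0, map_zero])
      rw [map_zero] at hres
      have hbot : N' ⊓ f ⁻¹ᵁ U = ⊥ := by
        rw [eq_bot_iff]
        rintro z ⟨hzN, hzU⟩
        exfalso
        have hzV : z ∈ V' := i1.le hzN
        have hu := isUnit_germ_of_notMem_support D W g hg (f z) (e hzV)
          (fun hs => hDU hs hzU)
        have hu' : IsUnit (f.stalkMap z (S.presheaf.germ W.1 (f z) (e hzV) g)) :=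
          hu.map (f.stalkMap z).hom
        rw [← hkey z hzV g, ← TopCat.Presheaf.germ_res_apply S'.presheaf i1 z hzN, hres,
          map_zero] at hu'
        exact not_isUnit_zero hu'
      have hinj := hU' N'
      have hsub : ∀ O : S'.Opens, O = ⊥ → Subsingleton Γ(S', O) := by
        rintro _ rfl; infer_instance
      haveI := hsub _ hbot
      have h10 : (1 : Γ(S', N')) = 0 := hinj (Subsingleton.elim _ _)
      have := congrArg (S'.presheaf.germ N' s' hs'N') h10
      rw [map_one, map_zero] at this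
      exact one_ne_zero this
  letI := TopCat.Presheaf.algebra_section_stalk S.presheaf ⟨f s', hyW⟩
  haveI := W.2.isLocalization_stalk ⟨f s', hyW⟩
  obtain ⟨a, ha, hag⟩ := exists_mul_mem_of_localization
    (W.2.primeIdealOf ⟨f s', hyW⟩).asIdeal.primeCompl (L := S.presheaf.stalk (f s')) g h h2
  refine ⟨a, ?_, hag⟩
  rw [Scheme.mem_basicOpen _ _ _ hyW]
  exact IsLocalization.map_units (S.presheaf.stalk (f s')) ⟨a, ha⟩

theorem mem_span_of_hartogs [IsLocallyNoetherian S] (hnorm : Pi1.IsNormalScheme S)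
    (W : S.affineOpens) (g h : Γ(S, W.1)) (hh : h ∈ nonZeroDivisors Γ(S, W.1))
    (H : ∀ y : S, y ∈ W.1 → ringKrullDim (S.presheaf.stalk y) ≤ 1 →
      ∃ a : Γ(S, W.1), y ∈ S.basicOpen a ∧ a * g ∈ Ideal.span {h}) :
    g ∈ Ideal.span {h} := by
  let Idx : Type u := {a : Γ(S, W.1) // a * g ∈ Ideal.span {h}}
  let Uf : Idx → S.Opens := fun a => S.basicOpen a.1
  let B : S.Opens := ⨆ a : Idx, Uf a
  have hUW : ∀ a : Idx, Uf a ≤ W.1 := fun a => S.basicOpen_le a.1
  have hBW : B ≤ W.1 := iSup_le hUW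
  have hcodim : ∀ x : S, x ∈ W.1 → x ∉ B →
      (2 : WithBot ℕ∞) ≤ ringKrullDim (S.presheaf.stalk x) := by
    intro x hxW hxB
    by_contra hd
    obtain ⟨a, hxa, ha⟩ := H x hxW (le_one_of_not_two_le _ hd)
    exact hxB (Opens.mem_iSup.2 ⟨⟨a, ha⟩, hxa⟩)
  have hbij := Groth.Agent.Lead.HartogsNI.hartogs_bijective' hnorm hBW hcodim
  have hex : ∀ a : Idx, ∃ u : Γ(S, Uf a), S.presheaf.map (homOfLE (hUW a)).op g =
      u * S.presheaf.map (homOfLE (hUW a)).op h := by
    rintro ⟨a, ha⟩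
    rw [Ideal.mem_span_singleton'] at ha
    obtain ⟨c, hc⟩ := ha
    have hunit : IsUnit (S.presheaf.map (homOfLE (S.basicOpen_le a)).op a) :=
      S.toRingedSpace.isUnit_res_basicOpen a
    obtain ⟨v, hv⟩ := hunit
    refine ⟨↑v⁻¹ * S.presheaf.map (homOfLE (S.basicOpen_le a)).op c, ?_⟩
    have h3 := congrArg (S.presheaf.map (homOfLE (S.basicOpen_le a)).op) hc
    rw [map_mul, map_mul] at h3
    have hv' : (v : Γ(S, S.basicOpen a)) = S.presheaf.map (homOfLE (S.basicOpen_le a)).op a := hv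
    show S.presheaf.map (homOfLE (S.basicOpen_le a)).op g = _
    calc S.presheaf.map (homOfLE (S.basicOpen_le a)).op g
        = ↑v⁻¹ * (↑v * S.presheaf.map (homOfLE (S.basicOpen_le a)).op g) := by
          rw [← mul_assoc, Units.inv_mul, one_mul]
      _ = ↑v⁻¹ * (S.presheaf.map (homOfLE (S.basicOpen_le a)).op c *
            S.presheaf.map (homOfLE (S.basicOpen_le a)).op h) := by rw [hv', h3]
      _ = _ := by ring
  choose sf hsf using hex
  have hcompat : TopCat.Presheaf.IsCompatible S.presheaf Uf sf := by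
    intro a a'
    have hle : Uf a ⊓ Uf a' ≤ W.1 := inf_le_left.trans (hUW a)
    rw [← sub_eq_zero]
    apply nzd_res W h hh _ hle
    rw [sub_mul, sub_eq_zero]
    have e1 : S.presheaf.map (Opens.infLELeft (Uf a) (Uf a')).op (sf a) *
        S.presheaf.map (homOfLE hle).op h = S.presheaf.map (homOfLE hle).op g := by
      rw [← res_res (homOfLE (hUW a)) (Opens.infLELeft (Uf a) (Uf a')) (homOfLE hle) h,
        ← map_mul, ← hsf a, res_res _ _ (homOfLE hle) g]
    have e2 : S.presheaf.map (Opens.infLERight (Uf a) (Uf a')).op (sf a') *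
        S.presheaf.map (homOfLE hle).op h = S.presheaf.map (homOfLE hle).op g := by
      rw [← res_res (homOfLE (hUW a')) (Opens.infLERight (Uf a) (Uf a')) (homOfLE hle) h,
        ← map_mul, ← hsf a', res_res _ _ (homOfLE hle) g]
    exact e1.trans e2.symm
  have hglue : ∃ u : Γ(S, B), ∀ a : Idx,
      S.presheaf.map (homOfLE (le_iSup Uf a : Uf a ≤ B)).op u = sf a := by
    obtain ⟨u, hu, -⟩ := S.sheaf.existsUnique_gluing' Uf B (fun a => homOfLE (le_iSup Uf a))
      le_rfl sf hcompat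
    exact ⟨u, hu⟩
  obtain ⟨u, hu⟩ := hglue
  obtain ⟨ũ, hũ⟩ := hbij.2 u
  have hfin : g = ũ * h := by
    apply hbij.1
    rw [map_mul, hũ]
    apply S.sheaf.eq_of_locally_eq' Uf B (fun a => homOfLE (le_iSup Uf a)) le_rfl
    intro a
    show S.presheaf.map _ (S.presheaf.map _ g) = S.presheaf.map _ (u * S.presheaf.map _ h)
    rw [map_mul, res_res _ _ (homOfLE (hUW a)) g, hsf a, res_res _ _ (homOfLE (hUW a)) h]
    congr 1
    exact (hu a).symm
  rw [Ideal.mem_span_singleton']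
  exact ⟨ũ, hfin.symm⟩

theorem principal_basicOpen (I : S.IdealSheafData) (U1 : S.affineOpens) (g : Γ(S, U1.1))
    (hg : I.ideal U1 = Ideal.span {g}) (a : Γ(S, U1.1)) :
    I.ideal (S.affineBasicOpen a) =
      Ideal.span {S.presheaf.map (homOfLE (S.basicOpen_le a)).op g} := by
  rw [← I.map_ideal_basicOpen U1 a, hg, Ideal.map_span, Set.image_singleton]

theorem nzd_basicOpen (U1 : S.affineOpens) (h : Γ(S, U1.1))
    (hh : h ∈ nonZeroDivisors Γ(S, U1.1)) (a : Γ(S, U1.1)) :
    S.presheaf.map (homOfLE (S.basicOpen_le a)).op h ∈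
      nonZeroDivisors Γ(S, S.basicOpen a) := by
  rw [mem_nonZeroDivisors_iff_right]
  intro t ht
  exact nzd_res U1 h hh _ (S.basicOpen_le a) t ht

theorem le_of_comap_le [IsLocallyNoetherian S]
    (hnorm : ∀ x : S, IsDomain (S.presheaf.stalk x) ∧ IsIntegrallyClosed (S.presheaf.stalk x))
    (f : S' ⟶ S) [IsProper f] (hdom : f.ker = ⊥)
    (U : S.Opens) (hU' : CInt.IsSchematicallyDense (f ⁻¹ᵁ U)) (D E : S.IdealSheafData)
    (hD : (∀ x : S, ∃ U : S.affineOpens, x ∈ (U : S.Opens) ∧ ∃ g : Γ(S, U),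
      g ∈ nonZeroDivisors Γ(S, U) ∧ D.ideal U = Ideal.span {g}))
    (hE : (∀ x : S, ∃ U : S.affineOpens, x ∈ (U : S.Opens) ∧ ∃ g : Γ(S, U),
      g ∈ nonZeroDivisors Γ(S, U) ∧ E.ideal U = Ideal.span {g}))
    (hDU : (D.support : Set S) ⊆ (U : Set S)ᶜ) (hle : D.comap f ≤ E.comap f) : D ≤ E := by
  let ι : Type u := {W : S.affineOpens // (∃ g : Γ(S, W.1), D.ideal W = Ideal.span {g}) ∧
    ∃ h : Γ(S, W.1), h ∈ nonZeroDivisors Γ(S, W.1) ∧ E.ideal W = Ideal.span {h}}
  apply Scheme.IdealSheafData.le_of_iSup_eq_top (fun i : ι => i.1)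
  · rw [eq_top_iff]
    intro x _
    obtain ⟨U1, hx1, g, -, hg⟩ := hD x
    obtain ⟨U2, hx2, h, hh, hh'⟩ := hE x
    obtain ⟨a, b, hab, hxa⟩ := exists_basicOpen_le_affine_inter U1.2 U2.2 x ⟨hx1, hx2⟩
    have hW : S.affineBasicOpen b = S.affineBasicOpen a := Subtype.ext hab.symm
    have key : ∀ W' : S.affineOpens, S.affineBasicOpen b = W' →
        ∃ h : Γ(S, W'.1), h ∈ nonZeroDivisors Γ(S, W'.1) ∧ E.ideal W' = Ideal.span {h} := by
      rintro _ rfl
      exact ⟨_, nzd_basicOpen U2 h hh b, principal_basicOpen E U2 h hh' b⟩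
    exact Opens.mem_iSup.2
      ⟨⟨S.affineBasicOpen a, ⟨_, principal_basicOpen D U1 g hg a⟩, key _ hW⟩, hxa⟩
  · rintro ⟨W, ⟨g, hg⟩, h, hh, hh'⟩
    show D.ideal W ≤ E.ideal W
    rw [hg, hh', Ideal.span_singleton_le_iff_mem]
    exact mem_span_of_hartogs hnorm W g h hh (fun y hyW hdim =>
      exists_mul_mem hnorm f hdom U hU' D E hDU hle W g h hg hh' y hyW hdim)

theorem main
    {S S' : Scheme.{u}} [IsLocallyNoetherian S]
    (hnorm : ∀ x : S, IsDomain (S.presheaf.stalk x) ∧ IsIntegrallyClosed (S.presheaf.stalk x))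
    (f : S' ⟶ S) [IsProper f] (hdom : f.ker = ⊥)
    (U : S.Opens) (hU : CInt.IsSchematicallyDense U) (hU' : CInt.IsSchematicallyDense (f ⁻¹ᵁ U))
    (D E : S.IdealSheafData)
    (hD : (∀ x : S, ∃ U : S.affineOpens, x ∈ (U : S.Opens) ∧ ∃ g : Γ(S, U), g ∈ nonZeroDivisors Γ(S, U) ∧ D.ideal U = Ideal.span {g}))
    (hE : (∀ x : S, ∃ U : S.affineOpens, x ∈ (U : S.Opens) ∧ ∃ g : Γ(S, U), g ∈ nonZeroDivisors Γ(S, U) ∧ E.ideal U = Ideal.span {g}))
    (hDU : (D.support : Set S) ⊆ (U : Set S)ᶜ) (hEU : (E.support : Set S) ⊆ (U : Set S)ᶜ)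
    (h : D.comap f = E.comap f) : D = E :=
  le_antisymm (le_of_comap_le hnorm f hdom U hU' D E hD hE hDU h.le)
    (le_of_comap_le hnorm f hdom U hU' E D hE hD hEU h.ge)

end Geo

end Groth.Agent.Lib.Helper4.CDivProperEq1
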