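import Mathlib
import Groth.Prelude.Def_Curv2
import Groth.Agent.Lib.Helper4.SerreVan

/-!
# Castelnuovo-Mumford regularity: extensions of m-regular modules are m-regular (helper4)
-/

set_option backward.isDefEq.respectTransparency.types false
set_option synthInstance.maxHeartbeats 400000
set_option autoImplicit false
set_option linter.unusedSectionVars false
set_option linter.style.haveILetI false
set_option linter.unusedSimpArgs false
universe u v w
open CategoryTheory CategoryTheory.Limits AlgebraicGeometry TopologicalSpace Opposite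
open Groth.Agent.Helper1
open Groth.Agent.Lib.Helper4

namespace Groth.Agent.Lib.Helper4.CMReg1

theorem s14173 (k : Type u) [Field k]
    (n : ℕ) (S : ShortComplex (CohB1.ProjSpace n k).Modules) (hS : S.ShortExact) (m : ℤ)
    (hreg₁ : Curv2.IsMRegular k n S.X₁ m) (hreg₃ : Curv2.IsMRegular k n S.X₃ m) :
    Curv2.IsMRegular k n S.X₂ m := by
  intro i hi1 hin
  have hL := SerreVan.locGen_twist n k (m - i)
  have hS' := TwExact.shortExact_map hL hS
  refine subsingleton_of_forall_eq 0 fun x => ?_
  have h3 : Canon.HHlin k (S.map (TwExact.TL (Twist.twistProjSpace n k (m - i)))).g i x = 0 :=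
    Subsingleton.elim (h := hreg₃ i hi1 hin) _ _
  obtain ⟨y, rfl⟩ := HHFin2.exact_f_g k hS' i x h3
  have hy : y = 0 := @Subsingleton.elim _ (hreg₁ i hi1 hin) y 0
  rw [hy]
  exact map_zero _

end Groth.Agent.Lib.Helper4.CMReg1
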