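import Mathlib
import Groth.Prelude.Def_Algz
import Groth.Prelude.Def_Wider
import Groth.Prelude.Def_Formal
import Groth.Prelude.Def_Coh
import Groth.Agent.Lib.Helper4.CanonExt
import Groth.Agent.Lib.Helper4.CohFormalPB
import Groth.Agent.Lib.Lead.FBC2

/-!
# Canonical extension is stable under flat base change of the ring; ring change for coherent formal modules; naturality of the base change map (S9538) (helper4)
-/

set_option backward.isDefEq.respectTransparency.types false
set_option synthInstance.maxHeartbeats 400000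
set_option autoImplicit false
set_option linter.unusedSectionVars false
set_option linter.style.haveILetI false
set_option linter.unusedSimpArgs false
universe u v w
open CategoryTheory CategoryTheory.Limits AlgebraicGeometry TopologicalSpace Topology

namespace Groth.Agent.Lib.Helper4.CanonExtBC

open Opposite Groth.Agent.Lib.Helper4.IPow1 Groth.Agent.Lib.Helper4.CohFormalPB
  Groth.Agent.Lib.Helper4.CanonExt

section RingChange

variable {A₁ A₂ : Type u} [CommRing A₁] [CommRing A₂] (φ : A₁ →+* A₂)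
  {X : Scheme.{u}} [X.Over (Spec (CommRingCat.of A₁))] [X.Over (Spec (CommRingCat.of A₂))]
  (hk : (X ↘ Spec (CommRingCat.of A₁)) =
    (X ↘ Spec (CommRingCat.of A₂)) ≫ Spec.map (CommRingCat.ofHom φ))

include hk in
theorem toGlobal_ringChange (a : A₁) :
    Coh.toGlobal (X ↘ Spec (CommRingCat.of A₁)) a =
      Coh.toGlobal (X ↘ Spec (CommRingCat.of A₂)) (φ a) := by
  unfold Coh.toGlobal
  rw [hk, Scheme.Hom.comp_appTop]
  have h := Scheme.ΓSpecIso_inv_naturality (CommRingCat.ofHom φ)
  have h2 := congrArg (fun ψ => ψ.hom a) h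
  change (X ↘ Spec (CommRingCat.of A₂)).appTop.hom
    ((Spec.map (CommRingCat.ofHom φ)).appTop.hom ((Scheme.ΓSpecIso (CommRingCat.of A₁)).inv.hom a)) = _
  change ((Scheme.ΓSpecIso (CommRingCat.of A₂)).inv.hom (φ a)) =
    (Spec.map (CommRingCat.ofHom φ)).appTop.hom ((Scheme.ΓSpecIso (CommRingCat.of A₁)).inv.hom a) at h2
  rw [← h2]
  rfl

include hk in
theorem smulMod_ringChange (M : X.Modules) (a : A₁) :
    Formal.smulMod A₁ M a = Formal.smulMod A₂ M (φ a) := by
  unfold Formal.smulMod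
  rw [toGlobal_ringChange φ hk a]

include hk in
theorem comp_eq_zero_of_mem_map (J : Ideal A₁) {N Q : X.Modules} (t : N ⟶ Q)
    (h : ∀ a ∈ J, Formal.smulMod A₁ N a ≫ t = 0) :
    ∀ b ∈ J.map φ, Formal.smulMod A₂ N b ≫ t = 0 := by
  intro b hb
  induction hb using Submodule.span_induction with
  | mem x hx =>
    obtain ⟨a, ha, rfl⟩ := hx
    rw [← smulMod_ringChange φ hk N a]
    exact h a ha
  | zero => rw [smulMod_zero, zero_comp]
  | add x y _ _ hx hy => rw [smulMod_add, Preadditive.add_comp, hx, hy, add_zero]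
  | smul c x _ hx =>
    rw [smul_eq_mul, mul_comm, ← smulMod_mul, Category.assoc, hx, comp_zero]

include hk in
theorem killedBy_map (J : Ideal A₁) (N : X.Modules) (h : Formal.KilledBy J N) :
    Formal.KilledBy (J.map φ) N := by
  intro b hb
  have := comp_eq_zero_of_mem_map φ hk J (𝟙 N) (fun a ha => by rw [h a ha, zero_comp]) b hb
  rwa [Category.comp_id] at this

include hk in
theorem smulFamily_comp_eq_zero_iff (J : Ideal A₁) {N Q : X.Modules} (t : N ⟶ Q) :
    Formal.smulFamily (J.map φ) N ≫ t = 0 ↔ Formal.smulFamily J N ≫ t = 0 := by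
  constructor
  · intro h
    apply Sigma.hom_ext
    intro a
    unfold Formal.smulFamily
    rw [← Category.assoc, Sigma.ι_desc, comp_zero, smulMod_ringChange φ hk N a]
    have h2 := congrArg (fun ψ => Sigma.ι (fun _ : (J.map φ : Ideal A₂) => N)
      ⟨φ a, Ideal.mem_map_of_mem φ a.2⟩ ≫ ψ) h
    simp only [comp_zero] at h2
    unfold Formal.smulFamily at h2
    rw [← Category.assoc, Sigma.ι_desc] at h2
    exact h2
  · intro h
    have h1 : ∀ a ∈ J, Formal.smulMod A₁ N a ≫ t = 0 := by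
      intro a ha
      have h2 := congrArg (fun ψ => Sigma.ι (fun _ : J => N) ⟨a, ha⟩ ≫ ψ) h
      simp only [comp_zero] at h2
      unfold Formal.smulFamily at h2
      rw [← Category.assoc, Sigma.ι_desc] at h2
      exact h2
    apply Sigma.hom_ext
    intro b
    unfold Formal.smulFamily
    rw [← Category.assoc, Sigma.ι_desc, comp_zero]
    exact comp_eq_zero_of_mem_map φ hk J t h1 b b.2

include hk in
theorem isCohFormal_ringChange (I : Ideal A₁) (G : ℕᵒᵖ ⥤ X.Modules) (hG : Formal.IsCohFormal I G) :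
    Formal.IsCohFormal (I.map φ) G := by
  refine ⟨hG.1, fun n => ?_, fun n => ?_⟩
  · rw [← Ideal.map_pow]
    exact killedBy_map φ hk _ _ (hG.2.1 n)
  · obtain ⟨h, hi⟩ := hG.2.2 n
    have hc := isColimitOfIsIsoDesc _ _ h hi
    have h' : Formal.smulFamily ((I.map φ) ^ (n + 1)) (G.obj (op (n + 1))) ≫
        G.map (homOfLE (Nat.le_succ n)).op = 0 := by
      rw [← Ideal.map_pow]
      exact (smulFamily_comp_eq_zero_iff φ hk _ _).2 h
    refine ⟨h', isIso_desc_of_isColimit _ _ h' ?_⟩
    have key : ∀ {Q : X.Modules} (ψ : G.obj (op (n + 1)) ⟶ Q),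
        Formal.smulFamily ((I.map φ) ^ (n + 1)) (G.obj (op (n + 1))) ≫ ψ = 0 →
        Formal.smulFamily (I ^ (n + 1)) (G.obj (op (n + 1))) ≫ ψ = 0 := by
      intro Q ψ hψ
      rw [← Ideal.map_pow] at hψ
      exact (smulFamily_comp_eq_zero_iff φ hk _ _).1 hψ
    exact CokernelCofork.IsColimit.ofπ _ _
      (fun ψ hψ => hc.desc (CokernelCofork.ofπ ψ (key ψ hψ)))
      (fun ψ hψ => hc.fac (CokernelCofork.ofπ ψ (key ψ hψ)) WalkingParallelPair.one)
      (fun ψ hψ m hm => Cofork.IsColimit.hom_ext hc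
        (hm.trans (hc.fac (CokernelCofork.ofπ ψ (key ψ hψ)) WalkingParallelPair.one).symm))

end RingChange

section BCNat

open Scheme.Modules Groth.Agent.Lead.BCU

variable {X S X' S' : Scheme.{u}} (f : X ⟶ S) (g : S' ⟶ S) (g' : X' ⟶ X) (f' : X' ⟶ S')
  (h : IsPullback g' f' f g)

theorem vMap_natural {F F' : X.Modules} (φ : F ⟶ F') :
    (pushforward f).map φ ≫ vMap f g g' f' h F' =
      vMap f g g' f' h F ≫ (pushforward g).map ((pushforward f').map ((Scheme.Modules.pullback g').map φ)) := by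
  unfold vMap
  have h1 := (pullbackPushforwardAdjunction g').unit.naturality φ
  have h2 := (pushforwardComp g' f).hom.naturality ((Scheme.Modules.pullback g').map φ)
  have h3 := (pushforwardCongr h.w).hom.naturality ((Scheme.Modules.pullback g').map φ)
  have h4 := (pushforwardComp f' g).inv.naturality ((Scheme.Modules.pullback g').map φ)
  simp only [Functor.id_obj, Functor.id_map, Functor.comp_obj, Functor.comp_map] at h1 h2 h3 h4
  rw [← Category.assoc, ← Functor.map_comp, h1, Functor.map_comp, Category.assoc]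
  rw [← Category.assoc ((pushforward f).map ((pushforward g').map ((Scheme.Modules.pullback g').map φ))), h2,
    Category.assoc]
  rw [← Category.assoc ((pushforward (g' ≫ f)).map ((Scheme.Modules.pullback g').map φ)), h3, Category.assoc]
  rw [h4]
  simp only [Category.assoc]

theorem bcMap_natural {F F' : X.Modules} (φ : F ⟶ F') :
    (Scheme.Modules.pullback g).map ((pushforward f).map φ) ≫ bcMap f g g' f' h F' =
      bcMap f g g' f' h F ≫ (pushforward f').map ((Scheme.Modules.pullback g').map φ) := by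
  unfold bcMap
  rw [← Adjunction.homEquiv_naturality_left_symm, ← Adjunction.homEquiv_naturality_right_symm,
    vMap_natural]

end BCNat

section Main

open Groth.Agent.Helper1 Groth.Agent.Lead.BCU Groth.Agent.Lead.FBC

/-- `(Γ(-))~ ≅ id` on a system of quasi-coherent modules on an affine scheme -/
noncomputable def tildeΓSysIso (R : CommRingCat.{u}) (P : ℕᵒᵖ ⥤ (Spec R).Modules)
    (hP : ∀ n : ℕᵒᵖ, (P.obj n).IsQuasicoherent) :
    P ⋙ moduleSpecΓFunctor (R := R) ⋙ tilde.functor R ≅ P := by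
  have hiso : ∀ n : ℕᵒᵖ, IsIso ((Scheme.Modules.fromTildeΓNatTrans (R := R)).app (P.obj n)) :=
    fun n => @Scheme.Modules.isIso_fromTildeΓ_of_isQuasicoherent R (P.obj n) (hP n)
  refine NatIso.ofComponents (fun n =>
    @asIso _ _ _ _ ((Scheme.Modules.fromTildeΓNatTrans (R := R)).app (P.obj n)) (hiso n)) ?_
  intro n n' φ
  exact (Scheme.Modules.fromTildeΓNatTrans (R := R)).naturality (P.map φ)

variable {X S X' S' : Scheme.{u}} (f : X ⟶ S) (g : S' ⟶ S) (g' : X' ⟶ X) (f' : X' ⟶ S')
  (h : IsPullback g' f' f g)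

/-- flat base change for systems -/
noncomputable def bcSysIso [QuasiCompact f] [QuasiSeparated f] [Flat g]
    (G : ℕᵒᵖ ⥤ X.Modules) (hG : ∀ n : ℕᵒᵖ, (G.obj n).IsQuasicoherent) :
    (G ⋙ Scheme.Modules.pushforward f) ⋙ Scheme.Modules.pullback g ≅
      (G ⋙ Scheme.Modules.pullback g') ⋙ Scheme.Modules.pushforward f' := by
  have hiso : ∀ n : ℕᵒᵖ, IsIso (bcMap f g g' f' h (G.obj n)) := fun n =>
    haveI := hG n
    isIso_bcMap_flat f g g' f' h (G.obj n)
  refine NatIso.ofComponents (fun n => @asIso _ _ _ _ (bcMap f g g' f' h (G.obj n)) (hiso n)) ?_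
  intro n n' φ
  exact bcMap_natural f g g' f' h (G.map φ)

end Main

section Final

open Groth.Agent.Helper1 Groth.Agent.Lead

variable (A : Type u) [CommRing A] (A' : Type u) [CommRing A'] [Algebra A A'] [Module.Flat A A']

theorem main_gen (I : Ideal A) (U : (Spec (CommRingCat.of A)).Opens) [QuasiCompact U.ι]
    (G : ℕᵒᵖ ⥤ (↑U : Scheme.{u}).Modules) (hG : ∀ n : ℕᵒᵖ, (G.obj n).IsQuasicoherent)
    (h : Algz.CanonicallyExtends A I U G) :
    Algz.CanonicallyExtends A' (I.map (algebraMap A A'))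
      (Spec.map (CommRingCat.ofHom (algebraMap A A')) ⁻¹ᵁ U)
      (G ⋙ Scheme.Modules.pullback (morphismRestrict (Spec.map (CommRingCat.ofHom (algebraMap A A'))) U)) := by
  obtain ⟨H, hH, hpro⟩ := h
  obtain ⟨g, hg⟩ : ∃ g : Spec (CommRingCat.of A') ⟶ Spec (CommRingCat.of A),
      g = Spec.map (CommRingCat.ofHom (algebraMap A A')) := ⟨_, rfl⟩
  rw [← hg]
  haveI : Flat g := by
    rw [hg, Flat.SpecMap_iff]
    exact RingHom.flat_algebraMap_iff.2 inferInstance
  refine ⟨H ⋙ Scheme.Modules.pullback g, ?_, ?_⟩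
  · letI i1 : (Spec (CommRingCat.of A)).Over (Spec (CommRingCat.of A)) := ⟨𝟙 _⟩
    letI i2 : (Spec (CommRingCat.of A')).Over (Spec (CommRingCat.of A)) := ⟨g⟩
    have h1 : @Formal.IsCohFormal A _ (Spec (CommRingCat.of A')) i2 I (H ⋙ Scheme.Modules.pullback g) :=
      Groth.Agent.Lib.Helper4.CohFormalPB.main g (Category.comp_id _) I H hH
    letI i3 : (Spec (CommRingCat.of A')).Over (Spec (CommRingCat.of A')) := ⟨𝟙 _⟩
    exact @isCohFormal_ringChange A A' _ _ (algebraMap A A') (Spec (CommRingCat.of A')) i2 i3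
      (by rw [← hg]; exact (Category.id_comp _).symm) I _ h1
  · have hpro' := isProIsomorphic_comp (Scheme.Modules.pullback g) hpro
    refine isProIsomorphic_of_iso_left ?_ hpro'
    have hq : ∀ n : ℕᵒᵖ, ((G ⋙ Scheme.Modules.pushforward U.ι).obj n).IsQuasicoherent := fun n =>
      haveI := hG n
      PushQc.isQuasicoherent_pushforward U.ι (G.obj n)
    haveI : QuasiCompact (g ⁻¹ᵁ U).ι :=
      MorphismProperty.of_isPullback (P := @QuasiCompact) (isPullback_morphismRestrict g U)
        inferInstance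
    have hq' : ∀ n : ℕᵒᵖ, (((G ⋙ Scheme.Modules.pullback (g ∣_ U)) ⋙
        Scheme.Modules.pushforward (g ⁻¹ᵁ U).ι).obj n).IsQuasicoherent := fun n =>
      haveI := hG n
      haveI : ((Scheme.Modules.pullback (g ∣_ U)).obj (G.obj n)).IsQuasicoherent :=
        PB.isQuasicoherent_pullback (g ∣_ U) (G.obj n)
      PushQc.isQuasicoherent_pushforward (g ⁻¹ᵁ U).ι ((Scheme.Modules.pullback (g ∣_ U)).obj (G.obj n))
    have e1 := Functor.isoWhiskerRight (tildeΓSysIso (CommRingCat.of A)
      (G ⋙ Scheme.Modules.pushforward U.ι) hq) (Scheme.Modules.pullback g)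
    have e2 := bcSysIso U.ι g (g ∣_ U) (g ⁻¹ᵁ U).ι (isPullback_morphismRestrict g U) G hG
    have e3 := tildeΓSysIso (CommRingCat.of A')
      ((G ⋙ Scheme.Modules.pullback (g ∣_ U)) ⋙ Scheme.Modules.pushforward (g ⁻¹ᵁ U).ι) hq'
    exact e1 ≪≫ e2 ≪≫ e3.symm

end Final

theorem main (A : Type u) [CommRing A] [IsNoetherianRing A] (I 𝔞 : Ideal A) (hI𝔞 : I ≤ 𝔞)
    (G : ℕᵒᵖ ⥤ (↑(LocCoh.puncturedOpen A 𝔞) : Scheme.{u}).Modules) (hG : Formal.IsCohFormal I G)
    (A' : Type u) [CommRing A'] [Algebra A A'] [Module.Flat A A']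
    (h : Algz.CanonicallyExtends A I (LocCoh.puncturedOpen A 𝔞) G) :
    Algz.CanonicallyExtends A' (I.map (algebraMap A A')) (Spec.map (CommRingCat.ofHom (algebraMap A A')) ⁻¹ᵁ (LocCoh.puncturedOpen A 𝔞))
      (G ⋙ Scheme.Modules.pullback (morphismRestrict (Spec.map (CommRingCat.ofHom (algebraMap A A'))) (LocCoh.puncturedOpen A 𝔞))) :=
  main_gen A A' I (LocCoh.puncturedOpen A 𝔞) G (fun n => (hG.1 n.unop).1) h

end Groth.Agent.Lib.Helper4.CanonExtBC
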