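import Mathlib
import Groth.Prelude.Def_CartDual2
import Groth.Agent.Lib.Helper2.FF.Main
import Groth.Agent.Lib.Helper2.Hopf.KernelTorsor
import Groth.Agent.Lib.Helper3.PdFib1

/-!
# Cartier dual of a short exact sequence of finite flat commutative group schemes is exact (S15892) (helper4)
-/

set_option backward.isDefEq.respectTransparency.types false
set_option synthInstance.maxHeartbeats 400000
set_option autoImplicit false
set_option linter.unusedSectionVars false
set_option linter.style.haveILetI false
set_option linter.unusedSimpArgs false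
universe u v w
open TensorProduct
open CartDual

namespace Groth.Agent.Lib.Helper4.CartExact1

/-! ### P0 : transfer of flatness to the fibre form used by `PdFib` -/
section P0
variable (R : Type*) [CommRing R] (K L κ : Type*) [CommRing K] [CommRing L] [CommRing κ]
  [Algebra R K] [Algebra R L] [Algebra R κ] [Algebra K L] [IsScalarTower R K L]

/-- the comparison map `K ⊗ κ → L ⊗ κ` -/
noncomputable def psi : K ⊗[R] κ →ₐ[R] L ⊗[R] κ :=
  Algebra.TensorProduct.map (IsScalarTower.toAlgHom R K L) (AlgHom.id R κ)

lemma psi_tmul (k : K) (c : κ) : psi R K L κ (k ⊗ₜ c) = algebraMap K L k ⊗ₜ c := rfl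

theorem flat_fibre (h : (psi R K L κ).toRingHom.Flat) :
    Module.Flat (K ⊗[R] κ) ((K ⊗[R] κ) ⊗[K] L) := by
  letI : Algebra (K ⊗[R] κ) (L ⊗[R] κ) := (psi R K L κ).toRingHom.toAlgebra
  haveI : Module.Flat (K ⊗[R] κ) (L ⊗[R] κ) := h
  have hal : ∀ t : K ⊗[R] κ, algebraMap (K ⊗[R] κ) (L ⊗[R] κ) t = psi R K L κ t := fun _ => rfl
  haveI : IsScalarTower K (K ⊗[R] κ) (L ⊗[R] κ) := IsScalarTower.of_algebraMap_eq (fun k => by
    rw [hal, Algebra.TensorProduct.algebraMap_apply, Algebra.TensorProduct.algebraMap_apply,
      psi_tmul]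
    rfl)
  let F : (K ⊗[R] κ) ⊗[K] L →ₐ[K ⊗[R] κ] L ⊗[R] κ :=
    Algebra.TensorProduct.lift (Algebra.ofId (K ⊗[R] κ) (L ⊗[R] κ))
      (Algebra.TensorProduct.includeLeft : L →ₐ[K] L ⊗[R] κ) (fun _ _ => Commute.all _ _)
  let e₀ : (K ⊗[R] κ) ⊗[K] L ≃ₗ[K] L ⊗[R] κ :=
    (TensorProduct.comm K (K ⊗[R] κ) L).trans
      ((TensorProduct.AlgebraTensorModule.cancelBaseChange R K L L κ).restrictScalars K)
  have hF : ∀ x, F x = e₀ x := by
    intro x
    induction x using TensorProduct.induction_on with
    | zero => simp
    | add x y hx hy => rw [map_add, map_add, hx, hy]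
    | tmul t l =>
      induction t using TensorProduct.induction_on with
      | zero => simp
      | add x y hx hy => rw [TensorProduct.add_tmul, map_add, map_add, hx, hy]
      | tmul k c =>
        have h1 : F ((k ⊗ₜ[R] c) ⊗ₜ[K] l) = (algebraMap K L k * l) ⊗ₜ[R] c := by
          show Algebra.TensorProduct.lift _ _ _ ((k ⊗ₜ[R] c) ⊗ₜ[K] l) = _
          rw [Algebra.TensorProduct.lift_tmul, Algebra.ofId_apply, hal, psi_tmul,
            Algebra.TensorProduct.includeLeft_apply, Algebra.TensorProduct.tmul_mul_tmul, mul_one]
        have h2 : e₀ ((k ⊗ₜ[R] c) ⊗ₜ[K] l) = (k • l) ⊗ₜ[R] c := by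
          show (TensorProduct.AlgebraTensorModule.cancelBaseChange R K L L κ)
            (TensorProduct.comm K (K ⊗[R] κ) L ((k ⊗ₜ[R] c) ⊗ₜ[K] l)) = _
          rw [TensorProduct.comm_tmul, TensorProduct.AlgebraTensorModule.cancelBaseChange_tmul]
        rw [h1, h2, Algebra.smul_def]
  have hbij : Function.Bijective F.toLinearMap := by
    have h3 : (F.toLinearMap : (K ⊗[R] κ) ⊗[K] L → L ⊗[R] κ) = e₀ := funext hF
    rw [h3]; exact e₀.bijective
  exact Module.Flat.of_linearEquiv (LinearEquiv.ofBijective F.toLinearMap hbij)

end P0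


/-! ### P1 : projectivity and faithful flatness of a split injective Hopf map -/
section P1
variable (R : Type u) [CommRing R] [IsNoetherianRing R] (K L : Type u) [CommRing K] [CommRing L]
  [HopfAlgebra R K] [HopfAlgebra R L] [Module.Finite R K] [Module.Projective R K]
  [Module.Finite R L] [Module.Projective R L] [Algebra K L] [IsScalarTower R K L]
  (φ : K →ₐc[R] L) (hφ : ∀ x, algebraMap K L x = φ x) (r : L →ₗ[R] K) (hr : ∀ x, r (φ x) = x)

include hφ hr in
theorem psi_flat (κ : Type u) [Field κ] [Algebra R κ] : (psi R K L κ).toRingHom.Flat := by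
  let Φ : κ ⊗[R] K →ₐc[κ] κ ⊗[R] L := Bialgebra.TensorProduct.map (BialgHom.id κ κ) φ
  have hΦt : ∀ (c : κ) (k : K), Φ (c ⊗ₜ k) = c ⊗ₜ φ k := fun c k => rfl
  have hinj : Function.Injective Φ := by
    have hl : ∀ x, (r.lTensor κ) (Φ x) = x := by
      intro x
      induction x using TensorProduct.induction_on with
      | zero => simp
      | add x y hx hy => rw [map_add, map_add, hx, hy]
      | tmul c k => rw [hΦt, LinearMap.lTensor_tmul, hr]
    exact Function.LeftInverse.injective hl
  haveI : IsNoetherianRing (κ ⊗[R] K) := IsNoetherianRing.of_finite κ (κ ⊗[R] K)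
  have hΦ := (Groth.Agent.Helper2.FF.faithfullyFlat_of_injective_of_noetherian Φ hinj).flat
  have heq : (psi R K L κ).toRingHom =
      ((Algebra.TensorProduct.comm R κ L).toAlgHom.toRingHom).comp
        ((Φ : κ ⊗[R] K →+* κ ⊗[R] L).comp (Algebra.TensorProduct.comm R K κ).toAlgHom.toRingHom) := by
    apply RingHom.ext
    intro x
    induction x using TensorProduct.induction_on with
    | zero => simp
    | add x y hx hy => rw [map_add, map_add, hx, hy]
    | tmul k c =>
      show psi R K L κ (k ⊗ₜ c) = Algebra.TensorProduct.comm R κ L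
        (Φ (Algebra.TensorProduct.comm R K κ (k ⊗ₜ c)))
      rw [psi_tmul, Algebra.TensorProduct.comm_tmul, hΦt, Algebra.TensorProduct.comm_tmul, hφ]
  rw [heq]
  exact RingHom.Flat.comp (RingHom.Flat.comp
    (RingHom.Flat.of_bijective (Algebra.TensorProduct.comm R K κ).bijective) hΦ)
    (RingHom.Flat.of_bijective (Algebra.TensorProduct.comm R κ L).bijective)

include hφ hr in
theorem projective_KL : Module.Projective K L := by
  haveI : IsNoetherianRing K := IsNoetherianRing.of_finite R K
  haveI : Module.Finite K L := Module.Finite.of_restrictScalars_finite R K L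
  haveI : Module.FinitePresentation K L := Module.finitePresentation_of_finite K L
  apply Groth.Agent.Helper3.PdFib.projective_of_fibres R K L
  intro p
  exact flat_fibre R K L p.asIdeal.ResidueField
    (psi_flat R K L φ hφ r hr p.asIdeal.ResidueField)

include hφ hr in
theorem faithfullyFlat_KL : Module.FaithfullyFlat K L := by
  haveI := projective_KL R K L φ hφ r hr
  haveI : Module.Finite K L := Module.Finite.of_restrictScalars_finite R K L
  haveI : Algebra.IsIntegral K L := Algebra.IsIntegral.of_finite K L
  have hinj : Function.Injective (algebraMap K L) := by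
    intro x y hxy
    rw [hφ, hφ] at hxy
    have h1 := congrArg r hxy
    rwa [hr, hr] at h1
  haveI : FaithfulSMul K L := (faithfulSMul_iff_algebraMap_injective K L).mpr hinj
  exact Module.FaithfullyFlat.of_comap_surjective (Algebra.IsIntegral.comap_surjective K L)

end P1

/-! ### P2 : a retraction of a faithfully flat projective algebra -/
theorem exists_retraction (S B : Type*) [CommRing S] [CommRing B] [Algebra S B]
    [Module.FaithfullyFlat S B] [Module.Projective S B] : ∃ r : B →ₗ[S] S, r 1 = 1 := by
  obtain ⟨s, hs⟩ := Module.projective_def'.mp (inferInstance : Module.Projective S B)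
  let T : Ideal S := LinearMap.range (LinearMap.applyₗ (1 : B) : (B →ₗ[S] S) →ₗ[S] S)
  by_contra hcon
  have hT : T ≠ ⊤ := by
    intro h
    have h1 : (1 : S) ∈ T := h ▸ Submodule.mem_top
    obtain ⟨r, hr⟩ := h1
    exact hcon ⟨r, hr⟩
  obtain ⟨m, hm, hTm⟩ := Ideal.exists_le_maximal T hT
  have h1 : ∀ b, s 1 b ∈ m := fun b => hTm ⟨(Finsupp.lapply b) ∘ₗ s, rfl⟩
  have h2 : (1 : B) ∈ m • (⊤ : Submodule S B) := by
    have h3 : Finsupp.linearCombination S id (s 1) = (1 : B) := LinearMap.congr_fun hs 1
    rw [← h3, Finsupp.linearCombination_apply]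
    exact Submodule.sum_mem _ (fun b _ => Submodule.smul_mem_smul (h1 b) Submodule.mem_top)
  have h4 := Module.FaithfullyFlat.submodule_ne_top (R := S) (M := B) hm
  apply h4
  rw [Ideal.smul_top_eq_map] at h2 ⊢
  have h5 : Ideal.map (algebraMap S B) m = ⊤ := (Ideal.eq_top_iff_one _).mpr h2
  rw [h5]; rfl

/-! ### P3a : the projector killing the augmentation ideal extension -/
theorem exists_projector (R : Type*) [CommRing R] (K L : Type*) [CommRing K] [CommRing L]
    [Algebra R K] [Algebra R L] [Algebra K L] [IsScalarTower R K L] [Module.Projective K L]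
    (ε : K →ₐ[R] R) :
    ∃ e : L →ₗ[R] L, (∀ x ∈ Ideal.map (algebraMap K L) (RingHom.ker ε), e x = 0) ∧
      (∀ x, x - e x ∈ Ideal.map (algebraMap K L) (RingHom.ker ε)) := by
  obtain ⟨s, hs⟩ := Module.projective_def'.mp (inferInstance : Module.Projective K L)
  let e : L →ₗ[R] L :=
    (Finsupp.linearCombination R (id : L → L)) ∘ₗ (Finsupp.mapRange.linearMap ε.toLinearMap) ∘ₗ
      (s.restrictScalars R)
  have he : ∀ x, e x = Finsupp.linearCombination R (id : L → L)
      (Finsupp.mapRange.linearMap ε.toLinearMap (s x)) := fun _ => rfl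
  refine ⟨e, ?_, ?_⟩
  · intro x hx
    have hx' : x ∈ (RingHom.ker ε : Ideal K) • (⊤ : Submodule K L) := by
      rw [Ideal.smul_top_eq_map]; exact hx
    refine Submodule.smul_induction_on hx' (fun c hc l _ => ?_)
      (fun a b ha hb => by rw [map_add, ha, hb, add_zero])
    have hc0 : ε c = 0 := hc
    rw [he, map_smul]
    have h1 : Finsupp.mapRange.linearMap ε.toLinearMap (c • s l) = 0 := by
      ext b
      simp [hc0]
    rw [h1, map_zero]
  · intro x
    have h3 : Finsupp.linearCombination K id (s x) = x := LinearMap.congr_fun hs x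
    have h5 : e x = ∑ b ∈ (s x).support, (ε (s x b)) • b := by
      rw [he, Finsupp.linearCombination_apply, Finsupp.mapRange.linearMap_apply,
        Finsupp.sum_mapRange_index (by simp)]
      rfl
    have h6 : x = ∑ b ∈ (s x).support, (s x b) • b := by
      conv_lhs => rw [← h3, Finsupp.linearCombination_apply]
      rfl
    have h7 : x - e x = ∑ b ∈ (s x).support, ((s x b) • b - (ε (s x b)) • b) := by
      rw [Finset.sum_sub_distrib, ← h6, ← h5]
    rw [h7]
    apply Ideal.sum_mem
    intro b _
    have h8 : (s x b) • b - (ε (s x b)) • b =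
        algebraMap K L (s x b - algebraMap R K (ε (s x b))) * b := by
      rw [map_sub, sub_mul, ← Algebra.smul_def, ← IsScalarTower.algebraMap_apply,
        ← Algebra.smul_def]
    rw [h8]
    refine Ideal.mul_mem_right _ _ (Ideal.mem_map_of_mem _ ?_)
    rw [RingHom.mem_ker, map_sub, AlgHom.commutes, Algebra.algebraMap_self, RingHom.id_apply,
      sub_self]

/-! ### P3b : coinvariants of the kernel torsor -/
section P3b
open Groth.Agent.Helper2.HopfLib
variable {R : Type u} [CommRing R] {A A'' : Type v} [CommRing A] [HopfAlgebra R A]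
  [CommRing A''] [HopfAlgebra R A''] [Algebra A'' A] [IsScalarTower R A'' A]

theorem mem_range_of_coinv [Module.FaithfullyFlat A'' A]
    (hΔ : (Bialgebra.comulAlgHom R A).comp (IsScalarTower.toAlgHom R A'' A) =
      (Algebra.TensorProduct.map (IsScalarTower.toAlgHom R A'' A)
        (IsScalarTower.toAlgHom R A'' A)).comp (Bialgebra.comulAlgHom R A''))
    (hε : (Bialgebra.counitAlgHom R A).comp (IsScalarTower.toAlgHom R A'' A) =
      Bialgebra.counitAlgHom R A'') (a : A)
    (h : projT R A A'' (Coalgebra.comul (R := R) a) = a ⊗ₜ[R] (1 : A ⧸ kerIdeal R A A'')) :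
    ∃ c : A'', algebraMap A'' A c = a := by
  have h1 : torsorHom hΔ ((1 : A) ⊗ₜ[A''] a) = projT R A A'' (Coalgebra.comul (R := R) a) := by
    unfold torsorHom
    rw [Algebra.TensorProduct.lift_tmul, map_one, one_mul, torsorG_apply, shear_one_tmul]
  have h2 : torsorHom hΔ (a ⊗ₜ[A''] (1 : A)) = a ⊗ₜ[R] (1 : A ⧸ kerIdeal R A A'') := by
    unfold torsorHom
    rw [Algebra.TensorProduct.lift_tmul, map_one, mul_one]
    rfl
  have h4 : (1 : A) ⊗ₜ[A''] a = a ⊗ₜ[A''] (1 : A) := by
    apply (torsorEquiv hΔ hε).injective
    have e : ∀ x, torsorEquiv hΔ hε x = torsorHom hΔ x := fun x => rfl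
    rw [e, e, h1, h2, h]
  have h5 : Algebra.TensorProduct.includeLeftSubRight A'' A a = 0 := by
    rw [Algebra.TensorProduct.includeLeftSubRight_apply, h4, sub_self]
  exact (Algebra.IsEffective.of_faithfullyFlat A'' A a).mp h5

end P3b


/-! ### D-specific lemmas -/
section DLemmas
variable (R : Type u) [CommRing R]

theorem exists_eval (A : Type v) [AddCommGroup A] [Module R A] [Module.Finite R A]
    [Module.Projective R A] (ψ : D R A →ₗ[R] R) : ∃ a : A, ∀ y : D R A, ψ y = y a := by
  let ψ' : Module.Dual R (Module.Dual R A) := ψ ∘ₗ (toDual R A).symm.toLinearMap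
  refine ⟨(Module.evalEquiv R A).symm ψ', fun y => ?_⟩
  have h1 := Module.apply_evalEquiv_symm_apply R A (toDual R A y) ψ'
  have h2 : ψ' (toDual R A y) = ψ y := by
    show ψ ((toDual R A).symm (toDual R A y)) = ψ y
    rw [LinearEquiv.symm_apply_apply]
  rw [← h2, ← h1]
  rfl

theorem sep (M : Type v) (N : Type w) [AddCommGroup M] [Module R M] [AddCommGroup N] [Module R N]
    [Module.Finite R M] [Module.Projective R M] [Module.Finite R N] [Module.Projective R N]
    (z : M ⊗[R] N)
    (h : ∀ (v : Module.Dual R M) (u : Module.Dual R N),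
      TensorProduct.dualDistrib R M N (v ⊗ₜ u) z = 0) : z = 0 := by
  rw [← Module.forall_dual_apply_eq_zero_iff R z]
  intro F
  obtain ⟨t, rfl⟩ := (dualTensorEquiv R M N).surjective F
  rw [dualTensorEquiv_apply]
  induction t using TensorProduct.induction_on with
  | zero => simp
  | tmul v u => exact h v u
  | add t t' ht ht' => rw [map_add, LinearMap.add_apply, ht, ht', add_zero]

theorem conv_transpose_apply {A : Type v} {A' : Type w} [Ring A] [Bialgebra R A] [Ring A']
    [Bialgebra R A'] [Module.Finite R A] [Module.Projective R A] [Module.Finite R A']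
    [Module.Projective R A'] (g : A →ₐc[R] A') (v : Module.Dual R A) (u : Module.Dual R A')
    (a : A) :
    ((WithConv.toConv v : D R A) * transpose R g (WithConv.toConv u : D R A')) a =
      TensorProduct.dualDistrib R A A' (v ⊗ₜ u)
        (TensorProduct.map LinearMap.id (g : A →ₗ[R] A') (Coalgebra.comul (R := R) a)) := by
  rw [LinearMap.convMul_apply]
  generalize Coalgebra.comul (R := R) a = t
  induction t using TensorProduct.induction_on with
  | zero => simp
  | tmul b c =>
    simp only [TensorProduct.map_tmul, TensorProduct.dualDistrib_apply, LinearMap.mul'_apply]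
    rfl
  | add t t' ht ht' => simp only [map_add, ht, ht']

end DLemmas

/-! ### the main theorem -/
section Main
open Groth.Agent.Helper2.HopfLib
variable (R : Type u) [CommRing R] [IsNoetherianRing R]
    (A' A A'' : Type u) [CommRing A'] [HopfAlgebra R A'] [Coalgebra.IsCocomm R A']
    [Module.Finite R A'] [Module.Projective R A'] [CommRing A] [HopfAlgebra R A]
    [Coalgebra.IsCocomm R A] [Module.Finite R A] [Module.Projective R A] [CommRing A'']
    [HopfAlgebra R A''] [Coalgebra.IsCocomm R A''] [Module.Finite R A'']
    [Module.Projective R A'']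

theorem exists_retract_transpose (g : A →ₐc[R] A') (hg : Function.Surjective g) :
    ∃ r : D R A →ₗ[R] D R A', ∀ x, r (transpose R g x) = x := by
  obtain ⟨s, hs⟩ := Module.projective_lifting_property (g : A →ₗ[R] A') LinearMap.id hg
  refine ⟨transposeLin R s, fun x => ?_⟩
  apply WithConv.ext; apply LinearMap.ext; intro a'
  show x.ofConv (g (s a')) = x.ofConv a'
  have h1 : g (s a') = a' := LinearMap.congr_fun hs a'
  rw [h1]

theorem main (f : A'' →ₐc[R] A) (hf : (f : A'' →ₐ[R] A).toRingHom.FaithfullyFlat)
    (g : A →ₐc[R] A') (hg : Function.Surjective g)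
    (hker : RingHom.ker (g : A →ₐ[R] A') =
      Ideal.map (f : A'' →ₐ[R] A) (RingHom.ker (Bialgebra.counitAlgHom R A''))) :
    (CartDual.transpose R g : CartDual.D R A' →ₐ[R] CartDual.D R A).toRingHom.FaithfullyFlat ∧
      Function.Surjective (CartDual.transpose R f) ∧
      RingHom.ker (CartDual.transpose R f : CartDual.D R A →ₐ[R] CartDual.D R A'') =
        Ideal.map (CartDual.transpose R g : CartDual.D R A' →ₐ[R] CartDual.D R A)
          (RingHom.ker (Bialgebra.counitAlgHom R (CartDual.D R A'))) := by
  letI algKL : Algebra (D R A') (D R A) :=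
    (transpose R g : D R A' →ₐ[R] D R A).toRingHom.toAlgebra
  haveI towKL : IsScalarTower R (D R A') (D R A) := IsScalarTower.of_algebraMap_eq
    (fun r => ((transpose R g : D R A' →ₐ[R] D R A).commutes r).symm)
  letI algf : Algebra A'' A := (f : A'' →ₐ[R] A).toRingHom.toAlgebra
  haveI towf : IsScalarTower R A'' A := IsScalarTower.of_algebraMap_eq
    (fun r => ((f : A'' →ₐ[R] A).commutes r).symm)
  obtain ⟨r, hr⟩ := exists_retract_transpose R A' A g hg
  have hP : Module.Projective (D R A') (D R A) :=
    projective_KL R (D R A') (D R A) (transpose R g) (fun _ => rfl) r hr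
  have hFF : Module.FaithfullyFlat (D R A') (D R A) :=
    faithfullyFlat_KL R (D R A') (D R A) (transpose R g) (fun _ => rfl) r hr
  haveI hffA : Module.FaithfullyFlat A'' A := hf
  haveI : IsNoetherianRing A'' := IsNoetherianRing.of_finite R A''
  haveI : Module.Finite A'' A := Module.Finite.of_restrictScalars_finite R A'' A
  haveI : Module.FinitePresentation A'' A := Module.finitePresentation_of_finite A'' A
  haveI : Module.Projective A'' A := Module.Flat.projective_of_finitePresentation
  obtain ⟨ρ, hρ⟩ := exists_retraction A'' A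
  have hfal : ∀ c : A'', algebraMap A'' A c = f c := fun _ => rfl
  have hρf : ∀ c : A'', ρ (f c) = c := by
    intro c
    have h1 : f c = c • (1 : A) := by rw [Algebra.smul_def, mul_one, hfal]
    rw [h1, map_smul, hρ, smul_eq_mul, mul_one]
  have hgf : ∀ c : A'', g (f c) = algebraMap R A' (Coalgebra.counit (R := R) c) := by
    intro c
    have h1 : c - algebraMap R A'' (Coalgebra.counit (R := R) c) ∈
        RingHom.ker (Bialgebra.counitAlgHom R A'') := by
      rw [RingHom.mem_ker, map_sub, AlgHom.commutes, Bialgebra.counitAlgHom_apply,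
        Algebra.algebraMap_self, RingHom.id_apply, sub_self]
    have h2 : (f : A'' →ₐ[R] A) (c - algebraMap R A'' (Coalgebra.counit (R := R) c)) ∈
        RingHom.ker (g : A →ₐ[R] A') := by
      rw [hker]; exact Ideal.mem_map_of_mem _ h1
    rw [RingHom.mem_ker, map_sub, map_sub, AlgHom.commutes, AlgHom.commutes, sub_eq_zero] at h2
    exact h2
  refine ⟨hFF, ?_, ?_⟩
  · intro y
    refine ⟨transposeLin R (ρ.restrictScalars R) y, ?_⟩
    apply WithConv.ext; apply LinearMap.ext; intro c
    show y.ofConv (ρ (f c)) = y.ofConv c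
    rw [hρf]
  · have hΔ : (Bialgebra.comulAlgHom R A).comp (IsScalarTower.toAlgHom R A'' A) =
        (Algebra.TensorProduct.map (IsScalarTower.toAlgHom R A'' A)
          (IsScalarTower.toAlgHom R A'' A)).comp (Bialgebra.comulAlgHom R A'') := by
      apply AlgHom.ext; intro c
      show Coalgebra.comul (R := R) (f c) = Algebra.TensorProduct.map
        (IsScalarTower.toAlgHom R A'' A) (IsScalarTower.toAlgHom R A'' A)
        (Coalgebra.comul (R := R) c)
      rw [← CoalgHomClass.map_comp_comul_apply f c]
      rfl
    have hε : (Bialgebra.counitAlgHom R A).comp (IsScalarTower.toAlgHom R A'' A) =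
        Bialgebra.counitAlgHom R A'' := by
      apply AlgHom.ext; intro c
      exact CoalgHomClass.counit_comp_apply f c
    apply le_antisymm
    · obtain ⟨e, he1, he2⟩ :=
        exists_projector R (D R A') (D R A) (Bialgebra.counitAlgHom R (D R A'))
      intro x hx
      have hx0 : ∀ c : A'', x (f c) = 0 := fun c => by
        have h1 : transpose R f x = 0 := hx
        have h2 := congrArg (fun y : D R A'' => y c) h1
        exact h2
      suffices hex : e x = 0 by
        have h1 := he2 x
        rw [hex, sub_zero] at h1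
        exact h1
      rw [← Module.forall_dual_apply_eq_zero_iff R (e x)]
      intro χ
      obtain ⟨a, ha⟩ := exists_eval R A (χ ∘ₗ e)
      let evA : D R A →ₗ[R] R := LinearMap.applyₗ a ∘ₗ (toDual R A).toLinearMap
      have hevA : ∀ y : D R A, evA y = y a := fun _ => rfl
      have hco : ∀ (v : D R A) (u : D R A'), (v * transpose R g u) a = v a * u 1 := by
        intro v u
        have h1 : u - algebraMap R (D R A') (u 1) ∈
            RingHom.ker (Bialgebra.counitAlgHom R (D R A')) := by
          rw [RingHom.mem_ker, map_sub, AlgHom.commutes]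
          show u 1 - u 1 = 0
          exact sub_self _
        have h2 : algebraMap (D R A') (D R A) (u - algebraMap R (D R A') (u 1)) * v ∈
            Ideal.map (algebraMap (D R A') (D R A))
              (RingHom.ker (Bialgebra.counitAlgHom R (D R A'))) :=
          Ideal.mul_mem_right _ _ (Ideal.mem_map_of_mem _ h1)
        have h3 : evA (algebraMap (D R A') (D R A) (u - algebraMap R (D R A') (u 1)) * v) = 0 := by
          rw [hevA, ← ha]
          show χ (e _) = 0
          rw [he1 _ h2, map_zero]
        have h4 : algebraMap (D R A') (D R A) (u - algebraMap R (D R A') (u 1)) * v =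
            v * transpose R g u - (u 1) • v := by
          have h5 : algebraMap (D R A') (D R A) (algebraMap R (D R A') (u 1)) =
              algebraMap R (D R A) (u 1) :=
            (IsScalarTower.algebraMap_apply R (D R A') (D R A) (u 1)).symm
          rw [map_sub, sub_mul, h5, Algebra.smul_def,
            mul_comm (algebraMap (D R A') (D R A) u) v]
          rfl
        rw [h4, map_sub, map_smul, hevA, hevA, sub_eq_zero, smul_eq_mul] at h3
        rw [h3, mul_comm]
      have hz : TensorProduct.map LinearMap.id (g : A →ₗ[R] A') (Coalgebra.comul (R := R) a) =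
          a ⊗ₜ[R] (1 : A') := by
        rw [← sub_eq_zero]
        apply sep R A A'
        intro v u
        rw [map_sub, TensorProduct.dualDistrib_apply, ← conv_transpose_apply R g v u a, hco]
        exact sub_self _
      have hkI : kerIdeal R A A'' = RingHom.ker (g : A →ₐ[R] A') := by rw [hker]; rfl
      let gbar : A ⧸ kerIdeal R A A'' →ₐ[R] A' :=
        Ideal.Quotient.liftₐ (kerIdeal R A A'') (g : A →ₐ[R] A')
          (fun b hb => by rw [hkI] at hb; exact hb)
      have hgbar : ∀ b : A, gbar (Ideal.Quotient.mk _ b) = g b := fun _ => rfl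
      have hgbar_inj : Function.Injective gbar := by
        rw [injective_iff_map_eq_zero]
        intro q hq
        obtain ⟨b, rfl⟩ := Ideal.Quotient.mk_surjective q
        rw [hgbar] at hq
        rw [Ideal.Quotient.eq_zero_iff_mem, hkI]
        exact hq
      have hproj : projT R A A'' (Coalgebra.comul (R := R) a) =
          a ⊗ₜ[R] (1 : A ⧸ kerIdeal R A A'') := by
        have hinj : Function.Injective (LinearMap.lTensor A gbar.toLinearMap) :=
          Module.Flat.lTensor_preserves_injective_linearMap _ hgbar_inj
        apply hinj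
        have h1 : ∀ t : A ⊗[R] A, LinearMap.lTensor A gbar.toLinearMap (projT R A A'' t) =
            TensorProduct.map LinearMap.id (g : A →ₗ[R] A') t := by
          intro t
          induction t using TensorProduct.induction_on with
          | zero => simp
          | tmul b c => rw [projT_tmul, LinearMap.lTensor_tmul, TensorProduct.map_tmul]; rfl
          | add t t' ht ht' => simp only [map_add, ht, ht']
        rw [h1, hz, LinearMap.lTensor_tmul]
        congr 1
        exact (map_one gbar).symm
      obtain ⟨c, hc⟩ := mem_range_of_coinv hΔ hε a hproj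
      have h9 : χ (e x) = x a := ha x
      rw [h9, ← hc]
      exact hx0 c
    · rw [Ideal.map_le_iff_le_comap]
      intro x hx
      rw [Ideal.mem_comap, RingHom.mem_ker]
      have hx1 : x.ofConv 1 = 0 := hx
      apply WithConv.ext; apply LinearMap.ext; intro c
      show x.ofConv (g (f c)) = 0
      rw [hgf, Algebra.algebraMap_eq_smul_one, map_smul, hx1, smul_zero]

end Main

end Groth.Agent.Lib.Helper4.CartExact1
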