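import Mathlib
import Groth.Agent.Lib.Helper1.AffPushEpi
import Groth.Agent.Lib.Helper9.ThickAff

/-!
# pushforward to the direct image ring along a nilpotent thickening of an affine morphism preserves epis of qcoh modules (S19613) (helper4) (helper4)
-/

set_option backward.isDefEq.respectTransparency.types false
set_option synthInstance.maxHeartbeats 400000
set_option autoImplicit false
set_option linter.unusedSectionVars false
set_option linter.style.haveILetI false
set_option linter.unusedSimpArgs false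
universe u v w
open CategoryTheory CategoryTheory.Limits AlgebraicGeometry TopologicalSpace Topology

namespace Groth.Agent.Lib.Helper4.CartModEpi

open Opposite Groth.Agent.Helper1

section Surj

variable {T Tc : Scheme.{u}} (i : T ⟶ Tc) [IsClosedImmersion i]

theorem surjective_of_nilpotent (hnil : ∃ n : ℕ, ∀ V : Tc.affineOpens, i.ker.ideal V ^ n = ⊥) :
    Function.Surjective i := by
  obtain ⟨n, hn⟩ := hnil
  intro x
  have hx : x ∈ (i.ker.support : Set Tc) := by
    rw [SetLike.mem_coe, Scheme.IdealSheafData.mem_support_iff]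
    intro V
    rw [Scheme.mem_zeroLocus_iff]
    intro s hs hxs
    have h1 : s ^ n ∈ i.ker.ideal V ^ n := Ideal.pow_mem_pow hs n
    rw [hn V] at h1
    have h2 : s ^ n = 0 := h1
    have h3 : Tc.basicOpen (s ^ n) = Tc.basicOpen s ∨ n = 0 := by
      rcases Nat.eq_zero_or_pos n with h | h
      · exact Or.inr h
      · exact Or.inl (Tc.basicOpen_pow s h)
    rcases h3 with h3 | h3
    · rw [← h3, h2, Scheme.basicOpen_zero] at hxs
      exact hxs
    · subst h3
      rw [pow_zero] at h2
      have : s = 0 := by rw [← mul_one s, h2, mul_zero]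
      rw [this, Scheme.basicOpen_zero] at hxs
      exact hxs
  rw [Scheme.Hom.support_ker, i.isClosedEmbedding.isClosed_range.closure_eq] at hx
  exact hx

end Surj

section Aff

variable {T Tc U : Scheme.{u}} (i : T ⟶ Tc) [IsClosedImmersion i]
  (u : T ⟶ U) [IsAffineHom u] (g : Tc.carrier ⟶ U.carrier) (hg : i.base ≫ g = u.base)

include hg in
theorem isAffineOpen_preimage (hsurj : Function.Surjective i) (W : U.Opens) (hW : IsAffineOpen W) :
    IsAffineOpen ((Opens.map g).obj W) := by
  obtain ⟨V, hV⟩ : ∃ V : Tc.Opens, V = (Opens.map g).obj W := ⟨_, rfl⟩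
  rw [← hV]
  have hpre : i ⁻¹ᵁ V = u ⁻¹ᵁ W := by
    rw [hV]
    apply Opens.ext
    ext x
    change g (i.base x) ∈ W ↔ u.base x ∈ W
    rw [← hg]
    rfl
  have haff : IsAffineOpen (i ⁻¹ᵁ V) := by
    rw [hpre]
    exact hW.preimage u
  haveI : IsAffine (i ⁻¹ᵁ V).toScheme := haff
  haveI : IsClosedImmersion (i ∣_ V) := MorphismProperty.of_isPullback
    (isPullback_morphismRestrict i V).flip inferInstance
  have hs : Function.Surjective (i ∣_ V) := by
    intro y
    obtain ⟨x, hx⟩ := hsurj y.1
    have hxV : x ∈ i ⁻¹ᵁ V := by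
      change i x ∈ V
      rw [hx]
      exact y.2
    refine ⟨⟨x, hxV⟩, ?_⟩
    apply Subtype.ext
    rw [← hx]
    exact morphismRestrict_base_coe i V ⟨x, hxV⟩
  exact H9ThickAff.isAffine_of_thickening (i ∣_ V) hs

end Aff

section Main

variable {T Tc U : Scheme.{u}} (i : T ⟶ Tc) [IsClosedImmersion i]

theorem main (hnil : ∃ n : ℕ, ∀ V : Tc.affineOpens, i.ker.ideal V ^ n = ⊥)
    (u : T ⟶ U) [IsAffineHom u] (g : Tc.carrier ⟶ U.carrier) (hg : i.base ≫ g = u.base)
    (M N : Tc.Modules) [M.IsQuasicoherent] [N.IsQuasicoherent] (φ : M ⟶ N) [Epi φ] :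
    Epi ((SheafOfModules.pushforward (F := Opens.map g) (R := Tc.ringCatSheaf)
      (𝟙 (((Opens.map g).sheafPushforwardContinuous RingCat.{u} (Opens.grothendieckTopology U)
        (Opens.grothendieckTopology Tc)).obj Tc.ringCatSheaf))).map φ) := by
  have hsurj := surjective_of_nilpotent i hnil
  have haff : ∀ W : U.Opens, IsAffineOpen W → IsAffineOpen ((Opens.map g).obj W) :=
    fun W hW => isAffineOpen_preimage i u g hg hsurj W hW
  have hφ : ∀ W : U.Opens, IsAffineOpen W → Function.Surjective (φ.app ((Opens.map g).obj W)) :=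
    fun W hW => AffPushEpi.app_surjective_of_epi φ _ (haff W hW)
  apply Preadditive.epi_of_cancel_zero
  intro Q ψ hψ
  apply SheafOfModules.hom_ext
  apply PresheafOfModules.hom_ext
  intro W
  obtain ⟨W⟩ := W
  ext t
  change (ψ.val.app (op W)).hom t = 0
  have hsh : TopCat.Presheaf.IsSheaf (X := U.carrier) Q.val.presheaf := Q.isSheaf
  refine TopCat.Presheaf.IsSheaf.section_ext hsh (U := op W)
    (s := (ψ.val.app (op W)).hom t) (t := 0) ?_
  intro x hx
  obtain ⟨_, ⟨W', hW', rfl⟩, hxW', hW'W⟩ :=
    U.isBasis_affineOpens.exists_subset_of_mem_open hx W.isOpen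
  refine ⟨W', hW'W, hxW', ?_⟩
  rw [map_zero]
  have hnat := PresheafOfModules.naturality_apply ψ.val (homOfLE hW'W).op t
  refine Eq.trans hnat.symm ?_
  obtain ⟨m, hm⟩ := hφ W' hW' ((N.val.map (homOfLE (show (Opens.map g).obj W' ≤ (Opens.map g).obj W from
    (Opens.map g).monotone hW'W)).op).hom t)
  have h0 := congrArg (fun χ => (χ.val.app (op W')).hom m) hψ
  refine Eq.trans ?_ h0
  change (ψ.val.app (op W')).hom _ = (ψ.val.app (op W')).hom _
  congr 1
  exact hm.symm

end Main

end Groth.Agent.Lib.Helper4.CartModEpi
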