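import Mathlib
import Groth.Prelude.Def_BlowUp2
import Groth.Agent.Lib.Helper4.CartierUFD1
import Groth.Agent.Lib.Lead.SD1

/-!
# Ideals in a UFD whose associated primes have height one are principal; closed subscheme without embedded points, pure codim 1, UFD local rings ⇒ effective Cartier (S1700) (helper4)
-/

set_option backward.isDefEq.respectTransparency.types false
set_option synthInstance.maxHeartbeats 400000
set_option autoImplicit false
set_option linter.unusedSectionVars false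
set_option linter.style.haveILetI false
set_option linter.unusedSimpArgs false
universe u v w
open CategoryTheory CategoryTheory.Limits AlgebraicGeometry TopologicalSpace IsLocalRing Opposite Topology

namespace Groth.Agent.Lib.Helper4.CartierUFD2

/-- associated primes of `R/ker ψ` over `R` give associated primes of `S` over `S` -/
theorem ass_of_surjective {R S : Type*} [CommRing R] [CommRing S] (ψ : R →+* S)
    (hψ : Function.Surjective ψ) (P : Ideal R) (hP : IsAssociatedPrime P (R ⧸ RingHom.ker ψ)) :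
    IsAssociatedPrime (P.map ψ) S ∧ (P.map ψ).comap ψ = P := by
  obtain ⟨hprime, x, hx⟩ := hP
  obtain ⟨r, rfl⟩ := Ideal.Quotient.mk_surjective x
  have hcolon : Submodule.colon (⊥ : Submodule R (R ⧸ RingHom.ker ψ)) {Ideal.Quotient.mk (RingHom.ker ψ) r} =
      (Submodule.colon (⊥ : Submodule S S) {ψ r}).comap ψ := by
    ext a
    rw [Submodule.mem_colon_singleton, Ideal.mem_comap, Submodule.mem_colon_singleton]
    simp only [Submodule.mem_bot, smul_eq_mul]
    have : a • (Ideal.Quotient.mk (RingHom.ker ψ)) r = (Ideal.Quotient.mk (RingHom.ker ψ)) (a * r) := by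
      rw [map_mul]; rfl
    rw [this, Ideal.Quotient.eq_zero_iff_mem, RingHom.mem_ker, map_mul]
  have hP' : P = (Submodule.colon (⊥ : Submodule S S) {ψ r}).radical.comap ψ := by
    rw [hx, hcolon, Ideal.comap_radical]
  have hmap : P.map ψ = (Submodule.colon (⊥ : Submodule S S) {ψ r}).radical := by
    rw [hP', Ideal.map_comap_of_surjective ψ hψ]
  have hker : RingHom.ker ψ ≤ P := by
    rw [hP']
    intro a ha
    rw [Ideal.mem_comap, (RingHom.mem_ker).mp ha]
    exact Ideal.zero_mem _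
  refine ⟨⟨Ideal.map_isPrime_of_surjective hψ hker, ψ r, hmap⟩, ?_⟩
  rw [hmap, ← hP']


theorem bot_mem_ass_of_domain {R : Type*} [CommRing R] [IsDomain R] :
    IsAssociatedPrime (⊥ : Ideal R) (R ⧸ (⊥ : Ideal R)) := by
  refine ⟨Ideal.isPrime_bot, Ideal.Quotient.mk ⊥ 1, ?_⟩
  have : Submodule.colon (⊥ : Submodule R (R ⧸ (⊥ : Ideal R))) {Ideal.Quotient.mk (⊥ : Ideal R) 1} = ⊥ := by
    ext a
    rw [Submodule.mem_colon_singleton]
    have h1 : a • (Ideal.Quotient.mk (⊥ : Ideal R)) 1 = (Ideal.Quotient.mk (⊥ : Ideal R)) a := by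
      rw [← mul_one a, map_mul, mul_one]; rfl
    rw [h1, Submodule.mem_bot, Ideal.Quotient.eq_zero_iff_mem]
  rw [this]
  exact (Ideal.isPrime_bot.radical).symm

theorem principal_aux {R : Type u} [CommRing R] [IsDomain R] [IsNoetherianRing R]
    [UniqueFactorizationMonoid R] (J : Ideal R) :
    J ≠ ⊥ → (∀ P ∈ associatedPrimes R (R ⧸ J), P.height = 1) →
      ∃ g : R, g ≠ 0 ∧ J = Ideal.span {g} := by
  induction J using IsNoetherian.induction with
  | hgt J IH =>
  intro hJ0 hass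
  by_cases hJtop : J = ⊤
  · exact ⟨1, one_ne_zero, by rw [hJtop, Ideal.span_singleton_one]⟩
  haveI : Nontrivial (R ⧸ J) := Ideal.Quotient.nontrivial_iff.mpr hJtop
  obtain ⟨P, hP⟩ := associatedPrimes.nonempty R (R ⧸ J)
  haveI hPprime : P.IsPrime := hP.isPrime
  have hht := hass P hP
  obtain ⟨π, hπ⟩ := (UniqueFactorizationMonoid.isPrincipal_of_height_eq_one hht).principal
  have hπ' : P = Ideal.span {π} := hπ
  have hJP : J ≤ P := by
    have := hP.annihilator_le
    rwa [Submodule.annihilator_top, Ideal.annihilator_quotient] at this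
  have hπ0 : π ≠ 0 := by
    rintro rfl
    have : P = ⊥ := by rw [hπ']; simp
    rw [this, Ideal.height_bot] at hht
    exact zero_ne_one hht
  obtain ⟨J₁, hJ₁⟩ : ∃ J₁ : Ideal R, J₁ = Submodule.comap (LinearMap.mul R R π) J := ⟨_, rfl⟩
  have hmem : ∀ r, r ∈ J₁ ↔ π * r ∈ J := by
    intro r; rw [hJ₁]; rfl
  have hle : J ≤ J₁ := fun r hr => (hmem r).mpr (Ideal.mul_mem_left J π hr)
  have hdiv : ∀ j ∈ J, ∃ r ∈ J₁, j = π * r := by
    intro j hj
    have : j ∈ Ideal.span {π} := hπ' ▸ hJP hj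
    obtain ⟨r, hr⟩ := Ideal.mem_span_singleton'.mp this
    refine ⟨r, (hmem r).mpr ?_, by rw [← hr, mul_comm]⟩
    rw [mul_comm, hr]; exact hj
  have hne : J₁ ≠ J := by
    intro heq
    have hsm : J ≤ Ideal.span {π} • J := by
      intro j hj
      obtain ⟨r, hr, rfl⟩ := hdiv j hj
      rw [heq] at hr
      exact Ideal.mul_mem_mul (Ideal.mem_span_singleton_self π) hr
    obtain ⟨r, hr1, hr2⟩ := Submodule.exists_sub_one_mem_and_smul_eq_zero_of_fg_of_le_smul
      (Ideal.span {π}) J (IsNoetherian.noetherian J) hsm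
    obtain ⟨j, hj, hj0⟩ := Submodule.exists_mem_ne_zero_of_ne_bot hJ0
    have hr0 : r = 0 := by
      have := hr2 j hj
      rw [smul_eq_mul] at this
      exact (mul_eq_zero.mp this).resolve_right hj0
    rw [hr0, zero_sub] at hr1
    have : (1 : R) ∈ Ideal.span {π} := by
      have := (Ideal.span {π}).neg_mem hr1
      rwa [neg_neg] at this
    apply hPprime.ne_top
    rw [hπ']
    exact (Ideal.eq_top_iff_one _).mpr this
  have hlt : J < J₁ := lt_of_le_of_ne hle (Ne.symm hne)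
  -- injective map R/J₁ → R/J
  have hcomap : J₁ ≤ Submodule.comap (LinearMap.mul R R π) J := by rw [hJ₁]
  have hinj : Function.Injective (Submodule.mapQ J₁ J (LinearMap.mul R R π) hcomap) := by
    rw [injective_iff_map_eq_zero]
    intro x hx
    obtain ⟨r, rfl⟩ := Submodule.Quotient.mk_surjective _ x
    rw [Submodule.mapQ_apply, Submodule.Quotient.mk_eq_zero] at hx
    rw [Submodule.Quotient.mk_eq_zero]
    exact (hmem r).mpr hx
  have hass₁ : ∀ P ∈ associatedPrimes R (R ⧸ J₁), P.height = 1 := by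
    intro Q hQ
    exact hass Q (IsAssociatedPrime.map_of_injective _ hQ hinj)
  have hJ₁0 : J₁ ≠ ⊥ := by
    intro h
    rw [h] at hle
    exact hJ0 (le_bot_iff.mp hle)
  obtain ⟨g₁, hg₁0, hg₁⟩ := IH J₁ hlt hJ₁0 hass₁
  refine ⟨π * g₁, mul_ne_zero hπ0 hg₁0, ?_⟩
  apply le_antisymm
  · intro j hj
    obtain ⟨r, hr, rfl⟩ := hdiv j hj
    rw [hg₁] at hr
    obtain ⟨c, rfl⟩ := Ideal.mem_span_singleton'.mp hr
    rw [Ideal.mem_span_singleton']
    exact ⟨c, by ring⟩
  · rw [Ideal.span_singleton_le_iff_mem, ← hmem, hg₁]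
    exact Ideal.mem_span_singleton_self g₁


theorem principal_of_ass_height_one {R : Type u} [CommRing R] [IsDomain R] [IsNoetherianRing R]
    [UniqueFactorizationMonoid R] (J : Ideal R)
    (h : ∀ P ∈ associatedPrimes R (R ⧸ J), P.height = 1) :
    ∃ g : R, g ≠ 0 ∧ J = Ideal.span {g} := by
  apply principal_aux J _ h
  rintro rfl
  have := h ⊥ bot_mem_ass_of_domain
  rw [Ideal.height_bot] at this
  exact zero_ne_one this

open Groth.Agent.Lib.Helper4.CartierUFD1 Groth.Agent.Lib.Helper4.CartierSk1 in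
theorem S1700_main (X : Scheme.{u}) [IsNoetherian X] (𝓘 : X.IdealSheafData)
    (h1 : ∀ z : ↥𝓘.subscheme, IsAssociatedPrime (IsLocalRing.maximalIdeal ↑(𝓘.subscheme.presheaf.stalk z)) ↑(𝓘.subscheme.presheaf.stalk z) → ∀ z' : ↥𝓘.subscheme, z' ⤳ z → z' = z)
    (h2 : ∀ z : ↥𝓘.subscheme, (∀ z' : ↥𝓘.subscheme, z' ⤳ z → z' = z) →
      ringKrullDim (X.presheaf.stalk (𝓘.subschemeι z)) = 1)
    (h3 : ∀ x : ↥X, x ∈ 𝓘.support → IsDomain (X.presheaf.stalk x) ∧ UniqueFactorizationMonoid (X.presheaf.stalk x)) :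
    BlowUp.IsEffCartierIdeal 𝓘 := by
  intro x
  obtain ⟨U, hU, hxU, -⟩ := Opens.isBasis_iff_nbhd.mp (X.isBasis_affineOpens)
    (show x ∈ (⊤ : X.Opens) from trivial)
  by_cases hx : x ∈ 𝓘.support
  · have hx' : x ∈ Set.range 𝓘.subschemeι := by rw [𝓘.range_subschemeι]; exact hx
    obtain ⟨d, rfl⟩ := hx'
    obtain ⟨hdom, hUFD⟩ := h3 _ hx
    have hker := ker_stalkMap_subschemeι 𝓘 d ⟨U, hU⟩ hxU
    have hV : IsAffineOpen (𝓘.subschemeι ⁻¹ᵁ U) := hU.preimage 𝓘.subschemeι
    haveI : IsNoetherianRing Γ(X, U) := IsLocallyNoetherian.component_noetherian ⟨U, hU⟩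
    have hφ : Function.Surjective (𝓘.subschemeι.app U).hom := 𝓘.subschemeι_app_surjective ⟨U, hU⟩
    haveI : IsNoetherianRing Γ(𝓘.subscheme, 𝓘.subschemeι ⁻¹ᵁ U) :=
      isNoetherianRing_of_surjective _ _ (𝓘.subschemeι.app U).hom hφ
    have hsurj : Function.Surjective (𝓘.subschemeι.stalkMap d).hom :=
      𝓘.subschemeι.stalkMap_surjective d
    let _ := TopCat.Presheaf.algebra_section_stalk X.presheaf (⟨𝓘.subschemeι d, hxU⟩ : U)
    have hlocx := hU.isLocalization_stalk ⟨𝓘.subschemeι d, hxU⟩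
    let _ := TopCat.Presheaf.algebra_section_stalk 𝓘.subscheme.presheaf
      (⟨d, hxU⟩ : (𝓘.subschemeι ⁻¹ᵁ U : 𝓘.subscheme.Opens))
    have hlocd := hV.isLocalization_stalk ⟨d, hxU⟩
    have key : ∀ P ∈ associatedPrimes (X.presheaf.stalk (𝓘.subschemeι d))
        (X.presheaf.stalk (𝓘.subschemeι d) ⧸ RingHom.ker (𝓘.subschemeι.stalkMap d).hom),
        P.height = 1 := by
      intro P hP
      obtain ⟨hP', hcomapP⟩ := ass_of_surjective (𝓘.subschemeι.stalkMap d).hom hsurj P hP
      obtain ⟨P', hP'def⟩ : ∃ P', P' = P.map (𝓘.subschemeι.stalkMap d).hom := ⟨_, rfl⟩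
      rw [← hP'def] at hP' hcomapP
      have hQ' := Module.associatedPrimes.comap_mem_associatedPrimes_of_mem_associatedPrimes_of_isLocalizedModule_of_fg
        (hV.primeIdealOf ⟨d, hxU⟩).asIdeal.primeCompl
        (Algebra.linearMap Γ(𝓘.subscheme, 𝓘.subschemeι ⁻¹ᵁ U) (𝓘.subscheme.presheaf.stalk d))
        P' hP' (IsNoetherian.noetherian _)
      obtain ⟨Q', hQ'def⟩ : ∃ Q', Q' = P'.comap (algebraMap Γ(𝓘.subscheme, 𝓘.subschemeι ⁻¹ᵁ U)
        (𝓘.subscheme.presheaf.stalk d)) := ⟨_, rfl⟩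
      rw [← hQ'def] at hQ'
      haveI hQ'prime : Q'.IsPrime := hQ'.isPrime
      obtain ⟨z', hz'⟩ : ∃ z' : (𝓘.subschemeι ⁻¹ᵁ U : 𝓘.subscheme.Opens),
          hV.primeIdealOf z' = ⟨Q', hQ'prime⟩ :=
        ⟨_, Groth.Agent.Lead.SD.primeIdealOf_fromSpec hV ⟨Q', hQ'prime⟩⟩
      have hz'I : (hV.primeIdealOf z').asIdeal = Q' := by rw [hz']
      let _ := TopCat.Presheaf.algebra_section_stalk 𝓘.subscheme.presheaf z'
      have hlocz' := hV.isLocalization_stalk z'
      have hlocz'' : IsLocalization.AtPrime (𝓘.subscheme.presheaf.stalk z'.1) Q' := by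
        convert hlocz' using 2
        exact hz'I.symm
      have hm : IsAssociatedPrime (IsLocalRing.maximalIdeal (𝓘.subscheme.presheaf.stalk z'.1))
          (𝓘.subscheme.presheaf.stalk z'.1) := by
        apply Module.associatedPrimes.mem_associatedPrimes_of_comap_mem_associatedPrimes_of_isLocalizedModule
          Q'.primeCompl
          (Algebra.linearMap Γ(𝓘.subscheme, 𝓘.subschemeι ⁻¹ᵁ U) (𝓘.subscheme.presheaf.stalk z'.1))
        have hcm : Ideal.comap (algebraMap Γ(𝓘.subscheme, 𝓘.subschemeι ⁻¹ᵁ U) (𝓘.subscheme.presheaf.stalk z'.1))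
            (IsLocalRing.maximalIdeal (𝓘.subscheme.presheaf.stalk z'.1)) = Q' :=
          IsLocalization.AtPrime.comap_maximalIdeal (𝓘.subscheme.presheaf.stalk z'.1) Q'
        rw [hcm]
        exact hQ'
      have hmax := h1 z'.1 hm
      have hdim := h2 z'.1 hmax
      have hcomap := IsAffineOpen.comap_primeIdealOf_appLE (f := 𝓘.subschemeι)
        (x := z'.1) U hU (𝓘.subschemeι ⁻¹ᵁ U) hV le_rfl z'.2
      have happ : 𝓘.subschemeι.appLE U (𝓘.subschemeι ⁻¹ᵁ U) le_rfl = 𝓘.subschemeι.app U := by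
        simp [Scheme.Hom.appLE]
      obtain ⟨Q, hQdef⟩ : ∃ Q, Q = Q'.comap (𝓘.subschemeι.app U).hom := ⟨_, rfl⟩
      have hpQ : (hU.primeIdealOf ⟨𝓘.subschemeι z'.1, z'.2⟩).asIdeal = Q := by
        rw [← hcomap, hQdef, ← hz'I, happ]
        rfl
      haveI hQprime : Q.IsPrime := by rw [← hpQ]; exact (hU.primeIdealOf _).isPrime
      have hQht : Q.height = 1 := by
        let _ := TopCat.Presheaf.algebra_section_stalk X.presheaf
          (⟨𝓘.subschemeι z'.1, z'.2⟩ : U)
        have hloc := hU.isLocalization_stalk ⟨𝓘.subschemeι z'.1, z'.2⟩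
        have hloc' : IsLocalization.AtPrime (X.presheaf.stalk (𝓘.subschemeι z'.1)) Q := by
          convert hloc using 2
          exact hpQ.symm
        have := IsLocalization.AtPrime.ringKrullDim_eq_height Q (X.presheaf.stalk (𝓘.subschemeι z'.1))
        rw [hdim] at this
        exact_mod_cast this.symm
      have hunder : P.under Γ(X, U) = Q := by
        rw [hQdef, hQ'def, ← hcomapP]
        change Ideal.comap _ (Ideal.comap _ P') = Ideal.comap _ (Ideal.comap _ P')
        rw [Ideal.comap_comap, Ideal.comap_comap]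
        congr 1
        ext a
        exact Scheme.Hom.germ_stalkMap_apply 𝓘.subschemeι U d hxU a
      rw [← IsLocalization.height_under (hU.primeIdealOf ⟨𝓘.subschemeι d, hxU⟩).asIdeal.primeCompl P,
        hunder, hQht]
    obtain ⟨g, hg0, hg⟩ := principal_of_ass_height_one _ key
    have hgnzd : g ∈ nonZeroDivisors (X.presheaf.stalk (𝓘.subschemeι d)) :=
      mem_nonZeroDivisors_of_ne_zero hg0
    have hI : (𝓘.ideal ⟨U, hU⟩).map (X.presheaf.germ U (𝓘.subschemeι d) hxU).hom = Ideal.span {g} := by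
      rw [← hker]; exact hg
    obtain ⟨O, hxO, c, hc, hO⟩ := isEffCartier_near 𝓘 _ ⟨U, hU⟩ hxU g hgnzd hI
    exact ⟨O, hxO, c, hc, hO⟩
  · have htop := stalk_ideal_eq_top 𝓘 x ⟨U, hU⟩ hxU hx
    rw [← Ideal.span_singleton_one] at htop
    obtain ⟨O, hxO, c, hc, hO⟩ := isEffCartier_near 𝓘 x ⟨U, hU⟩ hxU 1 (one_mem _) htop
    exact ⟨O, hxO, c, hc, hO⟩

end Groth.Agent.Lib.Helper4.CartierUFD2
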