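import Mathlib
import Groth.Prelude.Def_AlgGrp
import Groth.Agent.Lib.Helper4.ContentRep3

/-!
# The centre of a group scheme over a field is closed (helper4)
-/

set_option backward.isDefEq.respectTransparency.types false
set_option synthInstance.maxHeartbeats 400000
set_option autoImplicit false
set_option linter.unusedSectionVars false
set_option linter.style.haveILetI false
set_option linter.unusedSimpArgs false
universe u v w
open CategoryTheory CategoryTheory.Limits AlgebraicGeometry TopologicalSpace Opposite
open MonoidalCategory CartesianMonoidalCategory MonObj GrpObj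

namespace Groth.Agent.Lib.Helper4.Center1
open Groth.Agent.Lib.Helper4.ContentRep2

/-- the centre of a group scheme over a field is a closed subscheme -/
theorem main_S7519 (K : Type u) [Field K] (G : Over (Spec (CommRingCat.of K))) [GrpObj G] :
    ∃ (Z : Over (Spec (CommRingCat.of K))) (incl : Z ⟶ G), IsClosedImmersion incl.left ∧
      ∀ (T : Over (Spec (CommRingCat.of K))) (g : T ⟶ G), (∃ z : T ⟶ Z, z ≫ incl = g) ↔
        ∀ (T' : Over (Spec (CommRingCat.of K))) (h : T' ⟶ T) (g' : T' ⟶ G),
          (h ≫ g) * g' = g' * (h ≫ g) := by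
  haveI : DiscreteTopology ↥(Spec (CommRingCat.of K)) :=
    inferInstanceAs (DiscreteTopology (PrimeSpectrum K))
  haveI : IsSeparated G.hom := Groth.Agent.Helper6.GrpSchSep.isSeparated_of_discrete G
  obtain ⟨Z, j, hj, hrep⟩ := eq_rep K G G G
    ((snd G G) * (fst G G)) ((fst G G) * (snd G G))
  refine ⟨Z, j, hj, fun T g => ?_⟩
  rw [← hrep T g]
  have e1 : (G ◁ g) ≫ ((snd G G) * (fst G G)) = (snd G T ≫ g) * (fst G T) := by
    rw [MonObj.comp_mul, whiskerLeft_snd, whiskerLeft_fst]
  have e2 : (G ◁ g) ≫ ((fst G G) * (snd G G)) = (fst G T) * (snd G T ≫ g) := by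
    rw [MonObj.comp_mul, whiskerLeft_snd, whiskerLeft_fst]
  rw [e1, e2]
  constructor
  · intro h T' t g'
    have := congrArg (fun m => lift g' t ≫ m) h
    simp only [MonObj.comp_mul, lift_snd_assoc, lift_fst] at this
    exact this
  · intro h
    exact h (G ⊗ T) (snd G T) (fst G T)

end Groth.Agent.Lib.Helper4.Center1
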