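import Mathlib
import Groth.Prelude.Def_ModSite2
import Groth.Agent.Lib.Helper4.TensorPerm
import Groth.Agent.Lib.Helper4.SiteColim

/-!
# Quasi-coherent modules on a site with the chaotic topology: base change criterion (helper4) (helper4)
-/

set_option backward.isDefEq.respectTransparency.types false
set_option synthInstance.maxHeartbeats 400000
set_option autoImplicit false
set_option linter.unusedSectionVars false
set_option linter.style.haveILetI false
set_option linter.unusedSimpArgs false
universe u v w
open CategoryTheory CategoryTheory.Limits Opposite TensorProduct ChangeOfRings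

namespace Groth.Agent.Lib.Helper4.ChaoticQC

section equiv

variable {C : Type u} [SmallCategory C] (R : Sheaf (⊥ : GrothendieckTopology C) RingCat.{u})

instance essSurj_forget : (SheafOfModules.forget.{u} R).EssSurj where
  mem_essImage P := ⟨⟨P, Presheaf.isSheaf_bot _⟩, ⟨Iso.refl _⟩⟩

instance isEquivalence_forget : (SheafOfModules.forget.{u} R).IsEquivalence where

noncomputable instance (X : Cᵒᵖ) : PreservesColimitsOfSize.{u, u} (SheafOfModules.evaluation.{u} R X) := by
  unfold SheafOfModules.evaluation
  infer_instance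

end equiv

section bc

variable {C : Type u} [SmallCategory C] {J : GrothendieckTopology C} (O : Sheaf J CommRingCat.{u})

/-- evaluation of modules at an object -/
noncomputable abbrev evM (W : C) : ModSite.Mod O ⥤ ModuleCat.{u} (O.obj.obj (op W)) :=
  SheafOfModules.evaluation.{u} (ModSite.ringSh O) (op W)

/-- the base change map of the statement -/
noncomputable abbrev bcMap (F : ModSite.Mod O) {U V : C} (g : U ⟶ V) :
    (ModuleCat.extendScalars (O.obj.map g.op).hom).obj
      (F.val.obj (op V) : ModuleCat.{u} (O.obj.obj (op V))) ⟶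
    (F.val.obj (op U) : ModuleCat.{u} (O.obj.obj (op U))) :=
  ((ModuleCat.extendRestrictScalarsAdj (O.obj.map g.op).hom).homEquiv
    (F.val.obj (op V) : ModuleCat.{u} (O.obj.obj (op V)))
    (F.val.obj (op U) : ModuleCat.{u} (O.obj.obj (op U)))).symm (F.val.map g.op)

/-- the base change natural transformation -/
noncomputable def bcNat {U V : C} (g : U ⟶ V) :
    evM O V ⋙ ModuleCat.extendScalars (O.obj.map g.op).hom ⟶ evM O U where
  app F := bcMap O F g
  naturality F F' φ := by
    change (ModuleCat.extendScalars (O.obj.map g.op).hom).map (φ.val.app (op V)) ≫ bcMap O F' g =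
      bcMap O F g ≫ φ.val.app (op U)
    unfold bcMap
    rw [← Adjunction.homEquiv_naturality_left_symm, ← Adjunction.homEquiv_naturality_right_symm]
    congr 1
    exact (φ.val.naturality g.op).symm

end bc

section generic

variable {𝒜 : Type*} [Category 𝒜] {ℬ : Type*} [Category ℬ] {L E : 𝒜 ⥤ ℬ} (β : L ⟶ E)

/-- a natural transformation between functors preserving a colimit is an isomorphism at the
colimit as soon as it is one on the diagram -/
lemma isIso_app_of_isColimit {K : Type*} [Category K] {D : K ⥤ 𝒜} {c : Cocone D}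
    (hc : IsColimit c) [PreservesColimit D L] [PreservesColimit D E]
    (h : ∀ k, IsIso (β.app (D.obj k))) : IsIso (β.app c.pt) := by
  let α : D ⋙ L ≅ D ⋙ E := NatIso.ofComponents (fun k => asIso (β.app (D.obj k)))
    (fun f => by simp)
  let e := IsColimit.coconePointsIsoOfNatIso (isColimitOfPreserves L hc)
    (isColimitOfPreserves E hc) α
  have he : e.hom = β.app c.pt := by
    apply (isColimitOfPreserves L hc).hom_ext
    intro k
    rw [IsColimit.comp_coconePointsIsoOfNatIso_hom]
    simp [α]
  rw [← he]
  infer_instance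

/-- dual statement for limits -/
lemma isIso_app_of_isLimit {K : Type*} [Category K] {D : K ⥤ 𝒜} {c : Cone D}
    (hc : IsLimit c) [PreservesLimit D L] [PreservesLimit D E]
    (h : ∀ k, IsIso (β.app (D.obj k))) : IsIso (β.app c.pt) := by
  let α : D ⋙ L ≅ D ⋙ E := NatIso.ofComponents (fun k => asIso (β.app (D.obj k)))
    (fun f => by simp)
  let e := IsLimit.conePointsIsoOfNatIso (isLimitOfPreserves L hc)
    (isLimitOfPreserves E hc) α
  have he : e.hom = β.app c.pt := by
    apply (isLimitOfPreserves E hc).hom_ext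
    intro k
    rw [IsLimit.conePointsIsoOfNatIso_hom_comp]
    simp [α]
  rw [← he]
  infer_instance

end generic

section unitcase

variable {R S : Type u} [CommRing R] [CommRing S] (f : R →+* S)

lemma bc_tmul (M : ModuleCat.{u} R)
    (N : ModuleCat.{u} S) (φ : M ⟶ (ModuleCat.restrictScalars f).obj N) (s : S) (m : M) :
    (((ModuleCat.extendRestrictScalarsAdj f).homEquiv M N).symm φ).hom (s ⊗ₜ[R,f] m) =
      s • (show N from φ.hom m) := by
  rw [Adjunction.homEquiv_counit]
  rfl

lemma exists_hom_of_elt (N : ModuleCat.{u} S) (e : N) :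
    ∃ ψ : ModuleCat.of S S ⟶ N, ∀ s : S, ψ.hom s = s • e :=
  ⟨ModuleCat.ofHom (LinearMap.toSpanSingleton S N e), fun _ => rfl⟩

/-- base change of the ring itself -/
lemma isIso_bc_self (φ : ModuleCat.of R R ⟶ (ModuleCat.restrictScalars f).obj (ModuleCat.of S S))
    (hφ : ∀ r : R, φ.hom r = f r) :
    IsIso (((ModuleCat.extendRestrictScalarsAdj f).homEquiv (ModuleCat.of R R)
      (ModuleCat.of S S)).symm φ) := by
  obtain ⟨ψ, hψ⟩ := exists_hom_of_elt ((ModuleCat.extendScalars f).obj (ModuleCat.of R R))
    ((1 : S) ⊗ₜ[R,f] (1 : R))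
  refine ⟨ψ, ?_, ?_⟩
  · apply ModuleCat.ExtendScalars.hom_ext
    intro r
    change ψ.hom ((((ModuleCat.extendRestrictScalarsAdj f).homEquiv (ModuleCat.of R R)
      (ModuleCat.of S S)).symm φ).hom ((1 : S) ⊗ₜ[R,f] (r : R))) = (1 : S) ⊗ₜ[R,f] (r : R)
    rw [bc_tmul, hψ]
    have h0 : (1 : S) • (show S from φ.hom r) = f r := by
      rw [hφ]
      exact one_mul _
    rw [h0]
    refine (ModuleCat.ExtendScalars.smul_tmul (f := f) (M := ModuleCat.of R R) (f r) 1 1).trans ?_
    rw [mul_one]
    letI : Module R S := Module.compHom S f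
    have h1 : f r = r • (1 : S) := by
      change f r = f r * 1
      rw [mul_one]
    have h2 : (r : R) = r • (1 : R) := by rw [smul_eq_mul, mul_one]
    rw [h1]
    conv_rhs => rw [h2]
    exact TensorProduct.smul_tmul r (1 : S) (1 : R)
  · ext
    change (((ModuleCat.extendRestrictScalarsAdj f).homEquiv (ModuleCat.of R R)
      (ModuleCat.of S S)).symm φ).hom (ψ.hom (1 : S)) = (1 : S)
    rw [hψ, one_smul, bc_tmul]
    have h0 : (1 : S) • (show S from φ.hom (1 : R)) = f 1 := by
      rw [hφ]
      exact one_mul _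
    rw [h0, map_one]

/-- induction principle for the image of the base change map -/
lemma bc_induction (M : ModuleCat.{u} R) (N : ModuleCat.{u} S)
    (φ : M ⟶ (ModuleCat.restrictScalars f).obj N) (P : N → Prop) (h0 : P 0)
    (hadd : ∀ x y, P x → P y → P (x + y)) (hsmul : ∀ (s : S) (x : N), P x → P (s • x))
    (hP : ∀ m : M, P (φ.hom m))
    (z : (ModuleCat.extendScalars f).obj M) :
    P ((((ModuleCat.extendRestrictScalarsAdj f).homEquiv M N).symm φ).hom z) := by
  induction z using TensorProduct.induction_on with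
  | zero =>
    exact (congrArg P (map_zero
      (((ModuleCat.extendRestrictScalarsAdj f).homEquiv M N).symm φ).hom)).mpr h0
  | tmul s m =>
    exact (congrArg P (bc_tmul f M N φ s m)).mpr (hsmul s _ (hP m))
  | add z₁ z₂ h₁ h₂ =>
    exact (congrArg P (map_add
      (((ModuleCat.extendRestrictScalarsAdj f).homEquiv M N).symm φ).hom z₁ z₂)).mpr
      (hadd _ _ h₁ h₂)

end unitcase

section botsite

open Groth.Agent.Lib.Helper4.FinPres Groth.Agent.Lib.Helper4.FinGen
  Groth.Agent.Lib.Helper4.TensorPerm

variable {C : Type u} [SmallCategory C] {J : GrothendieckTopology C}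
  (O : Sheaf J CommRingCat.{u})

lemma isIso_bcMap_unit {U V : C} (g : U ⟶ V) : IsIso (bcMap O (ModSite.unit O) g) :=
  isIso_bc_self _ _ (fun _ => rfl)

variable (hJ : J = ⊥)

include hJ in
lemma preservesColimits_evM (W : C) : PreservesColimitsOfSize.{u, u} (evM O W) := by
  subst hJ
  exact (inferInstance : PreservesColimitsOfSize.{u, u}
    (SheafOfModules.evaluation.{u} (ModSite.ringSh O) (op W)))

include hJ in
lemma isIso_bcMap_of_isColimit {K : Type u} [SmallCategory K] {D : K ⥤ ModSite.Mod O}
    {c : Cocone D} (hc : IsColimit c) {U V : C} (g : U ⟶ V)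
    (h : ∀ k, IsIso (bcMap O (D.obj k) g)) : IsIso (bcMap O c.pt g) := by
  haveI := preservesColimits_evM O hJ
  exact isIso_app_of_isColimit (bcNat O g) hc h

include hJ in
lemma isIso_bcMap_free (I : Type u) {U V : C} (g : U ⟶ V) :
    IsIso (bcMap O (SheafOfModules.free (R := ModSite.ringSh O) I) g) :=
  isIso_bcMap_of_isColimit O hJ (SheafOfModules.isColimitFreeCofan (R := ModSite.ringSh O) I) g
    (fun _ => isIso_bcMap_unit O g)

include hJ in
lemma isIso_bcMap_of_isCok {X Y Q : ModSite.Mod O} {A : X ⟶ Y} {q : Y ⟶ Q} (h : IsCok A q)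
    {U V : C} (g : U ⟶ V) (hX : IsIso (bcMap O X g)) (hY : IsIso (bcMap O Y g)) :
    IsIso (bcMap O Q g) := by
  haveI := preservesColimits_evM O hJ
  haveI : ∀ W, PreservesFiniteColimits (evM O W) := fun W =>
    PreservesColimitsOfSize.preservesFiniteColimits _
  have key : IsIso ((bcNat O g).app (CokernelCofork.ofπ q h.zero).pt) := by
    refine isIso_app_of_isColimit (bcNat O g) h.isColimit ?_
    rintro (_ | _)
    · exact hX
    · exact hY
  exact key

end botsite

section forward

open Groth.Agent.Lib.Helper4.FinPres Groth.Agent.Lib.Helper4.FinGen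
  Groth.Agent.Lib.Helper4.TensorPerm

variable {C : Type u} [SmallCategory C]

lemma over_eq_bot (V : C) : (⊥ : GrothendieckTopology C).over V = ⊥ := by
  ext Y S
  rw [GrothendieckTopology.mem_over_iff, GrothendieckTopology.bot_covering,
    GrothendieckTopology.bot_covering]
  constructor
  · intro h
    exact (Sieve.overEquiv Y).injective (h.trans (map_top (Sieve.overEquiv Y)).symm)
  · rintro rfl
    exact map_top (Sieve.overEquiv Y)

variable (O : Sheaf (⊥ : GrothendieckTopology C) CommRingCat.{u})

lemma presOn_of_isQuasicoherent (F : ModSite.Mod O)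
    [SheafOfModules.IsQuasicoherent (R := ModSite.ringSh O) F] (V : C) : PresOn F V := by
  obtain ⟨R, hR, h⟩ := loc_presOn_of_isQuasicoherent F V
  have hR' : R = ⊤ := GrothendieckTopology.bot_covering.1 hR
  exact h (𝟙 V) (by rw [hR']; trivial)

theorem isIso_bcMap_of_isQuasicoherent (F : ModSite.Mod O)
    [SheafOfModules.IsQuasicoherent (R := ModSite.ringSh O) F] {U V : C} (g : U ⟶ V) :
    IsIso (bcMap O F g) := by
  obtain ⟨Ig, Ir, p, A, hA⟩ := presOn_of_isQuasicoherent O F V
  let g' : Over.mk g ⟶ Over.mk (𝟙 V) := Over.homMk g (by simp)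
  have key := isIso_bcMap_of_isCok (O.over V) (over_eq_bot V) hA g'
    (isIso_bcMap_free (O.over V) (over_eq_bot V) Ir g')
    (isIso_bcMap_free (O.over V) (over_eq_bot V) Ig g')
  exact key

end forward

section backward

open Groth.Agent.Lib.Helper4.FinPres Groth.Agent.Lib.Helper4.FinGen
  Groth.Agent.Lib.Helper4.TensorPerm Groth.Agent.Lib.Helper4.PureTensor
  Groth.Agent.Lib.Helper4.EqCritConv Groth.Agent.Lib.Helper4.SiteColim

variable {C : Type u} [SmallCategory C] {J : GrothendieckTopology C}
  (O : Sheaf J CommRingCat.{u})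

lemma epi_of_surjective_ev {M N : ModSite.Mod O} (f : M ⟶ N)
    (h : ∀ W : C, Function.Surjective (ev f W)) : Epi f := by
  have h1 : Epi f.val := by
    apply PresheafOfModules.epi_of_surjective
    intro X
    exact h X.unop
  constructor
  intro Z g₁ g₂ hg
  apply SheafOfModules.hom_ext
  rw [← cancel_epi f.val]
  exact congrArg SheafOfModules.Hom.val hg

/-- the canonical map from the free module on all global sections -/
noncomputable def allSec (M : ModSite.Mod O) :
    SheafOfModules.free (R := ModSite.ringSh O) (ModSite.unit O ⟶ M) ⟶ M :=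
  Sigma.desc (fun τ => τ)

lemma ιFree_allSec (M : ModSite.Mod O) (τ : ModSite.unit O ⟶ M) :
    SheafOfModules.ιFree τ ≫ allSec O M = τ :=
  Sigma.ι_desc _ τ

/-- if the base change maps from a terminal object are surjective, the global sections generate -/
lemma epi_allSec {T : C} (hT : IsTerminal T) (M : ModSite.Mod O)
    (hM : ∀ W : C, Function.Surjective (bcMap O M (hT.from W)).hom) : Epi (allSec O M) := by
  apply epi_of_surjective_ev
  intro W y
  obtain ⟨z, rfl⟩ := hM W y
  refine bc_induction (O.obj.map (hT.from W).op).hom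
    (M.val.obj (op T) : ModuleCat.{u} (O.obj.obj (op T)))
    (M.val.obj (op W) : ModuleCat.{u} (O.obj.obj (op W))) (M.val.map (hT.from W).op)
    (fun y => ∃ x, ev (allSec O M) W x = y) ⟨0, map_zero _⟩ ?_ ?_ ?_ z
  · rintro _ _ ⟨x₁, rfl⟩ ⟨x₂, rfl⟩
    exact ⟨x₁ + x₂, map_add _ _ _⟩
  · rintro a _ ⟨x, rfl⟩
    exact ⟨a • x, ev_smul (allSec O M) W a x⟩
  · intro m
    obtain ⟨τ, hτ⟩ := exists_of_family M (fun U => res M (hT.from U) m) (by
      intro U U' g
      have h1 : (hT.from U').op = (hT.from U).op ≫ g.op := by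
        rw [← op_comp]
        exact congrArg Quiver.Hom.op (hT.hom_ext _ _)
      change (M.val.map g.op).hom ((M.val.map (hT.from U).op).hom m) =
        (M.val.map (hT.from U').op).hom m
      rw [h1, M.val.map_comp]
      rfl)
    refine ⟨ev (SheafOfModules.ιFree τ) W (one W), ?_⟩
    rw [← ev_comp, ιFree_allSec]
    exact hτ W

end backward

section kernelgen

open Groth.Agent.Lib.Helper4.FinPres Groth.Agent.Lib.Helper4.FinGen
  Groth.Agent.Lib.Helper4.TensorPerm Groth.Agent.Lib.Helper4.PureTensor
  Groth.Agent.Lib.Helper4.EqCritConv Groth.Agent.Lib.Helper4.SiteColim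

variable {C : Type u} [SmallCategory C] {J : GrothendieckTopology C}
  (O : Sheaf J CommRingCat.{u}) (hJ : J = ⊥)

lemma bcNat_app (F : ModSite.Mod O) {U V : C} (g : U ⟶ V) : (bcNat O g).app F = bcMap O F g := rfl

include hJ in
/-- the base change maps of the kernel of an epimorphism between modules with bijective base
change maps are surjective -/
lemma surjective_bcMap_kernel {Fr M : ModSite.Mod O} (π : Fr ⟶ M) [Epi π] {U V : C} (g : U ⟶ V)
    (hFr : IsIso (bcMap O Fr g)) (hM : IsIso (bcMap O M g)) :
    Function.Surjective (bcMap O (kernel π) g).hom := by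
  haveI := preservesColimits_evM O hJ
  haveI : ∀ W, PreservesFiniteColimits (evM O W) := fun W =>
    PreservesColimitsOfSize.preservesFiniteColimits _
  haveI : ∀ W, PreservesFiniteLimits (evM O W) := fun W =>
    (inferInstance : PreservesFiniteLimits
      (SheafOfModules.evaluation.{u} (ModSite.ringSh O) (op W)))
  let S : ShortComplex (ModSite.Mod O) := ShortComplex.mk (kernel.ι π) π (kernel.condition π)
  have hS : S.ShortExact :=
    { exact := ShortComplex.exact_of_f_is_kernel S (kernelIsKernel π)
      mono_f := inferInstanceAs (Mono (kernel.ι π))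
      epi_g := inferInstanceAs (Epi π) }
  have hSV : (S.map (evM O V)).ShortExact := hS.map_of_exact (evM O V)
  have hL : ((S.map (evM O V)).map (ModuleCat.extendScalars (O.obj.map g.op).hom)).Exact :=
    hSV.exact.map_of_epi_of_preservesCokernel _ hSV.epi_g inferInstance
  rw [ShortComplex.moduleCat_exact_iff] at hL
  have hmono : Mono ((evM O U).map (kernel.ι π)) := inferInstance
  rw [ModuleCat.mono_iff_injective] at hmono
  have n1 := (bcNat O g).naturality (kernel.ι π)
  have n2 := (bcNat O g).naturality π
  rw [bcNat_app, bcNat_app] at n1 n2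
  have bFr := (ConcreteCategory.isIso_iff_bijective (bcMap O Fr g)).1 hFr
  have bM := (ConcreteCategory.isIso_iff_bijective (bcMap O M g)).1 hM
  intro x
  obtain ⟨y, hy⟩ := bFr.2 (((evM O U).map (kernel.ι π)).hom x)
  have hy0 : ((ModuleCat.extendScalars (O.obj.map g.op).hom).map ((evM O V).map π)).hom y = 0 := by
    apply bM.1
    have e1 := congrArg (fun w => w.hom y) n2
    have h3 : (evM O U).map (kernel.ι π) ≫ (evM O U).map π = 0 := by
      rw [← Functor.map_comp, kernel.condition, Functor.map_zero]
    refine (e1.trans ?_).trans (map_zero (bcMap O M g).hom).symm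
    refine (congrArg ((evM O U).map π).hom hy).trans ?_
    exact congrArg (fun w => w.hom x) h3
  obtain ⟨z, hz⟩ := hL y hy0
  refine ⟨z, ?_⟩
  apply hmono
  have e2 := congrArg (fun w => w.hom z) n1
  refine e2.symm.trans ?_
  refine (congrArg (bcMap O Fr g).hom hz).trans ?_
  exact hy

end kernelgen

section assemble

open Groth.Agent.Lib.Helper4.FinPres Groth.Agent.Lib.Helper4.FinGen
  Groth.Agent.Lib.Helper4.TensorPerm Groth.Agent.Lib.Helper4.PureTensor
  Groth.Agent.Lib.Helper4.EqCritConv Groth.Agent.Lib.Helper4.SiteColim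

/-- on a chaotic site with a terminal object, a module whose base change maps from the terminal
object are bijective has a global presentation -/
lemma exists_isCok_of_bc {C : Type u} [SmallCategory C] {J : GrothendieckTopology C}
    (O : Sheaf J CommRingCat.{u}) (hJ : J = ⊥) {T : C} (hT : IsTerminal T) (M : ModSite.Mod O)
    (hM : ∀ W : C, IsIso (bcMap O M (hT.from W))) :
    ∃ (Ig Ir : Type u) (A : SheafOfModules.free (R := ModSite.ringSh O) Ir ⟶
      SheafOfModules.free (R := ModSite.ringSh O) Ig)
      (π : SheafOfModules.free (R := ModSite.ringSh O) Ig ⟶ M), IsCok A π := by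
  haveI : Epi (allSec O M) := epi_allSec O hT M
    (fun W => ((ConcreteCategory.isIso_iff_bijective _).1 (hM W)).2)
  have hK : ∀ W : C, Function.Surjective (bcMap O (kernel (allSec O M)) (hT.from W)).hom :=
    fun W => surjective_bcMap_kernel O hJ (allSec O M) _ (isIso_bcMap_free O hJ _ _) (hM W)
  haveI : Epi (allSec O (kernel (allSec O M))) := epi_allSec O hT _ hK
  have hz : (allSec O (kernel (allSec O M)) ≫ kernel.ι (allSec O M)) ≫ allSec O M = 0 := by
    rw [Category.assoc, kernel.condition, comp_zero]
  refine ⟨_, _, allSec O (kernel (allSec O M)) ≫ kernel.ι (allSec O M), allSec O M, hz, ?_,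
    inferInstance⟩
  let φ : ShortComplex.mk _ _ hz ⟶
      ShortComplex.mk (kernel.ι (allSec O M)) (allSec O M) (kernel.condition _) :=
    { τ₁ := allSec O (kernel (allSec O M))
      τ₂ := 𝟙 _
      τ₃ := 𝟙 _ }
  haveI : Epi φ.τ₁ := inferInstanceAs (Epi (allSec O (kernel (allSec O M))))
  haveI : IsIso φ.τ₂ := inferInstanceAs (IsIso (𝟙 _))
  haveI : Mono φ.τ₃ := inferInstanceAs (Mono (𝟙 _))
  exact (ShortComplex.exact_iff_of_epi_of_isIso_of_mono φ).2
    (ShortComplex.exact_of_f_is_kernel _ (kernelIsKernel (allSec O M)))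

variable {C : Type u} [SmallCategory C] (O : Sheaf (⊥ : GrothendieckTopology C) CommRingCat.{u})

lemma presOn_of_bc (F : ModSite.Mod O) (h : ∀ (U V : C) (g : U ⟶ V), IsIso (bcMap O F g))
    (V : C) : PresOn F V := by
  obtain ⟨Ig, Ir, A, π, hc⟩ := exists_isCok_of_bc (O.over V) (over_eq_bot V)
    (Over.mkIdTerminal (X := V)) ((ModSite.restr O V).obj F) (fun W => by
      have e : (Over.mkIdTerminal (X := V)).from W = Over.homMk W.hom (by simp) :=
        Over.mkIdTerminal.hom_ext _ _
      rw [e]
      exact h W.left V W.hom)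
  refine ⟨Ig, Ir, secOf F V π, A, ?_⟩
  rw [← eq_genHom]
  exact hc

theorem isQuasicoherent_iff (F : ModSite.Mod O) :
    SheafOfModules.IsQuasicoherent (R := ModSite.ringSh O) F ↔
      ∀ (U V : C) (g : U ⟶ V), IsIso (bcMap O F g) := by
  constructor
  · intro hF U V g
    exact isIso_bcMap_of_isQuasicoherent O F g
  · intro h
    apply isQuasicoherent_of_loc_presOn
    intro V
    exact ⟨⊤, GrothendieckTopology.top_mem _ _, fun W g _ => presOn_of_bc O F h W⟩

theorem main (O : Sheaf (⊥ : GrothendieckTopology C) CommRingCat.{u}) (F : ModSite.Mod O) :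
    SheafOfModules.IsQuasicoherent (R := ModSite.ringSh O) F ↔
      ∀ (U V : C) (g : U ⟶ V), IsIso
        (((ModuleCat.extendRestrictScalarsAdj (O.obj.map g.op).hom).homEquiv
          (F.val.obj (op V) : ModuleCat.{u} (O.obj.obj (op V))) (F.val.obj (op U) : ModuleCat.{u} (O.obj.obj (op U)))).symm
          (F.val.map g.op)) :=
  isQuasicoherent_iff O F

end assemble

end Groth.Agent.Lib.Helper4.ChaoticQC
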