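import Mathlib
import Groth.Prelude.Def_ModSite2
import Groth.Agent.Lib.Helper4.ChaoticQC

/-!
# Quasi-coherent modules on a chaotic site with flat transition maps: kernels, cokernels, extensions (helper4) (helper4)
-/

set_option backward.isDefEq.respectTransparency.types false
set_option synthInstance.maxHeartbeats 400000
set_option autoImplicit false
set_option linter.unusedSectionVars false
set_option linter.style.haveILetI false
set_option linter.unusedSimpArgs false
universe u v w
open CategoryTheory CategoryTheory.Limits Opposite TensorProduct ChangeOfRings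

namespace Groth.Agent.Lib.Helper4.ChaoticQC2

open Groth.Agent.Lib.Helper4.ChaoticQC Groth.Agent.Lib.Helper4.FinPres

variable {C : Type u} [SmallCategory C] (O : Sheaf (⊥ : GrothendieckTopology C) CommRingCat.{u})
  (hO : ∀ (U V : C) (g : U ⟶ V), (O.obj.map g.op).hom.Flat)

lemma finLim_evM (W : C) : PreservesFiniteLimits (evM O W) :=
  (inferInstance : PreservesFiniteLimits
    (SheafOfModules.evaluation.{u} (ModSite.ringSh O) (op W)))

lemma finColim_evM (W : C) : PreservesFiniteColimits (evM O W) := by
  haveI := preservesColimits_evM O rfl W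
  exact PreservesColimitsOfSize.preservesFiniteColimits _

include hO in
lemma isIso_bcMap_kernel {F G : ModSite.Mod O} (α : F ⟶ G) {U V : C} (g : U ⟶ V)
    (hF : IsIso (bcMap O F g)) (hG : IsIso (bcMap O G g)) : IsIso (bcMap O (kernel α) g) := by
  haveI := finLim_evM O
  haveI := ModuleCat.preservesFiniteLimits_extendScalars_of_flat (hO U V g)
  have key : IsIso ((bcNat O g).app (KernelFork.ofι (kernel.ι α) (kernel.condition α)).pt) := by
    refine isIso_app_of_isLimit (bcNat O g) (kernelIsKernel α) ?_
    rintro (_ | _)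
    · exact hF
    · exact hG
  exact key

include hO in
lemma isIso_bcMap_ext {S : ShortComplex (ModSite.Mod O)} (hS : S.ShortExact) {U V : C} (g : U ⟶ V)
    (h₁ : IsIso (bcMap O S.X₁ g)) (h₃ : IsIso (bcMap O S.X₃ g)) : IsIso (bcMap O S.X₂ g) := by
  haveI := finLim_evM O
  haveI := finColim_evM O
  haveI := ModuleCat.preservesFiniteLimits_extendScalars_of_flat (hO U V g)
  let φ := S.mapNatTrans (bcNat O g)
  haveI : IsIso φ.τ₁ := h₁
  haveI : IsIso φ.τ₃ := h₃
  exact ShortComplex.isIso₂_of_shortExact_of_isIso₁₃ φ (hS.map_of_exact _) (hS.map_of_exact _)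

include hO in
theorem main :
    (∀ (F G : ModSite.Mod O) (α : F ⟶ G), SheafOfModules.IsQuasicoherent (R := ModSite.ringSh O) F → SheafOfModules.IsQuasicoherent (R := ModSite.ringSh O) G →
        SheafOfModules.IsQuasicoherent (R := ModSite.ringSh O) (kernel α) ∧ SheafOfModules.IsQuasicoherent (R := ModSite.ringSh O) (cokernel α)) ∧
    (∀ (S : ShortComplex (ModSite.Mod O)), S.ShortExact → SheafOfModules.IsQuasicoherent (R := ModSite.ringSh O) S.X₁ → SheafOfModules.IsQuasicoherent (R := ModSite.ringSh O) S.X₃ → SheafOfModules.IsQuasicoherent (R := ModSite.ringSh O) S.X₂) := by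
  constructor
  · intro F G α hF hG
    rw [isQuasicoherent_iff] at hF hG
    constructor
    · rw [isQuasicoherent_iff]
      intro U V g
      exact isIso_bcMap_kernel O hO α g (hF U V g) (hG U V g)
    · rw [isQuasicoherent_iff]
      intro U V g
      exact isIso_bcMap_of_isCok O rfl (IsCok.cokernel α) g (hF U V g) (hG U V g)
  · intro S hS h₁ h₃
    rw [isQuasicoherent_iff] at h₁ h₃ ⊢
    intro U V g
    exact isIso_bcMap_ext O hO hS g (h₁ U V g) (h₃ U V g)

end Groth.Agent.Lib.Helper4.ChaoticQC2
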