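import Mathlib
import Groth.Prelude.Def_Cyc
import Groth.Prelude.Def_EGA43
import Groth.Agent.Lib.Helper4.JacDim1
import Groth.Agent.Lib.Helper4.FibreStalkDim1
import Groth.Agent.Lib.Helper4.DimFT1
import Groth.Agent.Lib.Helper4.DimFT2
import Groth.Agent.Lib.Helper4.FibDim7
import Groth.Agent.Lib.Helper4.EffCartierDim1
import Groth.Agent.Lib.Helper4.Chev6

/-!
# Fibre dimension of a dominant morphism of varieties (S1653) (helper4)
-/

set_option backward.isDefEq.respectTransparency.types false
set_option synthInstance.maxHeartbeats 400000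
set_option autoImplicit false
set_option linter.unusedSectionVars false
set_option linter.style.haveILetI false
set_option linter.unusedSimpArgs false
universe u v w
open CategoryTheory CategoryTheory.Limits AlgebraicGeometry TopologicalSpace IsLocalRing Opposite
open Cardinal
open Groth.Agent.Lib.Helper4.DimIneq1 Groth.Agent.Lib.Helper4.DimFT2 Groth.Agent.Lib.Helper4.Catenary1
open Groth.Agent.Lib.Helper4.DimEq1 Groth.Agent.Lib.Helper4.DimIneq2 Groth.Agent.Lib.Helper4.DimEq2
open Groth.Agent.Lib.Helper4.DimIneq3 Groth.Agent.Lib.Helper4.DimIneq4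
open Groth.Agent.Lib.Helper4.NormFibre2 Groth.Agent.Lib.Helper4.RadBir3 Groth.Agent.Lib.Helper4.DimFT3
open Groth.Agent.Lib.Helper4.FibDim1 Groth.Agent.Lib.Helper4.FibDim2 Groth.Agent.Lib.Helper4.LocUC1
open Groth.Agent.Lib.Helper4.FibDim3 Groth.Agent.Lib.Helper4.FibDim4 Groth.Agent.Lib.Helper4.FibDim5
open Groth.Agent.Lib.Helper4.FibDim6 Groth.Agent.Lib.Helper4.FibDim7 Groth.Agent.Lib.Helper4.JacDim1
open Groth.Agent.Lib.Helper4.DimFT1
open Groth.Agent.Lib.Helper4.Chev5 Groth.Agent.Lib.Helper4.Chev6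

namespace Groth.Agent.Lib.Helper4.Chev7


theorem S1653_main (k : Type u) [Field k] (X Y : Scheme.{u}) [X.Over (Spec (CommRingCat.of k))]
    [Y.Over (Spec (CommRingCat.of k))]
    [LocallyOfFiniteType (X ↘ (Spec (CommRingCat.of k)))]
    [LocallyOfFiniteType (Y ↘ (Spec (CommRingCat.of k)))] [IrreducibleSpace X]
    (f : X ⟶ Y) (hf : f ≫ (Y ↘ (Spec (CommRingCat.of k))) = X ↘ (Spec (CommRingCat.of k))) (a b : ℕ)
    (ha : topologicalKrullDim X = a)
    (hb : topologicalKrullDim (closure (Set.range f.base)) = b) :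
    (∀ x : X, ((a - b : ℕ) : WithBot ℕ∞) ≤ FlatMor.fibreDimAt f x) ∧
      IsOpen {x : X | FlatMor.fibreDimAt f x = (a - b : ℕ)} ∧
      Dense {x : X | FlatMor.fibreDimAt f x = (a - b : ℕ)} := by
  haveI hft : LocallyOfFiniteType f := by
    haveI : LocallyOfFiniteType (f ≫ (Y ↘ (Spec (CommRingCat.of k)))) := by rw [hf]; infer_instance
    exact locallyOfFiniteType_of_comp f (Y ↘ (Spec (CommRingCat.of k)))
  haveI : IsLocallyNoetherian Y :=
    LocallyOfFiniteType.isLocallyNoetherian (Y ↘ (Spec (CommRingCat.of k)))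
  -- the single point of `Spec k`
  have hpt : ∀ s t : Spec (CommRingCat.of k), s = t := by
    intro s t
    haveI : Subsingleton (PrimeSpectrum k) := inferInstance
    exact Subsingleton.elim (α := PrimeSpectrum k) s t
  let ξ := genericPoint X
  -- dimension of X
  have hX : ((tr (X ↘ (Spec (CommRingCat.of k))) ξ : ℕ) : WithBot ℕ∞) = a := by
    rw [← ha, ← dim_closure_inter_fiber (X ↘ (Spec (CommRingCat.of k))) ξ _ rfl]
    have h1 : closure ({ξ} : Set X) ∩
        (X ↘ (Spec (CommRingCat.of k))).base ⁻¹' {(X ↘ (Spec (CommRingCat.of k))).base ξ} =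
        Set.univ := by
      rw [(genericPoint_spec X).def]
      ext x
      simp only [Set.top_eq_univ, Set.univ_inter, Set.mem_preimage, Set.mem_singleton_iff,
        Set.mem_univ, iff_true]
      exact hpt _ _
    rw [h1]
    exact (Homeomorph.Set.univ X).isHomeomorph.topologicalKrullDim_eq _
  have hcl : closure (Set.range f.base) = closure ({f.base ξ} : Set Y) := by
    apply le_antisymm
    · apply closure_minimal _ isClosed_closure
      rintro _ ⟨x, rfl⟩
      have h1 : ξ ⤳ x := (genericPoint_spec X).specializes (Set.mem_univ _)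
      exact (h1.map f.continuous).mem_closure
    · exact closure_mono (Set.singleton_subset_iff.mpr (Set.mem_range_self ξ))
  have hY : ((tr (Y ↘ (Spec (CommRingCat.of k))) (f.base ξ) : ℕ) : WithBot ℕ∞) = b := by
    rw [← hb, hcl, ← dim_closure_inter_fiber (Y ↘ (Spec (CommRingCat.of k))) (f.base ξ) _ rfl]
    have h1 : closure ({f.base ξ} : Set Y) ∩
        (Y ↘ (Spec (CommRingCat.of k))).base ⁻¹'
          {(Y ↘ (Spec (CommRingCat.of k))).base (f.base ξ)} = closure ({f.base ξ} : Set Y) := by
      ext y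
      simp only [Set.mem_inter_iff, Set.mem_preimage, Set.mem_singleton_iff, and_iff_left_iff_imp]
      intro _
      exact hpt _ _
    rw [h1]
  have htr : tr (X ↘ (Spec (CommRingCat.of k))) ξ =
      tr (Y ↘ (Spec (CommRingCat.of k))) (f.base ξ) + tr f ξ := by
    have := tr_comp f (Y ↘ (Spec (CommRingCat.of k))) ξ
    have e : ∀ (p : X ⟶ Spec (CommRingCat.of k)) [LocallyOfFiniteType p]
        (_ : f ≫ (Y ↘ (Spec (CommRingCat.of k))) = p),
        tr p ξ = tr (Y ↘ (Spec (CommRingCat.of k))) (f.base ξ) + tr f ξ := by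
      intro p _ hp
      subst hp
      exact this
    exact e _ hf
  have htrf : tr f ξ = a - b := by
    have h1 : tr (X ↘ (Spec (CommRingCat.of k))) ξ = a := by exact_mod_cast hX
    have h2 : tr (Y ↘ (Spec (CommRingCat.of k))) (f.base ξ) = b := by exact_mod_cast hY
    omega
  have hge : ∀ x : X, ((a - b : ℕ) : WithBot ℕ∞) ≤ FlatMor.fibreDimAt f x := by
    intro x
    rw [← htrf]
    exact tr_le_fibreDimAt_of_specializes f x ξ ((genericPoint_spec X).specializes (Set.mem_univ _))
  have hset : {x : X | FlatMor.fibreDimAt f x = (a - b : ℕ)} =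
      {x : X | FlatMor.fibreDimAt f x ≤ ((a - b : ℕ) : WithBot ℕ∞)} := by
    ext x
    exact ⟨fun h => le_of_eq h, fun h => le_antisymm h (hge x)⟩
  refine ⟨hge, ?_, ?_⟩
  · rw [hset]
    exact Groth.Agent.Lib.Helper4.Chev2.S0402_main f (a - b)
  · have hξ : ξ ∈ {x : X | FlatMor.fibreDimAt f x = (a - b : ℕ)} := by
      have hmax : ∀ z' : X, f z' = f ξ → z' ⤳ ξ → z' = ξ := by
        intro z' _ hz'
        exact (hz'.antisymm ((genericPoint_spec X).specializes (Set.mem_univ _))).eq
      change FlatMor.fibreDimAt f ξ = _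
      rw [(max_point_facts f ξ hmax).1, htrf]
    intro x
    have h1 : x ∈ closure ({ξ} : Set X) := by
      rw [(genericPoint_spec X).def]
      exact Set.mem_univ _
    exact closure_mono (Set.singleton_subset_iff.mpr hξ) h1

end Groth.Agent.Lib.Helper4.Chev7
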