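import Mathlib
import Groth.Agent.Lib.Helper4.ClBridge2

/-!
# Euler characteristic of high twists on closed subschemes of projective space (helper4)
-/

set_option backward.isDefEq.respectTransparency.types false
set_option synthInstance.maxHeartbeats 400000
set_option autoImplicit false
set_option linter.unusedSectionVars false
set_option linter.style.haveILetI false
set_option linter.unusedSimpArgs false
universe u v w
open CategoryTheory CategoryTheory.Limits AlgebraicGeometry
open TopologicalSpace Opposite
open Groth.Agent.Lib.Helper4 Groth.Agent.Lib.Helper4.ClBridge2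

namespace Groth.Agent.Lib.Helper4.ClBridge3

variable (A : Type u) [CommRing A] [IsNoetherianRing A] (r : ℕ) (X : Scheme.{u})
  [X.Over (Spec (CommRingCat.of A))]
  (i : X ⟶ CohB1.ProjSpace r A) [IsClosedImmersion i] (F : X.Modules) (hF : Coh.IsCoh F)

include hF in
theorem s5749 : ∃ N : ℤ, ∀ n : ℤ, N ≤ n →
      ((Finset.range (r + 1)).sum fun j => (-1 : ℤ) ^ j *
        ((Module.length A (Coh.HH X (CohB1.tensorMod F
          ((Scheme.Modules.pullback i).obj (Twist.twistProjSpace r A n))) j)).toNat : ℤ)) =
      ((Module.length A (Coh.HH X (CohB1.tensorMod F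
          ((Scheme.Modules.pullback i).obj (Twist.twistProjSpace r A n))) 0)).toNat : ℤ) := by
  obtain ⟨N, hN⟩ := serre_vanishing_closed r A i F hF
  refine ⟨N, fun n hn => ?_⟩
  rw [Finset.sum_eq_single 0]
  · simp
  · intro j _ hj
    haveI : Subsingleton (Coh.HH X (CohB1.tensorMod F
          ((Scheme.Modules.pullback i).obj (Twist.twistProjSpace r A n))) j) :=
      hN n hn j (Nat.pos_of_ne_zero hj)
    rw [Module.length_eq_zero]
    simp
  · intro h
    exact absurd (Finset.mem_range.2 (Nat.succ_pos r)) h

include hF in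
theorem s5750 (P : Polynomial ℚ)
    (hP : ∀ n : ℤ, ((Finset.range (r + 1)).sum fun j => (-1 : ℚ) ^ j *
        ((Module.length A (Coh.HH X (CohB1.tensorMod F
          ((Scheme.Modules.pullback i).obj (Twist.twistProjSpace r A n))) j)).toNat : ℚ)) = P.eval (n : ℚ)) :
    0 ≤ P.leadingCoeff := by
  obtain ⟨N, hN⟩ := serre_vanishing_closed r A i F hF
  have hpos : ∀ n : ℤ, N ≤ n → 0 ≤ P.eval (n : ℚ) := by
    intro n hn
    rw [← hP n, Finset.sum_eq_single 0]
    · simp
    · intro j _ hj
      haveI : Subsingleton (Coh.HH X (CohB1.tensorMod F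
            ((Scheme.Modules.pullback i).obj (Twist.twistProjSpace r A n))) j) :=
        hN n hn j (Nat.pos_of_ne_zero hj)
      rw [Module.length_eq_zero]
      simp
    · intro h
      exact absurd (Finset.mem_range.2 (Nat.succ_pos r)) h
  by_contra hlt
  push Not at hlt
  by_cases hdeg : 0 < P.degree
  · have ht := Polynomial.tendsto_atBot_of_leadingCoeff_nonpos P hdeg hlt.le
    have h1 : ∀ᶠ x : ℚ in Filter.atTop, P.eval x < 0 := ht.eventually (Filter.eventually_lt_atBot 0)
    obtain ⟨x₀, hx₀⟩ := Filter.eventually_atTop.1 h1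
    obtain ⟨m, hm⟩ := exists_int_gt (max x₀ (N : ℚ))
    have hmx : x₀ ≤ (m : ℚ) := (le_max_left _ _).trans hm.le
    have hmN : N ≤ m := by
      have : (N : ℚ) < (m : ℚ) := (le_max_right _ _).trans_lt hm
      exact_mod_cast this.le
    exact absurd (hpos m hmN) (not_le.2 (hx₀ _ hmx))
  · have hc : P = Polynomial.C (P.coeff 0) := Polynomial.eq_C_of_degree_le_zero (not_lt.1 hdeg)
    have h0 := hpos N le_rfl
    rw [hc, Polynomial.eval_C] at h0
    rw [hc, Polynomial.leadingCoeff_C] at hlt
    exact absurd h0 (not_le.2 hlt)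

end Groth.Agent.Lib.Helper4.ClBridge3
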