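import Mathlib
import Groth.Prelude.Def_W4bk4git07Quot
import Groth.Agent.Lib.Helper4.GeomQuotDesc1

/-!
# Induced action on the pullback of an invariant morphism, fpqc descent of universal geometric quotients (S18511) (helper4)
-/

set_option backward.isDefEq.respectTransparency.types false
set_option synthInstance.maxHeartbeats 400000
set_option autoImplicit false
set_option linter.unusedSectionVars false
set_option linter.style.haveILetI false
set_option linter.unusedSimpArgs false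
universe u v w
open CategoryTheory CategoryTheory.Limits AlgebraicGeometry TopologicalSpace Opposite
open MonoidalCategory CartesianMonoidalCategory MonObj GrpObj
open Groth.Agent.Lib.Helper4.GeomQuotDesc1

namespace Groth.Agent.Lib.Helper4.UnivGeomQuotDesc1

section PbAct
variable {S : Scheme.{u}} {G X Y P Y₁ : Over S} [GrpObj G]

/-- the induced action on the pullback of an invariant morphism -/
noncomputable def pbAct (a : AlgGrp.Action G X) (φ : X ⟶ Y) (hinv : GIT.IsInvariant a φ)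
    {p : P ⟶ X} {q : P ⟶ Y₁} {g : Y₁ ⟶ Y} (hpb : IsPullback p q φ g) : AlgGrp.Action G P where
  act := hpb.lift ((G ◁ p) ≫ a.act) (snd G P ≫ q) (by
    rw [Category.assoc, hinv, ← Category.assoc, whiskerLeft_snd, Category.assoc, Category.assoc,
      hpb.w])
  one_act := by
    apply hpb.hom_ext
    · rw [Category.assoc, hpb.lift_fst, ← Category.assoc, ← whisker_exchange, Category.assoc,
        a.one_act, leftUnitor_naturality]
    · rw [Category.assoc, hpb.lift_snd, ← Category.assoc, whiskerRight_snd, leftUnitor_hom]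
  mul_act := by
    apply hpb.hom_ext
    · rw [Category.assoc, hpb.lift_fst, ← Category.assoc, ← whisker_exchange, Category.assoc,
        a.mul_act]
      simp only [Category.assoc]
      rw [hpb.lift_fst, ← MonoidalCategory.whiskerLeft_comp_assoc, hpb.lift_fst,
        MonoidalCategory.whiskerLeft_comp, Category.assoc, associator_naturality_right_assoc]
    · rw [Category.assoc, hpb.lift_snd, ← Category.assoc, whiskerRight_snd]
      simp only [Category.assoc]
      rw [hpb.lift_snd, whiskerLeft_snd_assoc, hpb.lift_snd, associator_hom_snd_snd_assoc]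

theorem pbAct_fst (a : AlgGrp.Action G X) (φ : X ⟶ Y) (hinv : GIT.IsInvariant a φ)
    {p : P ⟶ X} {q : P ⟶ Y₁} {g : Y₁ ⟶ Y} (hpb : IsPullback p q φ g) :
    (pbAct a φ hinv hpb).act ≫ p = (G ◁ p) ≫ a.act := hpb.lift_fst _ _ _

theorem pbAct_snd (a : AlgGrp.Action G X) (φ : X ⟶ Y) (hinv : GIT.IsInvariant a φ)
    {p : P ⟶ X} {q : P ⟶ Y₁} {g : Y₁ ⟶ Y} (hpb : IsPullback p q φ g) :
    GIT.IsInvariant (pbAct a φ hinv hpb) q := hpb.lift_snd _ _ _

end PbAct

section main
variable {S : Scheme.{u}}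

theorem isUnivGeomQuot_of_fpqc_baseChange (G X Y X' Y' : Over S) [GrpObj G]
    (a : AlgGrp.Action G X) (φ : X ⟶ Y) (hinv : GIT.IsInvariant a φ)
    [QuasiCompact φ.left] [QuasiSeparated φ.left]
    (α : Y' ⟶ Y) [Flat α.left] [Surjective α.left] [QuasiCompact α.left]
    (pr : X' ⟶ X) (φ' : X' ⟶ Y') (hpb : IsPullback pr φ' φ α)
    (a' : AlgGrp.Action G X') (heq : a'.act ≫ pr = (G ◁ pr) ≫ a.act)
    (hinv' : GIT.IsInvariant a' φ')
    (h : GIT.IsUnivGeomQuot a' φ') : GIT.IsUnivGeomQuot a φ := by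
  refine ⟨isGeomQuot_of_fpqc_baseChange G X Y X' Y' a φ hinv α pr φ' hpb a' heq h.1, ?_⟩
  intro X₁ Y₁ pr₁ φ₁ g _ hpb₁ a₁ heq₁ hinv₁
  -- the base change of α along g
  have hY : IsPullback (pullback.fst g α) (pullback.snd g α) g α := IsPullback.of_hasPullback g α
  obtain ⟨α₁, hα₁⟩ : ∃ α₁, α₁ = pullback.fst g α := ⟨_, rfl⟩
  obtain ⟨g', hg'⟩ : ∃ g', g' = pullback.snd g α := ⟨_, rfl⟩
  rw [← hα₁, ← hg'] at hY
  clear hα₁ hg'
  have hX : IsPullback (pullback.fst φ₁ α₁) (pullback.snd φ₁ α₁) φ₁ α₁ :=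
    IsPullback.of_hasPullback φ₁ α₁
  obtain ⟨pr₁', hpr₁'⟩ : ∃ p, p = pullback.fst φ₁ α₁ := ⟨_, rfl⟩
  obtain ⟨φ₁', hφ₁'⟩ : ∃ p, p = pullback.snd φ₁ α₁ := ⟨_, rfl⟩
  rw [← hpr₁', ← hφ₁'] at hX
  clear hpr₁' hφ₁'
  -- properties of the base changes
  have HY : IsPullback g'.left α₁.left α.left g.left := (hY.map (Over.forget S)).flip
  have H₁ : IsPullback pr₁.left φ₁.left φ.left g.left := hpb₁.map (Over.forget S)
  haveI : Flat α₁.left := MorphismProperty.of_isPullback HY inferInstance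
  haveI : Surjective α₁.left := MorphismProperty.of_isPullback HY inferInstance
  haveI : QuasiCompact α₁.left := MorphismProperty.of_isPullback HY inferInstance
  haveI : QuasiCompact φ₁.left := MorphismProperty.of_isPullback H₁ inferInstance
  haveI : QuasiSeparated φ₁.left := MorphismProperty.of_isPullback H₁ inferInstance
  -- the induced action
  let a₁' := pbAct a₁ φ₁ hinv₁ hX
  have heq₁' : a₁'.act ≫ pr₁' = (G ◁ pr₁') ≫ a₁.act := pbAct_fst a₁ φ₁ hinv₁ hX
  have hinv₁' : GIT.IsInvariant a₁' φ₁' := pbAct_snd a₁ φ₁ hinv₁ hX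
  -- the comparison map
  have hw : (pr₁' ≫ pr₁) ≫ φ = (φ₁' ≫ g') ≫ α := by
    rw [Category.assoc, hpb₁.w, ← Category.assoc, hX.w, Category.assoc, Category.assoc, hY.w]
  obtain ⟨w, hw1, hw2⟩ : ∃ w : _ ⟶ X', w ≫ pr = pr₁' ≫ pr₁ ∧ w ≫ φ' = φ₁' ≫ g' :=
    ⟨hpb.lift _ _ hw, hpb.lift_fst _ _ _, hpb.lift_snd _ _ _⟩
  have hbig : IsPullback (w ≫ pr) φ₁' φ (g' ≫ α) := by
    rw [hw1, ← hY.w]
    exact hX.paste_horiz hpb₁
  have hW : IsPullback w φ₁' φ' g' := IsPullback.of_right hbig hw2 hpb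
  have hweq : a₁'.act ≫ w = (G ◁ w) ≫ a'.act := by
    apply hpb.hom_ext
    · rw [Category.assoc, hw1, ← Category.assoc, heq₁', Category.assoc, heq₁, Category.assoc, heq,
        ← MonoidalCategory.whiskerLeft_comp_assoc, ← hw1, MonoidalCategory.whiskerLeft_comp_assoc]
    · rw [Category.assoc, hw2, ← Category.assoc, hinv₁', Category.assoc, Category.assoc, hinv',
        whiskerLeft_snd_assoc, hw2]
  have hq : GIT.IsGeomQuot a₁' φ₁' := h.2 w φ₁' g' trivial hW a₁' hweq hinv₁'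
  exact isGeomQuot_of_fpqc_baseChange G X₁ Y₁ _ _ a₁ φ₁ hinv₁ α₁ pr₁' φ₁' hX a₁' heq₁' hq

theorem main_S18511 (k : Type u) [Field k]
    (G X Y X' Y' : Over (Spec (CommRingCat.of k))) [GrpObj G]
    [QuasiCompact X.hom] [IsSeparated X.hom]
    [IsSeparated Y.hom]
    (a : AlgGrp.Action G X) (φ : X ⟶ Y) (hinv : GIT.IsInvariant a φ)
    (α : Y' ⟶ Y) [Flat α.left] [Surjective α.left] [QuasiCompact α.left]
    (pr : X' ⟶ X) (φ' : X' ⟶ Y') (hpb : IsPullback pr φ' φ α)
    (a' : AlgGrp.Action G X') (heq : a'.act ≫ pr = (G ◁ pr) ≫ a.act)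
    (hinv' : GIT.IsInvariant a' φ')
    (h : GIT.IsUnivGeomQuot a' φ') :
    GIT.IsUnivGeomQuot a φ := by
  haveI : QuasiCompact (φ.left ≫ Y.hom) := by rw [Over.w φ]; infer_instance
  haveI : QuasiSeparated (φ.left ≫ Y.hom) := by rw [Over.w φ]; infer_instance
  haveI : QuasiCompact φ.left := QuasiCompact.of_comp φ.left Y.hom
  haveI : QuasiSeparated φ.left := QuasiSeparated.of_comp φ.left Y.hom
  exact isUnivGeomQuot_of_fpqc_baseChange G X Y X' Y' a φ hinv α pr φ' hpb a' heq hinv' h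

end main

end Groth.Agent.Lib.Helper4.UnivGeomQuotDesc1
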