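import Mathlib
import Groth.Prelude.Def_W4bk4git07Quot
import Groth.Agent.Lib.Helper4.UnivGeomQuotDesc1

/-!
# Universal categorical quotients: surjectivity, invariant functions, and the geometric-quotient criterion (S11446) (helper4)
-/

set_option backward.isDefEq.respectTransparency.types false
set_option synthInstance.maxHeartbeats 400000
set_option autoImplicit false
set_option linter.unusedSectionVars false
set_option linter.style.haveILetI false
set_option linter.unusedSimpArgs false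
universe u v w
open CategoryTheory CategoryTheory.Limits AlgebraicGeometry TopologicalSpace Opposite
open MonoidalCategory CartesianMonoidalCategory MonObj GrpObj
open Groth.Agent.Lib.Helper4.GeomQuotDesc1 Groth.Agent.Lib.Helper4.UnivGeomQuotDesc1 Groth.Agent.Lib.Helper4.FppfGeomQuot1

namespace Groth.Agent.Lib.Helper4.UnivCatQuot1

section Gen
variable {C : Type w} [Category.{v} C]

theorem isPullback_of_points' {P X Y Z : C} (fst : P ⟶ X) (snd : P ⟶ Y) (f : X ⟶ Z) (g : Y ⟶ Z)
    (w : fst ≫ f = snd ≫ g)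
    (hex : ∀ {T : C} (a : T ⟶ X) (b : T ⟶ Y), a ≫ f = b ≫ g →
      ∃ c : T ⟶ P, c ≫ fst = a ∧ c ≫ snd = b)
    (huniq : ∀ {T : C} (c c' : T ⟶ P), c ≫ fst = c' ≫ fst → c ≫ snd = c' ≫ snd → c = c') :
    IsPullback fst snd f g := by
  refine ⟨⟨w⟩, ⟨PullbackCone.IsLimit.mk w (fun s => (hex s.fst s.snd s.condition).choose)
    (fun s => (hex s.fst s.snd s.condition).choose_spec.1)
    (fun s => (hex s.fst s.snd s.condition).choose_spec.2) ?_⟩⟩
  intro s m h1 h2
  exact huniq _ _ (h1.trans (hex s.fst s.snd s.condition).choose_spec.1.symm)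
    (h2.trans (hex s.fst s.snd s.condition).choose_spec.2.symm)

end Gen

section Sch

theorem appTop_eq_of_invSection {A B A' : Scheme.{u}} (s t : A ⟶ B) (V : B.Opens) (j : A' ⟶ A)
    (s' t' : A' ⟶ V.toScheme) (hs : s' ≫ V.ι = j ≫ s) (ht : t' ≫ V.ι = j ≫ t) (f : Γ(B, V))
    (hf : s.appLE V (s ⁻¹ᵁ V ⊓ t ⁻¹ᵁ V) inf_le_left f =
      t.appLE V (s ⁻¹ᵁ V ⊓ t ⁻¹ᵁ V) inf_le_right f) :
    s'.appTop (V.topIso.inv f) = t'.appTop (V.topIso.inv f) := by
  have hjW : (⊤ : A'.Opens) ≤ j ⁻¹ᵁ (s ⁻¹ᵁ V ⊓ t ⁻¹ᵁ V) := by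
    intro z _
    refine ⟨?_, ?_⟩
    · show (j ≫ s).base z ∈ V
      rw [← hs]
      exact ι_mem V _
    · show (j ≫ t).base z ∈ V
      rw [← ht]
      exact ι_mem V _
  rw [topIso_inv_appTop, topIso_inv_appTop, appLE_congr_hom hs, appLE_congr_hom ht]
  have e1 := appLE_comp_apply j s V _ ⊤ inf_le_left hjW f
  have e2 := appLE_comp_apply j t V _ ⊤ inf_le_right hjW f
  rw [← e1, ← e2, hf]

end Sch

variable {S : Scheme.{u}} {G X Y : Over S} [GrpObj G]

/-- the affine line over `S` -/
noncomputable def A : Over S := (Over.star S).obj A1.{u}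

/-- morphisms to the affine line over `S` are global sections -/
noncomputable def E (T : Over S) : (T ⟶ A (S := S)) ≃ Γ(T.left, ⊤) :=
  ((Over.forgetAdjStar S).homEquiv T A1.{u}).symm.trans sec

theorem E_comp {T T' : Over S} (f : T' ⟶ T) (m : T ⟶ A) :
    E T' (f ≫ m) = f.left.appTop (E T m) := by
  show sec (((Over.forgetAdjStar S).homEquiv T' A1).symm (f ≫ m)) = _
  rw [Adjunction.homEquiv_naturality_left_symm, sec_comp]
  rfl

/-- base change of a universal categorical quotient is a universal categorical quotient -/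
theorem isUnivCatQuot_baseChange {a : AlgGrp.Action G X} {φ : X ⟶ Y} (h : GIT.IsUnivCatQuot a φ)
    {X' Y' : Over S} (pr : X' ⟶ X) (φ' : X' ⟶ Y') (g : Y' ⟶ Y) (hpb : IsPullback pr φ' φ g)
    (a' : AlgGrp.Action G X') (heq : a'.act ≫ pr = (G ◁ pr) ≫ a.act)
    (hinv' : GIT.IsInvariant a' φ') : GIT.IsUnivCatQuot a' φ' := by
  refine ⟨h.2 pr φ' g trivial hpb a' heq hinv', ?_⟩
  intro X'' Y'' pr' φ'' g' _ hpb' a'' heq' hinv''
  refine h.2 (pr' ≫ pr) φ'' (g' ≫ g) trivial (hpb'.paste_horiz hpb) a'' ?_ hinv''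
  rw [← Category.assoc, heq', Category.assoc, heq, MonoidalCategory.whiskerLeft_comp,
    Category.assoc]

theorem surjective_of_isUnivCatQuot {a : AlgGrp.Action G X} {φ : X ⟶ Y}
    (h : GIT.IsUnivCatQuot a φ) : Function.Surjective φ.left.base := by
  intro y
  by_contra hne
  have hne' : ∀ x, φ.left.base x ≠ y := fun x hx => hne ⟨x, hx⟩
  let j := Y.left.fromSpecResidueField y
  let Y' : Over S := Over.mk (j ≫ Y.hom)
  let g : Y' ⟶ Y := Over.homMk j rfl
  let X' : Over S := pullback φ g
  let pr : X' ⟶ X := pullback.fst φ g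
  let φ' : X' ⟶ Y' := pullback.snd φ g
  have hpb : IsPullback pr φ' φ g := IsPullback.of_hasPullback φ g
  let a' := pbAct a φ h.1.1 hpb
  have hcq : GIT.IsCatQuot a' φ' :=
    h.2 pr φ' g trivial hpb a' (pbAct_fst a φ h.1.1 hpb) (pbAct_snd a φ h.1.1 hpb)
  have hpbL : IsPullback pr.left φ'.left φ.left j := hpb.map (Over.forget S)
  have hemp : IsEmpty X'.left := by
    refine ⟨fun x' => hne' (pr.left.base x') ?_⟩
    have e1 : φ.left.base (pr.left.base x') = (pr.left ≫ φ.left).base x' := rfl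
    rw [e1, hpbL.w]
    have : j.base (φ'.left.base x') ∈ Set.range j.base := ⟨_, rfl⟩
    rw [Scheme.range_fromSpecResidueField] at this
    exact this
  haveI hemp2 : IsEmpty (G ⊗ X').left := Function.isEmpty a'.act.left.base
  have hinvid : GIT.IsInvariant a' (𝟙 X') := by
    show a'.act ≫ 𝟙 X' = snd G X' ≫ 𝟙 X'
    rw [Category.comp_id, Category.comp_id]
    apply Over.OverMorphism.ext
    exact (isInitialOfIsEmpty).hom_ext _ _
  obtain ⟨χ, hχ, -⟩ := hcq.2 X' (𝟙 X') hinvid
  have z : Spec (Y.left.residueField y) := (⊥ : PrimeSpectrum (Y.left.residueField y))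
  exact hemp.false (χ.left.base z)

theorem sections_of_isUnivCatQuot {a : AlgGrp.Action G X} {φ : X ⟶ Y}
    (h : GIT.IsUnivCatQuot a φ) (U : Y.left.Opens) :
    Function.Injective (φ.left.app U) ∧
      Set.range (φ.left.app U) = {f | GIT.IsInvSection a φ U f} := by
  let YU : Over S := Over.mk (U.ι ≫ Y.hom)
  let g : YU ⟶ Y := Over.homMk U.ι rfl
  let XV : Over S := Over.mk ((φ.left ⁻¹ᵁ U).ι ≫ X.hom)
  let pr : XV ⟶ X := Over.homMk (φ.left ⁻¹ᵁ U).ι rfl
  let φ' : XV ⟶ YU := Over.homMk (φ.left ∣_ U) (by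
    show (φ.left ∣_ U) ≫ U.ι ≫ Y.hom = (φ.left ⁻¹ᵁ U).ι ≫ X.hom
    rw [← Category.assoc, morphismRestrict_ι, Category.assoc, Over.w])
  have hpb : IsPullback pr φ' φ g := by
    refine IsPullback.of_map (Over.forget S) ?_ ?_
    · apply Over.OverMorphism.ext
      show (φ.left ⁻¹ᵁ U).ι ≫ φ.left = (φ.left ∣_ U) ≫ U.ι
      rw [morphismRestrict_ι]
    · exact (isPullback_morphismRestrict φ.left U).flip
  let a' := pbAct a φ h.1.1 hpb
  have heq : a'.act ≫ pr = (G ◁ pr) ≫ a.act := pbAct_fst a φ h.1.1 hpb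
  have hinv' : GIT.IsInvariant a' φ' := pbAct_snd a φ h.1.1 hpb
  have hcq : GIT.IsCatQuot a' φ' := h.2 pr φ' g trivial hpb a' heq hinv'
  have hs : a'.act.left ≫ (φ.left ⁻¹ᵁ U).ι = (G ◁ pr).left ≫ a.act.left :=
    congrArg CommaMorphism.left heq
  have ht : (snd G XV).left ≫ (φ.left ⁻¹ᵁ U).ι = (G ◁ pr).left ≫ (snd G X).left :=
    (congrArg CommaMorphism.left (whiskerLeft_snd G pr)).symm
  -- pulling back functions from `U`
  have hφ' : ∀ y : Γ(Y.left, U), E XV (φ' ≫ (E YU).symm (U.topIso.inv y)) =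
      (φ.left ⁻¹ᵁ U).topIso.inv (φ.left.app U y) := by
    intro y
    rw [E_comp, Equiv.apply_symm_apply]
    exact morphismRestrict_appTop_apply φ.left U y
  have hUinj : Function.Injective (U.topIso.inv : Γ(Y.left, U) → _) :=
    (ConcreteCategory.bijective_of_isIso U.topIso.inv).1
  have hVinj : Function.Injective ((φ.left ⁻¹ᵁ U).topIso.inv : Γ(X.left, φ.left ⁻¹ᵁ U) → _) :=
    (ConcreteCategory.bijective_of_isIso (φ.left ⁻¹ᵁ U).topIso.inv).1
  refine ⟨?_, ?_⟩
  · intro y1 y2 hy
    have h1 : φ' ≫ (E YU).symm (U.topIso.inv y1) = φ' ≫ (E YU).symm (U.topIso.inv y2) := by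
      apply (E XV).injective
      rw [hφ', hφ', hy]
    have hinv1 : GIT.IsInvariant a' (φ' ≫ (E YU).symm (U.topIso.inv y1)) := by
      show a'.act ≫ φ' ≫ _ = snd G XV ≫ φ' ≫ _
      rw [← Category.assoc, hinv', Category.assoc]
    obtain ⟨χ, -, hχ⟩ := hcq.2 A _ hinv1
    have h2 := (hχ _ rfl).trans (hχ _ h1.symm).symm
    exact hUinj ((E YU).symm.injective h2)
  · ext f
    constructor
    · rintro ⟨y, rfl⟩
      show a.act.left.appLE _ _ _ (φ.left.app U y) = (snd G X).left.appLE _ _ _ (φ.left.app U y)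
      rw [← Scheme.Hom.appLE_eq_app, appLE_comp_apply, appLE_comp_apply]
      exact appLE_congr_hom h.1.1.left _ _ _ _
    · intro hf
      have hinvm : GIT.IsInvariant a' ((E XV).symm ((φ.left ⁻¹ᵁ U).topIso.inv f)) := by
        apply (E (G ⊗ XV)).injective
        rw [E_comp, E_comp, Equiv.apply_symm_apply]
        exact appTop_eq_of_invSection a.act.left (snd G X).left (φ.left ⁻¹ᵁ U) (G ◁ pr).left
          a'.act.left (snd G XV).left hs ht f hf
      obtain ⟨χ, hχ, -⟩ := hcq.2 A _ hinvm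
      refine ⟨U.topIso.hom (E YU χ), ?_⟩
      apply hVinj
      have e0 : U.topIso.inv (U.topIso.hom (E YU χ)) = E YU χ := Iso.hom_inv_id_apply _ _
      have e1 := hφ' (U.topIso.hom (E YU χ))
      rw [e0, Equiv.symm_apply_apply, hχ, Equiv.apply_symm_apply] at e1
      exact e1.symm

/-- the orbit map of a base change is a base change of the orbit map -/
theorem orbit_baseChange {a : AlgGrp.Action G X} {φ : X ⟶ Y} (hinv : GIT.IsInvariant a φ)
    {X' Y' : Over S} (pr : X' ⟶ X) (φ' : X' ⟶ Y') (g : Y' ⟶ Y) (hpb : IsPullback pr φ' φ g)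
    (a' : AlgGrp.Action G X') (heq : a'.act ≫ pr = (G ◁ pr) ≫ a.act)
    (hinv' : GIT.IsInvariant a' φ')
    (horb : Function.Surjective (GIT.PsiY a φ hinv).base) :
    Function.Surjective (GIT.PsiY a' φ' hinv').base := by
  let Ψ : G ⊗ X ⟶ pullback φ φ := pullback.lift a.act (snd G X) hinv
  let Ψ' : G ⊗ X' ⟶ pullback φ' φ' := pullback.lift a'.act (snd G X') hinv'
  let m : pullback φ' φ' ⟶ pullback φ φ := pullback.map φ' φ' φ φ pr pr g hpb.w.symm hpb.w.symm
  have hm1 : m ≫ pullback.fst φ φ = pullback.fst φ' φ' ≫ pr := pullback.lift_fst _ _ _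
  have hm2 : m ≫ pullback.snd φ φ = pullback.snd φ' φ' ≫ pr := pullback.lift_snd _ _ _
  have hΨ1 : Ψ ≫ pullback.fst φ φ = a.act := pullback.lift_fst _ _ _
  have hΨ2 : Ψ ≫ pullback.snd φ φ = snd G X := pullback.lift_snd _ _ _
  have hΨ1' : Ψ' ≫ pullback.fst φ' φ' = a'.act := pullback.lift_fst _ _ _
  have hΨ2' : Ψ' ≫ pullback.snd φ' φ' = snd G X' := pullback.lift_snd _ _ _
  have hsq : IsPullback Ψ' (G ◁ pr) m Ψ := by
    apply isPullback_of_points'
    · apply pullback.hom_ext
      · rw [Category.assoc, hm1, ← Category.assoc, hΨ1', Category.assoc, hΨ1, heq]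
      · rw [Category.assoc, hm2, ← Category.assoc, hΨ2', Category.assoc, hΨ2, whiskerLeft_snd]
    · intro T α β hαβ
      have h1 : (α ≫ pullback.fst φ' φ') ≫ pr = β ≫ a.act := by
        have := congrArg (· ≫ pullback.fst φ φ) hαβ
        simp only [Category.assoc] at this
        rw [hm1, hΨ1] at this
        rw [Category.assoc]
        exact this
      have h2 : (α ≫ pullback.snd φ' φ') ≫ pr = β ≫ snd G X := by
        have := congrArg (· ≫ pullback.snd φ φ) hαβ
        simp only [Category.assoc] at this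
        rw [hm2, hΨ2] at this
        rw [Category.assoc]
        exact this
      have hc : lift (β ≫ fst G X) (α ≫ pullback.snd φ' φ') ≫ (G ◁ pr) = β := by
        apply CartesianMonoidalCategory.hom_ext
        · rw [Category.assoc, whiskerLeft_fst, lift_fst]
        · rw [Category.assoc, whiskerLeft_snd, ← Category.assoc, lift_snd, h2]
      refine ⟨lift (β ≫ fst G X) (α ≫ pullback.snd φ' φ'), ?_, hc⟩
      apply pullback.hom_ext
      · rw [Category.assoc, hΨ1']
        apply hpb.hom_ext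
        · rw [Category.assoc, heq, ← Category.assoc, hc, h1]
        · rw [Category.assoc, hinv', ← Category.assoc, lift_snd, Category.assoc, Category.assoc,
            pullback.condition]
      · rw [Category.assoc, hΨ2', lift_snd]
    · intro T c c' h1 h2
      apply CartesianMonoidalCategory.hom_ext
      · have := congrArg (· ≫ fst G X) h2
        simp only [Category.assoc, whiskerLeft_fst] at this
        exact this
      · have := congrArg (· ≫ pullback.snd φ' φ') h1
        simp only [Category.assoc] at this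
        rw [hΨ2'] at this
        exact this
  have hsqL : IsPullback Ψ'.left (G ◁ pr).left m.left Ψ.left := hsq.map (Over.forget S)
  have hP : IsPullback (pullback.fst φ φ).left (pullback.snd φ φ).left φ.left φ.left :=
    (IsPullback.of_hasPullback φ φ).map (Over.forget S)
  have hP' : IsPullback (pullback.fst φ' φ').left (pullback.snd φ' φ').left φ'.left φ'.left :=
    (IsPullback.of_hasPullback φ' φ').map (Over.forget S)
  have hΨe : Ψ.left ≫ hP.isoPullback.hom = GIT.PsiY a φ hinv := by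
    apply pullback.hom_ext
    · rw [Category.assoc, hP.isoPullback_hom_fst]
      refine Eq.trans ?_ (pullback.lift_fst _ _ _).symm
      exact congrArg CommaMorphism.left hΨ1
    · rw [Category.assoc, hP.isoPullback_hom_snd]
      refine Eq.trans ?_ (pullback.lift_snd _ _ _).symm
      exact congrArg CommaMorphism.left hΨ2
  have hΨe' : Ψ'.left ≫ hP'.isoPullback.hom = GIT.PsiY a' φ' hinv' := by
    apply pullback.hom_ext
    · rw [Category.assoc, hP'.isoPullback_hom_fst]
      refine Eq.trans ?_ (pullback.lift_fst _ _ _).symm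
      exact congrArg CommaMorphism.left hΨ1'
    · rw [Category.assoc, hP'.isoPullback_hom_snd]
      refine Eq.trans ?_ (pullback.lift_snd _ _ _).symm
      exact congrArg CommaMorphism.left hΨ2'
  have hsurjΨ : Surjective Ψ.left := by
    have : Ψ.left = GIT.PsiY a φ hinv ≫ hP.isoPullback.inv := by
      rw [← hΨe, Category.assoc, Iso.hom_inv_id, Category.comp_id]
    rw [this]
    haveI : Surjective (GIT.PsiY a φ hinv) := ⟨horb⟩
    infer_instance
  haveI hsurjΨ' : Surjective Ψ'.left := MorphismProperty.of_isPullback hsqL.flip hsurjΨ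
  rw [← hΨe']
  exact (Ψ'.left ≫ hP'.isoPullback.hom).surjective

theorem main (S : Scheme.{u}) (G X Y : Over S) [GrpObj G]
    (a : AlgGrp.Action G X) (φ : X ⟶ Y) (h : GIT.IsUnivCatQuot a φ) :
    Function.Surjective φ.left.base ∧
      (∀ U : Y.left.Opens,
        Function.Injective (φ.left.app U) ∧
          Set.range (φ.left.app U) = {f | GIT.IsInvSection a φ U f}) ∧
      (GIT.IsUnivGeomQuot a φ ↔
        GIT.IsUnivSubmersive φ.left ∧ Function.Surjective (GIT.PsiY a φ h.1.1).base) := by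
  refine ⟨surjective_of_isUnivCatQuot h, sections_of_isUnivCatQuot h, ?_, ?_⟩
  · intro hg
    exact ⟨hg.1.subm, hg.1.orbit⟩
  · rintro ⟨hsub, horb⟩
    refine ⟨⟨h.1.1, surjective_of_isUnivCatQuot h, horb, hsub, sections_of_isUnivCatQuot h⟩, ?_⟩
    intro X' Y' pr φ' g _ hpb a' heq hinv'
    have h' := isUnivCatQuot_baseChange h pr φ' g hpb a' heq hinv'
    have hpbL : IsPullback pr.left φ'.left φ.left g.left := hpb.map (Over.forget S)
    exact ⟨hinv', surjective_of_isUnivCatQuot h',
      orbit_baseChange h.1.1 pr φ' g hpb a' heq hinv' horb,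
      MorphismProperty.of_isPullback (P := MorphismProperty.universally _) hpbL hsub,
      sections_of_isUnivCatQuot h'⟩

end Groth.Agent.Lib.Helper4.UnivCatQuot1
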