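import Mathlib
import Groth.Prelude.Def_W4bk4git07Quot
import Groth.Agent.Lib.Helper4.UnivCatQuot1
import Groth.Agent.Lib.Helper4.ActGpd1
import Groth.Agent.Lib.Helper4.AlgClosedPts1

/-!
# Closedness of orbits passes between X and a geometric quotient X/N equivariantly (S15118) (helper4)
-/

set_option backward.isDefEq.respectTransparency.types false
set_option synthInstance.maxHeartbeats 400000
set_option autoImplicit false
set_option linter.unusedSectionVars false
set_option linter.style.haveILetI false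
set_option linter.unusedSimpArgs false
universe u v w
open CategoryTheory CategoryTheory.Limits AlgebraicGeometry TopologicalSpace Opposite
open MonoidalCategory CartesianMonoidalCategory MonObj GrpObj
open Groth.Agent.Lib.Helper4.UnivGeomQuotDesc1 Groth.Agent.Lib.Helper4.UnivCatQuot1 Groth.Agent.Lib.Helper4.ActGpd1 Groth.Agent.Lib.Helper4.AlgClosedPts1

namespace Groth.Agent.Lib.Helper4.ClosedActQuot1

section Prod
variable {C : Type w} [Category.{v} C] [CartesianMonoidalCategory C]

theorem isPullback_whiskerLeft (A : C) {B D : C} (u : B ⟶ D) :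
    IsPullback (A ◁ u) (snd A B) (snd A D) u := by
  apply isPullback_of_points'
  · exact whiskerLeft_snd A u
  · intro T α β h
    refine ⟨lift (α ≫ fst A D) β, ?_, lift_snd _ _⟩
    apply CartesianMonoidalCategory.hom_ext
    · rw [Category.assoc, whiskerLeft_fst, lift_fst]
    · rw [Category.assoc, whiskerLeft_snd, ← Category.assoc, lift_snd, h]
  · intro T c c' h1 h2
    apply CartesianMonoidalCategory.hom_ext
    · have := congrArg (· ≫ fst A D) h1
      simpa only [Category.assoc, whiskerLeft_fst] using this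
    · exact h2

theorem isPullback_whiskerRight {B D : C} (u : B ⟶ D) (T' : C) :
    IsPullback (u ▷ T') (fst B T') (fst D T') u := by
  apply isPullback_of_points'
  · exact whiskerRight_fst u T'
  · intro T α β h
    refine ⟨lift β (α ≫ snd D T'), ?_, lift_fst _ _⟩
    apply CartesianMonoidalCategory.hom_ext
    · rw [Category.assoc, whiskerRight_fst, ← Category.assoc, lift_fst, h]
    · rw [Category.assoc, whiskerRight_snd, lift_snd]
  · intro T c c' h1 h2
    apply CartesianMonoidalCategory.hom_ext
    · exact h2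
    · have := congrArg (· ≫ snd D T') h1
      simpa only [Category.assoc, whiskerRight_snd] using this

end Prod

theorem exists_preimage_of_isPullback {P X Y S : Scheme.{u}} {fst : P ⟶ X} {snd : P ⟶ Y}
    {f : X ⟶ S} {g : Y ⟶ S} (h : IsPullback fst snd f g) (x : X) (y : Y)
    (hxy : f.base x = g.base y) : ∃ p : P, fst.base p = x ∧ snd.base p = y := by
  obtain ⟨z, hz1, hz2⟩ := Scheme.Pullback.exists_preimage_pullback (f := f) (g := g) x y hxy
  refine ⟨h.isoPullback.inv.base z, ?_, ?_⟩
  · have : (h.isoPullback.inv ≫ fst).base z = x := by rw [h.isoPullback_inv_fst]; exact hz1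
    exact this
  · have : (h.isoPullback.inv ≫ snd).base z = y := by rw [h.isoPullback_inv_snd]; exact hz2
    exact this

section Lift

theorem exists_lift_geomPt (k : Type u) [Field k] {X Y : Over (Spec (CommRingCat.of k))}
    (π : X ⟶ Y) [LocallyOfFiniteType X.hom] (hsurj : Function.Surjective π.left.base)
    (Ω : Type u) [Field Ω] [IsAlgClosed Ω] (T : Over (Spec (CommRingCat.of k)))
    (e : T.left ≅ Spec (CommRingCat.of Ω)) (g : T ⟶ Y) : ∃ f : T ⟶ X, f ≫ π = g := by
  haveI : LocallyOfFiniteType (π.left ≫ Y.hom) := by rw [Over.w π]; infer_instance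
  haveI : LocallyOfFiniteType π.left := locallyOfFiniteType_of_comp π.left Y.hom
  haveI : LocallyOfFiniteType (pullback.snd π.left g.left ≫ e.hom) := inferInstance
  let t₀ : T.left := e.inv.base (⊥ : PrimeSpectrum Ω)
  obtain ⟨x₀, hx₀⟩ := hsurj (g.left.base t₀)
  obtain ⟨z₀, -, -⟩ := Scheme.Pullback.exists_preimage_pullback (f := π.left) (g := g.left)
    x₀ t₀ hx₀
  haveI : JacobsonSpace ↥(pullback π.left g.left) :=
    LocallyOfFiniteType.jacobsonSpace (pullback.snd π.left g.left ≫ e.hom)
  obtain ⟨z, -, hzc⟩ := nonempty_inter_closedPoints (Z := (Set.univ : Set ↥(pullback π.left g.left)))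
    ⟨z₀, trivial⟩ isOpen_univ.isLocallyClosed
  obtain ⟨x, hx, -⟩ := exists_pt_of_closedPoint Ω Ω (pullback π.left g.left)
    (pullback.snd π.left g.left ≫ e.hom) z hzc
  have hid : Spec.map (CommRingCat.ofHom (algebraMap Ω Ω)) = 𝟙 _ := by
    rw [Algebra.algebraMap_self]
    exact Spec.map_id _
  have h1 : x ≫ pullback.snd π.left g.left = e.inv := by
    rw [hid, ← Category.assoc] at hx
    exact (Iso.comp_hom_eq_id e).1 hx
  have hfl : (e.hom ≫ x ≫ pullback.fst π.left g.left) ≫ π.left = g.left := by
    rw [Category.assoc, Category.assoc, pullback.condition, ← Category.assoc x, h1,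
      Iso.hom_inv_id_assoc]
  refine ⟨Over.homMk (e.hom ≫ x ≫ pullback.fst π.left g.left) ?_, ?_⟩
  · rw [← Over.w π, ← Category.assoc, hfl, Over.w g]
  · apply Over.OverMorphism.ext
    exact hfl

end Lift

section Main
variable {S : Scheme.{u}} {H N Q X Y : Over S} [GrpObj H] [GrpObj N] [GrpObj Q]

theorem psi_equivariant (q : H ⟶ Q) (a : AlgGrp.Action H X) (aQ : AlgGrp.Action Q Y) (π : X ⟶ Y)
    (hequiv : (q ⊗ₘ π) ≫ aQ.act = a.act ≫ π) {T : Over S} (f : T ⟶ X) :
    GIT.psi a f ≫ (π ▷ T) = (q ▷ T) ≫ GIT.psi aQ (f ≫ π) := by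
  have h0 : (H ◁ f) ≫ (q ⊗ₘ π) = (q ▷ T) ≫ (Q ◁ (f ≫ π)) := by
    apply CartesianMonoidalCategory.hom_ext
    · simp only [Category.assoc, tensorHom_fst, whiskerLeft_fst, whiskerRight_fst,
        whiskerLeft_fst_assoc, whiskerRight_fst_assoc]
    · simp only [Category.assoc, tensorHom_snd, whiskerLeft_snd, whiskerRight_snd,
        whiskerLeft_snd_assoc, whiskerRight_snd_assoc]
  unfold GIT.psi
  apply CartesianMonoidalCategory.hom_ext
  · rw [Category.assoc, whiskerRight_fst, ← Category.assoc, lift_fst, Category.assoc,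
      Category.assoc, lift_fst, ← hequiv, ← Category.assoc, h0, Category.assoc]
  · rw [Category.assoc, whiskerRight_snd, lift_snd, Category.assoc, lift_snd, whiskerRight_snd]

theorem range_psi_eq_preimage (i : N ⟶ H) (q : H ⟶ Q)
    (hq : Function.Surjective q.left.base)
    (a : AlgGrp.Action H X) (aN : AlgGrp.Action N X) (haN : aN.act = (i ▷ X) ≫ a.act)
    (π : X ⟶ Y) (hinv : GIT.IsInvariant aN π)
    (horb : Function.Surjective (GIT.PsiY aN π hinv).base)
    (aQ : AlgGrp.Action Q Y) (hequiv : (q ⊗ₘ π) ≫ aQ.act = a.act ≫ π) {T : Over S} (f : T ⟶ X) :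
    Set.range (GIT.psi a f).left.base =
      (π ▷ T).left.base ⁻¹' Set.range (GIT.psi aQ (f ≫ π)).left.base := by
  have heqv := psi_equivariant q a aQ π hequiv f
  have heqvL : (GIT.psi a f).left ≫ (π ▷ T).left = (q ▷ T).left ≫ (GIT.psi aQ (f ≫ π)).left :=
    congrArg CommaMorphism.left heqv
  ext z
  constructor
  · rintro ⟨v, rfl⟩
    refine ⟨(q ▷ T).left.base v, ?_⟩
    have := congrArg (fun m => m.base v) heqvL
    exact this.symm
  · rintro ⟨w, hw⟩
    -- lift `w` along the surjection `H ⊗ T → Q ⊗ T`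
    have hqT : Function.Surjective (q ▷ T).left.base := by
      have sq : IsPullback (q ▷ T).left (fst H T).left (fst Q T).left q.left :=
        (isPullback_whiskerRight q T).map (Over.forget S)
      haveI : Surjective q.left := ⟨hq⟩
      haveI : Surjective (q ▷ T).left := MorphismProperty.of_isPullback sq.flip inferInstance
      exact (q ▷ T).left.surjective
    obtain ⟨v, rfl⟩ := hqT w
    have hzz' : (π ▷ T).left.base z = (π ▷ T).left.base ((GIT.psi a f).left.base v) := by
      have := congrArg (fun m => m.base v) heqvL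
      exact hw.symm.trans this.symm
    -- the base-changed orbit map is surjective
    have hpbT : IsPullback (fst X T) (π ▷ T) π (fst Y T) := (isPullback_whiskerRight π T).flip
    have heq' := pbAct_fst aN π hinv hpbT
    have hinv' := pbAct_snd aN π hinv hpbT
    have horb' := orbit_baseChange hinv (fst X T) (π ▷ T) (fst Y T) hpbT
      (pbAct aN π hinv hpbT) heq' hinv' horb
    obtain ⟨u, hu1, hu2⟩ := Scheme.Pullback.exists_preimage_pullback (f := (π ▷ T).left)
      (g := (π ▷ T).left) z ((GIT.psi a f).left.base v) hzz'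
    obtain ⟨r, rfl⟩ := horb' u
    have hr1 : (pbAct aN π hinv hpbT).act.left.base r = z := by
      rw [← hu1]
      have : GIT.PsiY (pbAct aN π hinv hpbT) (π ▷ T) hinv' ≫ pullback.fst _ _ =
          (pbAct aN π hinv hpbT).act.left := pullback.lift_fst _ _ _
      exact (congrArg (fun m => m.base r) this).symm
    have hr2 : (snd N (X ⊗ T)).left.base r = (GIT.psi a f).left.base v := by
      rw [← hu2]
      have : GIT.PsiY (pbAct aN π hinv hpbT) (π ▷ T) hinv' ≫ pullback.snd _ _ =
          (snd N (X ⊗ T)).left := pullback.lift_snd _ _ _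
      exact (congrArg (fun m => m.base r) this).symm
    have sqN : IsPullback (N ◁ GIT.psi a f).left (snd N (H ⊗ T)).left (snd N (X ⊗ T)).left
        (GIT.psi a f).left := (isPullback_whiskerLeft N (GIT.psi a f)).map (Over.forget S)
    obtain ⟨r', hr'1, hr'2⟩ := exists_preimage_of_isPullback sqN r v hr2
    -- the multiplication `N ⊗ (H ⊗ T) ⟶ H ⊗ T`
    let m' : N ⊗ (H ⊗ T) ⟶ H ⊗ T :=
      lift ((fst N (H ⊗ T) ≫ i) * (snd N (H ⊗ T) ≫ fst H T)) (snd N (H ⊗ T) ≫ snd H T)
    have key : (N ◁ GIT.psi a f) ≫ (pbAct aN π hinv hpbT).act = m' ≫ GIT.psi a f := by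
      have hsndact : (pbAct aN π hinv hpbT).act ≫ snd X T = snd N (X ⊗ T) ≫ snd X T := by
        have h1 : (pbAct aN π hinv hpbT).act ≫ (π ▷ T) = snd N (X ⊗ T) ≫ (π ▷ T) := hinv'
        have h2 := congrArg (· ≫ snd Y T) h1
        simpa only [Category.assoc, whiskerRight_snd] using h2
      have hpsi1 : GIT.psi a f ≫ fst X T = (H ◁ f) ≫ a.act := lift_fst _ _
      have hpsi2 : GIT.psi a f ≫ snd X T = snd H T := lift_snd _ _
      apply CartesianMonoidalCategory.hom_ext
      · -- first components: associativity of the action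
        rw [Category.assoc, heq', Category.assoc, hpsi1, haN]
        have e0 : snd N (H ⊗ T) ≫ (H ◁ f) =
            lift (snd N (H ⊗ T) ≫ fst H T) ((snd N (H ⊗ T) ≫ snd H T) ≫ f) := by
          apply CartesianMonoidalCategory.hom_ext
          · rw [Category.assoc, whiskerLeft_fst, lift_fst]
          · rw [Category.assoc, whiskerLeft_snd, lift_snd, Category.assoc]
        have e1 : (N ◁ GIT.psi a f) ≫ (N ◁ fst X T) ≫ (i ▷ X) =
            lift (fst N (H ⊗ T) ≫ i)
              (lift (snd N (H ⊗ T) ≫ fst H T) ((snd N (H ⊗ T) ≫ snd H T) ≫ f) ≫ a.act) := by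
          apply CartesianMonoidalCategory.hom_ext
          · rw [lift_fst, Category.assoc, Category.assoc, whiskerRight_fst, whiskerLeft_fst_assoc,
              whiskerLeft_fst_assoc]
          · rw [lift_snd, Category.assoc, Category.assoc, whiskerRight_snd, whiskerLeft_snd,
              whiskerLeft_snd_assoc, hpsi1, ← Category.assoc, e0]
        have e2 : m' ≫ (H ◁ f) =
            lift ((fst N (H ⊗ T) ≫ i) * (snd N (H ⊗ T) ≫ fst H T))
              ((snd N (H ⊗ T) ≫ snd H T) ≫ f) := by
          apply CartesianMonoidalCategory.hom_ext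
          · rw [Category.assoc, whiskerLeft_fst, lift_fst, lift_fst]
          · rw [Category.assoc, whiskerLeft_snd, lift_snd, ← Category.assoc, lift_snd]
        have lhs : (N ◁ GIT.psi a f) ≫ (N ◁ fst X T) ≫ (i ▷ X) ≫ a.act =
            ((N ◁ GIT.psi a f) ≫ (N ◁ fst X T) ≫ (i ▷ X)) ≫ a.act := by
          simp only [Category.assoc]
        rw [lhs, e1, ← Category.assoc m', e2]
        exact (act_mul a _ _ _).symm
      · rw [Category.assoc, hsndact, ← Category.assoc, whiskerLeft_snd, Category.assoc, hpsi2,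
          Category.assoc, hpsi2, lift_snd]
    refine ⟨m'.left.base r', ?_⟩
    have keyL : (N ◁ GIT.psi a f).left ≫ (pbAct aN π hinv hpbT).act.left =
        m'.left ≫ (GIT.psi a f).left := congrArg CommaMorphism.left key
    have := congrArg (fun m => m.base r') keyL
    rw [← hr1, ← hr'1]
    exact this.symm

theorem closedAction_iff (k : Type u) [Field k]
    {H N Q X Y : Over (Spec (CommRingCat.of k))} [GrpObj H] [GrpObj N] [GrpObj Q]
    [LocallyOfFiniteType X.hom]
    (i : N ⟶ H) (q : H ⟶ Q) (hq : Function.Surjective q.left.base)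
    (a : AlgGrp.Action H X) (aN : AlgGrp.Action N X) (haN : aN.act = (i ▷ X) ≫ a.act)
    (π : X ⟶ Y) (hπ : GIT.IsGeomQuot aN π)
    (aQ : AlgGrp.Action Q Y) (hequiv : (q ⊗ₘ π) ≫ aQ.act = a.act ≫ π) :
    GIT.IsClosedAction aQ ↔ GIT.IsClosedAction a := by
  have hA := fun (T : Over (Spec (CommRingCat.of k))) (f : T ⟶ X) =>
    range_psi_eq_preimage i q hq a aN haN π hπ.inv hπ.orbit aQ hequiv f
  constructor
  · intro hQ Ω _ _ T e f
    rw [hA T f]
    exact (hQ Ω T e (f ≫ π)).preimage (π ▷ T).left.continuous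
  · intro hH Ω _ _ T e g
    obtain ⟨f, rfl⟩ := exists_lift_geomPt k π hπ.surj Ω T e g
    have hquot : Topology.IsQuotientMap (π ▷ T).left.base :=
      hπ.subm _ _ _ ((isPullback_whiskerRight π T).map (Over.forget _))
    rw [← hquot.isCoinducing.isClosed_preimage, ← hA T f]
    exact hH Ω T e f

end Main

end Groth.Agent.Lib.Helper4.ClosedActQuot1
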