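import Mathlib

set_option backward.isDefEq.respectTransparency.types false
set_option synthInstance.maxHeartbeats 400000
set_option autoImplicit false
set_option linter.unusedSectionVars false
set_option linter.style.haveILetI false

namespace Groth.Agent.Lib.Helper4.ClosedImmLift

universe u
open CategoryTheory CategoryTheory.Limits AlgebraicGeometry

/-- the lifting property along injective ring maps -/
def HasLift {X Y : Scheme.{u}} (f : X ⟶ Y) : Prop :=
  ∀ (A B : CommRingCat.{u}) (φ : A ⟶ B), Function.Injective φ.hom →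
    ∀ (a : Spec B ⟶ X) (b : Spec A ⟶ Y), Spec.map φ ≫ b = a ≫ f →
      ∃ l : Spec A ⟶ X, Spec.map φ ≫ l = a ∧ l ≫ f = b

variable {X Y : Scheme.{u}} (f : X ⟶ Y)

theorem hasLift_of_isClosedImmersion [IsClosedImmersion f] : HasLift f := by
  intro A B φ hφ a b hab
  set p₂ := pullback.snd f b with hp₂
  let c : Spec B ⟶ pullback f b := pullback.lift a (Spec.map φ) hab.symm
  have hc1 : c ≫ pullback.fst f b = a := pullback.lift_fst _ _ _
  have hc2 : c ≫ p₂ = Spec.map φ := pullback.lift_snd _ _ _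
  haveI : IsClosedImmersion p₂ := MorphismProperty.pullback_snd _ _ inferInstance
  -- p₂ is an iso since A → Γ(P) is injective
  have hinj : Function.Injective p₂.appTop.hom := by
    have h1 : (Spec.map φ).appTop = p₂.appTop ≫ c.appTop := by
      rw [← hc2, Scheme.Hom.comp_appTop]
    have h2 : Function.Injective (Spec.map φ).appTop.hom := by
      have h3 : (Spec.map φ).appTop = (Scheme.ΓSpecIso A).hom ≫ φ ≫ (Scheme.ΓSpecIso B).inv := by
        rw [Scheme.ΓSpecIso_inv_naturality, Iso.hom_inv_id_assoc]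
      rw [h3]
      intro x y hxy
      have h4 := (ConcreteCategory.bijective_of_isIso (Scheme.ΓSpecIso B).inv).injective hxy
      have h5 := hφ h4
      exact (ConcreteCategory.bijective_of_isIso (Scheme.ΓSpecIso A).hom).injective h5
    rw [h1] at h2
    intro x y hxy
    apply h2
    simp only [CommRingCat.hom_comp, RingHom.coe_comp, Function.comp_apply, hxy]
  haveI : IsIso p₂ := IsClosedImmersion.isIso_of_injective_of_isAffine hinj
  refine ⟨inv p₂ ≫ pullback.fst f b, ?_, ?_⟩
  · rw [← hc2, Category.assoc, IsIso.hom_inv_id_assoc, hc1]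
  · rw [Category.assoc, pullback.condition, IsIso.inv_hom_id_assoc]

theorem mono_of_hasLift (H : HasLift f) : Mono f := by
  refine ⟨fun {T} a₁ a₂ h => ?_⟩
  apply Scheme.Cover.hom_ext T.affineCover
  intro j
  obtain ⟨R, hR⟩ : ∃ R : CommRingCat.{u}, T.affineCover.X j = Spec R := ⟨_, rfl⟩
  generalize T.affineCover.f j = t
  revert t
  rw [hR]
  intro t
  set b₁ := t ≫ a₁ with hb₁
  set b₂ := t ≫ a₂ with hb₂
  have hb : b₁ ≫ f = b₂ ≫ f := by rw [hb₁, hb₂, Category.assoc, Category.assoc, h]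
  let φ : R ⟶ CommRingCat.of (R × R) := CommRingCat.ofHom ((RingHom.id R).prod (RingHom.id R))
  have hφ : Function.Injective φ.hom := by
    intro x y hxy
    exact congrArg Prod.fst hxy
  let a : Spec (CommRingCat.of (R × R)) ⟶ X := inv (coprodSpec R R) ≫ coprod.desc b₁ b₂
  have h1 : coprod.inl ≫ coprodSpec R R ≫ Spec.map φ = 𝟙 (Spec (CommRingCat.of R)) := by
    rw [coprodSpec_inl_assoc, ← Spec.map_comp]
    exact Spec.map_id _
  have h2 : coprod.inr ≫ coprodSpec R R ≫ Spec.map φ = 𝟙 (Spec (CommRingCat.of R)) := by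
    rw [coprodSpec_inr_assoc, ← Spec.map_comp]
    exact Spec.map_id _
  have ha1 : coprod.inl ≫ coprodSpec R R ≫ a = b₁ := by
    simp only [a, IsIso.hom_inv_id_assoc]
    exact coprod.inl_desc _ _
  have ha2 : coprod.inr ≫ coprodSpec R R ≫ a = b₂ := by
    simp only [a, IsIso.hom_inv_id_assoc]
    exact coprod.inr_desc _ _
  have hsq : Spec.map φ ≫ (b₁ ≫ f) = a ≫ f := by
    rw [← cancel_epi (coprodSpec R R)]
    apply coprod.hom_ext
    · calc coprod.inl ≫ coprodSpec R R ≫ Spec.map φ ≫ b₁ ≫ f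
          = (coprod.inl ≫ coprodSpec R R ≫ Spec.map φ) ≫ b₁ ≫ f := by simp only [Category.assoc]
        _ = b₁ ≫ f := by rw [h1, Category.id_comp]
        _ = (coprod.inl ≫ coprodSpec R R ≫ a) ≫ f := by rw [ha1]
        _ = _ := by simp only [Category.assoc]
    · calc coprod.inr ≫ coprodSpec R R ≫ Spec.map φ ≫ b₁ ≫ f
          = (coprod.inr ≫ coprodSpec R R ≫ Spec.map φ) ≫ b₁ ≫ f := by simp only [Category.assoc]
        _ = b₂ ≫ f := by rw [h2, Category.id_comp, hb]
        _ = (coprod.inr ≫ coprodSpec R R ≫ a) ≫ f := by rw [ha2]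
        _ = _ := by simp only [Category.assoc]
  obtain ⟨l, hl, -⟩ := H R _ φ hφ a (b₁ ≫ f) hsq
  have e1 : b₁ = l := by
    calc b₁ = coprod.inl ≫ coprodSpec R R ≫ a := ha1.symm
      _ = (coprod.inl ≫ coprodSpec R R ≫ Spec.map φ) ≫ l := by rw [← hl]; simp only [Category.assoc]
      _ = l := by rw [h1, Category.id_comp]
  have e2 : b₂ = l := by
    calc b₂ = coprod.inr ≫ coprodSpec R R ≫ a := ha2.symm
      _ = (coprod.inr ≫ coprodSpec R R ≫ Spec.map φ) ≫ l := by rw [← hl]; simp only [Category.assoc]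
      _ = l := by rw [h2, Category.id_comp]
  rw [e1, e2]

theorem hasLift_baseChange (H : HasLift f) {Y' : Scheme.{u}} (g : Y' ⟶ Y) :
    HasLift (pullback.snd f g) := by
  intro A B φ hφ a b hab
  obtain ⟨l, hl1, hl2⟩ := H A B φ hφ (a ≫ pullback.fst f g) (b ≫ g) (by
    rw [Category.assoc, pullback.condition, ← Category.assoc a, ← hab, Category.assoc])
  refine ⟨pullback.lift l b hl2, ?_, pullback.lift_snd _ _ _⟩
  apply pullback.hom_ext
  · rw [Category.assoc, pullback.lift_fst, hl1]
  · rw [Category.assoc, pullback.lift_snd, hab]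

theorem isClosedImmersion_of_hasLift_of_affine (A : CommRingCat.{u}) (f : X ⟶ Spec A)
    [QuasiCompact f] (H : HasLift f) : IsClosedImmersion f := by
  haveI : Mono f := mono_of_hasLift f H
  haveI : CompactSpace X := QuasiCompact.compactSpace_of_compactSpace f
  let 𝒰 := X.affineCover.finiteSubcover
  haveI : ∀ j, IsAffine (𝒰.X j) := fun j => inferInstanceAs (IsAffine (X.affineCover.X _))
  let W : Scheme.{u} := ∐ 𝒰.X
  haveI : IsAffine W := inferInstance
  let B : CommRingCat.{u} := Γ(W, ⊤)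
  let b : Spec B ⟶ X := W.isoSpec.inv ≫ Sigma.desc 𝒰.f
  let φ : A ⟶ B := Spec.preimage (b ≫ f)
  have hφ : Spec.map φ = b ≫ f := Spec.map_preimage _
  let I := RingHom.ker φ.hom
  let A' : CommRingCat.{u} := .of (A ⧸ I)
  let π : A ⟶ A' := CommRingCat.ofHom (Ideal.Quotient.mk I)
  let φ' : A' ⟶ B := CommRingCat.ofHom (RingHom.kerLift φ.hom)
  have hφ' : Function.Injective φ'.hom := RingHom.kerLift_injective _
  have hfac : π ≫ φ' = φ := by
    ext x
    rfl
  have hsq : Spec.map φ' ≫ Spec.map π = b ≫ f := by rw [← Spec.map_comp, hfac, hφ]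
  obtain ⟨l, hl1, hl2⟩ := H A' B φ' hφ' b (Spec.map π) hsq
  haveI : IsClosedImmersion (Spec.map π) :=
    IsClosedImmersion.spec_of_surjective π Ideal.Quotient.mk_surjective
  haveI : IsClosedImmersion (l ≫ f) := by rw [hl2]; infer_instance
  haveI : IsClosedImmersion l := IsClosedImmersion.of_comp l f
  haveI : IsIso l := by
    change MorphismProperty.isomorphisms Scheme l
    rw [IsZariskiLocalAtTarget.iff_of_openCover (P := MorphismProperty.isomorphisms Scheme) 𝒰]
    intro j
    change IsIso (pullback.snd l (𝒰.f j))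
    let c : 𝒰.X j ⟶ Spec A' := Sigma.ι 𝒰.X j ≫ W.isoSpec.hom ≫ Spec.map φ'
    have hc : c ≫ l = 𝒰.f j := by
      simp only [c, Category.assoc, hl1, b, Iso.hom_inv_id_assoc]
      exact Sigma.ι_desc _ _
    let s : 𝒰.X j ⟶ pullback l (𝒰.f j) := pullback.lift c (𝟙 _) (by rw [hc, Category.id_comp])
    have hs : s ≫ pullback.snd l (𝒰.f j) = 𝟙 _ := pullback.lift_snd _ _ _
    haveI : IsSplitEpi (pullback.snd l (𝒰.f j)) := ⟨⟨s, hs⟩⟩
    exact isIso_of_mono_of_isSplitEpi _
  have : f = inv l ≫ Spec.map π := by rw [IsIso.eq_inv_comp, hl2]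
  rw [this]
  infer_instance

theorem isClosedImmersion_of_hasLift {X Y : Scheme.{u}} (f : X ⟶ Y) [QuasiCompact f] (H : HasLift f) :
    IsClosedImmersion f := by
  rw [IsZariskiLocalAtTarget.iff_of_openCover (P := @IsClosedImmersion) Y.affineCover]
  intro i
  change IsClosedImmersion (pullback.snd f (Y.affineCover.f i))
  have H' := hasLift_baseChange f H (Y.affineCover.f i)
  haveI : QuasiCompact (pullback.snd f (Y.affineCover.f i)) := inferInstance
  exact isClosedImmersion_of_hasLift_of_affine _ (pullback.snd f (Y.affineCover.f i)) H'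

theorem S1432_main {X Y : Scheme.{u}} (f : X ⟶ Y) [QuasiCompact f] :
    IsClosedImmersion f ↔ ∀ (A B : Type u) [CommRing A] [CommRing B] (φ : A →+* B), Function.Injective φ →
      ∀ (a : Spec (CommRingCat.of B) ⟶ X) (b : Spec (CommRingCat.of A) ⟶ Y), Spec.map (CommRingCat.ofHom φ) ≫ b = a ≫ f →
        ∃ l : Spec (CommRingCat.of A) ⟶ X, Spec.map (CommRingCat.ofHom φ) ≫ l = a ∧ l ≫ f = b := by
  constructor
  · intro hf A B _ _ φ hφ a b hab
    exact hasLift_of_isClosedImmersion f (CommRingCat.of A) (CommRingCat.of B) (CommRingCat.ofHom φ) hφ a b hab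
  · intro H
    apply isClosedImmersion_of_hasLift
    intro A B φ hφ a b hab
    exact H A B φ.hom hφ a b hab

end Groth.Agent.Lib.Helper4.ClosedImmLift
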