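import Mathlib
import Groth.Prelude.Def_ModSite2
import Groth.Agent.Lib.Helper4.SheafHomColim
import Groth.Agent.Lib.Helper4.FinPres
import Groth.Agent.Lib.Helper4.FreeStalk

/-!
# Direct image along a closed embedding of ringed spaces and finite type modules (helper4) (helper4)
-/

set_option backward.isDefEq.respectTransparency.types false
set_option synthInstance.maxHeartbeats 400000
set_option autoImplicit false
set_option linter.unusedSectionVars false
set_option linter.style.haveILetI false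
set_option linter.unusedSimpArgs false
universe u v w
open CategoryTheory CategoryTheory.Limits Opposite

namespace Groth.Agent.Lib.Helper4.ClosedPushFT

open Groth.Agent.Lib.Helper4.PureTensor Groth.Agent.Lib.Helper4.EqCrit
  Groth.Agent.Lib.Helper4.FinGen Groth.Agent.Lib.Helper4.FinPres
  Groth.Agent.Lib.Helper4.SheafHomColim Groth.Agent.Lib.Helper4.QSLocal
  Groth.Agent.Lib.Helper4.EqCritConv

section gen

variable {C : Type u} [SmallCategory C] {J : GrothendieckTopology C} {O : Sheaf J CommRingCat.{u}}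

/-- sections which locally generate, generate -/
lemma genBy_of_local_comb {M : ModSite.Mod O} {W : C} {I : Type u} [Fintype I]
    (s : I → ModSite.sect M W)
    (h : ∀ (V : C) (g : V ⟶ W) (t : ModSite.sect M V), ∃ R ∈ J V, ∀ ⦃W' : C⦄ (k : W' ⟶ V), R k →
      ∃ a : I → O.obj.obj (op W'),
        res M k t = ∑ i, a i • res M (k ≫ g) (s i)) :
    GenBy M W s := by
  unfold GenBy
  apply epi_of_locally_surjective_sections (O := O.over W)
  intro V' t
  obtain ⟨R, hR, hl⟩ := h V'.left V'.hom t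
  refine ⟨(Sieve.overEquiv V').symm R, J.overEquiv_symm_mem_over V' R hR, ?_⟩
  intro W'' g hg
  rw [Sieve.overEquiv_symm_iff] at hg
  obtain ⟨a, ha⟩ := hl g.left hg
  refine ⟨∑ i, (show (ModSite.ringSh (O.over W)).obj.obj (op W'') from a i) •
    ev (SheafOfModules.ιFree (R := ModSite.ringSh (O.over W)) i) W'' (one W''), ?_⟩
  change ev (genHom M W s) W'' _ = _
  rw [ev_map_sum]
  refine Eq.trans (Finset.sum_congr rfl (fun i _ => ?_)) ha.symm
  rw [ev_smul, ← ev_comp, ιFree_genHom, ev_secHom]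
  have e : W''.hom = g.left ≫ V'.hom := (Over.w g).symm
  rw [e]
  rfl

end gen

section top

open TopologicalSpace ModSite

variable {Z X : TopCat.{u}} (i : Z ⟶ X) (O_Z : TopCat.Sheaf CommRingCat.{u} Z)
  (O_X : TopCat.Sheaf CommRingCat.{u} X)
  (c : O_X ⟶ ((Opens.map i).sheafPushforwardContinuous CommRingCat.{u}
      (Opens.grothendieckTopology X) (Opens.grothendieckTopology Z)).obj O_Z)

/-- the direct image -/
noncomputable abbrev P (F : ModSite.Mod O_Z) : ModSite.Mod O_X :=
  (ModSite.RMor.ofFlat (Opens.map i) c).push.obj F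

example (F : ModSite.Mod O_Z) (U : Opens X) :
    ModSite.sect (P i O_Z O_X c F) U = ModSite.sect F ((Opens.map i).obj U) := rfl

lemma res_P (F : ModSite.Mod O_Z) {U U' : Opens X} (g : U' ⟶ U) (x : ModSite.sect (P i O_Z O_X c F) U) :
    res (P i O_Z O_X c F) g x = res F ((Opens.map i).map g) (show ModSite.sect F ((Opens.map i).obj U) from x) := rfl

lemma smul_P (F : ModSite.Mod O_Z) (U : Opens X) (a : O_X.obj.obj (op U))
    (x : ModSite.sect (P i O_Z O_X c F) U) :
    a • x = (show O_Z.obj.obj (op ((Opens.map i).obj U)) from (c.hom.app (op U)).hom a) •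
      (show ModSite.sect F ((Opens.map i).obj U) from x) := rfl

end top

section top2

open TopologicalSpace ModSite

variable {Z X : TopCat.{u}} (i : Z ⟶ X) (O_Z : TopCat.Sheaf CommRingCat.{u} Z)
  (O_X : TopCat.Sheaf CommRingCat.{u} X)
  (c : O_X ⟶ ((Opens.map i).sheafPushforwardContinuous CommRingCat.{u}
      (Opens.grothendieckTopology X) (Opens.grothendieckTopology Z)).obj O_Z)

lemma eq_zero_of_empty (F : ModSite.Mod O_Z) (V : Opens Z) (hV : ∀ z : Z, z ∉ V)
    (x : ModSite.sect F V) : x = 0 := by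
  refine mod_ext F (S := ⊥) ?_ ?_
  · intro z hz
    exact absurd hz (hV z)
  · intro W f hf
    exact absurd hf id

lemma exists_preimage (hi : Topology.IsEmbedding i) (V : Opens Z) :
    ∃ U : Opens X, (Opens.map i).obj U = V := by
  obtain ⟨t, ht, hVt⟩ := hi.isInducing.isOpen_iff.1 V.2
  exact ⟨⟨t, ht⟩, Opens.ext hVt⟩

omit O_X in
lemma res_res' {Y : TopCat.{u}} {O : TopCat.Sheaf CommRingCat.{u} Y} (M : ModSite.Mod O)
    {T V W : Opens Y} (g : W ⟶ V) (h : V ⟶ T) (h' : W ⟶ T)
    (y : ModSite.sect M T) : res M g (res M h y) = res M h' y := by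
  have e : g ≫ h = h' := Subsingleton.elim _ _
  rw [← e]
  change (M.val.map g.op).hom ((M.val.map h.op).hom y) = (M.val.map (g ≫ h).op).hom y
  rw [op_comp, M.val.map_comp]
  rfl

/-- the property of being a combination of given sections is stable under restriction -/
lemma comb_restrict {Y : TopCat.{u}} {O : TopCat.Sheaf CommRingCat.{u} Y} (M : ModSite.Mod O)
    {I : Type u} [Fintype I] {W₀ V W W' : Opens Y} (g : V ⟶ W₀) (s : I → ModSite.sect M W₀)
    (t : ModSite.sect M V) (k : W ⟶ V) (k' : W' ⟶ W)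
    (h : ∃ a : I → O.obj.obj (op W), res M k t = ∑ j, a j • res M (k ≫ g) (s j)) :
    ∃ a : I → O.obj.obj (op W'), res M (k' ≫ k) t = ∑ j, a j • res M ((k' ≫ k) ≫ g) (s j) := by
  obtain ⟨a, ha⟩ := h
  refine ⟨fun j => (O.obj.map k'.op).hom (a j), ?_⟩
  rw [← res_res' M k' k (k' ≫ k) t, ha, Groth.Agent.Lib.Helper4.FreeStalk.res_sum_smul']
  refine Finset.sum_congr rfl (fun j _ => ?_)
  rw [res_res' M k' (k ≫ g) ((k' ≫ k) ≫ g)]

/-- a covering sieve from a pointwise-local property -/
lemma exists_sieve_of_pointwise {Y : TopCat.{u}} (V : Opens Y) (Q : Opens Y → Prop)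
    (hQ : ∀ ⦃W W' : Opens Y⦄, W' ≤ W → Q W → Q W')
    (h : ∀ y ∈ V, ∃ W : Opens Y, W ≤ V ∧ y ∈ W ∧ Q W) :
    ∃ R ∈ Opens.grothendieckTopology Y V, ∀ ⦃W : Opens Y⦄ (g : W ⟶ V), R g → Q W := by
  refine ⟨⟨fun W _ => Q W, ?_⟩, ?_, fun W g hg => hg⟩
  · intro W W' f hf g
    exact hQ (leOfHom g) hf
  · intro y hy
    obtain ⟨W, hWV, hyW, hW⟩ := h y hy
    exact ⟨W, homOfLE hWV, hW, hyW⟩

theorem finiteType_of_push (hi : Topology.IsEmbedding i) (F : ModSite.Mod O_Z)
    (hP : LocFinGen (P i O_Z O_X c F)) : LocFinGen F := by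
  intro V₀
  obtain ⟨U₀, rfl⟩ := exists_preimage i hi V₀
  apply exists_sieve_of_pointwise
  · intro W W' hW h
    exact h.restrict (homOfLE hW)
  intro z hz
  obtain ⟨R, hR, hl⟩ := hP U₀
  obtain ⟨W, g, hg, hzW⟩ := hR (i z) hz
  obtain ⟨I, hI, s, hs⟩ := hl g hg
  haveI := Fintype.ofFinite I
  refine ⟨(Opens.map i).obj W, (Opens.map i).map g |>.le, hzW, I, hI,
    (fun k => (show ModSite.sect F ((Opens.map i).obj W) from s k)), ?_⟩
  apply genBy_of_local_comb
  intro V g' t
  obtain ⟨U₁, rfl⟩ := exists_preimage i hi V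
  have hs₂ := hs.restrict (homOfLE inf_le_right : U₁ ⊓ W ⟶ W)
  let t' : ModSite.sect (P i O_Z O_X c F) (U₁ ⊓ W) :=
    res F ((Opens.map i).map (homOfLE inf_le_left : U₁ ⊓ W ⟶ U₁)) t
  obtain ⟨T, hT, hTc⟩ := GenBy.exists_local_comb hs₂ t'
  obtain ⟨R, hR, hRl⟩ := exists_sieve_of_pointwise ((Opens.map i).obj U₁)
    (fun W'' => ∃ (k : W'' ⟶ (Opens.map i).obj U₁) (b : I → O_Z.obj.obj (op W'')),
      res F k t = ∑ j, b j • res F (k ≫ g') (show ModSite.sect F ((Opens.map i).obj W) from s j))
    (by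
      rintro W₁ W₂ h12 ⟨k, hk⟩
      exact ⟨homOfLE h12 ≫ k, comb_restrict F g' _ t k (homOfLE h12) hk⟩)
    (by
      intro z' hz'
      have hz'W : i z' ∈ W := (leOfHom g') hz'
      obtain ⟨W', h, hh, hzW'⟩ := hT (i z') ⟨hz', hz'W⟩
      obtain ⟨a, ha⟩ := hTc h hh
      refine ⟨(Opens.map i).obj W', ?_, hzW', ?_⟩
      · exact ((Opens.map i).map (h ≫ homOfLE inf_le_left)).le
      · refine ⟨(Opens.map i).map (h ≫ homOfLE inf_le_left),
          fun j => (c.hom.app (op W')).hom (a j), ?_⟩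
        have e1 : res F ((Opens.map i).map (h ≫ homOfLE inf_le_left)) t =
            res (P i O_Z O_X c F) h t' :=
          (res_res' F ((Opens.map i).map h) ((Opens.map i).map (homOfLE inf_le_left)) _ t).symm
        rw [e1, ha]
        refine Finset.sum_congr rfl (fun j _ => ?_)
        rw [smul_P]
        congr 1
        exact res_res' F ((Opens.map i).map h) ((Opens.map i).map (homOfLE inf_le_right)) _ _)
  refine ⟨R, hR, ?_⟩
  intro W'' k hk
  obtain ⟨k', b, hb⟩ := hRl k hk
  have e : k' = k := Subsingleton.elim _ _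
  subst e
  exact ⟨b, hb⟩

end top2

section top3

open TopologicalSpace ModSite

variable {Z X : TopCat.{u}} (i : Z ⟶ X) (O_Z : TopCat.Sheaf CommRingCat.{u} Z)
  (O_X : TopCat.Sheaf CommRingCat.{u} X)
  (c : O_X ⟶ ((Opens.map i).sheafPushforwardContinuous CommRingCat.{u}
      (Opens.grothendieckTopology X) (Opens.grothendieckTopology Z)).obj O_Z)

/-- the open complement of the image of a closed embedding -/
def compl (hi : Topology.IsClosedEmbedding i) : Opens X :=
  ⟨(Set.range i)ᶜ, hi.isClosed_range.isOpen_compl⟩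

lemma not_mem_preimage_compl (hi : Topology.IsClosedEmbedding i) {V : Opens X}
    (hV : V ≤ compl i hi) (z : Z) : z ∉ (Opens.map i).obj V :=
  fun hz => hV hz ⟨z, rfl⟩

/-- local generation of the direct image by sections which generate upstairs -/
lemma genBy_push (hi : Topology.IsClosedEmbedding i) (hc : Sheaf.IsLocallySurjective c)
    (F : ModSite.Mod O_Z) {I : Type u} [Fintype I] (W : Opens X)
    (s : I → ModSite.sect F ((Opens.map i).obj W)) (hs : GenBy F ((Opens.map i).obj W) s) :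
    GenBy (P i O_Z O_X c F) W (fun j => (show ModSite.sect (P i O_Z O_X c F) W from s j)) := by
  apply genBy_of_local_comb
  intro V g t
  obtain ⟨R, hR, hRl⟩ := exists_sieve_of_pointwise V
    (fun W' => ∃ (k : W' ⟶ V) (a : I → O_X.obj.obj (op W')),
      res (P i O_Z O_X c F) k t = ∑ j, a j • res (P i O_Z O_X c F) (k ≫ g)
        (show ModSite.sect (P i O_Z O_X c F) W from s j))
    (by
      rintro W₁ W₂ h12 ⟨k, hk⟩
      exact ⟨homOfLE h12 ≫ k, comb_restrict (P i O_Z O_X c F) g _ t k (homOfLE h12) hk⟩)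
    (by
      intro y hy
      by_cases hyZ : y ∈ Set.range i
      · obtain ⟨z', rfl⟩ := hyZ
        have hs' := hs.restrict ((Opens.map i).map g)
        obtain ⟨T, hT, hTc⟩ := GenBy.exists_local_comb hs'
          (show ModSite.sect F ((Opens.map i).obj V) from t)
        obtain ⟨V'', h, hh, hzV''⟩ := hT z' hy
        obtain ⟨b, hb⟩ := hTc h hh
        obtain ⟨U'', rfl⟩ := exists_preimage i hi.isEmbedding V''
        have hsurj : ∀ j : I, ∃ (Uj : Opens X) (f : Uj ⟶ U'') (_ : i z' ∈ Uj)
            (a : O_X.obj.obj (op Uj)),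
            (c.hom.app (op Uj)).hom a = (O_Z.obj.map ((Opens.map i).map f).op).hom (b j) := by
          intro j
          have h1 := Presheaf.imageSieve_mem (Opens.grothendieckTopology X) c.hom (b j)
          obtain ⟨Uj, f, ⟨a, ha⟩, hzU⟩ := h1 (i z') hzV''
          exact ⟨Uj, f, hzU, a, ha⟩
        choose Uj fj hzUj a ha using hsurj
        let W' : Opens X := (V ⊓ U'') ⊓ ⨅ j, Uj j
        have hW'U : ∀ j, W' ≤ Uj j := fun j => inf_le_right.trans (iInf_le _ j)
        have hW'V : W' ≤ V := inf_le_left.trans inf_le_left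
        have hW'U'' : W' ≤ U'' := inf_le_left.trans inf_le_right
        have hzW' : i z' ∈ W' := by
          refine ⟨⟨hy, hzV''⟩, ?_⟩
          have := Opens.coe_iInf Uj
          rw [SetLike.mem_coe, ← SetLike.mem_coe, this]
          exact Set.mem_iInter.2 hzUj
        refine ⟨W', hW'V, hzW', homOfLE hW'V,
          fun j => (O_X.obj.map (homOfLE (hW'U j)).op).hom (a j), ?_⟩
        let ℓ : (Opens.map i).obj W' ⟶ (Opens.map i).obj U'' := (Opens.map i).map (homOfLE hW'U'')
        have e1 : res (P i O_Z O_X c F) (homOfLE hW'V) t = res F ℓ (res F h t) :=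
          (res_res' F ℓ h ((Opens.map i).map (homOfLE hW'V)) t).symm
        rw [e1, hb, Groth.Agent.Lib.Helper4.FreeStalk.res_sum_smul']
        refine Finset.sum_congr rfl (fun j _ => ?_)
        rw [smul_P]
        have e2 : (O_Z.obj.map ℓ.op).hom (b j) =
            (c.hom.app (op W')).hom ((O_X.obj.map (homOfLE (hW'U j)).op).hom (a j)) := by
          have n := congrArg (fun w => w.hom (a j)) (c.hom.naturality (homOfLE (hW'U j)).op)
          refine Eq.trans ?_ n.symm
          change _ = (O_Z.obj.map ((Opens.map i).map (homOfLE (hW'U j))).op).hom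
            ((c.hom.app (op (Uj j))).hom (a j))
          rw [ha j]
          have e3 : ℓ = (Opens.map i).map (homOfLE (hW'U j)) ≫ (Opens.map i).map (fj j) :=
            Subsingleton.elim _ _
          rw [e3, op_comp, O_Z.obj.map_comp]
          rfl
        rw [e2]
        congr 1
        refine (res_res' F ℓ h ((Opens.map i).map (homOfLE hW'V)) _).trans ?_
        exact res_res' F ((Opens.map i).map (homOfLE hW'V)) ((Opens.map i).map g) _ _
      · refine ⟨V ⊓ compl i hi, inf_le_left, ⟨hy, hyZ⟩, homOfLE inf_le_left, fun _ => 0, ?_⟩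
        have hempty : ∀ z : Z, z ∉ (Opens.map i).obj (V ⊓ compl i hi) :=
          not_mem_preimage_compl i hi inf_le_right
        exact (eq_zero_of_empty O_Z F _ hempty _).trans (eq_zero_of_empty O_Z F _ hempty _).symm)
  refine ⟨R, hR, ?_⟩
  intro W'' k hk
  obtain ⟨k', b, hb⟩ := hRl k hk
  have e : k' = k := Subsingleton.elim _ _
  subst e
  exact ⟨b, hb⟩

end top3

section top4

open TopologicalSpace ModSite

variable {Z X : TopCat.{u}} (i : Z ⟶ X) (O_Z : TopCat.Sheaf CommRingCat.{u} Z)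
  (O_X : TopCat.Sheaf CommRingCat.{u} X)
  (c : O_X ⟶ ((Opens.map i).sheafPushforwardContinuous CommRingCat.{u}
      (Opens.grothendieckTopology X) (Opens.grothendieckTopology Z)).obj O_Z)

theorem push_finiteType (hi : Topology.IsClosedEmbedding i) (hc : Sheaf.IsLocallySurjective c)
    (F : ModSite.Mod O_Z) (hF : LocFinGen F) : LocFinGen (P i O_Z O_X c F) := by
  intro U
  apply exists_sieve_of_pointwise
  · intro W W' hW h
    exact h.restrict (homOfLE hW)
  intro x hx
  by_cases hxZ : x ∈ Set.range i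
  · obtain ⟨z, rfl⟩ := hxZ
    obtain ⟨R₀, hR₀, hl⟩ := hF ((Opens.map i).obj U)
    obtain ⟨V', g₀, hg₀, hzV'⟩ := hR₀ z hx
    obtain ⟨I, hI, s, hs⟩ := hl g₀ hg₀
    haveI := Fintype.ofFinite I
    obtain ⟨U', rfl⟩ := exists_preimage i hi.isEmbedding V'
    have hs' := hs.restrict ((Opens.map i).map (homOfLE inf_le_right : U ⊓ U' ⟶ U'))
    exact ⟨U ⊓ U', inf_le_left, ⟨hx, hzV'⟩, I, hI, _, genBy_push i O_Z O_X c hi hc F (U ⊓ U') _ hs'⟩
  · refine ⟨U ⊓ compl i hi, inf_le_left, ⟨hx, hxZ⟩, PEmpty, inferInstance, PEmpty.elim, ?_⟩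
    apply genBy_of_local_comb
    intro V g t
    refine ⟨⊤, GrothendieckTopology.top_mem _ _, fun W' k _ => ⟨PEmpty.elim, ?_⟩⟩
    have hempty : ∀ z : Z, z ∉ (Opens.map i).obj W' :=
      not_mem_preimage_compl i hi ((leOfHom k).trans ((leOfHom g).trans inf_le_right))
    rw [Finset.univ_eq_empty, Finset.sum_empty]
    exact eq_zero_of_empty O_Z F _ hempty _

theorem main (hi : Topology.IsClosedEmbedding i) (hc : Sheaf.IsLocallySurjective c)
    (F : ModSite.Mod O_Z) :
    SheafOfModules.IsFiniteType (R := ModSite.ringSh O_X)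
        ((ModSite.RMor.ofFlat (TopologicalSpace.Opens.map i) c).push.obj F) ↔
      SheafOfModules.IsFiniteType (R := ModSite.ringSh O_Z) F := by
  rw [isFiniteType_iff, isFiniteType_iff]
  exact ⟨finiteType_of_push i O_Z O_X c hi.isEmbedding F, push_finiteType i O_Z O_X c hi hc F⟩

end top4

end Groth.Agent.Lib.Helper4.ClosedPushFT
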