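import Mathlib
import Groth.Prelude.Def_ModSite2
import Groth.Agent.Lib.Helper4.ClosedPushFT
import Groth.Agent.Lib.Helper5.Misc.ClosedEmbSh

/-!
# Direct image along a closed embedding of ringed spaces: exact, full, faithful (helper4)
-/

set_option backward.isDefEq.respectTransparency.types false
set_option synthInstance.maxHeartbeats 400000
set_option autoImplicit false
set_option linter.unusedSectionVars false
set_option linter.style.haveILetI false
set_option linter.unusedSimpArgs false
universe u v w
open CategoryTheory CategoryTheory.Limits Opposite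

namespace Groth.Agent.Lib.Helper4.ClosedPushFF

open Groth.Agent.Lib.Helper4.PureTensor Groth.Agent.Lib.Helper4.EqCrit
  Groth.Agent.Lib.Helper4.FinGen Groth.Agent.Lib.Helper4.FinPres
  Groth.Agent.Lib.Helper4.SheafHomColim Groth.Agent.Lib.Helper4.QSLocal
  Groth.Agent.Lib.Helper4.EqCritConv Groth.Agent.Lib.Helper4.ClosedPushFT

open TopologicalSpace ModSite

section s1

variable {Z X : TopCat.{u}} (i : Z ⟶ X) (O_Z : TopCat.Sheaf CommRingCat.{u} Z)
  (O_X : TopCat.Sheaf CommRingCat.{u} X)
  (c : O_X ⟶ ((Opens.map i).sheafPushforwardContinuous CommRingCat.{u}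
      (Opens.grothendieckTopology X) (Opens.grothendieckTopology Z)).obj O_Z)

lemma epi_push (hi : Topology.IsClosedEmbedding i) {F F' : ModSite.Mod O_Z} (g : F ⟶ F') [Epi g] :
    Epi ((ModSite.RMor.ofFlat (Opens.map i) c).push.map g) := by
  apply epi_of_locally_surjective_sections
  intro U s
  obtain ⟨R, hR, hRl⟩ := exists_sieve_of_pointwise U
    (fun W' => ∃ (k : W' ⟶ U) (t : ModSite.sect F ((Opens.map i).obj W')),
      (g.val.app (op ((Opens.map i).obj W'))).hom t =
        res F' ((Opens.map i).map k) (show ModSite.sect F' ((Opens.map i).obj U) from s))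
    (by
      rintro W₁ W₂ h12 ⟨k, t, ht⟩
      refine ⟨homOfLE h12 ≫ k, res F ((Opens.map i).map (homOfLE h12)) t, ?_⟩
      have n := congrArg (fun w => w.hom t) (g.val.naturality ((Opens.map i).map (homOfLE h12)).op)
      refine n.trans ?_
      change res F' ((Opens.map i).map (homOfLE h12)) ((g.val.app _).hom t) = _
      rw [ht]
      exact res_res' F' _ _ _ _)
    (by
      intro y hy
      by_cases hyZ : y ∈ Set.range i
      · obtain ⟨z', rfl⟩ := hyZ
        obtain ⟨S, hS, hSl⟩ := exists_local_lift g (show ModSite.sect F' ((Opens.map i).obj U) from s)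
        obtain ⟨V'', h, hh, hzV''⟩ := hS z' hy
        obtain ⟨t, ht⟩ := hSl h hh
        obtain ⟨U'', rfl⟩ := exists_preimage i hi.isEmbedding V''
        refine ⟨U ⊓ U'', inf_le_left, ⟨hy, hzV''⟩, homOfLE inf_le_left,
          res F ((Opens.map i).map (homOfLE inf_le_right)) t, ?_⟩
        have n := congrArg (fun w => w.hom t)
          (g.val.naturality ((Opens.map i).map (homOfLE (inf_le_right : U ⊓ U'' ≤ U''))).op)
        refine n.trans ?_
        change res F' ((Opens.map i).map (homOfLE inf_le_right)) ((g.val.app _).hom t) = _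
        rw [ht]
        exact res_res' F' _ _ _ _
      · refine ⟨U ⊓ compl i hi, inf_le_left, ⟨hy, hyZ⟩, homOfLE inf_le_left, 0, ?_⟩
        have hempty : ∀ z : Z, z ∉ (Opens.map i).obj (U ⊓ compl i hi) :=
          not_mem_preimage_compl i hi inf_le_right
        exact (eq_zero_of_empty O_Z F' _ hempty _).trans (eq_zero_of_empty O_Z F' _ hempty _).symm)
  refine ⟨R, hR, ?_⟩
  intro W'' k hk
  obtain ⟨k', t, ht⟩ := hRl k hk
  have e : k' = k := Subsingleton.elim _ _
  subst e
  exact ⟨t, ht⟩

end s1

section s2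

variable {Z X : TopCat.{u}} (i : Z ⟶ X) (O_Z : TopCat.Sheaf CommRingCat.{u} Z)
  (O_X : TopCat.Sheaf CommRingCat.{u} X)
  (c : O_X ⟶ ((Opens.map i).sheafPushforwardContinuous CommRingCat.{u}
      (Opens.grothendieckTopology X) (Opens.grothendieckTopology Z)).obj O_Z)

theorem preservesFiniteColimits_push (hi : Topology.IsClosedEmbedding i) :
    PreservesFiniteColimits (ModSite.RMor.ofFlat (Opens.map i) c).push := by
  haveI : PreservesFiniteLimits (ModSite.RMor.ofFlat (Opens.map i) c).push := inferInstance
  refine ((Functor.preservesFiniteColimits_tfae (ModSite.RMor.ofFlat (Opens.map i) c).push).out 0 3).mp ?_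
  intro S hS
  have key := (Functor.preservesFiniteLimits_tfae (ModSite.RMor.ofFlat (Opens.map i) c).push).out 3 0
  have h1 := key.mp this S hS
  haveI := hS.epi_g
  exact ⟨h1.1, epi_push i O_Z O_X c hi S.g⟩

theorem faithful_push (hi : Topology.IsEmbedding i) :
    (ModSite.RMor.ofFlat (Opens.map i) c).push.Faithful := by
  constructor
  intro F F' f g h
  apply SheafOfModules.hom_ext
  apply PresheafOfModules.hom_ext
  rintro ⟨V⟩
  obtain ⟨U, rfl⟩ := exists_preimage i hi V
  ext x
  exact congrArg (fun w => (w.val.app (op U)).hom x) h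

end s2

section s3

variable {Z X : TopCat.{u}} (i : Z ⟶ X) (O_Z : TopCat.Sheaf CommRingCat.{u} Z)
  (O_X : TopCat.Sheaf CommRingCat.{u} X)
  (c : O_X ⟶ ((Opens.map i).sheafPushforwardContinuous CommRingCat.{u}
      (Opens.grothendieckTopology X) (Opens.grothendieckTopology Z)).obj O_Z)

example (F : ModSite.Mod O_Z) : ModSite.toAb (P i O_Z O_X c F) =
    (TopCat.Sheaf.pushforward AddCommGrpCat.{u} i).obj (ModSite.toAb F) := rfl

end s3

section s4

variable {Z X : TopCat.{u}} (i : Z ⟶ X) (O_Z : TopCat.Sheaf CommRingCat.{u} Z)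
  (O_X : TopCat.Sheaf CommRingCat.{u} X)
  (c : O_X ⟶ ((Opens.map i).sheafPushforwardContinuous CommRingCat.{u}
      (Opens.grothendieckTopology X) (Opens.grothendieckTopology Z)).obj O_Z)

/-- an additive map of the underlying abelian sheaves on `Z` whose direct image is linear is linear -/
lemma linear_of_push (hi : Topology.IsEmbedding i) (hc : Sheaf.IsLocallySurjective c)
    {F F' : ModSite.Mod O_Z} (Φ : P i O_Z O_X c F ⟶ P i O_Z O_X c F')
    (φ : ModSite.toAb F ⟶ ModSite.toAb F')
    (hφ : ∀ (U : Opens X) (x : ModSite.sect F ((Opens.map i).obj U)),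
      φ.hom.app (op ((Opens.map i).obj U)) x = (Φ.val.app (op U)).hom x)
    (V : Opens Z) (r : O_Z.obj.obj (op V)) (m : ModSite.sect F V) :
    (show ModSite.sect F' V from φ.hom.app (op V) (r • m)) =
      r • (show ModSite.sect F' V from φ.hom.app (op V) m) := by
  obtain ⟨U, rfl⟩ := exists_preimage i hi V
  refine mod_ext (P i O_Z O_X c F') (S := Presheaf.imageSieve c.hom r)
    (Presheaf.imageSieve_mem (Opens.grothendieckTopology X) c.hom r) ?_
  rintro U' f ⟨a, ha⟩
  have nat : ∀ y : ModSite.sect F ((Opens.map i).obj U),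
      res F' ((Opens.map i).map f) (φ.hom.app (op ((Opens.map i).obj U)) y) =
        φ.hom.app (op ((Opens.map i).obj U')) (res F ((Opens.map i).map f) y) := by
    intro y
    exact (congrArg (fun w => w y) (φ.hom.naturality ((Opens.map i).map f).op)).symm
  change res F' ((Opens.map i).map f) _ = res F' ((Opens.map i).map f) _
  rw [nat]
  have e1 : res F ((Opens.map i).map f) (r • m) =
      (show O_Z.obj.obj (op ((Opens.map i).obj U')) from (c.hom.app (op U')).hom a) •
        res F ((Opens.map i).map f) m := by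
    refine (F.val.map_smul ((Opens.map i).map f).op r m).trans ?_
    rw [ha]
    rfl
  have e2 : res F' ((Opens.map i).map f) (r • (show ModSite.sect F' ((Opens.map i).obj U) from
        φ.hom.app (op ((Opens.map i).obj U)) m)) =
      (show O_Z.obj.obj (op ((Opens.map i).obj U')) from (c.hom.app (op U')).hom a) •
        res F' ((Opens.map i).map f) (φ.hom.app (op ((Opens.map i).obj U)) m) := by
    refine (F'.val.map_smul ((Opens.map i).map f).op r _).trans ?_
    rw [ha]
    rfl
  rw [e1, e2, nat, hφ, hφ]
  exact (Φ.val.app (op U')).hom.map_smul a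
    (show ModSite.sect (P i O_Z O_X c F) U' from res F ((Opens.map i).map f) m)

end s4

section s5

variable {Z X : TopCat.{u}} (i : Z ⟶ X) (O_Z : TopCat.Sheaf CommRingCat.{u} Z)
  (O_X : TopCat.Sheaf CommRingCat.{u} X)
  (c : O_X ⟶ ((Opens.map i).sheafPushforwardContinuous CommRingCat.{u}
      (Opens.grothendieckTopology X) (Opens.grothendieckTopology Z)).obj O_Z)

theorem full_push (hi : Topology.IsClosedEmbedding i) (hc : Sheaf.IsLocallySurjective c) :
    (ModSite.RMor.ofFlat (Opens.map i) c).push.Full := by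
  constructor
  intro F F' Φ
  let ff := Groth.Agent.Lib.Helper5.ClosedEmbSh.fullyFaithfulPushforward i hi AddCommGrpCat.{u}
  let Φab : (TopCat.Sheaf.pushforward AddCommGrpCat.{u} i).obj (ModSite.toAb F) ⟶
      (TopCat.Sheaf.pushforward AddCommGrpCat.{u} i).obj (ModSite.toAb F') :=
    (SheafOfModules.toSheaf _).map Φ
  let φab : ModSite.toAb F ⟶ ModSite.toAb F' := ff.preimage Φab
  have hφ : (TopCat.Sheaf.pushforward AddCommGrpCat.{u} i).map φab = Φab := ff.map_preimage Φab
  have hφU : ∀ (U : Opens X) (x : ModSite.sect F ((Opens.map i).obj U)),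
      φab.hom.app (op ((Opens.map i).obj U)) x = (Φ.val.app (op U)).hom x := by
    intro U x
    exact congrArg (fun w => w.hom.app (op U) x) hφ
  let φ : F ⟶ F' := ⟨PresheafOfModules.homMk φab.hom (fun V r m =>
    linear_of_push i O_Z O_X c hi.isEmbedding hc Φ φab hφU V.unop r m)⟩
  refine ⟨φ, ?_⟩
  apply SheafOfModules.hom_ext
  apply PresheafOfModules.hom_ext
  intro U
  ext x
  exact hφU U.unop x

end s5

end Groth.Agent.Lib.Helper4.ClosedPushFF
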