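import Mathlib
import Groth.Prelude.Def_ModSite2
import Groth.Agent.Lib.Helper4.ClosedPushFT
import Groth.Agent.Lib.Helper4.ClosedPushFF
import Groth.Agent.Lib.Helper4.QSLocal2
import Groth.Agent.Lib.Helper5.Misc.ClosedEmbSh

/-!
# Essential image of the direct image along a closed embedding of ringed spaces (helper4)
-/

set_option backward.isDefEq.respectTransparency.types false
set_option synthInstance.maxHeartbeats 400000
set_option autoImplicit false
set_option linter.unusedSectionVars false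
set_option linter.style.haveILetI false
set_option linter.unusedSimpArgs false
universe u v w
open CategoryTheory CategoryTheory.Limits Opposite

namespace Groth.Agent.Lib.Helper4.ClosedPushEss

open Groth.Agent.Lib.Helper4.PureTensor Groth.Agent.Lib.Helper4.EqCrit
  Groth.Agent.Lib.Helper4.FinGen Groth.Agent.Lib.Helper4.FinPres
  Groth.Agent.Lib.Helper4.SheafHomColim Groth.Agent.Lib.Helper4.QSLocal
  Groth.Agent.Lib.Helper4.EqCritConv Groth.Agent.Lib.Helper4.ClosedPushFT
  Groth.Agent.Lib.Helper4.ClosedPushFF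

open TopologicalSpace ModSite

section s1

variable {Z X : TopCat.{u}} (i : Z ⟶ X) (O_Z : TopCat.Sheaf CommRingCat.{u} Z)
  (O_X : TopCat.Sheaf CommRingCat.{u} X)
  (c : O_X ⟶ ((Opens.map i).sheafPushforwardContinuous CommRingCat.{u}
      (Opens.grothendieckTopology X) (Opens.grothendieckTopology Z)).obj O_Z)

/-- the kernel of `c` on sections -/
def kerI (U : (Opens X)ᵒᵖ) : Ideal (O_X.obj.obj U) := RingHom.ker (c.hom.app U).hom

lemma kerI_le_comap {U V : (Opens X)ᵒᵖ} (f : U ⟶ V) :
    kerI i O_Z O_X c U ≤ (kerI i O_Z O_X c V).comap (O_X.obj.map f).hom := by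
  intro a ha
  change (c.hom.app V).hom ((O_X.obj.map f).hom a) = 0
  have n := congrArg (fun w => w.hom a) (c.hom.naturality f)
  refine n.trans ?_
  change (_ : _ →+* _) ((c.hom.app U).hom a) = 0
  rw [show (c.hom.app U).hom a = 0 from ha, map_zero]

/-- the presheaf of quotient rings `O_X / ker c` -/
noncomputable def Qpre : (Opens X)ᵒᵖ ⥤ RingCat.{u} where
  obj U := RingCat.of (O_X.obj.obj U ⧸ kerI i O_Z O_X c U)
  map {U V} f := RingCat.ofHom (Ideal.quotientMap (kerI i O_Z O_X c V) (O_X.obj.map f).hom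
    (kerI_le_comap i O_Z O_X c f))
  map_id U := by
    apply RingCat.hom_ext
    apply Ideal.Quotient.ringHom_ext
    ext a
    simp
  map_comp f g := by
    apply RingCat.hom_ext
    apply Ideal.Quotient.ringHom_ext
    ext a
    simp

end s1

section s2

variable {Z X : TopCat.{u}} (i : Z ⟶ X) (O_Z : TopCat.Sheaf CommRingCat.{u} Z)
  (O_X : TopCat.Sheaf CommRingCat.{u} X)
  (c : O_X ⟶ ((Opens.map i).sheafPushforwardContinuous CommRingCat.{u}
      (Opens.grothendieckTopology X) (Opens.grothendieckTopology Z)).obj O_Z)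

/-- the direct image of the sheaf of rings -/
noncomputable abbrev RZ : Sheaf (Opens.grothendieckTopology X) RingCat.{u} :=
  ((Opens.map i).sheafPushforwardContinuous RingCat.{u}
    (Opens.grothendieckTopology X) (Opens.grothendieckTopology Z)).obj (ModSite.ringSh O_Z)

/-- the canonical map from the quotient presheaf -/
noncomputable def α : Qpre i O_Z O_X c ⟶ (RZ i O_Z).obj where
  app U := RingCat.ofHom (RingHom.kerLift (c.hom.app U).hom)
  naturality U V f := by
    apply RingCat.hom_ext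
    apply Ideal.Quotient.ringHom_ext
    ext a
    have n := congrArg (fun w => w.hom a) (c.hom.naturality f)
    exact n

lemma α_mk (U : (Opens X)ᵒᵖ) (a : O_X.obj.obj U) :
    ((α i O_Z O_X c).app U).hom (Ideal.Quotient.mk (kerI i O_Z O_X c U) a) =
      (c.hom.app U).hom a := rfl

instance : Presheaf.IsLocallyInjective (Opens.grothendieckTopology X) (α i O_Z O_X c) := by
  apply Presheaf.isLocallyInjective_of_injective
  intro U
  exact RingHom.kerLift_injective (c.hom.app U).hom

end s2

section s3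

variable {Z X : TopCat.{u}} (i : Z ⟶ X) (O_Z : TopCat.Sheaf CommRingCat.{u} Z)
  (O_X : TopCat.Sheaf CommRingCat.{u} X)
  (c : O_X ⟶ ((Opens.map i).sheafPushforwardContinuous CommRingCat.{u}
      (Opens.grothendieckTopology X) (Opens.grothendieckTopology Z)).obj O_Z)

lemma isLocallySurjective_α (hc : Sheaf.IsLocallySurjective c) :
    Presheaf.IsLocallySurjective (Opens.grothendieckTopology X) (α i O_Z O_X c) := by
  constructor
  intro U b
  refine (Opens.grothendieckTopology X).superset_covering ?_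
    (Presheaf.imageSieve_mem (Opens.grothendieckTopology X) c.hom
      (show O_Z.obj.obj (op ((Opens.map i).obj U)) from b))
  rintro U' f ⟨a, ha⟩
  exact ⟨Ideal.Quotient.mk _ a, ha⟩

end s3

section s4

variable {Z X : TopCat.{u}} (i : Z ⟶ X) (O_Z : TopCat.Sheaf CommRingCat.{u} Z)
  (O_X : TopCat.Sheaf CommRingCat.{u} X)
  (c : O_X ⟶ ((Opens.map i).sheafPushforwardContinuous CommRingCat.{u}
      (Opens.grothendieckTopology X) (Opens.grothendieckTopology Z)).obj O_Z)
  (G : ModSite.Mod O_X)
  (hG : ∀ (U : (Opens X)ᵒᵖ) (a : O_X.obj.obj U), (c.hom.app U).hom a = 0 →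
    ∀ s : G.val.obj U, (show (ModSite.ringSh O_X).obj.obj U from a) • s = 0)

/-- module structure over the structure ring, restated -/
@[instance_reducible]
noncomputable def modO (U : (Opens X)ᵒᵖ) : Module (O_X.obj.obj U) (G.val.presheaf.obj U) :=
  inferInstanceAs (Module ((ModSite.ringSh O_X).obj.obj U) (G.val.obj U))

include hG in
lemma isTorsion (U : (Opens X)ᵒᵖ) :
    letI := modO O_X G U
    Module.IsTorsionBySet (O_X.obj.obj U) (G.val.presheaf.obj U) (kerI i O_Z O_X c U) := by
  intro s a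
  exact hG U a.1 a.2 s

/-- module structure over the quotient ring -/
@[instance_reducible]
noncomputable def modQ (U : (Opens X)ᵒᵖ) :
    Module ((Qpre i O_Z O_X c).obj U) (G.val.presheaf.obj U) :=
  letI := modO O_X G U
  (isTorsion i O_Z O_X c G hG U).module

lemma mk_smul (U : (Opens X)ᵒᵖ) (a : O_X.obj.obj U) (s : G.val.obj U) :
    letI := modQ i O_Z O_X c G hG U
    (show (Qpre i O_Z O_X c).obj U from Ideal.Quotient.mk (kerI i O_Z O_X c U) a) •
      (show G.val.presheaf.obj U from s) = (show (ModSite.ringSh O_X).obj.obj U from a) • s := rfl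

end s4

section s5

variable {Z X : TopCat.{u}} (i : Z ⟶ X) (O_Z : TopCat.Sheaf CommRingCat.{u} Z)
  (O_X : TopCat.Sheaf CommRingCat.{u} X)
  (c : O_X ⟶ ((Opens.map i).sheafPushforwardContinuous CommRingCat.{u}
      (Opens.grothendieckTopology X) (Opens.grothendieckTopology Z)).obj O_Z)
  (G : ModSite.Mod O_X)
  (hG : ∀ (U : (Opens X)ᵒᵖ) (a : O_X.obj.obj U), (c.hom.app U).hom a = 0 →
    ∀ s : G.val.obj U, (show (ModSite.ringSh O_X).obj.obj U from a) • s = 0)

/-- `G` as a presheaf of modules over the quotient presheaf of rings -/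
noncomputable def M₀ : PresheafOfModules.{u} (Qpre i O_Z O_X c) :=
  letI := modQ i O_Z O_X c G hG
  PresheafOfModules.ofPresheaf G.val.presheaf (by
    intro U V f r m
    obtain ⟨a, rfl⟩ := Ideal.Quotient.mk_surjective r
    exact G.val.map_smul f a m)

end s5

section s6

variable {Z X : TopCat.{u}} (i : Z ⟶ X) (O_Z : TopCat.Sheaf CommRingCat.{u} Z)
  (O_X : TopCat.Sheaf CommRingCat.{u} X)
  (c : O_X ⟶ ((Opens.map i).sheafPushforwardContinuous CommRingCat.{u}
      (Opens.grothendieckTopology X) (Opens.grothendieckTopology Z)).obj O_Z)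
  (hc : Sheaf.IsLocallySurjective c)
  (G : ModSite.Mod O_X)
  (hG : ∀ (U : (Opens X)ᵒᵖ) (a : O_X.obj.obj U), (c.hom.app U).hom a = 0 →
    ∀ s : G.val.obj U, (show (ModSite.ringSh O_X).obj.obj U from a) • s = 0)

/-- the identity of the underlying abelian presheaf -/
noncomputable def φ₀ : (M₀ i O_Z O_X c G hG).presheaf ⟶ (ModSite.toAb G).obj := 𝟙 _

instance : Presheaf.IsLocallyInjective (Opens.grothendieckTopology X) (φ₀ i O_Z O_X c G hG) := by
  apply Presheaf.isLocallyInjective_of_injective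
  intro U a b h
  exact h

instance : Presheaf.IsLocallySurjective (Opens.grothendieckTopology X) (φ₀ i O_Z O_X c G hG) := by
  apply Presheaf.isLocallySurjective_of_surjective
  intro U a
  exact ⟨a, rfl⟩

/-- `G` as a sheaf of modules over the direct image of `O_Z` -/
noncomputable def G' : SheafOfModules.{u} (RZ i O_Z) :=
  haveI := isLocallySurjective_α i O_Z O_X c hc
  PresheafOfModules.sheafify (α i O_Z O_X c) (φ₀ i O_Z O_X c G hG)

example : (G' i O_Z O_X c hc G hG).val.presheaf = G.val.presheaf := rfl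

end s6

section s7

variable {Z X : TopCat.{u}} (i : Z ⟶ X) (O_Z : TopCat.Sheaf CommRingCat.{u} Z)
  (O_X : TopCat.Sheaf CommRingCat.{u} X)
  (c : O_X ⟶ ((Opens.map i).sheafPushforwardContinuous CommRingCat.{u}
      (Opens.grothendieckTopology X) (Opens.grothendieckTopology Z)).obj O_Z)
  (hc : Sheaf.IsLocallySurjective c)
  (G : ModSite.Mod O_X)
  (hG : ∀ (U : (Opens X)ᵒᵖ) (a : O_X.obj.obj U), (c.hom.app U).hom a = 0 →
    ∀ s : G.val.obj U, (show (ModSite.ringSh O_X).obj.obj U from a) • s = 0)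

lemma smul_G' (U : (Opens X)ᵒᵖ) (a : O_X.obj.obj U) (s : G.val.obj U) :
    (show (RZ i O_Z).obj.obj U from (c.hom.app U).hom a) •
      (show (G' i O_Z O_X c hc G hG).val.obj U from s) =
    (show (G' i O_Z O_X c hc G hG).val.obj U from
      ((show (ModSite.ringSh O_X).obj.obj U from a) • s)) := by
  haveI := isLocallySurjective_α i O_Z O_X c hc
  have h := ((PresheafOfModules.toSheafify (α i O_Z O_X c) (φ₀ i O_Z O_X c G hG)).app U).hom.map_smul
    (Ideal.Quotient.mk (kerI i O_Z O_X c U) a) s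
  exact h.symm

end s7

section s8

open Groth.Agent.Lib.Helper5.ClosedEmbSh

variable {Z X : TopCat.{u}} (i : Z ⟶ X) (hi : Topology.IsClosedEmbedding i)
  (O_Z : TopCat.Sheaf CommRingCat.{u} Z)
  (O_X : TopCat.Sheaf CommRingCat.{u} X)
  (c : O_X ⟶ ((Opens.map i).sheafPushforwardContinuous CommRingCat.{u}
      (Opens.grothendieckTopology X) (Opens.grothendieckTopology Z)).obj O_Z)
  (hc : Sheaf.IsLocallySurjective c)
  (G : ModSite.Mod O_X)
  (hG : ∀ (U : (Opens X)ᵒᵖ) (a : O_X.obj.obj U), (c.hom.app U).hom a = 0 →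
    ∀ s : G.val.obj U, (show (ModSite.ringSh O_X).obj.obj U from a) • s = 0)

/-- the ring map `O_Z(V) ⟶ O_Z(i⁻¹ g V)` -/
noncomputable def ψ : (ModSite.ringSh O_Z).obj ⟶ (gFun i hi).op ⋙ (RZ i O_Z).obj where
  app V := (ModSite.ringSh O_Z).obj.map (homOfLE (map_gObj i hi V.unop).le).op
  naturality V V' f := by
    change _ = _ ≫ (ModSite.ringSh O_Z).obj.map ((Opens.map i).op.map ((gFun i hi).op.map f))
    refine (Functor.map_comp _ _ _).symm.trans (Eq.trans ?_ (Functor.map_comp _ _ _))
    congr 1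

/-- the underlying presheaf of modules on `Z` -/
noncomputable def Fpre : PresheafOfModules.{u} (ModSite.ringSh O_Z).obj :=
  (PresheafOfModules.pushforward (F := gFun i hi) (ψ i hi O_Z)).obj (G' i O_Z O_X c hc G hG).val

example : (Fpre i hi O_Z O_X c hc G hG).presheaf = (gFun i hi).op ⋙ G.val.presheaf := rfl

end s8

section s9

open Groth.Agent.Lib.Helper5.ClosedEmbSh

variable {Z X : TopCat.{u}} (i : Z ⟶ X) (hi : Topology.IsClosedEmbedding i)
  (O_Z : TopCat.Sheaf CommRingCat.{u} Z)
  (O_X : TopCat.Sheaf CommRingCat.{u} X)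
  (c : O_X ⟶ ((Opens.map i).sheafPushforwardContinuous CommRingCat.{u}
      (Opens.grothendieckTopology X) (Opens.grothendieckTopology Z)).obj O_Z)
  (hc : Sheaf.IsLocallySurjective c)
  (G : ModSite.Mod O_X)
  (hG : ∀ (U : (Opens X)ᵒᵖ) (a : O_X.obj.obj U), (c.hom.app U).hom a = 0 →
    ∀ s : G.val.obj U, (show (ModSite.ringSh O_X).obj.obj U from a) • s = 0)

include hG in
lemma subsingleton_G (U : Opens X) (hU : U ≤ compl i hi) : Subsingleton (G.val.obj (op U)) := by
  have hempty : (Opens.map i).obj U = ⊥ := by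
    ext z
    simp only [Opens.coe_bot, Set.mem_empty_iff_false, iff_false]
    exact not_mem_preimage_compl i hi hU z
  haveI : Subsingleton (O_Z.obj.obj (op ((Opens.map i).obj U))) :=
    CommRingCat.subsingleton_of_isTerminal (O_Z.isTerminalOfEqEmpty hempty)
  have h0 : ∀ s : G.val.obj (op U), s = 0 := by
    intro s
    have h1 := hG (op U) 1 (Subsingleton.elim (α := O_Z.obj.obj (op ((Opens.map i).obj U))) _ _) s
    rw [← h1]
    exact (one_smul ((ModSite.ringSh O_X).obj.obj (op U)) s).symm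
  exact ⟨fun a b => (h0 a).trans (h0 b).symm⟩

end s9

section s10

open Groth.Agent.Lib.Helper5.ClosedEmbSh

variable {Z X : TopCat.{u}} (i : Z ⟶ X) (hi : Topology.IsClosedEmbedding i)
  (O_Z : TopCat.Sheaf CommRingCat.{u} Z)
  (O_X : TopCat.Sheaf CommRingCat.{u} X)
  (c : O_X ⟶ ((Opens.map i).sheafPushforwardContinuous CommRingCat.{u}
      (Opens.grothendieckTopology X) (Opens.grothendieckTopology Z)).obj O_Z)
  (hc : Sheaf.IsLocallySurjective c)
  (G : ModSite.Mod O_X)
  (hG : ∀ (U : (Opens X)ᵒᵖ) (a : O_X.obj.obj U), (c.hom.app U).hom a = 0 →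
    ∀ s : G.val.obj U, (show (ModSite.ringSh O_X).obj.obj U from a) • s = 0)

include hi hG in
lemma isTerminal_stalk (x : X) (hx : x ∉ Set.range i) :
    Nonempty (IsTerminal ((Sx AddCommGrpCat.{u} X x).obj (ModSite.toAb G))) := by
  let W : Opens X := compl i hi
  have hW : x ∈ W := hx
  let P : TopCat.Presheaf AddCommGrpCat.{u} X := (ModSite.toAb G).obj
  have hT : ∀ (U : Opens X), U ≤ W → IsTerminal (P.obj (op U)) := fun U hU => by
    haveI : Subsingleton (P.obj (op U)) := subsingleton_G i hi O_Z O_X c G hG U hU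
    exact (AddCommGrpCat.isZero_of_subsingleton _).isTerminal
  have h1 : IsIso (P.germ W x hW) := by
    have h2 : IsIso ((forget AddCommGrpCat.{u}).map (P.germ W x hW)) := by
      rw [isIso_iff_bijective]
      constructor
      · intro a b _
        haveI := uniqueOfIsTerminal AddCommGrpCat.{u} (hT W le_rfl)
        exact Subsingleton.elim (α := ToType (P.obj (op W))) a b
      · intro t
        obtain ⟨U, hUW, hxU, s, rfl⟩ := P.exists_le_germ_eq (x := x) t hW
        let s₀ : ToType (P.obj (op W)) := (uniqueOfIsTerminal AddCommGrpCat.{u} (hT W le_rfl)).default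
        refine ⟨s₀, ?_⟩
        have e : P.map (homOfLE hUW).op s₀ = s := by
          haveI := uniqueOfIsTerminal AddCommGrpCat.{u} (hT U hUW)
          exact Subsingleton.elim (α := ToType (P.obj (op U))) _ _
        rw [← e]
        exact (TopCat.Presheaf.germ_res_apply P (homOfLE hUW) x hxU s₀).symm
    exact isIso_of_reflects_iso _ (forget AddCommGrpCat.{u})
  exact ⟨IsTerminal.ofIso (hT W le_rfl) (@asIso _ _ _ _ _ h1)⟩

include hi hG in
lemma essImage_ab : (TopCat.Sheaf.pushforward AddCommGrpCat.{u} i).essImage (ModSite.toAb G) :=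
  (essImage_iff i hi AddCommGrpCat.{u} (ModSite.toAb G)).2
    (fun x hx => isTerminal_stalk i hi O_Z O_X c G hG x hx)

end s10

section s11

open Groth.Agent.Lib.Helper5.ClosedEmbSh

variable {Z X : TopCat.{u}} (i : Z ⟶ X) (hi : Topology.IsClosedEmbedding i)
  (O_Z : TopCat.Sheaf CommRingCat.{u} Z)
  (O_X : TopCat.Sheaf CommRingCat.{u} X)
  (c : O_X ⟶ ((Opens.map i).sheafPushforwardContinuous CommRingCat.{u}
      (Opens.grothendieckTopology X) (Opens.grothendieckTopology Z)).obj O_Z)
  (hc : Sheaf.IsLocallySurjective c)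
  (G : ModSite.Mod O_X)
  (hG : ∀ (U : (Opens X)ᵒᵖ) (a : O_X.obj.obj U), (c.hom.app U).hom a = 0 →
    ∀ s : G.val.obj U, (show (ModSite.ringSh O_X).obj.obj U from a) • s = 0)

lemma isSheaf_Fpre :
    Presheaf.IsSheaf (Opens.grothendieckTopology Z) (Fpre i hi O_Z O_X c hc G hG).presheaf := by
  obtain ⟨B, ⟨e⟩⟩ := essImage_ab i hi O_Z O_X c G hG
  let e1 : (gFun i hi).op ⋙ G.val.presheaf ≅ (gFun i hi).op ⋙ (Opens.map i).op ⋙ B.obj :=
    Functor.isoWhiskerLeft (gFun i hi).op ((sheafToPresheaf _ _).mapIso e.symm)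
  let e2 : (gFun i hi).op ⋙ (Opens.map i).op ⋙ B.obj ≅ B.obj :=
    NatIso.ofComponents (fun V => B.obj.mapIso (eqToIso (congrArg op (map_gObj i hi V.unop)))) (by
      intro V V' f
      dsimp
      rw [← B.obj.map_comp, ← B.obj.map_comp]
      congr 1)
  exact (Presheaf.isSheaf_of_iso_iff (e1 ≪≫ e2)).2 B.property

/-- the module on `Z` -/
noncomputable def Fmod : ModSite.Mod O_Z where
  val := Fpre i hi O_Z O_X c hc G hG
  isSheaf := isSheaf_Fpre i hi O_Z O_X c hc G hG

include hG in
/-- restriction `G(g i⁻¹ U) → G(U)` is bijective -/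
lemma bijective_unit (U : Opens X) :
    Function.Bijective (G.val.presheaf.map
      (homOfLE ((le_gObj_iff i hi U ((Opens.map i).obj U)).2 le_rfl)).op) := by
  obtain ⟨B, ⟨e⟩⟩ := essImage_ab i hi O_Z O_X c G hG
  let f : U ⟶ gObj i hi ((Opens.map i).obj U) :=
    homOfLE ((le_gObj_iff i hi U ((Opens.map i).obj U)).2 le_rfl)
  have hiso : IsIso (((TopCat.Sheaf.pushforward AddCommGrpCat.{u} i).obj B).obj.map f.op) := by
    change IsIso (B.obj.map ((Opens.map i).map f).op)
    haveI : IsIso ((Opens.map i).map f) :=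
      ⟨⟨homOfLE (map_gObj i hi ((Opens.map i).obj U)).le, Subsingleton.elim _ _,
        Subsingleton.elim _ _⟩⟩
    infer_instance
  let eU : ∀ V, ((TopCat.Sheaf.pushforward AddCommGrpCat.{u} i).obj B).obj.obj V ≅
      (ModSite.toAb G).obj.obj V := fun V => ((sheafToPresheaf _ _).mapIso e).app V
  have n : ((TopCat.Sheaf.pushforward AddCommGrpCat.{u} i).obj B).obj.map f.op ≫ (eU _).hom =
      (eU _).hom ≫ (ModSite.toAb G).obj.map f.op := e.hom.hom.naturality f.op
  have h2 : IsIso (G.val.presheaf.map f.op) := by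
    have h3 : G.val.presheaf.map f.op = (eU _).inv ≫
        ((TopCat.Sheaf.pushforward AddCommGrpCat.{u} i).obj B).obj.map f.op ≫ (eU _).hom := by
      rw [n, Iso.inv_hom_id_assoc]
      rfl
    rw [h3]
    haveI : IsIso (((TopCat.Sheaf.pushforward AddCommGrpCat.{u} i).obj B).obj.map f.op ≫ (eU (op U)).hom) :=
      IsIso.comp_isIso' hiso inferInstance
    exact IsIso.comp_isIso' inferInstance this
  exact (ConcreteCategory.isIso_iff_bijective _).1 h2

end s11

section s12

open Groth.Agent.Lib.Helper5.ClosedEmbSh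

variable {Z X : TopCat.{u}} (i : Z ⟶ X) (hi : Topology.IsClosedEmbedding i)
  (O_Z : TopCat.Sheaf CommRingCat.{u} Z)
  (O_X : TopCat.Sheaf CommRingCat.{u} X)
  (c : O_X ⟶ ((Opens.map i).sheafPushforwardContinuous CommRingCat.{u}
      (Opens.grothendieckTopology X) (Opens.grothendieckTopology Z)).obj O_Z)
  (hc : Sheaf.IsLocallySurjective c)
  (G : ModSite.Mod O_X)
  (hG : ∀ (U : (Opens X)ᵒᵖ) (a : O_X.obj.obj U), (c.hom.app U).hom a = 0 →
    ∀ s : G.val.obj U, (show (ModSite.ringSh O_X).obj.obj U from a) • s = 0)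

/-- `U ≤ g i⁻¹ U` -/
def uH (U : Opens X) : U ⟶ gObj i hi ((Opens.map i).obj U) :=
  homOfLE ((le_gObj_iff i hi U ((Opens.map i).obj U)).2 le_rfl)

example : (P i O_Z O_X c (Fmod i hi O_Z O_X c hc G hG)).val.presheaf =
    (Opens.map i).op ⋙ (gFun i hi).op ⋙ G.val.presheaf := rfl

/-- the comparison on abelian presheaves -/
noncomputable def Ψab : (P i O_Z O_X c (Fmod i hi O_Z O_X c hc G hG)).val.presheaf ⟶
    G.val.presheaf where
  app U := G.val.presheaf.map (uH i hi U.unop).op
  naturality U V f := by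
    change G.val.presheaf.map ((gFun i hi).op.map ((Opens.map i).op.map f)) ≫ _ = _
    refine (Functor.map_comp _ _ _).symm.trans (Eq.trans ?_ (Functor.map_comp _ _ _))
    congr 1

lemma Ψ_linear (U : (Opens X)ᵒᵖ) (r : (ModSite.ringSh O_X).obj.obj U)
    (m : (P i O_Z O_X c (Fmod i hi O_Z O_X c hc G hG)).val.obj U) :
    (Ψab i hi O_Z O_X c hc G hG).app U (r • m) =
      r • (show G.val.obj U from (Ψab i hi O_Z O_X c hc G hG).app U m) := by
  have e1 : r • m = (show (RZ i O_Z).obj.obj (op (gObj i hi ((Opens.map i).obj U.unop))) from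
      ((ψ i hi O_Z).app (op ((Opens.map i).obj U.unop))).hom ((c.hom.app U).hom r)) •
      (show (G' i O_Z O_X c hc G hG).val.obj (op (gObj i hi ((Opens.map i).obj U.unop))) from m) :=
    rfl
  rw [e1]
  refine ((G' i O_Z O_X c hc G hG).val.map_smul (uH i hi U.unop).op _ _).trans ?_
  have e2 : ((RZ i O_Z).obj.map (uH i hi U.unop).op).hom
      (((ψ i hi O_Z).app (op ((Opens.map i).obj U.unop))).hom ((c.hom.app U).hom r)) =
      (c.hom.app U).hom r := by
    change ((ModSite.ringSh O_Z).obj.map _ ≫ (ModSite.ringSh O_Z).obj.map _).hom _ = _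
    refine (congrArg (fun w : (ModSite.ringSh O_Z).obj.obj (op ((Opens.map i).obj U.unop)) ⟶
        (ModSite.ringSh O_Z).obj.obj (op ((Opens.map i).obj U.unop)) => w.hom ((c.hom.app U).hom r))
      ((ModSite.ringSh O_Z).obj.map_comp _ _).symm).trans ?_
    have : ∀ (k : op ((Opens.map i).obj U.unop) ⟶ op ((Opens.map i).obj U.unop)),
        ((ModSite.ringSh O_Z).obj.map k).hom ((c.hom.app U).hom r) = (c.hom.app U).hom r := by
      intro k
      have hk : k = 𝟙 _ := Subsingleton.elim _ _
      rw [hk, CategoryTheory.Functor.map_id]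
      rfl
    exact this _
  rw [e2]
  exact smul_G' i O_Z O_X c hc G hG U r _

end s12

section s13

open Groth.Agent.Lib.Helper5.ClosedEmbSh Groth.Agent.Lib.Helper4.QSLocal2

variable {Z X : TopCat.{u}} (i : Z ⟶ X) (hi : Topology.IsClosedEmbedding i)
  (O_Z : TopCat.Sheaf CommRingCat.{u} Z)
  (O_X : TopCat.Sheaf CommRingCat.{u} X)
  (c : O_X ⟶ ((Opens.map i).sheafPushforwardContinuous CommRingCat.{u}
      (Opens.grothendieckTopology X) (Opens.grothendieckTopology Z)).obj O_Z)
  (hc : Sheaf.IsLocallySurjective c)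
  (G : ModSite.Mod O_X)
  (hG : ∀ (U : (Opens X)ᵒᵖ) (a : O_X.obj.obj U), (c.hom.app U).hom a = 0 →
    ∀ s : G.val.obj U, (show (ModSite.ringSh O_X).obj.obj U from a) • s = 0)

/-- the comparison morphism -/
noncomputable def Ψ : P i O_Z O_X c (Fmod i hi O_Z O_X c hc G hG) ⟶ G :=
  ⟨PresheafOfModules.homMk (Ψab i hi O_Z O_X c hc G hG) (Ψ_linear i hi O_Z O_X c hc G hG)⟩

lemma Ψ_apply (U : Opens X) (m : (P i O_Z O_X c (Fmod i hi O_Z O_X c hc G hG)).val.obj (op U)) :
    ((Ψ i hi O_Z O_X c hc G hG).val.app (op U)).hom m =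
      G.val.presheaf.map (uH i hi U).op m := rfl

lemma isIso_Ψ : IsIso (Ψ i hi O_Z O_X c hc G hG) := by
  haveI : Mono (Ψ i hi O_Z O_X c hc G hG) := by
    apply mono_of_injective_sections
    intro U a ha
    rw [Ψ_apply] at ha
    apply (bijective_unit i hi O_Z O_X c G hG U).1
    refine ha.trans ?_
    exact (map_zero _).symm
  haveI : Epi (Ψ i hi O_Z O_X c hc G hG) := by
    apply epi_of_locally_surjective_sections
    intro U s
    refine ⟨⊤, GrothendieckTopology.top_mem _ _, ?_⟩
    intro W g _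
    obtain ⟨t, ht⟩ := (bijective_unit i hi O_Z O_X c G hG W).2 ((G.val.map g.op).hom s)
    exact ⟨t, ht⟩
  exact isIso_of_mono_of_epi _

include hi hc hG in
theorem essImage_of_torsion :
    (ModSite.RMor.ofFlat (Opens.map i) c).push.essImage G :=
  haveI := isIso_Ψ i hi O_Z O_X c hc G hG
  ⟨Fmod i hi O_Z O_X c hc G hG, ⟨asIso (Ψ i hi O_Z O_X c hc G hG)⟩⟩

end s13

section s14

variable {Z X : TopCat.{u}} (i : Z ⟶ X)
  (O_Z : TopCat.Sheaf CommRingCat.{u} Z)
  (O_X : TopCat.Sheaf CommRingCat.{u} X)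
  (c : O_X ⟶ ((Opens.map i).sheafPushforwardContinuous CommRingCat.{u}
      (Opens.grothendieckTopology X) (Opens.grothendieckTopology Z)).obj O_Z)

theorem main (hi : Topology.IsClosedEmbedding i) (hc : Sheaf.IsLocallySurjective c) :
    PreservesFiniteColimits (ModSite.RMor.ofFlat (TopologicalSpace.Opens.map i) c).push ∧
      (ModSite.RMor.ofFlat (TopologicalSpace.Opens.map i) c).push.Full ∧
      (ModSite.RMor.ofFlat (TopologicalSpace.Opens.map i) c).push.Faithful ∧
      ∀ G : ModSite.Mod O_X,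
        (ModSite.RMor.ofFlat (TopologicalSpace.Opens.map i) c).push.essImage G ↔
          ∀ (U : Opens X) (a : (ModSite.ringSh O_X).obj.obj (Opposite.op U)),
            ((ModSite.RMor.ofFlat (TopologicalSpace.Opens.map i) c).sharpR.hom.app (Opposite.op U)).hom a = 0 →
              ∀ s : ModSite.sect G U, a • s = 0 := by
  refine ⟨preservesFiniteColimits_push i O_Z O_X c hi, full_push i O_Z O_X c hi hc,
    faithful_push i O_Z O_X c hi.isEmbedding, ?_⟩
  intro G
  constructor
  · rintro ⟨F, ⟨e⟩⟩ U a ha s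
    have h1 : s = (e.hom.val.app (op U)).hom ((e.inv.val.app (op U)).hom s) := by
      have := congrArg (fun w => (w.val.app (op U)).hom s) e.inv_hom_id
      exact this.symm
    rw [h1]
    refine ((e.hom.val.app (op U)).hom.map_smul a _).symm.trans ?_
    have h2 : a • ((e.inv.val.app (op U)).hom s) = 0 := by
      refine (smul_P i O_Z O_X c F U a _).trans ?_
      rw [show (c.hom.app (op U)).hom a = 0 from ha]
      exact zero_smul (O_Z.obj.obj (op ((Opens.map i).obj U)))
        (show ModSite.sect F ((Opens.map i).obj U) from (e.inv.val.app (op U)).hom s)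
    rw [h2, map_zero]
  · intro h
    exact essImage_of_torsion i hi O_Z O_X c hc G (fun U a ha s => h U.unop a ha s)

end s14

end Groth.Agent.Lib.Helper4.ClosedPushEss
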