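import Mathlib

/-!
# The ideal of coinvariants of a finite-order automorphism of a local algebra is generated by part of a parameter system (helper4)
-/

set_option backward.isDefEq.respectTransparency.types false
set_option synthInstance.maxHeartbeats 400000
set_option autoImplicit false
set_option linter.unusedSectionVars false
set_option linter.style.haveILetI false
set_option linter.unusedSimpArgs false
universe u v w
open IsLocalRing

namespace Groth.Agent.Lib.Helper4.FixedIdeal1

open IsLocalRing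

section part1
variable {k : Type u} [Field k] {A : Type u} [CommRing A] [Algebra k A] [IsLocalRing A]
  (hres : Function.Surjective ⇑(algebraMap k (ResidueField A)))
  (σ : A →ₐ[k] A) (n : ℕ) (hσ : ∀ a : A, (⇑σ)^[n] a = a) (hn : (n : k) ≠ 0)

/-- the ideal generated by `a - σ a` -/
def Iσ : Ideal A := Ideal.span (Set.range fun a : A => a - σ a)

theorem gen_mem (a : A) : a - σ a ∈ Iσ σ := Ideal.subset_span ⟨a, rfl⟩

include hσ hn in
theorem σ_mem (a : A) (ha : a ∈ maximalIdeal A) : σ a ∈ maximalIdeal A := by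
  rw [mem_maximalIdeal, mem_nonunits_iff] at ha ⊢
  intro hu
  apply ha
  have hn0 : n ≠ 0 := by rintro rfl; simp at hn
  obtain ⟨n', rfl⟩ := Nat.exists_eq_succ_of_ne_zero hn0
  have hiter : ∀ j (b : A), IsUnit b → IsUnit ((⇑σ)^[j] b) := by
    intro j
    induction j with
    | zero => intro b hb; simpa using hb
    | succ j ih =>
      intro b hb
      rw [Function.iterate_succ_apply']
      exact (ih b hb).map σ
  have := hiter n' (σ a) hu
  rw [← Function.iterate_succ_apply, hσ] at this
  exact this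

theorem sub_iter_mem (a : A) (j : ℕ) : a - (⇑σ)^[j] a ∈ Iσ σ := by
  induction j with
  | zero => simp
  | succ j ih =>
    rw [Function.iterate_succ_apply']
    have : a - σ ((⇑σ)^[j] a) = (a - (⇑σ)^[j] a) + ((⇑σ)^[j] a - σ ((⇑σ)^[j] a)) := by ring
    rw [this]
    exact add_mem ih (gen_mem σ _)

include hres in
theorem exists_const (a : A) : ∃ c : k, a - algebraMap k A c ∈ maximalIdeal A := by
  obtain ⟨c, hc⟩ := hres (residue A a)
  refine ⟨c, ?_⟩
  rw [← Ideal.Quotient.eq_zero_iff_mem, map_sub, sub_eq_zero]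
  change residue A a = residue A (algebraMap k A c)
  rw [← hc]
  rfl

include hres hσ hn in
theorem Iσ_le : Iσ σ ≤ maximalIdeal A := by
  rw [Iσ, Ideal.span_le]
  rintro _ ⟨a, rfl⟩
  obtain ⟨c, hc⟩ := exists_const hres a
  have : a - σ a = (a - algebraMap k A c) - σ (a - algebraMap k A c) := by
    rw [map_sub, AlgHom.commutes]; ring
  change a - σ a ∈ maximalIdeal A
  rw [this]
  exact sub_mem hc (σ_mem σ n hσ hn _ hc)

/-- the average -/
noncomputable def avg (a : A) : A := (n : k)⁻¹ • ∑ j ∈ Finset.range n, (⇑σ)^[j] a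

include hσ in
theorem σ_avg (a : A) : σ (avg σ n a) = avg σ n a := by
  unfold avg
  rw [map_smul, map_sum]
  congr 1
  have h1 : ∑ j ∈ Finset.range n, σ ((⇑σ)^[j] a) = ∑ j ∈ Finset.range n, (⇑σ)^[j + 1] a :=
    Finset.sum_congr rfl fun j _ => by rw [Function.iterate_succ_apply']
  rw [h1]
  have h2 := Finset.sum_range_succ (fun j => (⇑σ)^[j] a) n
  have h3 := Finset.sum_range_succ' (fun j => (⇑σ)^[j] a) n
  rw [h2] at h3
  simp only [Function.iterate_zero, id_eq] at h3
  rw [hσ] at h3
  exact (add_right_cancel h3).symm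

include hn in
theorem sub_avg_mem (J : Ideal A) (a : A) (hJ : ∀ j, a - (⇑σ)^[j] a ∈ J) : a - avg σ n a ∈ J := by
  have h1 : a - avg σ n a = (n : k)⁻¹ • ∑ j ∈ Finset.range n, (a - (⇑σ)^[j] a) := by
    unfold avg
    rw [Finset.sum_sub_distrib, smul_sub, Finset.sum_const, Finset.card_range,
      ← Nat.cast_smul_eq_nsmul k, smul_smul, inv_mul_cancel₀ hn, one_smul]
  rw [h1, Algebra.smul_def]
  exact J.mul_mem_left _ (J.sum_mem fun j _ => hJ j)

include hσ hn in
theorem sq_stable (d : A) (hd : d ∈ maximalIdeal A ^ 2) : σ d ∈ maximalIdeal A ^ 2 := by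
  have : maximalIdeal A ^ 2 ≤ (maximalIdeal A ^ 2).comap σ.toRingHom := by
    rw [pow_two, Ideal.mul_le]
    intro u hu v hv
    rw [Ideal.mem_comap, map_mul]
    exact Ideal.mul_mem_mul (σ_mem σ n hσ hn u hu) (σ_mem σ n hσ hn v hv)
  exact this hd

include hσ hn in
theorem sub_mem_mul_of_sq (d : A) (hd : d ∈ maximalIdeal A ^ 2) :
    d - σ d ∈ maximalIdeal A * Iσ σ := by
  rw [pow_two] at hd
  refine Submodule.mul_induction_on hd ?_ ?_
  · intro u hu v hv
    have : u * v - σ (u * v) = v * (u - σ u) + σ u * (v - σ v) := by rw [map_mul]; ring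
    rw [this]
    exact add_mem (Ideal.mul_mem_mul hv (gen_mem σ u))
      (Ideal.mul_mem_mul (σ_mem σ n hσ hn u hu) (gen_mem σ v))
  · intro x y hx hy
    have : x + y - σ (x + y) = (x - σ x) + (y - σ y) := by rw [map_add]; ring
    rw [this]
    exact add_mem hx hy

include hσ hn in
theorem star2 (a : A) (ha : a - σ a ∈ maximalIdeal A ^ 2) : a - σ a ∈ maximalIdeal A * Iσ σ := by
  have hj : ∀ j, a - (⇑σ)^[j] a ∈ maximalIdeal A ^ 2 := by
    intro j
    induction j with
    | zero => simp
    | succ j ih =>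
      rw [Function.iterate_succ_apply']
      have : a - σ ((⇑σ)^[j] a) = (a - σ a) + σ (a - (⇑σ)^[j] a) := by rw [map_sub]; ring
      rw [this]
      exact add_mem ha (sq_stable σ n hσ hn _ ih)
  have hd := sub_avg_mem σ n hn (maximalIdeal A ^ 2) a hj
  have : a - σ a = (a - avg σ n a) - σ (a - avg σ n a) := by
    rw [map_sub, σ_avg σ n hσ]; ring
  rw [this]
  exact sub_mem_mul_of_sq σ n hσ hn _ hd

include hres hσ hn in
theorem star (x : A) (hx : x ∈ Iσ σ) (hx2 : x ∈ maximalIdeal A ^ 2) :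
    x ∈ maximalIdeal A * Iσ σ := by
  have key : ∀ x (hx : x ∈ Iσ σ), ∃ a : A, x - (a - σ a) ∈ maximalIdeal A * Iσ σ := by
    intro x hx
    unfold Iσ at hx
    induction hx using Submodule.span_induction with
    | mem x hx =>
      obtain ⟨a, rfl⟩ := hx
      exact ⟨a, by simp⟩
    | zero => exact ⟨0, by simp⟩
    | add x y _ _ hx hy =>
      obtain ⟨a, ha⟩ := hx
      obtain ⟨b, hb⟩ := hy
      refine ⟨a + b, ?_⟩
      have : x + y - (a + b - σ (a + b)) = (x - (a - σ a)) + (y - (b - σ b)) := by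
        rw [map_add]; ring
      rw [this]
      exact add_mem ha hb
    | smul b x hxI hx =>
      obtain ⟨a, ha⟩ := hx
      obtain ⟨c, hc⟩ := exists_const hres b
      refine ⟨c • a, ?_⟩
      have : b • x - (c • a - σ (c • a)) =
          (b - algebraMap k A c) * x + algebraMap k A c * (x - (a - σ a)) := by
        rw [map_smul, Algebra.smul_def c a, Algebra.smul_def c (σ a), smul_eq_mul]; ring
      rw [this]
      exact add_mem (Ideal.mul_mem_mul hc hxI) (Ideal.mul_mem_left _ _ ha)
  obtain ⟨a, ha⟩ := key x hx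
  have hle : maximalIdeal A * Iσ σ ≤ maximalIdeal A ^ 2 := by
    rw [pow_two]
    exact Ideal.mul_mono_right (Iσ_le hres σ n hσ hn)
  have h2 : a - σ a ∈ maximalIdeal A ^ 2 := by
    have : a - σ a = x - (x - (a - σ a)) := by ring
    rw [this]
    exact sub_mem hx2 (hle ha)
  have h3 := star2 σ n hσ hn a h2
  have : x = (x - (a - σ a)) + (a - σ a) := by ring
  rw [this]
  exact add_mem ha h3

end part1

section part2
variable {A : Type u} [CommRing A]

/-- removing a redundant generator -/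
theorem span_succAbove {m : ℕ} (g t : Fin (m + 1) → A) (i₀ : Fin (m + 1)) (ht : IsUnit (t i₀))
    (hsum : ∑ i, t i * g i = 0) :
    Ideal.span (Set.range (g ∘ i₀.succAbove)) = Ideal.span (Set.range g) := by
  apply le_antisymm
  · apply Ideal.span_mono
    rintro _ ⟨j, rfl⟩
    exact ⟨_, rfl⟩
  · rw [Ideal.span_le]
    rintro _ ⟨i, rfl⟩
    by_cases hi : i = i₀
    · subst hi
      rw [Fin.sum_univ_succAbove _ i] at hsum
      obtain ⟨u, hu⟩ := ht
      have h1 : g i = -(↑u⁻¹ : A) * ∑ j : Fin m, t (i.succAbove j) * g (i.succAbove j) := by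
        have h2 : t i * g i = -∑ j : Fin m, t (i.succAbove j) * g (i.succAbove j) :=
          eq_neg_of_add_eq_zero_left hsum
        calc g i = (↑u⁻¹ : A) * (t i * g i) := by
              rw [← mul_assoc, ← hu, Units.inv_mul, one_mul]
          _ = _ := by rw [h2]; ring
      rw [SetLike.mem_coe, h1]
      refine Ideal.mul_mem_left _ _ (Ideal.sum_mem _ fun j _ => ?_)
      exact Ideal.mul_mem_left _ _ (Ideal.subset_span ⟨j, rfl⟩)
    · obtain ⟨j, rfl⟩ := Fin.exists_succAbove_eq hi
      exact Ideal.subset_span ⟨j, rfl⟩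

theorem mem_mul_span_range {m : ℕ} (J : Ideal A) (g : Fin m → A) (x : A)
    (hx : x ∈ J * Ideal.span (Set.range g)) :
    ∃ μ : Fin m → A, (∀ i, μ i ∈ J) ∧ x = ∑ i, μ i * g i := by
  refine Submodule.mul_induction_on hx ?_ ?_
  · intro u hu y hy
    obtain ⟨ν, rfl⟩ := Ideal.mem_span_range_iff_exists_fun.mp hy
    refine ⟨fun i => u * ν i, fun i => J.mul_mem_right _ hu, ?_⟩
    rw [Finset.mul_sum]
    exact Finset.sum_congr rfl fun i _ => by ring
  · rintro x y ⟨μ, hμ, rfl⟩ ⟨μ', hμ', rfl⟩
    refine ⟨fun i => μ i + μ' i, fun i => J.add_mem (hμ i) (hμ' i), ?_⟩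
    rw [← Finset.sum_add_distrib]
    exact Finset.sum_congr rfl fun i _ => by ring

variable [IsLocalRing A]

theorem exists_min_gens (I : Ideal A) (hfg : I.FG) (hI : I ≤ maximalIdeal A)
    (hstar : ∀ x ∈ I, x ∈ maximalIdeal A ^ 2 → x ∈ maximalIdeal A * I) :
    ∃ (m : ℕ) (f : Fin m → ↥(maximalIdeal A)),
      Ideal.span (Set.range fun i : Fin m => (f i : A)) = I ∧
      LinearIndependent (ResidueField A)
        (fun i : Fin m => (maximalIdeal A).toCotangent (f i)) := by
  classical
  have hex : ∃ m, ∃ g : Fin m → A, Ideal.span (Set.range g) = I :=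
    Submodule.fg_iff_exists_fin_generating_family.mp hfg
  obtain ⟨m, ⟨g, hg⟩, hmin⟩ : ∃ m, (∃ g : Fin m → A, Ideal.span (Set.range g) = I) ∧
      ∀ m' < m, ¬ ∃ g : Fin m' → A, Ideal.span (Set.range g) = I :=
    ⟨Nat.find hex, Nat.find_spec hex, fun m' h => Nat.find_min hex h⟩
  have hgI : ∀ i, g i ∈ I := fun i => hg ▸ Ideal.subset_span ⟨i, rfl⟩
  have hgm : ∀ i, g i ∈ maximalIdeal A := fun i => hI (hgI i)
  refine ⟨m, fun i => ⟨g i, hgm i⟩, hg, ?_⟩
  rw [Fintype.linearIndependent_iff]
  intro c hc i₀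
  by_contra hne
  choose d hd using fun i => residue_surjective (c i)
  have hsum : (∑ i, d i * g i) ∈ maximalIdeal A ^ 2 := by
    have h1 : ∑ i, c i • (maximalIdeal A).toCotangent ⟨g i, hgm i⟩ =
        (maximalIdeal A).toCotangent (∑ i, d i • (⟨g i, hgm i⟩ : maximalIdeal A)) := by
      rw [map_sum]
      refine Finset.sum_congr rfl fun i _ => ?_
      rw [map_smul, ← hd i]
      exact (algebraMap_smul (ResidueField A) (d i) _)
    rw [h1, Ideal.toCotangent_eq_zero] at hc
    have h2 : ((∑ i, d i • (⟨g i, hgm i⟩ : maximalIdeal A) : maximalIdeal A) : A) =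
        ∑ i, d i * g i := by
      rw [AddSubmonoidClass.coe_finsetSum]
      rfl
    rwa [h2] at hc
  have hxI : (∑ i, d i * g i) ∈ I := I.sum_mem fun i _ => I.mul_mem_left _ (hgI i)
  have hx := hstar _ hxI hsum
  rw [← hg] at hx
  obtain ⟨μ, hμ, hμsum⟩ := mem_mul_span_range _ g _ hx
  have hzero : ∑ i, (d i - μ i) * g i = 0 := by
    simp only [sub_mul, Finset.sum_sub_distrib]
    rw [hμsum, sub_self]
  have hunit : IsUnit (d i₀ - μ i₀) := by
    by_contra hnu
    have h1 : d i₀ - μ i₀ ∈ maximalIdeal A := (mem_maximalIdeal _).mpr hnu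
    have h2 : d i₀ ∈ maximalIdeal A := by
      have := add_mem h1 (hμ i₀)
      simpa using this
    apply hne
    rw [← hd i₀]
    exact (residue_eq_zero_iff _).mpr h2
  cases m with
  | zero => exact i₀.elim0
  | succ m' =>
    have := span_succAbove g (fun i => d i - μ i) i₀ hunit hzero
    exact hmin m' (Nat.lt_succ_self _) ⟨g ∘ i₀.succAbove, this.trans hg⟩

end part2

theorem main {k : Type u} [Field k] {A : Type u} [CommRing A] [Algebra k A]
    [IsRegularLocalRing A]
    (hres : Function.Surjective ⇑(algebraMap k (IsLocalRing.ResidueField A)))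
    (σ : A →ₐ[k] A) (n : ℕ) (hσ : ∀ a : A, (⇑σ)^[n] a = a) (hn : (n : k) ≠ 0) :
    ∃ (m : ℕ) (f : Fin m → ↥(IsLocalRing.maximalIdeal A)),
      Ideal.span (Set.range fun i : Fin m => (f i : A)) =
        Ideal.span (Set.range fun a : A => a - σ a) ∧
      LinearIndependent (IsLocalRing.ResidueField A)
        (fun i : Fin m => (IsLocalRing.maximalIdeal A).toCotangent (f i)) :=
  exists_min_gens (Iσ σ) (IsNoetherian.noetherian _) (Iσ_le hres σ n hσ hn)
    (fun x hx hx2 => star hres σ n hσ hn x hx hx2)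

end Groth.Agent.Lib.Helper4.FixedIdeal1
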