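import Mathlib
import Groth.Agent.Lib.Helper4.FixedIdeal1
import Groth.Agent.Lib.Helper8.RegularLocal

/-!
# Quotient of a regular local algebra by the coinvariant ideal of a finite group of invertible order is regular (helper4)
-/

set_option backward.isDefEq.respectTransparency.types false
set_option synthInstance.maxHeartbeats 400000
set_option autoImplicit false
set_option linter.unusedSectionVars false
set_option linter.style.haveILetI false
set_option linter.unusedSimpArgs false
universe u v w
open IsLocalRing Groth.Agent.Lib.Helper4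

namespace Groth.Agent.Lib.Helper4.CoinvRegular1

open IsLocalRing Groth.Agent.Lib.Helper4

section part1
variable {k : Type u} [Field k] {A : Type u} [CommRing A] [Algebra k A] [IsLocalRing A]
  (hres : Function.Surjective ⇑(algebraMap k (ResidueField A)))
  {G : Type v} [Group G] [Fintype G] [MulSemiringAction G A] [SMulCommClass G k A]
  (hG : (Fintype.card G : k) ≠ 0)

variable (G A) in
/-- the coinvariant ideal -/
def IG : Ideal A := Ideal.span {x : A | ∃ (g : G) (a : A), x = g • a - a}

theorem gen_mem (g : G) (a : A) : g • a - a ∈ IG A G := Ideal.subset_span ⟨g, a, rfl⟩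

theorem smul_mem_max (g : G) (a : A) (ha : a ∈ maximalIdeal A) : g • a ∈ maximalIdeal A := by
  rw [mem_maximalIdeal, mem_nonunits_iff] at ha ⊢
  intro hu
  apply ha
  have := hu.map (MulSemiringAction.toRingHom G A g⁻¹)
  simpa using this

theorem smul_algebraMap (g : G) (c : k) : g • (algebraMap k A c) = algebraMap k A c := by
  rw [Algebra.algebraMap_eq_smul_one, smul_comm, smul_one]

include hres in
theorem IG_le : IG A G ≤ maximalIdeal A := by
  rw [IG, Ideal.span_le]
  rintro _ ⟨g, a, rfl⟩
  obtain ⟨c, hc⟩ := FixedIdeal1.exists_const hres a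
  have : g • a - a = g • (a - algebraMap k A c) - (a - algebraMap k A c) := by
    rw [smul_sub, smul_algebraMap]; ring
  rw [SetLike.mem_coe, this]
  exact sub_mem (smul_mem_max g _ hc) hc

variable (G) in
/-- the average -/
noncomputable def avg (a : A) : A := (Fintype.card G : k)⁻¹ • ∑ g : G, g • a

theorem avg_add (a b : A) : avg G (k := k) (a + b) = avg G (k := k) a + avg G (k := k) b := by
  unfold avg
  simp only [smul_add, Finset.sum_add_distrib]

theorem avg_smul (c : k) (a : A) : avg G (k := k) (c • a) = c • avg G (k := k) a := by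
  unfold avg
  simp only [smul_comm _ c a]
  rw [← Finset.smul_sum, smul_comm]

theorem avg_gen (g : G) (a : A) : avg G (k := k) (g • a - a) = 0 := by
  unfold avg
  simp only [smul_sub, Finset.sum_sub_distrib]
  have : ∑ h : G, h • g • a = ∑ h : G, h • a := by
    refine Fintype.sum_equiv (Equiv.mulRight g) _ _ fun h => ?_
    simp [mul_smul]
  rw [this, sub_self]

theorem sub_smul_mem_of_sq (g : G) (d : A) (hd : d ∈ maximalIdeal A ^ 2) :
    d - g • d ∈ maximalIdeal A * IG A G := by
  rw [pow_two] at hd
  refine Submodule.mul_induction_on hd ?_ ?_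
  · intro u hu v hv
    have : u * v - g • (u * v) = -(v * (g • u - u)) - (g • u) * (g • v - v) := by
      rw [smul_mul']; ring
    rw [this]
    exact sub_mem (neg_mem (Ideal.mul_mem_mul hv (gen_mem g u)))
      (Ideal.mul_mem_mul (smul_mem_max g u hu) (gen_mem g v))
  · intro x y hx hy
    have : x + y - g • (x + y) = (x - g • x) + (y - g • y) := by rw [smul_add]; ring
    rw [this]
    exact add_mem hx hy

include hG in
theorem sub_avg_mem (d : A) (hd : d ∈ maximalIdeal A ^ 2) :
    d - avg G (k := k) d ∈ maximalIdeal A * IG A G := by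
  have h1 : d - avg G (k := k) d = (Fintype.card G : k)⁻¹ • ∑ g : G, (d - g • d) := by
    unfold avg
    rw [Finset.sum_sub_distrib, smul_sub, Finset.sum_const, Finset.card_univ,
      ← Nat.cast_smul_eq_nsmul k, smul_smul, inv_mul_cancel₀ hG, one_smul]
  rw [h1, Algebra.smul_def]
  exact Ideal.mul_mem_left _ _ (Ideal.sum_mem _ fun g _ => sub_smul_mem_of_sq g d hd)

include hres hG in
theorem star (x : A) (hx : x ∈ IG A G) (hx2 : x ∈ maximalIdeal A ^ 2) :
    x ∈ maximalIdeal A * IG A G := by
  have key : ∀ x (hx : x ∈ IG A G), ∃ w : A, avg G (k := k) w = 0 ∧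
      x - w ∈ maximalIdeal A * IG A G := by
    intro x hx
    unfold IG at hx
    induction hx using Submodule.span_induction with
    | mem x hx =>
      obtain ⟨g, a, rfl⟩ := hx
      exact ⟨g • a - a, avg_gen g a, by simp⟩
    | zero => exact ⟨0, by simp [avg], by simp⟩
    | add x y _ _ hx hy =>
      obtain ⟨a, ha0, ha⟩ := hx
      obtain ⟨b, hb0, hb⟩ := hy
      refine ⟨a + b, by rw [avg_add, ha0, hb0, add_zero], ?_⟩
      have : x + y - (a + b) = (x - a) + (y - b) := by ring
      rw [this]
      exact add_mem ha hb
    | smul b x hxI hx =>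
      obtain ⟨a, ha0, ha⟩ := hx
      obtain ⟨c, hc⟩ := FixedIdeal1.exists_const hres b
      refine ⟨c • a, by rw [avg_smul, ha0, smul_zero], ?_⟩
      have : b • x - c • a =
          (b - algebraMap k A c) * x + algebraMap k A c * (x - a) := by
        rw [Algebra.smul_def c a, smul_eq_mul]; ring
      rw [this]
      exact add_mem (Ideal.mul_mem_mul hc hxI) (Ideal.mul_mem_left _ _ ha)
  obtain ⟨w, hw0, hw⟩ := key x hx
  have hle : maximalIdeal A * IG A G ≤ maximalIdeal A ^ 2 := by
    rw [pow_two]
    exact Ideal.mul_mono_right (IG_le hres)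
  have h2 : w ∈ maximalIdeal A ^ 2 := by
    have : w = x - (x - w) := by ring
    rw [this]
    exact sub_mem hx2 (hle hw)
  have h3 := sub_avg_mem hG w h2
  rw [hw0, sub_zero] at h3
  have : x = (x - w) + w := by ring
  rw [this]
  exact add_mem hw h3

end part1

theorem main (k : Type u) [Field k] (A : Type u) [CommRing A]
    [Algebra k A] [IsRegularLocalRing A]
    (hres : Function.Surjective (algebraMap k (IsLocalRing.ResidueField A)))
    (G : Type u) [Group G] [Finite G] [MulSemiringAction G A] [SMulCommClass G k A]
    (hG : (Nat.card G : k) ≠ 0) :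
    IsRegularLocalRing (A ⧸ Ideal.span {x : A | ∃ (g : G) (a : A), x = g • a - a}) := by
  haveI : Fintype G := Fintype.ofFinite G
  rw [Nat.card_eq_fintype_card] at hG
  obtain ⟨m, f, hf, hli⟩ := FixedIdeal1.exists_min_gens (IG A G) (IsNoetherian.noetherian _)
    (IG_le hres) (fun x hx hx2 => star hres hG x hx hx2)
  have := (Groth.Agent.Helper8.RLR.quotient_of_linearIndependent f hli).1
  rw [hf] at this
  exact this

end Groth.Agent.Lib.Helper4.CoinvRegular1
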