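import Mathlib

/-!
# Formal smoothness of the coinvariant quotient under a finite group of invertible order (helper4)
-/

set_option backward.isDefEq.respectTransparency.types false
set_option synthInstance.maxHeartbeats 400000
set_option autoImplicit false
set_option linter.unusedSectionVars false
set_option linter.style.haveILetI false
set_option linter.unusedSimpArgs false
universe u v w

namespace Groth.Agent.Lib.Helper4.CoinvSmooth1

open scoped BigOperators

section avg
variable {R : Type u} [CommRing R] {O : Type u} [CommRing O] [Algebra R O]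
  {G : Type v} [Group G] [Fintype G] [MulSemiringAction G O] [SMulCommClass G R O]
  {B : Type u} [CommRing B] [Algebra R B] (I : Ideal B) (hI : I ^ 2 = ⊥)
  (φ : O →ₐ[R] B) (hφ : ∀ (g : G) (x : O), φ (g • x) - φ x ∈ I)
  (u : Rˣ) (hu : (u : R) = (Fintype.card G : R))

/-- the averaged linear map -/
noncomputable def avgLin : O →ₗ[R] B :=
  (↑u⁻¹ : R) • ∑ g : G, φ.toLinearMap ∘ₗ (MulSemiringAction.toAlgHom R O g).toLinearMap

theorem avgLin_apply (x : O) :
    avgLin (G := G) φ u x = (↑u⁻¹ : R) • ∑ g : G, φ (g • x) := by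
  simp [avgLin, LinearMap.sum_apply]

include hu in
theorem inv_smul_card (b : B) : (↑u⁻¹ : R) • ((Fintype.card G : R) • b) = b := by
  rw [← hu, smul_smul, Units.inv_mul, one_smul]

include hI hφ hu in
theorem avgLin_mul (x y : O) :
    avgLin (G := G) φ u (x * y) = avgLin (G := G) φ u x * avgLin (G := G) φ u y := by
  -- write `φ (g • x) = φ x + d g x`
  set D : O → B := fun z => ∑ g : G, (φ (g • z) - φ z) with hD
  have hDmem : ∀ z, D z ∈ I := fun z => Ideal.sum_mem _ fun g _ => hφ g z
  have hsum : ∀ z, ∑ g : G, φ (g • z) = (Fintype.card G : R) • φ z + D z := by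
    intro z
    simp only [hD, Finset.sum_sub_distrib, Finset.sum_const, Finset.card_univ]
    rw [Nat.cast_smul_eq_nsmul]
    abel
  have havg : ∀ z, avgLin (G := G) φ u z = φ z + (↑u⁻¹ : R) • D z := by
    intro z
    rw [avgLin_apply, hsum, smul_add, inv_smul_card u hu]
  have hprod : ∀ a b : B, a ∈ I → b ∈ I → a * b = 0 := by
    intro a b ha hb
    have : a * b ∈ I ^ 2 := by rw [pow_two]; exact Ideal.mul_mem_mul ha hb
    rwa [hI, Ideal.mem_bot] at this
  have hDmul : D (x * y) = φ x * D y + D x * φ y := by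
    simp only [hD, Finset.mul_sum, Finset.sum_mul, ← Finset.sum_add_distrib]
    apply Finset.sum_congr rfl
    intro g _
    have h0 := hprod _ _ (hφ g x) (hφ g y)
    rw [smul_mul', map_mul, map_mul]
    linear_combination h0
  rw [havg, havg, havg, hDmul, map_mul]
  have h0 : ((↑u⁻¹ : R) • D x) * ((↑u⁻¹ : R) • D y) = 0 :=
    hprod _ _ (Submodule.smul_of_tower_mem I _ (hDmem x)) (Submodule.smul_of_tower_mem I _ (hDmem y))
  rw [smul_add, mul_add, add_mul, add_mul, h0]
  simp only [mul_smul_comm, smul_mul_assoc]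
  ring


include hu in
theorem avgLin_one : avgLin (G := G) φ u 1 = 1 := by
  rw [avgLin_apply]
  simp only [smul_one, map_one, Finset.sum_const, Finset.card_univ]
  rw [← Nat.cast_smul_eq_nsmul R, inv_smul_card u hu]

/-- averaged algebra hom -/
noncomputable def avgHom : O →ₐ[R] B :=
  AlgHom.ofLinearMap (avgLin (G := G) φ u) (avgLin_one φ u hu) (avgLin_mul I hI φ hφ u hu)

theorem avgHom_apply (x : O) :
    avgHom (G := G) I hI φ hφ u hu x = (↑u⁻¹ : R) • ∑ g : G, φ (g • x) := by
  simp [avgHom, avgLin_apply]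

theorem avgHom_smul (h : G) (x : O) :
    avgHom (G := G) I hI φ hφ u hu (h • x) = avgHom (G := G) I hI φ hφ u hu x := by
  rw [avgHom_apply, avgHom_apply]
  congr 1
  refine Fintype.sum_equiv (Equiv.mulRight h) _ _ fun g => ?_
  simp [mul_smul]

theorem mk_avgHom (x : O) :
    Ideal.Quotient.mk I (avgHom (G := G) I hI φ hφ u hu x) = Ideal.Quotient.mk I (φ x) := by
  rw [avgHom_apply]
  have h1 : ∀ g : G, Ideal.Quotient.mk I (φ (g • x)) = Ideal.Quotient.mk I (φ x) := by
    intro g
    rw [Ideal.Quotient.eq]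
    exact hφ g x
  have h2 : (Ideal.Quotient.mk I) ((↑u⁻¹ : R) • ∑ g : G, φ (g • x)) =
      (↑u⁻¹ : R) • ∑ g : G, (Ideal.Quotient.mk I) (φ (g • x)) := by
    rw [Algebra.smul_def, map_mul, map_sum, Algebra.smul_def]
    rfl
  rw [h2]
  simp only [h1, Finset.sum_const, Finset.card_univ]
  rw [← Nat.cast_smul_eq_nsmul R, inv_smul_card u hu]

end avg

theorem main (R : Type u) [CommRing R]
    (O : Type u) [CommRing O] [Algebra R O] [Algebra.FormallySmooth R O]
    (G : Type v) [Group G] [Finite G] [MulSemiringAction G O] [SMulCommClass G R O]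
    (hG : IsUnit (Nat.card G : R)) :
    Algebra.FormallySmooth R (O ⧸ Ideal.span {x : O | ∃ (g : G) (f : O), x = g • f - f}) := by
  classical
  haveI : Fintype G := Fintype.ofFinite G
  obtain ⟨u, hu⟩ := hG
  rw [Nat.card_eq_fintype_card] at hu
  set J : Ideal O := Ideal.span {x : O | ∃ (g : G) (f : O), x = g • f - f} with hJ
  refine Algebra.FormallySmooth.of_comp_surjective fun B _ _ I hI ψ => ?_
  obtain ⟨φ, hφ⟩ := Algebra.FormallySmooth.comp_surjective R O I hI
    (ψ.comp (Ideal.Quotient.mkₐ R J))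
  have hφ' : ∀ x : O, Ideal.Quotient.mk I (φ x) = ψ (Ideal.Quotient.mk J x) := fun x =>
    AlgHom.congr_fun hφ x
  have hinv : ∀ (g : G) (x : O), φ (g • x) - φ x ∈ I := by
    intro g x
    rw [← Ideal.Quotient.eq, hφ', hφ']
    congr 1
    rw [Ideal.Quotient.eq]
    exact Ideal.subset_span ⟨g, x, rfl⟩
  let χ : O →ₐ[R] B := avgHom (G := G) I hI φ hinv u hu
  have hχJ : ∀ a ∈ J, χ a = 0 := by
    intro a ha
    have : J ≤ RingHom.ker (χ : O →+* B) := by
      rw [hJ, Ideal.span_le]
      rintro _ ⟨g, f, rfl⟩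
      rw [SetLike.mem_coe, RingHom.mem_ker]
      change χ (g • f - f) = 0
      rw [map_sub, avgHom_smul, sub_self]
    exact this ha
  refine ⟨Ideal.Quotient.liftₐ J χ hχJ, ?_⟩
  refine Ideal.Quotient.algHom_ext _ ?_
  ext x
  change Ideal.Quotient.mk I (χ x) = ψ (Ideal.Quotient.mk J x)
  rw [← hφ']
  exact mk_avgHom I hI φ hinv u hu x

end Groth.Agent.Lib.Helper4.CoinvSmooth1
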