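import Mathlib

open CategoryTheory CategoryTheory.Limits

namespace Groth.Agent.Helper4.ColimHom

universe u v w
variable {A : Type u} [CommRing A] {J : Type v} [Category.{w} J] [IsFiltered J]
  (N : J ⥤ ModuleCat.{u} A) [HasColimit N] [PreservesColimit N (forget (ModuleCat.{u} A))]

theorem exists_map_eq_of_ι_eq {k : J} (x y : N.obj k)
    (h : colimit.ι N k x = colimit.ι N k y) :
    ∃ (l : J) (a : k ⟶ l), N.map a x = N.map a y := by
  obtain ⟨l, f, g, hfg⟩ := Concrete.colimit_exists_of_rep_eq N x y h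
  refine ⟨IsFiltered.coeq f g, f ≫ IsFiltered.coeqHom f g, ?_⟩
  have h1 : N.map (f ≫ IsFiltered.coeqHom f g) y = N.map (g ≫ IsFiltered.coeqHom f g) y := by
    rw [IsFiltered.coeq_condition]
  rw [h1, N.map_comp, N.map_comp]
  simp only [ModuleCat.hom_comp, LinearMap.comp_apply]
  exact congrArg _ hfg

theorem exists_map_eq_on_finset {M : ModuleCat.{u} A} {k : J} (φ ψ : M ⟶ N.obj k)
    (h : φ ≫ colimit.ι N k = ψ ≫ colimit.ι N k) (S : Finset M) :
    ∃ (l : J) (a : k ⟶ l), ∀ m ∈ S, N.map a (φ m) = N.map a (ψ m) := by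
  classical
  induction S using Finset.induction_on with
  | empty => exact ⟨k, 𝟙 k, fun m hm => absurd hm (Finset.notMem_empty m)⟩
  | insert m S hm ih =>
    obtain ⟨l₁, a₁, h₁⟩ := ih
    have hm' : colimit.ι N k (φ m) = colimit.ι N k (ψ m) := by
      have := congrArg (fun χ : M ⟶ colimit N => χ m) h
      simpa using this
    obtain ⟨l₂, a₂, h₂⟩ := exists_map_eq_of_ι_eq N _ _ hm'
    obtain ⟨l, b₁, b₂, hb⟩ := IsFiltered.span a₁ a₂
    refine ⟨l, a₁ ≫ b₁, fun m' hm' => ?_⟩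
    rw [Finset.mem_insert] at hm'
    rcases hm' with rfl | hm'
    · rw [hb, N.map_comp]
      simp only [ModuleCat.hom_comp, LinearMap.comp_apply]
      exact congrArg _ h₂
    · rw [N.map_comp]
      simp only [ModuleCat.hom_comp, LinearMap.comp_apply]
      exact congrArg _ (h₁ m' hm')

theorem exists_comp_map_eq {M : ModuleCat.{u} A} [Module.Finite A M] {k : J} (φ ψ : M ⟶ N.obj k)
    (h : φ ≫ colimit.ι N k = ψ ≫ colimit.ι N k) :
    ∃ (l : J) (a : k ⟶ l), φ ≫ N.map a = ψ ≫ N.map a := by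
  obtain ⟨S, hS⟩ := (Module.Finite.fg_top : (⊤ : Submodule A M).FG)
  obtain ⟨l, a, ha⟩ := exists_map_eq_on_finset N φ ψ h S
  refine ⟨l, a, ?_⟩
  ext1
  apply LinearMap.ext_on hS
  intro m hm
  simp only [ModuleCat.hom_comp, LinearMap.comp_apply]
  exact ha m hm

end Groth.Agent.Helper4.ColimHom
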