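import Mathlib
import Groth.Agent.Lib.Helper4.ColimHom1

open CategoryTheory CategoryTheory.Limits

namespace Groth.Agent.Helper4.ColimHom

universe u v w
variable {A : Type u} [CommRing A] {J : Type v} [Category.{w} J] [IsFiltered J]
  (N : J ⥤ ModuleCat.{u} A) [HasColimit N] [PreservesColimit N (forget (ModuleCat.{u} A))]

theorem ι_map_apply {i k : J} (b : i ⟶ k) (x : N.obj i) :
    colimit.ι N k (N.map b x) = colimit.ι N i x := by
  have := congrArg (fun χ : N.obj i ⟶ colimit N => χ x) (colimit.w N b)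
  simpa using this

theorem exists_map_eq_zero_on_finset {k : J} (S : Finset (N.obj k))
    (h : ∀ x ∈ S, colimit.ι N k x = 0) :
    ∃ (l : J) (a : k ⟶ l), ∀ x ∈ S, N.map a x = 0 := by
  classical
  induction S using Finset.induction_on with
  | empty => exact ⟨k, 𝟙 k, fun m hm => absurd hm (Finset.notMem_empty m)⟩
  | insert m S hm ih =>
    obtain ⟨l₁, a₁, h₁⟩ := ih (fun x hx => h x (Finset.mem_insert_of_mem hx))
    have hm' : colimit.ι N k m = colimit.ι N k 0 := by
      rw [h m (Finset.mem_insert_self m S), map_zero]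
    obtain ⟨l₂, a₂, h₂⟩ := exists_map_eq_of_ι_eq N _ _ hm'
    rw [map_zero] at h₂
    obtain ⟨l, b₁, b₂, hb⟩ := IsFiltered.span a₁ a₂
    refine ⟨l, a₁ ≫ b₁, fun m' hm' => ?_⟩
    rw [Finset.mem_insert] at hm'
    rcases hm' with rfl | hm'
    · rw [hb, N.map_comp]
      simp only [ModuleCat.hom_comp, LinearMap.comp_apply]
      rw [h₂, map_zero]
    · rw [N.map_comp]
      simp only [ModuleCat.hom_comp, LinearMap.comp_apply]
      rw [h₁ m' hm', map_zero]

theorem exists_factor {M : ModuleCat.{u} A} [Module.FinitePresentation A M]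
    (χ : M ⟶ colimit N) : ∃ (k : J) (φ : M ⟶ N.obj k), φ ≫ colimit.ι N k = χ := by
  classical
  obtain ⟨n, m, f, g, hf, hex⟩ := Module.FinitePresentation.exists_fin' A M
  have hrep : ∀ a : Fin n, ∃ (j : J) (y : N.obj j),
      colimit.ι N j y = χ (f (Pi.single a 1)) := fun a => Concrete.colimit_exists_rep N _
  choose j y hy using hrep
  obtain ⟨k, hk⟩ := IsFiltered.sup_objs_exists (Finset.univ.image j)
  have hk' : ∀ a, Nonempty (j a ⟶ k) := fun a => hk (Finset.mem_image_of_mem j (Finset.mem_univ a))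
  let b : ∀ a, j a ⟶ k := fun a => (hk' a).some
  let nn : Fin n → N.obj k := fun a => N.map (b a) (y a)
  have hnn : ∀ a, colimit.ι N k (nn a) = χ (f (Pi.single a 1)) := fun a => by
    rw [ι_map_apply, hy]
  let φ₀ : (Fin n → A) →ₗ[A] N.obj k := (Pi.basisFun A (Fin n)).constr A nn
  have hφ₀ : ∀ a, φ₀ (Pi.single a 1) = nn a := fun a => by
    have h := (Pi.basisFun A (Fin n)).constr_basis A nn a
    rw [Pi.basisFun_apply] at h
    exact h
  have h₀ : (colimit.ι N k).hom ∘ₗ φ₀ = χ.hom ∘ₗ f := by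
    apply (Pi.basisFun A (Fin n)).ext
    intro a
    simp only [Pi.basisFun_apply, LinearMap.comp_apply]
    rw [hφ₀]
    exact hnn a
  have h₀' : ∀ v, colimit.ι N k (φ₀ v) = χ (f v) := fun v => LinearMap.congr_fun h₀ v
  -- relations
  let T : Finset (N.obj k) := Finset.univ.image (fun c : Fin m => φ₀ (g (Pi.single c 1)))
  have hT : ∀ x ∈ T, colimit.ι N k x = 0 := by
    intro x hx
    obtain ⟨c, -, rfl⟩ := Finset.mem_image.1 hx
    rw [h₀']
    have : f (g (Pi.single c 1)) = 0 := hex.apply_apply_eq_zero _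
    rw [this, map_zero]
  obtain ⟨l, a, ha⟩ := exists_map_eq_zero_on_finset N T hT
  let φ₁ : (Fin n → A) →ₗ[A] N.obj l := (N.map a).hom ∘ₗ φ₀
  have hφ₁g : φ₁ ∘ₗ g = 0 := by
    apply (Pi.basisFun A (Fin m)).ext
    intro c
    simp only [Pi.basisFun_apply, LinearMap.comp_apply, LinearMap.zero_apply, φ₁]
    exact ha _ (Finset.mem_image_of_mem _ (Finset.mem_univ c))
  have hker : LinearMap.ker f ≤ LinearMap.ker φ₁ := by
    intro v hv
    obtain ⟨w, rfl⟩ := (hex v).1 hv
    exact LinearMap.congr_fun hφ₁g w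
  let e := f.quotKerEquivOfSurjective hf
  let φ' : M →ₗ[A] N.obj l := (LinearMap.ker f).liftQ φ₁ hker ∘ₗ e.symm.toLinearMap
  have hφ' : ∀ v, φ' (f v) = φ₁ v := by
    intro v
    have h1 : e.symm (f v) = Submodule.Quotient.mk v := by
      rw [LinearEquiv.symm_apply_eq]
      rfl
    simp only [φ', LinearMap.comp_apply, LinearEquiv.coe_coe, h1, Submodule.liftQ_apply]
  refine ⟨l, ModuleCat.ofHom φ', ?_⟩
  ext1
  apply LinearMap.ext
  intro x
  obtain ⟨v, rfl⟩ := hf x
  simp only [ModuleCat.hom_comp, ModuleCat.hom_ofHom, LinearMap.comp_apply, hφ']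
  show colimit.ι N l (N.map a (φ₀ v)) = χ (f v)
  rw [ι_map_apply, h₀']

end Groth.Agent.Helper4.ColimHom
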