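import Mathlib

/-!
# Common basic open for two open immersions into affine schemes (helper4)
-/

set_option backward.isDefEq.respectTransparency.types false
set_option synthInstance.maxHeartbeats 400000
set_option autoImplicit false
set_option linter.unusedSectionVars false
set_option linter.style.haveILetI false
set_option linter.unusedSimpArgs false
universe u v w
open AlgebraicGeometry TopologicalSpace CategoryTheory

namespace Groth.Agent.Lib.Helper4.CommonBasicOpen1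

open AlgebraicGeometry TopologicalSpace CategoryTheory

theorem basicOpen_of_eq {U : Scheme.{u}} [IsAffine U] (f₁ : Γ(U, ⊤)) (O : U.Opens)
    (hO : O = U.basicOpen f₁) (h : Γ(U, O)) : ∃ f : Γ(U, ⊤), U.basicOpen f = U.basicOpen h := by
  subst hO
  exact (isAffineOpen_top U).basicOpen_basicOpen_is_basicOpen f₁ h

theorem lemmaA {U W : Scheme.{u}} [IsAffine U] (i : W ⟶ U) [IsOpenImmersion i]
    (W₁ : W.Opens) (f₁ : Γ(U, ⊤)) (h₁ : i ''ᵁ W₁ = U.basicOpen f₁) (a : Γ(W, W₁)) :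
    ∃ f : Γ(U, ⊤), i ''ᵁ (W.basicOpen a) = U.basicOpen f := by
  rw [Scheme.image_basicOpen]
  obtain ⟨f, hf⟩ := basicOpen_of_eq f₁ _ h₁ ((i.appIso W₁).inv a)
  exact ⟨f, hf.symm⟩

theorem exists_preimage {U W : Scheme.{u}} [IsAffine U] (i : W ⟶ U) [IsOpenImmersion i] (w : W) :
    ∃ (W₁ : W.Opens) (f₁ : Γ(U, ⊤)), IsAffineOpen W₁ ∧ w ∈ W₁ ∧ i ''ᵁ W₁ = U.basicOpen f₁ := by
  obtain ⟨f₁, hf₁, hwf₁⟩ := (isAffineOpen_top U).exists_basicOpen_le
    (V := i.opensRange) ⟨i w, ⟨w, rfl⟩⟩ trivial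
  refine ⟨i ⁻¹ᵁ U.basicOpen f₁, f₁, ?_, hwf₁, ?_⟩
  · exact ((isAffineOpen_top U).basicOpen f₁).preimage_of_isOpenImmersion i hf₁
  · rw [i.image_preimage_eq_opensRange_inf, inf_eq_right.mpr hf₁]

theorem main {U V W : Scheme.{u}} [IsAffine U]
    [IsAffine V] (i : W ⟶ U) (j : W ⟶ V) [IsOpenImmersion i] [IsOpenImmersion j] (w : W) :
    ∃ (W' : W.Opens) (f : Γ(U, ⊤)) (g : Γ(V, ⊤)), w ∈ W' ∧ i ''ᵁ W' = U.basicOpen f ∧
      j ''ᵁ W' = V.basicOpen g := by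
  obtain ⟨W₁, f₁, hW₁, hw₁, hi₁⟩ := exists_preimage i w
  obtain ⟨W₂, g₁, hW₂, hw₂, hj₁⟩ := exists_preimage j w
  obtain ⟨a, b, hab, hwa⟩ := exists_basicOpen_le_affine_inter hW₁ hW₂ w ⟨hw₁, hw₂⟩
  obtain ⟨f, hf⟩ := lemmaA i W₁ f₁ hi₁ a
  obtain ⟨g, hg⟩ := lemmaA j W₂ g₁ hj₁ b
  exact ⟨W.basicOpen a, f, g, hwa, hf, by rw [hab]; exact hg⟩

end Groth.Agent.Lib.Helper4.CommonBasicOpen1
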