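import Mathlib
import Groth.Prelude.Def_HopfRep
import Groth.Agent.Lib.Helper4.Comod

/-!
Decomposition of comodules along a direct-sum decomposition of the coalgebra into subcoalgebras
(over an arbitrary commutative ring).
-/

universe u v w w'

open TensorProduct HopfRep

namespace Groth.Agent.Helper4.Comod

section Slices
variable {k : Type u} {C : Type v} [CommRing k] [AddCommGroup C] [Module k C]
variable {V : Type w} [AddCommGroup V] [Module k V]

lemma sl_comp_lTensor {C' : Type*} [AddCommGroup C'] [Module k C'] (l : C' →ₗ[k] k)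
    (g : C →ₗ[k] C') (x : V ⊗[k] C) : sl V l (g.lTensor V x) = sl V (l ∘ₗ g) x := by
  induction x using TensorProduct.induction_on with
  | zero => simp
  | tmul v c => simp
  | add x y hx hy => simp only [map_add, hx, hy]

lemma sl_assoc_symm_tmul (l : C →ₗ[k] k) (v : V) (t : C ⊗[k] C) :
    sl (V ⊗[k] C) l ((TensorProduct.assoc k V C C).symm (v ⊗ₜ[k] t)) = v ⊗ₜ[k] sl C l t := by
  induction t using TensorProduct.induction_on with
  | zero => simp
  | tmul c c' => simp [TensorProduct.tmul_smul]
  | add x y hx hy => simp only [TensorProduct.tmul_add, map_add, hx, hy]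

lemma sl_assoc_symm_lTensor (l : C →ₗ[k] k) (g : C →ₗ[k] C ⊗[k] C) (x : V ⊗[k] C) :
    sl (V ⊗[k] C) l ((TensorProduct.assoc k V C C).symm (g.lTensor V x)) =
      (sl C l ∘ₗ g).lTensor V x := by
  induction x using TensorProduct.induction_on with
  | zero => simp
  | tmul v c => simp [sl_assoc_symm_tmul]
  | add x y hx hy => simp only [map_add, hx, hy]

lemma rTensor_sl_assoc_symm_tmul (l : C →ₗ[k] k) (v : V) (t : C ⊗[k] C) :
    (sl V l).rTensor C ((TensorProduct.assoc k V C C).symm (v ⊗ₜ[k] t)) =
      v ⊗ₜ[k] (TensorProduct.lid k C (l.rTensor C t)) := by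
  induction t using TensorProduct.induction_on with
  | zero => simp
  | tmul c c' => simp [TensorProduct.smul_tmul]
  | add x y hx hy => simp only [TensorProduct.tmul_add, map_add, hx, hy]

lemma rTensor_sl_assoc_symm_lTensor (l : C →ₗ[k] k) (g : C →ₗ[k] C ⊗[k] C) (x : V ⊗[k] C) :
    (sl V l).rTensor C ((TensorProduct.assoc k V C C).symm (g.lTensor V x)) =
      ((TensorProduct.lid k C).toLinearMap ∘ₗ l.rTensor C ∘ₗ g).lTensor V x := by
  induction x using TensorProduct.induction_on with
  | zero => simp
  | tmul v c => simp [rTensor_sl_assoc_symm_tmul]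
  | add x y hx hy => simp only [map_add, hx, hy]

end Slices

section Proj
variable {k : Type u} {C : Type v} [CommRing k] [AddCommGroup C] [Module k C] [Coalgebra k C]
variable {V : Type w} [AddCommGroup V] [Module k V] [Comod k C V]

lemma coact_injective' : Function.Injective (Comod.coact (k := k) (A := C) (V := V)) := by
  intro v w h
  have h1 := act_counit (k := k) (C := C) v
  have h2 := act_counit (k := k) (C := C) w
  rw [act_apply] at h1 h2
  rw [← h1, ← h2, h]

lemma rTensor_coact_coact (v : V) :
    (Comod.coact (k := k) (A := C) (V := V)).rTensor C (Comod.coact (k := k) (A := C) v) =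
      (TensorProduct.assoc k V C C).symm
        ((Coalgebra.comul (R := k) (A := C)).lTensor V (Comod.coact (k := k) (A := C) v)) := by
  have h := congrArg (fun F => F v) (Comod.coassoc (k := k) (A := C) (V := V))
  simp only [LinearMap.comp_apply, LinearEquiv.coe_coe] at h
  rw [← h, LinearEquiv.symm_apply_apply]

variable (π : C →ₗ[k] C)

/-- `(id ⊗ ε π) Δ = π` when `Δ π = (id ⊗ π) Δ` -/
lemma sl_counit_comp_comul
    (h2 : Coalgebra.comul (R := k) (A := C) ∘ₗ π = π.lTensor C ∘ₗ Coalgebra.comul (R := k) (A := C)) :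
    sl C (Coalgebra.counit (R := k) (A := C) ∘ₗ π) ∘ₗ Coalgebra.comul (R := k) (A := C) = π := by
  ext c
  simp only [LinearMap.comp_apply]
  rw [← sl_comp_lTensor, ← LinearMap.comp_apply (π.lTensor C), ← h2, LinearMap.comp_apply]
  have := Coalgebra.lTensor_counit_comul (R := k) (π c)
  rw [sl, LinearMap.comp_apply, this]
  simp

/-- `(ε π ⊗ id) Δ = π` when `Δ π = (π ⊗ id) Δ` -/
lemma lid_counit_comp_comul
    (h1 : Coalgebra.comul (R := k) (A := C) ∘ₗ π = π.rTensor C ∘ₗ Coalgebra.comul (R := k) (A := C)) :
    (TensorProduct.lid k C).toLinearMap ∘ₗ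
      (Coalgebra.counit (R := k) (A := C) ∘ₗ π).rTensor C ∘ₗ Coalgebra.comul (R := k) (A := C) = π := by
  ext c
  simp only [LinearMap.comp_apply, LinearEquiv.coe_coe]
  rw [LinearMap.rTensor_comp, LinearMap.comp_apply, ← LinearMap.comp_apply (π.rTensor C), ← h1,
    LinearMap.comp_apply]
  have := Coalgebra.rTensor_counit_comul (R := k) (π c)
  rw [this]
  simp

/-- `ρ (p v) = (id ⊗ π) (ρ v)` for `p = act (ε π)` -/
theorem coact_act_counit_comp
    (h2 : Coalgebra.comul (R := k) (A := C) ∘ₗ π = π.lTensor C ∘ₗ Coalgebra.comul (R := k) (A := C))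
    (v : V) :
    Comod.coact (k := k) (A := C) (act V (Coalgebra.counit (R := k) (A := C) ∘ₗ π) v) =
      π.lTensor V (Comod.coact (k := k) (A := C) v) := by
  rw [act_apply, ← sl_rTensor, rTensor_coact_coact, sl_assoc_symm_lTensor, sl_counit_comp_comul π h2]

/-- `(p ⊗ id) (ρ v) = (id ⊗ π) (ρ v)` for `p = act (ε π)` -/
theorem rTensor_act_counit_comp
    (h1 : Coalgebra.comul (R := k) (A := C) ∘ₗ π = π.rTensor C ∘ₗ Coalgebra.comul (R := k) (A := C))
    (v : V) :
    (act V (Coalgebra.counit (R := k) (A := C) ∘ₗ π)).rTensor C (Comod.coact (k := k) (A := C) v) =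
      π.lTensor V (Comod.coact (k := k) (A := C) v) := by
  rw [act, LinearMap.rTensor_comp, LinearMap.comp_apply, rTensor_coact_coact,
    rTensor_sl_assoc_symm_lTensor, lid_counit_comp_comul π h1]

end Proj

section Decomp
variable {k : Type u} {C : Type v} [CommRing k] [AddCommGroup C] [Module k C]
variable {ι : Type w} (D : ι → Submodule k C) (hind : iSupIndep D) (htop : iSup D = ⊤)

open Classical in
/-- the projection of `C = ⨁ D i` onto `D i` -/
noncomputable def proj (i : ι) : C →ₗ[k] D i :=
  letI := (DirectSum.isInternal_submodule_of_iSupIndep_of_iSup_eq_top hind htop).chooseDecomposition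
  DirectSum.component k ι (fun i => D i) i ∘ₗ (DirectSum.decomposeLinearEquiv D).toLinearMap

lemma proj_of_mem_same {i : ι} {x : C} (hx : x ∈ D i) : (proj D hind htop i x : C) = x := by
  classical
  letI := (DirectSum.isInternal_submodule_of_iSupIndep_of_iSup_eq_top hind htop).chooseDecomposition
  exact DirectSum.decompose_of_mem_same D hx

lemma proj_of_mem_ne {i j : ι} {x : C} (hx : x ∈ D j) (hij : j ≠ i) :
    proj D hind htop i x = 0 := by
  classical
  letI := (DirectSum.isInternal_submodule_of_iSupIndep_of_iSup_eq_top hind htop).chooseDecomposition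
  exact Subtype.ext (DirectSum.decompose_of_mem_ne D hx hij)

/-- the idempotent endomorphism of `C` with image `D i` -/
noncomputable def π (i : ι) : C →ₗ[k] C := (D i).subtype ∘ₗ proj D hind htop i

lemma π_comp_subtype_same (i : ι) : π D hind htop i ∘ₗ (D i).subtype = (D i).subtype := by
  ext x
  exact proj_of_mem_same D hind htop x.2

lemma π_comp_subtype_ne {i j : ι} (hij : j ≠ i) : π D hind htop i ∘ₗ (D j).subtype = 0 := by
  ext x
  simp only [π, LinearMap.comp_apply, Submodule.subtype_apply, LinearMap.zero_apply]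
  rw [proj_of_mem_ne D hind htop x.2 hij]
  rfl

include htop in
/-- two linear maps agreeing on all `D j` are equal -/
lemma ext_of_iSup_eq_top {N : Type*} [AddCommGroup N] [Module k N] (f g : C →ₗ[k] N)
    (h : ∀ j, f ∘ₗ (D j).subtype = g ∘ₗ (D j).subtype) : f = g := by
  have hle : iSup D ≤ LinearMap.eqLocus f g := by
    refine iSup_le fun j x hx => ?_
    exact LinearMap.congr_fun (h j) ⟨x, hx⟩
  rw [htop] at hle
  ext c
  exact hle (Submodule.mem_top (x := c))

variable [Coalgebra k C]
variable (hD : ∀ i, ∀ d ∈ D i, CoalgebraStruct.comul (R := k) d ∈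
      LinearMap.range (TensorProduct.map (D i).subtype (D i).subtype))
include hD

lemma comul_comp_π_rTensor (i : ι) :
    Coalgebra.comul (R := k) (A := C) ∘ₗ π D hind htop i =
      (π D hind htop i).rTensor C ∘ₗ Coalgebra.comul (R := k) (A := C) := by
  classical
  apply ext_of_iSup_eq_top D htop
  intro j
  ext x
  simp only [LinearMap.comp_apply, Submodule.subtype_apply]
  obtain ⟨z, hz⟩ := hD j x x.2
  change _ = (π D hind htop i).rTensor C (CoalgebraStruct.comul (R := k) (x : C))
  rw [← hz]
  by_cases hij : j = i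
  · subst hij
    have h1 : π D hind htop j (x : C) = x := proj_of_mem_same D hind htop x.2
    rw [h1]
    change CoalgebraStruct.comul (R := k) (x : C) = _
    rw [← hz, LinearMap.rTensor, ← LinearMap.comp_apply, ← TensorProduct.map_comp,
      π_comp_subtype_same, LinearMap.id_comp]
  · have h1 : π D hind htop i (x : C) = 0 := by
      have := LinearMap.congr_fun (π_comp_subtype_ne D hind htop hij) x
      simpa using this
    rw [h1, map_zero, LinearMap.rTensor, ← LinearMap.comp_apply, ← TensorProduct.map_comp,
      π_comp_subtype_ne D hind htop hij, TensorProduct.map_zero_left, LinearMap.zero_apply]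

lemma comul_comp_π_lTensor (i : ι) :
    Coalgebra.comul (R := k) (A := C) ∘ₗ π D hind htop i =
      (π D hind htop i).lTensor C ∘ₗ Coalgebra.comul (R := k) (A := C) := by
  classical
  apply ext_of_iSup_eq_top D htop
  intro j
  ext x
  simp only [LinearMap.comp_apply, Submodule.subtype_apply]
  obtain ⟨z, hz⟩ := hD j x x.2
  change _ = (π D hind htop i).lTensor C (CoalgebraStruct.comul (R := k) (x : C))
  rw [← hz]
  by_cases hij : j = i
  · subst hij
    have h1 : π D hind htop j (x : C) = x := proj_of_mem_same D hind htop x.2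
    rw [h1]
    change CoalgebraStruct.comul (R := k) (x : C) = _
    rw [← hz, LinearMap.lTensor, ← LinearMap.comp_apply, ← TensorProduct.map_comp,
      π_comp_subtype_same, LinearMap.id_comp]
  · have h1 : π D hind htop i (x : C) = 0 := by
      have := LinearMap.congr_fun (π_comp_subtype_ne D hind htop hij) x
      simpa using this
    rw [h1, map_zero, LinearMap.lTensor, ← LinearMap.comp_apply, ← TensorProduct.map_comp,
      π_comp_subtype_ne D hind htop hij, TensorProduct.map_zero_right, LinearMap.zero_apply]

end Decomp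

section Main
variable {k : Type u} {C : Type v} [CommRing k] [AddCommGroup C] [Module k C] [Coalgebra k C]
variable {ι : Type w} (D : ι → Submodule k C) (hind : iSupIndep D) (htop : iSup D = ⊤)
variable (hD : ∀ i, ∀ d ∈ D i, CoalgebraStruct.comul (R := k) d ∈
      LinearMap.range (TensorProduct.map (D i).subtype (D i).subtype))
variable (V : Type w') [AddCommGroup V] [Module k V] [Comod k C V]

/-- the `D i`-component of the comodule `V` -/
def comp (i : ι) : Submodule k V :=
  (LinearMap.range (LinearMap.lTensor V (D i).subtype)).comap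
    (Comod.coact (k := k) (A := C) (V := V))

/-- the projection of `V` onto its `D i`-component -/
noncomputable def p (i : ι) : V →ₗ[k] V :=
  act V (Coalgebra.counit (R := k) (A := C) ∘ₗ π D hind htop i)

include hind htop hD

lemma coact_p (i : ι) (v : V) :
    Comod.coact (k := k) (A := C) (p D hind htop V i v) =
      (π D hind htop i).lTensor V (Comod.coact (k := k) (A := C) v) :=
  coact_act_counit_comp _ (comul_comp_π_lTensor D hind htop hD i) v

lemma rTensor_p (i : ι) (v : V) :
    (p D hind htop V i).rTensor C (Comod.coact (k := k) (A := C) v) =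
      (π D hind htop i).lTensor V (Comod.coact (k := k) (A := C) v) :=
  rTensor_act_counit_comp _ (comul_comp_π_rTensor D hind htop hD i) v

lemma p_mem (i : ι) (v : V) : p D hind htop V i v ∈ comp D V i := by
  change Comod.coact (k := k) (A := C) (p D hind htop V i v) ∈
    LinearMap.range (LinearMap.lTensor V (D i).subtype)
  rw [coact_p D hind htop hD, π, LinearMap.lTensor_comp, LinearMap.comp_apply]
  exact ⟨_, rfl⟩

lemma p_of_mem {i : ι} {v : V} (hv : v ∈ comp D V i) : p D hind htop V i v = v := by
  apply coact_injective' (k := k) (C := C)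
  rw [coact_p D hind htop hD]
  obtain ⟨z, hz⟩ := hv
  rw [← hz, ← LinearMap.comp_apply, ← LinearMap.lTensor_comp, π_comp_subtype_same]

lemma p_of_mem_ne {i j : ι} (hij : j ≠ i) {v : V} (hv : v ∈ comp D V j) :
    p D hind htop V i v = 0 := by
  apply coact_injective' (k := k) (C := C)
  rw [coact_p D hind htop hD, map_zero]
  obtain ⟨z, hz⟩ := hv
  rw [← hz, ← LinearMap.comp_apply, ← LinearMap.lTensor_comp, π_comp_subtype_ne D hind htop hij,
    LinearMap.lTensor_zero, LinearMap.zero_apply]

theorem isSubcomod_comp (i : ι) : IsSubcomod (k := k) (A := C) (comp D V i) := by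
  intro v hv
  have h1 : Comod.coact (k := k) (A := C) v =
      (p D hind htop V i).rTensor C (Comod.coact (k := k) (A := C) v) := by
    rw [rTensor_p D hind htop hD, ← coact_p D hind htop hD, p_of_mem D hind htop hD V hv]
  have hfac : p D hind htop V i = (comp D V i).subtype ∘ₗ
      (p D hind htop V i).codRestrict (comp D V i) (p_mem D hind htop hD V i) := by
    ext v; rfl
  rw [h1, hfac, LinearMap.rTensor_comp, LinearMap.comp_apply]
  exact ⟨_, rfl⟩

theorem iSupIndep_comp : iSupIndep (comp D V) := by
  intro i
  rw [Submodule.disjoint_def]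
  intro x hx hx'
  rw [← p_of_mem D hind htop hD V hx]
  have hle : (⨆ j, ⨆ (_ : j ≠ i), comp D V j) ≤ LinearMap.ker (p D hind htop V i) := by
    refine iSup_le fun j => iSup_le fun hj => ?_
    intro y hy
    exact p_of_mem_ne D hind htop hD V hj hy
  exact hle hx'

omit hD in
lemma exists_finset_sum_π (c : C) :
    ∃ S₀ : Finset ι, ∀ S : Finset ι, S₀ ⊆ S → ∑ i ∈ S, π D hind htop i c = c := by
  classical
  have hc : c ∈ iSup D := by rw [htop]; trivial
  refine Submodule.iSup_induction D (motive := fun c => ∃ S₀ : Finset ι, ∀ S : Finset ι,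
    S₀ ⊆ S → ∑ i ∈ S, π D hind htop i c = c) hc ?_ ?_ ?_
  · intro j x hx
    refine ⟨{j}, fun S hS => ?_⟩
    rw [Finset.sum_eq_single j]
    · exact proj_of_mem_same D hind htop hx
    · intro i _ hij
      have := LinearMap.congr_fun (π_comp_subtype_ne D hind htop (Ne.symm hij)) ⟨x, hx⟩
      simpa using this
    · intro hj
      exact absurd (hS (Finset.mem_singleton_self j)) hj
  · exact ⟨∅, fun S _ => by simp⟩
  · rintro x y ⟨S₁, h₁⟩ ⟨S₂, h₂⟩
    refine ⟨S₁ ∪ S₂, fun S hS => ?_⟩
    simp only [map_add, Finset.sum_add_distrib]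
    rw [h₁ S (Finset.union_subset_left hS), h₂ S (Finset.union_subset_right hS)]

omit hD in
lemma exists_finset_sum_lTensor_π (x : V ⊗[k] C) :
    ∃ S₀ : Finset ι, ∀ S : Finset ι, S₀ ⊆ S →
      ∑ i ∈ S, (π D hind htop i).lTensor V x = x := by
  classical
  induction x using TensorProduct.induction_on with
  | zero => exact ⟨∅, fun S _ => by simp⟩
  | tmul v c =>
    obtain ⟨S₀, h⟩ := exists_finset_sum_π D hind htop c
    refine ⟨S₀, fun S hS => ?_⟩
    simp only [LinearMap.lTensor_tmul]
    rw [← TensorProduct.tmul_sum, h S hS]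
  | add x y hx hy =>
    obtain ⟨S₁, h₁⟩ := hx
    obtain ⟨S₂, h₂⟩ := hy
    refine ⟨S₁ ∪ S₂, fun S hS => ?_⟩
    simp only [map_add, Finset.sum_add_distrib]
    rw [h₁ S (Finset.union_subset_left hS), h₂ S (Finset.union_subset_right hS)]

theorem iSup_comp : (⨆ i, comp D V i) = ⊤ := by
  classical
  rw [eq_top_iff]
  intro v _
  obtain ⟨S, hS⟩ := exists_finset_sum_lTensor_π D hind htop V (Comod.coact (k := k) (A := C) v)
  have h1 := act_counit (k := k) (C := C) v
  rw [act_apply, ← hS S (Finset.Subset.refl S), map_sum] at h1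
  rw [← h1]
  refine Submodule.sum_mem _ fun i _ => ?_
  rw [sl_comp_lTensor]
  exact Submodule.mem_iSup_of_mem i (p_mem D hind htop hD V i v)

theorem coact_mem_map_comp (i : ι) (v : V) (hv : v ∈ comp D V i) :
    Comod.coact (k := k) (A := C) v ∈
      LinearMap.range (TensorProduct.map (comp D V i).subtype (D i).subtype) := by
  have h1 : Comod.coact (k := k) (A := C) v =
      (π D hind htop i).lTensor V (Comod.coact (k := k) (A := C) v) := by
    rw [← coact_p D hind htop hD, p_of_mem D hind htop hD V hv]
  have h2 : Comod.coact (k := k) (A := C) v =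
      (p D hind htop V i).rTensor C (Comod.coact (k := k) (A := C) v) := by
    rw [rTensor_p D hind htop hD, ← h1]
  have hfac : p D hind htop V i = (comp D V i).subtype ∘ₗ
      (p D hind htop V i).codRestrict (comp D V i) (p_mem D hind htop hD V i) := by
    ext v; rfl
  have h3 : Comod.coact (k := k) (A := C) v =
      TensorProduct.map (p D hind htop V i) (π D hind htop i) (Comod.coact (k := k) (A := C) v) := by
    conv_lhs => rw [h1, h2]
    rw [← LinearMap.comp_apply, LinearMap.lTensor_comp_rTensor]
  rw [h3, hfac, π, TensorProduct.map_comp, LinearMap.comp_apply]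
  exact ⟨_, rfl⟩

end Main

end Groth.Agent.Helper4.Comod
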