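import Mathlib
import Groth.Agent.Lib.Helper4.Comod

/-!
# Isotypic components of comodules via the dual algebra
-/

set_option linter.unusedSectionVars false

namespace Groth.Agent.Helper4.Comod

open TensorProduct HopfRep

universe u v w w'

variable {k : Type u} {C : Type v} [Field k] [AddCommGroup C] [Module k C] [Coalgebra k C]
variable {V : Type w} [AddCommGroup V] [Module k V] [Comod k C V]
variable {S : Type w'} [AddCommGroup S] [Module k S] [Comod k C S]

attribute [local instance] dualModule

variable (k C V S) in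
/-- The sum of the images of all comodule maps `S → V`, as a submodule over the dual algebra. -/
noncomputable def isoComp : Submodule (Dual k C) V :=
  ⨆ f : {f : S →ₗ[k] V // Hoch.IsComodHom C f}, LinearMap.range (toDualLinear (C := C) f.1 f.2)

lemma restrictScalars_isoComp :
    (isoComp k C V S).restrictScalars k =
      ⨆ f : {f : S →ₗ[k] V // Hoch.IsComodHom C f}, LinearMap.range f.1 := by
  rw [isoComp, Submodule.restrictScalars_iSup]
  rfl

lemma range_le_isoComp (F : S →ₗ[Dual k C] V) : LinearMap.range F ≤ isoComp k C V S := by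
  have h := isComodHom_restrictScalars (C := C) F
  refine le_trans ?_ (le_iSup _ ⟨F.restrictScalars k, h⟩)
  rintro _ ⟨s, rfl⟩
  exact ⟨s, rfl⟩

lemma isoComp_eq_bot_or (hS : IsSimpleModule (Dual k C) S) :
    isoComp k C V S = ⊥ ∨ ∃ N : Submodule (Dual k C) V, IsSimpleModule (Dual k C) N ∧
      Nonempty (S ≃ₗ[Dual k C] N) ∧ isoComp k C V S = isotypicComponent (Dual k C) V N := by
  by_cases h0 : ∀ f : {f : S →ₗ[k] V // Hoch.IsComodHom C f}, f.1 = 0
  · left
    rw [isoComp]
    apply le_antisymm _ bot_le
    apply iSup_le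
    intro f
    rintro _ ⟨s, rfl⟩
    have := congrArg (fun T => T s) (h0 f)
    simpa using this
  · right
    push Not at h0
    obtain ⟨⟨f, hf⟩, hf0⟩ := h0
    set F := toDualLinear (C := C) f hf
    have hF0 : F ≠ 0 := by
      intro h
      apply hf0
      ext s
      exact congrArg (fun T => T s) h
    have hFinj : Function.Injective F := LinearMap.injective_of_ne_zero hF0
    set e : S ≃ₗ[Dual k C] LinearMap.range F := LinearEquiv.ofInjective F hFinj
    have hNs : IsSimpleModule (Dual k C) (LinearMap.range F) := IsSimpleModule.congr e.symm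
    refine ⟨LinearMap.range F, hNs, ⟨e⟩, ?_⟩
    apply le_antisymm
    · rw [isoComp]
      apply iSup_le
      rintro ⟨f', hf'⟩
      set F' := toDualLinear (C := C) f' hf'
      by_cases hF'0 : F' = 0
      · change LinearMap.range F' ≤ _
        rw [hF'0, LinearMap.range_zero]
        exact bot_le
      · have hF'inj : Function.Injective F' := LinearMap.injective_of_ne_zero hF'0
        set e' : S ≃ₗ[Dual k C] LinearMap.range F' := LinearEquiv.ofInjective F' hF'inj
        exact le_sSup ⟨e'.symm.trans e⟩
    · rw [isotypicComponent]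
      apply sSup_le
      rintro m ⟨em⟩
      set G : S →ₗ[Dual k C] V := m.subtype ∘ₗ em.symm.toLinearMap ∘ₗ e.toLinearMap
      have hG : LinearMap.range G = m := by
        apply le_antisymm
        · rintro _ ⟨s, rfl⟩
          exact (em.symm (e s)).2
        · intro x hx
          refine ⟨e.symm (em ⟨x, hx⟩), ?_⟩
          simp [G]
      rw [← hG]
      exact range_le_isoComp G

universe x

theorem iSupIndep_isoComp {ι : Type x} (S : ι → Type w') [∀ j, AddCommGroup (S j)]
    [∀ j, Module k (S j)] [∀ j, Comod k C (S j)]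
    (hS : ∀ j, IsSimpleComod k C (S j))
    (hne : ∀ j j', j ≠ j' → ∀ e : S j ≃ₗ[k] S j', ¬ Hoch.IsComodHom C (e : S j →ₗ[k] S j')) :
    iSupIndep (fun j => isoComp k C V (S j)) := by
  have hS' : ∀ j, IsSimpleModule (Dual k C) (S j) := fun j => isSimpleComod_iff.mp (hS j)
  have hB := fun j => isoComp_eq_bot_or (V := V) (hS' j)
  -- distinct indices give distinct nonzero components
  have hC : ∀ j j', j ≠ j' → isoComp k C V (S j) ≠ ⊥ → isoComp k C V (S j') ≠ ⊥ →
      isoComp k C V (S j) ≠ isoComp k C V (S j') := by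
    intro j j' hjj' h1 h2 heq
    obtain ⟨N, hN, ⟨eN⟩, hNeq⟩ := (hB j).resolve_left h1
    obtain ⟨N', hN', ⟨eN'⟩, hN'eq⟩ := (hB j').resolve_left h2
    have hle : N ≤ isotypicComponent (Dual k C) V N' := by
      rw [← hN'eq, ← heq, hNeq]
      exact N.le_isotypicComponent
    have hiso := IsIsotypicOfType.isotypicComponent (Dual k C) V N'
    obtain ⟨e⟩ := isIsotypicOfType_submodule_iff.mp hiso N hle
    set E : S j ≃ₗ[Dual k C] S j' := (eN.trans e).trans eN'.symm
    exact hne j j' hjj' (E.restrictScalars k) (isComodHom_restrictScalars (C := C) E.toLinearMap)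
  intro j
  change Disjoint (isoComp k C V (S j)) (⨆ j', ⨆ (_ : j' ≠ j), isoComp k C V (S j'))
  by_cases h1 : isoComp k C V (S j) = ⊥
  · rw [h1]; exact disjoint_bot_left
  · obtain ⟨N, hN, -, hNeq⟩ := (hB j).resolve_left h1
    have hmem : isoComp k C V (S j) ∈ isotypicComponents (Dual k C) V := ⟨N, hN, hNeq⟩
    have hind := sSupIndep_isotypicComponents (Dual k C) V hmem
    refine hind.mono_right ?_
    apply iSup_le
    intro j'
    apply iSup_le
    intro hj'
    by_cases h2 : isoComp k C V (S j') = ⊥
    · rw [h2]; exact bot_le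
    · obtain ⟨N', hN', -, hN'eq⟩ := (hB j').resolve_left h2
      apply le_sSup
      refine ⟨⟨N', hN', hN'eq⟩, ?_⟩
      intro hmem'
      exact hC j' j hj' h2 h1 hmem'

end Groth.Agent.Helper4.Comod
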