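import Mathlib
import Groth.Prelude.Def_ComodSub
import Groth.Agent.Lib.Helper4.ComodCoeff

/-!
Cosemisimple coalgebras over a field: the regular comodule controls all comodules;
simple subcoalgebras are coefficient spaces; isotypic components are simple subcoalgebras.
-/

universe u v w w'

open TensorProduct HopfRep

namespace Groth.Agent.Helper4.Comod

attribute [local instance] dualModule

section Embed
variable {k : Type u} [Field k] {C : Type v} [AddCommGroup C] [Module k C] [Coalgebra k C]
variable {V : Type w} [AddCommGroup V] [Module k V] [Comod k C V]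

lemma coeff_smul (f : V →ₗ[k] k) (l : Dual k C) (v : V) :
    coeff (C := C) f (l • v) = l • coeff (C := C) f v :=
  (coeffD (C := C) f).map_smul l v

lemma coact_injective : Function.Injective (Comod.coact (k := k) (A := C) (V := V)) := by
  intro v w h
  have h1 := act_counit (k := k) (C := C) v
  have h2 := act_counit (k := k) (C := C) w
  rw [act_apply] at h1 h2
  rw [← h1, ← h2, h]

variable (k C V) in
/-- every comodule embeds into a direct sum of copies of the regular comodule -/
theorem exists_injective_finsupp :
    ∃ (I : Type w) (Φ : V →ₗ[Dual k C] (I →₀ C)), Function.Injective Φ := by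
  classical
  let b := Module.Basis.ofVectorSpace k V
  let ΦK : V →ₗ[k] (Module.Basis.ofVectorSpaceIndex k V →₀ C) :=
    (TensorProduct.equivFinsuppOfBasisLeft b).toLinearMap ∘ₗ Comod.coact (k := k) (A := C)
  have hΦ : ∀ v i, ΦK v i = coeff (C := C) (b.coord i) v := by
    intro v i
    simp only [ΦK, LinearMap.comp_apply, LinearEquiv.coe_coe,
      TensorProduct.equivFinsuppOfBasisLeft_apply]
    rfl
  refine ⟨Module.Basis.ofVectorSpaceIndex k V,
    { toFun := ΦK, map_add' := ΦK.map_add, map_smul' := ?_ }, ?_⟩
  · intro l v
    ext i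
    simp only [RingHom.id_apply, Finsupp.smul_apply, hΦ]
    exact coeff_smul _ l v
  · intro v w h
    have h' : ΦK v = ΦK w := h
    simp only [ΦK, LinearMap.comp_apply, LinearEquiv.coe_coe] at h'
    exact coact_injective ((TensorProduct.equivFinsuppOfBasisLeft b).injective h')

/-- if the regular comodule is semisimple, so is every comodule -/
theorem isSemisimpleModule_of_regular [IsSemisimpleModule (Dual k C) C] :
    IsSemisimpleModule (Dual k C) V := by
  obtain ⟨I, Φ, hΦ⟩ := exists_injective_finsupp k C V
  exact IsSemisimpleModule.of_injective Φ hΦ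

end Embed

section RestrictIndep

lemma iSupIndep_restrictScalars (S : Type*) {R M ι : Type*} [Semiring R] [Semiring S]
    [AddCommMonoid M] [Module R M] [Module S M] [SMul S R] [IsScalarTower S R M]
    (t : ι → Submodule R M) (h : iSupIndep t) :
    iSupIndep (fun i => (t i).restrictScalars S) := by
  intro i
  have h1 := h i
  rw [disjoint_iff] at h1 ⊢
  have h2 : (⨆ j, ⨆ (_ : j ≠ i), (t j).restrictScalars S) =
      (⨆ j, ⨆ (_ : j ≠ i), t j).restrictScalars S := by
    simp only [Submodule.restrictScalars_iSup]
  rw [h2, Submodule.eq_bot_iff]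
  rintro x ⟨hx1, hx2⟩
  have hx : x ∈ t i ⊓ ⨆ j, ⨆ (_ : j ≠ i), t j := ⟨hx1, hx2⟩
  rw [h1] at hx
  exact hx

end RestrictIndep

section SubStructure
variable {k : Type u} [Field k] {C : Type v} [AddCommGroup C] [Module k C] [Coalgebra k C]
variable {V : Type w} [AddCommGroup V] [Module k V] [c : Comod k C V]

/-- the comodule structure on (the underlying subspace of) a submodule over the dual algebra -/
@[reducible] noncomputable def ofSub (T : Submodule (Dual k C) V) :
    Comod k C ↥(T.restrictScalars k) :=
  ComodSub.Comod.restr c (T.restrictScalars k) (isSubcomod_restrictScalars T)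

/-- the identity, as an isomorphism over the dual algebra -/
noncomputable def ofSubEquiv (T : Submodule (Dual k C) V) :
    letI := ofSub T
    ↥(T.restrictScalars k) ≃ₗ[Dual k C] ↥T :=
  letI := ofSub T
  (restrEquiv (T.restrictScalars k) (isSubcomod_restrictScalars T)).trans
    (LinearEquiv.ofEq _ _ (by ext x; rfl))

lemma isSimpleModule_ofSub (T : Submodule (Dual k C) V) [hT : IsSimpleModule (Dual k C) T] :
    letI := ofSub T
    IsSimpleModule (Dual k C) ↥(T.restrictScalars k) := by
  letI := ofSub T
  exact (ofSubEquiv T).isSimpleModule_iff.mpr hT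

end SubStructure

section Isotypic
variable {k : Type u} [Field k] {C : Type v} [AddCommGroup C] [Module k C] [Coalgebra k C]
variable {V : Type w} [AddCommGroup V] [Module k V] [Comod k C V]

/-- images of module maps into the regular comodule lie in the coefficient space -/
lemma range_le_cfD (ψ : V →ₗ[Dual k C] C) : LinearMap.range ψ ≤ cfD k C V := by
  rintro _ ⟨v, rfl⟩
  rw [mem_cfD_iff]
  have h := eq_coeff_of_isComodHom (ψ.restrictScalars k) (isComodHom_restrictScalars ψ)
  have h2 : ψ v = (ψ.restrictScalars k) v := rfl
  rw [h2, h]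
  exact coeff_mem_cf _ v

/-- the coefficient space of a simple comodule is its isotypic component in the regular comodule -/
theorem cfD_eq_isotypicComponent [IsSimpleModule (Dual k C) V] :
    cfD k C V = isotypicComponent (Dual k C) C V := by
  apply le_antisymm
  · rw [cfD_eq_sSup]
    refine sSup_le fun N hN => ?_
    obtain ⟨e⟩ := linearEquiv_of_mem_simpleImages N hN
    exact le_sSup ⟨e.symm⟩
  · refine sSup_le ?_
    rintro N ⟨e⟩
    have h := range_le_cfD (V := V) (N.subtype ∘ₗ e.symm.toLinearMap)
    intro x hx
    apply h
    exact ⟨e ⟨x, hx⟩, by simp⟩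

end Isotypic

section Regular
variable {k : Type u} [Field k] {C : Type v} [AddCommGroup C] [Module k C] [Coalgebra k C]

/-- the isotypic component of a simple submodule of the regular comodule is a coefficient space -/
theorem isotypicComponent_eq_cfD (T : Submodule (Dual k C) C) [IsSimpleModule (Dual k C) T] :
    letI := ofSub T
    isotypicComponent (Dual k C) C T = cfD k C ↥(T.restrictScalars k) := by
  letI := ofSub T
  haveI := isSimpleModule_ofSub T
  rw [cfD_eq_isotypicComponent]
  exact ((ofSubEquiv T).isotypicComponent_eq).symm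

/-- isotypic components of the regular comodule are simple subcoalgebras -/
theorem isotypicComponents_simple (m : Submodule (Dual k C) C)
    (hm : m ∈ isotypicComponents (Dual k C) C) :
    m.restrictScalars k ≠ ⊥ ∧ IsSubcoalg (m.restrictScalars k) ∧
      ∀ B : Submodule k C, B ≤ m.restrictScalars k → IsSubcoalg B →
        B = ⊥ ∨ B = m.restrictScalars k := by
  obtain ⟨T, hT, rfl⟩ := hm
  haveI := hT
  letI := ofSub T
  haveI := isSimpleModule_ofSub T
  haveI : Nontrivial ↥(T.restrictScalars k) :=
    IsSimpleModule.nontrivial (Dual k C) ↥(T.restrictScalars k)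
  rw [isotypicComponent_eq_cfD, cfD_restrictScalars]
  refine ⟨cf_ne_bot, isSubcoalg_cf, ?_⟩
  intro B hle hB
  by_cases hB0 : B = ⊥
  · exact Or.inl hB0
  · exact Or.inr (eq_cf_of_isSubcoalg_of_le B hB hle hB0)

/-- a simple subcoalgebra is semisimple as a module over the dual algebra -/
theorem isSemisimpleModule_of_simple_subcoalg (D : Submodule k C) (hD0 : D ≠ ⊥)
    (hD : IsSubcoalg D)
    (hDs : ∀ B : Submodule k C, B ≤ D → IsSubcoalg B → B = ⊥ ∨ B = D) :
    IsSemisimpleModule (Dual k C) ↥(toSubmodule D hD.isSubcomod) := by
  have hN0 : toSubmodule D hD.isSubcomod ≠ ⊥ := by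
    intro h
    apply hD0
    rw [eq_bot_iff]
    intro b hb
    have : b ∈ toSubmodule D hD.isSubcomod := hb
    rw [h] at this
    exact this
  obtain ⟨T, hTN, hT⟩ := exists_simple_le _ hN0
  haveI := hT
  letI := ofSub T
  haveI := isSimpleModule_ofSub T
  haveI : Nontrivial ↥(T.restrictScalars k) :=
    IsSimpleModule.nontrivial (Dual k C) ↥(T.restrictScalars k)
  have hcf : cf k C ↥(T.restrictScalars k) = D := by
    have hle : cf k C ↥(T.restrictScalars k) ≤ D := by
      refine cf_le_of_injective_isComodHom D hD (T.restrictScalars k).subtype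
        (ComodSub.isComodHom_subtype _ _ _) (Submodule.injective_subtype _) ?_
      rintro _ ⟨x, rfl⟩
      exact hTN x.2
    rcases hDs _ hle isSubcoalg_cf with h | h
    · exact absurd h cf_ne_bot
    · exact h
  have heq : toSubmodule D hD.isSubcomod = cfD k C ↥(T.restrictScalars k) := by
    ext x
    rw [mem_cfD_iff, hcf]
    rfl
  rw [heq]
  infer_instance

end Regular

end Groth.Agent.Helper4.Comod
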