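import Mathlib
import Groth.Agent.Lib.Helper4.ComplFF
import Groth.Agent.Lib.Helper2.HomExt.Reflexive
import Groth.Agent.Lib.Helper2.HomExt.DualIso
import Groth.Agent.Lib.Helper5.LTen.Flf
import Groth.Agent.Lib.Helper5.Perf.LocalCoh
import Groth.Agent.Lib.Helper1.ProjF2

/-!
# completion is fully faithful on finite locally free modules when formal sections are algebraic (general base ring) (helper4) (helper4)
-/

set_option backward.isDefEq.respectTransparency.types false
set_option synthInstance.maxHeartbeats 400000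
set_option autoImplicit false
set_option linter.unusedSectionVars false
set_option linter.style.haveILetI false
set_option linter.unusedSimpArgs false
universe u v w
open CategoryTheory CategoryTheory.Limits Opposite AlgebraicGeometry TopologicalSpace

namespace Groth.Agent.Lib.Helper4.ComplFFLF

open Groth.Agent.Lead.RH Groth.Agent.Helper2.HomExt Groth.Agent.Helper1
  Groth.Agent.Lib.Helper4 Groth.Agent.Lib.Helper4.BaseChgRing1 Groth.Agent.Lib.Helper4.IPow1
  Groth.Agent.Lib.Helper4.ComplFF Groth.Agent.Helper1.ProjF Groth.Agent.Helper1.PFrame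
  Groth.Agent.Lib.Helper4.ReesAlg1

/-! ### algebra: maps out of a finite projective module with values in `J Q` -/

section Alg

theorem proj_hom_mem {B : Type u} [CommRing B] {P Q : Type u} [AddCommGroup P] [Module B P]
    [Module.Finite B P] [Module.Projective B P] [AddCommGroup Q] [Module B Q] (J : Ideal B)
    (h : P →ₗ[B] Q) (hh : ∀ p, h p ∈ J • (⊤ : Submodule B Q)) :
    h ∈ J • (⊤ : Submodule B (P →ₗ[B] Q)) := by
  classical
  obtain ⟨s, e, he⟩ := Module.Finite.exists_fin (R := B) (M := P)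
  let ε : (Fin s → B) →ₗ[B] P := Fintype.linearCombination B e
  have hε : Function.Surjective ε := by
    rw [← LinearMap.range_eq_top, Fintype.range_linearCombination, he]
  obtain ⟨σ, hσ⟩ := Module.projective_lifting_property ε LinearMap.id hε
  obtain ⟨Ψ, hΨdef⟩ : ∃ Ψ : (Fin s → Q) →ₗ[B] (P →ₗ[B] Q), Ψ =
      ∑ i, (LinearMap.smulRightₗ
        ((LinearMap.proj (R := B) (φ := fun _ : Fin s => B) i).comp σ)).comp
        (LinearMap.proj (R := B) (φ := fun _ : Fin s => Q) i) := ⟨_, rfl⟩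
  have hΨv : ∀ (v : Fin s → Q) (p : P), Ψ v p = ∑ i, σ p i • v i := by
    intro v p
    subst hΨdef
    simp [LinearMap.sum_apply]
  have hΨ : Ψ (fun i => h (e i)) = h := by
    refine LinearMap.ext fun p => ?_
    have h1 : ε (σ p) = p := congrArg (fun f => f p) hσ
    rw [hΨv]
    conv_rhs => rw [← h1, Fintype.linearCombination_apply, map_sum]
    refine Finset.sum_congr rfl fun i _ => ?_
    rw [map_smul]
  rw [← hΨ]
  have h1 : Ψ (fun i => h (e i)) ∈ Submodule.map Ψ (J • ⊤) :=
    Submodule.mem_map_of_mem (HomAR.pi_mem_smul_top J _ (fun i => hh (e i)))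
  rw [Submodule.map_smul''] at h1
  exact Submodule.smul_mono le_rfl le_top h1

theorem IM_mono' {A R : Type u} [CommRing A] [CommRing R] {I₁ I₂ : Ideal A} (α : A →+* R)
    (M : Type u) [AddCommGroup M] [Module R M] {j k : ℕ} (h : I₁ ^ j ≤ I₂ ^ k) :
    IM I₁ α M j ≤ IM I₂ α M k := by
  unfold IM
  apply Submodule.span_mono
  rintro x ⟨a, ha, m, rfl⟩
  exact ⟨a, h ha, m, rfl⟩

end Alg

/-! ### the kernel of `N → N / I^k N` on affine sections, for a general ideal -/

section KerPi
variable {A : Type u} [CommRing A] (I : Ideal A) {X : Scheme.{u}}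
  [X.Over (Spec (CommRingCat.of A))] (N : X.Modules)

theorem π_eq_zero_of_mem [N.IsQuasicoherent] (W : X.Opens) (k : ℕ) (x : Γ(N, W))
    (hx : x ∈ (I.map (alphaRing A X W)) ^ k • (⊤ : Submodule Γ(X, W) Γ(N, W))) :
    (Formal.modPowπ I k N).app W x = 0 := by
  rw [← ModPowLim2.IM_eq] at hx
  obtain ⟨y, rfl⟩ := IPow1.mem_range_incl_of_mem_IM I N k x hx
  exact congrArg (fun φ => Scheme.Modules.Hom.app φ W y) (IPow1.incl_π I N k)

theorem mem_of_π_eq_zero [IsNoetherian X] (hN : Coh.IsCoh N) {W : X.Opens} (hW : IsAffineOpen W)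
    (k : ℕ) (x : Γ(N, W)) (hx : (Formal.modPowπ I k N).app W x = 0) :
    x ∈ (I.map (alphaRing A X W)) ^ k • (⊤ : Submodule Γ(X, W) Γ(N, W)) := by
  classical
  haveI : N.IsQuasicoherent := hN.1
  obtain ⟨r, U, hU, hcov⟩ := Dv.exists_finite_affine_cover (X := X)
  have hfin : ∀ i, ∃ s : Finset A, ((s : Set A) ⊆ ((I ^ k : Ideal A) : Set A)) ∧
      ∀ a ∈ I ^ k, ∀ m : Γ(N, U i), alphaRing A X (U i) a • m ∈
        IM (Ideal.span (s : Set A)) (alphaRing A X (U i)) Γ(N, U i) 1 := by
    intro i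
    haveI : IsNoetherianRing Γ(X, U i) := IsLocallyNoetherian.component_noetherian ⟨U i, hU i⟩
    haveI : Module.Finite Γ(X, U i) Γ(N, U i) := FinPush.finite_sections N hN (hU i)
    haveI : IsNoetherian Γ(X, U i) Γ(N, U i) := isNoetherian_of_isNoetherianRing_of_finite _ _
    have hfg : (IM I (alphaRing A X (U i)) Γ(N, U i) k).FG := IsNoetherian.noetherian _
    unfold IM at hfg
    obtain ⟨t, ht, hspan⟩ := (Submodule.fg_span_iff_fg_span_finset_subset _).1 hfg
    choose! a ha using fun (y : Γ(N, U i)) (hy : y ∈ t) => ht (Finset.mem_coe.2 hy)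
    refine ⟨t.image a, ?_, ?_⟩
    · intro c hc
      obtain ⟨y, hy, rfl⟩ := Finset.mem_image.1 (Finset.mem_coe.1 hc)
      exact (ha y hy).1
    · intro a' ha' m
      have h1 : alphaRing A X (U i) a' • m ∈ Submodule.span Γ(X, U i)
          {x | ∃ a ∈ I ^ k, ∃ m : Γ(N, U i), x = alphaRing A X (U i) a • m} :=
        Submodule.subset_span ⟨a', ha', m, rfl⟩
      rw [hspan] at h1
      refine (Submodule.span_le.2 ?_) h1
      intro y hy
      obtain ⟨hya, m', hm'⟩ := ha y (Finset.mem_coe.1 hy)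
      unfold IM
      refine Submodule.subset_span ⟨a y, ?_, m', hm'⟩
      rw [pow_one]
      exact Ideal.subset_span (Finset.mem_coe.2 (Finset.mem_image_of_mem a (Finset.mem_coe.1 hy)))
  choose s hs1 hs2 using hfin
  obtain ⟨s₀, hs₀⟩ : ∃ s₀ : Finset A, s₀ = Finset.univ.biUnion s := ⟨_, rfl⟩
  obtain ⟨I₀, hI₀def⟩ : ∃ I₀ : Ideal A, I₀ = Ideal.span (s₀ : Set A) := ⟨_, rfl⟩
  have hI₀ : I₀ ≤ I ^ k := by
    rw [hI₀def]
    refine Ideal.span_le.2 (fun c hc => ?_)
    rw [hs₀] at hc
    obtain ⟨i, -, hci⟩ := Finset.mem_biUnion.1 (Finset.mem_coe.1 hc)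
    exact hs1 i (Finset.mem_coe.2 hci)
  have hI₀fg : (I₀ ^ 1).FG := by
    rw [pow_one, hI₀def]
    exact ⟨s₀, rfl⟩
  have hmono : ∀ i, Ideal.span (s i : Set A) ≤ I₀ := by
    intro i
    rw [hI₀def]
    apply Ideal.span_mono
    intro c hc
    rw [hs₀]
    exact Finset.mem_coe.2 (Finset.mem_biUnion.2 ⟨i, Finset.mem_univ i, Finset.mem_coe.1 hc⟩)
  have hkill : Formal.smulFamily (I ^ k) N ≫ Formal.modPowπ I₀ 1 N = 0 := by
    apply Sigma.hom_ext
    intro a
    rw [comp_zero, ← Category.assoc]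
    unfold Formal.smulFamily
    rw [Sigma.ι_desc]
    refine Dv.hom_eq_zero_of_affine_cover _ U hU hcov fun i m => ?_
    change (Formal.modPowπ I₀ 1 N).app (U i) ((Formal.smulMod A N (a : A)).app (U i) m) = 0
    rw [IPow1.smulMod_app]
    have h2 : alphaRing A X (U i) (a : A) • m ∈ IM I₀ (alphaRing A X (U i)) Γ(N, U i) 1 :=
      IM_mono' _ _ (by rw [pow_one, pow_one]; exact hmono i) (hs2 i a a.2 m)
    obtain ⟨y, hy⟩ := IPow1.mem_range_incl_of_mem_IM I₀ N 1 _ h2
    rw [← hy]
    exact congrArg (fun φ => Scheme.Modules.Hom.app φ (U i) y) (IPow1.incl_π I₀ N 1)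
  let θ : Formal.modPow I k N ⟶ Formal.modPow I₀ 1 N :=
    cokernel.desc _ (Formal.modPowπ I₀ 1 N) hkill
  have hθ : Formal.modPowπ I k N ≫ θ = Formal.modPowπ I₀ 1 N := cokernel.π_desc _ _ _
  have h1 : (Formal.modPowπ I₀ 1 N).app W x = 0 := by
    rw [← hθ]
    change θ.app W ((Formal.modPowπ I k N).app W x) = 0
    rw [hx, map_zero]
  obtain ⟨y, hy⟩ := IPow1.exact_sections I₀ N 1 x h1
  have h2 := ModPowLim2.mem_IM_of_mem_range_incl_fg I₀ N hW 1 hI₀fg y
  rw [hy] at h2
  rw [← ModPowLim2.IM_eq]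
  exact IM_mono' _ _ (by rw [pow_one]; exact hI₀) h2

end KerPi

/-! ### local and global statements for a locally free source -/

section Loc
variable {A : Type u} [CommRing A] (I : Ideal A) {X : Scheme.{u}}
  [X.Over (Spec (CommRingCat.of A))] [IsNoetherian X] (E N : X.Modules)

theorem a_loc_lf (hE : Coh.IsCoh E) (hN : Coh.IsCoh N)
    {W : X.Opens} (hW : IsAffineOpen W) {r : ℕ} (b : Fin r → Γ(E, W)) (hb : IsBasisOn E W b)
    (n m : ℕ) (hnm : n ≤ m) (h : Γ(RefHull.homSh E N, W)) (hh : (pn I E N m).app W h = 0) :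
    (Formal.modPowπ I (n + 1) (RefHull.homSh E N)).app W h = 0 := by
  haveI : E.IsQuasicoherent := hE.1
  haveI : N.IsQuasicoherent := hN.1
  haveI : (RefHull.homSh E N).IsQuasicoherent := (isCoh_homSh hE hN).1
  haveI : Module.Finite Γ(X, W) Γ(E, W) := FinPush.finite_sections E hE hW
  haveI : Module.Projective Γ(X, W) Γ(E, W) := by
    have hbij := hb.bijective_self
    have hbij' : Function.Bijective (Fintype.linearCombination Γ(X, W) b) := by
      convert hbij using 1
      funext c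
      exact Fintype.linearCombination_apply _ _ _
    exact Module.Projective.of_equiv (LinearEquiv.ofBijective _ hbij')
  have h1 : Groth.Agent.Lead.RH.secEquiv (F := E) (G := N) hW h ∈
      (I.map (alphaRing A X W)) ^ (n + 1) •
        (⊤ : Submodule Γ(X, W) (Γ(E, W) →ₗ[Γ(X, W)] Γ(N, W))) := by
    apply Submodule.smul_mono_left (Ideal.pow_le_pow_right (by omega : n + 1 ≤ m + 1))
    apply proj_hom_mem
    intro x
    have h2 : (Formal.modPowπ I (m + 1) N).app W
        (Groth.Agent.Lead.RH.secEquiv (F := E) (G := N) hW h x) = 0 := by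
      rw [Groth.Agent.Lead.RH.secEquiv_apply, ← app_homShMap]
      change Groth.Agent.Lead.RH.app ((pn I E N m).app W h) le_rfl x = 0
      rw [hh]
      exact Groth.Agent.Helper2.HomExt.app_zero (G := Nn I N m) le_rfl x
    exact mem_of_π_eq_zero I N hN hW (m + 1) _ h2
  have h3 : h ∈ (I.map (alphaRing A X W)) ^ (n + 1) •
      (⊤ : Submodule Γ(X, W) Γ(RefHull.homSh E N, W)) := by
    have h4 : (Groth.Agent.Lead.RH.secEquiv (F := E) (G := N) hW).symm
        (Groth.Agent.Lead.RH.secEquiv (F := E) (G := N) hW h) ∈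
        Submodule.map (Groth.Agent.Lead.RH.secEquiv (F := E) (G := N) hW).symm.toLinearMap
          ((I.map (alphaRing A X W)) ^ (n + 1) • ⊤) := Submodule.mem_map_of_mem h1
    rw [Submodule.map_smul'', LinearEquiv.symm_apply_apply] at h4
    exact Submodule.smul_mono le_rfl le_top h4
  exact π_eq_zero_of_mem I (RefHull.homSh E N) W (n + 1) h h3

theorem hA_lf (hE : FlatMod.IsFinLocFree E) (hN : Coh.IsCoh N) (n m : ℕ) (hnm : n ≤ m) :
    kernel.ι (pn I E N m) ≫ Formal.modPowπ I (n + 1) (RefHull.homSh E N) = 0 := by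
  have hEc : Coh.IsCoh E := Groth.Agent.Lib.Helper5.LocalCoh.isCoh_of_isFinLocFree E hE
  have hb := hasBases_of_isFinLocFree hE
  haveI : (RefHull.homSh E N).IsQuasicoherent := (isCoh_homSh hEc hN).1
  haveI : (Gn I E N m).IsQuasicoherent := by
    have hNm : Coh.IsCoh (Nn I N m) := by
      haveI : N.IsQuasicoherent := hN.1
      haveI : Epi (Formal.modPowπ I (m + 1) N) := inferInstanceAs (Epi (cokernel.π _))
      haveI : (Formal.modPow I (m + 1) N).IsQuasicoherent :=
        ClTr1.isQuasicoherent_modPow I N (m + 1)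
      exact LimTopInj.isCoh_of_epi (Formal.modPowπ I (m + 1) N) hN
    exact (isCoh_homSh hEc hNm).1
  haveI : (kernel (pn I E N m)).IsQuasicoherent := QcAbel.isQuasicoherent_kernel (pn I E N m)
  refine Dv.hom_eq_zero_of_affine_cover _
    (fun W : {W : X.Opens // IsAffineOpen W ∧ ∃ (r : ℕ) (b : Fin r → Γ(E, W)), IsBasisOn E W b} =>
      W.1) (fun W => W.2.1) ?_ (fun W s => ?_)
  · apply le_antisymm le_top
    intro x _
    obtain ⟨V, r, b, hxV, hbV⟩ := hb x
    obtain ⟨_, ⟨W, hW, rfl⟩, hxW, hWV⟩ :=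
      X.isBasis_affineOpens.exists_subset_of_mem_open hxV V.2
    have hWV' : W ≤ V := hWV
    exact Opens.mem_iSup.2 ⟨⟨W, hW, r, fun i => QcCech.res E hWV' (b i), hbV.res hWV'⟩, hxW⟩
  · obtain ⟨r, b, hbW⟩ := W.2.2
    have h1 : (pn I E N m).app W.1 ((kernel.ι (pn I E N m)).app W.1 s) = 0 :=
      congrArg (fun φ => Scheme.Modules.Hom.app φ W.1 s) (kernel.condition (pn I E N m))
    exact a_loc_lf I E N hEc hN W.2.1 b hbW n m hnm _ h1

theorem hB_lf (hE : FlatMod.IsFinLocFree E) (n m : ℕ) (hnm : n ≤ m) :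
    tG I E N n m hnm ≫ cokernel.π (pn I E N n) = 0 := by
  have hb := hasBases_of_isFinLocFree hE
  haveI : Epi (Formal.modPowπ I (n + 1) N) := inferInstanceAs (Epi (cokernel.π _))
  haveI : Epi (pn I E N n) := by
    unfold pn
    exact epi_homShMap hb _
  rw [cokernel.π_of_epi, comp_zero]

end Loc

/-! ### the main theorem, abstract form -/

section MainOf
variable {A : Type u} [CommRing A] (I : Ideal A) {X : Scheme.{u}}
  [X.Over (Spec (CommRingCat.of A))] (M N : X.Modules)

theorem main_of (hbij : Function.Bijective (Formal.toHHlim I (RefHull.homSh M N) 0)) (c : ℕ)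
    (hA : ∀ n, kernel.ι (pn I M N (n + c)) ≫
      Formal.modPowπ I (n + 1) (RefHull.homSh M N) = 0)
    (hB : ∀ n, tG I M N n (n + c) (Nat.le_add_right n c) ≫ cokernel.π (pn I M N n) = 0)
    (ψ : Formal.completion I M ⟶ Formal.completion I N) :
    ∃! φ : M ⟶ N, ∀ n : ℕ,
      Formal.modPowπ I (n + 1) M ≫ ψ.app (op n) = φ ≫ Formal.modPowπ I (n + 1) N := by
  -- the key vanishing statement
  have key : ∀ (d : M ⟶ N), (∀ n, d ≫ Formal.modPowπ I (n + 1) N = 0) → d = 0 := by
    intro d hd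
    obtain ⟨s, hs_def⟩ : ∃ s : Γ(RefHull.homSh M N, ⊤), s = RefHull.ofHom d ⊤ := ⟨_, rfl⟩
    have h1 : ∀ m, (pn I M N m).app ⊤ s = 0 := by
      intro m
      have h0 := homShMap_ofHom M d (Formal.modPowπ I (m + 1) N)
      rw [hd m] at h0
      rw [hs_def]
      refine h0.trans ?_
      apply section_ext_app
      intro V i x
      rw [LimHomA.app_ofHom, Groth.Agent.Helper2.HomExt.app_zero (G := Nn I N m) i x]
      rfl
    have h2 : ∀ n, (Formal.modPowπ I (n + 1) (RefHull.homSh M N)).app ⊤ s = 0 := by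
      intro n
      let S : ShortComplex X.Modules := ShortComplex.mk (kernel.ι (pn I M N (n + c)))
        (pn I M N (n + c)) (kernel.condition _)
      have hS : S.Exact := ShortComplex.exact_of_f_is_kernel _ (kernelIsKernel _)
      haveI : Mono S.f := inferInstanceAs (Mono (kernel.ι _))
      obtain ⟨y, hy⟩ := QcAbel.app_exact' (S := S) hS ⊤ s (h1 (n + c))
      rw [← hy]
      exact congrArg (fun φ => Scheme.Modules.Hom.app φ ⊤ y) (hA n)
    have h3 : (HH0.equiv X (RefHull.homSh M N)).symm s = 0 := by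
      apply (injective_iff_map_eq_zero (Formal.toHHlim I (RefHull.homSh M N) 0)).1 hbij.1
      apply Subtype.ext
      funext n
      change Formal.toHHmodPow I (RefHull.homSh M N) 0 n
        ((HH0.equiv X (RefHull.homSh M N)).symm s) = 0
      rw [toHHmodPow_zero_symm, h2 n]
      exact map_zero (HH0.equiv X (Formal.modPow I (n + 1) (RefHull.homSh M N))).symm
    have h4 : s = 0 := by
      have h5 := congrArg (HH0.equiv X (RefHull.homSh M N)) h3
      rwa [AddEquiv.apply_symm_apply, map_zero] at h5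
    have h6 := LimHomA.toHom_ofHom d
    rw [← hs_def, h4, toHom_zero] at h6
    exact h6.symm
  -- the comparison morphisms
  obtain ⟨γ, hγ1, hγ2⟩ := exists_gamma (H := RefHull.homSh M N) (G := fun n => Gn I M N n)
    (Hq := fun n => Formal.modPow I (n + 1) (RefHull.homSh M N))
    (tG I M N) (fun n m h => (Formal.completion I (RefHull.homSh M N)).map (homOfLE h).op)
    (pn I M N) (fun n => Formal.modPowπ I (n + 1) (RefHull.homSh M N)) (an I M N)
    (tG_trans I M N) (pn_tG I M N) (fun n m h => FFSheaf1.π_trans I (RefHull.homSh M N) h)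
    (π_an I M N) c hA hB
  -- the given compatible family
  let g : ∀ n, M ⟶ Nn I N n := fun n => Formal.modPowπ I (n + 1) M ≫ ψ.app (op n)
  have hg : ∀ (n m : ℕ) (h : n ≤ m), g m ≫ tN I N n m h = g n := by
    intro n m h
    exact (Category.assoc _ _ _).trans ((congrArg (fun t => Formal.modPowπ I (m + 1) M ≫ t)
      (ψ.naturality (homOfLE h).op).symm).trans ((Category.assoc _ _ _).symm.trans
        (congrArg (fun t => t ≫ ψ.app (op n)) (FFSheaf1.π_trans I M h))))
  let gs : ∀ n, Γ(Gn I M N n, ⊤) := fun n => RefHull.ofHom (g n) ⊤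
  have hgs : ∀ (n m : ℕ) (h : n ≤ m), (tG I M N n m h).app ⊤ (gs m) = gs n := by
    intro n m h
    exact (homShMap_ofHom M (g m) (tN I N n m h)).trans
      (congrArg (fun t => RefHull.ofHom t ⊤) (hg n m h))
  let hh : ∀ n, Γ(Formal.modPow I (n + 1) (RefHull.homSh M N), ⊤) :=
    fun n => (γ n).app ⊤ (gs (n + c + c))
  have hcompat : ∀ n,
      (Formal.modPowTrans I (n + 1) (RefHull.homSh M N)).app ⊤ (hh (n + 1)) = hh n := by
    intro n
    have e0 := hγ2 n
    rw [ComplExt.completion_map_succ] at e0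
    have e1 := congrArg (fun φ => Scheme.Modules.Hom.app φ ⊤ (gs (n + 1 + c + c))) e0
    change (Formal.modPowTrans I (n + 1) (RefHull.homSh M N)).app ⊤
        ((γ (n + 1)).app ⊤ (gs (n + 1 + c + c))) =
      (γ n).app ⊤ ((tG I M N (n + c + c) (n + 1 + c + c) (by omega)).app ⊤
        (gs (n + 1 + c + c))) at e1
    rw [hgs] at e1
    exact e1
  let y : Formal.HHlim I (RefHull.homSh M N) 0 :=
    ⟨fun n => (HH0.equiv X (Formal.modPow I (n + 1) (RefHull.homSh M N))).symm (hh n), fun n => by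
      change Formal.HHmodPowTrans I (RefHull.homSh M N) 0 n
        ((HH0.equiv X (Formal.modPow I (n + 1 + 1) (RefHull.homSh M N))).symm (hh (n + 1))) =
        (HH0.equiv X (Formal.modPow I (n + 1) (RefHull.homSh M N))).symm (hh n)
      rw [HHmodPowTrans_zero_symm, hcompat]⟩
  obtain ⟨x, hx⟩ := hbij.2 y
  obtain ⟨s, hs_def⟩ : ∃ s : Γ(RefHull.homSh M N, ⊤), s = HH0.equiv X (RefHull.homSh M N) x :=
    ⟨_, rfl⟩
  have hsπ : ∀ n, (Formal.modPowπ I (n + 1) (RefHull.homSh M N)).app ⊤ s = hh n := by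
    intro n
    have e1 : Formal.toHHmodPow I (RefHull.homSh M N) 0 n x =
        (HH0.equiv X (Formal.modPow I (n + 1) (RefHull.homSh M N))).symm (hh n) :=
      congrFun (congrArg Subtype.val hx) n
    have e2 := congrArg (HH0.equiv X (Formal.modPow I (n + 1) (RefHull.homSh M N))) e1
    rw [AddEquiv.apply_symm_apply, equiv_toHHmodPow] at e2
    rw [hs_def]
    exact e2
  have hsp : ∀ n, (pn I M N n).app ⊤ s = gs n := by
    intro n
    have e1 := congrArg (fun φ => Scheme.Modules.Hom.app φ ⊤ s) (π_an I M N n)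
    change (an I M N n).app ⊤ ((Formal.modPowπ I (n + 1) (RefHull.homSh M N)).app ⊤ s) =
      (pn I M N n).app ⊤ s at e1
    rw [← e1, hsπ]
    have e2 := congrArg (fun φ => Scheme.Modules.Hom.app φ ⊤ (gs (n + c + c))) (hγ1 n)
    change (an I M N n).app ⊤ ((γ n).app ⊤ (gs (n + c + c))) =
      (tG I M N n (n + c + c) (by omega)).app ⊤ (gs (n + c + c)) at e2
    rw [hgs] at e2
    exact e2
  have hφ : ∀ n, g n = LimHomA.toHom s ≫ Formal.modPowπ I (n + 1) N := by
    intro n
    have e1 := toHom_homShMap M (Formal.modPowπ I (n + 1) N) s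
    change LimHomA.toHom ((pn I M N n).app ⊤ s) = _ at e1
    rw [hsp] at e1
    rw [← e1]
    exact (LimHomA.toHom_ofHom (g n)).symm
  refine ⟨LimHomA.toHom s, hφ, fun φ' hφ' => ?_⟩
  rw [← sub_eq_zero]
  apply key
  intro n
  rw [Preadditive.sub_comp, ← hφ n, ← hφ' n]
  exact sub_self _

end MainOf

/-! ### S0840 -/

section Fin
variable (A : Type u) [CommRing A] (I : Ideal A) (X : Scheme.{u})
  [X.Over (Spec (CommRingCat.of A))] [IsNoetherian X]

theorem isFinLocFree_homSh (E E' : X.Modules) (hE : FlatMod.IsFinLocFree E)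
    (hE' : FlatMod.IsFinLocFree E') : FlatMod.IsFinLocFree (RefHull.homSh E E') := by
  have hb := hasBases_of_isFinLocFree hE
  have hd : FlatMod.IsFinLocFree (RefHull.dual E) := isFinLocFree_of_hasBases (hasBases_dual hb)
  exact Groth.Agent.Lead.FLF.isFinLocFree_of_iso (dualIso (G := E') hb)
    (Groth.Agent.Lib.Helper5.LTenFlf.isFinLocFree_tensor E' (RefHull.dual E) hE' hd)

theorem main
    (h : ∀ E : X.Modules, FlatMod.IsFinLocFree E → Function.Bijective (Formal.toHHlim I E 0))
    (E E' : X.Modules) (hE : FlatMod.IsFinLocFree E) (hE' : FlatMod.IsFinLocFree E')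
    (ψ : Formal.completion I E ⟶ Formal.completion I E') :
    ∃! φ : E ⟶ E', ∀ n : ℕ,
      Formal.modPowπ I (n + 1) E ≫ ψ.app (op n) = φ ≫ Formal.modPowπ I (n + 1) E' := by
  have hE'c : Coh.IsCoh E' := Groth.Agent.Lib.Helper5.LocalCoh.isCoh_of_isFinLocFree E' hE'
  exact main_of I E E' (h _ (isFinLocFree_homSh X E E' hE hE')) 0
    (fun n => hA_lf I E E' hE hE'c n n le_rfl)
    (fun n => hB_lf I E E' hE n n le_rfl) ψ

end Fin

end Groth.Agent.Lib.Helper4.ComplFFLF
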