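import Mathlib
import Groth.Agent.Lib.Helper4.SetPullProd

/-!
# Local filteredness of a morphism of sites with exact inverse image (helper4) (helper4)
-/

set_option backward.isDefEq.respectTransparency.types false
set_option synthInstance.maxHeartbeats 400000
set_option autoImplicit false
set_option linter.unusedSectionVars false
set_option linter.style.haveILetI false
set_option linter.unusedSimpArgs false
universe u v w
open CategoryTheory CategoryTheory.Limits Opposite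

namespace Groth.Agent.Lib.Helper4.LocFilt
open Groth.Agent.Lib.Helper4.SetPullProd

section Loc
variable {C : Type u} [SmallCategory C] {J : GrothendieckTopology C}

/-- composition of local statements -/
lemma loc_bind {U : C} {Q Q' : ∀ ⦃U' : C⦄, (U' ⟶ U) → Prop}
    (h₁ : ∃ S ∈ J U, ∀ ⦃U' : C⦄ (g : U' ⟶ U), S g → Q g)
    (h₂ : ∀ ⦃U' : C⦄ (g : U' ⟶ U), Q g →
      ∃ S' ∈ J U', ∀ ⦃U'' : C⦄ (h : U'' ⟶ U'), S' h → Q' (h ≫ g)) :
    ∃ S ∈ J U, ∀ ⦃U' : C⦄ (g : U' ⟶ U), S g → Q' g := by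
  classical
  obtain ⟨S, hS, hQ⟩ := h₁
  let R : ∀ ⦃Y : C⦄ ⦃g : Y ⟶ U⦄, S g → Sieve Y := fun Y g hg => (h₂ g (hQ g hg)).choose
  refine ⟨Sieve.bind S R, J.bind_covering hS (fun Y g hg => (h₂ g (hQ g hg)).choose_spec.1), ?_⟩
  intro U' g hg
  obtain ⟨Y, h, g', hg', hh, rfl⟩ := hg
  exact (h₂ g' (hQ g' hg')).choose_spec.2 h hh

end Loc

variable {C D : Type u} [SmallCategory C] [SmallCategory D] {J : GrothendieckTopology C}
  {K : GrothendieckTopology D} (fn : D ⥤ C) [fn.IsContinuous K J]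

/-- the section `[χ, p]` of the inverse image of a presheaf -/
noncomputable def br (P : Dᵒᵖ ⥤ Type u) {U : C} {W : D} (χ : U ⟶ fn.obj W) (p : P.obj (op W)) :
    ((L (J := J) (K := K) fn).obj P).obj.obj (op U) :=
  ((L (J := J) (K := K) fn).obj P).obj.map χ.op
    (((adjL (J := J) (K := K) fn).unit.app P).app (op W) p)

lemma br_map (P : Dᵒᵖ ⥤ Type u) {U U' : C} {W : D} (g : U' ⟶ U) (χ : U ⟶ fn.obj W) (p : P.obj (op W)) :
    ((L (J := J) (K := K) fn).obj P).obj.map g.op (br (J := J) (K := K) fn P χ p) =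
      br (J := J) (K := K) fn P (g ≫ χ) p := by
  unfold br
  rw [op_comp, Functor.map_comp]
  rfl

/-- naturality of `br` in the presheaf -/
lemma br_nat {P P' : Dᵒᵖ ⥤ Type u} (a : P ⟶ P') {U : C} {W : D} (χ : U ⟶ fn.obj W) (p : P.obj (op W)) :
    ((L (J := J) (K := K) fn).map a).hom.app (op U) (br (J := J) (K := K) fn P χ p) =
      br (J := J) (K := K) fn P' χ (a.app (op W) p) := by
  unfold br
  have h1 := congrArg (fun k => k (((adjL (J := J) (K := K) fn).unit.app P).app (op W) p))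
    (((L (J := J) (K := K) fn).map a).hom.naturality χ.op)
  refine h1.trans ?_
  have h2 := congrArg (fun k => k.app (op W) p) ((adjL (J := J) (K := K) fn).unit.naturality a)
  exact congrArg (((L (J := J) (K := K) fn).obj P').obj.map χ.op) h2.symm

/-- the presheaf of formal pairs -/
def Qp (P : Dᵒᵖ ⥤ Type u) : Cᵒᵖ ⥤ Type u where
  obj U := Σ W : D, (U.unop ⟶ fn.obj W) × P.obj (op W)
  map g := ↾fun t => ⟨t.1, g.unop ≫ t.2.1, t.2.2⟩
  map_id U := by
    apply ConcreteCategory.hom_ext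
    intro t
    obtain ⟨W, χ, p⟩ := t
    show (⟨W, 𝟙 _ ≫ χ, p⟩ : Σ W : D, (U.unop ⟶ fn.obj W) × P.obj (op W)) = ⟨W, χ, p⟩
    rw [Category.id_comp]
  map_comp {U₁ U₂ U₃} g h := by
    apply ConcreteCategory.hom_ext
    intro t
    obtain ⟨W, χ, p⟩ := t
    show (⟨W, (h.unop ≫ g.unop) ≫ χ, p⟩ : Σ W : D, (U₃.unop ⟶ fn.obj W) × P.obj (op W)) =
      ⟨W, h.unop ≫ g.unop ≫ χ, p⟩
    rw [Category.assoc]

/-- the evaluation of formal pairs -/
noncomputable def qp (P : Dᵒᵖ ⥤ Type u) : Qp fn P ⟶ ((L (J := J) (K := K) fn).obj P).obj where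
  app U := ↾fun t => br (J := J) (K := K) fn P t.2.1 t.2.2
  naturality U U' g := by
    ext t
    obtain ⟨W, χ, p⟩ := t
    exact (br_map fn P g.unop χ p).symm

/-- **(L1)** sections of the inverse image of a presheaf are locally formal pairs -/
theorem isLocallySurjective_qp (P : Dᵒᵖ ⥤ Type u) :
    Presheaf.IsLocallySurjective J (qp (J := J) (K := K) fn P) := by
  rw [Presheaf.isLocallySurjective_iff_range_sheafify_eq_top']
  set G := (Subfunctor.range (qp (J := J) (K := K) fn P)).sheafify J with hG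
  have hsh : Presheaf.IsSheaf J G.toFunctor := by
    rw [isSheaf_iff_isSheaf_of_type]
    exact Subfunctor.sheafify_isSheaf _
      ((isSheaf_iff_isSheaf_of_type _ _).1 ((L (J := J) (K := K) fn).obj P).property)
  let S' : Sheaf J (Type u) := ⟨G.toFunctor, hsh⟩
  let ι : S' ⟶ (L (J := J) (K := K) fn).obj P := ⟨G.ι⟩
  -- the unit factors through `S'`
  have hmem : ∀ (W : D) (p : P.obj (op W)),
      ((adjL (J := J) (K := K) fn).unit.app P).app (op W) p ∈ G.obj (op (fn.obj W)) := by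
    intro W p
    apply Subfunctor.le_sheafify
    refine ⟨⟨W, 𝟙 _, p⟩, ?_⟩
    show br (J := J) (K := K) fn P (𝟙 _) p = _
    unfold br
    rw [op_id, CategoryTheory.Functor.map_id]
    rfl
  let u' : P ⟶ (R (J := J) (K := K) fn).obj S' :=
    { app := fun W => ↾fun p => ⟨((adjL (J := J) (K := K) fn).unit.app P).app W p, hmem W.unop p⟩
      naturality := by
        intro W W' g
        apply ConcreteCategory.hom_ext
        intro p
        apply Subtype.ext
        exact congrArg (fun k => k p) (((adjL (J := J) (K := K) fn).unit.app P).naturality g) }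
  let t : (L (J := J) (K := K) fn).obj P ⟶ S' := ((adjL (J := J) (K := K) fn).homEquiv P S').symm u'
  have ht : t ≫ ι = 𝟙 _ := by
    apply ((adjL (J := J) (K := K) fn).homEquiv _ _).injective
    rw [Adjunction.homEquiv_naturality_right]
    show (adjL (J := J) (K := K) fn).homEquiv P S' (((adjL (J := J) (K := K) fn).homEquiv P S').symm u') ≫ _ = _
    rw [Equiv.apply_symm_apply, Adjunction.homEquiv_unit, CategoryTheory.Functor.map_id]
    refine Eq.trans ?_ (Category.comp_id _).symm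
    rfl
  rw [eq_top_iff]
  intro U s _
  have h1 : s = (ι.hom.app U) ((t.hom.app U) s) := by
    have := congrArg (fun k => k.hom.app U s) ht
    exact this.symm
  rw [h1]
  exact ((t.hom.app U) s).2

/-- elementwise form of **(L1)** -/
theorem exists_local_pair (P : Dᵒᵖ ⥤ Type u) {U : C}
    (s : ((L (J := J) (K := K) fn).obj P).obj.obj (op U)) :
    ∃ S ∈ J U, ∀ ⦃U' : C⦄ (g : U' ⟶ U), S g → ∃ (W : D) (χ : U' ⟶ fn.obj W) (p : P.obj (op W)),
      ((L (J := J) (K := K) fn).obj P).obj.map g.op s = br (J := J) (K := K) fn P χ p := by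
  haveI := isLocallySurjective_qp (J := J) (K := K) fn P
  refine ⟨_, Presheaf.imageSieve_mem J (qp (J := J) (K := K) fn P) s, ?_⟩
  intro U' g hg
  obtain ⟨⟨W, χ, p⟩, ht⟩ := hg
  exact ⟨W, χ, p, ht.symm⟩

section Exact
variable [PreservesFiniteLimits (fn.sheafPullback (Type u) K J)]

/-- the sheafification unit of a presheaf of sets on `C` -/
noncomputable abbrev tS (P : Cᵒᵖ ⥤ Type u) : P ⟶ ((presheafToSheaf J (Type u)).obj P).obj :=
  (adjC (J := J)).unit.app P

/-- local equality of sections with equal images in the sheafification -/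
lemma tS_locally_eq (P : Cᵒᵖ ⥤ Type u) {U : C} (x y : P.obj (op U))
    (h : (tS (J := J) P).app (op U) x = (tS (J := J) P).app (op U) y) :
    ∃ S ∈ J U, ∀ ⦃U' : C⦄ (g : U' ⟶ U), S g → P.map g.op x = P.map g.op y := by
  haveI : Presheaf.IsLocallyInjective J (tS (J := J) P) :=
    inferInstanceAs (Presheaf.IsLocallyInjective J (CategoryTheory.toSheafify J P))
  refine ⟨_, Presheaf.equalizerSieve_mem J (tS (J := J) P) x y h, ?_⟩
  intro U' g hg
  exact hg

lemma κs_br (V₁ V₂ : D) {U : C} {W : D} (χ : U ⟶ fn.obj W) (ψ₁ : W ⟶ V₁) (ψ₂ : W ⟶ V₂) :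
    (κs (J := J) (K := K) fn V₁ V₂).hom.app (op U)
      (br (J := J) (K := K) fn (P₁ V₁ V₂) χ ((ψ₁, ψ₂) : (P₁ V₁ V₂).obj (op W))) =
    (tS (J := J) (P₂ (fn.obj V₁) (fn.obj V₂))).app (op U)
      ((χ ≫ fn.map ψ₁, χ ≫ fn.map ψ₂) : (P₂ (fn.obj V₁) (fn.obj V₂)).obj (op U)) := by
  unfold br
  have h1 := congrArg (fun k => k (((adjL (J := J) (K := K) fn).unit.app (P₁ V₁ V₂)).app (op W)
      ((ψ₁, ψ₂) : (P₁ V₁ V₂).obj (op W))))
    ((κs (J := J) (K := K) fn V₁ V₂).hom.naturality χ.op)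
  refine h1.trans ?_
  have h2 : (adjL (J := J) (K := K) fn).homEquiv _ _ (κs (J := J) (K := K) fn V₁ V₂) =
      κ' (J := J) (K := K) fn V₁ V₂ := by
    unfold κs
    rw [Equiv.apply_symm_apply]
  rw [Adjunction.homEquiv_unit] at h2
  have h3 := congrArg (fun k => k.app (op W) ((ψ₁, ψ₂) : (P₁ V₁ V₂).obj (op W))) h2
  have h4 : (κs (J := J) (K := K) fn V₁ V₂).hom.app (op (fn.obj W))
      (((adjL (J := J) (K := K) fn).unit.app (P₁ V₁ V₂)).app (op W)
        ((ψ₁, ψ₂) : (P₁ V₁ V₂).obj (op W))) =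
      (tS (J := J) (P₂ (fn.obj V₁) (fn.obj V₂))).app (op (fn.obj W))
        ((fn.map ψ₁, fn.map ψ₂) : (P₂ (fn.obj V₁) (fn.obj V₂)).obj (op (fn.obj W))) := h3
  refine (congrArg (((presheafToSheaf J (Type u)).obj (P₂ (fn.obj V₁) (fn.obj V₂))).obj.map χ.op) h4).trans ?_
  have h5 := congrArg (fun k => k ((fn.map ψ₁, fn.map ψ₂) : (P₂ (fn.obj V₁) (fn.obj V₂)).obj (op (fn.obj W))))
    ((tS (J := J) (P₂ (fn.obj V₁) (fn.obj V₂))).naturality χ.op)
  exact h5.symm

include K in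
/-- **local filteredness, products**: two arrows to `fn V₁`, `fn V₂` factor locally through a common `fn W` -/
theorem lf_prod {U : C} {V₁ V₂ : D} (φ₁ : U ⟶ fn.obj V₁) (φ₂ : U ⟶ fn.obj V₂) :
    ∃ S ∈ J U, ∀ ⦃U' : C⦄ (g : U' ⟶ U), S g → ∃ (W : D) (χ : U' ⟶ fn.obj W) (ψ₁ : W ⟶ V₁) (ψ₂ : W ⟶ V₂),
      χ ≫ fn.map ψ₁ = g ≫ φ₁ ∧ χ ≫ fn.map ψ₂ = g ≫ φ₂ := by
  let s₀ : (P₂ (fn.obj V₁) (fn.obj V₂)).obj (op U) := (φ₁, φ₂)
  let s₁ := (tS (J := J) (P₂ (fn.obj V₁) (fn.obj V₂))).app (op U) s₀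
  let s₂ := (inv (κs (J := J) (K := K) fn V₁ V₂)).hom.app (op U) s₁
  have hs₂ : (κs (J := J) (K := K) fn V₁ V₂).hom.app (op U) s₂ = s₁ := by
    have := congrArg (fun k => k.hom.app (op U) s₁) (IsIso.inv_hom_id (κs (J := J) (K := K) fn V₁ V₂))
    exact this
  refine loc_bind (J := J) (Q := fun U' g => ∃ (W : D) (χ : U' ⟶ fn.obj W) (p : (P₁ V₁ V₂).obj (op W)),
      ((L (J := J) (K := K) fn).obj (P₁ V₁ V₂)).obj.map g.op s₂ = br (J := J) (K := K) fn (P₁ V₁ V₂) χ p)
    (exists_local_pair (J := J) (K := K) fn (P₁ V₁ V₂) s₂) ?_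
  rintro U' g ⟨W, χ, ⟨ψ₁, ψ₂⟩, hp⟩
  have h1 : (tS (J := J) (P₂ (fn.obj V₁) (fn.obj V₂))).app (op U')
      ((g ≫ φ₁, g ≫ φ₂) : (P₂ (fn.obj V₁) (fn.obj V₂)).obj (op U')) =
      (tS (J := J) (P₂ (fn.obj V₁) (fn.obj V₂))).app (op U')
      ((χ ≫ fn.map ψ₁, χ ≫ fn.map ψ₂) : (P₂ (fn.obj V₁) (fn.obj V₂)).obj (op U')) := by
    rw [← κs_br (J := J) (K := K) fn V₁ V₂ χ ψ₁ ψ₂]
    have e1 := congrArg (fun k => k s₀) ((tS (J := J) (P₂ (fn.obj V₁) (fn.obj V₂))).naturality g.op)
    refine e1.trans ?_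
    have e2 := congrArg (fun k => k s₂) ((κs (J := J) (K := K) fn V₁ V₂).hom.naturality g.op)
    have e3 : ((presheafToSheaf J (Type u)).obj (P₂ (fn.obj V₁) (fn.obj V₂))).obj.map g.op s₁ =
        (κs (J := J) (K := K) fn V₁ V₂).hom.app (op U')
          (((L (J := J) (K := K) fn).obj (P₁ V₁ V₂)).obj.map g.op s₂) := by
      rw [← hs₂]
      exact e2.symm
    refine e3.trans ?_
    exact congrArg _ hp
  obtain ⟨S', hS', h'⟩ := tS_locally_eq (J := J) _ _ _ h1
  refine ⟨S', hS', fun U'' h hh => ⟨W, h ≫ χ, ψ₁, ψ₂, ?_, ?_⟩⟩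
  · have := congrArg Prod.fst (h' h hh)
    rw [Category.assoc, Category.assoc]
    exact this.symm
  · have := congrArg Prod.snd (h' h hh)
    rw [Category.assoc, Category.assoc]
    exact this.symm

end Exact
section Eq
variable {W V : D} (ψ ψ' : W ⟶ V)

/-- the equalizer presheaf of two arrows -/
def Eqp : Dᵒᵖ ⥤ Type u where
  obj T := {a : T.unop ⟶ W // a ≫ ψ = a ≫ ψ'}
  map g := ↾fun a => ⟨g.unop ≫ a.1, by rw [Category.assoc, Category.assoc, a.2]⟩
  map_id T := by
    apply ConcreteCategory.hom_ext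
    intro a
    apply Subtype.ext
    exact Category.id_comp _
  map_comp g h := by
    apply ConcreteCategory.hom_ext
    intro a
    apply Subtype.ext
    exact Category.assoc _ _ _

/-- the inclusion of the equalizer presheaf -/
def ιE : Eqp ψ ψ' ⟶ yoneda.obj W where
  app T := ↾fun a => a.1
  naturality T T' g := by
    apply ConcreteCategory.hom_ext
    intro a
    rfl

lemma ιE_w : ιE ψ ψ' ≫ yoneda.map ψ = ιE ψ ψ' ≫ yoneda.map ψ' := by
  ext T a
  exact a.2

/-- the equalizer presheaf is an equalizer -/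
def isLimitE : IsLimit (Fork.ofι (ιE ψ ψ') (ιE_w ψ ψ')) :=
  Fork.IsLimit.mk _
    (fun s => { app := fun T => ↾fun x => ⟨s.ι.app T x, congrArg (fun k => k.app T x) s.condition⟩
                naturality := by
                  intro T T' g
                  apply ConcreteCategory.hom_ext
                  intro x
                  apply Subtype.ext
                  exact congrArg (fun k => k x) (s.ι.naturality g) })
    (fun s => rfl)
    (fun s m hm => by
      ext T x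
      apply Subtype.ext
      exact congrArg (fun k => k.app T x) hm)

end Eq

lemma εV_nat {W V : D} (ψ : W ⟶ V) :
    (L (J := J) (K := K) fn).map (yoneda.map ψ) ≫ εV (J := J) (K := K) fn V =
      εV (J := J) (K := K) fn W ≫ (presheafToSheaf J (Type u)).map (yoneda.map (fn.map ψ)) := by
  apply ((adjL (J := J) (K := K) fn).homEquiv _ _).injective
  rw [Adjunction.homEquiv_naturality_left, Adjunction.homEquiv_naturality_right]
  unfold εV
  rw [Equiv.apply_symm_apply, Equiv.apply_symm_apply]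
  ext T a
  have := congrArg (fun k => k.app (op (fn.obj T.unop)) (fn.map a))
    ((adjC (J := J)).unit.naturality (yoneda.map (fn.map ψ)))
  refine Eq.trans ?_ this
  show ((adjC (J := J)).unit.app (yoneda.obj (fn.obj V))).app (op (fn.obj T.unop)) (fn.map (a ≫ ψ)) = _
  rw [fn.map_comp]
  rfl

lemma εV_br (W : D) {U : C} {T : D} (χ : U ⟶ fn.obj T) (e : T ⟶ W) :
    (εV (J := J) (K := K) fn W).hom.app (op U)
      (br (J := J) (K := K) fn (yoneda.obj W) χ (e : (yoneda.obj W).obj (op T))) =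
    (tS (J := J) (yoneda.obj (fn.obj W))).app (op U) (χ ≫ fn.map e) := by
  unfold br
  have h1 := congrArg (fun k => k (((adjL (J := J) (K := K) fn).unit.app (yoneda.obj W)).app (op T)
      (e : (yoneda.obj W).obj (op T))))
    ((εV (J := J) (K := K) fn W).hom.naturality χ.op)
  refine h1.trans ?_
  have h2 : (adjL (J := J) (K := K) fn).homEquiv _ _ (εV (J := J) (K := K) fn W) =
      eV (J := J) (K := K) fn W := by
    unfold εV
    rw [Equiv.apply_symm_apply]
  rw [Adjunction.homEquiv_unit] at h2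
  have h3 := congrArg (fun k => k.app (op T) (e : (yoneda.obj W).obj (op T))) h2
  have h4 : (εV (J := J) (K := K) fn W).hom.app (op (fn.obj T))
      (((adjL (J := J) (K := K) fn).unit.app (yoneda.obj W)).app (op T) (e : (yoneda.obj W).obj (op T))) =
      (tS (J := J) (yoneda.obj (fn.obj W))).app (op (fn.obj T)) (fn.map e) := h3
  refine (congrArg (((presheafToSheaf J (Type u)).obj (yoneda.obj (fn.obj W))).obj.map χ.op) h4).trans ?_
  have h5 := congrArg (fun k => k (fn.map e))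
    ((tS (J := J) (yoneda.obj (fn.obj W))).naturality χ.op)
  exact h5.symm

section Exact2
variable [PreservesFiniteLimits (fn.sheafPullback (Type u) K J)]

/-- sections over `U` -/
noncomputable abbrev secU (U : C) : Sheaf J (Type u) ⥤ Type u :=
  sheafToPresheaf J (Type u) ⋙ (evaluation Cᵒᵖ (Type u)).obj (op U)

include K in
/-- **local filteredness, equalizers** -/
theorem lf_eq {U : C} {W V : D} (χ : U ⟶ fn.obj W) (ψ ψ' : W ⟶ V)
    (h : χ ≫ fn.map ψ = χ ≫ fn.map ψ') :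
    ∃ S ∈ J U, ∀ ⦃U' : C⦄ (g : U' ⟶ U), S g → ∃ (W' : D) (χ' : U' ⟶ fn.obj W') (e : W' ⟶ W),
      e ≫ ψ = e ≫ ψ' ∧ χ' ≫ fn.map e = g ≫ χ := by
  -- the section of `L (y W)` corresponding to `χ`
  let c := (tS (J := J) (yoneda.obj (fn.obj W))).app (op U) χ
  let c' := (inv (εV (J := J) (K := K) fn W)).hom.app (op U) c
  have hc' : (εV (J := J) (K := K) fn W).hom.app (op U) c' = c := by
    have := congrArg (fun k => k.hom.app (op U) c) (IsIso.inv_hom_id (εV (J := J) (K := K) fn W))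
    exact this
  -- it is equalized
  have heq : ((L (J := J) (K := K) fn).map (yoneda.map ψ)).hom.app (op U) c' =
      ((L (J := J) (K := K) fn).map (yoneda.map ψ')).hom.app (op U) c' := by
    have hinj : Function.Injective ((εV (J := J) (K := K) fn V).hom.app (op U)) := by
      intro a b hab
      have ha := congrArg (fun k => k.hom.app (op U) a) (IsIso.hom_inv_id (εV (J := J) (K := K) fn V))
      have hb := congrArg (fun k => k.hom.app (op U) b) (IsIso.hom_inv_id (εV (J := J) (K := K) fn V))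
      refine ha.symm.trans (Eq.trans ?_ hb)
      exact congrArg ((inv (εV (J := J) (K := K) fn V)).hom.app (op U)) hab
    apply hinj
    have e1 := congrArg (fun k => k.hom.app (op U) c') (εV_nat (J := J) (K := K) fn ψ)
    have e2 := congrArg (fun k => k.hom.app (op U) c') (εV_nat (J := J) (K := K) fn ψ')
    refine e1.trans (Eq.trans ?_ e2.symm)
    show ((presheafToSheaf J (Type u)).map (yoneda.map (fn.map ψ))).hom.app (op U)
        ((εV (J := J) (K := K) fn W).hom.app (op U) c') =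
      ((presheafToSheaf J (Type u)).map (yoneda.map (fn.map ψ'))).hom.app (op U)
        ((εV (J := J) (K := K) fn W).hom.app (op U) c')
    rw [hc']
    have n1 := congrArg (fun k => k.app (op U) χ) ((adjC (J := J)).unit.naturality (yoneda.map (fn.map ψ)))
    have n2 := congrArg (fun k => k.app (op U) χ) ((adjC (J := J)).unit.naturality (yoneda.map (fn.map ψ')))
    refine n1.symm.trans (Eq.trans ?_ n2)
    show (tS (J := J) (yoneda.obj (fn.obj V))).app (op U) (χ ≫ fn.map ψ) =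
      (tS (J := J) (yoneda.obj (fn.obj V))).app (op U) (χ ≫ fn.map ψ')
    rw [h]
  -- lift to the equalizer
  have hL := isLimitForkMapOfIsLimit (L (J := J) (K := K) fn) (ιE_w ψ ψ') (isLimitE ψ ψ')
  have hL' := isLimitForkMapOfIsLimit (secU (J := J) U) _ hL
  obtain ⟨d, hd, -⟩ := Types.unique_of_type_equalizer _ _ hL' c' heq
  -- `d` is locally a formal pair
  refine loc_bind (J := J) (Q := fun U' g => ∃ (T : D) (χ' : U' ⟶ fn.obj T) (p : (Eqp ψ ψ').obj (op T)),
      ((L (J := J) (K := K) fn).obj (Eqp ψ ψ')).obj.map g.op d = br (J := J) (K := K) fn (Eqp ψ ψ') χ' p)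
    (exists_local_pair (J := J) (K := K) fn (Eqp ψ ψ') d) ?_
  rintro U' g ⟨T, χ', ⟨e, he⟩, hp⟩
  have h1 : (tS (J := J) (yoneda.obj (fn.obj W))).app (op U') (g ≫ χ) =
      (tS (J := J) (yoneda.obj (fn.obj W))).app (op U') (χ' ≫ fn.map e) := by
    rw [← εV_br (J := J) (K := K) fn W χ' e]
    have e1 := congrArg (fun k => k χ) ((tS (J := J) (yoneda.obj (fn.obj W))).naturality g.op)
    refine e1.trans ?_
    have e2 := congrArg (fun k => k c') ((εV (J := J) (K := K) fn W).hom.naturality g.op)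
    have e3 : ((presheafToSheaf J (Type u)).obj (yoneda.obj (fn.obj W))).obj.map g.op c =
        (εV (J := J) (K := K) fn W).hom.app (op U')
          (((L (J := J) (K := K) fn).obj (yoneda.obj W)).obj.map g.op c') := by
      rw [← hc']
      exact e2.symm
    refine e3.trans ?_
    congr 1
    -- `c'|g = L(ι)(d|g) = L(ι)(br χ' ⟨e,he⟩) = br χ' e`
    have e4 : ((L (J := J) (K := K) fn).obj (yoneda.obj W)).obj.map g.op c' =
        ((L (J := J) (K := K) fn).map (ιE ψ ψ')).hom.app (op U')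
          (((L (J := J) (K := K) fn).obj (Eqp ψ ψ')).obj.map g.op d) := by
      have := congrArg (fun k => k d) (((L (J := J) (K := K) fn).map (ιE ψ ψ')).hom.naturality g.op)
      refine Eq.trans ?_ this.symm
      exact congrArg (((L (J := J) (K := K) fn).obj (yoneda.obj W)).obj.map g.op) hd.symm
    rw [e4, hp]
    exact br_nat (J := J) (K := K) fn (ιE ψ ψ') χ' ⟨e, he⟩
  obtain ⟨S', hS', h'⟩ := tS_locally_eq (J := J) _ _ _ h1
  refine ⟨S', hS', fun U'' k hk => ⟨T, k ≫ χ', e, he, ?_⟩⟩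
  have := h' k hk
  rw [Category.assoc]
  refine Eq.trans ?_ (this.symm.trans ?_)
  · rfl
  · exact (Category.assoc _ _ _).symm

end Exact2
section Exact3
variable [PreservesFiniteLimits (fn.sheafPullback (Type u) K J)]

/-- the terminal presheaf -/
abbrev topP : Dᵒᵖ ⥤ Type u := (Functor.const Dᵒᵖ).obj PUnit.{u+1}

/-- the terminal presheaf is terminal -/
def isTerminalTopP : IsTerminal (topP (D := D)) :=
  IsTerminal.ofUniqueHom (fun P => { app := fun _ => ↾fun _ => PUnit.unit })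
    (fun P m => by
      ext T x
      rfl)

include K in
/-- **local filteredness, empty diagram** -/
theorem lf_nonempty (U : C) :
    ∃ S ∈ J U, ∀ ⦃U' : C⦄ (g : U' ⟶ U), S g → ∃ (W : D), Nonempty (U' ⟶ fn.obj W) := by
  have hT : IsTerminal ((L (J := J) (K := K) fn).obj (topP (D := D))) :=
    IsTerminal.isTerminalObj (L (J := J) (K := K) fn) _ isTerminalTopP
  let m : (presheafToSheaf J (Type u)).obj (yoneda.obj U) ⟶ (L (J := J) (K := K) fn).obj (topP (D := D)) :=
    hT.from _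
  let s : ((L (J := J) (K := K) fn).obj (topP (D := D))).obj.obj (op U) :=
    ((adjC (J := J)).homEquiv _ _ m).app (op U) (𝟙 U)
  obtain ⟨S, hS, h⟩ := exists_local_pair (J := J) (K := K) fn (topP (D := D)) s
  refine ⟨S, hS, fun U' g hg => ?_⟩
  obtain ⟨W, χ, -, -⟩ := h g hg
  exact ⟨W, ⟨χ⟩⟩

/-- the statement of local filteredness for families -/
def LFfam (ι : Type u) : Prop :=
  ∀ (U : C) (V : ι → D) (φ : ∀ i, U ⟶ fn.obj (V i)),
    ∃ S ∈ J U, ∀ ⦃U' : C⦄ (g : U' ⟶ U), S g → ∃ (W : D) (χ : U' ⟶ fn.obj W) (e : ∀ i, W ⟶ V i),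
      ∀ i, χ ≫ fn.map (e i) = g ≫ φ i

include K in
/-- **local filteredness, finite families** -/
theorem lf_fam (ι : Type u) [Finite ι] : LFfam (J := J) fn ι := by
  refine Finite.induction_empty_option (P := fun ι => LFfam (J := J) fn ι) ?_ ?_ ?_ ι
  · intro α β eqv hα U V φ
    obtain ⟨S, hS, h⟩ := hα U (fun a => V (eqv a)) (fun a => φ (eqv a))
    refine ⟨S, hS, fun U' g hg => ?_⟩
    obtain ⟨W, χ, e, he⟩ := h g hg
    refine ⟨W, χ, fun b => e (eqv.symm b) ≫ eqToHom (by rw [Equiv.apply_symm_apply]), fun b => ?_⟩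
    have := he (eqv.symm b)
    have key : ∀ (b' : β) (hb : eqv (eqv.symm b) = b'),
        χ ≫ fn.map (e (eqv.symm b) ≫ eqToHom (by rw [hb])) = g ≫ φ b' := by
      intro b' hb
      subst hb
      rw [eqToHom_refl, Category.comp_id]
      exact this
    exact key b (Equiv.apply_symm_apply _ _)
  · intro U V φ
    obtain ⟨S, hS, h⟩ := lf_nonempty (J := J) (K := K) fn U
    refine ⟨S, hS, fun U' g hg => ?_⟩
    obtain ⟨W, ⟨χ⟩⟩ := h g hg
    exact ⟨W, χ, fun i => i.elim, fun i => i.elim⟩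
  · intro α _ hα U V φ
    refine loc_bind (J := J) (Q := fun U' g => ∃ (W : D) (χ : U' ⟶ fn.obj W) (e : ∀ a : α, W ⟶ V (some a)),
        ∀ a, χ ≫ fn.map (e a) = g ≫ φ (some a))
      (hα U (fun a => V (some a)) (fun a => φ (some a))) ?_
    rintro U' g ⟨W₀, χ₀, e₀, he₀⟩
    obtain ⟨S', hS', h'⟩ := lf_prod (J := J) (K := K) fn χ₀ (g ≫ φ none)
    refine ⟨S', hS', fun U'' k hk => ?_⟩
    obtain ⟨W, χ, ψ₁, ψ₂, h1, h2⟩ := h' k hk
    refine ⟨W, χ, fun o => Option.rec ψ₂ (fun a => ψ₁ ≫ e₀ a) o, fun o => ?_⟩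
    cases o with
    | none =>
      show χ ≫ fn.map ψ₂ = (k ≫ g) ≫ φ none
      rw [h2, Category.assoc]
    | some a =>
      show χ ≫ fn.map (ψ₁ ≫ e₀ a) = (k ≫ g) ≫ φ (some a)
      rw [fn.map_comp, ← Category.assoc, h1, Category.assoc, he₀ a, Category.assoc]

/-- the statement of local filteredness for finitely many parallel pairs -/
def LFeqs (κ : Type u) : Prop :=
  ∀ (U : C) (W : D) (χ : U ⟶ fn.obj W) (V : κ → D) (ψ ψ' : ∀ k, W ⟶ V k),
    (∀ k, χ ≫ fn.map (ψ k) = χ ≫ fn.map (ψ' k)) →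
    ∃ S ∈ J U, ∀ ⦃U' : C⦄ (g : U' ⟶ U), S g → ∃ (W' : D) (χ' : U' ⟶ fn.obj W') (e : W' ⟶ W),
      (∀ k, e ≫ ψ k = e ≫ ψ' k) ∧ χ' ≫ fn.map e = g ≫ χ

include K in
/-- **local filteredness, finitely many parallel pairs** -/
theorem lf_eqs (κ : Type u) [Finite κ] : LFeqs (J := J) fn κ := by
  refine Finite.induction_empty_option (P := fun κ => LFeqs (J := J) fn κ) ?_ ?_ ?_ κ
  · intro α β eqv hα U W χ V ψ ψ' hψ
    obtain ⟨S, hS, h⟩ := hα U W χ (fun a => V (eqv a)) (fun a => ψ (eqv a)) (fun a => ψ' (eqv a))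
      (fun a => hψ (eqv a))
    refine ⟨S, hS, fun U' g hg => ?_⟩
    obtain ⟨W', χ', e, he, hχ⟩ := h g hg
    refine ⟨W', χ', e, fun b => ?_, hχ⟩
    have := he (eqv.symm b)
    rw [Equiv.apply_symm_apply] at this
    exact this
  · intro U W χ V ψ ψ' _
    refine ⟨⊤, J.top_mem U, fun U' g _ => ⟨W, g ≫ χ, 𝟙 W, fun k => k.elim, ?_⟩⟩
    rw [fn.map_id, Category.comp_id]
  · intro α _ hα U W χ V ψ ψ' hψ
    refine loc_bind (J := J) (Q := fun U' g => ∃ (W' : D) (χ' : U' ⟶ fn.obj W') (e : W' ⟶ W),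
        (∀ a : α, e ≫ ψ (some a) = e ≫ ψ' (some a)) ∧ χ' ≫ fn.map e = g ≫ χ)
      (hα U W χ (fun a => V (some a)) (fun a => ψ (some a)) (fun a => ψ' (some a))
        (fun a => hψ (some a))) ?_
    rintro U' g ⟨W₁, χ₁, e₁, he₁, hχ₁⟩
    have hcond : χ₁ ≫ fn.map (e₁ ≫ ψ none) = χ₁ ≫ fn.map (e₁ ≫ ψ' none) := by
      rw [fn.map_comp, fn.map_comp, ← Category.assoc, ← Category.assoc, hχ₁, Category.assoc,
        Category.assoc, hψ none]
    obtain ⟨S', hS', h'⟩ := lf_eq (J := J) (K := K) fn χ₁ (e₁ ≫ ψ none) (e₁ ≫ ψ' none) hcond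
    refine ⟨S', hS', fun U'' k hk => ?_⟩
    obtain ⟨W₂, χ₂, e₂, he₂, hχ₂⟩ := h' k hk
    refine ⟨W₂, χ₂, e₂ ≫ e₁, fun o => ?_, ?_⟩
    · cases o with
      | none =>
        rw [Category.assoc, Category.assoc]
        exact he₂
      | some a =>
        rw [Category.assoc, Category.assoc, he₁ a]
    · rw [fn.map_comp, ← Category.assoc, hχ₂, Category.assoc, hχ₁, Category.assoc]

include K in
/-- **local filteredness, finite graph-shaped diagrams** -/
theorem lf_graph (ι κ : Type u) [Finite ι] [Finite κ] (U : C) (V : ι → D) (φ : ∀ i, U ⟶ fn.obj (V i))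
    (s t : κ → ι) (ψ : ∀ k, V (s k) ⟶ V (t k)) (hψ : ∀ k, φ (s k) ≫ fn.map (ψ k) = φ (t k)) :
    ∃ S ∈ J U, ∀ ⦃U' : C⦄ (g : U' ⟶ U), S g → ∃ (W : D) (χ : U' ⟶ fn.obj W) (e : ∀ i, W ⟶ V i),
      (∀ i, χ ≫ fn.map (e i) = g ≫ φ i) ∧ ∀ k, e (s k) ≫ ψ k = e (t k) := by
  refine loc_bind (J := J) (Q := fun U' g => ∃ (W : D) (χ : U' ⟶ fn.obj W) (e : ∀ i, W ⟶ V i),
      ∀ i, χ ≫ fn.map (e i) = g ≫ φ i) (lf_fam (J := J) (K := K) fn ι U V φ) ?_
  rintro U' g ⟨W₀, χ₀, e₀, he₀⟩
  have hcond : ∀ k, χ₀ ≫ fn.map (e₀ (s k) ≫ ψ k) = χ₀ ≫ fn.map (e₀ (t k)) := by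
    intro k
    rw [fn.map_comp, ← Category.assoc, he₀, he₀, Category.assoc, hψ k]
  obtain ⟨S', hS', h'⟩ := lf_eqs (J := J) (K := K) fn κ U' W₀ χ₀ (fun k => V (t k))
    (fun k => e₀ (s k) ≫ ψ k) (fun k => e₀ (t k)) hcond
  refine ⟨S', hS', fun U'' k hk => ?_⟩
  obtain ⟨W', χ', e, he, hχ⟩ := h' k hk
  refine ⟨W', χ', fun i => e ≫ e₀ i, fun i => ?_, fun k' => ?_⟩
  · rw [fn.map_comp, ← Category.assoc, hχ, Category.assoc, he₀ i, Category.assoc]
  · rw [Category.assoc]
    exact he k'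

include K in
/-- continuous functors preserve covers -/
theorem cover_push {W : D} (S : Sieve W) (hS : S ∈ K W) : S.functorPushforward fn ∈ J (fn.obj W) :=
  (CoverPreserving.of_isContinuous fn K J).cover_preserve hS

end Exact3
end Groth.Agent.Lib.Helper4.LocFilt
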