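import Mathlib
import Groth.Prelude.Def_ModSite2
import Groth.Agent.Lib.Helper5.Misc.TensorSheaf
import Groth.Agent.Lib.Helper5.Misc.TensorLocal
import Groth.Agent.Lib.Helper4.RestrTensorA
import Groth.Agent.Lib.Helper4.PullTensorDelta

/-!
# Explicit presheaf model of the inverse image of modules along a morphism of ringed sites (helper4) (helper4)
-/

set_option backward.isDefEq.respectTransparency.types false
set_option synthInstance.maxHeartbeats 400000
set_option autoImplicit false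
set_option linter.unusedSectionVars false
set_option linter.style.haveILetI false
set_option linter.unusedSimpArgs false
universe u v w
open CategoryTheory CategoryTheory.Limits Opposite

namespace Groth.Agent.Lib.Helper4.PullModel
open Groth.Agent.Lib.Helper5.TensorSheaf Groth.Agent.Lib.Helper4.RestrTensorA
  Groth.Agent.Lib.Helper4.PullTensorDelta

variable {C D : Type u} [SmallCategory C] [SmallCategory D] {J : GrothendieckTopology C}
  {K : GrothendieckTopology D} {O_C : Sheaf J CommRingCat.{u}} {O_D : Sheaf K CommRingCat.{u}}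
  (f : ModSite.RMor O_C O_D) (M : ModSite.Mod O_D)

/-- the presheaf of rings of `O_C` -/
abbrev RC (O_C : Sheaf J CommRingCat.{u}) : Cᵒᵖ ⥤ RingCat.{u} := O_C.obj ⋙ forget₂ CommRingCat.{u} RingCat.{u}

/-- rings of sections -/
abbrev AC (O_C : Sheaf J CommRingCat.{u}) (X : Cᵒᵖ) : Type u := ((RC O_C).obj X : RingCat.{u})

/-- restriction of scalars -/
abbrev rr {X Y : Cᵒᵖ} (g : X ⟶ Y) : AC O_C X →+* AC O_C Y := ((RC O_C).map g).hom

/-- sections of `M` -/
abbrev MS (V : D) : Type u := M.val.obj (op V)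

/-- restriction of sections of `M` -/
noncomputable abbrev mres {V V' : D} (ψ : V ⟶ V') (m : MS M V') : MS M V := (M.val.map ψ.op).hom m

/-- the rings of sections of `O_D`, in the form over which `M` is a module -/
abbrev BD (O_D : Sheaf K CommRingCat.{u}) (V : D) : Type u := ((ModSite.ringSh O_D).obj.obj (op V) : RingCat.{u})

/-- the structure map, followed by restriction -/
noncomputable def sg {X : Cᵒᵖ} (V : D) (φ : X.unop ⟶ f.fn.obj V) (a : BD O_D V) : AC O_C X :=
  rr (O_C := O_C) φ.op (show AC O_C (op (f.fn.obj V)) from (f.sharpR.hom.app (op V)).hom a)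

/-- generators of the presheaf inverse image -/
structure Gn (X : Cᵒᵖ) where
  V : D
  φ : X.unop ⟶ f.fn.obj V
  m : MS M V

/-- the free module on the generators -/
abbrev FX (X : Cᵒᵖ) : Type u := Gn f M X →₀ AC O_C X

/-- the relations -/
inductive RelD (X : Cᵒᵖ) : Type u
  | r0 (V V' : D) (ψ : V ⟶ V') (φ : X.unop ⟶ f.fn.obj V) (m' : MS M V') : RelD X
  | r1 (V : D) (φ : X.unop ⟶ f.fn.obj V) (m m' : MS M V) : RelD X
  | r2 (V : D) (φ : X.unop ⟶ f.fn.obj V) (a : BD O_D V) (m : MS M V) : RelD X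

/-- the relation elements -/
noncomputable def toF (X : Cᵒᵖ) : RelD f M X → FX f M X
  | .r0 V V' ψ φ m' => Finsupp.single ⟨V, φ, mres M ψ m'⟩ 1 - Finsupp.single ⟨V', φ ≫ f.fn.map ψ, m'⟩ 1
  | .r1 V φ m m' => Finsupp.single ⟨V, φ, m + m'⟩ 1 - Finsupp.single ⟨V, φ, m⟩ 1 - Finsupp.single ⟨V, φ, m'⟩ 1
  | .r2 V φ a m => Finsupp.single ⟨V, φ, a • m⟩ 1 - Finsupp.single ⟨V, φ, m⟩ (sg f V φ a)

/-- the submodule of relations -/
noncomputable def KX (X : Cᵒᵖ) : Submodule (AC O_C X) (FX f M X) :=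
  Submodule.span (AC O_C X) (Set.range (toF f M X))

/-- restriction of generators -/
def resGen {X Y : Cᵒᵖ} (g : X ⟶ Y) (γ : Gn f M X) : Gn f M Y := ⟨γ.V, g.unop ≫ γ.φ, γ.m⟩

/-- restriction on free modules -/
noncomputable def resF {X Y : Cᵒᵖ} (g : X ⟶ Y) : FX f M X →ₛₗ[rr (O_C := O_C) g] FX f M Y where
  toFun x := Finsupp.mapDomain (resGen f M g) (Finsupp.mapRange (rr (O_C := O_C) g) (map_zero _) x)
  map_add' x y := by
    rw [Finsupp.mapRange_add (hf' := map_add (rr (O_C := O_C) g)), Finsupp.mapDomain_add]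
  map_smul' c x := by
    induction x using Finsupp.induction_linear with
    | zero => simp
    | add x y hx hy =>
      rw [smul_add, Finsupp.mapRange_add (hf' := map_add (rr (O_C := O_C) g)), Finsupp.mapDomain_add, hx, hy,
        Finsupp.mapRange_add (hf' := map_add (rr (O_C := O_C) g)), Finsupp.mapDomain_add, smul_add]
    | single γ d =>
      rw [Finsupp.smul_single, Finsupp.mapRange_single, Finsupp.mapRange_single,
        Finsupp.mapDomain_single, Finsupp.mapDomain_single, Finsupp.smul_single]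
      congr 1
      exact map_mul (rr (O_C := O_C) g) c d

lemma resF_single {X Y : Cᵒᵖ} (g : X ⟶ Y) (γ : Gn f M X) (c : AC O_C X) :
    resF f M g (Finsupp.single γ c) = Finsupp.single (resGen f M g γ) (rr (O_C := O_C) g c) := by
  show Finsupp.mapDomain (resGen f M g) (Finsupp.mapRange (rr (O_C := O_C) g) (map_zero _) (Finsupp.single γ c)) = _
  rw [Finsupp.mapRange_single, Finsupp.mapDomain_single]

lemma rr_comp {X Y Z : Cᵒᵖ} (g : X ⟶ Y) (h : Y ⟶ Z) (c : AC O_C X) :
    rr (O_C := O_C) (g ≫ h) c = rr (O_C := O_C) h (rr (O_C := O_C) g c) := by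
  show ((RC O_C).map (g ≫ h)).hom c = _
  rw [Functor.map_comp]
  rfl

lemma rr_id {X : Cᵒᵖ} (c : AC O_C X) : rr (O_C := O_C) (𝟙 X) c = c := by
  show ((RC O_C).map (𝟙 X)).hom c = _
  rw [CategoryTheory.Functor.map_id]
  rfl

lemma rr_sg {X Y : Cᵒᵖ} (g : X ⟶ Y) (V : D) (φ : X.unop ⟶ f.fn.obj V) (a : BD O_D V) :
    rr (O_C := O_C) g (sg f V φ a) = sg f V (g.unop ≫ φ) a := by
  unfold sg
  rw [op_comp, Quiver.Hom.op_unop, rr_comp]

lemma resF_toF {X Y : Cᵒᵖ} (g : X ⟶ Y) (ρ : RelD f M X) :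
    resF f M g (toF f M X ρ) ∈ KX f M Y := by
  cases ρ with
  | r0 V V' ψ φ m' =>
    have : resF f M g (toF f M X (.r0 V V' ψ φ m')) = toF f M Y (.r0 V V' ψ (g.unop ≫ φ) m') := by
      show resF f M g (Finsupp.single _ 1 - Finsupp.single _ 1) = Finsupp.single _ 1 - Finsupp.single _ 1
      rw [map_sub, resF_single, resF_single, map_one]
      congr 2
      show (⟨V', g.unop ≫ φ ≫ f.fn.map ψ, m'⟩ : Gn f M Y) = ⟨V', (g.unop ≫ φ) ≫ f.fn.map ψ, m'⟩
      rw [Category.assoc]
    rw [this]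
    exact Submodule.subset_span ⟨_, rfl⟩
  | r1 V φ m m' =>
    have : resF f M g (toF f M X (.r1 V φ m m')) = toF f M Y (.r1 V (g.unop ≫ φ) m m') := by
      show resF f M g (Finsupp.single _ 1 - Finsupp.single _ 1 - Finsupp.single _ 1) =
        Finsupp.single _ 1 - Finsupp.single _ 1 - Finsupp.single _ 1
      rw [map_sub, map_sub, resF_single, resF_single, resF_single, map_one]
      rfl
    rw [this]
    exact Submodule.subset_span ⟨_, rfl⟩
  | r2 V φ a m =>
    have : resF f M g (toF f M X (.r2 V φ a m)) = toF f M Y (.r2 V (g.unop ≫ φ) a m) := by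
      show resF f M g (Finsupp.single _ 1 - Finsupp.single _ _) = Finsupp.single _ 1 - Finsupp.single _ _
      rw [map_sub, resF_single, resF_single, map_one, rr_sg]
      rfl
    rw [this]
    exact Submodule.subset_span ⟨_, rfl⟩

lemma KX_le_comap {X Y : Cᵒᵖ} (g : X ⟶ Y) : KX f M X ≤ (KX f M Y).comap (resF f M g) := by
  unfold KX
  rw [Submodule.span_le]
  rintro _ ⟨ρ, rfl⟩
  exact resF_toF f M g ρ

/-- the quotient module -/
abbrev GX (X : Cᵒᵖ) : Type u := FX f M X ⧸ KX f M X

/-- restriction on quotient modules -/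
noncomputable def resQ {X Y : Cᵒᵖ} (g : X ⟶ Y) : GX f M X →ₛₗ[rr (O_C := O_C) g] GX f M Y :=
  Submodule.mapQ (KX f M X) (KX f M Y) (resF f M g) (KX_le_comap f M g)

lemma resF_id {X : Cᵒᵖ} (x : FX f M X) : resF f M (𝟙 X) x = x := by
  induction x using Finsupp.induction_linear with
  | zero => exact map_zero _
  | add x y hx hy => rw [map_add, hx, hy]
  | single γ d =>
    rw [resF_single, rr_id]
    congr 1
    show (⟨γ.V, (𝟙 X).unop ≫ γ.φ, γ.m⟩ : Gn f M X) = γ
    rw [unop_id, Category.id_comp]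

lemma resF_comp {X Y Z : Cᵒᵖ} (g : X ⟶ Y) (h : Y ⟶ Z) (x : FX f M X) :
    resF f M (g ≫ h) x = resF f M h (resF f M g x) := by
  induction x using Finsupp.induction_linear with
  | zero => rw [map_zero, map_zero, map_zero]
  | add x y hx hy => rw [map_add, hx, hy, map_add, map_add]
  | single γ d =>
    rw [resF_single, resF_single, resF_single, rr_comp]
    congr 1
    show (⟨γ.V, (g ≫ h).unop ≫ γ.φ, γ.m⟩ : Gn f M Z) = ⟨γ.V, h.unop ≫ g.unop ≫ γ.φ, γ.m⟩
    rw [unop_comp, Category.assoc]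

/-- the underlying presheaf of abelian groups of the presheaf inverse image -/
noncomputable def G0ab : Cᵒᵖ ⥤ Ab.{u} where
  obj X := AddCommGrpCat.of (GX f M X)
  map g := AddCommGrpCat.ofHom (resQ f M g).toAddMonoidHom
  map_id X := by
    ext x
    obtain ⟨x, rfl⟩ := Submodule.Quotient.mk_surjective _ x
    show Submodule.Quotient.mk (resF f M (𝟙 X) x) = Submodule.Quotient.mk x
    rw [resF_id]
  map_comp g h := by
    ext x
    obtain ⟨x, rfl⟩ := Submodule.Quotient.mk_surjective _ x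
    show Submodule.Quotient.mk (resF f M (g ≫ h) x) = Submodule.Quotient.mk (resF f M h (resF f M g x))
    rw [resF_comp]

noncomputable instance modG0ab (X : Cᵒᵖ) : Module ((RC O_C).obj X) ((G0ab f M).obj X) :=
  inferInstanceAs (Module (AC O_C X) (GX f M X))

/-- **the presheaf inverse image** -/
noncomputable def G0 : PM O_C :=
  PresheafOfModules.ofPresheaf (R := RC O_C) (G0ab f M) (by
    intro X Y g r m
    exact (resQ f M g).map_smulₛₗ r m)

/-- the quotient map -/
noncomputable def mkG (X : Cᵒᵖ) (x : FX f M X) : (G0 f M).obj X := Submodule.Quotient.mk (p := KX f M X) x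

lemma mkG_add (X : Cᵒᵖ) (x y : FX f M X) : mkG f M X (x + y) = mkG f M X x + mkG f M X y := rfl

lemma mkG_smul (X : Cᵒᵖ) (c : AC O_C X) (x : FX f M X) : mkG f M X (c • x) = c • mkG f M X x := rfl

lemma mkG_surjective (X : Cᵒᵖ) : Function.Surjective (mkG f M X) :=
  Submodule.Quotient.mk_surjective _

lemma mkG_eq_zero (X : Cᵒᵖ) (x : FX f M X) : mkG f M X x = 0 ↔ x ∈ KX f M X :=
  Submodule.Quotient.mk_eq_zero _

lemma G0_map_mkG {X Y : Cᵒᵖ} (g : X ⟶ Y) (x : FX f M X) :
    ((G0 f M).map g).hom (mkG f M X x) = mkG f M Y (resF f M g x) := rfl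

/-- the class of a generator -/
noncomputable def gen (X : Cᵒᵖ) (V : D) (φ : X.unop ⟶ f.fn.obj V) (m : MS M V) : (G0 f M).obj X :=
  mkG f M X (Finsupp.single ⟨V, φ, m⟩ 1)

lemma G0_map_gen {X Y : Cᵒᵖ} (g : X ⟶ Y) (V : D) (φ : X.unop ⟶ f.fn.obj V) (m : MS M V) :
    ((G0 f M).map g).hom (gen f M X V φ m) = gen f M Y V (g.unop ≫ φ) m := by
  unfold gen
  rw [G0_map_mkG, resF_single, map_one]
  rfl

lemma gen_r0 (X : Cᵒᵖ) {V V' : D} (ψ : V ⟶ V') (φ : X.unop ⟶ f.fn.obj V) (m' : MS M V') :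
    gen f M X V φ (mres M ψ m') = gen f M X V' (φ ≫ f.fn.map ψ) m' := by
  have h : mkG f M X (toF f M X (.r0 V V' ψ φ m')) = 0 :=
    (mkG_eq_zero f M X _).2 (Submodule.subset_span ⟨_, rfl⟩)
  exact sub_eq_zero.1 h

lemma gen_add (X : Cᵒᵖ) (V : D) (φ : X.unop ⟶ f.fn.obj V) (m m' : MS M V) :
    gen f M X V φ (m + m') = gen f M X V φ m + gen f M X V φ m' := by
  have h : mkG f M X (toF f M X (.r1 V φ m m')) = 0 :=
    (mkG_eq_zero f M X _).2 (Submodule.subset_span ⟨_, rfl⟩)
  have h' : gen f M X V φ (m + m') - gen f M X V φ m - gen f M X V φ m' = 0 := h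
  rw [sub_sub, sub_eq_zero] at h'
  exact h'

lemma gen_smul (X : Cᵒᵖ) (V : D) (φ : X.unop ⟶ f.fn.obj V) (a : BD O_D V) (m : MS M V) :
    gen f M X V φ (a • m) = (sg f V φ a : AC O_C X) • gen f M X V φ m := by
  have h : mkG f M X (toF f M X (.r2 V φ a m)) = 0 :=
    (mkG_eq_zero f M X _).2 (Submodule.subset_span ⟨_, rfl⟩)
  have h' : gen f M X V φ (a • m) - mkG f M X (Finsupp.single ⟨V, φ, m⟩ (sg f V φ a)) = 0 := h
  rw [sub_eq_zero] at h'
  rw [h']
  unfold gen
  rw [← mkG_smul, Finsupp.smul_single, smul_eq_mul, mul_one]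

lemma mkG_single (X : Cᵒᵖ) (γ : Gn f M X) (c : AC O_C X) :
    mkG f M X (Finsupp.single γ c) = c • gen f M X γ.V γ.φ γ.m := by
  unfold gen
  rw [← mkG_smul, Finsupp.smul_single, smul_eq_mul, mul_one]

lemma sg_id (V : D) (a : BD O_D V) :
    sg f (X := op (f.fn.obj V)) V (𝟙 _) a =
      (show AC O_C (op (f.fn.obj V)) from (f.sharpR.hom.app (op V)).hom a) := by
  unfold sg
  rw [op_id]
  exact rr_id _

/-- the universal map `M ⟶ f_* G0`, presheaf level -/
noncomputable def θ0 : (fgt O_D).obj M ⟶ (fp f).obj (G0 f M) :=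
  PresheafOfModules.homMk
    (M₁ := (fgt O_D).obj M) (M₂ := (fp f).obj (G0 f M))
    { app := fun Y => AddCommGrpCat.ofHom
        { toFun := fun m => (gen f M (op (f.fn.obj Y.unop)) Y.unop (𝟙 _) m :
            (G0 f M).obj (op (f.fn.obj Y.unop)))
          map_zero' := by
            have := gen_add f M (op (f.fn.obj Y.unop)) Y.unop (𝟙 _) 0 0
            rw [add_zero] at this
            exact (add_eq_left.1 this.symm)
          map_add' := fun m m' => gen_add f M _ _ _ m m' }
      naturality := by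
        intro Y Y' g
        ext m
        show gen f M (op (f.fn.obj Y'.unop)) Y'.unop (𝟙 _) (mres M g.unop m) =
          ((G0 f M).map (f.fn.map g.unop).op).hom (gen f M (op (f.fn.obj Y.unop)) Y.unop (𝟙 _) m)
        rw [gen_r0, G0_map_gen]
        congr 1
        exact (Category.id_comp _).trans (Category.comp_id (f.fn.map g.unop)).symm }
    (by
      intro Y r m
      show gen f M (op (f.fn.obj Y.unop)) Y.unop (𝟙 _) (r • m) =
        (show AC O_C (op (f.fn.obj Y.unop)) from (f.sharpR.hom.app Y).hom r) •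
          gen f M (op (f.fn.obj Y.unop)) Y.unop (𝟙 _) m
      refine (gen_smul f M (op (f.fn.obj Y.unop)) Y.unop (𝟙 _) r m).trans ?_
      rw [sg_id])

lemma θ0_app (V : D) (m : MS M V) :
    ((θ0 f M).app (op V)).hom m = gen f M (op (f.fn.obj V)) V (𝟙 _) m := rfl

section Desc
variable {f M} {P : PM O_C} (θ : (fgt O_D).obj M ⟶ (fp f).obj P)

/-- the value of `θ` on a section, as an element of `P` -/
noncomputable def tv (V : D) (m : MS M V) : P.obj (op (f.fn.obj V)) := (θ.app (op V)).hom m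

lemma tv_add (V : D) (m m' : MS M V) : tv θ V (m + m') = tv θ V m + tv θ V m' :=
  map_add (θ.app (op V)).hom m m'

lemma tv_smul (V : D) (a : BD O_D V) (m : MS M V) :
    tv θ V (a • m) = (show AC O_C (op (f.fn.obj V)) from (f.sharpR.hom.app (op V)).hom a) • tv θ V m :=
  (θ.app (op V)).hom.map_smul a m

lemma tv_res {V V' : D} (ψ : V ⟶ V') (m' : MS M V') :
    tv θ V (mres M ψ m') = (P.map (f.fn.map ψ).op).hom (tv θ V' m') :=
  (PresheafOfModules.naturality_apply θ ψ.op m')

/-- the value of the descended map on a generator -/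
noncomputable def ev (X : Cᵒᵖ) (γ : Gn f M X) : P.obj X := (P.map γ.φ.op).hom (tv θ γ.V γ.m)

lemma P_map_smul {X Y : Cᵒᵖ} (g : X ⟶ Y) (c : AC O_C X) (x : P.obj X) :
    (P.map g).hom (c • x) = (rr (O_C := O_C) g c) • (P.map g).hom x :=
  P.map_smul g c x

lemma P_map_comp {X Y Z : Cᵒᵖ} (g : X ⟶ Y) (h : Y ⟶ Z) (x : P.obj X) :
    (P.map (g ≫ h)).hom x = (P.map h).hom ((P.map g).hom x) := by
  rw [P.map_comp]
  rfl

lemma P_map_id (X : Cᵒᵖ) (x : P.obj X) : (P.map (𝟙 X)).hom x = x := by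
  have h := P.presheaf.map_id X
  have h2 := congrArg (fun k => k.hom x) h
  exact h2

/-- the descended map on free modules -/
noncomputable def dF (X : Cᵒᵖ) : FX f M X →ₗ[AC O_C X] P.obj X :=
  Finsupp.linearCombination (AC O_C X) (ev θ X)

lemma dF_single (X : Cᵒᵖ) (γ : Gn f M X) (c : AC O_C X) :
    dF θ X (Finsupp.single γ c) = c • ev θ X γ :=
  Finsupp.linearCombination_single _ _ _

lemma dF_toF (X : Cᵒᵖ) (ρ : RelD f M X) : dF θ X (toF f M X ρ) = 0 := by
  cases ρ with
  | r0 V V' ψ φ m' =>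
    show dF θ X (Finsupp.single _ 1 - Finsupp.single _ 1) = 0
    rw [map_sub, dF_single, dF_single, one_smul, one_smul, sub_eq_zero]
    show (P.map φ.op).hom (tv θ V (mres M ψ m')) = (P.map (φ ≫ f.fn.map ψ).op).hom (tv θ V' m')
    rw [tv_res, op_comp, P_map_comp]
  | r1 V φ m m' =>
    show dF θ X (Finsupp.single _ 1 - Finsupp.single _ 1 - Finsupp.single _ 1) = 0
    rw [map_sub, map_sub, dF_single, dF_single, dF_single, one_smul, one_smul, one_smul, sub_sub, sub_eq_zero]
    show (P.map φ.op).hom (tv θ V (m + m')) = (P.map φ.op).hom (tv θ V m) + (P.map φ.op).hom (tv θ V m')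
    rw [tv_add, map_add]
  | r2 V φ a m =>
    show dF θ X (Finsupp.single _ 1 - Finsupp.single _ _) = 0
    rw [map_sub, dF_single, dF_single, one_smul, sub_eq_zero]
    show (P.map φ.op).hom (tv θ V (a • m)) = sg f V φ a • (P.map φ.op).hom (tv θ V m)
    rw [tv_smul, P_map_smul]
    rfl

lemma KX_le_ker (X : Cᵒᵖ) : KX f M X ≤ LinearMap.ker (dF θ X) := by
  unfold KX
  rw [Submodule.span_le]
  rintro _ ⟨ρ, rfl⟩
  exact dF_toF θ X ρ

/-- the descended map on quotient modules -/
noncomputable def dQ (X : Cᵒᵖ) : GX f M X →ₗ[AC O_C X] P.obj X :=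
  (KX f M X).liftQ (dF θ X) (KX_le_ker θ X)

lemma dF_resF {X Y : Cᵒᵖ} (g : X ⟶ Y) (x : FX f M X) :
    dF θ Y (resF f M g x) = (P.map g).hom (dF θ X x) := by
  induction x using Finsupp.induction_linear with
  | zero =>
    rw [map_zero, map_zero]
    exact (map_zero (P.map g).hom).symm
  | add x y hx hy =>
    rw [map_add, map_add, hx, hy, map_add]
    exact (map_add (P.map g).hom _ _).symm
  | single γ c =>
    rw [resF_single, dF_single, dF_single, P_map_smul]
    congr 1
    show (P.map (g.unop ≫ γ.φ).op).hom (tv θ γ.V γ.m) = (P.map g).hom ((P.map γ.φ.op).hom (tv θ γ.V γ.m))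
    rw [op_comp, P_map_comp]
    rfl

/-- **the descended map** `G0 ⟶ P` -/
noncomputable def descG : G0 f M ⟶ P :=
  PresheafOfModules.homMk (M₁ := G0 f M) (M₂ := P)
    { app := fun X => AddCommGrpCat.ofHom (dQ θ X).toAddMonoidHom
      naturality := by
        intro X Y g
        ext x
        obtain ⟨x, rfl⟩ := mkG_surjective f M X x
        show dF θ Y (resF f M g x) = (P.map g).hom (dF θ X x)
        exact dF_resF θ g x }
    (by
      intro X r m
      exact (dQ θ X).map_smul r m)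

lemma descG_mkG (X : Cᵒᵖ) (x : FX f M X) : ((descG θ).app X).hom (mkG f M X x) = dF θ X x := rfl

lemma descG_gen (X : Cᵒᵖ) (V : D) (φ : X.unop ⟶ f.fn.obj V) (m : MS M V) :
    ((descG θ).app X).hom (gen f M X V φ m) = (P.map φ.op).hom (tv θ V m) := by
  unfold gen
  rw [descG_mkG, dF_single, one_smul]
  rfl

/-- the descended map restricts to `θ` -/
lemma θ0_descG : θ0 f M ≫ (fp f).map (descG θ) = θ := by
  apply PresheafOfModules.hom_ext
  intro Y
  ext m
  show ((descG θ).app (op (f.fn.obj Y.unop))).hom (gen f M (op (f.fn.obj Y.unop)) Y.unop (𝟙 _) m) = _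
  rw [descG_gen]
  exact P_map_id _ _

/-- uniqueness of the descended map -/
lemma descG_ext {t t' : G0 f M ⟶ P} (h : θ0 f M ≫ (fp f).map t = θ0 f M ≫ (fp f).map t') : t = t' := by
  apply PresheafOfModules.hom_ext
  intro X
  ext x
  obtain ⟨x, rfl⟩ := mkG_surjective f M X x
  induction x using Finsupp.induction_linear with
  | zero =>
    have : mkG f M X 0 = 0 := rfl
    rw [this, map_zero, map_zero]
  | add x y hx hy => rw [mkG_add, map_add, map_add, hx, hy]
  | single γ c =>
    rw [mkG_single, map_smul, map_smul]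
    congr 1
    have e : gen f M X γ.V γ.φ γ.m =
        ((G0 f M).map γ.φ.op).hom (gen f M (op (f.fn.obj γ.V)) γ.V (𝟙 _) γ.m) := by
      rw [G0_map_gen]
      congr 1
      exact (Category.comp_id _).symm
    rw [e, PresheafOfModules.naturality_apply, PresheafOfModules.naturality_apply]
    congr 1
    have := congrArg (fun k => (k.app (op γ.V)).hom γ.m) h
    exact this

end Desc
section Iso

instance fgt_full (O : Sheaf K CommRingCat.{u}) : (fgt O).Full :=
  inferInstanceAs (SheafOfModules.forget (ModSite.ringSh O)).Full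

instance fgt_faithful (O : Sheaf K CommRingCat.{u}) : (fgt O).Faithful :=
  inferInstanceAs (SheafOfModules.forget (ModSite.ringSh O)).Faithful

/-- the sheafified presheaf inverse image -/
noncomputable abbrev Gs : ModSite.Mod O_C := (shf O_C).obj (G0 f M)

/-- the universal map `M ⟶ f_* Gs` -/
noncomputable def bflat : M ⟶ f.push.obj (Gs f M) :=
  (fgt O_D).preimage (X := M) (Y := f.push.obj (Gs f M))
    (θ0 f M ≫ (fp f).map ((unit' O_C).app (G0 f M)))

lemma fgt_bflat : (fgt O_D).map (bflat f M) = θ0 f M ≫ (fp f).map ((unit' O_C).app (G0 f M)) :=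
  (fgt O_D).map_preimage _

/-- `f^*M ⟶ Gs` -/
noncomputable def bG : f.pull.obj M ⟶ Gs f M := (f.adj.homEquiv M (Gs f M)).symm (bflat f M)

/-- `Gs ⟶ f^*M` -/
noncomputable def aG : Gs f M ⟶ f.pull.obj M :=
  adjunct (descG (P := (fgt O_C).obj (f.pull.obj M)) ((fgt O_D).map (f.adj.unit.app M)))

lemma un_aG : (unit' O_C).app (G0 f M) ≫ (fgt O_C).map (aG f M) =
    descG (P := (fgt O_C).obj (f.pull.obj M)) ((fgt O_D).map (f.adj.unit.app M)) :=
  un_adjunct _

/-- the unit of `f^* ⊣ f_*`, presheaf level -/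
noncomputable abbrev ηp : (fgt O_D).obj M ⟶ (fp f).obj ((fgt O_C).obj (f.pull.obj M)) :=
  (fgt O_D).map (f.adj.unit.app M)

/-- `bflat`, presheaf level -/
noncomputable abbrev bfp : (fgt O_D).obj M ⟶ (fp f).obj ((fgt O_C).obj (Gs f M)) :=
  (fgt O_D).map (bflat f M)

lemma bfp_eq : bfp f M = θ0 f M ≫ (fp f).map ((unit' O_C).app (G0 f M)) := fgt_bflat f M

lemma fgt_comp_push {X Y : ModSite.Mod O_C} {N : ModSite.Mod O_D} (a : N ⟶ f.push.obj X) (b : X ⟶ Y) :
    (fgt O_D).map (a ≫ f.push.map b) =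
      ((fgt O_D).map a : (fgt O_D).obj N ⟶ (fp f).obj ((fgt O_C).obj X)) ≫
        (fp f).map ((fgt O_C).map b) :=
  (fgt O_D).map_comp _ _

lemma bG_aG : bG f M ≫ aG f M = 𝟙 _ := by
  apply (f.adj.homEquiv _ _).injective
  have e1 : f.adj.homEquiv _ _ (bG f M ≫ aG f M) = bflat f M ≫ f.push.map (aG f M) := by
    rw [Adjunction.homEquiv_naturality_right]
    unfold bG
    rw [Equiv.apply_symm_apply]
  have e2 : f.adj.homEquiv _ _ (𝟙 (f.pull.obj M)) = f.adj.unit.app M := by
    rw [Adjunction.homEquiv_unit, CategoryTheory.Functor.map_id]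
    exact Category.comp_id _
  rw [e1, e2]
  apply (fgt O_D).map_injective
  refine (fgt_comp_push f (bflat f M) (aG f M)).trans ?_
  show bfp f M ≫ (fp f).map ((fgt O_C).map (aG f M)) = ηp f M
  rw [bfp_eq]
  refine (Category.assoc _ _ _).trans ?_
  have h1 : (fp f).map ((unit' O_C).app (G0 f M)) ≫ (fp f).map ((fgt O_C).map (aG f M)) =
      (fp f).map (descG (P := (fgt O_C).obj (f.pull.obj M)) (ηp f M)) := by
    rw [← Functor.map_comp]
    exact congrArg _ (un_aG f M)
  rw [h1]
  exact θ0_descG (ηp f M)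

lemma aG_bG : aG f M ≫ bG f M = 𝟙 _ := by
  apply adjunct_ext
  have e0 : (unit' O_C).app (G0 f M) ≫ (fgt O_C).map (𝟙 (Gs f M)) = (unit' O_C).app (G0 f M) := by
    rw [CategoryTheory.Functor.map_id]
    exact Category.comp_id _
  refine Eq.trans ?_ e0.symm
  have e1 : (unit' O_C).app (G0 f M) ≫ (fgt O_C).map (aG f M ≫ bG f M) =
      descG (P := (fgt O_C).obj (f.pull.obj M)) (ηp f M) ≫ (fgt O_C).map (bG f M) := by
    rw [Functor.map_comp, ← Category.assoc]
    exact congrArg (fun k => k ≫ (fgt O_C).map (bG f M)) (un_aG f M)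
  refine e1.trans ?_
  apply descG_ext
  have e2 : θ0 f M ≫ (fp f).map (descG (P := (fgt O_C).obj (f.pull.obj M)) (ηp f M) ≫ (fgt O_C).map (bG f M)) =
      ηp f M ≫ (fp f).map ((fgt O_C).map (bG f M)) := by
    rw [Functor.map_comp, ← Category.assoc]
    exact congrArg (fun k => k ≫ (fp f).map ((fgt O_C).map (bG f M))) (θ0_descG (ηp f M))
  refine e2.trans ?_
  refine (fgt_comp_push f (f.adj.unit.app M) (bG f M)).symm.trans ?_
  have h2 : f.adj.unit.app M ≫ f.push.map (bG f M) = bflat f M := by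
    have := (f.adj.homEquiv M (Gs f M)).apply_symm_apply (bflat f M)
    rw [Adjunction.homEquiv_unit] at this
    exact this
  rw [h2]
  exact bfp_eq f M

/-- **the sheafified presheaf inverse image is the inverse image** -/
noncomputable def gsIso : Gs f M ≅ f.pull.obj M where
  hom := aG f M
  inv := bG f M
  hom_inv_id := aG_bG f M
  inv_hom_id := bG_aG f M

end Iso
end Groth.Agent.Lib.Helper4.PullModel
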