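import Mathlib
import Groth.Prelude.Def_ModSite2
import Groth.Agent.Lib.Helper4.PullModel
import Groth.Agent.Lib.Helper4.LocFilt

/-!
# Vanishing in the presheaf inverse image is locally vanishing at a single stage (helper4) (helper4)
-/

set_option backward.isDefEq.respectTransparency.types false
set_option synthInstance.maxHeartbeats 400000
set_option autoImplicit false
set_option linter.unusedSectionVars false
set_option linter.style.haveILetI false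
set_option linter.unusedSimpArgs false
universe u v w
open CategoryTheory CategoryTheory.Limits Opposite

namespace Groth.Agent.Lib.Helper4.PullVanish
open TensorProduct
open Groth.Agent.Lib.Helper5.TensorSheaf Groth.Agent.Lib.Helper4.RestrTensorA
  Groth.Agent.Lib.Helper4.PullTensorDelta Groth.Agent.Lib.Helper4.PullModel Groth.Agent.Lib.Helper4.LocFilt

variable {C D : Type u} [SmallCategory C] [SmallCategory D] {J : GrothendieckTopology C}
  {K : GrothendieckTopology D} {O_C : Sheaf J CommRingCat.{u}} {O_D : Sheaf K CommRingCat.{u}}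
  (f : ModSite.RMor O_C O_D) (M : ModSite.Mod O_D)

/-- the stage ring map `O_D(W) → O_C(U')` -/
noncomputable def st {U' : C} {W : D} (χ : U' ⟶ f.fn.obj W) :
    O_D.obj.obj (op W) →+* O_C.obj.obj (op U') :=
  (O_C.obj.map χ.op).hom.comp (f.sharp.hom.app (op W)).hom

/-- `O_C(U')` as an `O_D(W)`-algebra -/
def OCs {U' : C} {W : D} (χ : U' ⟶ f.fn.obj W) : Type u := O_C.obj.obj (op U')

noncomputable instance {U' : C} {W : D} (χ : U' ⟶ f.fn.obj W) : CommRing (OCs f χ) :=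
  inferInstanceAs (CommRing (O_C.obj.obj (op U')))

noncomputable instance {U' : C} {W : D} (χ : U' ⟶ f.fn.obj W) : Algebra (O_D.obj.obj (op W)) (OCs f χ) :=
  (st f χ).toAlgebra

/-- the stage tensor product -/
abbrev TS {U' : C} {W : D} (χ : U' ⟶ f.fn.obj W) : Type u :=
  OCs f χ ⊗[O_D.obj.obj (op W)] ModSite.sect M W

/-- an element of `O_C(U')`, as an element of the algebra -/
def toOCs {U' : C} {W : D} (χ : U' ⟶ f.fn.obj W) (c : O_C.obj.obj (op U')) : OCs f χ := c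

lemma algebraMap_OCs {U' : C} {W : D} (χ : U' ⟶ f.fn.obj W) (b : O_D.obj.obj (op W)) :
    algebraMap (O_D.obj.obj (op W)) (OCs f χ) b = toOCs f χ (st f χ b) := rfl

section Stage
variable {f M}

/-- pairs `(V, φ : U ⟶ fn V)` -/
abbrev Pr (f : ModSite.RMor O_C O_D) (U : C) : Type u := Σ V : D, (U ⟶ f.fn.obj V)

/-- the pair of a generator -/
def prG {U : C} (γ : Gn f M (op U)) : Pr f U := ⟨γ.V, γ.φ⟩

/-- source pair of a relation -/
def srcR {U : C} : RelD f M (op U) → Pr f U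
  | .r0 V _ _ φ _ => ⟨V, φ⟩
  | .r1 V φ _ _ => ⟨V, φ⟩
  | .r2 V φ _ _ => ⟨V, φ⟩

/-- target pair of a relation -/
def tgtR {U : C} : RelD f M (op U) → Pr f U
  | .r0 _ V' ψ φ _ => ⟨V', φ ≫ f.fn.map ψ⟩
  | .r1 V φ _ _ => ⟨V, φ⟩
  | .r2 V φ _ _ => ⟨V, φ⟩

/-- the arrow of a relation -/
def arrR {U : C} : (ρ : RelD f M (op U)) → ((srcR ρ).1 ⟶ (tgtR ρ).1)
  | .r0 _ _ ψ _ _ => ψ
  | .r1 V _ _ _ => 𝟙 V
  | .r2 V _ _ _ => 𝟙 V

lemma arrR_comp {U : C} (ρ : RelD f M (op U)) : (srcR ρ).2 ≫ f.fn.map (arrR ρ) = (tgtR ρ).2 := by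
  cases ρ with
  | r0 V V' ψ φ m' => rfl
  | r1 V φ m m' => exact (congrArg (fun k => φ ≫ k) (f.fn.map_id V)).trans (Category.comp_id _)
  | r2 V φ a m => exact (congrArg (fun k => φ ≫ k) (f.fn.map_id V)).trans (Category.comp_id _)

variable {U U' : C} (g : U' ⟶ U) {W : D} (χ : U' ⟶ f.fn.obj W) (Γ : Finset (Pr f U))
  (e : ∀ p : {p // p ∈ Γ}, W ⟶ p.1.1)

/-- restriction of scalars into the stage algebra -/
noncomputable def rrO : AC O_C (op U) →+* OCs f χ := rr (O_C := O_C) g.op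

open Classical in
/-- the value of a generator at the stage -/
noncomputable def val (γ : Gn f M (op U)) : TS f M χ :=
  if h : prG γ ∈ Γ then (1 : OCs f χ) ⊗ₜ[O_D.obj.obj (op W)] (mres M (e ⟨prG γ, h⟩) γ.m : ModSite.sect M W) else 0

/-- evaluation at the stage -/
noncomputable def Θ : FX f M (op U) →+ TS f M χ :=
  Finsupp.liftAddHom (fun γ =>
    ((LinearMap.toSpanSingleton (OCs f χ) (TS f M χ) (val χ Γ e γ)).toAddMonoidHom).comp
      (rrO g χ).toAddMonoidHom)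

lemma Θ_single (γ : Gn f M (op U)) (c : AC O_C (op U)) :
    Θ g χ Γ e (Finsupp.single γ c) = (rrO g χ c) • val χ Γ e γ := by
  unfold Θ
  rw [Finsupp.liftAddHom_apply_single]
  rfl

lemma Θ_smul (c : AC O_C (op U)) (x : FX f M (op U)) :
    Θ g χ Γ e (c • x) = (rrO g χ c) • Θ g χ Γ e x := by
  induction x using Finsupp.induction_linear with
  | zero => rw [smul_zero, map_zero, smul_zero]
  | add x y hx hy => rw [smul_add, map_add, hx, hy, map_add, smul_add]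
  | single γ d =>
    rw [Finsupp.smul_single, Θ_single, Θ_single, smul_eq_mul, map_mul, mul_smul]

end Stage
section Stage2
variable {f M}
variable {U U' : C} (g : U' ⟶ U) {W : D} (χ : U' ⟶ f.fn.obj W) (Γ : Finset (Pr f U))
  (e : ∀ p : {p // p ∈ Γ}, W ⟶ p.1.1)

lemma val_pos (γ : Gn f M (op U)) (h : prG γ ∈ Γ) :
    val χ Γ e γ = (1 : OCs f χ) ⊗ₜ[O_D.obj.obj (op W)] (mres M (e ⟨prG γ, h⟩) γ.m : ModSite.sect M W) :=
  dif_pos h

lemma mres_comp {V₁ V₂ V₃ : D} (a : V₁ ⟶ V₂) (b : V₂ ⟶ V₃) (m : MS M V₃) :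
    mres M a (mres M b m) = mres M (a ≫ b) m := by
  show (M.val.map a.op).hom ((M.val.map b.op).hom m) = (M.val.map (a ≫ b).op).hom m
  rw [op_comp, PresheafOfModules.map_comp_apply]

lemma mres_add {V₁ V₂ : D} (a : V₁ ⟶ V₂) (m m' : MS M V₂) :
    mres M a (m + m') = mres M a m + mres M a m' := map_add (M.val.map a.op).hom m m'

lemma mres_smul {V₁ V₂ : D} (a : V₁ ⟶ V₂) (r : BD O_D V₂) (m : MS M V₂) :
    mres M a (r • m) = (((ModSite.ringSh O_D).obj.map a.op).hom r : BD O_D V₁) • mres M a m :=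
  M.val.map_smul a.op r m

lemma st_nat {V : D} (ev : W ⟶ V) (a : O_D.obj.obj (op V)) :
    st f χ ((O_D.obj.map ev.op).hom a) =
      (O_C.obj.map (χ ≫ f.fn.map ev).op).hom ((f.sharp.hom.app (op V)).hom a) := by
  unfold st
  have h1 := congrArg (fun k => k.hom a) (f.sharp.hom.naturality ev.op)
  show (O_C.obj.map χ.op).hom ((f.sharp.hom.app (op W)).hom ((O_D.obj.map ev.op).hom a)) = _
  have h2 : (f.sharp.hom.app (op W)).hom ((O_D.obj.map ev.op).hom a) =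
      (O_C.obj.map (f.fn.map ev).op).hom ((f.sharp.hom.app (op V)).hom a) := h1
  rw [h2, op_comp, Functor.map_comp]
  rfl

include g in
lemma Θ_toF (hχ : ∀ p : {p // p ∈ Γ}, χ ≫ f.fn.map (e p) = g ≫ p.1.2)
    (ρ : RelD f M (op U)) (hs : srcR ρ ∈ Γ) (ht : tgtR ρ ∈ Γ)
    (he : e ⟨srcR ρ, hs⟩ ≫ arrR ρ = e ⟨tgtR ρ, ht⟩) : Θ g χ Γ e (toF f M (op U) ρ) = 0 := by
  cases ρ with
  | r0 V V' ψ φ m' =>
    show Θ g χ Γ e (Finsupp.single _ 1 - Finsupp.single _ 1) = 0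
    rw [map_sub, Θ_single, Θ_single, map_one, one_smul, one_smul, sub_eq_zero]
    have hs' : prG (⟨V, φ, mres M ψ m'⟩ : Gn f M (op U)) ∈ Γ := hs
    have ht' : prG (⟨V', φ ≫ f.fn.map ψ, m'⟩ : Gn f M (op U)) ∈ Γ := ht
    rw [val_pos χ Γ e _ hs', val_pos χ Γ e _ ht']
    congr 1
    show mres M (e ⟨srcR (.r0 V V' ψ φ m'), hs⟩) (mres M ψ m') = mres M (e ⟨tgtR (.r0 V V' ψ φ m'), ht⟩) m'
    rw [mres_comp, ← he]
    rfl
  | r1 V φ m m' =>
    show Θ g χ Γ e (Finsupp.single _ 1 - Finsupp.single _ 1 - Finsupp.single _ 1) = 0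
    rw [map_sub, map_sub, Θ_single, Θ_single, Θ_single, map_one, one_smul, one_smul, one_smul]
    have h1 : prG (⟨V, φ, m + m'⟩ : Gn f M (op U)) ∈ Γ := hs
    have h2 : prG (⟨V, φ, m⟩ : Gn f M (op U)) ∈ Γ := hs
    have h3 : prG (⟨V, φ, m'⟩ : Gn f M (op U)) ∈ Γ := hs
    rw [val_pos χ Γ e _ h1, val_pos χ Γ e _ h2, val_pos χ Γ e _ h3]
    show (1 : OCs f χ) ⊗ₜ[O_D.obj.obj (op W)] (mres M (e ⟨⟨V, φ⟩, hs⟩) (m + m') : ModSite.sect M W) -
      (1 : OCs f χ) ⊗ₜ[O_D.obj.obj (op W)] (mres M (e ⟨⟨V, φ⟩, hs⟩) m : ModSite.sect M W) -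
      (1 : OCs f χ) ⊗ₜ[O_D.obj.obj (op W)] (mres M (e ⟨⟨V, φ⟩, hs⟩) m' : ModSite.sect M W) = 0
    rw [mres_add, TensorProduct.tmul_add, add_sub_cancel_left, sub_self]
  | r2 V φ a m =>
    show Θ g χ Γ e (Finsupp.single _ 1 - Finsupp.single _ _) = 0
    rw [map_sub, Θ_single, Θ_single, map_one, one_smul, sub_eq_zero]
    have h1 : prG (⟨V, φ, a • m⟩ : Gn f M (op U)) ∈ Γ := hs
    have h2 : prG (⟨V, φ, m⟩ : Gn f M (op U)) ∈ Γ := hs
    rw [val_pos χ Γ e _ h1, val_pos χ Γ e _ h2]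
    show (1 : OCs f χ) ⊗ₜ[O_D.obj.obj (op W)] (mres M (e ⟨⟨V, φ⟩, hs⟩) (a • m) : ModSite.sect M W) =
      rrO g χ (sg f V φ a) • ((1 : OCs f χ) ⊗ₜ[O_D.obj.obj (op W)] (mres M (e ⟨⟨V, φ⟩, hs⟩) m : ModSite.sect M W))
    rw [mres_smul, TensorProduct.smul_tmul', smul_eq_mul, mul_one]
    have key : ∀ (b : O_D.obj.obj (op W)) (y : ModSite.sect M W),
        (1 : OCs f χ) ⊗ₜ[O_D.obj.obj (op W)] (b • y) = (toOCs f χ (st f χ b)) ⊗ₜ[O_D.obj.obj (op W)] y := by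
      intro b y
      rw [TensorProduct.tmul_smul, TensorProduct.smul_tmul', Algebra.smul_def, mul_one]
      rfl
    refine (key _ _).trans ?_
    congr 1
    have h3 := st_nat (f := f) χ (e ⟨⟨V, φ⟩, hs⟩) (show O_D.obj.obj (op V) from a)
    refine h3.trans ?_
    have h4 := hχ ⟨⟨V, φ⟩, hs⟩
    show (O_C.obj.map (χ ≫ f.fn.map (e ⟨⟨V, φ⟩, hs⟩)).op).hom ((f.sharp.hom.app (op V)).hom a) =
      (O_C.obj.map g.op).hom ((O_C.obj.map φ.op).hom ((f.sharp.hom.app (op V)).hom a))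
    rw [h4, op_comp, Functor.map_comp]
    rfl

end Stage2
section Main
variable {f M}

open Classical in
/-- **vanishing in the presheaf inverse image is locally vanishing at a single stage** -/
theorem vanish_stage {U : C} {n : ℕ} (V : Fin n → D) (φ : ∀ k, U ⟶ f.fn.obj (V k))
    (m : ∀ k, MS M (V k)) (c : Fin n → AC O_C (op U))
    (h : ∑ k, c k • gen f M (op U) (V k) (φ k) (m k) = 0) :
    ∃ S ∈ J U, ∀ ⦃U' : C⦄ (g : U' ⟶ U), S g → ∃ (W : D) (χ : U' ⟶ f.fn.obj W) (e : ∀ k, W ⟶ V k),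
      (∀ k, χ ≫ f.fn.map (e k) = g ≫ φ k) ∧
      ∑ k, (rrO g χ (c k)) ⊗ₜ[O_D.obj.obj (op W)] (mres M (e k) (m k) : ModSite.sect M W) = 0 := by
  let γ : Fin n → Gn f M (op U) := fun k => ⟨V k, φ k, m k⟩
  let x : FX f M (op U) := ∑ k, Finsupp.single (γ k) (c k)
  have hx : mkG f M (op U) x = 0 := by
    have e1 : mkG f M (op U) x = ∑ k, mkG f M (op U) (Finsupp.single (γ k) (c k)) :=
      map_sum ((KX f M (op U)).mkQ) _ _
    rw [e1]
    refine Eq.trans (Finset.sum_congr rfl (fun k _ => ?_)) h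
    exact mkG_single f M (op U) (γ k) (c k)
  have hxK : x ∈ KX f M (op U) := (mkG_eq_zero f M (op U) x).1 hx
  unfold KX at hxK
  rw [Finsupp.mem_span_range_iff_exists_finsupp] at hxK
  obtain ⟨l, hl⟩ := hxK
  let Γ : Finset (Pr f U) := (Finset.univ.image (fun k => prG (γ k))) ∪
    (l.support.image srcR) ∪ (l.support.image tgtR)
  have hγ : ∀ k, prG (γ k) ∈ Γ := fun k =>
    Finset.mem_union_left _ (Finset.mem_union_left _ (Finset.mem_image_of_mem _ (Finset.mem_univ k)))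
  have hsrc : ∀ ρ ∈ l.support, srcR ρ ∈ Γ := fun ρ hρ =>
    Finset.mem_union_left _ (Finset.mem_union_right _ (Finset.mem_image_of_mem _ hρ))
  have htgt : ∀ ρ ∈ l.support, tgtR ρ ∈ Γ := fun ρ hρ =>
    Finset.mem_union_right _ (Finset.mem_image_of_mem _ hρ)
  obtain ⟨S, hS, hloc⟩ := lf_graph (J := J) (K := K) f.fn {p // p ∈ Γ} {ρ // ρ ∈ l.support} U
    (fun i => i.1.1) (fun i => i.1.2)
    (fun ρ => ⟨srcR ρ.1, hsrc ρ.1 ρ.2⟩) (fun ρ => ⟨tgtR ρ.1, htgt ρ.1 ρ.2⟩)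
    (fun ρ => arrR ρ.1) (fun ρ => arrR_comp ρ.1)
  refine ⟨S, hS, fun U' g hg => ?_⟩
  obtain ⟨W, χ, e, he1, he2⟩ := hloc g hg
  refine ⟨W, χ, fun k => e ⟨prG (γ k), hγ k⟩, fun k => he1 ⟨prG (γ k), hγ k⟩, ?_⟩
  -- evaluate `x` at the stage
  have hΘ0 : Θ g χ Γ e x = 0 := by
    rw [← hl, Finsupp.sum, map_sum]
    refine Finset.sum_eq_zero (fun ρ hρ => ?_)
    rw [Θ_smul, Θ_toF g χ Γ e he1 ρ (hsrc ρ hρ) (htgt ρ hρ) (he2 ⟨ρ, hρ⟩), smul_zero]
  have hΘ1 : Θ g χ Γ e x = ∑ k, (rrO g χ (c k)) ⊗ₜ[O_D.obj.obj (op W)]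
      (mres M (e ⟨prG (γ k), hγ k⟩) (m k) : ModSite.sect M W) := by
    show Θ g χ Γ e (∑ k, Finsupp.single (γ k) (c k)) = _
    rw [map_sum]
    refine Finset.sum_congr rfl (fun k _ => ?_)
    rw [Θ_single, val_pos χ Γ e (γ k) (hγ k), TensorProduct.smul_tmul', smul_eq_mul, mul_one]
  exact hΘ1.symm.trans hΘ0

end Main
end Groth.Agent.Lib.Helper4.PullVanish
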