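import Mathlib
import Groth.Prelude.Def_ModSite2
import Groth.Agent.Lib.Helper4.PullVanish
import Groth.Agent.Lib.Helper4.EqCritConv

/-!
# the inverse image of a flat module along a morphism of ringed sites is flat (equational criterion on the presheaf model) (helper4)
-/

set_option backward.isDefEq.respectTransparency.types false
set_option synthInstance.maxHeartbeats 400000
set_option autoImplicit false
set_option linter.unusedSectionVars false
set_option linter.style.haveILetI false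
set_option linter.unusedSimpArgs false
universe u v w
open CategoryTheory CategoryTheory.Limits Opposite

namespace Groth.Agent.Lib.Helper4.PullFlat
open TensorProduct
open Groth.Agent.Lib.Helper5.TensorSheaf Groth.Agent.Lib.Helper4.RestrTensorA
  Groth.Agent.Lib.Helper4.PullTensorDelta Groth.Agent.Lib.Helper4.PullModel Groth.Agent.Lib.Helper4.LocFilt
  Groth.Agent.Lib.Helper4.PullVanish Groth.Agent.Lib.Helper4.EqCritConv

variable {C D : Type u} [SmallCategory C] [SmallCategory D] {J : GrothendieckTopology C}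
  {K : GrothendieckTopology D} {O_C : Sheaf J CommRingCat.{u}} {O_D : Sheaf K CommRingCat.{u}}
  (f : ModSite.RMor O_C O_D) (M : ModSite.Mod O_D)

/-- `sg` as a ring homomorphism -/
noncomputable def sgHom {X : Cᵒᵖ} (V : D) (φ : X.unop ⟶ f.fn.obj V) : BD O_D V →+* AC O_C X :=
  (rr (O_C := O_C) φ.op).comp (f.sharpR.hom.app (op V)).hom

lemma sg_eq {X : Cᵒᵖ} (V : D) (φ : X.unop ⟶ f.fn.obj V) (a : BD O_D V) : sg f V φ a = sgHom f V φ a := rfl

lemma gen_zero (X : Cᵒᵖ) (V : D) (φ : X.unop ⟶ f.fn.obj V) : gen f M X V φ 0 = 0 := by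
  have := gen_add f M X V φ 0 0
  rw [add_zero] at this
  exact (add_eq_left.1 this.symm)

lemma gen_sum_smul (X : Cᵒᵖ) (V : D) (φ : X.unop ⟶ f.fn.obj V) {l : ℕ} (A : Fin l → BD O_D V)
    (t : Fin l → MS M V) :
    gen f M X V φ (∑ p, A p • t p) = ∑ p, (sg f V φ (A p) : AC O_C X) • gen f M X V φ (t p) := by
  classical
  have key : ∀ s : Finset (Fin l), gen f M X V φ (∑ p ∈ s, A p • t p) =
      ∑ p ∈ s, (sg f V φ (A p) : AC O_C X) • gen f M X V φ (t p) := by
    intro s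
    induction s using Finset.induction_on with
    | empty => simpa using gen_zero f M X V φ
    | insert a s ha ih =>
      rw [Finset.sum_insert ha, Finset.sum_insert ha, gen_add, gen_smul, ih]
  exact key Finset.univ

/-- restriction of a stage scalar along a refinement of stages -/
lemma rr_st {U₃ U₄ : C} {W W' : D} (g₄ : U₄ ⟶ U₃) (χ : U₃ ⟶ f.fn.obj W) (χ' : U₄ ⟶ f.fn.obj W')
    (w : W' ⟶ W) (hw : g₄ ≫ χ = χ' ≫ f.fn.map w) (b : O_D.obj.obj (op W)) :
    (O_C.obj.map g₄.op).hom (st f χ b) =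
      (sg f (X := op U₄) W' χ' (show BD O_D W' from (O_D.obj.map w.op).hom b) : O_C.obj.obj (op U₄)) := by
  unfold st sg
  have h1 : (O_C.obj.map g₄.op).hom ((O_C.obj.map χ.op).hom ((f.sharp.hom.app (op W)).hom b)) =
      (O_C.obj.map (g₄ ≫ χ).op).hom ((f.sharp.hom.app (op W)).hom b) := by
    rw [op_comp, Functor.map_comp]
    rfl
  refine h1.trans ?_
  rw [hw, op_comp, Functor.map_comp]
  have h2 := congrArg (fun k => k.hom b) (f.sharp.hom.naturality w.op)
  have h3 : (f.sharp.hom.app (op W')).hom ((O_D.obj.map w.op).hom b) =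
      (O_C.obj.map (f.fn.map w).op).hom ((f.sharp.hom.app (op W)).hom b) := h2
  show (O_C.obj.map χ'.op).hom ((O_C.obj.map (f.fn.map w).op).hom ((f.sharp.hom.app (op W)).hom b)) = _
  rw [← h3]
  rfl

section L4
variable {f M}

/-- `sg` with commutative-ring typing -/
noncomputable def sgC {U₄ : C} (W' : D) (χ' : U₄ ⟶ f.fn.obj W') : O_D.obj.obj (op W') →+* O_C.obj.obj (op U₄) :=
  (O_C.obj.map χ'.op).hom.comp (f.sharp.hom.app (op W')).hom

lemma sgC_eq {U₄ : C} (W' : D) (χ' : U₄ ⟶ f.fn.obj W') (b : O_D.obj.obj (op W')) :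
    (sg f (X := op U₄) W' χ' (show BD O_D W' from b) : O_C.obj.obj (op U₄)) = sgC W' χ' b := rfl

lemma rr_st' {U₃ U₄ : C} {W W' : D} (g₄ : U₄ ⟶ U₃) (χ : U₃ ⟶ f.fn.obj W) (χ' : U₄ ⟶ f.fn.obj W')
    (w : W' ⟶ W) (hw : g₄ ≫ χ = χ' ≫ f.fn.map w) (b : O_D.obj.obj (op W)) :
    (O_C.obj.map g₄.op).hom (st f χ b) = sgC W' χ' ((O_D.obj.map w.op).hom b) :=
  rr_st f g₄ χ χ' w hw b

include K in
/-- the algebraic heart: a vanishing stage tensor becomes trivial after refinement -/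
theorem stage_trivial (hEC : EC1 O_D M) {U₃ : C} {W : D} (χ : U₃ ⟶ f.fn.obj W) {N : ℕ}
    (V : Fin N → D) (e : ∀ k, W ⟶ V k) (m : ∀ k, MS M (V k)) (H : Fin N → O_C.obj.obj (op U₃))
    (hsum : ∑ k, (toOCs f χ (H k)) ⊗ₜ[O_D.obj.obj (op W)] (mres M (e k) (m k) : ModSite.sect M W) = 0) :
    ∃ S ∈ J U₃, ∀ ⦃U₄ : C⦄ (g₄ : U₄ ⟶ U₃), S g₄ →
      ∃ (W' : D) (χ' : U₄ ⟶ f.fn.obj W') (w : W' ⟶ W) (l : ℕ) (t : Fin l → ModSite.sect M W')
        (A : Fin N → Fin l → O_D.obj.obj (op W')),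
        g₄ ≫ χ = χ' ≫ f.fn.map w ∧
        (∀ k, (mres M (w ≫ e k) (m k) : ModSite.sect M W') = ∑ p, A k p • t p) ∧
        (∀ p, ∑ k, sgC W' χ' (A k p) * (O_C.obj.map g₄.op).hom (H k) = 0) := by
  obtain ⟨N₁, N₂, q, y, α, β, h1, h2, h3⟩ :=
    vanish_general (R := O_D.obj.obj (op W)) (M := OCs f χ) (N := ModSite.sect M W)
      (fun k => toOCs f χ (H k)) (fun k => (mres M (e k) (m k) : ModSite.sect M W)) hsum
  have hS := ec_multi M hEC N₁ W N₂ β y h2
  refine ⟨((trivSieve M β y).functorPushforward f.fn).pullback χ,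
    J.pullback_stable χ (cover_push (J := J) (K := K) f.fn _ hS), ?_⟩
  intro U₄ g₄ hg₄
  obtain ⟨W', w, χ', hw, hfac⟩ := hg₄
  obtain ⟨l, t, a, ht1, ht2⟩ := hw
  let α' : Fin N → Fin N₂ → O_D.obj.obj (op W') := fun k j => (O_D.obj.map w.op).hom (α k j)
  refine ⟨W', χ', w, l, t, fun k p => ∑ j, α' k j * a j p, hfac, fun k => ?_, fun p => ?_⟩
  · -- claim 1
    have e1 : (mres M (w ≫ e k) (m k) : ModSite.sect M W') =
        (M.val.map w.op).hom (mres M (e k) (m k) : ModSite.sect M W) := (mres_comp w (e k) (m k)).symm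
    rw [e1, h1 k]
    refine (map_sum_smul M w (α k) y).trans ?_
    refine Eq.trans (Finset.sum_congr rfl (fun j _ => ?_)) (alg2 (α' k) a t)
    exact congrArg (fun z : ModSite.sect M W' => α' k j • z) (ht1 j)
  · -- claim 2
    have e3 : ∀ j, ∑ k, sgC W' χ' (α' k j) • (O_C.obj.map g₄.op).hom (H k) +
        ∑ i, sgC W' χ' ((O_D.obj.map w.op).hom (β i j)) •
          (O_C.obj.map g₄.op).hom (show O_C.obj.obj (op U₃) from q i) = 0 := by
      intro j
      have h3j := h3 j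
      have s1 : ∑ k, st f χ (α k j) * H k = (∑ k, α k j • toOCs f χ (H k) : OCs f χ) :=
        Finset.sum_congr rfl (fun k _ => (Algebra.smul_def (α k j) (toOCs f χ (H k))).symm)
      have s2 : ∑ i, st f χ (β i j) * (show O_C.obj.obj (op U₃) from q i) = (∑ i, β i j • q i : OCs f χ) :=
        Finset.sum_congr rfl (fun i _ => (Algebra.smul_def (β i j) (q i)).symm)
      have h3j' : ∑ k, st f χ (α k j) * H k + ∑ i, st f χ (β i j) * (show O_C.obj.obj (op U₃) from q i) =
          (0 : O_C.obj.obj (op U₃)) := by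
        rw [s1, s2]
        exact h3j
      have h4 := congrArg (O_C.obj.map g₄.op).hom h3j'
      rw [map_add, map_sum, map_sum, map_zero] at h4
      refine Eq.trans ?_ h4
      congr 1
      · refine Finset.sum_congr rfl (fun k _ => ?_)
        rw [map_mul, rr_st' g₄ χ χ' w hfac]
        rfl
      · refine Finset.sum_congr rfl (fun i _ => ?_)
        rw [map_mul, rr_st' g₄ χ χ' w hfac]
        rfl
    have hb2 : ∀ i p, ∑ j, sgC W' χ' (a j p) * sgC W' χ' ((O_D.obj.map w.op).hom (β i j)) = 0 := by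
      intro i p
      have := congrArg (sgC (f := f) W' χ') (ht2 i p)
      rw [map_sum, map_zero] at this
      refine Eq.trans (Finset.sum_congr rfl (fun j _ => ?_)) this
      rw [map_mul]
    have h5 := alg5 (A := O_C.obj.obj (op U₄)) (M' := O_C.obj.obj (op U₄))
      (fun k j => sgC W' χ' (α' k j)) (fun j p => sgC W' χ' (a j p))
      (fun i j => sgC W' χ' ((O_D.obj.map w.op).hom (β i j)))
      (fun k => (O_C.obj.map g₄.op).hom (H k))
      (fun i => (O_C.obj.map g₄.op).hom (show O_C.obj.obj (op U₃) from q i)) e3 hb2 p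
    refine Eq.trans (Finset.sum_congr rfl (fun k _ => ?_)) h5
    rw [map_sum, smul_eq_mul]
    congr 1
    exact Finset.sum_congr rfl (fun j _ => map_mul _ _ _)

end L4
section L1

/-- finite conjunction of local statements -/
lemma loc_forall_fin {U : C} {n : ℕ} (Q : Fin n → ∀ ⦃U' : C⦄, (U' ⟶ U) → Prop)
    (h : ∀ j, ∃ S ∈ J U, ∀ ⦃U' : C⦄ (g : U' ⟶ U), S g → Q j g) :
    ∃ S ∈ J U, ∀ ⦃U' : C⦄ (g : U' ⟶ U), S g → ∀ j, Q j g := by
  choose S hS hQ using h
  refine ⟨Finset.univ.inf S, ?_, fun U' g hg j => hQ j g ?_⟩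
  · exact Finset.inf_induction (p := fun T => T ∈ J U) (J.top_mem U)
      (fun a ha b hb => J.intersection_covering ha hb) (fun j _ => hS j)
  · exact (Finset.inf_le (Finset.mem_univ j) : Finset.univ.inf S ≤ S j) _ hg

/-- the map to the sections of the sheafification -/
noncomputable def us (X : Cᵒᵖ) (y : (G0 f M).obj X) : ModSite.sect (Gs f M) X.unop :=
  (((unit' O_C).app (G0 f M)).app X).hom y

lemma us_add (X : Cᵒᵖ) (y y' : (G0 f M).obj X) : us f M X (y + y') = us f M X y + us f M X y' :=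
  map_add (((unit' O_C).app (G0 f M)).app X).hom y y'

lemma us_zero (X : Cᵒᵖ) : us f M X 0 = 0 := map_zero (((unit' O_C).app (G0 f M)).app X).hom

lemma us_smul (X : Cᵒᵖ) (c : AC O_C X) (y : (G0 f M).obj X) :
    us f M X (c • y) = (show O_C.obj.obj X from c) • us f M X y :=
  (((unit' O_C).app (G0 f M)).app X).hom.map_smul c y

lemma us_sum (X : Cᵒᵖ) {ι : Type*} (s : Finset ι) (y : ι → (G0 f M).obj X) :
    us f M X (∑ i ∈ s, y i) = ∑ i ∈ s, us f M X (y i) :=
  map_sum (((unit' O_C).app (G0 f M)).app X).hom y s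

lemma us_res {U U' : C} (g : U' ⟶ U) (y : (G0 f M).obj (op U)) :
    ((Gs f M).val.map g.op).hom (us f M (op U) y) = us f M (op U') (((G0 f M).map g.op).hom y) :=
  (PresheafOfModules.naturality_apply ((unit' O_C).app (G0 f M)) g.op y).symm

lemma us_locSurj {U : C} (s : ModSite.sect (Gs f M) U) :
    ∃ S ∈ J U, ∀ ⦃U' : C⦄ (g : U' ⟶ U), S g → ∃ y : (G0 f M).obj (op U'),
      us f M (op U') y = ((Gs f M).val.map g.op).hom s := by
  have hW := W_unit' (O := O_C) (G0 f M)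
  rw [J.W_iff_isLocallyBijective] at hW
  have hs := (Groth.Agent.Lib.Helper5.TensorLocal.locSurj_iff J ((unit' O_C).app (G0 f M))).2 hW.2
  exact hs U s

lemma us_locInj {U : C} (y : (G0 f M).obj (op U)) (hy : us f M (op U) y = 0) :
    ∃ S ∈ J U, ∀ ⦃U' : C⦄ (g : U' ⟶ U), S g → ((G0 f M).map g.op).hom y = 0 := by
  have hW := W_unit' (O := O_C) (G0 f M)
  rw [J.W_iff_isLocallyBijective] at hW
  have hi := (Groth.Agent.Lib.Helper5.TensorLocal.locInj_iff J ((unit' O_C).app (G0 f M))).2 hW.1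
  exact hi U y hy

open Classical in
/-- finitely many elements of the free module have a common finite set of generators -/
lemma common_gens {X : Cᵒᵖ} {n : ℕ} (x : Fin n → FX f M X) :
    ∃ (N : ℕ) (γ : Fin N → Gn f M X) (c : Fin n → Fin N → AC O_C X),
      ∀ j, x j = ∑ k, Finsupp.single (γ k) (c j k) := by
  let Γ : Finset (Gn f M X) := Finset.univ.biUnion (fun j => (x j).support)
  let enum : Fin Γ.card ≃ {a // a ∈ Γ} := Γ.equivFin.symm
  refine ⟨Γ.card, fun k => (enum k).1, fun j k => x j (enum k).1, fun j => ?_⟩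
  have hsub : (x j).support ⊆ Γ := Finset.subset_biUnion_of_mem (fun j => (x j).support) (Finset.mem_univ j)
  have e1 : x j = ∑ a ∈ Γ, Finsupp.single a (x j a) := by
    conv_lhs => rw [← Finsupp.sum_single (x j)]
    exact Finsupp.sum_of_support_subset _ hsub _ (fun a _ => Finsupp.single_zero a)
  rw [e1]
  rw [← Finset.sum_coe_sort Γ (fun a => Finsupp.single a (x j a))]
  exact (Equiv.sum_comp enum (fun a : {a // a ∈ Γ} => Finsupp.single a.1 (x j a.1))).symm

/-- finitely many sections of the sheafified inverse image are locally combinations of common generators -/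
lemma exists_local_gens {U : C} {n : ℕ} (s : Fin n → ModSite.sect (Gs f M) U) :
    ∃ S ∈ J U, ∀ ⦃U₁ : C⦄ (g₁ : U₁ ⟶ U), S g₁ →
      ∃ (N : ℕ) (γ : Fin N → Gn f M (op U₁)) (c : Fin n → Fin N → AC O_C (op U₁)),
        ∀ j, ((Gs f M).val.map g₁.op).hom (s j) =
          us f M (op U₁) (∑ k, c j k • gen f M (op U₁) (γ k).V (γ k).φ (γ k).m) := by
  obtain ⟨S, hS, h⟩ := loc_forall_fin (J := J)
    (fun j U' g => ∃ y : (G0 f M).obj (op U'), us f M (op U') y = ((Gs f M).val.map g.op).hom (s j))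
    (fun j => us_locSurj f M (s j))
  refine ⟨S, hS, fun U₁ g₁ hg₁ => ?_⟩
  choose y hy using h g₁ hg₁
  choose x hx using fun j => mkG_surjective f M (op U₁) (y j)
  obtain ⟨N, γ, c, hc⟩ := common_gens f M x
  refine ⟨N, γ, c, fun j => ?_⟩
  rw [← hy j, ← hx j, hc j]
  congr 1
  have e1 : mkG f M (op U₁) (∑ k, Finsupp.single (γ k) (c j k)) =
      ∑ k, mkG f M (op U₁) (Finsupp.single (γ k) (c j k)) :=
    map_sum ((KX f M (op U₁)).mkQ) _ _
  rw [e1]
  exact Finset.sum_congr rfl (fun k _ => mkG_single f M (op U₁) (γ k) (c j k))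

end L1
section Step
variable {f M}

lemma oc_map_comp {U₁ U₂ U₃ : C} (a : U₃ ⟶ U₂) (b : U₂ ⟶ U₁) (x : O_C.obj.obj (op U₁)) :
    (O_C.obj.map (a ≫ b).op).hom x = (O_C.obj.map a.op).hom ((O_C.obj.map b.op).hom x) := by
  rw [op_comp, Functor.map_comp]
  rfl

lemma G0_map_sum_smul_gen {U₁ U₂ : C} (g : U₂ ⟶ U₁) {N : ℕ} (γ : Fin N → Gn f M (op U₁))
    (r : Fin N → O_C.obj.obj (op U₁)) :
    ((G0 f M).map g.op).hom (∑ k, (show AC O_C (op U₁) from r k) • gen f M (op U₁) (γ k).V (γ k).φ (γ k).m) =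
      ∑ k, (show AC O_C (op U₂) from (O_C.obj.map g.op).hom (r k)) •
        gen f M (op U₂) (γ k).V (g ≫ (γ k).φ) (γ k).m := by
  rw [map_sum]
  refine Finset.sum_congr rfl (fun k _ => ?_)
  refine ((G0 f M).map_smul g.op (show AC O_C (op U₁) from r k) _).trans ?_
  rw [G0_map_gen]
  rfl

include K in
/-- the equational criterion for the generators of the sheafified presheaf inverse image -/
theorem ec1_step (hEC : EC1 O_D M) {U₁ : C} {N : ℕ} (γ : Fin N → Gn f M (op U₁))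
    (hh : Fin N → O_C.obj.obj (op U₁))
    (hz : us f M (op U₁) (∑ k, (show AC O_C (op U₁) from hh k) •
      gen f M (op U₁) (γ k).V (γ k).φ (γ k).m) = 0) :
    ∃ S ∈ J U₁, ∀ ⦃U₄ : C⦄ (h : U₄ ⟶ U₁), S h →
      ∃ (l : ℕ) (t' : Fin l → ModSite.sect (Gs f M) U₄) (B : Fin N → Fin l → O_C.obj.obj (op U₄)),
        (∀ k, us f M (op U₄) (gen f M (op U₄) (γ k).V (h ≫ (γ k).φ) (γ k).m) = ∑ p, B k p • t' p) ∧
        (∀ p, ∑ k, B k p * (O_C.obj.map h.op).hom (hh k) = 0) := by
  -- level 2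
  refine loc_bind (J := J)
    (Q := fun U₂ g₂ => ((G0 f M).map g₂.op).hom (∑ k, (show AC O_C (op U₁) from hh k) •
      gen f M (op U₁) (γ k).V (γ k).φ (γ k).m) = 0)
    (us_locInj f M _ hz) ?_
  intro U₂ g₂ hg₂
  rw [G0_map_sum_smul_gen] at hg₂
  -- level 3
  refine loc_bind (J := J)
    (Q := fun U₃ g₃ => ∃ (W : D) (χ : U₃ ⟶ f.fn.obj W) (e : ∀ k, W ⟶ (γ k).V),
      (∀ k, χ ≫ f.fn.map (e k) = g₃ ≫ (g₂ ≫ (γ k).φ)) ∧
      ∑ k, (rrO g₃ χ (show AC O_C (op U₂) from (O_C.obj.map g₂.op).hom (hh k))) ⊗ₜ[O_D.obj.obj (op W)]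
        (mres M (e k) (γ k).m : ModSite.sect M W) = 0)
    (vanish_stage (f := f) (M := M) (fun k => (γ k).V) (fun k => g₂ ≫ (γ k).φ) (fun k => (γ k).m)
      (fun k => (show AC O_C (op U₂) from (O_C.obj.map g₂.op).hom (hh k))) hg₂) ?_
  rintro U₃ g₃ ⟨W, χ, e, he, hsum⟩
  -- level 4
  let H : Fin N → O_C.obj.obj (op U₃) := fun k => (O_C.obj.map g₃.op).hom ((O_C.obj.map g₂.op).hom (hh k))
  obtain ⟨S₄, hS₄, h₄⟩ := stage_trivial (K := K) (f := f) (M := M) hEC χ (fun k => (γ k).V) e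
    (fun k => (γ k).m) H hsum
  refine ⟨S₄, hS₄, fun U₄ g₄ hg₄ => ?_⟩
  obtain ⟨W', χ', w, l, t, A, hfac, hA1, hA2⟩ := h₄ g₄ hg₄
  refine ⟨l, fun p => us f M (op U₄) (gen f M (op U₄) W' χ' (t p)), fun k p => sgC W' χ' (A k p),
    fun k => ?_, fun p => ?_⟩
  · -- the generator
    have e1 : ((g₄ ≫ g₃) ≫ g₂) ≫ (γ k).φ = χ' ≫ f.fn.map (w ≫ e k) := by
      have a1 : ((g₄ ≫ g₃) ≫ g₂) ≫ (γ k).φ = g₄ ≫ (g₃ ≫ g₂ ≫ (γ k).φ) := by
        simp only [Category.assoc]
      rw [a1, ← he k, ← Category.assoc, hfac, Category.assoc, ← f.fn.map_comp]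
    have e2 : gen f M (op U₄) (γ k).V (((g₄ ≫ g₃) ≫ g₂) ≫ (γ k).φ) (γ k).m =
        gen f M (op U₄) W' χ' (∑ p, (show BD O_D W' from A k p) • t p) := by
      rw [e1, ← gen_r0]
      congr 1
      exact hA1 k
    rw [e2, gen_sum_smul, us_sum]
    refine Finset.sum_congr rfl (fun p _ => ?_)
    exact us_smul f M (op U₄) _ _
  · -- the relation
    refine Eq.trans (Finset.sum_congr rfl (fun k _ => ?_)) (hA2 p)
    congr 1
    rw [oc_map_comp, oc_map_comp]

end Step
section Final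

include K in
/-- the equational criterion passes to the sheafified presheaf inverse image -/
theorem ec1_Gs (hEC : EC1 O_D M) : EC1 O_C (Gs f M) := by
  intro U n gco s hrel
  refine loc_bind (J := J)
    (Q := fun U₁ g₁ => ∃ (N : ℕ) (γ : Fin N → Gn f M (op U₁)) (c : Fin n → Fin N → AC O_C (op U₁)),
        ∀ j, ((Gs f M).val.map g₁.op).hom (s j) =
          us f M (op U₁) (∑ k, c j k • gen f M (op U₁) (γ k).V (γ k).φ (γ k).m))
    (exists_local_gens f M s) ?_
  rintro U₁ g₁ ⟨N, γ, c, hc⟩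
  let g1 : Fin n → O_C.obj.obj (op U₁) := fun j => (O_C.obj.map g₁.op).hom (gco j)
  let c' : Fin n → Fin N → O_C.obj.obj (op U₁) := fun j k => c j k
  let hh : Fin N → O_C.obj.obj (op U₁) := fun k => ∑ j, c' j k * g1 j
  let u : Fin N → ModSite.sect (Gs f M) U₁ := fun k =>
    us f M (op U₁) (gen f M (op U₁) (γ k).V (γ k).φ (γ k).m)
  have hcj : ∀ j, ((Gs f M).val.map g₁.op).hom (s j) = ∑ k, c' j k • u k := by
    intro j
    rw [hc j, us_sum]
    exact Finset.sum_congr rfl (fun k _ => us_smul f M (op U₁) (c j k) _)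
  have hz : us f M (op U₁) (∑ k, (show AC O_C (op U₁) from hh k) •
      gen f M (op U₁) (γ k).V (γ k).φ (γ k).m) = 0 := by
    rw [us_sum]
    have e1 : ∑ k, us f M (op U₁) ((show AC O_C (op U₁) from hh k) •
        gen f M (op U₁) (γ k).V (γ k).φ (γ k).m) = ∑ k, hh k • u k :=
      Finset.sum_congr rfl (fun k _ => us_smul f M (op U₁) (show AC O_C (op U₁) from hh k) _)
    rw [e1]
    refine (alg1 c' u g1).trans ?_
    have e2 : ∑ j, g1 j • ∑ k, c' j k • u k =
        ∑ j, g1 j • res (Gs f M) g₁ (s j) :=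
      Finset.sum_congr rfl (fun j _ => congrArg (fun z : ModSite.sect (Gs f M) U₁ => g1 j • z) (hcj j).symm)
    rw [e2]
    refine (map_sum_smul (Gs f M) g₁ gco s).symm.trans ?_
    rw [hrel]
    exact map_zero _
  obtain ⟨S, hS, h⟩ := ec1_step (K := K) hEC γ hh hz
  refine ⟨S, hS, fun U₄ h4 hh4 => ?_⟩
  obtain ⟨l, t', B, hB1, hB2⟩ := h h4 hh4
  let c'' : Fin n → Fin N → O_C.obj.obj (op U₄) := fun j k => (O_C.obj.map h4.op).hom (c' j k)
  refine ⟨l, t', fun j p => ∑ k, c'' j k * B k p, fun j => ?_, fun p => ?_⟩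
  · rw [mod_map_comp, hc j, us_res]
    have e3 := G0_map_sum_smul_gen (f := f) (M := M) h4 γ (c' j)
    refine (congrArg (us f M (op U₄)) e3).trans ?_
    rw [us_sum]
    have e4 : ∀ k, us f M (op U₄) ((show AC O_C (op U₄) from (O_C.obj.map h4.op).hom (c' j k)) •
        gen f M (op U₄) (γ k).V (h4 ≫ (γ k).φ) (γ k).m) = c'' j k • ∑ p, B k p • t' p := by
      intro k
      refine (us_smul f M (op U₄) _ _).trans ?_
      exact congrArg (fun z : ModSite.sect (Gs f M) U₄ => c'' j k • z) (hB1 k)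
    refine (Finset.sum_congr rfl (fun k _ => e4 k)).trans ?_
    exact alg2 (c'' j) B t'
  · have e5 : ∀ j, (O_C.obj.map (h4 ≫ g₁).op).hom (gco j) = (O_C.obj.map h4.op).hom (g1 j) :=
      fun j => ring_map_comp h4 g₁ (gco j)
    refine (Finset.sum_congr rfl (fun j _ => by rw [e5 j])).trans ?_
    refine (alg3 c'' (fun k => B k p) (fun j => (O_C.obj.map h4.op).hom (g1 j))).trans ?_
    refine Eq.trans (Finset.sum_congr rfl (fun k _ => ?_)) (hB2 p)
    congr 1
    rw [map_sum]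
    exact Finset.sum_congr rfl (fun j _ => (map_mul _ _ _).symm)

end Final
section Main

/-- flatness is invariant under isomorphism -/
lemma isFlat_of_iso {F F' : ModSite.Mod O_C} (e : F ≅ F') (h : ModSite.IsFlat F) : ModSite.IsFlat F' := by
  have e' : (ModSite.tensorBi O_C).flip.obj F ≅ (ModSite.tensorBi O_C).flip.obj F' :=
    (ModSite.tensorBi O_C).flip.mapIso e
  haveI := h.1
  haveI := h.2
  exact ⟨preservesFiniteLimits_of_natIso e', preservesFiniteColimits_of_natIso e'⟩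

include K in
/-- the inverse image of a flat module is flat -/
theorem main (hM : ModSite.IsFlat M) : ModSite.IsFlat (f.pull.obj M) := by
  have h1 : EC1 O_D M := (Groth.Agent.Lib.Helper4.EqCritConv.main O_D M).1 hM
  have h2 : EC1 O_C (Gs f M) := ec1_Gs (K := K) f M h1
  have h3 : ModSite.IsFlat (Gs f M) := (Groth.Agent.Lib.Helper4.EqCritConv.main O_C (Gs f M)).2 h2
  exact isFlat_of_iso (gsIso f M) h3

end Main
end Groth.Agent.Lib.Helper4.PullFlat
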