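import Mathlib
import Groth.Prelude.Def_ModSite2
import Groth.Agent.Lib.Helper4.PullFlat
import Groth.Agent.Lib.Helper4.QSLocal2

/-!
# the inverse image of a short exact sequence with flat cokernel is short exact (ringed sites) (helper4)
-/

set_option backward.isDefEq.respectTransparency.types false
set_option synthInstance.maxHeartbeats 400000
set_option autoImplicit false
set_option linter.unusedSectionVars false
set_option linter.style.haveILetI false
set_option linter.unusedSimpArgs false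
universe u v w
open CategoryTheory CategoryTheory.Limits Opposite

namespace Groth.Agent.Lib.Helper4.PullSES
open TensorProduct
open Groth.Agent.Lib.Helper5.TensorSheaf Groth.Agent.Lib.Helper4.RestrTensorA
  Groth.Agent.Lib.Helper4.PullTensorDelta Groth.Agent.Lib.Helper4.PullModel Groth.Agent.Lib.Helper4.LocFilt
  Groth.Agent.Lib.Helper4.PullVanish Groth.Agent.Lib.Helper4.EqCritConv Groth.Agent.Lib.Helper4.PullFlat
  Groth.Agent.Lib.Helper4.PureTensor Groth.Agent.Lib.Helper5.FreeOn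

section Alg

/-- the algebraic core: solving in the kernel -/
lemma alg_core {A : Type*} [CommRing A] {N' E' M' : Type*} [AddCommGroup N'] [AddCommGroup E']
    [AddCommGroup M'] [Module A N'] [Module A E'] [Module A M']
    (ι : N' →+ E') (π : E' →+ M') (hιs : ∀ (c : A) x, ι (c • x) = c • ι x)
    (hπs : ∀ (c : A) x, π (c • x) = c • π x)
    (hι : ∀ x, ι x = 0 → x = 0) (hex : ∀ b, π b = 0 → ∃ a, ι a = b)
    {N N₁ N₂ l : ℕ} (ν : Fin N → N') (y : Fin N₂ → E') (α : Fin N → Fin N₂ → A)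
    (β : Fin N₁ → Fin N₂ → A) (t : Fin l → E') (a : Fin N₂ → Fin l → A)
    (h1 : ∀ k, ι (ν k) = ∑ j, α k j • y j) (h2 : ∀ i, ∑ j, β i j • y j = 0)
    (h3 : ∀ j, π (y j) = ∑ p, a j p • π (t p))
    (h4 : ∀ k p, ∑ j, a j p * α k j = 0) (h5 : ∀ i p, ∑ j, a j p * β i j = 0) :
    ∃ ζ : Fin N₂ → N', (∀ k, ν k = ∑ j, α k j • ζ j) ∧ (∀ i, ∑ j, β i j • ζ j = 0) := by
  have hz : ∀ j, π (y j - ∑ p, a j p • t p) = 0 := by
    intro j
    rw [map_sub, map_sum, h3 j, sub_eq_zero]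
    exact Finset.sum_congr rfl (fun p _ => (hπs _ _).symm)
  choose ζ hζ using fun j => hex _ (hz j)
  have key : ∀ {n : ℕ} (γ : Fin n → Fin N₂ → A), (∀ r p, ∑ j, a j p * γ r j = 0) →
      ∀ r, ι (∑ j, γ r j • ζ j) = ∑ j, γ r j • y j := by
    intro n γ hγ r
    rw [map_sum]
    have e1 : ∀ j, ι (γ r j • ζ j) = γ r j • y j - γ r j • ∑ p, a j p • t p := by
      intro j
      rw [hιs, hζ j, smul_sub]
    rw [Finset.sum_congr rfl (fun j _ => e1 j), Finset.sum_sub_distrib, sub_eq_self]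
    have e2 : ∑ j, γ r j • ∑ p, a j p • t p = ∑ p, (∑ j, γ r j * a j p) • t p := by
      simp only [Finset.sum_smul, Finset.smul_sum, smul_smul]
      rw [Finset.sum_comm]
    rw [e2]
    refine Finset.sum_eq_zero (fun p _ => ?_)
    have : ∑ j, γ r j * a j p = 0 := by
      refine Eq.trans (Finset.sum_congr rfl (fun j _ => mul_comm _ _)) (hγ r p)
    rw [this, zero_smul]
  refine ⟨ζ, fun k => ?_, fun i => ?_⟩
  · have := key α h4 k
    rw [← h1 k] at this
    have h0 : ι (ν k - ∑ j, α k j • ζ j) = 0 := by rw [map_sub, this, sub_self]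
    exact sub_eq_zero.1 (hι _ h0)
  · have := key β h5 i
    rw [h2 i] at this
    exact hι _ this

end Alg

section Site
variable {C : Type u} [SmallCategory C] {J : GrothendieckTopology C} {O : Sheaf J CommRingCat.{u}}

/-- exactness on sections -/
lemma exists_section_of_exact (S : ShortComplex (ModSite.Mod O)) (hS : S.ShortExact) {W : C}
    (b : ModSite.sect S.X₂ W) (h : ev S.g W b = 0) :
    ∃ a : ModSite.sect S.X₁ W, ev S.f W a = b := by
  haveI := hS.mono_f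
  have h1 : (freeOnHomEquiv O W S.X₂).symm b ≫ S.g = 0 := by
    apply (freeOnHomEquiv O W S.X₃).injective
    rw [freeOnHomEquiv_naturality, Equiv.apply_symm_apply, Groth.Agent.Lib.Helper4.QSLocal2.freeOnHomEquiv_zero]
    exact h
  refine ⟨freeOnHomEquiv O W _ (hS.exact.lift _ h1), ?_⟩
  have h2 := freeOnHomEquiv_naturality O W (hS.exact.lift _ h1) S.f
  rw [ShortComplex.Exact.lift_f, Equiv.apply_symm_apply] at h2
  exact h2.symm

lemma ev_zero_comp (S : ShortComplex (ModSite.Mod O)) {W : C} (a : ModSite.sect S.X₁ W) :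
    ev S.g W (ev S.f W a) = 0 := by
  have := congrArg (fun k : S.X₁ ⟶ S.X₃ => ev k W a) S.zero
  exact this

lemma ev_sum_smul {M N : ModSite.Mod O} (φ : M ⟶ N) (V : C) {n : ℕ} (c : Fin n → O.obj.obj (op V))
    (x : Fin n → ModSite.sect M V) : ev φ V (∑ j, c j • x j) = ∑ j, c j • ev φ V (x j) := by
  rw [ev_map_sum]
  exact Finset.sum_congr rfl (fun j _ => ev_smul φ V (c j) (x j))

/-- in a short exact sequence with flat cokernel, linear dependencies in the middle come locally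
from the kernel -/
theorem ses_local_solve (S : ShortComplex (ModSite.Mod O)) (hS : S.ShortExact) (hEC : EC1 O S.X₃)
    {W : C} {N N₁ N₂ : ℕ} (n' : Fin N → ModSite.sect S.X₁ W) (y : Fin N₂ → ModSite.sect S.X₂ W)
    (α : Fin N → Fin N₂ → O.obj.obj (op W)) (β : Fin N₁ → Fin N₂ → O.obj.obj (op W))
    (h1 : ∀ k, ev S.f W (n' k) = ∑ j, α k j • y j)
    (h2 : ∀ i, ∑ j, β i j • y j = 0) :
    ∃ T ∈ J W, ∀ ⦃W' : C⦄ (w : W' ⟶ W), T w →
      ∃ ζ : Fin N₂ → ModSite.sect S.X₁ W',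
        (∀ k, res S.X₁ w (n' k) = ∑ j, (O.obj.map w.op).hom (α k j) • ζ j) ∧
        (∀ i, ∑ j, (O.obj.map w.op).hom (β i j) • ζ j = 0) := by
  haveI := hS.mono_f
  haveI := hS.epi_g
  let yb : Fin N₂ → ModSite.sect S.X₃ W := fun j => ev S.g W (y j)
  let F : Fin (N + N₁) → Fin N₂ → O.obj.obj (op W) := fun r => Fin.addCases (fun k => α k) (fun i => β i) r
  have hrel : ∀ r, ∑ j, F r j • yb j = 0 := by
    intro r
    refine Fin.addCases (fun k => ?_) (fun i => ?_) r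
    · have e : F (Fin.castAdd N₁ k) = α k := Fin.addCases_left k
      rw [e, ← ev_sum_smul S.g W (α k) y, ← h1 k]
      exact ev_zero_comp S _
    · have e : F (Fin.natAdd N i) = β i := Fin.addCases_right i
      rw [e, ← ev_sum_smul S.g W (β i) y, h2 i]
      exact map_zero _
  have hT := ec_multi S.X₃ hEC (N + N₁) W N₂ F yb hrel
  refine loc_bind (J := J) (Q := fun W' w => TrivOn S.X₃ w F yb) ⟨_, hT, fun _ _ h => h⟩ ?_
  rintro W' w' ⟨l, tb, a, ht1, ht2⟩
  obtain ⟨S', hS', hlift⟩ := loc_forall_fin (J := J)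
    (fun p W'' g => ∃ t : ModSite.sect S.X₂ W'', ev S.g W'' t = res S.X₃ g (tb p))
    (fun p => Groth.Agent.Lib.Helper4.QSLocal.exists_local_lift S.g (tb p))
  refine ⟨S', hS', fun W'' w'' hw'' => ?_⟩
  choose t ht using hlift w'' hw''
  let ρ : O.obj.obj (op W) →+* O.obj.obj (op W'') := (O.obj.map (w'' ≫ w').op).hom
  have hρ : ∀ x, ρ x = (O.obj.map w''.op).hom ((O.obj.map w'.op).hom x) := fun x => ring_map_comp w'' w' x
  refine alg_core (A := O.obj.obj (op W''))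
    (N' := ModSite.sect S.X₁ W'') (E' := ModSite.sect S.X₂ W'') (M' := ModSite.sect S.X₃ W'')
    ((S.f.val.app (op W'')).hom.toAddMonoidHom) ((S.g.val.app (op W'')).hom.toAddMonoidHom)
    (fun c x => ev_smul S.f W'' c x) (fun c x => ev_smul S.g W'' c x)
    (fun x hx => Groth.Agent.Lib.Helper4.QSLocal2.eq_zero_of_mono S.f x hx)
    (fun b hb => exists_section_of_exact S hS b hb)
    (fun k => res S.X₁ (w'' ≫ w') (n' k)) (fun j => res S.X₂ (w'' ≫ w') (y j))
    (fun k j => ρ (α k j)) (fun i j => ρ (β i j)) t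
    (fun j p => (O.obj.map w''.op).hom (a j p)) ?_ ?_ ?_ ?_ ?_
  · intro k
    show ev S.f W'' (res S.X₁ (w'' ≫ w') (n' k)) = _
    refine (ev_naturality S.f (w'' ≫ w') (n' k)).trans ?_
    rw [h1 k]
    exact map_sum_smul S.X₂ (w'' ≫ w') (α k) y
  · intro i
    have := congrArg (fun z => res S.X₂ (w'' ≫ w') z) (h2 i)
    refine ((map_sum_smul S.X₂ (w'' ≫ w') (β i) y).symm.trans this).trans ?_
    exact map_zero _
  · intro j
    show ev S.g W'' (res S.X₂ (w'' ≫ w') (y j)) = ∑ p, _ • ev S.g W'' (t p)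
    refine (ev_naturality S.g (w'' ≫ w') (y j)).trans ?_
    have e1 : res S.X₃ (w'' ≫ w') (yb j) = res S.X₃ w'' (res S.X₃ w' (yb j)) := mod_map_comp S.X₃ w'' w' (yb j)
    refine e1.trans ?_
    have e2 : res S.X₃ w' (yb j) = ∑ p, a j p • tb p := ht1 j
    rw [e2]
    refine (map_sum_smul S.X₃ w'' (a j) tb).trans ?_
    exact Finset.sum_congr rfl (fun p _ => by rw [ht p])
  · intro k p
    have h := congrArg (fun x => (O.obj.map w''.op).hom x) (ht2 (Fin.castAdd N₁ k) p)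
    simp only [map_sum, map_mul, map_zero] at h
    refine Eq.trans (Finset.sum_congr rfl (fun j _ => ?_)) h
    have e : F (Fin.castAdd N₁ k) = α k := Fin.addCases_left k
    rw [hρ, e]
  · intro i p
    have h := congrArg (fun x => (O.obj.map w''.op).hom x) (ht2 (Fin.natAdd N i) p)
    simp only [map_sum, map_mul, map_zero] at h
    refine Eq.trans (Finset.sum_congr rfl (fun j _ => ?_)) h
    have e : F (Fin.natAdd N i) = β i := Fin.addCases_right i
    rw [hρ, e]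

end Site

section Fun
variable {C D : Type u} [SmallCategory C] [SmallCategory D] {J : GrothendieckTopology C}
  {K : GrothendieckTopology D} {O_C : Sheaf J CommRingCat.{u}} {O_D : Sheaf K CommRingCat.{u}}
  (f : ModSite.RMor O_C O_D) {M M' : ModSite.Mod O_D} (φ : M ⟶ M')

/-- functoriality of the presheaf inverse image -/
noncomputable def G0map : G0 f M ⟶ G0 f M' :=
  descG (P := G0 f M') ((fgt O_D).map φ ≫ θ0 f M')

lemma G0map_gen (X : Cᵒᵖ) (V : D) (ψ : X.unop ⟶ f.fn.obj V) (m : MS M V) :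
    ((G0map f φ).app X).hom (gen f M X V ψ m) =
      gen f M' X V ψ (show MS M' V from (φ.val.app (op V)).hom m) := by
  unfold G0map
  rw [descG_gen]
  have e1 : tv ((fgt O_D).map φ ≫ θ0 f M') V m =
      gen f M' (op (f.fn.obj V)) V (𝟙 _) (show MS M' V from (φ.val.app (op V)).hom m) := rfl
  rw [e1, G0_map_gen]
  congr 1
  exact Category.comp_id _

lemma θ0_G0map : θ0 f M ≫ (fp f).map (G0map f φ) = (fgt O_D).map φ ≫ θ0 f M' :=
  θ0_descG _

/-- the comparison square for `aG` -/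
lemma sq_aG : (unit' O_C).app (G0 f M) ≫ (fgt O_C).map (aG f M ≫ f.pull.map φ) =
    G0map f φ ≫ (unit' O_C).app (G0 f M') ≫ (fgt O_C).map (aG f M') := by
  apply descG_ext
  have hL : (unit' O_C).app (G0 f M) ≫ (fgt O_C).map (aG f M ≫ f.pull.map φ) =
      descG (P := (fgt O_C).obj (f.pull.obj M)) (ηp f M) ≫ (fgt O_C).map (f.pull.map φ) := by
    rw [Functor.map_comp, ← Category.assoc]
    exact congrArg (fun k => k ≫ (fgt O_C).map (f.pull.map φ)) (un_aG f M)
  have hR : G0map f φ ≫ (unit' O_C).app (G0 f M') ≫ (fgt O_C).map (aG f M') =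
      G0map f φ ≫ descG (P := (fgt O_C).obj (f.pull.obj M')) (ηp f M') :=
    congrArg (fun k => G0map f φ ≫ k) (un_aG f M')
  rw [hL, hR]
  have e1 : θ0 f M ≫ (fp f).map (descG (P := (fgt O_C).obj (f.pull.obj M)) (ηp f M) ≫
      (fgt O_C).map (f.pull.map φ)) = ηp f M ≫ (fp f).map ((fgt O_C).map (f.pull.map φ)) := by
    rw [Functor.map_comp, ← Category.assoc]
    exact congrArg (fun k => k ≫ (fp f).map ((fgt O_C).map (f.pull.map φ))) (θ0_descG (ηp f M))
  have e2 : θ0 f M ≫ (fp f).map (G0map f φ ≫ descG (P := (fgt O_C).obj (f.pull.obj M')) (ηp f M')) =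
      (fgt O_D).map φ ≫ ηp f M' := by
    rw [Functor.map_comp, ← Category.assoc, θ0_G0map, Category.assoc]
    exact congrArg (fun k => (fgt O_D).map φ ≫ k) (θ0_descG (ηp f M'))
  rw [e1, e2]
  refine (fgt_comp_push f (f.adj.unit.app M) (f.pull.map φ)).symm.trans ?_
  have h3 : f.adj.unit.app M ≫ f.push.map (f.pull.map φ) = φ ≫ f.adj.unit.app M' :=
    (f.adj.unit.naturality φ).symm
  rw [h3]
  exact (fgt O_D).map_comp _ _

end Fun

section Alg2

lemma alg_kill {A G : Type*} [CommRing A] [AddCommGroup G] [Module A G] {N N₁ N₂ : ℕ}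
    (H : Fin N → A) (q : Fin N₁ → A) (a : Fin N → Fin N₂ → A) (b : Fin N₁ → Fin N₂ → A)
    (g : Fin N₂ → G)
    (h3 : ∀ j, ∑ k, a k j * H k + ∑ i, b i j * q i = 0)
    (hb : ∀ i, ∑ j, b i j • g j = 0) :
    ∑ k, H k • ∑ j, a k j • g j = 0 := by
  have e1 : ∑ k, H k • ∑ j, a k j • g j = ∑ j, (∑ k, a k j * H k) • g j := by
    simp only [Finset.sum_smul, Finset.smul_sum, smul_smul]
    rw [Finset.sum_comm]
    refine Finset.sum_congr rfl (fun j _ => Finset.sum_congr rfl (fun k _ => ?_))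
    rw [mul_comm]
  have e2 : ∀ j, ∑ k, a k j * H k = - ∑ i, b i j * q i := fun j => eq_neg_of_add_eq_zero_left (h3 j)
  rw [e1, Finset.sum_congr rfl (fun j _ => by rw [e2 j])]
  have e3 : ∑ j, (-∑ i, b i j * q i) • g j = - ∑ i, q i • ∑ j, b i j • g j := by
    simp only [neg_smul, Finset.sum_smul, Finset.smul_sum, smul_smul, Finset.sum_neg_distrib]
    rw [Finset.sum_comm]
    refine congrArg Neg.neg (Finset.sum_congr rfl (fun i _ => Finset.sum_congr rfl (fun j _ => ?_)))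
    rw [mul_comm]
  rw [e3, Finset.sum_congr rfl (fun i _ => by rw [hb i, smul_zero]), Finset.sum_const_zero, neg_zero]

end Alg2

section Kill
variable {C D : Type u} [SmallCategory C] [SmallCategory D] {J : GrothendieckTopology C}
  {K : GrothendieckTopology D} {O_C : Sheaf J CommRingCat.{u}} {O_D : Sheaf K CommRingCat.{u}}
  {f : ModSite.RMor O_C O_D}

lemma us_gen_sum_smul (M : ModSite.Mod O_D) {U₄ : C} (W' : D) (χ' : U₄ ⟶ f.fn.obj W') {l : ℕ}
    (A : Fin l → O_D.obj.obj (op W')) (t : Fin l → ModSite.sect M W') :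
    us f M (op U₄) (gen f M (op U₄) W' χ' (∑ p, A p • t p)) =
      ∑ p, sgC W' χ' (A p) • us f M (op U₄) (gen f M (op U₄) W' χ' (t p)) := by
  have e : gen f M (op U₄) W' χ' (∑ p, A p • t p) =
      gen f M (op U₄) W' χ' (∑ p, (show BD O_D W' from A p) • t p) := rfl
  rw [e, gen_sum_smul, us_sum]
  refine Finset.sum_congr rfl (fun p _ => ?_)
  exact us_smul f M (op U₄) _ _

include K in
/-- a stage tensor whose image in the middle term vanishes is killed after refinement -/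
theorem stage_kill (S : ShortComplex (ModSite.Mod O_D)) (hS : S.ShortExact) (hEC : EC1 O_D S.X₃)
    {U₃ : C} {W : D} (χ : U₃ ⟶ f.fn.obj W) {N : ℕ}
    (V : Fin N → D) (e : ∀ k, W ⟶ V k) (n : ∀ k, MS S.X₁ (V k)) (H : Fin N → O_C.obj.obj (op U₃))
    (hsum : ∑ k, (toOCs f χ (H k)) ⊗ₜ[O_D.obj.obj (op W)]
      (mres S.X₂ (e k) (show MS S.X₂ (V k) from (S.f.val.app (op (V k))).hom (n k)) : ModSite.sect S.X₂ W) = 0) :
    ∃ S₄ ∈ J U₃, ∀ ⦃U₄ : C⦄ (g₄ : U₄ ⟶ U₃), S₄ g₄ →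
      ∃ (W' : D) (χ' : U₄ ⟶ f.fn.obj W') (w : W' ⟶ W), g₄ ≫ χ = χ' ≫ f.fn.map w ∧
        ∑ k, (O_C.obj.map g₄.op).hom (H k) •
          us f S.X₁ (op U₄) (gen f S.X₁ (op U₄) W' χ' (mres S.X₁ (w ≫ e k) (n k))) = 0 := by
  obtain ⟨N₁, N₂, q, y, α, β, h1, h2, h3⟩ :=
    vanish_general (R := O_D.obj.obj (op W)) (M := OCs f χ) (N := ModSite.sect S.X₂ W)
      (fun k => toOCs f χ (H k))
      (fun k => (mres S.X₂ (e k) (show MS S.X₂ (V k) from (S.f.val.app (op (V k))).hom (n k)) :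
        ModSite.sect S.X₂ W)) hsum
  let n' : Fin N → ModSite.sect S.X₁ W := fun k => mres S.X₁ (e k) (n k)
  have hn' : ∀ k, ev S.f W (n' k) = ∑ j, α k j • y j := by
    intro k
    rw [← h1 k]
    exact ev_naturality S.f (e k) (n k)
  obtain ⟨T, hT, hsolve⟩ := ses_local_solve S hS hEC n' y α β hn' h2
  refine ⟨(T.functorPushforward f.fn).pullback χ,
    J.pullback_stable χ (cover_push (J := J) (K := K) f.fn _ hT), ?_⟩
  intro U₄ g₄ hg₄
  obtain ⟨W', w, χ', hw, hfac⟩ := hg₄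
  obtain ⟨ζ, hζ1, hζ2⟩ := hsolve w hw
  refine ⟨W', χ', w, hfac, ?_⟩
  have e3 : ∀ j, ∑ k, sgC W' χ' ((O_D.obj.map w.op).hom (α k j)) * (O_C.obj.map g₄.op).hom (H k) +
      ∑ i, sgC W' χ' ((O_D.obj.map w.op).hom (β i j)) *
        (O_C.obj.map g₄.op).hom (show O_C.obj.obj (op U₃) from q i) = 0 := by
    intro j
    have h3j := h3 j
    have s1 : ∑ k, st f χ (α k j) * H k = (∑ k, α k j • toOCs f χ (H k) : OCs f χ) :=
      Finset.sum_congr rfl (fun k _ => (Algebra.smul_def (α k j) (toOCs f χ (H k))).symm)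
    have s2 : ∑ i, st f χ (β i j) * (show O_C.obj.obj (op U₃) from q i) = (∑ i, β i j • q i : OCs f χ) :=
      Finset.sum_congr rfl (fun i _ => (Algebra.smul_def (β i j) (q i)).symm)
    have h3j' : ∑ k, st f χ (α k j) * H k + ∑ i, st f χ (β i j) * (show O_C.obj.obj (op U₃) from q i) =
        (0 : O_C.obj.obj (op U₃)) := by
      rw [s1, s2]
      exact h3j
    have h4 := congrArg (O_C.obj.map g₄.op).hom h3j'
    rw [map_add, map_sum, map_sum, map_zero] at h4
    refine Eq.trans ?_ h4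
    congr 1
    · refine Finset.sum_congr rfl (fun k _ => ?_)
      rw [map_mul, rr_st' g₄ χ χ' w hfac]
    · refine Finset.sum_congr rfl (fun i _ => ?_)
      rw [map_mul, rr_st' g₄ χ χ' w hfac]
  have hgen : ∀ k, us f S.X₁ (op U₄) (gen f S.X₁ (op U₄) W' χ' (mres S.X₁ (w ≫ e k) (n k))) =
      ∑ j, sgC W' χ' ((O_D.obj.map w.op).hom (α k j)) •
        us f S.X₁ (op U₄) (gen f S.X₁ (op U₄) W' χ' (ζ j)) := by
    intro k
    have e1 : (mres S.X₁ (w ≫ e k) (n k) : ModSite.sect S.X₁ W') =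
        ∑ j, (O_D.obj.map w.op).hom (α k j) • ζ j :=
      (mres_comp w (e k) (n k)).symm.trans (hζ1 k)
    rw [e1]
    exact us_gen_sum_smul S.X₁ W' χ' _ ζ
  rw [Finset.sum_congr rfl (fun k _ => by rw [hgen k])]
  refine alg_kill (fun k => (O_C.obj.map g₄.op).hom (H k))
    (fun i => (O_C.obj.map g₄.op).hom (show O_C.obj.obj (op U₃) from q i))
    (fun k j => sgC W' χ' ((O_D.obj.map w.op).hom (α k j)))
    (fun i j => sgC W' χ' ((O_D.obj.map w.op).hom (β i j)))
    (fun j => us f S.X₁ (op U₄) (gen f S.X₁ (op U₄) W' χ' (ζ j))) e3 (fun i => ?_)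
  rw [← us_gen_sum_smul S.X₁ W' χ' (fun j => (O_D.obj.map w.op).hom (β i j)) ζ, hζ2 i]
  rw [gen_zero]
  exact us_zero f S.X₁ (op U₄)

end Kill

section MonoS
variable {C D : Type u} [SmallCategory C] [SmallCategory D] {J : GrothendieckTopology C}
  {K : GrothendieckTopology D} {O_C : Sheaf J CommRingCat.{u}} {O_D : Sheaf K CommRingCat.{u}}
  (f : ModSite.RMor O_C O_D)

lemma us_aG_pull {M M' : ModSite.Mod O_D} (φ : M ⟶ M') (X : Cᵒᵖ) (y : (G0 f M).obj X) :
    ev (f.pull.map φ) X.unop (ev (aG f M) X.unop (us f M X y)) =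
      ev (aG f M') X.unop (us f M' X (((G0map f φ).app X).hom y)) := by
  have := congrArg (fun k => (k.app X).hom y) (sq_aG f φ)
  exact this

lemma G0map_sum_smul_gen {M M' : ModSite.Mod O_D} (φ : M ⟶ M') {U₁ : C} {N : ℕ}
    (γ : Fin N → Gn f M (op U₁)) (r : Fin N → O_C.obj.obj (op U₁)) :
    ((G0map f φ).app (op U₁)).hom (∑ k, (show AC O_C (op U₁) from r k) •
        gen f M (op U₁) (γ k).V (γ k).φ (γ k).m) =
      ∑ k, (show AC O_C (op U₁) from r k) •
        gen f M' (op U₁) (γ k).V (γ k).φ (show MS M' (γ k).V from (φ.val.app (op (γ k).V)).hom (γ k).m) := by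
  rw [map_sum]
  refine Finset.sum_congr rfl (fun k _ => ?_)
  rw [map_smul, G0map_gen]

lemma us_eq_zero_of_aG {M : ModSite.Mod O_D} {U : C} (z : ModSite.sect (Gs f M) U)
    (h : ev (aG f M) U z = 0) : z = 0 := by
  have h1 := congrArg (fun k : Gs f M ⟶ Gs f M => ev k U z) (aG_bG f M)
  have h2 : ev (bG f M) U (ev (aG f M) U z) = z := h1
  rw [← h2, h]
  exact map_zero _

include K in
/-- the inverse image of the inclusion of a kernel with flat cokernel is a monomorphism -/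
theorem mono_pull (S : ShortComplex (ModSite.Mod O_D)) (hS : S.ShortExact) (hEC : EC1 O_D S.X₃) :
    Mono (f.pull.map S.f) := by
  apply Groth.Agent.Lib.Helper4.QSLocal2.mono_of_injective_sections
  intro U x hx
  let s : ModSite.sect (Gs f S.X₁) U := ev (bG f S.X₁) U x
  have hxs : ev (aG f S.X₁) U s = x := by
    have := congrArg (fun k : f.pull.obj S.X₁ ⟶ f.pull.obj S.X₁ => ev k U x) (bG_aG f S.X₁)
    exact this
  suffices hs : s = 0 by
    rw [← hxs, hs]
    exact map_zero _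
  have hloc : ∃ R ∈ J U, ∀ ⦃U' : C⦄ (g : U' ⟶ U), R g → res (Gs f S.X₁) g s = 0 := by
    refine loc_bind (J := J)
      (Q := fun U₁ g₁ => ∃ (N : ℕ) (γ : Fin N → Gn f S.X₁ (op U₁)) (c : Fin 1 → Fin N → AC O_C (op U₁)),
        ∀ j, ((Gs f S.X₁).val.map g₁.op).hom ((fun _ : Fin 1 => s) j) =
          us f S.X₁ (op U₁) (∑ k, c j k • gen f S.X₁ (op U₁) (γ k).V (γ k).φ (γ k).m))
      (exists_local_gens f S.X₁ (fun _ : Fin 1 => s)) ?_
    rintro U₁ g₁ ⟨N, γ, c, hc⟩
    let γ' : Fin N → Gn f S.X₂ (op U₁) := fun k =>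
      ⟨(γ k).V, (γ k).φ, (S.f.val.app (op (γ k).V)).hom (γ k).m⟩
    let hh : Fin N → O_C.obj.obj (op U₁) := fun k => c 0 k
    have hc0 : res (Gs f S.X₁) g₁ s = us f S.X₁ (op U₁) (∑ k, (show AC O_C (op U₁) from hh k) •
        gen f S.X₁ (op U₁) (γ k).V (γ k).φ (γ k).m) := hc 0
    have hz : us f S.X₂ (op U₁) (∑ k, (show AC O_C (op U₁) from hh k) •
        gen f S.X₂ (op U₁) (γ' k).V (γ' k).φ (γ' k).m) = 0 := by
      apply us_eq_zero_of_aG
      have e1 := G0map_sum_smul_gen f S.f γ hh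
      have e2 := us_aG_pull f S.f (op U₁) (∑ k, (show AC O_C (op U₁) from hh k) •
        gen f S.X₁ (op U₁) (γ k).V (γ k).φ (γ k).m)
      rw [e1] at e2
      refine e2.symm.trans ?_
      rw [← hc0]
      have e3 : ev (aG f S.X₁) U₁ (res (Gs f S.X₁) g₁ s) = res (f.pull.obj S.X₁) g₁ x := by
        rw [← hxs]
        exact ev_naturality (aG f S.X₁) g₁ s
      have e4 : ev (f.pull.map S.f) U₁ (res (f.pull.obj S.X₁) g₁ x) =
          res (f.pull.obj S.X₂) g₁ (ev (f.pull.map S.f) U x) := ev_naturality (f.pull.map S.f) g₁ x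
      show ev (f.pull.map S.f) U₁ (ev (aG f S.X₁) U₁ (res (Gs f S.X₁) g₁ s)) = 0
      rw [e3, e4]
      have hx' : ev (f.pull.map S.f) U x = 0 := hx
      rw [hx']
      exact map_zero _
    -- level 2
    refine loc_bind (J := J)
      (Q := fun U₂ g₂ => ((G0 f S.X₂).map g₂.op).hom (∑ k, (show AC O_C (op U₁) from hh k) •
        gen f S.X₂ (op U₁) (γ' k).V (γ' k).φ (γ' k).m) = 0)
      (us_locInj f S.X₂ _ hz) ?_
    intro U₂ g₂ hg₂
    rw [G0_map_sum_smul_gen] at hg₂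
    -- level 3
    refine loc_bind (J := J)
      (Q := fun U₃ g₃ => ∃ (W : D) (χ : U₃ ⟶ f.fn.obj W) (e : ∀ k, W ⟶ (γ' k).V),
        (∀ k, χ ≫ f.fn.map (e k) = g₃ ≫ (g₂ ≫ (γ' k).φ)) ∧
        ∑ k, (rrO g₃ χ (show AC O_C (op U₂) from (O_C.obj.map g₂.op).hom (hh k))) ⊗ₜ[O_D.obj.obj (op W)]
          (mres S.X₂ (e k) (γ' k).m : ModSite.sect S.X₂ W) = 0)
      (vanish_stage (f := f) (M := S.X₂) (fun k => (γ' k).V) (fun k => g₂ ≫ (γ' k).φ) (fun k => (γ' k).m)
        (fun k => (show AC O_C (op U₂) from (O_C.obj.map g₂.op).hom (hh k))) hg₂) ?_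
    rintro U₃ g₃ ⟨W, χ, e, he, hsum⟩
    let H : Fin N → O_C.obj.obj (op U₃) := fun k => (O_C.obj.map g₃.op).hom ((O_C.obj.map g₂.op).hom (hh k))
    obtain ⟨S₄, hS₄, h₄⟩ := stage_kill (K := K) (f := f) S hS hEC χ (fun k => (γ k).V) e
      (fun k => (γ k).m) H hsum
    refine ⟨S₄, hS₄, fun U₄ g₄ hg₄ => ?_⟩
    obtain ⟨W', χ', w, hfac, hkill⟩ := h₄ g₄ hg₄
    show res (Gs f S.X₁) (((g₄ ≫ g₃) ≫ g₂) ≫ g₁) s = 0
    have r1 : res (Gs f S.X₁) (((g₄ ≫ g₃) ≫ g₂) ≫ g₁) s =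
        res (Gs f S.X₁) ((g₄ ≫ g₃) ≫ g₂) (res (Gs f S.X₁) g₁ s) := mod_map_comp (Gs f S.X₁) _ g₁ s
    rw [r1, hc0]
    refine (us_res f S.X₁ ((g₄ ≫ g₃) ≫ g₂) _).trans ?_
    rw [G0_map_sum_smul_gen, us_sum]
    refine Eq.trans (Finset.sum_congr rfl (fun k _ => ?_)) hkill
    refine (us_smul f S.X₁ (op U₄) _ _).trans ?_
    have e1 : ((g₄ ≫ g₃) ≫ g₂) ≫ (γ k).φ = χ' ≫ f.fn.map (w ≫ e k) := by
      have a1 : ((g₄ ≫ g₃) ≫ g₂) ≫ (γ k).φ = g₄ ≫ (g₃ ≫ g₂ ≫ (γ k).φ) := by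
        simp only [Category.assoc]
      have hek : χ ≫ f.fn.map (e k) = g₃ ≫ g₂ ≫ (γ k).φ := he k
      rw [a1, ← hek, ← Category.assoc, hfac, Category.assoc, ← f.fn.map_comp]
    have e2 : gen f S.X₁ (op U₄) (γ k).V (((g₄ ≫ g₃) ≫ g₂) ≫ (γ k).φ) (γ k).m =
        gen f S.X₁ (op U₄) W' χ' (mres S.X₁ (w ≫ e k) (γ k).m) := by
      rw [e1, ← gen_r0]
    rw [e2]
    congr 1
    show (O_C.obj.map ((g₄ ≫ g₃) ≫ g₂).op).hom (hh k) = (O_C.obj.map g₄.op).hom (H k)
    rw [oc_map_comp, oc_map_comp]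
  obtain ⟨R, hR, h⟩ := hloc
  refine Groth.Agent.Lib.Helper4.QSLocal.mod_ext (Gs f S.X₁) hR (fun U' g hg => ?_)
  refine (h g hg).trans ?_
  exact (map_zero _).symm

end MonoS

section Main
variable {C D : Type u} [SmallCategory C] [SmallCategory D] {J : GrothendieckTopology C}
  {K : GrothendieckTopology D} {O_C : Sheaf J CommRingCat.{u}} {O_D : Sheaf K CommRingCat.{u}}
  (f : ModSite.RMor O_C O_D)

include K in
theorem main (S : ShortComplex (ModSite.Mod O_D)) (hS : S.ShortExact) (hH : ModSite.IsFlat S.X₃) :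
    (S.map f.pull).ShortExact := by
  have hEC : EC1 O_D S.X₃ := (Groth.Agent.Lib.Helper4.EqCritConv.main O_D S.X₃).1 hH
  haveI := hS.epi_g
  haveI := hS.mono_f
  haveI : f.pull.IsLeftAdjoint := ⟨_, ⟨f.adj⟩⟩
  haveI hm : Mono (f.pull.map S.f) := mono_pull (K := K) f S hS hEC
  haveI he : Epi (f.pull.map S.g) := inferInstance
  haveI : f.pull.PreservesZeroMorphisms := inferInstance
  have hex : (S.map f.pull).Exact :=
    hS.exact.map_of_epi_of_preservesCokernel f.pull inferInstance inferInstance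
  exact { exact := hex, mono_f := hm, epi_g := he }

end Main

end Groth.Agent.Lib.Helper4.PullSES
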