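import Mathlib
import Groth.Prelude.Def_ModSite2
import Groth.Agent.Lib.Helper4.PullSES

/-!
# a morphism of ringed sites with cofinally many flat stages is flat (helper4)
-/

set_option backward.isDefEq.respectTransparency.types false
set_option synthInstance.maxHeartbeats 400000
set_option autoImplicit false
set_option linter.unusedSectionVars false
set_option linter.style.haveILetI false
set_option linter.unusedSimpArgs false
universe u v w
open CategoryTheory CategoryTheory.Limits Opposite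

namespace Groth.Agent.Lib.Helper4.FlatStages
open TensorProduct
open Groth.Agent.Lib.Helper5.TensorSheaf Groth.Agent.Lib.Helper4.RestrTensorA
  Groth.Agent.Lib.Helper4.PullTensorDelta Groth.Agent.Lib.Helper4.PullModel Groth.Agent.Lib.Helper4.LocFilt
  Groth.Agent.Lib.Helper4.PullVanish Groth.Agent.Lib.Helper4.EqCritConv Groth.Agent.Lib.Helper4.PullFlat
  Groth.Agent.Lib.Helper4.PureTensor Groth.Agent.Lib.Helper5.FreeOn Groth.Agent.Lib.Helper4.PullSES

section Alg

variable {R M N : Type*} [CommRing R] [AddCommGroup M] [Module R M] [AddCommGroup N] [Module R N]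

/-- the converse of `vanish_general`: relations force the tensor to vanish -/
lemma tensor_zero_of_rel {n N₁ N₂ : ℕ} (h : Fin n → M) (φ : Fin n → N) (q : Fin N₁ → M)
    (y : Fin N₂ → N) (α : Fin n → Fin N₂ → R) (β : Fin N₁ → Fin N₂ → R)
    (h1 : ∀ i, φ i = ∑ j, α i j • y j) (h2 : ∀ k, ∑ j, β k j • y j = 0)
    (h3 : ∀ j, ∑ i, α i j • h i + ∑ k, β k j • q k = 0) : ∑ i, h i ⊗ₜ[R] φ i = 0 := by
  rw [Finset.sum_congr rfl (fun i _ => by rw [h1 i])]
  rw [alg4 h α y]
  have e2 : ∀ j, ∑ i, α i j • h i = - ∑ k, β k j • q k := fun j => eq_neg_of_add_eq_zero_left (h3 j)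
  rw [Finset.sum_congr rfl (fun j _ => by rw [e2 j, TensorProduct.neg_tmul])]
  rw [Finset.sum_neg_distrib, neg_eq_zero, ← alg4 q β y]
  exact Finset.sum_eq_zero (fun k _ => by rw [h2 k, TensorProduct.tmul_zero])

end Alg

section Kappa
variable {C D : Type u} [SmallCategory C] [SmallCategory D] {J : GrothendieckTopology C}
  {K : GrothendieckTopology D} {O_C : Sheaf J CommRingCat.{u}} {O_D : Sheaf K CommRingCat.{u}}
  {f : ModSite.RMor O_C O_D}

lemma us_gen_smul (M : ModSite.Mod O_D) {U₄ : C} (W' : D) (χ' : U₄ ⟶ f.fn.obj W')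
    (a : O_D.obj.obj (op W')) (t : ModSite.sect M W') :
    us f M (op U₄) (gen f M (op U₄) W' χ' (a • t)) =
      sgC W' χ' a • us f M (op U₄) (gen f M (op U₄) W' χ' t) := by
  have e : gen f M (op U₄) W' χ' (a • t) = gen f M (op U₄) W' χ' ((show BD O_D W' from a) • t) := rfl
  rw [e, gen_smul]
  exact us_smul f M (op U₄) _ _

lemma us_gen_add (M : ModSite.Mod O_D) {U₄ : C} (W' : D) (χ' : U₄ ⟶ f.fn.obj W')
    (t t' : ModSite.sect M W') :
    us f M (op U₄) (gen f M (op U₄) W' χ' (t + t')) =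
      us f M (op U₄) (gen f M (op U₄) W' χ' t) + us f M (op U₄) (gen f M (op U₄) W' χ' t') := by
  rw [gen_add, us_add]

/-- the map from the stage tensor product to the sections of the inverse image -/
noncomputable def κ (M : ModSite.Mod O_D) {U₄ : C} (W' : D) (χ' : U₄ ⟶ f.fn.obj W') :
    TS f M χ' →+ ModSite.sect (Gs f M) U₄ :=
  TensorProduct.liftAddHom
    { toFun := fun c =>
        { toFun := fun t => (show O_C.obj.obj (op U₄) from c) • us f M (op U₄) (gen f M (op U₄) W' χ' t)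
          map_zero' := by
            rw [gen_zero, us_zero, smul_zero]
          map_add' := fun t t' => by
            rw [us_gen_add, smul_add] }
      map_zero' := by
        ext t
        exact zero_smul (O_C.obj.obj (op U₄)) (us f M (op U₄) (gen f M (op U₄) W' χ' t))
      map_add' := fun c c' => by
        ext t
        exact add_smul (show O_C.obj.obj (op U₄) from c) (show O_C.obj.obj (op U₄) from c')
          (us f M (op U₄) (gen f M (op U₄) W' χ' t)) }
    (by
      intro r c t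
      show (show O_C.obj.obj (op U₄) from (r • c : OCs f χ')) • us f M (op U₄) (gen f M (op U₄) W' χ' t) =
        (show O_C.obj.obj (op U₄) from c) • us f M (op U₄) (gen f M (op U₄) W' χ' (r • t))
      rw [us_gen_smul, smul_smul]
      congr 1
      have : (r • c : OCs f χ') = toOCs f χ' (st f χ' r) * c := Algebra.smul_def r c
      rw [this]
      exact mul_comm _ _)

lemma κ_tmul (M : ModSite.Mod O_D) {U₄ : C} (W' : D) (χ' : U₄ ⟶ f.fn.obj W') (c : OCs f χ')
    (t : ModSite.sect M W') :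
    κ M W' χ' (c ⊗ₜ[O_D.obj.obj (op W')] t) =
      (show O_C.obj.obj (op U₄) from c) • us f M (op U₄) (gen f M (op U₄) W' χ' t) := rfl

end Kappa

section KillFlat
variable {C D : Type u} [SmallCategory C] [SmallCategory D] {J : GrothendieckTopology C}
  {K : GrothendieckTopology D} {O_C : Sheaf J CommRingCat.{u}} {O_D : Sheaf K CommRingCat.{u}}
  {f : ModSite.RMor O_C O_D}

/-- the stages over which `O_C` is flat are cofinal: every stage is covered by arrows factoring through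
refined stages over which `O_C` is flat -/
def FlatStages (f : ModSite.RMor O_C O_D) : Prop :=
  ∀ ⦃U : C⦄ ⦃W : D⦄ (χ : U ⟶ f.fn.obj W), ∃ S ∈ J U, ∀ ⦃U' : C⦄ (g : U' ⟶ U), S g →
    ∃ (U'' : C) (a : U' ⟶ U'') (g' : U'' ⟶ U) (W' : D) (χ' : U'' ⟶ f.fn.obj W') (w : W' ⟶ W),
      a ≫ g' = g ∧ g' ≫ χ = χ' ≫ f.fn.map w ∧ Module.Flat (O_D.obj.obj (op W')) (OCs f χ')

/-- sections of a morphism of modules as a linear map -/
noncomputable def evL {N E : ModSite.Mod O_D} (ι : N ⟶ E) (W : D) :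
    ModSite.sect N W →ₗ[O_D.obj.obj (op W)] ModSite.sect E W where
  toFun := ev ι W
  map_add' := fun a b => map_add (ι.val.app (op W)).hom a b
  map_smul' := fun c a => ev_smul ι W c a

include K in
/-- a stage tensor whose image under a monomorphism vanishes is killed at a refined flat stage -/
theorem kill_at_flat_stage {N E : ModSite.Mod O_D} (ι : N ⟶ E) [Mono ι]
    {U₃ : C} {W : D} (χ : U₃ ⟶ f.fn.obj W) {N' : ℕ}
    (V : Fin N' → D) (e : ∀ k, W ⟶ V k) (n : ∀ k, MS N (V k)) (H : Fin N' → O_C.obj.obj (op U₃))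
    (hsum : ∑ k, (toOCs f χ (H k)) ⊗ₜ[O_D.obj.obj (op W)]
      (mres E (e k) (show MS E (V k) from (ι.val.app (op (V k))).hom (n k)) : ModSite.sect E W) = 0)
    {U₄ : C} (g₄ : U₄ ⟶ U₃) {W' : D} (χ' : U₄ ⟶ f.fn.obj W') (w : W' ⟶ W)
    (hfac : g₄ ≫ χ = χ' ≫ f.fn.map w) (hF : Module.Flat (O_D.obj.obj (op W')) (OCs f χ')) :
    ∑ k, (O_C.obj.map g₄.op).hom (H k) •
      us f N (op U₄) (gen f N (op U₄) W' χ' (mres N (w ≫ e k) (n k))) = 0 := by
  obtain ⟨N₁, N₂, q, y, α, β, h1, h2, h3⟩ :=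
    vanish_general (R := O_D.obj.obj (op W)) (M := OCs f χ) (N := ModSite.sect E W)
      (fun k => toOCs f χ (H k))
      (fun k => (mres E (e k) (show MS E (V k) from (ι.val.app (op (V k))).hom (n k)) :
        ModSite.sect E W)) hsum
  let n'' : Fin N' → ModSite.sect N W' := fun k => mres N (w ≫ e k) (n k)
  let H' : Fin N' → O_C.obj.obj (op U₄) := fun k => (O_C.obj.map g₄.op).hom (H k)
  -- the relations at the refined stage
  have e3 : ∀ j, ∑ k, sgC W' χ' ((O_D.obj.map w.op).hom (α k j)) * H' k +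
      ∑ i, sgC W' χ' ((O_D.obj.map w.op).hom (β i j)) *
        (O_C.obj.map g₄.op).hom (show O_C.obj.obj (op U₃) from q i) = 0 := by
    intro j
    have h3j := h3 j
    have s1 : ∑ k, st f χ (α k j) * H k = (∑ k, α k j • toOCs f χ (H k) : OCs f χ) :=
      Finset.sum_congr rfl (fun k _ => (Algebra.smul_def (α k j) (toOCs f χ (H k))).symm)
    have s2 : ∑ i, st f χ (β i j) * (show O_C.obj.obj (op U₃) from q i) = (∑ i, β i j • q i : OCs f χ) :=
      Finset.sum_congr rfl (fun i _ => (Algebra.smul_def (β i j) (q i)).symm)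
    have h3j' : ∑ k, st f χ (α k j) * H k + ∑ i, st f χ (β i j) * (show O_C.obj.obj (op U₃) from q i) =
        (0 : O_C.obj.obj (op U₃)) := by
      rw [s1, s2]
      exact h3j
    have h4 := congrArg (O_C.obj.map g₄.op).hom h3j'
    rw [map_add, map_sum, map_sum, map_zero] at h4
    refine Eq.trans ?_ h4
    congr 1
    · refine Finset.sum_congr rfl (fun k _ => ?_)
      rw [map_mul, rr_st' g₄ χ χ' w hfac]
    · refine Finset.sum_congr rfl (fun i _ => ?_)
      rw [map_mul, rr_st' g₄ χ χ' w hfac]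
  have hE : ∑ k, (toOCs f χ' (H' k)) ⊗ₜ[O_D.obj.obj (op W')] (evL ι W' (n'' k)) = 0 := by
    refine tensor_zero_of_rel (R := O_D.obj.obj (op W')) (M := OCs f χ') (N := ModSite.sect E W')
      (fun k => toOCs f χ' (H' k)) (fun k => evL ι W' (n'' k))
      (fun i => toOCs f χ' ((O_C.obj.map g₄.op).hom (show O_C.obj.obj (op U₃) from q i)))
      (fun j => res E w (y j))
      (fun k j => (O_D.obj.map w.op).hom (α k j)) (fun i j => (O_D.obj.map w.op).hom (β i j))
      (fun k => ?_) (fun i => ?_) (fun j => ?_)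
    · show ev ι W' (mres N (w ≫ e k) (n k)) = _
      refine (ev_naturality ι (w ≫ e k) (n k)).trans ?_
      have e1 : (mres E (w ≫ e k) (show MS E (V k) from (ι.val.app (op (V k))).hom (n k)) : ModSite.sect E W') =
          res E w (mres E (e k) (show MS E (V k) from (ι.val.app (op (V k))).hom (n k)) : ModSite.sect E W) :=
        (mres_comp w (e k) _).symm
      refine e1.trans ?_
      rw [h1 k]
      exact map_sum_smul E w (α k) y
    · have := congrArg (fun z => res E w z) (h2 i)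
      refine ((map_sum_smul E w (β i) y).symm.trans this).trans ?_
      exact map_zero _
    · refine Eq.trans ?_ (e3 j)
      congr 1
  -- flatness
  have hinj : Function.Injective (evL ι W') := by
    intro a b hab
    have h0 : ev ι W' (a - b) = 0 := by
      have : ev ι W' (a - b) = ev ι W' a - ev ι W' b := map_sub (ι.val.app (op W')).hom a b
      rw [this]
      exact sub_eq_zero.2 hab
    exact sub_eq_zero.1 (Groth.Agent.Lib.Helper4.QSLocal2.eq_zero_of_mono ι _ h0)
  have hN : ∑ k, (toOCs f χ' (H' k)) ⊗ₜ[O_D.obj.obj (op W')] (n'' k) = 0 := by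
    haveI := hF
    apply Module.Flat.lTensor_preserves_injective_linearMap (M := OCs f χ') (evL ι W') hinj
    rw [map_zero, map_sum]
    refine Eq.trans (Finset.sum_congr rfl (fun k _ => ?_)) hE
    exact LinearMap.lTensor_tmul _ _ _ _
  have hκ := congrArg (κ (f := f) N W' χ') hN
  rw [map_sum, map_zero] at hκ
  refine Eq.trans (Finset.sum_congr rfl (fun k _ => ?_)) hκ
  exact (κ_tmul N W' χ' _ _).symm


include K in
/-- a stage tensor whose image under a monomorphism vanishes is killed after refinement -/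
theorem stage_kill_flat (hf : FlatStages f) {N E : ModSite.Mod O_D} (ι : N ⟶ E) [Mono ι]
    {U₃ : C} {W : D} (χ : U₃ ⟶ f.fn.obj W) {N' : ℕ}
    (V : Fin N' → D) (e : ∀ k, W ⟶ V k) (n : ∀ k, MS N (V k)) (H : Fin N' → O_C.obj.obj (op U₃))
    (hsum : ∑ k, (toOCs f χ (H k)) ⊗ₜ[O_D.obj.obj (op W)]
      (mres E (e k) (show MS E (V k) from (ι.val.app (op (V k))).hom (n k)) : ModSite.sect E W) = 0) :
    ∃ S₄ ∈ J U₃, ∀ ⦃U₄ : C⦄ (g₄ : U₄ ⟶ U₃), S₄ g₄ →
      ∃ (W' : D) (χ' : U₄ ⟶ f.fn.obj W') (w : W' ⟶ W), g₄ ≫ χ = χ' ≫ f.fn.map w ∧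
        ∑ k, (O_C.obj.map g₄.op).hom (H k) •
          us f N (op U₄) (gen f N (op U₄) W' χ' (mres N (w ≫ e k) (n k))) = 0 := by
  obtain ⟨S, hS, hfl⟩ := hf χ
  refine ⟨S, hS, fun U₄ g₄ hg₄ => ?_⟩
  obtain ⟨U'', a, g', W', χ', w, hag, hfac, hF⟩ := hfl g₄ hg₄
  refine ⟨W', a ≫ χ', w, ?_, ?_⟩
  · rw [← hag, Category.assoc, hfac, Category.assoc]
  · have h0 := kill_at_flat_stage (K := K) ι χ V e n H hsum g' χ' w hfac hF
    have h1 := congrArg (fun z => res (Gs f N) a z) h0
    have h2 : res (Gs f N) a (∑ k, (O_C.obj.map g'.op).hom (H k) •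
        us f N (op U'') (gen f N (op U'') W' χ' (mres N (w ≫ e k) (n k)))) = 0 :=
      h1.trans (map_zero _)
    have h3 := (map_sum_smul (Gs f N) a (fun k => (O_C.obj.map g'.op).hom (H k))
      (fun k => us f N (op U'') (gen f N (op U'') W' χ' (mres N (w ≫ e k) (n k))))).symm.trans h2
    refine Eq.trans (Finset.sum_congr rfl (fun k _ => ?_)) h3
    have e1 : (O_C.obj.map g₄.op).hom (H k) = (O_C.obj.map a.op).hom ((O_C.obj.map g'.op).hom (H k)) := by
      rw [← hag]
      exact oc_map_comp a g' (H k)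
    have e2 : us f N (op U₄) (gen f N (op U₄) W' (a ≫ χ') (mres N (w ≫ e k) (n k))) =
        res (Gs f N) a (us f N (op U'') (gen f N (op U'') W' χ' (mres N (w ≫ e k) (n k)))) := by
      refine Eq.trans ?_ (us_res f N a _).symm
      rw [G0_map_gen]
      rfl
    rw [e1, e2]

end KillFlat

section MonoG
variable {C D : Type u} [SmallCategory C] [SmallCategory D] {J : GrothendieckTopology C}
  {K : GrothendieckTopology D} {O_C : Sheaf J CommRingCat.{u}} {O_D : Sheaf K CommRingCat.{u}}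
  (f : ModSite.RMor O_C O_D)

/-- vanishing stage tensors are killed after refinement -/
def KillProp {N E : ModSite.Mod O_D} (ι : N ⟶ E) : Prop :=
  ∀ ⦃U₃ : C⦄ ⦃W : D⦄ (χ : U₃ ⟶ f.fn.obj W) ⦃N' : ℕ⦄
    (V : Fin N' → D) (e : ∀ k, W ⟶ V k) (n : ∀ k, MS N (V k)) (H : Fin N' → O_C.obj.obj (op U₃)),
    ∑ k, (toOCs f χ (H k)) ⊗ₜ[O_D.obj.obj (op W)]
      (mres E (e k) (show MS E (V k) from (ι.val.app (op (V k))).hom (n k)) : ModSite.sect E W) = 0 →
    ∃ S₄ ∈ J U₃, ∀ ⦃U₄ : C⦄ (g₄ : U₄ ⟶ U₃), S₄ g₄ →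
      ∃ (W' : D) (χ' : U₄ ⟶ f.fn.obj W') (w : W' ⟶ W), g₄ ≫ χ = χ' ≫ f.fn.map w ∧
        ∑ k, (O_C.obj.map g₄.op).hom (H k) •
          us f N (op U₄) (gen f N (op U₄) W' χ' (mres N (w ≫ e k) (n k))) = 0

include K in
/-- the inverse image of a morphism is a monomorphism as soon as vanishing stage tensors are killed -/
theorem mono_pull_of_kill {N E : ModSite.Mod O_D} (ι : N ⟶ E) (hkill : KillProp f ι) :
    Mono (f.pull.map ι) := by
  apply Groth.Agent.Lib.Helper4.QSLocal2.mono_of_injective_sections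
  intro U x hx
  let s : ModSite.sect (Gs f N) U := ev (bG f N) U x
  have hxs : ev (aG f N) U s = x := by
    have := congrArg (fun k : f.pull.obj N ⟶ f.pull.obj N => ev k U x) (bG_aG f N)
    exact this
  suffices hs : s = 0 by
    rw [← hxs, hs]
    exact map_zero _
  have hloc : ∃ R ∈ J U, ∀ ⦃U' : C⦄ (g : U' ⟶ U), R g → res (Gs f N) g s = 0 := by
    refine loc_bind (J := J)
      (Q := fun U₁ g₁ => ∃ (Nn : ℕ) (γ : Fin Nn → Gn f N (op U₁)) (c : Fin 1 → Fin Nn → AC O_C (op U₁)),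
        ∀ j, ((Gs f N).val.map g₁.op).hom ((fun _ : Fin 1 => s) j) =
          us f N (op U₁) (∑ k, c j k • gen f N (op U₁) (γ k).V (γ k).φ (γ k).m))
      (exists_local_gens f N (fun _ : Fin 1 => s)) ?_
    rintro U₁ g₁ ⟨Nn, γ, c, hc⟩
    let γ' : Fin Nn → Gn f E (op U₁) := fun k =>
      ⟨(γ k).V, (γ k).φ, (ι.val.app (op (γ k).V)).hom (γ k).m⟩
    let hh : Fin Nn → O_C.obj.obj (op U₁) := fun k => c 0 k
    have hc0 : res (Gs f N) g₁ s = us f N (op U₁) (∑ k, (show AC O_C (op U₁) from hh k) •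
        gen f N (op U₁) (γ k).V (γ k).φ (γ k).m) := hc 0
    have hz : us f E (op U₁) (∑ k, (show AC O_C (op U₁) from hh k) •
        gen f E (op U₁) (γ' k).V (γ' k).φ (γ' k).m) = 0 := by
      apply us_eq_zero_of_aG
      have e1 := G0map_sum_smul_gen f ι γ hh
      have e2 := us_aG_pull f ι (op U₁) (∑ k, (show AC O_C (op U₁) from hh k) •
        gen f N (op U₁) (γ k).V (γ k).φ (γ k).m)
      rw [e1] at e2
      refine e2.symm.trans ?_
      rw [← hc0]
      have e3 : ev (aG f N) U₁ (res (Gs f N) g₁ s) = res (f.pull.obj N) g₁ x := by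
        rw [← hxs]
        exact ev_naturality (aG f N) g₁ s
      have e4 : ev (f.pull.map ι) U₁ (res (f.pull.obj N) g₁ x) =
          res (f.pull.obj E) g₁ (ev (f.pull.map ι) U x) := ev_naturality (f.pull.map ι) g₁ x
      show ev (f.pull.map ι) U₁ (ev (aG f N) U₁ (res (Gs f N) g₁ s)) = 0
      rw [e3, e4]
      have hx' : ev (f.pull.map ι) U x = 0 := hx
      rw [hx']
      exact map_zero _
    -- level 2
    refine loc_bind (J := J)
      (Q := fun U₂ g₂ => ((G0 f E).map g₂.op).hom (∑ k, (show AC O_C (op U₁) from hh k) •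
        gen f E (op U₁) (γ' k).V (γ' k).φ (γ' k).m) = 0)
      (us_locInj f E _ hz) ?_
    intro U₂ g₂ hg₂
    rw [G0_map_sum_smul_gen] at hg₂
    -- level 3
    refine loc_bind (J := J)
      (Q := fun U₃ g₃ => ∃ (W : D) (χ : U₃ ⟶ f.fn.obj W) (e : ∀ k, W ⟶ (γ' k).V),
        (∀ k, χ ≫ f.fn.map (e k) = g₃ ≫ (g₂ ≫ (γ' k).φ)) ∧
        ∑ k, (rrO g₃ χ (show AC O_C (op U₂) from (O_C.obj.map g₂.op).hom (hh k))) ⊗ₜ[O_D.obj.obj (op W)]
          (mres E (e k) (γ' k).m : ModSite.sect E W) = 0)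
      (vanish_stage (f := f) (M := E) (fun k => (γ' k).V) (fun k => g₂ ≫ (γ' k).φ) (fun k => (γ' k).m)
        (fun k => (show AC O_C (op U₂) from (O_C.obj.map g₂.op).hom (hh k))) hg₂) ?_
    rintro U₃ g₃ ⟨W, χ, e, he, hsum⟩
    let H : Fin Nn → O_C.obj.obj (op U₃) := fun k => (O_C.obj.map g₃.op).hom ((O_C.obj.map g₂.op).hom (hh k))
    obtain ⟨S₄, hS₄, h₄⟩ := hkill χ (fun k => (γ k).V) e
      (fun k => (γ k).m) H hsum
    refine ⟨S₄, hS₄, fun U₄ g₄ hg₄ => ?_⟩
    obtain ⟨W', χ', w, hfac, hkill⟩ := h₄ g₄ hg₄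
    show res (Gs f N) (((g₄ ≫ g₃) ≫ g₂) ≫ g₁) s = 0
    have r1 : res (Gs f N) (((g₄ ≫ g₃) ≫ g₂) ≫ g₁) s =
        res (Gs f N) ((g₄ ≫ g₃) ≫ g₂) (res (Gs f N) g₁ s) := mod_map_comp (Gs f N) _ g₁ s
    rw [r1, hc0]
    refine (us_res f N ((g₄ ≫ g₃) ≫ g₂) _).trans ?_
    rw [G0_map_sum_smul_gen, us_sum]
    refine Eq.trans (Finset.sum_congr rfl (fun k _ => ?_)) hkill
    refine (us_smul f N (op U₄) _ _).trans ?_
    have e1 : ((g₄ ≫ g₃) ≫ g₂) ≫ (γ k).φ = χ' ≫ f.fn.map (w ≫ e k) := by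
      have a1 : ((g₄ ≫ g₃) ≫ g₂) ≫ (γ k).φ = g₄ ≫ (g₃ ≫ g₂ ≫ (γ k).φ) := by
        simp only [Category.assoc]
      have hek : χ ≫ f.fn.map (e k) = g₃ ≫ g₂ ≫ (γ k).φ := he k
      rw [a1, ← hek, ← Category.assoc, hfac, Category.assoc, ← f.fn.map_comp]
    have e2 : gen f N (op U₄) (γ k).V (((g₄ ≫ g₃) ≫ g₂) ≫ (γ k).φ) (γ k).m =
        gen f N (op U₄) W' χ' (mres N (w ≫ e k) (γ k).m) := by
      rw [e1, ← gen_r0]
    rw [e2]
    congr 1
    show (O_C.obj.map ((g₄ ≫ g₃) ≫ g₂).op).hom (hh k) = (O_C.obj.map g₄.op).hom (H k)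
    rw [oc_map_comp, oc_map_comp]
  obtain ⟨R, hR, h⟩ := hloc
  refine Groth.Agent.Lib.Helper4.QSLocal.mod_ext (Gs f N) hR (fun U' g hg => ?_)
  refine (h g hg).trans ?_
  exact (map_zero _).symm


include K in
/-- **a morphism of ringed sites with cofinally many flat stages is flat** -/
theorem isFlat_of_flatStages (hf : FlatStages f) : f.IsFlat := by
  unfold ModSite.RMor.IsFlat
  haveI : f.pull.IsLeftAdjoint := ⟨_, ⟨f.adj⟩⟩
  haveI : f.pull.Additive := f.adj.left_adjoint_additive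
  haveI : f.pull.PreservesMonomorphisms :=
    ⟨fun ι _ => mono_pull_of_kill (K := K) f ι (fun U₃ W χ N' V e n H hsum =>
      stage_kill_flat (K := K) hf ι χ V e n H hsum)⟩
  haveI : PreservesFiniteColimits f.pull := inferInstance
  haveI : f.pull.PreservesHomology := by
    simp only [f.pull.exact_tfae.out 2 0]
    intro S h
    have key := (Functor.preservesFiniteColimits_tfae f.pull).out 3 0
    have hpres : PreservesFiniteColimits f.pull := inferInstance
    have h1 := key.mp hpres S h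
    refine ShortComplex.ShortExact.mk' h1.left ?_ h1.right
    have := h.2
    exact Functor.map_mono f.pull _
  exact f.pull.preservesFiniteLimits_of_preservesHomology

end MonoG

end Groth.Agent.Lib.Helper4.FlatStages
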