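import Mathlib
import Groth.Prelude.Def_ModSite2
import Groth.Prelude.Def_FSch5
import Groth.Agent.Lib.Helper4.FlatStages

/-!
# the completion morphism of a locally noetherian scheme is flat (helper4)
-/

set_option backward.isDefEq.respectTransparency.types false
set_option synthInstance.maxHeartbeats 400000
set_option autoImplicit false
set_option linter.unusedSectionVars false
set_option linter.style.haveILetI false
set_option linter.unusedSimpArgs false
universe u v w
open CategoryTheory CategoryTheory.Limits Opposite AlgebraicGeometry TopologicalSpace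

namespace Groth.Agent.Lib.Helper4.ComplFlat

section Alg

variable {A : Type u} [CommRing A] (I : Ideal A) {L : Type u} [AddCommGroup L] [Module A L]
  (B : ℕ → Type u) [∀ n, AddCommGroup (B n)] [∀ n, Module A (B n)]
  (φ : ∀ n, A →ₗ[A] B n) (hφs : ∀ n, Function.Surjective (φ n))
  (hφk : ∀ n (a : A), φ n a = 0 ↔ a ∈ I ^ (n + 1))
  (t : ∀ n, B (n + 1) →ₗ[A] B n) (htφ : ∀ n a, t n (φ (n + 1) a) = φ n a)
  (π : ∀ n, L →ₗ[A] B n) (htπ : ∀ n x, t n (π (n + 1) x) = π n x)

include hφk in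
lemma ker_φ (n : ℕ) : LinearMap.ker (φ n) = (I ^ (n + 1) • ⊤ : Submodule A A) := by
  ext a
  rw [LinearMap.mem_ker, hφk n a, smul_eq_mul, Ideal.mul_top]

/-- the level module is the quotient by the power of the ideal -/
noncomputable def θ (n : ℕ) : B n ≃ₗ[A] A ⧸ (I ^ (n + 1) • ⊤ : Submodule A A) :=
  (LinearMap.quotKerEquivOfSurjective (φ n) (hφs n)).symm ≪≫ₗ
    Submodule.quotEquivOfEq _ _ (ker_φ I B φ hφk n)

lemma θ_φ (n : ℕ) (a : A) : θ I B φ hφs hφk n (φ n a) = Submodule.mkQ _ a := by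
  unfold θ
  rw [LinearEquiv.trans_apply]
  have : (LinearMap.quotKerEquivOfSurjective (φ n) (hφs n)).symm (φ n a) =
      Submodule.mkQ _ a := by
    rw [LinearEquiv.symm_apply_eq]
    rfl
  rw [this]
  rfl

end Alg

section Alg2

variable {A : Type u} [CommRing A] (I : Ideal A) {L : Type u} [AddCommGroup L] [Module A L]
  (B : ℕ → Type u) [∀ n, AddCommGroup (B n)] [∀ n, Module A (B n)]
  (φ : ∀ n, A →ₗ[A] B n) (hφs : ∀ n, Function.Surjective (φ n))
  (hφk : ∀ n (a : A), φ n a = 0 ↔ a ∈ I ^ (n + 1))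
  (t : ∀ n, B (n + 1) →ₗ[A] B n) (htφ : ∀ n a, t n (φ (n + 1) a) = φ n a)
  (π : ∀ n, L →ₗ[A] B n) (htπ : ∀ n x, t n (π (n + 1) x) = π n x)

/-- iterated transition maps -/
noncomputable def tt : ∀ (k m : ℕ), B (m + k) →ₗ[A] B m
  | 0, _ => LinearMap.id
  | k + 1, m => (tt k m).comp (t (m + k))

include htφ in
lemma tt_φ (k m : ℕ) (a : A) : tt B t k m (φ (m + k) a) = φ m a := by
  induction k with
  | zero => rfl
  | succ k ih =>
    show tt B t k m (t (m + k) (φ (m + k + 1) a)) = φ m a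
    rw [htφ, ih]

include htπ in
lemma tt_π (k m : ℕ) (x : L) : tt B t k m (π (m + k) x) = π m x := by
  induction k with
  | zero => rfl
  | succ k ih =>
    show tt B t k m (t (m + k) (π (m + k + 1) x)) = π m x
    rw [htπ, ih]

/-- the components of the comparison map -/
noncomputable def Φc (x : L) : ∀ n : ℕ, A ⧸ (I ^ n • ⊤ : Submodule A A)
  | 0 => 0
  | n + 1 => θ I B φ hφs hφk n (π n x)

instance subsingleton_zero : Subsingleton (A ⧸ (I ^ 0 • ⊤ : Submodule A A)) := by
  rw [Submodule.Quotient.subsingleton_iff, pow_zero, Ideal.one_eq_top, smul_eq_mul, Ideal.mul_top]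

include htφ htπ in
lemma Φc_compat (x : L) {m n : ℕ} (hmn : m ≤ n) :
    AdicCompletion.transitionMap I A hmn (Φc I B φ hφs hφk π x n) = Φc I B φ hφs hφk π x m := by
  cases m with
  | zero => exact Subsingleton.elim _ _
  | succ m =>
    obtain ⟨n, rfl⟩ : ∃ n', n = n' + 1 := ⟨n - 1, by omega⟩
    obtain ⟨k, rfl⟩ : ∃ k, n = m + k := ⟨n - m, by omega⟩
    obtain ⟨a, ha⟩ := hφs (m + k) (π (m + k) x)
    show AdicCompletion.transitionMap I A hmn (θ I B φ hφs hφk (m + k) (π (m + k) x)) =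
      θ I B φ hφs hφk m (π m x)
    have h2 : π m x = φ m a := by
      rw [← tt_π B t π htπ k m x, ← ha, tt_φ B φ t htφ]
    rw [← ha, h2, θ_φ, θ_φ]
    rfl

/-- the comparison map to the adic completion -/
noncomputable def Φ : L →ₗ[A] AdicCompletion I A where
  toFun x := ⟨Φc I B φ hφs hφk π x, fun hmn => Φc_compat I B φ hφs hφk t htφ π htπ x hmn⟩
  map_add' x y := by
    apply AdicCompletion.ext
    intro n
    cases n with
    | zero => exact Subsingleton.elim _ _
    | succ n =>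
      show θ I B φ hφs hφk n (π n (x + y)) = θ I B φ hφs hφk n (π n x) + θ I B φ hφs hφk n (π n y)
      rw [map_add, map_add]
  map_smul' c x := by
    apply AdicCompletion.ext
    intro n
    cases n with
    | zero => exact Subsingleton.elim _ _
    | succ n =>
      show θ I B φ hφs hφk n (π n (c • x)) = c • θ I B φ hφs hφk n (π n x)
      rw [map_smul, map_smul]

lemma Φ_val_succ (x : L) (n : ℕ) :
    (Φ I B φ hφs hφk t htφ π htπ x).val (n + 1) = θ I B φ hφs hφk n (π n x) := rfl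

include hφs hφk htφ htπ in
/-- **a limit of the quotients by the powers of an ideal of a noetherian ring is flat** -/
theorem flat_of_limit [IsNoetherianRing A]
    (hinj : ∀ x : L, (∀ n, π n x = 0) → x = 0)
    (hsurj : ∀ b : ∀ n, B n, (∀ n, t n (b (n + 1)) = b n) → ∃ x : L, ∀ n, π n x = b n) :
    Module.Flat A L := by
  have hΦi : Function.Injective (Φ I B φ hφs hφk t htφ π htπ) := by
    rw [← LinearMap.ker_eq_bot, LinearMap.ker_eq_bot']
    intro x hx
    apply hinj
    intro n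
    have h1 := congrArg (fun y : AdicCompletion I A => y.val (n + 1)) hx
    have h2 : θ I B φ hφs hφk n (π n x) = 0 := h1
    exact (LinearEquiv.map_eq_zero_iff _).1 h2
  have hΦs : Function.Surjective (Φ I B φ hφs hφk t htφ π htπ) := by
    intro y
    let b : ∀ n, B n := fun n => (θ I B φ hφs hφk n).symm (y.val (n + 1))
    have hb : ∀ n, t n (b (n + 1)) = b n := by
      intro n
      obtain ⟨a, ha⟩ := Submodule.mkQ_surjective _ (y.val (n + 1 + 1))
      have h1 : b (n + 1) = φ (n + 1) a := by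
        show (θ I B φ hφs hφk (n + 1)).symm (y.val (n + 1 + 1)) = φ (n + 1) a
        rw [LinearEquiv.symm_apply_eq, θ_φ, ha]
      have h2 : y.val (n + 1) = Submodule.mkQ _ a := by
        have := y.2 (Nat.le_succ (n + 1))
        rw [← this, ← ha]
        rfl
      have h3 : b n = φ n a := by
        show (θ I B φ hφs hφk n).symm (y.val (n + 1)) = φ n a
        rw [LinearEquiv.symm_apply_eq, θ_φ, h2]
      rw [h1, h3, htφ]
    obtain ⟨x, hx⟩ := hsurj b hb
    refine ⟨x, ?_⟩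
    apply AdicCompletion.ext
    intro n
    cases n with
    | zero => exact Subsingleton.elim _ _
    | succ n =>
      show θ I B φ hφs hφk n (π n x) = y.val (n + 1)
      rw [hx n]
      exact LinearEquiv.apply_symm_apply _ _
  let e : L ≃ₗ[A] AdicCompletion I A := LinearEquiv.ofBijective _ ⟨hΦi, hΦs⟩
  exact Module.Flat.of_linearEquiv e

end Alg2


section AlgRing

/-- **ring version**: a ring which is the limit of the quotients `A ⧸ I^(n+1)` of a noetherian ring is flat -/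
theorem flat_of_ring_limit {A : Type u} [CommRing A] [IsNoetherianRing A] (I : Ideal A)
    {L : Type u} [CommRing L] [Algebra A L] (B : ℕ → Type u) [∀ n, CommRing (B n)]
    (φ : ∀ n, A →+* B n) (hφs : ∀ n, Function.Surjective (φ n))
    (hφk : ∀ n, RingHom.ker (φ n) = I ^ (n + 1))
    (t : ∀ n, B (n + 1) →+* B n) (htφ : ∀ n, (t n).comp (φ (n + 1)) = φ n)
    (π : ∀ n, L →+* B n) (htπ : ∀ n, (t n).comp (π (n + 1)) = π n)
    (hπφ : ∀ n, (π n).comp (algebraMap A L) = φ n)
    (hinj : ∀ x : L, (∀ n, π n x = 0) → x = 0)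
    (hsurj : ∀ b : ∀ n, B n, (∀ n, t n (b (n + 1)) = b n) → ∃ x : L, ∀ n, π n x = b n) :
    Module.Flat A L := by
  letI : ∀ n, Module A (B n) := fun n => Module.compHom (B n) (φ n)
  have hsm : ∀ n (c : A) (b : B n), c • b = φ n c * b := fun n c b => rfl
  let φ' : ∀ n, A →ₗ[A] B n := fun n =>
    { toFun := φ n
      map_add' := map_add _
      map_smul' := fun c a => by
        show φ n (c • a) = c • φ n a
        rw [hsm, smul_eq_mul, map_mul] }
  let t' : ∀ n, B (n + 1) →ₗ[A] B n := fun n =>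
    { toFun := t n
      map_add' := map_add _
      map_smul' := fun c b => by
        show t n (c • b) = c • t n b
        rw [hsm, hsm, map_mul, ← RingHom.comp_apply, htφ] }
  let π' : ∀ n, L →ₗ[A] B n := fun n =>
    { toFun := π n
      map_add' := map_add _
      map_smul' := fun c x => by
        show π n (c • x) = c • π n x
        rw [hsm, Algebra.smul_def, map_mul, ← RingHom.comp_apply, hπφ] }
  refine flat_of_limit I B φ' hφs (fun n a => ?_) t' (fun n a => ?_) π' (fun n x => ?_) hinj hsurj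
  · show φ n a = 0 ↔ a ∈ I ^ (n + 1)
    rw [← hφk n, RingHom.mem_ker]
  · show t n (φ (n + 1) a) = φ n a
    rw [← RingHom.comp_apply, htφ]
  · show t n (π (n + 1) x) = π n x
    rw [← RingHom.comp_apply, htπ]

end AlgRing

section OshSec

lemma sections_of_succ (F : ℕᵒᵖ ⥤ Type u) (s : ∀ n, F.obj (op n))
    (hs : ∀ n, F.map (homOfLE (Nat.le_add_right n 1)).op (s (n + 1)) = s n) :
    (fun j : ℕᵒᵖ => s j.unop) ∈ F.sections := by
  intro j j' f
  obtain ⟨n⟩ := j
  obtain ⟨m⟩ := j'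
  have hmn : m ≤ n := leOfHom f.unop
  obtain ⟨k, rfl⟩ := Nat.exists_eq_add_of_le hmn
  induction k with
  | zero =>
    have : f = 𝟙 _ := Subsingleton.elim _ _
    rw [this, Functor.map_id_apply]
    rfl
  | succ k ih =>
    have : f = (homOfLE (Nat.le_add_right (m + k) 1)).op ≫ (homOfLE (Nat.le_add_right m k)).op :=
      Subsingleton.elim _ _
    rw [this, Functor.map_comp_apply]
    show F.map _ (F.map _ (s (m + k + 1))) = s m
    rw [hs (m + k)]
    exact ih _ (Nat.le_add_right m k)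

variable (𝔛 : FSch.Sys.{u}) (h : 𝔛.IsFormal) (U : (𝔛.X 0).Opens)

/-- the sections functor -/
noncomputable abbrev secF : Sheaf (Opens.grothendieckTopology (𝔛.X 0)) CommRingCat.{u} ⥤ Type u :=
  sheafToPresheaf _ _ ⋙ (evaluation _ _).obj (op U) ⋙ forget CommRingCat

noncomputable instance : PreservesLimit (𝔛.levelRing h) (secF 𝔛 U) := inferInstance

lemma Osh_ext (x y : (𝔛.Osh h).obj.obj (op U))
    (hxy : ∀ n, (𝔛.OshProj h n).hom.app (op U) x = (𝔛.OshProj h n).hom.app (op U) y) : x = y := by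
  have hl : IsLimit ((secF 𝔛 U).mapCone (limit.cone (𝔛.levelRing h))) :=
    isLimitOfPreserves _ (limit.isLimit _)
  have key := (Types.isLimit_iff _).1 ⟨hl⟩
  let s := Types.sectionOfCone ((secF 𝔛 U).mapCone (limit.cone (𝔛.levelRing h))) x
  obtain ⟨z, -, hz⟩ := key s.1 s.2
  rw [hz x (fun j => rfl)]
  refine (hz y fun j => ?_).symm
  obtain ⟨n⟩ := j
  exact (hxy n).symm

lemma Osh_lift (b : ∀ n, (𝔛.levelObj h n).obj.obj (op U))
    (hb : ∀ n, (𝔛.levelMap h n).hom.app (op U) (b (n + 1)) = b n) :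
    ∃ x : (𝔛.Osh h).obj.obj (op U), ∀ n, (𝔛.OshProj h n).hom.app (op U) x = b n := by
  have hl : IsLimit ((secF 𝔛 U).mapCone (limit.cone (𝔛.levelRing h))) :=
    isLimitOfPreserves _ (limit.isLimit _)
  have key := (Types.isLimit_iff _).1 ⟨hl⟩
  have hs : (fun j : ℕᵒᵖ => b j.unop) ∈ (𝔛.levelRing h ⋙ secF 𝔛 U).sections :=
    sections_of_succ (𝔛.levelRing h ⋙ secF 𝔛 U) b (fun n => by
    show ((𝔛.levelRing h).map (homOfLE (Nat.le_add_right n 1)).op).hom.app (op U) (b (n + 1)) = b n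
    rw [FSch.Sys.levelRing_map_succ]
    exact hb n)
  obtain ⟨z, hz, -⟩ := key _ hs
  exact ⟨z, fun n => hz (op n)⟩


end OshSec

section Compl
open Groth.Agent.Lib.Helper4.PullVanish Groth.Agent.Lib.Helper4.FlatStages

lemma map_bijective_of_eq {Z : Scheme.{u}} {U V : Z.Opens} (heq : U = V) (i : U ⟶ V) :
    Function.Bijective (Z.presheaf.map i.op) := by
  subst heq
  have : i = 𝟙 _ := Subsingleton.elim _ _
  rw [this, op_id, Z.presheaf.map_id]
  exact Function.bijective_id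

variable (X : Scheme.{u}) (𝓘 : X.IdealSheafData) (h : (FSch.completionAlong X 𝓘).IsFormal)

/-- the completion morphism -/
noncomputable abbrev ff : ModSite.RMor ((FSch.completionAlong X 𝓘).Osh h) X.sheaf :=
  FSch.toSchemeMor (FSch.completionAlong X 𝓘) h (FSch.completionToX X 𝓘) (FSch.completionToX_comm X 𝓘)

/-- the level ring maps on an affine open -/
noncomputable abbrev φr (W' : X.affineOpens) (n : ℕ) :
    Γ(X, W'.1) →+* ((FSch.completionAlong X 𝓘).levelObj h n).obj.obj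
      (op ((FSch.completionToX X 𝓘 0) ⁻¹ᵁ W'.1)) :=
  ((FSch.schLevel (FSch.completionAlong X 𝓘) h (FSch.completionToX X 𝓘)
    (FSch.completionToX_comm X 𝓘) n).hom.app (op W'.1)).hom

lemma lvU_eq (W' : X.affineOpens) (n : ℕ) :
    (FSch.completionToX X 𝓘 n) ⁻¹ᵁ W'.1 =
      (FSch.completionAlong X 𝓘).lvU h n ((FSch.completionToX X 𝓘 0) ⁻¹ᵁ W'.1) :=
  FSch.lvU_p (FSch.completionAlong X 𝓘) h (FSch.completionToX X 𝓘) (FSch.completionToX_comm X 𝓘) n W'.1

lemma φr_def (W' : X.affineOpens) (n : ℕ) :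
    φr X 𝓘 h W' n = (((𝓘 ^ (n + 1)).subscheme.presheaf.map
      (homOfLE (lvU_eq X 𝓘 h W' n).ge).op).hom.comp ((𝓘 ^ (n + 1)).subschemeι.app W'.1).hom) := rfl

lemma φr_surj (W' : X.affineOpens) (n : ℕ) : Function.Surjective (φr X 𝓘 h W' n) := by
  have h1 := (𝓘 ^ (n + 1)).subschemeι_app_surjective W'
  have h2 := map_bijective_of_eq (Z := (𝓘 ^ (n + 1)).subscheme) (lvU_eq X 𝓘 h W' n).symm
    (homOfLE (lvU_eq X 𝓘 h W' n).ge)
  rw [φr_def]
  exact h2.surjective.comp h1

lemma φr_ker (W' : X.affineOpens) (n : ℕ) :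
    RingHom.ker (φr X 𝓘 h W' n) = (𝓘.ideal W') ^ (n + 1) := by
  have h2 := map_bijective_of_eq (Z := (𝓘 ^ (n + 1)).subscheme) (lvU_eq X 𝓘 h W' n).symm
    (homOfLE (lvU_eq X 𝓘 h W' n).ge)
  rw [φr_def]
  refine (RingHom.ker_comp_of_injective ((𝓘 ^ (n + 1)).subschemeι.app W'.1).hom
    (f := ((𝓘 ^ (n + 1)).subscheme.presheaf.map (homOfLE (lvU_eq X 𝓘 h W' n).ge).op).hom)
    h2.injective).trans ?_
  rw [Scheme.IdealSheafData.ker_subschemeι_app]
  rfl

/-- the stage algebra at an affine open is flat -/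
theorem flat_stage [IsLocallyNoetherian X] (W' : X.affineOpens) :
    Module.Flat (X.sheaf.obj.obj (op W'.1))
      (OCs (ff X 𝓘 h) (𝟙 ((ff X 𝓘 h).fn.obj W'.1))) := by
  haveI : IsNoetherianRing (X.sheaf.obj.obj (op W'.1)) :=
    IsLocallyNoetherian.component_noetherian W'
  let U'' : ((FSch.completionAlong X 𝓘).X 0).Opens := (FSch.completionToX X 𝓘 0) ⁻¹ᵁ W'.1
  refine flat_of_ring_limit (A := X.sheaf.obj.obj (op W'.1))
    (show Ideal (X.sheaf.obj.obj (op W'.1)) from 𝓘.ideal W')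
    (L := OCs (ff X 𝓘 h) (𝟙 ((ff X 𝓘 h).fn.obj W'.1)))
    (fun n => (((FSch.completionAlong X 𝓘).levelObj h n).obj.obj (op U'') : Type u))
    (φr X 𝓘 h W') (φr_surj X 𝓘 h W') (φr_ker X 𝓘 h W')
    (fun n => (((FSch.completionAlong X 𝓘).levelMap h n).hom.app (op U'')).hom) (fun n => ?_)
    (fun n => (((FSch.completionAlong X 𝓘).OshProj h n).hom.app (op U'')).hom) (fun n => ?_)
    (fun n => ?_) (fun x hx => ?_) (fun b hb => ?_)
  · have := FSch.schLevel_levelMap (FSch.completionAlong X 𝓘) h (FSch.completionToX X 𝓘)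
      (FSch.completionToX_comm X 𝓘) n
    exact congrArg (fun m => (m.hom.app (op W'.1)).hom) this
  · have := (FSch.completionAlong X 𝓘).OshProj_levelMap h n
    exact congrArg (fun m => (m.hom.app (op U'')).hom) this
  · have := FSch.schSharp_proj (FSch.completionAlong X 𝓘) h (FSch.completionToX X 𝓘)
      (FSch.completionToX_comm X 𝓘) n
    have h1 := congrArg (fun m => (m.hom.app (op W'.1)).hom) this
    refine Eq.trans ?_ h1
    apply RingHom.ext
    intro a
    show (((FSch.completionAlong X 𝓘).OshProj h n).hom.app (op U''))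
      ((((FSch.completionAlong X 𝓘).Osh h).obj.map (𝟙 U'').op)
        ((FSch.schSharp (FSch.completionAlong X 𝓘) h (FSch.completionToX X 𝓘)
          (FSch.completionToX_comm X 𝓘)).hom.app (op W'.1) a)) = _
    rw [op_id, CategoryTheory.Functor.map_id]
    rfl
  · exact Osh_ext (FSch.completionAlong X 𝓘) h U'' x 0 (fun n => by
      rw [map_zero]
      exact hx n)
  · exact Osh_lift (FSch.completionAlong X 𝓘) h U'' b hb

lemma cover_exists (U : (𝓘 ^ (0 + 1)).subscheme.Opens) (W : X.Opens)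
    (hUW : U ≤ (FSch.completionToX X 𝓘 0) ⁻¹ᵁ W) (x : (𝓘 ^ (0 + 1)).subscheme) (hx : x ∈ U) :
    ∃ W' : X.affineOpens, W'.1 ≤ W ∧ (FSch.completionToX X 𝓘 0) ⁻¹ᵁ W'.1 ≤ U ∧
      x ∈ (FSch.completionToX X 𝓘 0) ⁻¹ᵁ W'.1 := by
  haveI : IsClosedImmersion (𝓘 ^ (0 + 1)).subschemeι := inferInstance
  have hemb := Scheme.Hom.isEmbedding (𝓘 ^ (0 + 1)).subschemeι
  obtain ⟨V, hVo, hV⟩ := hemb.isInducing.isOpen_iff.1 U.2
  let V' : X.Opens := ⟨V, hVo⟩
  have hxV : (FSch.completionToX X 𝓘 0).base x ∈ V := by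
    have h0 : x ∈ U.carrier := hx
    rw [← hV] at h0
    exact h0
  have hx' : (FSch.completionToX X 𝓘 0).base x ∈ V' ⊓ W := ⟨hxV, hUW hx⟩
  obtain ⟨W', hW'aff, hxW', hW'le⟩ := Opens.isBasis_iff_nbhd.1 X.isBasis_affineOpens hx'
  refine ⟨⟨W', hW'aff⟩, hW'le.trans inf_le_right, ?_, hxW'⟩
  intro y hy
  have h1 : (FSch.completionToX X 𝓘 0).base y ∈ V := (hW'le hy).1
  have h2 : y ∈ (𝓘 ^ (0 + 1)).subschemeι ⁻¹' V := h1
  rw [hV] at h2
  exact h2

/-- the completion morphism has cofinally many flat stages -/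
theorem flatStages [IsLocallyNoetherian X] : FlatStages (ff X 𝓘 h) := by
  intro U W χ
  let S : Sieve U :=
    { arrows := fun U' _ => ∃ W' : X.affineOpens, W'.1 ≤ W ∧
        (FSch.completionToX X 𝓘 0) ⁻¹ᵁ W'.1 ≤ U ∧ U' ≤ (FSch.completionToX X 𝓘 0) ⁻¹ᵁ W'.1
      downward_closed := by
        rintro Y Z g ⟨W', h1, h2, h3⟩ k
        exact ⟨W', h1, h2, (leOfHom k).trans h3⟩ }
  refine ⟨S, ?_, ?_⟩
  · intro x hx
    obtain ⟨W', h1, h2, h3⟩ := cover_exists X 𝓘 U W (leOfHom χ) x hx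
    exact ⟨(FSch.completionToX X 𝓘 0) ⁻¹ᵁ W'.1, homOfLE h2, ⟨W', h1, h2, le_rfl⟩, h3⟩
  · rintro U' g ⟨W', h1, h2, h3⟩
    exact ⟨(FSch.completionToX X 𝓘 0) ⁻¹ᵁ W'.1, homOfLE h3, homOfLE h2, W'.1, 𝟙 _, homOfLE h1,
      Subsingleton.elim _ _, Subsingleton.elim _ _, flat_stage X 𝓘 h W'⟩

/-- **the completion morphism `X̂ ⟶ X` of a locally noetherian scheme is flat** -/
theorem main [IsLocallyNoetherian X] : ModSite.RMor.IsFlat (ff X 𝓘 h) :=
  isFlat_of_flatStages (K := Opens.grothendieckTopology X) _ (flatStages X 𝓘 h)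

end Compl

end Groth.Agent.Lib.Helper4.ComplFlat
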