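import Mathlib
import Groth.Prelude.Def_Formal2
import Groth.Prelude.Def_Formal
import Groth.Agent.Lib.Helper4.ModPowLim2
import Groth.Agent.Lib.Helper4.ComplExt
import Groth.Agent.Lib.Helper4.CohFormalTors
import Groth.Agent.Lib.Helper1.FinPush
import Groth.Agent.Lib.Lead.BCU4

/-!
# completion is fully faithful when source or target is I-power torsion (S0833) (helper4) (helper4)
-/

set_option backward.isDefEq.respectTransparency.types false
set_option synthInstance.maxHeartbeats 400000
set_option autoImplicit false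
set_option linter.unusedSectionVars false
set_option linter.style.haveILetI false
set_option linter.unusedSimpArgs false
universe u v w
open CategoryTheory CategoryTheory.Limits AlgebraicGeometry TopologicalSpace Topology

namespace Groth.Agent.Lib.Helper4.ComplTorsFF

section AlgL

variable {B : Type u} [CommRing B] [IsNoetherianRing B] (J : Ideal B)
  {N : Type u} [AddCommGroup N] [Module B N] [Module.Finite B N] (c : ℕ)

/-- the `J^c`-torsion submodule -/
def torsSub : Submodule B N where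
  carrier := {x | ∀ a ∈ J ^ c, a • x = 0}
  add_mem' := by
    intro x y hx hy a ha
    rw [smul_add, hx a ha, hy a ha, add_zero]
  zero_mem' := fun a _ => smul_zero a
  smul_mem' := by
    intro b x hx a ha
    rw [smul_comm, hx a ha, smul_zero]

theorem mem_torsSub (x : N) : x ∈ torsSub J (N := N) c ↔ ∀ a ∈ J ^ c, a • x = 0 := Iff.rfl

/-- Artin–Rees: high powers of `J` meet the torsion trivially -/
theorem exists_pow_inf_torsSub_eq_bot :
    ∃ m0 : ℕ, ∀ m ≥ m0, (J ^ m • ⊤ ⊓ torsSub J (N := N) c : Submodule B N) = ⊥ := by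
  obtain ⟨k, hk⟩ := Ideal.exists_pow_inf_eq_pow_smul J (torsSub J (N := N) c)
  refine ⟨k + c, fun m hm => ?_⟩
  rw [hk m (by omega), eq_bot_iff, Submodule.smul_le]
  intro a ha x hx
  rw [Submodule.mem_bot]
  have hle : J ^ (m - k) ≤ J ^ c := Ideal.pow_le_pow_right (by omega)
  exact hx.2 a (hle ha)

theorem torsion_eq_zero (z : N) (hz : ∀ a ∈ J ^ c, a • z = 0)
    (h : ∀ n : ℕ, z ∈ (J ^ (n + 1) • ⊤ : Submodule B N)) : z = 0 := by
  obtain ⟨m0, hm0⟩ := exists_pow_inf_torsSub_eq_bot J (N := N) c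
  have : z ∈ (J ^ (m0 + 1) • ⊤ ⊓ torsSub J (N := N) c : Submodule B N) := ⟨h m0, hz⟩
  rw [hm0 (m0 + 1) (Nat.le_succ m0)] at this
  exact this

theorem pi_mem_smul_top {r : ℕ} (J' : Ideal B) (v : Fin r → N)
    (hv : ∀ i, v i ∈ (J' • ⊤ : Submodule B N)) :
    v ∈ (J' • ⊤ : Submodule B (Fin r → N)) := by
  have e : v = ∑ i, (LinearMap.single B (fun _ : Fin r => N) i) (v i) := by
    funext j
    rw [Finset.sum_apply]
    simp [Pi.single_apply]
  rw [e]
  refine Submodule.sum_mem _ fun i _ => ?_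
  have h1 : Submodule.map (LinearMap.single B (fun _ : Fin r => N) i) (J' • ⊤) ≤
      (J' • ⊤ : Submodule B (Fin r → N)) := by
    rw [Submodule.map_smul'']
    exact Submodule.smul_mono le_rfl le_top
  exact h1 ⟨v i, hv i, rfl⟩

theorem exists_torsion_lift
    {Q : ℕ → Type u} [∀ n, AddCommGroup (Q n)] [∀ n, Module B (Q n)]
    (π : ∀ n, N →ₗ[B] Q n) (hsurj : ∀ n, Function.Surjective (π n))
    (hker : ∀ n x, π n x = 0 ↔ x ∈ (J ^ (n + 1) • ⊤ : Submodule B N))
    (t : ∀ n m, n ≤ m → Q m → Q n) (ht : ∀ n m (h : n ≤ m) x, t n m h (π m x) = π n x)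
    (y : ∀ n, Q n) (hy : ∀ n m (h : n ≤ m), t n m h (y m) = y n)
    (hyc : ∀ n, ∀ a ∈ J ^ c, a • y n = 0) :
    ∃ z : N, (∀ a ∈ J ^ c, a • z = 0) ∧ ∀ n, π n z = y n := by
  classical
  obtain ⟨r, a, ha⟩ := Submodule.fg_iff_exists_fin_generating_family.1
    (IsNoetherian.noetherian (J ^ c))
  have ha' : ∀ i, a i ∈ J ^ c := fun i => by rw [← ha]; exact Submodule.subset_span ⟨i, rfl⟩
  let θ : N →ₗ[B] (Fin r → N) := LinearMap.pi (fun i => LinearMap.lsmul B N (a i))
  have hθ : ∀ x i, θ x i = a i • x := fun x i => rfl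
  have hθker : ∀ x, θ x = 0 → ∀ b ∈ J ^ c, b • x = 0 := by
    intro x hx b hb
    rw [← ha] at hb
    induction hb using Submodule.span_induction with
    | mem b hb =>
      obtain ⟨i, rfl⟩ := hb
      rw [← hθ, hx]; rfl
    | zero => rw [zero_smul]
    | add b b' _ _ h1 h2 => rw [add_smul, h1, h2, add_zero]
    | smul d b _ h1 => rw [smul_eq_mul, mul_smul, h1, smul_zero]
  obtain ⟨k, hk⟩ := Ideal.exists_pow_inf_eq_pow_smul J (LinearMap.range θ)
  -- step 3
  have step3 : ∀ n, ∃ z : N, (∀ b ∈ J ^ c, b • z = 0) ∧ π n z = y n := by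
    intro n
    obtain ⟨x, hx⟩ := hsurj (n + k) (y (n + k))
    have h1 : θ x ∈ (J ^ (n + k + 1) • ⊤ : Submodule B (Fin r → N)) := by
      apply pi_mem_smul_top
      intro i
      rw [hθ, ← hker, map_smul, hx]
      exact hyc _ _ (ha' i)
    have h2 : θ x ∈ (J ^ (n + k + 1) • ⊤ ⊓ LinearMap.range θ : Submodule B (Fin r → N)) :=
      ⟨h1, ⟨x, rfl⟩⟩
    rw [hk (n + k + 1) (by omega)] at h2
    have e : n + k + 1 - k = n + 1 := by omega
    rw [e] at h2
    have h3 : (J ^ (n + 1) • (J ^ k • ⊤ ⊓ LinearMap.range θ) : Submodule B (Fin r → N)) ≤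
        Submodule.map θ (J ^ (n + 1) • ⊤) := by
      rw [Submodule.map_smul'', Submodule.map_top]
      exact Submodule.smul_mono le_rfl inf_le_right
    obtain ⟨w, hw, hwx⟩ := h3 h2
    refine ⟨x - w, hθker _ (by rw [map_sub, hwx, sub_self]), ?_⟩
    rw [map_sub, (hker n w).2 hw, sub_zero, ← ht n (n + k) (Nat.le_add_right n k) x, hx]
    exact hy n (n + k) _
  obtain ⟨m0, hm0⟩ := exists_pow_inf_torsSub_eq_bot J (N := N) c
  have huniq : ∀ z z' : N, (∀ b ∈ J ^ c, b • z = 0) → (∀ b ∈ J ^ c, b • z' = 0) →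
      π m0 z = π m0 z' → z = z' := by
    intro z z' hz hz' hzz
    have h1 : z - z' ∈ (J ^ (m0 + 1) • ⊤ ⊓ torsSub J (N := N) c : Submodule B N) := by
      refine ⟨(hker m0 _).1 (by rw [map_sub, hzz, sub_self]), fun b hb => ?_⟩
      rw [smul_sub, hz b hb, hz' b hb, sub_self]
    rw [hm0 (m0 + 1) (Nat.le_succ m0)] at h1
    exact sub_eq_zero.1 h1
  obtain ⟨z, hz, hzπ⟩ := step3 m0
  refine ⟨z, hz, fun n => ?_⟩
  rcases le_total n m0 with h | h
  · rw [← ht n m0 h z, hzπ]
    exact hy n m0 h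
  · obtain ⟨z', hz', hzπ'⟩ := step3 n
    have : z = z' := by
      apply huniq z z' hz hz'
      rw [hzπ, ← ht m0 n h z', hzπ']
      exact (hy m0 n h).symm
    rw [this, hzπ']


end AlgL

section Gen

open Opposite Groth.Agent.Lib.Helper4.ModPowLim

variable {X : Scheme.{u}}

/-- the evaluation functor to types -/
noncomputable abbrev evT' (U : X.Opens) : X.Modules ⥤ Type u :=
  SheafOfModules.evaluation X.ringCatSheaf (op U) ⋙ forget (ModuleCat Γ(X, U))

theorem limit_sections_ext {J : Type u} [SmallCategory J] (D : J ⥤ X.Modules) (U : X.Opens)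
    (x y : Γ(limit D, U)) (h : ∀ j, (limit.π D j).app U x = (limit.π D j).app U y) : x = y := by
  have hc : IsLimit ((evT' U).mapCone (limit.cone D)) :=
    isLimitOfPreserves (forget (ModuleCat Γ(X, U)))
      (isLimitOfPreserves (SheafOfModules.evaluation X.ringCatSheaf (op U)) (limit.isLimit D))
  apply (Types.isLimitEquivSections hc).injective
  apply Subtype.ext
  funext j
  exact h j

variable (Hs : ℕᵒᵖ ⥤ X.Modules) {Z : X.Modules} (l : ∀ n, Z ⟶ Hs.obj (op n))
  (hl : ∀ n, l (n + 1) ≫ tr Hs (Nat.le_succ n) = l n)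

include hl in
theorem legs_compat {a b : ℕ} (h : b ≤ a) : l a ≫ tr Hs h = l b := by
  induction a, h using Nat.le_induction with
  | base =>
    have : tr Hs (le_refl b) = 𝟙 _ := Hs.map_id _
    rw [this, Category.comp_id]
  | succ a hab ih =>
    rw [← tr_comp Hs hab (Nat.le_succ a), ← Category.assoc, hl a, ih]

/-- the morphism to the limit defined by compatible legs -/
noncomputable def toLim : Z ⟶ limit Hs :=
  limit.lift Hs
    { pt := Z
      π :=
        { app := fun n => l n.unop
          naturality := by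
            intro j j' φ
            obtain ⟨a⟩ := j
            obtain ⟨b⟩ := j'
            have hba : b ≤ a := leOfHom φ.unop
            have hφ : φ = (homOfLE hba).op := Quiver.Hom.unop_inj (Subsingleton.elim _ _)
            rw [hφ]
            change 𝟙 _ ≫ l b = l a ≫ tr Hs hba
            rw [Category.id_comp, legs_compat Hs l hl hba] } }

theorem toLim_π (n : ℕ) : toLim Hs l hl ≫ limit.π Hs (op n) = l n :=
  limit.lift_π _ _

end Gen

section Tors

open Opposite Groth.Agent.Lib.Helper4.IPow1 Groth.Agent.Helper1 Groth.Agent.Helper3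
  Groth.Agent.Lib.Helper4.BaseChgRing1 Groth.Agent.Lib.Helper4.LimHomE

variable {A : Type u} [CommRing A] {X : Scheme.{u}} [X.Over (Spec (CommRingCat.of A))]
  (K : Ideal A)

/-- the `K`-torsion part of a module -/
noncomputable def tors (H : X.Modules) : X.Modules :=
  kernel (Pi.lift (fun a : ↥K => Formal.smulMod A H a.1))

/-- the inclusion of the torsion part -/
noncomputable def torsι (H : X.Modules) : tors K H ⟶ H := kernel.ι _

instance mono_torsι (H : X.Modules) : Mono (torsι K H) := by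
  unfold torsι
  exact equalizer.ι_mono

theorem torsι_smul (H : X.Modules) (a : A) (ha : a ∈ K) :
    torsι K H ≫ Formal.smulMod A H a = 0 := by
  have h := kernel.condition (Pi.lift (fun a : ↥K => Formal.smulMod A H a.1))
  have h2 := congrArg (· ≫ Pi.π (fun _ : ↥K => H) ⟨a, ha⟩) h
  simp only [Category.assoc, Pi.lift_π, zero_comp] at h2
  exact h2

theorem tors_lift {F H : X.Modules} (hF : Formal.KilledBy K F) (φ : F ⟶ H) :
    ∃ φ' : F ⟶ tors K H, φ' ≫ torsι K H = φ := by
  refine ⟨kernel.lift _ φ ?_, kernel.lift_ι _ _ _⟩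
  apply Pi.hom_ext
  intro a
  rw [Category.assoc, Pi.lift_π, zero_comp, ← smulMod_nat, hF a.1 a.2, zero_comp]

/-- functoriality of the torsion part -/
noncomputable def torsMap {H H' : X.Modules} (g : H ⟶ H') : tors K H ⟶ tors K H' :=
  kernel.lift _ (torsι K H ≫ g) (by
    apply Pi.hom_ext
    intro a
    rw [Category.assoc, Pi.lift_π, zero_comp, Category.assoc, ← smulMod_nat, ← Category.assoc,
      torsι_smul K H a.1 a.2, zero_comp])

theorem torsMap_ι {H H' : X.Modules} (g : H ⟶ H') :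
    torsMap K g ≫ torsι K H' = torsι K H ≫ g := kernel.lift_ι _ _ _

theorem tors_app_smul (H : X.Modules) (U : X.Opens) (s : Γ(tors K H, U)) (a : A) (ha : a ∈ K) :
    alphaRing A X U a • (torsι K H).app U s = 0 := by
  have := congrArg (fun φ => Scheme.Modules.Hom.app φ U s) (torsι_smul K H a ha)
  exact this

theorem tors_app_injective (H : X.Modules) (U : X.Opens) :
    Function.Injective ((torsι K H).app U) :=
  SepFam.app_injective_of_mono _ U

theorem tors_app_exists (H : X.Modules) (U : X.Opens) (s : Γ(H, U))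
    (hs : ∀ a ∈ K, alphaRing A X U a • s = 0) : ∃ s' : Γ(tors K H, U), (torsι K H).app U s' = s := by
  let S : ShortComplex X.Modules := ShortComplex.mk (torsι K H)
    (Pi.lift (fun a : ↥K => Formal.smulMod A H a.1)) (kernel.condition _)
  have hS : S.Exact := ShortComplex.exact_of_f_is_kernel _ (kernelIsKernel _)
  haveI : Mono S.f := mono_torsι K H
  apply QcAbel.app_exact' hS U s
  apply limit_sections_ext
  intro j
  obtain ⟨a⟩ := j
  change (Pi.π (fun _ : ↥K => H) a).app U ((Pi.lift (fun a : ↥K => Formal.smulMod A H a.1)).app U s) =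
    (Pi.π (fun _ : ↥K => H) a).app U 0
  rw [map_zero]
  have e : Pi.lift (fun a : ↥K => Formal.smulMod A H a.1) ≫ Pi.π (fun _ : ↥K => H) a =
      Formal.smulMod A H a.1 := Pi.lift_π _ _
  have := congrArg (fun φ => Scheme.Modules.Hom.app φ U s) e
  refine Eq.trans this ?_
  exact hs a.1 a.2

end Tors

section KeyIso

open Opposite Groth.Agent.Lib.Helper4.IPow1 Groth.Agent.Helper1 Groth.Agent.Helper3
  Groth.Agent.Lib.Helper4.BaseChgRing1 Groth.Agent.Lib.Helper4.LimHomE
  Groth.Agent.Lib.Helper4.ModPowLim Groth.Agent.Lib.Helper4.ModPowLim2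
  Groth.Agent.Lib.Helper4.ComplExt Groth.Agent.Lib.Helper4.ReesAlg1

variable {A : Type u} [CommRing A] {X : Scheme.{u}} [X.Over (Spec (CommRingCat.of A))]
  (I : Ideal A) (G : X.Modules)

/-- the projections as legs of a cone over the completion -/
noncomputable def legG (n : ℕ) : G ⟶ (Formal.completion I G).obj (op n) :=
  Formal.modPowπ I (n + 1) G

theorem legG_compat (n : ℕ) :
    legG I G (n + 1) ≫ tr (Formal.completion I G) (Nat.le_succ n) = legG I G n := by
  unfold legG tr
  rw [completion_map_succ]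
  exact Formal.modPowπ_trans I (n + 1) G

/-- the canonical morphism to the limit of the completion -/
noncomputable def cG : G ⟶ limit (Formal.completion I G) :=
  toLim _ (legG I G) (legG_compat I G)

theorem cG_π (n : ℕ) : cG I G ≫ limit.π (Formal.completion I G) (op n) = legG I G n :=
  toLim_π _ _ _ n

theorem smul_eq_zero_of_mem_map_pow (c : ℕ) (U : X.Opens) {P : Type u} [AddCommGroup P]
    [Module Γ(X, U) P] (x : P) (hx : ∀ a ∈ I ^ c, alphaRing A X U a • x = 0)
    (b : Γ(X, U)) (hb : b ∈ (I.map (alphaRing A X U)) ^ c) : b • x = 0 := by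
  rw [← Ideal.map_pow] at hb
  unfold Ideal.map at hb
  induction hb using Submodule.span_induction with
  | mem r hr =>
    obtain ⟨a, ha, rfl⟩ := hr
    exact hx a ha
  | zero => rw [zero_smul]
  | add r s _ _ hr hs => rw [add_smul, hr, hs, add_zero]
  | smul d r _ hr => rw [smul_eq_mul, mul_smul, hr, smul_zero]

theorem smul_eq_zero_of_mem_pow (c : ℕ) (U : X.Opens) {P : Type u} [AddCommGroup P]
    [Module Γ(X, U) P] (x : P) (hx : ∀ b ∈ (I.map (alphaRing A X U)) ^ c, b • x = 0)
    (a : A) (ha : a ∈ I ^ c) : alphaRing A X U a • x = 0 := by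
  apply hx
  rw [← Ideal.map_pow]
  exact Ideal.mem_map_of_mem _ ha

variable (hI : I.FG) (hG : Coh.IsCoh G) {U : X.Opens} (hU : IsAffineOpen U)

include hI hG hU in
theorem ker_legG_sections (n : ℕ) (x : Γ(G, U)) :
    (legG I G n).app U x = 0 ↔
      x ∈ ((I.map (alphaRing A X U)) ^ (n + 1) • ⊤ : Submodule Γ(X, U) Γ(G, U)) := by
  haveI : G.IsQuasicoherent := hG.1
  rw [← IM_eq]
  constructor
  · intro hx
    obtain ⟨y, hy⟩ := exact_sections I G (n + 1) x hx
    rw [← hy]
    exact mem_IM_of_mem_range_incl_fg I G hU (n + 1) hI.pow y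
  · intro hx
    obtain ⟨y, hy⟩ := mem_range_incl_of_mem_IM I G (n + 1) x hx
    rw [← hy]
    have := congrArg (fun φ => Scheme.Modules.Hom.app φ U y) (incl_π I G (n + 1))
    exact this

include hG hU in
theorem legG_sections_surjective (n : ℕ) : Function.Surjective ((legG I G n).app U) := by
  haveI : G.IsQuasicoherent := hG.1
  haveI : ((Formal.completion I G).obj (op n)).IsQuasicoherent :=
    ((isCohFormal_completion I G hG).1 n).1
  haveI : Epi (legG I G n) := inferInstanceAs (Epi (cokernel.π _))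
  exact AffPushEpi.app_surjective_of_epi (legG I G n) U hU

include hI hG hU in
theorem torsMap_cG_bijective [IsLocallyNoetherian X] (c : ℕ) :
    Function.Bijective ((torsMap (I ^ c) (cG I G)).app U) := by
  haveI : IsNoetherianRing Γ(X, U) := IsLocallyNoetherian.component_noetherian ⟨U, hU⟩
  haveI : Module.Finite Γ(X, U) Γ(G, U) := FinPush.finite_sections G hG hU
  obtain ⟨Gs, hGs⟩ : ∃ Gs, Gs = Formal.completion I G := ⟨_, rfl⟩
  -- sections of `ι ∘ k = c ∘ ι`
  have hsq : ∀ s : Γ(tors (I ^ c) G, U),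
      (torsι (I ^ c) (limit (Formal.completion I G))).app U ((torsMap (I ^ c) (cG I G)).app U s) =
        (cG I G).app U ((torsι (I ^ c) G).app U s) := fun s =>
    congrArg (fun φ => Scheme.Modules.Hom.app φ U s) (torsMap_ι (I ^ c) (cG I G))
  have hcπ : ∀ (n : ℕ) (x : Γ(G, U)),
      (limit.π (Formal.completion I G) (op n)).app U ((cG I G).app U x) = (legG I G n).app U x :=
    fun n x => congrArg (fun φ => Scheme.Modules.Hom.app φ U x) (cG_π I G n)
  constructor
  · rw [injective_iff_map_eq_zero]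
    intro s hs
    apply tors_app_injective (I ^ c) G U
    rw [map_zero]
    apply torsion_eq_zero (I.map (alphaRing A X U)) c
    · intro b hb
      exact smul_eq_zero_of_mem_map_pow I c U _ (fun a ha => tors_app_smul (I ^ c) G U s a ha) b hb
    · intro n
      rw [← ker_legG_sections I G hI hG hU n, ← hcπ, ← hsq, hs, map_zero, map_zero]
  · intro s
    obtain ⟨yh, hyh⟩ : ∃ yh, yh = (torsι (I ^ c) (limit (Formal.completion I G))).app U s := ⟨_, rfl⟩
    have hyt : ∀ a ∈ I ^ c, alphaRing A X U a • yh = 0 := fun a ha => by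
      rw [hyh]; exact tors_app_smul (I ^ c) _ U s a ha
    obtain ⟨z, hz, hzπ⟩ := exists_torsion_lift (I.map (alphaRing A X U)) c
      (Q := fun n => Γ((Formal.completion I G).obj (op n), U))
      (fun n => appL (legG I G n) U)
      (fun n => legG_sections_surjective I G hG hU n)
      (fun n x => ker_legG_sections I G hI hG hU n x)
      (fun n m h => appL (tr (Formal.completion I G) h) U)
      (fun n m h x => by
        have e := legs_compat (Formal.completion I G) (legG I G) (legG_compat I G) h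
        exact congrArg (fun φ => Scheme.Modules.Hom.app φ U x) e)
      (fun n => (limit.π (Formal.completion I G) (op n)).app U yh)
      (fun n m h => p_compat' (Formal.completion I G) n m h yh)
      (fun n b hb => by
        apply smul_eq_zero_of_mem_map_pow I c U _ _ b hb
        intro a ha
        have e1 := Scheme.Modules.Hom.app_smul (limit.π (Formal.completion I G) (op n))
          (alphaRing A X U a) yh
        rw [← e1, hyt a ha, map_zero])
    obtain ⟨z', hz'⟩ := tors_app_exists (I ^ c) G U z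
      (fun a ha => smul_eq_zero_of_mem_pow I c U z hz a ha)
    refine ⟨z', ?_⟩
    apply tors_app_injective (I ^ c) _ U
    rw [hsq, hz', ← hyh]
    apply lim_ext
    intro n
    rw [hcπ]
    exact hzπ n


end KeyIso

section C1

open Opposite Groth.Agent.Lib.Helper4.IPow1 Groth.Agent.Helper1 Groth.Agent.Helper3
  Groth.Agent.Lib.Helper4.BaseChgRing1 Groth.Agent.Lib.Helper4.LimHomE
  Groth.Agent.Lib.Helper4.ModPowLim Groth.Agent.Lib.Helper4.ModPowLim2
  Groth.Agent.Lib.Helper4.ComplExt

variable {A : Type u} [CommRing A] {X : Scheme.{u}} [X.Over (Spec (CommRingCat.of A))]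
  [IsLocallyNoetherian X] (I : Ideal A) (G : X.Modules)

theorem isIso_torsMap_cG (hI : I.FG) (hG : Coh.IsCoh G) (c : ℕ) :
    IsIso (torsMap (I ^ c) (cG I G)) := by
  apply Groth.Agent.Lead.BCU.isIso_of_bijective_nhds
  intro U x hx
  obtain ⟨V, hV, hxV, hVU⟩ := Opens.isBasis_iff_nbhd.1 X.isBasis_affineOpens hx
  exact ⟨V, hVU, hxV, torsMap_cG_bijective I G hI hG hV c⟩

/-- a module killed by `I^c` maps uniquely to a coherent module compatibly with a given
compatible family of maps to its truncations (finitely generated `I`) -/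
theorem existsUnique_lift_fg (hI : I.FG) (hG : Coh.IsCoh G) (c : ℕ) (F : X.Modules)
    (hF : Formal.KilledBy (I ^ c) F) (f : ∀ n, F ⟶ Formal.modPow I (n + 1) G)
    (hf : ∀ n, f (n + 1) ≫ Formal.modPowTrans I (n + 1) G = f n) :
    ∃! φ : F ⟶ G, ∀ n, φ ≫ Formal.modPowπ I (n + 1) G = f n := by
  haveI := isIso_torsMap_cG I G hI hG c
  obtain ⟨Gh, hGh⟩ : ∃ Gh, Gh = limit (Formal.completion I G) := ⟨_, rfl⟩
  have hf' : ∀ n, (f (n + 1) : F ⟶ (Formal.completion I G).obj (op (n + 1))) ≫
      tr (Formal.completion I G) (Nat.le_succ n) = (f n : F ⟶ (Formal.completion I G).obj (op n)) := by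
    intro n
    unfold tr
    rw [completion_map_succ]
    exact hf n
  obtain ⟨fh, hfh⟩ : ∃ fh : F ⟶ limit (Formal.completion I G),
      ∀ n, fh ≫ limit.π (Formal.completion I G) (op n) = f n :=
    ⟨toLim (Formal.completion I G) (fun n => (f n : F ⟶ (Formal.completion I G).obj (op n))) hf',
      fun n => toLim_π _ _ _ n⟩
  obtain ⟨φ', hφ'⟩ := tors_lift (I ^ c) hF fh
  have hkey : ∀ φ₂ : F ⟶ G, (∀ n, φ₂ ≫ Formal.modPowπ I (n + 1) G = f n) → φ₂ ≫ cG I G = fh := by
    intro φ₂ h₂
    apply limit.hom_ext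
    intro j
    obtain ⟨n⟩ := j
    rw [Category.assoc, cG_π, hfh]
    exact h₂ n
  refine ⟨φ' ≫ inv (torsMap (I ^ c) (cG I G)) ≫ torsι (I ^ c) G, fun n => ?_, fun φ₂ h₂ => ?_⟩
  · have e : (φ' ≫ inv (torsMap (I ^ c) (cG I G)) ≫ torsι (I ^ c) G) ≫ cG I G = fh := by
      rw [Category.assoc, Category.assoc, ← torsMap_ι, IsIso.inv_hom_id_assoc, hφ']
    have e2 := congrArg (· ≫ limit.π (Formal.completion I G) (op n)) e
    simp only [Category.assoc] at e2
    rw [cG_π, hfh] at e2
    rw [Category.assoc, Category.assoc]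
    exact e2
  · obtain ⟨φ₂', hφ₂'⟩ := tors_lift (I ^ c) hF φ₂
    have e1 : φ₂' ≫ torsMap (I ^ c) (cG I G) = φ' := by
      rw [← cancel_mono (torsι (I ^ c) (limit (Formal.completion I G))), Category.assoc, torsMap_ι,
        ← Category.assoc, hφ₂', hφ', hkey φ₂ h₂]
    rw [← hφ₂', ← e1, Category.assoc, IsIso.hom_inv_id_assoc]

end C1

section Red

open Opposite Groth.Agent.Lib.Helper4.IPow1 Groth.Agent.Helper1 Groth.Agent.Helper3
  Groth.Agent.Lib.Helper4.BaseChgRing1 Groth.Agent.Lib.Helper4.LimHomE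
  Groth.Agent.Lib.Helper4.ComplExt

variable {A : Type u} [CommRing A] {X : Scheme.{u}} [X.Over (Spec (CommRingCat.of A))]

/-- locality of vanishing of morphisms of modules -/
theorem hom_eq_zero_of_locally {H H' : X.Modules} (θ : H ⟶ H') {ι : Type*} (W : ι → X.Opens)
    (hW : ⨆ i, W i = ⊤)
    (h : ∀ i (V : X.Opens), V ≤ W i → ∀ s : Γ(H, V), θ.app V s = 0) : θ = 0 := by
  apply Scheme.Modules.hom_ext
  intro U
  ext s
  change θ.app U s = 0
  apply TopCat.Presheaf.IsSheaf.section_ext H'.isSheaf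
  intro x hx
  have hx' : x ∈ (⨆ i, W i) := by rw [hW]; trivial
  obtain ⟨i, hi⟩ := Opens.mem_iSup.1 hx'
  refine ⟨U ⊓ W i, inf_le_left, ⟨hx, hi⟩, ?_⟩
  rw [map_zero, ← Groth.Agent.Lead.CIU.hom_naturality_apply θ inf_le_left s]
  exact h i _ inf_le_right _

theorem exists_fg_le_map_eq [IsNoetherian X] (I : Ideal A) :
    ∃ I₀ : Ideal A, I₀ ≤ I ∧ I₀.FG ∧ ∃ (ι : Type u) (_ : Finite ι) (W : ι → X.affineOpens),
      (⨆ i, (W i).1 = ⊤) ∧
        ∀ i, I.map (alphaRing A X (W i).1) ≤ I₀.map (alphaRing A X (W i).1) := by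
  classical
  obtain ⟨ι, hfin, W, hW⟩ := SchNoeth.exists_finite_affine_cover X
  have key : ∀ i, ∃ T : Finset A, (↑T : Set A) ⊆ I ∧
      I.map (alphaRing A X (W i).1) ≤ Ideal.span ((alphaRing A X (W i).1) '' (↑T : Set A)) := by
    intro i
    haveI : IsNoetherianRing Γ(X, (W i).1) := IsLocallyNoetherian.component_noetherian (W i)
    have hfg : (Submodule.span Γ(X, (W i).1) ((alphaRing A X (W i).1) '' (I : Set A))).FG :=
      IsNoetherian.noetherian _
    obtain ⟨s', hs', hspan⟩ := (Submodule.fg_span_iff_fg_span_finset_subset _).1 hfg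
    have hch : ∀ b : ↥s', ∃ a : A, a ∈ I ∧ alphaRing A X (W i).1 a = b.1 := fun b => hs' b.2
    choose g hgI hgb using hch
    refine ⟨Finset.image g Finset.univ, ?_, ?_⟩
    · intro a ha
      rw [Finset.coe_image] at ha
      obtain ⟨b, _, rfl⟩ := ha
      exact hgI b
    · change Submodule.span _ _ ≤ _
      rw [hspan]
      apply Submodule.span_mono
      intro b hb
      refine ⟨g ⟨b, hb⟩, ?_, hgb ⟨b, hb⟩⟩
      rw [Finset.coe_image]
      exact ⟨⟨b, hb⟩, Finset.mem_coe.2 (Finset.mem_univ _), rfl⟩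
  choose T hTI hTmap using key
  refine ⟨Ideal.span (⋃ i, (↑(T i) : Set A)), ?_, ?_, ι, hfin, W, hW, fun i => ?_⟩
  · rw [Ideal.span_le]
    exact Set.iUnion_subset hTI
  · exact Submodule.fg_span (Set.finite_iUnion (fun i => (T i).finite_toSet))
  · refine (hTmap i).trans ?_
    rw [Ideal.span_le]
    rintro b ⟨a, ha, rfl⟩
    exact Ideal.mem_map_of_mem _ (Ideal.subset_span (Set.mem_iUnion.2 ⟨i, ha⟩))

theorem smulMod_comp_modPowπ_eq_zero (I I₀ : Ideal A) {ι : Type u} (W : ι → X.affineOpens)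
    (hW : ⨆ i, (W i).1 = ⊤)
    (hmap : ∀ i, I.map (alphaRing A X (W i).1) ≤ I₀.map (alphaRing A X (W i).1))
    (n : ℕ) (a : A) (ha : a ∈ I ^ n) (H : X.Modules) :
    Formal.smulMod A H a ≫ Formal.modPowπ I₀ n H = 0 := by
  apply hom_eq_zero_of_locally _ (fun i => (W i).1) hW
  intro i V hV s
  -- the ideal of functions killing everything after projection
  let S : Ideal Γ(X, V) :=
    { carrier := {r | ∀ s : Γ(H, V), (Formal.modPowπ I₀ n H).app V (r • s) = 0}
      add_mem' := by
        intro r r' hr hr' s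
        rw [add_smul, map_add, hr s, hr' s, add_zero]
      zero_mem' := by
        intro s
        rw [zero_smul, map_zero]
      smul_mem' := by
        intro d r hr s
        rw [smul_eq_mul, mul_comm, mul_smul]
        exact hr _ }
  have h1 : (I₀ ^ n).map (alphaRing A X V) ≤ S := by
    rw [Ideal.map_le_iff_le_comap]
    intro a' ha' s
    have := congrArg (fun φ => Scheme.Modules.Hom.app φ V s) (smulMod_π I₀ H ha')
    exact this
  have h2 : alphaRing A X V a ∈ (I₀ ^ n).map (alphaRing A X V) := by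
    have e : alphaRing A X V = (X.presheaf.map (homOfLE hV).op).hom.comp (alphaRing A X (W i).1) := by
      ext b
      exact (alphaRing_res A hV b).symm
    have h3 : alphaRing A X (W i).1 a ∈ (I₀ ^ n).map (alphaRing A X (W i).1) := by
      rw [Ideal.map_pow]
      refine Ideal.pow_right_mono (hmap i) n ?_
      rw [← Ideal.map_pow]
      exact Ideal.mem_map_of_mem _ ha
    rw [e, ← Ideal.map_map]
    exact Ideal.mem_map_of_mem _ h3
  exact h1 h2 s

end Red

section Final

open Opposite Groth.Agent.Lib.Helper4.IPow1 Groth.Agent.Helper1 Groth.Agent.Helper3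
  Groth.Agent.Lib.Helper4.BaseChgRing1 Groth.Agent.Lib.Helper4.LimHomE
  Groth.Agent.Lib.Helper4.ModPowLim Groth.Agent.Lib.Helper4.ComplExt
  Groth.Agent.Lib.Helper4.CohFormalTors

variable {A : Type u} [CommRing A] {X : Scheme.{u}} [X.Over (Spec (CommRingCat.of A))]
  (I : Ideal A)

/-- a module killed by `I^c` maps uniquely to a coherent module compatibly with a given
compatible family of maps to its truncations -/
theorem existsUnique_lift [IsNoetherian X] (G : X.Modules) (hG : Coh.IsCoh G) (c : ℕ)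
    (F : X.Modules) (hF : Formal.KilledBy (I ^ c) F) (f : ∀ n, F ⟶ Formal.modPow I (n + 1) G)
    (hf : ∀ n, f (n + 1) ≫ Formal.modPowTrans I (n + 1) G = f n) :
    ∃! φ : F ⟶ G, ∀ n, φ ≫ Formal.modPowπ I (n + 1) G = f n := by
  obtain ⟨I₀, hle, hfg, ι, _, W, hW, hmap⟩ := exists_fg_le_map_eq (X := X) I
  have hP : ∀ n a, a ∈ I ^ n → Formal.smulMod A G a ≫ Formal.modPowπ I₀ n G = 0 :=
    fun n a ha => smulMod_comp_modPowπ_eq_zero I I₀ W hW hmap n a ha G
  have hu0 : ∀ n, Formal.smulFamily (I ^ n) G ≫ Formal.modPowπ I₀ n G = 0 := by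
    intro n
    apply Sigma.hom_ext
    intro a
    rw [← Category.assoc, smulFamily_ι, comp_zero]
    exact hP n a.1 a.2
  have hv0 : ∀ n, Formal.smulFamily (I₀ ^ n) G ≫ Formal.modPowπ I n G = 0 := fun n =>
    Formal.smulFamily_π_of_le (Ideal.pow_right_mono hle n) G
  obtain ⟨u, hπu⟩ : ∃ u : ∀ n, Formal.modPow I n G ⟶ Formal.modPow I₀ n G,
      ∀ n, Formal.modPowπ I n G ≫ u n = Formal.modPowπ I₀ n G :=
    ⟨fun n => cokernel.desc _ _ (hu0 n), fun n => cokernel.π_desc _ _ _⟩
  obtain ⟨v, hπv⟩ : ∃ v : ∀ n, Formal.modPow I₀ n G ⟶ Formal.modPow I n G,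
      ∀ n, Formal.modPowπ I₀ n G ≫ v n = Formal.modPowπ I n G :=
    ⟨fun n => cokernel.desc _ _ (hv0 n), fun n => cokernel.π_desc _ _ _⟩
  have hepi : ∀ n, Epi (Formal.modPowπ I n G) := fun n => inferInstanceAs (Epi (cokernel.π _))
  have huv : ∀ n, u n ≫ v n = 𝟙 _ := by
    intro n
    haveI := hepi n
    rw [← cancel_epi (Formal.modPowπ I n G), ← Category.assoc, hπu, hπv, Category.comp_id]
  have hmono : ∀ n, Mono (u n) := fun n => mono_of_mono_fac (huv n)
  have hut : ∀ n, u (n + 1) ≫ Formal.modPowTrans I₀ n G = Formal.modPowTrans I n G ≫ u n := by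
    intro n
    haveI := hepi (n + 1)
    rw [← cancel_epi (Formal.modPowπ I (n + 1) G), ← Category.assoc, hπu, Formal.modPowπ_trans,
      ← Category.assoc, Formal.modPowπ_trans, hπu]
  have hF₀ : Formal.KilledBy (I₀ ^ c) F := fun a ha => hF a (Ideal.pow_right_mono hle c ha)
  obtain ⟨φ, hφ, huniq⟩ := existsUnique_lift_fg I₀ G hfg hG c F hF₀ (fun n => f n ≫ u (n + 1)) (by
    intro n
    rw [Category.assoc, hut, ← Category.assoc, hf])
  refine ⟨φ, fun n => ?_, fun φ₂ h₂ => huniq φ₂ (fun n => ?_)⟩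
  · haveI := hmono (n + 1)
    rw [← cancel_mono (u (n + 1)), Category.assoc, hπu]
    exact hφ n
  · rw [← hπu, ← Category.assoc, h₂ n]

theorem isIso_modPowπ_of_killed (G : X.Modules) (n : ℕ) (hG : Formal.KilledBy (I ^ n) G) :
    IsIso (Formal.modPowπ I n G) := by
  have h0 : Formal.smulFamily (I ^ n) G = 0 := smulFamily_eq_zero hG
  have hepi : Epi (Formal.modPowπ I n G) := inferInstanceAs (Epi (cokernel.π _))
  refine ⟨cokernel.desc _ (𝟙 G) (by rw [h0, zero_comp]), cokernel.π_desc _ _ _, ?_⟩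
  rw [← cancel_epi (Formal.modPowπ I n G), ← Category.assoc]
  have : Formal.modPowπ I n G ≫ cokernel.desc (Formal.smulFamily (I ^ n) G) (𝟙 G)
      (by rw [h0, zero_comp]) = 𝟙 G := cokernel.π_desc _ _ _
  rw [this, Category.id_comp, Category.comp_id]

/-- the maps to the truncations defined by a map of completions -/
theorem compat_of_natTrans (F G : X.Modules)
    (ψ : Formal.completion I F ⟶ Formal.completion I G) (n : ℕ) :
    (Formal.modPowπ I (n + 1 + 1) F ≫ ψ.app (op (n + 1))) ≫ Formal.modPowTrans I (n + 1) G =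
      Formal.modPowπ I (n + 1) F ≫ ψ.app (op n) := by
  have h := ψ.naturality (homOfLE (Nat.le_succ n)).op
  rw [completion_map_succ, completion_map_succ] at h
  rw [Category.assoc]
  refine (congrArg (Formal.modPowπ I (n + 1 + 1) F ≫ ·) h.symm).trans ?_
  refine (Category.assoc _ _ _).symm.trans ?_
  exact congrArg (· ≫ ψ.app (op n)) (Formal.modPowπ_trans I (n + 1) F)

theorem existsUnique_of_killed_target (F G : X.Modules) (c : ℕ)
    (hG : Formal.KilledBy (I ^ c) G) (ψ : Formal.completion I F ⟶ Formal.completion I G) :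
    ∃! φ : F ⟶ G, ∀ n : ℕ,
      Formal.modPowπ I (n + 1) F ≫ ψ.app (op n) = φ ≫ Formal.modPowπ I (n + 1) G := by
  have hk : ∀ n, c ≤ n → Formal.KilledBy (I ^ n) G := fun n hn a ha =>
    hG a (Ideal.pow_le_pow_right hn ha)
  have hiso : ∀ n, c ≤ n → IsIso (legG I G n) := fun n hn =>
    isIso_modPowπ_of_killed I G (n + 1) (hk (n + 1) (by omega))
  obtain ⟨f, hfdef⟩ : ∃ f : ∀ n, F ⟶ (Formal.completion I G).obj (op n),
      ∀ n, f n = Formal.modPowπ I (n + 1) F ≫ ψ.app (op n) := ⟨_, fun _ => rfl⟩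
  have hf : ∀ n, f (n + 1) ≫ tr (Formal.completion I G) (Nat.le_succ n) = f n := by
    intro n
    rw [hfdef, hfdef]
    unfold tr
    rw [completion_map_succ]
    exact compat_of_natTrans I F G ψ n
  have hfc : ∀ {a b : ℕ} (h : b ≤ a), f a ≫ tr (Formal.completion I G) h = f b :=
    fun h => legs_compat _ f hf h
  have hlc : ∀ {a b : ℕ} (h : b ≤ a), legG I G a ≫ tr (Formal.completion I G) h = legG I G b :=
    fun h => legs_compat _ (legG I G) (legG_compat I G) h
  haveI := hiso c le_rfl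
  have hbig : ∀ m, c ≤ m → f m = (f c ≫ inv (legG I G c)) ≫ legG I G m := by
    intro m hm
    haveI := hiso m hm
    have htr : IsIso (tr (Formal.completion I G) hm) := by
      have e := hlc hm
      have : tr (Formal.completion I G) hm = inv (legG I G m) ≫ legG I G c := by
        rw [← e, IsIso.inv_hom_id_assoc]
      rw [this]
      infer_instance
    rw [← cancel_mono (tr (Formal.completion I G) hm), hfc hm, Category.assoc, hlc hm,
      Category.assoc, IsIso.inv_hom_id, Category.comp_id]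
  refine ⟨f c ≫ inv (legG I G c), fun n => ?_, fun φ₂ h₂ => ?_⟩
  · rw [← hfdef]
    have h1 := hbig (max n c) (le_max_right n c)
    have h2 := hfc (le_max_left n c)
    rw [← h2, h1, Category.assoc, hlc (le_max_left n c)]
    rfl
  · have := h₂ c
    rw [← hfdef] at this
    rw [this]
    change φ₂ = (φ₂ ≫ legG I G c) ≫ inv (legG I G c)
    rw [Category.assoc, IsIso.hom_inv_id, Category.comp_id]

theorem main [IsNoetherian X] (F G : X.Modules) (hG : Coh.IsCoh G)
    (hc : ∃ c : ℕ, Formal.KilledBy (I ^ c) F ∨ Formal.KilledBy (I ^ c) G)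
    (ψ : Formal.completion I F ⟶ Formal.completion I G) :
    ∃! φ : F ⟶ G, ∀ n : ℕ,
      Formal.modPowπ I (n + 1) F ≫ ψ.app (op n) = φ ≫ Formal.modPowπ I (n + 1) G := by
  obtain ⟨c, hc | hc⟩ := hc
  · obtain ⟨φ, h1, h2⟩ := existsUnique_lift I G hG c F hc
      (fun n => Formal.modPowπ I (n + 1) F ≫ ψ.app (op n)) (compat_of_natTrans I F G ψ)
    exact ⟨φ, fun n => (h1 n).symm, fun φ₂ h => h2 φ₂ (fun n => (h n).symm)⟩
  · exact existsUnique_of_killed_target I F G c hc ψ

end Final

end Groth.Agent.Lib.Helper4.ComplTorsFF
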