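import Mathlib
import Groth.Prelude.Def_AlgGrp
import Groth.Agent.Lib.Helper4.HomogDim1
import Groth.Agent.Lib.Helper4.TorsorSq1
import Groth.Agent.Lib.Helper4.PropDim1
import Groth.Agent.Lib.Helper4.Chev6
import Groth.Agent.Lib.Helper4.SchClosGrp1
import Groth.Agent.S3024

/-!
# homomorphisms of group schemes l.f.t. over a local artinian ring: kernel group object, closed image, dimension formula (helper4) (helper4)
-/

set_option backward.isDefEq.respectTransparency.types false
set_option synthInstance.maxHeartbeats 400000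
set_option autoImplicit false
set_option linter.unusedSectionVars false
set_option linter.style.haveILetI false
set_option linter.unusedSimpArgs false
universe u v w
open CategoryTheory CategoryTheory.Limits AlgebraicGeometry TopologicalSpace Opposite
open MonoidalCategory CartesianMonoidalCategory MonObj GrpObj

namespace Groth.Agent.Lib.Helper4.HomDim1
open Groth.Agent.Lib.Helper4.HomogDim1

section Ker
variable {S : Scheme.{u}} {G Q : Over S} [GrpObj G] [GrpObj Q] (q : G ⟶ Q) [IsMonHom q]

/-- the kernel of a homomorphism, as an object over `S` whose underlying scheme is the fibre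
product of `q` and the unit section -/
noncomputable def kerObj : Over S := Over.mk (pullback.fst q.left η[Q].left ≫ G.hom)

noncomputable def kerHom : kerObj q ⟶ G := Over.homMk (pullback.fst q.left η[Q].left) rfl

theorem kerObj_left : (kerObj q).left = pullback q.left η[Q].left := rfl

theorem isKernel_kerHom : AlgGrp.IsKernel (kerHom q) q := by
  have hsnd : (toUnit (kerObj q)).left = pullback.snd q.left η[Q].left := by
    have h1 : (toUnit (kerObj q)).left = (kerObj q).hom := by
      have := Over.w (toUnit (kerObj q))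
      simpa using this
    rw [h1]
    show pullback.fst q.left η[Q].left ≫ G.hom = _
    rw [← Over.w q, ← Category.assoc, pullback.condition, Category.assoc, Over.w η[Q]]
    exact Category.comp_id _
  have hw : kerHom q ≫ q = toUnit (kerObj q) ≫ η[Q] := by
    ext
    rw [Over.comp_left, Over.comp_left, hsnd]
    exact pullback.condition
  apply IsPullback.of_map (Over.forget S) hw
  simp only [Over.forget_obj, Over.forget_map]
  rw [hsnd]
  exact IsPullback.of_hasPullback q.left η[Q].left

end Ker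


section KerGrp
variable {S : Scheme.{u}} {N G Q : Over S} [GrpObj G] [GrpObj Q] (i : N ⟶ G) (q : G ⟶ Q)
  [IsMonHom q] (hker : AlgGrp.IsKernel i q)

include hker in
theorem mono_of_isKernel' : Mono i :=
  ⟨fun x y hxy => IsPullback.hom_ext hker hxy (toUnit_unique _ _)⟩

include hker in
theorem exists_grpObj_ker : ∃ (_ : GrpObj N), IsMonHom i := by
  haveI := mono_of_isKernel' i q hker
  have hiq : i ≫ q = 1 := by rw [hker.w]; rfl
  have h1 : η[G] ≫ q = toUnit (𝟙_ (Over S)) ≫ η[Q] := by
    rw [IsMonHom.one_hom, toUnit_unique (toUnit (𝟙_ (Over S))) (𝟙 _), Category.id_comp]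
  have hm : ((i ⊗ₘ i) ≫ μ[G]) ≫ q = toUnit (N ⊗ N) ≫ η[Q] := by
    have e : (i ⊗ₘ i) ≫ μ[G] = (fst N N ≫ i) * (snd N N ≫ i) := by
      rw [MonObj.mul_eq_mul, MonObj.comp_mul, tensorHom_fst, tensorHom_snd]
    rw [e, MonObj.mul_comp, Category.assoc, Category.assoc, hiq, MonObj.comp_one, MonObj.comp_one,
      _root_.mul_one]
    rfl
  have hinv : (i ≫ ι[G]) ≫ q = toUnit N ≫ η[Q] := by
    rw [Category.assoc, GrpObj.inv_hom, ← Category.assoc, hiq, ← Hom.inv_def, inv_one]
    rfl
  let one' : 𝟙_ (Over S) ⟶ N := hker.lift η[G] (toUnit _) h1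
  let mul' : N ⊗ N ⟶ N := hker.lift ((i ⊗ₘ i) ≫ μ[G]) (toUnit _) hm
  let inv' : N ⟶ N := hker.lift (i ≫ ι[G]) (toUnit _) hinv
  have e1 : one' ≫ i = η[G] := hker.lift_fst _ _ _
  have e2 : mul' ≫ i = (i ⊗ₘ i) ≫ μ[G] := hker.lift_fst _ _ _
  have e3 : inv' ≫ i = i ≫ ι[G] := hker.lift_fst _ _ _
  letI inst : GrpObj N :=
    Groth.Agent.Lib.Helper4.SchClosGrp1.grpObjOfMono i one' mul' inv' e1 e2 e3
  exact ⟨inst, { one_hom := e1, mul_hom := e2 }⟩

end KerGrp

section Self
variable {S : Scheme.{u}} (G : Over S) [GrpObj G]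

/-- a group acting on itself by left translations -/
noncomputable def selfAct : AlgGrp.Action G G where
  act := μ[G]
  one_act := MonObj.one_mul G
  mul_act := MonObj.mul_assoc G

theorem surjective_selfΦ : Surjective (lift (selfAct G).act (snd G G)).left := by
  let Ψ : G ⊗ G ⟶ G ⊗ G := lift (fst G G * (snd G G)⁻¹) (snd G G)
  have h : Ψ ≫ lift (selfAct G).act (snd G G) = 𝟙 _ := by
    apply CartesianMonoidalCategory.hom_ext
    · rw [Category.assoc, lift_fst, Category.id_comp]
      show Ψ ≫ μ[G] = _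
      rw [← Hom.mul_def, inv_mul_cancel_right]
    · rw [Category.assoc, lift_snd, lift_snd, Category.id_comp]
  refine ⟨fun y => ⟨Ψ.left y, ?_⟩⟩
  rw [← Scheme.Hom.comp_apply, ← Over.comp_left, h]
  rfl

end Self

section Artin
variable (A : Type u) [CommRing A] [IsArtinianRing A] [IsLocalRing A]

theorem subsingleton_spec : Subsingleton (Spec (CommRingCat.of A)) := by
  refine ⟨fun p q => ?_⟩
  have hp : p.asIdeal = IsLocalRing.maximalIdeal A :=
    IsLocalRing.eq_maximalIdeal (IsArtinianRing.isMaximal_of_isPrime p.asIdeal)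
  have hq : q.asIdeal = IsLocalRing.maximalIdeal A :=
    IsLocalRing.eq_maximalIdeal (IsArtinianRing.isMaximal_of_isPrime q.asIdeal)
  exact PrimeSpectrum.ext (hp.trans hq.symm)

open Groth.Agent.Lib.Helper4.FibDimBC2 in
theorem exists_fibreDimAt_const_artin
    (G X : Over (Spec (CommRingCat.of A))) [GrpObj G] [LocallyOfFiniteType G.hom]
    [LocallyOfFiniteType X.hom]
    (a : AlgGrp.Action G X) (hΦ : Surjective (lift a.act (snd G X)).left) :
    ∃ d : ℕ, ∀ z : X.left, FlatMor.fibreDimAt X.hom z = (d : WithBot ℕ∞) := by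
  let k := IsLocalRing.ResidueField A
  let L := AlgebraicClosure k
  let φ : A →+* L := (algebraMap k L).comp (IsLocalRing.residue A)
  let σ : Spec (CommRingCat.of L) ⟶ Spec (CommRingCat.of A) := Spec.map (CommRingCat.ofHom φ)
  haveI hsub := subsingleton_spec A
  haveI : Surjective σ := ⟨fun s => ⟨IsLocalRing.closedPoint L, Subsingleton.elim _ _⟩⟩
  let Gbar := (Over.pullback σ).obj G
  let Xbar := (Over.pullback σ).obj X
  haveI : LocallyOfFiniteType Gbar.hom := by
    show LocallyOfFiniteType (pullback.snd G.hom σ)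
    infer_instance
  haveI : LocallyOfFiniteType Xbar.hom := by
    show LocallyOfFiniteType (pullback.snd X.hom σ)
    infer_instance
  obtain ⟨d, hd⟩ := exists_fibreDimAt_const (bcAct' σ a) (surjective_bcΦ' σ a hΦ)
  have hsq : IsPullback (pullback.fst X.hom σ) (pullback.snd X.hom σ) X.hom σ :=
    IsPullback.of_hasPullback X.hom σ
  refine ⟨d, fun z => ?_⟩
  haveI : Surjective (pullback.fst X.hom σ) := inferInstance
  obtain ⟨z', rfl⟩ := (pullback.fst X.hom σ).surjective z
  rw [← fibreDimAt_abs X.hom σ (pullback.fst X.hom σ) (pullback.snd X.hom σ) hsq z']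
  exact hd z'

/-- a group scheme locally of finite type over a local artinian ring has constant local
dimension, equal to its dimension -/
theorem exists_dim_grp (G : Over (Spec (CommRingCat.of A))) [GrpObj G]
    [LocallyOfFiniteType G.hom] :
    ∃ d : ℕ, (∀ z : G.left, FlatMor.fibreDimAt G.hom z = (d : WithBot ℕ∞)) ∧
      topologicalKrullDim G.left = (d : WithBot ℕ∞) := by
  obtain ⟨d, hd⟩ := exists_fibreDimAt_const_artin A G G (selfAct G) (surjective_selfΦ G)
  refine ⟨d, hd, ?_⟩
  haveI hsub := subsingleton_spec A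
  haveI : IsLocallyNoetherian (Spec (CommRingCat.of A)) := inferInstance
  let e : G.left := η[G].left (IsLocalRing.closedPoint A)
  rw [← Groth.Agent.Lib.Helper4.PropDim1.tdim_univ]
  exact tdim_eq_of_const G.hom d hd (G.hom e) Set.univ isOpen_univ ⟨e, trivial⟩
    (fun z _ => Subsingleton.elim _ _)

end Artin


section FibU
variable {S : Scheme.{u}} (N G Q : Over S) [GrpObj N] [GrpObj G] [GrpObj Q]
  (i : N ⟶ G) [IsMonHom i] (q : G ⟶ Q) [IsMonHom q]

open Groth.Agent.Lib.Helper4.TorsorSq1 in
theorem surjective_actMap : Function.Surjective (actMap N G i).left := by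
  let s : G ⟶ N ⊗ G := lift (toUnit G ≫ η[N]) (𝟙 G)
  have h : s ≫ actMap N G i = 𝟙 G := by
    rw [lift_actMap, Category.assoc, IsMonHom.one_hom, ← Hom.one_def, _root_.one_mul]
  intro y
  refine ⟨s.left y, ?_⟩
  rw [← Scheme.Hom.comp_apply, ← Over.comp_left, h]
  rfl

open Groth.Agent.Lib.Helper4.TorsorSq1 Groth.Agent.Lib.Helper4.FibDimBC2 in
/-- all fibres of a homomorphism have the local dimension of the kernel -/
theorem fibreDimAt_hom_eq (hker : AlgGrp.IsKernel i q) [LocallyOfFiniteType q.left]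
    [LocallyOfFiniteType N.hom] (d : WithBot ℕ∞)
    (hd : ∀ n : N.left, FlatMor.fibreDimAt N.hom n = d) (x : G.left) :
    FlatMor.fibreDimAt q.left x = d := by
  obtain ⟨z, rfl⟩ := surjective_actMap N G i x
  have H := (isPullback_torsor N G Q i q hker).flip
  have H2 : IsPullback (fst N G).left (snd N G).left N.hom G.hom :=
    IsPullback.of_hasPullback N.hom G.hom
  rw [← fibreDimAt_abs q.left q.left (actMap N G i).left (snd N G).left H z,
    fibreDimAt_abs N.hom G.hom (fst N G).left (snd N G).left H2 z]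
  exact hd _

end FibU

section Gen
variable {X Y Z : Scheme.{u}}

theorem tr_congr {f g : X ⟶ Y} [LocallyOfFiniteType f] [LocallyOfFiniteType g] (h : f = g)
    (x : X) : Groth.Agent.Lib.Helper4.FibDim1.tr f x = Groth.Agent.Lib.Helper4.FibDim1.tr g x := by
  subst h; rfl

open Groth.Agent.Lib.Helper4.FibDim1 Groth.Agent.Lib.Helper4.LocNoethFib1
  Groth.Agent.Lib.Helper4.PropDim1 in
/-- additivity of local fibre dimensions at a maximal point -/
theorem fibreDimAt_add_of_max (v : X ⟶ Y) (p : Y ⟶ Z) (r : X ⟶ Z) (hr : v ≫ p = r)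
    [LocallyOfFiniteType v] [LocallyOfFiniteType p] [LocallyOfFiniteType r]
    (ξ : X) (hmax : ∀ x : X, x ⤳ ξ → x = ξ) :
    FlatMor.fibreDimAt r ξ = ((tr p (v ξ) : ℕ) : WithBot ℕ∞) + FlatMor.fibreDimAt v ξ := by
  rw [fibreDimAt_eq_tr_of_max r ξ (fun z' _ h => hmax z' h),
    fibreDimAt_eq_tr_of_max v ξ (fun z' _ h => hmax z' h)]
  have h1 : tr r ξ = tr (v ≫ p) ξ := tr_congr hr.symm ξ
  rw [h1, tr_comp v p ξ]
  push_cast
  rfl

end Gen


section Range

/-- dimension of a quasi-sober subset as the Krull dimension of its specialization order -/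
theorem tdim_sub_eq {X Y : Scheme.{u}} (f : X ⟶ Y) (y : Y) (C : Set X) [QuasiSober ↥C]
    (hy : ∀ z ∈ C, f z = y) :
    topologicalKrullDim ↥C = Order.krullDim {z : X // z ∈ C ∧ f z = y} := by
  rw [Groth.Agent.Helper4.GM.topologicalKrullDim_eq_krullDim_specialization]
  have hle : ∀ a b : ↥C, (specializationOrder ↥C).le a b ↔ a.1 ≤ b.1 := by
    intro a b
    change b ⤳ a ↔ b.1 ⤳ a.1
    rw [Topology.IsInducing.subtypeVal.specializes_iff]
  apply le_antisymm
  · refine @Order.krullDim_le_of_strictMono _ _ (specializationOrder ↥C).toPreorder _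
      (fun a : ↥C => (⟨a.1, a.2, hy a.1 a.2⟩ : {z : X // z ∈ C ∧ f z = y})) ?_
    intro a b hlt
    have hlt' := (@lt_iff_le_not_ge _ (specializationOrder ↥C).toPreorder a b).mp hlt
    rw [lt_iff_le_not_ge]
    exact ⟨(hle a b).mp hlt'.1, fun h => hlt'.2 ((hle b a).mpr h)⟩
  · refine @Order.krullDim_le_of_strictMono _ _ _ (specializationOrder ↥C).toPreorder
      (fun z : {z : X // z ∈ C ∧ f z = y} => (⟨z.1, z.2.1⟩ : ↥C)) ?_
    intro a b hlt
    rw [lt_iff_le_not_ge] at hlt
    apply (@lt_iff_le_not_ge _ (specializationOrder ↥C).toPreorder _ _).mpr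
    exact ⟨(hle _ _).mpr hlt.1, fun h => hlt.2 ((hle _ _).mp h)⟩

open Groth.Agent.Lib.Helper4.FibDim1 Groth.Agent.Lib.Helper4.FibDim3
  Groth.Agent.Lib.Helper4.FibDimBC2 in
/-- the dimension of a closed image, computed at the images of the maximal points -/
theorem tdim_range_eq {G H Y : Scheme.{u}} (u : G ⟶ H) (p : H ⟶ Y) [LocallyOfFiniteType p]
    [IsLocallyNoetherian Y] [Subsingleton Y] [Nonempty G] (hcl : IsClosed (Set.range u))
    (c : ℕ) (hc : ∀ ξ : G, (∀ x : G, x ⤳ ξ → x = ξ) → tr p (u ξ) = c) :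
    topologicalKrullDim ↥(Set.range u) = (c : WithBot ℕ∞) := by
  have hgen : ∀ x : G, ∃ ξ : G, ξ ⤳ x ∧ ∀ x' : G, x' ⤳ ξ → x' = ξ := by
    intro x
    obtain ⟨ξ, hξx, -, hmax⟩ := exists_fibreMax_ge (u ≫ p) x
    exact ⟨ξ, hξx, fun x' h => hmax x' (Subsingleton.elim _ _) h⟩
  apply le_antisymm
  · haveI : QuasiSober ↥(Set.range u) := hcl.isClosedEmbedding_subtypeVal.quasiSober
    obtain ⟨x₀⟩ := ‹Nonempty G›
    rw [tdim_sub_eq p (p (u x₀)) (Set.range u) (fun z _ => Subsingleton.elim _ _)]
    rw [Order.krullDim]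
    apply iSup_le
    intro s
    let s' : LTSeries {z : H // p z = p (u x₀)} :=
      s.map (fun z => ⟨z.1, z.2.2⟩) (fun a b h => h)
    have h1 := tr_add_length_le p (p (u x₀)) s'
    obtain ⟨x, hx⟩ := s.last.2.1
    obtain ⟨ξ, hξx, hmax⟩ := hgen x
    have hsp : u ξ ⤳ u x := hξx.map u.continuous
    have h2 := tr_le_of_specializes p (u ξ) (u x) hsp (Subsingleton.elim _ _)
    rw [hc ξ hmax] at h2
    have h3 : s'.last.1 = u x := by
      rw [hx]
      have := LTSeries.last_map s (fun z => (⟨z.1, z.2.2⟩ : {z : H // p z = p (u x₀)}))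
        (fun a b h => h)
      exact congrArg Subtype.val this
    rw [h3] at h1
    have h4 : s'.length = s.length := rfl
    have : s.length ≤ c := by omega
    exact_mod_cast this
  · obtain ⟨x₀⟩ := ‹Nonempty G›
    obtain ⟨ξ, -, hmax⟩ := hgen x₀
    have hsub : closure ({u ξ} : Set H) ⊆ Set.range u :=
      hcl.closure_subset_iff.mpr (Set.singleton_subset_iff.mpr ⟨ξ, rfl⟩)
    have h := Groth.Agent.Lib.Helper4.Chev6.dim_closure_inter_fiber p (u ξ) (p (u ξ)) rfl
    have hset : closure ({u ξ} : Set H) ∩ p.base ⁻¹' {p (u ξ)} = closure ({u ξ} : Set H) := by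
      apply Set.inter_eq_left.mpr
      intro a _
      exact Subsingleton.elim (α := Y) _ _
    rw [hset, hc ξ hmax] at h
    rw [← h]
    exact Groth.Agent.Lib.Helper4.DimFT2.topologicalKrullDim_mono hsub

end Range

theorem isClosed_range_hom (A : Type u) [CommRing A] [IsArtinianRing A] [IsLocalRing A]
    (G H : Over (Spec (CommRingCat.of A))) [GrpObj G] [GrpObj H]
    (u : G ⟶ H) [IsMonHom u] [QuasiCompact u.left] : IsClosed (Set.range u.left) := by
  let k := IsLocalRing.ResidueField A
  let σ : Spec (CommRingCat.of k) ⟶ Spec (CommRingCat.of A) :=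
    Spec.map (CommRingCat.ofHom (IsLocalRing.residue A))
  haveI : IsClosedImmersion σ :=
    IsClosedImmersion.spec_of_surjective _ IsLocalRing.residue_surjective
  haveI hsub : Subsingleton (Spec (CommRingCat.of A)) := by
    refine ⟨fun p q => ?_⟩
    have hp : p.asIdeal = IsLocalRing.maximalIdeal A :=
      IsLocalRing.eq_maximalIdeal (IsArtinianRing.isMaximal_of_isPrime p.asIdeal)
    have hq : q.asIdeal = IsLocalRing.maximalIdeal A :=
      IsLocalRing.eq_maximalIdeal (IsArtinianRing.isMaximal_of_isPrime q.asIdeal)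
    exact PrimeSpectrum.ext (hp.trans hq.symm)
  haveI : Surjective σ := ⟨fun s => ⟨IsLocalRing.closedPoint k, Subsingleton.elim _ _⟩⟩
  let Gk := (Over.pullback σ).obj G
  let Hk := (Over.pullback σ).obj H
  let uk : Gk ⟶ Hk := (Over.pullback σ).map u
  haveI : IsMonHom uk := Functor.map.instIsMonHom (F := Over.pullback σ) G H u
  have hsq := isPullback_bc_map' σ u
  haveI : QuasiCompact uk.left :=
    MorphismProperty.of_isPullback (P := @QuasiCompact) hsq.flip inferInstance
  obtain ⟨H', inst, i, f', hi, hf', hfi, hcl, -, -, hsurj⟩ :=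
    Groth.Agent.S3024.result k Gk Hk uk
  have hr : Set.range uk.left = Set.range i.left := by
    have h1 : uk.left = f'.left ≫ i.left := by rw [← Over.comp_left, hfi]
    rw [h1, Scheme.Hom.comp_base, TopCat.coe_comp, Set.range_comp,
      Set.range_eq_univ.mpr f'.left.surjective, Set.image_univ]
  have hclk : IsClosed (Set.range uk.left) := by
    rw [hr]; exact i.left.isClosedEmbedding.isClosed_range
  haveI : IsClosedImmersion (pullback.fst H.hom σ) := inferInstance
  haveI : Surjective (pullback.fst G.hom σ) := inferInstance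
  have hrange : Set.range u.left = (pullback.fst H.hom σ) '' (Set.range uk.left) := by
    ext y
    constructor
    · rintro ⟨x, rfl⟩
      obtain ⟨x', rfl⟩ := (pullback.fst G.hom σ).surjective x
      refine ⟨uk.left x', ⟨x', rfl⟩, ?_⟩
      rw [← Scheme.Hom.comp_apply, hsq.w, Scheme.Hom.comp_apply]
    · rintro ⟨_, ⟨x', rfl⟩, rfl⟩
      refine ⟨pullback.fst G.hom σ x', ?_⟩
      rw [← Scheme.Hom.comp_apply, ← hsq.w, Scheme.Hom.comp_apply]
  rw [hrange]
  exact (pullback.fst H.hom σ).isClosedEmbedding.isClosedMap _ hclk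

open Groth.Agent.Lib.Helper4.FibDim1 Groth.Agent.Lib.Helper4.FibDimBC2 in
theorem main (A : Type u) [CommRing A] [IsArtinianRing A] [IsLocalRing A]
    (G H : Over (Spec (CommRingCat.of A))) [GrpObj G] [GrpObj H] [LocallyOfFiniteType G.hom]
    [LocallyOfFiniteType H.hom]
    (u : G ⟶ H) [IsMonHom u] [QuasiCompact u.left] :
    IsClosed (Set.range u.left.base) ∧
    topologicalKrullDim G.left =
      topologicalKrullDim (Set.range u.left.base) +
        topologicalKrullDim ↥(Limits.pullback u.left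
          (η[H] : 𝟙_ (Over (Spec (CommRingCat.of A))) ⟶ H).left) := by
  have hcl : IsClosed (Set.range u.left) := isClosed_range_hom A G H u
  refine ⟨hcl, ?_⟩
  let N := kerObj u
  let j : N ⟶ G := kerHom u
  have hker : AlgGrp.IsKernel j u := isKernel_kerHom u
  obtain ⟨instN, hj⟩ := exists_grpObj_ker j u hker
  haveI : LocallyOfFiniteType η[H].left := by
    haveI : LocallyOfFiniteType (η[H].left ≫ H.hom) := by
      rw [Over.w η[H]]
      show LocallyOfFiniteType (𝟙 _)
      infer_instance
    exact locallyOfFiniteType_of_comp η[H].left H.hom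
  haveI : LocallyOfFiniteType N.hom := by
    show LocallyOfFiniteType (pullback.fst u.left η[H].left ≫ G.hom)
    infer_instance
  haveI : LocallyOfFiniteType u.left := by
    haveI : LocallyOfFiniteType (u.left ≫ H.hom) := by rw [Over.w u]; infer_instance
    exact locallyOfFiniteType_of_comp u.left H.hom
  obtain ⟨dG, hdG, htG⟩ := exists_dim_grp A G
  obtain ⟨dN, hdN, htN⟩ := exists_dim_grp A N
  have hfib : ∀ x : G.left, FlatMor.fibreDimAt u.left x = (dN : WithBot ℕ∞) :=
    fibreDimAt_hom_eq N G H j u hker dN hdN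
  haveI hsub := subsingleton_spec A
  haveI : IsLocallyNoetherian (Spec (CommRingCat.of A)) := inferInstance
  haveI : Nonempty G.left := ⟨η[G].left (IsLocalRing.closedPoint A)⟩
  have hform : ∀ ξ : G.left, (∀ x : G.left, x ⤳ ξ → x = ξ) →
      dG = tr H.hom (u.left ξ) + dN := by
    intro ξ hmax
    have h := fibreDimAt_add_of_max u.left H.hom G.hom (Over.w u) ξ hmax
    rw [hdG, hfib] at h
    exact_mod_cast h
  obtain ⟨ξ₀, -, -, hmax₀⟩ := exists_fibreMax_ge G.hom (η[G].left (IsLocalRing.closedPoint A))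
  have hmax₀' : ∀ x : G.left, x ⤳ ξ₀ → x = ξ₀ := fun x h => hmax₀ x (Subsingleton.elim _ _) h
  have h₀ := hform ξ₀ hmax₀'
  have hc : ∀ ξ : G.left, (∀ x : G.left, x ⤳ ξ → x = ξ) →
      tr H.hom (u.left ξ) = tr H.hom (u.left ξ₀) := by
    intro ξ hmax
    have := hform ξ hmax
    omega
  have htR := tdim_range_eq u.left H.hom hcl (tr H.hom (u.left ξ₀)) hc
  have htN' : topologicalKrullDim ↥(Limits.pullback u.left
      (η[H] : 𝟙_ (Over (Spec (CommRingCat.of A))) ⟶ H).left) = (dN : WithBot ℕ∞) := htN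
  rw [htG, htN']
  have htR' : topologicalKrullDim (Set.range u.left.base) =
      ((tr H.hom (u.left ξ₀) : ℕ) : WithBot ℕ∞) := htR
  rw [htR']
  exact_mod_cast h₀

end Groth.Agent.Lib.Helper4.HomDim1
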