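import Mathlib
import Groth.Prelude.Def_AlgGrp
import Groth.Agent.Lib.Helper4.HomDim1

/-!
# orbit maps: base change of the graph map, constant fibre dimension, dimension of orbit closures, semicontinuity (helper4) (helper4)
-/

set_option backward.isDefEq.respectTransparency.types false
set_option synthInstance.maxHeartbeats 400000
set_option autoImplicit false
set_option linter.unusedSectionVars false
set_option linter.style.haveILetI false
set_option linter.unusedSimpArgs false
universe u v w
open CategoryTheory CategoryTheory.Limits AlgebraicGeometry TopologicalSpace Opposite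
open MonoidalCategory CartesianMonoidalCategory MonObj GrpObj

namespace Groth.Agent.Lib.Helper4.OrbitDim1
open Groth.Agent.Lib.Helper4.HomogDim1 Groth.Agent.Lib.Helper4.HomDim1

section Orbit
variable {S : Scheme.{u}} {G X : Over S} [GrpObj G] (a : AlgGrp.Action G X)
  (x : 𝟙_ (Over S) ⟶ X)

theorem comp_orbitMap {W : Over S} (m : W ⟶ G) :
    m ≫ a.orbitMap x = lift m (toUnit W ≫ x) ≫ a.act := by
  unfold AlgGrp.Action.orbitMap
  rw [← Category.assoc, comp_lift, Category.comp_id, ← Category.assoc,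
    toUnit_unique (m ≫ toUnit G) (toUnit W)]

/-- the orbit map is the base change of the graph map along `y ↦ (y, x)` -/
theorem isPullback_orbitMap :
    IsPullback (lift (𝟙 G) (toUnit G ≫ x)) (a.orbitMap x) (lift a.act (snd G X))
      (lift (𝟙 X) (toUnit X ≫ x)) := by
  have comm : lift (𝟙 G) (toUnit G ≫ x) ≫ lift a.act (snd G X) =
      a.orbitMap x ≫ lift (𝟙 X) (toUnit X ≫ x) := by
    apply CartesianMonoidalCategory.hom_ext
    · rw [Category.assoc, lift_fst, Category.assoc, lift_fst, Category.comp_id]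
      rfl
    · rw [Category.assoc, lift_snd, lift_snd, Category.assoc, lift_snd, ← Category.assoc,
        toUnit_unique (a.orbitMap x ≫ toUnit X) (toUnit G)]
  refine ⟨⟨comm⟩, ⟨PullbackCone.IsLimit.mk comm (fun s => s.fst ≫ fst G X) ?_ ?_ ?_⟩⟩
  · intro s
    have h2 : s.fst ≫ snd G X = toUnit _ ≫ x := by
      have := congrArg (fun t => t ≫ snd X X) s.condition
      simp only [Category.assoc, lift_snd] at this
      rw [this, ← Category.assoc, toUnit_unique (s.snd ≫ toUnit X) (toUnit _)]
    apply CartesianMonoidalCategory.hom_ext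
    · rw [Category.assoc, lift_fst, Category.comp_id]
    · rw [Category.assoc, lift_snd, h2, ← Category.assoc,
        toUnit_unique ((s.fst ≫ fst G X) ≫ toUnit G) (toUnit _)]
  · intro s
    have h1 : s.fst ≫ a.act = s.snd := by
      have := congrArg (fun t => t ≫ fst X X) s.condition
      simpa only [Category.assoc, lift_fst, Category.comp_id] using this
    have h2 : s.fst ≫ snd G X = toUnit _ ≫ x := by
      have := congrArg (fun t => t ≫ snd X X) s.condition
      simp only [Category.assoc, lift_snd] at this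
      rw [this, ← Category.assoc, toUnit_unique (s.snd ≫ toUnit X) (toUnit _)]
    rw [comp_orbitMap, ← h2, ← comp_lift, lift_fst_snd, Category.comp_id, h1]
  · intro s m hm _
    rw [← hm, Category.assoc, lift_fst, Category.comp_id]

end Orbit


section Const

open Groth.Agent.Lib.Helper4.FibDimBC2 Groth.Agent.Lib.Helper4.FibDimComp1
  Groth.Agent.Lib.Helper4.Chev3 in
/-- a local fibre dimension which is constant on closed points of a Jacobson scheme is constant -/
theorem const_of_const_closed {X Y : Scheme.{u}} (f : X ⟶ Y) [LocallyOfFiniteType f]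
    [JacobsonSpace X] (x₀ : X) (hx₀ : IsClosed {x₀})
    (h : ∀ c : X, IsClosed {c} → FlatMor.fibreDimAt f c = FlatMor.fibreDimAt f x₀) (x : X) :
    FlatMor.fibreDimAt f x = FlatMor.fibreDimAt f x₀ := by
  apply le_antisymm
  · obtain ⟨c, hc, hcc⟩ := nonempty_inter_closedPoints (X := X) (Z := closure {x})
      ⟨x, subset_closure rfl⟩ isClosed_closure.isLocallyClosed
    have hsp : x ⤳ c := specializes_iff_mem_closure.mpr hc
    rw [← h c hcc]
    exact fibreDimAt_mono_of_specializes f x c hsp
  · have hcl := isClosed_setOf_le_fibreDimAt f (FlatMor.fibreDimAt f x₀)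
    have hsub : closedPoints X ⊆ {z : X | FlatMor.fibreDimAt f x₀ ≤ FlatMor.fibreDimAt f z} :=
      fun c hc => (h c hc).ge
    have h1 := closure_minimal hsub hcl
    rw [closure_closedPoints] at h1
    exact h1 (Set.mem_univ x)

end Const

section AlgClosed
variable {L : Type u} [Field L] [IsAlgClosed L] {G X : Over (Spec (CommRingCat.of L))} [GrpObj G]
  [LocallyOfFiniteType G.hom] [LocallyOfFiniteType X.hom] (a : AlgGrp.Action G X)
  (x : 𝟙_ (Over (Spec (CommRingCat.of L))) ⟶ X)

open Groth.Agent.Lib.Helper4.AbFibComp1 (ev ev_comp range_pt toUnit_left_apply)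

local notation "tl" => Groth.Agent.Lib.Helper4.HomogDim1.trans

/-- the orbit map is equivariant -/
theorem trans_orbitMap (h : 𝟙_ (Over (Spec (CommRingCat.of L))) ⟶ G) :
    tl (selfAct G) h ≫ a.orbitMap x = a.orbitMap x ≫ tl a h := by
  have e1 : tl (selfAct G) h = (toUnit G ≫ h) * 𝟙 G := by
    unfold Groth.Agent.Lib.Helper4.HomogDim1.trans
    rw [Hom.mul_def]
    rfl
  rw [comp_orbitMap, e1, Groth.Agent.Helper4.Act.mul_smul' a.act a.mul_act]
  unfold Groth.Agent.Lib.Helper4.HomogDim1.trans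
  rw [← Category.assoc (a.orbitMap x), comp_lift, Category.comp_id, ← Category.assoc,
    toUnit_unique (a.orbitMap x ≫ toUnit X) (toUnit G)]
  rfl

instance : LocallyOfFiniteType (a.orbitMap x).left := by
  haveI : LocallyOfFiniteType ((a.orbitMap x).left ≫ X.hom) := by
    rw [Over.w (a.orbitMap x)]; infer_instance
  exact locallyOfFiniteType_of_comp (a.orbitMap x).left X.hom

open Groth.Agent.Lib.Helper4.FibDimBC2 in
theorem fibreDimAt_orbitMap_closed (g₁ g₂ : G.left) (h₁ : IsClosed {g₁}) (h₂ : IsClosed {g₂}) :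
    FlatMor.fibreDimAt (a.orbitMap x).left g₁ = FlatMor.fibreDimAt (a.orbitMap x).left g₂ := by
  let p₁ : 𝟙_ (Over (Spec (CommRingCat.of L))) ⟶ G :=
    Over.homMk (pointOfClosedPoint G.hom g₁ h₁) (by rw [pointOfClosedPoint_comp]; rfl)
  let p₂ : 𝟙_ (Over (Spec (CommRingCat.of L))) ⟶ G :=
    Over.homMk (pointOfClosedPoint G.hom g₂ h₂) (by rw [pointOfClosedPoint_comp]; rfl)
  have hp₁ : ev p₁ = g₁ := pointOfClosedPoint_apply G.hom g₁ h₁ _
  have hp₂ : ev p₂ = g₂ := pointOfClosedPoint_apply G.hom g₂ h₂ _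
  let h : 𝟙_ (Over (Spec (CommRingCat.of L))) ⟶ G := p₂ * p₁⁻¹
  have hh : p₁ ≫ tl (selfAct G) h = p₂ := by
    rw [pt_trans]
    show lift h p₁ ≫ μ[G] = p₂
    rw [← Hom.mul_def, inv_mul_cancel_right]
  have hxy : (tl (selfAct G) h).left g₁ = g₂ := by
    rw [← hp₁, ← ev_comp, hh, hp₂]
  haveI := isIso_trans (selfAct G) h
  haveI := isIso_trans a h
  haveI : IsIso (tl (selfAct G) h).left :=
    inferInstanceAs (IsIso ((Over.forget _).map (tl (selfAct G) h)))
  haveI : IsIso (tl a h).left :=
    inferInstanceAs (IsIso ((Over.forget _).map (tl a h)))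
  have hsq : IsPullback (tl (selfAct G) h).left (a.orbitMap x).left (a.orbitMap x).left
      (tl a h).left :=
    IsPullback.of_horiz_isIso ⟨by
      rw [← Over.comp_left, ← Over.comp_left, trans_orbitMap]⟩
  rw [fibreDimAt_abs (a.orbitMap x).left (tl a h).left (tl (selfAct G) h).left
    (a.orbitMap x).left hsq g₁, hxy]

end AlgClosed


section ClRange

open Groth.Agent.Lib.Helper4.FibDim1 Groth.Agent.Lib.Helper4.FibDim3
  Groth.Agent.Lib.Helper4.FibDimBC2 in
/-- the dimension of the closure of an image, computed at the images of the maximal points -/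
theorem tdim_closure_range_eq {G H Y : Scheme.{u}} (u : G ⟶ H) (p : H ⟶ Y)
    [LocallyOfFiniteType p]
    [IsLocallyNoetherian Y] [Subsingleton Y] [Nonempty G]
    (c : ℕ) (hc : ∀ ξ : G, (∀ x : G, x ⤳ ξ → x = ξ) → tr p (u ξ) = c)
    (hsp : ∀ y ∈ closure (Set.range u), ∃ ξ : G, (∀ x : G, x ⤳ ξ → x = ξ) ∧ u ξ ⤳ y) :
    topologicalKrullDim ↥(closure (Set.range u)) = (c : WithBot ℕ∞) := by
  have hgen : ∀ x : G, ∃ ξ : G, ξ ⤳ x ∧ ∀ x' : G, x' ⤳ ξ → x' = ξ := by
    intro x
    obtain ⟨ξ, hξx, -, hmax⟩ := exists_fibreMax_ge (u ≫ p) x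
    exact ⟨ξ, hξx, fun x' h => hmax x' (Subsingleton.elim _ _) h⟩
  apply le_antisymm
  · haveI : QuasiSober ↥(closure (Set.range u)) :=
      isClosed_closure.isClosedEmbedding_subtypeVal.quasiSober
    obtain ⟨x₀⟩ := ‹Nonempty G›
    rw [tdim_sub_eq p (p (u x₀)) (closure (Set.range u)) (fun z _ => Subsingleton.elim _ _)]
    rw [Order.krullDim]
    apply iSup_le
    intro s
    let s' : LTSeries {z : H // p z = p (u x₀)} :=
      s.map (fun z => ⟨z.1, z.2.2⟩) (fun a b h => h)
    have h1 := tr_add_length_le p (p (u x₀)) s'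
    obtain ⟨ξ, hmax, hspξ⟩ := hsp _ s.last.2.1
    have h2 := tr_le_of_specializes p (u ξ) s.last.1 hspξ (Subsingleton.elim _ _)
    rw [hc ξ hmax] at h2
    have h3 : s'.last.1 = s.last.1 := by
      have := LTSeries.last_map s (fun z => (⟨z.1, z.2.2⟩ : {z : H // p z = p (u x₀)}))
        (fun a b h => h)
      exact congrArg Subtype.val this
    rw [h3] at h1
    have h4 : s'.length = s.length := rfl
    have : s.length ≤ c := by omega
    exact_mod_cast this
  · obtain ⟨x₀⟩ := ‹Nonempty G›
    obtain ⟨ξ, -, hmax⟩ := hgen x₀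
    have hsub : closure ({u ξ} : Set H) ⊆ closure (Set.range u) :=
      closure_mono (Set.singleton_subset_iff.mpr ⟨ξ, rfl⟩)
    have h := Groth.Agent.Lib.Helper4.Chev6.dim_closure_inter_fiber p (u ξ) (p (u ξ)) rfl
    have hset : closure ({u ξ} : Set H) ∩ p.base ⁻¹' {p (u ξ)} = closure ({u ξ} : Set H) := by
      apply Set.inter_eq_left.mpr
      intro a _
      exact Subsingleton.elim (α := Y) _ _
    rw [hset, hc ξ hmax] at h
    rw [← h]
    exact Groth.Agent.Lib.Helper4.DimFT2.topologicalKrullDim_mono hsub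

/-- in a noetherian scheme, every point of the closure of an image is a specialization of the image
of a maximal point -/
theorem exists_max_specializes {G H : Scheme.{u}} [NoetherianSpace G] (u : G ⟶ H)
    (y : H) (hy : y ∈ closure (Set.range u)) :
    ∃ ξ : G, (∀ x : G, x ⤳ ξ → x = ξ) ∧ u ξ ⤳ y := by
  have hfin := NoetherianSpace.finite_irreducibleComponents (α := G)
  have hcov : Set.range u = ⋃ Z ∈ irreducibleComponents G, u '' Z := by
    ext y
    constructor
    · rintro ⟨x, rfl⟩
      exact Set.mem_biUnion (irreducibleComponent_mem_irreducibleComponents x)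
        ⟨x, mem_irreducibleComponent, rfl⟩
    · intro h
      obtain ⟨Z, -, x, -, rfl⟩ := Set.mem_iUnion₂.mp h
      exact ⟨x, rfl⟩
  rw [hcov, hfin.closure_biUnion] at hy
  obtain ⟨Z, hZ, hyZ⟩ := Set.mem_iUnion₂.mp hy
  obtain ⟨ξ, hξmax, hξZ⟩ := Groth.Agent.Lib.Helper4.FibDim4.exists_isMax_closure_eq G Z hZ
  refine ⟨ξ, fun x hx => ?_, ?_⟩
  · have h1 : ξ ≤ x := hx
    have h2 : ξ ⤳ x := hξmax h1
    exact (hx.antisymm h2).eq
  · rw [← hξZ, closure_image_closure u.continuous, Set.image_singleton] at hyZ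
    exact specializes_iff_mem_closure.mpr hyZ

end ClRange


open Groth.Agent.Lib.Helper4.FibDim1 Groth.Agent.Lib.Helper4.FibDimBC2
  Groth.Agent.Lib.Helper4.Chev3 Groth.Agent.Lib.Helper4.FibDimComp1
  Groth.Agent.Lib.Helper4.AbFibComp1 in
theorem main (k : Type u) [Field k] [IsAlgClosed k]
    (G : Over (Spec (CommRingCat.of k))) [GrpObj G] [IsAffine G.left] [Smooth G.hom]
    (X : Over (Spec (CommRingCat.of k))) [IrreducibleSpace ↥X.left] [IsReduced X.left]
    [IsSeparated X.hom] [LocallyOfFiniteType X.hom] [QuasiCompact X.hom]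
    (a : AlgGrp.Action G X) (r : ℕ) :
    ∃ Z : Set ↥X.left, IsClosed Z ∧
      ∀ x : 𝟙_ (Over (Spec (CommRingCat.of k))) ⟶ X,
        topologicalKrullDim ↥(closure (Set.range ⇑(a.orbitMap x).left.base)) ≤ (r : WithBot ℕ∞) ↔
          Set.range ⇑x.left.base ⊆ Z := by
  haveI : LocallyOfFiniteType G.hom := inferInstance
  obtain ⟨n, hn, -⟩ := exists_dim_grp k G
  let Ψ : G ⊗ X ⟶ X ⊗ X := lift a.act (snd G X)
  haveI : LocallyOfFiniteType (G ⊗ X).hom := by
    rw [← Over.w (snd G X)]
    haveI : LocallyOfFiniteType (snd G X).left := by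
      show LocallyOfFiniteType (pullback.snd G.hom X.hom)
      infer_instance
    infer_instance
  haveI : LocallyOfFiniteType Ψ.left := by
    haveI : LocallyOfFiniteType (Ψ.left ≫ (X ⊗ X).hom) := by
      rw [Over.w Ψ]; infer_instance
    exact locallyOfFiniteType_of_comp Ψ.left (X ⊗ X).hom
  let s : X ⟶ G ⊗ X := lift (toUnit X ≫ η[G]) (𝟙 X)
  let Z : Set X.left :=
    s.left ⁻¹' {z | ((n - r : ℕ) : WithBot ℕ∞) ≤ FlatMor.fibreDimAt Ψ.left z}
  refine ⟨Z, (isClosed_setOf_le_fibreDimAt Ψ.left _).preimage s.left.continuous, fun x => ?_⟩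
  let o := a.orbitMap x
  have hP := (isPullback_orbitMap a x).map (Over.forget _)
  simp only [Over.forget_obj, Over.forget_map] at hP
  have h1 : ∀ g : G.left, FlatMor.fibreDimAt o.left g =
      FlatMor.fibreDimAt Ψ.left ((lift (𝟙 G) (toUnit G ≫ x)).left g) :=
    fun g => fibreDimAt_abs Ψ.left (lift (𝟙 X) (toUnit X ≫ x)).left
      (lift (𝟙 G) (toUnit G ≫ x)).left o.left hP g
  -- the unit point is closed
  let e : G.left := ev η[G]
  have he : IsClosed {e} :=
    (pointEquivClosedPoint G.hom ⟨η[G].left, Over.w η[G]⟩).2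
  haveI : JacobsonSpace G.left := LocallyOfFiniteType.jacobsonSpace (Y := Spec _) G.hom
  have hconst : ∀ g : G.left, FlatMor.fibreDimAt o.left g = FlatMor.fibreDimAt o.left e :=
    const_of_const_closed o.left e he
      (fun c hc => fibreDimAt_orbitMap_closed a x c e hc he)
  obtain ⟨δ, hδ⟩ := exists_fibreDimAt_nat o.left e
  haveI hsub : Subsingleton (Spec (CommRingCat.of k)) := subsingleton_spec k
  haveI : IsLocallyNoetherian (Spec (CommRingCat.of k)) := inferInstance
  haveI : Nonempty G.left := ⟨e⟩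
  have hform : ∀ ξ : G.left, (∀ x' : G.left, x' ⤳ ξ → x' = ξ) →
      n = tr X.hom (o.left ξ) + δ := by
    intro ξ hmax
    have h := fibreDimAt_add_of_max o.left X.hom G.hom (Over.w o) ξ hmax
    rw [hn, hconst, hδ] at h
    exact_mod_cast h
  obtain ⟨ξ₀, -, -, hmax₀⟩ := exists_fibreMax_ge G.hom e
  have hmax₀' : ∀ x' : G.left, x' ⤳ ξ₀ → x' = ξ₀ := fun x' h => hmax₀ x' (Subsingleton.elim _ _) h
  have h₀ := hform ξ₀ hmax₀'
  have hc : ∀ ξ : G.left, (∀ x' : G.left, x' ⤳ ξ → x' = ξ) →
      tr X.hom (o.left ξ) = tr X.hom (o.left ξ₀) := by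
    intro ξ hmax
    have := hform ξ hmax
    omega
  haveI : IsLocallyNoetherian G.left := LocallyOfFiniteType.isLocallyNoetherian G.hom
  haveI : AlgebraicGeometry.IsNoetherian G.left := {}
  haveI : NoetherianSpace G.left := inferInstance
  have htd := tdim_closure_range_eq o.left X.hom (tr X.hom (o.left ξ₀)) hc
    (exists_max_specializes o.left)
  have htd' : topologicalKrullDim ↥(closure (Set.range ⇑(a.orbitMap x).left.base)) =
      ((tr X.hom (o.left ξ₀) : ℕ) : WithBot ℕ∞) := htd
  rw [htd']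
  -- the right hand side
  have hpt : s.left (ev x) = (lift (𝟙 G) (toUnit G ≫ x)).left e := by
    have e1 : x ≫ s = η[G] ≫ lift (𝟙 G) (toUnit G ≫ x) := by
      apply CartesianMonoidalCategory.hom_ext
      · rw [Category.assoc, lift_fst, Category.assoc, lift_fst, Category.comp_id, ← Category.assoc,
          toUnit_unique (x ≫ toUnit X) (𝟙 _), Category.id_comp]
      · rw [Category.assoc, lift_snd, Category.assoc, lift_snd, Category.comp_id, ← Category.assoc,
          toUnit_unique (η[G] ≫ toUnit G) (𝟙 _), Category.id_comp]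
    rw [← ev_comp, e1, ev_comp]
  have hr : Set.range ⇑x.left.base = {ev x} := range_pt x
  rw [hr, Set.singleton_subset_iff]
  show _ ↔ ((n - r : ℕ) : WithBot ℕ∞) ≤ FlatMor.fibreDimAt Ψ.left (s.left (ev x))
  rw [hpt, ← h1 e, hδ]
  constructor
  · intro h
    have h' : tr X.hom (o.left ξ₀) ≤ r := by exact_mod_cast h
    have : n - r ≤ δ := by omega
    exact_mod_cast this
  · intro h
    have h' : n - r ≤ δ := by exact_mod_cast h
    have : tr X.hom (o.left ξ₀) ≤ r := by omega
    exact_mod_cast this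

end Groth.Agent.Lib.Helper4.OrbitDim1
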