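import Mathlib

/-!
# Sections of constant sheaves of modules: exactness, tensor with finitely presented modules, flatness (helper4)
-/

set_option backward.isDefEq.respectTransparency.types false
set_option synthInstance.maxHeartbeats 400000
set_option autoImplicit false
set_option linter.unusedSectionVars false
set_option linter.style.haveILetI false
set_option linter.unusedSimpArgs false
universe u v w
open CategoryTheory CategoryTheory.Limits Opposite

namespace Groth.Agent.Lib.Helper4.ConstSectTensor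

open TensorProduct

section abstract

variable {Λ : Type u} [CommRing Λ] (T : ModuleCat.{u} Λ ⥤ ModuleCat.{u} Λ) [T.Additive]
  (hlin : ∀ {A B : ModuleCat.{u} Λ} (f : A ⟶ B) (l : Λ), T.map (l • f) = l • T.map f)
  (M : Type u) [AddCommGroup M] [Module Λ M]

/-- `m ↦ m ⊗ q` -/
noncomputable def μ (Q : Type u) [AddCommGroup Q] [Module Λ Q] (q : Q) :
    ModuleCat.of Λ M ⟶ ModuleCat.of Λ (M ⊗[Λ] Q) :=
  ModuleCat.ofHom ((TensorProduct.mk Λ M Q).flip q)

lemma μ_add (Q : Type u) [AddCommGroup Q] [Module Λ Q] (q q' : Q) :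
    μ (Λ := Λ) M Q (q + q') = μ M Q q + μ M Q q' := by
  unfold μ
  rw [map_add]
  rfl

lemma μ_smul (Q : Type u) [AddCommGroup Q] [Module Λ Q] (l : Λ) (q : Q) :
    μ (Λ := Λ) M Q (l • q) = l • μ M Q q := by
  unfold μ
  rw [map_smul]
  rfl

include hlin in
/-- the comparison map `T(M) ⊗ Q → T(M ⊗ Q)` -/
noncomputable def β (Q : Type u) [AddCommGroup Q] [Module Λ Q] :
    (T.obj (ModuleCat.of Λ M)) ⊗[Λ] Q →ₗ[Λ] T.obj (ModuleCat.of Λ (M ⊗[Λ] Q)) :=
  TensorProduct.lift (LinearMap.mk₂ Λ (fun s q => (T.map (μ M Q q)).hom s)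
    (fun s s' q => map_add _ _ _) (fun l s q => map_smul _ _ _)
    (fun s q q' => by
      rw [μ_add, T.map_add]
      rfl)
    (fun l s q => by
      rw [μ_smul, hlin]
      rfl))

lemma β_tmul (Q : Type u) [AddCommGroup Q] [Module Λ Q] (s : T.obj (ModuleCat.of Λ M)) (q : Q) :
    β T hlin M Q (s ⊗ₜ q) = (T.map (μ M Q q)).hom s := rfl

end abstract

section abstract2

variable {Λ : Type u} [CommRing Λ] (T : ModuleCat.{u} Λ ⥤ ModuleCat.{u} Λ) [T.Additive]
  (hlin : ∀ {A B : ModuleCat.{u} Λ} (f : A ⟶ B) (l : Λ), T.map (l • f) = l • T.map f)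
  (M : Type u) [AddCommGroup M] [Module Λ M]

/-- `T(M ⊗ h)` -/
noncomputable def Tl {Q Q' : Type u} [AddCommGroup Q] [Module Λ Q] [AddCommGroup Q'] [Module Λ Q']
    (h : Q →ₗ[Λ] Q') :
    T.obj (ModuleCat.of Λ (M ⊗[Λ] Q)) →ₗ[Λ] T.obj (ModuleCat.of Λ (M ⊗[Λ] Q')) :=
  (T.map (ModuleCat.ofHom (LinearMap.lTensor M h))).hom

lemma μ_comp {Q Q' : Type u} [AddCommGroup Q] [Module Λ Q] [AddCommGroup Q'] [Module Λ Q']
    (h : Q →ₗ[Λ] Q') (q : Q) :
    μ (Λ := Λ) M Q q ≫ ModuleCat.ofHom (LinearMap.lTensor M h) = μ M Q' (h q) := by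
  apply ModuleCat.hom_ext
  apply LinearMap.ext
  intro m
  rfl

lemma β_natural {Q Q' : Type u} [AddCommGroup Q] [Module Λ Q] [AddCommGroup Q'] [Module Λ Q']
    (h : Q →ₗ[Λ] Q') (x : (T.obj (ModuleCat.of Λ M)) ⊗[Λ] Q) :
    Tl T M h (β T hlin M Q x) = β T hlin M Q' (LinearMap.lTensor _ h x) := by
  induction x using TensorProduct.induction_on with
  | zero => simp
  | tmul s q =>
    rw [β_tmul, LinearMap.lTensor_tmul, β_tmul, ← μ_comp M h q, T.map_comp]
    rfl
  | add a b ha hb => rw [map_add, map_add, ha, hb, map_add, map_add]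

end abstract2

section free

variable {Λ : Type u} [CommRing Λ] (T : ModuleCat.{u} Λ ⥤ ModuleCat.{u} Λ) [T.Additive]
  (hlin : ∀ {A B : ModuleCat.{u} Λ} (f : A ⟶ B) (l : Λ), T.map (l • f) = l • T.map f)
  (M : Type u) [AddCommGroup M] [Module Λ M] (n : ℕ)

/-- `m ⊗ v ↦ v i • m` -/
noncomputable def pr (i : Fin n) :
    ModuleCat.of Λ (M ⊗[Λ] (Fin n → Λ)) ⟶ ModuleCat.of Λ M :=
  ModuleCat.ofHom ((TensorProduct.rid Λ M).toLinearMap ∘ₗ
    LinearMap.lTensor M (LinearMap.proj (R := Λ) (φ := fun _ : Fin n => Λ) i))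

lemma pr_tmul (i : Fin n) (m : M) (v : Fin n → Λ) :
    (pr (Λ := Λ) M n i).hom (m ⊗ₜ v) = v i • m := by
  simp [pr]

lemma sum_pr_μ :
    ∑ i : Fin n, pr (Λ := Λ) M n i ≫ μ M (Fin n → Λ) (Pi.single i 1) = 𝟙 _ := by
  apply ModuleCat.hom_ext
  apply TensorProduct.ext'
  intro m v
  rw [ModuleCat.hom_sum, LinearMap.sum_apply]
  change ∑ i : Fin n, ((pr (Λ := Λ) M n i).hom (m ⊗ₜ v)) ⊗ₜ[Λ] (Pi.single i (1 : Λ) : Fin n → Λ) = m ⊗ₜ v
  have h1 : ∀ i : Fin n, ((pr (Λ := Λ) M n i).hom (m ⊗ₜ v)) ⊗ₜ[Λ] (Pi.single i (1 : Λ) : Fin n → Λ) =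
      m ⊗ₜ[Λ] (v i • (Pi.single i (1 : Λ) : Fin n → Λ)) := by
    intro i
    rw [pr_tmul, TensorProduct.smul_tmul]
  rw [Finset.sum_congr rfl (fun i _ => h1 i), ← TensorProduct.tmul_sum]
  congr 1
  ext j
  simp [Finset.sum_apply, Pi.single_apply]

lemma μ_pr (i : Fin n) (v : Fin n → Λ) :
    μ (Λ := Λ) M (Fin n → Λ) v ≫ pr M n i = v i • 𝟙 _ := by
  apply ModuleCat.hom_ext
  apply LinearMap.ext
  intro m
  exact pr_tmul M n i m v

/-- the candidate inverse of `β` on a finite free module -/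
noncomputable def γ : T.obj (ModuleCat.of Λ (M ⊗[Λ] (Fin n → Λ))) →ₗ[Λ]
    (T.obj (ModuleCat.of Λ M)) ⊗[Λ] (Fin n → Λ) :=
  ∑ i : Fin n, ((TensorProduct.mk Λ (T.obj (ModuleCat.of Λ M)) (Fin n → Λ)).flip (Pi.single i 1)) ∘ₗ
    (T.map (pr M n i)).hom

lemma γ_apply (y : T.obj (ModuleCat.of Λ (M ⊗[Λ] (Fin n → Λ)))) :
    γ T M n y = ∑ i : Fin n, ((T.map (pr M n i)).hom y) ⊗ₜ[Λ] (Pi.single i (1 : Λ) : Fin n → Λ) := by
  simp [γ]

lemma β_γ (y : T.obj (ModuleCat.of Λ (M ⊗[Λ] (Fin n → Λ)))) :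
    β T hlin M (Fin n → Λ) (γ T M n y) = y := by
  rw [γ_apply, map_sum]
  simp_rw [β_tmul]
  have h1 : ∀ i : Fin n, (T.map (μ M (Fin n → Λ) (Pi.single i 1))).hom ((T.map (pr M n i)).hom y) =
      (T.map (pr M n i ≫ μ M (Fin n → Λ) (Pi.single i 1))).hom y := by
    intro i
    rw [T.map_comp]
    rfl
  simp_rw [h1]
  have h2 : ∑ i : Fin n, (T.map (pr M n i ≫ μ M (Fin n → Λ) (Pi.single i 1))).hom y =
      (T.map (∑ i : Fin n, pr M n i ≫ μ M (Fin n → Λ) (Pi.single i 1))).hom y := by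
    rw [T.map_sum, ModuleCat.hom_sum, LinearMap.sum_apply]
  rw [h2, sum_pr_μ, T.map_id]
  rfl

include hlin in
lemma γ_β (x : (T.obj (ModuleCat.of Λ M)) ⊗[Λ] (Fin n → Λ)) :
    γ T M n (β T hlin M (Fin n → Λ) x) = x := by
  induction x using TensorProduct.induction_on with
  | zero => simp
  | tmul s v =>
    rw [β_tmul, γ_apply]
    have h1 : ∀ i : Fin n, (T.map (pr M n i)).hom ((T.map (μ M (Fin n → Λ) v)).hom s) = v i • s := by
      intro i
      have : (T.map (pr M n i)).hom ((T.map (μ M (Fin n → Λ) v)).hom s) =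
          (T.map (μ M (Fin n → Λ) v ≫ pr M n i)).hom s := by
        rw [T.map_comp]
        rfl
      rw [this, μ_pr, hlin, T.map_id]
      rfl
    simp_rw [h1, TensorProduct.smul_tmul, ← TensorProduct.tmul_sum]
    congr 1
    ext j
    simp [Finset.sum_apply, Pi.single_apply]
  | add a b ha hb => rw [map_add, map_add, ha, hb]

include hlin in
lemma β_free_bijective : Function.Bijective (β T hlin M (Fin n → Λ)) :=
  ⟨Function.LeftInverse.injective (γ_β T hlin M n), Function.RightInverse.surjective (β_γ T hlin M n)⟩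

end free

section fp

variable {Λ : Type u} [CommRing Λ] (T : ModuleCat.{u} Λ ⥤ ModuleCat.{u} Λ) [T.Additive]
  (hlin : ∀ {A B : ModuleCat.{u} Λ} (f : A ⟶ B) (l : Λ), T.map (l • f) = l • T.map f)
  [PreservesFiniteColimits T]
  (M : Type u) [AddCommGroup M] [Module Λ M]

lemma T_exact {A B C : Type u} [AddCommGroup A] [Module Λ A] [AddCommGroup B] [Module Λ B]
    [AddCommGroup C] [Module Λ C] (g : A →ₗ[Λ] B) (f : B →ₗ[Λ] C) (hf : Function.Surjective f)
    (hex : Function.Exact g f) :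
    Function.Exact (T.map (ModuleCat.ofHom g)).hom (T.map (ModuleCat.ofHom f)).hom ∧
      Function.Surjective (T.map (ModuleCat.ofHom f)).hom := by
  let S : ShortComplex (ModuleCat.{u} Λ) := ShortComplex.moduleCatMk g f (by
    ext a
    exact hex.apply_apply_eq_zero a)
  have hS : S.Exact := (ShortComplex.ShortExact.moduleCat_exact_iff_function_exact S).2 hex
  haveI : Epi S.g := (ModuleCat.epi_iff_surjective _).2 hf
  have key := (Functor.preservesFiniteColimits_tfae T).out 3 1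
  have h1 := key.mp inferInstance S ⟨hS, inferInstance⟩
  refine ⟨(ShortComplex.ShortExact.moduleCat_exact_iff_function_exact (S.map T)).1 h1.1, ?_⟩
  exact (ModuleCat.epi_iff_surjective _).1 h1.2

include hlin in
theorem β_bijective (Q : Type u) [AddCommGroup Q] [Module Λ Q] [Module.FinitePresentation Λ Q] :
    Function.Bijective (β T hlin M Q) := by
  obtain ⟨n, m, f, g, hf, hex⟩ := Module.FinitePresentation.exists_fin' Λ Q
  have hMex : Function.Exact (LinearMap.lTensor M g) (LinearMap.lTensor M f) := lTensor_exact M hex hf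
  have hMsurj : Function.Surjective (LinearMap.lTensor M f) := LinearMap.lTensor_surjective M hf
  obtain ⟨hTex, hTsurj⟩ := T_exact T (LinearMap.lTensor M g) (LinearMap.lTensor M f) hMsurj hMex
  have hTMex : Function.Exact (LinearMap.lTensor (T.obj (ModuleCat.of Λ M)) g)
      (LinearMap.lTensor (T.obj (ModuleCat.of Λ M)) f) := lTensor_exact _ hex hf
  have hTMsurj : Function.Surjective (LinearMap.lTensor (T.obj (ModuleCat.of Λ M)) f) :=
    LinearMap.lTensor_surjective _ hf
  have hn := β_free_bijective T hlin M n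
  have hm := β_free_bijective T hlin M m
  constructor
  · rw [injective_iff_map_eq_zero]
    intro x hx
    obtain ⟨x', rfl⟩ := hTMsurj x
    rw [← β_natural] at hx
    obtain ⟨y'', hy''⟩ := (hTex (β T hlin M (Fin n → Λ) x')).1 hx
    obtain ⟨x'', rfl⟩ := hm.2 y''
    have h2 : β T hlin M (Fin n → Λ) (LinearMap.lTensor _ g x'') = β T hlin M (Fin n → Λ) x' :=
      (β_natural T hlin M g x'').symm.trans hy''
    have h3 := hn.1 h2
    rw [← h3]
    exact (hTMex _).2 ⟨x'', rfl⟩
  · intro y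
    obtain ⟨y', rfl⟩ := hTsurj y
    obtain ⟨x', rfl⟩ := hn.2 y'
    exact ⟨LinearMap.lTensor _ f x', (β_natural T hlin M f x').symm⟩

end fp

section const

variable {C : Type u} [SmallCategory C] (J : GrothendieckTopology C)
  (Λ : Type u) [CommRing Λ]

instance constPreservesFiniteLimits :
    PreservesFiniteLimits (Functor.const Cᵒᵖ : ModuleCat.{u} Λ ⥤ Cᵒᵖ ⥤ ModuleCat.{u} Λ) := by
  constructor
  intro K _ _
  constructor
  intro G
  apply preservesLimit_of_evaluation
  intro k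
  exact inferInstanceAs (PreservesLimit G (𝟭 (ModuleCat.{u} Λ)))

instance : PreservesFiniteLimits (constantSheaf J (ModuleCat.{u} Λ)) := by
  dsimp only [constantSheaf]
  exact comp_preservesFiniteLimits _ _

/-- sections over `U` of the constant sheaf -/
noncomputable abbrev Γ (U : C) : ModuleCat.{u} Λ ⥤ ModuleCat.{u} Λ :=
  constantSheaf J (ModuleCat.{u} Λ) ⋙ (sheafSections J (ModuleCat.{u} Λ)).obj (op U)

instance (U : C) : PreservesFiniteLimits ((sheafSections J (ModuleCat.{u} Λ)).obj (op U)) :=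
  preservesFiniteLimits_of_natIso (sheafSectionsNatIsoEvaluation (J := J) (A := ModuleCat.{u} Λ)).symm

instance (U : C) : PreservesFiniteLimits (Γ J Λ U) := comp_preservesFiniteLimits _ _

instance (U : C) : (Γ J Λ U).Additive := (Γ J Λ U).additive_of_preserves_binary_products

end const

section const2

variable {C : Type u} [SmallCategory C] (J : GrothendieckTopology C)
  (Λ : Type u) [CommRing Λ]

lemma Γ_map_smul_id (U : C) (B : ModuleCat.{u} Λ) (l : Λ) :
    (Γ J Λ U).map (l • 𝟙 B) = l • 𝟙 _ := by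
  let P : Cᵒᵖ ⥤ ModuleCat.{u} Λ := (Functor.const Cᵒᵖ).obj B
  let ψ : sheafify J P ⟶ sheafify J P :=
    { app := fun V => l • 𝟙 _
      naturality := by
        intro V W f
        rw [Linear.comp_smul, Linear.smul_comp, Category.comp_id, Category.id_comp] }
  have h : sheafifyMap J ((Functor.const Cᵒᵖ).map (l • 𝟙 B)) = ψ := by
    apply sheafify_hom_ext J _ _ ((presheafToSheaf J _).obj P).property
    rw [← toSheafify_naturality]
    ext V : 2
    change (l • 𝟙 B) ≫ (toSheafify J P).app V = (toSheafify J P).app V ≫ (l • 𝟙 _)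
    rw [Linear.comp_smul, Linear.smul_comp, Category.comp_id, Category.id_comp]
  exact congrArg (fun w => w.app (op U)) h

lemma Γ_map_smul (U : C) {A B : ModuleCat.{u} Λ} (f : A ⟶ B) (l : Λ) :
    (Γ J Λ U).map (l • f) = l • (Γ J Λ U).map f := by
  have e : l • f = f ≫ (l • 𝟙 B) := by
    rw [Linear.comp_smul, Category.comp_id]
  rw [e, Functor.map_comp, Γ_map_smul_id, Linear.comp_smul, Category.comp_id]

end const2

section const3

variable {C : Type u} [SmallCategory C] (J : GrothendieckTopology C)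
  (Λ : Type u) [CommRing Λ]

/-- sheafification commutes with the forgetful functor to sets -/
noncomputable abbrev ι :
    (Functor.whiskeringRight Cᵒᵖ (ModuleCat.{u} Λ) (Type u)).obj (forget (ModuleCat.{u} Λ)) ⋙
        presheafToSheaf J (Type u) ≅
      presheafToSheaf J (ModuleCat.{u} Λ) ⋙ sheafCompose J (forget (ModuleCat.{u} Λ)) :=
  CategoryTheory.sheafComposeNatIso J (forget (ModuleCat.{u} Λ))
    (sheafificationAdjunction J (ModuleCat.{u} Λ)) (sheafificationAdjunction J (Type u))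

lemma split_transport {𝒜 ℬ : Type*} [Category 𝒜] [Category ℬ] {T T' : 𝒜 ⥤ ℬ} (ι : T' ≅ T)
    {X Y : 𝒜} (p : X ⟶ Y) (s : T'.obj Y ⟶ T'.obj X) (h : s ≫ T'.map p = 𝟙 _) :
    (ι.inv.app Y ≫ s ≫ ι.hom.app X) ≫ T.map p = 𝟙 _ := by
  rw [Category.assoc, Category.assoc, ← ι.hom.naturality, reassoc_of% h, Iso.inv_hom_id_app]

/-- a surjection of modules induces a split epimorphism of the underlying sheaves of sets
of the constant sheaves -/
theorem exists_section {B C' : ModuleCat.{u} Λ} (π : B ⟶ C') (hπ : Function.Surjective π) :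
    ∃ s : (sheafCompose J (forget (ModuleCat.{u} Λ))).obj ((constantSheaf J (ModuleCat.{u} Λ)).obj C') ⟶
        (sheafCompose J (forget (ModuleCat.{u} Λ))).obj ((constantSheaf J (ModuleCat.{u} Λ)).obj B),
      s ≫ (sheafCompose J (forget (ModuleCat.{u} Λ))).map
        ((constantSheaf J (ModuleCat.{u} Λ)).map π) = 𝟙 _ := by
  let σ : C' → B := Function.surjInv hπ
  have hσ : ∀ c, π (σ c) = c := Function.surjInv_eq hπ
  let s₀ : (Functor.const Cᵒᵖ).obj C' ⋙ forget (ModuleCat.{u} Λ) ⟶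
      (Functor.const Cᵒᵖ).obj B ⋙ forget (ModuleCat.{u} Λ) :=
    { app := fun _ => TypeCat.ofHom σ
      naturality := by
        intro X Y f
        ext c
        rfl }
  have hs₀ : s₀ ≫ Functor.whiskerRight ((Functor.const Cᵒᵖ).map π) (forget (ModuleCat.{u} Λ)) = 𝟙 _ := by
    ext X c
    exact hσ c
  have h1 : (presheafToSheaf J (Type u)).map s₀ ≫
      (presheafToSheaf J (Type u)).map
        (Functor.whiskerRight ((Functor.const Cᵒᵖ).map π) (forget (ModuleCat.{u} Λ))) = 𝟙 _ := by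
    rw [← Functor.map_comp, hs₀, CategoryTheory.Functor.map_id]
  exact ⟨_, split_transport (ι J Λ) ((Functor.const Cᵒᵖ).map π) ((presheafToSheaf J (Type u)).map s₀) h1⟩

lemma Γ_map_epi (U : C) {B C' : ModuleCat.{u} Λ} (π : B ⟶ C') [Epi π] : Epi ((Γ J Λ U).map π) := by
  rw [ModuleCat.epi_iff_surjective]
  obtain ⟨s, hs⟩ := exists_section J Λ π ((ModuleCat.epi_iff_surjective _).1 inferInstance)
  intro c
  refine ⟨s.hom.app (op U) c, ?_⟩
  have h := congrArg (fun t => (t.hom.app (op U) : _ → _) c) hs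
  exact h

instance (U : C) : PreservesFiniteColimits (Γ J Λ U) := by
  refine ((Functor.preservesFiniteColimits_tfae (Γ J Λ U)).out 0 3).mp ?_
  intro S hS
  have key := (Functor.preservesFiniteLimits_tfae (Γ J Λ U)).out 3 0
  have h1 := key.mp inferInstance S hS
  haveI := hS.epi_g
  exact ⟨h1.1, Γ_map_epi J Λ U S.g⟩

end const3

section mainsec

variable {C : Type u} [SmallCategory C] (J : GrothendieckTopology C)
  (Λ : Type u) [CommRing Λ]

theorem main9118 (M Q : Type u) [AddCommGroup M] [Module Λ M] [AddCommGroup Q] [Module Λ Q]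
    [Module.FinitePresentation Λ Q] (U : C) :
    ∃ e : ModuleCat.of Λ (TensorProduct Λ (((constantSheaf J (ModuleCat.{u} Λ)).obj (ModuleCat.of Λ M)).obj.obj (op U)) Q) ≅
        ((constantSheaf J (ModuleCat.{u} Λ)).obj (ModuleCat.of Λ (TensorProduct Λ M Q))).obj.obj (op U),
      ∀ (s : ((constantSheaf J (ModuleCat.{u} Λ)).obj (ModuleCat.of Λ M)).obj.obj (op U)) (q : Q),
        e.hom.hom (TensorProduct.tmul Λ s q) =
          (((constantSheaf J (ModuleCat.{u} Λ)).map (ModuleCat.ofHom ((TensorProduct.mk Λ M Q).flip q))).hom.app (op U)).hom s := by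
  let βe := LinearEquiv.ofBijective (β (Γ J Λ U) (Γ_map_smul J Λ U) M Q)
    (β_bijective (Γ J Λ U) (Γ_map_smul J Λ U) M Q)
  exact ⟨βe.toModuleIso, fun s q => rfl⟩

end mainsec

section mainsec2

variable {C : Type u} [SmallCategory C] (J : GrothendieckTopology C)
  (Λ : Type u) [CommRing Λ]

theorem main9119 (hΛ : ∀ I : Ideal Λ, I.FG → Module.FinitePresentation Λ I)
    (M : Type u) [AddCommGroup M] [Module Λ M] [Module.Flat Λ M] (U : C) :
    Module.Flat Λ (((constantSheaf J (ModuleCat.{u} Λ)).obj (ModuleCat.of Λ M)).obj.obj (op U)) := by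
  rw [Module.Flat.iff_lTensor_injective]
  intro I hI
  haveI : Module.FinitePresentation Λ I := hΛ I hI
  have hβ := β_bijective (Γ J Λ U) (Γ_map_smul J Λ U) M I
  rw [injective_iff_map_eq_zero]
  intro x hx
  have hnat := β_natural (Γ J Λ U) (Γ_map_smul J Λ U) M I.subtype x
  change Tl (Γ J Λ U) M I.subtype (β (Γ J Λ U) (Γ_map_smul J Λ U) M I x) =
    β (Γ J Λ U) (Γ_map_smul J Λ U) M Λ
      (LinearMap.lTensor (((constantSheaf J (ModuleCat.{u} Λ)).obj (ModuleCat.of Λ M)).obj.obj (op U))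
        I.subtype x) at hnat
  rw [hx, map_zero] at hnat
  have hinj : Function.Injective (Tl (Γ J Λ U) M I.subtype) := by
    haveI : Mono (ModuleCat.ofHom (LinearMap.lTensor M (I.subtype : I →ₗ[Λ] Λ))) :=
      (ModuleCat.mono_iff_injective _).2
        (Module.Flat.lTensor_preserves_injective_linearMap _ Subtype.val_injective)
    have : Mono ((Γ J Λ U).map (ModuleCat.ofHom (LinearMap.lTensor M (I.subtype : I →ₗ[Λ] Λ)))) :=
      inferInstance
    exact (ModuleCat.mono_iff_injective _).1 this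
  have h0 : β (Γ J Λ U) (Γ_map_smul J Λ U) M I x = 0 := by
    apply hinj
    rw [hnat, map_zero]
  apply hβ.1
  rw [h0, map_zero]

end mainsec2

end Groth.Agent.Lib.Helper4.ConstSectTensor
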