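import Mathlib
import Groth.Agent.S0499
import Groth.Agent.Lib.Helper7.GeomConn.SteinFibre
import Groth.Agent.Lib.Helper1.Stein1

/-!
# Henselian local base: clopen subsets of the closed fibre of a proper scheme extend to clopen subsets (helper4)
-/

set_option backward.isDefEq.respectTransparency.types false
set_option synthInstance.maxHeartbeats 400000
set_option autoImplicit false
set_option linter.unusedSectionVars false
set_option linter.style.haveILetI false
set_option linter.unusedSimpArgs false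
universe u v w
open CategoryTheory CategoryTheory.Limits AlgebraicGeometry TopologicalSpace Topology

namespace Groth.Agent.Lib.Helper4.HensProper1

/-- in a finite product of local rings, every maximal ideal is isolated by an idempotent -/
theorem exists_idem_isolating_pi {ι : Type u} [Fintype ι] (C : ι → Type u) [∀ i, CommRing (C i)]
    [∀ i, IsLocalRing (C i)] (𝔮 : Ideal (∀ i, C i)) [h𝔮 : 𝔮.IsMaximal] :
    ∃ e : (∀ i, C i), IsIdempotentElem e ∧ e ∉ 𝔮 ∧
      ∀ 𝔭 : Ideal (∀ i, C i), 𝔭.IsMaximal → e ∉ 𝔭 → 𝔭 = 𝔮 := by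
  classical
  have key : ∀ (i₀ : ι) (𝔪 : Ideal (∀ i, C i)), 𝔪.IsMaximal → Pi.single i₀ (1 : C i₀) ∉ 𝔪 →
      𝔪 = Ideal.comap (Pi.evalRingHom C i₀) (IsLocalRing.maximalIdeal (C i₀)) := by
    intro i₀ 𝔪 h𝔪 hne
    apply h𝔪.eq_of_le
    · exact (Ideal.comap_ne_top _ (IsLocalRing.maximalIdeal.isMaximal _).ne_top)
    · intro b hb
      rw [Ideal.mem_comap, Pi.evalRingHom_apply, IsLocalRing.mem_maximalIdeal]
      intro hu
      apply hne
      obtain ⟨u, hu⟩ := hu
      have : Pi.single i₀ (1 : C i₀) = b * Pi.single i₀ (↑u⁻¹ : C i₀) := by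
        ext i
        by_cases hi : i = i₀
        · subst hi
          simp [← hu]
        · simp [Pi.single_eq_of_ne hi]
      rw [this]
      exact 𝔪.mul_mem_right _ hb
  have hex : ∃ i₀, Pi.single i₀ (1 : C i₀) ∉ 𝔮 := by
    by_contra hall
    push Not at hall
    apply h𝔮.ne_top
    rw [Ideal.eq_top_iff_one]
    have : (1 : ∀ i, C i) = ∑ i, Pi.single i (1 : C i) := by
      ext j
      simp [Finset.sum_apply, Pi.single_apply]
    rw [this]
    exact 𝔮.sum_mem (fun i _ => hall i)
  obtain ⟨i₀, hi₀⟩ := hex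
  refine ⟨Pi.single i₀ 1, ?_, hi₀, ?_⟩
  · show Pi.single i₀ (1 : C i₀) * Pi.single i₀ 1 = Pi.single i₀ 1
    ext i
    by_cases hi : i = i₀
    · subst hi; simp
    · simp [Pi.single_eq_of_ne hi]
  · intro 𝔭 h𝔭 hne
    rw [key i₀ 𝔭 h𝔭 hne, key i₀ 𝔮 h𝔮 hi₀]

/-- over a Henselian local ring, every maximal ideal of a finite algebra is isolated by an
idempotent -/
theorem exists_idem_isolating (A : Type u) [CommRing A] [HenselianLocalRing A] (B : Type u)
    [CommRing B] [Algebra A B] [Module.Finite A B] (𝔮 : Ideal B) [h𝔮 : 𝔮.IsMaximal] :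
    ∃ e : B, IsIdempotentElem e ∧ e ∉ 𝔮 ∧ ∀ 𝔭 : Ideal B, 𝔭.IsMaximal → e ∉ 𝔭 → 𝔭 = 𝔮 := by
  obtain ⟨ι, _, C, _, hloc, ⟨φ⟩⟩ := Groth.Agent.S0499.result A B
  haveI := hloc
  let ψ : (∀ i, C i) →+* B := φ.symm.toRingHom
  have hψ : Function.Surjective ψ := φ.symm.surjective
  haveI : (𝔮.comap ψ).IsMaximal := Ideal.comap_isMaximal_of_surjective ψ hψ
  obtain ⟨e, he1, he2, he3⟩ := exists_idem_isolating_pi C (𝔮.comap ψ)
  refine ⟨ψ e, ?_, ?_, ?_⟩
  · show ψ e * ψ e = ψ e
    rw [← map_mul, he1.eq]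
  · intro hmem
    exact he2 (Ideal.mem_comap.mpr hmem)
  · intro 𝔭 h𝔭 hne
    haveI : (𝔭.comap ψ).IsMaximal := Ideal.comap_isMaximal_of_surjective ψ hψ
    have h1 := he3 (𝔭.comap ψ) inferInstance (fun hmem => hne (Ideal.mem_comap.mp hmem))
    ext b
    obtain ⟨c, rfl⟩ := hψ b
    rw [← Ideal.mem_comap, ← Ideal.mem_comap, h1]



/-- a preconnected subset of a set `F` which meets a relatively clopen subset of `F` lies in it -/
theorem subset_of_isPreconnected_of_relClopen {α : Type*} [TopologicalSpace α] (P F Es O : Set α)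
    (hP : _root_.IsPreconnected P) (hPF : P ⊆ F) (hEc : IsClosed Es) (hO : IsOpen O)
    (hEO : O ∩ F = Es) (hne : (P ∩ Es).Nonempty) : P ⊆ Es := by
  by_contra hnot
  rw [Set.not_subset] at hnot
  obtain ⟨z, hzP, hzE⟩ := hnot
  obtain ⟨w, hwP, hwE⟩ := hne
  have hwO : w ∈ O := by rw [← hEO] at hwE; exact hwE.1
  obtain ⟨v, hvP, hvO, hvE⟩ := hP O Esᶜ hO hEc.isOpen_compl (by
    intro p hp
    by_cases h : p ∈ Es
    · left; rw [← hEO] at h; exact h.1
    · right; exact h) ⟨w, hwP, hwO⟩ ⟨z, hzP, hzE⟩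
  apply hvE
  rw [← hEO]
  exact ⟨hvO, hPF hvP⟩

open Groth.Agent.Helper7.GeomConn.ZC in
/-- over a Noetherian Henselian local ring, a relatively clopen subset of the closed fibre of a
proper scheme extends to a clopen subset -/
theorem exists_isClopen_extending (A : Type u) [CommRing A] [HenselianLocalRing A]
    [IsNoetherianRing A] {X : Scheme.{u}} (f : X ⟶ Spec (CommRingCat.of A)) [IsProper f]
    (Es : Set X) (hEc : IsClosed Es) (O : Set X) (hO : IsOpen O)
    (hEO : O ∩ f ⁻¹' {IsLocalRing.closedPoint A} = Es) :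
    ∃ E : Set X, IsClopen E ∧ E ∩ f ⁻¹' {IsLocalRing.closedPoint A} = Es := by
  let B : CommRingCat.{u} := Γ(X, ⊤)
  let φ : CommRingCat.of A ⟶ B := (Scheme.ΓSpecIso (CommRingCat.of A)).inv ≫ f.appTop
  have hfac : X.toSpecΓ ≫ Spec.map φ = f := by
    show X.toSpecΓ ≫ Spec.map ((Scheme.ΓSpecIso (CommRingCat.of A)).inv ≫ f.appTop) = f
    rw [Spec.map_comp, ← Category.assoc, ← Scheme.toSpecΓ_naturality, Category.assoc]
    rw [toSpecΓ_SpecMap_ΓSpecIso_inv, Category.comp_id]
  letI algAB : Algebra A B := φ.hom.toAlgebra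
  have hφfin : φ.hom.Finite := by
    haveI : IsNoetherianRing Γ(Spec (CommRingCat.of A), ⊤) :=
      isNoetherianRing_of_ringEquiv A
        (Scheme.ΓSpecIso (CommRingCat.of A)).symm.commRingCatIsoToRingEquiv
    have h1 : f.appTop.hom.Finite := Groth.Agent.Helper1.Stein.finite_appTop_of_isProper f
    have h2 : (Scheme.ΓSpecIso (CommRingCat.of A)).inv.hom.Finite :=
      RingHom.Finite.of_surjective _
        (ConcreteCategory.bijective_of_isIso (Scheme.ΓSpecIso (CommRingCat.of A)).inv).2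
    show (f.appTop.hom.comp (Scheme.ΓSpecIso (CommRingCat.of A)).inv.hom).Finite
    exact h1.comp h2
  haveI hfinAB : Module.Finite A B := hφfin
  haveI : IsNoetherianRing B := IsNoetherianRing.of_finite A B
  haveI : Algebra.IsIntegral A B := Algebra.IsIntegral.of_finite A B
  let t : X ⟶ Spec B := X.toSpecΓ
  haveI : IsProper (t ≫ Spec.map φ) := by rw [hfac]; infer_instance
  haveI : IsProper t := IsProper.of_comp t (Spec.map φ)
  have hpre : ∀ z : ↥(Spec B), _root_.IsPreconnected (t ⁻¹' {z}) := by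
    intro z
    refine isPreconnected_preimage_singleton t z ⊤ (isAffineOpen_top _) trivial ?_
    show IsIso t.appTop
    rw [Scheme.toSpecΓ_appTop]
    infer_instance
  have hts : ∀ x : X, f x = IsLocalRing.closedPoint A →
      Ideal.comap φ.hom (t x).asIdeal = IsLocalRing.maximalIdeal A := by
    intro x hx
    have h1 : (Spec.map φ) (t x) = IsLocalRing.closedPoint A := by
      rw [← Scheme.Hom.comp_apply, hfac, hx]
    exact congrArg PrimeSpectrum.asIdeal h1
  -- local clopen neighbourhoods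
  have hloc : ∀ x ∈ Es, ∃ Ex : Set X, IsClopen Ex ∧ x ∈ Ex ∧
      Ex ∩ f ⁻¹' {IsLocalRing.closedPoint A} ⊆ Es := by
    intro x hxE
    have hxs : f x = IsLocalRing.closedPoint A := by
      rw [← hEO] at hxE; exact hxE.2
    haveI hmax : (t x).asIdeal.IsMaximal := by
      apply Ideal.isMaximal_of_isIntegral_of_isMaximal_comap (R := A) (S := B)
      show (Ideal.comap φ.hom (t x).asIdeal).IsMaximal
      rw [hts x hxs]
      exact IsLocalRing.maximalIdeal.isMaximal A
    obtain ⟨e, he1, he2, he3⟩ := exists_idem_isolating A B (t x).asIdeal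
    refine ⟨t ⁻¹' (PrimeSpectrum.basicOpen e : Set (PrimeSpectrum B)), ?_, he2, ?_⟩
    · exact (PrimeSpectrum.isClopen_iff.mpr ⟨e, he1, rfl⟩).preimage t.continuous
    · rintro z ⟨hz1, hz2⟩
      have hzs : f z = IsLocalRing.closedPoint A := hz2
      haveI hmaxz : (t z).asIdeal.IsMaximal := by
        apply Ideal.isMaximal_of_isIntegral_of_isMaximal_comap (R := A) (S := B)
        show (Ideal.comap φ.hom (t z).asIdeal).IsMaximal
        rw [hts z hzs]
        exact IsLocalRing.maximalIdeal.isMaximal A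
      have heq : (t z).asIdeal = (t x).asIdeal := he3 _ hmaxz hz1
      have heq' : t z = t x := PrimeSpectrum.ext heq
      have hsub : t ⁻¹' {t x} ⊆ f ⁻¹' {IsLocalRing.closedPoint A} := by
        intro w hw
        have hw' : t w = t x := hw
        show f w = _
        rw [← hfac, Scheme.Hom.comp_apply, hw', ← Scheme.Hom.comp_apply, hfac, hxs]
      exact subset_of_isPreconnected_of_relClopen _ _ Es O (hpre (t x)) hsub hEc hO hEO
        ⟨x, rfl, hxE⟩ heq'
  haveI : CompactSpace X := QuasiCompact.compactSpace_of_compactSpace f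
  choose! Ex hEx1 hEx2 hEx3 using hloc
  obtain ⟨s, hsE, hsfin, hs⟩ := hEc.isCompact.elim_finite_subcover_image (b := Es) (c := Ex)
    (fun x hx => (hEx1 x hx).isOpen) (fun x hx => Set.mem_biUnion hx (hEx2 x hx))
  refine ⟨⋃ x ∈ s, Ex x, ?_, ?_⟩
  · exact hsfin.isClopen_biUnion (fun x hx => hEx1 x (hsE hx))
  · apply Set.Subset.antisymm
    · rintro z ⟨hz1, hz2⟩
      obtain ⟨x, hxs, hzx⟩ := Set.mem_iUnion₂.mp hz1
      exact hEx3 x (hsE hxs) ⟨hzx, hz2⟩
    · intro z hz
      refine ⟨hs hz, ?_⟩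
      rw [← hEO] at hz
      exact hz.2



/-- version of `exists_isClopen_extending` for a closed subset of a proper scheme -/
theorem exists_isClopen_extending_closed (A : Type u) [CommRing A] [HenselianLocalRing A]
    [IsNoetherianRing A] {P : Scheme.{u}} (q : P ⟶ Spec (CommRingCat.of A)) [IsProper q]
    (C : Set P) (hC : IsClosed C) (F : Set P) (hFc : IsClosed F) (O : Set P) (hO : IsOpen O)
    (hFO : O ∩ (C ∩ q ⁻¹' {IsLocalRing.closedPoint A}) = F) :
    ∃ E : Set P, IsClosed E ∧ IsClosed (C \ E) ∧ E ⊆ C ∧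
      E ∩ q ⁻¹' {IsLocalRing.closedPoint A} = F := by
  let CC : TopologicalSpace.Closeds P := ⟨C, hC⟩
  let I := Scheme.IdealSheafData.vanishingIdeal CC
  let i := I.subschemeι
  have hri : Set.range i = C := by
    rw [Scheme.IdealSheafData.range_subschemeι, Scheme.IdealSheafData.coe_support_vanishingIdeal]
    rfl
  haveI : IsProper (i ≫ q) := inferInstance
  obtain ⟨E', hE'1, hE'2⟩ := exists_isClopen_extending A (i ≫ q) (i ⁻¹' F)
    (hFc.preimage i.continuous) (i ⁻¹' O) (hO.preimage i.continuous) (by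
      ext z
      have hzC : i z ∈ C := by rw [← hri]; exact ⟨z, rfl⟩
      constructor
      · rintro ⟨h1, h2⟩
        show i z ∈ F
        rw [← hFO]
        exact ⟨h1, hzC, h2⟩
      · intro h
        have h' : i z ∈ F := h
        rw [← hFO] at h'
        exact ⟨h'.1, h'.2.2⟩)
  have hcemb : Topology.IsClosedEmbedding i := i.isClosedEmbedding
  refine ⟨i '' E', hcemb.isClosedMap _ hE'1.isClosed, ?_, ?_, ?_⟩
  · have : C \ i '' E' = i '' E'ᶜ := by
      rw [Set.image_compl_eq_range_sdiff_image hcemb.injective, hri]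
    rw [this]
    exact hcemb.isClosedMap _ hE'1.compl.isClosed
  · rw [← hri]; exact Set.image_subset_range _ _
  · ext z
    constructor
    · rintro ⟨⟨w, hw, rfl⟩, h2⟩
      have : w ∈ E' ∩ (i ≫ q) ⁻¹' {IsLocalRing.closedPoint A} := ⟨hw, h2⟩
      rw [hE'2] at this
      exact this
    · intro hz
      have hzC : z ∈ C := by rw [← hFO] at hz; exact hz.2.1
      rw [← hri] at hzC
      obtain ⟨w, rfl⟩ := hzC
      have : w ∈ E' ∩ (i ≫ q) ⁻¹' {IsLocalRing.closedPoint A} := by rw [hE'2]; exact hz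
      refine ⟨⟨w, this.1, rfl⟩, ?_⟩
      exact this.2



end Groth.Agent.Lib.Helper4.HensProper1
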