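import Mathlib
import Groth.Prelude.Def_EGA43
import Groth.Prelude.Def_FDesc
import Groth.Prelude.Def_MoreMor
import Groth.Agent.S0025
import Groth.Agent.Lib.Helper1.HProj2
import Groth.Agent.Lib.Helper4.UnivOpen2
import Groth.Agent.Lib.Helper4.FibDim4

/-!
# EGA IV 15.7: local properness from the DVR section property, via Chow's lemma (S2596) (helper4) (helper4)
-/

set_option backward.isDefEq.respectTransparency.types false
set_option synthInstance.maxHeartbeats 400000
set_option autoImplicit false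
set_option linter.unusedSectionVars false
set_option linter.style.haveILetI false
set_option linter.unusedSimpArgs false
universe u v w
open CategoryTheory CategoryTheory.Limits AlgebraicGeometry TopologicalSpace Topology

namespace Groth.Agent.Lib.Helper4.PropAt1
open Groth.Agent.Lib.Helper4.UOp


theorem isProper_morphismRestrict {X Y : Scheme.{u}} (f : X ⟶ Y) [IsProper f] (U : Y.Opens) :
    IsProper (f ∣_ U) :=
  MorphismProperty.of_isPullback (P := @IsProper) (isPullback_morphismRestrict f U).flip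
    inferInstance

theorem surjective_morphismRestrict {X Y : Scheme.{u}} (f : X ⟶ Y) [Surjective f] (U : Y.Opens) :
    Surjective (f ∣_ U) :=
  MorphismProperty.of_isPullback (P := @Surjective) (isPullback_morphismRestrict f U).flip
    inferInstance

/-- properness over an open set of the base avoiding the boundary of a Chow cover -/
theorem isProper_restrict_of_chow {X S X' P : Scheme.{u}} (h : X ⟶ S) [IsSeparated h]
    [LocallyOfFiniteType h] [QuasiCompact h] (π : X' ⟶ X) [Surjective π] (j : X' ⟶ P)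
    [IsImmersion j] (q : P ⟶ S) [IsProper q] (hjq : j ≫ q = π ≫ h) (U : S.Opens)
    (hU : ∀ p ∈ closure (Set.range j), q p ∈ U → p ∈ Set.range j) : IsProper (h ∣_ U) := by
  haveI : IsClosedImmersion (j ∣_ (q ⁻¹ᵁ U)) := by
    apply IsClosedImmersion.of_isPreimmersion
    have : Set.range (j ∣_ (q ⁻¹ᵁ U)) =
        (Subtype.val : ↥(q ⁻¹ᵁ U) → P) ⁻¹' closure (Set.range j) := by
      ext ⟨p, hp⟩
      constructor
      · rintro ⟨x, hx⟩
        apply subset_closure
        refine ⟨x.1, ?_⟩
        rw [← morphismRestrict_base_coe, hx]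
      · intro h1
        obtain ⟨x', rfl⟩ := hU p h1 hp
        refine ⟨⟨x', hp⟩, ?_⟩
        apply Subtype.ext
        rw [morphismRestrict_base_coe]
    rw [this]
    exact isClosed_closure.preimage continuous_subtype_val
  haveI := isProper_morphismRestrict q U
  have h1 : UniversallyClosed (j ∣_ (q ⁻¹ᵁ U)) := inferInstance
  have h2 : UniversallyClosed (q ∣_ U) := inferInstance
  have key : UniversallyClosed ((π ≫ h) ∣_ U) := by
    rw [← hjq, morphismRestrict_comp]
    exact @universallyClosedTypeComp _ _ _ _ _ h1 h2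
  rw [morphismRestrict_comp] at key
  haveI := key
  haveI : Surjective (π ∣_ (h ⁻¹ᵁ U)) := surjective_morphismRestrict π _
  haveI : UniversallyClosed (h ∣_ U) :=
    @UniversallyClosed.of_comp_surjective _ _ _ (π ∣_ (h ⁻¹ᵁ U)) (h ∣_ U) key inferInstance
  exact {}



/-- a point of a field with values in the range of an immersion lifts -/
theorem exists_lift_of_mem_range {X' P : Scheme.{u}} (j : X' ⟶ P) [IsImmersion j] (K : Type u)
    [Field K] (hK : Spec (CommRingCat.of K) ⟶ P) (hmem : ∀ a, hK a ∈ Set.range j) :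
    ∃ σ' : Spec (CommRingCat.of K) ⟶ X', σ' ≫ j = hK := by
  haveI : Surjective (pullback.snd j hK) := by
    constructor
    intro a
    obtain ⟨x', hx'⟩ := hmem a
    obtain ⟨w, -, hw⟩ := Scheme.Pullback.exists_preimage_pullback (f := j) (g := hK) x' a hx'
    exact ⟨w, hw⟩
  haveI : IsClosedImmersion (pullback.snd j hK) := by
    apply IsClosedImmersion.of_isPreimmersion
    rw [(pullback.snd j hK).surjective.range_eq]
    exact isClosed_univ
  haveI : IsIso (pullback.snd j hK) := isIso_of_isClosedImmersion_of_surjective _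
  refine ⟨inv (pullback.snd j hK) ≫ pullback.fst j hK, ?_⟩
  rw [Category.assoc, pullback.condition, IsIso.inv_hom_id_assoc]

/-- points of the closure of the range of a continuous map from a Noetherian scheme are
specializations of points of the range -/
theorem exists_specializes_of_mem_closure_range {X' : Scheme.{u}} [NoetherianSpace ↥X']
    {T : Type*} [TopologicalSpace T] (j : ↥X' → T) (hj : Continuous j) (p : T)
    (hp : p ∈ closure (Set.range j)) : ∃ ξ : X', j ξ ⤳ p := by
  have hfin : (irreducibleComponents ↥X').Finite :=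
    TopologicalSpace.NoetherianSpace.finite_irreducibleComponents
  have h1 : Set.range j = ⋃ Z ∈ irreducibleComponents ↥X', j '' Z := by
    rw [← Set.image_univ, ← sUnion_irreducibleComponents, Set.sUnion_eq_biUnion, Set.image_iUnion₂]
  rw [h1, hfin.closure_biUnion] at hp
  simp only [Set.mem_iUnion] at hp
  obtain ⟨Z, hZ, hpZ⟩ := hp
  obtain ⟨ξ, -, hξ⟩ := Groth.Agent.Lib.Helper4.FibDim4.exists_isMax_closure_eq X' Z hZ
  refine ⟨ξ, ?_⟩
  rw [specializes_iff_mem_closure]
  rw [← hξ, closure_image_closure hj, Set.image_singleton] at hpZ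
  exact hpZ


/-- the key step: under the DVR lifting hypothesis, the boundary of a Chow cover has no point
over `y` -/
theorem mem_range_of_dvr_sections {X S X' P : Scheme.{u}} [IsLocallyNoetherian P]
    [NoetherianSpace ↥X'] (h : X ⟶ S) (π : X' ⟶ X) [UniversallyClosed π] (j : X' ⟶ P)
    [IsImmersion j] (q : P ⟶ S) [IsSeparated q] (hjq : j ≫ q = π ≫ h) (y : S)
    (H : ∀ (A : Type u) [CommRing A] [IsDomain A] [IsDiscreteValuationRing A]
      (g : Spec (CommRingCat.of A) ⟶ S), g.base (IsLocalRing.closedPoint A) = y →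
      ∀ sK : Spec (CommRingCat.of (FractionRing A)) ⟶ X,
        sK ≫ h = Spec.map (CommRingCat.ofHom (algebraMap A (FractionRing A))) ≫ g →
        ∃ s : Spec (CommRingCat.of A) ⟶ X, s ≫ h = g ∧
          Spec.map (CommRingCat.ofHom (algebraMap A (FractionRing A))) ≫ s = sK)
    (p : P) (hp : p ∈ closure (Set.range j)) (hpy : q p = y) : p ∈ Set.range j := by
  by_contra hnot
  obtain ⟨ξ, hξ⟩ := exists_specializes_of_mem_closure_range (fun x => j x) j.continuous p hp
  have hne : j ξ ≠ p := fun h0 => hnot ⟨ξ, h0⟩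
  obtain ⟨A, _, _, _, hA, hcl, hgen⟩ := exists_dvr_of_specializes (j ξ) p hξ hne
  let ιK : Spec (CommRingCat.of (FractionRing A)) ⟶ Spec (CommRingCat.of A) :=
    Spec.map (CommRingCat.ofHom (algebraMap A (FractionRing A)))
  have hιK : ∀ a, ιK a = (⟨⊥, Ideal.isPrime_bot⟩ : PrimeSpectrum A) := by
    intro a
    apply PrimeSpectrum.ext
    change Ideal.comap (algebraMap A (FractionRing A)) a.asIdeal = ⊥
    have : a.asIdeal = ⊥ := by
      rcases Ideal.eq_bot_or_top a.asIdeal with h0 | h0
      · exact h0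
      · exact (a.2.ne_top h0).elim
    rw [this, ← RingHom.ker_eq_comap_bot, RingHom.ker_eq_bot_iff_eq_zero]
    intro r hr
    exact (IsFractionRing.injective A (FractionRing A)) (hr.trans (map_zero _).symm)
  obtain ⟨σ', hσ'⟩ := exists_lift_of_mem_range j (FractionRing A) (ιK ≫ hA) (by
    intro a
    rw [Scheme.Hom.comp_apply, hιK, hgen]
    exact ⟨ξ, rfl⟩)
  have hcomm : (σ' ≫ π) ≫ h = ιK ≫ (hA ≫ q) := by
    rw [Category.assoc, ← hjq, ← Category.assoc, hσ', Category.assoc]
  obtain ⟨s, hs1, hs2⟩ := H A (hA ≫ q) (by rw [Scheme.Hom.comp_apply, hcl, hpy]) (σ' ≫ π) hcomm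
  -- lift along π
  have hex : ValuativeCriterion.Existence π := by
    have h0 : UniversallyClosed π := inferInstance
    rw [UniversallyClosed.eq_valuativeCriterion] at h0
    exact h0.1
  let Sq1 : ValuativeCommSq π :=
    { R := A, K := FractionRing A, i₁ := σ', i₂ := s, commSq := ⟨hs2.symm⟩ }
  obtain ⟨⟨ℓ, hℓ1, hℓ2⟩⟩ := (hex Sq1).exists_lift
  -- uniqueness along q
  have huq := IsSeparated.valuativeCriterion q
  let Sq2 : ValuativeCommSq q :=
    { R := A, K := FractionRing A, i₁ := ιK ≫ hA, i₂ := hA ≫ q,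
      commSq := ⟨by rw [Category.assoc]⟩ }
  have hl1 : (ιK ≫ hA : Spec (CommRingCat.of (FractionRing A)) ⟶ P) =
      Spec.map (CommRingCat.ofHom (algebraMap A (FractionRing A))) ≫ (ℓ ≫ j) := by
    rw [← Category.assoc, hℓ1, hσ']
  have hl2 : (ℓ ≫ j) ≫ q = hA ≫ q := by
    rw [Category.assoc, hjq, ← Category.assoc, hℓ2, hs1]
  have heq' : hA = ℓ ≫ j := by
    have e := (huq Sq2).elim ⟨hA, rfl, rfl⟩ ⟨ℓ ≫ j, hl1.symm, hl2⟩
    exact congrArg CommSq.LiftStruct.l e
  apply hnot
  refine ⟨ℓ (IsLocalRing.closedPoint A), ?_⟩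
  rw [← Scheme.Hom.comp_apply, ← heq', hcl]

/-- EGA IV 15.7.x: local properness from the DVR lifting property, Noetherian base -/
theorem exists_open_isProper_of_dvr {X S : Scheme.{u}} [IsNoetherian S] (h : X ⟶ S)
    [IsSeparated h] [LocallyOfFiniteType h] [QuasiCompact h] (y : S)
    (H : ∀ (A : Type u) [CommRing A] [IsDomain A] [IsDiscreteValuationRing A]
      (g : Spec (CommRingCat.of A) ⟶ S), g.base (IsLocalRing.closedPoint A) = y →
      ∀ sK : Spec (CommRingCat.of (FractionRing A)) ⟶ X,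
        sK ≫ h = Spec.map (CommRingCat.ofHom (algebraMap A (FractionRing A))) ≫ g →
        ∃ s : Spec (CommRingCat.of A) ⟶ X, s ≫ h = g ∧
          Spec.map (CommRingCat.ofHom (algebraMap A (FractionRing A))) ≫ s = sK) :
    ∃ U : S.Opens, y ∈ U ∧ IsProper (h ∣_ U) := by
  obtain ⟨n, X', π, j, hj, hjq, hπ, hsurj, -⟩ := Groth.Agent.S0025.result h
  haveI := hj
  haveI := hπ
  haveI := hsurj
  haveI : IsProper (CohB1.ProjSpaceOver.toBase n S) :=
    Groth.Agent.Helper1.HProj.isProper_toBase n S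
  haveI : IsLocallyNoetherian (CohB1.ProjSpaceOver n S) :=
    LocallyOfFiniteType.isLocallyNoetherian (CohB1.ProjSpaceOver.toBase n S)
  haveI : IsLocallyNoetherian X' := LocallyOfFiniteType.isLocallyNoetherian j
  haveI : CompactSpace ↥X := QuasiCompact.compactSpace_of_compactSpace h
  haveI : CompactSpace ↥X' := QuasiCompact.compactSpace_of_compactSpace π
  haveI : IsNoetherian X' := {}
  haveI : NoetherianSpace ↥X' := inferInstance
  have hbd : IsClosed (closure (Set.range j) \ Set.range j) := by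
    have h1 : IsOpen (coborder (Set.range j)) :=
      isLocallyClosed_iff_isOpen_coborder.mp j.isLocallyClosed_range
    have h2 : closure (Set.range j) \ Set.range j = (coborder (Set.range j))ᶜ := by
      unfold coborder
      rw [compl_compl]
    rw [h2]
    exact h1.isClosed_compl
  have hD : IsClosed ((CohB1.ProjSpaceOver.toBase n S) '' (closure (Set.range j) \ Set.range j)) :=
    (CohB1.ProjSpaceOver.toBase n S).isClosedMap _ hbd
  have hkey := mem_range_of_dvr_sections h π j (CohB1.ProjSpaceOver.toBase n S) hjq y H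
  refine ⟨⟨_, hD.isOpen_compl⟩, ?_, ?_⟩
  · rintro ⟨p, ⟨hp1, hp2⟩, hpy⟩
    exact hp2 (hkey p hp1 hpy)
  · apply isProper_restrict_of_chow h π j (CohB1.ProjSpaceOver.toBase n S) hjq
    intro p hp hpU
    by_contra hnot
    exact hpU ⟨p, ⟨hp, hnot⟩, rfl⟩


/-- transfer of the DVR section hypothesis to the restriction over an open subscheme -/
theorem dvr_hyp_restrict {X Y : Scheme.{u}} (f : X ⟶ Y) (V : Y.Opens) (y : Y) (hyV : y ∈ V)
    (h : ∀ (A : Type u) [CommRing A] [IsDomain A] [IsDiscreteValuationRing A]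
      (g : Spec (CommRingCat.of A) ⟶ Y), g.base (IsLocalRing.closedPoint A) = y →
      ∀ σ : Spec (CommRingCat.of (FractionRing A)) ⟶ pullback f g,
        σ ≫ pullback.snd f g = Spec.map (CommRingCat.ofHom (algebraMap A (FractionRing A))) →
        ∃ s : Spec (CommRingCat.of A) ⟶ pullback f g, s ≫ pullback.snd f g = 𝟙 _ ∧
          Spec.map (CommRingCat.ofHom (algebraMap A (FractionRing A))) ≫ s = σ)
    (A : Type u) [CommRing A] [IsDomain A] [IsDiscreteValuationRing A]
    (g : Spec (CommRingCat.of A) ⟶ (V : Scheme.{u}))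
    (hg : g.base (IsLocalRing.closedPoint A) = (⟨y, hyV⟩ : ↥V))
    (sK : Spec (CommRingCat.of (FractionRing A)) ⟶ (f ⁻¹ᵁ V : Scheme.{u}))
    (hsK : sK ≫ f ∣_ V = Spec.map (CommRingCat.ofHom (algebraMap A (FractionRing A))) ≫ g) :
    ∃ s : Spec (CommRingCat.of A) ⟶ (f ⁻¹ᵁ V : Scheme.{u}), s ≫ f ∣_ V = g ∧
      Spec.map (CommRingCat.ofHom (algebraMap A (FractionRing A))) ≫ s = sK := by
  have hg' : (g ≫ V.ι).base (IsLocalRing.closedPoint A) = y := by
    rw [Scheme.Hom.comp_base, TopCat.comp_app, hg]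
    rfl
  have hw : (sK ≫ (f ⁻¹ᵁ V).ι) ≫ f =
      Spec.map (CommRingCat.ofHom (algebraMap A (FractionRing A))) ≫ (g ≫ V.ι) := by
    rw [Category.assoc, ← morphismRestrict_ι, ← Category.assoc, hsK, Category.assoc]
  obtain ⟨s, hs1, hs2⟩ := h A (g ≫ V.ι) hg' (pullback.lift (sK ≫ (f ⁻¹ᵁ V).ι)
    (Spec.map (CommRingCat.ofHom (algebraMap A (FractionRing A)))) hw) (pullback.lift_snd _ _ _)
  have hs1f : (s ≫ pullback.fst f (g ≫ V.ι)) ≫ f = g ≫ V.ι := by
    rw [Category.assoc, pullback.condition, ← Category.assoc, hs1, Category.id_comp]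
  have hrange : Set.range (s ≫ pullback.fst f (g ≫ V.ι)) ⊆ Set.range (f ⁻¹ᵁ V).ι := by
    rintro _ ⟨a, rfl⟩
    rw [Scheme.Opens.range_ι]
    show f ((s ≫ pullback.fst f (g ≫ V.ι)) a) ∈ V
    rw [← Scheme.Hom.comp_apply, hs1f, Scheme.Hom.comp_apply]
    exact (g a).2
  refine ⟨IsOpenImmersion.lift (f ⁻¹ᵁ V).ι (s ≫ pullback.fst f (g ≫ V.ι)) hrange, ?_, ?_⟩
  · rw [← cancel_mono V.ι, Category.assoc, morphismRestrict_ι, ← Category.assoc,
      IsOpenImmersion.lift_fac, hs1f]
  · rw [← cancel_mono (f ⁻¹ᵁ V).ι, Category.assoc, IsOpenImmersion.lift_fac, ← Category.assoc, hs2,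
      pullback.lift_fst]

/-- EGA IV 15.7.x -/
theorem S2596_main {X Y : Scheme.{u}} [IsLocallyNoetherian Y]
    (f : X ⟶ Y) [IsSeparated f] [LocallyOfFiniteType f] [QuasiCompact f] (y : Y)
    (h : ∀ (A : Type u) [CommRing A] [IsDomain A] [IsDiscreteValuationRing A]
      (g : Spec (CommRingCat.of A) ⟶ Y), g.base (IsLocalRing.closedPoint A) = y →
      ∀ σ : Spec (CommRingCat.of (FractionRing A)) ⟶ pullback f g,
        σ ≫ pullback.snd f g = Spec.map (CommRingCat.ofHom (algebraMap A (FractionRing A))) →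
        ∃ s : Spec (CommRingCat.of A) ⟶ pullback f g, s ≫ pullback.snd f g = 𝟙 _ ∧
          Spec.map (CommRingCat.ofHom (algebraMap A (FractionRing A))) ≫ s = σ) :
    ∃ U : Y.Opens, y ∈ U ∧ IsProper (f ∣_ U) := by
  obtain ⟨V, hV, hyV, -⟩ := exists_isAffineOpen_mem_and_subset (U := (⊤ : Y.Opens))
    (x := y) trivial
  haveI : IsAffine (V : Scheme.{u}) := hV
  haveI : IsNoetherian (V : Scheme.{u}) := {}
  obtain ⟨U', hyU', hprop⟩ := exists_open_isProper_of_dvr (f ∣_ V) ⟨y, hyV⟩
    (fun A _ _ _ g hg sK hsK => dvr_hyp_restrict f V y hyV h A g hg sK hsK)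
  refine ⟨V.ι ''ᵁ U', ⟨⟨y, hyV⟩, hyU', rfl⟩, ?_⟩
  exact (MorphismProperty.arrow_mk_iso_iff @IsProper (morphismRestrictRestrict f V U')).mp hprop

end Groth.Agent.Lib.Helper4.PropAt1
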