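import Mathlib
import Groth.Agent.S0025
import Groth.Agent.Lib.Helper1.HProj2
import Groth.Agent.Lib.Helper1.ChowH
import Groth.Agent.Lib.Helper4.PropAt1
import Groth.Agent.Lib.Helper4.HensProper1

/-!
# Properness over a Henselian discrete valuation ring from a proper closed fibre and a connected generic fibre; connectedness of the special fibre (helper4)
-/

set_option backward.isDefEq.respectTransparency.types false
set_option synthInstance.maxHeartbeats 400000
set_option autoImplicit false
set_option linter.unusedSectionVars false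
set_option linter.style.haveILetI false
set_option linter.unusedSimpArgs false
universe u v w
open CategoryTheory CategoryTheory.Limits AlgebraicGeometry TopologicalSpace Topology

namespace Groth.Agent.Lib.Helper4.HensProper2

open Groth.Agent.Lib.Helper4.HensProper1


/-- over a local ring, a closed set of a universally closed scheme missing the closed fibre is
empty -/
theorem eq_empty_of_isClosed_of_disjoint_closedFibre (A : Type u) [CommRing A] [IsLocalRing A]
    {P : Scheme.{u}} (q : P ⟶ Spec (CommRingCat.of A)) (hq : IsClosedMap q)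
    (G : Set P) (hG : IsClosed G) (hGs : G ∩ q ⁻¹' {IsLocalRing.closedPoint A} = ∅) : G = ∅ := by
  by_contra hne
  obtain ⟨d, hd⟩ := Set.nonempty_iff_ne_empty.mpr hne
  have h1 : q d ⤳ IsLocalRing.closedPoint A := IsLocalRing.specializes_closedPoint _
  have h2 : IsLocalRing.closedPoint A ∈ q '' G := by
    have hcl : IsClosed (q '' G) := hq _ hG
    exact h1.mem_closed hcl ⟨d, hd, rfl⟩
  obtain ⟨d', hd'G, hd'⟩ := h2
  have : d' ∈ G ∩ q ⁻¹' {IsLocalRing.closedPoint A} := ⟨hd'G, hd'⟩
  rw [hGs] at this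
  exact this

/-- the part of a separated scheme of finite type over a Noetherian Henselian local ring
carried by its proper closed fibre -/
theorem exists_clopen_proper_part (A : Type u) [CommRing A] [HenselianLocalRing A]
    [IsNoetherianRing A] {X : Scheme.{u}} (p : X ⟶ Spec (CommRingCat.of A)) [IsSeparated p]
    [LocallyOfFiniteType p] [QuasiCompact p]
    (hs : IsProper (p.fiberToSpecResidueField (IsLocalRing.closedPoint A))) :
    ∃ X₁ : X.Opens, IsClosed (X₁ : Set X) ∧ p ⁻¹' {IsLocalRing.closedPoint A} ⊆ X₁ ∧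
      IsProper (X₁.ι ≫ p) := by
  haveI : IsNoetherian (Spec (CommRingCat.of A)) := inferInstance
  have hXln : IsLocallyNoetherian X := LocallyOfFiniteType.isLocallyNoetherian p
  have hXc : CompactSpace X := QuasiCompact.compactSpace_of_compactSpace p
  have hXn : IsNoetherian X := { }
  have hirr : (irreducibleComponents X).Finite := finite_irreducibleComponents_of_isNoetherian
  obtain ⟨U₀, hU₀d, n, X', π, j, hj, hjq, hπ, hsurj, hiso, hdense, -, -⟩ :=
    Groth.Agent.Helper1.Chow.exists_dense_conclusion p hirr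
  haveI := hj
  haveI := hπ
  haveI := hsurj
  obtain ⟨q, hqdef⟩ : ∃ q : CohB1.ProjSpaceOver n (Spec (CommRingCat.of A)) ⟶
      Spec (CommRingCat.of A), q = CohB1.ProjSpaceOver.toBase n (Spec (CommRingCat.of A)) :=
    ⟨_, rfl⟩
  rw [← hqdef] at hjq
  haveI : IsProper q := by
    rw [hqdef]; exact Groth.Agent.Helper1.HProj.isProper_toBase n _
  -- the closed fibre of X' has closed image
  have hFc : IsClosed (j '' ((π ≫ p) ⁻¹' {IsLocalRing.closedPoint A})) := by
    let ψ : pullback π (p.fiberι (IsLocalRing.closedPoint A)) ⟶ CohB1.ProjSpaceOver n _ :=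
      pullback.fst _ _ ≫ j
    have hψ : ψ ≫ q = pullback.snd π (p.fiberι (IsLocalRing.closedPoint A)) ≫
        p.fiberToSpecResidueField (IsLocalRing.closedPoint A) ≫
        (Spec (CommRingCat.of A)).fromSpecResidueField (IsLocalRing.closedPoint A) := by
      show (pullback.fst _ _ ≫ j) ≫ q = _
      rw [Category.assoc, hjq, ← Category.assoc, pullback.condition, Category.assoc]
      congr 1
      exact pullback.condition
    haveI : IsClosedImmersion ((Spec (CommRingCat.of A)).fromSpecResidueField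
        (IsLocalRing.closedPoint A)) :=
      isClosed_singleton_iff_isClosedImmersion.mp (IsLocalRing.isClosed_singleton_closedPoint A)
    haveI := hs
    haveI : IsProper (ψ ≫ q) := by rw [hψ]; infer_instance
    haveI : IsProper ψ := IsProper.of_comp ψ q
    have hr : Set.range ψ = j '' ((π ≫ p) ⁻¹' {IsLocalRing.closedPoint A}) := by
      show Set.range (pullback.fst π (p.fiberι (IsLocalRing.closedPoint A)) ≫ j) = _
      rw [Scheme.Hom.comp_base, TopCat.coe_comp, Set.range_comp, Scheme.Pullback.range_fst,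
        Scheme.Hom.range_fiberι]
      rfl
    rw [← hr]
    exact ψ.isClosedMap.isClosed_range
  have hqj : ∀ x' : X', q (j x') = p (π x') := by
    intro x'
    rw [← Scheme.Hom.comp_apply, hjq, Scheme.Hom.comp_apply]
  have hOo : IsOpen (coborder (Set.range j)) :=
    isLocallyClosed_iff_isOpen_coborder.mp j.isLocallyClosed_range
  have hF : coborder (Set.range j) ∩ (closure (Set.range j) ∩
      q ⁻¹' {IsLocalRing.closedPoint A}) = j '' ((π ≫ p) ⁻¹' {IsLocalRing.closedPoint A}) := by
    rw [← Set.inter_assoc, coborder_inter_closure]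
    ext z
    constructor
    · rintro ⟨⟨x', rfl⟩, hz⟩
      refine ⟨x', ?_, rfl⟩
      show p (π x') = _
      rw [← hqj]; exact hz
    · rintro ⟨x', hx', rfl⟩
      refine ⟨⟨x', rfl⟩, ?_⟩
      show q (j x') = _
      rw [hqj]; exact hx'
  obtain ⟨E, hEc, hCE, hEC, hEs⟩ := exists_isClopen_extending_closed A q (closure (Set.range j))
    isClosed_closure _ hFc _ hOo hF
  -- E lies in the range of j
  have hErange : E ⊆ Set.range j := by
    have hD : IsClosed (closure (Set.range j) \ Set.range j) := by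
      have h2 : closure (Set.range j) \ Set.range j = (coborder (Set.range j))ᶜ := by
        unfold coborder
        rw [compl_compl]
      rw [h2]
      exact hOo.isClosed_compl
    have hempty := eq_empty_of_isClosed_of_disjoint_closedFibre A q q.isClosedMap
      (E ∩ (closure (Set.range j) \ Set.range j)) (hEc.inter hD) (by
        rw [Set.eq_empty_iff_forall_notMem]
        rintro z ⟨⟨hzE, hzD⟩, hzs⟩
        have : z ∈ E ∩ q ⁻¹' {IsLocalRing.closedPoint A} := ⟨hzE, hzs⟩
        rw [hEs] at this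
        obtain ⟨x', -, rfl⟩ := this
        exact hzD.2 ⟨x', rfl⟩)
    intro z hz
    by_contra hnot
    have : z ∈ E ∩ (closure (Set.range j) \ Set.range j) := ⟨hz, hEC hz, hnot⟩
    rw [hempty] at this
    exact this
  have hE₁c : IsClosed (j ⁻¹' E) := hEc.preimage j.continuous
  have hE₁o : IsOpen (j ⁻¹' E) := by
    have : j ⁻¹' E = (j ⁻¹' (closure (Set.range j) \ E))ᶜ := by
      ext x'
      simp only [Set.mem_preimage, Set.mem_compl_iff, Set.mem_sdiff, not_and, not_not]
      constructor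
      · intro h _; exact h
      · intro h; exact h (subset_closure ⟨x', rfl⟩)
    rw [this]
    exact (hCE.preimage j.continuous).isOpen_compl
  have hjE : j '' (j ⁻¹' E) = E := Set.image_preimage_eq_of_subset hErange
  have hπcl : IsClosedMap π := π.isClosedMap
  have hX₁c : IsClosed (π '' (j ⁻¹' E)) := hπcl _ hE₁c
  have hX₂c : IsClosed (π '' (j ⁻¹' E)ᶜ) := hπcl _ hE₁o.isClosed_compl
  have hcover : π '' (j ⁻¹' E) ∪ π '' (j ⁻¹' E)ᶜ = Set.univ := by
    rw [← Set.image_union, Set.union_compl_self, Set.image_univ]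
    exact Set.range_eq_univ.mpr π.surjective
  have hX₂s : ∀ x ∈ π '' (j ⁻¹' E)ᶜ, p x ≠ IsLocalRing.closedPoint A := by
    rintro _ ⟨x', hx', rfl⟩ hpx
    apply hx'
    show j x' ∈ E
    have : j x' ∈ E ∩ q ⁻¹' {IsLocalRing.closedPoint A} := by
      rw [hEs]; exact ⟨x', hpx, rfl⟩
    exact this.1
  have hdisj : Disjoint (π '' (j ⁻¹' E)) (π '' (j ⁻¹' E)ᶜ) := by
    rw [Set.disjoint_left]
    rintro _ ⟨e, he, rfl⟩ hx2
    have he' : j e ∈ E := he
    obtain ⟨z, hz1, hz2⟩ := q.isClosedMap.specializingMap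
      (IsLocalRing.specializes_closedPoint (q (j e)))
    have hzE : z ∈ E := hz1.mem_closed hEc he'
    obtain ⟨e', rfl⟩ := hErange hzE
    have hee' : e ⤳ e' := j.isEmbedding.isInducing.specializes_iff.mp hz1
    have h1 : π e ⤳ π e' := hee'.map π.continuous
    have h2 : π e' ∈ π '' (j ⁻¹' E)ᶜ := h1.mem_closed hX₂c hx2
    apply hX₂s _ h2
    rw [← hqj]; exact hz2
  have hX₁o : IsOpen (π '' (j ⁻¹' E)) := by
    have : π '' (j ⁻¹' E) = (π '' (j ⁻¹' E)ᶜ)ᶜ := by
      apply Set.Subset.antisymm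
      · exact Set.subset_compl_iff_disjoint_right.mpr hdisj
      · intro x hx
        have := hcover.ge (Set.mem_univ x)
        rcases this with h | h
        · exact h
        · exact (hx h).elim
    rw [this]
    exact hX₂c.isOpen_compl
  obtain ⟨X₁, hX₁⟩ : ∃ X₁ : X.Opens, (X₁ : Set X) = π '' (j ⁻¹' E) := ⟨⟨_, hX₁o⟩, rfl⟩
  refine ⟨X₁, by rw [hX₁]; exact hX₁c, ?_, ?_⟩
  · intro x hx
    rw [hX₁]
    have := hcover.ge (Set.mem_univ x)
    rcases this with h | h
    · exact h
    · exact (hX₂s x h hx).elim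
  · have hpre : ((π ⁻¹ᵁ X₁ : X'.Opens) : Set X') = j ⁻¹' E := by
      ext x'
      constructor
      · intro hx'
        have h1 : π x' ∈ π '' (j ⁻¹' E) := by rw [← hX₁]; exact hx'
        by_contra hnot
        exact (Set.disjoint_left.mp hdisj h1) ⟨x', hnot, rfl⟩
      · intro hx'
        show π x' ∈ (X₁ : Set X)
        rw [hX₁]
        exact ⟨x', hx', rfl⟩
    haveI : Surjective (π ∣_ X₁) := Groth.Agent.Lib.Helper4.PropAt1.surjective_morphismRestrict π X₁
    have hfac : (π ∣_ X₁) ≫ X₁.ι ≫ p = ((π ⁻¹ᵁ X₁).ι ≫ j) ≫ q := by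
      rw [← Category.assoc, morphismRestrict_ι, Category.assoc, Category.assoc, hjq]
    haveI : IsClosedImmersion ((π ⁻¹ᵁ X₁).ι ≫ j) := by
      apply IsClosedImmersion.of_isPreimmersion
      rw [Scheme.Hom.comp_base, TopCat.coe_comp, Set.range_comp, Scheme.Opens.range_ι, hpre, hjE]
      exact hEc
    haveI : UniversallyClosed ((π ∣_ X₁) ≫ X₁.ι ≫ p) := by
      rw [hfac]; infer_instance
    haveI : UniversallyClosed (X₁.ι ≫ p) := UniversallyClosed.of_comp_surjective (π ∣_ X₁) _
    exact { }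



/-- points of the spectrum of a discrete valuation ring -/
theorem eq_closedPoint_or_eq_genericPoint (A : Type u) [CommRing A] [IsDomain A]
    [IsDiscreteValuationRing A] (z : ↥(Spec (CommRingCat.of A))) :
    z = IsLocalRing.closedPoint A ∨ z = genericPoint ↥(Spec (CommRingCat.of A)) := by
  by_cases h : z.asIdeal = ⊥
  · right
    rw [genericPoint_eq_bot_of_affine]
    exact PrimeSpectrum.ext h
  · left
    apply PrimeSpectrum.ext
    have hmax : z.asIdeal.IsMaximal := z.2.isMaximal h
    exact IsLocalRing.eq_maximalIdeal hmax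

/-- EGA IV 15.7.x over a Henselian discrete valuation ring -/
theorem isProper_of_henselian_dvr (A : Type u) [CommRing A] [IsDomain A]
    [IsDiscreteValuationRing A] [HenselianLocalRing A] {X : Scheme.{u}}
    (p : X ⟶ Spec (CommRingCat.of A)) [Flat p] [IsSeparated p] [LocallyOfFiniteType p]
    [QuasiCompact p]
    (hs : IsProper (p.fiberToSpecResidueField (IsLocalRing.closedPoint A)))
    (hne : ∃ x : X, p x = IsLocalRing.closedPoint A)
    (hconn : _root_.IsPreconnected (p ⁻¹' {genericPoint ↥(Spec (CommRingCat.of A))})) :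
    IsProper p := by
  obtain ⟨X₁, hX₁c, hX₁s, hX₁p⟩ := exists_clopen_proper_part A p hs
  have hX₂G : (X₁ : Set X)ᶜ ⊆ p ⁻¹' {genericPoint ↥(Spec (CommRingCat.of A))} := by
    intro x hx
    rcases eq_closedPoint_or_eq_genericPoint A (p x) with h | h
    · exact (hx (hX₁s h)).elim
    · exact h
  obtain ⟨x₀, hx₀⟩ := hne
  have hsp : genericPoint ↥(Spec (CommRingCat.of A)) ⤳ p x₀ := by
    rw [hx₀]
    exact IsLocalRing.specializes_closedPoint _
  obtain ⟨x', hx'1, hx'2⟩ := Flat.generalizingMap p hsp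
  have hx'X₁ : x' ∈ (X₁ : Set X) := hx'1.mem_open X₁.2 (hX₁s hx₀)
  have hX₂e : (X₁ : Set X)ᶜ = ∅ := by
    by_contra hne2
    obtain ⟨z, hz⟩ := Set.nonempty_iff_ne_empty.mpr hne2
    obtain ⟨w, -, hw1, hw2⟩ := hconn (X₁ : Set X) (X₁ : Set X)ᶜ X₁.2 hX₁c.isOpen_compl
      (by rw [Set.union_compl_self]; exact Set.subset_univ _)
      ⟨x', hx'2, hx'X₁⟩ ⟨z, hX₂G hz, hz⟩
    exact hw2 hw1
  have htop : X₁ = ⊤ := by
    ext x
    simp only [Opens.coe_top, Set.mem_univ, iff_true]
    by_contra hx
    have : x ∈ (X₁ : Set X)ᶜ := hx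
    rw [hX₂e] at this
    exact this
  haveI : IsIso X₁.ι := by
    apply isIso_of_isOpenImmersion_of_opensRange_eq_top
    rw [Scheme.Opens.opensRange_ι, htop]
  exact (MorphismProperty.cancel_left_of_respectsIso @IsProper X₁.ι p).mp hX₁p



/-- Lemma Z: over a Henselian Noetherian local domain, a proper flat scheme with preconnected
generic fibre has preconnected special fibre -/
theorem isPreconnected_specialFibre (A : Type u) [CommRing A] [IsDomain A]
    [HenselianLocalRing A] [IsNoetherianRing A] {X : Scheme.{u}}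
    (p : X ⟶ Spec (CommRingCat.of A)) [Flat p] [IsProper p]
    (hconn : _root_.IsPreconnected (p ⁻¹' {genericPoint ↥(Spec (CommRingCat.of A))})) :
    _root_.IsPreconnected (p ⁻¹' {IsLocalRing.closedPoint A}) := by
  intro U V hU hV hUV hUn hVn
  by_contra hcon
  have hdisj : p ⁻¹' {IsLocalRing.closedPoint A} ∩ (U ∩ V) = ∅ :=
    Set.not_nonempty_iff_eq_empty.mp hcon
  have hcl : IsClosed (p ⁻¹' {IsLocalRing.closedPoint A}) :=
    (IsLocalRing.isClosed_singleton_closedPoint A).preimage p.continuous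
  have hEs : U ∩ p ⁻¹' {IsLocalRing.closedPoint A} = p ⁻¹' {IsLocalRing.closedPoint A} \ V := by
    ext x
    constructor
    · rintro ⟨hxU, hxs⟩
      refine ⟨hxs, fun hxV => ?_⟩
      have : x ∈ p ⁻¹' {IsLocalRing.closedPoint A} ∩ (U ∩ V) := ⟨hxs, hxU, hxV⟩
      rw [hdisj] at this
      exact this
    · rintro ⟨hxs, hxV⟩
      rcases hUV hxs with h | h
      · exact ⟨h, hxs⟩
      · exact (hxV h).elim
  obtain ⟨E, hE, hEs'⟩ := exists_isClopen_extending A p
    (p ⁻¹' {IsLocalRing.closedPoint A} \ V) (hcl.sdiff hV) U hU hEs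
  -- generization
  have hgen : ∀ (W : Set X), IsOpen W → (p ⁻¹' {IsLocalRing.closedPoint A} ∩ W).Nonempty →
      (p ⁻¹' {genericPoint ↥(Spec (CommRingCat.of A))} ∩ W).Nonempty := by
    rintro W hW ⟨x, hxs, hxW⟩
    have hsp : genericPoint ↥(Spec (CommRingCat.of A)) ⤳ p x :=
      genericPoint_specializes _
    obtain ⟨x', hx'1, hx'2⟩ := Flat.generalizingMap p hsp
    exact ⟨x', hx'2, hx'1.mem_open hW hxW⟩
  obtain ⟨x₁, hx₁s, hx₁U⟩ := hUn
  obtain ⟨x₂, hx₂s, hx₂V⟩ := hVn
  have hx₁E : x₁ ∈ E := by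
    have : x₁ ∈ E ∩ p ⁻¹' {IsLocalRing.closedPoint A} := by
      rw [hEs', ← hEs]; exact ⟨hx₁U, hx₁s⟩
    exact this.1
  have hx₂E : x₂ ∈ Eᶜ := by
    intro hx₂E
    have : x₂ ∈ E ∩ p ⁻¹' {IsLocalRing.closedPoint A} := ⟨hx₂E, hx₂s⟩
    rw [hEs'] at this
    exact this.2 hx₂V
  obtain ⟨w, -, hw1, hw2⟩ := hconn E Eᶜ hE.isOpen hE.compl.isOpen
    (by rw [Set.union_compl_self]; exact Set.subset_univ _)
    (hgen E hE.isOpen ⟨x₁, hx₁s, hx₁E⟩) (hgen Eᶜ hE.compl.isOpen ⟨x₂, hx₂s, hx₂E⟩)
  exact hw2 hw1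



end Groth.Agent.Lib.Helper4.HensProper2
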