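import Mathlib
import Groth.Agent.S0506
import Groth.Agent.S0537
import Groth.Agent.S0539
import Groth.Agent.S9262
import Groth.Agent.Lib.Helper7.GeomConn.CompCount
import Groth.Agent.Lib.Helper7.GeomFib
import Groth.Agent.Lib.Helper4.FibMap1
import Groth.Agent.Lib.Helper4.HensProper2

/-!
# EGA IV 15.7.10 over a discrete valuation ring: flat separated finite type, proper nonempty closed fibre, geometrically connected generic fibre implies proper with geometrically connected closed fibre (helper4)
-/

set_option backward.isDefEq.respectTransparency.types false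
set_option synthInstance.maxHeartbeats 400000
set_option autoImplicit false
set_option linter.unusedSectionVars false
set_option linter.style.haveILetI false
set_option linter.unusedSimpArgs false
universe u v w
open CategoryTheory CategoryTheory.Limits AlgebraicGeometry TopologicalSpace Topology

namespace Groth.Agent.Lib.Helper4.HensProper3

open Groth.Agent.Lib.Helper4.HensProper1 Groth.Agent.Lib.Helper4.HensProper2


theorem isSepClosed_of_ringEquiv {k k' : Type*} [Field k] [Field k'] (e : k ≃+* k')
    [IsSepClosed k] : IsSepClosed k' := by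
  refine IsSepClosed.of_exists_root k' (fun p hm hirr hsep => ?_)
  have hsep' : (p.map (e.symm : k' →+* k)).Separable := hsep.map
  have hdeg : (p.map (e.symm : k' →+* k)).degree ≠ 0 := by
    rw [Polynomial.degree_map]
    exact (Polynomial.degree_pos_of_irreducible hirr).ne'
  obtain ⟨x, hx⟩ := IsSepClosed.exists_root _ hdeg hsep'
  refine ⟨e x, ?_⟩
  have h1 : p.eval (e x) = e ((p.map (e.symm : k' →+* k)).eval x) := by
    rw [Polynomial.eval_map]
    have h2 := Polynomial.hom_eval₂ p (e.symm : k' →+* k) (e : k →+* k') x
    have h3 : (e : k →+* k').comp (e.symm : k' →+* k) = RingHom.id k' := by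
      ext y; simp
    rw [h3, Polynomial.eval₂_id] at h2
    exact h2.symm
  rw [h1, hx, map_zero]

/-- the residue field of `Spec A` at the closed point is separably closed when that of `A` is -/
theorem isSepClosed_residueField_closedPoint (A : Type u) [CommRing A] [IsLocalRing A]
    [IsSepClosed (IsLocalRing.ResidueField A)] :
    IsSepClosed ((Spec (CommRingCat.of A)).residueField (IsLocalRing.closedPoint A)) := by
  let e₁ : IsLocalRing.ResidueField A ≃+* (IsLocalRing.maximalIdeal A).ResidueField :=
    RingEquiv.ofBijective (algebraMap (A ⧸ IsLocalRing.maximalIdeal A)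
      (IsLocalRing.maximalIdeal A).ResidueField)
      (Ideal.bijective_algebraMap_quotient_residueField _)
  let e₂ := (Scheme.Spec.residueFieldIso (CommRingCat.of A)
    (IsLocalRing.closedPoint A)).symm.commRingCatIsoToRingEquiv
  exact isSepClosed_of_ringEquiv (e₁.trans e₂)

/-- a discrete valuation ring has a strictly Henselian discrete valuation ring as a faithfully flat
local extension -/
theorem exists_strictHenselian_dvr_extension (R : Type u) [CommRing R] [IsDomain R]
    [IsDiscreteValuationRing R] :
    ∃ (A : Type u) (_ : CommRing A) (_ : IsDomain A) (_ : IsDiscreteValuationRing A)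
      (_ : HenselianLocalRing A) (_ : Algebra R A), IsLocalHom (algebraMap R A) ∧
      Module.FaithfullyFlat R A ∧ IsSepClosed (IsLocalRing.ResidueField A) := by
  obtain ⟨S, _, _, _, _, hH⟩ := Groth.Agent.S0506.result R
  obtain ⟨T, _, _, _, _, hT⟩ := Groth.Agent.S0537.result R
  haveI := hH
  haveI := hT
  obtain ⟨hd, hdvr⟩ := (Groth.Agent.S9262.result R S T).2.mp ⟨inferInstance, inferInstance⟩
  exact ⟨T, inferInstance, hd, hdvr, hT.henselian, inferInstance, inferInstance,
    Groth.Agent.S0539.result R T, hT.isSepClosure.sep_closed⟩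

theorem isProper_fiber_of_eq {X Y : Scheme.{u}} (f : X ⟶ Y) (y y' : Y) (h : y' = y)
    [IsProper (f.fiberToSpecResidueField y)] : IsProper (f.fiberToSpecResidueField y') := by
  subst h; infer_instance

theorem geometricallyConnected_fiber_of_eq {X Y : Scheme.{u}} (f : X ⟶ Y) (y y' : Y) (h : y' = y)
    [GeometricallyConnected (f.fiberToSpecResidueField y)] :
    GeometricallyConnected (f.fiberToSpecResidueField y') := by
  subst h; infer_instance

open Groth.Agent.Lib.Helper4.FibMap1 in
/-- the Henselian base change step of S19653 -/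
theorem isProper_of_dvr_aux (R : Type u) [CommRing R] [IsDomain R] [IsDiscreteValuationRing R]
    (A : Type u) [CommRing A] [IsDomain A] [IsDiscreteValuationRing A] [HenselianLocalRing A]
    [Algebra R A] [IsLocalHom (algebraMap R A)] [Module.FaithfullyFlat R A]
    (X : Scheme.{u}) (f : X ⟶ Spec (CommRingCat.of R))
    [Flat f] [IsSeparated f] [LocallyOfFiniteType f] [QuasiCompact f]
    [IsProper (f.fiberToSpecResidueField (IsLocalRing.closedPoint R))]
    [Nonempty ↥(f.fiber (IsLocalRing.closedPoint R))]
    [GeometricallyConnected (f.fiberToSpecResidueField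
      (genericPoint ↥(Spec (CommRingCat.of R))))] :
    IsProper f ∧ _root_.IsConnected ((pullback.snd f
      (Spec.map (CommRingCat.ofHom (algebraMap R A)))) ⁻¹' {IsLocalRing.closedPoint A}) := by
  let g : Spec (CommRingCat.of A) ⟶ Spec (CommRingCat.of R) :=
    Spec.map (CommRingCat.ofHom (algebraMap R A))
  haveI : Flat g := by
    rw [Flat.SpecMap_iff]
    show (algebraMap R A).Flat
    exact RingHom.flat_algebraMap_iff.mpr inferInstance
  haveI : Surjective g :=
    ⟨PrimeSpectrum.comap_surjective_of_faithfullyFlat (A := R) (B := A)⟩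
  have hgcl : g (IsLocalRing.closedPoint A) = IsLocalRing.closedPoint R :=
    IsLocalRing.comap_closedPoint (algebraMap R A)
  have hinj : Function.Injective (algebraMap R A) :=
    FaithfulSMul.algebraMap_injective R A
  have hggen : g (genericPoint ↥(Spec (CommRingCat.of A))) =
      genericPoint ↥(Spec (CommRingCat.of R)) := by
    rw [genericPoint_eq_bot_of_affine, genericPoint_eq_bot_of_affine]
    apply PrimeSpectrum.ext
    show Ideal.comap (algebraMap R A) ⊥ = ⊥
    rw [← RingHom.ker_eq_comap_bot]
    exact (RingHom.injective_iff_ker_eq_bot _).mp hinj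
  let p := pullback.snd f g
  -- the closed fibre of the base change
  have hs : IsProper (p.fiberToSpecResidueField (IsLocalRing.closedPoint A)) := by
    haveI := isProper_fiber_of_eq f _ _ hgcl
    exact MorphismProperty.of_isPullback (P := @IsProper)
      (isPullback_fiberMap f g (IsLocalRing.closedPoint A)) inferInstance
  have hne : ∃ x : ↥(pullback f g), p x = IsLocalRing.closedPoint A := by
    obtain ⟨w⟩ := ‹Nonempty ↥(f.fiber (IsLocalRing.closedPoint R))›
    have hw : f (f.fiberι _ w) = IsLocalRing.closedPoint R := by
      have : f.fiberι _ w ∈ Set.range (f.fiberι (IsLocalRing.closedPoint R)) := ⟨w, rfl⟩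
      rw [Scheme.Hom.range_fiberι] at this
      exact this
    obtain ⟨z, -, hz⟩ := Scheme.Pullback.exists_preimage_pullback (f := f) (g := g)
      (f.fiberι _ w) (IsLocalRing.closedPoint A) (by rw [hw, hgcl])
    exact ⟨z, hz⟩
  have hconn : _root_.IsPreconnected
      (p ⁻¹' {genericPoint ↥(Spec (CommRingCat.of A))}) := by
    haveI := geometricallyConnected_fiber_of_eq f _ _ hggen
    have hP := isPullback_fiberMap f g (genericPoint ↥(Spec (CommRingCat.of A)))
    haveI : ConnectedSpace ↥(p.fiber (genericPoint ↥(Spec (CommRingCat.of A)))) :=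
      GeometricallyConnected.geometrically_connectedSpace
        (f := f.fiberToSpecResidueField (g (genericPoint ↥(Spec (CommRingCat.of A)))))
        (Spec.map (g.residueFieldMap (genericPoint ↥(Spec (CommRingCat.of A))))) _ _ hP
    have hr := p.range_fiberι (genericPoint ↥(Spec (CommRingCat.of A)))
    rw [← hr, ← Set.image_univ]
    exact (isPreconnected_univ).image _ (p.fiberι _).continuous.continuousOn
  have hp : IsProper p := isProper_of_henselian_dvr A p hs hne hconn
  have huc : UniversallyClosed f :=
    MorphismProperty.of_pullback_snd_of_descendsAlong (P := @UniversallyClosed)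
      (Q := @Surjective ⊓ @Flat ⊓ @QuasiCompact) (f := f) (g := g)
      ⟨⟨inferInstance, inferInstance⟩, inferInstance⟩ inferInstance
  refine ⟨{ }, ?_, isPreconnected_specialFibre A p hconn⟩
  obtain ⟨x, hx⟩ := hne
  exact ⟨x, hx⟩

/-- **S19653** -/
theorem S19653_main (R : Type u) [CommRing R] [IsDomain R] [IsDiscreteValuationRing R]
    (X : Scheme.{u}) (f : X ⟶ Spec (CommRingCat.of R))
    [Flat f] [IsSeparated f] [LocallyOfFiniteType f] [QuasiCompact f]
    [IsProper (f.fiberToSpecResidueField (IsLocalRing.closedPoint R))]
    [Nonempty ↥(f.fiber (IsLocalRing.closedPoint R))]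
    [GeometricallyConnected (f.fiberToSpecResidueField
      (genericPoint ↥(Spec (CommRingCat.of R))))] :
    IsProper f ∧ GeometricallyConnected (f.fiberToSpecResidueField (IsLocalRing.closedPoint R)) := by
  obtain ⟨A, _, _, _, _, _, hloc, hff, hsc⟩ := exists_strictHenselian_dvr_extension R
  haveI := hloc
  haveI := hff
  haveI := hsc
  obtain ⟨hprop, hconn⟩ := isProper_of_dvr_aux R A X f
  refine ⟨hprop, ?_⟩
  let g : Spec (CommRingCat.of A) ⟶ Spec (CommRingCat.of R) :=
    Spec.map (CommRingCat.ofHom (algebraMap R A))
  have hgcl : g (IsLocalRing.closedPoint A) = IsLocalRing.closedPoint R :=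
    IsLocalRing.comap_closedPoint (algebraMap R A)
  let p := pullback.snd f g
  haveI : ConnectedSpace ↥(p.fiber (IsLocalRing.closedPoint A)) := by
    have hr := p.range_fiberι (IsLocalRing.closedPoint A)
    have hemb : Topology.IsInducing (p.fiberι (IsLocalRing.closedPoint A)) :=
      (Scheme.Hom.isEmbedding _).isInducing
    have hpre : _root_.IsPreconnected
        (Set.univ : Set ↥(p.fiber (IsLocalRing.closedPoint A))) := by
      rw [← hemb.isPreconnected_image, Set.image_univ, hr]
      exact hconn.isPreconnected
    haveI : PreconnectedSpace ↥(p.fiber (IsLocalRing.closedPoint A)) := ⟨hpre⟩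
    obtain ⟨x, hx⟩ := hconn.nonempty
    have hx' : x ∈ Set.range (p.fiberι (IsLocalRing.closedPoint A)) := by rw [hr]; exact hx
    obtain ⟨x₁, -⟩ := hx'
    haveI : Nonempty ↥(p.fiber (IsLocalRing.closedPoint A)) := ⟨x₁⟩
    exact ConnectedSpace.mk inferInstance
  haveI : IsSepClosed (IsLocalRing.ResidueField
      ↑((Spec (CommRingCat.of A)).presheaf.stalk (IsLocalRing.closedPoint A))) :=
    isSepClosed_residueField_closedPoint A
  have hgc : GeometricallyConnected (p.fiberToSpecResidueField (IsLocalRing.closedPoint A)) :=
    Groth.Agent.Helper7.GeomConn.geometricallyConnected_of_isSepClosed _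
  have hmem : IsLocalRing.closedPoint A ∈ {y' : ↥(Spec (CommRingCat.of A)) |
      GeometricallyConnected (p.fiberToSpecResidueField y')} := hgc
  rw [Groth.Agent.Helper7.GeomFib.main9765 f g p (pullback.fst f g)
    (IsPullback.of_hasPullback f g)] at hmem
  have h2 : GeometricallyConnected (f.fiberToSpecResidueField (g (IsLocalRing.closedPoint A))) :=
    hmem
  exact geometricallyConnected_fiber_of_eq f _ _ hgcl.symm



/-- first half of S19653 -/
theorem isProper_of_dvr (R : Type u) [CommRing R] [IsDomain R] [IsDiscreteValuationRing R]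
    (X : Scheme.{u}) (f : X ⟶ Spec (CommRingCat.of R))
    [Flat f] [IsSeparated f] [LocallyOfFiniteType f] [QuasiCompact f]
    [IsProper (f.fiberToSpecResidueField (IsLocalRing.closedPoint R))]
    [Nonempty ↥(f.fiber (IsLocalRing.closedPoint R))]
    [GeometricallyConnected (f.fiberToSpecResidueField
      (genericPoint ↥(Spec (CommRingCat.of R))))] :
    IsProper f := (S19653_main R X f).1

end Groth.Agent.Lib.Helper4.HensProper3
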