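import Mathlib
import Groth.Prelude.Def_EGA43
import Groth.Prelude.Def_FDesc
import Groth.Prelude.Def_MoreMor
import Groth.Agent.S0025
import Groth.Agent.Lib.Helper1.HProj2
import Groth.Agent.Lib.Helper1.ChowH
import Groth.Agent.Lib.Helper4.UnivOpen2
import Groth.Agent.Lib.Helper4.FibDim4
import Groth.Agent.Lib.Helper4.FlatDimK1
import Groth.Agent.Lib.Helper4.PropAt1

/-!
# EGA IV 15.7: refined local properness criterion, reduced induced subschemes, points with values in fields (helper4) (helper4)
-/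

set_option backward.isDefEq.respectTransparency.types false
set_option synthInstance.maxHeartbeats 400000
set_option autoImplicit false
set_option linter.unusedSectionVars false
set_option linter.style.haveILetI false
set_option linter.unusedSimpArgs false
universe u v w
open CategoryTheory CategoryTheory.Limits AlgebraicGeometry TopologicalSpace Topology

namespace Groth.Agent.Lib.Helper4.PropAt2

open Groth.Agent.Lib.Helper4.UOp Groth.Agent.Lib.Helper4.PropAt1

/-- points of the closure of the range of a continuous map from a Noetherian scheme are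
specializations of images of maximal points -/
theorem exists_isMax_specializes_of_mem_closure_range {X' : Scheme.{u}} [NoetherianSpace ↥X']
    {T : Type*} [TopologicalSpace T] (j : ↥X' → T) (hj : Continuous j) (p : T)
    (hp : p ∈ closure (Set.range j)) : ∃ ξ : X', IsMax ξ ∧ j ξ ⤳ p := by
  have hfin : (irreducibleComponents ↥X').Finite :=
    TopologicalSpace.NoetherianSpace.finite_irreducibleComponents
  have h1 : Set.range j = ⋃ Z ∈ irreducibleComponents ↥X', j '' Z := by
    rw [← Set.image_univ, ← sUnion_irreducibleComponents, Set.sUnion_eq_biUnion, Set.image_iUnion₂]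
  rw [h1, hfin.closure_biUnion] at hp
  simp only [Set.mem_iUnion] at hp
  obtain ⟨Z, hZ, hpZ⟩ := hp
  obtain ⟨ξ, hmax, hξ⟩ := Groth.Agent.Lib.Helper4.FibDim4.exists_isMax_closure_eq X' Z hZ
  refine ⟨ξ, hmax, ?_⟩
  rw [specializes_iff_mem_closure]
  rw [← hξ, closure_image_closure hj, Set.image_singleton] at hpZ
  exact hpZ

/-- a maximal point of a Noetherian scheme lies in every dense open subset -/
theorem mem_of_isMax_of_dense {X' : Scheme.{u}} [IsLocallyNoetherian X'] [CompactSpace ↥X']
    (O : X'.Opens) (hO : Dense (O : Set X')) (ξ : X') (hξ : IsMax ξ) : ξ ∈ O := by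
  haveI : IsNoetherian X' := {}
  haveI : IsLocallyNoetherian (O : Scheme.{u}) := inferInstance
  haveI : NoetherianSpace ↥X' := inferInstance
  haveI : NoetherianSpace ↥(O : Scheme.{u}) := by
    have : NoetherianSpace ↥(O : Set X') := NoetherianSpace.set _
    exact this
  have h1 : ξ ∈ closure (Set.range (O.ι : ↥(O : Scheme.{u}) → X')) := by
    rw [Scheme.Opens.range_ι, hO.closure_eq]
    trivial
  obtain ⟨o, -, ho⟩ := exists_isMax_specializes_of_mem_closure_range (fun w => O.ι w)
    O.ι.continuous ξ h1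
  have h2 : ξ ⤳ O.ι o := hξ ho
  have : O.ι o = ξ := (ho.antisymm h2).eq
  rw [← this]
  exact o.2


/-- the key step, refined: only `K`-points at maximal points are needed -/
theorem mem_range_of_dvr_sections' {X S X' P : Scheme.{u}} [IsLocallyNoetherian P]
    [NoetherianSpace ↥X'] (h : X ⟶ S) (π : X' ⟶ X) [UniversallyClosed π] (j : X' ⟶ P)
    [IsImmersion j] (q : P ⟶ S) [IsSeparated q] (hjq : j ≫ q = π ≫ h) (y : S)
    (hπmax : ∀ ξ : X', IsMax ξ → ∀ x : X, x ⤳ π ξ → x = π ξ)
    (H : ∀ (A : Type u) [CommRing A] [IsDomain A] [IsDiscreteValuationRing A]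
      (g : Spec (CommRingCat.of A) ⟶ S), g.base (IsLocalRing.closedPoint A) = y →
      ∀ sK : Spec (CommRingCat.of (FractionRing A)) ⟶ X,
        sK ≫ h = Spec.map (CommRingCat.ofHom (algebraMap A (FractionRing A))) ≫ g →
        (∀ (a : ↥(Spec (CommRingCat.of (FractionRing A)))) (x : X), x ⤳ sK a → x = sK a) →
        ∃ s : Spec (CommRingCat.of A) ⟶ X, s ≫ h = g ∧
          Spec.map (CommRingCat.ofHom (algebraMap A (FractionRing A))) ≫ s = sK)
    (p : P) (hp : p ∈ closure (Set.range j)) (hpy : q p = y) : p ∈ Set.range j := by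
  by_contra hnot
  obtain ⟨ξ, hξmax, hξ⟩ :=
    exists_isMax_specializes_of_mem_closure_range (fun x => j x) j.continuous p hp
  have hne : j ξ ≠ p := fun h0 => hnot ⟨ξ, h0⟩
  obtain ⟨A, _, _, _, hA, hcl, hgen⟩ := exists_dvr_of_specializes (j ξ) p hξ hne
  let ιK : Spec (CommRingCat.of (FractionRing A)) ⟶ Spec (CommRingCat.of A) :=
    Spec.map (CommRingCat.ofHom (algebraMap A (FractionRing A)))
  have hιK : ∀ a, ιK a = (⟨⊥, Ideal.isPrime_bot⟩ : PrimeSpectrum A) := by
    intro a
    apply PrimeSpectrum.ext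
    change Ideal.comap (algebraMap A (FractionRing A)) a.asIdeal = ⊥
    have : a.asIdeal = ⊥ := by
      rcases Ideal.eq_bot_or_top a.asIdeal with h0 | h0
      · exact h0
      · exact (a.2.ne_top h0).elim
    rw [this, ← RingHom.ker_eq_comap_bot, RingHom.ker_eq_bot_iff_eq_zero]
    intro r hr
    exact (IsFractionRing.injective A (FractionRing A)) (hr.trans (map_zero _).symm)
  obtain ⟨σ', hσ'⟩ := exists_lift_of_mem_range j (FractionRing A) (ιK ≫ hA) (by
    intro a
    rw [Scheme.Hom.comp_apply, hιK, hgen]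
    exact ⟨ξ, rfl⟩)
  have hσ'pt : ∀ a, σ' a = ξ := by
    intro a
    apply j.isEmbedding.injective
    rw [← Scheme.Hom.comp_apply, hσ', Scheme.Hom.comp_apply, hιK, hgen]
  have hcomm : (σ' ≫ π) ≫ h = ιK ≫ (hA ≫ q) := by
    rw [Category.assoc, ← hjq, ← Category.assoc, hσ', Category.assoc]
  obtain ⟨s, hs1, hs2⟩ := H A (hA ≫ q) (by rw [Scheme.Hom.comp_apply, hcl, hpy]) (σ' ≫ π) hcomm
    (by
      intro a x hx
      rw [Scheme.Hom.comp_apply, hσ'pt] at hx ⊢
      exact hπmax ξ hξmax x hx)
  have hex : ValuativeCriterion.Existence π := by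
    have h0 : UniversallyClosed π := inferInstance
    rw [UniversallyClosed.eq_valuativeCriterion] at h0
    exact h0.1
  let Sq1 : ValuativeCommSq π :=
    { R := A, K := FractionRing A, i₁ := σ', i₂ := s, commSq := ⟨hs2.symm⟩ }
  obtain ⟨⟨ℓ, hℓ1, hℓ2⟩⟩ := (hex Sq1).exists_lift
  have huq := IsSeparated.valuativeCriterion q
  let Sq2 : ValuativeCommSq q :=
    { R := A, K := FractionRing A, i₁ := ιK ≫ hA, i₂ := hA ≫ q,
      commSq := ⟨by rw [Category.assoc]⟩ }
  have hl1 : (ιK ≫ hA : Spec (CommRingCat.of (FractionRing A)) ⟶ P) =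
      Spec.map (CommRingCat.ofHom (algebraMap A (FractionRing A))) ≫ (ℓ ≫ j) := by
    rw [← Category.assoc, hℓ1, hσ']
  have hl2 : (ℓ ≫ j) ≫ q = hA ≫ q := by
    rw [Category.assoc, hjq, ← Category.assoc, hℓ2, hs1]
  have heq' : hA = ℓ ≫ j := by
    have e := (huq Sq2).elim ⟨hA, rfl, rfl⟩ ⟨ℓ ≫ j, hl1.symm, hl2⟩
    exact congrArg CommSq.LiftStruct.l e
  apply hnot
  refine ⟨ℓ (IsLocalRing.closedPoint A), ?_⟩
  rw [← Scheme.Hom.comp_apply, ← heq', hcl]

/-- EGA IV 15.7.x, refined: local properness from the DVR lifting property for points over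
maximal points, Noetherian base -/
theorem exists_open_isProper_of_dvr' {X S : Scheme.{u}} [IsNoetherian S] (h : X ⟶ S)
    [IsSeparated h] [LocallyOfFiniteType h] [QuasiCompact h] (y : S)
    (H : ∀ (A : Type u) [CommRing A] [IsDomain A] [IsDiscreteValuationRing A]
      (g : Spec (CommRingCat.of A) ⟶ S), g.base (IsLocalRing.closedPoint A) = y →
      ∀ sK : Spec (CommRingCat.of (FractionRing A)) ⟶ X,
        sK ≫ h = Spec.map (CommRingCat.ofHom (algebraMap A (FractionRing A))) ≫ g →
        (∀ (a : ↥(Spec (CommRingCat.of (FractionRing A)))) (x : X), x ⤳ sK a → x = sK a) →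
        ∃ s : Spec (CommRingCat.of A) ⟶ X, s ≫ h = g ∧
          Spec.map (CommRingCat.ofHom (algebraMap A (FractionRing A))) ≫ s = sK) :
    ∃ U : S.Opens, y ∈ U ∧ IsProper (h ∣_ U) := by
  have hXln : IsLocallyNoetherian X := LocallyOfFiniteType.isLocallyNoetherian h
  have hXc : CompactSpace X := QuasiCompact.compactSpace_of_compactSpace h
  have hXn : IsNoetherian X := { }
  have hirr : (irreducibleComponents X).Finite := finite_irreducibleComponents_of_isNoetherian
  obtain ⟨U₀, hU₀d, n, X', π, j, hj, hjq, hπ, hsurj, hiso, hdense, -, -⟩ :=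
    Groth.Agent.Helper1.Chow.exists_dense_conclusion h hirr
  haveI := hj
  haveI := hπ
  haveI := hsurj
  haveI := hiso
  haveI : IsProper (CohB1.ProjSpaceOver.toBase n S) :=
    Groth.Agent.Helper1.HProj.isProper_toBase n S
  haveI : IsLocallyNoetherian (CohB1.ProjSpaceOver n S) :=
    LocallyOfFiniteType.isLocallyNoetherian (CohB1.ProjSpaceOver.toBase n S)
  haveI : IsLocallyNoetherian X' := LocallyOfFiniteType.isLocallyNoetherian j
  haveI : CompactSpace ↥X' := QuasiCompact.compactSpace_of_compactSpace π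
  haveI : IsNoetherian X' := {}
  haveI : NoetherianSpace ↥X' := inferInstance
  have hπmax : ∀ ξ : X', IsMax ξ → ∀ x : X, x ⤳ π ξ → x = π ξ := by
    intro ξ hξ x hx
    have hξO : ξ ∈ π ⁻¹ᵁ U₀ := mem_of_isMax_of_dense _ hdense ξ hξ
    have hxU : x ∈ U₀ := hx.mem_open U₀.2 hξO
    obtain ⟨w, hw⟩ := (π ∣_ U₀).surjective ⟨x, hxU⟩
    have hw1 : π w.1 = x := by
      rw [← morphismRestrict_base_coe, hw]
    have h1 : (π ∣_ U₀) w ⤳ (π ∣_ U₀) ⟨ξ, hξO⟩ := by
      rw [← U₀.ι.isOpenEmbedding.isInducing.specializes_iff]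
      rw [← Scheme.Hom.comp_apply, ← Scheme.Hom.comp_apply, morphismRestrict_ι,
        Scheme.Hom.comp_apply, Scheme.Hom.comp_apply]
      show π w.1 ⤳ π ξ
      rw [hw1]
      exact hx
    have h2 : w ⤳ (⟨ξ, hξO⟩ : ↥(π ⁻¹ᵁ U₀)) :=
      (π ∣_ U₀).isOpenEmbedding.isInducing.specializes_iff.mp h1
    have h3 : w.1 ⤳ ξ := h2.map continuous_subtype_val
    have h4 : ξ ⤳ w.1 := hξ h3
    rw [← hw1, (h3.antisymm h4).eq]
  have hbd : IsClosed (closure (Set.range j) \ Set.range j) := by
    have h1 : IsOpen (coborder (Set.range j)) :=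
      isLocallyClosed_iff_isOpen_coborder.mp j.isLocallyClosed_range
    have h2 : closure (Set.range j) \ Set.range j = (coborder (Set.range j))ᶜ := by
      unfold coborder
      rw [compl_compl]
    rw [h2]
    exact h1.isClosed_compl
  have hD : IsClosed ((CohB1.ProjSpaceOver.toBase n S) '' (closure (Set.range j) \ Set.range j)) :=
    (CohB1.ProjSpaceOver.toBase n S).isClosedMap _ hbd
  have hkey := mem_range_of_dvr_sections' h π j (CohB1.ProjSpaceOver.toBase n S) hjq y hπmax H
  refine ⟨⟨_, hD.isOpen_compl⟩, ?_, ?_⟩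
  · rintro ⟨p, ⟨hp1, hp2⟩, hpy⟩
    exact hp2 (hkey p hp1 hpy)
  · apply isProper_restrict_of_chow h π j (CohB1.ProjSpaceOver.toBase n S) hjq
    intro p hp hpU
    by_contra hnot
    exact hpU ⟨p, ⟨hp, hnot⟩, rfl⟩



/-- the reduced induced closed subscheme is reduced -/
theorem isReduced_vanishingIdeal_subscheme {X : Scheme.{u}} (C : TopologicalSpace.Closeds X) :
    IsReduced (Scheme.IdealSheafData.vanishingIdeal C).subscheme := by
  have key : ∀ U : (Scheme.IdealSheafData.vanishingIdeal C).subschemeCover.openCover.I₀,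
      IsReduced ((Scheme.IdealSheafData.vanishingIdeal C).subschemeCover.openCover.X U) := by
    intro U
    change IsReduced (Spec (.of <| Γ(X, U.1) ⧸ (Scheme.IdealSheafData.vanishingIdeal C).ideal U))
    have : _root_.IsReduced (Γ(X, U.1) ⧸ (Scheme.IdealSheafData.vanishingIdeal C).ideal U) := by
      rw [← Ideal.isRadical_iff_quotient_reduced, Scheme.IdealSheafData.vanishingIdeal_ideal]
      exact PrimeSpectrum.isRadical_vanishingIdeal _
    infer_instance
  exact AlgebraicGeometry.IsReduced.of_openCover _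
    (Scheme.IdealSheafData.vanishingIdeal C).subschemeCover.openCover

/-- a morphism from a reduced scheme with image in a closed set kills the vanishing ideal -/
theorem vanishingIdeal_le_ker_of_isReduced {W X : Scheme.{u}} [IsReduced W] (k : W ⟶ X)
    (C : TopologicalSpace.Closeds X) (hk : Set.range k ⊆ (C : Set X)) :
    Scheme.IdealSheafData.vanishingIdeal C ≤ k.ker := by
  unfold Scheme.Hom.ker
  rw [Scheme.IdealSheafData.le_ofIdeals_iff]
  intro U s hs
  rw [Scheme.IdealSheafData.vanishingIdeal_ideal, PrimeSpectrum.mem_vanishingIdeal] at hs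
  rw [RingHom.mem_ker]
  apply eq_zero_of_basicOpen_eq_bot
  rw [← Scheme.preimage_basicOpen]
  ext w
  simp only [TopologicalSpace.Opens.coe_bot, Set.mem_empty_iff_false, iff_false]
  intro hw
  have hwU : k w ∈ U.1 := X.basicOpen_le s hw
  have hmem : U.2.fromSpec (U.2.primeIdealOf ⟨k w, hwU⟩) ∈ (C : Set X) := by
    rw [U.2.fromSpec_primeIdealOf]
    exact hk ⟨w, rfl⟩
  have h1 := hs _ hmem
  have h2 : U.2.primeIdealOf ⟨k w, hwU⟩ ∈ U.2.fromSpec ⁻¹ᵁ X.basicOpen s := by
    change U.2.fromSpec (U.2.primeIdealOf ⟨k w, hwU⟩) ∈ X.basicOpen s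
    rw [U.2.fromSpec_primeIdealOf]
    exact hw
  rw [U.2.fromSpec_preimage_basicOpen] at h2
  exact h2 h1



/-- a point of a scheme with values in a field, written through the residue field of its image -/
theorem exists_eq_SpecMap_fromSpecResidueField {X : Scheme.{u}} (K : Type u) [Field K]
    (σ : Spec (CommRingCat.of K) ⟶ X) (x : X) (hx : ∀ a, σ a = x) :
    ∃ ψ : X.residueField x ⟶ CommRingCat.of K, σ = Spec.map ψ ≫ X.fromSpecResidueField x := by
  have h0 := Scheme.descResidueField_stalkClosedPointTo_fromSpecResidueField K X σ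
  obtain rfl : σ (IsLocalRing.closedPoint K) = x := hx _
  exact ⟨_, h0.symm⟩

/-- two points with values in a field with the same image, which agree after a morphism inducing
a surjection on the residue fields, are equal -/
theorem spec_hom_ext_of_residueFieldMap_surjective {X B : Scheme.{u}} (K : Type u) [Field K]
    (p : X ⟶ B) (σ₁ σ₂ : Spec (CommRingCat.of K) ⟶ X) (x : X) (h1 : ∀ a, σ₁ a = x)
    (h2 : ∀ a, σ₂ a = x) (hp : σ₁ ≫ p = σ₂ ≫ p)
    (hsurj : Function.Surjective (p.residueFieldMap x).hom) : σ₁ = σ₂ := by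
  obtain ⟨ψ₁, rfl⟩ := exists_eq_SpecMap_fromSpecResidueField K σ₁ x h1
  obtain ⟨ψ₂, rfl⟩ := exists_eq_SpecMap_fromSpecResidueField K σ₂ x h2
  rw [Category.assoc, Category.assoc, ← Scheme.Hom.SpecMap_residueFieldMap_fromSpecResidueField,
    ← Category.assoc, ← Category.assoc, ← Spec.map_comp, ← Spec.map_comp] at hp
  haveI : Mono (B.fromSpecResidueField (p x)) := inferInstance
  have h3 := (cancel_mono (B.fromSpecResidueField (p x))).mp hp
  have h4 : p.residueFieldMap x ≫ ψ₁ = p.residueFieldMap x ≫ ψ₂ := Spec.map_injective h3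
  have h5 : ψ₁ = ψ₂ := by
    ext r
    obtain ⟨r', rfl⟩ := hsurj r
    exact congr($(h4).hom r')
  rw [h5]


/-- a point of the generic fibre coming from a point with values in the fraction field has
trivial residue field extension -/
theorem bijective_residueFieldMap_of_section {X : Scheme.{u}} (A : Type u) [CommRing A]
    [IsDomain A] (p : X ⟶ Spec (CommRingCat.of A))
    (σ : Spec (CommRingCat.of (FractionRing A)) ⟶ X)
    (hσ : σ ≫ p = Spec.map (CommRingCat.ofHom (algebraMap A (FractionRing A))))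
    (x : X) (hx : ∀ a, σ a = x) : Function.Bijective (p.residueFieldMap x).hom := by
  obtain ⟨ψ, rfl⟩ := exists_eq_SpecMap_fromSpecResidueField (FractionRing A) σ x hx
  rw [Category.assoc, ← Scheme.Hom.SpecMap_residueFieldMap_fromSpecResidueField,
    ← Scheme.Spec.map_residueFieldIso_inv_eq_fromSpecResidueField, ← Spec.map_comp,
    ← Spec.map_comp, ← Spec.map_comp] at hσ
  have h1 := Spec.map_injective hσ
  -- the composite field map
  let Φ : (p x).asIdeal.ResidueField →+* FractionRing A :=
    ((Scheme.Spec.residueFieldIso (CommRingCat.of A) (p x)).inv ≫ p.residueFieldMap x ≫ ψ).hom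
  have hΦ : ∀ a : A, Φ (algebraMap A _ a) = algebraMap A (FractionRing A) a := by
    intro a
    have := congr($(h1).hom a)
    simp only [CommRingCat.hom_comp, CommRingCat.hom_ofHom, RingHom.comp_apply] at this
    exact this
  have hΦsurj : Function.Surjective Φ := by
    intro k
    obtain ⟨a, b, hb, rfl⟩ := IsFractionRing.div_surjective (A := A) k
    refine ⟨algebraMap A _ a / algebraMap A _ b, ?_⟩
    rw [map_div₀, hΦ, hΦ]
  have hψinj : Function.Injective ψ.hom := RingHom.injective _
  have hψsurj : Function.Surjective ψ.hom := by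
    intro k
    obtain ⟨r, hr⟩ := hΦsurj k
    exact ⟨(p.residueFieldMap x).hom ((Scheme.Spec.residueFieldIso (CommRingCat.of A) (p x)).inv.hom r), hr⟩
  refine ⟨RingHom.injective _, ?_⟩
  intro r
  obtain ⟨r', hr'⟩ := hΦsurj (ψ.hom r)
  refine ⟨(Scheme.Spec.residueFieldIso (CommRingCat.of A) (p x)).inv.hom r', ?_⟩
  apply hψinj
  exact hr'


end Groth.Agent.Lib.Helper4.PropAt2
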