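import Mathlib
import Groth.Prelude.Def_EGA43
import Groth.Prelude.Def_FDesc
import Groth.Prelude.Def_MoreMor
import Groth.Agent.S0025
import Groth.Agent.Lib.Helper1.HProj2
import Groth.Agent.Lib.Helper1.ChowH
import Groth.Agent.Lib.Helper4.UnivOpen2
import Groth.Agent.Lib.Helper4.FibDim4
import Groth.Agent.Lib.Helper4.FlatDimK1
import Groth.Agent.Lib.Helper4.PropAt1
import Groth.Agent.Lib.Helper4.PropAt2

/-!
# EGA IV 15.7: properness of the closure of a subset at a point via DVR sections (S4978) (helper4) (helper4)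
-/

set_option backward.isDefEq.respectTransparency.types false
set_option synthInstance.maxHeartbeats 400000
set_option autoImplicit false
set_option linter.unusedSectionVars false
set_option linter.style.haveILetI false
set_option linter.unusedSimpArgs false
universe u v w
open CategoryTheory CategoryTheory.Limits AlgebraicGeometry TopologicalSpace Topology

namespace Groth.Agent.Lib.Helper4.PropAt3
open Groth.Agent.Lib.Helper4.UOp Groth.Agent.Lib.Helper4.PropAt1 Groth.Agent.Lib.Helper4.PropAt2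

/-- from properness of the restriction of the reduced closed subscheme to properness of the reduced
closed subscheme of the restriction -/
theorem isProper_subscheme_restrict {X Y : Scheme.{u}} (f : X ⟶ Y) [IsSeparated f]
    [LocallyOfFiniteType f] [QuasiCompact f] (C : TopologicalSpace.Closeds X) (U : Y.Opens)
    (hC : IsClosed ((f ⁻¹ᵁ U).ι.base ⁻¹' (C : Set X)))
    (hprop : IsProper (((Scheme.IdealSheafData.vanishingIdeal C).subschemeι ≫ f) ∣_ U)) :
    IsProper ((Scheme.IdealSheafData.vanishingIdeal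
      (⟨(f ⁻¹ᵁ U).ι.base ⁻¹' (C : Set X), hC⟩ : TopologicalSpace.Closeds ↥(f ⁻¹ᵁ U))).subschemeι ≫
        (f ∣_ U)) := by
  set I := Scheme.IdealSheafData.vanishingIdeal C with hI
  set i := I.subschemeι with hi
  set CU : TopologicalSpace.Closeds ↥(f ⁻¹ᵁ U) := ⟨(f ⁻¹ᵁ U).ι.base ⁻¹' (C : Set X), hC⟩ with hCU
  set IU := Scheme.IdealSheafData.vanishingIdeal (X := (f ⁻¹ᵁ U).toScheme) CU with hIU
  haveI : IsReduced I.subscheme := isReduced_vanishingIdeal_subscheme C
  have hri : Set.range i = (C : Set X) := by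
    rw [hi, Scheme.IdealSheafData.range_subschemeι, hI,
      Scheme.IdealSheafData.coe_support_vanishingIdeal]
  have hriU : Set.range IU.subschemeι = (CU : Set ↥(f ⁻¹ᵁ U)) := by
    rw [Scheme.IdealSheafData.range_subschemeι, hIU,
      Scheme.IdealSheafData.coe_support_vanishingIdeal]
    rfl
  let k := i ∣_ (f ⁻¹ᵁ U)
  have hk : Set.range k ⊆ (CU : Set ↥(f ⁻¹ᵁ U)) := by
    rintro _ ⟨w, rfl⟩
    show (f ⁻¹ᵁ U).ι (k w) ∈ (C : Set X)
    rw [← Scheme.Hom.comp_apply, morphismRestrict_ι, Scheme.Hom.comp_apply, ← hri]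
    exact ⟨_, rfl⟩
  have hle : IU.subschemeι.ker ≤ k.ker := by
    rw [Scheme.IdealSheafData.ker_subschemeι]
    exact vanishingIdeal_le_ker_of_isReduced k CU hk
  let k' := IsClosedImmersion.lift IU.subschemeι k hle
  have hk' : k' ≫ IU.subschemeι = k := IsClosedImmersion.lift_fac _ _ _
  haveI : Surjective k' := by
    constructor
    intro t
    have h1 : IU.subschemeι t ∈ (CU : Set ↥(f ⁻¹ᵁ U)) := by
      rw [← hriU]; exact ⟨t, rfl⟩
    have h2 : (f ⁻¹ᵁ U).ι (IU.subschemeι t) ∈ Set.range i := by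
      rw [hri]; exact h1
    obtain ⟨t₀, ht₀⟩ := h2
    have ht₀U : t₀ ∈ i ⁻¹ᵁ (f ⁻¹ᵁ U) := by
      show i t₀ ∈ f ⁻¹ᵁ U
      rw [ht₀]
      exact (IU.subschemeι t).2
    refine ⟨⟨t₀, ht₀U⟩, ?_⟩
    apply IU.subschemeι.isEmbedding.injective
    rw [← Scheme.Hom.comp_apply, hk']
    apply (f ⁻¹ᵁ U).ι.isOpenEmbedding.injective
    rw [← Scheme.Hom.comp_apply, morphismRestrict_ι, Scheme.Hom.comp_apply, ← ht₀]
    rfl
  have hUC : UniversallyClosed (k' ≫ (IU.subschemeι ≫ f ∣_ U)) := by
    rw [← Category.assoc, hk']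
    have : k ≫ f ∣_ U = (i ≫ f) ∣_ U := (morphismRestrict_comp i f U).symm
    rw [this]
    exact hprop.toUniversallyClosed
  haveI := hUC
  haveI : UniversallyClosed (IU.subschemeι ≫ f ∣_ U) :=
    UniversallyClosed.of_comp_surjective k' _
  exact {}


theorem spec_field_subsingleton (K : Type u) [Field K] (a b : ↥(Spec (CommRingCat.of K))) :
    a = b := by
  have : Subsingleton (PrimeSpectrum K) := inferInstance
  exact Subsingleton.elim (α := PrimeSpectrum K) a b

theorem SpecMap_algebraMap_fractionRing_apply (A : Type u) [CommRing A] [IsDomain A]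
    (a : ↥(Spec (CommRingCat.of (FractionRing A)))) :
    (Spec.map (CommRingCat.ofHom (algebraMap A (FractionRing A)))) a =
      genericPoint (Spec (CommRingCat.of A)) := by
  rw [genericPoint_eq_bot_of_affine]
  apply PrimeSpectrum.ext
  change Ideal.comap (algebraMap A (FractionRing A)) a.asIdeal = ⊥
  have : a.asIdeal = ⊥ := by
    rcases Ideal.eq_bot_or_top a.asIdeal with h0 | h0
    · exact h0
    · exact (a.2.ne_top h0).elim
  rw [this, ← RingHom.ker_eq_comap_bot, RingHom.ker_eq_bot_iff_eq_zero]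
  intro r hr
  exact (IsFractionRing.injective A (FractionRing A)) (hr.trans (map_zero _).symm)

/-- S4978, ⇐ -/
theorem S4978_mpr {X Y : Scheme.{u}} [IsNoetherian Y] (f : X ⟶ Y) [IsSeparated f]
    [LocallyOfFiniteType f] [QuasiCompact f] (Z : Set X)
    (hZ : ∀ z ∈ closure Z, (∀ z' ∈ closure Z, z ∈ closure {z'} → z' = z) → z ∈ Z) (y : Y)
    (H : ∀ (A' : Type u) [CommRing A'] [IsDomain A'] [IsDiscreteValuationRing A']
        (g : Spec (CommRingCat.of A') ⟶ Y),
        g.base (IsLocalRing.closedPoint A') = y →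
        ∀ x' : ↥(pullback f g), (pullback.fst f g).base x' ∈ Z →
          (pullback.snd f g).base x' = genericPoint (Spec (CommRingCat.of A')) →
          Function.Bijective ((pullback.snd f g).residueFieldMap x').hom →
          ∃ s : Spec (CommRingCat.of A') ⟶ pullback f g, s ≫ pullback.snd f g = 𝟙 _ ∧
            x' ∈ Set.range s.base) :
    ∃ U : Y.Opens, y ∈ U ∧ ∃ hC : IsClosed ((f ⁻¹ᵁ U).ι.base ⁻¹' closure Z),
      IsProper ((Scheme.IdealSheafData.vanishingIdeal
        (⟨(f ⁻¹ᵁ U).ι.base ⁻¹' closure Z, hC⟩ : TopologicalSpace.Closeds ↥(f ⁻¹ᵁ U))).subschemeι ≫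
          (f ∣_ U)) := by
  let C : TopologicalSpace.Closeds X := ⟨closure Z, isClosed_closure⟩
  set I := Scheme.IdealSheafData.vanishingIdeal C with hI
  set i := I.subschemeι with hi
  have hri : Set.range i = closure Z := by
    rw [hi, Scheme.IdealSheafData.range_subschemeι, hI,
      Scheme.IdealSheafData.coe_support_vanishingIdeal]
    rfl
  have hker : i.ker = I := Scheme.IdealSheafData.ker_subschemeι I
  obtain ⟨U, hyU, hprop⟩ := exists_open_isProper_of_dvr' (i ≫ f) y (by
    intro A _ _ _ g hg sK hsK hmax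
    let a₀ : ↥(Spec (CommRingCat.of (FractionRing A))) := IsLocalRing.closedPoint (FractionRing A)
    have hzC : i (sK a₀) ∈ closure Z := by rw [← hri]; exact ⟨_, rfl⟩
    have hzZ : i (sK a₀) ∈ Z := by
      apply hZ _ hzC
      intro z' hz' hsp
      rw [← hri] at hz'
      obtain ⟨t', rfl⟩ := hz'
      have h1 : t' ⤳ sK a₀ :=
        i.isEmbedding.isInducing.specializes_iff.mp (specializes_iff_mem_closure.mpr hsp)
      rw [hmax a₀ t' h1]
    have hw : (sK ≫ i) ≫ f =
        Spec.map (CommRingCat.ofHom (algebraMap A (FractionRing A))) ≫ g := by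
      rw [Category.assoc]; exact hsK
    let σ := pullback.lift (sK ≫ i) (Spec.map (CommRingCat.ofHom (algebraMap A (FractionRing A)))) hw
    have hσ1 : σ ≫ pullback.fst f g = sK ≫ i := pullback.lift_fst _ _ _
    have hσ2 : σ ≫ pullback.snd f g =
        Spec.map (CommRingCat.ofHom (algebraMap A (FractionRing A))) := pullback.lift_snd _ _ _
    have hσpt : ∀ a, σ a = σ a₀ := fun a => by rw [spec_field_subsingleton _ a a₀]
    have hx'1 : (pullback.fst f g).base (σ a₀) ∈ Z := by
      show pullback.fst f g (σ a₀) ∈ Z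
      rw [← Scheme.Hom.comp_apply, hσ1, Scheme.Hom.comp_apply]
      exact hzZ
    have hx'2 : (pullback.snd f g).base (σ a₀) = genericPoint (Spec (CommRingCat.of A)) := by
      show pullback.snd f g (σ a₀) = _
      rw [← Scheme.Hom.comp_apply, hσ2, SpecMap_algebraMap_fractionRing_apply]
    have hbij := bijective_residueFieldMap_of_section A (pullback.snd f g) σ hσ2 (σ a₀) hσpt
    obtain ⟨s, hs1, b, hb⟩ := H A g hg (σ a₀) hx'1 hx'2 hbij
    have hsb : ∀ b' : ↥(Spec (CommRingCat.of A)), pullback.snd f g (s b') = b' := by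
      intro b'
      rw [← Scheme.Hom.comp_apply, hs1]
      rfl
    have hbη : b = genericPoint (Spec (CommRingCat.of A)) := by
      rw [← hsb b]
      have : s b = σ a₀ := hb
      rw [this]
      exact hx'2
    -- the section lands in the closure of Z
    have hrange : Set.range (s ≫ pullback.fst f g) ⊆ (C : Set X) := by
      rintro _ ⟨b', rfl⟩
      have h1 : b ⤳ b' := by
        rw [hbη]
        exact genericPoint_specializes b'
      have h2 : (s ≫ pullback.fst f g) b ⤳ (s ≫ pullback.fst f g) b' :=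
        h1.map (s ≫ pullback.fst f g).continuous
      have h3 : (s ≫ pullback.fst f g) b ∈ closure Z := by
        apply subset_closure
        rw [Scheme.Hom.comp_apply]
        have : s b = σ a₀ := hb
        rw [this]
        exact hx'1
      exact (isClosed_closure.closure_subset_iff.mpr (Set.singleton_subset_iff.mpr h3))
        h2.mem_closure
    have hle : i.ker ≤ (s ≫ pullback.fst f g).ker := by
      rw [hker]
      exact vanishingIdeal_le_ker_of_isReduced _ C hrange
    refine ⟨IsClosedImmersion.lift i (s ≫ pullback.fst f g) hle, ?_, ?_⟩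
    · rw [← Category.assoc, IsClosedImmersion.lift_fac, Category.assoc, pullback.condition,
        ← Category.assoc, hs1, Category.id_comp]
    · rw [← cancel_mono i, Category.assoc, IsClosedImmersion.lift_fac, ← hσ1, ← Category.assoc]
      congr 1
      apply spec_hom_ext_of_residueFieldMap_surjective (FractionRing A) (pullback.snd f g) _ _
        (σ a₀) _ hσpt _ hbij.2
      · intro a
        rw [Scheme.Hom.comp_apply, SpecMap_algebraMap_fractionRing_apply, ← hbη]
        exact hb
      · rw [Category.assoc, hs1, Category.comp_id, hσ2])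
  have hC : IsClosed ((f ⁻¹ᵁ U).ι.base ⁻¹' closure Z) :=
    isClosed_closure.preimage (f ⁻¹ᵁ U).ι.continuous
  exact ⟨U, hyU, hC, isProper_subscheme_restrict f C U hC hprop⟩


/-- S4978, ⇒ -/
theorem S4978_mp {X Y : Scheme.{u}} (f : X ⟶ Y) (Z : Set X) (y : Y)
    (U : Y.Opens) (hyU : y ∈ U) (hC : IsClosed ((f ⁻¹ᵁ U).ι.base ⁻¹' closure Z))
    (hprop : IsProper ((Scheme.IdealSheafData.vanishingIdeal
        (⟨(f ⁻¹ᵁ U).ι.base ⁻¹' closure Z, hC⟩ : TopologicalSpace.Closeds ↥(f ⁻¹ᵁ U))).subschemeι ≫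
          (f ∣_ U)))
    (A' : Type u) [CommRing A'] [IsDomain A'] [IsDiscreteValuationRing A']
    (g : Spec (CommRingCat.of A') ⟶ Y) (hg : g.base (IsLocalRing.closedPoint A') = y)
    (x' : ↥(pullback f g)) (hx'Z : (pullback.fst f g).base x' ∈ Z)
    (hx'η : (pullback.snd f g).base x' = genericPoint (Spec (CommRingCat.of A')))
    (hbij : Function.Bijective ((pullback.snd f g).residueFieldMap x').hom) :
    ∃ s : Spec (CommRingCat.of A') ⟶ pullback f g, s ≫ pullback.snd f g = 𝟙 _ ∧
      x' ∈ Set.range s.base := by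
  set CU : TopologicalSpace.Closeds ↥(f ⁻¹ᵁ U) := ⟨(f ⁻¹ᵁ U).ι.base ⁻¹' closure Z, hC⟩ with hCU
  set IU := Scheme.IdealSheafData.vanishingIdeal (X := (f ⁻¹ᵁ U).toScheme) CU with hIU
  let ιK := Spec.map (CommRingCat.ofHom (algebraMap A' (FractionRing A')))
  -- the point with values in the fraction field at x'
  obtain ⟨ψ₀, hψ₀⟩ := exists_eq_SpecMap_fromSpecResidueField (FractionRing A') ιK
    (pullback.snd f g x') (fun a => by
      rw [SpecMap_algebraMap_fractionRing_apply]; exact hx'η.symm)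
  haveI : IsIso ((pullback.snd f g).residueFieldMap x') :=
    (ConcreteCategory.isIso_iff_bijective _).mpr hbij
  let σ : Spec (CommRingCat.of (FractionRing A')) ⟶ pullback f g :=
    Spec.map (inv ((pullback.snd f g).residueFieldMap x') ≫ ψ₀) ≫
      (pullback f g).fromSpecResidueField x'
  have hσ2 : σ ≫ pullback.snd f g = ιK := by
    rw [hψ₀, Category.assoc, ← Scheme.Hom.SpecMap_residueFieldMap_fromSpecResidueField,
      ← Category.assoc, ← Spec.map_comp, ← Category.assoc, IsIso.hom_inv_id, Category.id_comp]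
  have hσpt : ∀ a, σ a = x' := by
    intro a
    rw [Scheme.Hom.comp_apply, Scheme.fromSpecResidueField_apply]
  -- g factors through U
  have hgU : Set.range g ⊆ Set.range U.ι := by
    rintro _ ⟨b, rfl⟩
    rw [Scheme.Opens.range_ι]
    have h1 : b ⤳ IsLocalRing.closedPoint A' := IsLocalRing.specializes_closedPoint b
    have h2 : g b ⤳ g (IsLocalRing.closedPoint A') := h1.map g.continuous
    have h3 : g (IsLocalRing.closedPoint A') = y := hg
    rw [h3] at h2
    exact h2.mem_open U.2 hyU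
  let gU := IsOpenImmersion.lift U.ι g hgU
  have hgUfac : gU ≫ U.ι = g := IsOpenImmersion.lift_fac _ _ _
  -- the point of X, factored through the open subscheme and the closed subscheme
  have hτf : (σ ≫ pullback.fst f g) ≫ f = ιK ≫ g := by
    rw [Category.assoc, pullback.condition, ← Category.assoc, hσ2]
  have hτU : Set.range (σ ≫ pullback.fst f g) ⊆ Set.range (f ⁻¹ᵁ U).ι := by
    rintro _ ⟨a, rfl⟩
    rw [Scheme.Opens.range_ι]
    show f ((σ ≫ pullback.fst f g) a) ∈ U
    rw [← Scheme.Hom.comp_apply, hτf, ← hgUfac, Scheme.Hom.comp_apply, Scheme.Hom.comp_apply]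
    exact (gU _).2
  let τU := IsOpenImmersion.lift (f ⁻¹ᵁ U).ι (σ ≫ pullback.fst f g) hτU
  have hτUfac : τU ≫ (f ⁻¹ᵁ U).ι = σ ≫ pullback.fst f g := IsOpenImmersion.lift_fac _ _ _
  have hτUrange : Set.range τU ⊆ (CU : Set ↥(f ⁻¹ᵁ U)) := by
    rintro _ ⟨a, rfl⟩
    show (f ⁻¹ᵁ U).ι (τU a) ∈ closure Z
    rw [← Scheme.Hom.comp_apply, hτUfac, Scheme.Hom.comp_apply, hσpt]
    exact subset_closure hx'Z
  have hle : IU.subschemeι.ker ≤ τU.ker := by
    rw [Scheme.IdealSheafData.ker_subschemeι]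
    exact vanishingIdeal_le_ker_of_isReduced τU CU hτUrange
  let i₁ := IsClosedImmersion.lift IU.subschemeι τU hle
  have hi₁ : i₁ ≫ IU.subschemeι = τU := IsClosedImmersion.lift_fac _ _ _
  have hcomm : i₁ ≫ (IU.subschemeι ≫ f ∣_ U) = ιK ≫ gU := by
    rw [← Category.assoc, hi₁, ← cancel_mono U.ι, Category.assoc, morphismRestrict_ι,
      ← Category.assoc, hτUfac, hτf, Category.assoc, hgUfac]
  -- the valuative criterion
  have hex : ValuativeCriterion.Existence (IU.subschemeι ≫ f ∣_ U) := by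
    have h0 : UniversallyClosed (IU.subschemeι ≫ f ∣_ U) := hprop.toUniversallyClosed
    rw [UniversallyClosed.eq_valuativeCriterion] at h0
    exact h0.1
  let Sq : ValuativeCommSq (IU.subschemeι ≫ f ∣_ U) :=
    { R := A', K := FractionRing A', i₁ := i₁, i₂ := gU, commSq := ⟨hcomm⟩ }
  obtain ⟨⟨ℓ, hℓ1, hℓ2⟩⟩ := (hex Sq).exists_lift
  have hℓ1' : ιK ≫ ℓ = i₁ := hℓ1
  have hℓ2' : ℓ ≫ (IU.subschemeι ≫ f ∣_ U) = gU := hℓ2
  have hw : (ℓ ≫ IU.subschemeι ≫ (f ⁻¹ᵁ U).ι) ≫ f = 𝟙 _ ≫ g := by
    rw [Category.id_comp, Category.assoc, Category.assoc, ← morphismRestrict_ι, ← Category.assoc,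
      ← Category.assoc, Category.assoc ℓ, hℓ2', hgUfac]
  refine ⟨pullback.lift (ℓ ≫ IU.subschemeι ≫ (f ⁻¹ᵁ U).ι) (𝟙 _) hw, pullback.lift_snd _ _ _, ?_⟩
  have hσeq : ιK ≫ pullback.lift (ℓ ≫ IU.subschemeι ≫ (f ⁻¹ᵁ U).ι) (𝟙 _) hw = σ := by
    apply pullback.hom_ext
    · rw [Category.assoc, pullback.lift_fst, ← Category.assoc, hℓ1', ← Category.assoc, hi₁, hτUfac]
    · rw [Category.assoc, pullback.lift_snd, Category.comp_id, hσ2]
  refine ⟨ιK (IsLocalRing.closedPoint (FractionRing A')), ?_⟩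
  show (pullback.lift (ℓ ≫ IU.subschemeι ≫ (f ⁻¹ᵁ U).ι) (𝟙 _) hw)
    (ιK (IsLocalRing.closedPoint (FractionRing A'))) = x'
  rw [← Scheme.Hom.comp_apply, hσeq, hσpt]

/-- EGA IV 15.7.x -/
theorem S4978_main {X Y : Scheme.{u}} [IsNoetherian Y] (f : X ⟶ Y) [IsSeparated f]
    [LocallyOfFiniteType f] [QuasiCompact f] (Z : Set X)
    (hZ : ∀ z ∈ closure Z, (∀ z' ∈ closure Z, z ∈ closure {z'} → z' = z) → z ∈ Z) (y : Y) :
    (∃ U : Y.Opens, y ∈ U ∧ ∃ hC : IsClosed ((f ⁻¹ᵁ U).ι.base ⁻¹' closure Z),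
      IsProper ((Scheme.IdealSheafData.vanishingIdeal
        (⟨(f ⁻¹ᵁ U).ι.base ⁻¹' closure Z, hC⟩ : TopologicalSpace.Closeds ↥(f ⁻¹ᵁ U))).subschemeι ≫ (f ∣_ U))) ↔
      ∀ (A' : Type u) [CommRing A'] [IsDomain A'] [IsDiscreteValuationRing A'] (g : Spec (CommRingCat.of A') ⟶ Y),
        g.base (IsLocalRing.closedPoint A') = y →
        ∀ x' : ↥(pullback f g), (pullback.fst f g).base x' ∈ Z →
          (pullback.snd f g).base x' = genericPoint (Spec (CommRingCat.of A')) →
          Function.Bijective ((pullback.snd f g).residueFieldMap x').hom →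
          ∃ s : Spec (CommRingCat.of A') ⟶ pullback f g, s ≫ pullback.snd f g = 𝟙 _ ∧ x' ∈ Set.range s.base := by
  constructor
  · rintro ⟨U, hyU, hC, hprop⟩ A' _ _ _ g hg x' h1 h2 h3
    exact S4978_mp f Z y U hyU hC hprop A' g hg x' h1 h2 h3
  · intro H
    exact S4978_mpr f Z hZ y H

end Groth.Agent.Lib.Helper4.PropAt3
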