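import Mathlib
import Groth.Prelude.Def_EGA43
import Groth.Agent.Lib.Helper4.PropAt2
import Groth.Agent.Lib.Helper4.PropAt3

/-!
# Local properness via DVRs of the function field (EGA IV 15.7, integral case) (helper4)
-/

set_option backward.isDefEq.respectTransparency.types false
set_option synthInstance.maxHeartbeats 400000
set_option autoImplicit false
set_option linter.unusedSectionVars false
set_option linter.style.haveILetI false
set_option linter.unusedSimpArgs false
universe u v w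
open CategoryTheory CategoryTheory.Limits AlgebraicGeometry TopologicalSpace Topology
open Groth.Agent.Lib.Helper4.PropAt2

namespace Groth.Agent.Lib.Helper4.PropAt4


open IsDedekindDomain in
theorem exists_dvr_comap {K K' : Type u} [Field K] [Field K'] (A' : Type u) [CommRing A']
    [IsDomain A'] [IsDiscreteValuationRing A'] [Algebra A' K'] [IsFractionRing A' K']
    (θ : K →+* K') (hnt : ∃ k : K, θ k ∉ Set.range (algebraMap A' K')) :
    ∃ A : ValuationSubring K, IsDiscreteValuationRing A ∧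
      (∀ k : K, A.valuation k ≤ 1 ↔ θ k ∈ Set.range (algebraMap A' K')) ∧
      (∀ k : K, A.valuation k < 1 ↔
        ∃ a ∈ IsLocalRing.maximalIdeal A', algebraMap A' K' a = θ k) := by
  let v' : Valuation K' (WithZero (Multiplicative ℤ)) :=
    (IsDiscreteValuationRing.maximalIdeal A').valuation K'
  let w : Valuation K (WithZero (Multiplicative ℤ)) := v'.comap θ
  have hle : ∀ k' : K', v' k' ≤ 1 ↔ k' ∈ Set.range (algebraMap A' K') := by
    intro k'
    constructor
    · intro h
      obtain ⟨a, ha⟩ := IsDiscreteValuationRing.exists_lift_of_le_one h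
      exact ⟨a, ha⟩
    · rintro ⟨a, rfl⟩
      exact HeightOneSpectrum.valuation_le_one _ a
  have hlt : ∀ k' : K', v' k' < 1 ↔
      ∃ a ∈ IsLocalRing.maximalIdeal A', algebraMap A' K' a = k' := by
    intro k'
    constructor
    · intro h
      obtain ⟨a, ha⟩ := IsDiscreteValuationRing.exists_lift_of_le_one h.le
      refine ⟨a, ?_, ha⟩
      rw [← ha] at h
      exact (HeightOneSpectrum.valuation_lt_one_iff_mem _ a).mp h
    · rintro ⟨a, ha, rfl⟩
      exact (HeightOneSpectrum.valuation_lt_one_iff_mem _ a).mpr ha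
  haveI : IsCyclic (MonoidWithZeroHom.valueGroup (MonoidWithZeroHom.ofClass w)) := by
    infer_instance
  haveI : Nontrivial (MonoidWithZeroHom.valueGroup (MonoidWithZeroHom.ofClass w)) := by
    obtain ⟨k, hk⟩ := hnt
    have h1 : ¬ w k ≤ 1 := fun h => hk ((hle _).mp h)
    have h0 : w k ≠ 0 := by
      intro h
      apply h1
      rw [h]
      exact zero_le_one
    refine ⟨⟨⟨Units.mk0 (w k) h0, MonoidWithZeroHom.mem_valueGroup _ ⟨k, rfl⟩⟩, 1, ?_⟩⟩
    intro h
    apply h1
    have h2 : (Units.mk0 (w k) h0 : (WithZero (Multiplicative ℤ))ˣ) = 1 :=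
      congrArg Subtype.val h
    have h3 : w k = 1 := by
      have := congrArg Units.val h2
      simpa using this
    rw [h3]
  refine ⟨w.valuationSubring, inferInstance, ?_, ?_⟩
  · intro k
    rw [← (Valuation.isEquiv_valuation_valuationSubring w).le_one_iff_le_one]
    exact hle _
  · intro k
    rw [← (Valuation.isEquiv_valuation_valuationSubring w).lt_one_iff_lt_one]
    exact hlt _



theorem exists_ringHom_lift {R A K : Type*} [CommRing R] [CommRing A] [CommRing K] (i : A →+* K)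
    (hi : Function.Injective i) (g : R →+* K) (h : ∀ r, g r ∈ Set.range i) :
    ∃ ρ : R →+* A, i.comp ρ = g := by
  choose ρ hρ using h
  refine ⟨⟨⟨⟨ρ, ?_⟩, ?_⟩, ?_, ?_⟩, ?_⟩
  · apply hi; rw [hρ, map_one, map_one]
  · intro a b; apply hi; rw [hρ, map_mul, map_mul, hρ, hρ]
  · apply hi; simp only; rw [hρ, map_zero, map_zero]
  · intro a b; apply hi; simp only; rw [hρ, map_add, map_add, hρ, hρ]
  · ext r; exact hρ r

theorem exists_lift_of_stalk_mem {X Y : Scheme.{u}} [IsIntegral X] (f : X ⟶ Y) (y : Y)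
    (hξ : f.base (genericPoint X) ⤳ y)
    (A' : Type u) [CommRing A'] (K' : Type u) [CommRing K'] [Algebra A' K']
    (hinj : Function.Injective (algebraMap A' K'))
    (θ : X.presheaf.stalk (genericPoint X) ⟶ CommRingCat.of K')
    (ψ : Y.presheaf.stalk y ⟶ CommRingCat.of A')
    (hcomm : (Y.presheaf.stalkSpecializes hξ ≫ f.stalkMap (genericPoint X)) ≫ θ =
      ψ ≫ CommRingCat.ofHom (algebraMap A' K'))
    (x : X) (hx : f.base x ⤳ y)
    (hmem : ∀ r : X.presheaf.stalk x,
      θ (X.presheaf.stalkSpecializes (genericPoint_specializes x) r) ∈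
        Set.range (algebraMap A' K')) :
    ∃ s : Spec (CommRingCat.of A') ⟶ X,
      Spec.map (CommRingCat.ofHom (algebraMap A' K')) ≫ s =
        Spec.map θ ≫ X.fromSpecStalk (genericPoint X) ∧
      s ≫ f = Spec.map ψ ≫ Y.fromSpecStalk y := by
  obtain ⟨ρ, hρ'⟩ : ∃ ρ : X.presheaf.stalk x ⟶ CommRingCat.of A',
      ρ ≫ CommRingCat.ofHom (algebraMap A' K') =
        X.presheaf.stalkSpecializes (genericPoint_specializes x) ≫ θ := by
    obtain ⟨ρ, hρ⟩ := exists_ringHom_lift (algebraMap A' K') hinj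
      (θ.hom.comp (X.presheaf.stalkSpecializes (genericPoint_specializes x)).hom) hmem
    refine ⟨CommRingCat.ofHom ρ, ?_⟩
    ext r
    exact congr($(hρ) r)
  refine ⟨Spec.map ρ ≫ X.fromSpecStalk x, ?_, ?_⟩
  · rw [← Category.assoc, ← Spec.map_comp, hρ', Spec.map_comp, Category.assoc,
      Scheme.SpecMap_stalkSpecializes_fromSpecStalk]
  · have key0 : (Y.presheaf.stalkSpecializes hx ≫ f.stalkMap x ≫ ρ) ≫
        CommRingCat.ofHom (algebraMap A' K') = ψ ≫ CommRingCat.ofHom (algebraMap A' K') := by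
      rw [← hcomm, Category.assoc, Category.assoc, hρ', ← Category.assoc (f.stalkMap x),
        ← Scheme.Hom.stalkSpecializes_stalkMap f _ _ (genericPoint_specializes x),
        Category.assoc, ← Category.assoc (Y.presheaf.stalkSpecializes hx),
        TopCat.Presheaf.stalkSpecializes_comp, Category.assoc]
    have key : Y.presheaf.stalkSpecializes hx ≫ f.stalkMap x ≫ ρ = ψ := by
      ext r
      apply hinj
      exact congr($(key0) r)
    rw [Category.assoc, ← Scheme.SpecMap_stalkMap_fromSpecStalk,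
      ← Scheme.SpecMap_stalkSpecializes_fromSpecStalk hx, ← key]
    simp only [Spec.map_comp, Category.assoc]



/-- S3434, ⇒ -/
theorem S3434_mp {X Y : Scheme.{u}} [IsIntegral X]
    (f : X ⟶ Y) (y : Y)
    (hξ : f.base (genericPoint X) ⤳ y) (U : Y.Opens) (hyU : y ∈ U) (hprop : IsProper (f ∣_ U))
    (A : ValuationSubring X.functionField)
    (h1 : ∀ r : Y.presheaf.stalk y, A.valuation ((Y.presheaf.stalkSpecializes hξ ≫ f.stalkMap (genericPoint X)) r) ≤ 1)
    (h2 : ∀ r ∈ IsLocalRing.maximalIdeal (Y.presheaf.stalk y),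
            A.valuation ((Y.presheaf.stalkSpecializes hξ ≫ f.stalkMap (genericPoint X)) r) < 1) :
    ∃ x : X, f.base x = y ∧
          (∀ r : X.presheaf.stalk x, A.valuation (X.presheaf.stalkSpecializes (genericPoint_specializes x) r) ≤ 1) ∧
          (∀ r ∈ IsLocalRing.maximalIdeal (X.presheaf.stalk x),
            A.valuation (X.presheaf.stalkSpecializes (genericPoint_specializes x) r) < 1) := by
  let φ : Y.presheaf.stalk y ⟶ X.presheaf.stalk (genericPoint X) :=
    Y.presheaf.stalkSpecializes hξ ≫ f.stalkMap (genericPoint X)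
  let alg : CommRingCat.of ↥A ⟶ X.presheaf.stalk (genericPoint X) :=
    CommRingCat.ofHom (algebraMap ↥A X.functionField)
  obtain ⟨ψ, hψ⟩ : ∃ ψ : Y.presheaf.stalk y ⟶ CommRingCat.of ↥A, ψ ≫ alg = φ := by
    refine ⟨CommRingCat.ofHom (φ.hom.codRestrict A.toSubring
      (fun r => (A.valuation_le_one_iff _).mp (h1 r))), ?_⟩
    ext r
    rfl
  haveI hloc : IsLocalHom ψ.hom := by
    constructor
    intro r hr
    by_contra hnr
    have hm : r ∈ IsLocalRing.maximalIdeal (Y.presheaf.stalk y) :=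
      (IsLocalRing.mem_maximalIdeal _).mpr hnr
    have h3 := h2 r hm
    have h4 : ((ψ.hom r : ↥A) : X.functionField) = φ r := congr($(hψ) r)
    have h5 : A.valuation ((ψ.hom r : ↥A) : X.functionField) < 1 := by rw [h4]; exact h3
    rw [← A.valuation_lt_one_iff, IsLocalRing.mem_maximalIdeal] at h5
    exact h5 hr
  let g : Spec (CommRingCat.of ↥A) ⟶ Y := Spec.map ψ ≫ Y.fromSpecStalk y
  have hgcl : g (IsLocalRing.closedPoint ↥A) = y := by
    show (Spec.map ψ ≫ Y.fromSpecStalk y) (IsLocalRing.closedPoint ↥A) = y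
    rw [Scheme.Hom.comp_apply, Spec_closedPoint, Scheme.fromSpecStalk_closedPoint]
  have hsq : X.fromSpecStalk (genericPoint X) ≫ f = Spec.map alg ≫ g := by
    show _ = Spec.map alg ≫ Spec.map ψ ≫ Y.fromSpecStalk y
    rw [← Category.assoc, ← Spec.map_comp, hψ, ← Scheme.SpecMap_stalkMap_fromSpecStalk,
      ← Scheme.SpecMap_stalkSpecializes_fromSpecStalk hξ, ← Category.assoc, ← Spec.map_comp]
  have hrg : Set.range g ⊆ Set.range U.ι := by
    rintro _ ⟨a, rfl⟩
    rw [Scheme.Opens.range_ι]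
    have hsp : g a ⤳ g (IsLocalRing.closedPoint ↥A) :=
      (IsLocalRing.specializes_closedPoint a).map g.continuous
    rw [hgcl] at hsp
    exact hsp.mem_open U.2 hyU
  have hri : Set.range (X.fromSpecStalk (genericPoint X)) ⊆ Set.range (f ⁻¹ᵁ U).ι := by
    rintro _ ⟨a, rfl⟩
    rw [Scheme.Opens.range_ι]
    show f (X.fromSpecStalk (genericPoint X) a) ∈ U
    rw [← Scheme.Hom.comp_apply, hsq, Scheme.Hom.comp_apply]
    have := hrg ⟨Spec.map alg a, rfl⟩
    rwa [Scheme.Opens.range_ι] at this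
  let g' : Spec (CommRingCat.of ↥A) ⟶ U.toScheme := IsOpenImmersion.lift U.ι g hrg
  let i' : Spec (X.presheaf.stalk (genericPoint X)) ⟶ (f ⁻¹ᵁ U).toScheme :=
    IsOpenImmersion.lift (f ⁻¹ᵁ U).ι (X.fromSpecStalk (genericPoint X)) hri
  have hsq' : i' ≫ f ∣_ U = Spec.map alg ≫ g' := by
    rw [← cancel_mono U.ι, Category.assoc, morphismRestrict_ι, ← Category.assoc,
      IsOpenImmersion.lift_fac, Category.assoc, IsOpenImmersion.lift_fac, hsq]
  have hex : ValuativeCriterion.Existence (f ∣_ U) := by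
    have h0 : UniversallyClosed (f ∣_ U) := inferInstance
    rw [UniversallyClosed.eq_valuativeCriterion] at h0
    exact h0.1
  let Sq : ValuativeCommSq (f ∣_ U) :=
    { R := ↥A, K := X.functionField, i₁ := i', i₂ := g', commSq := ⟨hsq'⟩ }
  obtain ⟨⟨ℓ, hℓ1, hℓ2⟩⟩ := (hex Sq).exists_lift
  have hℓ1' : Spec.map alg ≫ ℓ = i' := hℓ1
  have hℓ2' : ℓ ≫ f ∣_ U = g' := hℓ2
  let ℓ' : Spec (CommRingCat.of ↥A) ⟶ X := ℓ ≫ (f ⁻¹ᵁ U).ι
  have hℓa : Spec.map alg ≫ ℓ' = X.fromSpecStalk (genericPoint X) := by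
    show Spec.map alg ≫ ℓ ≫ (f ⁻¹ᵁ U).ι = _
    rw [← Category.assoc, hℓ1', IsOpenImmersion.lift_fac]
  have hℓb : ℓ' ≫ f = g := by
    show (ℓ ≫ (f ⁻¹ᵁ U).ι) ≫ f = g
    rw [Category.assoc, ← morphismRestrict_ι, ← Category.assoc, hℓ2', IsOpenImmersion.lift_fac]
  refine ⟨ℓ' (IsLocalRing.closedPoint ↥A), ?_, ?_⟩
  · show f (ℓ' (IsLocalRing.closedPoint ↥A)) = y
    rw [← Scheme.Hom.comp_apply, hℓb, hgcl]
  · set x := ℓ' (IsLocalRing.closedPoint ↥A) with hx
    let ψx : X.presheaf.stalk x ⟶ CommRingCat.of ↥A := Scheme.stalkClosedPointTo ℓ'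
    have hψx : Spec.map ψx ≫ X.fromSpecStalk x = ℓ' := Scheme.Spec_stalkClosedPointTo_fromSpecStalk ℓ'
    have hkey : ψx ≫ alg = X.presheaf.stalkSpecializes (genericPoint_specializes x) := by
      apply Spec.map_injective
      rw [← cancel_mono (X.fromSpecStalk x), Scheme.SpecMap_stalkSpecializes_fromSpecStalk,
        Spec.map_comp, Category.assoc, hψx, hℓa]
    have hval : ∀ r : X.presheaf.stalk x,
        X.presheaf.stalkSpecializes (genericPoint_specializes x) r =
          ((ψx.hom r : ↥A) : X.functionField) := by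
      intro r
      exact congr($(hkey.symm) r)
    constructor
    · intro r
      rw [hval]
      exact A.valuation_le_one _
    · intro r hr
      rw [hval, ← A.valuation_lt_one_iff, IsLocalRing.mem_maximalIdeal]
      intro hu
      haveI : IsLocalHom ψx.hom := Scheme.isLocalHom_stalkClosedPointTo' ℓ'
      exact ((IsLocalRing.mem_maximalIdeal _).mp hr) (isUnit_of_map_unit ψx.hom r hu)



/-- transfer of the refined DVR section hypothesis to the restriction over an open subscheme -/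
theorem dvr_hyp_restrict' {X Y : Scheme.{u}} (f : X ⟶ Y) (V : Y.Opens) (y : Y) (hyV : y ∈ V)
    (H : ∀ (A : Type u) [CommRing A] [IsDomain A] [IsDiscreteValuationRing A]
      (g : Spec (CommRingCat.of A) ⟶ Y), g.base (IsLocalRing.closedPoint A) = y →
      ∀ sK : Spec (CommRingCat.of (FractionRing A)) ⟶ X,
        sK ≫ f = Spec.map (CommRingCat.ofHom (algebraMap A (FractionRing A))) ≫ g →
        (∀ (a : ↥(Spec (CommRingCat.of (FractionRing A)))) (x : X), x ⤳ sK a → x = sK a) →
        ∃ s : Spec (CommRingCat.of A) ⟶ X, s ≫ f = g ∧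
          Spec.map (CommRingCat.ofHom (algebraMap A (FractionRing A))) ≫ s = sK)
    (A : Type u) [CommRing A] [IsDomain A] [IsDiscreteValuationRing A]
    (g : Spec (CommRingCat.of A) ⟶ (V : Scheme.{u}))
    (hg : g.base (IsLocalRing.closedPoint A) = (⟨y, hyV⟩ : ↥V))
    (sK : Spec (CommRingCat.of (FractionRing A)) ⟶ (f ⁻¹ᵁ V : Scheme.{u}))
    (hsK : sK ≫ f ∣_ V = Spec.map (CommRingCat.ofHom (algebraMap A (FractionRing A))) ≫ g)
    (hmax : ∀ (a : ↥(Spec (CommRingCat.of (FractionRing A)))) (x : ↥(f ⁻¹ᵁ V : Scheme.{u})),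
      x ⤳ sK a → x = sK a) :
    ∃ s : Spec (CommRingCat.of A) ⟶ (f ⁻¹ᵁ V : Scheme.{u}), s ≫ f ∣_ V = g ∧
      Spec.map (CommRingCat.ofHom (algebraMap A (FractionRing A))) ≫ s = sK := by
  have hg' : (g ≫ V.ι).base (IsLocalRing.closedPoint A) = y := by
    rw [Scheme.Hom.comp_base, TopCat.comp_app, hg]
    rfl
  have hw : (sK ≫ (f ⁻¹ᵁ V).ι) ≫ f =
      Spec.map (CommRingCat.ofHom (algebraMap A (FractionRing A))) ≫ (g ≫ V.ι) := by
    rw [Category.assoc, ← morphismRestrict_ι, ← Category.assoc, hsK, Category.assoc]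
  obtain ⟨s, hs1, hs2⟩ := H A (g ≫ V.ι) hg' (sK ≫ (f ⁻¹ᵁ V).ι) hw (by
    intro a x hx
    rw [Scheme.Hom.comp_apply] at hx ⊢
    have hxV : x ∈ f ⁻¹ᵁ V := hx.mem_open (f ⁻¹ᵁ V).2 (sK a).2
    have hx' : (⟨x, hxV⟩ : ↥(f ⁻¹ᵁ V : Scheme.{u})) ⤳ sK a :=
      ((f ⁻¹ᵁ V).ι.isEmbedding.isInducing.specializes_iff
        (x := (⟨x, hxV⟩ : ↥(f ⁻¹ᵁ V : Scheme.{u}))) (y := sK a)).mp hx
    have := hmax a ⟨x, hxV⟩ hx'
    rw [← this]
    rfl)
  have hrange : Set.range s ⊆ Set.range (f ⁻¹ᵁ V).ι := by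
    rintro _ ⟨a, rfl⟩
    rw [Scheme.Opens.range_ι]
    show f (s a) ∈ V
    rw [← Scheme.Hom.comp_apply, hs1, Scheme.Hom.comp_apply]
    exact (g a).2
  refine ⟨IsOpenImmersion.lift (f ⁻¹ᵁ V).ι s hrange, ?_, ?_⟩
  · rw [← cancel_mono V.ι, Category.assoc, morphismRestrict_ι, ← Category.assoc,
      IsOpenImmersion.lift_fac, hs1]
  · rw [← cancel_mono (f ⁻¹ᵁ V).ι, Category.assoc, IsOpenImmersion.lift_fac, hs2]

theorem exists_open_isProper_of_dvr_lnoeth {X Y : Scheme.{u}} [IsLocallyNoetherian Y]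
    (f : X ⟶ Y) [IsSeparated f] [LocallyOfFiniteType f] [QuasiCompact f] (y : Y)
    (H : ∀ (A : Type u) [CommRing A] [IsDomain A] [IsDiscreteValuationRing A]
      (g : Spec (CommRingCat.of A) ⟶ Y), g.base (IsLocalRing.closedPoint A) = y →
      ∀ sK : Spec (CommRingCat.of (FractionRing A)) ⟶ X,
        sK ≫ f = Spec.map (CommRingCat.ofHom (algebraMap A (FractionRing A))) ≫ g →
        (∀ (a : ↥(Spec (CommRingCat.of (FractionRing A)))) (x : X), x ⤳ sK a → x = sK a) →
        ∃ s : Spec (CommRingCat.of A) ⟶ X, s ≫ f = g ∧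
          Spec.map (CommRingCat.ofHom (algebraMap A (FractionRing A))) ≫ s = sK) :
    ∃ U : Y.Opens, y ∈ U ∧ IsProper (f ∣_ U) := by
  obtain ⟨V, hV, hyV, -⟩ := exists_isAffineOpen_mem_and_subset (U := (⊤ : Y.Opens))
    (x := y) trivial
  haveI : IsAffine (V : Scheme.{u}) := hV
  haveI : IsNoetherian (V : Scheme.{u}) := {}
  obtain ⟨U', hyU', hprop⟩ := exists_open_isProper_of_dvr' (f ∣_ V) ⟨y, hyV⟩
    (fun A _ _ _ g hg sK hsK hmax => dvr_hyp_restrict' f V y hyV H A g hg sK hsK hmax)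
  refine ⟨V.ι ''ᵁ U', ⟨⟨y, hyV⟩, hyU', rfl⟩, ?_⟩
  exact (MorphismProperty.arrow_mk_iso_iff @IsProper (morphismRestrictRestrict f V U')).mp hprop


/-- S3434, ⇐ -/
theorem S3434_mpr {X Y : Scheme.{u}} [IsIntegral X] [IsLocallyNoetherian Y]
    (f : X ⟶ Y) [IsSeparated f] [LocallyOfFiniteType f] [QuasiCompact f] (y : Y)
    (hξ : f.base (genericPoint X) ⤳ y)
    (Hd : ∀ A : ValuationSubring X.functionField, IsDiscreteValuationRing A →
        (∀ r : Y.presheaf.stalk y, A.valuation ((Y.presheaf.stalkSpecializes hξ ≫ f.stalkMap (genericPoint X)) r) ≤ 1) →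
        (∀ r ∈ IsLocalRing.maximalIdeal (Y.presheaf.stalk y),
            A.valuation ((Y.presheaf.stalkSpecializes hξ ≫ f.stalkMap (genericPoint X)) r) < 1) →
        ∃ x : X, f.base x = y ∧
          (∀ r : X.presheaf.stalk x, A.valuation (X.presheaf.stalkSpecializes (genericPoint_specializes x) r) ≤ 1) ∧
          (∀ r ∈ IsLocalRing.maximalIdeal (X.presheaf.stalk x),
            A.valuation (X.presheaf.stalkSpecializes (genericPoint_specializes x) r) < 1)) :
    ∃ U : Y.Opens, y ∈ U ∧ IsProper (f ∣_ U) := by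
  apply exists_open_isProper_of_dvr_lnoeth f y
  intro A' _ _ _ g hg sK hsK hmax
  let a₀ : ↥(Spec (CommRingCat.of (FractionRing A'))) := IsLocalRing.closedPoint (FractionRing A')
  have hgen : genericPoint X = sK a₀ := hmax a₀ _ (genericPoint_specializes _)
  have hsp : sK a₀ ⤳ genericPoint X := by rw [← hgen]
  obtain ⟨θ, hθ⟩ : ∃ θ : X.presheaf.stalk (genericPoint X) ⟶ CommRingCat.of (FractionRing A'),
      Spec.map θ ≫ X.fromSpecStalk (genericPoint X) = sK := by
    refine ⟨X.presheaf.stalkSpecializes hsp ≫ Scheme.stalkClosedPointTo sK, ?_⟩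
    rw [Spec.map_comp, Category.assoc, Scheme.SpecMap_stalkSpecializes_fromSpecStalk]
    exact Scheme.Spec_stalkClosedPointTo_fromSpecStalk sK
  have hgy : y ⤳ g (IsLocalRing.closedPoint A') := by rw [hg]
  have hgy' : g (IsLocalRing.closedPoint A') ⤳ y := by rw [hg]
  obtain ⟨ψ, hψ, hψloc⟩ : ∃ ψ : Y.presheaf.stalk y ⟶ CommRingCat.of A',
      Spec.map ψ ≫ Y.fromSpecStalk y = g ∧
        ∀ r : Y.presheaf.stalk y, IsUnit (ψ.hom r) → IsUnit r := by
    refine ⟨Y.presheaf.stalkSpecializes hgy' ≫ Scheme.stalkClosedPointTo g, ?_, ?_⟩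
    · rw [Spec.map_comp, Category.assoc, Scheme.SpecMap_stalkSpecializes_fromSpecStalk]
      exact Scheme.Spec_stalkClosedPointTo_fromSpecStalk g
    · intro r hr
      have h1 : IsUnit ((Y.presheaf.stalkSpecializes hgy').hom r) :=
        isUnit_of_map_unit (Scheme.stalkClosedPointTo g).hom _ hr
      have h2 : (Y.presheaf.stalkSpecializes hgy).hom
          ((Y.presheaf.stalkSpecializes hgy').hom r) = r := by
        have h3 : Y.presheaf.stalkSpecializes hgy' ≫ Y.presheaf.stalkSpecializes hgy = 𝟙 _ := by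
          rw [TopCat.Presheaf.stalkSpecializes_comp, TopCat.Presheaf.stalkSpecializes_refl]
        exact congr($(h3) r)
      rw [← h2]
      exact h1.map _
  let alg : CommRingCat.of A' ⟶ CommRingCat.of (FractionRing A') :=
    CommRingCat.ofHom (algebraMap A' (FractionRing A'))
  have hcomm : (Y.presheaf.stalkSpecializes hξ ≫ f.stalkMap (genericPoint X)) ≫ θ = ψ ≫ alg := by
    apply Spec.map_injective
    rw [← cancel_mono (Y.fromSpecStalk y)]
    have e1 : Spec.map ((Y.presheaf.stalkSpecializes hξ ≫ f.stalkMap (genericPoint X)) ≫ θ) ≫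
        Y.fromSpecStalk y = sK ≫ f := by
      rw [Spec.map_comp, Spec.map_comp, Category.assoc, Category.assoc,
        Scheme.SpecMap_stalkSpecializes_fromSpecStalk, Scheme.SpecMap_stalkMap_fromSpecStalk,
        ← Category.assoc, hθ]
    have e2 : Spec.map (ψ ≫ alg) ≫ Y.fromSpecStalk y = Spec.map alg ≫ g := by
      rw [Spec.map_comp, Category.assoc, hψ]
    rw [e1, e2]
    exact hsK
  have hinj : Function.Injective (algebraMap A' (FractionRing A')) :=
    IsFractionRing.injective A' (FractionRing A')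
  have hfin : ∀ (x : X) (hx : f.base x ⤳ y),
      (∀ r : X.presheaf.stalk x,
        θ (X.presheaf.stalkSpecializes (genericPoint_specializes x) r) ∈
          Set.range (algebraMap A' (FractionRing A'))) →
      ∃ s : Spec (CommRingCat.of A') ⟶ X, s ≫ f = g ∧
          Spec.map (CommRingCat.ofHom (algebraMap A' (FractionRing A'))) ≫ s = sK := by
    intro x hx hmem
    obtain ⟨s, hs1, hs2⟩ := exists_lift_of_stalk_mem f y hξ A' (FractionRing A') hinj θ ψ hcomm x hx hmem
    exact ⟨s, by rw [hs2, hψ], by rw [hs1, hθ]⟩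
  by_cases htriv : ∀ k : X.presheaf.stalk (genericPoint X),
      θ k ∈ Set.range (algebraMap A' (FractionRing A'))
  · exact hfin (genericPoint X) hξ (fun r => htriv _)
  · push Not at htriv
    obtain ⟨A, hA, hA1, hA2⟩ := exists_dvr_comap (K := X.functionField) A' θ.hom htriv
    obtain ⟨x, hfx, hx1, -⟩ := Hd A hA (by
      intro r
      rw [hA1]
      exact ⟨ψ.hom r, congr($(hcomm.symm) r)⟩) (by
      intro r hr
      rw [hA2]
      refine ⟨ψ.hom r, ?_, congr($(hcomm.symm) r)⟩
      rw [IsLocalRing.mem_maximalIdeal]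
      intro hu
      exact ((IsLocalRing.mem_maximalIdeal _).mp hr) (hψloc r hu))
    exact hfin x (by rw [hfx]) (fun r => (hA1 _).mp (hx1 r))

theorem S3434_main {X Y : Scheme.{u}} [IsIntegral X] [IsIntegral Y] [IsLocallyNoetherian Y]
    (f : X ⟶ Y) [IsSeparated f] [IsDominant f] [LocallyOfFiniteType f] [QuasiCompact f] (y : Y)
    (hξ : f.base (genericPoint X) ⤳ y) :
    (∃ U : Y.Opens, y ∈ U ∧ IsProper (f ∣_ U)) ↔
      ∀ A : ValuationSubring X.functionField, IsDiscreteValuationRing A →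
        (∀ r : Y.presheaf.stalk y, A.valuation ((Y.presheaf.stalkSpecializes hξ ≫ f.stalkMap (genericPoint X)) r) ≤ 1) →
        (∀ r ∈ IsLocalRing.maximalIdeal (Y.presheaf.stalk y),
            A.valuation ((Y.presheaf.stalkSpecializes hξ ≫ f.stalkMap (genericPoint X)) r) < 1) →
        ∃ x : X, f.base x = y ∧
          (∀ r : X.presheaf.stalk x, A.valuation (X.presheaf.stalkSpecializes (genericPoint_specializes x) r) ≤ 1) ∧
          (∀ r ∈ IsLocalRing.maximalIdeal (X.presheaf.stalk x),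
            A.valuation (X.presheaf.stalkSpecializes (genericPoint_specializes x) r) < 1) := by
  constructor
  · rintro ⟨U, hyU, hprop⟩ A _ h1 h2
    exact S3434_mp f y hξ U hyU hprop A h1 h2
  · intro Hd
    exact S3434_mpr f y hξ Hd

end Groth.Agent.Lib.Helper4.PropAt4
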