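import Mathlib
import Groth.Agent.Lib.Helper4.PropAt4
import Groth.Agent.Lib.Helper4.HensProper3

/-!
# Local properness criterion via Henselian discrete valuation rings (EGA IV 15.7, variant) (helper4)
-/

set_option backward.isDefEq.respectTransparency.types false
set_option synthInstance.maxHeartbeats 400000
set_option autoImplicit false
set_option linter.unusedSectionVars false
set_option linter.style.haveILetI false
set_option linter.unusedSimpArgs false
universe u v w
open CategoryTheory CategoryTheory.Limits AlgebraicGeometry TopologicalSpace Topology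

namespace Groth.Agent.Lib.Helper4.HdvrCrit1

open Groth.Agent.Lib.Helper4.UOp Groth.Agent.Lib.Helper4.PropAt1 Groth.Agent.Lib.Helper4.PropAt2
  Groth.Agent.Lib.Helper4.HensProper3

/-- a Henselian DVR through a specialization in a locally Noetherian scheme -/
theorem exists_hdvr_of_specializes {T : Scheme.{u}} [IsLocallyNoetherian T] (t' t : T)
    (hsp : t' ⤳ t) (hne : t' ≠ t) :
    ∃ (A : Type u) (_ : CommRing A) (_ : IsDomain A) (_ : IsDiscreteValuationRing A)
      (_ : HenselianLocalRing A) (h : Spec (CommRingCat.of A) ⟶ T),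
      h.base (IsLocalRing.closedPoint A) = t ∧
        h.base (⟨⊥, Ideal.isPrime_bot⟩ : PrimeSpectrum A) = t' := by
  obtain ⟨R, _, _, _, h, hcl, hgen⟩ := exists_dvr_of_specializes t' t hsp hne
  obtain ⟨A, _, _, _, _, _, hloc, hff, -⟩ := exists_strictHenselian_dvr_extension R
  haveI := hloc
  haveI := hff
  refine ⟨A, inferInstance, inferInstance, inferInstance, inferInstance,
    Spec.map (CommRingCat.ofHom (algebraMap R A)) ≫ h, ?_, ?_⟩
  · rw [Scheme.Hom.comp_base, TopCat.comp_app]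
    have : (Spec.map (CommRingCat.ofHom (algebraMap R A))).base (IsLocalRing.closedPoint A) =
        IsLocalRing.closedPoint R := IsLocalRing.comap_closedPoint (algebraMap R A)
    rw [this, hcl]
  · rw [Scheme.Hom.comp_base, TopCat.comp_app]
    have hinj : Function.Injective (algebraMap R A) := FaithfulSMul.algebraMap_injective R A
    have : (Spec.map (CommRingCat.ofHom (algebraMap R A))).base
        (⟨⊥, Ideal.isPrime_bot⟩ : PrimeSpectrum A) = (⟨⊥, Ideal.isPrime_bot⟩ : PrimeSpectrum R) := by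
      apply PrimeSpectrum.ext
      show Ideal.comap (algebraMap R A) ⊥ = ⊥
      rw [← RingHom.ker_eq_comap_bot]
      exact (RingHom.injective_iff_ker_eq_bot _).mp hinj
    rw [this, hgen]

/-- the key step, refined: only `K`-points at maximal points and Henselian DVRs are needed -/
theorem mem_range_of_hdvr_sections' {X S X' P : Scheme.{u}} [IsLocallyNoetherian P]
    [NoetherianSpace ↥X'] (h : X ⟶ S) (π : X' ⟶ X) [UniversallyClosed π] (j : X' ⟶ P)
    [IsImmersion j] (q : P ⟶ S) [IsSeparated q] (hjq : j ≫ q = π ≫ h) (y : S)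
    (hπmax : ∀ ξ : X', IsMax ξ → ∀ x : X, x ⤳ π ξ → x = π ξ)
    (H : ∀ (A : Type u) [CommRing A] [IsDomain A] [IsDiscreteValuationRing A]
      [HenselianLocalRing A]
      (g : Spec (CommRingCat.of A) ⟶ S), g.base (IsLocalRing.closedPoint A) = y →
      ∀ sK : Spec (CommRingCat.of (FractionRing A)) ⟶ X,
        sK ≫ h = Spec.map (CommRingCat.ofHom (algebraMap A (FractionRing A))) ≫ g →
        (∀ (a : ↥(Spec (CommRingCat.of (FractionRing A)))) (x : X), x ⤳ sK a → x = sK a) →
        ∃ s : Spec (CommRingCat.of A) ⟶ X, s ≫ h = g ∧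
          Spec.map (CommRingCat.ofHom (algebraMap A (FractionRing A))) ≫ s = sK)
    (p : P) (hp : p ∈ closure (Set.range j)) (hpy : q p = y) : p ∈ Set.range j := by
  by_contra hnot
  obtain ⟨ξ, hξmax, hξ⟩ :=
    exists_isMax_specializes_of_mem_closure_range (fun x => j x) j.continuous p hp
  have hne : j ξ ≠ p := fun h0 => hnot ⟨ξ, h0⟩
  obtain ⟨A, _, _, _, _, hA, hcl, hgen⟩ := exists_hdvr_of_specializes (j ξ) p hξ hne
  let ιK : Spec (CommRingCat.of (FractionRing A)) ⟶ Spec (CommRingCat.of A) :=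
    Spec.map (CommRingCat.ofHom (algebraMap A (FractionRing A)))
  have hιK : ∀ a, ιK a = (⟨⊥, Ideal.isPrime_bot⟩ : PrimeSpectrum A) := by
    intro a
    apply PrimeSpectrum.ext
    change Ideal.comap (algebraMap A (FractionRing A)) a.asIdeal = ⊥
    have : a.asIdeal = ⊥ := by
      rcases Ideal.eq_bot_or_top a.asIdeal with h0 | h0
      · exact h0
      · exact (a.2.ne_top h0).elim
    rw [this, ← RingHom.ker_eq_comap_bot, RingHom.ker_eq_bot_iff_eq_zero]
    intro r hr
    exact (IsFractionRing.injective A (FractionRing A)) (hr.trans (map_zero _).symm)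
  obtain ⟨σ', hσ'⟩ := exists_lift_of_mem_range j (FractionRing A) (ιK ≫ hA) (by
    intro a
    rw [Scheme.Hom.comp_apply, hιK, hgen]
    exact ⟨ξ, rfl⟩)
  have hσ'pt : ∀ a, σ' a = ξ := by
    intro a
    apply j.isEmbedding.injective
    rw [← Scheme.Hom.comp_apply, hσ', Scheme.Hom.comp_apply, hιK, hgen]
  have hcomm : (σ' ≫ π) ≫ h = ιK ≫ (hA ≫ q) := by
    rw [Category.assoc, ← hjq, ← Category.assoc, hσ', Category.assoc]
  obtain ⟨s, hs1, hs2⟩ := H A (hA ≫ q) (by rw [Scheme.Hom.comp_apply, hcl, hpy]) (σ' ≫ π) hcomm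
    (by
      intro a x hx
      rw [Scheme.Hom.comp_apply, hσ'pt] at hx ⊢
      exact hπmax ξ hξmax x hx)
  have hex : ValuativeCriterion.Existence π := by
    have h0 : UniversallyClosed π := inferInstance
    rw [UniversallyClosed.eq_valuativeCriterion] at h0
    exact h0.1
  let Sq1 : ValuativeCommSq π :=
    { R := A, K := FractionRing A, i₁ := σ', i₂ := s, commSq := ⟨hs2.symm⟩ }
  obtain ⟨⟨ℓ, hℓ1, hℓ2⟩⟩ := (hex Sq1).exists_lift
  have huq := IsSeparated.valuativeCriterion q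
  let Sq2 : ValuativeCommSq q :=
    { R := A, K := FractionRing A, i₁ := ιK ≫ hA, i₂ := hA ≫ q,
      commSq := ⟨by rw [Category.assoc]⟩ }
  have hl1 : (ιK ≫ hA : Spec (CommRingCat.of (FractionRing A)) ⟶ P) =
      Spec.map (CommRingCat.ofHom (algebraMap A (FractionRing A))) ≫ (ℓ ≫ j) := by
    rw [← Category.assoc, hℓ1, hσ']
  have hl2 : (ℓ ≫ j) ≫ q = hA ≫ q := by
    rw [Category.assoc, hjq, ← Category.assoc, hℓ2, hs1]
  have heq' : hA = ℓ ≫ j := by
    have e := (huq Sq2).elim ⟨hA, rfl, rfl⟩ ⟨ℓ ≫ j, hl1.symm, hl2⟩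
    exact congrArg CommSq.LiftStruct.l e
  apply hnot
  refine ⟨ℓ (IsLocalRing.closedPoint A), ?_⟩
  rw [← Scheme.Hom.comp_apply, ← heq', hcl]

/-- EGA IV 15.7.x, refined: local properness from the Henselian DVR lifting property for points
over maximal points, Noetherian base -/
theorem exists_open_isProper_of_hdvr' {X S : Scheme.{u}} [IsNoetherian S] (h : X ⟶ S)
    [IsSeparated h] [LocallyOfFiniteType h] [QuasiCompact h] (y : S)
    (H : ∀ (A : Type u) [CommRing A] [IsDomain A] [IsDiscreteValuationRing A]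
      [HenselianLocalRing A]
      (g : Spec (CommRingCat.of A) ⟶ S), g.base (IsLocalRing.closedPoint A) = y →
      ∀ sK : Spec (CommRingCat.of (FractionRing A)) ⟶ X,
        sK ≫ h = Spec.map (CommRingCat.ofHom (algebraMap A (FractionRing A))) ≫ g →
        (∀ (a : ↥(Spec (CommRingCat.of (FractionRing A)))) (x : X), x ⤳ sK a → x = sK a) →
        ∃ s : Spec (CommRingCat.of A) ⟶ X, s ≫ h = g ∧
          Spec.map (CommRingCat.ofHom (algebraMap A (FractionRing A))) ≫ s = sK) :
    ∃ U : S.Opens, y ∈ U ∧ IsProper (h ∣_ U) := by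
  have hXln : IsLocallyNoetherian X := LocallyOfFiniteType.isLocallyNoetherian h
  have hXc : CompactSpace X := QuasiCompact.compactSpace_of_compactSpace h
  have hXn : IsNoetherian X := { }
  have hirr : (irreducibleComponents X).Finite := finite_irreducibleComponents_of_isNoetherian
  obtain ⟨U₀, hU₀d, n, X', π, j, hj, hjq, hπ, hsurj, hiso, hdense, -, -⟩ :=
    Groth.Agent.Helper1.Chow.exists_dense_conclusion h hirr
  haveI := hj
  haveI := hπ
  haveI := hsurj
  haveI := hiso
  haveI : IsProper (CohB1.ProjSpaceOver.toBase n S) :=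
    Groth.Agent.Helper1.HProj.isProper_toBase n S
  haveI : IsLocallyNoetherian (CohB1.ProjSpaceOver n S) :=
    LocallyOfFiniteType.isLocallyNoetherian (CohB1.ProjSpaceOver.toBase n S)
  haveI : IsLocallyNoetherian X' := LocallyOfFiniteType.isLocallyNoetherian j
  haveI : CompactSpace ↥X' := QuasiCompact.compactSpace_of_compactSpace π
  haveI : IsNoetherian X' := {}
  haveI : NoetherianSpace ↥X' := inferInstance
  have hπmax : ∀ ξ : X', IsMax ξ → ∀ x : X, x ⤳ π ξ → x = π ξ := by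
    intro ξ hξ x hx
    have hξO : ξ ∈ π ⁻¹ᵁ U₀ := mem_of_isMax_of_dense _ hdense ξ hξ
    have hxU : x ∈ U₀ := hx.mem_open U₀.2 hξO
    obtain ⟨w, hw⟩ := (π ∣_ U₀).surjective ⟨x, hxU⟩
    have hw1 : π w.1 = x := by
      rw [← morphismRestrict_base_coe, hw]
    have h1 : (π ∣_ U₀) w ⤳ (π ∣_ U₀) ⟨ξ, hξO⟩ := by
      rw [← U₀.ι.isOpenEmbedding.isInducing.specializes_iff]
      rw [← Scheme.Hom.comp_apply, ← Scheme.Hom.comp_apply, morphismRestrict_ι,
        Scheme.Hom.comp_apply, Scheme.Hom.comp_apply]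
      show π w.1 ⤳ π ξ
      rw [hw1]
      exact hx
    have h2 : w ⤳ (⟨ξ, hξO⟩ : ↥(π ⁻¹ᵁ U₀)) :=
      (π ∣_ U₀).isOpenEmbedding.isInducing.specializes_iff.mp h1
    have h3 : w.1 ⤳ ξ := h2.map continuous_subtype_val
    have h4 : ξ ⤳ w.1 := hξ h3
    rw [← hw1, (h3.antisymm h4).eq]
  have hbd : IsClosed (closure (Set.range j) \ Set.range j) := by
    have h1 : IsOpen (coborder (Set.range j)) :=
      isLocallyClosed_iff_isOpen_coborder.mp j.isLocallyClosed_range
    have h2 : closure (Set.range j) \ Set.range j = (coborder (Set.range j))ᶜ := by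
      unfold coborder
      rw [compl_compl]
    rw [h2]
    exact h1.isClosed_compl
  have hD : IsClosed ((CohB1.ProjSpaceOver.toBase n S) '' (closure (Set.range j) \ Set.range j)) :=
    (CohB1.ProjSpaceOver.toBase n S).isClosedMap _ hbd
  have hkey := mem_range_of_hdvr_sections' h π j (CohB1.ProjSpaceOver.toBase n S) hjq y hπmax H
  refine ⟨⟨_, hD.isOpen_compl⟩, ?_, ?_⟩
  · rintro ⟨p, ⟨hp1, hp2⟩, hpy⟩
    exact hp2 (hkey p hp1 hpy)
  · apply isProper_restrict_of_chow h π j (CohB1.ProjSpaceOver.toBase n S) hjq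
    intro p hp hpU
    by_contra hnot
    exact hpU ⟨p, ⟨hp, hnot⟩, rfl⟩

/-- transfer of the refined Henselian DVR section hypothesis to the restriction over an open
subscheme -/
theorem hdvr_hyp_restrict' {X Y : Scheme.{u}} (f : X ⟶ Y) (V : Y.Opens) (y : Y) (hyV : y ∈ V)
    (H : ∀ (A : Type u) [CommRing A] [IsDomain A] [IsDiscreteValuationRing A]
      [HenselianLocalRing A]
      (g : Spec (CommRingCat.of A) ⟶ Y), g.base (IsLocalRing.closedPoint A) = y →
      ∀ sK : Spec (CommRingCat.of (FractionRing A)) ⟶ X,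
        sK ≫ f = Spec.map (CommRingCat.ofHom (algebraMap A (FractionRing A))) ≫ g →
        (∀ (a : ↥(Spec (CommRingCat.of (FractionRing A)))) (x : X), x ⤳ sK a → x = sK a) →
        ∃ s : Spec (CommRingCat.of A) ⟶ X, s ≫ f = g ∧
          Spec.map (CommRingCat.ofHom (algebraMap A (FractionRing A))) ≫ s = sK)
    (A : Type u) [CommRing A] [IsDomain A] [IsDiscreteValuationRing A] [HenselianLocalRing A]
    (g : Spec (CommRingCat.of A) ⟶ (V : Scheme.{u}))
    (hg : g.base (IsLocalRing.closedPoint A) = (⟨y, hyV⟩ : ↥V))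
    (sK : Spec (CommRingCat.of (FractionRing A)) ⟶ (f ⁻¹ᵁ V : Scheme.{u}))
    (hsK : sK ≫ f ∣_ V = Spec.map (CommRingCat.ofHom (algebraMap A (FractionRing A))) ≫ g)
    (hmax : ∀ (a : ↥(Spec (CommRingCat.of (FractionRing A)))) (x : ↥(f ⁻¹ᵁ V : Scheme.{u})),
      x ⤳ sK a → x = sK a) :
    ∃ s : Spec (CommRingCat.of A) ⟶ (f ⁻¹ᵁ V : Scheme.{u}), s ≫ f ∣_ V = g ∧
      Spec.map (CommRingCat.ofHom (algebraMap A (FractionRing A))) ≫ s = sK := by
  have hg' : (g ≫ V.ι).base (IsLocalRing.closedPoint A) = y := by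
    rw [Scheme.Hom.comp_base, TopCat.comp_app, hg]
    rfl
  have hw : (sK ≫ (f ⁻¹ᵁ V).ι) ≫ f =
      Spec.map (CommRingCat.ofHom (algebraMap A (FractionRing A))) ≫ (g ≫ V.ι) := by
    rw [Category.assoc, ← morphismRestrict_ι, ← Category.assoc, hsK, Category.assoc]
  obtain ⟨s, hs1, hs2⟩ := H A (g ≫ V.ι) hg' (sK ≫ (f ⁻¹ᵁ V).ι) hw (by
    intro a x hx
    rw [Scheme.Hom.comp_apply] at hx ⊢
    have hxV : x ∈ f ⁻¹ᵁ V := hx.mem_open (f ⁻¹ᵁ V).2 (sK a).2
    have hx' : (⟨x, hxV⟩ : ↥(f ⁻¹ᵁ V : Scheme.{u})) ⤳ sK a :=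
      ((f ⁻¹ᵁ V).ι.isEmbedding.isInducing.specializes_iff
        (x := (⟨x, hxV⟩ : ↥(f ⁻¹ᵁ V : Scheme.{u}))) (y := sK a)).mp hx
    have := hmax a ⟨x, hxV⟩ hx'
    rw [← this]
    rfl)
  have hrange : Set.range s ⊆ Set.range (f ⁻¹ᵁ V).ι := by
    rintro _ ⟨a, rfl⟩
    rw [Scheme.Opens.range_ι]
    show f (s a) ∈ V
    rw [← Scheme.Hom.comp_apply, hs1, Scheme.Hom.comp_apply]
    exact (g a).2
  refine ⟨IsOpenImmersion.lift (f ⁻¹ᵁ V).ι s hrange, ?_, ?_⟩
  · rw [← cancel_mono V.ι, Category.assoc, morphismRestrict_ι, ← Category.assoc,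
      IsOpenImmersion.lift_fac, hs1]
  · rw [← cancel_mono (f ⁻¹ᵁ V).ι, Category.assoc, IsOpenImmersion.lift_fac, hs2]

/-- local properness from the Henselian DVR lifting property, locally Noetherian base -/
theorem exists_open_isProper_of_hdvr_lnoeth {X Y : Scheme.{u}} [IsLocallyNoetherian Y]
    (f : X ⟶ Y) [IsSeparated f] [LocallyOfFiniteType f] [QuasiCompact f] (y : Y)
    (H : ∀ (A : Type u) [CommRing A] [IsDomain A] [IsDiscreteValuationRing A]
      [HenselianLocalRing A]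
      (g : Spec (CommRingCat.of A) ⟶ Y), g.base (IsLocalRing.closedPoint A) = y →
      ∀ sK : Spec (CommRingCat.of (FractionRing A)) ⟶ X,
        sK ≫ f = Spec.map (CommRingCat.ofHom (algebraMap A (FractionRing A))) ≫ g →
        (∀ (a : ↥(Spec (CommRingCat.of (FractionRing A)))) (x : X), x ⤳ sK a → x = sK a) →
        ∃ s : Spec (CommRingCat.of A) ⟶ X, s ≫ f = g ∧
          Spec.map (CommRingCat.ofHom (algebraMap A (FractionRing A))) ≫ s = sK) :
    ∃ U : Y.Opens, y ∈ U ∧ IsProper (f ∣_ U) := by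
  obtain ⟨V, hV, hyV, -⟩ := exists_isAffineOpen_mem_and_subset (U := (⊤ : Y.Opens))
    (x := y) trivial
  haveI : IsAffine (V : Scheme.{u}) := hV
  haveI : IsNoetherian (V : Scheme.{u}) := {}
  obtain ⟨U', hyU', hprop⟩ := exists_open_isProper_of_hdvr' (f ∣_ V) ⟨y, hyV⟩
    (fun A _ _ _ _ g hg sK hsK hmax => hdvr_hyp_restrict' f V y hyV H A g hg sK hsK hmax)
  refine ⟨V.ι ''ᵁ U', ⟨⟨y, hyV⟩, hyU', rfl⟩, ?_⟩
  exact (MorphismProperty.arrow_mk_iso_iff @IsProper (morphismRestrictRestrict f V U')).mp hprop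

end Groth.Agent.Lib.Helper4.HdvrCrit1
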