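import Mathlib
import Groth.Agent.Lib.Helper4.HensProper3
import Groth.Agent.Lib.Helper4.PropAt4

/-!
# Local properness of a flat separated morphism of finite type with geometrically connected maximal fibres near a proper nonempty fibre (EGA IV 15.7.10, locally Noetherian base) (helper4)
-/

set_option backward.isDefEq.respectTransparency.types false
set_option synthInstance.maxHeartbeats 400000
set_option autoImplicit false
set_option linter.unusedSectionVars false
set_option linter.style.haveILetI false
set_option linter.unusedSimpArgs false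
universe u v w
open CategoryTheory CategoryTheory.Limits AlgebraicGeometry TopologicalSpace Topology

namespace Groth.Agent.Lib.Helper4.DvrProper1

open Groth.Agent.Lib.Helper4.HensProper3 Groth.Agent.Lib.Helper4.FibMap1

/-- the fibre over a point is nonempty iff the point is in the range -/
theorem nonempty_fiber_of_apply_eq {X Y : Scheme.{u}} (f : X ⟶ Y) (y : Y) (x : X) (hx : f x = y) :
    Nonempty ↥(f.fiber y) := by
  have : x ∈ Set.range (f.fiberι y) := by
    rw [Scheme.Hom.range_fiberι]; exact hx
  obtain ⟨w, -⟩ := this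
  exact ⟨w⟩

theorem exists_apply_eq_of_nonempty_fiber {X Y : Scheme.{u}} (f : X ⟶ Y) (y : Y)
    (h : Nonempty ↥(f.fiber y)) : ∃ x : X, f x = y := by
  obtain ⟨w⟩ := h
  have : f.fiberι y w ∈ Set.range (f.fiberι y) := ⟨w, rfl⟩
  rw [Scheme.Hom.range_fiberι] at this
  exact ⟨_, this⟩

/-- image of the point of `Spec (Frac A)` in `Spec A` -/
theorem specMap_fractionRing_apply (A : Type u) [CommRing A] [IsDomain A]
    (a : ↥(Spec (CommRingCat.of (FractionRing A)))) :
    (Spec.map (CommRingCat.ofHom (algebraMap A (FractionRing A)))) a =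
      genericPoint ↥(Spec (CommRingCat.of A)) := by
  rw [genericPoint_eq_bot_of_affine]
  apply PrimeSpectrum.ext
  show Ideal.comap (algebraMap A (FractionRing A)) a.asIdeal = ⊥
  have ha : a.asIdeal = ⊥ := by
    have hmax : (⊥ : Ideal (FractionRing A)).IsMaximal := Ideal.bot_isMaximal
    exact ((Ideal.eq_bot_or_top a.asIdeal).resolve_right a.2.ne_top)
  rw [ha, ← RingHom.ker_eq_comap_bot]
  exact (RingHom.injective_iff_ker_eq_bot _).mp (IsFractionRing.injective A (FractionRing A))

/-- the DVR lifting property from the DVR properness theorem -/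
theorem exists_lift_of_flat_geomConn {X S : Scheme.{u}} (f : X ⟶ S)
    [Flat f] [IsSeparated f] [LocallyOfFiniteType f] [QuasiCompact f]
    (A : Type u) [CommRing A] [IsDomain A] [IsDiscreteValuationRing A]
    (g : Spec (CommRingCat.of A) ⟶ S)
    (hne : Nonempty ↥(f.fiber (g (IsLocalRing.closedPoint A))))
    (hs : IsProper (f.fiberToSpecResidueField (g (IsLocalRing.closedPoint A))))
    (hgc : GeometricallyConnected
      (f.fiberToSpecResidueField (g (genericPoint ↥(Spec (CommRingCat.of A))))))
    (sK : Spec (CommRingCat.of (FractionRing A)) ⟶ X)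
    (hsK : sK ≫ f = Spec.map (CommRingCat.ofHom (algebraMap A (FractionRing A))) ≫ g) :
    ∃ s : Spec (CommRingCat.of A) ⟶ X, s ≫ f = g ∧
      Spec.map (CommRingCat.ofHom (algebraMap A (FractionRing A))) ≫ s = sK := by
  let p := pullback.snd f g
  haveI : IsProper (p.fiberToSpecResidueField (IsLocalRing.closedPoint A)) :=
    MorphismProperty.of_isPullback (P := @IsProper)
      (isPullback_fiberMap f g (IsLocalRing.closedPoint A)) hs
  haveI : GeometricallyConnected
      (p.fiberToSpecResidueField (genericPoint ↥(Spec (CommRingCat.of A)))) :=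
    MorphismProperty.of_isPullback (P := @GeometricallyConnected)
      (isPullback_fiberMap f g (genericPoint ↥(Spec (CommRingCat.of A)))) hgc
  haveI : Nonempty ↥(p.fiber (IsLocalRing.closedPoint A)) := by
    obtain ⟨x, hx⟩ := exists_apply_eq_of_nonempty_fiber f _ hne
    obtain ⟨z, -, hz⟩ := Scheme.Pullback.exists_preimage_pullback (f := f) (g := g)
      x (IsLocalRing.closedPoint A) hx
    exact nonempty_fiber_of_apply_eq p _ z hz
  have hp : IsProper p := isProper_of_dvr A (pullback f g) p
  have hex : ValuativeCriterion.Existence p := by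
    have h0 : UniversallyClosed p := inferInstance
    rw [UniversallyClosed.eq_valuativeCriterion] at h0
    exact h0.1
  let Sq1 : ValuativeCommSq p :=
    { R := A, K := FractionRing A, i₁ := pullback.lift sK _ hsK, i₂ := 𝟙 _,
      commSq := ⟨by rw [pullback.lift_snd, Category.comp_id]⟩ }
  obtain ⟨⟨ℓ, hℓ1, hℓ2⟩⟩ := (hex Sq1).exists_lift
  refine ⟨ℓ ≫ pullback.fst f g, ?_, ?_⟩
  · rw [Category.assoc, pullback.condition, ← Category.assoc]
    have : ℓ ≫ pullback.snd f g = 𝟙 _ := hℓ2
    rw [this, Category.id_comp]
  · rw [← Category.assoc]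
    have : Spec.map (CommRingCat.ofHom (algebraMap A (FractionRing A))) ≫ ℓ =
        pullback.lift sK _ hsK := hℓ1
    rw [this, pullback.lift_fst]

/-- **S19656** -/
theorem S19656_main {X S : Scheme.{u}} [IsLocallyNoetherian S] (f : X ⟶ S)
    [Flat f] [IsSeparated f] [LocallyOfFiniteType f] [QuasiCompact f]
    (hgen : ∀ η : S, (∀ η' : S, η' ⤳ η → η' = η) → Nonempty ↥(f.fiber η) →
      GeometricallyConnected (f.fiberToSpecResidueField η))
    (s : S) [Nonempty ↥(f.fiber s)] (hs : IsProper (f.fiberToSpecResidueField s)) :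
    ∃ U : S.Opens, s ∈ U ∧ IsProper (f ∣_ U) := by
  apply Groth.Agent.Lib.Helper4.PropAt4.exists_open_isProper_of_dvr_lnoeth f s
  intro A _ _ _ g hg sK hsK hmax
  have hg' : g (IsLocalRing.closedPoint A) = s := hg
  subst hg'
  let a₀ : ↥(Spec (CommRingCat.of (FractionRing A))) := IsLocalRing.closedPoint (FractionRing A)
  have hfa : f (sK a₀) = g (genericPoint ↥(Spec (CommRingCat.of A))) := by
    rw [← Scheme.Hom.comp_apply, hsK, Scheme.Hom.comp_apply, specMap_fractionRing_apply]
  apply exists_lift_of_flat_geomConn f A g inferInstance hs _ sK hsK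
  apply hgen
  · intro η'' hη''
    rw [← hfa] at hη''
    obtain ⟨x'', hx''1, hx''2⟩ := Flat.generalizingMap f hη''
    rw [hmax a₀ x'' hx''1] at hx''2
    rw [← hx''2, hfa]
  · exact nonempty_fiber_of_apply_eq f _ (sK a₀) hfa

end Groth.Agent.Lib.Helper4.DvrProper1
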