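import Mathlib
import Groth.Prelude.Def_FDesc
import Groth.Agent.Lib.Helper4.FibMap1

/-!
# Traces of a subset on the fibres of a base change: preconnectedness and properness (helper4)
-/

set_option backward.isDefEq.respectTransparency.types false
set_option synthInstance.maxHeartbeats 400000
set_option autoImplicit false
set_option linter.unusedSectionVars false
set_option linter.style.haveILetI false
set_option linter.unusedSimpArgs false
universe u v w
open CategoryTheory CategoryTheory.Limits AlgebraicGeometry TopologicalSpace Topology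

namespace Groth.Agent.Lib.Helper4.FibPart1

open Groth.Agent.Lib.Helper4.FibMap1

/-- the trace of a subset on the fibre of a base change is preconnected when the subset is
geometrically preconnected on the corresponding fibre -/
theorem isPreconnected_fibre_part {X Y Y' : Scheme.{u}} (f : X ⟶ Y) (g : Y' ⟶ Y) (y' : Y')
    (Z : Set X)
    (hpre : ∀ (K : Type u) [Field K]
      [Algebra (IsLocalRing.ResidueField (Y.presheaf.stalk (g y'))) K],
      _root_.IsPreconnected
        ((FBase.bcπ (f.fiberToSpecResidueField (g y')) K ≫ f.fiberι (g y')).base ⁻¹' Z)) :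
    _root_.IsPreconnected ((pullback.fst f g) ⁻¹' Z ∩ (pullback.snd f g) ⁻¹' {y'}) := by
  letI : Algebra (IsLocalRing.ResidueField (Y.presheaf.stalk (g y'))) (Y'.residueField y') :=
    (g.residueFieldMap y').hom.toAlgebra
  have h := hpre (Y'.residueField y')
  have hP := isPullback_fiberMap f g y'
  let e : (pullback.snd f g).fiber y' ≅
      FBase.bc (f.fiberToSpecResidueField (g y')) (Y'.residueField y') := hP.isoPullback
  have he : e.hom ≫ FBase.bcπ (f.fiberToSpecResidueField (g y')) (Y'.residueField y') =
      fiberMap f g y' := hP.isoPullback_hom_fst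
  have hcomp : (pullback.snd f g).fiberι y' ≫ pullback.fst f g =
      e.hom ≫ FBase.bcπ (f.fiberToSpecResidueField (g y')) (Y'.residueField y') ≫
        f.fiberι (g y') := by
    rw [← Category.assoc, he, fiberMap_fiberι]
  have him := h.image (e.inv ≫ (pullback.snd f g).fiberι y')
    (e.inv ≫ (pullback.snd f g).fiberι y').continuous.continuousOn
  convert him using 1
  ext z
  constructor
  · rintro ⟨hz1, hz2⟩
    have hz2' : z ∈ Set.range ((pullback.snd f g).fiberι y') := by
      rw [Scheme.Hom.range_fiberι]; exact hz2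
    obtain ⟨w, rfl⟩ := hz2'
    refine ⟨e.hom w, ?_, ?_⟩
    · show (FBase.bcπ (f.fiberToSpecResidueField (g y')) (Y'.residueField y') ≫
        f.fiberι (g y')) (e.hom w) ∈ Z
      rw [← Scheme.Hom.comp_apply, ← hcomp]
      exact hz1
    · rw [← Scheme.Hom.comp_apply, ← Category.assoc, e.hom_inv_id, Category.id_comp]
  · rintro ⟨s, hs, rfl⟩
    refine ⟨?_, ?_⟩
    · show (pullback.fst f g) ((e.inv ≫ (pullback.snd f g).fiberι y') s) ∈ Z
      rw [← Scheme.Hom.comp_apply, Category.assoc, hcomp, ← Category.assoc, ← Category.assoc,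
        e.inv_hom_id, Category.id_comp]
      exact hs
    · have : (e.inv ≫ (pullback.snd f g).fiberι y') s ∈
          Set.range ((pullback.snd f g).fiberι y') := ⟨e.inv s, rfl⟩
      rw [Scheme.Hom.range_fiberι] at this
      exact this

/-- the trace of a subset on the fibre of a base change: relatively open, and the range of a
morphism from a scheme universally closed over the base, when it is so on the original fibre -/
theorem exists_closedFibre_part {X Y Y' : Scheme.{u}} (f : X ⟶ Y) (g : Y' ⟶ Y) (y' : Y')
    (Z : Set X) [IsClosedImmersion (Y'.fromSpecResidueField y')]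
    (hop : IsOpen ((f.fiberι (g y')).base ⁻¹' Z))
    (h2 : IsProper (Scheme.Opens.ι (⟨(f.fiberι (g y')).base ⁻¹' Z, hop⟩ :
      (f.fiber (g y')).Opens) ≫ f.fiberToSpecResidueField (g y'))) :
    (∃ O : Set ↥(pullback f g), IsOpen O ∧ O ∩ (pullback.snd f g) ⁻¹' {y'} =
      (pullback.fst f g) ⁻¹' Z ∩ (pullback.snd f g) ⁻¹' {y'}) ∧
    ∃ (F : Scheme.{u}) (i : F ⟶ pullback f g),
      Set.range i = (pullback.fst f g) ⁻¹' Z ∩ (pullback.snd f g) ⁻¹' {y'} ∧
        UniversallyClosed (i ≫ pullback.snd f g) := by
  have hcond : ∀ z : ↥(pullback f g), f (pullback.fst f g z) = g (pullback.snd f g z) := by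
    intro z
    rw [← Scheme.Hom.comp_apply, ← Scheme.Hom.comp_apply, pullback.condition]
  constructor
  · obtain ⟨OX, hOX, hOXZ⟩ := (Scheme.Hom.isEmbedding (f.fiberι (g y'))).isInducing.isOpen_iff.mp hop
    refine ⟨(pullback.fst f g) ⁻¹' OX, hOX.preimage (pullback.fst f g).continuous, ?_⟩
    ext z
    constructor
    · rintro ⟨hz1, hz2⟩
      refine ⟨?_, hz2⟩
      have hz3 : pullback.fst f g z ∈ Set.range (f.fiberι (g y')) := by
        rw [Scheme.Hom.range_fiberι]
        show f (pullback.fst f g z) = g y'
        rw [hcond]; exact congrArg g hz2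
      obtain ⟨w, hw⟩ := hz3
      have : w ∈ (f.fiberι (g y')) ⁻¹' OX := by
        show f.fiberι (g y') w ∈ OX
        rw [hw]; exact hz1
      rw [hOXZ] at this
      show pullback.fst f g z ∈ Z
      rw [← hw]; exact this
    · rintro ⟨hz1, hz2⟩
      refine ⟨?_, hz2⟩
      have hz3 : pullback.fst f g z ∈ Set.range (f.fiberι (g y')) := by
        rw [Scheme.Hom.range_fiberι]
        show f (pullback.fst f g z) = g y'
        rw [hcond]; exact congrArg g hz2
      obtain ⟨w, hw⟩ := hz3
      have : w ∈ (f.fiberι (g y')) ⁻¹' OX := by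
        rw [hOXZ]
        show f.fiberι (g y') w ∈ Z
        rw [hw]; exact hz1
      show pullback.fst f g z ∈ OX
      rw [← hw]; exact this
  · obtain ⟨V₁, hV₁⟩ : ∃ V₁ : (f.fiber (g y')).Opens,
        V₁ = ⟨(f.fiberι (g y')).base ⁻¹' Z, hop⟩ := ⟨_, rfl⟩
    rw [← hV₁] at h2
    have hV₁mem : ∀ w : ↥(f.fiber (g y')), w ∈ V₁ ↔ f.fiberι (g y') w ∈ Z := by
      intro w; rw [hV₁]; rfl
    let WF : ((pullback.snd f g).fiber y').Opens := (fiberMap f g y') ⁻¹ᵁ V₁
    have sq1 : IsPullback (fiberMap f g y' ∣_ V₁) WF.ι V₁.ι (fiberMap f g y') :=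
      isPullback_morphismRestrict _ _
    have sq2 := isPullback_fiberMap f g y'
    have big := sq1.paste_vert sq2
    haveI hprop : IsProper (WF.ι ≫ (pullback.snd f g).fiberToSpecResidueField y') :=
      MorphismProperty.of_isPullback (P := @IsProper) big h2
    refine ⟨↑WF, WF.ι ≫ (pullback.snd f g).fiberι y', ?_, ?_⟩
    · rw [Scheme.Hom.comp_base, TopCat.coe_comp, Set.range_comp, Scheme.Opens.range_ι]
      ext z
      constructor
      · rintro ⟨w, hw, rfl⟩
        refine ⟨?_, ?_⟩
        · have hw' : fiberMap f g y' w ∈ V₁ := hw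
          rw [hV₁mem, ← Scheme.Hom.comp_apply, fiberMap_fiberι, Scheme.Hom.comp_apply] at hw'
          exact hw'
        · have : (pullback.snd f g).fiberι y' w ∈ Set.range ((pullback.snd f g).fiberι y') :=
            ⟨w, rfl⟩
          rw [Scheme.Hom.range_fiberι] at this
          exact this
      · rintro ⟨hz1, hz2⟩
        have hz2' : z ∈ Set.range ((pullback.snd f g).fiberι y') := by
          rw [Scheme.Hom.range_fiberι]; exact hz2
        obtain ⟨w, rfl⟩ := hz2'
        refine ⟨w, ?_, rfl⟩
        show fiberMap f g y' w ∈ V₁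
        rw [hV₁mem, ← Scheme.Hom.comp_apply, fiberMap_fiberι, Scheme.Hom.comp_apply]
        exact hz1
    · have hfac : (WF.ι ≫ (pullback.snd f g).fiberι y') ≫ pullback.snd f g =
          (WF.ι ≫ (pullback.snd f g).fiberToSpecResidueField y') ≫
            Y'.fromSpecResidueField y' := by
        rw [Category.assoc, Category.assoc]
        congr 1
        exact pullback.condition
      rw [hfac]
      infer_instance

end Groth.Agent.Lib.Helper4.FibPart1
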