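import Mathlib
import Groth.Agent.Lib.Helper4.HensProper2

/-!
# Henselian local base: a universally closed relatively open part of the closed fibre is the closed fibre of a clopen proper part (helper4)
-/

set_option backward.isDefEq.respectTransparency.types false
set_option synthInstance.maxHeartbeats 400000
set_option autoImplicit false
set_option linter.unusedSectionVars false
set_option linter.style.haveILetI false
set_option linter.unusedSimpArgs false
universe u v w
open CategoryTheory CategoryTheory.Limits AlgebraicGeometry TopologicalSpace Topology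

namespace Groth.Agent.Lib.Helper4.HensProper4

open Groth.Agent.Lib.Helper4.HensProper1 Groth.Agent.Lib.Helper4.HensProper2

/-- over a Noetherian Henselian local ring, a relatively open part of the closed fibre of a
separated scheme of finite type which is universally closed over the base is the closed fibre
of an open and closed subscheme proper over the base -/
theorem exists_clopen_proper_part' (A : Type u) [CommRing A] [HenselianLocalRing A]
    [IsNoetherianRing A] {X : Scheme.{u}} (p : X ⟶ Spec (CommRingCat.of A)) [IsSeparated p]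
    [LocallyOfFiniteType p] [QuasiCompact p]
    (Es : Set X) (O : Set X) (hO : IsOpen O)
    (hOEs : O ∩ p ⁻¹' {IsLocalRing.closedPoint A} = Es)
    {F : Scheme.{u}} (i : F ⟶ X) (hi : Set.range i = Es) [UniversallyClosed (i ≫ p)] :
    ∃ X₁ : X.Opens, IsClosed (X₁ : Set X) ∧
      (X₁ : Set X) ∩ p ⁻¹' {IsLocalRing.closedPoint A} = Es ∧ IsProper (X₁.ι ≫ p) := by
  haveI : IsNoetherian (Spec (CommRingCat.of A)) := inferInstance
  have hXln : IsLocallyNoetherian X := LocallyOfFiniteType.isLocallyNoetherian p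
  have hXc : CompactSpace X := QuasiCompact.compactSpace_of_compactSpace p
  have hXn : IsNoetherian X := { }
  have hirr : (irreducibleComponents X).Finite := finite_irreducibleComponents_of_isNoetherian
  have hEsub : Es ⊆ p ⁻¹' {IsLocalRing.closedPoint A} := by
    rw [← hOEs]; exact Set.inter_subset_right
  obtain ⟨U₀, hU₀d, n, X', π, j, hj, hjq, hπ, hsurj, hiso, hdense, -, -⟩ :=
    Groth.Agent.Helper1.Chow.exists_dense_conclusion p hirr
  haveI := hj
  haveI := hπ
  haveI := hsurj
  obtain ⟨q, hqdef⟩ : ∃ q : CohB1.ProjSpaceOver n (Spec (CommRingCat.of A)) ⟶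
      Spec (CommRingCat.of A), q = CohB1.ProjSpaceOver.toBase n (Spec (CommRingCat.of A)) :=
    ⟨_, rfl⟩
  rw [← hqdef] at hjq
  haveI : IsProper q := by
    rw [hqdef]; exact Groth.Agent.Helper1.HProj.isProper_toBase n _
  -- the part `Es` has closed image
  have hFc : IsClosed (j '' (π ⁻¹' Es)) := by
    let ψ : pullback π i ⟶ CohB1.ProjSpaceOver n _ := pullback.fst _ _ ≫ j
    have hψ : ψ ≫ q = pullback.snd π i ≫ i ≫ p := by
      show (pullback.fst _ _ ≫ j) ≫ q = _
      rw [Category.assoc, hjq, ← Category.assoc, pullback.condition, Category.assoc]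
    haveI : UniversallyClosed (ψ ≫ q) := by rw [hψ]; infer_instance
    haveI : UniversallyClosed ψ := UniversallyClosed.of_comp_of_isSeparated ψ q
    have hr : Set.range ψ = j '' (π ⁻¹' Es) := by
      show Set.range (pullback.fst π i ≫ j) = _
      rw [Scheme.Hom.comp_base, TopCat.coe_comp, Set.range_comp, Scheme.Pullback.range_fst, hi]
    rw [← hr]
    exact ψ.isClosedMap.isClosed_range
  have hqj : ∀ x' : X', q (j x') = p (π x') := by
    intro x'
    rw [← Scheme.Hom.comp_apply, hjq, Scheme.Hom.comp_apply]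
  have hOo : IsOpen (coborder (Set.range j)) :=
    isLocallyClosed_iff_isOpen_coborder.mp j.isLocallyClosed_range
  -- an open set of the projective space inducing `π ⁻¹' O` on `X'`
  obtain ⟨O', hO', hO'j⟩ : ∃ O' : Set ↥(CohB1.ProjSpaceOver n (Spec (CommRingCat.of A))),
      IsOpen O' ∧ j ⁻¹' O' = π ⁻¹' O := by
    have h1 : IsOpen (π ⁻¹' O) := hO.preimage π.continuous
    obtain ⟨O', hO', h2⟩ := j.isEmbedding.isInducing.isOpen_iff.mp h1
    exact ⟨O', hO', h2⟩
  have hF : (O' ∩ coborder (Set.range j)) ∩ (closure (Set.range j) ∩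
      q ⁻¹' {IsLocalRing.closedPoint A}) = j '' (π ⁻¹' Es) := by
    have h0 : (O' ∩ coborder (Set.range j)) ∩ (closure (Set.range j) ∩
        q ⁻¹' {IsLocalRing.closedPoint A}) = O' ∩ ((coborder (Set.range j) ∩
          closure (Set.range j)) ∩ q ⁻¹' {IsLocalRing.closedPoint A}) := by
      ext z; simp only [Set.mem_inter_iff]; tauto
    rw [h0, coborder_inter_closure]
    ext z
    constructor
    · rintro ⟨hzO, ⟨x', rfl⟩, hz⟩
      refine ⟨x', ?_, rfl⟩
      show π x' ∈ Es
      rw [← hOEs]
      refine ⟨?_, ?_⟩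
      · have : x' ∈ j ⁻¹' O' := hzO
        rw [hO'j] at this
        exact this
      · show p (π x') = _
        rw [← hqj]; exact hz
    · rintro ⟨x', hx', rfl⟩
      have hx'' : π x' ∈ O ∩ p ⁻¹' {IsLocalRing.closedPoint A} := by rw [hOEs]; exact hx'
      refine ⟨?_, ⟨x', rfl⟩, ?_⟩
      · have : x' ∈ π ⁻¹' O := hx''.1
        rw [← hO'j] at this
        exact this
      · show q (j x') = _
        rw [hqj]; exact hx''.2
  obtain ⟨E, hEc, hCE, hEC, hEs⟩ := exists_isClopen_extending_closed A q (closure (Set.range j))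
    isClosed_closure _ hFc _ (hO'.inter hOo) hF
  -- E lies in the range of j
  have hErange : E ⊆ Set.range j := by
    have hD : IsClosed (closure (Set.range j) \ Set.range j) := by
      have h2 : closure (Set.range j) \ Set.range j = (coborder (Set.range j))ᶜ := by
        unfold coborder
        rw [compl_compl]
      rw [h2]
      exact hOo.isClosed_compl
    have hempty := eq_empty_of_isClosed_of_disjoint_closedFibre A q q.isClosedMap
      (E ∩ (closure (Set.range j) \ Set.range j)) (hEc.inter hD) (by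
        rw [Set.eq_empty_iff_forall_notMem]
        rintro z ⟨⟨hzE, hzD⟩, hzs⟩
        have : z ∈ E ∩ q ⁻¹' {IsLocalRing.closedPoint A} := ⟨hzE, hzs⟩
        rw [hEs] at this
        obtain ⟨x', -, rfl⟩ := this
        exact hzD.2 ⟨x', rfl⟩)
    intro z hz
    by_contra hnot
    have : z ∈ E ∩ (closure (Set.range j) \ Set.range j) := ⟨hz, hEC hz, hnot⟩
    rw [hempty] at this
    exact this
  have hE₁c : IsClosed (j ⁻¹' E) := hEc.preimage j.continuous
  have hE₁o : IsOpen (j ⁻¹' E) := by
    have : j ⁻¹' E = (j ⁻¹' (closure (Set.range j) \ E))ᶜ := by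
      ext x'
      simp only [Set.mem_preimage, Set.mem_compl_iff, Set.mem_sdiff, not_and, not_not]
      constructor
      · intro h _; exact h
      · intro h; exact h (subset_closure ⟨x', rfl⟩)
    rw [this]
    exact (hCE.preimage j.continuous).isOpen_compl
  have hjE : j '' (j ⁻¹' E) = E := Set.image_preimage_eq_of_subset hErange
  have hπcl : IsClosedMap π := π.isClosedMap
  have hX₁c : IsClosed (π '' (j ⁻¹' E)) := hπcl _ hE₁c
  have hX₂c : IsClosed (π '' (j ⁻¹' E)ᶜ) := hπcl _ hE₁o.isClosed_compl
  have hcover : π '' (j ⁻¹' E) ∪ π '' (j ⁻¹' E)ᶜ = Set.univ := by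
    rw [← Set.image_union, Set.union_compl_self, Set.image_univ]
    exact Set.range_eq_univ.mpr π.surjective
  -- points of `E` over the closed point come from `Es`
  have hEfib : ∀ e : X', j e ∈ E → p (π e) = IsLocalRing.closedPoint A → π e ∈ Es := by
    intro e he hpe
    have : j e ∈ E ∩ q ⁻¹' {IsLocalRing.closedPoint A} := ⟨he, by show q (j e) = _; rw [hqj]; exact hpe⟩
    rw [hEs] at this
    obtain ⟨x', hx', hx'e⟩ := this
    have : x' = e := j.isEmbedding.injective hx'e
    rw [← this]
    exact hx'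
  have hX₂s : ∀ x ∈ π '' (j ⁻¹' E)ᶜ, x ∉ Es := by
    rintro _ ⟨x', hx', rfl⟩ hpx
    apply hx'
    show j x' ∈ E
    have : j x' ∈ E ∩ q ⁻¹' {IsLocalRing.closedPoint A} := by
      rw [hEs]; exact ⟨x', hpx, rfl⟩
    exact this.1
  have hdisj : Disjoint (π '' (j ⁻¹' E)) (π '' (j ⁻¹' E)ᶜ) := by
    rw [Set.disjoint_left]
    rintro _ ⟨e, he, rfl⟩ hx2
    have he' : j e ∈ E := he
    obtain ⟨z, hz1, hz2⟩ := q.isClosedMap.specializingMap
      (IsLocalRing.specializes_closedPoint (q (j e)))
    have hzE : z ∈ E := hz1.mem_closed hEc he'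
    obtain ⟨e', rfl⟩ := hErange hzE
    have hee' : e ⤳ e' := j.isEmbedding.isInducing.specializes_iff.mp hz1
    have h1 : π e ⤳ π e' := hee'.map π.continuous
    have h2 : π e' ∈ π '' (j ⁻¹' E)ᶜ := h1.mem_closed hX₂c hx2
    apply hX₂s _ h2
    apply hEfib e' hzE
    rw [← hqj]; exact hz2
  have hX₁o : IsOpen (π '' (j ⁻¹' E)) := by
    have : π '' (j ⁻¹' E) = (π '' (j ⁻¹' E)ᶜ)ᶜ := by
      apply Set.Subset.antisymm
      · exact Set.subset_compl_iff_disjoint_right.mpr hdisj
      · intro x hx
        have := hcover.ge (Set.mem_univ x)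
        rcases this with h | h
        · exact h
        · exact (hx h).elim
    rw [this]
    exact hX₂c.isOpen_compl
  obtain ⟨X₁, hX₁⟩ : ∃ X₁ : X.Opens, (X₁ : Set X) = π '' (j ⁻¹' E) := ⟨⟨_, hX₁o⟩, rfl⟩
  refine ⟨X₁, by rw [hX₁]; exact hX₁c, ?_, ?_⟩
  · apply Set.Subset.antisymm
    · rintro x ⟨hx1, hx2⟩
      rw [hX₁] at hx1
      obtain ⟨e, he, rfl⟩ := hx1
      exact hEfib e he hx2
    · intro x hx
      refine ⟨?_, hEsub hx⟩
      rw [hX₁]
      have := hcover.ge (Set.mem_univ x)
      rcases this with h | h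
      · exact h
      · exact (hX₂s x h hx).elim
  · have hpre : ((π ⁻¹ᵁ X₁ : X'.Opens) : Set X') = j ⁻¹' E := by
      ext x'
      constructor
      · intro hx'
        have h1 : π x' ∈ π '' (j ⁻¹' E) := by rw [← hX₁]; exact hx'
        by_contra hnot
        exact (Set.disjoint_left.mp hdisj h1) ⟨x', hnot, rfl⟩
      · intro hx'
        show π x' ∈ (X₁ : Set X)
        rw [hX₁]
        exact ⟨x', hx', rfl⟩
    haveI : Surjective (π ∣_ X₁) := Groth.Agent.Lib.Helper4.PropAt1.surjective_morphismRestrict π X₁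
    have hfac : (π ∣_ X₁) ≫ X₁.ι ≫ p = ((π ⁻¹ᵁ X₁).ι ≫ j) ≫ q := by
      rw [← Category.assoc, morphismRestrict_ι, Category.assoc, Category.assoc, hjq]
    haveI : IsClosedImmersion ((π ⁻¹ᵁ X₁).ι ≫ j) := by
      apply IsClosedImmersion.of_isPreimmersion
      rw [Scheme.Hom.comp_base, TopCat.coe_comp, Set.range_comp, Scheme.Opens.range_ι, hpre, hjE]
      exact hEc
    haveI : UniversallyClosed ((π ∣_ X₁) ≫ X₁.ι ≫ p) := by
      rw [hfac]; infer_instance
    haveI : UniversallyClosed (X₁.ι ≫ p) := UniversallyClosed.of_comp_surjective (π ∣_ X₁) _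
    exact { }

end Groth.Agent.Lib.Helper4.HensProper4
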