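import Mathlib
import Groth.Prelude.Def_FDesc
import Groth.Agent.Lib.Helper4.FibPart1
import Groth.Agent.Lib.Helper4.HensProper4
import Groth.Agent.Lib.Helper4.DvrProper1

/-!
# Key lifting lemma over a Henselian DVR for universally submersive fibrewise geometrically connected subsets (EGA IV 15.7) (helper4)
-/

set_option backward.isDefEq.respectTransparency.types false
set_option synthInstance.maxHeartbeats 400000
set_option autoImplicit false
set_option linter.unusedSectionVars false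
set_option linter.style.haveILetI false
set_option linter.unusedSimpArgs false
universe u v w
open CategoryTheory CategoryTheory.Limits AlgebraicGeometry TopologicalSpace Topology

namespace Groth.Agent.Lib.Helper4.KeyLift1

open Groth.Agent.Lib.Helper4.FibMap1 Groth.Agent.Lib.Helper4.FibPart1
  Groth.Agent.Lib.Helper4.HensProper2 Groth.Agent.Lib.Helper4.HensProper4
  Groth.Agent.Lib.Helper4.DvrProper1

/-- **Key lemma** (EGA IV 15.7.x): over a Henselian discrete valuation ring, a `K`-point of a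
universally submersive, fibrewise geometrically connected subset `Z` whose closed fibre part is
proper extends to an `A`-point specializing into `Z` -/
theorem exists_lift_mem_of_henselian_dvr {X Y : Scheme.{u}} (f : X ⟶ Y) [IsSeparated f]
    [LocallyOfFiniteType f] [QuasiCompact f] (Z : Set X)
    (A : Type u) [CommRing A] [IsDomain A] [IsDiscreteValuationRing A] [HenselianLocalRing A]
    (g : Spec (CommRingCat.of A) ⟶ Y)
    (hne : ∀ a : ↥(Spec (CommRingCat.of A)), g a ∈ f '' Z)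
    (hpre : ∀ (K : Type u) [Field K] [Algebra (IsLocalRing.ResidueField
        (Y.presheaf.stalk (g (genericPoint ↥(Spec (CommRingCat.of A)))))) K],
      _root_.IsPreconnected ((FBase.bcπ (f.fiberToSpecResidueField
        (g (genericPoint ↥(Spec (CommRingCat.of A))))) K ≫
          f.fiberι (g (genericPoint ↥(Spec (CommRingCat.of A))))).base ⁻¹' Z))
    (hop : IsOpen ((f.fiberι (g (IsLocalRing.closedPoint A))).base ⁻¹' Z))
    (h2 : IsProper (Scheme.Opens.ι (⟨(f.fiberι (g (IsLocalRing.closedPoint A))).base ⁻¹' Z, hop⟩ :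
      (f.fiber (g (IsLocalRing.closedPoint A))).Opens) ≫
        f.fiberToSpecResidueField (g (IsLocalRing.closedPoint A))))
    (h3 : ∀ (E : Set ↥(Spec (CommRingCat.of A))), E ⊆ g.base ⁻¹' (f.base '' Z) →
      (∃ W : Set ↥(pullback f g), IsOpen W ∧
        W ∩ (pullback.fst f g).base ⁻¹' Z =
          (pullback.snd f g).base ⁻¹' E ∩ (pullback.fst f g).base ⁻¹' Z) →
      ∃ V : Set ↥(Spec (CommRingCat.of A)), IsOpen V ∧ V ∩ g.base ⁻¹' (f.base '' Z) = E)
    (sK : Spec (CommRingCat.of (FractionRing A)) ⟶ X)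
    (hsK : sK ≫ f = Spec.map (CommRingCat.ofHom (algebraMap A (FractionRing A))) ≫ g)
    (hsKZ : ∀ a, sK a ∈ Z) :
    ∃ σ : Spec (CommRingCat.of A) ⟶ X, σ ≫ f = g ∧
      Spec.map (CommRingCat.ofHom (algebraMap A (FractionRing A))) ≫ σ = sK ∧
      σ (IsLocalRing.closedPoint A) ∈ Z := by
  obtain ⟨p₁, hp₁⟩ : ∃ p₁ : pullback f g ⟶ X, p₁ = pullback.fst f g := ⟨_, rfl⟩
  obtain ⟨p₂, hp₂⟩ : ∃ p₂ : pullback f g ⟶ Spec (CommRingCat.of A), p₂ = pullback.snd f g :=
    ⟨_, rfl⟩
  haveI : IsSeparated p₂ := by rw [hp₂]; infer_instance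
  haveI : LocallyOfFiniteType p₂ := by rw [hp₂]; infer_instance
  haveI : QuasiCompact p₂ := by rw [hp₂]; infer_instance
  haveI : IsClosedImmersion ((Spec (CommRingCat.of A)).fromSpecResidueField
      (IsLocalRing.closedPoint A)) :=
    isClosed_singleton_iff_isClosedImmersion.mp (IsLocalRing.isClosed_singleton_closedPoint A)
  obtain ⟨⟨O, hO, hOE⟩, F, i, hi, hiUC⟩ :=
    exists_closedFibre_part f g (IsLocalRing.closedPoint A) Z hop h2
  rw [← hp₁, ← hp₂] at hOE hi
  rw [← hp₂] at hiUC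
  haveI := hiUC
  obtain ⟨X₁, hX₁c, hX₁s, hX₁p⟩ := exists_clopen_proper_part' A p₂
    (p₁ ⁻¹' Z ∩ p₂ ⁻¹' {IsLocalRing.closedPoint A}) O hO hOE i hi
  -- the generic part is preconnected
  have hZη : _root_.IsPreconnected
      (p₁ ⁻¹' Z ∩ p₂ ⁻¹' {genericPoint ↥(Spec (CommRingCat.of A))}) := by
    rw [hp₁, hp₂]
    exact isPreconnected_fibre_part f g _ Z hpre
  -- the `K`-point
  obtain ⟨x', hx'⟩ : ∃ x' : Spec (CommRingCat.of (FractionRing A)) ⟶ pullback f g,
      x' = pullback.lift sK _ hsK := ⟨_, rfl⟩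
  have hx'1 : x' ≫ p₁ = sK := by rw [hx', hp₁, pullback.lift_fst]
  have hx'2 : x' ≫ p₂ = Spec.map (CommRingCat.ofHom (algebraMap A (FractionRing A))) := by
    rw [hx', hp₂, pullback.lift_snd]
  have hx'mem : ∀ a, x' a ∈ p₁ ⁻¹' Z ∩ p₂ ⁻¹' {genericPoint ↥(Spec (CommRingCat.of A))} := by
    intro a
    refine ⟨?_, ?_⟩
    · show p₁ (x' a) ∈ Z
      rw [← Scheme.Hom.comp_apply, hx'1]; exact hsKZ a
    · show p₂ (x' a) = _
      rw [← Scheme.Hom.comp_apply, hx'2, specMap_fractionRing_apply]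
  -- the generic part lies in X₁
  have hsub : p₁ ⁻¹' Z ∩ p₂ ⁻¹' {genericPoint ↥(Spec (CommRingCat.of A))} ⊆ (X₁ : Set _) := by
    by_contra hnot
    obtain ⟨z₀, hz₀, hz₀X⟩ := Set.not_subset.mp hnot
    have hdisj : (p₁ ⁻¹' Z ∩ p₂ ⁻¹' {genericPoint ↥(Spec (CommRingCat.of A))}) ∩
        (X₁ : Set _) = ∅ := by
      by_contra hne2
      obtain ⟨z₁, hz₁, hz₁X⟩ := Set.nonempty_iff_ne_empty.mpr hne2
      obtain ⟨w, -, hw1, hw2⟩ := hZη (X₁ : Set _) (X₁ : Set _)ᶜ X₁.2 hX₁c.isOpen_compl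
        (by rw [Set.union_compl_self]; exact Set.subset_univ _)
        ⟨z₁, hz₁, hz₁X⟩ ⟨z₀, hz₀, hz₀X⟩
      exact hw2 hw1
    -- submersiveness gives a contradiction
    have hE : ({IsLocalRing.closedPoint A} : Set ↥(Spec (CommRingCat.of A))) ⊆
        g.base ⁻¹' (f.base '' Z) := by
      intro a ha
      have ha' : a = IsLocalRing.closedPoint A := ha
      rw [ha']
      exact hne _
    obtain ⟨V, hV, hVE⟩ := h3 {IsLocalRing.closedPoint A} hE ⟨(X₁ : Set _), X₁.2, by
      rw [← hp₁, ← hp₂]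
      ext z
      constructor
      · rintro ⟨hz1, hz2⟩
        refine ⟨?_, hz2⟩
        rcases eq_closedPoint_or_eq_genericPoint A (p₂ z) with h | h
        · exact h
        · exfalso
          have : z ∈ (p₁ ⁻¹' Z ∩ p₂ ⁻¹' {genericPoint ↥(Spec (CommRingCat.of A))}) ∩
              (X₁ : Set _) := ⟨⟨hz2, h⟩, hz1⟩
          rw [hdisj] at this
          exact this
      · rintro ⟨hz1, hz2⟩
        refine ⟨?_, hz2⟩
        have : z ∈ (X₁ : Set _) ∩ p₂ ⁻¹' {IsLocalRing.closedPoint A} := by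
          rw [hX₁s]; exact ⟨hz2, hz1⟩
        exact this.1⟩
    have hsV : IsLocalRing.closedPoint A ∈ V := by
      have : IsLocalRing.closedPoint A ∈ V ∩ g.base ⁻¹' (f.base '' Z) := by
        rw [hVE]; rfl
      exact this.1
    have hηV : genericPoint ↥(Spec (CommRingCat.of A)) ∈ V :=
      (genericPoint_specializes (IsLocalRing.closedPoint A)).mem_open hV hsV
    have hη : genericPoint ↥(Spec (CommRingCat.of A)) ∈ V ∩ g.base ⁻¹' (f.base '' Z) :=
      ⟨hηV, hne _⟩
    rw [hVE] at hη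
    have heq : genericPoint ↥(Spec (CommRingCat.of A)) = IsLocalRing.closedPoint A := hη
    rw [genericPoint_eq_bot_of_affine] at heq
    have h1 := congrArg PrimeSpectrum.asIdeal heq
    have h2' : (⊥ : Ideal A) = IsLocalRing.maximalIdeal A := h1
    exact IsDiscreteValuationRing.not_a_field A h2'.symm
  -- lift the `K`-point to `X₁` and extend
  have hrange : Set.range x' ⊆ Set.range X₁.ι := by
    rintro _ ⟨a, rfl⟩
    rw [Scheme.Opens.range_ι]
    exact hsub (hx'mem a)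
  obtain ⟨x₁, hx₁⟩ : ∃ x₁ : Spec (CommRingCat.of (FractionRing A)) ⟶ (X₁ : Scheme.{u}),
      x₁ ≫ X₁.ι = x' := ⟨IsOpenImmersion.lift X₁.ι x' hrange, IsOpenImmersion.lift_fac _ _ _⟩
  have hex : ValuativeCriterion.Existence (X₁.ι ≫ p₂) := by
    have h0 : UniversallyClosed (X₁.ι ≫ p₂) := inferInstance
    rw [UniversallyClosed.eq_valuativeCriterion] at h0
    exact h0.1
  let Sq1 : ValuativeCommSq (X₁.ι ≫ p₂) :=
    { R := A, K := FractionRing A, i₁ := x₁, i₂ := 𝟙 _,
      commSq := ⟨by rw [← Category.assoc, hx₁, hx'2, Category.comp_id]⟩ }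
  obtain ⟨⟨ℓ, hℓ1, hℓ2⟩⟩ := (hex Sq1).exists_lift
  have hℓ1' : Spec.map (CommRingCat.ofHom (algebraMap A (FractionRing A))) ≫ ℓ = x₁ := hℓ1
  have hℓ2' : ℓ ≫ X₁.ι ≫ p₂ = 𝟙 _ := hℓ2
  have hcond : p₁ ≫ f = p₂ ≫ g := by rw [hp₁, hp₂]; exact pullback.condition
  refine ⟨ℓ ≫ X₁.ι ≫ p₁, ?_, ?_, ?_⟩
  · rw [Category.assoc, Category.assoc, hcond, ← Category.assoc X₁.ι, ← Category.assoc ℓ,
      hℓ2', Category.id_comp]
  · rw [← Category.assoc, hℓ1', ← Category.assoc, hx₁, hx'1]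
  · have hz : (ℓ ≫ X₁.ι) (IsLocalRing.closedPoint A) ∈
        (X₁ : Set _) ∩ p₂ ⁻¹' {IsLocalRing.closedPoint A} := by
      refine ⟨?_, ?_⟩
      · rw [Scheme.Hom.comp_apply]
        exact (ℓ (IsLocalRing.closedPoint A)).2
      · show p₂ ((ℓ ≫ X₁.ι) (IsLocalRing.closedPoint A)) = _
        rw [← Scheme.Hom.comp_apply, Category.assoc, hℓ2']
        rfl
    rw [hX₁s] at hz
    have := hz.1
    rw [← Category.assoc, Scheme.Hom.comp_apply]
    exact this

end Groth.Agent.Lib.Helper4.KeyLift1
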