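import Mathlib
import Groth.Prelude.Def_FDesc
import Groth.Agent.Lib.Helper4.KeyLift1
import Groth.Agent.Lib.Helper4.HdvrCrit1
import Groth.Agent.Lib.Helper4.OpenNoeth1
import Groth.Agent.Lib.Helper4.PropAt3

/-!
# EGA IV 15.7: properness at a point of the closure of a universally submersive, fibrewise geometrically connected constructible subset (helper4)
-/

set_option backward.isDefEq.respectTransparency.types false
set_option synthInstance.maxHeartbeats 400000
set_option autoImplicit false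
set_option linter.unusedSectionVars false
set_option linter.style.haveILetI false
set_option linter.unusedSimpArgs false
universe u v w
open CategoryTheory CategoryTheory.Limits AlgebraicGeometry TopologicalSpace Topology

namespace Groth.Agent.Lib.Helper4.ConstrProper1

open Groth.Agent.Lib.Helper4.KeyLift1 Groth.Agent.Lib.Helper4.HdvrCrit1
  Groth.Agent.Lib.Helper4.HensProper2 Groth.Agent.Lib.Helper4.DvrProper1

/-- points of the closure of a locally constructible set are specializations of its points -/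
theorem exists_mem_specializes_of_mem_closure {X : Scheme.{u}} (Z : Set X)
    (hZ : IsLocallyConstructible Z) (t : X) (ht : t ∈ closure Z) : ∃ z ∈ Z, z ⤳ t := by
  by_contra hcon
  push Not at hcon
  have h1 : Zᶜ ∈ nhds t :=
    Groth.Agent.Lib.Helper4.OpenNoeth1.mem_nhds_of_isLocallyConstructible Zᶜ
      (Groth.Agent.Lib.Helper4.OpenNoeth1.isLocallyConstructible_compl hZ) t
      (fun z hz hzZ => hcon z hzZ hz)
  rw [mem_closure_iff_nhds] at ht
  obtain ⟨w, hw1, hw2⟩ := ht _ h1
  exact hw1 hw2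

/-- lifting a morphism from a reduced scheme through the reduced induced closed subscheme -/
theorem exists_lift_subscheme {W X : Scheme.{u}} [IsReduced W] (σ : W ⟶ X)
    (C : TopologicalSpace.Closeds X) (hσ : Set.range σ ⊆ (C : Set X)) :
    ∃ s : W ⟶ (Scheme.IdealSheafData.vanishingIdeal C).subscheme,
      s ≫ (Scheme.IdealSheafData.vanishingIdeal C).subschemeι = σ := by
  have hle : (Scheme.IdealSheafData.vanishingIdeal C).subschemeι.ker ≤ σ.ker := by
    rw [Scheme.IdealSheafData.ker_subschemeι]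
    exact Groth.Agent.Lib.Helper4.PropAt2.vanishingIdeal_le_ker_of_isReduced σ C hσ
  exact ⟨IsClosedImmersion.lift _ σ hle, IsClosedImmersion.lift_fac _ _ _⟩

/-- Step 1 of S4977: the closure of `Z` is proper over `Y` at `y` -/
theorem exists_open_isProper_closure {X Y : Scheme.{u}} [IsLocallyNoetherian Y] (y : Y)
    (f : X ⟶ Y) [IsSeparated f] [LocallyOfFiniteType f] [QuasiCompact f] (Z : Set X)
    (hZ : Topology.IsLocallyConstructible Z)
    (h1 : ∀ y' : Y, y' ⤳ y → (∃ x ∈ Z, f.base x = y') ∧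
      ∀ (K : Type u) [Field K] [Algebra (IsLocalRing.ResidueField (Y.presheaf.stalk y')) K],
        _root_.IsPreconnected
          ((FBase.bcπ (f.fiberToSpecResidueField y') K ≫ f.fiberι y').base ⁻¹' Z))
    (hop : IsOpen ((f.fiberι y).base ⁻¹' Z))
    (h2 : IsProper (Scheme.Opens.ι (⟨(f.fiberι y).base ⁻¹' Z, hop⟩ : (f.fiber y).Opens) ≫
      f.fiberToSpecResidueField y))
    (h3 : ∀ (Y' : Scheme.{u}) (h : Y' ⟶ Y) (E : Set Y'), E ⊆ h.base ⁻¹' (f.base '' Z) →
      (∃ W : Set ↥(pullback f h), IsOpen W ∧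
        W ∩ (pullback.fst f h).base ⁻¹' Z =
          (pullback.snd f h).base ⁻¹' E ∩ (pullback.fst f h).base ⁻¹' Z) →
      ∃ V : Set Y', IsOpen V ∧ V ∩ h.base ⁻¹' (f.base '' Z) = E) :
    ∃ U : Y.Opens, y ∈ U ∧ IsProper (((Scheme.IdealSheafData.vanishingIdeal
      (⟨closure Z, isClosed_closure⟩ : TopologicalSpace.Closeds X)).subschemeι ≫ f) ∣_ U) := by
  obtain ⟨C, hC⟩ : ∃ C : TopologicalSpace.Closeds X, C = ⟨closure Z, isClosed_closure⟩ :=
    ⟨_, rfl⟩
  rw [← hC]
  have hCZ : (C : Set X) = closure Z := by rw [hC]; rfl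
  obtain ⟨ιT, hιT⟩ : ∃ ιT : (Scheme.IdealSheafData.vanishingIdeal C).subscheme ⟶ X,
      ιT = (Scheme.IdealSheafData.vanishingIdeal C).subschemeι := ⟨_, rfl⟩
  rw [← hιT]
  haveI : IsClosedImmersion ιT := by rw [hιT]; infer_instance
  have hrange : Set.range ιT = closure Z := by
    rw [hιT, Scheme.IdealSheafData.range_subschemeι,
      Scheme.IdealSheafData.coe_support_vanishingIdeal, hCZ]
  apply exists_open_isProper_of_hdvr_lnoeth (ιT ≫ f) y
  intro A _ _ _ _ g hg sK hsK hmax
  have hg' : g (IsLocalRing.closedPoint A) = y := hg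
  subst hg'
  have hsKX : (sK ≫ ιT) ≫ f =
      Spec.map (CommRingCat.ofHom (algebraMap A (FractionRing A))) ≫ g := by
    rw [Category.assoc]; exact hsK
  have hsKZ : ∀ a, (sK ≫ ιT) a ∈ Z := by
    intro a
    rw [Scheme.Hom.comp_apply]
    have ht : ιT (sK a) ∈ closure Z := by rw [← hrange]; exact ⟨_, rfl⟩
    obtain ⟨z, hzZ, hzt⟩ := exists_mem_specializes_of_mem_closure Z hZ _ ht
    have hz' : z ∈ Set.range ιT := by rw [hrange]; exact subset_closure hzZ
    obtain ⟨zT, rfl⟩ := hz'
    have hsp : zT ⤳ sK a := ιT.isEmbedding.isInducing.specializes_iff.mp hzt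
    rw [← hmax a zT hsp]
    exact hzZ
  have hgen : ∀ a : ↥(Spec (CommRingCat.of A)), g a ⤳ g (IsLocalRing.closedPoint A) :=
    fun a => (IsLocalRing.specializes_closedPoint a).map g.continuous
  obtain ⟨σ, hσ1, hσ2, hσ3⟩ := exists_lift_mem_of_henselian_dvr f Z A g
    (fun a => by
      obtain ⟨x, hx, hfx⟩ := (h1 (g a) (hgen a)).1
      exact ⟨x, hx, hfx⟩)
    (h1 _ (hgen _)).2 hop h2 (h3 _ g) (sK ≫ ιT) hsKX hsKZ
  have hσrange : Set.range σ ⊆ (C : Set X) := by
    rw [hCZ]
    rintro _ ⟨a, rfl⟩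
    apply subset_closure
    rcases eq_closedPoint_or_eq_genericPoint A a with h | h
    · rw [h]; exact hσ3
    · have a₀ : ↥(Spec (CommRingCat.of (FractionRing A))) :=
        IsLocalRing.closedPoint (FractionRing A)
      have : σ a = (sK ≫ ιT) a₀ := by
        rw [← hσ2, Scheme.Hom.comp_apply, specMap_fractionRing_apply, h]
      rw [this]
      exact hsKZ a₀
  obtain ⟨s, hs⟩ := exists_lift_subscheme σ C hσrange
  rw [← hιT] at hs
  refine ⟨s, ?_, ?_⟩
  · rw [← Category.assoc, hs, hσ1]
  · rw [← cancel_mono ιT, Category.assoc, hs, hσ2]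

end Groth.Agent.Lib.Helper4.ConstrProper1
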