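import Mathlib
import Groth.Prelude.Def_FDesc
import Groth.Agent.Lib.Helper4.ConstrProper1
import Groth.Agent.Lib.Helper4.ConnHartogs1

/-!
# EGA IV 15.7: a universally submersive, fibrewise geometrically connected locally constructible subset with proper fibre part is proper at the point (helper4)
-/

set_option backward.isDefEq.respectTransparency.types false
set_option synthInstance.maxHeartbeats 400000
set_option autoImplicit false
set_option linter.unusedSectionVars false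
set_option linter.style.haveILetI false
set_option linter.unusedSimpArgs false
universe u v w
open CategoryTheory CategoryTheory.Limits AlgebraicGeometry TopologicalSpace Topology

namespace Groth.Agent.Lib.Helper4.ConstrProper2

/-- the fibre of a morphism which is proper over an open subset is proper -/
theorem isProper_fiber_of_isProper_restrict {T Y : Scheme.{u}} (h : T ⟶ Y) (U₀ : Y.Opens)
    (hprop : IsProper (h ∣_ U₀)) (y' : Y) (hy' : y' ∈ U₀) :
    IsProper (h.fiberToSpecResidueField y') := by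
  have hr : Set.range (Y.fromSpecResidueField y') ⊆ Set.range U₀.ι := by
    rw [Scheme.range_fromSpecResidueField, Scheme.Opens.range_ι]
    exact Set.singleton_subset_iff.mpr hy'
  obtain ⟨r, hr'⟩ : ∃ r : Spec (Y.residueField y') ⟶ (U₀ : Scheme.{u}),
      r ≫ U₀.ι = Y.fromSpecResidueField y' :=
    ⟨IsOpenImmersion.lift U₀.ι _ hr, IsOpenImmersion.lift_fac _ _ _⟩
  have hk : Set.range (h.fiberι y') ⊆ Set.range (h ⁻¹ᵁ U₀).ι := by
    rw [Scheme.Hom.range_fiberι, Scheme.Opens.range_ι]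
    intro t ht
    have ht' : h t = y' := ht
    show h t ∈ U₀
    rw [ht']; exact hy'
  obtain ⟨k, hk'⟩ : ∃ k : h.fiber y' ⟶ ((h ⁻¹ᵁ U₀ : T.Opens) : Scheme.{u}),
      k ≫ (h ⁻¹ᵁ U₀).ι = h.fiberι y' :=
    ⟨IsOpenImmersion.lift (h ⁻¹ᵁ U₀).ι _ hk, IsOpenImmersion.lift_fac _ _ _⟩
  have big : IsPullback (k ≫ (h ⁻¹ᵁ U₀).ι) (h.fiberToSpecResidueField y') h (r ≫ U₀.ι) := by
    rw [hk', hr']
    exact IsPullback.of_hasPullback h (Y.fromSpecResidueField y')
  have sqB : IsPullback (h ⁻¹ᵁ U₀).ι (h ∣_ U₀) h U₀.ι := (isPullback_morphismRestrict h U₀).flip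
  have H : k ≫ h ∣_ U₀ = h.fiberToSpecResidueField y' ≫ r := by
    rw [← cancel_mono U₀.ι, Category.assoc, morphismRestrict_ι, ← Category.assoc, hk',
      Category.assoc, hr']
    exact pullback.condition
  have left := IsPullback.of_right big H sqB
  exact MorphismProperty.of_isPullback (P := @IsProper) left hprop

/-- properness of a clopen part of a fibre covered by a scheme proper near the point -/
theorem isProper_fibre_part {X Y T : Scheme.{u}} (f : X ⟶ Y) [IsSeparated f]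
    [LocallyOfFiniteType f] [QuasiCompact f] (ιT : T ⟶ X) (Z : Set X)
    (hZT : Z ⊆ Set.range ιT) (U₀ : Y.Opens) (hprop : IsProper ((ιT ≫ f) ∣_ U₀))
    (y' : Y) (hy' : y' ∈ U₀) (hop' : IsOpen ((f.fiberι y').base ⁻¹' Z))
    (hcl' : IsClosed ((f.fiberι y').base ⁻¹' Z)) :
    IsProper (Scheme.Opens.ι (⟨(f.fiberι y').base ⁻¹' Z, hop'⟩ : (f.fiber y').Opens) ≫
      f.fiberToSpecResidueField y') := by
  obtain ⟨h, hh⟩ : ∃ h : T ⟶ Y, h = ιT ≫ f := ⟨_, rfl⟩
  rw [← hh] at hprop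
  haveI hfib : IsProper (h.fiberToSpecResidueField y') :=
    isProper_fiber_of_isProper_restrict h U₀ hprop y' hy'
  obtain ⟨V', hV'⟩ : ∃ V' : (f.fiber y').Opens, V' = ⟨(f.fiberι y').base ⁻¹' Z, hop'⟩ :=
    ⟨_, rfl⟩
  rw [← hV']
  have hV'mem : ∀ w : ↥(f.fiber y'), w ∈ V' ↔ f.fiberι y' w ∈ Z := by
    intro w; rw [hV']; rfl
  have hV'cl : IsClosed (V' : Set ↥(f.fiber y')) := by rw [hV']; exact hcl'
  obtain ⟨τ, hτ1, hτ2⟩ : ∃ τ : h.fiber y' ⟶ f.fiber y',
      τ ≫ f.fiberι y' = h.fiberι y' ≫ ιT ∧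
        τ ≫ f.fiberToSpecResidueField y' = h.fiberToSpecResidueField y' := by
    refine ⟨pullback.lift (h.fiberι y' ≫ ιT) (h.fiberToSpecResidueField y') ?_,
      pullback.lift_fst _ _ _, pullback.lift_snd _ _ _⟩
    rw [Category.assoc, ← hh]
    exact pullback.condition
  haveI : IsSeparated (f.fiberToSpecResidueField y') :=
    MorphismProperty.pullback_snd (P := @IsSeparated) _ _ inferInstance
  haveI : IsClosedImmersion (τ ⁻¹ᵁ V').ι := by
    apply IsClosedImmersion.of_isPreimmersion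
    rw [Scheme.Opens.range_ι]
    exact hV'cl.preimage τ.continuous
  haveI : IsProper ((τ ⁻¹ᵁ V').ι ≫ h.fiberToSpecResidueField y') := inferInstance
  haveI : Surjective (τ ∣_ V') := by
    constructor
    intro w
    have hwZ : f.fiberι y' w.1 ∈ Z := (hV'mem w.1).mp w.2
    obtain ⟨t, ht⟩ := hZT hwZ
    have hty : h t = y' := by
      rw [hh, Scheme.Hom.comp_apply, ht]
      have : f.fiberι y' w.1 ∈ Set.range (f.fiberι y') := ⟨_, rfl⟩
      rw [Scheme.Hom.range_fiberι] at this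
      exact this
    have ht' : t ∈ Set.range (h.fiberι y') := by
      rw [Scheme.Hom.range_fiberι]; exact hty
    obtain ⟨u₀, hu₀⟩ := ht'
    have hτu : τ u₀ = w.1 := by
      apply (Scheme.Hom.isEmbedding (f.fiberι y')).injective
      rw [← Scheme.Hom.comp_apply, hτ1, Scheme.Hom.comp_apply, hu₀, ht]
    have hu₀V : u₀ ∈ τ ⁻¹ᵁ V' := by
      show τ u₀ ∈ V'
      rw [hτu]; exact w.2
    refine ⟨⟨u₀, hu₀V⟩, ?_⟩
    apply Subtype.ext
    rw [morphismRestrict_base_coe]
    exact hτu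
  have hfac : (τ ∣_ V') ≫ V'.ι ≫ f.fiberToSpecResidueField y' =
      (τ ⁻¹ᵁ V').ι ≫ h.fiberToSpecResidueField y' := by
    rw [← Category.assoc, morphismRestrict_ι, Category.assoc, hτ2]
  haveI : UniversallyClosed ((τ ∣_ V') ≫ V'.ι ≫ f.fiberToSpecResidueField y') := by
    rw [hfac]; infer_instance
  haveI : UniversallyClosed (V'.ι ≫ f.fiberToSpecResidueField y') :=
    UniversallyClosed.of_comp_surjective (τ ∣_ V') _
  haveI : IsSeparated (f.fiberToSpecResidueField y') :=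
    MorphismProperty.pullback_snd (P := @IsSeparated) _ _ inferInstance
  haveI : LocallyOfFiniteType (f.fiberToSpecResidueField y') :=
    MorphismProperty.pullback_snd (P := @LocallyOfFiniteType) _ _ inferInstance
  haveI : IsLocallyNoetherian (f.fiber y') :=
    LocallyOfFiniteType.isLocallyNoetherian (f.fiberToSpecResidueField y')
  exact { }

/-- a subset whose trace on a fibre is a connected component has clopen preimage in the fibre -/
theorem isClopen_preimage_fiberι_of_connectedComponentIn {X Y : Scheme.{u}} (f : X ⟶ Y)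
    [LocallyOfFiniteType f] [QuasiCompact f] (Z : Set X) (y' : Y) (x : X)
    (hZ : Z ∩ f.base ⁻¹' {y'} = connectedComponentIn (f.base ⁻¹' {y'}) x) (hx : f.base x = y') :
    IsOpen ((f.fiberι y').base ⁻¹' Z) ∧ IsClosed ((f.fiberι y').base ⁻¹' Z) := by
  haveI : LocallyOfFiniteType (f.fiberToSpecResidueField y') :=
    MorphismProperty.pullback_snd (P := @LocallyOfFiniteType) _ _ inferInstance
  haveI : IsLocallyNoetherian (f.fiber y') :=
    LocallyOfFiniteType.isLocallyNoetherian (f.fiberToSpecResidueField y')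
  haveI : IsNoetherian (f.fiber y') := { }
  haveI : NoetherianSpace ↥(f.fiber y') := inferInstance
  have hxF : x ∈ f.base ⁻¹' {y'} := hx
  haveI : NoetherianSpace ↥(f.base ⁻¹' {y'}) :=
    (noetherianSpace_iff_of_homeomorph (f.fiberHomeo y')).mp inferInstance
  have hcc : IsOpen (connectedComponent (⟨x, hxF⟩ : ↥(f.base ⁻¹' {y'}))) ∧
      IsClosed (connectedComponent (⟨x, hxF⟩ : ↥(f.base ⁻¹' {y'}))) :=
    ⟨Groth.Agent.Lib.Helper4.ConnHartogs1.isOpen_connectedComponent_of_noetherian _,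
      isClosed_connectedComponent⟩
  have hpre : (f.fiberι y').base ⁻¹' Z =
      (f.fiberHomeo y') ⁻¹' (connectedComponent (⟨x, hxF⟩ : ↥(f.base ⁻¹' {y'}))) := by
    ext w
    have hwF : f.fiberι y' w ∈ f.base ⁻¹' {y'} := (f.fiberHomeo y' w).2
    constructor
    · intro hw
      have h1 : f.fiberι y' w ∈ Z ∩ f.base ⁻¹' {y'} := ⟨hw, hwF⟩
      rw [hZ, connectedComponentIn_eq_image hxF] at h1
      obtain ⟨c, hc, hcw⟩ := h1
      have : c = f.fiberHomeo y' w := Subtype.ext hcw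
      show f.fiberHomeo y' w ∈ connectedComponent (⟨x, hxF⟩ : ↥(f.base ⁻¹' {y'}))
      rw [← this]; exact hc
    · intro hw
      have h1 : f.fiberι y' w ∈ connectedComponentIn (f.base ⁻¹' {y'}) x := by
        rw [connectedComponentIn_eq_image hxF]
        exact ⟨f.fiberHomeo y' w, hw, rfl⟩
      rw [← hZ] at h1
      exact h1.1
  rw [hpre]
  exact ⟨hcc.1.preimage (f.fiberHomeo y').continuous, hcc.2.preimage (f.fiberHomeo y').continuous⟩

open Groth.Agent.Lib.Helper4.KeyLift1 Groth.Agent.Lib.Helper4.HdvrCrit1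
  Groth.Agent.Lib.Helper4.ConstrProper1 Groth.Agent.Lib.Helper4.DvrProper1 in
/-- Step 2 of S4977: over generizations of `y`, the closure of `Z` adds nothing to `Z` -/
theorem mem_of_mem_closure_of_specializes {X Y : Scheme.{u}} [IsLocallyNoetherian Y] (y : Y)
    (f : X ⟶ Y) [IsSeparated f] [LocallyOfFiniteType f] [QuasiCompact f] (Z : Set X)
    (hZ : Topology.IsLocallyConstructible Z)
    (h1 : ∀ y' : Y, y' ⤳ y → (∃ x ∈ Z, f.base x = y' ∧
        Z ∩ f.base ⁻¹' {y'} = connectedComponentIn (f.base ⁻¹' {y'}) x) ∧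
      ∀ (K : Type u) [Field K] [Algebra (IsLocalRing.ResidueField (Y.presheaf.stalk y')) K],
        _root_.IsPreconnected
          ((FBase.bcπ (f.fiberToSpecResidueField y') K ≫ f.fiberι y').base ⁻¹' Z))
    (h3 : ∀ (Y' : Scheme.{u}) (h : Y' ⟶ Y) (E : Set Y'), E ⊆ h.base ⁻¹' (f.base '' Z) →
      (∃ W : Set ↥(pullback f h), IsOpen W ∧
        W ∩ (pullback.fst f h).base ⁻¹' Z =
          (pullback.snd f h).base ⁻¹' E ∩ (pullback.fst f h).base ⁻¹' Z) →
      ∃ V : Set Y', IsOpen V ∧ V ∩ h.base ⁻¹' (f.base '' Z) = E)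
    (U₀ : Y.Opens) (hyU₀ : y ∈ U₀)
    (hprop : IsProper (((Scheme.IdealSheafData.vanishingIdeal
      (⟨closure Z, isClosed_closure⟩ : TopologicalSpace.Closeds X)).subschemeι ≫ f) ∣_ U₀))
    (t : X) (ht : t ∈ closure Z) (hft : f t ⤳ y) : t ∈ Z := by
  by_contra htZ
  obtain ⟨z, hzZ, hzt⟩ := exists_mem_specializes_of_mem_closure Z hZ t ht
  have hne : z ≠ t := fun h => htZ (h ▸ hzZ)
  haveI : IsLocallyNoetherian X := LocallyOfFiniteType.isLocallyNoetherian f
  obtain ⟨A, _, _, _, _, u, hucl, hugen⟩ := exists_hdvr_of_specializes z t hzt hne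
  have hucl' : u (IsLocalRing.closedPoint A) = t := hucl
  have hugen' : u (genericPoint ↥(Spec (CommRingCat.of A))) = z := by
    rw [genericPoint_eq_bot_of_affine]; exact hugen
  obtain ⟨g, hg⟩ : ∃ g : Spec (CommRingCat.of A) ⟶ Y, g = u ≫ f := ⟨_, rfl⟩
  have hgcl : g (IsLocalRing.closedPoint A) ⤳ y := by
    rw [hg, Scheme.Hom.comp_apply, hucl']; exact hft
  have hgen : ∀ a : ↥(Spec (CommRingCat.of A)), g a ⤳ y :=
    fun a => ((IsLocalRing.specializes_closedPoint a).map g.continuous).trans hgcl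
  -- the trace of Z on the fibre over the closed point
  obtain ⟨x₀, hx₀Z, hx₀, hx₀cc⟩ := (h1 _ hgcl).1
  obtain ⟨hop', hcl'⟩ := isClopen_preimage_fiberι_of_connectedComponentIn f Z _ x₀ hx₀cc hx₀
  have hZT : Z ⊆ Set.range (Scheme.IdealSheafData.vanishingIdeal
      (⟨closure Z, isClosed_closure⟩ : TopologicalSpace.Closeds X)).subschemeι := by
    rw [Scheme.IdealSheafData.range_subschemeι, Scheme.IdealSheafData.coe_support_vanishingIdeal]
    exact subset_closure
  have h2' := isProper_fibre_part f _ Z hZT U₀ hprop (g (IsLocalRing.closedPoint A))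
    (hgcl.mem_open U₀.2 hyU₀) hop' hcl'
  -- the K-point
  have hsK : (Spec.map (CommRingCat.ofHom (algebraMap A (FractionRing A))) ≫ u) ≫ f =
      Spec.map (CommRingCat.ofHom (algebraMap A (FractionRing A))) ≫ g := by
    rw [hg, Category.assoc]
  have hsKZ : ∀ a, (Spec.map (CommRingCat.ofHom (algebraMap A (FractionRing A))) ≫ u) a ∈ Z := by
    intro a
    rw [Scheme.Hom.comp_apply, specMap_fractionRing_apply, hugen']
    exact hzZ
  obtain ⟨σ, hσ1, hσ2, hσ3⟩ := exists_lift_mem_of_henselian_dvr f Z A g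
    (fun a => by
      obtain ⟨x, hx, hfx, -⟩ := (h1 (g a) (hgen a)).1
      exact ⟨x, hx, hfx⟩)
    (h1 _ (hgen _)).2 hop' h2' (h3 _ g) _ hsK hsKZ
  -- uniqueness
  have huq := IsSeparated.valuativeCriterion f
  let Sq : ValuativeCommSq f :=
    { R := A, K := FractionRing A,
      i₁ := Spec.map (CommRingCat.ofHom (algebraMap A (FractionRing A))) ≫ u, i₂ := g,
      commSq := ⟨hsK⟩ }
  have heq : σ = u := by
    have e := (huq Sq).elim ⟨σ, hσ2, hσ1⟩ ⟨u, rfl, hg.symm⟩
    exact congrArg CommSq.LiftStruct.l e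
  rw [heq, hucl'] at hσ3
  exact htZ hσ3

/-- transport of properness of the reduced induced subscheme along an equality of closed sets -/
theorem isProper_subscheme_congr {W S : Scheme.{u}} (q : W ⟶ S) (S₁ S₂ : Set W) (hS₁ : IsClosed S₁)
    (hS₂ : IsClosed S₂) (heq : S₁ = S₂)
    (h : IsProper ((Scheme.IdealSheafData.vanishingIdeal
      (⟨S₁, hS₁⟩ : TopologicalSpace.Closeds W)).subschemeι ≫ q)) :
    IsProper ((Scheme.IdealSheafData.vanishingIdeal
      (⟨S₂, hS₂⟩ : TopologicalSpace.Closeds W)).subschemeι ≫ q) := by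
  subst heq
  exact h

open Groth.Agent.Lib.Helper4.ConstrProper1 in
/-- **S4977** -/
theorem S4977_main {X Y : Scheme.{u}} [IsLocallyNoetherian Y] (y : Y)
    (f : X ⟶ Y) [IsSeparated f] [LocallyOfFiniteType f] [QuasiCompact f] (Z : Set X)
    (hZ : Topology.IsLocallyConstructible Z)
    (h1 : ∀ y' : Y, y' ⤳ y → (∃ x ∈ Z, f.base x = y' ∧
        Z ∩ f.base ⁻¹' {y'} = connectedComponentIn (f.base ⁻¹' {y'}) x) ∧
      ∀ (K : Type u) [Field K] [Algebra (IsLocalRing.ResidueField (Y.presheaf.stalk y')) K],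
        _root_.IsPreconnected
          ((FBase.bcπ (f.fiberToSpecResidueField y') K ≫ f.fiberι y').base ⁻¹' Z))
    (hop : IsOpen ((f.fiberι y).base ⁻¹' Z))
    (h2 : IsProper (Scheme.Opens.ι (⟨(f.fiberι y).base ⁻¹' Z, hop⟩ : (f.fiber y).Opens) ≫
      f.fiberToSpecResidueField y))
    (h3 : ∀ (Y' : Scheme.{u}) (h : Y' ⟶ Y) (E : Set Y'), E ⊆ h.base ⁻¹' (f.base '' Z) →
      (∃ W : Set ↥(pullback f h), IsOpen W ∧
        W ∩ (pullback.fst f h).base ⁻¹' Z =
          (pullback.snd f h).base ⁻¹' E ∩ (pullback.fst f h).base ⁻¹' Z) →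
      ∃ V : Set Y', IsOpen V ∧ V ∩ h.base ⁻¹' (f.base '' Z) = E) :
    ∃ U : Y.Opens, y ∈ U ∧ ∃ hC : IsClosed ((f ⁻¹ᵁ U).ι.base ⁻¹' Z),
      IsProper ((Scheme.IdealSheafData.vanishingIdeal
        (⟨(f ⁻¹ᵁ U).ι.base ⁻¹' Z, hC⟩ : TopologicalSpace.Closeds ↥(f ⁻¹ᵁ U))).subschemeι ≫
          (f ∣_ U)) := by
  haveI : IsLocallyNoetherian X := LocallyOfFiniteType.isLocallyNoetherian f
  obtain ⟨U₀, hyU₀, hprop₀⟩ := exists_open_isProper_closure y f Z hZ
    (fun y' hy' => ⟨by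
      obtain ⟨x, hx, hfx, -⟩ := (h1 y' hy').1
      exact ⟨x, hx, hfx⟩, (h1 y' hy').2⟩) hop h2 h3
  -- the image of the boundary is locally constructible and avoids the generizations of y
  have hbd : IsLocallyConstructible (closure Z \ Z) := by
    have h1' : IsLocallyConstructible (closure Z) := by
      have := Groth.Agent.Lib.Helper4.OpenNoeth1.isLocallyConstructible_of_isOpen_inter_isClosed
        (X := X) Set.univ (closure Z) isOpen_univ isClosed_closure
      rwa [Set.univ_inter] at this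
    have h2' : IsLocallyConstructible Zᶜ :=
      Groth.Agent.Lib.Helper4.OpenNoeth1.isLocallyConstructible_compl hZ
    have : closure Z \ Z = closure Z ∩ Zᶜ := rfl
    rw [this]
    exact h1'.inter h2'
  have hE : IsLocallyConstructible (f '' (closure Z \ Z)) := f.isLocallyConstructible_image hbd
  have hnhds : (f '' (closure Z \ Z))ᶜ ∈ nhds y := by
    apply Groth.Agent.Lib.Helper4.OpenNoeth1.mem_nhds_of_isLocallyConstructible _
      (Groth.Agent.Lib.Helper4.OpenNoeth1.isLocallyConstructible_compl hE)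
    rintro y' hy' ⟨t, ⟨ht1, ht2⟩, hft⟩
    apply ht2
    exact mem_of_mem_closure_of_specializes y f Z hZ h1 h3 U₀ hyU₀ hprop₀ t ht1 (by
      rw [hft]; exact hy')
  obtain ⟨U₁s, hU₁sub, hU₁o, hyU₁⟩ := mem_nhds_iff.mp hnhds
  obtain ⟨U₁, hU₁⟩ : ∃ U₁ : Y.Opens, (U₁ : Set Y) = U₁s := ⟨⟨U₁s, hU₁o⟩, rfl⟩
  -- the neighbourhood
  obtain ⟨U', hU'⟩ : ∃ U' : (U₀ : Scheme.{u}).Opens, U' = U₀.ι ⁻¹ᵁ U₁ := ⟨_, rfl⟩
  have hmemU : ∀ v : Y, v ∈ U₀.ι ''ᵁ U' → v ∈ U₁ := by
    rintro v ⟨w, hw, rfl⟩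
    rw [hU'] at hw
    exact hw
  have hpropU : IsProper (((Scheme.IdealSheafData.vanishingIdeal
      (⟨closure Z, isClosed_closure⟩ : TopologicalSpace.Closeds X)).subschemeι ≫ f) ∣_
        (U₀.ι ''ᵁ U')) := by
    haveI := hprop₀
    have h0 := Groth.Agent.Lib.Helper4.PropAt1.isProper_morphismRestrict
      (((Scheme.IdealSheafData.vanishingIdeal
        (⟨closure Z, isClosed_closure⟩ : TopologicalSpace.Closeds X)).subschemeι ≫ f) ∣_ U₀) U'
    exact (MorphismProperty.arrow_mk_iso_iff @IsProper (morphismRestrictRestrict _ U₀ U')).mp h0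
  have hyU : y ∈ U₀.ι ''ᵁ U' := by
    refine ⟨⟨y, hyU₀⟩, ?_, rfl⟩
    rw [hU']
    show y ∈ U₁
    rw [← SetLike.mem_coe, hU₁]
    exact hyU₁
  refine ⟨U₀.ι ''ᵁ U', hyU, ?_⟩
  have hset : (f ⁻¹ᵁ (U₀.ι ''ᵁ U')).ι.base ⁻¹' closure Z =
      (f ⁻¹ᵁ (U₀.ι ''ᵁ U')).ι.base ⁻¹' Z := by
    apply Set.Subset.antisymm
    · intro x hx
      by_contra hxZ
      have hx1 : f ((f ⁻¹ᵁ (U₀.ι ''ᵁ U')).ι x) ∈ (U₁ : Set Y) := hmemU _ x.2
      rw [hU₁] at hx1
      exact hU₁sub hx1 ⟨_, ⟨hx, hxZ⟩, rfl⟩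
    · intro x hx
      exact subset_closure hx
  have hC' : IsClosed ((f ⁻¹ᵁ (U₀.ι ''ᵁ U')).ι.base ⁻¹'
      ((⟨closure Z, isClosed_closure⟩ : TopologicalSpace.Closeds X) : Set X)) :=
    isClosed_closure.preimage (f ⁻¹ᵁ (U₀.ι ''ᵁ U')).ι.continuous
  have hfin := Groth.Agent.Lib.Helper4.PropAt3.isProper_subscheme_restrict f
    (⟨closure Z, isClosed_closure⟩ : TopologicalSpace.Closeds X) (U₀.ι ''ᵁ U') hC' hpropU
  have hC : IsClosed ((f ⁻¹ᵁ (U₀.ι ''ᵁ U')).ι.base ⁻¹' Z) := by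
    rw [← hset]; exact hC'
  exact ⟨hC, isProper_subscheme_congr (f ∣_ (U₀.ι ''ᵁ U')) _ _ hC' hC hset hfin⟩

end Groth.Agent.Lib.Helper4.ConstrProper2
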