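import Mathlib
import Groth.Agent.Lib.Helper4.ContentRep2

/-!
# Equalizers are closed when every open of the target is stable; fixed locus without separatedness (helper4)
-/

set_option backward.isDefEq.respectTransparency.types false
set_option synthInstance.maxHeartbeats 400000
set_option autoImplicit false
set_option linter.unusedSectionVars false
set_option linter.style.haveILetI false
set_option linter.unusedSimpArgs false
universe u v w
open CategoryTheory CategoryTheory.Limits AlgebraicGeometry TopologicalSpace Opposite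
open MonoidalCategory CartesianMonoidalCategory

namespace Groth.Agent.Lib.Helper4.ContentRep4
open Groth.Agent.Lib.Helper4.ContentRep2

section EqImm

variable {S : Scheme.{u}} {Q W : Over S} (a b : Q ⟶ W)

set_option backward.isDefEq.respectTransparency false in
instance isImmersion_equalizer_ι_left : IsImmersion (equalizer.ι a b).left := by
  refine MorphismProperty.of_isPullback
    ((Limits.isPullback_equalizer_prod a b).map (Over.forget _)).flip ?_
  rw [← MorphismProperty.cancel_right_of_respectsIso @IsImmersion _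
    (Over.prodLeftIsoPullback W W).hom]
  convert! (inferInstance : IsImmersion (pullback.diagonal W.hom))
  ext1 <;> simp [← Over.comp_left]

theorem lift_equalizer_iff' {Q₀ : Scheme.{u}} (h : Q₀ ⟶ Q.left) :
    (∃ l : Q₀ ⟶ (equalizer a b).left, l ≫ (equalizer.ι a b).left = h) ↔
      h ≫ a.left = h ≫ b.left := by
  let Q' : Over S := Over.mk (h ≫ Q.hom)
  let h' : Q' ⟶ Q := Over.homMk h rfl
  have := lift_equalizer_iff a b h'
  refine this.trans ?_
  constructor
  · intro e
    have := congrArg (fun m => m.left) e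
    exact this
  · intro e
    ext
    exact e

/-- closedness of the equalizer when every open of the target is stable -/
theorem isClosedImmersion_equalizer_of_stable
    (hstab : ∀ U : W.left.Opens, b.left ⁻¹ᵁ U ≤ a.left ⁻¹ᵁ U) :
    IsClosedImmersion (equalizer.ι a b).left := by
  set i := (equalizer.ι a b).left with hi
  have hcond : i ≫ a.left = i ≫ b.left := by
    rw [hi, ← Over.comp_left, ← Over.comp_left, equalizer.condition]
  apply IsClosedImmersion.of_isPreimmersion
  have hcov : TopologicalSpace.IsOpenCover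
      (fun U : W.left.affineOpens => b.left ⁻¹ᵁ U.1) := by
    show ⨆ U : W.left.affineOpens, b.left ⁻¹ᵁ U.1 = ⊤
    rw [← Scheme.Hom.preimage_iSup, iSup_affineOpens_eq_top]
    rfl
  rw [hcov.isClosed_iff_coe_preimage]
  intro U
  set N : Q.left.Opens := b.left ⁻¹ᵁ U.1 with hN
  let aN : N.toScheme ⟶ U.1.toScheme := a.left.resLE U.1 N (hstab U.1)
  let bN : N.toScheme ⟶ U.1.toScheme := b.left.resLE U.1 N le_rfl
  haveI : IsAffine U.1.toScheme := U.2
  have hcl : IsClosedImmersion (equalizer.ι aN bN) := inferInstance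
  have hset : (Subtype.val ⁻¹' Set.range i.base : Set ↥N) =
      Set.range (equalizer.ι aN bN).base := by
    ext n
    constructor
    · rintro ⟨e₀, he₀⟩
      have he₀N : e₀ ∈ i ⁻¹ᵁ N := by
        show i e₀ ∈ N
        have : i e₀ = n.1 := he₀
        rw [this]; exact n.2
      let iN := i ∣_ N
      have h1 : iN ≫ aN = iN ≫ bN := by
        rw [← cancel_mono U.1.ι]
        simp only [Category.assoc, iN, aN, bN, Scheme.Hom.resLE_comp_ι]
        rw [← Category.assoc, ← Category.assoc, morphismRestrict_ι, Category.assoc,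
          Category.assoc, hcond]
      let l' := equalizer.lift iN h1
      refine ⟨l' ⟨e₀, he₀N⟩, ?_⟩
      have h2 : l' ≫ equalizer.ι aN bN = iN := equalizer.lift_ι _ _
      have h3 : (equalizer.ι aN bN) (l' ⟨e₀, he₀N⟩) = iN ⟨e₀, he₀N⟩ := by
        rw [← Scheme.Hom.comp_apply, h2]
      refine h3.trans ?_
      apply Subtype.ext
      have h4 : (iN ≫ N.ι) ⟨e₀, he₀N⟩ = ((i ⁻¹ᵁ N).ι ≫ i) ⟨e₀, he₀N⟩ := by
        rw [morphismRestrict_ι]
      simp only [Scheme.Hom.comp_apply] at h4
      exact h4.trans he₀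
    · rintro ⟨e, he⟩
      let h := equalizer.ι aN bN ≫ N.ι
      have h1 : h ≫ a.left = h ≫ b.left := by
        have := equalizer.condition aN bN
        have h2 := congrArg (fun m => m ≫ U.1.ι) this
        simp only [Category.assoc, aN, bN, Scheme.Hom.resLE_comp_ι] at h2
        simpa [h] using h2
      obtain ⟨l, hl⟩ := (lift_equalizer_iff' a b h).2 h1
      refine ⟨l e, ?_⟩
      show i (l e) = n.1
      rw [← Scheme.Hom.comp_apply, hl, ← he]
      rfl
  rw [hset]
  exact (equalizer.ι aN bN).isClosedEmbedding.isClosed_range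

end EqImm

theorem eq_rep' (k : Type u) [Field k] (Y X W : Over (Spec (CommRingCat.of k)))
    (a b : Y ⊗ X ⟶ W) (hcl : IsClosedImmersion (equalizer.ι a b).left) :
    ∃ (Z : Over (Spec (CommRingCat.of k))) (j : Z ⟶ X), IsClosedImmersion j.left ∧
      ∀ (T : Over (Spec (CommRingCat.of k))) (x : T ⟶ X),
        (Y ◁ x) ≫ a = (Y ◁ x) ≫ b ↔ ∃ z : T ⟶ Z, z ≫ j = x := by
  obtain ⟨Z, j, hj, hrep⟩ := field_rep k Y X (equalizer.ι a b).left
  refine ⟨Z, j, hj, fun T x => ?_⟩
  rw [← hrep T x, lift_equalizer_iff]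

theorem main_S19969 (k : Type u) [Field k]
    (X Y : Over (Spec (CommRingCat.of k))) (a : Y ⊗ X ⟶ X)
    (hstab : ∀ U : X.left.Opens, (CartesianMonoidalCategory.snd Y X).left ⁻¹ᵁ U ≤ a.left ⁻¹ᵁ U) :
    ∃ (Z : Over (Spec (CommRingCat.of k))) (j : Z ⟶ X), IsClosedImmersion j.left ∧
      (Y ◁ j) ≫ a = CartesianMonoidalCategory.snd Y Z ≫ j ∧
      ∀ (T : Over (Spec (CommRingCat.of k))) (x : T ⟶ X),
        (Y ◁ x) ≫ a = CartesianMonoidalCategory.snd Y T ≫ x → ∃ z : T ⟶ Z, z ≫ j = x := by
  obtain ⟨Z, j, hj, hrep⟩ := eq_rep' k Y X X a (snd Y X)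
    (isClosedImmersion_equalizer_of_stable a (snd Y X) hstab)
  have key : ∀ (T : Over (Spec (CommRingCat.of k))) (x : T ⟶ X),
      (Y ◁ x) ≫ a = snd Y T ≫ x ↔ ∃ z : T ⟶ Z, z ≫ j = x := by
    intro T x
    rw [← hrep T x, whiskerLeft_snd]
  refine ⟨Z, j, hj, (key Z j).2 ⟨𝟙 Z, Category.id_comp j⟩, fun T x h => (key T x).1 h⟩

end Groth.Agent.Lib.Helper4.ContentRep4
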