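import Mathlib
import Groth.Prelude.Def_AlgGrp
import Groth.Agent.Lib.Helper2.LfpOfComp
import Groth.Agent.Lib.Helper4.ContentRep5
import Groth.Agent.Lib.Helper4.ContentRep6

/-!
# finitely presented closed representability: content ideals of fg ideals (S15837, S16771) (helper4)
-/

set_option backward.isDefEq.respectTransparency.types false
set_option synthInstance.maxHeartbeats 400000
set_option autoImplicit false
set_option linter.unusedSectionVars false
set_option linter.style.haveILetI false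
set_option linter.unusedSimpArgs false
universe u v w
open CategoryTheory CategoryTheory.Limits AlgebraicGeometry TopologicalSpace Opposite
open MonoidalCategory CartesianMonoidalCategory MonObj GrpObj

namespace Groth.Agent.Lib.Helper4.ContentRep7
open Groth.Agent.Lib.Helper4.ContentRep1 Groth.Agent.Lib.Helper4.ContentRep2
  Groth.Agent.Lib.Helper4.ContentRep3 Groth.Agent.Lib.Helper4.ContentRep5
  Groth.Agent.Lib.Helper4.ContentRep6

section Alg

theorem contentIdeal_fg {A R : Type u} [CommRing A] [CommRing R] [Algebra A R]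
    [Module.Finite A R] [Module.Projective A R] (N : Ideal R) (hN : N.FG) :
    (contentIdeal A N).FG := by
  obtain ⟨n, f, g, -, -, hfg⟩ := Module.Finite.exists_comp_eq_id_of_projective A R
  have hNA : (N.restrictScalars A).FG := Submodule.FG.restrictScalars hN
  have key : contentIdeal A N =
      ⨆ k : Fin n, Submodule.map ((LinearMap.proj k) ∘ₗ g) (N.restrictScalars A) := by
    apply le_antisymm
    · rw [contentIdeal_le_iff]
      intro l x hx
      have h1 : x = ∑ k, (g x k) • f (fun j => if k = j then 1 else 0) := by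
        rw [← LinearMap.pi_apply_eq_sum_univ f (g x)]
        exact (LinearMap.congr_fun hfg x).symm
      rw [h1, map_sum]
      refine Submodule.sum_mem _ fun k _ => ?_
      rw [map_smul, smul_eq_mul, mul_comm, ← smul_eq_mul]
      refine Submodule.smul_mem _ _ ?_
      exact (le_iSup (fun k : Fin n =>
        Submodule.map ((LinearMap.proj k) ∘ₗ g) (N.restrictScalars A)) k) ⟨x, hx, rfl⟩
    · refine iSup_le fun k => ?_
      exact le_iSup (fun l : R →ₗ[A] A => Submodule.map l (N.restrictScalars A)) _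
  rw [key]
  exact Submodule.fg_iSup _ fun k => hNA.map _

theorem ker_fg_of_surjective_fp {A B : Type u} [CommRing A] [CommRing B] (φ : A →+* B)
    (hs : Function.Surjective φ) (hfp : φ.FinitePresentation) : (RingHom.ker φ).FG := by
  letI := φ.toAlgebra
  haveI : Algebra.FinitePresentation A B := hfp
  have := Algebra.FinitePresentation.ker_fG_of_surjective (Algebra.ofId A B) hs
  exact this

end Alg

section Geo

theorem fg_ker_of_lfp {E P : Scheme.{u}} (i : E ⟶ P) [IsClosedImmersion i]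
    [LocallyOfFinitePresentation i] (W : P.affineOpens) : (i.ker.ideal W).FG := by
  rw [Scheme.Hom.ker_apply]
  have hsurj : Function.Surjective (i.app W.1).hom := i.app_surjective W.1 W.2
  have hV : IsAffineOpen (i ⁻¹ᵁ W.1) := W.2.preimage i
  have hfp : (i.app W.1).hom.FinitePresentation := by
    have := HasRingHomProperty.appLE (P := @LocallyOfFinitePresentation) i inferInstance W
      ⟨_, hV⟩ le_rfl
    rwa [← Scheme.Hom.app_eq_appLE] at this
  exact ker_fg_of_surjective_fp _ hsurj hfp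

theorem lfp_subschemeι {X : Scheme.{u}} (𝓙 : X.IdealSheafData)
    (h : ∀ U : X.affineOpens, (𝓙.ideal U).FG) : LocallyOfFinitePresentation 𝓙.subschemeι := by
  rw [HasRingHomProperty.iff_exists_appLE (P := @LocallyOfFinitePresentation)
    (RingHom.finitePresentation_stableUnderComposition.stableUnderCompositionWithLocalizationAway
      RingHom.finitePresentation_holdsForLocalizationAway).1]
  intro x
  obtain ⟨U, hU, hxU, -⟩ := Opens.isBasis_iff_nbhd.1 X.isBasis_affineOpens
    (Opens.mem_top (𝓙.subschemeι x))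
  have hV : IsAffineOpen (𝓙.subschemeι ⁻¹ᵁ U) := hU.preimage _
  refine ⟨⟨U, hU⟩, ⟨_, hV⟩, hxU, le_rfl, ?_⟩
  rw [← Scheme.Hom.app_eq_appLE]
  apply RingHom.FinitePresentation.of_surjective _ (𝓙.subschemeι_app_surjective ⟨U, hU⟩)
  rw [𝓙.ker_subschemeι_app ⟨U, hU⟩]
  exact h ⟨U, hU⟩

variable {P X : Scheme.{u}} {π : P ⟶ X} {κ : Type w} {Pv : κ → P.Opens} (hc : Charts π Pv)
  (𝓘 : P.IdealSheafData)

theorem Jv_fg
    (hfin : ∀ (v : κ) (U : X.Opens), IsAffineOpen U →
      @Module.Finite Γ(X, U) Γ(P, Wop π (Pv v) U) _ _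
        (π.appLE U (Wop π (Pv v) U) inf_le_right).hom.toAlgebra.toModule)
    (h𝓘 : ∀ W : P.affineOpens, (𝓘.ideal W).FG) (v : κ) (U : X.affineOpens) :
    (Jv hc 𝓘 v U).FG := by
  letI : Algebra Γ(X, U.1) Γ(P, Wop π (Pv v) U.1) :=
    (π.appLE U.1 (Wop π (Pv v) U.1) inf_le_right).hom.toAlgebra
  haveI : Module.Finite Γ(X, U.1) Γ(P, Wop π (Pv v) U.1) := hfin v U.1 U.2
  haveI : Module.Projective Γ(X, U.1) Γ(P, Wop π (Pv v) U.1) := hc.proj v U.1 U.2
  exact contentIdeal_fg _ (h𝓘 (Waff hc v U))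

theorem main_star_fp {P X E : Scheme.{u}} (π : P ⟶ X) {κ : Type w} [Finite κ] (Pv : κ → P.Opens)
    (hc : Charts π Pv)
    (hfin : ∀ (v : κ) (U : X.Opens), IsAffineOpen U →
      @Module.Finite Γ(X, U) Γ(P, Wop π (Pv v) U) _ _
        (π.appLE U (Wop π (Pv v) U) inf_le_right).hom.toAlgebra.toModule)
    (i : E ⟶ P) [IsClosedImmersion i] [LocallyOfFinitePresentation i] :
    ∃ (Z : Scheme.{u}) (j : Z ⟶ X), IsClosedImmersion j ∧ LocallyOfFinitePresentation j ∧
      ∀ (T Q : Scheme.{u}) (x : T ⟶ X) (g : Q ⟶ P) (π' : Q ⟶ T), IsPullback g π' π x →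
        ((∃ l : Q ⟶ E, l ≫ i = g) ↔ ∃ z : T ⟶ Z, z ≫ j = x) := by
  refine ⟨(Jsheaf hc i.ker).subscheme, (Jsheaf hc i.ker).subschemeι, inferInstance, ?_, ?_⟩
  · apply lfp_subschemeι
    intro U
    rw [Jsheaf_ideal]
    exact Submodule.fg_iSup _ fun v => Jv_fg hc i.ker hfin (fg_ker_of_lfp i) v U
  · intro T Q x g π' H
    rw [lift_iff_ker, lift_iff_ker, Scheme.IdealSheafData.ker_subschemeι]
    exact ⟨fun h => up_of_ker_g hc i.ker H h, fun h => ker_g_of_up hc i.ker H h⟩

theorem finite_flf {P X : Scheme.{u}} (π : P ⟶ X) [IsFinite π] (U : X.Opens)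
    (hU : IsAffineOpen U) :
    @Module.Finite Γ(X, U) Γ(P, Wop π (⊤ : P.Opens) U) _ _
      (π.appLE U (Wop π (⊤ : P.Opens) U) inf_le_right).hom.toAlgebra.toModule := by
  refine (Scheme.Hom.appLE_congr π (inf_le_right : (⊤ : P.Opens) ⊓ π ⁻¹ᵁ U ≤ π ⁻¹ᵁ U) rfl
    (top_inf_eq _)
    (fun φ => @Module.Finite _ _ _ _ φ.hom.toAlgebra.toModule)).mpr ?_
  have := IsFinite.finite_app π U hU
  rwa [Scheme.Hom.app_eq_appLE] at this

end Geo

section FLF

variable {S : Scheme.{u}} (F X : Over S) [IsFinite F.hom] [Flat F.hom]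
  [LocallyOfFinitePresentation F.hom]

theorem flf_rep_fp {E : Scheme.{u}} (i : E ⟶ (F ⊗ X).left) [IsClosedImmersion i]
    [LocallyOfFinitePresentation i] :
    ∃ (Z : Over S) (j : Z ⟶ X), IsClosedImmersion j.left ∧ LocallyOfFinitePresentation j.left ∧
      ∀ (T : Over S) (x : T ⟶ X),
        (∃ l : (F ⊗ T).left ⟶ E, l ≫ i = (F ◁ x).left) ↔ ∃ z : T ⟶ Z, z ≫ j = x := by
  haveI : IsFinite (snd F X).left := by rw [Over.snd_left]; infer_instance
  haveI : Flat (snd F X).left := by rw [Over.snd_left]; infer_instance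
  haveI : LocallyOfFinitePresentation (snd F X).left := by rw [Over.snd_left]; infer_instance
  obtain ⟨Z₀, j₀, hj₀, hj₀', hrep⟩ := main_star_fp (snd F X).left
    (fun _ : PUnit.{1} => (⊤ : (F ⊗ X).left.Opens)) (charts_flf (snd F X).left)
    (fun _ U hU => finite_flf (snd F X).left U hU) i
  refine ⟨Over.mk (j₀ ≫ X.hom), Over.homMk j₀ rfl, hj₀, hj₀', ?_⟩
  intro T x
  rw [hrep T.left (F ⊗ T).left x.left (F ◁ x).left (snd F T).left (isPullback_whiskerLeft F X x)]
  constructor
  · rintro ⟨z₀, hz₀⟩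
    refine ⟨Over.homMk z₀ ?_, ?_⟩
    · show z₀ ≫ j₀ ≫ X.hom = T.hom
      rw [← Category.assoc, hz₀]; exact Over.w x
    · ext; exact hz₀
  · rintro ⟨z, rfl⟩
    exact ⟨z.left, rfl⟩

end FLF

section EqLfp

variable {S : Scheme.{u}} {Q W : Over S} (a b : Q ⟶ W)

set_option backward.isDefEq.respectTransparency false in
theorem lfp_equalizer_ι_left [LocallyOfFiniteType W.hom] :
    LocallyOfFinitePresentation (equalizer.ι a b).left := by
  refine MorphismProperty.of_isPullback
    ((Limits.isPullback_equalizer_prod a b).map (Over.forget _)).flip ?_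
  rw [← MorphismProperty.cancel_right_of_respectsIso @LocallyOfFinitePresentation _
    (Over.prodLeftIsoPullback W W).hom]
  have h : LocallyOfFinitePresentation (pullback.diagonal W.hom) :=
    Groth.Agent.Helper2.locallyOfFinitePresentation_of_comp (pullback.diagonal W.hom)
      (pullback.fst W.hom W.hom) inferInstance (by rw [pullback.diagonal_fst]; infer_instance)
  convert! h
  ext1 <;> simp [← Over.comp_left]

end EqLfp

theorem main_S15837 (S : Scheme.{u}) (G X Y : Over S) [GrpObj G]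
    [LocallyOfFinitePresentation G.hom] [QuasiCompact G.hom] [QuasiSeparated G.hom]
    [IsAffineHom X.hom] [LocallyOfFinitePresentation X.hom] (a : AlgGrp.Action G X)
    (i : Y ⟶ X) [IsClosedImmersion i.left] [IsFinite Y.hom] [Flat Y.hom] [LocallyOfFinitePresentation Y.hom] :
    ∃ (Z : Over S) (j : Z ⟶ G), IsClosedImmersion j.left ∧ LocallyOfFinitePresentation j.left ∧
      ∀ (T : Over S) (g : T ⟶ G), (∃ z : T ⟶ Z, z ≫ j = g) ↔
        ∀ (T' : Over S) (t : T' ⟶ T) (y : T' ⟶ Y), lift (t ≫ g) (y ≫ i) ≫ a.act = y ≫ i := by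
  let a' : Y ⊗ G ⟶ X := lift (snd Y G) (fst Y G ≫ i) ≫ a.act
  let b' : Y ⊗ G ⟶ X := fst Y G ≫ i
  haveI : LocallyOfFinitePresentation (equalizer.ι a' b').left := lfp_equalizer_ι_left a' b'
  obtain ⟨Z, j, hj, hj', hrep⟩ := flf_rep_fp Y G (equalizer.ι a' b').left
  refine ⟨Z, j, hj, hj', fun T g => ?_⟩
  rw [← hrep T g, lift_equalizer_iff]
  have e1 : (Y ◁ g) ≫ a' = lift (snd Y T ≫ g) (fst Y T ≫ i) ≫ a.act := by
    show (Y ◁ g) ≫ lift (snd Y G) (fst Y G ≫ i) ≫ a.act = _
    rw [← Category.assoc]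
    congr 1
    apply CartesianMonoidalCategory.hom_ext
    · rw [Category.assoc, lift_fst, lift_fst, whiskerLeft_snd]
    · rw [Category.assoc, lift_snd, lift_snd, whiskerLeft_fst_assoc]
  have e2 : (Y ◁ g) ≫ b' = fst Y T ≫ i := by
    show (Y ◁ g) ≫ fst Y G ≫ i = _
    rw [whiskerLeft_fst_assoc]
  rw [e1, e2]
  constructor
  · intro h T' t y
    have h1 : lift y t ≫ lift (snd Y T ≫ g) (fst Y T ≫ i) = lift (t ≫ g) (y ≫ i) := by
      apply CartesianMonoidalCategory.hom_ext
      · rw [Category.assoc, lift_fst, lift_fst, lift_snd_assoc]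
      · rw [Category.assoc, lift_snd, lift_snd, lift_fst_assoc]
    rw [← h1, Category.assoc, h, lift_fst_assoc]
  · intro h
    exact h (Y ⊗ T) (snd Y T) (fst Y T)

theorem main_S16771 {S : Scheme.{u}} (G Y Y' : Over S) [GrpObj G]
    (hGa : IsAffineHom G.hom) (hGfp : LocallyOfFinitePresentation G.hom)
    (y : Y ⟶ G) (hy : IsClosedImmersion y.left) (hYf : IsFinite Y.hom) (hYfl : Flat Y.hom)
    (hYfp : LocallyOfFinitePresentation Y.hom)
    (y' : Y' ⟶ G) (hy' : IsClosedImmersion y'.left) (hY'fp : LocallyOfFinitePresentation Y'.hom) :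
    ∃ (C : Over S) (c : C ⟶ G), IsClosedImmersion c.left ∧ LocallyOfFinitePresentation C.hom ∧
      ∀ (X : Over S) (g : X ⟶ G), (∃ z : X ⟶ C, z ≫ c = g) ↔
        ∀ (X' : Over S) (x : X' ⟶ X) (a : X' ⟶ Y), ∃ a' : X' ⟶ Y', (x ≫ g) * (a ≫ y) * (x ≫ g)⁻¹ = a' ≫ y' := by
  let cj : Y ⊗ G ⟶ G := (snd Y G) * (fst Y G ≫ y) * (snd Y G)⁻¹
  haveI : LocallyOfFinitePresentation y'.left :=
    Groth.Agent.Helper2.locallyOfFinitePresentation_of_comp y'.left G.hom inferInstance
      (by rw [Over.w y']; exact hY'fp)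
  haveI : IsClosedImmersion (pullback.snd y'.left cj.left) :=
    MorphismProperty.pullback_snd (P := @IsClosedImmersion) _ _ inferInstance
  haveI : LocallyOfFinitePresentation (pullback.snd y'.left cj.left) :=
    MorphismProperty.pullback_snd (P := @LocallyOfFinitePresentation) _ _ inferInstance
  obtain ⟨Z, j, hj, hj', hrep⟩ := flf_rep_fp Y G (pullback.snd y'.left cj.left)
  refine ⟨Z, j, hj, ?_, fun X g => ?_⟩
  · rw [← Over.w j]; infer_instance
  · rw [← hrep X g, lift_pullback_iff, forall_iff_whisker]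
    constructor
    · intro h X' x a
      obtain ⟨a', ha'⟩ := h X' x a
      exact ⟨a', by rw [← ha', conj_eq]⟩
    · intro h X' x a
      obtain ⟨a', ha'⟩ := h X' x a
      exact ⟨a', by rw [← ha', conj_eq]⟩

end Groth.Agent.Lib.Helper4.ContentRep7
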