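import Mathlib
import Groth.Prelude.Def_W4c1tameactTame
import Groth.Agent.Lib.Helper4.ConvHopf

/-!
Relative Hopf modules and total integrals, via the convolution calculus.
-/

universe u v w w' w''

open TensorProduct WithConv

namespace Groth.Agent.Helper4.Conv

section Actions
variable (k : Type u) [CommRing k] (A : Type v) [CommRing A] [Bialgebra k A]
variable (B : Type w) [CommRing B] [Algebra k B]
variable (M : Type w') [AddCommGroup M] [Module k M] [Module B M] [IsScalarTower k B M]

/-- `B` acting on `M`. -/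
noncomputable def μB : B →ₐ[k] Module.End k M := Algebra.lsmul k k M

@[simp] theorem μB_apply (b : B) (m : M) : μB k B M b m = b • m := rfl

/-- `B ⊗ A` acting on `M ⊗ A` factorwise. -/
noncomputable def μBA : B ⊗[k] A →ₐ[k] Module.End k (M ⊗[k] A) :=
  Algebra.TensorProduct.lift
    ((Module.End.rTensorAlgHom k M A).comp (Algebra.lsmul k k M))
    ((Module.End.lTensorAlgHom k A M).comp (Algebra.lmul k A))
    (fun b a => by
      change ((Algebra.lsmul k k M b : Module.End k M).rTensor A : Module.End k (M ⊗[k] A)) *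
          ((Algebra.lmul k A a : Module.End k A).lTensor M : Module.End k (M ⊗[k] A)) =
        ((Algebra.lmul k A a : Module.End k A).lTensor M : Module.End k (M ⊗[k] A)) *
          ((Algebra.lsmul k k M b : Module.End k M).rTensor A : Module.End k (M ⊗[k] A))
      ext m a'
      simp only [Module.End.mul_apply, TensorProduct.AlgebraTensorModule.curry_apply,
        LinearMap.restrictScalars_self, TensorProduct.curry_apply, LinearMap.lTensor_tmul,
        LinearMap.rTensor_tmul])

@[simp] theorem μBA_tmul (b : B) (a : A) (m : M) (a' : A) :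
    μBA k A B M (b ⊗ₜ[k] a) (m ⊗ₜ[k] a') = (b • m) ⊗ₜ[k] (a * a') := by
  rw [μBA, Algebra.TensorProduct.lift_tmul, Module.End.mul_apply]
  change ((Algebra.lsmul k k M b : Module.End k M).rTensor A)
    (((Algebra.lmul k A a : Module.End k A).lTensor M) (m ⊗ₜ[k] a')) = _
  rw [LinearMap.lTensor_tmul, LinearMap.rTensor_tmul]
  rfl

theorem μBA_eq_hmSMul (x : B ⊗[k] A) (y : M ⊗[k] A) :
    μBA k A B M x y = TameAct.hmSMul k A B M x y := by
  have : (μBA k A B M).toLinearMap = TameAct.hmSMul k A B M := by
    ext b a m a'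
    simp
  exact congrArg (fun f => f x y) this

/-- `m ↦ m ⊗ 1` -/
noncomputable def ι : M →ₗ[k] M ⊗[k] A := (TensorProduct.mk k M A).flip 1

@[simp] theorem ι_apply (m : M) : ι k A M m = m ⊗ₜ[k] (1 : A) := rfl

end Actions

section HopfMod
variable {k : Type u} [CommRing k] {A : Type v} [CommRing A] [Bialgebra k A]
variable {B : Type w} [CommRing B] [Algebra k B]
variable {M : Type w'} [AddCommGroup M] [Module k M] [Module B M] [IsScalarTower k B M]
variable [HopfRep.Comod k A M]

theorem coact_eq_cap :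
    (HopfRep.Comod.coact (k := k) (A := A) (V := M)) =
      cap (μBA k A B M) (ι k A M)
        (toConv (Algebra.TensorProduct.includeRight : A →ₐ[k] B ⊗[k] A).toLinearMap) := by
  have : capAux (μBA k A B M) (ι k A M)
      (Algebra.TensorProduct.includeRight : A →ₐ[k] B ⊗[k] A).toLinearMap = LinearMap.id := by
    ext m a
    simp
  rw [cap, WithConv.ofConv_toConv, this, LinearMap.id_comp]

theorem ι_comp_cap {M' : Type*} [AddCommGroup M'] [Module k M'] [HopfRep.Comod k A M']
    (f : M' →ₗ[k] M) (φ : WithConv (A →ₗ[k] B)) :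
    ι k A M ∘ₗ cap (μB k B M) f φ =
      cap (μBA k A B M) (ι k A M ∘ₗ f)
        (toConv ((Algebra.TensorProduct.includeLeft : B →ₐ[k] B ⊗[k] A).toLinearMap ∘ₗ φ.ofConv)) := by
  apply comp_cap
  intro r
  ext m
  simp

variable [HopfRep.Comod k A B] [TameAct.IsHopfMod k A B M]

theorem coact_comp_μB (b : B) :
    (HopfRep.Comod.coact (k := k) (A := A) (V := M)) ∘ₗ μB k B M b =
      μBA k A B M (HopfRep.Comod.coact (k := k) (A := A) b) ∘ₗ
        (HopfRep.Comod.coact (k := k) (A := A) (V := M)) := by
  ext m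
  simp only [LinearMap.comp_apply, μB_apply, μBA_eq_hmSMul]
  exact TameAct.IsHopfMod.coact_smul (k := k) (A := A) b m

variable [GLin.IsCoactAlg k A B]

theorem coact_comp_cap {M' : Type*} [AddCommGroup M'] [Module k M'] [HopfRep.Comod k A M']
    (f : M' →ₗ[k] M) (hf : Hoch.IsComodHom A f) (φ : WithConv (A →ₗ[k] B)) :
    (HopfRep.Comod.coact (k := k) (A := A) (V := M)) ∘ₗ cap (μB k B M) f φ =
      cap (μBA k A B M) (ι k A M ∘ₗ f)
        (toConv (Algebra.TensorProduct.includeRight : A →ₐ[k] B ⊗[k] A).toLinearMap *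
          toConv ((HopfRep.Comod.coact (k := k) (A := A) (V := B)) ∘ₗ φ.ofConv)) := by
  have h1 := comp_cap (μB k B M) (μBA k A B M) (HopfRep.Comod.coact (k := k) (A := A) (V := M))
    (GLin.coactAlgHom k A B) (fun r => coact_comp_μB (k := k) (A := A) (B := B) (M := M) r) f φ
  rw [h1]
  have h2 : (HopfRep.Comod.coact (k := k) (A := A) (V := M)) ∘ₗ f =
      cap (μBA k A B M) (ι k A M ∘ₗ f)
        (toConv (Algebra.TensorProduct.includeRight : A →ₐ[k] B ⊗[k] A).toLinearMap) := by
    rw [← cap_comp_hom _ _ _ f hf, ← coact_eq_cap]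
  rw [h2, cap_mul]
  rfl

end HopfMod

end Groth.Agent.Helper4.Conv
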