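import Mathlib
import Groth.Agent.Lib.Helper8.FlatReg6
import Groth.Agent.Lib.Helper8.ABS13
import Groth.Agent.Lib.Helper4.Noether1

/-!
# Factors of a tensor-product decomposition of a regular local ring finite over a regular local ring are free and regular (tensor freeness over local rings, PiTensorProduct coproduct, miracle flatness, flat descent) (helper4)
-/

set_option backward.isDefEq.respectTransparency.types false
set_option synthInstance.maxHeartbeats 400000
set_option autoImplicit false
set_option linter.unusedSectionVars false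
set_option linter.style.haveILetI false
set_option linter.unusedSimpArgs false
universe u v w
open TensorProduct IsLocalRing

namespace Groth.Agent.Lib.Helper4.CoprodReg1

/-- Over a local ring, if `M ⊗ N` is flat with `M`, `N` finite and `N ≠ 0`, then `M` is free. -/
theorem free_of_flat_tensor {R : Type*} [CommRing R] [IsLocalRing R] {M N : Type*}
    [AddCommGroup M] [Module R M] [AddCommGroup N] [Module R N] [Module.Finite R M]
    [Module.Finite R N] [Module.Flat R (M ⊗[R] N)] [Nontrivial N] : Module.Free R M := by
  let bM := Module.Free.chooseBasis (ResidueField R) (ResidueField R ⊗[R] M)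
  let bN := Module.Free.chooseBasis (ResidueField R) (ResidueField R ⊗[R] N)
  obtain ⟨v, hv⟩ := (TensorProduct.mk_surjective R M (ResidueField R)
    Ideal.Quotient.mk_surjective).comp_left bM
  obtain ⟨w, hw⟩ := (TensorProduct.mk_surjective R N (ResidueField R)
    Ideal.Quotient.mk_surjective).comp_left bN
  haveI : Nontrivial (ResidueField R ⊗[R] N) := by
    rw [← not_subsingleton_iff_nontrivial, IsLocalRing.subsingleton_tensorProduct]
    exact not_subsingleton N
  obtain ⟨j₀⟩ := bN.index_nonempty
  have hli : LinearIndependent R (fun p : _ × _ => v p.1 ⊗ₜ[R] w p.2) := by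
    apply Module.IsLocalRing.linearIndependent_of_flat
    let e := AlgebraTensorModule.distribBaseChange R (ResidueField R) M N
    apply LinearIndependent.of_comp e.toLinearMap
    have : (e.toLinearMap ∘ (TensorProduct.mk R (ResidueField R) (M ⊗[R] N) 1 ∘
        fun p : _ × _ => v p.1 ⊗ₜ[R] w p.2)) = fun p => (bM.tensorProduct bN) p := by
      funext p
      have h1 := congr_fun hv p.1
      have h2 := congr_fun hw p.2
      simp only [Function.comp_apply, TensorProduct.mk_apply] at h1 h2
      simp only [Function.comp_apply, TensorProduct.mk_apply, LinearEquiv.coe_coe, e,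
        AlgebraTensorModule.distribBaseChange_tmul, Module.Basis.tensorProduct_apply', h1, h2]
    rw [this]
    exact (bM.tensorProduct bN).linearIndependent
  have hv_li : LinearIndependent R v := by
    apply LinearIndependent.of_comp ((TensorProduct.mk R M N).flip (w j₀))
    exact hli.comp (fun i => (i, j₀)) (fun a b h => (Prod.mk.inj h).1)
  exact Module.Free.of_basis (Module.Basis.mk hv_li
    (IsLocalRing.span_eq_top_of_tmul_eq_basis v bM (congr_fun hv)).ge)

section PiLift
variable {R : Type*} [CommRing R] {ι : Type*} [Fintype ι] {Bs : ι → Type*} [∀ i, CommRing (Bs i)]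
  [∀ i, Algebra R (Bs i)] {S : Type*} [CommRing S] [Algebra R S]

/-- The algebra map out of a finite tensor product of commutative algebras induced by a family. -/
noncomputable def piLift (φ : ∀ i, Bs i →ₐ[R] S) : (⨂[R] i, Bs i) →ₐ[R] S :=
  PiTensorProduct.liftAlgHom
    ((MultilinearMap.mkPiAlgebra R ι S).compLinearMap (fun i => (φ i).toLinearMap))
    (by simp) (by intro x y; simp [Finset.prod_mul_distrib])

lemma piLift_single [DecidableEq ι] (φ : ∀ i, Bs i →ₐ[R] S) (i : ι) (a : Bs i) :
    piLift φ (PiTensorProduct.singleAlgHom i a) = φ i a := by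
  simp only [piLift, PiTensorProduct.singleAlgHom_apply, PiTensorProduct.liftAlgHom_apply,
    PiTensorProduct.lift.tprod, MultilinearMap.compLinearMap_apply, AlgHom.toLinearMap_apply,
    MultilinearMap.mkPiAlgebra_apply]
  rw [Finset.prod_eq_single i]
  · simp
  · intro j _ hj
    simp [MonoidHom.mulSingle_apply, Pi.mulSingle_eq_of_ne hj]
  · intro h; exact (h (Finset.mem_univ i)).elim

end PiLift

section Coprod
variable {R : Type u} [CommRing R] {A : Type v} [CommRing A] [Algebra R A] {n : ℕ}
  (B : Fin n → Subalgebra R A)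

/-- The complement tensor product `⨂_{j ≠ i} B_j`. -/
abbrev Cc (i : Fin n) : Type (max u v) := ⨂[R] (j : {j : Fin n // j ≠ i}), B j.1

/-- The multiplication map `B_i ⊗ ⨂_{j ≠ i} B_j → A`, as a `B_i`-algebra map. -/
noncomputable def Phi (i : Fin n) : (B i) ⊗[R] (Cc B i) →ₐ[B i] A :=
  Algebra.TensorProduct.productLeftAlgHom (Algebra.ofId (B i) A)
    (piLift fun j : {j : Fin n // j ≠ i} => (B j.1).val)

lemma Phi_left (i : Fin n) (b : B i) : Phi B i (b ⊗ₜ 1) = b := by
  simp [Phi]

lemma Phi_right (i : Fin n) (j : {j : Fin n // j ≠ i}) (x : B j.1) :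
    Phi B i (1 ⊗ₜ PiTensorProduct.singleAlgHom j x) = x := by
  simp only [Phi, Algebra.TensorProduct.lift_tmul, map_one, one_mul]
  exact piLift_single (Bs := fun j : {j : Fin n // j ≠ i} => B j.1)
    (fun j : {j : Fin n // j ≠ i} => (B j.1).val) j x

/-- The family of maps `B_j → B_i ⊗ ⨂_{j ≠ i} B_j`. -/
noncomputable def fam (i : Fin n) (j : Fin n) : B j →ₐ[R] (B i) ⊗[R] (Cc B i) :=
  if h : j = i then
    (Algebra.TensorProduct.includeLeft).comp (Subalgebra.inclusion (h ▸ le_rfl : B j ≤ B i))
  else Algebra.TensorProduct.includeRight.comp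
    (PiTensorProduct.singleAlgHom (R := R) (A := fun j : {j : Fin n // j ≠ i} => B j.1)
      (⟨j, h⟩ : {j : Fin n // j ≠ i}))

lemma fam_self (i : Fin n) (x : B i) : fam B i i x = x ⊗ₜ 1 := by
  simp [fam]

lemma fam_ne (i : Fin n) (j : {j : Fin n // j ≠ i}) (x : B j.1) :
    fam B i j.1 x = 1 ⊗ₜ PiTensorProduct.singleAlgHom j x := by
  simp [fam, j.2]

lemma Phi_fam (i j : Fin n) (x : B j) : Phi B i (fam B i j x) = x := by
  by_cases h : j = i
  · subst h
    rw [fam_self, Phi_left]
  · rw [fam_ne B i ⟨j, h⟩ x, Phi_right]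

theorem Phi_bijective (i : Fin n)
    (hcoprod : ∀ (C : Type (max u v)) [CommRing C] [Algebra R C] (φ : ∀ i : Fin n, B i →ₐ[R] C),
      ∃! ψ : A →ₐ[R] C, ∀ i (x : B i), ψ x = φ i x) :
    Function.Bijective (Phi B i) := by
  obtain ⟨Ψ, hΨ, -⟩ := hcoprod ((B i) ⊗[R] (Cc B i)) (fam B i)
  -- `Φ ∘ Ψ = id`
  have h1 : ∀ a : A, Phi B i (Ψ a) = a := by
    let e : A →ₐ[R] ULift.{max u v} A := (ULift.algEquiv (R := R) (A := A)).symm.toAlgHom
    obtain ⟨ψ₀, -, huniq⟩ := hcoprod (ULift.{max u v} A) (fun j => e.comp (B j).val)
    have e1 : e.comp (((Phi B i).restrictScalars R).comp Ψ) = ψ₀ := by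
      apply huniq
      intro j x
      simp only [AlgHom.comp_apply, AlgHom.restrictScalars_apply, hΨ, Phi_fam, Subalgebra.val_apply]
    have e2 : e = ψ₀ := by
      apply huniq
      intro j x
      simp
    intro a
    have := congrArg (fun f => (f a).down) (e1.trans e2.symm)
    simpa [e] using this
  -- `Ψ ∘ Φ = id`
  have h2 : ∀ t : (B i) ⊗[R] (Cc B i), Ψ (Phi B i t) = t := by
    have : Ψ.comp ((Phi B i).restrictScalars R) = AlgHom.id R _ := by
      apply Algebra.TensorProduct.ext
      · ext b
        simp only [AlgHom.comp_apply, Algebra.TensorProduct.includeLeft_apply,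
          AlgHom.restrictScalars_apply, Phi_left, hΨ, fam_self, AlgHom.id_apply]
      · apply PiTensorProduct.algHom_ext
        intro j
        ext x
        simp only [AlgHom.comp_apply, Algebra.TensorProduct.includeRight_apply,
          AlgHom.restrictScalars_apply, Phi_right, hΨ, fam_ne B i j x, AlgHom.id_apply]
    intro t
    exact congrArg (fun f => f t) this
  exact ⟨fun x y hxy => by rw [← h2 x, ← h2 y, hxy], fun a => ⟨Ψ a, h1 a⟩⟩

end Coprod

section Free

open LocCoh

theorem dim_quot_zero (R A : Type*) [CommRing R] [IsLocalRing R] [CommRing A] [Algebra R A]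
    [Module.Finite R A] (hne : (maximalIdeal R).map (algebraMap R A) ≠ ⊤) :
    ringKrullDim (A ⧸ (maximalIdeal R).map (algebraMap R A)) = 0 := by
  haveI : Nontrivial (A ⧸ (maximalIdeal R).map (algebraMap R A)) := Ideal.Quotient.nontrivial_iff.2 hne
  haveI : Algebra.IsIntegral R (A ⧸ (maximalIdeal R).map (algebraMap R A)) :=
    Algebra.IsIntegral.of_finite R _
  rw [← ringKrullDimZero_iff_ringKrullDim_eq_zero]
  refine Ring.KrullDimLE.mk₀ fun q hq => ?_
  have hle : maximalIdeal R ≤ q.comap (algebraMap R (A ⧸ (maximalIdeal R).map (algebraMap R A))) := by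
    intro r hr
    rw [Ideal.mem_comap, IsScalarTower.algebraMap_apply R A (A ⧸ (maximalIdeal R).map (algebraMap R A)),
      Ideal.Quotient.algebraMap_eq, Ideal.Quotient.eq_zero_iff_mem.2 (Ideal.mem_map_of_mem _ hr)]
    exact zero_mem _
  have hmax : (q.comap (algebraMap R (A ⧸ (maximalIdeal R).map (algebraMap R A)))).IsMaximal := by
    rw [← (maximalIdeal.isMaximal R).eq_of_le (Ideal.IsPrime.comap _).ne_top hle]
    exact maximalIdeal.isMaximal R
  exact Ideal.isMaximal_of_isIntegral_of_isMaximal_comap q hmax

theorem free_same (R A : Type u) [CommRing R] [CommRing A] [IsRegularLocalRing R]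
    [IsRegularLocalRing A] [Algebra R A] [Module.Finite R A]
    (hinj : Function.Injective (algebraMap R A)) : Module.Free R A := by
  haveI : FaithfulSMul R A := (faithfulSMul_iff_algebraMap_injective R A).2 hinj
  haveI : Algebra.IsIntegral R A := Algebra.IsIntegral.of_finite R A
  haveI : IsLocalHom (algebraMap R A) := inferInstance
  haveI : IsCohenMacaulayLocalRing A :=
    Groth.Agent.Helper8.FlatReg.isCohenMacaulayLocalRing_of_isRegularLocalRing A
  have hJ : (maximalIdeal R).map (algebraMap R A) ≠ ⊤ := by
    intro h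
    have h2 : (maximalIdeal R).map (algebraMap R A) ≤ maximalIdeal A :=
      ((IsLocalRing.local_hom_TFAE (algebraMap R A)).out 0 2).1
        (inferInstance : IsLocalHom (algebraMap R A))
    exact (maximalIdeal.isMaximal A).ne_top (top_le_iff.1 (h ▸ h2))
  have hdim : ringKrullDim A = ringKrullDim R +
      ringKrullDim (A ⧸ (maximalIdeal R).map (algebraMap R A)) := by
    rw [dim_quot_zero R A hJ, add_zero]
    exact Groth.Agent.Helper4.NN.ringKrullDim_eq_of_finite_injective (algebraMap R A)
      (RingHom.finite_algebraMap.2 inferInstance) hinj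
  haveI := Groth.Agent.Helper8.FlatReg.miracle_flatness hdim
  exact Module.free_of_flat_of_isLocalRing

theorem free_of_finite_regular {R : Type u} {A : Type v} [CommRing R] [CommRing A]
    [IsRegularLocalRing R] [IsRegularLocalRing A] [Algebra R A] [Module.Finite R A]
    (hinj : Function.Injective (algebraMap R A)) : Module.Free R A := by
  let e : R ≃+* (algebraMap R A).range :=
    RingEquiv.ofBijective (algebraMap R A).rangeRestrict
      ⟨fun x y h => hinj (congrArg Subtype.val h), (algebraMap R A).rangeRestrict_surjective⟩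
  haveI : IsRegularLocalRing (algebraMap R A).range := IsRegularLocalRing.of_ringEquiv e
  letI : Algebra R (algebraMap R A).range := (algebraMap R A).rangeRestrict.toAlgebra
  haveI : IsScalarTower R (algebraMap R A).range A := IsScalarTower.of_algebraMap_eq fun r => rfl
  haveI : Module.Finite (algebraMap R A).range A :=
    Module.Finite.of_restrictScalars_finite R (algebraMap R A).range A
  haveI : Module.Free (algebraMap R A).range A :=
    free_same (algebraMap R A).range A Subtype.val_injective
  let b := Module.Free.chooseBasis (algebraMap R A).range A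
  have hsm : ∀ (c : (algebraMap R A).range) (x : A), e.symm c • x = c • x := by
    intro c x
    obtain ⟨r, rfl⟩ := e.surjective c
    rw [RingEquiv.symm_apply_apply, Algebra.smul_def]
    rfl
  exact Module.Free.of_basis (b.mapCoeffs e.symm hsm)

end Free

section Main

theorem main {R : Type u} [CommRing R] [IsRegularLocalRing R] {A : Type v} [CommRing A]
    [IsRegularLocalRing A] [Algebra R A] [Module.Finite R A]
    (hinj : Function.Injective (algebraMap R A)) {n : ℕ} (B : Fin n → Subalgebra R A)
    (hcoprod : ∀ (C : Type (max u v)) [CommRing C] [Algebra R C] (φ : ∀ i : Fin n, B i →ₐ[R] C),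
      ∃! ψ : A →ₐ[R] C, ∀ i (x : B i), ψ x = φ i x) (i : Fin n) :
    Module.Free R (B i) ∧ IsRegularLocalRing (B i) := by
  have hbij := Phi_bijective B i hcoprod
  haveI hfreeA : Module.Free R A := free_of_finite_regular hinj
  let eR : (B i) ⊗[R] (Cc B i) ≃ₗ[R] A :=
    LinearEquiv.ofBijective ((Phi B i).restrictScalars R).toLinearMap hbij
  haveI : Module.Free R ((B i) ⊗[R] (Cc B i)) := Module.Free.of_equiv eR.symm
  haveI hfin : ∀ j, Module.Finite R (B j) := fun j =>
    Module.Finite.of_injective (B j).val.toLinearMap Subtype.val_injective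
  haveI : Module.Finite R (Cc B i) := inferInstance
  haveI : Nontrivial ((B i) ⊗[R] (Cc B i)) := eR.toEquiv.nontrivial
  haveI : Nontrivial (Cc B i) := by
    by_contra h
    rw [not_nontrivial_iff_subsingleton] at h
    exact not_subsingleton ((B i) ⊗[R] (Cc B i)) inferInstance
  haveI : Nontrivial (B i) := by
    by_contra h
    rw [not_nontrivial_iff_subsingleton] at h
    exact not_subsingleton ((B i) ⊗[R] (Cc B i)) inferInstance
  have h1 : Module.Free R (B i) := free_of_flat_tensor (N := Cc B i)
  haveI : Module.Flat R ((Cc B i) ⊗[R] (B i)) :=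
    Module.Flat.of_linearEquiv (TensorProduct.comm R (Cc B i) (B i))
  haveI h2 : Module.Free R (Cc B i) := free_of_flat_tensor (M := Cc B i) (N := B i)
  refine ⟨h1, ?_⟩
  haveI : Module.Free (B i) ((B i) ⊗[R] (Cc B i)) := inferInstance
  let eB : (B i) ⊗[R] (Cc B i) ≃ₗ[B i] A := LinearEquiv.ofBijective (Phi B i).toLinearMap hbij
  haveI : Module.Flat (B i) A := Module.Flat.of_linearEquiv eB.symm
  haveI : IsNoetherianRing (B i) := Algebra.FiniteType.isNoetherianRing R (B i)
  haveI : FaithfulSMul (B i) A :=
    (faithfulSMul_iff_algebraMap_injective (B i) A).2 Subtype.val_injective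
  haveI : Algebra.IsIntegral R A := Algebra.IsIntegral.of_finite R A
  haveI : Algebra.IsIntegral (B i) A := Algebra.IsIntegral.tower_top R
  haveI : IsLocalHom (algebraMap (B i) A) := inferInstance
  haveI : IsLocalRing (B i) := by
    refine IsLocalRing.of_nonunits_add fun a b ha hb => ?_
    have ha' : algebraMap (B i) A a ∈ maximalIdeal A := fun h => ha (isUnit_of_map_unit _ a h)
    have hb' : algebraMap (B i) A b ∈ maximalIdeal A := fun h => hb (isUnit_of_map_unit _ b h)
    intro hab
    have : algebraMap (B i) A (a + b) ∈ maximalIdeal A := by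
      rw [map_add]; exact add_mem ha' hb'
    exact this (hab.map _)
  exact Groth.Agent.Helper8.ABS.isRegularLocalRing_of_flat (B i) A

end Main

end Groth.Agent.Lib.Helper4.CoprodReg1
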