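import Mathlib

namespace Groth.Agent.Helper4.SK

open CategoryTheory CategoryTheory.Limits Opposite

universe v u

instance finite_truncated (m : ℕ) : Finite (SimplexCategory.Truncated m) := by
  let φ : SimplexCategory.Truncated m → Fin (m + 1) := fun a => ⟨a.1.len, Nat.lt_succ_of_le a.2⟩
  apply Finite.of_injective φ
  intro a b h
  have h1 : a.1.len = b.1.len := congrArg Fin.val h
  obtain ⟨a, ha⟩ := a
  obtain ⟨b, hb⟩ := b
  have : a = b := SimplexCategory.ext h1
  subst this
  rfl

instance finite_hom_truncated (m : ℕ) (a b : SimplexCategory.Truncated m) : Finite (a ⟶ b) := by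
  apply Finite.of_injective (fun f : a ⟶ b => f.hom)
  intro f g h
  exact ObjectProperty.hom_ext _ h

theorem hasLimitsOfShape_of_finite {C : Type u} [Category.{v} C] [HasFiniteLimits C]
    (J : Type) [SmallCategory J] [Finite J] [∀ a b : J, Finite (a ⟶ b)] :
    HasLimitsOfShape J C := by
  classical
  have := Fintype.ofFinite J
  let _ : FinCategory J := { fintypeHom := fun a b => Fintype.ofFinite _ }
  exact HasFiniteLimits.out J

theorem hasColimitsOfShape_of_finite {C : Type u} [Category.{v} C] [HasFiniteColimits C]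
    (J : Type) [SmallCategory J] [Finite J] [∀ a b : J, Finite (a ⟶ b)] :
    HasColimitsOfShape J C := by
  classical
  have := Fintype.ofFinite J
  let _ : FinCategory J := { fintypeHom := fun a b => Fintype.ofFinite _ }
  exact HasFiniteColimits.out J

instance finite_structuredArrow (m : ℕ) (Y : SimplexCategoryᵒᵖ) :
    Finite (StructuredArrow Y (SimplexCategory.Truncated.inclusion m).op) := by
  let φ : StructuredArrow Y (SimplexCategory.Truncated.inclusion m).op →
      Σ a : SimplexCategory.Truncated m, (a.1 ⟶ Y.unop) := fun X => ⟨X.right.unop, X.hom.unop⟩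
  apply Finite.of_injective φ
  rintro ⟨⟨⟨⟩⟩, ⟨a⟩, f⟩ ⟨⟨⟨⟩⟩, ⟨b⟩, g⟩ h
  simp only [φ, Sigma.mk.injEq] at h
  obtain ⟨h1, h2⟩ := h
  subst h1
  have : f = g := by
    have := eq_of_heq h2
    exact Quiver.Hom.unop_inj this
  subst this
  rfl

instance finite_hom_structuredArrow (m : ℕ) (Y : SimplexCategoryᵒᵖ)
    (A B : StructuredArrow Y (SimplexCategory.Truncated.inclusion m).op) : Finite (A ⟶ B) := by
  apply Finite.of_injective (fun f : A ⟶ B => f.right.unop)
  intro f g h
  apply StructuredArrow.hom_ext
  exact Quiver.Hom.unop_inj h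

/-- S6800 -/
theorem hasPointwiseRightKanExtension_of_hasFiniteLimits {C : Type u} [Category.{v} C]
    [HasFiniteLimits C] (m : ℕ) (U : (SimplexCategory.Truncated m)ᵒᵖ ⥤ C) :
    (SimplexCategory.Truncated.inclusion m).op.HasPointwiseRightKanExtension U := by
  intro Y
  have := hasLimitsOfShape_of_finite (C := C)
    (StructuredArrow Y (SimplexCategory.Truncated.inclusion m).op)
  infer_instance

instance finite_costructuredArrow (m : ℕ) (Y : SimplexCategoryᵒᵖ) :
    Finite (CostructuredArrow (SimplexCategory.Truncated.inclusion m).op Y) := by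
  let φ : CostructuredArrow (SimplexCategory.Truncated.inclusion m).op Y →
      Σ a : SimplexCategory.Truncated m, (Y.unop ⟶ a.1) := fun X => ⟨X.left.unop, X.hom.unop⟩
  apply Finite.of_injective φ
  rintro ⟨⟨a⟩, ⟨⟨⟩⟩, f⟩ ⟨⟨b⟩, ⟨⟨⟩⟩, g⟩ h
  simp only [φ, Sigma.mk.injEq] at h
  obtain ⟨h1, h2⟩ := h
  subst h1
  have : f = g := by
    have := eq_of_heq h2
    exact Quiver.Hom.unop_inj this
  subst this
  rfl

instance finite_hom_costructuredArrow (m : ℕ) (Y : SimplexCategoryᵒᵖ)
    (A B : CostructuredArrow (SimplexCategory.Truncated.inclusion m).op Y) : Finite (A ⟶ B) := by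
  apply Finite.of_injective (fun f : A ⟶ B => f.left.unop)
  intro f g h
  apply CostructuredArrow.hom_ext
  exact Quiver.Hom.unop_inj h

/-- S6810 -/
theorem hasPointwiseLeftKanExtension_of_hasFiniteColimits {C : Type u} [Category.{v} C]
    [HasFiniteColimits C] (m : ℕ) (U : (SimplexCategory.Truncated m)ᵒᵖ ⥤ C) :
    (SimplexCategory.Truncated.inclusion m).op.HasPointwiseLeftKanExtension U := by
  intro Y
  have := hasColimitsOfShape_of_finite (C := C)
    (CostructuredArrow (SimplexCategory.Truncated.inclusion m).op Y)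
  infer_instance

end Groth.Agent.Helper4.SK
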