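import Mathlib
import Groth.Agent.Lib.Helper2.CompleteNoeth

/-!
# compatible families over complete Noetherian local flat algebras are constant (S11181) (helper4)
-/

set_option backward.isDefEq.respectTransparency.types false
set_option synthInstance.maxHeartbeats 400000
set_option autoImplicit false
set_option linter.unusedSectionVars false
set_option linter.style.haveILetI false
set_option linter.unusedSimpArgs false
universe u v w
open TensorProduct IsLocalRing

namespace Groth.Agent.Lib.Helper4.CplFam1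
noncomputable section

/-- The test objects: complete Noetherian local flat `A`-algebras. -/
structure Obj (A : Type u) [CommRing A] where
  B : Type u
  [cr : CommRing B]
  [alg : Algebra A B]
  [noeth : IsNoetherianRing B]
  [loc : IsLocalRing B]
  compl : IsAdicComplete (IsLocalRing.maximalIdeal B) B
  flat : Module.Flat A B

attribute [instance] Obj.cr Obj.alg Obj.noeth Obj.loc

section mk
variable (A : Type u) [CommRing A] (R : Type u) [CommRing R] [Algebra A R] [IsNoetherianRing R]
  [Module.Flat A R] (q : Ideal R) [q.IsPrime]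

/-- completion of the localisation at a prime -/
abbrev Cpl : Type u :=
  AdicCompletion (maximalIdeal (Localization.AtPrime q)) (Localization.AtPrime q)

instance : IsNoetherianRing (Cpl R q) :=
  Groth.Agent.Helper2.CompleteNoeth.isNoetherianRing_adicCompletion _ _
    (maximalIdeal (Localization.AtPrime q)).fg_of_isNoetherianRing

def mkObj : Obj A where
  B := Cpl R q
  compl := inferInstance
  flat := by
    haveI : Module.Flat A (Localization.AtPrime q) := Module.Flat.trans A R _
    exact Module.Flat.trans A (Localization.AtPrime q) _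

instance : Module.Flat R (Cpl R q) := Module.Flat.trans R (Localization.AtPrime q) _

theorem map_le_maximalIdeal :
    q.map (algebraMap R (Cpl R q)) ≤ maximalIdeal (Cpl R q) := by
  rw [IsScalarTower.algebraMap_eq R (Localization.AtPrime q) (Cpl R q), ← Ideal.map_map,
    Localization.AtPrime.map_eq_maximalIdeal, AdicCompletion.maximalIdeal_eq_map]

theorem map_ne_top : q.map (algebraMap R (Cpl R q)) ≠ ⊤ := fun h =>
  (maximalIdeal.isMaximal (Cpl R q)).ne_top (top_le_iff.mp (h ▸ map_le_maximalIdeal R q))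

end mk

section T1
variable {R : Type*} [CommRing R] {R' : Type*} [CommRing R'] [Algebra R R'] [Module.Flat R R']
  {P : Type*} [AddCommGroup P] [Module R P]

theorem one_tmul_ne_zero (n : P) (q : Ideal R) (hq : ∀ r : R, r • n = 0 → r ∈ q)
    (hq' : q.map (algebraMap R R') ≠ ⊤) : (1 : R') ⊗ₜ[R] n ≠ 0 := by
  intro h0
  -- the injective map R/Ann → P
  let f : R →ₗ[R] P := LinearMap.toSpanSingleton R P n
  let I : Submodule R R := LinearMap.ker f
  let g : (R ⧸ I) →ₗ[R] P := I.liftQ f le_rfl
  have hg : Function.Injective g := by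
    rw [← LinearMap.ker_eq_bot]
    exact Submodule.ker_liftQ_eq_bot _ _ _ le_rfl
  have hg' : Function.Injective (LinearMap.lTensor R' g) :=
    Module.Flat.lTensor_preserves_injective_linearMap g hg
  have hg1 : g (Submodule.Quotient.mk (1 : R)) = n := by
    show I.liftQ f le_rfl (Submodule.Quotient.mk (1 : R)) = n
    rw [Submodule.liftQ_apply]
    simp [f]
  have h1 : (1 : R') ⊗ₜ[R] (Submodule.Quotient.mk (1 : R) : R ⧸ I) = 0 := by
    apply hg'
    rw [map_zero, LinearMap.lTensor_tmul, hg1]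
    exact h0
  -- map to R'/qR'
  let J : Ideal R' := q.map (algebraMap R R')
  let φ₀ : R →ₗ[R] (R' ⧸ J) := (Algebra.linearMap R (R' ⧸ J))
  have hφ₀ : I ≤ LinearMap.ker φ₀ := by
    intro r hr
    have hr' : r • n = 0 := by simpa [I, f] using hr
    have : r ∈ q := hq r hr'
    rw [LinearMap.mem_ker]
    show algebraMap R (R' ⧸ J) r = 0
    rw [IsScalarTower.algebraMap_apply R R' (R' ⧸ J), Ideal.Quotient.algebraMap_eq,
      Ideal.Quotient.eq_zero_iff_mem]
    exact Ideal.mem_map_of_mem _ this
  let φ : (R ⧸ I) →ₗ[R] (R' ⧸ J) := I.liftQ φ₀ hφ₀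
  let μ : R' ⊗[R] (R' ⧸ J) →ₗ[R] (R' ⧸ J) :=
    TensorProduct.lift (LinearMap.mk₂ R (fun (a : R') (b : R' ⧸ J) => a • b)
          (fun _ _ _ => add_smul _ _ _) (fun _ _ _ => smul_assoc _ _ _)
          (fun _ _ _ => smul_add _ _ _) (fun _ _ _ => smul_comm _ _ _))
  have h2 := congrArg (fun t => μ (LinearMap.lTensor R' φ t)) h1
  simp only [LinearMap.lTensor_tmul, map_zero] at h2
  have h3 : φ (Submodule.Quotient.mk (1 : R)) = 1 := by
    show I.liftQ φ₀ hφ₀ (Submodule.Quotient.mk (1 : R)) = 1
    rw [Submodule.liftQ_apply]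
    simp [φ₀]
  rw [h3] at h2
  have h4 : μ ((1 : R') ⊗ₜ[R] (1 : R' ⧸ J)) = 1 := by
    simp [μ]
  rw [h4] at h2
  have : (1 : R' ⧸ J) ≠ 0 := by
    haveI : Nontrivial (R' ⧸ J) := Ideal.Quotient.nontrivial_iff.mpr hq'
    exact one_ne_zero
  exact this h2

end T1


section T23
variable {A : Type u} [CommRing A] (p : Ideal A) [p.IsPrime]
  {B : Type u} [CommRing B] [Algebra A B]

/-- elements outside `p` act injectively on `B ⊗ A/p` for flat `B` -/
theorem smul_injective_of_notMem [Module.Flat A B] (b : A) (hb : b ∉ p)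
    (n : B ⊗[A] (A ⧸ p)) (hn : b • n = 0) : n = 0 := by
  let m : (A ⧸ p) →ₗ[A] (A ⧸ p) := LinearMap.lsmul A (A ⧸ p) b
  have hm : Function.Injective m := by
    intro x y hxy
    have h1 : b • (x - y) = 0 := by
      rw [smul_sub, sub_eq_zero]; exact hxy
    obtain ⟨z, hz⟩ := Ideal.Quotient.mk_surjective (x - y)
    rw [← hz] at h1
    have h2 : Ideal.Quotient.mk p (b * z) = 0 := by
      rw [map_mul]; simpa [Algebra.smul_def] using h1
    rw [Ideal.Quotient.eq_zero_iff_mem] at h2
    have h3 : z ∈ p := (Ideal.IsPrime.mem_or_mem inferInstance h2).resolve_left hb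
    have h4 : x - y = 0 := by rw [← hz]; exact Ideal.Quotient.eq_zero_iff_mem.mpr h3
    exact sub_eq_zero.mp h4
  have hm' : Function.Injective (LinearMap.lTensor B m) :=
    Module.Flat.lTensor_preserves_injective_linearMap m hm
  apply hm'
  rw [map_zero]
  have : LinearMap.lTensor B m = b • (LinearMap.id : B ⊗[A] (A ⧸ p) →ₗ[A] B ⊗[A] (A ⧸ p)) := by
    ext x
    simp [m, TensorProduct.tmul_smul]
  rw [this]
  simpa using hn

/-- elements of `pB` kill `B ⊗ A/p` -/
theorem tmul_eq_zero_of_mem_map (y : B) (hy : y ∈ p.map (algebraMap A B)) (d : A ⧸ p) :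
    y ⊗ₜ[A] d = 0 := by
  unfold Ideal.map at hy
  induction hy using Submodule.span_induction with
  | mem y hy =>
    obtain ⟨a, ha, rfl⟩ := hy
    obtain ⟨z, rfl⟩ := Ideal.Quotient.mk_surjective d
    rw [Algebra.algebraMap_eq_smul_one, TensorProduct.smul_tmul]
    have : a • (Ideal.Quotient.mk p z) = 0 := by
      rw [Algebra.smul_def, Ideal.Quotient.algebraMap_eq, ← map_mul,
        Ideal.Quotient.eq_zero_iff_mem]
      exact p.mul_mem_right _ ha
    rw [this, TensorProduct.tmul_zero]
  | zero => exact TensorProduct.zero_tmul _ _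
  | add x y _ _ hx hy => rw [TensorProduct.add_tmul, hx, hy, add_zero]
  | smul c x _ hx =>
    rw [smul_eq_mul, ← smul_eq_mul, ← TensorProduct.smul_tmul', hx, smul_zero]

/-- `p` kills `B ⊗ A/p` -/
theorem smul_eq_zero_of_mem (a : A) (ha : a ∈ p) (n : B ⊗[A] (A ⧸ p)) : a • n = 0 := by
  induction n using TensorProduct.induction_on with
  | zero => simp
  | tmul b d =>
    rw [TensorProduct.smul_tmul']
    apply tmul_eq_zero_of_mem_map
    rw [Algebra.smul_def]
    exact Ideal.mul_mem_right _ _ (Ideal.mem_map_of_mem _ ha)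
  | add x y hx hy => rw [smul_add, hx, hy, add_zero]

/-- every element of `B ⊗ A/p` is of the form `β ⊗ 1` -/
theorem exists_tmul_one (n : B ⊗[A] (A ⧸ p)) : ∃ β : B, n = β ⊗ₜ[A] (1 : A ⧸ p) := by
  induction n using TensorProduct.induction_on with
  | zero => exact ⟨0, (TensorProduct.zero_tmul _ _).symm⟩
  | tmul b d =>
    obtain ⟨z, rfl⟩ := Ideal.Quotient.mk_surjective d
    refine ⟨z • b, ?_⟩
    rw [TensorProduct.smul_tmul]
    congr 1
    rw [Algebra.smul_def, mul_one]; rfl
  | add x y hx hy =>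
    obtain ⟨β, rfl⟩ := hx
    obtain ⟨β', rfl⟩ := hy
    exact ⟨β + β', (TensorProduct.add_tmul _ _ _).symm⟩

end T23



section ext
variable {R S : Type*} [CommRing R] [CommRing S] (I : Ideal R) (J : Ideal S) (f : R →+* S)
  (hIJ : I.map f ≤ J)

include hIJ in
theorem pow_le_comap_pow (n : ℕ) : I ^ n ≤ (J ^ n).comap f := by
  rw [← Ideal.map_le_iff_le_comap, Ideal.map_pow]
  exact Ideal.pow_right_mono hIJ n

/-- The levels of the extension to the completion. -/
def extLevel (n : ℕ) : AdicCompletion I R →+* S ⧸ J ^ n :=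
  (Ideal.quotientMap (J ^ n) f (pow_le_comap_pow I J f hIJ n)).comp
    (AdicCompletion.evalₐ I n).toRingHom

theorem extLevel_compat {m n : ℕ} (hle : m ≤ n) :
    (Ideal.Quotient.factorPow J hle).comp (extLevel I J f hIJ n) = extLevel I J f hIJ m := by
  ext x
  obtain ⟨a, rfl⟩ := AdicCompletion.mk_surjective I R x
  simp only [extLevel, RingHom.comp_apply, AlgHom.toRingHom_eq_coe, RingHom.coe_coe,
    AdicCompletion.evalₐ_mk]
  rw [Ideal.quotientMap_mk, Ideal.quotientMap_mk]
  have h1 : Ideal.Quotient.mk (I ^ m) (a.1 m) = Ideal.Quotient.mk (I ^ m) (a.1 n) :=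
    (AdicCompletion.Ideal.mk_eq_mk I hle a).symm
  rw [Ideal.Quotient.eq] at h1
  show Ideal.Quotient.mk (J ^ m) (f (a.1 n)) = Ideal.Quotient.mk (J ^ m) (f (a.1 m))
  rw [Ideal.Quotient.eq, ← map_sub, ← Ideal.neg_mem_iff, ← map_neg, neg_sub]
  exact pow_le_comap_pow I J f hIJ m h1

variable [IsAdicComplete J S]

/-- **Extension of a ring homomorphism to the completion.** -/
def extC : AdicCompletion I R →+* S :=
  IsAdicComplete.liftRingHom J (extLevel I J f hIJ) (fun hle => extLevel_compat I J f hIJ hle)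

theorem extC_algebraMap (r : R) :
    extC I J f hIJ (algebraMap R (AdicCompletion I R) r) = f r := by
  rw [← sub_eq_zero]
  apply IsHausdorff.haus (I := J) inferInstance
  intro n
  rw [SModEq.zero, smul_eq_mul, Ideal.mul_top, ← Ideal.Quotient.eq_zero_iff_mem, map_sub,
    sub_eq_zero, extC, IsAdicComplete.mk_liftRingHom]
  show Ideal.quotientMap _ f (pow_le_comap_pow I J f hIJ n)
    (AdicCompletion.evalₐ I n (AdicCompletion.of I R r)) = _
  rw [AdicCompletion.evalₐ_of]
  exact Ideal.quotientMap_mk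

end ext



section stepA
variable {A : Type u} [CommRing A] [IsNoetherianRing A] (p : Ideal A) [p.IsPrime]

theorem maximalIdeal_cpl_eq :
    maximalIdeal (Cpl A p) = p.map (algebraMap A (Cpl A p)) := by
  rw [IsScalarTower.algebraMap_eq A (Localization.AtPrime p) (Cpl A p), ← Ideal.map_map,
    Localization.AtPrime.map_eq_maximalIdeal, AdicCompletion.maximalIdeal_eq_map]

theorem stepA (x : Cpl A p ⊗[A] (A ⧸ p)) :
    ∃ a' b' : A, b' ∉ p ∧ b' • x = (1 : Cpl A p) ⊗ₜ[A] (Ideal.Quotient.mk p a') := by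
  obtain ⟨β, rfl⟩ := exists_tmul_one p x
  -- approximate β by an element of the localisation
  obtain ⟨α', hα'⟩ := (AdicCompletion.residueField_map_bijective (Localization.AtPrime p)).2
    (residue _ β)
  obtain ⟨α, rfl⟩ := residue_surjective α'
  rw [IsLocalRing.ResidueField.map_residue] at hα'
  have h1 : β - algebraMap (Localization.AtPrime p) (Cpl A p) α ∈ maximalIdeal (Cpl A p) := by
    rw [← Ideal.neg_mem_iff, neg_sub]
    exact (Ideal.Quotient.eq).mp hα'
  rw [maximalIdeal_cpl_eq] at h1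
  have h2 := tmul_eq_zero_of_mem_map p _ h1 1
  rw [TensorProduct.sub_tmul, sub_eq_zero] at h2
  obtain ⟨⟨a', s⟩, hs⟩ := IsLocalization.surj p.primeCompl α
  refine ⟨a', s.1, s.2, ?_⟩
  rw [h2, TensorProduct.smul_tmul']
  have h3 : (s.1 : A) • algebraMap (Localization.AtPrime p) (Cpl A p) α =
      algebraMap A (Cpl A p) a' := by
    rw [IsScalarTower.algebraMap_apply A (Localization.AtPrime p) (Cpl A p) a', ← hs,
      map_mul, Algebra.smul_def,
      IsScalarTower.algebraMap_apply A (Localization.AtPrime p) (Cpl A p) s.1, mul_comm]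
  rw [h3, Algebra.algebraMap_eq_smul_one, TensorProduct.smul_tmul]
  congr 1
  rw [Algebra.smul_def, mul_one]; rfl

end stepA



section T6
variable {A : Type u} [CommRing A] [IsNoetherianRing A]
  {M : Type*} [AddCommGroup M] [Module A M]

/-- a nonzero element survives in some test object -/
theorem exists_obj_one_tmul_ne_zero (m : M) (hm : m ≠ 0) :
    ∃ O : Obj A, (1 : O.B) ⊗ₜ[A] m ≠ 0 := by
  let I : Ideal A := LinearMap.ker (LinearMap.toSpanSingleton A M m)
  have hI : I ≠ ⊤ := by
    intro h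
    have : (1 : A) ∈ I := h ▸ Submodule.mem_top
    have h1 : (1 : A) • m = 0 := by simpa [I] using this
    rw [one_smul] at h1
    exact hm h1
  obtain ⟨𝔪, h𝔪, hle⟩ := Ideal.exists_le_maximal I hI
  haveI : 𝔪.IsPrime := h𝔪.isPrime
  refine ⟨mkObj A A 𝔪, ?_⟩
  haveI : Module.Flat A (mkObj A A 𝔪).B := (mkObj A A 𝔪).flat
  refine one_tmul_ne_zero (R := A) (R' := (mkObj A A 𝔪).B) m 𝔪 (fun r hr => hle ?_)
    (map_ne_top A 𝔪)
  simpa [I] using hr

end T6

section T5
variable {A : Type u} [CommRing A] [IsNoetherianRing A] (p : Ideal A) [p.IsPrime]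

theorem exists_cpl_rTensor_ne_zero (B : Type u) [CommRing B] [Algebra A B] [IsNoetherianRing B]
    [Module.Flat A B] (n : B ⊗[A] (A ⧸ p)) (hn : n ≠ 0) :
    ∃ (q : Ideal B) (_ : q.IsPrime) (_ : Cpl A p →ₐ[A] Cpl B q),
      LinearMap.rTensor (A ⧸ p) (IsScalarTower.toAlgHom A B (Cpl B q)).toLinearMap n ≠ 0 := by
  obtain ⟨q, hq, hle⟩ := exists_le_isAssociatedPrime_of_isNoetherianRing B n hn
  obtain ⟨hqp, n', hn'⟩ := (isAssociatedPrime_iff).mp hq
  haveI : q.IsPrime := hqp
  have hn'0 : n' ≠ 0 := by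
    rintro rfl
    apply hqp.ne_top
    rw [hn']
    ext r
    simp [Submodule.mem_colon_singleton]
  have hcomap : q.comap (algebraMap A B) = p := by
    ext a
    rw [Ideal.mem_comap, hn', Submodule.mem_colon_singleton, Submodule.mem_bot, algebraMap_smul]
    constructor
    · intro h
      by_contra ha
      exact hn'0 (smul_injective_of_notMem p a ha n' h)
    · intro ha
      exact smul_eq_zero_of_mem p a ha n'
  let g : B →ₐ[A] Cpl B q := IsScalarTower.toAlgHom A B (Cpl B q)
  let ψ : Localization.AtPrime p →+* Localization.AtPrime q :=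
    Localization.localRingHom p q (algebraMap A B) hcomap.symm
  let φ : Localization.AtPrime p →+* Cpl B q :=
    (algebraMap (Localization.AtPrime q) (Cpl B q)).comp ψ
  have hψ : (maximalIdeal (Localization.AtPrime p)).map ψ ≤
      maximalIdeal (Localization.AtPrime q) :=
    ((IsLocalRing.local_hom_TFAE ψ).out 0 2).mp
      (Localization.isLocalHom_localRingHom p q (algebraMap A B) hcomap.symm)
  have hφ : (maximalIdeal (Localization.AtPrime p)).map φ ≤ maximalIdeal (Cpl B q) := by
    rw [← Ideal.map_map, AdicCompletion.maximalIdeal_eq_map]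
    exact Ideal.map_mono hψ
  let h₀ : Cpl A p →+* Cpl B q := extC _ _ φ hφ
  have hh₀ : ∀ a : A, h₀ (algebraMap A (Cpl A p) a) = algebraMap A (Cpl B q) a := by
    intro a
    rw [IsScalarTower.algebraMap_apply A (Localization.AtPrime p) (Cpl A p), extC_algebraMap]
    show algebraMap (Localization.AtPrime q) (Cpl B q) (ψ (algebraMap A _ a)) = _
    rw [Localization.localRingHom_to_map,
      IsScalarTower.algebraMap_apply A B (Cpl B q),
      IsScalarTower.algebraMap_apply B (Localization.AtPrime q) (Cpl B q)]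
  let h : Cpl A p →ₐ[A] Cpl B q := { h₀ with commutes' := hh₀ }
  refine ⟨q, hqp, h, ?_⟩
  have key : (1 : Cpl B q) ⊗ₜ[B] n ≠ 0 :=
    one_tmul_ne_zero (R := B) (R' := Cpl B q) n q
      (fun r hr => hle (by simpa [Submodule.mem_colon_singleton] using hr)) (map_ne_top B q)
  let e := TensorProduct.AlgebraTensorModule.cancelBaseChange A B (Cpl B q) (Cpl B q)
    (A ⧸ p)
  have he : ∀ t : B ⊗[A] (A ⧸ p),
      e ((1 : Cpl B q) ⊗ₜ[B] t) = LinearMap.rTensor (A ⧸ p) g.toLinearMap t := by
    intro t
    induction t using TensorProduct.induction_on with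
    | zero => rw [TensorProduct.tmul_zero, map_zero, map_zero]
    | tmul b d =>
      rw [LinearMap.rTensor_tmul]
      show e _ = (algebraMap B (Cpl B q) b) ⊗ₜ[A] d
      rw [TensorProduct.AlgebraTensorModule.cancelBaseChange_tmul, Algebra.smul_def, mul_one]
    | add x y hx hy =>
      rw [TensorProduct.tmul_add, map_add, map_add, hx, hy]
  intro h0
  apply key
  apply e.injective
  rw [he, map_zero]
  exact h0

theorem exists_obj_rTensor_ne_zero (O : Obj A) (n : O.B ⊗[A] (A ⧸ p)) (hn : n ≠ 0) :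
    ∃ (O' : Obj A) (g : O.B →ₐ[A] O'.B) (_ : (mkObj A A p).B →ₐ[A] O'.B),
      LinearMap.rTensor (A ⧸ p) g.toLinearMap n ≠ 0 := by
  haveI : Module.Flat A O.B := O.flat
  obtain ⟨q, hq, h, hne⟩ := exists_cpl_rTensor_ne_zero p O.B n hn
  exact ⟨mkObj A O.B q, IsScalarTower.toAlgHom A O.B (Cpl O.B q), h, hne⟩

end T5



section Fam
variable (A : Type u) [CommRing A]

/-- compatible families -/
structure Fam (M : Type u) [AddCommGroup M] [Module A M] where
  x : ∀ O : Obj A, O.B ⊗[A] M
  compat : ∀ (O O' : Obj A) (g : O.B →ₐ[A] O'.B),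
    LinearMap.rTensor M g.toLinearMap (x O) = x O'

/-- every compatible family is constant -/
def P (M : Type u) [AddCommGroup M] [Module A M] : Prop :=
  ∀ F : Fam A M, ∃ m : M, ∀ O : Obj A, F.x O = (1 : O.B) ⊗ₜ[A] m

variable {A}

theorem P_subsingleton (M : Type u) [AddCommGroup M] [Module A M] [Subsingleton M] : P A M := by
  intro F
  refine ⟨0, fun O => ?_⟩
  haveI : Subsingleton (O.B ⊗[A] M) := inferInstance
  exact Subsingleton.elim _ _

theorem P_exact (N₁ N₂ N₃ : Type u) [AddCommGroup N₁] [Module A N₁] [AddCommGroup N₂]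
    [Module A N₂] [AddCommGroup N₃] [Module A N₃] (f : N₁ →ₗ[A] N₂) (g : N₂ →ₗ[A] N₃)
    (hf : Function.Injective f) (hg : Function.Surjective g) (hfg : Function.Exact f g)
    (h1 : P A N₁) (h3 : P A N₃) : P A N₂ := by
  intro F
  -- push to N₃
  let F₃ : Fam A N₃ :=
    { x := fun O => LinearMap.lTensor O.B g (F.x O)
      compat := fun O O' k => by
        rw [← F.compat O O' k]
        rw [← LinearMap.comp_apply, ← LinearMap.comp_apply, LinearMap.rTensor_comp_lTensor,
          ← LinearMap.lTensor_comp_rTensor] }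
  obtain ⟨m₃, hm₃⟩ := h3 F₃
  obtain ⟨m₂, rfl⟩ := hg m₃
  have hz : ∀ O : Obj A, ∃ w : O.B ⊗[A] N₁,
      LinearMap.lTensor O.B f w = F.x O - (1 : O.B) ⊗ₜ[A] m₂ := by
    intro O
    have hex : Function.Exact (LinearMap.lTensor O.B f) (LinearMap.lTensor O.B g) :=
      lTensor_exact O.B hfg hg
    have : LinearMap.lTensor O.B g (F.x O - (1 : O.B) ⊗ₜ[A] m₂) = 0 := by
      rw [map_sub, LinearMap.lTensor_tmul, sub_eq_zero]
      exact hm₃ O
    obtain ⟨w, hw⟩ := (hex _).mp this
    exact ⟨w, hw⟩
  choose w hw using hz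
  let F₁ : Fam A N₁ :=
    { x := w
      compat := fun O O' k => by
        haveI : Module.Flat A O'.B := O'.flat
        have hinj : Function.Injective (LinearMap.lTensor O'.B f) :=
          Module.Flat.lTensor_preserves_injective_linearMap f hf
        apply hinj
        rw [hw O', ← LinearMap.comp_apply, LinearMap.lTensor_comp_rTensor,
          ← LinearMap.rTensor_comp_lTensor, LinearMap.comp_apply, hw O, map_sub,
          F.compat O O' k, LinearMap.rTensor_tmul]
        simp }
  obtain ⟨m₁, hm₁⟩ := h1 F₁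
  refine ⟨m₂ + f m₁, fun O => ?_⟩
  have := hw O
  rw [show w O = F₁.x O from rfl, hm₁ O, LinearMap.lTensor_tmul] at this
  rw [TensorProduct.tmul_add, this]
  abel

theorem P_equiv (N₁ N₂ : Type u) [AddCommGroup N₁] [Module A N₁] [AddCommGroup N₂]
    [Module A N₂] (e : N₁ ≃ₗ[A] N₂) (h1 : P A N₁) : P A N₂ :=
  P_exact N₁ N₂ PUnit.{u + 1} e.toLinearMap 0 e.injective
    (Function.surjective_to_subsingleton _)
    ((e.exact_zero_iff_surjective _).2 e.surjective) h1 (P_subsingleton _)

end Fam



section quot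
variable {A : Type u} [CommRing A] [IsNoetherianRing A]

theorem P_quot (p : Ideal A) [p.IsPrime] : P A (A ⧸ p) := by
  intro F
  obtain ⟨a', b', hb', hA⟩ : ∃ a' b' : A, b' ∉ p ∧ b' • F.x (mkObj A A p) =
      (1 : (mkObj A A p).B) ⊗ₜ[A] (Ideal.Quotient.mk p a') := stepA p (F.x (mkObj A A p))
  -- Step B
  have hB : ∀ O : Obj A, b' • F.x O = (1 : O.B) ⊗ₜ[A] (Ideal.Quotient.mk p a') := by
    intro O
    by_contra hne
    have hne' : b' • F.x O - (1 : O.B) ⊗ₜ[A] (Ideal.Quotient.mk p a') ≠ 0 :=
      fun h => hne (sub_eq_zero.mp h)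
    obtain ⟨O', g, h, hgn⟩ := exists_obj_rTensor_ne_zero p O _ hne'
    apply hgn
    rw [map_sub, map_smul, F.compat O O' g, LinearMap.rTensor_tmul,
      ← F.compat (mkObj A A p) O' h, ← map_smul, hA, LinearMap.rTensor_tmul]
    simp
  -- Step C
  let J : Ideal A := Ideal.span {b'} ⊔ p
  have hC : a' ∈ J := by
    by_contra ha
    have hne : (Ideal.Quotient.mk J a') ≠ 0 := fun h => ha (Ideal.Quotient.eq_zero_iff_mem.mp h)
    obtain ⟨O, hO⟩ := exists_obj_one_tmul_ne_zero (A := A) (M := A ⧸ J) _ hne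
    apply hO
    let π : (A ⧸ p) →ₗ[A] (A ⧸ J) :=
      (Ideal.Quotient.factorₐ A (le_sup_right : p ≤ J)).toLinearMap
    have h1 := congrArg (LinearMap.lTensor O.B π) (hB O)
    rw [LinearMap.lTensor_tmul, map_smul] at h1
    have h2 : π (Ideal.Quotient.mk p a') = Ideal.Quotient.mk J a' := rfl
    rw [h2] at h1
    rw [← h1]
    -- b' kills O.B ⊗ A/J
    generalize (LinearMap.lTensor O.B π) (F.x O) = t
    induction t using TensorProduct.induction_on with
    | zero => simp
    | tmul β d =>
      obtain ⟨z, rfl⟩ := Ideal.Quotient.mk_surjective d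
      have : b' • (Ideal.Quotient.mk J z) = 0 := by
        rw [Algebra.smul_def, Ideal.Quotient.algebraMap_eq, ← map_mul,
          Ideal.Quotient.eq_zero_iff_mem]
        exact J.mul_mem_right _ (le_sup_left (a := Ideal.span {b'})
          (Ideal.subset_span (Set.mem_singleton b')))
      rw [← TensorProduct.tmul_smul, this, TensorProduct.tmul_zero]
    | add x y hx hy => rw [smul_add, hx, hy, add_zero]
  obtain ⟨u, hu, v, hv, huv⟩ := Submodule.mem_sup.mp hC
  obtain ⟨c, rfl⟩ := Ideal.mem_span_singleton'.mp hu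
  refine ⟨Ideal.Quotient.mk p c, fun O => ?_⟩
  haveI : Module.Flat A O.B := O.flat
  rw [← sub_eq_zero]
  apply smul_injective_of_notMem p b' hb'
  rw [smul_sub, hB O, ← huv, TensorProduct.smul_tmul', TensorProduct.smul_tmul, ← TensorProduct.tmul_sub]
  have : Ideal.Quotient.mk p (c * b' + v) - b' • Ideal.Quotient.mk p c = 0 := by
    rw [Algebra.smul_def, Ideal.Quotient.algebraMap_eq, ← map_mul, ← map_sub,
      Ideal.Quotient.eq_zero_iff_mem]
    have : c * b' + v - b' * c = v := by ring
    rw [this]; exact hv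
  rw [this, TensorProduct.tmul_zero]

end quot

section main
variable (A : Type u) [CommRing A] [IsNoetherianRing A] (M : Type u) [AddCommGroup M] [Module A M]
  [Module.Finite A M]

theorem P_all : P A M := by
  induction ‹Module.Finite A M› using
    IsNoetherianRing.induction_on_isQuotientEquivQuotientPrime A with
  | subsingleton N => exact P_subsingleton N
  | quotient N p e => exact P_equiv _ _ e.symm (P_quot p.1)
  | exact N₁ N₂ N₃ f g hf hg hfg h1 h3 => exact P_exact N₁ N₂ N₃ f g hf hg hfg h1 h3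

theorem main (x : ∀ (B : Type u) [CommRing B] [Algebra A B] [IsNoetherianRing B] [IsLocalRing B], IsAdicComplete (IsLocalRing.maximalIdeal B) B → Module.Flat A B → TensorProduct A B M) (hx : ∀ (B : Type u) [CommRing B] [Algebra A B] [IsNoetherianRing B] [IsLocalRing B] (hB : IsAdicComplete (IsLocalRing.maximalIdeal B) B) (hBf : Module.Flat A B) (B' : Type u) [CommRing B'] [Algebra A B'] [IsNoetherianRing B'] [IsLocalRing B'] (hB' : IsAdicComplete (IsLocalRing.maximalIdeal B') B') (hB'f : Module.Flat A B') (g : B →ₐ[A] B'), LinearMap.rTensor M g.toLinearMap (x B hB hBf) = x B' hB' hB'f) : ∃! m : M, ∀ (B : Type u) [CommRing B] [Algebra A B] [IsNoetherianRing B] [IsLocalRing B] (hB : IsAdicComplete (IsLocalRing.maximalIdeal B) B) (hBf : Module.Flat A B), x B hB hBf = (1 : B) ⊗ₜ[A] m := by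
  let F : Fam A M :=
    { x := fun O => x O.B O.compl O.flat
      compat := fun O O' g => hx O.B O.compl O.flat O'.B O'.compl O'.flat g }
  obtain ⟨m, hm⟩ := P_all A M F
  refine ⟨m, ?_, ?_⟩
  · intro B _ _ _ _ hB hBf
    exact hm ⟨B, hB, hBf⟩
  · intro m' hm'
    by_contra hne
    have hne' : m' - m ≠ 0 := fun h => hne (sub_eq_zero.mp h)
    obtain ⟨O, hO⟩ := exists_obj_one_tmul_ne_zero (A := A) _ hne'
    apply hO
    rw [TensorProduct.tmul_sub, sub_eq_zero, ← hm' O.B O.compl O.flat]
    exact hm O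

end main


end
end Groth.Agent.Lib.Helper4.CplFam1
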