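import Mathlib
set_option autoImplicit false

namespace Groth.Agent.Lib.Helper4.Cubic
open MvPolynomial

variable {σ : Type*} {k : Type*} [Field k]

/-- scaling a homogeneous polynomial -/
theorem eval_smul_of_homogeneous {φ : MvPolynomial σ k} {n : ℕ} (h : φ.IsHomogeneous n) (t : k)
    (v : σ → k) : eval (t • v) φ = t ^ n * eval v φ := by
  rw [eval_eq, eval_eq, Finset.mul_sum]
  refine Finset.sum_congr rfl (fun d hd => ?_)
  have hdn : ∑ i ∈ d.support, d i = n := by
    have := h (mem_support_iff.1 hd)
    rw [← this, Finsupp.weight_apply]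
    simp [Finsupp.sum]
  have : ∏ i ∈ d.support, (t • v) i ^ d i = t ^ n * ∏ i ∈ d.support, v i ^ d i := by
    simp only [Pi.smul_apply, smul_eq_mul, mul_pow]
    rw [Finset.prod_mul_distrib, Finset.prod_pow_eq_pow_sum, hdn]
  rw [this]; ring

/-- chain rule for linear substitutions (general substitutions, in fact) -/
theorem pderiv_aeval {τ : Type*} (L : σ → MvPolynomial τ k) (f : MvPolynomial σ k) (j : τ)
    [Fintype σ] :
    pderiv j (aeval L f) = ∑ i, aeval L (pderiv i f) * pderiv j (L i) := by
  classical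
  induction f using MvPolynomial.induction_on with
  | C a => simp
  | add p q hp hq =>
    simp only [map_add, hp, hq, add_mul, Finset.sum_add_distrib]
  | mul_X p i hp =>
    have hR : ∀ l, aeval L (pderiv l (p * X i)) * pderiv j (L l) =
        (if l = i then aeval L p * pderiv j (L i) else 0) +
          L i * (aeval L (pderiv l p) * pderiv j (L l)) := by
      intro l
      rw [Derivation.leibniz, pderiv_X, smul_eq_mul, smul_eq_mul, map_add, map_mul, map_mul,
        aeval_X]
      by_cases hl : l = i
      · subst hl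
        simp only [Pi.single_eq_same, map_one, mul_one, if_true]
        ring
      · rw [if_neg hl, Pi.single_eq_of_ne (Ne.symm hl), map_zero, mul_zero]
        ring
    rw [Finset.sum_congr rfl (fun l _ => hR l), Finset.sum_add_distrib, Finset.sum_ite_eq' ,
      if_pos (Finset.mem_univ i), ← Finset.mul_sum, ← hp, map_mul, aeval_X, Derivation.leibniz,
      smul_eq_mul, smul_eq_mul]


/-- evaluating a substitution into univariate polynomials -/
theorem eval_aeval_poly (g : σ → Polynomial k) (h : MvPolynomial σ k) (s : k) :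
    Polynomial.eval s (aeval g h) = eval (fun i => Polynomial.eval s (g i)) h := by
  induction h using MvPolynomial.induction_on with
  | C a => simp
  | add p q hp hq => simp [hp, hq]
  | mul_X p i hp => simp [hp]

/-- a form of positive degree restricted to a pencil has a non-trivial zero -/
theorem exists_binary_zero [IsAlgClosed k] (h : MvPolynomial σ k) (d : ℕ) (hd : 1 ≤ d)
    (hh : h.IsHomogeneous d) (v₁ v₂ : σ → k) :
    ∃ s t : k, (s ≠ 0 ∨ t ≠ 0) ∧ eval (s • v₁ + t • v₂) h = 0 := by
  set P : Polynomial k := aeval (fun i => Polynomial.C (v₁ i) * Polynomial.X + Polynomial.C (v₂ i)) h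
    with hP
  have hPe : ∀ s : k, Polynomial.eval s P = eval (s • v₁ + v₂) h := by
    intro s
    rw [hP, eval_aeval_poly]
    have : (fun i => Polynomial.eval s (Polynomial.C (v₁ i) * Polynomial.X + Polynomial.C (v₂ i)))
        = s • v₁ + v₂ := by
      funext i
      simp only [Pi.add_apply, Pi.smul_apply, smul_eq_mul, Polynomial.eval_add,
        Polynomial.eval_mul, Polynomial.eval_C, Polynomial.eval_X]
      ring
    rw [this]
  by_cases hdeg : P.degree = 0
  · -- P is a non-zero constant
    have hPC := Polynomial.eq_C_of_degree_eq_zero hdeg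
    set a := P.coeff 0 with ha
    have hPa : ∀ s : k, eval (s • v₁ + v₂) h = a := by
      intro s
      rw [← hPe, hPC, Polynomial.eval_C]
    set Q : Polynomial k := aeval (fun i => Polynomial.C (v₁ i) + Polynomial.C (v₂ i) * Polynomial.X) h
      - Polynomial.C a * Polynomial.X ^ d with hQ
    have hQe : ∀ t : k, Polynomial.eval t Q = eval (v₁ + t • v₂) h - a * t ^ d := by
      intro t
      rw [hQ, Polynomial.eval_sub, eval_aeval_poly]
      have : (fun i => Polynomial.eval t (Polynomial.C (v₁ i) + Polynomial.C (v₂ i) * Polynomial.X))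
          = v₁ + t • v₂ := by
        funext i
        simp only [Pi.add_apply, Pi.smul_apply, smul_eq_mul, Polynomial.eval_add,
          Polynomial.eval_mul, Polynomial.eval_C, Polynomial.eval_X]
        ring
      rw [this]
      simp
    have hQ0 : Q = 0 := by
      apply Polynomial.eq_zero_of_infinite_isRoot
      refine Set.Infinite.mono (s := {t : k | t ≠ 0}) ?_ ?_
      · intro t ht
        rw [Set.mem_ofPred_eq, Polynomial.IsRoot.def, hQe]
        have : v₁ + t • v₂ = t • (t⁻¹ • v₁ + v₂) := by
          rw [smul_add, smul_smul, mul_inv_cancel₀ ht, one_smul]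
        rw [this, eval_smul_of_homogeneous hh, hPa]
        ring
      · have : {t : k | t ≠ 0} = ({0} : Set k)ᶜ := by ext; simp
        rw [this]
        exact Set.Finite.infinite_compl (Set.finite_singleton 0)
    have := hQe 0
    rw [hQ0, Polynomial.eval_zero, zero_smul, add_zero, zero_pow (by omega), mul_zero,
      sub_zero] at this
    refine ⟨1, 0, Or.inl one_ne_zero, ?_⟩
    rw [one_smul, zero_smul, add_zero]
    exact this.symm
  · obtain ⟨s₀, hs₀⟩ := IsAlgClosed.exists_root P hdeg
    refine ⟨s₀, 1, Or.inr one_ne_zero, ?_⟩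
    rw [one_smul, ← hPe]
    exact hs₀

/-- over a domain, a factor of a non-zero homogeneous polynomial is homogeneous -/
theorem isHomogeneous_of_mul_eq {p q g : MvPolynomial σ k} {n : ℕ} (hg : g.IsHomogeneous n)
    (hg0 : g ≠ 0) (hpq : p * q = g) : p.IsHomogeneous p.totalDegree := by
  classical
  have hp0 : p ≠ 0 := by rintro rfl; rw [zero_mul] at hpq; exact hg0 hpq.symm
  have hq0 : q ≠ 0 := by rintro rfl; rw [mul_zero] at hpq; exact hg0 hpq.symm
  -- orders
  have hord : ∀ (r : MvPolynomial σ k), r ≠ 0 → ∃ m : ℕ, (r : MvPowerSeries σ k).order = m ∧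
      m ≤ r.totalDegree ∧ ∀ e ∈ r.support, m ≤ Finsupp.degree e := by
    intro r hr
    have hr' : (r : MvPowerSeries σ k) ≠ 0 := by
      intro h0; apply hr
      exact MvPolynomial.coe_injective σ k (by rw [h0]; rfl)
    obtain ⟨m, hm⟩ : ∃ m : ℕ, (r : MvPowerSeries σ k).order = m := by
      cases hc : (r : MvPowerSeries σ k).order with
      | top => exact absurd (MvPowerSeries.order_eq_top_iff.1 hc) hr'
      | coe m => exact ⟨m, rfl⟩
    have h2 : ∀ e ∈ r.support, m ≤ Finsupp.degree e := by
      intro e he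
      have := MvPowerSeries.order_le (f := (r : MvPowerSeries σ k)) (d := e)
        (by rw [MvPolynomial.coeff_coe]; exact mem_support_iff.1 he)
      rw [hm] at this
      exact_mod_cast this
    refine ⟨m, hm, ?_, h2⟩
    obtain ⟨e, he⟩ : r.support.Nonempty := by
      rw [Finset.nonempty_iff_ne_empty]
      intro h0; exact hr (support_eq_empty.1 h0)
    refine le_trans (h2 e he) ?_
    have := le_totalDegree he
    exact this
  obtain ⟨mp, hmp, hmp1, hmp2⟩ := hord p hp0
  obtain ⟨mq, hmq, hmq1, hmq2⟩ := hord q hq0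
  obtain ⟨mg, hmg, hmg1, hmg2⟩ := hord g hg0
  have htg : g.totalDegree = n := hg.totalDegree hg0
  have hmgn : mg = n := by
    apply le_antisymm (htg ▸ hmg1)
    have : (n : ℕ∞) ≤ (g : MvPowerSeries σ k).order := by
      apply MvPowerSeries.le_order
      intro d hd
      rw [MvPolynomial.coeff_coe]
      by_contra hne
      have := hg hne
      have h1 : Finsupp.degree d = n := by
        rw [← this, Finsupp.degree_eq_weight_one]; rfl
      rw [h1] at hd
      exact lt_irrefl _ hd
    rw [hmg] at this
    exact_mod_cast this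
  have hsum : mg = mp + mq := by
    have := MvPowerSeries.order_mul (p : MvPowerSeries σ k) (q : MvPowerSeries σ k)
    rw [← MvPolynomial.coe_mul, hpq, hmg, hmp, hmq] at this
    exact_mod_cast this
  have htd := totalDegree_mul_of_isDomain hp0 hq0
  rw [hpq, htg] at htd
  have hmp_eq : mp = p.totalDegree := by omega
  intro e he
  have he' : e ∈ p.support := mem_support_iff.2 he
  have h1 := hmp2 e he'
  have h2 := le_totalDegree he'
  have h3 : Finsupp.degree e = (e.sum fun _ e => e) := rfl
  have h4 : (Finsupp.weight 1) e = Finsupp.degree e := by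
    rw [Finsupp.degree_eq_weight_one]; rfl
  rw [h4]
  omega

/-- the linear forms attached to a matrix -/
noncomputable def LF {m n : ℕ} (A : Matrix (Fin m) (Fin n) k) (i : Fin m) : MvPolynomial (Fin n) k :=
  ∑ j : Fin n, C (A i j) * X j

theorem eval_LF {m n : ℕ} (A : Matrix (Fin m) (Fin n) k) (i : Fin m) (y : Fin n → k) :
    eval y (LF A i) = (A.mulVec y) i := by
  simp [LF, Matrix.mulVec, dotProduct]

theorem pderiv_LF {m n : ℕ} (A : Matrix (Fin m) (Fin n) k) (i : Fin m) (j : Fin n) :
    pderiv j (LF A i) = C (A i j) := by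
  classical
  simp only [LF, map_sum, Derivation.leibniz, pderiv_C, pderiv_X, smul_eq_mul, mul_zero,
    add_zero]
  rw [Finset.sum_eq_single j]
  · simp
  · intro b _ hb
    rw [Pi.single_eq_of_ne hb]; simp
  · intro h; exact absurd (Finset.mem_univ j) h

theorem isHomogeneous_LF {m n : ℕ} (A : Matrix (Fin m) (Fin n) k) (i : Fin m) :
    (LF A i).IsHomogeneous 1 := by
  apply IsHomogeneous.sum
  intro j _
  exact (isHomogeneous_X k j).C_mul _

/-- evaluating a substitution -/
theorem eval_aeval_mv {σ τ : Type*} (g : σ → MvPolynomial τ k) (h : MvPolynomial σ k) (y : τ → k) :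
    eval y (aeval g h) = eval (fun i => eval y (g i)) h := by
  induction h using MvPolynomial.induction_on with
  | C a => simp
  | add p q hp hq => simp only [map_add, hp, hq]
  | mul_X p i hp => simp only [map_mul, aeval_X, eval_X, hp]

theorem eval_aeval_LF {m n : ℕ} (A : Matrix (Fin m) (Fin n) k) (h : MvPolynomial (Fin m) k)
    (y : Fin n → k) : eval y (aeval (LF A) h) = eval (A.mulVec y) h := by
  rw [eval_aeval_mv]
  have : (fun i => eval y (LF A i)) = A.mulVec y := funext (fun i => eval_LF A i y)
  rw [this]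


/-- gradient of a restricted form -/
theorem eval_pderiv_aeval_LF {m n : ℕ} (A : Matrix (Fin m) (Fin n) k) (f : MvPolynomial (Fin m) k)
    (y : Fin n → k) (j : Fin n) :
    eval y (pderiv j (aeval (LF A) f)) = ∑ i, eval (A.mulVec y) (pderiv i f) * A i j := by
  rw [pderiv_aeval]
  simp only [map_sum, map_mul, eval_aeval_LF, pderiv_LF, eval_C]

/-- a homogeneous linear form is a linear functional -/
theorem exists_linear_of_homogeneous_one {σ : Type*} (p : MvPolynomial σ k) (hp : p.IsHomogeneous 1) :
    ∃ ℓ : (σ → k) →ₗ[k] k, ∀ y, ℓ y = eval y p := by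
  have hmem : p ∈ homogeneousSubmodule σ k 1 := hp
  rw [homogeneousSubmodule_one_eq_span_X] at hmem
  clear hp
  induction hmem using Submodule.span_induction with
  | mem x hx =>
    obtain ⟨i, rfl⟩ := hx
    exact ⟨LinearMap.proj i, fun y => by simp⟩
  | zero => exact ⟨0, fun y => by simp⟩
  | add x y _ _ hx hy =>
    obtain ⟨l1, h1⟩ := hx
    obtain ⟨l2, h2⟩ := hy
    exact ⟨l1 + l2, fun z => by simp [h1, h2]⟩
  | smul a x _ hx =>
    obtain ⟨l1, h1⟩ := hx
    exact ⟨a • l1, fun z => by simp [h1, smul_eval]⟩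

section core
variable [IsAlgClosed k]

theorem core (f : MvPolynomial (Fin 4) k) (hf : f.IsHomogeneous 3)
    (hsm : ∀ v : Fin 4 → k, v ≠ 0 → eval v f = 0 → ∃ i, eval v (pderiv i f) ≠ 0)
    (A : Matrix (Fin 4) (Fin 3) k) (hA : A.rank = 3)
    (u₁ u₂ : Fin 3 → k) (hu : LinearIndependent k ![u₁, u₂])
    (hz : ∀ s t : k, eval (s • u₁ + t • u₂) (aeval (LF A) f) = 0 ∧
       ∀ j, eval (s • u₁ + t • u₂) (pderiv j (aeval (LF A) f)) = 0) : False := by
  classical
  -- left kernel
  have hK1 : Module.finrank k (LinearMap.ker (A.transpose.mulVecLin)) = 1 := by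
    have h1 := LinearMap.finrank_range_add_finrank_ker (A.transpose.mulVecLin)
    have h2 : Module.finrank k (LinearMap.range A.transpose.mulVecLin) = 3 := by
      have := Matrix.rank_transpose A
      rw [hA] at this
      exact this
    rw [h2] at h1
    simp only [Module.finrank_fintype_fun_eq_card, Fintype.card_fin] at h1
    omega
  obtain ⟨⟨l0, hl0K⟩, hl0ne, hl0span⟩ := finrank_eq_one_iff'.1 hK1
  have hl0 : l0 ≠ 0 := fun h => hl0ne (Subtype.ext h)
  obtain ⟨i0, hi0⟩ : ∃ i, l0 i ≠ 0 := by
    by_contra hc; push Not at hc; exact hl0 (funext hc)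
  -- injectivity
  have hinj : Function.Injective A.mulVec := by
    have h1 := LinearMap.finrank_range_add_finrank_ker (A.mulVecLin)
    have h2 : Module.finrank k (LinearMap.range A.mulVecLin) = 3 := hA
    rw [h2] at h1
    simp only [Module.finrank_fintype_fun_eq_card, Fintype.card_fin] at h1
    have h3 : Module.finrank k (LinearMap.ker A.mulVecLin) = 0 := by omega
    have h4 : LinearMap.ker A.mulVecLin = ⊥ := Submodule.finrank_eq_zero.1 h3
    exact LinearMap.ker_eq_bot.1 h4
  obtain ⟨s, t, hst, hzero⟩ := exists_binary_zero (pderiv i0 f) 2 (by norm_num)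
    (hf.pderiv) (A.mulVec u₁) (A.mulVec u₂)
  have hy : s • u₁ + t • u₂ ≠ 0 := by
    intro h0
    have := (LinearIndependent.pair_iff.1 hu) s t h0
    rcases hst with h | h
    · exact h this.1
    · exact h this.2
  have hAy : A.mulVec (s • u₁ + t • u₂) = s • A.mulVec u₁ + t • A.mulVec u₂ := by
    rw [Matrix.mulVec_add, Matrix.mulVec_smul, Matrix.mulVec_smul]
  have hwK : (fun i => eval (A.mulVec (s • u₁ + t • u₂)) (pderiv i f)) ∈
      LinearMap.ker (A.transpose.mulVecLin) := by
    rw [LinearMap.mem_ker, Matrix.mulVecLin_apply]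
    funext j
    rw [Matrix.mulVec_transpose]
    have := (hz s t).2 j
    rw [eval_pderiv_aeval_LF] at this
    simpa [Matrix.vecMul, dotProduct] using this
  obtain ⟨c, hc⟩ := hl0span ⟨_, hwK⟩
  have hc' : c • l0 = (fun i => eval (A.mulVec (s • u₁ + t • u₂)) (pderiv i f)) :=
    congrArg Subtype.val hc
  have hwi0 : eval (A.mulVec (s • u₁ + t • u₂)) (pderiv i0 f) = 0 := by
    rw [hAy]; exact hzero
  have hc0 : c = 0 := by
    have := congrFun hc' i0
    simp only [Pi.smul_apply, smul_eq_mul] at this
    rw [hwi0] at this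
    exact (mul_eq_zero.1 this).resolve_right hi0
  have hv : A.mulVec (s • u₁ + t • u₂) ≠ 0 := fun h => hy (hinj (by rw [h, Matrix.mulVec_zero]))
  obtain ⟨i, hi⟩ := hsm _ hv (by rw [← eval_aeval_LF]; exact (hz s t).1)
  apply hi
  have := congrFun hc' i
  rw [hc0] at this
  simpa using this.symm

theorem squarefree_main (f : MvPolynomial (Fin 4) k) (hf : f.IsHomogeneous 3)
    (hsm : ∀ v : Fin 4 → k, v ≠ 0 → eval v f = 0 → ∃ i, eval v (pderiv i f) ≠ 0)
    (A : Matrix (Fin 4) (Fin 3) k) (hA : A.rank = 3) : Squarefree (aeval (LF A) f) := by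
  classical
  have hghom : (aeval (LF A) f).IsHomogeneous 3 := by
    have := hf.aeval (LF A) (n := 1) (isHomogeneous_LF A)
    simpa using this
  have hg0 : aeval (LF A) f ≠ 0 := by
    intro h0
    apply core f hf hsm A hA (Pi.single 0 1) (Pi.single 1 1) ?_ ?_
    · rw [LinearIndependent.pair_iff]
      intro s t hst
      have h0 := congrFun hst 0
      have h1 := congrFun hst 1
      simp at h0 h1
      exact ⟨h0, h1⟩
    · intro s t
      rw [h0]; simp
  intro p hp
  obtain ⟨r, hr⟩ := hp
  by_contra hpu
  have hp0 : p ≠ 0 := by rintro rfl; simp at hr; exact hg0 hr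
  have hr0 : r ≠ 0 := by rintro rfl; simp at hr; exact hg0 hr
  have hphom : p.IsHomogeneous p.totalDegree :=
    isHomogeneous_of_mul_eq hghom hg0 (p := p) (q := p * r) (by rw [hr]; ring)
  have htd : 3 = p.totalDegree + p.totalDegree + r.totalDegree := by
    have := totalDegree_mul_of_isDomain (mul_ne_zero hp0 hp0) hr0
    rw [totalDegree_mul_of_isDomain hp0 hp0, ← hr, hghom.totalDegree hg0] at this
    exact this
  have htp : p.totalDegree = 1 := by
    have : p.totalDegree ≠ 0 := by
      intro h
      have hpC := totalDegree_eq_zero_iff_eq_C.1 h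
      apply hpu
      rw [hpC]
      apply IsUnit.map
      rw [isUnit_iff_ne_zero]
      intro hc; rw [hc, C_0] at hpC; exact hp0 hpC
    omega
  rw [htp] at hphom
  obtain ⟨ℓ, hℓ⟩ := exists_linear_of_homogeneous_one p hphom
  have hker : 2 ≤ Module.finrank k (LinearMap.ker ℓ) := by
    have h1 := LinearMap.finrank_range_add_finrank_ker ℓ
    have h2 : Module.finrank k (LinearMap.range ℓ) ≤ 1 := by
      have := Submodule.finrank_le (LinearMap.range ℓ)
      simpa using this
    simp only [Module.finrank_fintype_fun_eq_card, Fintype.card_fin] at h1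
    omega
  obtain ⟨b, hb⟩ := exists_linearIndependent_of_le_finrank hker
  have hb' := hb.map' (Submodule.subtype _) (Submodule.ker_subtype _)
  have hmem : ∀ s t : k, eval (s • (b 0 : Fin 3 → k) + t • (b 1 : Fin 3 → k)) p = 0 := by
    intro s t
    rw [← hℓ, map_add, map_smul, map_smul]
    have h0 : ℓ (b 0 : Fin 3 → k) = 0 := LinearMap.mem_ker.1 (b 0).2
    have h1 : ℓ (b 1 : Fin 3 → k) = 0 := LinearMap.mem_ker.1 (b 1).2
    rw [h0, h1]; simp
  apply core f hf hsm A hA (b 0 : Fin 3 → k) (b 1 : Fin 3 → k) ?_ ?_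
  · have e : (⇑(LinearMap.ker ℓ).subtype ∘ b) = ![(b 0 : Fin 3 → k), (b 1 : Fin 3 → k)] := by
      ext i : 1
      fin_cases i <;> rfl
    rw [e] at hb'
    exact hb'
  · intro s t
    rw [hr]
    refine ⟨by simp only [RingHom.map_mul, hmem s t]; ring, fun j => ?_⟩
    have hL : pderiv j (p * (p * r)) = p * pderiv j (p * r) + (p * r) * pderiv j p := by
      rw [Derivation.leibniz, smul_eq_mul, smul_eq_mul]
    rw [mul_assoc, hL]
    simp only [RingHom.map_add, RingHom.map_mul, hmem s t]
    ring

end core

end Groth.Agent.Lib.Helper4.Cubic
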