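import Mathlib
import Groth.Agent.Lib.Helper4.Cubic
set_option autoImplicit false

namespace Groth.Agent.Lib.Helper4.Cubic
open MvPolynomial

variable {σ : Type*} {k : Type*} [Field k]

/-- chain rule, univariate target -/
theorem derivative_aeval_poly [Fintype σ] (g : σ → Polynomial k) (f : MvPolynomial σ k) :
    Polynomial.derivative (aeval g f) =
      ∑ i, aeval g (pderiv i f) * Polynomial.derivative (g i) := by
  classical
  induction f using MvPolynomial.induction_on with
  | C a =>
    simp only [MvPolynomial.aeval_C, pderiv_C, map_zero, zero_mul, Finset.sum_const_zero]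
    rw [← Polynomial.C_eq_algebraMap, Polynomial.derivative_C]
  | add p q hp hq =>
    simp only [map_add, hp, hq, add_mul, Finset.sum_add_distrib]
  | mul_X p i hp =>
    have hR : ∀ l, aeval g (pderiv l (p * X i)) * Polynomial.derivative (g l) =
        (if l = i then aeval g p * Polynomial.derivative (g i) else 0) +
          g i * (aeval g (pderiv l p) * Polynomial.derivative (g l)) := by
      intro l
      rw [Derivation.leibniz, pderiv_X, smul_eq_mul, smul_eq_mul, map_add, map_mul, map_mul,
        aeval_X]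
      by_cases hl : l = i
      · subst hl
        simp only [Pi.single_eq_same, map_one, mul_one, if_true]
        ring
      · rw [if_neg hl, Pi.single_eq_of_ne (Ne.symm hl), map_zero, mul_zero]
        ring
    rw [Finset.sum_congr rfl (fun l _ => hR l), Finset.sum_add_distrib, Finset.sum_ite_eq',
      if_pos (Finset.mem_univ i), ← Finset.mul_sum, ← hp, map_mul, aeval_X,
      Polynomial.derivative_mul]
    ring

/-- if `f` vanishes on the affine line `v + τ w`, then `w` is tangent at `v` -/
theorem tangent_of_line [Fintype σ] [Infinite k] (f : MvPolynomial σ k) (v w : σ → k)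
    (h : ∀ τ : k, eval (v + τ • w) f = 0) : ∑ i, eval v (pderiv i f) * w i = 0 := by
  set g : σ → Polynomial k := fun i => Polynomial.C (v i) + Polynomial.C (w i) * Polynomial.X
    with hg
  have hge : ∀ τ : k, (fun i => Polynomial.eval τ (g i)) = v + τ • w := by
    intro τ
    funext i
    simp only [hg, Pi.add_apply, Pi.smul_apply, smul_eq_mul, Polynomial.eval_add,
      Polynomial.eval_mul, Polynomial.eval_C, Polynomial.eval_X]
    ring
  have hP : aeval g f = 0 := by
    apply Polynomial.funext
    intro τ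
    rw [eval_aeval_poly, hge, h, Polynomial.eval_zero]
  have hD := derivative_aeval_poly g f
  rw [hP, Polynomial.derivative_zero] at hD
  have hD0 := congrArg (Polynomial.eval 0) hD
  rw [Polynomial.eval_zero, Polynomial.eval_finsetSum] at hD0
  rw [hD0]
  refine Finset.sum_congr rfl (fun i _ => ?_)
  rw [Polynomial.eval_mul, eval_aeval_poly, hge, zero_smul, add_zero]
  congr 1
  simp [hg]

/-- a cubic in three variables vanishing on four distinct planes through the `X₀`-axis is zero -/
theorem four_planes [Infinite k] (g : MvPolynomial (Fin 3) k) (hg : g.totalDegree ≤ 3) (a b : Fin 4 → k)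
    (hab : ∀ i j, i ≠ j → a i * b j ≠ a j * b i)
    (hz : ∀ i, ∀ x : Fin 3 → k, a i * x 2 = b i * x 1 → eval x g = 0) : g = 0 := by
  classical
  apply MvPolynomial.funext
  intro x
  rw [map_zero]
  by_cases hx : ∃ i, a i * x 2 = b i * x 1
  · obtain ⟨i, hi⟩ := hx; exact hz i x hi
  push Not at hx
  have hne : ∀ i, a i ≠ 0 ∨ b i ≠ 0 := by
    intro i
    by_contra hc; push Not at hc
    exact hx i (by rw [hc.1, hc.2]; ring)
  obtain ⟨c, hc⟩ := Infinite.exists_notMem_finset
    (Finset.image (fun i => b i / a i) Finset.univ ∪ {x 2 / x 1})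
  have hc1 : ∀ i, a i * c ≠ b i := by
    intro i hi
    rcases eq_or_ne (a i) 0 with h0 | h0
    · rw [h0, zero_mul] at hi
      rcases hne i with h | h
      · exact h h0
      · exact h hi.symm
    · apply hc
      rw [Finset.mem_union]; left
      rw [Finset.mem_image]
      refine ⟨i, Finset.mem_univ _, ?_⟩
      rw [← hi]; field_simp
  have hc2 : x 1 * c ≠ x 2 := by
    intro hi
    rcases eq_or_ne (x 1) 0 with h0 | h0
    · rw [h0, zero_mul] at hi
      exact hx 0 (by rw [h0, ← hi]; ring)
    · apply hc; rw [Finset.mem_union]; right; rw [Finset.mem_singleton, ← hi]; field_simp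
  set z : Fin 3 → k := ![0, 1, c] with hz'
  set G : Fin 3 → Polynomial k := fun i => Polynomial.C (x i) + Polynomial.C (z i) * Polynomial.X
    with hG
  have hGe : ∀ τ : k, (fun i => Polynomial.eval τ (G i)) = x + τ • z := by
    intro τ
    funext i
    simp only [hG, Pi.add_apply, Pi.smul_apply, smul_eq_mul, Polynomial.eval_add,
      Polynomial.eval_mul, Polynomial.eval_C, Polynomial.eval_X]
    ring
  have hPdeg : (aeval G g).natDegree ≤ 3 := by
    have := aeval_natDegree_le g hg G (n := 1) (fun i => by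
      simp only [hG]
      refine le_trans (Polynomial.natDegree_add_le _ _) ?_
      rw [max_le_iff]
      refine ⟨by simp, ?_⟩
      refine le_trans (Polynomial.natDegree_C_mul_le _ _) ?_
      simp)
    simpa using this
  set τ : Fin 4 → k := fun i => -(a i * x 2 - b i * x 1) / (a i * c - b i) with hτ
  have hτroot : ∀ i, Polynomial.eval (τ i) (aeval G g) = 0 := by
    intro i
    rw [eval_aeval_poly, hGe]
    apply hz i
    have h1 := sub_ne_zero.2 (hc1 i)
    simp only [hτ, hz', Pi.add_apply, Pi.smul_apply, smul_eq_mul]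
    simp
    field_simp
    ring
  have hτinj : Function.Injective τ := by
    intro i j hij
    by_contra hne'
    have h1 := sub_ne_zero.2 (hc1 i)
    have h2 := sub_ne_zero.2 (hc1 j)
    simp only [hτ] at hij
    rw [div_eq_div_iff h1 h2] at hij
    have : (a i * b j - a j * b i) * (x 1 * c - x 2) = 0 := by linear_combination (-1 : k) * hij
    rcases mul_eq_zero.1 this with h | h
    · exact hab i j hne' (sub_eq_zero.1 h)
    · exact hc2 (sub_eq_zero.1 h)
  have hP0 : aeval G g = 0 :=
    Polynomial.eq_zero_of_natDegree_lt_card_of_eval_eq_zero _ hτinj hτroot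
      (by rw [Fintype.card_fin]; omega)
  have := eval_aeval_poly G g 0
  rw [hP0, hGe, zero_smul, add_zero, Polynomial.eval_zero] at this
  exact this.symm

theorem exists_mu (a b x1 x2 : k) (h : a * x2 = b * x1) (hab : a ≠ 0 ∨ b ≠ 0) :
    ∃ μ, x1 = μ * a ∧ x2 = μ * b := by
  rcases eq_or_ne a 0 with h0 | h0
  · have hb : b ≠ 0 := by
      rcases hab with h' | h'
      · exact absurd h0 h'
      · exact h'
    rw [h0, zero_mul] at h
    have hx1 : x1 = 0 := by
      rcases mul_eq_zero.1 h.symm with h' | h'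
      · exact absurd h' hb
      · exact h'
    refine ⟨x2 / b, by rw [hx1, h0, mul_zero], by field_simp⟩
  · refine ⟨x1 / a, by field_simp, ?_⟩
    field_simp
    linear_combination h

section lines
variable [IsAlgClosed k]

/-- restriction of a smooth cubic to a hyperplane is non-zero -/
theorem restrict_ne_zero (f : MvPolynomial (Fin 4) k) (hf : f.IsHomogeneous 3)
    (hsm : ∀ v : Fin 4 → k, v ≠ 0 → eval v f = 0 → ∃ i, eval v (pderiv i f) ≠ 0)
    (A : Matrix (Fin 4) (Fin 3) k) (hA : A.rank = 3) : aeval (LF A) f ≠ 0 := by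
  intro h0
  apply core f hf hsm A hA (Pi.single 0 1) (Pi.single 1 1) ?_ ?_
  · rw [LinearIndependent.pair_iff]
    intro s t hst
    have h0 := congrFun hst 0
    have h1 := congrFun hst 1
    simp at h0 h1
    exact ⟨h0, h1⟩
  · intro s t
    rw [h0]; simp

theorem no_four_lines (f : MvPolynomial (Fin 4) k) (hf : f.IsHomogeneous 3)
    (hsm : ∀ v : Fin 4 → k, v ≠ 0 → eval v f = 0 → ∃ i, eval v (pderiv i f) ≠ 0)
    (v : Fin 4 → k) (hv : v ≠ 0)
    (H : Submodule k (Fin 4 → k)) (hH : Module.finrank k H = 3)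
    (U : Fin 4 → Submodule k (Fin 4 → k)) (hUinj : Function.Injective U)
    (hUv : ∀ i, v ∈ U i) (hU2 : ∀ i, Module.finrank k (U i) = 2)
    (hUf : ∀ i, ∀ u ∈ U i, eval u f = 0) (hUH : ∀ i, U i ≤ H) : False := by
  classical
  -- Step a
  have ha : ∀ i, ∃ w, w ∈ U i ∧ LinearIndependent k ![v, w] := by
    intro i
    have hx : (⟨v, hUv i⟩ : U i) ≠ 0 := fun h => hv (congrArg Subtype.val h)
    obtain ⟨y, hy⟩ := exists_linearIndependent_pair_of_one_lt_finrank
      (by rw [hU2 i]; norm_num) hx
    refine ⟨y.1, y.2, ?_⟩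
    have := hy.map' (Submodule.subtype _) (Submodule.ker_subtype _)
    have e : (⇑(U i).subtype ∘ ![⟨v, hUv i⟩, y]) = ![v, y.1] := by
      ext j : 1; fin_cases j <;> rfl
    rw [e] at this; exact this
  choose w hwU hwli using ha
  -- Step b
  have hb : ∀ i, Submodule.span k (Set.range ![v, w i]) = U i := by
    intro i
    apply Submodule.eq_of_le_of_finrank_eq
    · rw [Submodule.span_le]
      rintro _ ⟨j, rfl⟩
      fin_cases j
      · exact hUv i
      · exact hwU i
    · rw [finrank_span_eq_card (hwli i), hU2 i]; simp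
  -- Step c
  have hc : ∀ i j, i ≠ j → LinearIndependent k ![w j, v, w i] := by
    intro i j hij
    have : w j ∉ Submodule.span k (Set.range ![v, w i]) := by
      rw [hb i]
      intro hmem
      apply hij
      apply hUinj
      symm
      apply Submodule.eq_of_le_of_finrank_eq
      · rw [← hb j, Submodule.span_le]
        rintro _ ⟨l, rfl⟩
        fin_cases l
        · exact hUv i
        · exact hmem
      · rw [hU2, hU2]
    exact (hwli i).finCons this
  -- Step d
  set A : Matrix (Fin 4) (Fin 3) k := Matrix.of (fun r c => ![v, w 0, w 1] c r) with hAdef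
  have hAmul : ∀ y : Fin 3 → k, A.mulVec y = y 0 • v + y 1 • w 0 + y 2 • w 1 := by
    intro y; funext r
    simp [hAdef, Matrix.mulVec, dotProduct, Fin.sum_univ_three]
    ring
  have hli3 : LinearIndependent k ![v, w 0, w 1] := by
    have h := (hc 0 1 (by decide)).comp ![1, 2, 0] (by decide)
    have e : (![w 1, v, w 0] ∘ ![1, 2, 0]) = ![v, w 0, w 1] := by
      ext j : 1; fin_cases j <;> rfl
    rw [e] at h; exact h
  have hAinj : Function.Injective A.mulVecLin := by
    rw [← LinearMap.ker_eq_bot, LinearMap.ker_eq_bot']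
    intro y hy
    rw [Matrix.mulVecLin_apply, hAmul] at hy
    have := Fintype.linearIndependent_iff.1 hli3 y (by rw [Fin.sum_univ_three]; exact hy)
    funext i; exact this i
  have hA : A.rank = 3 := by
    have := LinearMap.finrank_range_of_inj hAinj
    rw [Matrix.rank, this]; simp
  have hrange : LinearMap.range A.mulVecLin = H := by
    apply Submodule.eq_of_le_of_finrank_eq
    · rintro _ ⟨y, rfl⟩
      rw [Matrix.mulVecLin_apply, hAmul]
      exact H.add_mem (H.add_mem (H.smul_mem _ (hUH 0 (hUv 0))) (H.smul_mem _ (hUH 0 (hwU 0))))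
        (H.smul_mem _ (hUH 1 (hwU 1)))
    · rw [LinearMap.finrank_range_of_inj hAinj, hH]; simp
  -- Step e
  have he : ∀ i, ∃ c : Fin 3 → k, A.mulVec c = w i := by
    intro i
    have : w i ∈ LinearMap.range A.mulVecLin := by rw [hrange]; exact hUH i (hwU i)
    obtain ⟨c, hc⟩ := this
    exact ⟨c, hc⟩
  choose c hcw using he
  have hAe0 : A.mulVec ![1, 0, 0] = v := by rw [hAmul]; simp
  -- Step f
  have hab : ∀ i j, i ≠ j → c i 1 * c j 2 ≠ c j 1 * c i 2 := by
    intro i j hij
    have h1 : LinearIndependent k (A.mulVecLin ∘ ![c j, ![1,0,0], c i]) := by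
      have e : (A.mulVecLin ∘ ![c j, ![1,0,0], c i]) = ![w j, v, w i] := by
        ext l : 1; fin_cases l
        · exact hcw j
        · exact hAe0
        · exact hcw i
      rw [e]; exact hc i j hij
    have h2 := LinearIndependent.of_comp _ h1
    have h3 : IsUnit (Matrix.of ![c j, ![1,0,0], c i]) :=
      Matrix.linearIndependent_rows_iff_isUnit.1 h2
    rw [Matrix.isUnit_iff_isUnit_det, isUnit_iff_ne_zero, Matrix.det_fin_three] at h3
    simp at h3
    intro h; apply h3; linear_combination h
  have hghom : (aeval (LF A) f).IsHomogeneous 3 := by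
    have := hf.aeval (LF A) (n := 1) (isHomogeneous_LF A)
    simpa using this
  apply restrict_ne_zero f hf hsm A hA
  apply four_planes _ (hghom.totalDegree_le) (fun i => c i 1) (fun i => c i 2) hab
  intro i x hx
  rw [eval_aeval_LF]
  apply hUf i
  have hne : c i 1 ≠ 0 ∨ c i 2 ≠ 0 := by
    by_contra hcon; push Not at hcon
    obtain ⟨j, hj⟩ : ∃ j, i ≠ j := ⟨i + 1, by fin_cases i <;> decide⟩
    exact hab i j hj (by rw [hcon.1, hcon.2]; ring)
  obtain ⟨μ, h1, h2⟩ := exists_mu _ _ _ _ hx hne
  have : x = (x 0 - μ * c i 0) • ![1,0,0] + μ • c i := by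
    funext r; fin_cases r <;> simp [h1, h2]
  rw [this, Matrix.mulVec_add, Matrix.mulVec_smul, Matrix.mulVec_smul, hAe0, hcw]
  exact (U i).add_mem ((U i).smul_mem _ (hUv i)) ((U i).smul_mem _ (hwU i))


theorem lines_through_point (f : MvPolynomial (Fin 4) k) (hf : f.IsHomogeneous 3)
    (hsm : ∀ v : Fin 4 → k, v ≠ 0 → eval v f = 0 → ∃ i, eval v (pderiv i f) ≠ 0)
    (v : Fin 4 → k) (hv : v ≠ 0) (hfv : eval v f = 0) :
    {U : Submodule k (Fin 4 → k) | v ∈ U ∧ (Module.finrank k ↥U = 2 ∧ ∀ u ∈ U, eval u f = 0)}.Finite ∧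
      {U : Submodule k (Fin 4 → k) | v ∈ U ∧ (Module.finrank k ↥U = 2 ∧ ∀ u ∈ U, eval u f = 0)}.ncard ≤ 3 ∧
      ∃ H : Submodule k (Fin 4 → k), Module.finrank k ↥H = 3 ∧
        ∀ U : Submodule k (Fin 4 → k), v ∈ U → (Module.finrank k ↥U = 2 ∧ ∀ u ∈ U, eval u f = 0) → U ≤ H := by
  classical
  obtain ⟨i0, hi0⟩ := hsm v hv hfv
  set φ : (Fin 4 → k) →ₗ[k] k :=
    ∑ i, (eval v (pderiv i f)) • (LinearMap.proj i : (Fin 4 → k) →ₗ[k] k) with hφ
  have hφapp : ∀ w, φ w = ∑ i, eval v (pderiv i f) * w i := by
    intro w; simp [hφ, LinearMap.sum_apply]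
  have hHrank : Module.finrank k (LinearMap.ker φ) = 3 := by
    have h1 := LinearMap.finrank_range_add_finrank_ker φ
    have h2 : LinearMap.range φ = ⊤ := by
      rw [LinearMap.range_eq_top]
      intro c
      refine ⟨Pi.single i0 (c / eval v (pderiv i0 f)), ?_⟩
      rw [hφapp, Finset.sum_eq_single i0]
      · simp only [Pi.single_eq_same]; field_simp
      · intro b _ hb; rw [Pi.single_eq_of_ne hb, mul_zero]
      · intro h; exact absurd (Finset.mem_univ _) h
    rw [h2, finrank_top] at h1
    simp only [Module.finrank_self, Module.finrank_fintype_fun_eq_card, Fintype.card_fin] at h1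
    omega
  have hUH : ∀ U : Submodule k (Fin 4 → k), v ∈ U →
      (Module.finrank k ↥U = 2 ∧ ∀ u ∈ U, eval u f = 0) → U ≤ LinearMap.ker φ := by
    intro U hvU hU u hu
    rw [LinearMap.mem_ker, hφapp]
    apply tangent_of_line
    intro τ
    exact hU.2 _ (U.add_mem hvU (U.smul_mem _ hu))
  have henc : {U : Submodule k (Fin 4 → k) |
      v ∈ U ∧ (Module.finrank k ↥U = 2 ∧ ∀ u ∈ U, eval u f = 0)}.encard ≤ (3 : ℕ) := by
    by_contra hcon
    rw [not_le] at hcon
    have h4 : ((4 : ℕ) : ℕ∞) ≤ {U : Submodule k (Fin 4 → k) |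
        v ∈ U ∧ (Module.finrank k ↥U = 2 ∧ ∀ u ∈ U, eval u f = 0)}.encard := by
      have := Order.add_one_le_of_lt hcon
      exact_mod_cast this
    obtain ⟨t, hts, ht⟩ := Set.exists_subset_encard_eq h4
    obtain ⟨x, y, z, w, hxy, hxz, hxw, hyz, hyw, hzw, rfl⟩ := Set.encard_eq_four.1 ht
    have hmem : ∀ i : Fin 4, ![x, y, z, w] i ∈ ({x, y, z, w} : Set (Submodule k (Fin 4 → k))) := by
      intro i; fin_cases i <;> simp
    apply no_four_lines f hf hsm v hv (LinearMap.ker φ) hHrank ![x, y, z, w]
    · intro i j hij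
      fin_cases i <;> fin_cases j <;> simp_all
    · intro i; exact (hts (hmem i)).1
    · intro i; exact (hts (hmem i)).2.1
    · intro i; exact (hts (hmem i)).2.2
    · intro i; exact hUH _ (hts (hmem i)).1 (hts (hmem i)).2
  have := Set.encard_le_coe_iff_finite_ncard_le.1 henc
  exact ⟨this.1, this.2, LinearMap.ker φ, hHrank, hUH⟩

end lines
end Groth.Agent.Lib.Helper4.Cubic
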