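import Mathlib

/-!
# Primes of coheight one avoiding an element of the maximal ideal (helper4)
-/

set_option backward.isDefEq.respectTransparency.types false
set_option synthInstance.maxHeartbeats 400000
set_option autoImplicit false
set_option linter.unusedSectionVars false
set_option linter.style.haveILetI false
set_option linter.unusedSimpArgs false
universe u v w
open CategoryTheory CategoryTheory.Limits AlgebraicGeometry TopologicalSpace Topology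

namespace Groth.Agent.Lib.Helper4.DvrLift1
open IsLocalRing

/-- in a Noetherian local domain in which every nonzero prime contains a fixed nonzero element of
the maximal ideal, the maximal ideal is the only nonzero prime -/
theorem eq_maximalIdeal_of_forall_mem {C : Type*} [CommRing C] [IsDomain C] [IsNoetherianRing C]
    [IsLocalRing C] (t : C) (ht0 : t ≠ 0) (htm : t ∈ maximalIdeal C)
    (H : ∀ 𝔯 : Ideal C, 𝔯.IsPrime → 𝔯 ≠ ⊥ → t ∈ 𝔯) :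
    ∀ 𝔯 : Ideal C, 𝔯.IsPrime → 𝔯 ≠ ⊥ → 𝔯 = maximalIdeal C := by
  classical
  -- it suffices that the maximal ideal is minimal over (t)
  suffices hmin : maximalIdeal C ∈ (Ideal.span {t}).minimalPrimes by
    intro 𝔯 h𝔯 h𝔯0
    have ht𝔯 : Ideal.span {t} ≤ 𝔯 := (Ideal.span_singleton_le_iff_mem _).2 (H 𝔯 h𝔯 h𝔯0)
    exact le_antisymm (le_maximalIdeal h𝔯.ne_top) (hmin.2 ⟨h𝔯, ht𝔯⟩ (le_maximalIdeal h𝔯.ne_top))
  by_contra hnot
  have hfin : (Ideal.span {t}).minimalPrimes.Finite :=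
    Ideal.finite_minimalPrimes_of_isNoetherianRing C _
  -- the maximal ideal is not contained in any minimal prime over (t)
  have hnle : ∀ 𝔭 ∈ (Ideal.span {t}).minimalPrimes, ¬ maximalIdeal C ≤ 𝔭 := by
    intro 𝔭 h𝔭 hle
    have : 𝔭 = maximalIdeal C := le_antisymm (le_maximalIdeal h𝔭.1.1.ne_top) hle
    exact hnot (this ▸ h𝔭)
  -- prime avoidance
  have havoid : ¬ ((maximalIdeal C : Set C) ⊆ ⋃ 𝔭 ∈ (hfin.toFinset : Set (Ideal C)), (𝔭 : Set C)) := by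
    intro hsub
    have := (Ideal.subset_union_prime (R := C) (s := hfin.toFinset) (f := fun 𝔭 => 𝔭)
      (maximalIdeal C) (maximalIdeal C) (fun 𝔭 h𝔭 _ _ => by
        rw [Set.Finite.mem_toFinset] at h𝔭
        exact h𝔭.1.1) (I := maximalIdeal C)).1 hsub
    obtain ⟨𝔭, h𝔭, hle⟩ := this
    rw [Set.Finite.mem_toFinset] at h𝔭
    exact hnle 𝔭 h𝔭 hle
  rw [Set.not_subset] at havoid
  obtain ⟨s, hsm, hsn⟩ := havoid
  have hsn' : ∀ 𝔭 ∈ (Ideal.span {t}).minimalPrimes, s ∉ 𝔭 := by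
    intro 𝔭 h𝔭 hs
    apply hsn
    simp only [Set.mem_iUnion, SetLike.mem_coe, Finset.mem_coe, Set.Finite.mem_toFinset]
    exact ⟨𝔭, h𝔭, hs⟩
  -- the ideal (t) is proper so it has a minimal prime; s ≠ 0
  have htop : Ideal.span {t} ≤ maximalIdeal C := (Ideal.span_singleton_le_iff_mem _).2 htm
  obtain ⟨𝔭₀, h𝔭₀, -⟩ := Ideal.exists_minimalPrimes_le htop
  have hs0 : s ≠ 0 := by
    rintro rfl
    exact hsn' 𝔭₀ h𝔭₀ (zero_mem _)
  -- a minimal prime over (s)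
  have hstop : Ideal.span {s} ≤ maximalIdeal C := (Ideal.span_singleton_le_iff_mem _).2 hsm
  obtain ⟨𝔭', h𝔭', -⟩ := Ideal.exists_minimalPrimes_le hstop
  haveI := h𝔭'.1.1
  have hs𝔭' : s ∈ 𝔭' := h𝔭'.1.2 (Ideal.mem_span_singleton_self s)
  have hh : 𝔭'.height ≤ 1 := Ideal.height_le_one_of_isPrincipal_of_mem_minimalPrimes _ 𝔭' h𝔭'
  have h𝔭'0 : 𝔭' ≠ ⊥ := by
    rintro h
    rw [h, Ideal.mem_bot] at hs𝔭'
    exact hs0 hs𝔭'
  have ht𝔭' : Ideal.span {t} ≤ 𝔭' := (Ideal.span_singleton_le_iff_mem _).2 (H 𝔭' h𝔭'.1.1 h𝔭'0)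
  obtain ⟨𝔭₁, h𝔭₁, hle⟩ := Ideal.exists_minimalPrimes_le ht𝔭'
  haveI := h𝔭₁.1.1
  have h𝔭₁0 : 𝔭₁ ≠ ⊥ := by
    rintro h
    have : t ∈ 𝔭₁ := h𝔭₁.1.2 (Ideal.mem_span_singleton_self t)
    rw [h, Ideal.mem_bot] at this
    exact ht0 this
  have heq : 𝔭₁ = 𝔭' := by
    by_contra hne
    have hlt : 𝔭₁ < 𝔭' := lt_of_le_of_ne hle hne
    have h1 : (⊥ : Ideal C) < 𝔭₁ := bot_lt_iff_ne_bot.2 h𝔭₁0
    have h2 := Ideal.height_add_one_le_of_lt_of_isPrime h1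
    have h3 := Ideal.height_add_one_le_of_lt_of_isPrime hlt
    have h4 : (1 : ℕ∞) ≤ 𝔭₁.height := le_trans (by simp) h2
    have h5 : (2 : ℕ∞) ≤ 𝔭'.height := by
      calc (2 : ℕ∞) = 1 + 1 := by norm_num
        _ ≤ 𝔭₁.height + 1 := by gcongr
        _ ≤ 𝔭'.height := h3
    have : (2 : ℕ∞) ≤ 1 := h5.trans hh
    norm_num at this
  exact hsn' 𝔭₁ h𝔭₁ (heq ▸ hs𝔭')

/-- in a Noetherian local ring, a prime avoiding an element `t` of the maximal ideal is contained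
in a prime `𝔮` avoiding `t` such that `O ⧸ 𝔮` has dimension one -/
theorem exists_prime_quotient_dim_one {O : Type*} [CommRing O] [IsNoetherianRing O]
    [IsLocalRing O] (t : O) (ht : t ∈ maximalIdeal O) (𝔮₀ : Ideal O) [𝔮₀.IsPrime] (h₀ : t ∉ 𝔮₀) :
    ∃ (𝔮 : Ideal O) (_ : 𝔮.IsPrime), 𝔮₀ ≤ 𝔮 ∧ t ∉ 𝔮 ∧
      ∀ 𝔯 : Ideal (O ⧸ 𝔮), 𝔯.IsPrime → 𝔯 ≠ ⊥ → 𝔯.IsMaximal := by
  let S : Set (Ideal O) := {𝔮 | 𝔮.IsPrime ∧ 𝔮₀ ≤ 𝔮 ∧ t ∉ 𝔮}
  have hne : S.Nonempty := ⟨𝔮₀, ‹𝔮₀.IsPrime›, le_rfl, h₀⟩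
  obtain ⟨𝔮, ⟨h𝔮p, h𝔮₀, ht𝔮⟩, hmax⟩ :=
    (set_has_maximal_iff_noetherian (R := O) (M := O)).mpr inferInstance S hne
  haveI := h𝔮p
  refine ⟨𝔮, h𝔮p, h𝔮₀, ht𝔮, ?_⟩
  have hloc : IsLocalHom (Ideal.Quotient.mk 𝔮) :=
    IsLocalHom.of_surjective _ Ideal.Quotient.mk_surjective
  haveI : IsLocalRing (O ⧸ 𝔮) :=
    IsLocalRing.of_surjective' (Ideal.Quotient.mk 𝔮) Ideal.Quotient.mk_surjective
  suffices hh : ∀ 𝔯 : Ideal (O ⧸ 𝔮), 𝔯.IsPrime → 𝔯 ≠ ⊥ → 𝔯 = maximalIdeal (O ⧸ 𝔮) by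
    intro 𝔯 h1 h2
    rw [hh 𝔯 h1 h2]
    infer_instance
  apply eq_maximalIdeal_of_forall_mem (Ideal.Quotient.mk 𝔮 t)
  · rwa [Ne, Ideal.Quotient.eq_zero_iff_mem]
  · intro hu
    exact ht (hloc.map_nonunit t hu)
  · intro 𝔯 h𝔯 h𝔯0
    haveI := h𝔯
    by_contra htn
    have hcomap : (Ideal.comap (Ideal.Quotient.mk 𝔮) 𝔯).IsPrime := Ideal.comap_isPrime _ _
    have hle : 𝔮 ≤ Ideal.comap (Ideal.Quotient.mk 𝔮) 𝔯 := by
      intro a ha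
      rw [Ideal.mem_comap, Ideal.Quotient.eq_zero_iff_mem.2 ha]
      exact zero_mem _
    have hneq : 𝔮 ≠ Ideal.comap (Ideal.Quotient.mk 𝔮) 𝔯 := by
      intro heq
      apply h𝔯0
      apply Ideal.comap_injective_of_surjective (Ideal.Quotient.mk 𝔮) Ideal.Quotient.mk_surjective
      rw [← heq, ← RingHom.ker_eq_comap_bot, Ideal.mk_ker]
    exact hmax _ ⟨hcomap, h𝔮₀.trans hle, fun h => htn h⟩ (lt_of_le_of_ne hle hneq)

end Groth.Agent.Lib.Helper4.DvrLift1
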