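import Mathlib
import Groth.Prelude.Def_Found
import Groth.Agent.S0567
import Groth.Agent.Lib.Helper4.DvrLift1

/-!
# Ring-level construction of normal curves through a codimension-one specialization (Nagata base) (helper4)
-/

set_option backward.isDefEq.respectTransparency.types false
set_option synthInstance.maxHeartbeats 400000
set_option autoImplicit false
set_option linter.unusedSectionVars false
set_option linter.style.haveILetI false
set_option linter.unusedSimpArgs false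
universe u v w
open CategoryTheory CategoryTheory.Limits AlgebraicGeometry TopologicalSpace Topology

namespace Groth.Agent.Lib.Helper4.CurveCrit1
open IsLocalRing TensorProduct
open Groth.Agent.Lib.Helper4.DvrLift1


/-- Between a prime `𝔭₀` and a bigger prime `𝔪` of a Noetherian ring, avoiding an element
`s ∈ 𝔪 ∖ 𝔭₀`, there is a prime `𝔮` with nothing strictly between `𝔮` and `𝔪`. -/
theorem exists_prime_between {R : Type*} [CommRing R] [IsNoetherianRing R]
    (𝔭₀ 𝔪 : Ideal R) [𝔭₀.IsPrime] [𝔪.IsPrime] (h0 : 𝔭₀ ≤ 𝔪) (s : R) (hs𝔪 : s ∈ 𝔪)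
    (hs𝔭 : s ∉ 𝔭₀) :
    ∃ (𝔮 : Ideal R) (_ : 𝔮.IsPrime), 𝔭₀ ≤ 𝔮 ∧ 𝔮 < 𝔪 ∧ s ∉ 𝔮 ∧
      ∀ 𝔯 : Ideal R, 𝔯.IsPrime → 𝔮 ≤ 𝔯 → 𝔯 ≤ 𝔪 → 𝔯 = 𝔮 ∨ 𝔯 = 𝔪 := by
  let O := Localization.AtPrime 𝔪
  have hdisj : Disjoint (𝔪.primeCompl : Set R) (𝔭₀ : Set R) := by
    rw [Set.disjoint_left]
    intro a ha ha'
    exact ha (h0 ha')
  haveI h𝔮₀ : (Ideal.map (algebraMap R O) 𝔭₀).IsPrime :=
    IsLocalization.isPrime_of_isPrime_disjoint 𝔪.primeCompl O 𝔭₀ inferInstance hdisj
  have hcm : (Ideal.map (algebraMap R O) 𝔭₀).comap (algebraMap R O) = 𝔭₀ :=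
    IsLocalization.comap_map_of_isPrime_disjoint 𝔪.primeCompl O inferInstance hdisj
  have ht : algebraMap R O s ∈ maximalIdeal O :=
    (IsLocalization.AtPrime.to_map_mem_maximal_iff O 𝔪 s).2 hs𝔪
  have h₀ : algebraMap R O s ∉ Ideal.map (algebraMap R O) 𝔭₀ := by
    intro h
    apply hs𝔭
    rw [← hcm]
    exact h
  obtain ⟨𝔮O, h𝔮Op, hle, htn, hdim⟩ :=
    exists_prime_quotient_dim_one (algebraMap R O s) ht (Ideal.map (algebraMap R O) 𝔭₀) h₀
  haveI := h𝔮Op
  have hmax : (maximalIdeal O).comap (algebraMap R O) = 𝔪 :=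
    IsLocalization.AtPrime.comap_maximalIdeal O 𝔪
  refine ⟨𝔮O.comap (algebraMap R O), inferInstance, ?_, ?_, ?_, ?_⟩
  · rw [← hcm]
    exact Ideal.comap_mono hle
  · have hle𝔪 : 𝔮O.comap (algebraMap R O) ≤ 𝔪 :=
      (Ideal.comap_mono (le_maximalIdeal h𝔮Op.ne_top)).trans hmax.le
    refine lt_of_le_of_ne hle𝔪 ?_
    intro heq
    apply htn
    have : s ∈ 𝔮O.comap (algebraMap R O) := by rw [heq]; exact hs𝔪
    exact this
  · intro h
    exact htn h
  · intro 𝔯 h𝔯 h1 h2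
    haveI := h𝔯
    have hdisj𝔯 : Disjoint (𝔪.primeCompl : Set R) (𝔯 : Set R) := by
      rw [Set.disjoint_left]
      intro a ha ha'
      exact ha (h2 ha')
    haveI h𝔯O : (Ideal.map (algebraMap R O) 𝔯).IsPrime :=
      IsLocalization.isPrime_of_isPrime_disjoint 𝔪.primeCompl O 𝔯 inferInstance hdisj𝔯
    have hcm𝔯 : (Ideal.map (algebraMap R O) 𝔯).comap (algebraMap R O) = 𝔯 :=
      IsLocalization.comap_map_of_isPrime_disjoint 𝔪.primeCompl O inferInstance hdisj𝔯
    have h𝔮𝔯 : 𝔮O ≤ Ideal.map (algebraMap R O) 𝔯 := by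
      rw [← IsLocalization.map_comap 𝔪.primeCompl O 𝔮O]
      exact Ideal.map_mono h1
    -- the image in the quotient
    have hker : RingHom.ker (Ideal.Quotient.mk 𝔮O) ≤ Ideal.map (algebraMap R O) 𝔯 := by
      rw [Ideal.mk_ker]; exact h𝔮𝔯
    have hpr : (Ideal.map (Ideal.Quotient.mk 𝔮O) (Ideal.map (algebraMap R O) 𝔯)).IsPrime :=
      Ideal.map_isPrime_of_surjective Ideal.Quotient.mk_surjective hker
    have hcomap : (Ideal.map (Ideal.Quotient.mk 𝔮O) (Ideal.map (algebraMap R O) 𝔯)).comap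
        (Ideal.Quotient.mk 𝔮O) = Ideal.map (algebraMap R O) 𝔯 := by
      rw [Ideal.comap_map_of_surjective _ Ideal.Quotient.mk_surjective, ← RingHom.ker_eq_comap_bot]
      exact sup_eq_left.2 hker
    by_cases hbot : Ideal.map (Ideal.Quotient.mk 𝔮O) (Ideal.map (algebraMap R O) 𝔯) = ⊥
    · left
      have : Ideal.map (algebraMap R O) 𝔯 ≤ 𝔮O := by
        rw [← hcomap, hbot, ← RingHom.ker_eq_comap_bot, Ideal.mk_ker]
      have heq : Ideal.map (algebraMap R O) 𝔯 = 𝔮O := le_antisymm this h𝔮𝔯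
      rw [← hcm𝔯, heq]
    · right
      have hmx := hdim _ hpr hbot
      have hmx' : (Ideal.map (algebraMap R O) 𝔯).IsMaximal := by
        rw [← hcomap]
        exact Ideal.comap_isMaximal_of_surjective _ Ideal.Quotient.mk_surjective
      have : Ideal.map (algebraMap R O) 𝔯 = maximalIdeal O := IsLocalRing.eq_maximalIdeal hmx'
      exact hcm𝔯.symm.trans ((congrArg (Ideal.comap (algebraMap R O)) this).trans hmax)



theorem exists_shrink {D : Type*} [CommRing D] [IsDomain D] [IsNoetherianRing D] (𝔫 : Ideal D)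
    [h𝔫 : 𝔫.IsMaximal] (h1 : ∀ 𝔯 : Ideal D, 𝔯.IsPrime → 𝔯 ≤ 𝔫 → 𝔯 = ⊥ ∨ 𝔯 = 𝔫) (a : D)
    (ha : a ≠ 0) :
    ∃ b : D, b ∉ 𝔫 ∧ ∀ 𝔯 : Ideal D, 𝔯.IsPrime → b ∉ 𝔯 → a ∈ 𝔯 → 𝔯 = 𝔫 := by
  classical
  by_cases ha𝔫 : a ∈ 𝔫
  · have hfin : (Ideal.span {a}).minimalPrimes.Finite :=
      Ideal.finite_minimalPrimes_of_isNoetherianRing D _
    let s : Finset (Ideal D) := hfin.toFinset.erase 𝔫
    have hnle : ¬ (∏ 𝔯' ∈ s, 𝔯') ≤ 𝔫 := by
      intro hle
      obtain ⟨𝔯', h𝔯's, h𝔯'le⟩ := (Ideal.IsPrime.prod_le h𝔫.isPrime).1 hle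
      rw [Finset.mem_erase, Set.Finite.mem_toFinset] at h𝔯's
      obtain ⟨hne, hmin⟩ := h𝔯's
      rcases h1 𝔯' hmin.1.1 h𝔯'le with h | h
      · have : a ∈ 𝔯' := hmin.1.2 (Ideal.mem_span_singleton_self a)
        rw [h] at this
        exact ha this
      · exact hne h
    obtain ⟨b, hbI, hb𝔫⟩ := SetLike.not_le_iff_exists.1 hnle
    refine ⟨b, hb𝔫, ?_⟩
    intro 𝔯 h𝔯 hb𝔯 ha𝔯
    haveI := h𝔯
    obtain ⟨𝔯', hmin, hle⟩ := Ideal.exists_minimalPrimes_le
      (show Ideal.span {a} ≤ 𝔯 from (Ideal.span_singleton_le_iff_mem _).2 ha𝔯)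
    by_cases h𝔯'𝔫 : 𝔯' = 𝔫
    · rw [h𝔯'𝔫] at hle
      exact (h𝔫.eq_of_le h𝔯.ne_top hle).symm
    · exfalso
      apply hb𝔯
      apply hle
      have hmem : 𝔯' ∈ s := by
        rw [Finset.mem_erase, Set.Finite.mem_toFinset]
        exact ⟨h𝔯'𝔫, hmin⟩
      exact (Ideal.prod_le_inf.trans (Finset.inf_le hmem)) hbI
  · exact ⟨a, ha𝔫, fun 𝔯 _ h2 h3 => absurd h3 h2⟩




theorem height_eq_one_of {D : Type*} [CommRing D] [IsDomain D] (𝔫 : Ideal D) [𝔫.IsPrime]
    (h0 : 𝔫 ≠ ⊥) (h1 : ∀ 𝔯 : Ideal D, 𝔯.IsPrime → 𝔯 ≤ 𝔫 → 𝔯 = ⊥ ∨ 𝔯 = 𝔫) : 𝔫.height = 1 := by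
  apply le_antisymm
  · have : 𝔫.height ≤ ((1 : ℕ) : ℕ∞) := by
      rw [Ideal.height_le_iff]
      intro q hq hlt
      rcases h1 q hq hlt.le with h | h
      · rw [h, Ideal.height_bot]; exact zero_lt_one
      · exact absurd h hlt.ne
    exact_mod_cast this
  · rw [ENat.one_le_iff_ne_zero, Ne, Ideal.height_eq_zero_iff_eq_bot]
    exact h0

theorem exists_curve_ring_aux {D : Type u} [CommRing D] [IsDomain D] [IsNoetherianRing D]
    (hN2 : CAlg.IsN2 D) (𝔪 : Ideal D) [h𝔪 : 𝔪.IsMaximal] (h𝔪0 : 𝔪 ≠ ⊥)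
    (h1 : ∀ 𝔯 : Ideal D, 𝔯.IsPrime → 𝔯 ≤ 𝔪 → 𝔯 = ⊥ ∨ 𝔯 = 𝔪)
    (L : Type u) [Field L] [Algebra D L] [Algebra (FractionRing D) L]
    [IsScalarTower D (FractionRing D) L] [FiniteDimensional (FractionRing D) L]
    (t : Finset L) :
    ∃ (E : Type u) (_ : CommRing E) (_ : IsDomain E) (_ : IsIntegrallyClosed E)
      (γ : D →+* E) (𝔫 : Ideal E) (_ : 𝔫.IsMaximal) (a : E) (j : Localization.Away a →+* L),
      γ.FiniteType ∧ 𝔫.comap γ = 𝔪 ∧ 𝔫.height = 1 ∧ a ≠ 0 ∧
      (∀ 𝔯 : Ideal E, 𝔯.IsPrime → a ∈ 𝔯 → 𝔯 = 𝔫) ∧ Function.Injective j ∧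
      (∀ d : D, j (algebraMap E (Localization.Away a) (γ d)) = algebraMap D L d) ∧
      ∀ x ∈ t, x ∈ j.range := by
  classical
  let K := FractionRing D
  let D' := integralClosure D L
  haveI hfin : Module.Finite D D' := hN2 L inferInstance
  haveI : IsIntegrallyClosed D' := integralClosure.isIntegrallyClosedOfFiniteExtension K
  haveI hfr : IsFractionRing D' L := integralClosure.isFractionRing_of_finite_extension K L
  haveI : Algebra.IsIntegral D D' := inferInstance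
  haveI : IsNoetherianRing D' := IsNoetherianRing.of_finite D D'
  have hDL : Function.Injective (algebraMap D L) := by
    rw [IsScalarTower.algebraMap_eq D K L]
    exact (algebraMap K L).injective.comp (IsFractionRing.injective D K)
  have hDD' : Function.Injective (algebraMap D D') := by
    intro x y hxy
    apply hDL
    have := congrArg (algebraMap D' L) hxy
    rwa [← IsScalarTower.algebraMap_apply, ← IsScalarTower.algebraMap_apply] at this
  obtain ⟨𝔫', h𝔫'max, h𝔫'c⟩ := Ideal.exists_ideal_over_maximal_of_isIntegral (S := D') 𝔪 (by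
    rw [(RingHom.injective_iff_ker_eq_bot _).1 hDD']; exact bot_le)
  haveI := h𝔫'max
  have h𝔫'0 : 𝔫' ≠ ⊥ := by
    intro h
    apply h𝔪0
    rw [← h𝔫'c, h]
    exact (RingHom.injective_iff_ker_eq_bot _).1 hDD'
  have h1' : ∀ 𝔯 : Ideal D', 𝔯.IsPrime → 𝔯 ≤ 𝔫' → 𝔯 = ⊥ ∨ 𝔯 = 𝔫' := by
    intro 𝔯 h𝔯 hle
    haveI := h𝔯
    rcases h1 (𝔯.comap (algebraMap D D')) inferInstance (h𝔫'c ▸ Ideal.comap_mono hle) with h | h
    · left
      exact Ideal.eq_bot_of_comap_eq_bot h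
    · right
      by_contra hne
      have hlt : 𝔯 < 𝔫' := lt_of_le_of_ne hle hne
      obtain ⟨x, hx𝔫, hx𝔯⟩ := SetLike.exists_of_lt hlt
      have := Ideal.comap_lt_comap_of_integral_mem_sdiff (R := D) hle ⟨hx𝔫, hx𝔯⟩
        (Algebra.IsIntegral.isIntegral x)
      rw [h, h𝔫'c] at this
      exact lt_irrefl _ this
  -- common denominator
  obtain ⟨⟨a, ha⟩, hat⟩ := IsLocalization.exist_integer_multiples_of_finset (nonZeroDivisors D') t
  have ha0 : a ≠ 0 := nonZeroDivisors.ne_zero ha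
  obtain ⟨b, hb𝔫, hb⟩ := exists_shrink 𝔫' h1' a ha0
  have hb0 : b ≠ 0 := fun h => hb𝔫 (h ▸ 𝔫'.zero_mem)
  let E := Localization.Away b
  have hpow : Submonoid.powers b ≤ nonZeroDivisors D' :=
    powers_le_nonZeroDivisors_of_noZeroDivisors hb0
  haveI : IsDomain E := IsLocalization.isDomain_localization hpow
  haveI : IsIntegrallyClosed E := isIntegrallyClosed_of_isLocalization E (Submonoid.powers b) hpow
  have hdisj : Disjoint ((Submonoid.powers b : Submonoid D') : Set D') (𝔫' : Set D') := by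
    rw [Set.disjoint_left]
    rintro _ ⟨n, rfl⟩ hn
    exact hb𝔫 (h𝔫'max.isPrime.mem_of_pow_mem n hn)
  let 𝔫 : Ideal E := 𝔫'.map (algebraMap D' E)
  haveI h𝔫p : 𝔫.IsPrime :=
    IsLocalization.isPrime_of_isPrime_disjoint (Submonoid.powers b) E 𝔫' inferInstance hdisj
  have h𝔫c : 𝔫.comap (algebraMap D' E) = 𝔫' :=
    IsLocalization.comap_map_of_isPrime_disjoint (Submonoid.powers b) E inferInstance hdisj
  have h𝔫max : 𝔫.IsMaximal := by
    rw [Ideal.isMaximal_iff]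
    refine ⟨?_, ?_⟩
    · intro h1𝔫
      exact h𝔫p.ne_top ((Ideal.eq_top_iff_one _).2 h1𝔫)
    · intro J x hle hx hxJ
      have h2 : 𝔫' ≤ J.comap (algebraMap D' E) := by
        rw [← h𝔫c]; exact Ideal.comap_mono hle
      have h3 : J.comap (algebraMap D' E) ≠ 𝔫' := by
        intro heq
        apply hx
        have : J = 𝔫 :=
          (IsLocalization.map_comap (Submonoid.powers b) E J).symm.trans
            (congrArg (Ideal.map (algebraMap D' E)) heq)
        rw [← this]; exact hxJ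
      have h4 : J.comap (algebraMap D' E) = ⊤ := by
        by_contra hne
        exact h3 (h𝔫'max.eq_of_le hne h2).symm
      have : (1 : D') ∈ J.comap (algebraMap D' E) := by rw [h4]; trivial
      simpa using this
  let aE : E := algebraMap D' E a
  have haE0 : aE ≠ 0 := by
    intro h
    apply ha0
    exact (IsLocalization.injective E hpow) (h.trans (map_zero _).symm)
  -- maps to L
  have hbunit : IsUnit (algebraMap D' L b) :=
    IsUnit.mk0 _ (by rwa [Ne, map_eq_zero_iff _ (IsFractionRing.injective D' L)])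
  let jE : E →+* L := IsLocalization.Away.lift b hbunit
  have hjE : ∀ d : D', jE (algebraMap D' E d) = algebraMap D' L d := fun d =>
    IsLocalization.Away.lift_eq b hbunit d
  have hjEinj : Function.Injective jE := by
    rw [injective_iff_map_eq_zero]
    intro x hx
    obtain ⟨⟨d, s⟩, hds⟩ := IsLocalization.surj (Submonoid.powers b) x
    have h5 : jE (x * algebraMap D' E s) = jE (algebraMap D' E d) := by rw [hds]
    rw [map_mul, hx, zero_mul, hjE] at h5
    have hd0 : d = 0 := (IsFractionRing.injective D' L) (by rw [← h5, map_zero])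
    rw [hd0, map_zero] at hds
    have hsu : IsUnit (algebraMap D' E s) := IsLocalization.map_units E s
    exact (hsu.mul_left_eq_zero).1 hds
  have haunit : IsUnit (jE aE) := by
    rw [hjE]
    exact IsUnit.mk0 _ (by rwa [Ne, map_eq_zero_iff _ (IsFractionRing.injective D' L)])
  let j : Localization.Away aE →+* L := IsLocalization.Away.lift aE haunit
  have hj : ∀ e : E, j (algebraMap E (Localization.Away aE) e) = jE e := fun e =>
    IsLocalization.Away.lift_eq aE haunit e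
  have hpowa : Submonoid.powers aE ≤ nonZeroDivisors E :=
    powers_le_nonZeroDivisors_of_noZeroDivisors haE0
  have hjinj : Function.Injective j := by
    rw [injective_iff_map_eq_zero]
    intro x hx
    obtain ⟨⟨d, s⟩, hds⟩ := IsLocalization.surj (Submonoid.powers aE) x
    have h5 : j (x * algebraMap E _ s) = j (algebraMap E _ d) := by rw [hds]
    rw [map_mul, hx, zero_mul, hj] at h5
    have hd0 : d = 0 := hjEinj (by rw [← h5, map_zero])
    rw [hd0, map_zero] at hds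
    have hsu : IsUnit (algebraMap E (Localization.Away aE) s) := IsLocalization.map_units _ s
    exact (hsu.mul_left_eq_zero).1 hds
  refine ⟨E, inferInstance, inferInstance, inferInstance,
    (algebraMap D' E).comp (algebraMap D D'), 𝔫, h𝔫max, aE, j, ?_, ?_, ?_, haE0, ?_, hjinj, ?_, ?_⟩
  · -- finite type
    apply RingHom.FiniteType.comp
    · rw [RingHom.finiteType_algebraMap]
      haveI : Algebra.FinitePresentation D' E := IsLocalization.Away.finitePresentation b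
      infer_instance
    · rw [RingHom.finiteType_algebraMap]
      infer_instance
  · rw [← Ideal.comap_comap, h𝔫c, h𝔫'c]
  · rw [IsLocalization.height_map_of_disjoint (Submonoid.powers b) 𝔫' hdisj]
    exact height_eq_one_of 𝔫' h𝔫'0 h1'
  · intro 𝔯 h𝔯 ha𝔯
    haveI := h𝔯
    have h6 : 𝔯.comap (algebraMap D' E) = 𝔫' := by
      apply hb _ inferInstance
      · intro hb𝔯
        have : IsUnit (algebraMap D' E b) := IsLocalization.Away.algebraMap_isUnit b
        exact h𝔯.ne_top (Ideal.eq_top_of_isUnit_mem _ hb𝔯 this)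
      · exact ha𝔯
    exact (IsLocalization.map_comap (Submonoid.powers b) E 𝔯).symm.trans
      (congrArg (Ideal.map (algebraMap D' E)) h6)
  · intro d
    rw [hj, RingHom.comp_apply, hjE, ← IsScalarTower.algebraMap_apply]
  · intro x hx
    obtain ⟨n, hn⟩ := hat x hx
    -- a • x = algebraMap n
    have h7 : algebraMap D' L a * x = algebraMap D' L n := by
      rw [hn, Algebra.smul_def]
    refine ⟨algebraMap E _ (algebraMap D' E n) * IsLocalization.Away.invSelf aE, ?_⟩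
    have h8 : j (IsLocalization.Away.invSelf aE) * algebraMap D' L a = 1 := by
      have := IsLocalization.Away.mul_invSelf (S := Localization.Away aE) aE
      have h9 := congrArg j this
      rw [map_mul, hj, hjE, map_one] at h9
      rw [mul_comm]; exact h9
    rw [map_mul, hj, hjE, ← h7, mul_comm (algebraMap D' L a) x, mul_assoc, mul_comm _ (j _), h8, mul_one]



theorem exists_field_over_prime {R B : Type u} [CommRing R] [CommRing B] (φ : R →+* B)
    (hφ : φ.FiniteType) (𝔓z : Ideal B) [𝔓z.IsPrime] :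
    ∃ (L : Type u) (_ : Field L) (_ : Algebra (R ⧸ 𝔓z.comap φ) L)
      (_ : Algebra (FractionRing (R ⧸ 𝔓z.comap φ)) L)
      (_ : IsScalarTower (R ⧸ 𝔓z.comap φ) (FractionRing (R ⧸ 𝔓z.comap φ)) L)
      (_ : FiniteDimensional (FractionRing (R ⧸ 𝔓z.comap φ)) L) (ι : B →+* L),
      𝔓z ≤ RingHom.ker ι ∧
        ∀ r : R, ι (φ r) = algebraMap (R ⧸ 𝔓z.comap φ) L (Ideal.Quotient.mk _ r) := by
  let D := R ⧸ 𝔓z.comap φ
  let B₁ := B ⧸ 𝔓z
  let ψ : D →+* B₁ := Ideal.quotientMap 𝔓z φ le_rfl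
  have hψinj : Function.Injective ψ := Ideal.quotientMap_injective
  have hψft : ψ.FiniteType := by
    have h1 : ((Ideal.Quotient.mk 𝔓z).comp φ).FiniteType :=
      (RingHom.FiniteType.of_surjective _ Ideal.Quotient.mk_surjective).comp hφ
    have h2 : (Ideal.Quotient.mk 𝔓z).comp φ = ψ.comp (Ideal.Quotient.mk (𝔓z.comap φ)) :=
      (Ideal.quotientMap_comp_mk le_rfl).symm
    rw [h2] at h1
    exact RingHom.FiniteType.of_comp_finiteType h1
  letI : Algebra D B₁ := ψ.toAlgebra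
  haveI : Algebra.FiniteType D B₁ := hψft
  let K := FractionRing D
  let T := K ⊗[D] B₁
  have hinj : Function.Injective (Algebra.TensorProduct.includeLeft : K →ₐ[D] K ⊗[D] B₁) :=
    Algebra.TensorProduct.includeLeft_injective (S := D) hψinj
  haveI : Nontrivial T := hinj.nontrivial
  obtain ⟨𝔐, h𝔐⟩ := Ideal.exists_maximal T
  haveI := h𝔐
  let L := T ⧸ 𝔐
  letI : Field L := Ideal.Quotient.field 𝔐
  haveI : Algebra.FiniteType K T := inferInstance
  haveI : Algebra.FiniteType K L :=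
    Algebra.FiniteType.of_surjective (Ideal.Quotient.mkₐ K 𝔐) Ideal.Quotient.mk_surjective
  haveI : Module.Finite K L := finite_of_finite_type_of_isJacobsonRing K L
  let ι : B →+* L := (Ideal.Quotient.mk 𝔐).comp
    ((Algebra.TensorProduct.includeRight : B₁ →ₐ[D] K ⊗[D] B₁).toRingHom.comp (Ideal.Quotient.mk 𝔓z))
  refine ⟨L, inferInstance, inferInstance, inferInstance, inferInstance, inferInstance, ι, ?_, ?_⟩
  · intro x hx
    rw [RingHom.mem_ker]
    change (Ideal.Quotient.mk 𝔐) ((Algebra.TensorProduct.includeRight : B₁ →ₐ[D] K ⊗[D] B₁)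
      (Ideal.Quotient.mk 𝔓z x)) = 0
    rw [Ideal.Quotient.eq_zero_iff_mem.2 hx, map_zero, map_zero]
  · intro r
    change (Ideal.Quotient.mk 𝔐) ((Algebra.TensorProduct.includeRight : B₁ →ₐ[D] K ⊗[D] B₁)
      (Ideal.Quotient.mk 𝔓z (φ r))) = _
    have h1 : Ideal.Quotient.mk 𝔓z (φ r) = algebraMap D B₁ (Ideal.Quotient.mk _ r) := rfl
    rw [h1, AlgHom.commutes]
    rfl





theorem exists_curve_ring {R₀ R B : Type u} [CommRing R₀] [CommRing R] [CommRing B]
    (hR₀ : CAlg.IsNagata R₀) (φ₀ : R₀ →+* R) (hφ₀ : φ₀.FiniteType) (φ : R →+* B)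
    (hφ : φ.FiniteType) (𝔓z : Ideal B) [𝔓z.IsPrime] (𝔪 : Ideal R) [h𝔪 : 𝔪.IsMaximal]
    (hlt : 𝔓z.comap φ < 𝔪)
    (hbetween : ∀ 𝔯 : Ideal R, 𝔯.IsPrime → 𝔓z.comap φ ≤ 𝔯 → 𝔯 ≤ 𝔪 →
      𝔯 = 𝔓z.comap φ ∨ 𝔯 = 𝔪) :
    ∃ (E : Type u) (_ : CommRing E) (_ : IsDomain E) (_ : IsIntegrallyClosed E) (γ : R →+* E)
      (𝔫 : Ideal E) (_ : 𝔫.IsMaximal) (a : E) (β : B →+* Localization.Away a),
      (γ.comp φ₀).FiniteType ∧ 𝔫.comap γ = 𝔪 ∧ 𝔫.height = 1 ∧ a ≠ 0 ∧
      (∀ 𝔯 : Ideal E, 𝔯.IsPrime → a ∈ 𝔯 → 𝔯 = 𝔫) ∧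
      β.comp φ = (algebraMap E (Localization.Away a)).comp γ ∧
      𝔓z ≤ RingHom.ker β ∧ (RingHom.ker β).comap φ = 𝔓z.comap φ := by
  classical
  obtain ⟨hR₀N, hUJ⟩ := (Groth.Agent.S0567.result R₀).1 hR₀
  haveI := hR₀N
  haveI : IsNoetherianRing R := by
    letI := φ₀.toAlgebra
    haveI : Algebra.FiniteType R₀ R := hφ₀
    exact Algebra.FiniteType.isNoetherianRing R₀ R
  set 𝔮 : Ideal R := 𝔓z.comap φ with h𝔮
  let D := R ⧸ 𝔮
  have hmksurj : Function.Surjective (Ideal.Quotient.mk 𝔮) := Ideal.Quotient.mk_surjective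
  -- D is N-2
  have hN2 : CAlg.IsN2 D := by
    letI : Algebra R₀ D := ((Ideal.Quotient.mk 𝔮).comp φ₀).toAlgebra
    have hft : ((Ideal.Quotient.mk 𝔮).comp φ₀).FiniteType :=
      (RingHom.FiniteType.of_surjective _ hmksurj).comp hφ₀
    exact hUJ D hft
  -- the maximal ideal of D
  let 𝔪D : Ideal D := 𝔪.map (Ideal.Quotient.mk 𝔮)
  have hcomap𝔪 : 𝔪D.comap (Ideal.Quotient.mk 𝔮) = 𝔪 := by
    rw [Ideal.comap_map_of_surjective _ hmksurj, ← RingHom.ker_eq_comap_bot, Ideal.mk_ker]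
    exact sup_eq_left.2 hlt.le
  haveI h𝔪D : 𝔪D.IsMaximal := by
    rcases Ideal.map_eq_top_or_isMaximal_of_surjective _ hmksurj h𝔪 with h | h
    · exfalso
      have : 𝔪D.comap (Ideal.Quotient.mk 𝔮) = ⊤ := by
        show (𝔪.map (Ideal.Quotient.mk 𝔮)).comap (Ideal.Quotient.mk 𝔮) = ⊤
        rw [h, Ideal.comap_top]
      rw [hcomap𝔪] at this
      exact h𝔪.ne_top this
    · exact h
  have h𝔪D0 : 𝔪D ≠ ⊥ := by
    intro h
    have : 𝔪D.comap (Ideal.Quotient.mk 𝔮) = 𝔮 := by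
      rw [h, ← RingHom.ker_eq_comap_bot, Ideal.mk_ker]
    rw [hcomap𝔪] at this
    exact hlt.ne this.symm
  have h1 : ∀ 𝔯 : Ideal D, 𝔯.IsPrime → 𝔯 ≤ 𝔪D → 𝔯 = ⊥ ∨ 𝔯 = 𝔪D := by
    intro 𝔯 h𝔯 hle
    haveI := h𝔯
    have h2 : 𝔮 ≤ 𝔯.comap (Ideal.Quotient.mk 𝔮) := by
      have : RingHom.ker (Ideal.Quotient.mk 𝔮) ≤ 𝔯.comap (Ideal.Quotient.mk 𝔮) :=
        Ideal.comap_mono bot_le
      rwa [Ideal.mk_ker] at this
    have h3 : 𝔯.comap (Ideal.Quotient.mk 𝔮) ≤ 𝔪 := hcomap𝔪 ▸ Ideal.comap_mono hle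
    rcases hbetween _ inferInstance h2 h3 with h | h
    · left
      rw [← Ideal.map_comap_of_surjective _ hmksurj 𝔯, h, Ideal.map_quotient_self]
    · right
      rw [← Ideal.map_comap_of_surjective _ hmksurj 𝔯, h]
  obtain ⟨L, hLF, hDL, hKL, hST, hFD, ι, hιker, hιφ⟩ := exists_field_over_prime φ hφ 𝔓z
  letI := hLF
  letI := hDL
  letI := hKL
  haveI := hST
  haveI := hFD
  -- generators of B
  obtain ⟨s, hs⟩ := (show @Algebra.FiniteType R B _ _ φ.toAlgebra from hφ).out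
  obtain ⟨E, hE1, hE2, hE3, γD, 𝔫, h𝔫, a, j, hγft, h𝔫c, h𝔫h, ha0, ha𝔫, hjinj, hjγ, hjt⟩ :=
    exists_curve_ring_aux hN2 𝔪D h𝔪D0 h1 L (s.image ι)
  letI := hE1
  haveI := hE2
  haveI := hE3
  have hDLinj : Function.Injective (algebraMap D L) := by
    rw [IsScalarTower.algebraMap_eq D (FractionRing D) L]
    exact (algebraMap (FractionRing D) L).injective.comp (IsFractionRing.injective D _)
  -- everything in the image of ι is in the range of j
  have hrange : ∀ x : B, ι x ∈ j.range := by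
    intro x
    have hx : x ∈ @Algebra.adjoin R B _ _ φ.toAlgebra (↑s : Set B) := by rw [hs]; trivial
    letI := φ.toAlgebra
    induction hx using Algebra.adjoin_induction with
    | mem x hx => exact hjt _ (Finset.mem_image_of_mem ι hx)
    | algebraMap r =>
      refine ⟨algebraMap E _ (γD (Ideal.Quotient.mk 𝔮 r)), ?_⟩
      rw [hjγ]
      exact (hιφ r).symm
    | add x y _ _ hx hy => rw [map_add]; exact j.range.add_mem hx hy
    | mul x y _ _ hx hy => rw [map_mul]; exact j.range.mul_mem hx hy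
  let e : Localization.Away a ≃+* j.range :=
    RingEquiv.ofLeftInverse (g := Function.invFun j) (Function.leftInverse_invFun hjinj)
  let β : B →+* Localization.Away a := e.symm.toRingHom.comp (ι.codRestrict j.range hrange)
  have hβ : ∀ x : B, j (β x) = ι x := by
    intro x
    have h2 : e (β x) = ι.codRestrict j.range hrange x := by
      show e (e.symm _) = _
      rw [RingEquiv.apply_symm_apply]
    have h3 := congrArg Subtype.val h2
    exact h3
  refine ⟨E, inferInstance, inferInstance, inferInstance, γD.comp (Ideal.Quotient.mk 𝔮), 𝔫, h𝔫, a, β,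
    ?_, ?_, h𝔫h, ha0, ha𝔫, ?_, ?_, ?_⟩
  · rw [RingHom.comp_assoc]
    exact hγft.comp ((RingHom.FiniteType.of_surjective _ hmksurj).comp hφ₀)
  · rw [← Ideal.comap_comap, h𝔫c, hcomap𝔪]
  · ext r
    apply hjinj
    rw [RingHom.comp_apply, hβ, hιφ, RingHom.comp_apply, RingHom.comp_apply, hjγ]
  · intro x hx
    rw [RingHom.mem_ker]
    apply hjinj
    rw [hβ, map_zero]
    exact hιker hx
  · ext r
    rw [Ideal.mem_comap, RingHom.mem_ker]
    constructor
    · intro h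
      have h2 : ι (φ r) = 0 := by rw [← hβ, h, map_zero]
      rw [hιφ] at h2
      have h3 : Ideal.Quotient.mk 𝔮 r = 0 := hDLinj (h2.trans (map_zero _).symm)
      exact Ideal.Quotient.eq_zero_iff_mem.1 h3
    · intro h
      apply hjinj
      rw [hβ, hιφ, Ideal.Quotient.eq_zero_iff_mem.2 h, map_zero, map_zero]

end Groth.Agent.Lib.Helper4.CurveCrit1
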