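import Mathlib
import Groth.Agent.Lib.Helper4.CurveCrit1

/-!
# Scheme-level construction of normal curves through a codimension-one specialization (Nagata base) (helper4)
-/

set_option backward.isDefEq.respectTransparency.types false
set_option synthInstance.maxHeartbeats 400000
set_option autoImplicit false
set_option linter.unusedSectionVars false
set_option linter.style.haveILetI false
set_option linter.unusedSimpArgs false
universe u v w
open CategoryTheory CategoryTheory.Limits AlgebraicGeometry TopologicalSpace Topology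

namespace Groth.Agent.Lib.Helper4.CurveCrit2
open IsLocalRing
open Groth.Agent.Lib.Helper4.CurveCrit1

/-- primes strictly below a height one prime of a domain are zero -/
theorem eq_bot_of_lt_of_height_one {E : Type*} [CommRing E] [IsDomain E] (𝔫 𝔯 : Ideal E)
    [𝔫.IsPrime] [𝔯.IsPrime] (h𝔫 : 𝔫.height = 1) (hlt : 𝔯 < 𝔫) : 𝔯 = ⊥ := by
  have h1 : 𝔯.height + 1 ≤ 𝔫.height := Ideal.height_add_one_le_of_lt_of_isPrime hlt
  rw [h𝔫] at h1
  have h2 : 𝔯.height = 0 := by
    have h2 : 𝔯.height + 1 ≤ 0 + 1 := by simpa using h1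
    have h3 : 𝔯.height ≤ 0 := (ENat.add_le_add_iff_right (by simp)).1 h2
    exact nonpos_iff_eq_zero.1 h3
  exact Ideal.height_eq_zero_iff_eq_bot.1 h2

theorem stalk_Spec_props (E : Type u) [CommRing E] [IsDomain E] [IsIntegrallyClosed E]
    (x : Spec (CommRingCat.of E)) :
    IsIntegrallyClosed ((Spec (CommRingCat.of E)).presheaf.stalk x) ∧
      ringKrullDim ((Spec (CommRingCat.of E)).presheaf.stalk x) = x.asIdeal.height := by
  letI alg0 : Algebra E ((Spec (CommRingCat.of E)).presheaf.stalk x) :=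
    StructureSheaf.stalkAlgebra (R := E) x
  haveI loc0 : IsLocalization.AtPrime ((Spec (CommRingCat.of E)).presheaf.stalk x) x.asIdeal :=
    StructureSheaf.IsLocalization.to_stalk E x
  refine ⟨?_, ?_⟩
  · exact isIntegrallyClosed_of_isLocalization _ x.asIdeal.primeCompl
      (Ideal.primeCompl_le_nonZeroDivisors x.asIdeal)
  · exact IsLocalization.AtPrime.ringKrullDim_eq_height x.asIdeal _


set_option maxHeartbeats 1600000 in
theorem exists_curve_data (S : Scheme.{u}) (hS : ∀ W : S.affineOpens, CAlg.IsNagata Γ(S, W))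
    {X Y : Scheme.{u}} (q : Y ⟶ S) [LocallyOfFiniteType q] (f : X ⟶ Y) [LocallyOfFiniteType f]
    (V : S.Opens) (hV : IsAffineOpen V) (W : Y.Opens) (hW : IsAffineOpen W) (hWV : W ≤ q ⁻¹ᵁ V)
    (W' : X.Opens) (hW' : IsAffineOpen W') (hW'W : W' ≤ f ⁻¹ᵁ W)
    (pz : Spec Γ(X, W')) (py : Spec Γ(Y, W)) [hmax : py.asIdeal.IsMaximal]
    (hlt : pz.asIdeal.comap (f.appLE W W' hW'W).hom < py.asIdeal)
    (hbetween : ∀ 𝔯 : Ideal Γ(Y, W), 𝔯.IsPrime →
      pz.asIdeal.comap (f.appLE W W' hW'W).hom ≤ 𝔯 → 𝔯 ≤ py.asIdeal →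
      𝔯 = pz.asIdeal.comap (f.appLE W W' hW'W).hom ∨ 𝔯 = py.asIdeal) :
    ∃ (px : Spec Γ(X, W')), pz ⤳ px ∧
      (Spec.map (f.appLE W W' hW'W)) px = (Spec.map (f.appLE W W' hW'W)) pz ∧
      ∃ (C : Scheme.{u}) (r : C ⟶ S) (_ : IsIntegral C) (_ : LocallyOfFiniteType r)
        (_ : QuasiCompact r) (_ : ∀ x : C, IsIntegrallyClosed (C.presheaf.stalk x))
        (c : C) (_ : IsClosed ({c} : Set C)) (_ : ringKrullDim (C.presheaf.stalk c) = 1)
        (U : C.Opens) (_ : (U : Set C) = {c}ᶜ) (u : (U : Scheme.{u}) ⟶ X) (g : C ⟶ Y)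
        (_ : g ≫ q = r) (_ : u ≫ f = U.ι ≫ g)
        (k : Spec (CommRingCat.of (FractionRing (C.presheaf.stalk c))) ⟶ (U : Scheme.{u}))
        (_ : k ≫ U.ι = Spec.map (CommRingCat.ofHom (algebraMap (C.presheaf.stalk c)
            (FractionRing (C.presheaf.stalk c)))) ≫ C.fromSpecStalk c),
        g c = hW.fromSpec py ∧ ∀ pt, (k ≫ u) pt = hW'.fromSpec px := by
  have hNag : CAlg.IsNagata Γ(S, V) := hS ⟨V, hV⟩
  haveI : IsLocallyNoetherian S := ⟨fun U => (hS U).1⟩
  have hφ₀ : (q.appLE V W hWV).hom.FiniteType := q.finiteType_appLE hV hW hWV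
  have hφ : (f.appLE W W' hW'W).hom.FiniteType := f.finiteType_appLE hW hW' hW'W
  obtain ⟨E, hE1, hE2, hE3, γ, 𝔫, h𝔫, a, β, hft, h𝔫c, h𝔫h, ha0, ha𝔫, hβφ, hker, hkerc⟩ :=
    exists_curve_ring hNag (q.appLE V W hWV).hom hφ₀ (f.appLE W W' hW'W).hom hφ pz.asIdeal
      py.asIdeal hlt hbetween
  letI := hE1
  haveI := hE2
  haveI := hE3
  haveI h𝔫p : 𝔫.IsPrime := h𝔫.isPrime
  let F := Localization.Away a
  have hpowa : Submonoid.powers a ≤ nonZeroDivisors E :=
    powers_le_nonZeroDivisors_of_noZeroDivisors ha0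
  haveI : IsDomain F := IsLocalization.isDomain_localization hpowa
  haveI hkerp : (RingHom.ker β).IsPrime := RingHom.ker_isPrime β
  refine ⟨⟨RingHom.ker β, hkerp⟩, ?_, ?_, ?_⟩
  · exact (PrimeSpectrum.le_iff_specializes (R := Γ(X, W')) pz ⟨RingHom.ker β, hkerp⟩).1 hker
  · apply PrimeSpectrum.ext
    exact hkerc
  -- the curve
  let C : Scheme.{u} := Spec (CommRingCat.of E)
  let c : C := ⟨𝔫, h𝔫p⟩
  let r : C ⟶ S := Spec.map (CommRingCat.ofHom (γ.comp (q.appLE V W hWV).hom)) ≫ hV.fromSpec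
  let g : C ⟶ Y := Spec.map (CommRingCat.ofHom γ) ≫ hW.fromSpec
  haveI : IsIntegral C := inferInstanceAs (IsIntegral (Spec (CommRingCat.of E)))
  haveI hlft : LocallyOfFiniteType r := by
    haveI : LocallyOfFiniteType (Spec.map (CommRingCat.ofHom (γ.comp (q.appLE V W hWV).hom))) :=
      (HasRingHomProperty.Spec_iff (P := @LocallyOfFiniteType)).2 hft
    infer_instance
  haveI hqc : QuasiCompact r := inferInstance
  have hnormal : ∀ x : C, IsIntegrallyClosed (C.presheaf.stalk x) := fun x =>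
    (stalk_Spec_props E x).1
  have hclosed : IsClosed ({c} : Set C) :=
    (PrimeSpectrum.isClosed_singleton_iff_isMaximal c).2 h𝔫
  have hdim : ringKrullDim (C.presheaf.stalk c) = 1 := by
    rw [(stalk_Spec_props E c).2]
    show ((𝔫.height : ℕ∞) : WithBot ℕ∞) = 1
    rw [h𝔫h]; rfl
  let U : C.Opens := ⟨{c}ᶜ, hclosed.isOpen_compl⟩
  have hg : g ≫ q = r := by
    show (Spec.map (CommRingCat.ofHom γ) ≫ hW.fromSpec) ≫ q = _
    rw [Category.assoc, ← IsAffineOpen.SpecMap_appLE_fromSpec q hV hW hWV, ← Category.assoc,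
      ← Spec.map_comp]
    rfl
  -- the open immersion of the localization
  let jF : Spec (CommRingCat.of F) ⟶ C := Spec.map (CommRingCat.ofHom (algebraMap E F))
  haveI : IsOpenImmersion jF := inferInstanceAs
    (IsOpenImmersion (Spec.map (CommRingCat.ofHom (algebraMap E (Localization.Away a)))))
  have hrange : Set.range jF = (PrimeSpectrum.basicOpen a : Set (PrimeSpectrum E)) :=
    PrimeSpectrum.localization_away_comap_range F a
  have hUsub : Set.range U.ι ⊆ Set.range jF := by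
    rw [hrange]
    rintro _ ⟨x, rfl⟩
    show a ∉ (U.ι x).asIdeal
    intro ha
    have h1 : (U.ι x).asIdeal = 𝔫 := ha𝔫 _ (U.ι x).isPrime ha
    have h2 : U.ι x = c := PrimeSpectrum.ext h1
    exact x.2 h2
  let uU : (U : Scheme.{u}) ⟶ Spec (CommRingCat.of F) := IsOpenImmersion.lift jF U.ι hUsub
  have huU : uU ≫ jF = U.ι := IsOpenImmersion.lift_fac _ _ _
  let u : (U : Scheme.{u}) ⟶ X := uU ≫ Spec.map (CommRingCat.ofHom β) ≫ hW'.fromSpec
  have hug : u ≫ f = U.ι ≫ g := by
    show (uU ≫ Spec.map (CommRingCat.ofHom β) ≫ hW'.fromSpec) ≫ f =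
      U.ι ≫ Spec.map (CommRingCat.ofHom γ) ≫ hW.fromSpec
    rw [Category.assoc, Category.assoc, ← IsAffineOpen.SpecMap_appLE_fromSpec f hW hW' hW'W,
      ← huU, Category.assoc]
    congr 1
    rw [← Category.assoc, ← Category.assoc, ← Spec.map_comp, ← Spec.map_comp]
    congr 2
    ext x
    exact congrArg (fun h => h x) hβφ
  -- the generic point
  let K := FractionRing (C.presheaf.stalk c)
  let κ : Spec (CommRingCat.of K) ⟶ C :=
    Spec.map (CommRingCat.ofHom (algebraMap (C.presheaf.stalk c) K)) ≫ C.fromSpecStalk c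
  have hptbot : ∀ pt : Spec (CommRingCat.of K),
      ((Spec.map (CommRingCat.ofHom (algebraMap (C.presheaf.stalk c) K))) pt).asIdeal = ⊥ := by
    intro pt
    have h0 : pt.asIdeal = ⊥ := Ideal.eq_bot_of_prime pt.asIdeal
    show pt.asIdeal.comap (algebraMap (C.presheaf.stalk c) K) = ⊥
    rw [h0, ← RingHom.ker_eq_comap_bot]
    exact (RingHom.injective_iff_ker_eq_bot _).1 (IsFractionRing.injective _ K)
  have hκ : ∀ pt, κ pt ≠ c := by
    intro pt hpt
    have h1 : C.fromSpecStalk c (closedPoint (C.presheaf.stalk c)) = c :=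
      Scheme.fromSpecStalk_closedPoint
    have h2 : (Spec.map (CommRingCat.ofHom (algebraMap (C.presheaf.stalk c) K))) pt =
        closedPoint (C.presheaf.stalk c) :=
      (C.fromSpecStalk c).isEmbedding.injective (hpt.trans h1.symm)
    have h3 := hptbot pt
    rw [h2] at h3
    have h4 : maximalIdeal (C.presheaf.stalk c) = ⊥ := h3
    have h5 := IsLocalRing.maximalIdeal_height_eq_ringKrullDim (R := C.presheaf.stalk c)
    rw [h4, Ideal.height_bot, hdim] at h5
    exact absurd h5 (by norm_num)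
  have hκU : Set.range κ ⊆ Set.range U.ι := by
    rw [Scheme.Opens.range_ι]
    rintro _ ⟨pt, rfl⟩
    exact hκ pt
  let k : Spec (CommRingCat.of K) ⟶ (U : Scheme.{u}) := IsOpenImmersion.lift U.ι κ hκU
  have hk : k ≫ U.ι = κ := IsOpenImmersion.lift_fac _ _ _
  refine ⟨C, r, inferInstance, hlft, hqc, hnormal, c, hclosed, hdim, U, rfl, u, g, hg, hug, k, hk,
    ?_, ?_⟩
  · show hW.fromSpec ((Spec.map (CommRingCat.ofHom γ)) c) = hW.fromSpec py
    congr 1
    exact PrimeSpectrum.ext h𝔫c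
  · intro pt
    show hW'.fromSpec ((Spec.map (CommRingCat.ofHom β)) (uU (k pt))) = hW'.fromSpec _
    congr 1
    apply PrimeSpectrum.ext
    show (uU (k pt)).asIdeal.comap β = RingHom.ker β
    have h1 : jF (uU (k pt)) = κ pt := by
      rw [← Scheme.Hom.comp_apply, huU, ← Scheme.Hom.comp_apply, hk]
    have h2 : κ pt ⤳ c := by
      have : κ pt ∈ Set.range (C.fromSpecStalk c) := ⟨_, rfl⟩
      rw [Scheme.range_fromSpecStalk] at this
      exact this
    have h3 : (κ pt).asIdeal ≤ 𝔫 := (PrimeSpectrum.le_iff_specializes (R := E) (κ pt) c).2 h2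
    have h4 : (κ pt).asIdeal ≠ 𝔫 := fun h => hκ pt (PrimeSpectrum.ext h)
    haveI : (κ pt).asIdeal.IsPrime := (κ pt).isPrime
    have h5 : (κ pt).asIdeal = ⊥ :=
      eq_bot_of_lt_of_height_one 𝔫 _ h𝔫h (lt_of_le_of_ne h3 h4)
    have h6 : (uU (k pt)).asIdeal.comap (algebraMap E F) = ⊥ := by
      rw [← h5, ← h1]; rfl
    have h7 : (uU (k pt)).asIdeal = ⊥ := by
      have := IsLocalization.map_comap (Submonoid.powers a) F (uU (k pt)).asIdeal
      rw [← this]
      show Ideal.map (algebraMap E F) ((uU (k pt)).asIdeal.comap (algebraMap E F)) = ⊥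
      rw [h6, Ideal.map_bot]
    rw [h7, RingHom.ker_eq_comap_bot]

end Groth.Agent.Lib.Helper4.CurveCrit2
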