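import Mathlib
import Groth.Agent.Lib.Helper4.CurveCrit2
import Groth.Agent.Lib.Helper4.OpenNoeth1

/-!
# Curve criterion implies closed map (Nagata base) (helper4)
-/

set_option backward.isDefEq.respectTransparency.types false
set_option synthInstance.maxHeartbeats 400000
set_option autoImplicit false
set_option linter.unusedSectionVars false
set_option linter.style.haveILetI false
set_option linter.unusedSimpArgs false
universe u v w
open CategoryTheory CategoryTheory.Limits AlgebraicGeometry TopologicalSpace Topology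

namespace Groth.Agent.Lib.Helper4.CurveCrit3
open IsLocalRing
open Groth.Agent.Lib.Helper4.CurveCrit1 Groth.Agent.Lib.Helper4.CurveCrit2
open Groth.Agent.Lib.Helper4.OpenNoeth1

/-- In a locally constructible subset of a locally Noetherian scheme, every point specializes to a
point of the subset which is closed in some open neighbourhood. -/
theorem exists_locally_closed_point {Y : Scheme.{u}} [IsLocallyNoetherian Y] (G : Set Y)
    (hG : IsLocallyConstructible G) (y₁ : Y) (hy₁ : y₁ ∈ G) :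
    ∃ y' ∈ G, y₁ ⤳ y' ∧ ∃ O : Y.Opens, y' ∈ O ∧ ∀ w ∈ O, y' ⤳ w → w = y' := by
  obtain ⟨_, ⟨W₁, hW₁ : IsAffineOpen W₁, rfl⟩, hyW₁, -⟩ :=
    Y.isBasis_affineOpens.exists_subset_of_mem_open (Set.mem_univ y₁) isOpen_univ
  haveI : IsNoetherianRing Γ(Y, W₁) := IsLocallyNoetherian.component_noetherian ⟨W₁, hW₁⟩
  haveI : NoetherianSpace ↥W₁ := noetherianSpace_of_isAffineOpen W₁ hW₁
  -- the candidates
  let A : Set ↥W₁ := {g | (g : Y) ∈ G ∧ y₁ ⤳ (g : Y)}
  have hA : A.Nonempty := ⟨⟨y₁, hyW₁⟩, hy₁, specializes_rfl⟩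
  let cl : ↥W₁ → Closeds ↥W₁ := fun g => ⟨closure {g}, isClosed_closure⟩
  have hwf : WellFounded (InvImage (· < ·) cl) := InvImage.wf cl wellFounded_lt
  obtain ⟨g, hgA, hgmin⟩ := hwf.has_min A hA
  have hmin : ∀ w : Y, w ∈ G → w ∈ W₁ → (g : Y) ⤳ w → w = g := by
    intro w hwG hwW hgw
    have hwA : (⟨w, hwW⟩ : ↥W₁) ∈ A := ⟨hwG, hgA.2.trans hgw⟩
    have hgw' : g ⤳ (⟨w, hwW⟩ : ↥W₁) :=
      (Topology.IsInducing.subtypeVal.specializes_iff).1 hgw
    have hle : cl ⟨w, hwW⟩ ≤ cl g := by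
      show closure {(⟨w, hwW⟩ : ↥W₁)} ⊆ closure {g}
      exact closure_minimal (Set.singleton_subset_iff.2 (specializes_iff_mem_closure.1 hgw'))
        isClosed_closure
    have hnlt : ¬ cl ⟨w, hwW⟩ < cl g := hgmin _ hwA
    have heq : cl ⟨w, hwW⟩ = cl g := by
      by_contra hne
      exact hnlt (lt_of_le_of_ne hle hne)
    have hwg : (⟨w, hwW⟩ : ↥W₁) ⤳ g := by
      rw [specializes_iff_mem_closure]
      have : g ∈ ((cl g : Closeds ↥W₁) : Set ↥W₁) := subset_closure rfl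
      rw [← heq] at this
      exact this
    have : (⟨w, hwW⟩ : ↥W₁) = g := (hwg.antisymm hgw').eq
    exact congrArg Subtype.val this
  -- a neighbourhood
  let N : Set Y := G ∪ (closure {(g : Y)})ᶜ
  have hN : IsLocallyConstructible N := by
    refine hG.union ?_
    have := isLocallyConstructible_of_isOpen_inter_isClosed (X := Y) (closure {(g : Y)})ᶜ Set.univ
      isClosed_closure.isOpen_compl isClosed_univ
    rwa [Set.inter_univ] at this
  have hNnhds : N ∈ nhds (g : Y) := by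
    apply mem_nhds_of_isLocallyConstructible N hN
    intro w hw
    by_cases hgw : (g : Y) ⤳ w
    · left
      have : w = g := (hw.antisymm hgw).eq
      rw [this]; exact hgA.1
    · right
      intro hmem
      exact hgw (specializes_iff_mem_closure.2 hmem)
  obtain ⟨O₀, hO₀N, hO₀, hgO₀⟩ := mem_nhds_iff.1 hNnhds
  refine ⟨g, hgA.1, hgA.2, ⟨O₀, hO₀⟩ ⊓ W₁, ⟨hgO₀, g.2⟩, ?_⟩
  rintro w ⟨hwO₀, hwW⟩ hgw
  rcases hO₀N hwO₀ with h | h
  · exact hmin w h hwW hgw
  · exact absurd (specializes_iff_mem_closure.1 hgw) h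


/-- the existence criterion on curves (statement of S7449) -/
def CurveExists (S : Scheme.{u}) {X Y : Scheme.{u}} (q : Y ⟶ S) (f : X ⟶ Y) : Prop :=
  ∀ (C : Scheme.{u}) (r : C ⟶ S) [IsIntegral C] [LocallyOfFiniteType r] [QuasiCompact r],
        (∀ x : C, IsIntegrallyClosed (C.presheaf.stalk x)) →
        ∀ (c : C), IsClosed ({c} : Set C) → ringKrullDim (C.presheaf.stalk c) = 1 →
        ∀ (U : C.Opens), (U : Set C) = {c}ᶜ →
        ∀ (u : (U : Scheme.{u}) ⟶ X) (g : C ⟶ Y), g ≫ q = r → u ≫ f = U.ι ≫ g →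
        ∀ (k : Spec (CommRingCat.of (FractionRing (C.presheaf.stalk c))) ⟶ (U : Scheme.{u})),
          k ≫ U.ι = Spec.map (CommRingCat.ofHom (algebraMap (C.presheaf.stalk c)
            (FractionRing (C.presheaf.stalk c)))) ≫ C.fromSpecStalk c →
        ∃ l : Spec (C.presheaf.stalk c) ⟶ X, l ≫ f = C.fromSpecStalk c ≫ g ∧
          Spec.map (CommRingCat.ofHom (algebraMap (C.presheaf.stalk c)
            (FractionRing (C.presheaf.stalk c)))) ≫ l = k ≫ u

set_option maxHeartbeats 1600000 in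
theorem isClosedMap_of_curveExists (S : Scheme.{u})
    (hS : ∀ W : S.affineOpens, CAlg.IsNagata Γ(S, W))
    {X Y : Scheme.{u}} (q : Y ⟶ S) [LocallyOfFiniteType q] (f : X ⟶ Y) [LocallyOfFiniteType f]
    [QuasiCompact f] (H : CurveExists S q f) : IsClosedMap f.base := by
  haveI : IsLocallyNoetherian S := ⟨fun U => (hS U).1⟩
  haveI : IsLocallyNoetherian Y := LocallyOfFiniteType.isLocallyNoetherian q
  haveI : IsLocallyNoetherian X := LocallyOfFiniteType.isLocallyNoetherian f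
  haveI : LocallyOfFinitePresentation f := LocallyOfFinitePresentation.iff_locallyOfFiniteType.2 ‹_›
  change IsClosedMap f
  rw [isClosedMap_iff_specializingMap]
  intro x y₁ hxy
  by_contra hcon
  let Z : Set X := closure {x}
  let E : Set Y := f '' Z
  have hxZ : x ∈ Z := subset_closure rfl
  have hZE : ∀ x' : X, x ⤳ x' → f x' ∈ E := fun x' h => ⟨x', specializes_iff_mem_closure.1 h, rfl⟩
  have hy₁E : y₁ ∉ E := by
    rintro ⟨x', hx'Z, hx'⟩
    exact hcon ⟨x', specializes_iff_mem_closure.2 hx'Z, hx'⟩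
  have hZlc : IsLocallyConstructible Z := by
    have := isLocallyConstructible_of_isOpen_inter_isClosed (X := X) Set.univ Z isOpen_univ
      isClosed_closure
    rwa [Set.univ_inter] at this
  have hE : IsLocallyConstructible E := f.isLocallyConstructible_image hZlc
  have hTlc : IsLocallyConstructible (closure {f x}) := by
    have := isLocallyConstructible_of_isOpen_inter_isClosed (X := Y) Set.univ (closure {f x})
      isOpen_univ isClosed_closure
    rwa [Set.univ_inter] at this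
  let G : Set Y := closure {f x} ∩ Eᶜ
  have hG : IsLocallyConstructible G := hTlc.inter (isLocallyConstructible_compl hE)
  have hy₁G : y₁ ∈ G := ⟨specializes_iff_mem_closure.1 hxy, hy₁E⟩
  obtain ⟨y', hy'G, -, O, hy'O, hOcl⟩ := exists_locally_closed_point G hG y₁ hy₁G
  have hfxy' : f x ⤳ y' := specializes_iff_mem_closure.2 hy'G.1
  -- a neighbourhood of `f x` in its closure lying in `E`
  let N₁ : Set Y := E ∪ (closure {f x})ᶜ
  have hN₁ : IsLocallyConstructible N₁ := hE.union (isLocallyConstructible_compl hTlc)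
  have hN₁nhds : N₁ ∈ nhds (f x) := by
    apply mem_nhds_of_isLocallyConstructible N₁ hN₁
    intro w hw
    by_cases hfw : f x ⤳ w
    · left
      have : w = f x := (hw.antisymm hfw).eq
      rw [this]; exact ⟨x, hxZ, rfl⟩
    · right
      intro hmem
      exact hfw (specializes_iff_mem_closure.2 hmem)
  obtain ⟨O₁, hO₁N, hO₁, hfxO₁⟩ := mem_nhds_iff.1 hN₁nhds
  -- affine opens
  obtain ⟨_, ⟨V, hV : IsAffineOpen V, rfl⟩, hqy'V, -⟩ :=
    S.isBasis_affineOpens.exists_subset_of_mem_open (Set.mem_univ (q y')) isOpen_univ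
  obtain ⟨_, ⟨W, hW : IsAffineOpen W, rfl⟩, hy'W, hWsub⟩ :=
    Y.isBasis_affineOpens.exists_subset_of_mem_open
      (show y' ∈ ((O ⊓ q ⁻¹ᵁ V : Y.Opens) : Set Y) from ⟨hy'O, hqy'V⟩) (O ⊓ q ⁻¹ᵁ V).2
  have hWO : W ≤ O := fun w hw => (hWsub hw).1
  have hWV : W ≤ q ⁻¹ᵁ V := fun w hw => (hWsub hw).2
  have hfxW : f x ∈ W := hfxy'.mem_open W.2 hy'W
  haveI : IsNoetherianRing Γ(Y, W) := IsLocallyNoetherian.component_noetherian ⟨W, hW⟩
  let py : Spec Γ(Y, W) := hW.primeIdealOf ⟨y', hy'W⟩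
  let p₀ : Spec Γ(Y, W) := hW.primeIdealOf ⟨f x, hfxW⟩
  have hpy : hW.fromSpec py = y' := hW.fromSpec_primeIdealOf ⟨y', hy'W⟩
  have hp₀ : hW.fromSpec p₀ = f x := hW.fromSpec_primeIdealOf ⟨f x, hfxW⟩
  have hinj : Function.Injective hW.fromSpec := hW.fromSpec.isOpenEmbedding.injective
  have hspec : ∀ a b : Spec Γ(Y, W), a ⤳ b ↔ hW.fromSpec a ⤳ hW.fromSpec b := fun a b =>
    (hW.fromSpec.isOpenEmbedding.isInducing.specializes_iff).symm
  have hrangeW : ∀ a : Spec Γ(Y, W), hW.fromSpec a ∈ W := by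
    intro a
    have : hW.fromSpec a ∈ Set.range hW.fromSpec := ⟨a, rfl⟩
    rw [hW.range_fromSpec] at this
    exact this
  -- `py` is maximal
  haveI hpymax : py.asIdeal.IsMaximal := by
    rw [← PrimeSpectrum.isClosed_singleton_iff_isMaximal, ← closure_subset_iff_isClosed]
    intro a ha
    have h1 : py ⤳ a := specializes_iff_mem_closure.2 ha
    have h2 : y' ⤳ hW.fromSpec a := by rw [← hpy]; exact (hspec _ _).1 h1
    have h4 := hOcl _ (hWO (hrangeW a)) h2
    exact hinj (h4.trans hpy.symm)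
  -- a basic open
  have hopen : IsOpen (hW.fromSpec ⁻¹' O₁) := hO₁.preimage hW.fromSpec.continuous
  have hp₀mem : p₀ ∈ hW.fromSpec ⁻¹' O₁ := by
    show hW.fromSpec p₀ ∈ O₁
    rw [hp₀]; exact hfxO₁
  obtain ⟨_, ⟨s, rfl⟩, hp₀s, hsO₁⟩ :=
    (PrimeSpectrum.isTopologicalBasis_basic_opens (R := Γ(Y, W))).exists_subset_of_mem_open hp₀mem hopen
  have hs𝔭 : s ∉ p₀.asIdeal := hp₀s
  have hs𝔪 : s ∈ py.asIdeal := by
    by_contra hns
    have h1 : hW.fromSpec py ∈ O₁ := hsO₁ (show py ∈ ((PrimeSpectrum.basicOpen s : Opens (PrimeSpectrum Γ(Y, W))) : Set (PrimeSpectrum Γ(Y, W))) from hns)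
    rw [hpy] at h1
    rcases hO₁N h1 with h | h
    · exact hy'G.2 h
    · exact h hy'G.1
  have h0 : p₀.asIdeal ≤ py.asIdeal :=
    (PrimeSpectrum.le_iff_specializes (R := Γ(Y, W)) p₀ py).2
      ((hspec _ _).2 (by rw [hp₀, hpy]; exact hfxy'))
  obtain ⟨𝔮, h𝔮p, hp₀𝔮, h𝔮lt, hs𝔮, h𝔮btw⟩ :=
    exists_prime_between p₀.asIdeal py.asIdeal h0 s hs𝔪 hs𝔭
  let pq : Spec Γ(Y, W) := ⟨𝔮, h𝔮p⟩
  have hy''O₁ : hW.fromSpec pq ∈ O₁ :=
    hsO₁ (show pq ∈ ((PrimeSpectrum.basicOpen s : Opens (PrimeSpectrum Γ(Y, W))) : Set (PrimeSpectrum Γ(Y, W))) from hs𝔮)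
  have hy''cl : f x ⤳ hW.fromSpec pq := by
    rw [← hp₀]
    exact (hspec _ _).1 ((PrimeSpectrum.le_iff_specializes (R := Γ(Y, W)) p₀ pq).1 hp₀𝔮)
  have hy''E : hW.fromSpec pq ∈ E := by
    rcases hO₁N hy''O₁ with h | h
    · exact h
    · exact absurd (specializes_iff_mem_closure.1 hy''cl) h
  obtain ⟨z, hzZ, hz⟩ := hy''E
  have hzW : z ∈ f ⁻¹ᵁ W := by
    show f z ∈ W
    rw [hz]; exact hrangeW pq
  obtain ⟨_, ⟨W', hW' : IsAffineOpen W', rfl⟩, hzW', hW'W⟩ :=
    X.isBasis_affineOpens.exists_subset_of_mem_open hzW (f ⁻¹ᵁ W).2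
  let pz : Spec Γ(X, W') := hW'.primeIdealOf ⟨z, hzW'⟩
  have hpz : hW'.fromSpec pz = z := hW'.fromSpec_primeIdealOf ⟨z, hzW'⟩
  have hpzq : pz.asIdeal.comap (f.appLE W W' hW'W).hom = 𝔮 := by
    have h1 := IsAffineOpen.comap_primeIdealOf_appLE (f := f) W hW W' hW' hW'W hzW'
    have h2 : hW.primeIdealOf ⟨f z, hW'W hzW'⟩ = pq :=
      hinj (by rw [hW.fromSpec_primeIdealOf]; exact hz)
    exact congrArg PrimeSpectrum.asIdeal (h1.trans h2)
  obtain ⟨px, hpzpx, hpxq, C, r, hC1, hC2, hC3, hnormal, c, hclosed, hdim, U, hU, u, g, hg, hug, k, hk,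
    hgc, hku⟩ := exists_curve_data S hS q f V hV W hW hWV W' hW' hW'W pz py
      (by rw [hpzq]; exact h𝔮lt) (by rw [hpzq]; exact h𝔮btw)
  haveI := hC1
  haveI := hC2
  haveI := hC3
  obtain ⟨l, hl1, hl2⟩ := H C r hnormal c hclosed hdim U hU u g hg hug k hk
  -- the closed point
  let x' : X := l (closedPoint (C.presheaf.stalk c))
  have hfx' : f x' = y' := by
    show f (l (closedPoint (C.presheaf.stalk c))) = y'
    rw [← Scheme.Hom.comp_apply, hl1, Scheme.Hom.comp_apply, Scheme.fromSpecStalk_closedPoint, hgc,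
      hpy]
  have hxx' : x ⤳ x' := by
    let pt : Spec (CommRingCat.of (FractionRing (C.presheaf.stalk c))) :=
      closedPoint (FractionRing (C.presheaf.stalk c))
    have h1 : (k ≫ u) pt = hW'.fromSpec px := hku pt
    rw [← hl2, Scheme.Hom.comp_apply] at h1
    have h2 : l ((Spec.map (CommRingCat.ofHom (algebraMap (C.presheaf.stalk c)
        (FractionRing (C.presheaf.stalk c))))) pt) ⤳ x' :=
      (specializes_closedPoint (R := C.presheaf.stalk c) _).map l.continuous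
    rw [h1] at h2
    have h3 : z ⤳ hW'.fromSpec px := by
      rw [← hpz]
      exact hpzpx.map hW'.fromSpec.continuous
    exact ((specializes_iff_mem_closure.2 hzZ).trans h3).trans h2
  exact hy'G.2 (hfx' ▸ hZE x' hxx')

end Groth.Agent.Lib.Helper4.CurveCrit3
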