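import Mathlib
import Groth.Agent.Lib.Helper4.CurveCrit3
import Groth.Agent.Lib.Helper4.UnivClosed
import Groth.Agent.Lib.Helper4.BranchCount1

/-!
# Universally closed iff existence criterion on curves over a Nagata base (Stacks 0CM5-type) (helper4)
-/

set_option backward.isDefEq.respectTransparency.types false
set_option synthInstance.maxHeartbeats 400000
set_option autoImplicit false
set_option linter.unusedSectionVars false
set_option linter.style.haveILetI false
set_option linter.unusedSimpArgs false
universe u v w
open CategoryTheory CategoryTheory.Limits AlgebraicGeometry TopologicalSpace Topology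

namespace Groth.Agent.Lib.Helper4.CurveCrit4
open IsLocalRing AffineSpace
open Groth.Agent.Lib.Helper4.CurveCrit3 Groth.Agent.Lib.Helper4.UC
open Groth.Agent.Lib.Helper4.BranchCount1

theorem curveExists_of_universallyClosed (S : Scheme.{u})
    (hS : ∀ W : S.affineOpens, CAlg.IsNagata Γ(S, W))
    {X Y : Scheme.{u}} (q : Y ⟶ S) (f : X ⟶ Y) [UniversallyClosed f] [QuasiCompact f] :
    CurveExists S q f := by
  intro C r _ _ _ hnormal c hclosed hdim U hU u g hg hug k hk
  haveI : IsLocallyNoetherian S := ⟨fun U => (hS U).1⟩
  haveI : IsLocallyNoetherian C := LocallyOfFiniteType.isLocallyNoetherian r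
  haveI : IsNoetherianRing (C.presheaf.stalk c) := inferInstance
  haveI := hnormal c
  haveI : IsDiscreteValuationRing (C.presheaf.stalk c) := dvr_of_normal_dim_one _ hdim
  have hex : ValuativeCriterion.Existence f := by
    have := UniversallyClosed.eq_valuativeCriterion
    have hf : UniversallyClosed f := inferInstance
    rw [this] at hf
    exact hf.1
  let Sq : ValuativeCommSq f :=
    { R := C.presheaf.stalk c
      commRing := inferInstance
      domain := inferInstance
      valuationRing := inferInstance
      K := FractionRing (C.presheaf.stalk c)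
      field := inferInstance
      algebra := inferInstance
      isFractionRing := inferInstance
      i₁ := k ≫ u
      i₂ := C.fromSpecStalk c ≫ g
      commSq := ⟨by rw [Category.assoc, hug, ← Category.assoc, hk, Category.assoc]⟩ }
  obtain ⟨⟨l⟩⟩ := hex Sq
  exact ⟨l.l, l.fac_right, l.fac_left⟩

theorem curveExists_snd (S : Scheme.{u}) {X Y T : Scheme.{u}} (q : Y ⟶ S) (f : X ⟶ Y)
    (π : T ⟶ Y) (H : CurveExists S q f) : CurveExists S (π ≫ q) (pullback.snd f π) := by
  intro C r _ _ _ hnormal c hclosed hdim U hU u g hg hug k hk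
  obtain ⟨l', hl'1, hl'2⟩ := H C r hnormal c hclosed hdim U hU (u ≫ pullback.fst f π) (g ≫ π)
    (by rw [Category.assoc, hg])
    (by rw [Category.assoc, pullback.condition, ← Category.assoc, hug, Category.assoc]) k hk
  refine ⟨pullback.lift l' (C.fromSpecStalk c ≫ g) (by rw [hl'1, Category.assoc]),
    pullback.lift_snd _ _ _, ?_⟩
  apply pullback.hom_ext
  · rw [Category.assoc, pullback.lift_fst, hl'2, Category.assoc]
  · rw [Category.assoc, pullback.lift_snd, Category.assoc, hug, ← Category.assoc k, hk, Category.assoc]

theorem S7449_main (S : Scheme.{u}) (hS : ∀ W : S.affineOpens, CAlg.IsNagata Γ(S, W))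
    {X Y : Scheme.{u}} (p : X ⟶ S) (q : Y ⟶ S) [LocallyOfFiniteType p] [LocallyOfFiniteType q]
    (f : X ⟶ Y) (hf : f ≫ q = p) [QuasiCompact f] :
    UniversallyClosed f ↔ CurveExists S q f := by
  constructor
  · intro h
    exact curveExists_of_universallyClosed S hS q f
  · intro H
    haveI : LocallyOfFiniteType (f ≫ q) := by rw [hf]; infer_instance
    haveI : LocallyOfFiniteType f := locallyOfFiniteType_of_comp f q
    rw [(S9205_main f).2]
    intro n
    haveI : LocallyOfFiniteType ((𝔸(ULift.{u} (Fin n); Y) ↘ Y) ≫ q) := inferInstance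
    exact isClosedMap_of_curveExists S hS ((𝔸(ULift.{u} (Fin n); Y) ↘ Y) ≫ q)
      (pullback.snd f (𝔸(ULift.{u} (Fin n); Y) ↘ Y)) (curveExists_snd S q f _ H)

end Groth.Agent.Lib.Helper4.CurveCrit4
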