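import Mathlib
import Groth.Agent.Lib.Helper4.CurveCrit4

/-!
# Separated iff uniqueness criterion on curves over a Nagata base (helper4)
-/

set_option backward.isDefEq.respectTransparency.types false
set_option synthInstance.maxHeartbeats 400000
set_option autoImplicit false
set_option linter.unusedSectionVars false
set_option linter.style.haveILetI false
set_option linter.unusedSimpArgs false
universe u v w
open CategoryTheory CategoryTheory.Limits AlgebraicGeometry TopologicalSpace Topology

namespace Groth.Agent.Lib.Helper4.CurveCrit5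
open IsLocalRing
open Groth.Agent.Lib.Helper4.CurveCrit3 Groth.Agent.Lib.Helper4.CurveCrit4

/-- the uniqueness criterion on curves (statement of S7450) -/
def CurveUnique (S : Scheme.{u}) {X Y : Scheme.{u}} (q : Y ⟶ S) (f : X ⟶ Y) : Prop :=
  ∀ (C : Scheme.{u}) (r : C ⟶ S) [IsIntegral C] [LocallyOfFiniteType r] [QuasiCompact r],
        (∀ x : C, IsIntegrallyClosed (C.presheaf.stalk x)) →
        ∀ (c : C), IsClosed ({c} : Set C) → ringKrullDim (C.presheaf.stalk c) = 1 →
        ∀ (U : C.Opens), (U : Set C) = {c}ᶜ →
        ∀ (u : (U : Scheme.{u}) ⟶ X) (g : C ⟶ Y), g ≫ q = r → u ≫ f = U.ι ≫ g →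
        ∀ (k : Spec (CommRingCat.of (FractionRing (C.presheaf.stalk c))) ⟶ (U : Scheme.{u})),
          k ≫ U.ι = Spec.map (CommRingCat.ofHom (algebraMap (C.presheaf.stalk c)
            (FractionRing (C.presheaf.stalk c)))) ≫ C.fromSpecStalk c →
        ∀ l l' : Spec (C.presheaf.stalk c) ⟶ X,
          l ≫ f = C.fromSpecStalk c ≫ g →
          Spec.map (CommRingCat.ofHom (algebraMap (C.presheaf.stalk c)
            (FractionRing (C.presheaf.stalk c)))) ≫ l = k ≫ u →
          l' ≫ f = C.fromSpecStalk c ≫ g →
          Spec.map (CommRingCat.ofHom (algebraMap (C.presheaf.stalk c)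
            (FractionRing (C.presheaf.stalk c)))) ≫ l' = k ≫ u → l = l'

theorem isDominant_Spec_map_of_injective {A B : CommRingCat.{u}} (φ : A ⟶ B)
    (h : Function.Injective φ.hom) : IsDominant (Spec.map φ) := by
  constructor
  show DenseRange (PrimeSpectrum.comap φ.hom)
  rw [PrimeSpectrum.denseRange_comap_iff_ker_le_nilRadical,
    (RingHom.injective_iff_ker_eq_bot _).1 h]
  exact bot_le

theorem curveUnique_of_isSeparated (S : Scheme.{u}) {X Y : Scheme.{u}} (q : Y ⟶ S) (f : X ⟶ Y)
    [IsSeparated f] : CurveUnique S q f := by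
  intro C r _ _ _ hnormal c hclosed hdim U hU u g hg hug k hk l l' h1 h2 h1' h2'
  haveI : IsDominant (Spec.map (CommRingCat.ofHom (algebraMap (C.presheaf.stalk c)
      (FractionRing (C.presheaf.stalk c))))) :=
    isDominant_Spec_map_of_injective _ (IsFractionRing.injective _ _)
  haveI : IsReduced (Spec (C.presheaf.stalk c)) := inferInstance
  exact ext_of_isDominant_of_isSeparated f (h1.trans h1'.symm) _ (h2.trans h2'.symm)

theorem curveExists_diagonal (S : Scheme.{u}) {X Y : Scheme.{u}} (q : Y ⟶ S) (f : X ⟶ Y)
    (H : CurveUnique S q f) :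
    CurveExists S (pullback.fst f f ≫ f ≫ q) (pullback.diagonal f) := by
  intro C r _ _ _ hnormal c hclosed hdim U hU u g hg hug k hk
  have hu1 : u = U.ι ≫ g ≫ pullback.fst f f := by
    have := congrArg (· ≫ pullback.fst f f) hug
    simpa using this
  have hu2 : u = U.ι ≫ g ≫ pullback.snd f f := by
    have := congrArg (· ≫ pullback.snd f f) hug
    simpa using this
  have key := H C r hnormal c hclosed hdim U hU u (g ≫ pullback.fst f f ≫ f)
    (by rw [← hg]; simp only [Category.assoc])
    (by rw [hu1]; simp only [Category.assoc]) k hk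
    (C.fromSpecStalk c ≫ g ≫ pullback.fst f f) (C.fromSpecStalk c ≫ g ≫ pullback.snd f f)
    (by simp only [Category.assoc])
    (by rw [← Category.assoc, ← hk, hu1]; simp only [Category.assoc])
    (by simp only [Category.assoc, pullback.condition])
    (by rw [← Category.assoc, ← hk, hu2]; simp only [Category.assoc])
  refine ⟨C.fromSpecStalk c ≫ g ≫ pullback.fst f f, ?_, ?_⟩
  · apply pullback.hom_ext
    · simp only [Category.assoc, pullback.diagonal_fst, Category.comp_id]
    · rw [Category.assoc, pullback.diagonal_snd, Category.comp_id, key, Category.assoc]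
  · rw [← Category.assoc, ← hk, hu1]; simp only [Category.assoc]


theorem S7450_main (S : Scheme.{u}) (hS : ∀ W : S.affineOpens, CAlg.IsNagata Γ(S, W))
    {X Y : Scheme.{u}} (p : X ⟶ S) (q : Y ⟶ S) [LocallyOfFiniteType p] [LocallyOfFiniteType q]
    (f : X ⟶ Y) (hf : f ≫ q = p) :
    IsSeparated f ↔ CurveUnique S q f := by
  constructor
  · intro h
    exact curveUnique_of_isSeparated S q f
  · intro H
    haveI : IsLocallyNoetherian S := ⟨fun U => (hS U).1⟩
    haveI : IsLocallyNoetherian X := LocallyOfFiniteType.isLocallyNoetherian p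
    haveI : LocallyOfFiniteType (f ≫ q) := by rw [hf]; infer_instance
    haveI : LocallyOfFiniteType f := locallyOfFiniteType_of_comp f q
    haveI : LocallyOfFiniteType (pullback.fst f f ≫ f ≫ q) := inferInstance
    haveI : LocallyOfFiniteType (pullback.diagonal f) := by
      haveI : LocallyOfFiniteType (pullback.diagonal f ≫ pullback.fst f f) := by
        rw [pullback.diagonal_fst]; infer_instance
      exact locallyOfFiniteType_of_comp _ (pullback.fst f f)
    haveI : QuasiSeparated f := inferInstance
    haveI : QuasiCompact (pullback.diagonal f) := inferInstance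
    have hcl : IsClosedMap (pullback.diagonal f).base :=
      isClosedMap_of_curveExists S hS _ _ (curveExists_diagonal S q f H)
    constructor
    exact IsClosedImmersion.of_isPreimmersion _ hcl.isClosed_range

end Groth.Agent.Lib.Helper4.CurveCrit5
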