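import Mathlib
import Groth.Agent.Lib.Helper4.CurveCrit5
import Groth.Agent.S2654

/-!
# DVR valuative criteria tested on essentially finite type DVRs over an excellent base (helper4)
-/

set_option backward.isDefEq.respectTransparency.types false
set_option synthInstance.maxHeartbeats 400000
set_option autoImplicit false
set_option linter.unusedSectionVars false
set_option linter.style.haveILetI false
set_option linter.unusedSimpArgs false
universe u v w
open CategoryTheory CategoryTheory.Limits AlgebraicGeometry TopologicalSpace Topology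

namespace Groth.Agent.Lib.Helper4.CurveCrit6
open IsLocalRing
open Groth.Agent.Lib.Helper4.CurveCrit3 Groth.Agent.Lib.Helper4.CurveCrit4
open Groth.Agent.Lib.Helper4.CurveCrit5 Groth.Agent.Lib.Helper4.BranchCount1

theorem essFT_witness (S : Scheme.{u}) {C : Scheme.{u}} (r : C ⟶ S) [LocallyOfFiniteType r]
    (c : C) :
    ∃ (U : S.affineOpens) (φ : Γ(S, U.1) ⟶ C.presheaf.stalk c),
      Spec.map φ ≫ U.2.fromSpec = C.fromSpecStalk c ≫ r ∧ φ.hom.EssFiniteType := by
  obtain ⟨_, ⟨U, hU : IsAffineOpen U, rfl⟩, hrcU, -⟩ :=
    S.isBasis_affineOpens.exists_subset_of_mem_open (Set.mem_univ (r c)) isOpen_univ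
  obtain ⟨_, ⟨W, hW : IsAffineOpen W, rfl⟩, hcW, hWU⟩ :=
    C.isBasis_affineOpens.exists_subset_of_mem_open (show c ∈ r ⁻¹ᵁ U from hrcU) (r ⁻¹ᵁ U).2
  refine ⟨⟨U, hU⟩, r.appLE U W hWU ≫ C.presheaf.germ W c hcW, ?_, ?_⟩
  · rw [Spec.map_comp, Category.assoc, IsAffineOpen.SpecMap_appLE_fromSpec r hU hW hWU,
      ← Category.assoc]
    congr 1
    exact hW.fromSpecStalk_eq_fromSpecStalk hcW
  · have h1 : (r.appLE U W hWU).hom.EssFiniteType :=
      (r.finiteType_appLE hU hW hWU).essFiniteType
    have h2 : (C.presheaf.germ W c hcW).hom.EssFiniteType := by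
      letI := TopCat.Presheaf.algebra_section_stalk C.presheaf ⟨c, hcW⟩
      haveI := hW.isLocalization_stalk ⟨c, hcW⟩
      have : (algebraMap Γ(C, W) (C.presheaf.stalk c)).EssFiniteType :=
        RingHom.essFiniteType_algebraMap.2
          (Algebra.EssFiniteType.of_isLocalization _ (hW.primeIdealOf ⟨c, hcW⟩).asIdeal.primeCompl)
      exact this
    exact h1.comp h2

theorem isNagata_of_isExcellent (S : Scheme.{u})
    (hS : ∀ U : S.affineOpens, EGA4.IsExcellent Γ(S, U.1)) :
    ∀ W : S.affineOpens, CAlg.IsNagata Γ(S, W) := fun W =>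
  Groth.Agent.S2654.result _ ⟨(hS W).1, (hS W).2.2.1, (hS W).2.2.2⟩

theorem S14120_main (S : Scheme.{u})
    (hS : ∀ U : S.affineOpens, EGA4.IsExcellent Γ(S, U.1))
    {X Y : Scheme.{u}} (f : X ⟶ Y) (g : Y ⟶ S)
    [QuasiCompact f] [LocallyOfFiniteType f] [LocallyOfFiniteType g] :
    (∀ sq : ValuativeCommSq f, IsDiscreteValuationRing sq.R → sq.commSq.HasLift) ↔
    (∀ sq : ValuativeCommSq f, IsDiscreteValuationRing sq.R →
      (∃ (U : S.affineOpens) (φ : Γ(S, U.1) ⟶ CommRingCat.of sq.R),
        Spec.map φ ≫ U.2.fromSpec = sq.i₂ ≫ g ∧ φ.hom.EssFiniteType) →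
      sq.commSq.HasLift) := by
  constructor
  · intro H sq hsq _
    exact H sq hsq
  · intro H
    have hNag := isNagata_of_isExcellent S hS
    haveI : IsLocallyNoetherian S := ⟨fun U => (hNag U).1⟩
    have hcrit : CurveExists S g f := by
      intro C r _ _ _ hnormal c hclosed hdim U hU u gC hg hug k hk
      haveI : IsLocallyNoetherian C := LocallyOfFiniteType.isLocallyNoetherian r
      haveI : IsNoetherianRing (C.presheaf.stalk c) := inferInstance
      haveI := hnormal c
      haveI hdvr : IsDiscreteValuationRing (C.presheaf.stalk c) := dvr_of_normal_dim_one _ hdim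
      let Sq : ValuativeCommSq f :=
        { R := C.presheaf.stalk c
          commRing := inferInstance
          domain := inferInstance
          valuationRing := inferInstance
          K := FractionRing (C.presheaf.stalk c)
          field := inferInstance
          algebra := inferInstance
          isFractionRing := inferInstance
          i₁ := k ≫ u
          i₂ := C.fromSpecStalk c ≫ gC
          commSq := ⟨by rw [Category.assoc, hug, ← Category.assoc k, hk, Category.assoc]⟩ }
      obtain ⟨U₀, φ, hφ1, hφ2⟩ := essFT_witness S r c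
      have hl := H Sq hdvr ⟨U₀, φ, by rw [hφ1, ← hg, Category.assoc], hφ2⟩
      obtain ⟨⟨l⟩⟩ := hl
      exact ⟨l.l, l.fac_right, l.fac_left⟩
    haveI : LocallyOfFiniteType (f ≫ g) := inferInstance
    haveI : UniversallyClosed f := (S7449_main S hNag (f ≫ g) g f rfl).2 hcrit
    have hex : ValuativeCriterion.Existence f := by
      have := UniversallyClosed.eq_valuativeCriterion
      have hf : UniversallyClosed f := inferInstance
      rw [this] at hf
      exact hf.1
    intro sq _
    exact hex sq


theorem S14121_main (S : Scheme.{u})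
    (hS : ∀ U : S.affineOpens, EGA4.IsExcellent Γ(S, U.1))
    {X Y : Scheme.{u}} (f : X ⟶ Y) (g : Y ⟶ S)
    [QuasiCompact f] [LocallyOfFiniteType f] [LocallyOfFiniteType g] :
    (∀ sq : ValuativeCommSq f, IsDiscreteValuationRing sq.R → Subsingleton sq.commSq.LiftStruct) ↔
    (∀ sq : ValuativeCommSq f, IsDiscreteValuationRing sq.R →
      (∃ (U : S.affineOpens) (φ : Γ(S, U.1) ⟶ CommRingCat.of sq.R),
        Spec.map φ ≫ U.2.fromSpec = sq.i₂ ≫ g ∧ φ.hom.EssFiniteType) →
      Subsingleton sq.commSq.LiftStruct) := by
  constructor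
  · intro H sq hsq _
    exact H sq hsq
  · intro H
    have hNag := isNagata_of_isExcellent S hS
    haveI : IsLocallyNoetherian S := ⟨fun U => (hNag U).1⟩
    have hcrit : CurveUnique S g f := by
      intro C r _ _ _ hnormal c hclosed hdim U hU u gC hg hug k hk l l' h1 h2 h1' h2'
      haveI : IsLocallyNoetherian C := LocallyOfFiniteType.isLocallyNoetherian r
      haveI : IsNoetherianRing (C.presheaf.stalk c) := inferInstance
      haveI := hnormal c
      haveI hdvr : IsDiscreteValuationRing (C.presheaf.stalk c) := dvr_of_normal_dim_one _ hdim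
      let Sq : ValuativeCommSq f :=
        { R := C.presheaf.stalk c
          commRing := inferInstance
          domain := inferInstance
          valuationRing := inferInstance
          K := FractionRing (C.presheaf.stalk c)
          field := inferInstance
          algebra := inferInstance
          isFractionRing := inferInstance
          i₁ := k ≫ u
          i₂ := C.fromSpecStalk c ≫ gC
          commSq := ⟨by rw [Category.assoc, hug, ← Category.assoc k, hk, Category.assoc]⟩ }
      obtain ⟨U₀, φ, hφ1, hφ2⟩ := essFT_witness S r c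
      have hsub := H Sq hdvr ⟨U₀, φ, by rw [hφ1, ← hg, Category.assoc], hφ2⟩
      let L₁ : Sq.commSq.LiftStruct := ⟨l, h2, h1⟩
      let L₂ : Sq.commSq.LiftStruct := ⟨l', h2', h1'⟩
      have : L₁ = L₂ := Subsingleton.elim _ _
      exact congrArg CommSq.LiftStruct.l this
    haveI : LocallyOfFiniteType (f ≫ g) := inferInstance
    haveI : IsSeparated f := (S7450_main S hNag (f ≫ g) g f rfl).2 hcrit
    have huniq : ValuativeCriterion.Uniqueness f := IsSeparated.valuativeCriterion f
    intro sq _
    exact huniq sq

end Groth.Agent.Lib.Helper4.CurveCrit6
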