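import Mathlib
import Groth.Prelude.Def_Cyc
import Groth.Agent.Lib.Helper4.JacDim1
import Groth.Prelude.Def_EGA43
import Groth.Agent.Lib.Helper4.FibreStalkDim1
import Groth.Agent.Lib.Helper4.DimFT1
import Groth.Agent.Lib.Helper4.DimFT2
import Groth.Agent.Lib.Helper4.Chev8
import Groth.Agent.Lib.Helper4.FibDim7
import Groth.Agent.Lib.Helper4.EffCartierDim1
import Groth.Agent.Lib.Helper4.JacDim4
import Groth.Agent.Lib.Helper4.Chev9
import Groth.Agent.Lib.Helper4.Chev10
import Groth.Agent.Lib.Helper4.Chev11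
import Groth.Agent.Lib.Helper4.Equi1
import Groth.Agent.Lib.Helper4.Equi2
import Groth.Agent.Lib.Helper4.Equi3
import Groth.Agent.Lib.Helper4.Equi4
import Groth.Agent.Lib.Helper4.Equi5
import Groth.Agent.Lib.Helper4.Equi6
import Groth.Agent.Lib.Helper4.Equi7
import Groth.Agent.Lib.Helper4.Aff1
import Groth.Agent.Lib.Helper4.Aff2
import Groth.Agent.Lib.Helper4.Equi10
import Groth.Agent.Lib.Helper4.Val1
import Groth.Agent.Lib.Helper4.BaseChg1
import Groth.Agent.Lib.Helper4.UnivOpen1
import Groth.Agent.Lib.Helper4.FibClosure1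
import Groth.Agent.Lib.Helper4.OpenNoeth1
import Groth.Agent.Lib.Helper4.SecComp1
import Groth.Agent.Lib.Helper4.SecComp2
import Groth.Agent.Lib.Helper4.UnivOpen2
import Groth.Agent.Lib.Helper4.UnivOpenAt
import Groth.Agent.Lib.Helper4.RegularLocalCopy
import Groth.Agent.Lib.Helper4.ZMTNormalPt1
import Groth.Agent.Lib.Helper4.LocFinComp1
import Groth.Agent.Lib.Helper4.SecComp3
import Groth.Agent.Lib.Helper4.PropDim1
import Groth.Prelude.Def_FDesc
import Groth.Prelude.Def_MoreMor
import Groth.Agent.Lib.Helper4.ChevCrit1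
import Groth.Agent.Lib.Helper4.ChevCrit2
import Groth.Agent.Lib.Helper4.ChevCrit3
import Groth.Agent.Lib.Helper4.IrrCompDomain1
import Groth.Agent.Lib.Helper4.ChevCrit4
import Groth.Agent.Lib.Helper4.ChevCrit5
import Groth.Agent.Lib.Helper4.ChevCrit6
import Groth.Agent.Lib.Helper4.ChevCrit7
import Groth.Agent.Lib.Helper4.DedekindOpen1
import Groth.Agent.Lib.Helper4.UnivOpenT1
import Groth.Agent.Lib.Helper4.DvrFlat1
import Groth.Agent.Lib.Helper4.SatChain1
import Groth.Agent.Lib.Helper4.FlatDimK1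
import Groth.Agent.Lib.Helper4.BaseChgMax1
import Groth.Agent.Lib.Helper4.ProdDim1
import Groth.Agent.Lib.Helper4.FibDimBC1
import Groth.Agent.Lib.Helper4.FibMap1
import Groth.Agent.Lib.Helper4.GenFib1
import Groth.Agent.Lib.Helper4.EquiBC1
import Groth.Agent.Lib.Helper4.GenEqui1
import Groth.Agent.Lib.Helper4.LocNoethFib1
import Groth.Agent.Lib.Helper4.FibDimBC2
import Groth.Agent.Lib.Helper4.FibDimComp1
import Groth.Agent.Lib.Helper4.HypDim1
import Groth.Agent.Lib.Helper4.FFlatDelta1
import Groth.Agent.Lib.Helper4.FTDim1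
import Groth.Agent.Lib.Helper4.IrrFib1
import Groth.Agent.Lib.Helper4.FTDim2
import Groth.Agent.Lib.Helper4.ProperImgDim1
import Groth.Agent.Lib.Helper4.RangeDim1
import Groth.Agent.Lib.Helper4.WellInt1
import Groth.Agent.Lib.Helper4.WellInt2
import Groth.Agent.Lib.Helper4.FibStrat1
import Groth.Agent.Lib.Helper4.SmoothNormal1
import Groth.Agent.Lib.Helper4.GenSmooth1
import Groth.Agent.Lib.Helper4.StalkEtale1
import Groth.Agent.Lib.Helper4.ZMTBirational
import Groth.Agent.Lib.Helper4.WellInt3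
import Groth.Agent.Lib.Helper4.WellInt4

/-!
# Generically unramified/etale/separable for dominant morphisms of integral schemes (S6554) (helper4)
-/

set_option backward.isDefEq.respectTransparency.types false
set_option synthInstance.maxHeartbeats 400000
set_option autoImplicit false
set_option linter.unusedSectionVars false
set_option linter.style.haveILetI false
set_option linter.unusedSimpArgs false
universe u v w
open CategoryTheory CategoryTheory.Limits AlgebraicGeometry TopologicalSpace IsLocalRing Opposite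
open Cardinal AffineSpace MvPolynomial
open Groth.Agent.Lib.Helper4.DimIneq1 Groth.Agent.Lib.Helper4.DimFT2 Groth.Agent.Lib.Helper4.Catenary1
open Groth.Agent.Lib.Helper4.DimEq1 Groth.Agent.Lib.Helper4.DimIneq2 Groth.Agent.Lib.Helper4.DimEq2
open Groth.Agent.Lib.Helper4.DimIneq3 Groth.Agent.Lib.Helper4.DimIneq4
open Groth.Agent.Lib.Helper4.NormFibre2 Groth.Agent.Lib.Helper4.RadBir3 Groth.Agent.Lib.Helper4.DimFT3
open Groth.Agent.Lib.Helper4.FibDim1 Groth.Agent.Lib.Helper4.FibDim2 Groth.Agent.Lib.Helper4.LocUC1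
open Groth.Agent.Lib.Helper4.FibDim3 Groth.Agent.Lib.Helper4.FibDim4 Groth.Agent.Lib.Helper4.FibDim5
open Groth.Agent.Lib.Helper4.FibDim6 Groth.Agent.Lib.Helper4.FibDim7 Groth.Agent.Lib.Helper4.JacDim1
open Groth.Agent.Lib.Helper4.DimFT1
open Groth.Agent.Lib.Helper4.Chev2 Groth.Agent.Lib.Helper4.Chev5 Groth.Agent.Lib.Helper4.Chev6 Groth.Agent.Lib.Helper4.Chev8
open Groth.Agent.Lib.Helper4.JacDim4 Groth.Agent.Lib.Helper4.EffCartierDim1
open Groth.Agent.Lib.Helper4.Chev9 Groth.Agent.Lib.Helper4.Chev4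
open Groth.Agent.Lib.Helper4.Chev10 Groth.Agent.Lib.Helper4.Chev11 Groth.Agent.Lib.Helper4.Chev3 Groth.Agent.Lib.Helper4.Equi1 Groth.Agent.Lib.Helper4.Equi2 Groth.Agent.Lib.Helper4.OpenAt1 Groth.Agent.Lib.Helper4.Equi3 Groth.Agent.Lib.Helper4.Equi4 Groth.Agent.Lib.Helper4.Equi5 Groth.Agent.Lib.Helper4.Equi6 Groth.Agent.Lib.Helper4.Equi7 Groth.Agent.Lib.Helper4.Aff1 Groth.Agent.Lib.Helper4.Aff2 Groth.Agent.Lib.Helper4.Equi10 Groth.Agent.Lib.Helper4.Val1 Groth.Agent.Lib.Helper4.BaseChg1 Groth.Agent.Lib.Helper4.UnivOpen1 Groth.Agent.Lib.Helper4.FibClosure1 Groth.Agent.Lib.Helper4.OpenNoeth1 Groth.Agent.Lib.Helper4.SecComp1 Groth.Agent.Lib.Helper4.SecComp2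
open Groth.Agent.Lib.Helper4.SecComp3 Groth.Agent.Lib.Helper4.PropDim1 Groth.Agent.Lib.Helper4.ZMTNormalPt1 Groth.Agent.Lib.Helper4.UO Groth.Agent.Lib.Helper4.UOp
open Groth.Agent.Lib.Helper4.ChevCrit1 Groth.Agent.Lib.Helper4.ChevCrit2 Groth.Agent.Lib.Helper4.ChevCrit3
open Groth.Agent.Lib.Helper4.IrrCompDomain1 Groth.Agent.Lib.Helper4.RadBir1
open Groth.Agent.Lib.Helper4.ChevCrit4
open Groth.Agent.Lib.Helper4.ChevCrit5
open Groth.Agent.Lib.Helper4.DedekindOpen1 Groth.Agent.Lib.Helper4.UnivOpenT1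
open Groth.Agent.Lib.Helper4.ChevCrit7
open Groth.Agent.Lib.Helper4.DvrFlat1 Groth.Agent.Lib.Helper4.FlatDimK1 Groth.Agent.Lib.Helper4.BaseChgMax1 Groth.Agent.Lib.Helper4.ProdDim1 Groth.Agent.Lib.Helper4.FibDimBC1 Groth.Agent.Lib.Helper4.FibMap1 Groth.Agent.Lib.Helper4.GenFib1 Groth.Agent.Lib.Helper4.EquiBC1 Groth.Agent.Lib.Helper4.GenEqui1 Groth.Agent.Lib.Helper4.LocNoethFib1 Groth.Agent.Lib.Helper4.FibDimBC2 Groth.Agent.Lib.Helper4.FibDimComp1 Groth.Agent.Lib.Helper4.HypDim1 Groth.Agent.Lib.Helper4.FFlatDelta1 Groth.Agent.Lib.Helper4.FTDim1 Groth.Agent.Lib.Helper4.IrrFib1 Groth.Agent.Lib.Helper4.FTDim2 Groth.Agent.Lib.Helper4.ProperImgDim1 Groth.Agent.Lib.Helper4.RangeDim1 Groth.Agent.Lib.Helper4.WellInt1 Groth.Agent.Lib.Helper4.WellInt2 Groth.Agent.Lib.Helper4.FibStrat1 Groth.Agent.Lib.Helper4.SmoothNormal1 Groth.Agent.Lib.Helper4.GenSmooth1 Groth.Agent.Lib.Helper4.WellInt3 Groth.Agent.Lib.Helper4.WellInt4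

namespace Groth.Agent.Lib.Helper4.CurveEtale1

theorem S6554_main {X Y : Scheme.{u}} [IsIntegral X] [IsIntegral Y] (f : X ⟶ Y)
    [LocallyOfFinitePresentation f] (e : f (genericPoint X) = genericPoint Y) :
    letI := ((Y.presheaf.stalkSpecializes (specializes_of_eq e) ≫ f.stalkMap (genericPoint X)).hom).toAlgebra
    ((∃ U : X.Opens, (U : Set X).Nonempty ∧ FormallyUnramified (U.ι ≫ f)) ↔
      (∃ U : X.Opens, (U : Set X).Nonempty ∧ Etale (U.ι ≫ f))) ∧
    ((∃ U : X.Opens, (U : Set X).Nonempty ∧ Etale (U.ι ≫ f)) ↔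
      (FiniteDimensional Y.functionField X.functionField ∧ Algebra.IsSeparable Y.functionField X.functionField)) := by
  letI alg : Algebra ↑Y.functionField ↑X.functionField := ((Y.presheaf.stalkSpecializes (specializes_of_eq e) ≫ f.stalkMap (genericPoint X)).hom).toAlgebra
  have hgen : ∀ U : X.Opens, (U : Set X).Nonempty ↔ genericPoint X ∈ U := by
    intro U
    have h := (genericPoint_spec X).mem_open_set_iff U.isOpen
    rw [Set.univ_inter] at h
    exact h.symm
  have hA : (∃ U : X.Opens, (U : Set X).Nonempty ∧ FormallyUnramified (U.ι ≫ f)) ↔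
      (f.stalkMap (genericPoint X)).hom.FormallyUnramified := by
    rw [← Groth.Agent.Lib.Helper4.StalkEtale1.exists_formallyUnramified_nhd_iff f (genericPoint X)]
    simp only [hgen]
  have hB : (∃ U : X.Opens, (U : Set X).Nonempty ∧ Etale (U.ι ≫ f)) ↔
      ((f.stalkMap (genericPoint X)).hom.FormallySmooth ∧
        (f.stalkMap (genericPoint X)).hom.FormallyUnramified) := by
    rw [← Groth.Agent.Lib.Helper4.StalkEtale1.exists_etale_nhd_iff f (genericPoint X)]
    simp only [hgen]
  -- the iso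
  have hsiso : IsIso (Y.presheaf.stalkSpecializes (specializes_of_eq e)) := by
    have : Y.presheaf.stalkSpecializes (specializes_of_eq e) =
        (Y.presheaf.stalkCongr (Inseparable.of_eq e.symm)).hom := rfl
    rw [this]; infer_instance
  have hunr : Algebra.FormallyUnramified Y.functionField X.functionField ↔
      (f.stalkMap (genericPoint X)).hom.FormallyUnramified := by
    change (Y.presheaf.stalkSpecializes (specializes_of_eq e) ≫ f.stalkMap (genericPoint X)).hom.FormallyUnramified ↔ _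
    exact RingHom.FormallyUnramified.respectsIso.cancel_left_isIso _ _
  have hsm : Algebra.FormallySmooth Y.functionField X.functionField ↔
      (f.stalkMap (genericPoint X)).hom.FormallySmooth := by
    change (Y.presheaf.stalkSpecializes (specializes_of_eq e) ≫ f.stalkMap (genericPoint X)).hom.FormallySmooth ↔ _
    exact RingHom.FormallySmooth.respectsIso.cancel_left_isIso _ _
  have hess : Algebra.EssFiniteType Y.functionField X.functionField := by
    have h1 := LocallyOfFiniteType.stalkMap f (genericPoint X)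
    change (Y.presheaf.stalkSpecializes (specializes_of_eq e) ≫ f.stalkMap (genericPoint X)).hom.EssFiniteType
    exact (RingHom.EssFiniteType.respectsIso.cancel_left_isIso _ _).mpr h1
  have hC1 : (f.stalkMap (genericPoint X)).hom.FormallyUnramified →
      (FiniteDimensional Y.functionField X.functionField ∧ Algebra.IsSeparable Y.functionField X.functionField) := by
    intro h
    haveI := hunr.mpr h
    exact ⟨Algebra.FormallyUnramified.finite_of_free Y.functionField X.functionField,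
      Algebra.FormallyUnramified.isSeparable Y.functionField X.functionField⟩
  have hC2 : (FiniteDimensional Y.functionField X.functionField ∧ Algebra.IsSeparable Y.functionField X.functionField) →
      ((f.stalkMap (genericPoint X)).hom.FormallySmooth ∧
        (f.stalkMap (genericPoint X)).hom.FormallyUnramified) := by
    rintro ⟨h1, h2⟩
    haveI : Algebra.FormallyEtale Y.functionField X.functionField :=
      Algebra.FormallyEtale.of_isSeparable _ _
    exact ⟨hsm.mp inferInstance, hunr.mp inferInstance⟩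
  refine ⟨?_, ?_⟩
  · rw [hA, hB]
    exact ⟨fun h => hC2 (hC1 h), fun h => h.2⟩
  · rw [hB]
    exact ⟨fun h => hC1 h.2, hC2⟩

end Groth.Agent.Lib.Helper4.CurveEtale1
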