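import Mathlib
import Groth.Agent.Lib.Helper4.StalkEtale1
import Groth.Agent.Lib.Helper4.SmoothNormal1
import Groth.Agent.Lib.Helper4.BirationalNormal1
import Groth.Agent.Lib.Helper4.CurveValRings1
import Groth.Agent.Lib.Helper4.DedekindOpen1

/-!
# Pointwise criterion for a map of smooth curves to be etale (helper4)
-/

set_option backward.isDefEq.respectTransparency.types false
set_option synthInstance.maxHeartbeats 400000
set_option autoImplicit false
set_option linter.unusedSectionVars false
set_option linter.style.haveILetI false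
set_option linter.unusedSimpArgs false
universe u v w
open CategoryTheory CategoryTheory.Limits AlgebraicGeometry TopologicalSpace IsLocalRing Opposite

namespace Groth.Agent.Lib.Helper4.CurveEtale2

/-- a local homomorphism from a Dedekind domain to a domain which is not a field, mapping the
maximal ideal to a generating set of the maximal ideal, is injective -/
theorem injective_of_map_maximalIdeal {R S : Type*} [CommRing R] [IsDomain R] [IsLocalRing R]
    [Ring.DimensionLEOne R] [CommRing S] [IsDomain S] [IsLocalRing S] (ψ : R →+* S)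
    (hmap : (maximalIdeal R).map ψ = maximalIdeal S) (hS : maximalIdeal S ≠ ⊥) :
    Function.Injective ψ := by
  rw [RingHom.injective_iff_ker_eq_bot]
  by_contra hne
  have hprime : (RingHom.ker ψ).IsPrime := RingHom.ker_isPrime ψ
  have hmax : (RingHom.ker ψ).IsMaximal := Ring.DimensionLEOne.maximalOfPrime hne hprime
  have heq : RingHom.ker ψ = maximalIdeal R := IsLocalRing.eq_maximalIdeal hmax
  apply hS
  rw [← hmap, ← heq, Ideal.map_eq_bot_iff_le_ker]

theorem krullDim_le_zero_of_subsingleton (X : Type*) [TopologicalSpace X] [Subsingleton X] :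
    topologicalKrullDim X ≤ 0 := by
  haveI : Subsingleton (IrreducibleCloseds X) := by
    refine ⟨fun a b => ?_⟩
    apply IrreducibleCloseds.ext
    obtain ⟨x, hx⟩ := a.isIrreducible'.nonempty
    obtain ⟨y, hy⟩ := b.isIrreducible'.nonempty
    ext z
    constructor
    · intro _; rw [Subsingleton.elim z y]; exact hy
    · intro _; rw [Subsingleton.elim z x]; exact hx
  exact Order.krullDim_nonpos_of_subsingleton

theorem S19541_main (k : Type u) [Field k] [IsAlgClosed k] {X Y : Scheme.{u}}
    (pX : X ⟶ Spec (CommRingCat.of k)) (pY : Y ⟶ Spec (CommRingCat.of k)) (φ : X ⟶ Y) (w : φ ≫ pY = pX)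
    [IsIntegral X] [Smooth pX] (hdX : topologicalKrullDim X = 1)
    [IsIntegral Y] [Smooth pY] (hdY : topologicalKrullDim Y = 1)
    (x : X) (hx : IsClosed ({x} : Set X)) :
    (∃ U : X.Opens, x ∈ U ∧ Etale (U.ι ≫ φ)) ↔
      Ideal.map (φ.stalkMap x).hom (IsLocalRing.maximalIdeal (Y.presheaf.stalk (φ.base x))) =
        IsLocalRing.maximalIdeal (X.presheaf.stalk x) := by
  haveI : LocallyOfFiniteType (φ ≫ pY) := by rw [w]; infer_instance
  haveI : LocallyOfFiniteType φ := locallyOfFiniteType_of_comp φ pY
  haveI : IsLocallyNoetherian Y := LocallyOfFiniteType.isLocallyNoetherian pY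
  haveI : IsLocallyNoetherian X := LocallyOfFiniteType.isLocallyNoetherian pX
  rw [Groth.Agent.Lib.Helper4.StalkEtale1.S9566_main φ x]
  constructor
  · exact fun h => h.2.1
  · intro hmap
    -- the residue field extension is trivial
    have hbij : Function.Surjective (φ.residueFieldMap x).hom := by
      obtain ⟨ψy, hψy⟩ : ∃ ψy : CommRingCat.of k ⟶ Y.residueField (φ x),
          ψy = Spec.preimage (Y.fromSpecResidueField (φ x) ≫ pY) := ⟨_, rfl⟩
      have h1 : (residueFieldIsoBase pX x hx).inv = ψy ≫ φ.residueFieldMap x := by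
        apply Spec.map_injective
        rw [SpecMap_residueFieldIsoBase_inv, Spec.map_comp, hψy, Spec.map_preimage,
          Scheme.Hom.SpecMap_residueFieldMap_fromSpecResidueField_assoc, w]
      intro a
      obtain ⟨c, hc⟩ : ∃ c, (residueFieldIsoBase pX x hx).inv.hom c = a :=
        ⟨(residueFieldIsoBase pX x hx).hom.hom a, by
          rw [← CommRingCat.comp_apply, Iso.hom_inv_id]; rfl⟩
      refine ⟨ψy.hom c, ?_⟩
      rw [← hc, h1]; rfl
    -- the stalk of Y is a Dedekind domain
    have hN : IsIntegrallyClosed (Y.presheaf.stalk (φ x)) :=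
      Groth.Agent.Lib.Helper4.SmoothNormal1.isIntegrallyClosed_stalk_of_smooth k pY (φ x)
    have hdim : ringKrullDim (Y.presheaf.stalk (φ x)) ≤ 1 :=
      hdY ▸ Groth.Agent.Lib.Helper4.BirationalNormal1.ringKrullDim_stalk_le_topologicalKrullDim Y (φ x)
    haveI hD1 : Ring.DimensionLEOne (Y.presheaf.stalk (φ x)) := by
      have hK : Ring.KrullDimLE 1 (Y.presheaf.stalk (φ x)) := by
        rw [Ring.krullDimLE_iff]; exact hdim
      haveI : (⊥ : Ideal (Y.presheaf.stalk (φ x))).IsPrime := Ideal.isPrime_bot
      exact ⟨fun {p} hp hprime => (Ring.krullDimLE_one_iff_of_isPrime_bot.mp hK) p hp hprime⟩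
    haveI : IsDedekindDomain (Y.presheaf.stalk (φ x)) := { }
    -- the stalk of X at x is not a field
    have hS : maximalIdeal (X.presheaf.stalk x) ≠ ⊥ := by
      intro h0
      have hF : IsField (X.presheaf.stalk x) := IsLocalRing.isField_iff_maximalIdeal_eq.mpr h0
      have hgen := Groth.Agent.Lib.Helper4.CurveValRings1.eq_genericPoint_of_isField_stalk X x hF
      haveI : Subsingleton X := by
        refine ⟨fun a b => ?_⟩
        have huniv : (Set.univ : Set X) = {x} := by
          rw [← (genericPoint_spec X).def, ← hgen, hx.closure_eq]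
        have ha : a ∈ ({x} : Set X) := huniv ▸ Set.mem_univ a
        have hb : b ∈ ({x} : Set X) := huniv ▸ Set.mem_univ b
        rw [Set.mem_singleton_iff] at ha hb
        rw [ha, hb]
      have := krullDim_le_zero_of_subsingleton X
      rw [hdX] at this
      exact absurd this (by decide)
    have hinj : Function.Injective (φ.stalkMap x).hom :=
      injective_of_map_maximalIdeal _ hmap hS
    refine ⟨Groth.Agent.Lib.Helper4.DedekindOpen1.flat_of_injective_dedekind _ hinj, hmap, ?_, ?_⟩
    · letI := (φ.residueFieldMap x).hom.toAlgebra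
      exact Module.Finite.of_surjective (Algebra.linearMap _ _) hbij
    · letI := (φ.residueFieldMap x).hom.toAlgebra
      exact ⟨fun a => by obtain ⟨c, rfl⟩ := hbij a; exact isSeparable_algebraMap c⟩

end Groth.Agent.Lib.Helper4.CurveEtale2
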