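import Mathlib
import Groth.Agent.Lib.Helper4.CurveEtale1

/-!
# Generically etale iff generically unramified iff separable function field extension (helper4)
-/

set_option backward.isDefEq.respectTransparency.types false
set_option synthInstance.maxHeartbeats 400000
set_option autoImplicit false
set_option linter.unusedSectionVars false
set_option linter.style.haveILetI false
set_option linter.unusedSimpArgs false
universe u v w
open CategoryTheory CategoryTheory.Limits AlgebraicGeometry TopologicalSpace IsLocalRing Opposite

namespace Groth.Agent.Lib.Helper4.CurveEtale3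

theorem S7863_main {X Y : Scheme.{u}} [IsIntegral X] [IsIntegral Y] (f : X ⟶ Y)
    [LocallyOfFinitePresentation f] (e : f (genericPoint X) = genericPoint Y) :
    letI := ((Y.presheaf.stalkSpecializes (specializes_of_eq e) ≫ f.stalkMap (genericPoint X)).hom).toAlgebra
    ((∃ U : X.Opens, (U : Set X).Nonempty ∧ FormallyUnramified (U.ι ≫ f)) ↔
      (∃ U : X.Opens, (U : Set X).Nonempty ∧ Etale (U.ι ≫ f))) ∧
    ((∃ U : X.Opens, (U : Set X).Nonempty ∧ Etale (U.ι ≫ f)) ↔
      Algebra.IsSeparable Y.functionField X.functionField) := by
  letI alg : Algebra ↑Y.functionField ↑X.functionField := ((Y.presheaf.stalkSpecializes (specializes_of_eq e) ≫ f.stalkMap (genericPoint X)).hom).toAlgebra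
  obtain ⟨h1, h2⟩ := Groth.Agent.Lib.Helper4.CurveEtale1.S6554_main f e
  refine ⟨h1, h2.trans ⟨fun h => h.2, fun h => ⟨?_, h⟩⟩⟩
  have hsiso : IsIso (Y.presheaf.stalkSpecializes (specializes_of_eq e)) := by
    have : Y.presheaf.stalkSpecializes (specializes_of_eq e) =
        (Y.presheaf.stalkCongr (Inseparable.of_eq e.symm)).hom := rfl
    rw [this]; infer_instance
  have hess : Algebra.EssFiniteType Y.functionField X.functionField := by
    have h1 := LocallyOfFiniteType.stalkMap f (genericPoint X)
    change (Y.presheaf.stalkSpecializes (specializes_of_eq e) ≫ f.stalkMap (genericPoint X)).hom.EssFiniteType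
    exact (RingHom.EssFiniteType.respectsIso.cancel_left_isIso _ _).mpr h1
  haveI := h
  haveI : Algebra.IsAlgebraic Y.functionField X.functionField := inferInstance
  exact Algebra.finite_of_essFiniteType_of_isAlgebraic

end Groth.Agent.Lib.Helper4.CurveEtale3
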