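import Mathlib
import Groth.Prelude
import Groth.Agent.Lib.Helper4.UnivBC2
import Groth.Agent.Lib.Helper4.TorsFC2

/-!
# functions on base changes of a proper curve with a rational point (helper4)
-/

set_option backward.isDefEq.respectTransparency.types false
set_option synthInstance.maxHeartbeats 400000
set_option autoImplicit false
set_option linter.unusedSectionVars false
set_option linter.style.haveILetI false
set_option linter.unusedSimpArgs false
universe u v w
open CategoryTheory CategoryTheory.Limits AlgebraicGeometry Opposite TopologicalSpace Groth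

namespace Groth.Agent.Lib.Helper4.CurvePtBC1

/-- over a field, a proper integral scheme with a rational point has `h⁰(O) = 1` on the
(unique) fibre. -/
theorem finrank_fibre_eq_one (k : Type u) [Field k] (X : Scheme.{u})
    (f : X ⟶ Spec (CommRingCat.of k)) [IsProper f] [IsIntegral X]
    (σ : Spec (CommRingCat.of k) ⟶ X) (hσ : σ ≫ f = 𝟙 (Spec (CommRingCat.of k)))
    (y : Spec (CommRingCat.of k)) :
    Module.finrank ((Spec (CommRingCat.of k)).residueField y) Γ(f.fiber y, ⊤) = 1 := by
  rw [Algebra.finrank_eq_one_iff_bijective_algebraMap]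
  haveI hj : IsIso ((Spec (CommRingCat.of k)).fromSpecResidueField y) :=
    Groth.Agent.Lib.Helper4.TorsFC2.isIso_fromSpecResidueField_field k y
  haveI hι : IsIso (f.fiberι y) := by
    change IsIso (pullback.fst f ((Spec (CommRingCat.of k)).fromSpecResidueField y))
    infer_instance
  haveI : Nonempty (f.fiber y) := by
    obtain ⟨x⟩ : Nonempty X := inferInstance
    exact ⟨(inv (f.fiberι y)) x⟩
  haveI : IsIntegral (f.fiber y) := isIntegral_of_isOpenImmersion (f.fiberι y)
  haveI : UniversallyClosed (f.fiberToSpecResidueField y) := by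
    change UniversallyClosed (pullback.snd f ((Spec (CommRingCat.of k)).fromSpecResidueField y))
    infer_instance
  have hfield : IsField Γ(f.fiber y, ⊤) :=
    isField_of_universallyClosed ((Spec (CommRingCat.of k)).residueField y)
      (f.fiberToSpecResidueField y)
  haveI : Nontrivial Γ(f.fiber y, ⊤) := hfield.nontrivial
  -- the section of the fibre
  let σ' : Spec ((Spec (CommRingCat.of k)).residueField y) ⟶ f.fiber y :=
    pullback.lift ((Spec (CommRingCat.of k)).fromSpecResidueField y ≫ σ) (𝟙 _)
      (by rw [Category.assoc, hσ, Category.comp_id, Category.id_comp])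
  have hσ' : σ' ≫ f.fiberToSpecResidueField y = 𝟙 _ := pullback.lift_snd _ _ _
  let φ : Γ(f.fiber y, ⊤) →+* (Spec (CommRingCat.of k)).residueField y :=
    (Scheme.ΓSpecIso ((Spec (CommRingCat.of k)).residueField y)).hom.hom.comp σ'.appTop.hom
  have hφa : ∀ c, φ (algebraMap ((Spec (CommRingCat.of k)).residueField y) Γ(f.fiber y, ⊤) c)
      = c := by
    intro c
    have h1 : (f.fiberToSpecResidueField y).appTop ≫ σ'.appTop = 𝟙 _ := by
      rw [← Scheme.Hom.comp_appTop, hσ']; rfl
    change (Scheme.ΓSpecIso _).hom.hom (σ'.appTop.hom ((f.fiberToSpecResidueField y).appTop.hom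
      ((Scheme.ΓSpecIso _).inv.hom c))) = c
    have h2 := congrArg (fun ψ => ψ.hom ((Scheme.ΓSpecIso _).inv.hom c)) h1
    simp only [CommRingCat.hom_comp, RingHom.comp_apply, CommRingCat.hom_id, RingHom.id_apply] at h2
    rw [h2]
    exact congrArg (fun ψ => ψ.hom c) (Scheme.ΓSpecIso _).inv_hom_id
  have hφinj : Function.Injective φ := by
    rw [injective_iff_map_eq_zero]
    intro x hx
    by_contra hne
    obtain ⟨z, hz⟩ := hfield.mul_inv_cancel hne
    have h1 : φ (x * z) = 1 := by rw [hz, map_one]
    rw [map_mul, hx, zero_mul] at h1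
    exact zero_ne_one h1
  refine ⟨Function.LeftInverse.injective (g := φ) hφa, fun x => ⟨φ x, hφinj (hφa _)⟩⟩

theorem main (k : Type u) [Field k] (X : Scheme.{u}) (f : X ⟶ Spec (CommRingCat.of k))
    (hX : Curve.IsSmoothProperCurve k X f) (σ : Spec (CommRingCat.of k) ⟶ X)
    (hσ : σ ≫ f = 𝟙 (Spec (CommRingCat.of k))) (T : Scheme.{u})
    (t : T ⟶ Spec (CommRingCat.of k)) : IsIso (pullback.snd f t).c := by
  obtain ⟨hprop, hsm, hint, -⟩ := hX
  haveI := hprop
  haveI := hsm
  haveI := hint
  haveI : Flat f := inferInstance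
  have hall := (Groth.Agent.Lib.Helper4.UnivBC2.main f).1
    (finrank_fibre_eq_one k X f σ hσ) T t
  haveI : ∀ U : (Opens T)ᵒᵖ, IsIso ((pullback.snd f t).c.app U) := fun U => hall U.unop
  exact NatIso.isIso_of_isIso_app _

end Groth.Agent.Lib.Helper4.CurvePtBC1
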