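import Mathlib
import Groth.Agent.Lib.Helper8.RegularLocal
import Groth.Agent.Lib.Helper4.FixedIdeal1

/-!
# A cluster on a smooth curve germ of a regular surface is curvilinear (helper4)
-/

set_option backward.isDefEq.respectTransparency.types false
set_option synthInstance.maxHeartbeats 400000
set_option autoImplicit false
set_option linter.unusedSectionVars false
set_option linter.style.haveILetI false
set_option linter.unusedSimpArgs false
universe u v w

namespace Groth.Agent.Lib.Helper4.Curvilinear1
open IsLocalRing Polynomial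

/-- one-generator algebra: if every element is `const + τ * _` and `τ` is nilpotent, then `aeval τ`
is surjective. -/
theorem aeval_surjective {k : Type u} [Field k] {B : Type u} [CommRing B] [Algebra k B] (τ : B)
    (hdec : ∀ b : B, ∃ (c : k) (b' : B), b = algebraMap k B c + τ * b')
    (r : ℕ) (hr : τ ^ r = 0) : Function.Surjective (Polynomial.aeval (R := k) τ) := by
  have key : ∀ j : ℕ, ∀ b : B, ∃ (p : k[X]) (b' : B), b = Polynomial.aeval τ p + τ ^ j * b' := by
    intro j
    induction j with
    | zero => intro b; exact ⟨0, b, by simp⟩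
    | succ j ih =>
      intro b
      obtain ⟨p, b', hb⟩ := ih b
      obtain ⟨c, b'', hb'⟩ := hdec b'
      refine ⟨p + C c * X ^ j, b'', ?_⟩
      rw [hb, hb']
      simp only [map_add, map_mul, aeval_C, map_pow, aeval_X]
      ring
  intro b
  obtain ⟨p, b', hb⟩ := key r b
  exact ⟨p, by rw [hb, hr]; simp⟩

/-- a quotient of `k[X]` in which `X` is nilpotent, of dimension `n`, is `k[X]/(X^n)` -/
theorem ker_eq {k : Type u} [Field k] {B : Type u} [CommRing B] [Algebra k B] (τ : B)
    (hsurj : Function.Surjective (Polynomial.aeval (R := k) τ))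
    (r : ℕ) (hr : τ ^ r = 0) (n : ℕ) (hn : Module.finrank k B = n) :
    RingHom.ker (Polynomial.aeval (R := k) τ) = Ideal.span {(X : k[X]) ^ n} := by
  set φ := Polynomial.aeval (R := k) τ with hφ
  obtain ⟨p₀, hp₀⟩ : ∃ p₀, RingHom.ker φ = Ideal.span {p₀} :=
    ⟨_, (Ideal.span_singleton_generator (RingHom.ker φ)).symm⟩
  have hX : (X : k[X]) ^ r ∈ RingHom.ker φ := by
    rw [RingHom.mem_ker, hφ, map_pow, aeval_X, hr]
  rw [hp₀, Ideal.mem_span_singleton] at hX
  obtain ⟨j, hj, hass⟩ := (dvd_prime_pow Polynomial.prime_X r).mp hX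
  have hker : RingHom.ker φ = Ideal.span {(X : k[X]) ^ j} := by
    rw [hp₀]; exact Ideal.span_singleton_eq_span_singleton.mpr hass
  have e := Ideal.quotientKerAlgEquivOfSurjective hsurj
  have h1 : Module.finrank k (k[X] ⧸ RingHom.ker φ) = n := by
    rw [← hn]; exact e.toLinearEquiv.finrank_eq
  rw [hker, finrank_quotient_span_eq_natDegree, natDegree_X_pow] at h1
  rw [hker, h1]


/-- a regular local ring of dimension 2: an element of `𝔪 ∖ 𝔪²` is part of a two-element
generating set of `𝔪`. -/
theorem exists_param (A : Type u) [CommRing A] [IsRegularLocalRing A] (hdim : ringKrullDim A = 2)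
    (g : A) (hgm : g ∈ maximalIdeal A) (hg : g ∉ maximalIdeal A ^ 2) :
    ∃ t ∈ maximalIdeal A, maximalIdeal A = Ideal.span {g, t} := by
  have hfr : Module.finrank (ResidueField A) (CotangentSpace A) = 2 := by
    have h := (IsRegularLocalRing.iff_finrank_cotangentSpace (R := A)).mp inferInstance
    rw [hdim] at h
    exact_mod_cast h
  let x : Fin 1 → maximalIdeal A := fun _ => ⟨g, hgm⟩
  have hli : LinearIndependent (ResidueField A) (fun i => (maximalIdeal A).toCotangent (x i)) := by
    rw [linearIndependent_unique_iff]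
    intro h0
    rw [Ideal.toCotangent_eq_zero] at h0
    exact hg h0
  obtain ⟨y, hy⟩ := Groth.Agent.Helper8.RLR.exists_extension x hli
  have key : ∀ (m : ℕ) (hm : m = 1) (y : Fin m → maximalIdeal A),
      Ideal.span (Set.range (fun i => (x i : A)) ∪ Set.range (fun j => (y j : A))) =
        maximalIdeal A → ∃ t ∈ maximalIdeal A, maximalIdeal A = Ideal.span {g, t} := by
    intro m hm
    subst hm
    intro y hy
    refine ⟨(y 0 : A), (y 0).2, ?_⟩
    refine hy.symm.trans ?_
    rw [Set.range_unique, Set.range_unique, Set.singleton_union]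
    rfl
  exact key _ (by rw [hfr]; simp) y hy


theorem main (k : Type u) [Field k]
    (A : Type u) [CommRing A] [Algebra k A] [IsRegularLocalRing A] (hdim : ringKrullDim A = 2)
    (hres : Function.Surjective (algebraMap k (IsLocalRing.ResidueField A)))
    (I : Ideal A) [Module.Finite k (A ⧸ I)] (n : ℕ) (hn : Module.finrank k (A ⧸ I) = n) (h1 : 1 ≤ n)
    (g : A) (hgI : g ∈ I) (hg : g ∉ IsLocalRing.maximalIdeal A ^ 2) :
    Nonempty ((A ⧸ I) ≃ₐ[k] (Polynomial k ⧸ Ideal.span {(Polynomial.X : Polynomial k) ^ n})) := by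
  have hI : I ≠ ⊤ := by
    rintro rfl
    have : Subsingleton (A ⧸ (⊤ : Ideal A)) := Ideal.Quotient.subsingleton_iff.mpr rfl
    rw [Module.finrank_zero_of_subsingleton] at hn
    omega
  have hIm : I ≤ maximalIdeal A := le_maximalIdeal hI
  obtain ⟨t, htm, hspan⟩ := exists_param A hdim g (hIm hgI) hg
  set B := A ⧸ I
  set τ : B := Ideal.Quotient.mk I t with hτ
  have hdec : ∀ b : B, ∃ (c : k) (b' : B), b = algebraMap k B c + τ * b' := by
    intro b
    obtain ⟨a, rfl⟩ := Ideal.Quotient.mk_surjective b
    obtain ⟨c, hc⟩ := Groth.Agent.Lib.Helper4.FixedIdeal1.exists_const hres a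
    rw [hspan, Ideal.mem_span_pair] at hc
    obtain ⟨r, s, hrs⟩ := hc
    refine ⟨c, Ideal.Quotient.mk I s, ?_⟩
    have h2 : a = algebraMap k A c + (r * g + s * t) := by rw [hrs]; ring
    have h3 : Ideal.Quotient.mk I g = 0 := Ideal.Quotient.eq_zero_iff_mem.mpr hgI
    conv_lhs => rw [h2]
    rw [map_add, map_add, map_mul, map_mul, h3, mul_zero, zero_add, mul_comm]
    rfl
  haveI : Nontrivial B := Ideal.Quotient.nontrivial_iff.mpr hI
  haveI : IsLocalRing B := IsLocalRing.of_surjective' (Ideal.Quotient.mk I) Ideal.Quotient.mk_surjective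
  haveI : IsArtinianRing B := IsArtinianRing.of_finite k B
  have hnil := IsArtinianRing.isNilpotent_jacobson_bot (R := B)
  rw [IsLocalRing.jacobson_eq_maximalIdeal ⊥ bot_ne_top] at hnil
  obtain ⟨r, hr⟩ := hnil
  have hτm : τ ∈ maximalIdeal B := by
    rw [mem_maximalIdeal, mem_nonunits_iff]
    intro hu
    obtain ⟨b, hb⟩ := isUnit_iff_exists_inv.mp hu
    obtain ⟨s, rfl⟩ := Ideal.Quotient.mk_surjective b
    rw [hτ, ← map_mul, ← map_one (Ideal.Quotient.mk I), Ideal.Quotient.eq] at hb
    have h1m : t * s - 1 ∈ maximalIdeal A := hIm hb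
    have h2m : t * s ∈ maximalIdeal A := Ideal.mul_mem_right _ _ htm
    have : (1 : A) ∈ maximalIdeal A := by
      have := sub_mem h2m h1m
      simpa using this
    exact (Ideal.ne_top_iff_one _).mp (maximalIdeal.isMaximal A).ne_top this
  have hτr : τ ^ r = 0 := by
    have := Ideal.pow_mem_pow hτm r
    rw [hr] at this
    simpa using this
  have hsurj := aeval_surjective (k := k) τ hdec r hτr
  have hker := ker_eq (k := k) τ hsurj r hτr n hn
  exact ⟨(Ideal.quotientKerAlgEquivOfSurjective hsurj).symm.trans (Ideal.quotientEquivAlgOfEq k hker)⟩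

end Groth.Agent.Lib.Helper4.Curvilinear1
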