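import Mathlib
import Groth.Agent.Lib.Helper9.EtReg.Basic

/-!
# Kummer extension of a regular ring along a regular divisor is regular (helper4)
-/

set_option backward.isDefEq.respectTransparency.types false
set_option synthInstance.maxHeartbeats 400000
set_option autoImplicit false
set_option linter.unusedSectionVars false
set_option linter.style.haveILetI false
set_option linter.unusedSimpArgs false
universe u v w
open Polynomial

namespace Groth.Agent.Lib.Helper4.CycReg1
noncomputable section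

variable {R : Type u} [CommRing R]

/-- the Kummer polynomial -/
abbrev kp (n : ℕ) (c : R) : R[X] := X ^ n - C c

theorem kp_monic {n : ℕ} (hn : 0 < n) (c : R) : (kp n c).Monic := monic_X_pow_sub_C c hn.ne'

theorem root_pow (n : ℕ) (c : R) :
    (AdjoinRoot.root (kp n c)) ^ n = AdjoinRoot.of (kp n c) c := by
  have h := AdjoinRoot.eval₂_root (kp n c)
  rw [kp, eval₂_sub, eval₂_pow, eval₂_X, eval₂_C, sub_eq_zero] at h
  exact h

theorem free_kp {n : ℕ} (hn : 0 < n) (c : R) : Module.Free R (AdjoinRoot (kp n c)) :=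
  (kp_monic hn c).free_adjoinRoot

theorem finite_kp {n : ℕ} (hn : 0 < n) (c : R) : Module.Finite R (AdjoinRoot (kp n c)) :=
  (kp_monic hn c).finite_adjoinRoot

theorem of_mem_nonZeroDivisors {n : ℕ} (hn : 0 < n) (c : R) {r : R} (hr : r ∈ nonZeroDivisors R) :
    AdjoinRoot.of (kp n c) r ∈ nonZeroDivisors (AdjoinRoot (kp n c)) := by
  haveI := free_kp hn c
  have h : IsSMulRegular (AdjoinRoot (kp n c)) r := Module.Flat.isSMulRegular_of_nonZeroDivisors hr
  rw [mem_nonZeroDivisors_iff_right]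
  intro x hx
  apply h
  show r • x = r • 0
  rw [smul_zero, Algebra.smul_def, AdjoinRoot.algebraMap_eq, mul_comm]
  exact hx

theorem root_mem_nonZeroDivisors {n : ℕ} (hn : 0 < n) (c : R) (hc : c ∈ nonZeroDivisors R) :
    AdjoinRoot.root (kp n c) ∈ nonZeroDivisors (AdjoinRoot (kp n c)) := by
  have h := of_mem_nonZeroDivisors hn c hc
  rw [← root_pow] at h
  rw [mem_nonZeroDivisors_iff_right] at h ⊢
  intro y hy
  apply h
  obtain ⟨m, rfl⟩ : ∃ m, n = m + 1 := ⟨n - 1, by omega⟩
  rw [pow_succ', ← mul_assoc, hy, zero_mul]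


/-- `S/(root) → R/(c)` -/
def quotRootFwd {n : ℕ} (hn : 0 < n) (c : R) :
    (AdjoinRoot (kp n c) ⧸ Ideal.span {AdjoinRoot.root (kp n c)}) →+* (R ⧸ Ideal.span {c}) :=
  Ideal.Quotient.lift _ (AdjoinRoot.lift (Ideal.Quotient.mk (Ideal.span {c})) 0 (by
    rw [kp, eval₂_sub, eval₂_pow, eval₂_X, eval₂_C, zero_pow hn.ne', zero_sub, neg_eq_zero]
    exact Ideal.Quotient.eq_zero_iff_mem.2 (Ideal.mem_span_singleton_self c))) (by
    intro a ha
    obtain ⟨b, rfl⟩ := Ideal.mem_span_singleton'.1 ha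
    rw [map_mul, AdjoinRoot.lift_root, mul_zero])

/-- `R/(c) → S/(root)` -/
def quotRootBwd {n : ℕ} (hn : 0 < n) (c : R) :
    (R ⧸ Ideal.span {c}) →+* (AdjoinRoot (kp n c) ⧸ Ideal.span {AdjoinRoot.root (kp n c)}) :=
  Ideal.Quotient.lift _ ((Ideal.Quotient.mk _).comp (AdjoinRoot.of (kp n c))) (by
    intro a ha
    obtain ⟨b, rfl⟩ := Ideal.mem_span_singleton'.1 ha
    rw [RingHom.comp_apply, map_mul, ← root_pow, map_mul]
    have : (Ideal.Quotient.mk (Ideal.span {AdjoinRoot.root (kp n c)}))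
        (AdjoinRoot.root (kp n c) ^ n) = 0 := by
      rw [Ideal.Quotient.eq_zero_iff_mem]
      exact Ideal.pow_mem_of_mem _ (Ideal.mem_span_singleton_self _) n hn
    rw [this, mul_zero])

/-- `S/(root) ≃ R/(c)` -/
def quotRootEquiv {n : ℕ} (hn : 0 < n) (c : R) :
    (AdjoinRoot (kp n c) ⧸ Ideal.span {AdjoinRoot.root (kp n c)}) ≃+* (R ⧸ Ideal.span {c}) :=
  RingEquiv.ofRingHom (quotRootFwd hn c) (quotRootBwd hn c) (by
    apply Ideal.Quotient.ringHom_ext
    ext r
    simp [quotRootFwd, quotRootBwd]) (by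
    apply Ideal.Quotient.ringHom_ext
    apply AdjoinRoot.ringHom_ext
    · ext r
      simp [quotRootFwd, quotRootBwd]
    · simp only [quotRootFwd, quotRootBwd, RingHom.comp_apply, Ideal.Quotient.lift_mk,
        AdjoinRoot.lift_root, map_zero, RingHom.id_apply]
      exact (Ideal.Quotient.eq_zero_iff_mem.2 (Ideal.mem_span_singleton_self _)).symm)


/-- the standard étale pair `(X^n - c, c)` -/
def kpair {n : ℕ} (hn : 0 < n) (hnu : IsUnit ((n : ℕ) : R)) (c : R) : StandardEtalePair R where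
  f := kp n c
  monic_f := kp_monic hn c
  g := C c
  cond := by
    refine ⟨C (↑hnu.unit⁻¹ : R) * X, -1, 1, ?_⟩
    obtain ⟨m, rfl⟩ : ∃ m, n = m + 1 := ⟨n - 1, by omega⟩
    have h1 : (C ((m + 1 : ℕ) : R) : R[X]) * C (↑hnu.unit⁻¹ : R) = 1 := by
      rw [← C_mul, ← C_1]
      congr 1
      exact hnu.mul_val_inv
    rw [kp, derivative_sub, derivative_C, sub_zero, derivative_X_pow, pow_one]
    have : (C ((m + 1 : ℕ) : R) : R[X]) * X ^ (m + 1 - 1) * (C (↑hnu.unit⁻¹ : R) * X) =
        (C ((m + 1 : ℕ) : R) * C (↑hnu.unit⁻¹ : R)) * X ^ (m + 1) := by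
      rw [Nat.add_sub_cancel]; ring
    rw [this, h1]
    ring

theorem formallyUnramified_away {n : ℕ} (hn : 0 < n) (hnu : IsUnit ((n : ℕ) : R)) (c : R) :
    Algebra.FormallyUnramified R
      (Localization.Away (AdjoinRoot.of (kp n c) c)) := by
  have e := (kpair hn hnu c).equivAwayAdjoinRoot
  have h : AdjoinRoot.mk (kpair hn hnu c).f (kpair hn hnu c).g = AdjoinRoot.of (kp n c) c :=
    AdjoinRoot.mk_C c
  rw [h] at e
  exact Algebra.FormallyUnramified.of_equiv e


/-- KEY: Kummer extension of a regular ring along `c` with `R/(c)` regular is regular. -/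
theorem isRegularRing_kp [IsRegularRing R] {n : ℕ} (hn : 0 < n) (hnu : IsUnit ((n : ℕ) : R))
    (c : R) (hc : c ∈ nonZeroDivisors R) (hreg : IsRegularRing (R ⧸ Ideal.span {c})) :
    IsRegularRing (AdjoinRoot (kp n c)) := by
  haveI := free_kp hn c
  haveI := finite_kp hn c
  rw [isRegularRing_iff]
  intro Q hQ
  by_cases hx : AdjoinRoot.root (kp n c) ∈ Q
  · exact Groth.Agent.Helper9.EtReg.regular_atPrime_of_quotient _ Q _ hx
      (root_mem_nonZeroDivisors hn c hc) (IsRegularRing.of_ringEquiv (quotRootEquiv hn c).symm)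
  · have hcQ : AdjoinRoot.of (kp n c) c ∉ Q := by
      rw [← root_pow]
      exact fun h => hx (hQ.mem_of_pow_mem _ h)
    have hun := formallyUnramified_away hn hnu c
    have hsub := Algebra.basicOpen_subset_unramifiedLocus_iff.2 hun
    have hmem : (⟨Q, hQ⟩ : PrimeSpectrum (AdjoinRoot (kp n c))) ∈
        (PrimeSpectrum.basicOpen (AdjoinRoot.of (kp n c) c) : Set _) := hcQ
    exact Groth.Agent.Helper9.EtReg.regular_atPrime_of_unramified R _ Q (hsub hmem)

end
end Groth.Agent.Lib.Helper4.CycReg1
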