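import Mathlib
import Groth.Agent.Lib.Helper4.CycReg1

/-!
# Cyclic covers: explicit presentation of the normalization as a tower of Kummer extensions (helper4)
-/

set_option backward.isDefEq.respectTransparency.types false
set_option synthInstance.maxHeartbeats 400000
set_option autoImplicit false
set_option linter.unusedSectionVars false
set_option linter.style.haveILetI false
set_option linter.unusedSimpArgs false
universe u v w
open Polynomial
open Groth.Agent.Lib.Helper4.CycReg1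

namespace Groth.Agent.Lib.Helper4.CycCov1
noncomputable section

/-! ### number theory -/

theorem exists_ab (N α : ℕ) (hN : 0 < N) : ∃ g N' α' a : ℕ, ∃ b : ℤ,
    N = g * N' ∧ α = g * α' ∧ 0 < g ∧ 0 < N' ∧ a < N' ∧ (a : ℤ) * α' - b * N' = 1 := by
  have hg : 0 < Nat.gcd N α := Nat.gcd_pos_of_pos_left _ hN
  have hN' : N = Nat.gcd N α * (N / Nat.gcd N α) :=
    (Nat.mul_div_cancel' (Nat.gcd_dvd_left N α)).symm
  have hα' : α = Nat.gcd N α * (α / Nat.gcd N α) :=
    (Nat.mul_div_cancel' (Nat.gcd_dvd_right N α)).symm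
  have hcop0 : Nat.Coprime (N / Nat.gcd N α) (α / Nat.gcd N α) :=
    Nat.coprime_div_gcd_div_gcd hg
  generalize N / Nat.gcd N α = N' at hN' hcop0
  generalize α / Nat.gcd N α = α' at hα' hcop0
  have hN'pos : 0 < N' := by
    rcases Nat.eq_zero_or_pos N' with h | h
    · rw [h, mul_zero] at hN'; omega
    · exact h
  have hcop : Nat.gcd α' N' = 1 := by
    rw [Nat.gcd_comm]; exact hcop0
  have hbez := Nat.gcd_eq_gcd_ab α' N'
  rw [hcop] at hbez
  set a₀ := Nat.gcdA α' N' with ha₀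
  set b₀ := Nat.gcdB α' N' with hb₀
  have hN'z : (0 : ℤ) < (N' : ℤ) := by exact_mod_cast hN'pos
  have hnn : 0 ≤ a₀ % (N' : ℤ) := Int.emod_nonneg _ hN'z.ne'
  have hlt : a₀ % (N' : ℤ) < N' := Int.emod_lt_of_pos _ hN'z
  refine ⟨Nat.gcd N α, N', α', (a₀ % (N' : ℤ)).toNat, - b₀ - (a₀ / (N' : ℤ)) * α',
    hN', hα', hg, hN'pos, ?_, ?_⟩
  · have : ((a₀ % (N' : ℤ)).toNat : ℤ) < N' := by rw [Int.toNat_of_nonneg hnn]; exact hlt
    exact_mod_cast this
  · rw [Int.toNat_of_nonneg hnn, Int.emod_def]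
    push_cast at hbez
    linear_combination - hbez

/-! ### identities in a commutative group -/

theorem add_ids {G : Type*} [AddCommGroup G] (T F U : G) (g N' α' a b : ℤ)
    (hab : a * α' - b * N' = 1) (hrel : (g * N') • T = U + (g * α') • F) :
    g • (N' • T - α' • F) = U ∧
    N' • (a • T - b • F) = a • (N' • T - α' • F) + F ∧
    ∀ i q r : ℤ, i * α' = q * N' + r →
      i • T - q • F = r • (a • T - b • F) + (a * q - i * b) • (N' • T - α' • F) := by
  refine ⟨?_, ?_, ?_⟩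
  · have key : g • (N' • T - α' • F) = (g * N') • T - (g * α') • F := by module
    rw [key, hrel]
    abel
  · have key : N' • (a • T - b • F) = a • (N' • T - α' • F) + (a * α' - b * N') • F := by module
    rw [hab, one_zsmul] at key
    exact key
  · intro i q r h
    have hr : r = i * α' - q * N' := by linarith
    subst hr
    have key : (i * (a * α' - b * N')) • T - (q * (a * α' - b * N')) • F =
        (i * α' - q * N') • (a • T - b • F) + (a * q - i * b) • (N' • T - α' • F) := by module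
    rw [hab, mul_one, mul_one] at key
    exact key

theorem mul_ids {G : Type*} [CommGroup G] (T F U : G) (g N' α' a b : ℤ)
    (hab : a * α' - b * N' = 1) (hrel : T ^ (g * N') = U * F ^ (g * α')) :
    (T ^ N' / F ^ α') ^ g = U ∧
    (T ^ a / F ^ b) ^ N' = (T ^ N' / F ^ α') ^ a * F ∧
    ∀ i q r : ℤ, i * α' = q * N' + r →
      T ^ i / F ^ q = (T ^ a / F ^ b) ^ r * (T ^ N' / F ^ α') ^ (a * q - i * b) :=
  add_ids (G := Additive G) (Additive.ofMul T) (Additive.ofMul F) (Additive.ofMul U)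
    g N' α' a b hab hrel

theorem add_ids' {G : Type*} [AddCommGroup G] (W S F U : G) (g N' α' a b : ℤ)
    (hab : a * α' - b * N' = 1) (hW : N' • W = a • S + F) (hS : g • S = U) :
    (g * N') • (α' • W - b • S) = U + (g * α') • F ∧
    N' • (α' • W - b • S) - α' • F = S ∧
    a • (α' • W - b • S) - b • F = W := by
  refine ⟨?_, ?_, ?_⟩
  · have key : (g * N') • (α' • W - b • S) =
        (g * α') • (N' • W) - (g * b * N') • S := by module
    rw [key, hW, ← hS]
    have k2 : (g * α') • (a • S + F) - (g * b * N') • S =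
        (g * (a * α' - b * N')) • S + (g * α') • F := by module
    rw [k2, hab, mul_one]
  · have key : N' • (α' • W - b • S) - α' • F = α' • (N' • W) - (b * N') • S - α' • F := by
      module
    rw [key, hW]
    have k2 : α' • (a • S + F) - (b * N') • S - α' • F = (a * α' - b * N') • S := by module
    rw [k2, hab, one_zsmul]
  · have key : a • (α' • W - b • S) - b • F =
        (a * α' - b * N') • W + b • (N' • W) - (a * b) • S - b • F := by module
    rw [key, hW, hab, one_zsmul]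
    module

theorem mul_ids' {G : Type*} [CommGroup G] (W S F U : G) (g N' α' a b : ℤ)
    (hab : a * α' - b * N' = 1) (hW : W ^ N' = S ^ a * F) (hS : S ^ g = U) :
    (W ^ α' / S ^ b) ^ (g * N') = U * F ^ (g * α') ∧
    (W ^ α' / S ^ b) ^ N' / F ^ α' = S ∧
    (W ^ α' / S ^ b) ^ a / F ^ b = W :=
  add_ids' (G := Additive G) (Additive.ofMul W) (Additive.ofMul S) (Additive.ofMul F)
    (Additive.ofMul U) g N' α' a b hab hW hS


/-! ### the tower `B ⊆ B₁ = B[τ]/(τ^g - u) ⊆ C = B₁[w]/(w^{N'} - τ^a f₁)` -/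

section tower

variable {B : Type u} [CommRing B] (u : Bˣ) (f₁ : B) (g N' a : ℕ)

/-- `B₁ = B[τ]/(τ^g - u)` -/
abbrev B1 : Type u := AdjoinRoot (kp g (u : B))

/-- `τ₁` -/
abbrev tau1 : B1 u g := AdjoinRoot.root (kp g (u : B))

/-- `τ₁^a f₁` -/
abbrev c2 : B1 u g := tau1 u g ^ a * AdjoinRoot.of (kp g (u : B)) f₁

/-- `C = B₁[w]/(w^{N'} - τ^a f₁)` -/
abbrev CC : Type u := AdjoinRoot (kp N' (c2 u f₁ g a))

/-- `w₁` -/
abbrev w1 : CC u f₁ g N' a := AdjoinRoot.root (kp N' (c2 u f₁ g a))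

variable {g} in
theorem isUnit_tau1 (hg : 0 < g) : IsUnit (tau1 u g) := by
  refine (isUnit_pow_iff hg.ne').1 ?_
  rw [root_pow]
  exact u.isUnit.map _

theorem isRegularRing_of_subsingleton (R : Type u) [CommRing R] [Subsingleton R] :
    IsRegularRing R := by
  rw [isRegularRing_iff]
  intro P hP
  exact absurd (Subsingleton.elim _ _) hP.ne_top

variable {g} in
theorem isRegularRing_B1 [IsRegularRing B] (hg : 0 < g) (hgu : IsUnit ((g : ℕ) : B)) :
    IsRegularRing (B1 u g) := by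
  refine isRegularRing_kp hg hgu _ u.isUnit.mem_nonZeroDivisors ?_
  haveI : Subsingleton (B ⧸ Ideal.span {(u : B)}) := by
    rw [Ideal.Quotient.subsingleton_iff, Ideal.span_singleton_eq_top]
    exact u.isUnit
  exact isRegularRing_of_subsingleton _

variable {g N'} in
theorem isRegularRing_CC [IsDomain B] [IsRegularRing B] (hg : 0 < g) (hN' : 0 < N')
    (hgu : IsUnit ((g : ℕ) : B)) (hN'u : IsUnit ((N' : ℕ) : B)) (hf : f₁ ≠ 0)
    (hD : IsRegularRing (B ⧸ Ideal.span {f₁})) : IsRegularRing (CC u f₁ g N' a) := by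
  haveI := isRegularRing_B1 u hg hgu
  have hN'u1 : IsUnit ((N' : ℕ) : B1 u g) := by
    have := hN'u.map (AdjoinRoot.of (kp g (u : B)))
    rwa [map_natCast] at this
  have hfn : AdjoinRoot.of (kp g (u : B)) f₁ ∈ nonZeroDivisors (B1 u g) :=
    of_mem_nonZeroDivisors hg _ (mem_nonZeroDivisors_of_ne_zero hf)
  have hτ : IsUnit (tau1 u g ^ a) := (isUnit_tau1 u hg).pow a
  have hc2 : c2 u f₁ g a ∈ nonZeroDivisors (B1 u g) :=
    mul_mem hτ.mem_nonZeroDivisors hfn
  refine isRegularRing_kp hN' hN'u1 _ hc2 ?_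
  -- the quotient `B₁/(c₂)`
  have hspan : Ideal.span {c2 u f₁ g a} =
      (Ideal.span {f₁}).map (AdjoinRoot.of (kp g (u : B))) := by
    rw [Ideal.map_span, Set.image_singleton]
    apply le_antisymm
    · rw [Ideal.span_singleton_le_iff_mem]
      exact Ideal.mem_span_singleton'.2 ⟨tau1 u g ^ a, rfl⟩
    · rw [Ideal.span_singleton_le_iff_mem]
      refine Ideal.mem_span_singleton'.2 ⟨(↑hτ.unit⁻¹ : B1 u g), ?_⟩
      rw [c2, ← mul_assoc, IsUnit.val_inv_mul, one_mul]
  have e := AdjoinRoot.quotAdjoinRootEquivQuotPolynomialQuot (Ideal.span {f₁}) (kp g (u : B))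
  have hmap : (kp g (u : B)).map (Ideal.Quotient.mk (Ideal.span {f₁})) =
      kp g ((Units.map (Ideal.Quotient.mk (Ideal.span {f₁})).toMonoidHom u : (B ⧸ Ideal.span {f₁})ˣ) :
        B ⧸ Ideal.span {f₁}) := by
    simp [kp, Polynomial.map_sub, Polynomial.map_pow]
  have hgu' : IsUnit ((g : ℕ) : B ⧸ Ideal.span {f₁}) := by
    have := hgu.map (Ideal.Quotient.mk (Ideal.span {f₁}))
    rwa [map_natCast] at this
  have hreg' : IsRegularRing (AdjoinRoot
      ((kp g (u : B)).map (Ideal.Quotient.mk (Ideal.span {f₁})))) := by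
    rw [hmap]
    exact isRegularRing_B1 _ hg hgu'
  rw [hspan]
  have e' : AdjoinRoot ((kp g (u : B)).map (Ideal.Quotient.mk (Ideal.span {f₁}))) ≃+*
      (B1 u g ⧸ (Ideal.span {f₁}).map (AdjoinRoot.of (kp g (u : B)))) := e.symm
  exact @IsRegularRing.of_ringEquiv _ _ _ _ e' hreg'

end tower

/-! ### maps out of the tower -/

section maps

variable {B : Type u} [CommRing B] (u : Bˣ) (f₁ : B) (g N' a : ℕ)
variable {K : Type v} [CommRing K] [Algebra B K]

theorem algebraMap_CC (x : B) : algebraMap B (CC u f₁ g N' a) x =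
    AdjoinRoot.of (kp N' (c2 u f₁ g a)) (AdjoinRoot.of (kp g (u : B)) x) := by
  rw [AdjoinRoot.algebraMap_eq', RingHom.comp_apply, AdjoinRoot.algebraMap_eq]

/-- `B₁ → K`, `τ₁ ↦ τ` -/
def psi1 (τ : K) (hτ : τ ^ g = algebraMap B K u) : B1 u g →+* K :=
  AdjoinRoot.lift (algebraMap B K) τ (by
    rw [kp, eval₂_sub, eval₂_pow, eval₂_X, eval₂_C, hτ, sub_self])

/-- `C → K`, `τ₁ ↦ τ`, `w₁ ↦ w` -/
def psi (τ w : K) (hτ : τ ^ g = algebraMap B K u)
    (hw : w ^ N' = τ ^ a * algebraMap B K f₁) : CC u f₁ g N' a →+* K :=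
  AdjoinRoot.lift (psi1 u g τ hτ) w (by
    show eval₂ _ _ (X ^ N' - C _) = 0
    rw [eval₂_sub, eval₂_pow, eval₂_X, eval₂_C, c2, map_mul, map_pow, psi1,
      AdjoinRoot.lift_root, AdjoinRoot.lift_of, hw, sub_self])

variable {u f₁ g N' a}

theorem psi_of_of (τ w : K) (hτ : τ ^ g = algebraMap B K u)
    (hw : w ^ N' = τ ^ a * algebraMap B K f₁) (x : B) :
    psi u f₁ g N' a τ w hτ hw
      (AdjoinRoot.of (kp N' (c2 u f₁ g a)) (AdjoinRoot.of (kp g (u : B)) x)) =
      algebraMap B K x := by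
  rw [psi, AdjoinRoot.lift_of, psi1, AdjoinRoot.lift_of]

theorem psi_of_tau (τ w : K) (hτ : τ ^ g = algebraMap B K u)
    (hw : w ^ N' = τ ^ a * algebraMap B K f₁) :
    psi u f₁ g N' a τ w hτ hw (AdjoinRoot.of (kp N' (c2 u f₁ g a)) (tau1 u g)) = τ := by
  rw [psi, AdjoinRoot.lift_of, psi1, AdjoinRoot.lift_root]

theorem psi_w (τ w : K) (hτ : τ ^ g = algebraMap B K u)
    (hw : w ^ N' = τ ^ a * algebraMap B K f₁) :
    psi u f₁ g N' a τ w hτ hw (w1 u f₁ g N' a) = w := by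
  rw [psi, AdjoinRoot.lift_root]

/-- `psi` as an algebra hom -/
def psiA (τ w : K) (hτ : τ ^ g = algebraMap B K u)
    (hw : w ^ N' = τ ^ a * algebraMap B K f₁) : CC u f₁ g N' a →ₐ[B] K :=
  { psi u f₁ g N' a τ w hτ hw with
    commutes' := fun x => by
      show psi u f₁ g N' a τ w hτ hw (algebraMap B _ x) = _
      rw [algebraMap_CC, psi_of_of] }

theorem psiA_apply (τ w : K) (hτ : τ ^ g = algebraMap B K u)
    (hw : w ^ N' = τ ^ a * algebraMap B K f₁) (x : CC u f₁ g N' a) :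
    psiA τ w hτ hw x = psi u f₁ g N' a τ w hτ hw x := rfl

theorem psi1_mem (τ w : K) (hτ : τ ^ g = algebraMap B K u) (y : B1 u g) :
    psi1 u g τ hτ y ∈ Algebra.adjoin B ({τ, w} : Set K) := by
  induction y using AdjoinRoot.induction_on with
  | ih P =>
    rw [psi1, AdjoinRoot.lift_mk, eval₂_eq_sum_range]
    refine Subalgebra.sum_mem _ fun i _ => Subalgebra.mul_mem _ (Subalgebra.algebraMap_mem _ _)
      (Subalgebra.pow_mem _ (Algebra.subset_adjoin (by simp)) _)

theorem psi_mem (τ w : K) (hτ : τ ^ g = algebraMap B K u)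
    (hw : w ^ N' = τ ^ a * algebraMap B K f₁) (y : CC u f₁ g N' a) :
    psi u f₁ g N' a τ w hτ hw y ∈ Algebra.adjoin B ({τ, w} : Set K) := by
  induction y using AdjoinRoot.induction_on with
  | ih P =>
    rw [psi, AdjoinRoot.lift_mk, eval₂_eq_sum_range]
    refine Subalgebra.sum_mem _ fun i _ => Subalgebra.mul_mem _ (psi1_mem τ w hτ _)
      (Subalgebra.pow_mem _ (Algebra.subset_adjoin (by simp)) _)

theorem range_psiA (τ w : K) (hτ : τ ^ g = algebraMap B K u)
    (hw : w ^ N' = τ ^ a * algebraMap B K f₁) :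
    (psiA τ w hτ hw).range = Algebra.adjoin B ({τ, w} : Set K) := by
  apply le_antisymm
  · rintro _ ⟨y, rfl⟩
    exact psi_mem τ w hτ hw y
  · refine Algebra.adjoin_le ?_
    rintro x (rfl | rfl)
    · exact ⟨_, psi_of_tau _ _ hτ hw⟩
    · exact ⟨_, psi_w _ _ hτ hw⟩

theorem finite_CC (hg : 0 < g) (hN' : 0 < N') : Module.Finite B (CC u f₁ g N' a) := by
  haveI : Module.Finite B (B1 u g) := finite_kp hg _
  haveI : Module.Finite (B1 u g) (CC u f₁ g N' a) := finite_kp hN' _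
  exact Module.Finite.trans (B1 u g) _

theorem algebraMap_CC_mem_nonZeroDivisors (hg : 0 < g) (hN' : 0 < N') {x : B}
    (hx : x ∈ nonZeroDivisors B) :
    algebraMap B (CC u f₁ g N' a) x ∈ nonZeroDivisors (CC u f₁ g N' a) := by
  rw [algebraMap_CC]
  exact of_mem_nonZeroDivisors hN' _ (of_mem_nonZeroDivisors hg _ hx)

/-- injectivity criterion: a map `φ : K → C[1/f₁]` which is a left inverse on generators -/
theorem psi_injective (hg : 0 < g) (hN' : 0 < N') (hf : f₁ ∈ nonZeroDivisors B)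
    (τ w : K) (hτ : τ ^ g = algebraMap B K u)
    (hw : w ^ N' = τ ^ a * algebraMap B K f₁)
    (φ : K →+* Localization.Away (algebraMap B (CC u f₁ g N' a) f₁))
    (hφB : ∀ x, φ (algebraMap B K x) = algebraMap B _ x)
    (hφτ : φ τ = algebraMap (CC u f₁ g N' a) _
      (AdjoinRoot.of (kp N' (c2 u f₁ g a)) (tau1 u g)))
    (hφw : φ w = algebraMap (CC u f₁ g N' a) _ (w1 u f₁ g N' a)) :
    Function.Injective (psi u f₁ g N' a τ w hτ hw) := by
  have hcomp : φ.comp (psi u f₁ g N' a τ w hτ hw) =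
      algebraMap (CC u f₁ g N' a) (Localization.Away (algebraMap B (CC u f₁ g N' a) f₁)) := by
    apply AdjoinRoot.ringHom_ext
    · apply AdjoinRoot.ringHom_ext
      · ext x
        simp only [RingHom.comp_apply]
        rw [psi_of_of, hφB]
        exact (IsScalarTower.algebraMap_apply B (CC u f₁ g N' a) (Localization.Away _) x).trans
          (congrArg _ (algebraMap_CC u f₁ g N' a x))
      · simp only [RingHom.comp_apply]
        rw [psi_of_tau, hφτ]
    · rw [RingHom.comp_apply, psi_w, hφw]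
  have hinj : Function.Injective (algebraMap (CC u f₁ g N' a)
      (Localization.Away (algebraMap B (CC u f₁ g N' a) f₁))) := by
    apply IsLocalization.injective (M := Submonoid.powers (algebraMap B (CC u f₁ g N' a) f₁))
    exact Submonoid.powers_le.2 (algebraMap_CC_mem_nonZeroDivisors hg hN' hf)
  intro x y hxy
  apply hinj
  rw [← hcomp, RingHom.comp_apply, RingHom.comp_apply, hxy]

end maps

/-! ### the generators in terms of units of `K` -/

section units

variable {B : Type u} [CommRing B] (u : Bˣ) (f₁ : B) (g N' α' a : ℕ) (b : ℤ)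
variable {K : Type v} [CommRing K] [Algebra B K] (Tu Fu : Kˣ)

/-- image of `u` -/
abbrev Uu : Kˣ := Units.map (algebraMap B K).toMonoidHom u

/-- `τ = t^{N'} f^{-α'}` -/
abbrev tauU : Kˣ := Tu ^ (N' : ℤ) / Fu ^ (α' : ℤ)

/-- `w = t^a f^{-b}` -/
abbrev wU : Kˣ := Tu ^ (a : ℤ) / Fu ^ b

/-- the generators `t^i f^{-⌊iα/N⌋}` -/
abbrev gen (i : ℕ) : K := ((Tu ^ (i : ℤ) / Fu ^ (((i * (g * α')) / (g * N') : ℕ) : ℤ) : Kˣ) : K)

variable {u f₁ g N' α' a b Tu Fu}

theorem zpow_mem_subalgebra (S : Subalgebra B K) (x : Kˣ) (hx : (x : K) ∈ S)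
    (hx' : ((x⁻¹ : Kˣ) : K) ∈ S) (z : ℤ) : ((x ^ z : Kˣ) : K) ∈ S := by
  cases z with
  | ofNat n =>
    rw [Int.ofNat_eq_natCast, zpow_natCast, Units.val_pow_eq_pow_val]
    exact Subalgebra.pow_mem _ hx _
  | negSucc n =>
    rw [zpow_negSucc, ← inv_pow, Units.val_pow_eq_pow_val]
    exact Subalgebra.pow_mem _ hx' _

section rel

variable (hab : (a : ℤ) * α' - b * N' = 1)
  (hrel : Tu ^ ((g : ℤ) * N') = Uu u (K := K) * Fu ^ ((g : ℤ) * α'))
  (hFu : (Fu : K) = algebraMap B K f₁)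

include hab hrel in
theorem tauU_pow : ((tauU N' α' Tu Fu : Kˣ) : K) ^ g = algebraMap B K u := by
  have h := (mul_ids Tu Fu (Uu u) g N' α' a b hab hrel).1
  have h' : tauU N' α' Tu Fu ^ g = Uu u := by
    rw [← zpow_natCast]; exact h
  rw [← Units.val_pow_eq_pow_val, h']
  rfl

include hab hrel hFu in
theorem wU_pow : ((wU a b Tu Fu : Kˣ) : K) ^ N' =
    ((tauU N' α' Tu Fu : Kˣ) : K) ^ a * algebraMap B K f₁ := by
  have h := (mul_ids Tu Fu (Uu u) g N' α' a b hab hrel).2.1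
  have h' : wU a b Tu Fu ^ N' = tauU N' α' Tu Fu ^ a * Fu := by
    rw [← zpow_natCast, ← zpow_natCast]; exact h
  rw [← Units.val_pow_eq_pow_val, h', Units.val_mul, Units.val_pow_eq_pow_val, hFu]

include hab hrel in
theorem tauU_inv_mem (hg : 0 < g) (S : Subalgebra B K) (hS : ((tauU N' α' Tu Fu : Kˣ) : K) ∈ S) :
    (((tauU N' α' Tu Fu)⁻¹ : Kˣ) : K) ∈ S := by
  have h0 := (mul_ids Tu Fu (Uu u) g N' α' a b hab hrel).1
  have h : tauU N' α' Tu Fu ^ g = Uu u := by
    rw [← zpow_natCast]; exact h0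
  obtain ⟨m, rfl⟩ : ∃ m, g = m + 1 := ⟨g - 1, by omega⟩
  have h2 : (tauU N' α' Tu Fu)⁻¹ = (tauU N' α' Tu Fu) ^ m * (Uu u (K := K))⁻¹ := by
    have h3 : (tauU N' α' Tu Fu) ^ m * (Uu u (K := K))⁻¹ * tauU N' α' Tu Fu = 1 := by
      rw [mul_right_comm, ← pow_succ, h, mul_inv_cancel]
    exact (eq_inv_of_mul_eq_one_left h3).symm
  rw [h2, Units.val_mul, Units.val_pow_eq_pow_val]
  refine Subalgebra.mul_mem _ (Subalgebra.pow_mem _ hS _) ?_
  have : (((Uu u (K := K))⁻¹ : Kˣ) : K) = algebraMap B K (↑u⁻¹ : B) := by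
    rw [Uu, ← map_inv]; rfl
  rw [this]
  exact Subalgebra.algebraMap_mem _ _

include hab hrel in
theorem gen_mem (hg : 0 < g) (hN' : 0 < N') (i : ℕ) :
    gen g N' α' Tu Fu i ∈
      Algebra.adjoin B ({((tauU N' α' Tu Fu : Kˣ) : K), ((wU a b Tu Fu : Kˣ) : K)} : Set K) := by
  have h := (mul_ids Tu Fu (Uu u) g N' α' a b hab hrel).2.2 i ((i * α' / N' : ℕ) : ℤ)
    ((i * α' % N' : ℕ) : ℤ) (by
      have := Nat.div_add_mod (i * α') N'
      have h2 : ((N' * (i * α' / N') + i * α' % N' : ℕ) : ℤ) = ((i * α' : ℕ) : ℤ) := by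
        rw [this]
      simp only [Nat.cast_add, Nat.cast_mul] at h2
      linarith)
  have hq : i * (g * α') / (g * N') = i * α' / N' := by
    rw [show i * (g * α') = g * (i * α') by ring, Nat.mul_div_mul_left _ _ hg]
  rw [gen, hq, h, Units.val_mul, zpow_natCast (wU a b Tu Fu), Units.val_pow_eq_pow_val]
  have hτ : ((tauU N' α' Tu Fu : Kˣ) : K) ∈ Algebra.adjoin B
      ({((tauU N' α' Tu Fu : Kˣ) : K), ((wU a b Tu Fu : Kˣ) : K)} : Set K) :=
    Algebra.subset_adjoin (by simp)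
  refine Subalgebra.mul_mem _ (Subalgebra.pow_mem _ (Algebra.subset_adjoin (by simp)) _) ?_
  exact zpow_mem_subalgebra _ _ hτ (tauU_inv_mem hab hrel hg _ hτ) _

include hab hrel in
theorem tauU_mem_adjoin_gen (hg : 0 < g) (hN' : 0 < N') :
    ((tauU N' α' Tu Fu : Kˣ) : K) ∈
      Algebra.adjoin B (Set.range fun i : Fin (g * N') => gen g N' α' Tu Fu (i : ℕ)) := by
  rcases Nat.lt_or_ge 1 g with h2 | h1
  · have hlt : N' < g * N' := by nlinarith
    have hq : N' * (g * α') / (g * N') = α' := by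
      rw [show N' * (g * α') = (g * N') * α' by ring,
        Nat.mul_div_cancel_left _ (Nat.mul_pos hg hN')]
    have : gen g N' α' Tu Fu N' = ((tauU N' α' Tu Fu : Kˣ) : K) := by
      rw [gen, hq]
    rw [← this]
    exact Algebra.subset_adjoin ⟨⟨N', hlt⟩, rfl⟩
  · have hg1 : g = 1 := by omega
    have h := tauU_pow hab hrel
    rw [hg1, pow_one] at h
    rw [h]
    exact Subalgebra.algebraMap_mem _ _

include hab hFu in
theorem wU_mem_adjoin_gen (hg : 0 < g) (hN' : 0 < N') (ha : a < N') :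
    ((wU a b Tu Fu : Kˣ) : K) ∈
      Algebra.adjoin B (Set.range fun i : Fin (g * N') => gen g N' α' Tu Fu (i : ℕ)) := by
  have hlt : a < g * N' := lt_of_lt_of_le ha (Nat.le_mul_of_pos_left _ hg)
  have hq : a * (g * α') / (g * N') = a * α' / N' := by
    rw [show a * (g * α') = g * (a * α') by ring, Nat.mul_div_mul_left _ _ hg]
  have hN'z : (0 : ℤ) < (N' : ℤ) := by exact_mod_cast hN'
  have hle : b ≤ ((a * α' / N' : ℕ) : ℤ) := by
    rw [Int.natCast_div]
    apply Int.le_ediv_of_mul_le hN'z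
    push_cast
    linarith
  obtain ⟨e, he⟩ : ∃ e : ℕ, ((a * α' / N' : ℕ) : ℤ) - b = e :=
    ⟨(((a * α' / N' : ℕ) : ℤ) - b).toNat, (Int.toNat_of_nonneg (by linarith)).symm⟩
  have hw : wU a b Tu Fu = (Tu ^ (a : ℤ) / Fu ^ ((a * α' / N' : ℕ) : ℤ)) * Fu ^ e := by
    rw [← zpow_natCast Fu e, ← he, wU, zpow_sub]
    rw [← mul_assoc, div_mul_cancel, div_eq_mul_inv]
  have hgen : gen g N' α' Tu Fu a = ((Tu ^ (a : ℤ) / Fu ^ ((a * α' / N' : ℕ) : ℤ) : Kˣ) : K) := by
    rw [gen, hq]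
  rw [hw, Units.val_mul, ← hgen, Units.val_pow_eq_pow_val, hFu, ← map_pow]
  exact Subalgebra.mul_mem _ (Algebra.subset_adjoin ⟨⟨a, hlt⟩, rfl⟩)
    (Subalgebra.algebraMap_mem _ _)

include hab hrel hFu in
theorem adjoin_gen_eq (hg : 0 < g) (hN' : 0 < N') (ha : a < N') :
    Algebra.adjoin B (Set.range fun i : Fin (g * N') => gen g N' α' Tu Fu (i : ℕ)) =
      Algebra.adjoin B
        ({((tauU N' α' Tu Fu : Kˣ) : K), ((wU a b Tu Fu : Kˣ) : K)} : Set K) := by
  apply le_antisymm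
  · refine Algebra.adjoin_le ?_
    rintro _ ⟨i, rfl⟩
    exact gen_mem hab hrel hg hN' _
  · refine Algebra.adjoin_le ?_
    rintro x (rfl | rfl)
    · exact tauU_mem_adjoin_gen hab hrel hg hN'
    · exact wU_mem_adjoin_gen hab hFu hg hN' ha

end rel

end units

end
end Groth.Agent.Lib.Helper4.CycCov1
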