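import Mathlib
import Groth.Agent.Lib.Helper8.Serre3

/-!
# A ring with regular local rings is integrally closed in its localization away from a nonzerodivisor (helper4)
-/

set_option backward.isDefEq.respectTransparency.types false
set_option synthInstance.maxHeartbeats 400000
set_option autoImplicit false
set_option linter.unusedSectionVars false
set_option linter.style.haveILetI false
set_option linter.unusedSimpArgs false
universe u v w
open Polynomial

namespace Groth.Agent.Lib.Helper4.CycCov2

/-- A ring all of whose local rings are regular is integrally closed in `A[1/f]`, for a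
nonzerodivisor `f`. -/
theorem mem_range_of_isIntegral {A K : Type u} [CommRing A] [CommRing K] [Algebra A K]
    (hinj : Function.Injective (algebraMap A K)) (f : A) (hf : IsUnit (algebraMap A K f))
    (hsurj : ∀ x : K, ∃ m : ℕ, ∃ y : A, algebraMap A K f ^ m * x = algebraMap A K y)
    (hreg : ∀ (Q : Ideal A) [Q.IsPrime], IsRegularLocalRing (Localization.AtPrime Q))
    (x : K) (hx : IsIntegral A x) : x ∈ Set.range (algebraMap A K) := by
  classical
  -- `K` is the localization of `A` away from `f`
  haveI hloc : IsLocalization.Away f K := by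
    rw [IsLocalization.Away, isLocalization_iff]
    refine ⟨?_, ?_, ?_⟩
    · rintro ⟨_, n, rfl⟩
      rw [map_pow]
      exact hf.pow n
    · intro z
      obtain ⟨m, y, hy⟩ := hsurj z
      refine ⟨⟨y, ⟨f ^ m, m, rfl⟩⟩, ?_⟩
      rw [← hy, map_pow, mul_comm]
    · intro a b hab
      exact ⟨1, by rw [hinj hab]⟩
  -- the conductor ideal
  let I : Ideal A :=
    { carrier := {a | algebraMap A K a * x ∈ Set.range (algebraMap A K)}
      add_mem' := by
        rintro a b ⟨a', ha'⟩ ⟨b', hb'⟩
        exact ⟨a' + b', by rw [map_add, map_add, add_mul, ha', hb']⟩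
      zero_mem' := ⟨0, by rw [map_zero, zero_mul]⟩
      smul_mem' := by
        rintro c a ⟨a', ha'⟩
        exact ⟨c * a', by rw [smul_eq_mul, map_mul, map_mul, mul_assoc, ha']⟩ }
  by_contra hxr
  have hI : I ≠ ⊤ := by
    intro h
    have h1 : (1 : A) ∈ I := by rw [h]; trivial
    obtain ⟨a', ha'⟩ := h1
    rw [map_one, one_mul] at ha'
    exact hxr ⟨a', ha'⟩
  obtain ⟨Q, hQmax, hIQ⟩ := Ideal.exists_le_maximal I hI
  haveI := hQmax.isPrime
  haveI := hreg Q
  haveI := Groth.Agent.Helper8.RLR.isDomain (Localization.AtPrime Q)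
  haveI := Groth.Agent.Helper8.Serre.isIntegrallyClosed_of_isRegularLocalRing
    (Localization.AtPrime Q)
  set AQ := Localization.AtPrime Q
  set L := FractionRing AQ
  set ι' : A →+* L := (algebraMap AQ L).comp (algebraMap A AQ) with hι'
  -- `f` is nonzero in `A_Q`
  have hfQ : algebraMap A AQ f ≠ 0 := by
    intro h0
    rw [← map_zero (algebraMap A AQ), IsLocalization.eq_iff_exists Q.primeCompl] at h0
    obtain ⟨c, hc⟩ := h0
    rw [mul_zero] at hc
    have : algebraMap A K (c : A) * algebraMap A K f = 0 := by rw [← map_mul, hc, map_zero]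
    have hc0 : algebraMap A K (c : A) = 0 := by
      rw [← hf.mul_left_eq_zero]; exact this
    have : (c : A) = 0 := hinj (by rw [hc0, map_zero])
    exact c.2 (by rw [this]; exact Q.zero_mem)
  have hunit : IsUnit (ι' f) := by
    rw [hι', RingHom.comp_apply]
    exact IsUnit.mk0 _ (by
      rwa [Ne, map_eq_zero_iff _ (IsFractionRing.injective AQ L)])
  set ρ : K →+* L := IsLocalization.Away.lift f hunit with hρ
  have hρA : ∀ a : A, ρ (algebraMap A K a) = ι' a := fun a => IsLocalization.Away.lift_eq f hunit a
  -- `ρ x` is integral over `A_Q`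
  obtain ⟨P, hPm, hP⟩ := hx
  have hint : IsIntegral AQ (ρ x) := by
    refine ⟨P.map (algebraMap A AQ), hPm.map _, ?_⟩
    rw [eval₂_map]
    have := congrArg ρ hP
    rw [Polynomial.hom_eval₂, map_zero] at this
    have hcomp : ρ.comp (algebraMap A K) = ι' := RingHom.ext hρA
    rw [hcomp] at this
    exact this
  obtain ⟨z, hz⟩ := IsIntegrallyClosed.algebraMap_eq_of_integral hint
  obtain ⟨a, s, rfl⟩ := IsLocalization.exists_mk'_eq Q.primeCompl z
  obtain ⟨m, y, hy⟩ := hsurj x
  have h1 : ρ x * ι' (s : A) = ι' a := by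
    rw [← hz, hι', RingHom.comp_apply, RingHom.comp_apply, ← map_mul, IsLocalization.mk'_spec]
  have h2 : ι' (f ^ m) * ρ x = ι' y := by
    rw [← hρA, ← hρA, ← map_mul, map_pow, hy]
  have h3 : ι' (y * s) = ι' (a * f ^ m) := by
    rw [map_mul, map_mul, ← h2, ← h1]; ring
  have h4 : algebraMap A AQ (y * s) = algebraMap A AQ (a * f ^ m) :=
    IsFractionRing.injective AQ L h3
  rw [IsLocalization.eq_iff_exists Q.primeCompl] at h4
  obtain ⟨c, hc⟩ := h4
  have h5 : algebraMap A K ((c : A) * s) * x = algebraMap A K (c * a) := by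
    have hFm : IsUnit (algebraMap A K f ^ m) := hf.pow m
    apply hFm.mul_left_cancel
    have := congrArg (algebraMap A K) hc
    rw [map_mul, map_mul, map_mul, map_mul, ← hy, map_pow] at this
    rw [map_mul, map_mul]
    linear_combination this
  have h6 : (c : A) * s ∈ I := ⟨_, h5.symm⟩
  have h7 := hIQ h6
  rcases (inferInstance : Q.IsPrime).mem_or_mem h7 with h | h
  · exact c.2 h
  · exact s.2 h

end Groth.Agent.Lib.Helper4.CycCov2
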