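import Mathlib
import Groth.Agent.Lib.Helper4.CycCov1
import Groth.Agent.Lib.Helper4.CycCov2

/-!
# Cyclic cover algebra: finite, integrally closed, regular (S16900) (helper4)
-/

set_option backward.isDefEq.respectTransparency.types false
set_option synthInstance.maxHeartbeats 400000
set_option autoImplicit false
set_option linter.unusedSectionVars false
set_option linter.style.haveILetI false
set_option linter.unusedSimpArgs false
universe u v w
open Polynomial
open Groth.Agent.Lib.Helper4.CycReg1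
open Groth.Agent.Lib.Helper4.CycCov1

namespace Groth.Agent.Lib.Helper4.CycCov3
noncomputable section

section concrete

variable {B : Type u} [CommRing B] (u : Bˣ) (f₁ : B) (N α : ℕ)

/-- `A' = B[t]/(t^N - u f₁^α)` -/
abbrev AP : Type u := AdjoinRoot (X ^ N - C ((u : B) * f₁ ^ α) : B[X])

/-- `K = A'[1/f₁]` -/
abbrev KK : Type u := Localization.Away (algebraMap B (AP u f₁ N α) f₁)

/-- `f₁` as a unit of `K` -/
def FuK : (KK u f₁ N α)ˣ :=
  ⟨algebraMap (AP u f₁ N α) (KK u f₁ N α) (algebraMap B (AP u f₁ N α) f₁),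
    IsLocalization.Away.invSelf (algebraMap B (AP u f₁ N α) f₁),
    IsLocalization.Away.mul_invSelf _,
    by rw [mul_comm]; exact IsLocalization.Away.mul_invSelf _⟩

theorem FuK_val : ((FuK u f₁ N α : (KK u f₁ N α)ˣ) : KK u f₁ N α) =
    algebraMap B (KK u f₁ N α) f₁ :=
  (IsScalarTower.algebraMap_apply B (AP u f₁ N α) (KK u f₁ N α) f₁).symm

theorem t_pow : (algebraMap (AP u f₁ N α) (KK u f₁ N α)
      (AdjoinRoot.root (X ^ N - C ((u : B) * f₁ ^ α) : B[X]))) ^ N =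
    algebraMap B (KK u f₁ N α) u * (FuK u f₁ N α : KK u f₁ N α) ^ α := by
  rw [← map_pow, root_pow N ((u : B) * f₁ ^ α), FuK_val, ← map_pow, ← map_mul,
    IsScalarTower.algebraMap_apply B (AP u f₁ N α) (KK u f₁ N α)]
  rfl

variable {N} in
theorem isUnit_t (hN : 0 < N) : IsUnit (algebraMap (AP u f₁ N α) (KK u f₁ N α)
      (AdjoinRoot.root (X ^ N - C ((u : B) * f₁ ^ α) : B[X]))) := by
  refine (isUnit_pow_iff hN.ne').1 ?_
  rw [t_pow]
  exact (u.isUnit.map _).mul ((FuK u f₁ N α).isUnit.pow α)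

variable {N} in
/-- `t` as a unit of `K` -/
def TuK (hN : 0 < N) : (KK u f₁ N α)ˣ := (isUnit_t u f₁ α hN).unit

variable {N} in
theorem TuK_val (hN : 0 < N) : ((TuK u f₁ α hN : (KK u f₁ N α)ˣ) : KK u f₁ N α) =
    algebraMap (AP u f₁ N α) (KK u f₁ N α)
      (AdjoinRoot.root (X ^ N - C ((u : B) * f₁ ^ α) : B[X])) := rfl

variable {N} in
theorem TuK_rel (hN : 0 < N) : TuK u f₁ α hN ^ N =
    Uu u (K := KK u f₁ N α) * FuK u f₁ N α ^ α := by
  apply Units.ext
  rw [Units.val_pow_eq_pow_val, TuK_val, t_pow, Units.val_mul, Units.val_pow_eq_pow_val]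
  rfl

end concrete

/-! ### the inverse map `K → C[1/f₁]` -/

section inverse

variable {B : Type u} [CommRing B] (u : Bˣ) (f₁ : B) (g N' α' a : ℕ) (b : ℤ)

/-- `C[1/f₁]` -/
abbrev Cf : Type u := Localization.Away (algebraMap B (CC u f₁ g N' a) f₁)

/-- `f₁` as a unit of `C[1/f₁]` -/
def FcU : (Cf u f₁ g N' a)ˣ :=
  (IsLocalization.Away.algebraMap_isUnit (S := Cf u f₁ g N' a)
    (algebraMap B (CC u f₁ g N' a) f₁)).unit

theorem FcU_val : ((FcU u f₁ g N' a : (Cf u f₁ g N' a)ˣ) : Cf u f₁ g N' a) =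
    algebraMap B (Cf u f₁ g N' a) f₁ :=
  (IsScalarTower.algebraMap_apply B (CC u f₁ g N' a) (Cf u f₁ g N' a) f₁).symm

variable {g} in
/-- `τ₁` as a unit of `C[1/f₁]` -/
def ScU (hg : 0 < g) : (Cf u f₁ g N' a)ˣ :=
  (((isUnit_tau1 u hg).map (AdjoinRoot.of (kp N' (c2 u f₁ g a)))).map
    (algebraMap (CC u f₁ g N' a) (Cf u f₁ g N' a))).unit

variable {g} in
theorem ScU_val (hg : 0 < g) : ((ScU u f₁ N' a hg : (Cf u f₁ g N' a)ˣ) : Cf u f₁ g N' a) =
    algebraMap (CC u f₁ g N' a) (Cf u f₁ g N' a)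
      (AdjoinRoot.of (kp N' (c2 u f₁ g a)) (tau1 u g)) := rfl

variable {g} in
theorem ScU_pow (hg : 0 < g) : ScU u f₁ N' a hg ^ (g : ℤ) = Uu u (K := Cf u f₁ g N' a) := by
  apply Units.ext
  rw [zpow_natCast, Units.val_pow_eq_pow_val, ScU_val, ← map_pow, ← map_pow, root_pow]
  show _ = algebraMap B (Cf u f₁ g N' a) u
  rw [IsScalarTower.algebraMap_apply B (CC u f₁ g N' a) (Cf u f₁ g N' a)]
  exact congrArg _ (algebraMap_CC u f₁ g N' a u).symm

variable {g} in
theorem w_pow_Cf (hg : 0 < g) :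
    (algebraMap (CC u f₁ g N' a) (Cf u f₁ g N' a) (w1 u f₁ g N' a)) ^ N' =
      ((ScU u f₁ N' a hg ^ a * FcU u f₁ g N' a : (Cf u f₁ g N' a)ˣ) : Cf u f₁ g N' a) := by
  rw [← map_pow, root_pow, Units.val_mul, Units.val_pow_eq_pow_val, ScU_val, FcU_val,
    IsScalarTower.algebraMap_apply B (CC u f₁ g N' a) (Cf u f₁ g N' a), ← map_pow, ← map_mul]
  refine congrArg _ ?_
  rw [algebraMap_CC, ← map_pow, ← map_mul]

variable {g N'} in
/-- `w₁` as a unit of `C[1/f₁]` -/
def WcU (hg : 0 < g) (hN' : 0 < N') : (Cf u f₁ g N' a)ˣ :=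
  ((isUnit_pow_iff hN'.ne').1 (by
    rw [w_pow_Cf u f₁ N' a hg]; exact Units.isUnit _ :
    IsUnit ((algebraMap (CC u f₁ g N' a) (Cf u f₁ g N' a) (w1 u f₁ g N' a)) ^ N'))).unit

variable {g N'} in
theorem WcU_val (hg : 0 < g) (hN' : 0 < N') :
    ((WcU u f₁ a hg hN' : (Cf u f₁ g N' a)ˣ) : Cf u f₁ g N' a) =
      algebraMap (CC u f₁ g N' a) (Cf u f₁ g N' a) (w1 u f₁ g N' a) := rfl

variable {g N'} in
theorem WcU_pow (hg : 0 < g) (hN' : 0 < N') :
    WcU u f₁ a hg hN' ^ (N' : ℤ) = ScU u f₁ N' a hg ^ (a : ℤ) * FcU u f₁ g N' a := by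
  apply Units.ext
  rw [zpow_natCast, zpow_natCast, Units.val_pow_eq_pow_val, WcU_val, w_pow_Cf u f₁ N' a hg]

variable {g N'} in
/-- the image of `t` in `C[1/f₁]` -/
def TcU (hg : 0 < g) (hN' : 0 < N') : (Cf u f₁ g N' a)ˣ :=
  WcU u f₁ a hg hN' ^ (α' : ℤ) / ScU u f₁ N' a hg ^ b

section phi

variable {g N'} (hg : 0 < g) (hN' : 0 < N') (hab : (a : ℤ) * α' - b * N' = 1)

include hab in
theorem TcU_ids :
    TcU u f₁ α' a b hg hN' ^ ((g : ℤ) * N') =
      Uu u (K := Cf u f₁ g N' a) * FcU u f₁ g N' a ^ ((g : ℤ) * α') ∧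
    TcU u f₁ α' a b hg hN' ^ (N' : ℤ) / FcU u f₁ g N' a ^ (α' : ℤ) = ScU u f₁ N' a hg ∧
    TcU u f₁ α' a b hg hN' ^ (a : ℤ) / FcU u f₁ g N' a ^ b = WcU u f₁ a hg hN' :=
  mul_ids' (WcU u f₁ a hg hN') (ScU u f₁ N' a hg) (FcU u f₁ g N' a) (Uu u) g N' α' a b hab
    (WcU_pow u f₁ a hg hN') (ScU_pow u f₁ N' a hg)

include hab in
/-- `A' → C[1/f₁]` -/
def phi0 : AP u f₁ (g * N') (g * α') →+* Cf u f₁ g N' a :=
  AdjoinRoot.lift (algebraMap B (Cf u f₁ g N' a))
    ((TcU u f₁ α' a b hg hN' : (Cf u f₁ g N' a)ˣ) : Cf u f₁ g N' a) (by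
    rw [eval₂_sub, eval₂_pow, eval₂_X, eval₂_C, sub_eq_zero, ← Units.val_pow_eq_pow_val]
    have h := (TcU_ids u f₁ α' a b hg hN' hab).1
    have h' : TcU u f₁ α' a b hg hN' ^ (g * N') =
        Uu u (K := Cf u f₁ g N' a) * FcU u f₁ g N' a ^ (g * α') := by
      rw [← zpow_natCast, ← zpow_natCast]
      push_cast
      exact h
    rw [h', Units.val_mul, Units.val_pow_eq_pow_val, FcU_val, map_mul, map_pow]
    rfl)

theorem phi0_of (x : B) : phi0 u f₁ α' a b hg hN' hab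
    (algebraMap B (AP u f₁ (g * N') (g * α')) x) = algebraMap B (Cf u f₁ g N' a) x := by
  rw [AdjoinRoot.algebraMap_eq, phi0, AdjoinRoot.lift_of]

theorem phi0_root : phi0 u f₁ α' a b hg hN' hab
    (AdjoinRoot.root (X ^ (g * N') - C ((u : B) * f₁ ^ (g * α')) : B[X])) =
      ((TcU u f₁ α' a b hg hN' : (Cf u f₁ g N' a)ˣ) : Cf u f₁ g N' a) := by
  rw [phi0, AdjoinRoot.lift_root]

theorem isUnit_phi0 : IsUnit (phi0 u f₁ α' a b hg hN' hab
    (algebraMap B (AP u f₁ (g * N') (g * α')) f₁)) := by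
  rw [phi0_of, ← FcU_val]
  exact Units.isUnit _

/-- `K → C[1/f₁]` -/
def phi : KK u f₁ (g * N') (g * α') →+* Cf u f₁ g N' a :=
  IsLocalization.Away.lift (algebraMap B (AP u f₁ (g * N') (g * α')) f₁)
    (isUnit_phi0 u f₁ α' a b hg hN' hab)

theorem phi_algebraMap (y : AP u f₁ (g * N') (g * α')) :
    phi u f₁ α' a b hg hN' hab (algebraMap _ (KK u f₁ (g * N') (g * α')) y) =
      phi0 u f₁ α' a b hg hN' hab y :=
  IsLocalization.Away.lift_eq _ _ y

theorem phi_of (x : B) : phi u f₁ α' a b hg hN' hab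
    (algebraMap B (KK u f₁ (g * N') (g * α')) x) = algebraMap B (Cf u f₁ g N' a) x := by
  rw [IsScalarTower.algebraMap_apply B (AP u f₁ (g * N') (g * α')) (KK u f₁ (g * N') (g * α')),
    phi_algebraMap, phi0_of]

theorem map_TuK (hN : 0 < g * N') :
    Units.map (phi u f₁ α' a b hg hN' hab).toMonoidHom (TuK u f₁ (g * α') hN) =
      TcU u f₁ α' a b hg hN' := by
  apply Units.ext
  show phi u f₁ α' a b hg hN' hab ((TuK u f₁ (g * α') hN : (KK u f₁ (g * N') (g * α'))ˣ) : _) = _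
  rw [TuK_val, phi_algebraMap, phi0_root]

theorem map_FuK :
    Units.map (phi u f₁ α' a b hg hN' hab).toMonoidHom (FuK u f₁ (g * N') (g * α')) =
      FcU u f₁ g N' a := by
  apply Units.ext
  show phi u f₁ α' a b hg hN' hab ((FuK u f₁ (g * N') (g * α') : (KK u f₁ (g * N') (g * α'))ˣ) : _)
    = _
  rw [FuK_val, phi_of, FcU_val]

theorem phi_tau (hN : 0 < g * N') :
    phi u f₁ α' a b hg hN' hab
      ((tauU N' α' (TuK u f₁ (g * α') hN) (FuK u f₁ (g * N') (g * α')) :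
        (KK u f₁ (g * N') (g * α'))ˣ) : KK u f₁ (g * N') (g * α')) =
    algebraMap (CC u f₁ g N' a) (Cf u f₁ g N' a)
      (AdjoinRoot.of (kp N' (c2 u f₁ g a)) (tau1 u g)) := by
  have h := (TcU_ids u f₁ α' a b hg hN' hab).2.1
  rw [← ScU_val u f₁ N' a hg, ← h, ← map_TuK u f₁ α' a b hg hN' hab hN,
    ← map_FuK u f₁ α' a b hg hN' hab, ← map_zpow, ← map_zpow, ← _root_.map_div]
  rfl

theorem phi_w (hN : 0 < g * N') :
    phi u f₁ α' a b hg hN' hab
      ((wU a b (TuK u f₁ (g * α') hN) (FuK u f₁ (g * N') (g * α')) :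
        (KK u f₁ (g * N') (g * α'))ˣ) : KK u f₁ (g * N') (g * α')) =
    algebraMap (CC u f₁ g N' a) (Cf u f₁ g N' a) (w1 u f₁ g N' a) := by
  have h := (TcU_ids u f₁ α' a b hg hN' hab).2.2
  rw [← WcU_val u f₁ a hg hN', ← h, ← map_TuK u f₁ α' a b hg hN' hab hN,
    ← map_FuK u f₁ α' a b hg hN' hab, ← map_zpow, ← map_zpow, ← _root_.map_div]
  rfl

end phi

end inverse

/-! ### assembling -/

section final

variable {B : Type u} [CommRing B] (u : Bˣ) (f₁ : B) {g N' : ℕ} (α' a : ℕ) (b : ℤ)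
  (hg : 0 < g) (hN' : 0 < N') (hab : (a : ℤ) * α' - b * N' = 1)

theorem TuK_rel' (hN : 0 < g * N') :
    TuK u f₁ (g * α') hN ^ ((g : ℤ) * N') =
      Uu u (K := KK u f₁ (g * N') (g * α')) * FuK u f₁ (g * N') (g * α') ^ ((g : ℤ) * α') := by
  have h := TuK_rel u f₁ (g * α') hN
  rw [← zpow_natCast, ← zpow_natCast] at h
  push_cast at h
  exact h

/-- `τ ∈ K` -/
abbrev tauK (hN : 0 < g * N') : KK u f₁ (g * N') (g * α') :=
  ((tauU N' α' (TuK u f₁ (g * α') hN) (FuK u f₁ (g * N') (g * α')) :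
    (KK u f₁ (g * N') (g * α'))ˣ) : KK u f₁ (g * N') (g * α'))

/-- `w ∈ K` -/
abbrev wK (hN : 0 < g * N') : KK u f₁ (g * N') (g * α') :=
  ((wU a b (TuK u f₁ (g * α') hN) (FuK u f₁ (g * N') (g * α')) :
    (KK u f₁ (g * N') (g * α'))ˣ) : KK u f₁ (g * N') (g * α'))

include hab in
theorem tauK_pow (hN : 0 < g * N') :
    tauK u f₁ α' hN ^ g = algebraMap B (KK u f₁ (g * N') (g * α')) u :=
  tauU_pow hab (TuK_rel' u f₁ α' hN)

include hab in
theorem wK_pow (hN : 0 < g * N') :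
    wK u f₁ α' a b hN ^ N' =
      tauK u f₁ α' hN ^ a * algebraMap B (KK u f₁ (g * N') (g * α')) f₁ :=
  wU_pow hab (TuK_rel' u f₁ α' hN) (FuK_val u f₁ (g * N') (g * α'))

include hg hN' in
theorem psi_injective_concrete (hf : f₁ ∈ nonZeroDivisors B) (hN : 0 < g * N') :
    Function.Injective (psi u f₁ g N' a (tauK u f₁ α' hN) (wK u f₁ α' a b hN)
      (tauK_pow u f₁ α' a b hab hN) (wK_pow u f₁ α' a b hab hN)) :=
  psi_injective hg hN' hf _ _ _ _ (phi u f₁ α' a b hg hN' hab)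
    (phi_of u f₁ α' a b hg hN' hab) (phi_tau u f₁ α' a b hg hN' hab hN)
    (phi_w u f₁ α' a b hg hN' hab hN)

theorem gen_eq (hN : 0 < g * N') (i : ℕ) :
    gen g N' α' (TuK u f₁ (g * α') hN) (FuK u f₁ (g * N') (g * α')) i =
      algebraMap (AP u f₁ (g * N') (g * α')) (KK u f₁ (g * N') (g * α'))
        (AdjoinRoot.root (X ^ (g * N') - C ((u : B) * f₁ ^ (g * α')) : B[X]) ^ i) *
      IsLocalization.Away.invSelf (S := KK u f₁ (g * N') (g * α'))
        (algebraMap B (AP u f₁ (g * N') (g * α')) f₁) ^ (i * (g * α') / (g * N')) := by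
  rw [gen, div_eq_mul_inv, Units.val_mul, zpow_natCast, zpow_natCast, Units.val_pow_eq_pow_val,
    TuK_val, ← inv_pow, Units.val_pow_eq_pow_val, map_pow]
  rfl

/-- the presentation of the algebra generated by `t^i f₁^{-⌊iα/N⌋}` -/
def equivA (hf : f₁ ∈ nonZeroDivisors B) (ha : a < N') (hN : 0 < g * N') :
    CC u f₁ g N' a ≃ₐ[B]
      (Algebra.adjoin B (Set.range fun i : Fin (g * N') =>
        algebraMap (AP u f₁ (g * N') (g * α')) (KK u f₁ (g * N') (g * α'))
          (AdjoinRoot.root (X ^ (g * N') - C ((u : B) * f₁ ^ (g * α')) : B[X]) ^ (i : ℕ)) *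
        IsLocalization.Away.invSelf (S := KK u f₁ (g * N') (g * α'))
          (algebraMap B (AP u f₁ (g * N') (g * α')) f₁) ^ ((i : ℕ) * (g * α') / (g * N'))) :
        Subalgebra B (KK u f₁ (g * N') (g * α'))) :=
  (AlgEquiv.ofInjective (psiA (tauK u f₁ α' hN) (wK u f₁ α' a b hN)
      (tauK_pow u f₁ α' a b hab hN) (wK_pow u f₁ α' a b hab hN))
    (psi_injective_concrete u f₁ α' a b hg hN' hab hf hN)).trans
    (Subalgebra.equivOfEq _ _ (by
      rw [range_psiA, ← adjoin_gen_eq hab (TuK_rel' u f₁ α' hN)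
        (FuK_val u f₁ (g * N') (g * α')) hg hN' ha]
      congr 2
      funext i
      exact gen_eq u f₁ α' hN i))

end final

/-! ### integral closure -/

section intcl

open Groth.Agent.Lib.Helper4.CycCov2

theorem isIntegralClosure_aux {B A' K : Type u} [CommRing B] [CommRing A'] [CommRing K]
    [Algebra B A'] [Algebra A' K] [Algebra B K] [IsScalarTower B A' K] [Module.Finite B A']
    (f : B) [IsLocalization.Away (algebraMap B A' f) K] (A : Subalgebra B K)
    [Module.Finite B A] (hAmem : ∀ y : A', algebraMap A' K y ∈ A)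
    (hreg : ∀ (Q : Ideal A) [Q.IsPrime], IsRegularLocalRing (Localization.AtPrime Q)) :
    IsIntegralClosure A A' K := by
  refine ⟨Subtype.val_injective, ?_⟩
  intro x
  constructor
  · intro hx
    have h1 : IsIntegral B x := isIntegral_trans x hx
    have h2 : IsIntegral A x := h1.tower_top
    have hunit : IsUnit (algebraMap A K (algebraMap B A f)) := by
      rw [← IsScalarTower.algebraMap_apply B A K, IsScalarTower.algebraMap_apply B A' K]
      exact IsLocalization.Away.algebraMap_isUnit _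
    refine mem_range_of_isIntegral (A := A) (K := K) Subtype.val_injective (algebraMap B A f)
      hunit ?_ hreg x h2
    intro z
    obtain ⟨n, a', h⟩ := IsLocalization.Away.surj (algebraMap B A' f) z
    refine ⟨n, ⟨algebraMap A' K a', hAmem a'⟩, ?_⟩
    rw [← IsScalarTower.algebraMap_apply B A K, IsScalarTower.algebraMap_apply B A' K, mul_comm,
      h]
    rfl
  · rintro ⟨y, rfl⟩
    have h1 : IsIntegral B y := Algebra.IsIntegral.isIntegral y
    have h2 : IsIntegral B (algebraMap A K y) := h1.algebraMap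
    exact h2.tower_top

end intcl

section memA

variable {B : Type u} [CommRing B] (u : Bˣ) (f₁ : B) (N α : ℕ)

/-- the generators -/
abbrev gens (i : ℕ) : KK u f₁ N α :=
  algebraMap (AP u f₁ N α) (KK u f₁ N α)
    (AdjoinRoot.root (X ^ N - C ((u : B) * f₁ ^ α) : B[X]) ^ i) *
  IsLocalization.Away.invSelf (S := KK u f₁ N α) (algebraMap B (AP u f₁ N α) f₁) ^ (i * α / N)

variable {N} in
theorem t_mem (hN : 0 < N) :
    algebraMap (AP u f₁ N α) (KK u f₁ N α)
      (AdjoinRoot.root (X ^ N - C ((u : B) * f₁ ^ α) : B[X])) ∈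
      Algebra.adjoin B (Set.range fun i : Fin N => gens u f₁ N α (i : ℕ)) := by
  rcases Nat.lt_or_ge 1 N with h2 | h1
  · have hF : (FuK u f₁ N α : KK u f₁ N α) *
        IsLocalization.Away.invSelf (S := KK u f₁ N α) (algebraMap B (AP u f₁ N α) f₁) = 1 :=
      (FuK u f₁ N α).mul_inv
    have h : algebraMap (AP u f₁ N α) (KK u f₁ N α)
        (AdjoinRoot.root (X ^ N - C ((u : B) * f₁ ^ α) : B[X])) =
        gens u f₁ N α 1 * algebraMap B (KK u f₁ N α) (f₁ ^ (1 * α / N)) := by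
      rw [gens, pow_one, map_pow, ← FuK_val, mul_assoc, ← mul_pow,
        mul_comm (IsLocalization.Away.invSelf _) _, hF, one_pow, mul_one]
    rw [h]
    exact Subalgebra.mul_mem _ (Algebra.subset_adjoin ⟨⟨1, h2⟩, rfl⟩)
      (Subalgebra.algebraMap_mem _ _)
  · have hN1 : N = 1 := by omega
    subst hN1
    have h := t_pow u f₁ 1 α
    rw [pow_one, FuK_val, ← map_pow (algebraMap B (KK u f₁ 1 α)) f₁ α, ← map_mul] at h
    rw [h]
    exact Subalgebra.algebraMap_mem _ _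

variable {N} in
theorem algebraMap_mem_gens (hN : 0 < N) (y : AP u f₁ N α) :
    algebraMap (AP u f₁ N α) (KK u f₁ N α) y ∈
      Algebra.adjoin B (Set.range fun i : Fin N => gens u f₁ N α (i : ℕ)) := by
  induction y using AdjoinRoot.induction_on with
  | ih P =>
    rw [← AdjoinRoot.aeval_eq, ← Polynomial.aeval_algebraMap_apply, aeval_eq_sum_range]
    exact Subalgebra.sum_mem _ fun i _ => Subalgebra.smul_mem _
      (Subalgebra.pow_mem _ (t_mem u f₁ α hN) _) _

end memA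

theorem main (k : Type u) [Field k] [IsAlgClosed k]
    (B : Type u) [CommRing B] [IsDomain B] [Algebra k B] [Algebra.FiniteType k B]
    (hreg : ∀ (P : Ideal B) [P.IsPrime], IsRegularLocalRing (Localization.AtPrime P))
    (N : ℕ) (hN : 0 < N) (hNk : IsUnit ((N : ℕ) : k)) (u : Bˣ) (α : ℕ) (f₁ : B) (hf₁ : f₁ ≠ 0)
    (hD : ∀ (P : Ideal (B ⧸ Ideal.span ({f₁} : Set B))) [P.IsPrime], IsRegularLocalRing (Localization.AtPrime P))
    (A : Subalgebra B (Localization.Away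
      (algebraMap B (AdjoinRoot (X ^ N - C ((u : B) * f₁ ^ α) : B[X])) f₁)))
    (hA : A = Algebra.adjoin B (Set.range fun i : Fin N =>
      algebraMap (AdjoinRoot (X ^ N - C ((u : B) * f₁ ^ α) : B[X])) (Localization.Away
        (algebraMap B (AdjoinRoot (X ^ N - C ((u : B) * f₁ ^ α) : B[X])) f₁))
        (AdjoinRoot.root (X ^ N - C ((u : B) * f₁ ^ α) : B[X]) ^ (i : ℕ)) *
      IsLocalization.Away.invSelf (S := Localization.Away
        (algebraMap B (AdjoinRoot (X ^ N - C ((u : B) * f₁ ^ α) : B[X])) f₁))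
        (algebraMap B (AdjoinRoot (X ^ N - C ((u : B) * f₁ ^ α) : B[X])) f₁) ^ ((i : ℕ) * α / N))) :
    Module.Finite B A ∧
      IsIntegralClosure A (AdjoinRoot (X ^ N - C ((u : B) * f₁ ^ α) : B[X]))
        (Localization.Away (algebraMap B (AdjoinRoot (X ^ N - C ((u : B) * f₁ ^ α) : B[X])) f₁)) ∧
      ∀ (Q : Ideal A) [Q.IsPrime], IsRegularLocalRing (Localization.AtPrime Q) := by
  haveI : IsNoetherianRing B := Algebra.FiniteType.isNoetherianRing k B
  haveI : IsRegularRing B := isRegularRing_iff.2 hreg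
  have hD' : IsRegularRing (B ⧸ Ideal.span ({f₁} : Set B)) := isRegularRing_iff.2 hD
  obtain ⟨g, N', α', a, b, rfl, rfl, hg, hN', ha, hab⟩ := exists_ab N α hN
  subst hA
  have hfn : f₁ ∈ nonZeroDivisors B := mem_nonZeroDivisors_of_ne_zero hf₁
  have hNB : IsUnit (((g * N' : ℕ) : ℕ) : B) := by
    have := hNk.map (algebraMap k B)
    rwa [map_natCast] at this
  rw [Nat.cast_mul] at hNB
  have hgu : IsUnit ((g : ℕ) : B) := isUnit_of_mul_isUnit_left hNB
  have hN'u : IsUnit ((N' : ℕ) : B) := isUnit_of_mul_isUnit_right hNB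
  let e := equivA u f₁ α' a b hg hN' hab hfn ha hN
  haveI hCreg : IsRegularRing (CC u f₁ g N' a) :=
    isRegularRing_CC u f₁ a hg hN' hgu hN'u hf₁ hD'
  haveI hAreg := IsRegularRing.of_ringEquiv e.toRingEquiv
  haveI hCfin : Module.Finite B (CC u f₁ g N' a) := finite_CC hg hN'
  haveI hfin := Module.Finite.equiv e.toLinearEquiv
  haveI : Module.Finite B (AP u f₁ (g * N') (g * α')) :=
    (monic_X_pow_sub_C _ hN.ne').finite_adjoinRoot
  refine ⟨hfin, ?_, fun Q _ => IsRegularRing.isRegularLocalRing_localization Q⟩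
  exact isIntegralClosure_aux (A' := AP u f₁ (g * N') (g * α')) f₁ _
    (algebraMap_mem_gens u f₁ (g * α') hN)
    (fun Q _ => IsRegularRing.isRegularLocalRing_localization Q)

end
end Groth.Agent.Lib.Helper4.CycCov3
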