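import Mathlib
import Groth.Prelude.Def_Cyc
import Groth.Agent.Lib.Helper4.CurveTop1

/-!
# Equal delta at generic points => dominant lft morphism generically finite (helper4)
-/

set_option backward.isDefEq.respectTransparency.types false
set_option synthInstance.maxHeartbeats 400000
set_option autoImplicit false
set_option linter.unusedSectionVars false
set_option linter.style.haveILetI false
set_option linter.unusedSimpArgs false
universe u v w
open CategoryTheory CategoryTheory.Limits AlgebraicGeometry TopologicalSpace IsLocalRing

namespace Groth.Agent.Lib.Helper4.CycGenFinite1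

/-- residue field maps of morphisms locally of finite type are essentially of finite type. -/
theorem residueFieldMap_essFiniteType {X Y : Scheme.{u}} (f : X ⟶ Y) [LocallyOfFiniteType f]
    (x : X) : (f.residueFieldMap x).hom.EssFiniteType := by
  have h1 : (f.stalkMap x).hom.EssFiniteType := LocallyOfFiniteType.stalkMap f x
  have h2 : (X.residue x).hom.EssFiniteType :=
    RingHom.FiniteType.essFiniteType
      (RingHom.FiniteType.of_surjective _ IsLocalRing.residue_surjective)
  have h3 := RingHom.EssFiniteType.comp h1 h2
  rw [← CommRingCat.hom_comp, ← Scheme.residue_residueFieldMap, CommRingCat.hom_comp] at h3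
  exact RingHom.EssFiniteType.of_comp _ h3

theorem S1862_main (X Y : Scheme.{u}) [IsIntegral X] [IsIntegral Y] (δX : X → ℤ) (δY : Y → ℤ)
    (f : X ⟶ Y) [LocallyOfFiniteType f] (hδ : Cyc.DeltaCompat f δX δY)
    (heq : δX (genericPoint X) = δY (genericPoint Y)) :
    ¬ Dense (Set.range f) ∨ (f (genericPoint X) = genericPoint Y ∧
      (f.residueFieldMap (genericPoint X)).hom.Finite) := by
  by_cases hd : Dense (Set.range f)
  · right
    haveI : IsDominant f := ⟨hd⟩
    have hgen := Groth.Agent.Lib.Helper4.CurveTop1.map_genericPoint_of_isDominant f
    refine ⟨hgen, ?_⟩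
    obtain ⟨n, hn, hn2⟩ := hδ (genericPoint X)
    rw [hgen, heq] at hn2
    have hn0 : n = 0 := by omega
    subst hn0
    have hess := residueFieldMap_essFiniteType f (genericPoint X)
    letI := (f.residueFieldMap (genericPoint X)).hom.toAlgebra
    haveI : Algebra.EssFiniteType (Y.residueField (f (genericPoint X)))
      (X.residueField (genericPoint X)) := hess
    haveI : Algebra.IsAlgebraic (Y.residueField (f (genericPoint X)))
      (X.residueField (genericPoint X)) := by
      rw [← _root_.trdeg_eq_zero_iff]
      simpa using hn
    exact Algebra.finite_of_essFiniteType_of_isAlgebraic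
  · left; exact hd

end Groth.Agent.Lib.Helper4.CycGenFinite1
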