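import Mathlib
import Groth.Agent.Lib.Helper6.DVRFib.Sch

/-!
# Flatness over a discrete valuation ring from a reduced closed fibre and liftability of generizations (EGA IV 15.2.2 over a DVR) (helper4) (helper4)
-/

set_option backward.isDefEq.respectTransparency.types false
set_option synthInstance.maxHeartbeats 400000
set_option autoImplicit false
set_option linter.unusedSectionVars false
set_option linter.style.haveILetI false
set_option linter.unusedSimpArgs false
universe u v w
open CategoryTheory CategoryTheory.Limits AlgebraicGeometry TopologicalSpace Topology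

namespace Groth.Agent.Lib.Helper4.DVRFlat1

/-- If `(ϖ)` is a radical ideal of a Noetherian ring and every prime containing `ϖ` contains a
prime not containing `ϖ`, then `ϖ` is a nonzerodivisor. -/
theorem mem_nonZeroDivisors_of_isRadical {B : Type*} [CommRing B] [IsNoetherianRing B] (ϖ : B)
    (hrad : (Ideal.span {ϖ}).IsRadical)
    (hgen : ∀ q : Ideal B, q.IsPrime → ϖ ∈ q → ∃ q' : Ideal B, q'.IsPrime ∧ q' ≤ q ∧ ϖ ∉ q') :
    ϖ ∈ nonZeroDivisors B := by
  -- Step 1
  have h1 : ∀ (a : B) (n : ℕ), ϖ ^ n * a = 0 → a ∈ Ideal.span {ϖ} := by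
    intro a n han
    rw [← hrad.radical, Ideal.radical_eq_sInf, Ideal.mem_sInf]
    rintro q ⟨hq, hqp⟩
    have hϖq : ϖ ∈ q := hq (Ideal.mem_span_singleton_self ϖ)
    obtain ⟨q', hq'p, hq'q, hϖq'⟩ := hgen q hqp hϖq
    have h0 : ϖ ^ n * a ∈ q' := by rw [han]; exact q'.zero_mem
    rcases hq'p.mem_or_mem h0 with h | h
    · exact absurd (hq'p.mem_of_pow_mem n h) hϖq'
    · exact hq'q h
  -- Step 2
  let K : ℕ →o Submodule B B :=
    ⟨fun n => LinearMap.ker (LinearMap.mulLeft B (ϖ ^ n)), by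
      intro n m hnm a ha
      rw [LinearMap.mem_ker, LinearMap.mulLeft_apply] at ha ⊢
      obtain ⟨k, rfl⟩ := Nat.exists_eq_add_of_le hnm
      rw [pow_add, mul_comm (ϖ ^ n), mul_assoc, ha, mul_zero]⟩
  have hK : ∀ n a, a ∈ K n ↔ ϖ ^ n * a = 0 := by
    intro n a
    show a ∈ LinearMap.ker (LinearMap.mulLeft B (ϖ ^ n)) ↔ _
    rw [LinearMap.mem_ker, LinearMap.mulLeft_apply]
  obtain ⟨N, hN⟩ := monotone_stabilizes_iff_noetherian.mpr (inferInstance : IsNoetherian B B) K
  -- Step 3
  have h3 : ∀ a, a ∈ K N → a = 0 := by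
    intro a ha
    have key : ∀ j : ℕ, ∃ b, b ∈ K N ∧ a = ϖ ^ j * b := by
      intro j
      induction j with
      | zero => exact ⟨a, ha, by simp⟩
      | succ j ih =>
        obtain ⟨b, hb, hab⟩ := ih
        have hb' : b ∈ Ideal.span {ϖ} := h1 b N ((hK N b).mp hb)
        obtain ⟨c, rfl⟩ := Ideal.mem_span_singleton'.mp hb'
        refine ⟨c, ?_, ?_⟩
        · rw [hN (N + 1) (Nat.le_succ N), hK]
          have := (hK N _).mp hb
          rw [pow_succ, mul_assoc, mul_comm ϖ c]
          exact this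
        · rw [hab, pow_succ, mul_assoc, mul_comm ϖ c]
    obtain ⟨b, hb, hab⟩ := key N
    rw [hab]
    exact (hK N b).mp hb
  -- Step 4
  rw [mem_nonZeroDivisors_iff_right]
  intro a ha
  apply h3
  have h4 : a ∈ K 1 := by
    rw [hK, pow_one, mul_comm]; exact ha
  by_cases hN0 : 1 ≤ N
  · exact K.monotone hN0 h4
  · have : N ≤ 1 := by omega
    rw [hN 1 this]
    exact h4

/-- chart version of the flatness criterion -/
theorem flat_chart {R : Type u} [CommRing R] [IsDomain R] [IsDiscreteValuationRing R]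
    {X : Scheme.{u}} (f : X ⟶ Spec (CommRingCat.of R)) [LocallyOfFiniteType f]
    (hred : AlgebraicGeometry.IsReduced (f.fiber (IsLocalRing.closedPoint R)))
    (hgen : ∀ ξ : X, f ξ = IsLocalRing.closedPoint R →
      ∃ z' : X, z' ⤳ ξ ∧ f z' ≠ IsLocalRing.closedPoint R)
    (B : CommRingCat.{u}) (j : Spec B ⟶ X) [IsOpenImmersion j] : Flat (j ≫ f) := by
  obtain ⟨π, hπ⟩ := IsDiscreteValuationRing.exists_irreducible R
  let ψ : CommRingCat.of R ⟶ B := Spec.preimage (j ≫ f)
  have hψ : Spec.map ψ = j ≫ f := Spec.map_preimage _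
  rw [← hψ]
  rw [HasRingHomProperty.Spec_iff (P := @Flat)]
  letI : Algebra R B := ψ.hom.toAlgebra
  show Module.Flat R B
  -- B is Noetherian
  have hft : LocallyOfFiniteType (Spec.map ψ) := by rw [hψ]; infer_instance
  have hft' : ψ.hom.FiniteType := (HasRingHomProperty.Spec_iff (P := @LocallyOfFiniteType)).mp hft
  haveI : Algebra.FiniteType R B := hft'
  haveI : IsNoetherianRing B := Algebra.FiniteType.isNoetherianRing R B
  -- the ideal `(π)` of `B` is radical
  have hmap : (IsLocalRing.maximalIdeal R).map (algebraMap R B) = Ideal.span {ψ.hom π} := by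
    rw [hπ.maximalIdeal_eq, Ideal.map_span, Set.image_singleton]
    rfl
  have hrad : (Ideal.span {ψ.hom π}).IsRadical := by
    have hg : Spec.map ψ ≫ 𝟙 (Spec (CommRingCat.of R)) = j ≫ f := by
      rw [Category.comp_id, hψ]
    have hr1 : AlgebraicGeometry.IsReduced
        (f.fiber ((𝟙 (Spec (CommRingCat.of R)) : _ ⟶ _) (IsLocalRing.closedPoint R))) := hred
    have hr2 : AlgebraicGeometry.IsReduced ((Spec.map ψ).fiber (IsLocalRing.closedPoint R)) :=
      Groth.Agent.Lib.Helper6.RedFib.isReduced_fiber_chart f j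
        (𝟙 (Spec (CommRingCat.of R))) (Spec.map ψ) hg (IsLocalRing.closedPoint R)
    have hr3 : AlgebraicGeometry.IsReduced
        ((Spec.map (CommRingCat.ofHom (algebraMap R B))).fiber
          (IsLocalRing.closedPoint R)) := hr2
    have hr4 : _root_.IsReduced ((IsLocalRing.closedPoint R).asIdeal.Fiber B) :=
      Groth.Agent.Lib.Helper6.RedFib.isReduced_fiber_ring R B (IsLocalRing.closedPoint R)
    have hr5 : _root_.IsReduced ((IsLocalRing.maximalIdeal R).Fiber B) := hr4
    intro a ha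
    obtain ⟨n, hn⟩ := ha
    rw [← hmap] at hn ⊢
    exact Groth.Agent.Lib.Helper6.DVRFib.mem_map_of_pow_mem (IsLocalRing.maximalIdeal R) a n hn
  -- points of the chart over the closed point
  have hclosed : ∀ q : PrimeSpectrum B, ψ.hom π ∈ q.asIdeal →
      (Spec.map ψ) q = IsLocalRing.closedPoint R := by
    intro q hq
    have hp : (q.asIdeal.comap ψ.hom).IsPrime := Ideal.comap_isPrime ψ.hom q.asIdeal
    have h1 : (Spec.map ψ) q = (⟨q.asIdeal.comap ψ.hom, hp⟩ : PrimeSpectrum R) := rfl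
    rw [h1]
    apply PrimeSpectrum.ext
    have hne : q.asIdeal.comap ψ.hom ≠ ⊥ := by
      intro h
      exact (Groth.Agent.Lib.Helper6.DVRFib.dvr_prime_eq_bot_iff π hπ _).mp h hq
    exact IsLocalRing.eq_maximalIdeal (hp.isMaximal hne)
  have hnotclosed : ∀ q : PrimeSpectrum B, (Spec.map ψ) q ≠ IsLocalRing.closedPoint R →
      ψ.hom π ∉ q.asIdeal := fun q hq hπq => hq (hclosed q hπq)
  have hgen' : ∀ q : Ideal B, q.IsPrime → ψ.hom π ∈ q →
      ∃ q' : Ideal B, q'.IsPrime ∧ q' ≤ q ∧ ψ.hom π ∉ q' := by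
    intro q hq hπq
    let Q : PrimeSpectrum B := ⟨q, hq⟩
    have hfQ : f (j Q) = IsLocalRing.closedPoint R := by
      rw [← Scheme.Hom.comp_apply, ← hψ]
      exact hclosed Q hπq
    obtain ⟨z', hz', hfz'⟩ := hgen (j Q) hfQ
    have hz'r : z' ∈ Set.range j := hz'.mem_open j.isOpenEmbedding.isOpen_range ⟨Q, rfl⟩
    obtain ⟨Q', rfl⟩ := hz'r
    have hsp : Q' ⤳ Q := (j.isOpenEmbedding.isInducing.specializes_iff).mp hz'
    refine ⟨Q'.asIdeal, Q'.isPrime, (PrimeSpectrum.le_iff_specializes Q' Q).mpr hsp, ?_⟩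
    apply hnotclosed Q'
    rw [hψ, Scheme.Hom.comp_apply]
    exact hfz'
  have hnzd := mem_nonZeroDivisors_of_isRadical (ψ.hom π) hrad hgen'
  -- torsion-freeness
  rw [IsDedekindDomain.flat_iff_torsion_eq_bot, eq_bot_iff]
  rintro b ⟨⟨r, hr⟩, hrb⟩
  have hr0 : r ≠ 0 := nonZeroDivisors.ne_zero hr
  obtain ⟨n, u, hru⟩ := IsDiscreteValuationRing.eq_unit_mul_pow_irreducible hr0 hπ
  have hrb' : algebraMap R B r * b = 0 := by
    rw [← Algebra.smul_def]; exact hrb
  rw [hru, map_mul, map_pow, mul_assoc] at hrb'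
  have hu : IsUnit (algebraMap R B (u : R)) := u.isUnit.map _
  have h2 : (algebraMap R B π) ^ n * b = 0 := (hu.mul_right_eq_zero).mp hrb'
  have h3 : (ψ.hom π) ^ n ∈ nonZeroDivisors B := pow_mem hnzd n
  rw [Submodule.mem_bot]
  exact (mem_nonZeroDivisors_iff_right.mp h3) b (by rw [mul_comm]; exact h2)

/-- Over a discrete valuation ring, a morphism locally of finite type with reduced closed fibre,
every point of which has a generization outside the closed fibre, is flat. -/
theorem flat_of_reduced_fibre {R : Type u} [CommRing R] [IsDomain R] [IsDiscreteValuationRing R]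
    {X : Scheme.{u}} (f : X ⟶ Spec (CommRingCat.of R)) [LocallyOfFiniteType f]
    (hred : AlgebraicGeometry.IsReduced (f.fiber (IsLocalRing.closedPoint R)))
    (hgen : ∀ ξ : X, f ξ = IsLocalRing.closedPoint R →
      ∃ z' : X, z' ⤳ ξ ∧ f z' ≠ IsLocalRing.closedPoint R) : Flat f := by
  rw [IsZariskiLocalAtSource.iff_of_openCover (P := @Flat) X.affineCover]
  intro i
  haveI : IsOpenImmersion (X.affineCover.f i) := X.affineCover.map_prop i
  have h1 := flat_chart f hred hgen Γ(X.affineCover.X i, ⊤)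
    ((X.affineCover.X i).isoSpec.inv ≫ X.affineCover.f i)
  have h2 : X.affineCover.f i ≫ f = (X.affineCover.X i).isoSpec.hom ≫
      (((X.affineCover.X i).isoSpec.inv ≫ X.affineCover.f i) ≫ f) := by simp
  rw [h2]
  infer_instance

end Groth.Agent.Lib.Helper4.DVRFlat1
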