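import Mathlib
import Groth.Agent.Lib.Helper4.DVRSec2
import Groth.Agent.Lib.Helper4.DVRFlat1

/-!
# Section components over a discrete valuation ring: the case of liftable generizations and reduced closed fibre along the component of the section (EGA IV 15.6.6) (helper4) (helper4)
-/

set_option backward.isDefEq.respectTransparency.types false
set_option synthInstance.maxHeartbeats 400000
set_option autoImplicit false
set_option linter.unusedSectionVars false
set_option linter.style.haveILetI false
set_option linter.unusedSimpArgs false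
universe u v w
open CategoryTheory CategoryTheory.Limits AlgebraicGeometry TopologicalSpace Topology
open Groth.Agent.Helper7.GeomConn Groth.Agent.Lib.Helper4.ConnHartogs1 Groth.Agent.Lib.Helper4.DVRSec1
open Groth.Agent.Lib.Helper4.DVRSec2

namespace Groth.Agent.Lib.Helper4.DVRSec3

/-- The DVR case: for a flat morphism locally of finite type to the spectrum of a discrete
valuation ring with a section, whose closed fibre is reduced along the connected component of
the section, every generization of a point of that component lies in the section components. -/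
theorem dvr_uo {R : Type u} [CommRing R] [IsDomain R] [IsDiscreteValuationRing R]
    {X : Scheme.{u}} (f : X ⟶ Spec (CommRingCat.of R)) [LocallyOfFiniteType f]
    (g : Spec (CommRingCat.of R) ⟶ X) (hg : g ≫ f = 𝟙 _)
    (s₀ : ↥(Spec (CommRingCat.of R))) (hs₀ : s₀ = IsLocalRing.closedPoint R)
    (hred : ∀ z : f.fiber s₀,
      f.fiberι _ z ∈ connectedComponentIn (f ⁻¹' {s₀}) (g s₀) →
      _root_.IsReduced ((f.fiber s₀).presheaf.stalk z))
    (hgen : ∀ ξ : X, ξ ∈ connectedComponentIn (f ⁻¹' {s₀}) (g s₀) →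
      ∃ z' : X, z' ⤳ ξ ∧ f z' ≠ s₀)
    (x x' : X) (hx : x ∈ connectedComponentIn (f ⁻¹' {s₀}) (g s₀))
    (hxx' : x' ⤳ x) : x' ∈ MoreMor.sectionComponents f g := by
  classical
  have hfg : ∀ t, f (g t) = t := fun t => by
    rw [← Scheme.Hom.comp_apply, hg]; rfl
  have hcl : IsClosed ({s₀} : Set ↥(Spec (CommRingCat.of R))) := by
    rw [hs₀]
    exact IsLocalRing.isClosed_singleton_closedPoint R
  have hF₀ : IsClosed (f ⁻¹' {s₀}) := hcl.preimage f.continuous
  by_cases hfx' : f x' = s₀
  · unfold MoreMor.sectionComponents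
    rw [Set.mem_ofPred_eq, hfx']
    exact mem_connectedComponentIn_of_specializes _ hF₀ _ x x' hx hfx' hxx'
  · obtain ⟨η₀, hη₀⟩ : ∃ η₀ : ↥(Spec (CommRingCat.of R)),
        η₀ = (⟨⊥, Ideal.isPrime_bot⟩ : PrimeSpectrum R) := ⟨_, rfl⟩
    have hη : f x' = η₀ := by
      rw [hη₀]
      exact eq_generic_of_ne_closedPoint _ (by rw [← hs₀]; exact hfx')
    haveI : IsLocallyNoetherian X := LocallyOfFiniteType.isLocallyNoetherian f
    -- the open complement of the other components of the closed fibre
    have hD : IsClosed (f ⁻¹' {s₀} \ connectedComponentIn (f ⁻¹' {s₀}) (g s₀)) :=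
      isClosed_fibre_diff_connectedComponentIn f _ hcl _ (hfg _)
    let U₂ : X.Opens := ⟨(f ⁻¹' {s₀} \ connectedComponentIn (f ⁻¹' {s₀}) (g s₀))ᶜ,
      hD.isOpen_compl⟩
    have hU₂K : ∀ w, w ∈ connectedComponentIn (f ⁻¹' {s₀}) (g s₀) → w ∈ U₂ :=
      fun w hw hw' => hw'.2 hw
    have hU₂η : ∀ w, f w ≠ s₀ → w ∈ U₂ := fun w hw hw' => hw hw'.1
    have hU₂F : ∀ w, w ∈ U₂ → f w = s₀ → w ∈ connectedComponentIn (f ⁻¹' {s₀}) (g s₀) := by
      intro w hw hfw
      by_contra h
      exact hw ⟨hfw, h⟩
    have hgU₂ : ∀ t, g t ∈ U₂ := by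
      intro t
      by_cases ht : t = s₀
      · rw [ht]
        exact hU₂K _ (mem_connectedComponentIn (hfg _))
      · exact hU₂η _ (by rw [hfg]; exact ht)
    -- the connected component of the section in `U₂`
    haveI : IsLocallyNoetherian (U₂ : Scheme.{u}) := inferInstance
    haveI : LocallyConnectedSpace ↥U₂ :=
      locallyConnectedSpace_of_isLocallyNoetherian (U₂ : Scheme.{u})
    let p₀ : ↥U₂ := ⟨g s₀, hgU₂ _⟩
    have hCopen : IsOpen (connectedComponent p₀) := isOpen_connectedComponent
    let C' : X.Opens := ⟨Subtype.val '' connectedComponent p₀,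
      U₂.isOpen.isOpenMap_subtype_val _ hCopen⟩
    have hC'U₂ : ∀ w, w ∈ C' → w ∈ U₂ := by
      rintro _ ⟨w, -, rfl⟩
      exact w.2
    have hC'conn : _root_.IsConnected (C' : Set X) :=
      isConnected_connectedComponent.image _ continuous_subtype_val.continuousOn
    haveI : ConnectedSpace ↥(C' : Scheme.{u}) := isConnected_iff_connectedSpace.mp hC'conn
    have hι : ∀ w' : ↥(C' : Scheme.{u}), C'.ι w' ∈ C' := fun w' => w'.2
    -- `K₀ ⊆ C'`
    have hKC' : ∀ w, w ∈ connectedComponentIn (f ⁻¹' {s₀}) (g s₀) → w ∈ C' := by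
      intro w hw
      have hpre : _root_.IsPreconnected ((Subtype.val : ↥U₂ → X) ⁻¹'
          connectedComponentIn (f ⁻¹' {s₀}) (g s₀)) := by
        have himg : (Subtype.val : ↥U₂ → X) '' ((Subtype.val : ↥U₂ → X) ⁻¹'
            connectedComponentIn (f ⁻¹' {s₀}) (g s₀)) =
            connectedComponentIn (f ⁻¹' {s₀}) (g s₀) := by
          ext w
          constructor
          · rintro ⟨w', hw', rfl⟩
            exact hw'
          · intro hw
            exact ⟨⟨w, hU₂K w hw⟩, hw, rfl⟩
        have hind : Topology.IsInducing (Subtype.val : ↥U₂ → X) := Topology.IsInducing.subtypeVal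
        apply (hind.isPreconnected_image).mp
        rw [himg]
        exact isPreconnected_connectedComponentIn
      have hp₀ : p₀ ∈ (Subtype.val : ↥U₂ → X) ⁻¹'
          connectedComponentIn (f ⁻¹' {s₀}) (g s₀) := mem_connectedComponentIn (hfg _)
      exact ⟨⟨w, hU₂K w hw⟩, hpre.subset_connectedComponent hp₀ hw, rfl⟩
    -- the section lies in `C'`
    have hgC' : ∀ t, g t ∈ C' := by
      intro t
      let g' : ↥(Spec (CommRingCat.of R)) → ↥U₂ := fun t => ⟨g t, hgU₂ t⟩
      have hg'c : Continuous g' := g.continuous.subtype_mk _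
      haveI : IrreducibleSpace ↥(Spec (CommRingCat.of R)) :=
        inferInstanceAs (IrreducibleSpace (PrimeSpectrum R))
      have hpre : _root_.IsPreconnected (Set.range g') := isPreconnected_range hg'c
      exact ⟨g' t, hpre.subset_connectedComponent ⟨_, rfl⟩ ⟨t, rfl⟩, rfl⟩
    -- `x'` lies in `C'`
    have hx'C' : x' ∈ C' := hxx'.mem_open C'.isOpen (hKC' x hx)
    -- apply the theorem on discrete valuation rings
    have hfib : IsPullback (f.fiberι s₀) (f.fiberToSpecResidueField s₀) f
        ((Spec (CommRingCat.of R)).fromSpecResidueField s₀) := IsPullback.of_hasPullback _ _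
    have hfib' : IsPullback ((C'.ι ≫ f).fiberι s₀) ((C'.ι ≫ f).fiberToSpecResidueField s₀)
        (C'.ι ≫ f) ((Spec (CommRingCat.of R)).fromSpecResidueField s₀) :=
      IsPullback.of_hasPullback _ _
    let j : (C'.ι ≫ f).fiber s₀ ⟶ f.fiber s₀ :=
      hfib.lift ((C'.ι ≫ f).fiberι _ ≫ C'.ι) ((C'.ι ≫ f).fiberToSpecResidueField _)
        (by rw [Category.assoc]; exact hfib'.w)
    have hj1 : j ≫ f.fiberι _ = (C'.ι ≫ f).fiberι _ ≫ C'.ι := hfib.lift_fst _ _ _
    have hj2 : j ≫ f.fiberToSpecResidueField _ = (C'.ι ≫ f).fiberToSpecResidueField _ :=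
      hfib.lift_snd _ _ _
    have hsq : IsPullback ((C'.ι ≫ f).fiberι s₀) j C'.ι (f.fiberι s₀) := by
      refine IsPullback.of_bot ?_ hj1.symm hfib
      rw [hj2]
      exact hfib'
    haveI : IsOpenImmersion j :=
      MorphismProperty.of_isPullback (P := @IsOpenImmersion) hsq inferInstance
    have hredC : IsReduced ((C'.ι ≫ f).fiber s₀) := by
      haveI : ∀ z : ((C'.ι ≫ f).fiber s₀),
          _root_.IsReduced (((C'.ι ≫ f).fiber s₀).presheaf.stalk z) := by
        intro z
        have hz : f.fiberι _ (j z) ∈ connectedComponentIn (f ⁻¹' {s₀}) (g s₀) := by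
          rw [← Scheme.Hom.comp_apply, hj1, Scheme.Hom.comp_apply]
          apply hU₂F
          · exact hC'U₂ _ (hι _)
          · have := Groth.Agent.Helper7.NearGen.base_fiberι (C'.ι ≫ f) _ z
            rwa [Scheme.Hom.comp_apply] at this
        haveI := hred (j z) hz
        exact isReduced_of_injective (inv (j.stalkMap z)).hom
          ((ConcreteCategory.bijective_of_isIso (inv (j.stalkMap z))).injective)
      exact isReduced_of_isReduced_stalk _
    haveI : Flat (C'.ι ≫ f) := by
      subst hs₀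
      refine Groth.Agent.Lib.Helper4.DVRFlat1.flat_of_reduced_fibre (C'.ι ≫ f) hredC ?_
      intro ξ hξ
      have hξK : C'.ι ξ ∈ connectedComponentIn (f ⁻¹' {IsLocalRing.closedPoint R})
          (g (IsLocalRing.closedPoint R)) := by
        apply hU₂F _ (hC'U₂ _ (hι ξ))
        rw [← Scheme.Hom.comp_apply]
        exact hξ
      obtain ⟨z', hz', hfz'⟩ := hgen _ hξK
      have hz'C : z' ∈ C' := hz'.mem_open C'.isOpen (hι ξ)
      refine ⟨⟨z', hz'C⟩, ?_, ?_⟩
      · exact (C'.ι.isOpenEmbedding.isInducing.specializes_iff).mp hz'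
      · rw [Scheme.Hom.comp_apply]
        exact hfz'
    haveI hconnη : ConnectedSpace ↥((C'.ι ≫ f).fiber η₀) := by
      subst hs₀ hη₀
      exact Groth.Agent.S0421.result (C'.ι ≫ f) hredC
    -- conclude
    have hA : _root_.IsPreconnected (Set.range ((C'.ι ≫ f).fiberι η₀ ≫ C'.ι)) :=
      isPreconnected_range (Scheme.Hom.continuous _)
    have hAmem : ∀ w : X, w ∈ C' → f w = η₀ →
        w ∈ Set.range ((C'.ι ≫ f).fiberι η₀ ≫ C'.ι) := by
      intro w hw hfw
      obtain ⟨z, hz⟩ := Groth.Agent.Helper7.NearGen.exists_fiberι_eq (C'.ι ≫ f) η₀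
        (⟨w, hw⟩ : ↥(C' : Scheme.{u})) (by rw [Scheme.Hom.comp_apply]; exact hfw)
      exact ⟨z, by rw [Scheme.Hom.comp_apply, hz]; rfl⟩
    have hAsub : Set.range ((C'.ι ≫ f).fiberι η₀ ≫ C'.ι) ⊆ f ⁻¹' {η₀} := by
      rintro _ ⟨z, rfl⟩
      have := Groth.Agent.Helper7.NearGen.base_fiberι (C'.ι ≫ f) _ z
      rw [Scheme.Hom.comp_apply] at this
      rw [Scheme.Hom.comp_apply]
      exact this
    unfold MoreMor.sectionComponents
    rw [Set.mem_ofPred_eq, hη]
    exact hA.subset_connectedComponentIn (hAmem _ (hgC' _) (hfg _)) hAsub (hAmem _ hx'C' hη)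


end Groth.Agent.Lib.Helper4.DVRSec3
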