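import Mathlib
import Groth.Prelude.Def_W4c5adicflatcomplDec

/-!
# Adically decaying functions: toolkit (helper4)
-/

set_option backward.isDefEq.respectTransparency.types false
set_option synthInstance.maxHeartbeats 400000
set_option autoImplicit false
set_option linter.unusedSectionVars false
set_option linter.style.haveILetI false
set_option linter.unusedSimpArgs false
universe u v w

namespace Groth.Agent.Lib.Helper4.Decaying
open W4c5adicflatcompl

lemma map_smul_top_le {A : Type*} [CommRing A] {M N : Type*} [AddCommGroup M] [Module A M]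
    [AddCommGroup N] [Module A N] (φ : M →ₗ[A] N) (J : Ideal A)
    {x : M} (hx : x ∈ (J • ⊤ : Submodule A M)) : φ x ∈ (J • ⊤ : Submodule A N) := by
  have h1 : φ x ∈ Submodule.map φ (J • ⊤ : Submodule A M) := Submodule.mem_map_of_mem hx
  rw [Submodule.map_smul''] at h1
  exact Submodule.smul_mono le_rfl le_top h1

lemma pow_smul_top_anti {A : Type*} [CommRing A] (I : Ideal A) (M : Type*) [AddCommGroup M]
    [Module A M] {m n : ℕ} (h : m ≤ n) :
    (I ^ n • ⊤ : Submodule A M) ≤ I ^ m • ⊤ :=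
  Submodule.smul_mono_left (Ideal.pow_le_pow_right h)

section
variable {A : Type u} [CommRing A] (I : Ideal A) (Z : Type v) (M : Type w)
  [AddCommGroup M] [Module A M]

/-- evaluation at `z` -/
def ev (z : Z) : decaying I Z M →ₗ[A] M := (LinearMap.proj z).comp (decaying I Z M).subtype

@[simp] lemma ev_apply (z : Z) (f : decaying I Z M) : ev I Z M z f = (f : Z → M) z := rfl

theorem isHausdorff_decaying [IsHausdorff I M] : IsHausdorff I (decaying I Z M) := by
  refine ⟨fun x hx => ?_⟩
  apply Subtype.ext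
  funext z
  apply IsHausdorff.haus (I := I) ‹_›
  intro n
  rw [SModEq.zero]
  have h1 := hx n
  rw [SModEq.zero] at h1
  exact map_smul_top_le (ev I Z M z) (I ^ n) h1

variable {I Z M}

/-- the finite "bad set" of a decaying function at level `n` -/
noncomputable def badSet {f : Z → M} (hf : f ∈ decaying I Z M) (n : ℕ) : Finset Z :=
  (hf n).toFinset

lemma mem_badSet {f : Z → M} (hf : f ∈ decaying I Z M) (n : ℕ) (z : Z) :
    z ∈ badSet hf n ↔ f z ∉ (I ^ n • ⊤ : Submodule A M) := by
  simp [badSet]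

lemma badSet_mono {f : Z → M} (hf : f ∈ decaying I Z M) {m n : ℕ} (h : m ≤ n) :
    badSet hf m ⊆ badSet hf n := by
  intro z hz
  rw [mem_badSet] at hz ⊢
  exact fun h' => hz (pow_smul_top_anti I M h h')

/-- if `S ⊆ S'` and outside `S` all values are in `I^n M`, partial sums agree mod `I^n M`. -/
lemma sum_sub_sum_mem {f : Z → M} {n : ℕ} {S S' : Finset Z} (hSS' : S ⊆ S')
    (hS : ∀ z, z ∉ S → f z ∈ (I ^ n • ⊤ : Submodule A M)) :
    (∑ z ∈ S', f z) - (∑ z ∈ S, f z) ∈ (I ^ n • ⊤ : Submodule A M) := by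
  classical
  rw [← Finset.sum_sdiff hSS', add_sub_cancel_right]
  apply Submodule.sum_mem
  intro z hz
  exact hS z (Finset.mem_sdiff.mp hz).2

/-- `m` is an adic sum of `f` -/
def IsAdicSum (I : Ideal A) (f : Z → M) (m : M) : Prop :=
  ∀ n : ℕ, ∃ S : Finset Z,
    (∀ z, z ∉ S → f z ∈ (I ^ n • ⊤ : Submodule A M)) ∧
      m - (∑ z ∈ S, f z) ∈ (I ^ n • ⊤ : Submodule A M)

/-- in an adic sum the finite sets may be enlarged -/
lemma IsAdicSum.of_superset {f : Z → M} {m : M} (h : IsAdicSum I f m) (n : ℕ) :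
    ∃ S : Finset Z, ∀ S' : Finset Z, S ⊆ S' →
      (∀ z, z ∉ S' → f z ∈ (I ^ n • ⊤ : Submodule A M)) ∧
        m - (∑ z ∈ S', f z) ∈ (I ^ n • ⊤ : Submodule A M) := by
  obtain ⟨S, hS, hm⟩ := h n
  refine ⟨S, fun S' hSS' => ⟨fun z hz => hS z (fun h' => hz (hSS' h')), ?_⟩⟩
  have := sum_sub_sum_mem hSS' hS
  have h2 : m - ∑ z ∈ S', f z = (m - ∑ z ∈ S, f z) - ((∑ z ∈ S', f z) - (∑ z ∈ S, f z)) := by abel
  rw [h2]
  exact Submodule.sub_mem _ hm this

lemma IsAdicSum.decaying {f : Z → M} {m : M} (h : IsAdicSum I f m) : f ∈ decaying I Z M := by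
  intro n
  obtain ⟨S, hS, -⟩ := h n
  refine S.finite_toSet.subset ?_
  intro z hz
  by_contra h'
  exact hz (hS z h')

lemma IsAdicSum.unique [IsHausdorff I M] {f : Z → M} {m m' : M} (h : IsAdicSum I f m)
    (h' : IsAdicSum I f m') : m = m' := by
  classical
  rw [IsHausdorff.eq_iff_smodEq (I := I)]
  intro n
  obtain ⟨S, hS⟩ := h.of_superset n
  obtain ⟨S', hS'⟩ := h'.of_superset n
  have h1 := (hS (S ∪ S') Finset.subset_union_left).2
  have h2 := (hS' (S ∪ S') Finset.subset_union_right).2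
  rw [SModEq.sub_mem]
  have : m - m' = (m - ∑ z ∈ S ∪ S', f z) - (m' - ∑ z ∈ S ∪ S', f z) := by abel
  rw [this]
  exact Submodule.sub_mem _ h1 h2

lemma IsAdicSum.add {f g : Z → M} {m m' : M} (h : IsAdicSum I f m) (h' : IsAdicSum I g m') :
    IsAdicSum I (f + g) (m + m') := by
  classical
  intro n
  obtain ⟨S, hS⟩ := h.of_superset n
  obtain ⟨S', hS'⟩ := h'.of_superset n
  have h1 := (hS (S ∪ S') Finset.subset_union_left)
  have h2 := (hS' (S ∪ S') Finset.subset_union_right)
  refine ⟨S ∪ S', fun z hz => Submodule.add_mem _ (h1.1 z hz) (h2.1 z hz), ?_⟩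
  have : m + m' - ∑ z ∈ S ∪ S', (f + g) z =
      (m - ∑ z ∈ S ∪ S', f z) + (m' - ∑ z ∈ S ∪ S', g z) := by
    simp only [Pi.add_apply, Finset.sum_add_distrib]; abel
  rw [this]
  exact Submodule.add_mem _ h1.2 h2.2

lemma IsAdicSum.smul {f : Z → M} {m : M} (h : IsAdicSum I f m) (a : A) :
    IsAdicSum I (a • f) (a • m) := by
  intro n
  obtain ⟨S, hS, hm⟩ := h n
  refine ⟨S, fun z hz => Submodule.smul_mem _ a (hS z hz), ?_⟩
  have : a • m - ∑ z ∈ S, (a • f) z = a • (m - ∑ z ∈ S, f z) := by
    simp only [Pi.smul_apply, smul_sub, Finset.smul_sum]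
  rw [this]
  exact Submodule.smul_mem _ a hm

/-- existence of adic sums in precomplete modules -/
lemma exists_isAdicSum [IsPrecomplete I M] {f : Z → M} (hf : f ∈ decaying I Z M) :
    ∃ m, IsAdicSum I f m := by
  classical
  let s : ℕ → M := fun n => ∑ z ∈ badSet hf n, f z
  have hs : ∀ {m n}, m ≤ n → s m ≡ s n [SMOD (I ^ m • ⊤ : Submodule A M)] := by
    intro m n hmn
    rw [SModEq.comm, SModEq.sub_mem]
    apply sum_sub_sum_mem (badSet_mono hf hmn)
    intro z hz
    rw [mem_badSet, not_not] at hz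
    exact hz
  obtain ⟨L, hL⟩ := IsPrecomplete.prec ‹_› hs
  refine ⟨L, fun n => ⟨badSet hf n, ?_, ?_⟩⟩
  · intro z hz
    rw [mem_badSet, not_not] at hz
    exact hz
  · have := hL n
    rw [SModEq.comm, SModEq.sub_mem] at this
    exact this

/-- S19708 -/
theorem S19708_main (I : Ideal A) (Z : Type v)
    (M : Type w) [AddCommGroup M] [Module A M] [IsAdicComplete I M] (f : Z → M) :
    f ∈ decaying I Z M ↔ ∃ m : M, ∀ n : ℕ, ∃ S : Finset Z,
      (∀ z, z ∉ S → f z ∈ (I ^ n • ⊤ : Submodule A M)) ∧ m - (∑ z ∈ S, f z) ∈ (I ^ n • ⊤ : Submodule A M) :=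
  ⟨fun hf => exists_isAdicSum hf, fun ⟨_, hm⟩ => IsAdicSum.decaying hm⟩

/-- the adic sum as a linear map -/
noncomputable def adicSum (I : Ideal A) (Z : Type v) (M : Type w) [AddCommGroup M] [Module A M]
    [IsAdicComplete I M] : decaying I Z M →ₗ[A] M where
  toFun f := (exists_isAdicSum f.2).choose
  map_add' f g := by
    have h1 := (exists_isAdicSum f.2).choose_spec
    have h2 := (exists_isAdicSum g.2).choose_spec
    have h3 := (exists_isAdicSum (f + g).2).choose_spec
    exact h3.unique (h1.add h2)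
  map_smul' a f := by
    have h1 := (exists_isAdicSum f.2).choose_spec
    have h3 := (exists_isAdicSum (a • f).2).choose_spec
    exact h3.unique (h1.smul a)

lemma adicSum_spec [IsAdicComplete I M] (f : decaying I Z M) :
    IsAdicSum I (f : Z → M) (adicSum I Z M f) :=
  (exists_isAdicSum f.2).choose_spec

lemma exists_decomp {r : ℕ} (i : Fin r → A) (J : Ideal A) (hJ : Ideal.span (Set.range i) = J)
    (N : Submodule A M) {x : M} (hx : x ∈ J • N) :
    ∃ h : Fin r → M, (∀ j, h j ∈ N) ∧ x = ∑ j, i j • h j := by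
  refine Submodule.smul_induction_on hx ?_ ?_
  · intro a ha y hy
    rw [← hJ, Ideal.mem_span_range_iff_exists_fun] at ha
    obtain ⟨c, rfl⟩ := ha
    refine ⟨fun j => c j • y, fun j => N.smul_mem _ hy, ?_⟩
    rw [Finset.sum_smul]
    refine Finset.sum_congr rfl fun j _ => ?_
    rw [smul_smul, mul_comm]
  · rintro x y ⟨h, hh, rfl⟩ ⟨h', hh', rfl⟩
    refine ⟨h + h', fun j => N.add_mem (hh j) (hh' j), ?_⟩
    simp only [Pi.add_apply, smul_add, Finset.sum_add_distrib]

lemma exists_decomp_opt [IsHausdorff I M] {r : ℕ} (i : Fin r → A) (n : ℕ)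
    (hJ : Ideal.span (Set.range i) = I ^ n) {x : M} (hx : x ∈ (I ^ n • ⊤ : Submodule A M)) :
    ∃ h : Fin r → M, x = ∑ j, i j • h j ∧
      ∀ k, x ∈ (I ^ (n + k) • ⊤ : Submodule A M) → ∀ j, h j ∈ (I ^ k • ⊤ : Submodule A M) := by
  classical
  by_cases hex : ∃ k, x ∉ (I ^ (n + k) • ⊤ : Submodule A M)
  · have hk1 := Nat.find_spec hex
    have hk1min := fun m => Nat.find_min hex (m := m)
    set k₁ := Nat.find hex with hk₁
    have hk1ne : k₁ ≠ 0 := by
      intro h0
      rw [h0] at hk1
      exact hk1 (by simpa using hx)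
    obtain ⟨k₀, hk₀⟩ := Nat.exists_eq_succ_of_ne_zero hk1ne
    have hxk₀ : x ∈ (I ^ (n + k₀) • ⊤ : Submodule A M) := by
      have := hk1min k₀ (by omega)
      rwa [not_not] at this
    rw [pow_add, Submodule.mul_smul] at hxk₀
    obtain ⟨h, hh, hxh⟩ := exists_decomp i (I ^ n) hJ _ hxk₀
    refine ⟨h, hxh, fun k hk j => ?_⟩
    have hkk : k ≤ k₀ := by
      by_contra hlt
      push Not at hlt
      have : k₁ ≤ k := by omega
      exact hk1 (pow_smul_top_anti I M (by omega) hk)
    exact pow_smul_top_anti I M hkk (hh j)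
  · push Not at hex
    have hx0 : x = 0 := by
      apply IsHausdorff.haus (I := I) ‹_›
      intro m
      rw [SModEq.zero]
      exact pow_smul_top_anti I M (by omega) (hex m)
    refine ⟨fun _ => 0, by simp [hx0], fun k _ j => Submodule.zero_mem _⟩

theorem mem_pow_smul_top_decaying (hI : I.FG) [IsHausdorff I M] (n : ℕ) (f : decaying I Z M)
    (hf : ∀ z, (f : Z → M) z ∈ (I ^ n • ⊤ : Submodule A M)) :
    f ∈ (I ^ n • ⊤ : Submodule A (decaying I Z M)) := by
  have hIn : (I ^ n).FG := hI.pow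
  obtain ⟨r, i, hi⟩ := Submodule.fg_iff_exists_fin_generating_family.mp hIn
  have hi' : Ideal.span (Set.range i) = I ^ n := hi
  choose h hsum hmem using fun z => exists_decomp_opt i n hi' (hf z)
  have hdec : ∀ j, (fun z => h z j) ∈ decaying I Z M := by
    intro j m
    refine (f.2 (n + m)).subset ?_
    intro z hz
    by_contra h'
    simp only [Set.mem_ofPred_eq, not_not] at h'
    exact hz (hmem z m h' j)
  have hf_eq : f = ∑ j, i j • (⟨fun z => h z j, hdec j⟩ : decaying I Z M) := by
    apply Subtype.ext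
    funext z
    rw [hsum z]
    simp only [Submodule.coe_sum, Submodule.coe_smul, Finset.sum_apply, Pi.smul_apply]
  rw [hf_eq]
  apply Submodule.sum_mem
  intro j _
  apply Submodule.smul_mem_smul _ Submodule.mem_top
  rw [← hi']
  exact Ideal.subset_span (Set.mem_range_self j)

theorem mem_pow_smul_top_decaying_iff (hI : I.FG) [IsHausdorff I M] (n : ℕ) (f : decaying I Z M) :
    f ∈ (I ^ n • ⊤ : Submodule A (decaying I Z M)) ↔
      ∀ z, (f : Z → M) z ∈ (I ^ n • ⊤ : Submodule A M) :=
  ⟨fun h z => map_smul_top_le (ev I Z M z) (I ^ n) h, mem_pow_smul_top_decaying hI n f⟩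

theorem isAdicComplete_decaying (hI : I.FG) [IsAdicComplete I M] :
    IsAdicComplete I (decaying I Z M) := by
  haveI : IsHausdorff I (decaying I Z M) := isHausdorff_decaying I Z M
  refine { toIsHausdorff := this, toIsPrecomplete := ⟨fun F hF => ?_⟩ }
  have hFz : ∀ z, ∀ {m n}, m ≤ n →
      ((F m : decaying I Z M) : Z → M) z ≡ ((F n : decaying I Z M) : Z → M) z
        [SMOD (I ^ m • ⊤ : Submodule A M)] := by
    intro z m n hmn
    have h1 := hF hmn
    rw [SModEq.sub_mem] at h1 ⊢
    exact map_smul_top_le (ev I Z M z) (I ^ m) h1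
  choose L hL using fun z => IsPrecomplete.prec (I := I) (M := M) inferInstance (hFz z)
  have hLdec : L ∈ decaying I Z M := by
    intro n
    refine ((F n).2 n).subset ?_
    intro z hz
    by_contra h'
    simp only [Set.mem_ofPred_eq, not_not] at h'
    apply hz
    have := hL z n
    rw [SModEq.sub_mem] at this
    have h2 : L z = (F n : Z → M) z - ((F n : Z → M) z - L z) := by abel
    rw [h2]
    exact Submodule.sub_mem _ h' this
  refine ⟨⟨L, hLdec⟩, fun n => ?_⟩
  rw [SModEq.sub_mem]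
  apply mem_pow_smul_top_decaying hI
  intro z
  have := hL z n
  rw [SModEq.sub_mem] at this
  exact this


lemma mem_smul_top_self (J : Ideal A) (a : A) : a ∈ (J • ⊤ : Submodule A A) ↔ a ∈ J := by
  simp

/-- S17544 -/
theorem S17544_main {A : Type u} [CommRing A] [IsNoetherianRing A]
    (I : Ideal A) [IsAdicComplete I A] (Z : Type v) (n : ℕ) :
    (∀ g : Z →₀ A ⧸ I ^ n, ∃ f : decaying I Z A,
        ∀ z, Ideal.Quotient.mk (I ^ n) ((f : Z → A) z) = g z) ∧
      ∀ f : decaying I Z A,
        f ∈ (I ^ n • ⊤ : Submodule A (decaying I Z A)) ↔ ∀ z, (f : Z → A) z ∈ I ^ n := by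
  classical
  refine ⟨fun g => ?_, fun f => ?_⟩
  · choose lift hlift using fun x : A ⧸ I ^ n => Ideal.Quotient.mk_surjective x
    let f : Z → A := fun z => if z ∈ g.support then lift (g z) else 0
    have hf : f ∈ decaying I Z A := by
      intro m
      refine g.support.finite_toSet.subset ?_
      intro z hz
      by_contra h'
      apply hz
      have : f z = 0 := by simp only [f]; rw [if_neg (by simpa using h')]
      rw [this]
      exact Submodule.zero_mem _
    refine ⟨⟨f, hf⟩, fun z => ?_⟩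
    show Ideal.Quotient.mk (I ^ n) (f z) = g z
    by_cases hz : z ∈ g.support
    · simp only [f]; rw [if_pos hz, hlift]
    · simp only [f]; rw [if_neg hz, map_zero]
      rw [Finsupp.mem_support_iff, not_not] at hz
      exact hz.symm
  · rw [mem_pow_smul_top_decaying_iff (IsNoetherian.noetherian I)]
    exact forall_congr' fun z => mem_smul_top_self _ _

/-- multiplying a decaying scalar family with an arbitrary family -/
def mulFam (I : Ideal A) (f : Z → M) : decaying I Z A →ₗ[A] decaying I Z M where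
  toFun g := ⟨fun z => (g : Z → A) z • f z, fun n => (g.2 n).subset fun z hz => by
    by_contra h'
    simp only [Set.mem_ofPred_eq, not_not] at h'
    apply hz
    have h1 : (g : Z → A) z ∈ I ^ n := (mem_smul_top_self _ _).mp h'
    exact Submodule.smul_mem_smul h1 Submodule.mem_top⟩
  map_add' g g' := by
    apply Subtype.ext; funext z
    simp [add_smul]
  map_smul' a g := by
    apply Subtype.ext; funext z
    simp [mul_smul]

@[simp] lemma mulFam_apply (f : Z → M) (g : decaying I Z A) (z : Z) :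
    ((mulFam I f g : decaying I Z M) : Z → M) z = (g : Z → A) z • f z := rfl

/-- S17553 -/
theorem S17553_main {A : Type u} [CommRing A] (I : Ideal A) [IsAdicComplete I A]
    (Z : Type v) (M : Type w) [AddCommGroup M] [Module A M] [IsAdicComplete I M] (f : Z → M) :
    ∃ φ : decaying I Z A →ₗ[A] M, ∀ (g : decaying I Z A) (n : ℕ), ∃ S : Finset Z,
      (∀ z, z ∉ S → (g : Z → A) z • f z ∈ (I ^ n • ⊤ : Submodule A M)) ∧
      φ g - (∑ z ∈ S, (g : Z → A) z • f z) ∈ (I ^ n • ⊤ : Submodule A M) :=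
  ⟨(adicSum I Z M).comp (mulFam I f), fun g n => adicSum_spec (mulFam I f g) n⟩

end

end Groth.Agent.Lib.Helper4.Decaying
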