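import Mathlib
import Groth.Agent.Lib.Helper4.Decaying

/-!
# Adically decaying functions II (helper4)
-/

set_option backward.isDefEq.respectTransparency.types false
set_option synthInstance.maxHeartbeats 400000
set_option autoImplicit false
set_option linter.unusedSectionVars false
set_option linter.style.haveILetI false
set_option linter.unusedSimpArgs false
universe u v w

namespace Groth.Agent.Lib.Helper4.Decaying2
open W4c5adicflatcompl Groth.Agent.Lib.Helper4.Decaying

section
variable {A : Type u} [CommRing A] {I : Ideal A} {Z : Type v} {M : Type w}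
  [AddCommGroup M] [Module A M]

/-- the maximal level of a non-zero element in a Hausdorff module -/
lemma exists_max_level [IsHausdorff I M] (x : M) :
    x = 0 ∨ ∃ k₀, x ∈ (I ^ k₀ • ⊤ : Submodule A M) ∧
      ∀ k, x ∈ (I ^ k • ⊤ : Submodule A M) → k ≤ k₀ := by
  classical
  by_cases hex : ∃ k, x ∉ (I ^ k • ⊤ : Submodule A M)
  · right
    have hk1 := Nat.find_spec hex
    have hk1min := fun m => Nat.find_min hex (m := m)
    set k₁ := Nat.find hex with hk₁
    have hk1ne : k₁ ≠ 0 := by
      intro h0
      rw [h0] at hk1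
      exact hk1 (by simp)
    obtain ⟨k₀, hk₀⟩ := Nat.exists_eq_succ_of_ne_zero hk1ne
    refine ⟨k₀, ?_, fun k hk => ?_⟩
    · have := hk1min k₀ (by omega)
      rwa [not_not] at this
    · by_contra hlt
      push Not at hlt
      exact hk1 (pow_smul_top_anti I M (by omega) hk)
  · left
    push Not at hex
    apply IsHausdorff.haus (I := I) ‹_›
    intro m
    rw [SModEq.zero]
    exact hex m

/-- S17541 -/
theorem S17541_main {A : Type u} [CommRing A] [IsNoetherianRing A] (I : Ideal A)
    [IsAdicComplete I A] (Z : Type v) (M : Type w) [AddCommGroup M] [Module A M]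
    [Module.Finite A M] (N : Submodule A M) (f : Z → N) :
    f ∈ decaying I Z N ↔ (fun z => (f z : M)) ∈ decaying I Z M := by
  constructor
  · intro hf n
    refine (hf n).subset ?_
    intro z hz h'
    exact hz (map_smul_top_le N.subtype (I ^ n) h')
  · intro hf n
    obtain ⟨k, hk⟩ := Ideal.exists_pow_inf_eq_pow_smul I N
    refine (hf (n + k)).subset ?_
    intro z hz h'
    apply hz
    rw [Submodule.mem_smul_top_iff]
    have h1 : (f z : M) ∈ (I ^ (n + k) • ⊤ ⊓ N : Submodule A M) := ⟨h', (f z).2⟩
    rw [hk (n + k) (by omega), Nat.add_sub_cancel] at h1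
    exact Submodule.smul_mono le_rfl inf_le_right h1

/-- S17542 (only needs the target Hausdorff) -/
theorem lift_decaying {M'' : Type*} [AddCommGroup M''] [Module A M''] [IsHausdorff I M'']
    (φ : M →ₗ[A] M'') (hφ : Function.Surjective φ) (g : Z → M'') (hg : g ∈ decaying I Z M'') :
    ∃ f : Z → M, f ∈ decaying I Z M ∧ ∀ z, φ (f z) = g z := by
  have key : ∀ x'' : M'', ∃ x : M, φ x = x'' ∧
      ∀ k, x'' ∈ (I ^ k • ⊤ : Submodule A M'') → x ∈ (I ^ k • ⊤ : Submodule A M) := by
    intro x''
    rcases exists_max_level (I := I) x'' with h0 | ⟨k₀, hk₀, hmax⟩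
    · exact ⟨0, by simp [h0], fun k _ => Submodule.zero_mem _⟩
    · have h1 : (I ^ k₀ • ⊤ : Submodule A M'') = Submodule.map φ (I ^ k₀ • ⊤ : Submodule A M) := by
        rw [Submodule.map_smul'', Submodule.map_top, LinearMap.range_eq_top.mpr hφ]
      rw [h1] at hk₀
      obtain ⟨x, hx, rfl⟩ := hk₀
      exact ⟨x, rfl, fun k hk => pow_smul_top_anti I M (hmax k hk) hx⟩
  choose f hf1 hf2 using key
  refine ⟨fun z => f (g z), fun n => (hg n).subset ?_, fun z => hf1 _⟩
  intro z hz h'
  exact hz (hf2 _ n h')

theorem S17542_main {A : Type u} [CommRing A] [IsNoetherianRing A] (I : Ideal A)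
    [IsAdicComplete I A] (Z : Type v) {M : Type w} {M'' : Type w} [AddCommGroup M] [Module A M]
    [Module.Finite A M] [AddCommGroup M''] [Module A M''] (φ : M →ₗ[A] M'')
    (hφ : Function.Surjective φ) (g : Z → M'') (hg : g ∈ decaying I Z M'') :
    ∃ f : Z → M, f ∈ decaying I Z M ∧ ∀ z, φ (f z) = g z := by
  haveI : Module.Finite A M'' := Module.Finite.of_surjective φ hφ
  haveI : IsHausdorff I M'' := IsHausdorff.of_le_jacobson I M'' (IsAdicComplete.le_jacobson_bot I)
  exact lift_decaying φ hφ g hg

end


section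
variable {A : Type u} [CommRing A] {I : Ideal A} {Z : Type v} {M : Type w}
  [AddCommGroup M] [Module A M]

/-- a sequence with `F k ∈ I^k M` is decaying -/
lemma seq_decaying (F : ℕ → M) (hF : ∀ k, F k ∈ (I ^ k • ⊤ : Submodule A M)) :
    F ∈ decaying I ℕ M := by
  intro n
  refine (Finset.range n).finite_toSet.subset ?_
  intro k hk
  by_contra h'
  simp only [Finset.coe_range, Set.mem_Iio, not_lt] at h'
  exact hk (pow_smul_top_anti I M h' (hF k))

lemma isAdicSum_seq {F : ℕ → M} (hF : ∀ k, F k ∈ (I ^ k • ⊤ : Submodule A M)) {s : M}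
    (hs : IsAdicSum I F s) (n : ℕ) :
    s - ∑ k ∈ Finset.range n, F k ∈ (I ^ n • ⊤ : Submodule A M) := by
  classical
  obtain ⟨S, hS⟩ := hs.of_superset n
  have h1 := (hS (S ∪ Finset.range n) Finset.subset_union_left).2
  have h2 : (∑ k ∈ S ∪ Finset.range n, F k) - ∑ k ∈ Finset.range n, F k ∈
      (I ^ n • ⊤ : Submodule A M) := by
    apply sum_sub_sum_mem Finset.subset_union_right
    intro k hk
    simp only [Finset.mem_range, not_lt] at hk
    exact pow_smul_top_anti I M hk (hF k)
  have : s - ∑ k ∈ Finset.range n, F k = (s - ∑ k ∈ S ∪ Finset.range n, F k) +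
      ((∑ k ∈ S ∪ Finset.range n, F k) - ∑ k ∈ Finset.range n, F k) := by abel
  rw [this]
  exact Submodule.add_mem _ h1 h2

lemma step_lemma (m : Z → M) (hspan : Submodule.span A (Set.range m) ⊔ I • ⊤ = ⊤) (n : ℕ)
    (x : M) (hx : x ∈ (I ^ n • ⊤ : Submodule A M)) :
    ∃ c : Z →₀ A, (∀ z, c z ∈ I ^ n) ∧
      x - c.sum (fun z a => a • m z) ∈ (I ^ (n + 1) • ⊤ : Submodule A M) := by
  have h1 : (I ^ n • ⊤ : Submodule A M) =
      I ^ n • Submodule.span A (Set.range m) ⊔ I ^ (n + 1) • ⊤ := by
    conv_lhs => rw [← hspan]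
    rw [Submodule.smul_sup, ← Submodule.mul_smul, ← pow_succ]
  rw [h1, Submodule.mem_sup] at hx
  obtain ⟨y, hy, w, hw, rfl⟩ := hx
  rw [Submodule.mem_ideal_smul_span_iff_exists_sum] at hy
  obtain ⟨c, hc, rfl⟩ := hy
  exact ⟨c, hc, by simpa using hw⟩

/-- S17540 -/
theorem S17540_main {A : Type u} [CommRing A] (I : Ideal A) [IsAdicComplete I A]
    (M : Type v) [AddCommGroup M] [Module A M] [IsAdicComplete I M] (Z : Type w) (m : Z → M) :
    Submodule.span A (Set.range m) ⊔ I • ⊤ = ⊤ ↔
      ∀ x : M, ∃ g : Z → A, g ∈ decaying I Z A ∧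
        ∀ n : ℕ, ∃ S : Finset Z,
          (∀ z, z ∉ S → g z • m z ∈ (I ^ n • ⊤ : Submodule A M)) ∧
          x - (∑ z ∈ S, g z • m z) ∈ (I ^ n • ⊤ : Submodule A M) := by
  classical
  constructor
  · intro hspan x
    -- the recursive construction
    let step : ℕ → M → (Z →₀ A) := fun n x =>
      if h : x ∈ (I ^ n • ⊤ : Submodule A M) then (step_lemma m hspan n x h).choose else 0
    have hstep1 : ∀ n x, ∀ z, step n x z ∈ I ^ n := by
      intro n x z
      by_cases h : x ∈ (I ^ n • ⊤ : Submodule A M)
      · simp only [step, dif_pos h]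
        exact (step_lemma m hspan n x h).choose_spec.1 z
      · simp only [step, dif_neg h]
        exact Submodule.zero_mem _
    have hstep2 : ∀ n x, x ∈ (I ^ n • ⊤ : Submodule A M) →
        x - (step n x).sum (fun z a => a • m z) ∈ (I ^ (n + 1) • ⊤ : Submodule A M) := by
      intro n x h
      simp only [step, dif_pos h]
      exact (step_lemma m hspan n x h).choose_spec.2
    let xs : ℕ → M := fun n => Nat.rec x (fun k xk => xk - (step k xk).sum (fun z a => a • m z)) n
    have hxs0 : xs 0 = x := rfl
    have hxsS : ∀ n, xs (n + 1) = xs n - (step n (xs n)).sum (fun z a => a • m z) := fun n => rfl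
    have hxsmem : ∀ n, xs n ∈ (I ^ n • ⊤ : Submodule A M) := by
      intro n
      induction n with
      | zero => simp
      | succ k ih => rw [hxsS]; exact hstep2 k _ ih
    let cs : ℕ → Z →₀ A := fun n => step n (xs n)
    have hcs : ∀ n z, cs n z ∈ I ^ n := fun n z => hstep1 n _ z
    have hcs' : ∀ z n, cs n z ∈ (I ^ n • ⊤ : Submodule A A) := fun z n =>
      (mem_smul_top_self _ _).mpr (hcs n z)
    -- the coefficient function
    let G : Z → decaying I ℕ A := fun z => ⟨fun k => cs k z, seq_decaying _ (hcs' z)⟩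
    let g : Z → A := fun z => adicSum I ℕ A (G z)
    have hg : ∀ z n, g z - ∑ k ∈ Finset.range n, cs k z ∈ I ^ n := by
      intro z n
      have := isAdicSum_seq (hcs' z) (adicSum_spec (G z)) n
      exact (mem_smul_top_self _ _).mp this
    let S : ℕ → Finset Z := fun n => (Finset.range n).biUnion fun k => (cs k).support
    have hgS : ∀ n z, z ∉ S n → g z ∈ I ^ n := by
      intro n z hz
      have h0 : ∑ k ∈ Finset.range n, cs k z = 0 := by
        apply Finset.sum_eq_zero
        intro k hk
        by_contra hne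
        exact hz (Finset.mem_biUnion.mpr ⟨k, hk, Finsupp.mem_support_iff.mpr hne⟩)
      have := hg z n
      rwa [h0, sub_zero] at this
    have hxsum : ∀ n, x = xs n + ∑ k ∈ Finset.range n, (cs k).sum (fun z a => a • m z) := by
      intro n
      induction n with
      | zero => simp [hxs0]
      | succ k ih =>
        rw [Finset.sum_range_succ, hxsS]
        conv_lhs => rw [ih]
        abel
    refine ⟨g, ?_, fun n => ⟨S n, ?_, ?_⟩⟩
    · intro n
      refine (S n).finite_toSet.subset ?_
      intro z hz
      by_contra h'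
      exact hz ((mem_smul_top_self _ _).mpr (hgS n z h'))
    · intro z hz
      exact Submodule.smul_mem_smul (hgS n z hz) Submodule.mem_top
    · have h1 : ∀ k ∈ Finset.range n, (cs k).sum (fun z a => a • m z) =
          ∑ z ∈ S n, cs k z • m z := by
        intro k hk
        apply Finsupp.sum_of_support_subset
        · intro z hz
          exact Finset.mem_biUnion.mpr ⟨k, hk, hz⟩
        · intro z _; simp
      have h2 : x - ∑ z ∈ S n, g z • m z =
          xs n - ∑ z ∈ S n, (g z - ∑ k ∈ Finset.range n, cs k z) • m z := by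
        conv_lhs => rw [hxsum n]
        rw [Finset.sum_congr rfl h1, Finset.sum_comm]
        simp only [sub_smul, Finset.sum_sub_distrib, Finset.sum_smul]
        abel
      rw [h2]
      refine Submodule.sub_mem _ (hxsmem n) (Submodule.sum_mem _ fun z _ => ?_)
      exact Submodule.smul_mem_smul (hg z n) Submodule.mem_top
  · intro h
    rw [eq_top_iff]
    intro x _
    obtain ⟨g, -, hg⟩ := h x
    obtain ⟨S, -, hS⟩ := hg 1
    rw [pow_one] at hS
    have : x = (∑ z ∈ S, g z • m z) + (x - ∑ z ∈ S, g z • m z) := by abel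
    rw [this]
    refine Submodule.add_mem_sup (Submodule.sum_mem _ fun z _ => ?_) hS
    exact Submodule.smul_mem _ _ (Submodule.subset_span (Set.mem_range_self z))

end


section
variable {A : Type u} [CommRing A] {I : Ideal A} {Z : Type v} {M : Type w}
  [AddCommGroup M] [Module A M]

lemma isAdicSum_single [DecidableEq Z] (z : Z) (y : M) : IsAdicSum I (Pi.single z y) y := by
  intro n
  refine ⟨{z}, fun z' hz' => ?_, ?_⟩
  · have : z' ≠ z := by simpa using hz'
    rw [Pi.single_eq_of_ne this]
    exact Submodule.zero_mem _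
  · simp

lemma adicSum_single [DecidableEq Z] [IsAdicComplete I M] (z : Z) (y : M) :
    adicSum I Z M (single I z y) = y :=
  (adicSum_spec (single I z y)).unique (isAdicSum_single z y)

/-- scalar multiplication by an element of `J • B` lands in `J • N` -/
lemma smul_mem_smul_top_of_mem {B : Type*} [CommRing B] [Algebra A B] {N : Type*} [AddCommGroup N]
    [Module A N] [Module B N] [IsScalarTower A B N] (J : Ideal A) {b : B}
    (hb : b ∈ (J • ⊤ : Submodule A B)) (y : N) : b • y ∈ (J • ⊤ : Submodule A N) :=
  map_smul_top_le ((LinearMap.toSpanSingleton B N y).restrictScalars A) J hb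

/-- multiplying a decaying `Â`-valued family with a family in `M^` -/
noncomputable def mulFamHat (I : Ideal A) (f : Z → AdicCompletion I M) :
    decaying I Z (AdicCompletion I A) →ₗ[A] decaying I Z (AdicCompletion I M) where
  toFun g := ⟨fun z => (g : Z → AdicCompletion I A) z • f z, fun n => (g.2 n).subset fun z hz => by
    by_contra h'
    simp only [Set.mem_ofPred_eq, not_not] at h'
    exact hz (smul_mem_smul_top_of_mem (I ^ n) h' (f z))⟩
  map_add' g g' := by
    apply Subtype.ext; funext z
    simp [add_smul]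
  map_smul' a g := by
    apply Subtype.ext; funext z
    simp

lemma single_smul_one [DecidableEq Z] (z : Z) (a : A) :
    single I z (AdicCompletion.of I A a) = a • single I z (1 : AdicCompletion I A) := by
  apply Subtype.ext
  funext z'
  simp only [coe_single, Submodule.coe_smul, Pi.smul_apply]
  by_cases h : z' = z
  · subst h
    simp only [Pi.single_eq_same]
    have h1 : AdicCompletion.of I A a = algebraMap A (AdicCompletion I A) a := rfl
    rw [h1, Algebra.algebraMap_eq_smul_one]
  · simp [Pi.single_eq_of_ne h]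

/-- uniqueness part of S17548 -/
lemma ext_of_single [DecidableEq Z] (hI : I.FG) [IsHausdorff I M]
    (φ φ' : decaying I Z (AdicCompletion I A) →ₗ[A] M)
    (h : ∀ z, φ (single I z 1) = φ' (single I z 1)) : φ = φ' := by
  classical
  ext g
  rw [IsHausdorff.eq_iff_smodEq (I := I)]
  intro n
  rw [SModEq.sub_mem]
  -- approximations of the values of `g`
  have happ : ∀ â : AdicCompletion I A, ∃ a : A,
      â - AdicCompletion.of I A a ∈ (I ^ n • ⊤ : Submodule A (AdicCompletion I A)) := by
    intro â
    obtain ⟨a, ha⟩ := Submodule.mkQ_surjective _ (AdicCompletion.eval I A n â)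
    refine ⟨a, ?_⟩
    rw [AdicCompletion.pow_smul_top_eq_ker_eval hI, LinearMap.mem_ker, map_sub,
      AdicCompletion.eval_of, ha, sub_self]
  choose app happ using happ
  let B := badSet g.2 n
  let g₀ : decaying I Z (AdicCompletion I A) :=
    ∑ z ∈ B, single I z (AdicCompletion.of I A (app ((g : Z → AdicCompletion I A) z)))
  have hg₀ : φ g₀ = φ' g₀ := by
    simp only [g₀, map_sum, single_smul_one, map_smul, h]
  have hg₀val : ∀ z, (g₀ : Z → AdicCompletion I A) z =
      if z ∈ B then AdicCompletion.of I A (app ((g : Z → AdicCompletion I A) z)) else 0 := by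
    intro z
    simp only [g₀, Submodule.coe_sum, Finset.sum_apply, coe_single, Pi.single_apply]
    rw [Finset.sum_ite_eq]
  haveI : IsHausdorff I (AdicCompletion I A) := inferInstance
  have hmem : g - g₀ ∈ (I ^ n • ⊤ : Submodule A (decaying I Z (AdicCompletion I A))) := by
    apply mem_pow_smul_top_decaying hI
    intro z
    simp only [Submodule.coe_sub, Pi.sub_apply, hg₀val]
    by_cases hz : z ∈ B
    · rw [if_pos hz]
      exact happ _
    · rw [if_neg hz, sub_zero]
      have := (mem_badSet g.2 n z).not.mp hz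
      rwa [not_not] at this
  have h1 : φ g - φ' g = φ (g - g₀) - φ' (g - g₀) := by
    rw [map_sub, map_sub, hg₀]; abel
  rw [h1]
  exact Submodule.sub_mem _ (map_smul_top_le φ _ hmem) (map_smul_top_le φ' _ hmem)

/-- S17548 -/
theorem S17548_main {A : Type u} [CommRing A] [IsNoetherianRing A]
    (I : Ideal A) (Z : Type v) [DecidableEq Z] (M : Type w) [AddCommGroup M] [Module A M]
    [IsAdicComplete I M] (f : Z → M) :
    ∃! φ : decaying I Z (AdicCompletion I A) →ₗ[A] M,
      ∀ z, φ (single I z (1 : AdicCompletion I A)) = f z := by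
  have hI : I.FG := IsNoetherian.noetherian I
  haveI : IsAdicComplete I (AdicCompletion I M) := AdicCompletion.isAdicComplete hI
  let e : M ≃ₗ[A] AdicCompletion I M := AdicCompletion.ofLinearEquiv I M
  let φ : decaying I Z (AdicCompletion I A) →ₗ[A] M :=
    e.symm.toLinearMap ∘ₗ (adicSum I Z (AdicCompletion I M)) ∘ₗ
      (mulFamHat I (fun z => AdicCompletion.of I M (f z)))
  refine ⟨φ, fun z => ?_, fun φ' hφ' => ?_⟩
  · have h1 : mulFamHat I (fun z => AdicCompletion.of I M (f z)) (single I z 1) =
        single I z (AdicCompletion.of I M (f z)) := by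
      apply Subtype.ext
      funext z'
      simp only [mulFamHat, LinearMap.coe_mk, AddHom.coe_mk, coe_single]
      by_cases h : z' = z
      · subst h; simp
      · simp [Pi.single_eq_of_ne h]
    simp only [φ, LinearMap.comp_apply, h1, adicSum_single]
    exact AdicCompletion.ofLinearEquiv_symm_of (I := I) (M := M) (f z)
  · apply ext_of_single hI
    intro z
    rw [hφ' z]
    have h1 : mulFamHat I (fun z => AdicCompletion.of I M (f z)) (single I z 1) =
        single I z (AdicCompletion.of I M (f z)) := by
      apply Subtype.ext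
      funext z'
      simp only [mulFamHat, LinearMap.coe_mk, AddHom.coe_mk, coe_single]
      by_cases h : z' = z
      · subst h; simp
      · simp [Pi.single_eq_of_ne h]
    simp only [φ, LinearMap.comp_apply, h1, adicSum_single]
    exact (AdicCompletion.ofLinearEquiv_symm_of (I := I) (M := M) (f z)).symm


/-- S17549 -/
theorem S17549_main {A : Type u} [CommRing A] [IsNoetherianRing A]
    (I : Ideal A) (P : Type u) [AddCommGroup P] [Module A P] :
    IsAdicProjective I P ↔
      ∃ (Z : Type u) (i : P →ₗ[A] decaying I Z (AdicCompletion I A))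
        (r : decaying I Z (AdicCompletion I A) →ₗ[A] P), r ∘ₗ i = LinearMap.id := by
  classical
  have hI : I.FG := IsNoetherian.noetherian I
  haveI : IsAdicComplete I (AdicCompletion I A) := AdicCompletion.isAdicComplete hI
  have hF : ∀ Z : Type u, IsAdicComplete I (decaying I Z (AdicCompletion I A)) := fun Z =>
    isAdicComplete_decaying hI
  constructor
  · rintro ⟨hP, hlift⟩
    obtain ⟨r, hr, -⟩ := S17548_main I P P (fun p => p)
    have hrsurj : Function.Surjective r := fun p => ⟨_, hr p⟩
    obtain ⟨χ, hχ⟩ := hlift (decaying I P (AdicCompletion I A)) P (hF P) hP r hrsurj LinearMap.id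
    exact ⟨P, χ, r, hχ⟩
  · rintro ⟨Z, i, r, hri⟩
    have hri' : ∀ x, r (i x) = x := fun x => LinearMap.congr_fun hri x
    have hFZ := hF Z
    refine ⟨{ toIsHausdorff := ⟨fun x hx => ?_⟩, toIsPrecomplete := ⟨fun f hf => ?_⟩ }, ?_⟩
    · have h1 : i x = 0 := by
        apply IsHausdorff.haus (I := I) hFZ.toIsHausdorff
        intro n
        rw [SModEq.zero]
        have := hx n
        rw [SModEq.zero] at this
        exact map_smul_top_le i _ this
      rw [← hri' x, h1, map_zero]
    · have h1 : ∀ {m n}, m ≤ n → i (f m) ≡ i (f n)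
          [SMOD (I ^ m • ⊤ : Submodule A (decaying I Z (AdicCompletion I A)))] := by
        intro m n hmn
        have := hf hmn
        rw [SModEq.sub_mem] at this ⊢
        rw [← map_sub]
        exact map_smul_top_le i _ this
      obtain ⟨L, hL⟩ := IsPrecomplete.prec hFZ.toIsPrecomplete h1
      refine ⟨r L, fun n => ?_⟩
      have := hL n
      rw [SModEq.sub_mem] at this ⊢
      have h2 : f n - r L = r (i (f n) - L) := by rw [map_sub, hri']
      rw [h2]
      exact map_smul_top_le r _ this
    · intro M N _ _ _ _ hM hN φ hφ ψ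
      choose m hm using fun z : Z => hφ (ψ (r (single I z 1)))
      obtain ⟨χ', hχ', -⟩ := S17548_main I Z M m
      have h2 : φ ∘ₗ χ' = ψ ∘ₗ r := by
        apply ext_of_single hI
        intro z
        simp only [LinearMap.comp_apply, hχ', hm]
      refine ⟨χ' ∘ₗ i, ?_⟩
      rw [← LinearMap.comp_assoc, h2, LinearMap.comp_assoc, hri, LinearMap.comp_id]

end

end Groth.Agent.Lib.Helper4.Decaying2
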