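import Mathlib
import Groth.Agent.Lib.Helper4.Decaying2

/-!
# Adically decaying functions III: tensor and flatness (helper4)
-/

set_option backward.isDefEq.respectTransparency.types false
set_option synthInstance.maxHeartbeats 400000
set_option autoImplicit false
set_option linter.unusedSectionVars false
set_option linter.style.haveILetI false
set_option linter.unusedSimpArgs false
universe u v w

namespace Groth.Agent.Lib.Helper4.Decaying3
open W4c5adicflatcompl Groth.Agent.Lib.Helper4.Decaying Groth.Agent.Lib.Helper4.Decaying2 TensorProduct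

section
variable {A : Type u} [CommRing A] {I : Ideal A} {Z : Type v} {M : Type w}
  [AddCommGroup M] [Module A M]

/-- membership in `J • ⊤` of `Fin r → A` is componentwise -/
lemma mem_smul_top_pi {r : ℕ} (J : Ideal A) (c : Fin r → A) :
    c ∈ (J • ⊤ : Submodule A (Fin r → A)) ↔ ∀ k, c k ∈ J := by
  classical
  constructor
  · intro h k
    have := map_smul_top_le (LinearMap.proj (R := A) (φ := fun _ : Fin r => A) k) J h
    exact (mem_smul_top_self _ _).mp this
  · intro h
    have h1 : c = ∑ k, c k • (Pi.single k (1 : A) : Fin r → A) := by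
      funext j
      simp [Finset.sum_apply, Pi.single_apply]
    rw [h1]
    exact Submodule.sum_mem _ fun k _ => Submodule.smul_mem_smul (h k) Submodule.mem_top

lemma decaying_pi_iff {r : ℕ} (F : Z → Fin r → A) :
    F ∈ decaying I Z (Fin r → A) ↔ ∀ k, (fun z => F z k) ∈ decaying I Z A := by
  constructor
  · intro h k n
    refine (h n).subset ?_
    intro z hz h'
    apply hz
    rw [mem_smul_top_pi] at h'
    exact (mem_smul_top_self _ _).mpr (h' k)
  · intro h n
    have : {z | F z ∉ (I ^ n • ⊤ : Submodule A (Fin r → A))} ⊆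
        ⋃ k : Fin r, {z | F z k ∉ (I ^ n • ⊤ : Submodule A A)} := by
      intro z hz
      simp only [Set.mem_ofPred_eq, mem_smul_top_pi, not_forall] at hz
      obtain ⟨k, hk⟩ := hz
      exact Set.mem_iUnion.mpr ⟨k, fun h' => hk ((mem_smul_top_self _ _).mp h')⟩
    exact (Set.finite_iUnion fun k => h k n).subset this

/-- S17543 -/
theorem S17543_main {A : Type u} [CommRing A] [IsNoetherianRing A] (I : Ideal A)
    [IsAdicComplete I A] (Z : Type v) (M : Type w) [AddCommGroup M] [Module A M]
    [Module.Finite A M] :
    Function.Injective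
        ((TensorProduct.piScalarRightHom A A M Z) ∘ₗ ((decaying I Z A).subtype.lTensor M)) ∧
      LinearMap.range
        ((TensorProduct.piScalarRightHom A A M Z) ∘ₗ ((decaying I Z A).subtype.lTensor M)) =
        decaying I Z M := by
  classical
  have hjac : I ≤ Ideal.jacobson ⊥ := IsAdicComplete.le_jacobson_bot I
  set Φ := (TensorProduct.piScalarRightHom A A M Z) ∘ₗ ((decaying I Z A).subtype.lTensor M) with hΦ
  have hΦ_tmul : ∀ (x : M) (g : decaying I Z A), Φ (x ⊗ₜ g) = fun z => (g : Z → A) z • x := by
    intro x g
    simp [Φ]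
  obtain ⟨r, m, hm⟩ := Module.Finite.exists_fin (R := A) (M := M)
  let π : (Fin r → A) →ₗ[A] M := Fintype.linearCombination A m
  have hπ : Function.Surjective π := by
    rw [← LinearMap.range_eq_top, Fintype.range_linearCombination, hm]
  have hπ_apply : ∀ c, π c = ∑ k, c k • m k := fun c => rfl
  -- every tensor is a combination
  have hrep : ∀ t : M ⊗[A] decaying I Z A, ∃ g : Fin r → decaying I Z A,
      t = ∑ k, m k ⊗ₜ[A] g k := by
    intro t
    induction t using TensorProduct.induction_on with
    | zero => exact ⟨0, by simp⟩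
    | tmul x g =>
      obtain ⟨c, rfl⟩ := hπ x
      refine ⟨fun k => c k • g, ?_⟩
      rw [hπ_apply, TensorProduct.sum_tmul]
      refine Finset.sum_congr rfl fun k _ => ?_
      rw [TensorProduct.smul_tmul]
    | add t t' ht ht' =>
      obtain ⟨g, rfl⟩ := ht
      obtain ⟨g', rfl⟩ := ht'
      exact ⟨g + g', by simp [TensorProduct.tmul_add, Finset.sum_add_distrib]⟩
  have hΦsum : ∀ g : Fin r → decaying I Z A,
      Φ (∑ k, m k ⊗ₜ[A] g k) = fun z => ∑ k, (g k : Z → A) z • m k := by
    intro g
    rw [map_sum]
    funext z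
    simp [hΦ_tmul, Finset.sum_apply]
  haveI hMH : IsHausdorff I M := IsHausdorff.of_le_jacobson I M hjac
  refine ⟨?_, ?_⟩
  · -- injectivity
    rw [← LinearMap.ker_eq_bot, LinearMap.ker_eq_bot']
    intro t ht
    obtain ⟨g, rfl⟩ := hrep t
    rw [hΦsum] at ht
    let K : Submodule A (Fin r → A) := LinearMap.ker π
    let F : Z → K := fun z => ⟨fun k => (g k : Z → A) z, by
      show π _ = 0
      rw [hπ_apply]
      exact congrFun ht z⟩
    have hF : F ∈ decaying I Z K := by
      rw [S17541_main I Z (Fin r → A) K F, decaying_pi_iff]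
      intro k
      exact (g k).2
    haveI : Module.Finite A K := Module.Finite.of_fg (IsNoetherian.noetherian K)
    haveI : IsHausdorff I K := IsHausdorff.of_le_jacobson I K hjac
    obtain ⟨s, κ, hκ⟩ := Module.Finite.exists_fin (R := A) (M := K)
    let π' : (Fin s → A) →ₗ[A] K := Fintype.linearCombination A κ
    have hπ' : Function.Surjective π' := by
      rw [← LinearMap.range_eq_top, Fintype.range_linearCombination, hκ]
    obtain ⟨H, hH, hHF⟩ := lift_decaying π' hπ' F hF
    rw [decaying_pi_iff] at hH
    let h : Fin s → decaying I Z A := fun j => ⟨fun z => H z j, hH j⟩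
    have hg : ∀ k, g k = ∑ j, ((κ j : Fin r → A) k) • h j := by
      intro k
      apply Subtype.ext
      funext z
      have h1 := congrArg (fun x : K => (x : Fin r → A) k) (hHF z)
      simp only [π', Fintype.linearCombination_apply, F] at h1
      simp only [Submodule.coe_sum, Submodule.coe_smul, Finset.sum_apply, Pi.smul_apply, h,
        smul_eq_mul]
      rw [← h1]
      simp only [Submodule.coe_sum, Submodule.coe_smul, Finset.sum_apply, Pi.smul_apply,
        smul_eq_mul]
      exact Finset.sum_congr rfl fun j _ => mul_comm _ _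
    have h2 : ∑ k, m k ⊗ₜ[A] g k = ∑ j, (π (κ j : Fin r → A)) ⊗ₜ[A] h j := by
      simp only [hg, TensorProduct.tmul_sum, hπ_apply, TensorProduct.sum_tmul]
      rw [Finset.sum_comm]
      refine Finset.sum_congr rfl fun j _ => Finset.sum_congr rfl fun k _ => ?_
      rw [TensorProduct.smul_tmul]
    rw [h2]
    apply Finset.sum_eq_zero
    intro j _
    have : π (κ j : Fin r → A) = 0 := (κ j).2
    rw [this, TensorProduct.zero_tmul]
  · -- range
    apply le_antisymm
    · rintro _ ⟨t, rfl⟩
      obtain ⟨g, rfl⟩ := hrep t
      rw [hΦsum]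
      have : (fun z => ∑ k, (g k : Z → A) z • m k) =
          ((∑ k, mulFam I (fun _ => m k) (g k) : decaying I Z M) : Z → M) := by
        funext z
        simp [Finset.sum_apply]
      rw [this]
      exact Submodule.coe_mem _
    · intro f hf
      obtain ⟨F, hF, hFf⟩ := lift_decaying π hπ f hf
      rw [decaying_pi_iff] at hF
      refine ⟨∑ k, m k ⊗ₜ[A] (⟨fun z => F z k, hF k⟩ : decaying I Z A), ?_⟩
      rw [hΦsum]
      funext z
      rw [← hFf z, hπ_apply]


/-- S17545 -/
theorem S17545_main {A : Type u} [CommRing A] [IsNoetherianRing A]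
    (I : Ideal A) [IsAdicComplete I A] (Z : Type v) :
    Module.Flat A (decaying I Z A) := by
  rw [Module.Flat.iff_rTensor_injective']
  intro J
  have h1 := (S17543_main I Z J).1
  let ι : (Z → J) →ₗ[A] (Z → A) := J.subtype.compLeft Z
  have hι : Function.Injective ι := by
    intro f g hfg
    funext z
    exact Subtype.ext (congrFun hfg z)
  have hnat : ι ∘ₗ ((TensorProduct.piScalarRightHom A A J Z) ∘ₗ ((decaying I Z A).subtype.lTensor J)) =
      ((TensorProduct.piScalarRightHom A A A Z) ∘ₗ ((decaying I Z A).subtype.lTensor A)) ∘ₗ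
        (J.subtype.rTensor (decaying I Z A)) := by
    apply TensorProduct.ext'
    intro x g
    funext z
    simp [ι]
  have h2 : Function.Injective (((TensorProduct.piScalarRightHom A A A Z) ∘ₗ
      ((decaying I Z A).subtype.lTensor A)) ∘ₗ (J.subtype.rTensor (decaying I Z A))) := by
    rw [← hnat]
    exact hι.comp h1
  rw [LinearMap.coe_comp] at h2
  exact Function.Injective.of_comp h2

end

end Groth.Agent.Lib.Helper4.Decaying3
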