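import Mathlib
import Groth.Agent.Lib.Helper4.Decaying3

/-!
# Adically decaying functions IV: adically free = flat + complete (helper4)
-/

set_option backward.isDefEq.respectTransparency.types false
set_option synthInstance.maxHeartbeats 400000
set_option autoImplicit false
set_option linter.unusedSectionVars false
set_option linter.style.haveILetI false
set_option linter.unusedSimpArgs false
universe u v w

namespace Groth.Agent.Lib.Helper4.Decaying4
open W4c5adicflatcompl Groth.Agent.Lib.Helper4.Decaying Groth.Agent.Lib.Helper4.Decaying2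
  Groth.Agent.Lib.Helper4.Decaying3 TensorProduct

section
variable {A : Type u} [CommRing A] {I : Ideal A} {Z : Type v} {M : Type w}
  [AddCommGroup M] [Module A M]

/-- a retract of an adically complete module is adically complete -/
lemma isAdicComplete_of_retract {F : Type*} [AddCommGroup F] [Module A F] [hF : IsAdicComplete I F]
    (i : M →ₗ[A] F) (r : F →ₗ[A] M) (hri : ∀ x, r (i x) = x) : IsAdicComplete I M := by
  refine { toIsHausdorff := ⟨fun x hx => ?_⟩, toIsPrecomplete := ⟨fun f hf => ?_⟩ }
  · have h1 : i x = 0 := by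
      apply IsHausdorff.haus (I := I) hF.toIsHausdorff
      intro n
      rw [SModEq.zero]
      have := hx n
      rw [SModEq.zero] at this
      exact map_smul_top_le i _ this
    rw [← hri x, h1, map_zero]
  · have h1 : ∀ {m n}, m ≤ n → i (f m) ≡ i (f n) [SMOD (I ^ m • ⊤ : Submodule A F)] := by
      intro m n hmn
      have := hf hmn
      rw [SModEq.sub_mem] at this ⊢
      rw [← map_sub]
      exact map_smul_top_le i _ this
    obtain ⟨L, hL⟩ := IsPrecomplete.prec hF.toIsPrecomplete h1
    refine ⟨r L, fun n => ?_⟩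
    have := hL n
    rw [SModEq.sub_mem] at this ⊢
    have h2 : f n - r L = r (i (f n) - L) := by rw [map_sub, hri]
    rw [h2]
    exact map_smul_top_le r _ this

/-- functoriality of `decaying` in the module -/
def decayingMap {N : Type*} [AddCommGroup N] [Module A N] (I : Ideal A) (Z : Type v)
    (e : M →ₗ[A] N) : decaying I Z M →ₗ[A] decaying I Z N where
  toFun f := ⟨fun z => e ((f : Z → M) z), fun n => (f.2 n).subset fun z hz h' =>
    hz (map_smul_top_le e _ h')⟩
  map_add' f g := by apply Subtype.ext; funext z; simp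
  map_smul' a f := by apply Subtype.ext; funext z; simp

def decayingCongr {N : Type*} [AddCommGroup N] [Module A N] (I : Ideal A) (Z : Type v)
    (e : M ≃ₗ[A] N) : decaying I Z M ≃ₗ[A] decaying I Z N :=
  LinearEquiv.ofLinearMap (decayingMap I Z e.toLinearMap) (decayingMap I Z e.symm.toLinearMap)
    (by ext f z; simp [decayingMap]) (by ext f z; simp [decayingMap])

end

section Local
variable {A : Type u} [CommRing A] [IsNoetherianRing A] [IsLocalRing A]
  [IsAdicComplete (IsLocalRing.maximalIdeal A) A]
  (M : Type u) [AddCommGroup M] [Module A M]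

open IsLocalRing

theorem adicFree_of_flat_complete [Module.Flat A M] [IsAdicComplete (maximalIdeal A) M] :
    ∃ Z : Type u, Nonempty (M ≃ₗ[A] decaying (maximalIdeal A) Z A) := by
  classical
  set m := maximalIdeal A with hm
  have hmfg : m.FG := IsNoetherian.noetherian m
  letI : Field (A ⧸ m) := Ideal.Quotient.field m
  let V := M ⧸ (m • ⊤ : Submodule A M)
  let b := Module.Basis.ofVectorSpace (A ⧸ m) V
  let Z : Type u := Module.Basis.ofVectorSpaceIndex (A ⧸ m) V
  choose mz hmz using fun z : Z => Submodule.mkQ_surjective (m • ⊤ : Submodule A M) (b z)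
  -- linear independence
  have hli : ∀ (S : Finset Z) (a : Z → A),
      ∑ z ∈ S, a z • mz z ∈ (m • ⊤ : Submodule A M) → ∀ z ∈ S, a z ∈ m := by
    intro S a h z hz
    have h1 : ∑ z ∈ S, (Ideal.Quotient.mk m (a z)) • b z = 0 := by
      have h2 : (Submodule.mkQ (m • ⊤ : Submodule A M)) (∑ z ∈ S, a z • mz z) = 0 := by
        rw [Submodule.mkQ_apply, Submodule.Quotient.mk_eq_zero]; exact h
      rw [map_sum] at h2
      rw [← h2]
      refine Finset.sum_congr rfl fun z _ => ?_
      rw [map_smul, hmz]
      rfl
    have := linearIndependent_iff'.mp b.linearIndependent S (fun z => Ideal.Quotient.mk m (a z)) h1 z hz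
    exact Ideal.Quotient.eq_zero_iff_mem.mp this
  -- spanning
  have hspan : Submodule.span A (Set.range mz) ⊔ m • ⊤ = ⊤ := by
    rw [eq_top_iff]
    intro x _
    have h1 : Submodule.mkQ (m • ⊤ : Submodule A M) x ∈ Submodule.span (A ⧸ m) (Set.range b) := by
      rw [b.span_eq]; trivial
    rw [← Submodule.restrictScalars_mem A,
      Submodule.restrictScalars_span A (A ⧸ m) Ideal.Quotient.mk_surjective] at h1
    have h2 : Set.range b = (Submodule.mkQ (m • ⊤ : Submodule A M)) '' (Set.range mz) := by
      rw [← Set.range_comp]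
      congr 1
      funext z
      exact (hmz z).symm
    rw [h2, ← Submodule.map_span, Submodule.mem_map] at h1
    obtain ⟨y, hy, hyx⟩ := h1
    have h3 : x - y ∈ (m • ⊤ : Submodule A M) := by
      rw [← Submodule.ker_mkQ (m • ⊤ : Submodule A M), LinearMap.mem_ker, map_sub, hyx, sub_self]
    have : x = y + (x - y) := by abel
    rw [this]
    exact Submodule.add_mem_sup hy h3
  let φ : decaying m Z A →ₗ[A] M := (adicSum m Z M).comp (mulFam m mz)
  have hφspec : ∀ g : decaying m Z A, IsAdicSum m (fun z => (g : Z → A) z • mz z) (φ g) := fun g =>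
    adicSum_spec (mulFam m mz g)
  have hsurj : Function.Surjective φ := by
    intro x
    obtain ⟨g, hg, hgx⟩ := (S17540_main m M Z mz).mp hspan x
    refine ⟨⟨g, hg⟩, ?_⟩
    exact (hφspec ⟨g, hg⟩).unique hgx
  -- claim 1
  have hker1 : ∀ g : decaying m Z A, φ g = 0 → g ∈ (m • ⊤ : Submodule A (decaying m Z A)) := by
    intro g hg
    have h0 := mem_pow_smul_top_decaying hmfg 1 g
    rw [pow_one] at h0
    apply h0
    intro z₀
    obtain ⟨S, hS⟩ := (hφspec g).of_superset 1
    have h1 := (hS (S ∪ {z₀}) Finset.subset_union_left).2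
    rw [hg, zero_sub, pow_one, Submodule.neg_mem_iff] at h1
    have h2 := hli _ _ h1 z₀ (Finset.mem_union_right _ (Finset.mem_singleton_self z₀))
    exact (mem_smul_top_self _ _).mpr h2
  -- claim 2
  obtain ⟨r, i, hi⟩ := Submodule.fg_iff_exists_fin_generating_family.mp hmfg
  have hi' : Ideal.span (Set.range i) = m := hi
  have hker2 : ∀ g : decaying m Z A, φ g = 0 → g ∈ (m • ⊤ : Submodule A (decaying m Z A)) →
      g ∈ m • (LinearMap.ker φ) := by
    intro g hg hgm
    obtain ⟨h, -, rfl⟩ := exists_decomp i m hi' ⊤ hgm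
    rw [map_sum] at hg
    simp only [map_smul] at hg
    obtain ⟨p, a, y, hy1, hy2⟩ := Module.Flat.isTrivialRelation_of_sum_smul_eq_zero hg
    choose d hd using fun l => hsurj (y l)
    let κ : Fin r → decaying m Z A := fun j => h j - ∑ l, a j l • d l
    have hκ : ∀ j, κ j ∈ LinearMap.ker φ := by
      intro j
      rw [LinearMap.mem_ker, map_sub, map_sum, show φ (h j) = _ from hy1 j, sub_eq_zero]
      refine Finset.sum_congr rfl fun l _ => ?_
      rw [map_smul, hd]
    have hsum : ∑ j, i j • h j = ∑ j, i j • κ j := by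
      have h3 : ∑ j, i j • ∑ l, a j l • d l = 0 := by
        simp only [Finset.smul_sum, smul_smul]
        rw [Finset.sum_comm]
        apply Finset.sum_eq_zero
        intro l _
        rw [← Finset.sum_smul, hy2 l, zero_smul]
      simp only [κ, smul_sub, Finset.sum_sub_distrib, h3, sub_zero]
    rw [hsum]
    refine Submodule.sum_mem _ fun j _ => Submodule.smul_mem_smul ?_ (hκ j)
    rw [← hi']
    exact Ideal.subset_span (Set.mem_range_self j)
  -- claim 3
  have hker3 : ∀ n, LinearMap.ker φ ≤ (m ^ n • ⊤ : Submodule A (decaying m Z A)) := by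
    intro n
    induction n with
    | zero => simp
    | succ n ih =>
      intro g hg
      have h1 := hker2 g hg (hker1 g hg)
      rw [pow_succ', Submodule.mul_smul]
      exact Submodule.smul_mono le_rfl ih h1
  have hinj : Function.Injective φ := by
    rw [← LinearMap.ker_eq_bot, LinearMap.ker_eq_bot']
    intro g hg
    haveI : IsHausdorff m (decaying m Z A) := isHausdorff_decaying m Z A
    apply IsHausdorff.haus (I := m) ‹_›
    intro n
    rw [SModEq.zero]
    exact hker3 n hg
  exact ⟨Z, ⟨(LinearEquiv.ofBijective φ ⟨hinj, hsurj⟩).symm⟩⟩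

/-- S17552 -/
theorem S17552_main : IsAdicFree (maximalIdeal A) M ↔
      Module.Flat A M ∧ IsAdicComplete (maximalIdeal A) M := by
  set m := maximalIdeal A with hm
  have hmfg : m.FG := IsNoetherian.noetherian m
  haveI : IsAdicComplete m (AdicCompletion m A) := AdicCompletion.isAdicComplete hmfg
  have e0 : ∀ Z : Type u, decaying m Z (AdicCompletion m A) ≃ₗ[A] decaying m Z A := fun Z =>
    decayingCongr m Z (AdicCompletion.ofLinearEquiv m A).symm
  constructor
  · rintro ⟨Z, ⟨e⟩⟩
    constructor
    · haveI : Module.Flat A (decaying m Z A) := S17545_main m Z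
      exact Module.Flat.of_linearEquiv (e.trans (e0 Z))
    · haveI : IsAdicComplete m (decaying m Z (AdicCompletion m A)) := isAdicComplete_decaying hmfg
      exact isAdicComplete_of_retract e.toLinearMap e.symm.toLinearMap (fun x => e.symm_apply_apply x)
  · rintro ⟨hflat, hcomp⟩
    obtain ⟨Z, ⟨e⟩⟩ := adicFree_of_flat_complete (A := A) M
    exact ⟨Z, ⟨e.trans (e0 Z).symm⟩⟩

end Local

end Groth.Agent.Lib.Helper4.Decaying4
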