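import Mathlib
import Groth.Agent.Lib.Helper4.Decaying

/-!
# Adically decaying functions V: completion of finitely supported functions (helper4)
-/

set_option backward.isDefEq.respectTransparency.types false
set_option synthInstance.maxHeartbeats 400000
set_option autoImplicit false
set_option linter.unusedSectionVars false
set_option linter.style.haveILetI false
set_option linter.unusedSimpArgs false
universe u v w

namespace Groth.Agent.Lib.Helper4.Decaying5
open W4c5adicflatcompl Groth.Agent.Lib.Helper4.Decaying

section
variable {A : Type u} [CommRing A] {I : Ideal A} {Z : Type v} {M : Type w}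
  [AddCommGroup M] [Module A M]

/-- finitely supported functions: membership in `J • ⊤` is coordinatewise -/
lemma finsupp_mem_smul_top_iff (J : Ideal A) (f : Z →₀ M) :
    f ∈ (J • ⊤ : Submodule A (Z →₀ M)) ↔ ∀ z, f z ∈ (J • ⊤ : Submodule A M) := by
  classical
  constructor
  · intro h z
    exact map_smul_top_le (Finsupp.lapply (R := A) (M := M) z) J h
  · intro h
    rw [← Finsupp.sum_single f]
    refine Submodule.sum_mem _ fun z _ => ?_
    exact map_smul_top_le (Finsupp.lsingle (R := A) (M := M) z) J (h z)

/-- if `M^` is precomplete, the kernel of `eval n` is `I^n M^`. -/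
lemma ker_eval_le [IsPrecomplete I (AdicCompletion I M)] (n : ℕ) :
    LinearMap.ker (AdicCompletion.eval I M n) ≤
      (I ^ n • ⊤ : Submodule A (AdicCompletion I M)) := by
  intro y hy
  obtain ⟨c, rfl⟩ := AdicCompletion.mk_surjective I M y
  rw [LinearMap.mem_ker, AdicCompletion.eval_apply, AdicCompletion.mk_apply_coe,
    Submodule.mkQ_apply, Submodule.Quotient.mk_eq_zero] at hy
  -- the sequence `of (c k)` is Cauchy in `M^`
  have hc : ∀ {k l}, k ≤ l → AdicCompletion.of I M (c k) ≡ AdicCompletion.of I M (c l)
      [SMOD (I ^ k • ⊤ : Submodule A (AdicCompletion I M))] := by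
    intro k l hkl
    rw [SModEq.sub_mem, ← map_sub]
    apply map_smul_top_le
    have := c.2 hkl
    rwa [SModEq.sub_mem] at this
  obtain ⟨L, hL⟩ := IsPrecomplete.prec ‹_› hc
  have hLy : L = AdicCompletion.mk I M c := by
    apply AdicCompletion.ext
    intro k
    have h1 := hL k
    rw [SModEq.sub_mem] at h1
    have h2 := AdicCompletion.pow_smul_top_le_ker_eval (I := I) (M := M) k h1
    rw [LinearMap.mem_ker, map_sub, sub_eq_zero, AdicCompletion.eval_apply,
      AdicCompletion.eval_apply] at h2
    rw [← h2, AdicCompletion.of_apply, AdicCompletion.mk_apply_coe]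
  rw [← hLy]
  have h1 := hL n
  rw [SModEq.sub_mem] at h1
  have h2 : AdicCompletion.of I M (c n) ∈ (I ^ n • ⊤ : Submodule A (AdicCompletion I M)) :=
    map_smul_top_le _ _ hy
  have : L = AdicCompletion.of I M (c n) - (AdicCompletion.of I M (c n) - L) := by abel
  rw [this]
  exact Submodule.sub_mem _ h2 h1

/-- S17539 -/
theorem S17539_main {A : Type u} [CommRing A] (I : Ideal A) (Z : Type v)
    (M : Type w) [AddCommGroup M] [Module A M] [IsAdicComplete I (AdicCompletion I M)] :
    Function.Injective
        (LinearMap.pi fun z : Z =>
          (AdicCompletion.map I (Finsupp.lapply (M := M) (R := A) z)).restrictScalars A) ∧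
      LinearMap.range
        (LinearMap.pi fun z : Z =>
          (AdicCompletion.map I (Finsupp.lapply (M := M) (R := A) z)).restrictScalars A) =
        decaying I Z (AdicCompletion I M) := by
  classical
  set Ψ := (LinearMap.pi fun z : Z =>
    (AdicCompletion.map I (Finsupp.lapply (M := M) (R := A) z)).restrictScalars A) with hΨ
  have hΨval : ∀ (c : AdicCompletion.AdicCauchySequence I (Z →₀ M)) (z : Z) (n : ℕ),
      (Ψ (AdicCompletion.mk I _ c) z).val n =
        Submodule.Quotient.mk (p := (I ^ n • ⊤ : Submodule A M)) (c n z) := by
    intro c z n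
    rfl
  refine ⟨?_, ?_⟩
  · rw [← LinearMap.ker_eq_bot, LinearMap.ker_eq_bot']
    intro x hx
    obtain ⟨c, rfl⟩ := AdicCompletion.mk_surjective I _ x
    apply AdicCompletion.ext
    intro n
    rw [AdicCompletion.mk_apply_coe, Submodule.mkQ_apply, AdicCompletion.val_zero_apply,
      Submodule.Quotient.mk_eq_zero, finsupp_mem_smul_top_iff]
    intro z
    have := hΨval c z n
    rw [hx] at this
    rw [← Submodule.Quotient.mk_eq_zero, ← this]
    rfl
  · apply le_antisymm
    · rintro _ ⟨x, rfl⟩
      obtain ⟨c, rfl⟩ := AdicCompletion.mk_surjective I _ x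
      intro n
      refine (c n).support.finite_toSet.subset ?_
      intro z hz
      by_contra h'
      apply hz
      apply ker_eval_le n
      rw [LinearMap.mem_ker, AdicCompletion.eval_apply, hΨval]
      have : c n z = 0 := by simpa using h'
      rw [this, Submodule.Quotient.mk_zero]
    · intro g hg
      -- build the Cauchy sequence
      choose lift hlift using fun (n : ℕ) (y : M ⧸ (I ^ n • ⊤ : Submodule A M)) =>
        Submodule.Quotient.mk_surjective _ y
      let f : ℕ → (Z →₀ M) := fun n =>
        ∑ z ∈ badSet hg n, Finsupp.single z (lift n ((g z).val n))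
      have hfz : ∀ n z, Submodule.Quotient.mk (p := (I ^ n • ⊤ : Submodule A M)) (f n z) =
          (g z).val n := by
        intro n z
        simp only [f, Finsupp.coe_finsetSum, Finset.sum_apply, Finsupp.single_apply]
        rw [Finset.sum_ite_eq']
        by_cases hz : z ∈ badSet hg n
        · rw [if_pos hz, hlift]
        · rw [if_neg hz, Submodule.Quotient.mk_zero]
          have := (mem_badSet hg n z).not.mp hz
          rw [not_not] at this
          have h2 := AdicCompletion.pow_smul_top_le_ker_eval (I := I) (M := M) n this
          rw [LinearMap.mem_ker, AdicCompletion.eval_apply] at h2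
          exact h2.symm
      have hf : ∀ n, f n ≡ f (n + 1) [SMOD (I ^ n • ⊤ : Submodule A (Z →₀ M))] := by
        intro n
        rw [SModEq.sub_mem, finsupp_mem_smul_top_iff]
        intro z
        rw [Finsupp.sub_apply, ← SModEq.sub_mem, SModEq.def, hfz n z]
        have h1 := (g z).2 (Nat.le_succ n)
        rw [← h1, ← hfz (n + 1) z]
        rfl
      refine ⟨AdicCompletion.mk I _ (AdicCompletion.AdicCauchySequence.mk I _ f hf), ?_⟩
      funext z
      apply AdicCompletion.ext
      intro n
      rw [hΨval]
      exact hfz n z

end

end Groth.Agent.Lib.Helper4.Decaying5
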