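import Mathlib
import Groth.Agent.Lib.Helper4.Decaying4

/-!
# Adically decaying functions VI: limits of flat adic systems (helper4)
-/

set_option backward.isDefEq.respectTransparency.types false
set_option synthInstance.maxHeartbeats 400000
set_option autoImplicit false
set_option linter.unusedSectionVars false
set_option linter.style.haveILetI false
set_option linter.unusedSimpArgs false
universe u v w

namespace Groth.Agent.Lib.Helper4.Decaying6
open W4c5adicflatcompl Groth.Agent.Lib.Helper4.Decaying Groth.Agent.Lib.Helper4.Decaying2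
  Groth.Agent.Lib.Helper4.Decaying3 Groth.Agent.Lib.Helper4.Decaying4 TensorProduct

section Generic
variable {A : Type u} [CommRing A] {I : Ideal A} {Z : Type v} {M : Type w}
  [AddCommGroup M] [Module A M]

lemma isAdicComplete_of_pow_smul_top_eq_bot (N : ℕ) (h : (I ^ N • ⊤ : Submodule A M) = ⊥) :
    IsAdicComplete I M := by
  refine { toIsHausdorff := ⟨fun x hx => ?_⟩, toIsPrecomplete := ⟨fun f hf => ?_⟩ }
  · have := hx N
    rw [SModEq.zero, h] at this
    exact (Submodule.mem_bot A).mp this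
  · refine ⟨f N, fun n => ?_⟩
    rcases le_total n N with hn | hn
    · exact hf hn
    · have := hf hn
      rw [SModEq.sub_mem, h, Submodule.mem_bot, sub_eq_zero] at this
      rw [this]

lemma isAdicSum_map {N : Type*} [AddCommGroup N] [Module A N] (ψ : M →ₗ[A] N) {f : Z → M} {s : M}
    (h : IsAdicSum I f s) : IsAdicSum I (fun z => ψ (f z)) (ψ s) := by
  intro n
  obtain ⟨S, hS, hs⟩ := h n
  refine ⟨S, fun z hz => map_smul_top_le ψ _ (hS z hz), ?_⟩
  have := map_smul_top_le ψ _ hs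
  rwa [map_sub, map_sum] at this

/-- Lemma G: a surjection onto a module flat over `A/J`, whose kernel lies in `𝔞 D` with
`𝔞` finitely generated and `𝔞^N ≤ J`, has kernel inside `J D`. -/
lemma ker_le_of_flat_quotient {D : Type*} [AddCommGroup D] [Module A D] (𝔞 J : Ideal A)
    (h𝔞 : 𝔞.FG) (N : ℕ) (hN : 𝔞 ^ N ≤ J)
    [Module (A ⧸ J) M] [IsScalarTower A (A ⧸ J) M] [Module.Flat (A ⧸ J) M]
    (φ : D →ₗ[A] M) (hφ : Function.Surjective φ)
    (hK : LinearMap.ker φ ≤ (𝔞 • ⊤ : Submodule A D)) :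
    LinearMap.ker φ ≤ (J • ⊤ : Submodule A D) := by
  obtain ⟨r, i, hi⟩ := Submodule.fg_iff_exists_fin_generating_family.mp h𝔞
  have hi' : Ideal.span (Set.range i) = 𝔞 := hi
  -- claim 2
  have h2 : ∀ g ∈ LinearMap.ker φ, g ∈ 𝔞 • LinearMap.ker φ ⊔ (J • ⊤ : Submodule A D) := by
    intro g hg
    obtain ⟨h, -, rfl⟩ := exists_decomp i 𝔞 hi' ⊤ (hK hg)
    rw [LinearMap.mem_ker, map_sum] at hg
    have hg' : ∑ j, (Ideal.Quotient.mk J (i j)) • φ (h j) = 0 := by
      rw [← hg]
      refine Finset.sum_congr rfl fun j _ => ?_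
      rw [map_smul, ← Ideal.Quotient.algebraMap_eq, algebraMap_smul]
    obtain ⟨p, a, y, hy1, hy2⟩ := Module.Flat.isTrivialRelation_of_sum_smul_eq_zero hg'
    choose d hd using fun l => hφ (y l)
    choose a' ha' using fun j l => Ideal.Quotient.mk_surjective (a j l)
    let κ : Fin r → D := fun j => h j - ∑ l, a' j l • d l
    have hκ : ∀ j, κ j ∈ LinearMap.ker φ := by
      intro j
      rw [LinearMap.mem_ker, map_sub, map_sum, show φ (h j) = _ from hy1 j, sub_eq_zero]
      refine Finset.sum_congr rfl fun l _ => ?_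
      rw [map_smul, hd, ← ha', ← Ideal.Quotient.algebraMap_eq, algebraMap_smul]
    have hsum : ∑ j, i j • h j = ∑ j, i j • κ j + ∑ l, (∑ j, i j * a' j l) • d l := by
      simp only [κ, smul_sub, Finset.sum_sub_distrib, Finset.smul_sum, smul_smul, Finset.sum_smul]
      rw [Finset.sum_comm (f := fun l j => (i j * a' j l) • d l)]
      abel
    rw [hsum]
    refine Submodule.add_mem_sup ?_ ?_
    · refine Submodule.sum_mem _ fun j _ => Submodule.smul_mem_smul ?_ (hκ j)
      rw [← hi']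
      exact Ideal.subset_span (Set.mem_range_self j)
    · refine Submodule.sum_mem _ fun l _ => Submodule.smul_mem_smul ?_ Submodule.mem_top
      rw [← Ideal.Quotient.eq_zero_iff_mem, map_sum]
      simp only [map_mul, ha']
      exact hy2 l
  -- claim 3
  have h3 : ∀ j : ℕ, LinearMap.ker φ ≤ (𝔞 ^ j • ⊤ : Submodule A D) ⊔ (J • ⊤ : Submodule A D) := by
    intro j
    induction j with
    | zero => simp
    | succ j ih =>
      intro g hg
      have h4 := h2 g hg
      refine (sup_le (a := 𝔞 • LinearMap.ker φ) ?_ le_sup_right :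
        𝔞 • LinearMap.ker φ ⊔ (J • ⊤ : Submodule A D) ≤ _) h4
      calc 𝔞 • LinearMap.ker φ ≤ 𝔞 • ((𝔞 ^ j • ⊤ : Submodule A D) ⊔ (J • ⊤ : Submodule A D)) :=
            Submodule.smul_mono le_rfl ih
        _ = 𝔞 ^ (j + 1) • ⊤ ⊔ 𝔞 • (J • ⊤ : Submodule A D) := by
            rw [Submodule.smul_sup, ← Submodule.mul_smul, ← pow_succ']
        _ ≤ _ := sup_le_sup le_rfl Submodule.smul_le_right
  refine (h3 N).trans (sup_le (Submodule.smul_mono_left hN) le_rfl)

end Generic


section System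
open IsLocalRing
variable {A : Type u} [CommRing A]
    (M : ℕ → Type u) [∀ n, AddCommGroup (M n)] [∀ n, Module A (M n)]
    (ψ : ∀ n, M (n + 1) →ₗ[A] M n)

/-- iterated transition map to level `0` -/
noncomputable def toZero : ∀ k, M k →ₗ[A] M 0
  | 0 => LinearMap.id
  | k+1 => (toZero k).comp (ψ k)

lemma toZero_surjective (hψ : ∀ n, Function.Surjective (ψ n)) :
    ∀ k, Function.Surjective (toZero M ψ k)
  | 0 => Function.surjective_id
  | k+1 => (toZero_surjective hψ k).comp (hψ k)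

lemma toZero_sysLim (x : sysLim M ψ) : ∀ k, toZero M ψ k ((x : ∀ n, M n) k) = (x : ∀ n, M n) 0
  | 0 => rfl
  | k+1 => by
    show toZero M ψ k (ψ k ((x : ∀ n, M n) (k + 1))) = _
    rw [x.2 k]
    exact toZero_sysLim x k

lemma exists_section (hψ : ∀ n, Function.Surjective (ψ n)) (y : M 0) :
    ∃ x : sysLim M ψ, (x : ∀ n, M n) 0 = y := by
  let s : ∀ n, M n → M (n + 1) := fun n => Function.surjInv (hψ n)
  let x : ∀ n, M n := fun n => Nat.rec (motive := M) y (fun j xj => s j xj) n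
  refine ⟨⟨x, fun n => ?_⟩, rfl⟩
  show ψ n (s n (x n)) = x n
  exact Function.surjInv_eq (hψ n) _

lemma ker_toZero (J : Ideal A) (hψ : ∀ n, Function.Surjective (ψ n))
    (h0 : (J • ⊤ : Submodule A (M 0)) = ⊥)
    (hker : ∀ n, LinearMap.ker (ψ n) ≤ (J • ⊤ : Submodule A (M (n + 1)))) :
    ∀ k, LinearMap.ker (toZero M ψ k) = (J • ⊤ : Submodule A (M k))
  | 0 => by
    rw [h0]
    exact LinearMap.ker_id
  | k+1 => by
    apply le_antisymm
    · intro v hv
      have h1 : ψ k v ∈ LinearMap.ker (toZero M ψ k) := hv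
      rw [ker_toZero J hψ h0 hker k] at h1
      have h2 : (J • ⊤ : Submodule A (M k)) = Submodule.map (ψ k) (J • ⊤ : Submodule A (M (k+1))) := by
        rw [Submodule.map_smul'', Submodule.map_top, LinearMap.range_eq_top.mpr (hψ k)]
      rw [h2] at h1
      obtain ⟨w, hw, hwv⟩ := h1
      have h3 : v - w ∈ LinearMap.ker (ψ k) := by
        rw [LinearMap.mem_ker, map_sub, hwv, sub_self]
      have : v = w + (v - w) := by abel
      rw [this]
      exact Submodule.add_mem _ hw (hker k h3)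
    · intro v hv
      have := map_smul_top_le (toZero M ψ (k+1)) J hv
      rw [h0] at this
      exact this

end System

section Main
open IsLocalRing
variable {A : Type u} [CommRing A] [IsNoetherianRing A] [IsLocalRing A]
    [IsAdicComplete (IsLocalRing.maximalIdeal A) A]

local notation "𝔪" => IsLocalRing.maximalIdeal A

/-- S17551 -/
theorem S17551_main
    (M : ℕ → Type u) [∀ n, AddCommGroup (M n)] [∀ n, Module A (M n)]
    [∀ n, Module (A ⧸ IsLocalRing.maximalIdeal A ^ (n + 1)) (M n)]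
    [∀ n, IsScalarTower A (A ⧸ IsLocalRing.maximalIdeal A ^ (n + 1)) (M n)]
    [∀ n, Module.Flat (A ⧸ IsLocalRing.maximalIdeal A ^ (n + 1)) (M n)]
    (ψ : ∀ n, M (n + 1) →ₗ[A] M n) (hψ : ∀ n, Function.Surjective (ψ n))
    (hker : ∀ n, LinearMap.ker (ψ n) =
      (IsLocalRing.maximalIdeal A ^ (n + 1) • ⊤ : Submodule A (M (n + 1)))) :
    IsAdicFree (IsLocalRing.maximalIdeal A) (sysLim M ψ) ∧
      ∀ n, Function.Surjective (sysProj M ψ n) ∧
        LinearMap.ker (sysProj M ψ n) =
          (IsLocalRing.maximalIdeal A ^ (n + 1) • ⊤ : Submodule A (sysLim M ψ)) := by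
  classical
  have hmfg : (𝔪).FG := IsNoetherian.noetherian _
  have hkill : ∀ (n : ℕ) {a : A}, a ∈ 𝔪 ^ (n + 1) → ∀ v : M n, a • v = 0 := by
    intro n a ha v
    rw [← algebraMap_smul (A ⧸ 𝔪 ^ (n + 1)) a v, Ideal.Quotient.algebraMap_eq,
      Ideal.Quotient.eq_zero_iff_mem.mpr ha, zero_smul]
  have hbot : ∀ n, (𝔪 ^ (n + 1) • ⊤ : Submodule A (M n)) = ⊥ := by
    intro n
    rw [eq_bot_iff, Submodule.smul_le]
    intro a ha v _
    rw [hkill n ha v]
    exact zero_mem _
  haveI hcomp : ∀ k, IsAdicComplete 𝔪 (M k) := fun k =>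
    isAdicComplete_of_pow_smul_top_eq_bot (k + 1) (hbot k)
  have hbot0 : (𝔪 • ⊤ : Submodule A (M 0)) = ⊥ := by
    have := hbot 0
    rwa [zero_add, pow_one] at this
  have hker' : ∀ n, LinearMap.ker (ψ n) ≤ (𝔪 • ⊤ : Submodule A (M (n + 1))) := by
    intro n
    rw [hker n]
    exact Submodule.smul_mono_left (Ideal.pow_le_self (by omega))
  have hkerZ := ker_toZero M ψ 𝔪 hψ hbot0 hker'
  -- vector space structure on `M 0`
  have htors : Module.IsTorsionBySet A (M 0) (𝔪 : Set A) := by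
    intro v a
    have ha : (a : A) ∈ 𝔪 ^ (0 + 1) := by rw [zero_add, pow_one]; exact a.2
    exact hkill 0 ha v
  letI : Module (A ⧸ 𝔪) (M 0) := htors.module
  letI : Field (A ⧸ 𝔪) := Ideal.Quotient.field 𝔪
  let b := Module.Basis.ofVectorSpace (A ⧸ 𝔪) (M 0)
  let Z : Type u := Module.Basis.ofVectorSpaceIndex (A ⧸ 𝔪) (M 0)
  choose e he using fun z : Z => exists_section M ψ hψ (b z)
  have heZ : ∀ k z, toZero M ψ k ((e z : ∀ n, M n) k) = b z := fun k z => by
    rw [toZero_sysLim, he]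
  -- the maps φ k
  let φ : ∀ k, decaying 𝔪 Z A →ₗ[A] M k := fun k =>
    (adicSum 𝔪 Z (M k)).comp (mulFam 𝔪 (fun z => (e z : ∀ n, M n) k))
  have hφspec : ∀ k (g : decaying 𝔪 Z A),
      IsAdicSum 𝔪 (fun z => (g : Z → A) z • (e z : ∀ n, M n) k) (φ k g) := fun k g =>
    adicSum_spec (mulFam 𝔪 (fun z => (e z : ∀ n, M n) k) g)
  have hcompat : ∀ k (g : decaying 𝔪 Z A), ψ k (φ (k + 1) g) = φ k g := by
    intro k g
    have h1 := isAdicSum_map (ψ k) (hφspec (k + 1) g)
    have h2 : (fun z => ψ k ((g : Z → A) z • (e z : ∀ n, M n) (k + 1))) =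
        fun z => (g : Z → A) z • (e z : ∀ n, M n) k := by
      funext z
      rw [map_smul, (e z).2 k]
    rw [h2] at h1
    exact h1.unique (hφspec k g)
  have hcompat0 : ∀ k (g : decaying 𝔪 Z A), toZero M ψ k (φ k g) = φ 0 g := by
    intro k g
    induction k with
    | zero => rfl
    | succ k ih =>
      show toZero M ψ k (ψ k (φ (k + 1) g)) = _
      rw [hcompat, ih]
  -- linear independence
  have hli : ∀ (S : Finset Z) (a : Z → A),
      ∑ z ∈ S, a z • (e z : ∀ n, M n) 0 = 0 → ∀ z ∈ S, a z ∈ 𝔪 := by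
    intro S a h z hz
    have h1 : ∑ z ∈ S, (Ideal.Quotient.mk 𝔪 (a z)) • b z = 0 := by
      rw [← h]
      refine Finset.sum_congr rfl fun z _ => ?_
      rw [he]
      rfl
    have := linearIndependent_iff'.mp b.linearIndependent S
      (fun z => Ideal.Quotient.mk 𝔪 (a z)) h1 z hz
    exact Ideal.Quotient.eq_zero_iff_mem.mp this
  have hK0 : ∀ g : decaying 𝔪 Z A, φ 0 g = 0 →
      g ∈ (𝔪 • ⊤ : Submodule A (decaying 𝔪 Z A)) := by
    intro g hg
    have h0 := mem_pow_smul_top_decaying hmfg 1 g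
    rw [pow_one] at h0
    apply h0
    intro z₀
    obtain ⟨S, hS⟩ := (hφspec 0 g).of_superset 1
    have h1 := (hS (S ∪ {z₀}) Finset.subset_union_left).2
    rw [hg, zero_sub, pow_one, Submodule.neg_mem_iff, hbot0, Submodule.mem_bot] at h1
    have h2 := hli _ _ h1 z₀ (Finset.mem_union_right _ (Finset.mem_singleton_self z₀))
    exact (mem_smul_top_self _ _).mpr h2
  -- spanning
  have hspan : ∀ k, Submodule.span A (Set.range fun z => (e z : ∀ n, M n) k) ⊔ 𝔪 • ⊤ = ⊤ := by
    intro k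
    rw [eq_top_iff]
    intro v _
    set v₀ := toZero M ψ k v with hv₀
    have hv : v₀ = ∑ z ∈ (b.repr v₀).support, (b.repr v₀ z) • b z := by
      conv_lhs => rw [← b.linearCombination_repr v₀]
      rfl
    choose a ha using fun z => Ideal.Quotient.mk_surjective (b.repr v₀ z)
    let y : M k := ∑ z ∈ (b.repr v₀).support, a z • (e z : ∀ n, M n) k
    have hy : y ∈ Submodule.span A (Set.range fun z => (e z : ∀ n, M n) k) :=
      Submodule.sum_mem _ fun z _ => Submodule.smul_mem _ _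
        (Submodule.subset_span (Set.mem_range_self z))
    have hyv : toZero M ψ k y = v₀ := by
      rw [hv, map_sum]
      refine Finset.sum_congr rfl fun z _ => ?_
      rw [map_smul, heZ, ← ha z]
      rfl
    have h3 : v - y ∈ (𝔪 • ⊤ : Submodule A (M k)) := by
      rw [← hkerZ k, LinearMap.mem_ker, map_sub, hyv, sub_self]
    have : v = y + (v - y) := by abel
    rw [this]
    exact Submodule.add_mem_sup hy h3
  have hsurj : ∀ k, Function.Surjective (φ k) := by
    intro k x
    obtain ⟨g, hg, hgx⟩ := (S17540_main 𝔪 (M k) Z _).mp (hspan k) x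
    exact ⟨⟨g, hg⟩, (hφspec k ⟨g, hg⟩).unique hgx⟩
  have hkerφ : ∀ k, LinearMap.ker (φ k) = (𝔪 ^ (k + 1) • ⊤ : Submodule A (decaying 𝔪 Z A)) := by
    intro k
    apply le_antisymm
    · apply ker_le_of_flat_quotient 𝔪 (𝔪 ^ (k + 1)) hmfg (k + 1) le_rfl (φ k) (hsurj k)
      intro g hg
      apply hK0
      rw [← hcompat0 k g, LinearMap.mem_ker.mp hg, map_zero]
    · intro g hg
      have := map_smul_top_le (φ k) _ hg
      rw [hbot k] at this
      exact this
  -- the comparison map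
  let Φ : decaying 𝔪 Z A →ₗ[A] sysLim M ψ :=
    { toFun := fun g => ⟨fun k => φ k g, fun k => hcompat k g⟩
      map_add' := fun g g' => by apply Subtype.ext; funext k; simp
      map_smul' := fun a g => by apply Subtype.ext; funext k; simp }
  have hΦk : ∀ k (g : decaying 𝔪 Z A), sysProj M ψ k (Φ g) = φ k g := fun k g => rfl
  haveI hD : IsAdicComplete 𝔪 (decaying 𝔪 Z A) := isAdicComplete_decaying hmfg
  have hΦinj : Function.Injective Φ := by
    rw [← LinearMap.ker_eq_bot, LinearMap.ker_eq_bot']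
    intro g hg
    apply IsHausdorff.haus hD.toIsHausdorff
    intro n
    rw [SModEq.zero]
    have h0 : φ n g = 0 := by rw [← hΦk, hg, map_zero]
    have h1 : g ∈ (𝔪 ^ (n + 1) • ⊤ : Submodule A (decaying 𝔪 Z A)) := by
      rw [← hkerφ n]; exact h0
    exact pow_smul_top_anti 𝔪 _ (Nat.le_succ n) h1
  have hΦsurj : Function.Surjective Φ := by
    intro x
    choose g hg using fun k => hsurj k ((x : ∀ n, M n) k)
    have hC : AdicCompletion.IsAdicCauchy 𝔪 (decaying 𝔪 Z A) g := by
      rw [AdicCompletion.isAdicCauchy_iff]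
      intro k
      rw [SModEq.sub_mem]
      have h1 : g k - g (k + 1) ∈ LinearMap.ker (φ k) := by
        rw [LinearMap.mem_ker, map_sub, hg k, ← hcompat k (g (k + 1)), hg (k + 1), x.2 k, sub_self]
      rw [hkerφ k] at h1
      exact pow_smul_top_anti 𝔪 _ (Nat.le_succ k) h1
    obtain ⟨L, hL⟩ := IsPrecomplete.prec hD.toIsPrecomplete hC
    refine ⟨L, ?_⟩
    apply Subtype.ext
    funext k
    show φ k L = (x : ∀ n, M n) k
    have h1 := hL (k + 1)
    rw [SModEq.sub_mem, ← hkerφ k, LinearMap.mem_ker, map_sub, sub_eq_zero] at h1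
    rw [← h1, ← hcompat k (g (k + 1)), hg (k + 1), x.2 k]
  have hmfg' : (𝔪).FG := hmfg
  haveI : IsAdicComplete 𝔪 (AdicCompletion 𝔪 A) := AdicCompletion.isAdicComplete hmfg
  refine ⟨⟨Z, ⟨(LinearEquiv.ofBijective Φ ⟨hΦinj, hΦsurj⟩).symm.trans
    (decayingCongr 𝔪 Z (AdicCompletion.ofLinearEquiv 𝔪 A))⟩⟩, fun n => ⟨?_, ?_⟩⟩
  · intro y
    obtain ⟨g, hg⟩ := hsurj n y
    exact ⟨Φ g, hg⟩
  · apply le_antisymm
    · intro x hx
      obtain ⟨g, rfl⟩ := hΦsurj x
      have h1 : g ∈ LinearMap.ker (φ n) := hx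
      rw [hkerφ n] at h1
      exact map_smul_top_le Φ _ h1
    · intro x hx
      have := map_smul_top_le (sysProj M ψ n) _ hx
      rw [hbot n] at this
      exact this

end Main

end Groth.Agent.Lib.Helper4.Decaying6
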