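import Mathlib
import Groth.Agent.Lib.Helper4.Decaying5
import Groth.Agent.Lib.Helper4.Decaying2

/-!
# Adically decaying functions VII: completed base change of adically free modules (helper4)
-/

set_option backward.isDefEq.respectTransparency.types false
set_option synthInstance.maxHeartbeats 400000
set_option autoImplicit false
set_option linter.unusedSectionVars false
set_option linter.style.haveILetI false
set_option linter.unusedSimpArgs false
universe u v w

namespace Groth.Agent.Lib.Helper4.Decaying7
open W4c5adicflatcompl Groth.Agent.Lib.Helper4.Decaying Groth.Agent.Lib.Helper4.Decaying2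
  Groth.Agent.Lib.Helper4.Decaying5 TensorProduct

section Generic
variable {B : Type u} [CommRing B] (J : Ideal B) {M : Type v} {N : Type w}
  [AddCommGroup M] [Module B M] [AddCommGroup N] [Module B N]

/-- a linear map which is bijective modulo every power of `J` induces a bijection on completions -/
lemma map_bijective_of_levelwise (α : M →ₗ[B] N)
    (h1 : ∀ (n : ℕ) (y : N), ∃ x : M, y - α x ∈ (J ^ n • ⊤ : Submodule B N))
    (h2 : ∀ (n : ℕ) (x : M), α x ∈ (J ^ n • ⊤ : Submodule B N) → x ∈ (J ^ n • ⊤ : Submodule B M)) :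
    Function.Bijective (AdicCompletion.map J α) := by
  constructor
  · rw [← LinearMap.ker_eq_bot, LinearMap.ker_eq_bot']
    intro x hx
    obtain ⟨c, rfl⟩ := AdicCompletion.mk_surjective J M x
    apply AdicCompletion.ext
    intro n
    have h3 := congrArg (fun y => y.val n) hx
    simp only [AdicCompletion.map_mk, AdicCompletion.mk_apply_coe, Submodule.mkQ_apply,
      AdicCompletion.val_zero_apply] at h3
    rw [AdicCompletion.mk_apply_coe, Submodule.mkQ_apply, AdicCompletion.val_zero_apply,
      Submodule.Quotient.mk_eq_zero]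
    apply h2
    rw [← Submodule.Quotient.mk_eq_zero]
    exact h3
  · intro y
    obtain ⟨d, rfl⟩ := AdicCompletion.mk_surjective J N y
    choose x hx using fun n => h1 n (d n)
    have hxC : ∀ n, x n ≡ x (n + 1) [SMOD (J ^ n • ⊤ : Submodule B M)] := by
      intro n
      rw [SModEq.sub_mem]
      apply h2
      have h3 : d n - d (n + 1) ∈ (J ^ n • ⊤ : Submodule B N) := by
        rw [← SModEq.sub_mem]
        exact d.2 (Nat.le_succ n)
      have h4 : α (x n - x (n + 1)) =
          (d (n + 1) - α (x (n + 1))) - (d n - α (x n)) + (d n - d (n + 1)) := by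
        rw [map_sub]; abel
      rw [h4]
      exact Submodule.add_mem _ (Submodule.sub_mem _
        (pow_smul_top_anti J N (Nat.le_succ n) (hx (n + 1))) (hx n)) h3
    refine ⟨AdicCompletion.mk J M (AdicCompletion.AdicCauchySequence.mk J M x hxC), ?_⟩
    apply AdicCompletion.ext
    intro n
    simp only [AdicCompletion.map_mk, AdicCompletion.mk_apply_coe, Submodule.mkQ_apply]
    rw [eq_comm, ← sub_eq_zero, ← Submodule.Quotient.mk_sub, Submodule.Quotient.mk_eq_zero]
    exact hx n

end Generic

section Approx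
variable {A : Type u} [CommRing A] {I : Ideal A} {Z : Type v}

/-- finite approximation of a decaying `Â`-valued function -/
lemma exists_finite_approx [DecidableEq Z] (hI : I.FG) (g : decaying I Z (AdicCompletion I A))
    (n : ℕ) : ∃ (S : Finset Z) (a : Z → A),
      g - ∑ z ∈ S, a z • single I z (1 : AdicCompletion I A) ∈
        (I ^ n • ⊤ : Submodule A (decaying I Z (AdicCompletion I A))) := by
  have happ : ∀ â : AdicCompletion I A, ∃ a : A,
      â - AdicCompletion.of I A a ∈ (I ^ n • ⊤ : Submodule A (AdicCompletion I A)) := by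
    intro â
    obtain ⟨a, ha⟩ := Submodule.mkQ_surjective _ (AdicCompletion.eval I A n â)
    refine ⟨a, ?_⟩
    rw [AdicCompletion.pow_smul_top_eq_ker_eval hI, LinearMap.mem_ker, map_sub,
      AdicCompletion.eval_of, ha, sub_self]
  choose app happ using happ
  refine ⟨badSet g.2 n, fun z => app ((g : Z → AdicCompletion I A) z), ?_⟩
  haveI : IsHausdorff I (AdicCompletion I A) := inferInstance
  apply mem_pow_smul_top_decaying hI
  intro z
  have hval : ((∑ z ∈ badSet g.2 n, app ((g : Z → AdicCompletion I A) z) •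
      single I z (1 : AdicCompletion I A) : decaying I Z (AdicCompletion I A)) :
        Z → AdicCompletion I A) z =
      if z ∈ badSet g.2 n then AdicCompletion.of I A (app ((g : Z → AdicCompletion I A) z))
      else 0 := by
    simp only [← single_smul_one, Submodule.coe_sum, Finset.sum_apply, coe_single, Pi.single_apply]
    rw [Finset.sum_ite_eq]
  simp only [Submodule.coe_sub, Pi.sub_apply, hval]
  by_cases hz : z ∈ badSet g.2 n
  · rw [if_pos hz]
    exact happ _
  · rw [if_neg hz, sub_zero]
    have := (mem_badSet g.2 n z).not.mp hz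
    rwa [not_not] at this

end Approx


section Main

/-- S17550 -/
theorem S17550_main {A B : Type u} [CommRing A] [CommRing B] [Algebra A B]
    [IsNoetherianRing A] [IsNoetherianRing B] (I : Ideal A) (J : Ideal B)
    (hIJ : I.map (algebraMap A B) ≤ J) (P : Type u) [AddCommGroup P] [Module A P]
    (hP : IsAdicFree I P) :
    IsAdicFree J (AdicCompletion J (B ⊗[A] P)) := by
  classical
  obtain ⟨Z, ⟨ι⟩⟩ := hP
  have hI : I.FG := IsNoetherian.noetherian I
  have hJ : J.FG := IsNoetherian.noetherian J
  let ez : Z → P := fun z => ι.symm (single I z 1)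
  let α : (Z →₀ B) →ₗ[B] B ⊗[A] P := Finsupp.linearCombination B (fun z => (1 : B) ⊗ₜ[A] ez z)
  have hα_single : ∀ z b, α (Finsupp.single z b) = b ⊗ₜ[A] ez z := by
    intro z b
    simp [α, smul_tmul']
  have hIJn : ∀ (n : ℕ) (a : A), a ∈ I ^ n → algebraMap A B a ∈ J ^ n := by
    intro n a ha
    have := Ideal.mem_map_of_mem (algebraMap A B) ha
    rw [Ideal.map_pow] at this
    exact Ideal.pow_right_mono hIJ n this
  have hsub : ∀ (n : ℕ) (q : B ⊗[A] P), q ∈ (I ^ n • ⊤ : Submodule A (B ⊗[A] P)) →
      q ∈ (J ^ n • ⊤ : Submodule B (B ⊗[A] P)) := by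
    intro n q hq
    refine Submodule.smul_induction_on hq ?_ ?_
    · intro a ha q' _
      rw [← algebraMap_smul B a q']
      exact Submodule.smul_mem_smul (hIJn n a ha) Submodule.mem_top
    · intro x y hx hy
      exact Submodule.add_mem _ hx hy
  -- (i)
  have h1 : ∀ (n : ℕ) (q : B ⊗[A] P), ∃ f : Z →₀ B,
      q - α f ∈ (J ^ n • ⊤ : Submodule B (B ⊗[A] P)) := by
    intro n q
    induction q using TensorProduct.induction_on with
    | zero => exact ⟨0, by simp⟩
    | tmul b p =>
      obtain ⟨S, a, hSa⟩ := exists_finite_approx hI (ι p) n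
      refine ⟨∑ z ∈ S, Finsupp.single z (b * algebraMap A B (a z)), ?_⟩
      have h3 : p - ∑ z ∈ S, a z • ez z ∈ (I ^ n • ⊤ : Submodule A P) := by
        have := map_smul_top_le ι.symm.toLinearMap _ hSa
        simpa [map_sub, map_sum, ez] using this
      have h4 : (1 : B) ⊗ₜ[A] (p - ∑ z ∈ S, a z • ez z) ∈
          (J ^ n • ⊤ : Submodule B (B ⊗[A] P)) :=
        hsub n _ (map_smul_top_le (TensorProduct.mk A B P 1) _ h3)
      have h5 : b ⊗ₜ[A] p - α (∑ z ∈ S, Finsupp.single z (b * algebraMap A B (a z))) =
          b • ((1 : B) ⊗ₜ[A] (p - ∑ z ∈ S, a z • ez z)) := by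
        rw [map_sum, tmul_sub, tmul_sum, smul_sub, Finset.smul_sum, smul_tmul', smul_eq_mul,
          mul_one]
        congr 1
        refine Finset.sum_congr rfl fun z _ => ?_
        rw [hα_single, smul_tmul', smul_eq_mul, mul_one, tmul_smul, smul_tmul', 
          Algebra.smul_def, mul_comm]
      rw [h5]
      exact Submodule.smul_mem _ b h4
    | add q q' hq hq' =>
      obtain ⟨f, hf⟩ := hq
      obtain ⟨f', hf'⟩ := hq'
      refine ⟨f + f', ?_⟩
      rw [map_add]
      have : q + q' - (α f + α f') = (q - α f) + (q' - α f') := by abel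
      rw [this]
      exact Submodule.add_mem _ hf hf'
  -- (ii)
  have h2 : ∀ (n : ℕ) (f : Z →₀ B), α f ∈ (J ^ n • ⊤ : Submodule B (B ⊗[A] P)) →
      f ∈ (J ^ n • ⊤ : Submodule B (Z →₀ B)) := by
    intro n f hf
    rw [finsupp_mem_smul_top_iff]
    intro z
    rw [mem_smul_top_self]
    -- the coordinate functional
    let lam : A ⧸ I ^ n →ₐ[A] B ⧸ J ^ n :=
      Ideal.Quotient.liftₐ (I ^ n) (Algebra.ofId A (B ⧸ J ^ n)) (by
        intro a ha
        rw [Algebra.ofId_apply, IsScalarTower.algebraMap_apply A B (B ⧸ J ^ n),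
          Ideal.Quotient.algebraMap_eq, Ideal.Quotient.eq_zero_iff_mem]
        exact hIJn n a ha)
    let l : P →ₗ[A] B ⧸ J ^ n :=
      lam.toLinearMap ∘ₗ (AdicCompletion.evalₐ I n).toLinearMap ∘ₗ
        (ev I Z (AdicCompletion I A) z) ∘ₗ ι.toLinearMap
    let c : B ⊗[A] P →ₗ[B] B ⧸ J ^ n := LinearMap.liftBaseChange B l
    have hc : c ∘ₗ α = (Ideal.Quotient.mkₐ B (J ^ n)).toLinearMap ∘ₗ Finsupp.lapply z := by
      apply Finsupp.lhom_ext
      intro z' b
      simp only [LinearMap.comp_apply, hα_single, c, LinearMap.liftBaseChange_tmul, l,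
        LinearEquiv.coe_coe, ez, LinearEquiv.apply_symm_apply, ev_apply, coe_single,
        Finsupp.lapply_apply, AlgHom.toLinearMap_apply, Ideal.Quotient.mkₐ_eq_mk]
      by_cases h : z = z'
      · subst h
        simp only [Pi.single_eq_same, Finsupp.single_eq_same, map_one]
        rw [Algebra.smul_def, mul_one]
        rfl
      · rw [Pi.single_eq_of_ne h]
        have h' : (Finsupp.single z' b) z = 0 := by
          rw [Finsupp.single_apply, if_neg (Ne.symm h)]
        rw [h']
        simp
    have hcf : c (α f) = Ideal.Quotient.mk (J ^ n) (f z) := by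
      have := LinearMap.congr_fun hc f
      simpa using this
    have hbot : (J ^ n • ⊤ : Submodule B (B ⧸ J ^ n)) = ⊥ := by
      rw [eq_bot_iff, Submodule.smul_le]
      intro j hj x _
      rw [Submodule.mem_bot, Algebra.smul_def, Ideal.Quotient.algebraMap_eq,
        Ideal.Quotient.eq_zero_iff_mem.mpr hj, zero_mul]
    have h3 := map_smul_top_le c _ hf
    rw [hbot, Submodule.mem_bot, hcf, Ideal.Quotient.eq_zero_iff_mem] at h3
    exact h3
  have hbij := map_bijective_of_levelwise J α h1 h2
  let e1 : AdicCompletion J (Z →₀ B) ≃ₗ[B] AdicCompletion J (B ⊗[A] P) :=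
    LinearEquiv.ofBijective ((AdicCompletion.map J α).restrictScalars B) hbij
  haveI : IsAdicComplete J (AdicCompletion J B) := AdicCompletion.isAdicComplete hJ
  obtain ⟨hΨinj, hΨrange⟩ := S17539_main J Z B
  let e2 : AdicCompletion J (Z →₀ B) ≃ₗ[B] decaying J Z (AdicCompletion J B) :=
    (LinearEquiv.ofInjective _ hΨinj).trans (LinearEquiv.ofEq _ _ hΨrange)
  exact ⟨Z, ⟨e1.symm.trans e2⟩⟩

end Main

end Groth.Agent.Lib.Helper4.Decaying7
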