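import Mathlib
import Groth.Agent.Lib.Helper4.LocalIso

/-!
# Open immersions detected on dense open covers (helper4)
-/

set_option backward.isDefEq.respectTransparency.types false
set_option synthInstance.maxHeartbeats 400000
set_option autoImplicit false
set_option linter.unusedSectionVars false
set_option linter.style.haveILetI false
set_option linter.unusedSimpArgs false
universe u v

namespace Groth.Agent.Lib.Helper4.DenseOpenImm
open AlgebraicGeometry CategoryTheory TopologicalSpace Opposite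
open Groth.Agent.Lib.Helper4.LocalIso

/-- With finitely many irreducible components, a dense open contains every generic point. -/
lemma mem_of_dense_of_generic {X : Type*} [TopologicalSpace X]
    (hfin : (irreducibleComponents X).Finite) {U : Set X} (hU : IsOpen U) (hd : Dense U)
    {ξ : X} (hξ : closure ({ξ} : Set X) ∈ irreducibleComponents X) : ξ ∈ U := by
  set Z := closure ({ξ} : Set X) with hZ
  let O : Set X := (⋃ Z' ∈ irreducibleComponents X \ {Z}, Z')ᶜ
  have hOo : IsOpen O := by
    have hc : IsClosed (⋃ Z' ∈ irreducibleComponents X \ {Z}, Z') :=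
      (hfin.subset Set.sdiff_subset).isClosed_biUnion fun Z' hZ' =>
        isClosed_of_mem_irreducibleComponents Z' hZ'.1
    exact hc.isOpen_compl
  have hξO : ξ ∈ O := by
    intro hmem
    obtain ⟨Z', ⟨hZ'1, hZ'2⟩, hξZ'⟩ := Set.mem_iUnion₂.mp hmem
    have hcl : IsClosed Z' := isClosed_of_mem_irreducibleComponents Z' hZ'1
    have hsub : Z ⊆ Z' := closure_minimal (Set.singleton_subset_iff.mpr hξZ') hcl
    have : Z' ⊆ Z := hξ.2 hZ'1.1 hsub
    exact hZ'2 (subset_antisymm this hsub)
  obtain ⟨p, hpO, hpU⟩ := hd.inter_open_nonempty O hOo ⟨ξ, hξO⟩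
  obtain ⟨Z', hZ', hpZ'⟩ := exists_mem_irreducibleComponents_subset_of_isIrreducible {p}
    isIrreducible_singleton
  have hZ'Z : Z' = Z := by
    by_contra hne
    exact hpO (Set.mem_iUnion₂.mpr ⟨Z', ⟨hZ', hne⟩, hpZ' rfl⟩)
  have hpZ : p ∈ closure ({ξ} : Set X) := by
    have : p ∈ Z := hZ'Z ▸ hpZ' rfl
    exact this
  have hsp : ξ ⤳ p := specializes_iff_mem_closure.mpr hpZ
  exact hsp.mem_open hU hpU

theorem S10877_main {X Y : Scheme.{u}} (f : X ⟶ Y) [IsSeparated f]
    (hfin : (irreducibleComponents (X : Type u)).Finite) {ι : Type u} (U : ι → X.Opens)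
    (hU : ⨆ i, U i = ⊤) (hd : ∀ i, Dense (U i : Set X)) (h : ∀ i, IsOpenImmersion ((U i).ι ≫ f)) :
    IsOpenImmersion f := by
  apply S7658_main f
  · intro x
    have : x ∈ (⨆ i, U i) := hU ▸ trivial
    obtain ⟨i, hi⟩ := Opens.mem_iSup.mp this
    exact ⟨U i, hi, h i⟩
  · intro ξ ξ' hξ hξ' he
    have : ξ ∈ (⨆ i, U i) := hU ▸ trivial
    obtain ⟨i, hi⟩ := Opens.mem_iSup.mp this
    have hi' : ξ' ∈ U i := mem_of_dense_of_generic hfin (U i).2 (hd i) hξ'
    have := h i
    have hinj := ((U i).ι ≫ f).injective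
    have e : ((U i).ι ≫ f).base ⟨ξ, hi⟩ = ((U i).ι ≫ f).base ⟨ξ', hi'⟩ := by
      simpa using he
    exact congrArg Subtype.val (hinj e)
end Groth.Agent.Lib.Helper4.DenseOpenImm
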