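import Mathlib
import Groth.Agent.Lib.Helper3.DescEmbedding
import Groth.Agent.S0083

/-!
# S1124, S1125: (quasi-compact) immersions descend along fpqc / fppf base change (uses helper3 DescEmbedding/SchDominant and S0083) (helper4)
-/

set_option backward.isDefEq.respectTransparency.types false
set_option synthInstance.maxHeartbeats 400000
set_option autoImplicit false
set_option linter.unusedSectionVars false
set_option linter.style.haveILetI false
set_option linter.unusedSimpArgs false
universe u v w
open CategoryTheory CategoryTheory.Limits AlgebraicGeometry MorphismProperty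

namespace Groth.Agent.Lib.Helper4.DescImm1

/-- core of S1124: if the base change of `g` along an fpqc `q` is a quasi-compact immersion, so is `g`. -/
lemma isImmersion_of_pullback_fst {X Y Y' : Scheme.{u}} (q : Y' ⟶ Y) (g : X ⟶ Y)
    [Surjective q] [Flat q] [QuasiCompact q]
    [IsImmersion (pullback.fst q g)] [QuasiCompact (pullback.fst q g)] :
    IsImmersion g ∧ QuasiCompact g := by
  have hqc : QuasiCompact g := Groth.Agent.Helper3.quasiCompact_of_pullback_fst q g inferInstance
  refine ⟨?_, hqc⟩
  -- kernels
  have hker1 : (pullback.fst q g).ker = g.ker.comap q := by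
    have h1 : pullback.fst q g = (pullbackSymmetry q g).hom ≫ pullback.snd g q := by simp
    rw [h1, Scheme.Hom.ker_comp_of_isIso, Groth.Agent.Helper3.ker_pullback_snd_eq_comap_ker]
  have hker2 : (pullback.fst q g.imageι).ker = g.ker.comap q := by
    rw [Scheme.IdealSheafData.ker_fst_of_isClosedImmersion, Scheme.Hom.imageι,
      Scheme.IdealSheafData.ker_subschemeι]
  -- the map P → W
  obtain ⟨t, ht1, ht2⟩ : ∃ t : pullback q g ⟶ pullback q g.imageι,
      t ≫ pullback.fst q g.imageι = pullback.fst q g ∧
      t ≫ pullback.snd q g.imageι = pullback.snd q g ≫ g.toImage :=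
    ⟨pullback.lift (pullback.fst q g) (pullback.snd q g ≫ g.toImage)
      (by rw [Category.assoc, g.toImage_imageι, pullback.condition]),
      pullback.lift_fst _ _ _, pullback.lift_snd _ _ _⟩
  -- t is an open immersion
  have hkeq : (pullback.fst q g.imageι).ker = (pullback.fst q g).imageι.ker := by
    rw [hker2, Scheme.Hom.imageι, Scheme.IdealSheafData.ker_subschemeι, hker1]
  have hiso := IsClosedImmersion.isIso_lift (pullback.fst q g.imageι) (pullback.fst q g).imageι hkeq
  have ht : t = (pullback.fst q g).toImage ≫
      IsClosedImmersion.lift (pullback.fst q g.imageι) (pullback.fst q g).imageι hkeq.le := by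
    rw [← cancel_mono (pullback.fst q g.imageι), ht1, Category.assoc, IsClosedImmersion.lift_fac,
      Scheme.Hom.toImage_imageι]
  have htopen : IsOpenImmersion t := by rw [ht]; infer_instance
  -- t is the base change of g.toImage
  have hright : IsPullback (pullback.fst q g.imageι) (pullback.snd q g.imageι) q g.imageι :=
    IsPullback.of_hasPullback _ _
  have hbig : IsPullback (t ≫ pullback.fst q g.imageι) (pullback.snd q g) q (g.toImage ≫ g.imageι) := by
    rw [ht1, g.toImage_imageι]
    exact IsPullback.of_hasPullback _ _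
  have hleft : IsPullback t (pullback.snd q g) (pullback.snd q g.imageι) g.toImage :=
    IsPullback.of_right hbig ht2 hright
  have hopen : IsOpenImmersion g.toImage :=
    MorphismProperty.of_isPullback_of_descendsAlong (P := @IsOpenImmersion)
      (Q := @Surjective ⊓ @Flat ⊓ @QuasiCompact) hleft
      ⟨⟨inferInstance, inferInstance⟩, inferInstance⟩ htopen
  rw [← g.toImage_imageι]
  infer_instance

theorem S1124_main :
    MorphismProperty.DescendsAlong (@IsImmersion ⊓ @QuasiCompact : MorphismProperty Scheme.{u})
      (@Surjective ⊓ @Flat ⊓ @QuasiCompact : MorphismProperty Scheme.{u}) := by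
  apply DescendsAlong.mk'
  intro X Y Z f g _ hf hfst
  obtain ⟨⟨hf1, hf2⟩, hf3⟩ := hf
  have hf1' : Surjective f := hf1
  have hf2' : Flat f := hf2
  have hf3' : QuasiCompact f := hf3
  have h1 : IsImmersion (pullback.fst f g) := hfst.1
  have h2 : QuasiCompact (pullback.fst f g) := hfst.2
  exact isImmersion_of_pullback_fst f g

/-- local closedness descends along open surjective continuous maps -/
lemma isLocallyClosed_of_preimage {A B : Type*} [TopologicalSpace A] [TopologicalSpace B]
    (q : A → B) (hq : Continuous q) (hopen : IsOpenMap q) (hsurj : Function.Surjective q)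
    (s : Set B) (h : IsLocallyClosed (q ⁻¹' s)) : IsLocallyClosed s := by
  rw [isLocallyClosed_iff_isOpen_coborder] at h ⊢
  rw [coborder_preimage hopen hq] at h
  have := hopen _ h
  rwa [Set.image_preimage_eq _ hsurj] at this

instance closedImmersion_descends_fpqc :
    MorphismProperty.DescendsAlong (@IsClosedImmersion : MorphismProperty Scheme.{u})
      (@Surjective ⊓ @Flat ⊓ @QuasiCompact : MorphismProperty Scheme.{u}) :=
  Groth.Agent.S0083.result

lemma isImmersion_of_pullback_fst_fppf {X Y Y' : Scheme.{u}} (q : Y' ⟶ Y) (g : X ⟶ Y)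
    [Surjective q] [Flat q] [LocallyOfFinitePresentation q]
    [IsImmersion (pullback.fst q g)] : IsImmersion g := by
  -- range g is locally closed
  have hlc : IsLocallyClosed (Set.range g) := by
    apply isLocallyClosed_of_preimage q q.continuous q.isOpenMap q.surjective
    rw [← Scheme.Pullback.range_fst]
    exact (pullback.fst q g).isLocallyClosed_range
  obtain ⟨U, hU⟩ : ∃ U : Y.Opens, (U : Set Y) = coborder (Set.range g) :=
    ⟨⟨_, (isLocallyClosed_iff_isOpen_coborder.mp hlc)⟩, rfl⟩
  have hsub : Set.range g ⊆ Set.range U.ι := by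
    rw [Scheme.Opens.range_ι, hU]; exact subset_coborder
  obtain ⟨gU, hgU⟩ : ∃ gU : X ⟶ U, gU ≫ U.ι = g := ⟨IsOpenImmersion.lift U.ι g hsub, IsOpenImmersion.lift_fac _ _ _⟩
  have hclosedU : IsClosed (Set.range gU) := by
    have h1 : Set.range gU = U.ι ⁻¹' (Set.range g) := by
      rw [← hgU, Scheme.Hom.comp_base, TopCat.coe_comp, Set.range_comp,
        Set.preimage_image_eq _ U.ι.isEmbedding.injective]
    rw [h1]
    have := isClosed_preimage_val_coborder (s := Set.range g)
    rw [← hU] at this
    exact this
  -- base change to U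
  have hsq : IsPullback (q ⁻¹ᵁ U).ι (q ∣_ U) q U.ι := (isPullback_morphismRestrict q U).flip
  have hleft : IsPullback (pullback.fst (q ∣_ U) gU) (pullback.snd (q ∣_ U) gU) (q ∣_ U) gU :=
    IsPullback.of_hasPullback _ _
  have hbig := hleft.paste_horiz hsq
  rw [hgU] at hbig
  -- compare with pullback q g
  have hcomp : pullback.fst (q ∣_ U) gU ≫ (q ⁻¹ᵁ U).ι = hbig.isoPullback.hom ≫ pullback.fst q g :=
    (hbig.isoPullback_hom_fst).symm
  have hpre : IsPreimmersion (pullback.fst (q ∣_ U) gU ≫ (q ⁻¹ᵁ U).ι) := by
    rw [hcomp]; infer_instance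
  have hpre' : IsPreimmersion (pullback.fst (q ∣_ U) gU) := .of_comp _ (q ⁻¹ᵁ U).ι
  have hcl : IsClosed (Set.range (pullback.fst (q ∣_ U) gU)) := by
    rw [Scheme.Pullback.range_fst]
    exact hclosedU.preimage (q ∣_ U).continuous
  have hci : IsClosedImmersion (pullback.fst (q ∣_ U) gU) := .of_isPreimmersion _ hcl
  have hsurjU : Surjective (q ∣_ U) :=
    MorphismProperty.of_isPullback (P := @Surjective) hsq inferInstance
  have hgUci : IsClosedImmersion gU :=
    MorphismProperty.of_isPullback_of_descendsAlong (P := @IsClosedImmersion)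
      (Q := @Surjective ⊓ @Flat ⊓ @LocallyOfFinitePresentation) hleft
      ⟨⟨inferInstance, inferInstance⟩, inferInstance⟩ hci
  rw [← hgU]
  infer_instance

theorem S1125_main :
    MorphismProperty.DescendsAlong (@IsImmersion : MorphismProperty Scheme.{u})
      (@Surjective ⊓ @Flat ⊓ @LocallyOfFinitePresentation : MorphismProperty Scheme.{u}) := by
  apply DescendsAlong.mk'
  intro X Y Z f g _ hf hfst
  obtain ⟨⟨hf1, hf2⟩, hf3⟩ := hf
  have hf1' : Surjective f := hf1
  have hf2' : Flat f := hf2
  have hf3' : LocallyOfFinitePresentation f := hf3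
  have h1 : IsImmersion (pullback.fst f g) := hfst
  exact isImmersion_of_pullback_fst_fppf f g

end Groth.Agent.Lib.Helper4.DescImm1
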