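import Mathlib

/-!
# S18238: smooth monoid algebra of a fine sharp monoid is a polynomial algebra (helper4)
-/

set_option backward.isDefEq.respectTransparency.types false
set_option synthInstance.maxHeartbeats 400000
set_option autoImplicit false
set_option linter.unusedSectionVars false
set_option linter.style.haveILetI false
set_option linter.unusedSimpArgs false
universe u v w
open MvPolynomial

namespace Groth.Agent.Lib.Helper4.DiagMonSm1
noncomputable section

theorem exists_min_gen (N : Type) [AddCommMonoid N] [AddMonoid.FG N] :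
    ∃ S : Finset N, AddSubmonoid.closure (S : Set N) = ⊤ ∧
      ∀ g ∈ S, g ∉ AddSubmonoid.closure ((S : Set N) \ {g}) := by
  classical
  have hfg : (⊤ : AddSubmonoid N).FG := AddMonoid.fg_def.mp inferInstance
  have hex : ∃ n : ℕ, ∃ S : Finset N, AddSubmonoid.closure (S : Set N) = ⊤ ∧ S.card = n := by
    obtain ⟨S, hS⟩ := hfg
    exact ⟨S.card, S, hS, rfl⟩
  obtain ⟨S, hS, hcard⟩ := Nat.find_spec hex
  refine ⟨S, hS, fun g hg hmem => ?_⟩
  have hlt : (S.erase g).card < Nat.find hex := by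
    rw [← hcard]
    exact Finset.card_erase_lt_of_mem hg
  apply Nat.find_min hex hlt
  refine ⟨S.erase g, ?_, rfl⟩
  rw [Finset.coe_erase, eq_top_iff, ← hS, AddSubmonoid.closure_le]
  intro h hh
  by_cases hhg : h = g
  · rw [hhg]; exact hmem
  · exact AddSubmonoid.subset_closure ⟨hh, hhg⟩

section Mon

variable {N : Type} [AddCommMonoid N] {σ : Type} (a : σ → N)

/-- the monoid map `ℕ^σ → N` -/
def pim : (σ →₀ ℕ) →+ N := Finsupp.liftAddHom (fun i => (multiplesHom N) (a i))

theorem pim_single (i : σ) (n : ℕ) : pim a (Finsupp.single i n) = n • a i := by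
  simp [pim]

theorem pim_mem_closure (u : σ →₀ ℕ) (T : Set σ) (hu : ∀ i, u i ≠ 0 → i ∈ T) :
    pim a u ∈ AddSubmonoid.closure (a '' T) := by
  induction u using Finsupp.induction with
  | zero => simp
  | single_add i n u hi hn ih =>
    rw [map_add, pim_single]
    have hui : u i = 0 := Finsupp.notMem_support_iff.mp hi
    have h1 : i ∈ T := by
      apply hu i
      simp [hui, hn]
    have h2 : ∀ j, u j ≠ 0 → j ∈ T := by
      intro j hj
      apply hu j
      have hji : j ≠ i := fun h => hj (h ▸ hui)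
      simpa [Finsupp.single_apply, Ne.symm hji] using hj
    exact add_mem (nsmul_mem (AddSubmonoid.subset_closure (Set.mem_image_of_mem a h1)) _) (ih h2)

theorem pim_surjective (h : AddSubmonoid.closure (Set.range a) = ⊤) :
    Function.Surjective (pim a) := by
  intro n
  have hn : n ∈ AddSubmonoid.closure (Set.range a) := by rw [h]; trivial
  induction hn using AddSubmonoid.closure_induction with
  | mem x hx => obtain ⟨i, rfl⟩ := hx; exact ⟨Finsupp.single i 1, by simp [pim_single]⟩
  | zero => exact ⟨0, map_zero _⟩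
  | add x y _ _ hx hy =>
    obtain ⟨u, rfl⟩ := hx
    obtain ⟨v, rfl⟩ := hy
    exact ⟨u + v, map_add _ _ _⟩

end Mon

section Sharp

variable {N : Type} [AddCommMonoid N] [IsCancelAdd N] {σ : Type} (a : σ → N)
  (hsharp : ∀ n : N, IsAddUnit n → n = 0)
  (hmin : ∀ i, a i ∉ AddSubmonoid.closure (a '' {j | j ≠ i}))

include hmin in
theorem a_ne_zero (i : σ) : a i ≠ 0 := fun h => hmin i (h ▸ zero_mem _)

include hsharp hmin in
theorem pim_eq_zero (u : σ →₀ ℕ) (hu : pim a u = 0) : u = 0 := by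
  induction u using Finsupp.induction with
  | zero => rfl
  | single_add i n u hi hn ih =>
    exfalso
    rw [map_add, pim_single] at hu
    obtain ⟨m, rfl⟩ := Nat.exists_eq_succ_of_ne_zero hn
    rw [succ_nsmul, add_comm (m • a i), add_assoc] at hu
    exact a_ne_zero a hmin i (hsharp _ (isAddUnit_iff_exists_neg.mpr ⟨_, hu⟩))

include hsharp hmin in
theorem pim_eq_a (u : σ →₀ ℕ) (i : σ) (hu : pim a u = a i) : u = Finsupp.single i 1 := by
  by_cases hui : u i = 0
  · exfalso
    apply hmin i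
    rw [← hu]
    apply pim_mem_closure
    intro j hj hji
    exact hj (hji ▸ hui)
  · have hle : Finsupp.single i 1 ≤ u := by
      rw [Finsupp.single_le_iff]
      exact Nat.one_le_iff_ne_zero.mpr hui
    have h1 : Finsupp.single i 1 + (u - Finsupp.single i 1) = u := add_tsub_cancel_of_le hle
    have h2 : a i + pim a (u - Finsupp.single i 1) = a i + 0 := by
      have h4 : pim a (Finsupp.single i 1 + (u - Finsupp.single i 1)) = a i := by rw [h1, hu]
      rw [map_add, pim_single, one_nsmul] at h4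
      rw [h4, add_zero]
    have h3 := pim_eq_zero a hsharp hmin _ (add_left_cancel h2)
    rw [← h1, h3, add_zero]

end Sharp

section Alg

variable (R : Type u) [CommRing R] {N : Type} [AddCommMonoid N] {σ : Type} (a : σ → N)

/-- the algebra map `R[x_σ] → R[N]` -/
def Phi : MvPolynomial σ R →ₐ[R] AddMonoidAlgebra R N :=
  MvPolynomial.aeval (fun i => AddMonoidAlgebra.single (a i) (1 : R))

theorem Phi_monomial (u : σ →₀ ℕ) (r : R) :
    Phi R a (monomial u r) = AddMonoidAlgebra.single (pim a u) r := by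
  induction u using Finsupp.induction with
  | zero =>
    rw [map_zero]
    show Phi R a (C r) = _
    rw [Phi, aeval_C]
    rfl
  | single_add i n u hi hn ih =>
    rw [MvPolynomial.monomial_single_add, map_mul, map_pow, ih, map_add, pim_single]
    rw [Phi, aeval_X, AddMonoidAlgebra.single_pow, one_pow, AddMonoidAlgebra.single_mul_single,
      one_mul]

theorem Phi_coeff [DecidableEq N] (f : MvPolynomial σ R) (n : N) :
    (Phi R a f).coeff n = ∑ u ∈ f.support, if pim a u = n then MvPolynomial.coeff u f else 0 := by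
  conv_lhs => rw [f.as_sum, map_sum]
  rw [AddMonoidAlgebra.coeff_sum, Finsupp.finset_sum_apply]
  refine Finset.sum_congr rfl fun u _ => ?_
  rw [Phi_monomial, AddMonoidAlgebra.coeff_single, Finsupp.single_apply]

end Alg

section Main

variable (R : Type u) [CommRing R] {N : Type} [AddCommMonoid N] [IsCancelAdd N] {σ : Type}
  (a : σ → N) (hsharp : ∀ n : N, IsAddUnit n → n = 0)
  (hmin : ∀ i, a i ∉ AddSubmonoid.closure (a '' {j | j ≠ i}))

theorem Phi_surjective (h : AddSubmonoid.closure (Set.range a) = ⊤) :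
    Function.Surjective (Phi R a) := by
  intro y
  induction y using AddMonoidAlgebra.induction_on with
  | of n =>
    obtain ⟨u, rfl⟩ := pim_surjective a h n
    refine ⟨monomial u 1, ?_⟩
    rw [Phi_monomial]
    rfl
  | add x y hx hy =>
    obtain ⟨x, rfl⟩ := hx
    obtain ⟨y, rfl⟩ := hy
    exact ⟨x + y, map_add _ _ _⟩
  | smul r x hx =>
    obtain ⟨x, rfl⟩ := hx
    exact ⟨r • x, map_smul _ _ _⟩

theorem eq_single_of_degree_eq_one (x : σ →₀ ℕ) (h : x.degree = 1) :
    ∃ i, x = Finsupp.single i 1 := by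
  have hx0 : x ≠ 0 := by
    rintro rfl
    simp at h
  obtain ⟨i, hi⟩ : ∃ i, x i ≠ 0 := by
    by_contra hne
    push Not at hne
    exact hx0 (Finsupp.ext hne)
  have hle : Finsupp.single i 1 ≤ x := by
    rw [Finsupp.single_le_iff]
    exact Nat.one_le_iff_ne_zero.mpr hi
  have h1 : Finsupp.single i 1 + (x - Finsupp.single i 1) = x := add_tsub_cancel_of_le hle
  have h2 : (Finsupp.single i 1 : σ →₀ ℕ).degree + (x - Finsupp.single i 1).degree = 1 := by
    rw [← map_add, h1, h]
  rw [Finsupp.degree_single] at h2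
  have h3 : (x - Finsupp.single i 1).degree = 0 := by omega
  rw [Finsupp.degree_eq_zero_iff] at h3
  exact ⟨i, by rw [← h1, h3, add_zero]⟩

include hsharp hmin in
theorem ker_le_sq : RingHom.ker (Phi R a) ≤ idealOfVars σ R ^ 2 := by
  classical
  intro f hf
  rw [RingHom.mem_ker] at hf
  rw [mem_pow_idealOfVars_iff']
  intro x hx
  by_cases hfx : MvPolynomial.coeff x f = 0
  · exact hfx
  have hxs : x ∈ f.support := MvPolynomial.mem_support_iff.mpr hfx
  have hdeg : x.degree = 0 ∨ x.degree = 1 := by omega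
  rcases hdeg with h0 | h1
  · have hx0 : x = 0 := (Finsupp.degree_eq_zero_iff x).mp h0
    have h2 := Phi_coeff R a f 0
    rw [hf, AddMonoidAlgebra.coeff_zero, Finsupp.zero_apply,
      Finset.sum_eq_single (0 : σ →₀ ℕ)] at h2
    · rw [map_zero (pim a), if_pos rfl] at h2
      rw [hx0]; exact h2.symm
    · intro u _ hu
      rw [if_neg]
      exact fun h => hu (pim_eq_zero a hsharp hmin u h)
    · intro h
      rw [MvPolynomial.notMem_support_iff.mp h]; simp
  · obtain ⟨i, hi⟩ := eq_single_of_degree_eq_one x h1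
    have h2 := Phi_coeff R a f (a i)
    rw [hf, AddMonoidAlgebra.coeff_zero, Finsupp.zero_apply,
      Finset.sum_eq_single (Finsupp.single i 1 : σ →₀ ℕ)] at h2
    · rw [pim_single, one_nsmul, if_pos rfl] at h2
      rw [hi]; exact h2.symm
    · intro u _ hu
      rw [if_neg]
      exact fun h => hu (pim_eq_a a hsharp hmin u i h)
    · intro h
      rw [MvPolynomial.notMem_support_iff.mp h]; simp

end Main

section Smooth

variable {R : Type u} [CommRing R] {P B : Type u} [CommRing P] [CommRing B] [Algebra R P]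
  [Algebra R B] [Algebra.FormallySmooth R B]

/-- If `Φ : P → B` is surjective with `B` formally smooth and `ker Φ ≤ 𝔫 ^ 2`, then
`ker Φ ≤ 𝔫 * ker Φ`. -/
theorem ker_le_mul_ker (Φ : P →ₐ[R] B) (hΦ : Function.Surjective Φ) (𝔫 : Ideal P)
    (hle : RingHom.ker Φ ≤ 𝔫 ^ 2) : RingHom.ker Φ ≤ 𝔫 * RingHom.ker Φ := by
  set J : Ideal P := RingHom.ker Φ with hJ
  have hJ𝔫 : J ≤ 𝔫 := hle.trans (Ideal.pow_le_self two_ne_zero)
  have hmulle : 𝔫 * J ≤ J := Ideal.mul_le_right
  let p : (P ⧸ (𝔫 * J)) →ₐ[R] B := Ideal.Quotient.liftₐ (𝔫 * J) Φ (fun x hx => hmulle hx)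
  have hp : ∀ x, p (Ideal.Quotient.mk _ x) = Φ x := fun x => rfl
  have hpsurj : Function.Surjective p := fun y => by
    obtain ⟨x, rfl⟩ := hΦ y
    exact ⟨Ideal.Quotient.mk _ x, rfl⟩
  let Jb : Ideal (P ⧸ (𝔫 * J)) := J.map (Ideal.Quotient.mk _)
  let 𝔫b : Ideal (P ⧸ (𝔫 * J)) := 𝔫.map (Ideal.Quotient.mk _)
  have hker : RingHom.ker (p : (P ⧸ (𝔫 * J)) →+* B) = Jb := by
    apply le_antisymm
    · intro x hx
      obtain ⟨x, rfl⟩ := Ideal.Quotient.mk_surjective x
      rw [RingHom.mem_ker] at hx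
      have : Φ x = 0 := hx
      exact Ideal.mem_map_of_mem _ (this : x ∈ J)
    · rw [Ideal.map_le_iff_le_comap]
      intro x hx
      rw [Ideal.mem_comap, RingHom.mem_ker]
      exact hx
  have hJ𝔫b : Jb * 𝔫b = ⊥ := by
    rw [← Ideal.map_mul, mul_comm, Ideal.map_quotient_self]
  have hJbsq : Jb ^ 2 = ⊥ := by
    rw [eq_bot_iff, pow_two, ← hJ𝔫b]
    exact Ideal.mul_mono_right (Ideal.map_mono hJ𝔫)
  have hnil : IsNilpotent (RingHom.ker (p : (P ⧸ (𝔫 * J)) →+* B)) := ⟨2, by rw [hker]; exact hJbsq⟩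
  let τ := Algebra.FormallySmooth.liftOfSurjective (AlgHom.id R B) p hpsurj hnil
  have hτ : ∀ y, p (τ y) = y := fun y =>
    Algebra.FormallySmooth.liftOfSurjective_apply (AlgHom.id R B) p hpsurj hnil y
  let ψ : P →ₐ[R] (P ⧸ (𝔫 * J)) := τ.comp Φ
  let q : P →ₐ[R] (P ⧸ (𝔫 * J)) := Ideal.Quotient.mkₐ R (𝔫 * J)
  have hdiff : ∀ g, ψ g - q g ∈ Jb := by
    intro g
    rw [← hker, RingHom.mem_ker, map_sub]
    show p (τ (Φ g)) - p (Ideal.Quotient.mk _ g) = 0
    rw [hτ, hp, sub_self]
  have hq𝔫 : ∀ g ∈ 𝔫, q g ∈ 𝔫b := fun g hg => Ideal.mem_map_of_mem _ hg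
  have hψ𝔫 : ∀ g ∈ 𝔫, ψ g ∈ 𝔫b := by
    intro g hg
    have h1 : ψ g = (ψ g - q g) + q g := by ring
    rw [h1]
    exact Ideal.add_mem _ (Ideal.map_mono hJ𝔫 (hdiff g)) (hq𝔫 g hg)
  have hprod : ∀ g ∈ 𝔫, ∀ h ∈ 𝔫, ψ (g * h) = q (g * h) := by
    intro g hg h hh
    have h1 : ψ (g * h) - q (g * h) = (ψ g - q g) * ψ h + (ψ h - q h) * q g := by
      rw [map_mul, map_mul]; ring
    have h2 : (ψ g - q g) * ψ h ∈ Jb * 𝔫b := Ideal.mul_mem_mul (hdiff g) (hψ𝔫 h hh)
    have h3 : (ψ h - q h) * q g ∈ Jb * 𝔫b := Ideal.mul_mem_mul (hdiff h) (hq𝔫 g hg)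
    rw [hJ𝔫b, Ideal.mem_bot] at h2 h3
    rw [h2, h3, add_zero] at h1
    exact sub_eq_zero.mp h1
  have hsq : ∀ f ∈ 𝔫 ^ 2, ψ f = q f := by
    intro f hf
    rw [pow_two] at hf
    induction hf using Submodule.mul_induction_on' with
    | mem_mul_mem g hg h hh => exact hprod g hg h hh
    | add x _ y _ hx hy => rw [map_add, map_add, hx, hy]
  intro f hf
  have h1 : ψ f = 0 := by
    show τ (Φ f) = 0
    rw [(hf : Φ f = 0), map_zero]
  have h2 : q f = 0 := by rw [← hsq f (hle hf), h1]
  exact Ideal.Quotient.eq_zero_iff_mem.mp h2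

end Smooth

theorem main (R : Type u) [CommRing R] (N : Type)
    [AddCommMonoid N] [AddMonoid.FG N] [IsCancelAdd N] (hsharp : ∀ n : N, IsAddUnit n → n = 0)
    [Algebra.Smooth R (AddMonoidAlgebra R N)] :
    ∃ (P : Type u) (_ : AddCommGroup P) (_ : Module R P), Module.Finite R P ∧
      Module.Projective R P ∧ Nonempty (AddMonoidAlgebra R N ≃ₐ[R] SymmetricAlgebra R P) := by
  obtain ⟨S, hS, hSmin⟩ := exists_min_gen N
  let σ : Type := ↥S
  let a : σ → N := Subtype.val
  have hrange : Set.range a = (S : Set N) := Subtype.range_coe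
  have hgen : AddSubmonoid.closure (Set.range a) = ⊤ := by rw [hrange, hS]
  have hmin : ∀ i, a i ∉ AddSubmonoid.closure (a '' {j | j ≠ i}) := by
    intro i hi
    apply hSmin i.1 i.2
    refine AddSubmonoid.closure_mono ?_ hi
    rintro _ ⟨j, hj, rfl⟩
    exact ⟨j.2, fun h => hj (Subtype.ext h)⟩
  have hsurj := Phi_surjective R a hgen
  have hle := ker_le_sq R a hsharp hmin
  have hFS : Algebra.FormallySmooth R (AddMonoidAlgebra R N) := inferInstance
  have hmul := ker_le_mul_ker (Phi R a) hsurj (idealOfVars σ R) hle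
  have hpow : ∀ m, RingHom.ker (Phi R a) ≤ idealOfVars σ R ^ m := by
    intro m
    induction m with
    | zero => simp
    | succ m ih =>
      calc RingHom.ker (Phi R a) ≤ idealOfVars σ R * RingHom.ker (Phi R a) := hmul
        _ ≤ idealOfVars σ R * idealOfVars σ R ^ m := Ideal.mul_mono_right ih
        _ = idealOfVars σ R ^ (m + 1) := (pow_succ' _ _).symm
  have hinj : Function.Injective (Phi R a) := by
    rw [injective_iff_map_eq_zero]
    intro f hf
    ext x
    have := (mem_pow_idealOfVars_iff' (x.degree + 1) f).mp (hpow _ hf) x (Nat.lt_succ_self _)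
    simpa using this
  let e1 : MvPolynomial σ R ≃ₐ[R] AddMonoidAlgebra R N :=
    AlgEquiv.ofBijective (Phi R a) ⟨hinj, hsurj⟩
  let e2 := SymmetricAlgebra.equivMvPolynomial (Pi.basisFun R σ)
  exact ⟨σ → R, inferInstance, inferInstance, inferInstance, inferInstance,
    ⟨e1.symm.trans e2.symm⟩⟩

end
end Groth.Agent.Lib.Helper4.DiagMonSm1
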