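import Mathlib
import Groth.Agent.Lib.Helper4.DiagMonSm1

/-!
# S18239 part 1: height function on a fine sharp monoid (Dickson) (helper4)
-/

set_option backward.isDefEq.respectTransparency.types false
set_option synthInstance.maxHeartbeats 400000
set_option autoImplicit false
set_option linter.unusedSectionVars false
set_option linter.style.haveILetI false
set_option linter.unusedSimpArgs false
universe u v w
open Groth.Agent.Lib.Helper4.DiagMonSm1

namespace Groth.Agent.Lib.Helper4.DiagMonGr1
noncomputable section

/-- A fine sharp monoid carries a strictly superadditive height function. -/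
theorem exists_height (N : Type) [AddCommMonoid N] [AddMonoid.FG N] [IsCancelAdd N]
    (hsharp : ∀ n : N, IsAddUnit n → n = 0) :
    ∃ h : N → ℕ, ∀ m k : N, k ≠ 0 → h m < h (m + k) := by
  classical
  obtain ⟨S, hS, hSmin⟩ := exists_min_gen N
  let σ : Type := ↥S
  let a : σ → N := Subtype.val
  have hrange : Set.range a = (S : Set N) := Subtype.range_coe
  have hgen : AddSubmonoid.closure (Set.range a) = ⊤ := by rw [hrange, hS]
  have hmin : ∀ i, a i ∉ AddSubmonoid.closure (a '' {j | j ≠ i}) := by
    intro i hi
    apply hSmin i.1 i.2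
    refine AddSubmonoid.closure_mono ?_ hi
    rintro _ ⟨j, hj, rfl⟩
    exact ⟨j.2, fun h => hj (Subtype.ext h)⟩
  have hsurj := pim_surjective a hgen
  let F : N → Set (σ →₀ ℕ) := fun n => {u | pim a u = n}
  have hanti : ∀ n, IsAntichain (· ≤ ·) (F n) := by
    intro n u hu v hv huv hle
    apply huv
    obtain ⟨w, rfl⟩ := exists_add_of_le hle
    have h1 : pim a u + pim a w = pim a u + 0 := by
      rw [add_zero, ← map_add, (hv : pim a (u + w) = n), (hu : pim a u = n)]
    have h2 := pim_eq_zero a hsharp hmin w (add_left_cancel h1)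
    rw [h2, add_zero]
  have hfin : ∀ n, (F n).Finite := fun n =>
    (hanti n).finite_of_partiallyWellOrderedOn (Set.isPWO_of_wellQuasiOrderedLE (F n))
  refine ⟨fun n => (hfin n).toFinset.sup Finsupp.degree, fun m k hk => ?_⟩
  obtain ⟨u₀, hu₀⟩ := hsurj m
  have hne : (hfin m).toFinset.Nonempty := ⟨u₀, (hfin m).mem_toFinset.mpr hu₀⟩
  obtain ⟨u, hu, hsup⟩ := Finset.exists_mem_eq_sup _ hne Finsupp.degree
  have hu' : pim a u = m := (hfin m).mem_toFinset.mp hu
  obtain ⟨w, hw⟩ := hsurj k
  have hw0 : w ≠ 0 := by
    rintro rfl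
    exact hk (by rw [← hw, map_zero])
  have hdeg : 1 ≤ w.degree := by
    rw [Nat.one_le_iff_ne_zero, Ne, Finsupp.degree_eq_zero_iff]
    exact hw0
  have hmem : u + w ∈ (hfin (m + k)).toFinset := by
    rw [Set.Finite.mem_toFinset]
    show pim a (u + w) = m + k
    rw [map_add, hu', hw]
  have hle := Finset.le_sup (f := Finsupp.degree) hmem
  rw [map_add] at hle
  show (hfin m).toFinset.sup Finsupp.degree < (hfin (m + k)).toFinset.sup Finsupp.degree
  rw [hsup]
  omega

end
end Groth.Agent.Lib.Helper4.DiagMonGr1
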