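import Mathlib

/-!
# S18239 part 2: cotangent module of a retraction of a smooth algebra is f.g. projective (helper4)
-/

set_option backward.isDefEq.respectTransparency.types false
set_option synthInstance.maxHeartbeats 400000
set_option autoImplicit false
set_option linter.unusedSectionVars false
set_option linter.style.haveILetI false
set_option linter.unusedSimpArgs false
universe u v w
open Algebra

namespace Groth.Agent.Lib.Helper4.DiagMonGr2
noncomputable section

theorem formallySmooth_of_retract {R A₀ A : Type u} [CommRing R] [CommRing A₀] [CommRing A]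
    [Algebra R A₀] [Algebra R A] [Algebra.FormallySmooth R A]
    (i : A₀ →ₐ[R] A) (p : A →ₐ[R] A₀) (hpi : ∀ x, p (i x) = x) : Algebra.FormallySmooth R A₀ := by
  apply Algebra.FormallySmooth.of_comp_surjective
  intro C _ _ J hJ g
  have hnil : IsNilpotent J := ⟨2, hJ⟩
  let v : A →ₐ[R] C := Algebra.FormallySmooth.lift J hnil (g.comp p)
  have hv : ∀ y, Ideal.Quotient.mk J (v y) = g (p y) := Algebra.FormallySmooth.mk_lift J hnil (g.comp p)
  refine ⟨v.comp i, ?_⟩
  ext x
  show Ideal.Quotient.mk J (v (i x)) = g x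
  rw [hv, hpi]

theorem exists_cotangent_data {R A₀ A : Type u} [CommRing R] [CommRing A₀] [CommRing A]
    [Algebra R A₀] [Algebra R A] [Algebra A₀ A] [IsScalarTower R A₀ A]
    [Algebra.FormallySmooth R A] [Algebra.FiniteType R A] (π₀ : A →ₐ[A₀] A₀) :
    ∃ (Q : Type u) (_ : AddCommGroup Q) (_ : Module A₀ Q), Module.Finite A₀ Q ∧
      Module.Projective A₀ Q ∧
      ∃ (q : A →ₗ[A₀] Q) (s : Q →ₗ[A₀] A), (∀ y, q (s y) = y) ∧ (∀ y, π₀ (s y) = 0) ∧
        ∀ x, q x = 0 ↔ x - algebraMap A₀ A (π₀ x) ∈ (RingHom.ker π₀) ^ 2 := by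
  have hπ : ∀ a : A₀, π₀ (algebraMap A₀ A a) = a := fun a => by
    rw [AlgHom.commutes]; rfl
  let f : A →ₐ[R] A₀ := π₀.restrictScalars R
  have hf : Function.Surjective f := fun a => ⟨algebraMap A₀ A a, hπ a⟩
  haveI : Algebra.FormallySmooth R A₀ :=
    formallySmooth_of_retract (IsScalarTower.toAlgHom R A₀ A) f hπ
  let E : Algebra.Extension R A₀ := Algebra.Extension.ofSurjective f hf
  haveI : Algebra.FormallySmooth R E.Ring := (inferInstance : Algebra.FormallySmooth R A)
  obtain ⟨l, hl⟩ := (E.formallySmooth_iff_split_injection).mp inferInstance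
  haveI : Module.Finite E.Ring Ω[E.Ring⁄R] := (inferInstance : Module.Finite A Ω[A⁄R])
  haveI : Module.Projective E.Ring Ω[E.Ring⁄R] := (inferInstance : Module.Projective A Ω[A⁄R])
  haveI : Module.Projective A₀ E.CotangentSpace := inferInstance
  haveI : Module.Finite A₀ E.CotangentSpace := inferInstance
  have hproj : Module.Projective A₀ E.Cotangent := Module.Projective.of_split E.cotangentComplex l hl
  have hfin : Module.Finite A₀ E.Cotangent :=
    Module.Finite.of_surjective l (fun y => ⟨E.cotangentComplex y, LinearMap.congr_fun hl y⟩)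
  -- the projection onto the kernel
  let δ : A →ₗ[A₀] A := LinearMap.id - (Algebra.linearMap A₀ A).comp π₀.toLinearMap
  have hδ_apply : ∀ x, δ x = x - algebraMap A₀ A (π₀ x) := fun x => rfl
  have hker : ∀ x : A, x ∈ E.ker ↔ π₀ x = 0 := fun x => Iff.rfl
  have hδ : ∀ x, δ x ∈ E.ker := by
    intro x
    rw [hker, hδ_apply, map_sub, hπ, sub_self]
  have hδ_of : ∀ x, π₀ x = 0 → δ x = x := by
    intro x hx
    rw [hδ_apply, hx, map_zero, sub_zero]
  have hsmul : ∀ (a : A₀) (r : E.Ring), algebraMap E.Ring A₀ r = a → ∀ y : E.Cotangent,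
      r • y = a • y := by
    intro a r hr y
    rw [← algebraMap_smul A₀ r y, hr]
  let q : A →ₗ[A₀] E.Cotangent :=
    { toFun := fun x => Algebra.Extension.Cotangent.mk ⟨δ x, hδ x⟩
      map_add' := fun x y => by
        rw [← map_add]
        congr 1
        ext
        exact map_add δ x y
      map_smul' := fun a x => by
        rw [RingHom.id_apply]
        let r : E.Ring := algebraMap A₀ A a
        have hr : algebraMap E.Ring A₀ r = a := hπ a
        rw [← hsmul a r hr, ← map_smul]
        congr 1
        ext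
        show δ (a • x) = algebraMap A₀ A a * δ x
        rw [map_smul, Algebra.smul_def] }
  have hq_apply : ∀ x, q x = Algebra.Extension.Cotangent.mk ⟨δ x, hδ x⟩ := fun x => rfl
  have hq_surj : Function.Surjective q := by
    intro y
    obtain ⟨⟨x, hx⟩, rfl⟩ := Algebra.Extension.Cotangent.mk_surjective y
    refine ⟨x, ?_⟩
    rw [hq_apply]
    congr 1
    ext
    exact hδ_of x ((hker x).mp hx)
  have hq_δ : ∀ x, q (δ x) = q x := by
    intro x
    rw [hq_apply, hq_apply]
    congr 1
    ext
    exact hδ_of _ ((hker _).mp (hδ x))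
  obtain ⟨s₁, hs₁⟩ := Module.projective_lifting_property q LinearMap.id hq_surj
  refine ⟨E.Cotangent, inferInstance, inferInstance, hfin, hproj, q, δ.comp s₁, ?_, ?_, ?_⟩
  · intro y
    rw [LinearMap.comp_apply, hq_δ]
    exact LinearMap.congr_fun hs₁ y
  · intro y
    exact (hker _).mp (hδ (s₁ y))
  · intro x
    rw [hq_apply, Algebra.Extension.Cotangent.mk_eq_zero_iff]
    rfl

end
end Groth.Agent.Lib.Helper4.DiagMonGr2
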