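import Mathlib

/-!
# S18239 part 3: symmetric algebra of a f.g. projective module: augmentation ideal (helper4)
-/

set_option backward.isDefEq.respectTransparency.types false
set_option synthInstance.maxHeartbeats 400000
set_option autoImplicit false
set_option linter.unusedSectionVars false
set_option linter.style.haveILetI false
set_option linter.unusedSimpArgs false
universe u v w
open MvPolynomial

namespace Groth.Agent.Lib.Helper4.DiagMonGr3
noncomputable section

section Sym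

variable (S₀ : Type u) [CommRing S₀] (Q : Type u) [AddCommGroup Q] [Module S₀ Q]

/-- the augmentation ideal of the symmetric algebra -/
def augI : Ideal (SymmetricAlgebra S₀ Q) := Ideal.span (Set.range (SymmetricAlgebra.ι S₀ Q))

variable {S₀ Q}

theorem ι_mem_augI (y : Q) : SymmetricAlgebra.ι S₀ Q y ∈ augI S₀ Q :=
  Ideal.subset_span ⟨y, rfl⟩

theorem exists_decomp (f : SymmetricAlgebra S₀ Q) :
    ∃ (c : S₀) (y : Q) (g : SymmetricAlgebra S₀ Q), g ∈ augI S₀ Q ^ 2 ∧
      f = algebraMap S₀ _ c + SymmetricAlgebra.ι S₀ Q y + g := by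
  induction f using SymmetricAlgebra.induction with
  | algebraMap r => exact ⟨r, 0, 0, zero_mem _, by simp⟩
  | ι x => exact ⟨0, x, 0, zero_mem _, by simp⟩
  | add a b ha hb =>
    obtain ⟨c, y, g, hg, rfl⟩ := ha
    obtain ⟨c', y', g', hg', rfl⟩ := hb
    exact ⟨c + c', y + y', g + g', add_mem hg hg', by simp only [map_add]; ring⟩
  | mul a b ha hb =>
    obtain ⟨c, y, g, hg, rfl⟩ := ha
    obtain ⟨c', y', g', hg', rfl⟩ := hb
    refine ⟨c * c', c • y' + c' • y,
      SymmetricAlgebra.ι S₀ Q y * SymmetricAlgebra.ι S₀ Q y' + algebraMap S₀ _ c * g' +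
        algebraMap S₀ _ c' * g + SymmetricAlgebra.ι S₀ Q y * g' + SymmetricAlgebra.ι S₀ Q y' * g +
        g * g', ?_, ?_⟩
    · have h1 : SymmetricAlgebra.ι S₀ Q y * SymmetricAlgebra.ι S₀ Q y' ∈ augI S₀ Q ^ 2 := by
        rw [pow_two]
        exact Ideal.mul_mem_mul (ι_mem_augI y) (ι_mem_augI y')
      exact add_mem (add_mem (add_mem (add_mem (add_mem h1 (Ideal.mul_mem_left _ _ hg'))
        (Ideal.mul_mem_left _ _ hg)) (Ideal.mul_mem_left _ _ hg')) (Ideal.mul_mem_left _ _ hg))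
        (Ideal.mul_mem_left _ _ hg')
    · simp only [map_add, map_mul, map_smul, Algebra.smul_def]
      ring

theorem eq_zero_of_forall_mem_pow_augI [Module.Finite S₀ Q] [Module.Projective S₀ Q]
    (f : SymmetricAlgebra S₀ Q) (hf : ∀ m : ℕ, f ∈ augI S₀ Q ^ m) : f = 0 := by
  obtain ⟨n, r, i, -, -, hri⟩ := Module.Finite.exists_comp_eq_id_of_projective S₀ Q
  let j : SymmetricAlgebra S₀ Q →ₐ[S₀] SymmetricAlgebra S₀ (Fin n → S₀) :=
    SymmetricAlgebra.lift ((SymmetricAlgebra.ι S₀ (Fin n → S₀)).comp i)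
  let r' : SymmetricAlgebra S₀ (Fin n → S₀) →ₐ[S₀] SymmetricAlgebra S₀ Q :=
    SymmetricAlgebra.lift ((SymmetricAlgebra.ι S₀ Q).comp r)
  have hr'j : r'.comp j = AlgHom.id S₀ _ := by
    apply SymmetricAlgebra.algHom_ext
    ext y
    show r' (j (SymmetricAlgebra.ι S₀ Q y)) = SymmetricAlgebra.ι S₀ Q y
    rw [SymmetricAlgebra.lift_ι_apply, LinearMap.comp_apply, SymmetricAlgebra.lift_ι_apply,
      LinearMap.comp_apply]
    congr 1
    exact LinearMap.congr_fun hri y
  let e := SymmetricAlgebra.equivMvPolynomial (Pi.basisFun S₀ (Fin n))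
  let ψ : SymmetricAlgebra S₀ Q →ₐ[S₀] MvPolynomial (Fin n) S₀ := e.toAlgHom.comp j
  have hψinj : Function.Injective ψ := by
    intro x y hxy
    have h1 : j x = j y := e.injective hxy
    have h2 := congrArg r' h1
    have h3 : ∀ z, r' (j z) = z := fun z => AlgHom.congr_fun hr'j z
    rwa [h3, h3] at h2
  have hbasis : ∀ v : Fin n → S₀, e (SymmetricAlgebra.ι S₀ _ v) ∈ idealOfVars (Fin n) S₀ := by
    intro v
    let W : Submodule S₀ (Fin n → S₀) :=
      ((idealOfVars (Fin n) S₀).restrictScalars S₀).comap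
        (e.toLinearMap ∘ₗ SymmetricAlgebra.ι S₀ (Fin n → S₀))
    have hW : (⊤ : Submodule S₀ (Fin n → S₀)) ≤ W := by
      rw [← (Pi.basisFun S₀ (Fin n)).span_eq, Submodule.span_le]
      rintro _ ⟨k, rfl⟩
      show e (SymmetricAlgebra.ι S₀ _ (Pi.basisFun S₀ (Fin n) k)) ∈ idealOfVars (Fin n) S₀
      rw [SymmetricAlgebra.equivMvPolynomial_ι_apply]
      exact Ideal.subset_span ⟨k, rfl⟩
    exact hW (Submodule.mem_top : v ∈ ⊤)
  have hmap : (augI S₀ Q).map ψ ≤ idealOfVars (Fin n) S₀ := by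
    rw [Ideal.map_le_iff_le_comap, augI, Ideal.span_le]
    rintro _ ⟨y, rfl⟩
    show ψ (SymmetricAlgebra.ι S₀ Q y) ∈ idealOfVars (Fin n) S₀
    show e (j (SymmetricAlgebra.ι S₀ Q y)) ∈ _
    rw [SymmetricAlgebra.lift_ι_apply]
    exact hbasis _
  have hψf : ∀ m, ψ f ∈ idealOfVars (Fin n) S₀ ^ m := by
    intro m
    have h1 : ψ f ∈ (augI S₀ Q ^ m).map ψ := Ideal.mem_map_of_mem _ (hf m)
    rw [Ideal.map_pow] at h1
    exact Ideal.pow_right_mono hmap m h1
  have hψ0 : ψ f = 0 := by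
    ext x
    have := (mem_pow_idealOfVars_iff' (x.degree + 1) (ψ f)).mp (hψf _) x (Nat.lt_succ_self _)
    simpa using this
  exact hψinj (by rw [hψ0, map_zero])

end Sym

end
end Groth.Agent.Lib.Helper4.DiagMonGr3
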