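import Mathlib

/-!
# S18239 part 4: gradings by a sharp monoid, graded section of the cotangent projection (helper4)
-/

set_option backward.isDefEq.respectTransparency.types false
set_option synthInstance.maxHeartbeats 400000
set_option autoImplicit false
set_option linter.unusedSectionVars false
set_option linter.style.haveILetI false
set_option linter.unusedSimpArgs false
universe u v w
open DirectSum

namespace Groth.Agent.Lib.Helper4.DiagMonGr4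
noncomputable section

section Graded

variable {R A : Type u} [CommRing R] [CommRing A] [Algebra R A] {N : Type} [AddCommMonoid N]
  [DecidableEq N] (𝒜 : N → Submodule R A) [GradedAlgebra 𝒜]

/-- component projections as `𝒜 0`-linear maps -/
def Pn (n : N) : A →ₗ[𝒜 0] A where
  toFun x := (decompose 𝒜 x n : A)
  map_add' x y := by rw [decompose_add, DirectSum.add_apply, Submodule.coe_add]
  map_smul' a x := by
    rw [RingHom.id_apply]
    show ((decompose 𝒜 ((a : A) * x)) n : A) = (a : A) * (decompose 𝒜 x n : A)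
    exact coe_decompose_mul_of_left_mem_zero 𝒜 a.2

theorem Pn_apply (n : N) (x : A) : Pn 𝒜 n x = (decompose 𝒜 x n : A) := rfl

theorem Pn_mem (n : N) (x : A) : Pn 𝒜 n x ∈ 𝒜 n := SetLike.coe_mem _

theorem Pn_of_mem {n : N} {x : A} (hx : x ∈ 𝒜 n) : Pn 𝒜 n x = x := decompose_of_mem_same 𝒜 hx

theorem Pn_of_mem_ne {n m : N} {x : A} (hx : x ∈ 𝒜 m) (h : m ≠ n) : Pn 𝒜 n x = 0 :=
  decompose_of_mem_ne 𝒜 hx h

theorem Pn_Pn (n m : N) (x : A) : Pn 𝒜 n (Pn 𝒜 m x) = if m = n then Pn 𝒜 m x else 0 := by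
  split_ifs with h
  · subst h; exact Pn_of_mem 𝒜 (Pn_mem 𝒜 m x)
  · exact Pn_of_mem_ne 𝒜 (Pn_mem 𝒜 m x) h

theorem exists_finset_sum_Pn (x : A) :
    ∃ D : Finset N, (∀ m, m ∉ D → Pn 𝒜 m x = 0) ∧
      ∀ D' : Finset N, D ⊆ D' → ∑ n ∈ D', Pn 𝒜 n x = x := by
  classical
  have h0 : ∀ m, m ∉ (decompose 𝒜 x).support → Pn 𝒜 m x = 0 := by
    intro m hm
    rw [Pn_apply, DFinsupp.notMem_support_iff.mp hm]
    rfl
  refine ⟨(decompose 𝒜 x).support, h0, fun D' hD' => ?_⟩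
  rw [← Finset.sum_subset hD']
  · exact sum_support_decompose 𝒜 x
  · intro n _ hn
    exact h0 n hn

variable (hsharp : ∀ n : N, IsAddUnit n → n = 0)

include hsharp in
theorem eq_zero_of_add_eq_zero {i j : N} (h : i + j = 0) : i = 0 ∧ j = 0 := by
  have hi : i = 0 := hsharp i (isAddUnit_iff_exists_neg.mpr ⟨j, h⟩)
  refine ⟨hi, ?_⟩
  rw [hi, zero_add] at h
  exact h

include hsharp in
theorem coe_decompose_mul_zero (x y : A) :
    (decompose 𝒜 (x * y) 0 : A) = (decompose 𝒜 x 0 : A) * (decompose 𝒜 y 0 : A) := by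
  revert y
  induction x using DirectSum.Decomposition.inductionOn 𝒜 with
  | zero => intro y; simp
  | @homogeneous i c =>
    intro y
    induction y using DirectSum.Decomposition.inductionOn 𝒜 with
    | zero => simp
    | @homogeneous j c' =>
      by_cases h : i + j = 0
      · obtain ⟨hi, hj⟩ := eq_zero_of_add_eq_zero hsharp h
        rw [decompose_of_mem_same 𝒜
            (show (c : A) * c' ∈ 𝒜 0 from h ▸ SetLike.GradedMul.mul_mem c.2 c'.2),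
          decompose_of_mem_same 𝒜 (show (c : A) ∈ 𝒜 0 from hi ▸ c.2),
          decompose_of_mem_same 𝒜 (show (c' : A) ∈ 𝒜 0 from hj ▸ c'.2)]
      · rw [decompose_of_mem_ne 𝒜 (SetLike.GradedMul.mul_mem c.2 c'.2) h]
        have h' : i ≠ 0 ∨ j ≠ 0 := by
          by_contra hcon
          push Not at hcon
          exact h (by rw [hcon.1, hcon.2, add_zero])
        rcases h' with h' | h'
        · rw [decompose_of_mem_ne 𝒜 c.2 h', zero_mul]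
        · rw [decompose_of_mem_ne 𝒜 c'.2 h', mul_zero]
    | add a b ha hb =>
      rw [mul_add, decompose_add, DirectSum.add_apply, Submodule.coe_add, ha, hb, decompose_add, DirectSum.add_apply,
        Submodule.coe_add, mul_add]
  | add a b ha hb =>
    intro y
    rw [add_mul, decompose_add, DirectSum.add_apply, Submodule.coe_add, ha, hb, decompose_add, DirectSum.add_apply,
      Submodule.coe_add, add_mul]

/-- the degree zero projection as an algebra map -/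
def pi0 : A →ₐ[𝒜 0] 𝒜 0 where
  toFun x := decompose 𝒜 x 0
  map_one' := Subtype.ext (decompose_of_mem_same 𝒜 SetLike.GradedOne.one_mem)
  map_zero' := by rw [decompose_zero]; rfl
  map_add' x y := by rw [decompose_add]; rfl
  map_mul' x y := Subtype.ext (coe_decompose_mul_zero 𝒜 hsharp x y)
  commutes' a := Subtype.ext (decompose_of_mem_same 𝒜 a.2)

theorem coe_pi0 (x : A) : ((pi0 𝒜 hsharp x : 𝒜 0) : A) = Pn 𝒜 0 x := rfl

theorem pi0_eq_zero_iff (x : A) : pi0 𝒜 hsharp x = 0 ↔ Pn 𝒜 0 x = 0 := by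
  rw [← coe_pi0 𝒜 hsharp]
  exact ⟨fun h => by rw [h]; rfl, fun h => Subtype.ext h⟩

theorem mem_ker_iff (x : A) : x ∈ RingHom.ker (pi0 𝒜 hsharp) ↔ Pn 𝒜 0 x = 0 := by
  rw [RingHom.mem_ker]; exact pi0_eq_zero_iff 𝒜 hsharp x

theorem mem_ker_of_mem {n : N} (hn : n ≠ 0) {x : A} (hx : x ∈ 𝒜 n) :
    x ∈ RingHom.ker (pi0 𝒜 hsharp) := by
  rw [mem_ker_iff]; exact Pn_of_mem_ne 𝒜 hx hn

theorem ker_isHomogeneous : (RingHom.ker (pi0 𝒜 hsharp)).IsHomogeneous 𝒜 := by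
  intro n x hx
  rw [mem_ker_iff] at hx ⊢
  show Pn 𝒜 0 (Pn 𝒜 n x) = 0
  rw [Pn_Pn]
  split_ifs with h
  · subst h; exact hx
  · rfl

theorem Pn_mem_ker {x : A} (hx : x ∈ RingHom.ker (pi0 𝒜 hsharp)) (n : N) :
    Pn 𝒜 n x ∈ RingHom.ker (pi0 𝒜 hsharp) := ker_isHomogeneous 𝒜 hsharp n hx

theorem Pn_mem_ker_sq {x : A} (hx : x ∈ RingHom.ker (pi0 𝒜 hsharp) ^ 2) (n : N) :
    Pn 𝒜 n x ∈ RingHom.ker (pi0 𝒜 hsharp) ^ 2 := by
  rw [pow_two] at hx ⊢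
  exact (ker_isHomogeneous 𝒜 hsharp).mul (ker_isHomogeneous 𝒜 hsharp) n hx


/-- the additive submonoid generated by decomposable elements of degree `n` -/
def Tn (n : N) : AddSubmonoid A :=
  AddSubmonoid.closure {z | ∃ m k : N, ∃ a b : A, m ≠ 0 ∧ k ≠ 0 ∧ m + k = n ∧ a ∈ 𝒜 m ∧ b ∈ 𝒜 k ∧
    z = a * b}

theorem Pn_mem_Tn_of_mem_ker_sq {x : A} (hx : x ∈ RingHom.ker (pi0 𝒜 hsharp) ^ 2) (n : N) :
    Pn 𝒜 n x ∈ Tn 𝒜 n := by
  rw [pow_two] at hx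
  induction hx using Submodule.mul_induction_on' with
  | mem_mul_mem a ha b hb =>
    obtain ⟨Da, -, hDa⟩ := exists_finset_sum_Pn 𝒜 a
    obtain ⟨Db, -, hDb⟩ := exists_finset_sum_Pn 𝒜 b
    have hab : a * b = ∑ m ∈ Da, ∑ k ∈ Db, Pn 𝒜 m a * Pn 𝒜 k b := by
      conv_lhs => rw [← hDa Da (Finset.Subset.refl _), ← hDb Db (Finset.Subset.refl _)]
      rw [Finset.sum_mul_sum]
    show Pn 𝒜 n (a * b) ∈ Tn 𝒜 n
    rw [hab, map_sum]
    refine AddSubmonoid.sum_mem _ fun m _ => ?_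
    rw [map_sum]
    refine AddSubmonoid.sum_mem _ fun k _ => ?_
    have hmem : Pn 𝒜 m a * Pn 𝒜 k b ∈ 𝒜 (m + k) :=
      SetLike.GradedMul.mul_mem (Pn_mem 𝒜 m a) (Pn_mem 𝒜 k b)
    by_cases hmk : m + k = n
    · rw [Pn_of_mem 𝒜 (hmk ▸ hmem)]
      by_cases hm : m = 0
      · subst hm
        rw [(mem_ker_iff 𝒜 hsharp a).mp ha, zero_mul]
        exact zero_mem _
      by_cases hk : k = 0
      · subst hk
        rw [(mem_ker_iff 𝒜 hsharp b).mp hb, mul_zero]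
        exact zero_mem _
      exact AddSubmonoid.subset_closure
        ⟨m, k, _, _, hm, hk, hmk, Pn_mem 𝒜 m a, Pn_mem 𝒜 k b, rfl⟩
    · rw [Pn_of_mem_ne 𝒜 hmem hmk]
      exact zero_mem _
  | add x _ y _ hx hy =>
    rw [map_add]
    exact add_mem hx hy

end Graded

section Sect

variable {R A : Type u} [CommRing R] [CommRing A] [Algebra R A] {N : Type} [AddCommMonoid N]
  [DecidableEq N] (𝒜 : N → Submodule R A) [GradedAlgebra 𝒜]
  (hsharp : ∀ n : N, IsAddUnit n → n = 0)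
  {Q : Type u} [AddCommGroup Q] [Module (𝒜 0) Q]
  (q : A →ₗ[𝒜 0] Q) (s' : Q →ₗ[𝒜 0] A)
  (hqs : ∀ y, q (s' y) = y) (hs0 : ∀ y, pi0 𝒜 hsharp (s' y) = 0)
  (hq0 : ∀ x, q x = 0 ↔
    x - algebraMap (𝒜 0) A (pi0 𝒜 hsharp x) ∈ RingHom.ker (pi0 𝒜 hsharp) ^ 2)

include hq0 in
theorem q_eq_zero_iff {x : A} (hx : x ∈ RingHom.ker (pi0 𝒜 hsharp)) :
    q x = 0 ↔ x ∈ RingHom.ker (pi0 𝒜 hsharp) ^ 2 := by
  rw [hq0, (hx : pi0 𝒜 hsharp x = 0), map_zero, sub_zero]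

theorem sq_le_ker : RingHom.ker (pi0 𝒜 hsharp) ^ 2 ≤ RingHom.ker (pi0 𝒜 hsharp) :=
  Ideal.pow_le_self two_ne_zero

include hq0 in
theorem q_of_mem_sq {x : A} (hx : x ∈ RingHom.ker (pi0 𝒜 hsharp) ^ 2) : q x = 0 :=
  (q_eq_zero_iff 𝒜 hsharp q hq0 (sq_le_ker 𝒜 hsharp hx)).mpr hx

include hs0 in
theorem s'_mem_ker (y : Q) : s' y ∈ RingHom.ker (pi0 𝒜 hsharp) := hs0 y

include hqs hs0 hq0 in
theorem sub_mem_sq {x : A} (hx : x ∈ RingHom.ker (pi0 𝒜 hsharp)) :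
    x - s' (q x) ∈ RingHom.ker (pi0 𝒜 hsharp) ^ 2 := by
  have h1 : x - s' (q x) ∈ RingHom.ker (pi0 𝒜 hsharp) :=
    Ideal.sub_mem _ hx (s'_mem_ker 𝒜 hsharp s' hs0 _)
  rw [← q_eq_zero_iff 𝒜 hsharp q hq0 h1, map_sub, hqs, sub_self]

include hqs hs0 hq0 in
theorem q_Pn_eq {x : A} (hx : x ∈ RingHom.ker (pi0 𝒜 hsharp)) (m : N) :
    q (Pn 𝒜 m (s' (q x))) = q (Pn 𝒜 m x) := by
  have h1 := Pn_mem_ker_sq 𝒜 hsharp (sub_mem_sq 𝒜 hsharp q s' hqs hs0 hq0 hx) m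
  have h2 := q_of_mem_sq 𝒜 hsharp q hq0 h1
  rw [map_sub, map_sub, sub_eq_zero] at h2
  exact h2.symm

/-- the component endomorphisms of `Q` -/
def pm (m : N) : Q →ₗ[𝒜 0] Q := q ∘ₗ Pn 𝒜 m ∘ₗ s'

theorem pm_apply (m : N) (y : Q) : pm 𝒜 q s' m y = q (Pn 𝒜 m (s' y)) := rfl

include hqs hs0 hq0 in
theorem pm_q {x : A} (hx : x ∈ RingHom.ker (pi0 𝒜 hsharp)) (m : N) :
    pm 𝒜 q s' m (q x) = q (Pn 𝒜 m x) := q_Pn_eq 𝒜 hsharp q s' hqs hs0 hq0 hx m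

theorem exists_finset_pm [Module.Finite (𝒜 0) Q] :
    ∃ D : Finset N, ∀ m, m ∉ D → ∀ y, pm 𝒜 q s' m y = 0 := by
  classical
  obtain ⟨G, hG⟩ := (Module.finite_def.mp (inferInstance : Module.Finite (𝒜 0) Q))
  choose Dg hDg using fun g : Q => exists_finset_sum_Pn 𝒜 (s' g)
  refine ⟨G.biUnion Dg, fun m hm y => ?_⟩
  have hy : y ∈ Submodule.span (𝒜 0) (G : Set Q) := by rw [hG]; trivial
  induction hy using Submodule.span_induction with
  | mem g hg =>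
    rw [pm_apply, (hDg g).1 m (fun h => hm (Finset.mem_biUnion.mpr ⟨g, hg, h⟩)), map_zero]
  | zero => exact map_zero _
  | add x y _ _ hx hy => rw [map_add, hx, hy, add_zero]
  | smul a x _ hx => rw [map_smul, hx, smul_zero]

/-- the graded section -/
def sD (D : Finset N) : Q →ₗ[𝒜 0] A := ∑ m ∈ D, Pn 𝒜 m ∘ₗ s' ∘ₗ pm 𝒜 q s' m

theorem sD_apply (D : Finset N) (y : Q) :
    sD 𝒜 q s' D y = ∑ m ∈ D, Pn 𝒜 m (s' (pm 𝒜 q s' m y)) := by
  simp [sD, LinearMap.sum_apply]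

include hs0 in
theorem sD_mem_ker (D : Finset N) (y : Q) : sD 𝒜 q s' D y ∈ RingHom.ker (pi0 𝒜 hsharp) := by
  rw [sD_apply]
  exact Ideal.sum_mem _ fun m _ => Pn_mem_ker 𝒜 hsharp (s'_mem_ker 𝒜 hsharp s' hs0 _) m

include hqs hs0 hq0 in
theorem sD_q (D : Finset N) (hD : ∀ m, m ∉ D → ∀ y, pm 𝒜 q s' m y = 0) {n : N} (hn : n ≠ 0)
    {x : A} (hx : x ∈ 𝒜 n) : sD 𝒜 q s' D (q x) = Pn 𝒜 n (s' (q x)) := by
  classical
  have hxI : x ∈ RingHom.ker (pi0 𝒜 hsharp) := mem_ker_of_mem 𝒜 hsharp hn hx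
  have hpm : ∀ m, pm 𝒜 q s' m (q x) = if m = n then q x else 0 := by
    intro m
    rw [pm_q 𝒜 hsharp q s' hqs hs0 hq0 hxI]
    split_ifs with h
    · subst h; rw [Pn_of_mem 𝒜 hx]
    · rw [Pn_of_mem_ne 𝒜 hx (Ne.symm h), map_zero]
  rw [sD_apply]
  have h1 : ∀ m ∈ D, Pn 𝒜 m (s' (pm 𝒜 q s' m (q x))) =
      if m = n then Pn 𝒜 n (s' (q x)) else 0 := by
    intro m _
    rw [hpm]
    split_ifs with h
    · subst h; rfl
    · rw [map_zero, map_zero]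
  rw [Finset.sum_congr rfl h1, Finset.sum_ite_eq']
  split_ifs with hnD
  · rfl
  · have h2 : q x = 0 := by
      have := hpm n
      rw [if_pos rfl] at this
      rw [← this]
      exact hD n hnD _
    rw [h2, map_zero, map_zero]

include hqs hs0 hq0 in
theorem q_sD (D : Finset N) (hD : ∀ m, m ∉ D → ∀ y, pm 𝒜 q s' m y = 0) (y : Q) :
    q (sD 𝒜 q s' D y) = y := by
  classical
  have hxI : s' y ∈ RingHom.ker (pi0 𝒜 hsharp) := s'_mem_ker 𝒜 hsharp s' hs0 y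
  have h1 : ∀ m, q (Pn 𝒜 m (s' (pm 𝒜 q s' m y))) = pm 𝒜 q s' m y := by
    intro m
    show pm 𝒜 q s' m (pm 𝒜 q s' m y) = pm 𝒜 q s' m y
    rw [pm_apply 𝒜 q s' m y, pm_q 𝒜 hsharp q s' hqs hs0 hq0 (Pn_mem_ker 𝒜 hsharp hxI m), Pn_Pn,
      if_pos rfl]
  obtain ⟨Dx, -, hDx⟩ := exists_finset_sum_Pn 𝒜 (s' y)
  rw [sD_apply, map_sum, Finset.sum_congr rfl (fun m _ => h1 m)]
  have h2 : ∑ m ∈ D, pm 𝒜 q s' m y = ∑ m ∈ D ∪ Dx, pm 𝒜 q s' m y := by
    apply Finset.sum_subset Finset.subset_union_left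
    intro m _ hm
    exact hD m hm y
  rw [h2]
  simp only [pm_apply]
  rw [← map_sum, hDx _ Finset.subset_union_right, hqs]

include hqs hs0 hq0 in
theorem key (D : Finset N) (hD : ∀ m, m ∉ D → ∀ y, pm 𝒜 q s' m y = 0) {n : N} (hn : n ≠ 0)
    {x : A} (hx : x ∈ 𝒜 n) : x - sD 𝒜 q s' D (q x) ∈ Tn 𝒜 n := by
  have hxI : x ∈ RingHom.ker (pi0 𝒜 hsharp) := mem_ker_of_mem 𝒜 hsharp hn hx
  rw [sD_q 𝒜 hsharp q s' hqs hs0 hq0 D hD hn hx]
  have h1 : x - Pn 𝒜 n (s' (q x)) = Pn 𝒜 n (x - s' (q x)) := by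
    rw [map_sub, Pn_of_mem 𝒜 hx]
  rw [h1]
  exact Pn_mem_Tn_of_mem_ker_sq 𝒜 hsharp (sub_mem_sq 𝒜 hsharp q s' hqs hs0 hq0 hxI) n

end Sect

end
end Groth.Agent.Lib.Helper4.DiagMonGr4
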