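import Mathlib
import Groth.Agent.Lib.Helper4.DiagMonSm1
import Groth.Agent.Lib.Helper4.DiagMonGr1
import Groth.Agent.Lib.Helper4.DiagMonGr2
import Groth.Agent.Lib.Helper4.DiagMonGr3
import Groth.Agent.Lib.Helper4.DiagMonGr4

/-!
# S18239 part 5: smooth algebra graded by a fine sharp monoid is a symmetric algebra over its degree zero part (helper4)
-/

set_option backward.isDefEq.respectTransparency.types false
set_option synthInstance.maxHeartbeats 400000
set_option autoImplicit false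
set_option linter.unusedSectionVars false
set_option linter.style.haveILetI false
set_option linter.unusedSimpArgs false
universe u v w
open DirectSum
open Groth.Agent.Lib.Helper4.DiagMonSm1
open Groth.Agent.Lib.Helper4.DiagMonGr1
open Groth.Agent.Lib.Helper4.DiagMonGr2
open Groth.Agent.Lib.Helper4.DiagMonGr3
open Groth.Agent.Lib.Helper4.DiagMonGr4

namespace Groth.Agent.Lib.Helper4.DiagMonGr5
noncomputable section

theorem eq_top_of_key {R A : Type u} [CommRing R] [CommRing A] [Algebra R A] {N : Type}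
    [AddCommMonoid N] [DecidableEq N] (𝒜 : N → Submodule R A) [GradedAlgebra 𝒜]
    (h : N → ℕ) (hh : ∀ m k : N, k ≠ 0 → h m < h (m + k))
    (B : Subalgebra (𝒜 0) A)
    (hB : ∀ n, n ≠ 0 → ∀ x ∈ 𝒜 n, ∃ b ∈ B, x - b ∈ Tn 𝒜 n) : B = ⊤ := by
  have hall : ∀ d : ℕ, ∀ n : N, h n = d → ∀ x ∈ 𝒜 n, x ∈ B := by
    intro d
    induction d using Nat.strong_induction_on with
    | _ d ih =>
      intro n hn x hx
      by_cases hn0 : n = 0
      · subst hn0
        exact B.algebraMap_mem ⟨x, hx⟩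
      · obtain ⟨b, hb, hxb⟩ := hB n hn0 x hx
        have hT : Tn 𝒜 n ≤ B.toSubsemiring.toAddSubmonoid := by
          apply AddSubmonoid.closure_le.mpr
          rintro _ ⟨m, k, a, c, hm, hk, hmk, ha, hc, rfl⟩
          have h1 : h m < d := by rw [← hn, ← hmk]; exact hh m k hk
          have h2 : h k < d := by rw [← hn, ← hmk, add_comm]; exact hh k m hm
          exact B.mul_mem (ih _ h1 m rfl a ha) (ih _ h2 k rfl c hc)
        have h3 : x - b ∈ B := hT hxb
        have hx' : x = b + (x - b) := by ring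
        rw [hx']
        exact B.add_mem hb h3
  rw [eq_top_iff]
  intro x _
  obtain ⟨D, -, hD⟩ := exists_finset_sum_Pn 𝒜 x
  rw [← hD D (Finset.Subset.refl _)]
  exact B.sum_mem fun n _ => hall _ n rfl _ (Pn_mem 𝒜 n x)

theorem main (R : Type u) [CommRing R] (A : Type u) [CommRing A] [Algebra R A] (N : Type)
    [AddCommMonoid N] [DecidableEq N] [AddMonoid.FG N] [IsCancelAdd N]
    (hsharp : ∀ n : N, IsAddUnit n → n = 0) (𝒜 : N → Submodule R A) [GradedAlgebra 𝒜]
    [Algebra.Smooth R A] :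
    ∃ (P : Type u) (_ : AddCommGroup P) (_ : Module (𝒜 0) P), Module.Finite (𝒜 0) P ∧
      Module.Projective (𝒜 0) P ∧ Nonempty (A ≃ₐ[𝒜 0] SymmetricAlgebra (𝒜 0) P) := by
  haveI : IsScalarTower R (𝒜 0) A := IsScalarTower.of_algebraMap_eq (fun r => rfl)
  haveI : Algebra.FormallySmooth R A := inferInstance
  haveI : Algebra.FiniteType R A := inferInstance
  obtain ⟨Q, _, _, hfin, hproj, q, s', hqs, hs0, hq0⟩ :=
    exists_cotangent_data (R := R) (pi0 𝒜 hsharp)
  haveI := hfin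
  haveI := hproj
  obtain ⟨D, hD⟩ := exists_finset_pm 𝒜 q s'
  obtain ⟨h, hh⟩ := exists_height N hsharp
  let s := sD 𝒜 q s' D
  let Φ : SymmetricAlgebra (𝒜 0) Q →ₐ[𝒜 0] A := SymmetricAlgebra.lift s
  have hΦι : ∀ y, Φ (SymmetricAlgebra.ι _ _ y) = s y := SymmetricAlgebra.lift_ι_apply s
  have hrange : Φ.range = ⊤ := by
    apply eq_top_of_key 𝒜 h hh
    intro n hn x hx
    exact ⟨s (q x), ⟨SymmetricAlgebra.ι _ _ (q x), hΦι _⟩,
      key 𝒜 hsharp q s' hqs hs0 hq0 D hD hn hx⟩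
  have hsurj : Function.Surjective Φ := by
    intro x
    have : x ∈ Φ.range := by rw [hrange]; trivial
    exact this
  have hmapI : (augI (𝒜 0) Q).map Φ ≤ RingHom.ker (pi0 𝒜 hsharp) := by
    rw [Ideal.map_le_iff_le_comap, augI, Ideal.span_le]
    rintro _ ⟨y, rfl⟩
    show Φ (SymmetricAlgebra.ι _ _ y) ∈ RingHom.ker (pi0 𝒜 hsharp)
    rw [hΦι]
    exact sD_mem_ker 𝒜 hsharp q s' hs0 D y
  have hmapI2 : ∀ g ∈ augI (𝒜 0) Q ^ 2, Φ g ∈ RingHom.ker (pi0 𝒜 hsharp) ^ 2 := by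
    intro g hg
    have h1 : Φ g ∈ (augI (𝒜 0) Q ^ 2).map Φ := Ideal.mem_map_of_mem _ hg
    rw [Ideal.map_pow] at h1
    exact Ideal.pow_right_mono hmapI 2 h1
  have hker2 : RingHom.ker Φ ≤ augI (𝒜 0) Q ^ 2 := by
    intro f hf
    obtain ⟨c, y, g, hg, rfl⟩ := exists_decomp f
    have hΦf : algebraMap (𝒜 0) A c + s y + Φ g = 0 := by
      have := RingHom.mem_ker.mp hf
      rwa [map_add, map_add, AlgHom.commutes, hΦι] at this
    have hg2 := hmapI2 g hg
    have hgI : pi0 𝒜 hsharp (Φ g) = 0 := sq_le_ker 𝒜 hsharp hg2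
    have hsI : pi0 𝒜 hsharp (s y) = 0 := sD_mem_ker 𝒜 hsharp q s' hs0 D y
    have hc : c = 0 := by
      have := congrArg (pi0 𝒜 hsharp) hΦf
      rw [map_add, map_add, map_zero, AlgHom.commutes, hsI, hgI, add_zero, add_zero] at this
      exact this
    have hy : y = 0 := by
      rw [hc, map_zero, zero_add] at hΦf
      have h1 : s y = -Φ g := eq_neg_of_add_eq_zero_left hΦf
      have h2 : s y ∈ RingHom.ker (pi0 𝒜 hsharp) ^ 2 := by rw [h1]; exact neg_mem hg2
      have h3 := q_of_mem_sq 𝒜 hsharp q hq0 h2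
      rw [q_sD 𝒜 hsharp q s' hqs hs0 hq0 D hD] at h3
      exact h3
    rw [hc, hy, map_zero, map_zero, zero_add, zero_add]
    exact hg
  letI algR : Algebra R (SymmetricAlgebra (𝒜 0) Q) :=
    ((algebraMap (𝒜 0) (SymmetricAlgebra (𝒜 0) Q)).comp (algebraMap R (𝒜 0))).toAlgebra
  let ΦR : SymmetricAlgebra (𝒜 0) Q →ₐ[R] A :=
    { Φ.toRingHom with
      commutes' := fun r => by
        show Φ (algebraMap (𝒜 0) _ (algebraMap R (𝒜 0) r)) = algebraMap R A r
        rw [AlgHom.commutes]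
        rfl }
  have hmul : RingHom.ker Φ ≤ augI (𝒜 0) Q * RingHom.ker Φ :=
    ker_le_mul_ker ΦR hsurj (augI (𝒜 0) Q) hker2
  have hpow : ∀ m, RingHom.ker Φ ≤ augI (𝒜 0) Q ^ m := by
    intro m
    induction m with
    | zero => simp
    | succ m ih =>
      calc RingHom.ker Φ ≤ augI (𝒜 0) Q * RingHom.ker Φ := hmul
        _ ≤ augI (𝒜 0) Q * augI (𝒜 0) Q ^ m := Ideal.mul_mono_right ih
        _ = augI (𝒜 0) Q ^ (m + 1) := (pow_succ' _ _).symm
  have hinj : Function.Injective Φ := by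
    rw [injective_iff_map_eq_zero]
    intro f hf
    exact eq_zero_of_forall_mem_pow_augI f (fun m => hpow m hf)
  exact ⟨Q, inferInstance, inferInstance, hfin, hproj,
    ⟨(AlgEquiv.ofBijective Φ ⟨hinj, hsurj⟩).symm⟩⟩

end
end Groth.Agent.Lib.Helper4.DiagMonGr5
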