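import Mathlib
import Groth.Prelude.Def_Found
import Groth.Prelude.Def_Cyc
import Groth.Agent.Lib.Helper4.DimEq2
import Groth.Agent.Lib.Helper4.RegularLocalCopy

/-!
# The S-dimension over a regular universally catenary base is a dimension function (helper4)
-/

set_option backward.isDefEq.respectTransparency.types false
set_option synthInstance.maxHeartbeats 400000
set_option autoImplicit false
set_option linter.unusedSectionVars false
set_option linter.style.haveILetI false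
set_option linter.unusedSimpArgs false
universe u v w
open CategoryTheory CategoryTheory.Limits AlgebraicGeometry TopologicalSpace IsLocalRing Opposite
open Cardinal
open Groth.Agent.Lib.Helper4.DimIneq1 Groth.Agent.Lib.Helper4.DimFT2 Groth.Agent.Lib.Helper4.Catenary1
open Groth.Agent.Lib.Helper4.DimEq1 Groth.Agent.Lib.Helper4.DimIneq2 Groth.Agent.Lib.Helper4.DimEq2
open Groth.Agent.Lib.Helper4.NormFibre2 Groth.Agent.Lib.Helper4.RadBir3

namespace Groth.Agent.Lib.Helper4.DimEq3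

section RingCodim

variable (A : Type u) [CommRing A] [IsNoetherianRing A]

/-- a minimal prime below a prime at which the localization is a domain is unique -/
theorem minimalPrime_unique_of_isDomain (𝔭' : Ideal A) [h𝔭' : 𝔭'.IsPrime] (D : Type u) [CommRing D]
    [IsDomain D] [Algebra A D] [IsLocalization.AtPrime D 𝔭'] (P₀ : Ideal A)
    (hP₀ : P₀ ∈ minimalPrimes A) (hle : P₀ ≤ 𝔭') :
    P₀ = RingHom.ker (algebraMap A D) := by
  haveI := hP₀.1.1
  have hdisj : Disjoint (𝔭'.primeCompl : Set A) (P₀ : Set A) := by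
    rw [Set.disjoint_left]
    intro a ha haP
    exact ha (hle haP)
  have h1 := IsLocalization.height_map_of_disjoint (S := D) 𝔭'.primeCompl P₀ hdisj
  have h2 : P₀.height = 0 := Ideal.height_eq_zero_iff.mpr hP₀
  rw [h2, Ideal.height_eq_zero_iff_eq_bot] at h1
  have h3 := IsLocalization.under_map_of_isPrime_disjoint 𝔭'.primeCompl D ‹P₀.IsPrime› hdisj
  rw [h1] at h3
  rw [← h3]
  rfl

theorem height_lt_and_covBy (hUC : UC A) (𝔭 𝔭' : PrimeSpectrum A) (hlt : 𝔭 < 𝔭') (D : Type u)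
    [CommRing D] [IsDomain D] [Algebra A D] [IsLocalization.AtPrime D 𝔭'.asIdeal] :
    𝔭.asIdeal.height < 𝔭'.asIdeal.height ∧
      (𝔭 ⋖ 𝔭' → 𝔭'.asIdeal.height = 𝔭.asIdeal.height + 1) := by
  have hstrict : 𝔭.asIdeal.height < 𝔭'.asIdeal.height :=
    Ideal.height_strict_mono_of_isPrime (show 𝔭.asIdeal < 𝔭'.asIdeal from hlt)
  refine ⟨hstrict, fun hcov => ?_⟩
  refine le_antisymm ?_ (Order.add_one_le_of_lt hstrict)
  obtain ⟨P₀, hP₀min, hP₀le, hP₀h⟩ := exists_minimalPrimes_height_eq 𝔭'.asIdeal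
  obtain ⟨P₁, hP₁min, hP₁le⟩ := Ideal.exists_minimalPrimes_le (I := ⊥) (J := 𝔭.asIdeal) bot_le
  have hP₁ : P₁ = P₀ := by
    rw [minimalPrime_unique_of_isDomain A 𝔭'.asIdeal D P₁ hP₁min (hP₁le.trans hlt.le),
      minimalPrime_unique_of_isDomain A 𝔭'.asIdeal D P₀ hP₀min hP₀le]
  rw [hP₁] at hP₁le
  haveI hP₀prime : P₀.IsPrime := hP₀min.1.1
  haveI : IsDomain (A ⧸ P₀) := Ideal.Quotient.isDomain _
  have hHA : HtAdd (A ⧸ P₀) := hUC (A ⧸ P₀)
    (Algebra.FiniteType.of_surjective (Ideal.Quotient.mkₐ A _) (Ideal.Quotient.mkₐ_surjective A _))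
  haveI := isPrime_map_mk P₀ 𝔭.asIdeal hP₁le
  haveI := isPrime_map_mk P₀ 𝔭'.asIdeal hP₀le
  have hQq : 𝔭.asIdeal.map (Ideal.Quotient.mk P₀) ≤ 𝔭'.asIdeal.map (Ideal.Quotient.mk P₀) :=
    Ideal.map_mono hlt.le
  have h1 := hHA _ _ hQq
  have hcov' : (⟨𝔭.asIdeal.map (Ideal.Quotient.mk P₀), inferInstance⟩ : PrimeSpectrum (A ⧸ P₀)) ⋖
      ⟨𝔭'.asIdeal.map (Ideal.Quotient.mk P₀), inferInstance⟩ := by
    have hcm := RingHom.strictMono_comap_of_surjective (f := Ideal.Quotient.mk P₀)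
      Ideal.Quotient.mk_surjective
    have e1 : PrimeSpectrum.comap (Ideal.Quotient.mk P₀)
        ⟨𝔭.asIdeal.map (Ideal.Quotient.mk P₀), inferInstance⟩ = 𝔭 :=
      PrimeSpectrum.ext (comap_map_mk' P₀ _ hP₁le)
    have e2 : PrimeSpectrum.comap (Ideal.Quotient.mk P₀)
        ⟨𝔭'.asIdeal.map (Ideal.Quotient.mk P₀), inferInstance⟩ = 𝔭' :=
      PrimeSpectrum.ext (comap_map_mk' P₀ _ hP₀le)
    constructor
    · refine lt_of_le_not_ge hQq (fun hle => ?_)
      have := Ideal.comap_mono (f := Ideal.Quotient.mk P₀) hle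
      rw [comap_map_mk' P₀ _ hP₀le, comap_map_mk' P₀ _ hP₁le] at this
      exact hlt.not_ge this
    · intro c hc1 hc2
      have h3 := hcm hc1
      have h4 := hcm hc2
      rw [e1] at h3
      rw [e2] at h4
      exact hcov.2 h3 h4
  rw [height_map_mk_eq_one_of_covBy _ _ hcov', hP₀h] at h1
  refine h1.trans ?_
  rw [add_comm]
  exact add_le_add (height_map_mk_le P₀ 𝔭.asIdeal hP₁le) le_rfl

end RingCodim

section SchemeCodim

theorem S17839_main {X S : Scheme.{u}} (f : X ⟶ S)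
    [LocallyOfFiniteType f] [IsLocallyNoetherian S]
    (hreg : ∀ s : S, IsRegularLocalRing (S.presheaf.stalk s))
    (huc : ∀ s : S, CAlg.IsUniversallyCatenary (S.presheaf.stalk s))
    (δS : S → ℤ) (hδS : ∀ s : S, ringKrullDim (S.presheaf.stalk s) = ((-δS s).toNat : WithBot ℕ∞) ∧ δS s ≤ 0)
    (δ : X → ℤ) (hδ : Cyc.DeltaCompat f δ δS) :
    Cyc.IsDimFun X δ := by
  refine S9684_main f δS ⟨inferInstance, huc, ?_⟩ δ hδ
  intro s t hst hne
  obtain ⟨V, hV, htV, -⟩ := exists_isAffineOpen_mem_and_subset (U := (⊤ : S.Opens)) (x := t)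
    trivial
  have hsV : s ∈ V := hst.mem_open V.2 htV
  haveI : IsNoetherianRing Γ(S, V) := IsLocallyNoetherian.component_noetherian ⟨V, hV⟩
  have hUCA : UC Γ(S, V) := uc_sections huc hV
  have hlt : hV.primeIdealOf ⟨s, hsV⟩ < hV.primeIdealOf ⟨t, htV⟩ := by
    refine lt_of_le_of_ne ((specializes_iff_primeIdealOf_le hV ⟨s, hsV⟩ ⟨t, htV⟩).mp hst) ?_
    intro h
    exact hne (congrArg Subtype.val (primeIdealOf_injective' hV h))
  letI := S.presheaf.algebra_section_stalk (U := V) ⟨t, htV⟩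
  haveI := hV.isLocalization_stalk ⟨t, htV⟩
  haveI := hreg t
  haveI : IsDomain (S.presheaf.stalk t) :=
    Groth.Agent.Lib.Helper4.RegularLocalCopy.isDomain (S.presheaf.stalk t)
  obtain ⟨h1, h2⟩ := height_lt_and_covBy Γ(S, V) hUCA _ _ hlt (S.presheaf.stalk t)
  have hs := (hδS s).1
  have ht := (hδS t).1
  rw [Groth.Agent.Lib.Helper4.DimFT3.ringKrullDim_stalk_eq_height hV s hsV] at hs
  rw [Groth.Agent.Lib.Helper4.DimFT3.ringKrullDim_stalk_eq_height hV t htV] at ht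
  have hs' : (hV.primeIdealOf ⟨s, hsV⟩).asIdeal.height = (((-δS s).toNat : ℕ) : ℕ∞) := by
    exact_mod_cast hs
  have ht' : (hV.primeIdealOf ⟨t, htV⟩).asIdeal.height = (((-δS t).toNat : ℕ) : ℕ∞) := by
    exact_mod_cast ht
  have hs0 := (hδS s).2
  have ht0 := (hδS t).2
  rw [hs', ht'] at h1
  have h1' : (-δS s).toNat < (-δS t).toNat := by exact_mod_cast h1
  refine ⟨by omega, fun himm => ?_⟩
  have hcov : hV.primeIdealOf ⟨s, hsV⟩ ⋖ hV.primeIdealOf ⟨t, htV⟩ := by
    refine ⟨hlt, ?_⟩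
    intro P'' h3 h4
    have hzV := fromSpec_mem hV P''
    have hz1 : s ⤳ hV.fromSpec P'' := by
      rw [specializes_iff_primeIdealOf_le hV ⟨s, hsV⟩ ⟨_, hzV⟩, primeIdealOf_fromSpec]
      exact h3.le
    have hz2 : hV.fromSpec P'' ⤳ t := by
      rw [specializes_iff_primeIdealOf_le hV ⟨_, hzV⟩ ⟨t, htV⟩, primeIdealOf_fromSpec]
      exact h4.le
    rcases himm _ hz1 hz2 with h | h
    · have h5 := primeIdealOf_fromSpec hV P''
      have h6 : hV.primeIdealOf ⟨hV.fromSpec P'', hzV⟩ = hV.primeIdealOf ⟨s, hsV⟩ := by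
        congr 1
        exact Subtype.ext h
      rw [h5] at h6
      exact h3.ne h6.symm
    · have h5 := primeIdealOf_fromSpec hV P''
      have h6 : hV.primeIdealOf ⟨hV.fromSpec P'', hzV⟩ = hV.primeIdealOf ⟨t, htV⟩ := by
        congr 1
        exact Subtype.ext h
      rw [h5] at h6
      exact h4.ne h6
  have h7 := h2 hcov
  rw [hs', ht'] at h7
  have h7' : (-δS t).toNat = (-δS s).toNat + 1 := by exact_mod_cast h7
  omega

end SchemeCodim

end Groth.Agent.Lib.Helper4.DimEq3
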