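import Mathlib
import Groth.Prelude.Def_Flat
import Groth.Prelude.Def_CurvBase
import Groth.Agent.Lib.Helper4.DimFT1
import Groth.Agent.Lib.Helper4.DimFT2
import Groth.Agent.Lib.Helper4.DimFT3
import Groth.Agent.Lib.Helper4.DimFT4
import Groth.Agent.Lib.Helper4.RadBir3

/-!
# Dimension theory of f.t. k-schemes: generic trdeg one iff closed-point stalks dim one (helper4)
-/

set_option backward.isDefEq.respectTransparency.types false
set_option synthInstance.maxHeartbeats 400000
set_option autoImplicit false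
set_option linter.unusedSectionVars false
set_option linter.style.haveILetI false
set_option linter.unusedSimpArgs false
universe u v w
open CategoryTheory CategoryTheory.Limits AlgebraicGeometry TopologicalSpace IsLocalRing Opposite
open Groth.Agent.Lib.Helper4.DimFT1 Groth.Agent.Lib.Helper4.DimFT2 Groth.Agent.Lib.Helper4.DimFT3
open Groth.Agent.Lib.Helper4.DimFT4
open Groth.Agent.Lib.Helper4.NormFibre2 Groth.Agent.Lib.Helper4.RadBir3

namespace Groth.Agent.Lib.Helper4.DimFT5

attribute [local instance] Curv2.stalkAlgebra Curv2.resAlgebra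

section RingLevel

variable (k : Type u) [Field k] (A : Type u) [CommRing A] [Algebra k A] [Algebra.FiniteType k A]

include k in
theorem exists_minimalPrimes_height_eq_dim (m : Ideal A) [hm : m.IsMaximal] :
    ∃ P ∈ minimalPrimes A, P ≤ m ∧ ∃ _ : P.IsPrime,
      (m.height : WithBot ℕ∞) = ringKrullDim (A ⧸ P) := by
  haveI : IsNoetherianRing A := Algebra.FiniteType.isNoetherianRing k A
  obtain ⟨P, hPmin, hPm, hPh⟩ := exists_minimalPrimes_height_eq m
  haveI := hPmin.1.1
  refine ⟨P, hPmin, hPm, hPmin.1.1, ?_⟩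
  rw [← hPh]
  exact height_map_eq_dim_of_isMaximal k A P m hPm

include k in
theorem exists_maximal_height_eq_dim (P : Ideal A) (hP : P ∈ minimalPrimes A) :
    ∃ m : Ideal A, m.IsMaximal ∧ P ≤ m ∧ ∃ _ : P.IsPrime,
      (m.height : WithBot ℕ∞) = ringKrullDim (A ⧸ P) := by
  classical
  haveI : IsNoetherianRing A := Algebra.FiniteType.isNoetherianRing k A
  haveI : IsJacobsonRing A := isJacobsonRing_of_finiteType (A := k) (B := A)
  haveI hPp := hP.1.1
  have hfin : (minimalPrimes A).Finite := Ideal.finite_minimalPrimes_of_isNoetherianRing A ⊥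
  let F := hfin.toFinset.filter (fun P' => P' ≠ P)
  have hJ : ¬ (F.inf id ≤ P) := by
    rw [Ideal.IsPrime.inf_le' hPp]
    rintro ⟨P', hP'F, hP'P⟩
    have h1 := Finset.mem_filter.mp hP'F
    have h2 : P' ∈ minimalPrimes A := hfin.mem_toFinset.mp h1.1
    exact h1.2 (le_antisymm hP'P (hP.2 h2.1 hP'P))
  obtain ⟨f, hfJ, hfP⟩ := SetLike.not_le_iff_exists.mp hJ
  obtain ⟨m, hm, hPm, hfm⟩ : ∃ m : Ideal A, m.IsMaximal ∧ P ≤ m ∧ f ∉ m := by
    have hjac : P.jacobson = P := IsJacobsonRing.out inferInstance hPp.isRadical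
    have hf' : f ∉ P.jacobson := by rw [hjac]; exact hfP
    unfold Ideal.jacobson at hf'
    rw [Submodule.mem_sInf] at hf'
    push Not at hf'
    obtain ⟨m, ⟨hpm, hm⟩, hfm⟩ := hf'
    exact ⟨m, hm, hpm, hfm⟩
  haveI := hm
  refine ⟨m, hm, hPm, hPp, ?_⟩
  obtain ⟨P', hP'min, hP'm, hP'h⟩ := exists_minimalPrimes_height_eq m
  have hP'P : P' = P := by
    by_contra hne
    have hP'F : P' ∈ F := Finset.mem_filter.mpr ⟨hfin.mem_toFinset.mpr hP'min, hne⟩
    have : F.inf id ≤ P' := Finset.inf_le (f := id) hP'F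
    exact hfm (hP'm (this hfJ))
  subst hP'P
  rw [← hP'h]
  exact height_map_eq_dim_of_isMaximal k A P' m hPm

end RingLevel

section S4442

variable (k : Type u) [Field k] (X : Scheme.{u}) [X.Over (Spec (CommRingCat.of k))]
  [LocallyOfFiniteType (X ↘ (Spec (CommRingCat.of k)))]

theorem S4442_main :
    (∀ x : X, closure ({x} : Set X) ∈ irreducibleComponents (X : Type u) →
      Algebra.trdeg k (X.residueField x) = 1) ↔
      ∀ x : X, IsClosed ({x} : Set X) → ringKrullDim (X.presheaf.stalk x) = 1 := by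
  constructor
  · intro h x hx
    obtain ⟨U, hU, hxU, -⟩ := exists_isAffineOpen_mem_and_subset (U := (⊤ : X.Opens)) (x := x)
      (by simp)
    letI := secAlgebra k X U
    haveI := finiteType_sections k X hU
    haveI := hU.primeIdealOf_isMaximal_of_isClosed ⟨x, hxU⟩ hx
    obtain ⟨P, hPmin, hPm, hPp, hPh⟩ :=
      exists_minimalPrimes_height_eq_dim k Γ(X, U) (hU.primeIdealOf ⟨x, hxU⟩).asIdeal
    have hξU := fromSpec_mem hU ⟨P, hPp⟩
    have hgen : hU.fromSpec ⟨P, hPp⟩ ∈ genericPoints X := by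
      rw [mem_genericPoints_iff_minimalPrimes hU _ hξU, primeIdealOf_fromSpec]
      exact hPmin
    have h1 := h _ hgen
    obtain ⟨n, h2, h3⟩ := exists_dim_quotient_eq_trdeg k X hU _ hξU
    have e : (hU.primeIdealOf ⟨hU.fromSpec ⟨P, hPp⟩, hξU⟩).asIdeal = P :=
      congrArg PrimeSpectrum.asIdeal (primeIdealOf_fromSpec hU ⟨P, hPp⟩)
    have hn : n = 1 := by
      rw [h2] at h1
      exact_mod_cast h1
    rw [ringKrullDim_stalk_eq_height hU x hxU, hPh, ← e, h3, hn]
    rfl
  · intro h ξ hξ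
    obtain ⟨U, hU, hξU, -⟩ := exists_isAffineOpen_mem_and_subset (U := (⊤ : X.Opens)) (x := ξ)
      (by simp)
    letI := secAlgebra k X U
    haveI := finiteType_sections k X hU
    have hPmin := (mem_genericPoints_iff_minimalPrimes hU ξ hξU).mp hξ
    obtain ⟨m, hm, hPm, hPp, hmh⟩ := exists_maximal_height_eq_dim k Γ(X, U) _ hPmin
    have hxU := fromSpec_mem hU ⟨m, hm.isPrime⟩
    haveI : JacobsonSpace X := LocallyOfFiniteType.jacobsonSpace (X ↘ Spec (CommRingCat.of k))
    have hclosed : IsClosed ({hU.fromSpec ⟨m, hm.isPrime⟩} : Set X) := by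
      have h1 := hU.fromSpec.isOpenEmbedding.preimage_closedPoints
      have h2 : (⟨m, hm.isPrime⟩ : PrimeSpectrum Γ(X, U)) ∈ closedPoints (PrimeSpectrum Γ(X, U)) :=
        (PrimeSpectrum.isClosed_singleton_iff_isMaximal _).mpr hm
      have h3 : (⟨m, hm.isPrime⟩ : PrimeSpectrum Γ(X, U)) ∈
          hU.fromSpec ⁻¹' closedPoints X := by
        rw [h1]; exact h2
      exact h3
    have h4 := h _ hclosed
    rw [ringKrullDim_stalk_eq_height hU _ hxU] at h4
    have e : (hU.primeIdealOf ⟨hU.fromSpec ⟨m, hm.isPrime⟩, hxU⟩).asIdeal = m :=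
      congrArg PrimeSpectrum.asIdeal (primeIdealOf_fromSpec hU ⟨m, hm.isPrime⟩)
    rw [e, hmh] at h4
    obtain ⟨n, h2, h3⟩ := exists_dim_quotient_eq_trdeg k X hU ξ hξU
    rw [h3] at h4
    have hn : n = 1 := by exact_mod_cast h4
    rw [h2, hn]
    rfl

end S4442

end Groth.Agent.Lib.Helper4.DimFT5
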