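import Mathlib
import Groth.Agent.Lib.Helper4.DimIneq1

/-!
# Valuation rings centred at a Noetherian local domain: residue trdeg ≤ dim - 1 (helper4)
-/

set_option backward.isDefEq.respectTransparency.types false
set_option synthInstance.maxHeartbeats 400000
set_option autoImplicit false
set_option linter.unusedSectionVars false
set_option linter.style.haveILetI false
set_option linter.unusedSimpArgs false
universe u v w
open Cardinal
open Groth.Agent.Lib.Helper4.DimIneq1

namespace Groth.Agent.Lib.Helper4.DimIneq5

section Val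

theorem S7918_main (A : Type u) [CommRing A] [IsDomain A] [IsNoetherianRing A] [IsLocalRing A]
    (O : Type u) [CommRing O] [IsDomain O] [ValuationRing O] [Algebra A O]
    (hinj : Function.Injective (algebraMap A O)) (hloc : IsLocalHom (algebraMap A O))
    (hfrac : ∀ x : O, ∃ a b : A, b ≠ 0 ∧ algebraMap A O b * x = algebraMap A O a)
    (hnt : ¬ IsField O) (n : ℕ) (f : Fin n → O)
    (hind : ∀ p : MvPolynomial (Fin n) A,
      MvPolynomial.eval₂ ((IsLocalRing.residue O).comp (algebraMap A O))
        (fun i => IsLocalRing.residue O (f i)) p = 0 →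
      ∀ m : Fin n →₀ ℕ, IsLocalRing.residue A (p.coeff m) = 0) :
    (n : WithBot ℕ∞) + 1 ≤ ringKrullDim A := by
  haveI : Algebra.FiniteType A (Algebra.adjoin A (Set.range f)) :=
    (Subalgebra.fg_iff_finiteType _).mp ⟨(Set.finite_range f).toFinset, by simp⟩
  haveI : FaithfulSMul A (Algebra.adjoin A (Set.range f)) :=
    (faithfulSMul_iff_algebraMap_injective A _).mpr
      (fun x y h => hinj (congrArg Subtype.val h))
  haveI hqprime : ((IsLocalRing.maximalIdeal O).under (Algebra.adjoin A (Set.range f))).IsPrime :=
    Ideal.comap_isPrime _ _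
  haveI hlo : ((IsLocalRing.maximalIdeal O).under (Algebra.adjoin A (Set.range f))).LiesOver
      (IsLocalRing.maximalIdeal A) := by
    constructor
    have h1 : (IsLocalRing.maximalIdeal O).comap (algebraMap A O) = IsLocalRing.maximalIdeal A :=
      ((IsLocalRing.local_hom_TFAE (algebraMap A O)).out 0 4).mp hloc
    rw [← h1]
    rfl
  have key := dim_ineq A (Algebra.adjoin A (Set.range f)) (IsLocalRing.maximalIdeal A)
    ((IsLocalRing.maximalIdeal O).under (Algebra.adjoin A (Set.range f)))
  -- algebraic
  have halgO : ∀ x : O, IsAlgebraic A x := by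
    intro x
    obtain ⟨a, b, hb, hab⟩ := hfrac x
    refine ⟨Polynomial.C b * Polynomial.X - Polynomial.C a, ?_, ?_⟩
    · intro h0
      have := congrArg (fun p => p.coeff 1) h0
      simp at this
      exact hb this
    · simp [hab]
  haveI : Algebra.IsAlgebraic A (Algebra.adjoin A (Set.range f)) := by
    constructor
    intro x
    exact (isAlgebraic_algHom_iff (Algebra.adjoin A (Set.range f)).val Subtype.val_injective).mp
      (halgO x)
  rw [_root_.trdeg_eq_zero (R := A) (A := Algebra.adjoin A (Set.range f)), add_zero] at key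
  -- algebraic independence in the residue ring
  have hmem : ∀ i, f i ∈ Algebra.adjoin A (Set.range f) := fun i =>
    Algebra.subset_adjoin ⟨i, rfl⟩
  have hindep : AlgebraicIndependent (A ⧸ IsLocalRing.maximalIdeal A)
      (fun i : Fin n => Ideal.Quotient.mk
        ((IsLocalRing.maximalIdeal O).under (Algebra.adjoin A (Set.range f)))
        (⟨f i, hmem i⟩ : Algebra.adjoin A (Set.range f))) := by
    rw [algebraicIndependent_iff]
    intro P hP
    obtain ⟨p, rfl⟩ := MvPolynomial.map_surjective (σ := Fin n)
      (f := Ideal.Quotient.mk (IsLocalRing.maximalIdeal A)) Ideal.Quotient.mk_surjective P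
    rw [MvPolynomial.aeval_def, MvPolynomial.eval₂_map] at hP
    have h1 : (algebraMap (A ⧸ IsLocalRing.maximalIdeal A)
        (Algebra.adjoin A (Set.range f) ⧸
          (IsLocalRing.maximalIdeal O).under (Algebra.adjoin A (Set.range f)))).comp
        (Ideal.Quotient.mk (IsLocalRing.maximalIdeal A)) =
        (Ideal.Quotient.mk ((IsLocalRing.maximalIdeal O).under
          (Algebra.adjoin A (Set.range f)))).comp
          (algebraMap A (Algebra.adjoin A (Set.range f))) := by
      ext a
      rfl
    rw [h1] at hP
    have h2 := MvPolynomial.eval₂_comp_left (Ideal.Quotient.mk ((IsLocalRing.maximalIdeal O).under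
      (Algebra.adjoin A (Set.range f)))) (algebraMap A (Algebra.adjoin A (Set.range f)))
      (fun i => (⟨f i, hmem i⟩ : Algebra.adjoin A (Set.range f))) p
    change _ = MvPolynomial.eval₂ _ (fun i : Fin n => Ideal.Quotient.mk
        ((IsLocalRing.maximalIdeal O).under (Algebra.adjoin A (Set.range f)))
        (⟨f i, hmem i⟩ : Algebra.adjoin A (Set.range f))) p at h2
    rw [← h2, Ideal.Quotient.eq_zero_iff_mem] at hP
    have h3 : algebraMap (Algebra.adjoin A (Set.range f)) O
        (MvPolynomial.eval₂ (algebraMap A (Algebra.adjoin A (Set.range f)))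
          (fun i => (⟨f i, hmem i⟩ : Algebra.adjoin A (Set.range f))) p) ∈
        IsLocalRing.maximalIdeal O := hP
    rw [MvPolynomial.eval₂_comp_left (algebraMap (Algebra.adjoin A (Set.range f)) O)] at h3
    have h4 : IsLocalRing.residue O (MvPolynomial.eval₂ (algebraMap A O) f p) = 0 := by
      rw [IsLocalRing.residue_eq_zero_iff]
      exact h3
    rw [MvPolynomial.eval₂_comp_left (IsLocalRing.residue O)] at h4
    have h5 := hind p h4
    ext m
    rw [MvPolynomial.coeff_map, MvPolynomial.coeff_zero]
    exact h5 m
  have hcard : (n : Cardinal.{u}) ≤ Algebra.trdeg (A ⧸ IsLocalRing.maximalIdeal A)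
      (Algebra.adjoin A (Set.range f) ⧸
        (IsLocalRing.maximalIdeal O).under (Algebra.adjoin A (Set.range f))) := by
    have := hindep.lift_cardinalMk_le_trdeg
    simpa using this
  -- q ≠ ⊥
  have hqne : (IsLocalRing.maximalIdeal O).under (Algebra.adjoin A (Set.range f)) ≠ ⊥ := by
    have hmax : IsLocalRing.maximalIdeal O ≠ ⊥ := by
      intro h
      exact hnt (IsLocalRing.isField_iff_maximalIdeal_eq.mpr h)
    obtain ⟨x, hx, hx0⟩ : ∃ x ∈ IsLocalRing.maximalIdeal O, x ≠ 0 := by
      by_contra hcon
      push Not at hcon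
      exact hmax ((Submodule.eq_bot_iff _).mpr hcon)
    obtain ⟨a, b, hb, hab⟩ := hfrac x
    intro h
    have h1 : algebraMap A (Algebra.adjoin A (Set.range f)) a ∈
        (IsLocalRing.maximalIdeal O).under (Algebra.adjoin A (Set.range f)) := by
      change algebraMap A O a ∈ IsLocalRing.maximalIdeal O
      rw [← hab]
      exact Ideal.mul_mem_left _ _ hx
    rw [h, Ideal.mem_bot] at h1
    have h2 : algebraMap A O a = 0 := congrArg Subtype.val h1
    rw [← hab] at h2
    rcases mul_eq_zero.mp h2 with h3 | h3
    · rw [← map_zero (algebraMap A O)] at h3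
      exact hb (hinj h3)
    · exact hx0 h3
  have hht : 1 ≤ ((IsLocalRing.maximalIdeal O).under (Algebra.adjoin A (Set.range f))).height := by
    rw [Order.one_le_iff_pos, pos_iff_ne_zero, Ne, Ideal.height_eq_zero_iff_eq_bot]
    exact hqne
  have h6 : ((1 + (n : ℕ∞) : ℕ∞) : Cardinal.{u}) ≤
      ((IsLocalRing.maximalIdeal A).height : Cardinal.{u}) := by
    rw [ofENat_add, ofENat_one, ofENat_nat]
    have hht' : (1 : Cardinal.{u}) ≤
        (((IsLocalRing.maximalIdeal O).under (Algebra.adjoin A (Set.range f))).height :
          Cardinal.{u}) := by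
      rw [← ofENat_one]
      exact ofENat_le_ofENat_of_le hht
    exact le_trans (add_le_add hht' hcard) key
  have h7 : 1 + (n : ℕ∞) ≤ (IsLocalRing.maximalIdeal A).height := Cardinal.ofENat_le_ofENat.mp h6
  rw [← IsLocalRing.maximalIdeal_height_eq_ringKrullDim, add_comm]
  exact_mod_cast h7

end Val

end Groth.Agent.Lib.Helper4.DimIneq5
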