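import Mathlib
import Groth.Agent.Lib.Helper4.HHFin1

/-!
# Uniqueness of dualizing pairs (helper4)
-/

set_option backward.isDefEq.respectTransparency.types false
set_option synthInstance.maxHeartbeats 400000
set_option autoImplicit false
set_option linter.unusedSectionVars false
set_option linter.style.haveILetI false
set_option linter.unusedSimpArgs false
universe u v w
open CategoryTheory CategoryTheory.Limits AlgebraicGeometry TopologicalSpace Opposite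
open Groth.Agent.Lib.Helper4

namespace Groth.Agent.Lib.Helper4.DuE1

theorem HHlin_comp_lin (A : Type u) [CommRing A] {X : Scheme.{u}} [X.Over (Spec (CommRingCat.of A))]
    {F G H : X.Modules} (φ : F ⟶ G) (ψ : G ⟶ H) (i : ℕ) :
    Canon.HHlin A (φ ≫ ψ) i = Canon.HHlin A ψ i ∘ₗ Canon.HHlin A φ i :=
  LinearMap.ext fun x => HHFin1.HHlin_comp A φ ψ i x

theorem HHlin_id_lin (A : Type u) [CommRing A] {X : Scheme.{u}} [X.Over (Spec (CommRingCat.of A))]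
    (F : X.Modules) (i : ℕ) : Canon.HHlin A (𝟙 F) i = LinearMap.id :=
  LinearMap.ext fun x => HHFin1.HHlin_id A F i x

theorem s13308 (A : Type u) [CommRing A] (X : Scheme.{u})
    [X.Over (Spec (CommRingCat.of A))] (r : ℕ)
    (ω ω' : X.Modules) (tr : Coh.HH X ω r →ₗ[A] A) (tr' : Coh.HH X ω' r →ₗ[A] A)
    (h : Canon.IsRDualOver A X r ω tr) (h' : Canon.IsRDualOver A X r ω' tr') :
    (∃! ρ : ω' ⟶ ω, tr ∘ₗ Canon.HHlin A ρ r = tr') ∧
      ∀ ρ : ω' ⟶ ω, tr ∘ₗ Canon.HHlin A ρ r = tr' → IsIso ρ := by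
  have hb := h.2 ω' h'.1
  have hb' := h'.2 ω h.1
  have hself := h.2 ω h.1
  have hself' := h'.2 ω' h'.1
  refine ⟨?_, ?_⟩
  · obtain ⟨ρ, hρ⟩ := hb.2 tr'
    exact ⟨ρ, hρ, fun ρ' hρ' => hb.1 (hρ'.trans hρ.symm)⟩
  · intro ρ hρ
    obtain ⟨σ, hσ⟩ := hb'.2 tr
    have hσ' : tr' ∘ₗ Canon.HHlin A σ r = tr := hσ
    have h1 : σ ≫ ρ = 𝟙 ω := by
      apply hself.1
      change tr ∘ₗ Canon.HHlin A (σ ≫ ρ) r = tr ∘ₗ Canon.HHlin A (𝟙 ω) r
      rw [HHlin_comp_lin, HHlin_id_lin, ← LinearMap.comp_assoc, hρ, hσ', LinearMap.comp_id]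
    have h2 : ρ ≫ σ = 𝟙 ω' := by
      apply hself'.1
      change tr' ∘ₗ Canon.HHlin A (ρ ≫ σ) r = tr' ∘ₗ Canon.HHlin A (𝟙 ω') r
      rw [HHlin_comp_lin, HHlin_id_lin, ← LinearMap.comp_assoc, hσ', hρ, LinearMap.comp_id]
    exact ⟨σ, h2, h1⟩

end Groth.Agent.Lib.Helper4.DuE1
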