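import Mathlib
import Groth.Agent.S0544

/-!
# Finiteness over a complete local ring of one-dimensional local domains with trivial residue extension (helper4)
-/

set_option backward.isDefEq.respectTransparency.types false
set_option synthInstance.maxHeartbeats 400000
set_option autoImplicit false
set_option linter.unusedSectionVars false
set_option linter.style.haveILetI false
set_option linter.unusedSimpArgs false
universe u v w
open CategoryTheory CategoryTheory.Limits AlgebraicGeometry TopologicalSpace Topology

namespace Groth.Agent.Lib.Helper4.DvrLift2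
open IsLocalRing

theorem map_maximalIdeal_le {A C : Type*} [CommRing A] [IsLocalRing A]
    [CommRing C] [IsLocalRing C] [Algebra A C] [IsLocalHom (algebraMap A C)] :
    (maximalIdeal A).map (algebraMap A C) ≤ maximalIdeal C :=
  IsLocalRing.map_maximalIdeal_le (algebraMap A C)

theorem isHausdorff_of_isLocalHom {A C : Type*} [CommRing A] [IsLocalRing A]
    [CommRing C] [IsNoetherianRing C] [IsLocalRing C] [Algebra A C]
    [IsLocalHom (algebraMap A C)] : IsHausdorff (maximalIdeal A) C := by
  constructor
  intro x hx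
  have hJ := map_maximalIdeal_le (A := A) (C := C)
  have hmem : ∀ n : ℕ, x ∈ (maximalIdeal C) ^ n := by
    intro n
    have h1 := hx n
    rw [SModEq.zero, Ideal.smul_top_eq_map, Submodule.restrictScalars_mem, Ideal.map_pow] at h1
    exact Ideal.pow_right_mono hJ n h1
  have h2 : x ∈ ⨅ n : ℕ, (maximalIdeal C) ^ n := by
    rw [Ideal.mem_iInf]; exact hmem
  rw [Ideal.iInf_pow_eq_bot_of_isLocalRing (maximalIdeal C) Ideal.IsPrime.ne_top'] at h2
  exact h2

/-- a one-dimensional Noetherian local domain with trivial residue extension over a complete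
Noetherian local ring, in which the maximal ideal of the base does not die, is finite -/
theorem finite_of_complete {A C : Type u} [CommRing A] [IsLocalRing A] [IsNoetherianRing A]
    [IsAdicComplete (maximalIdeal A) A]
    [CommRing C] [IsDomain C] [IsNoetherianRing C] [IsLocalRing C] [Algebra A C]
    [IsLocalHom (algebraMap A C)]
    (hres : ∀ c : C, ∃ a : A, c - algebraMap A C a ∈ maximalIdeal C)
    (hdim : ∀ 𝔯 : Ideal C, 𝔯.IsPrime → 𝔯 ≠ ⊥ → 𝔯.IsMaximal)
    (hne : ∃ a ∈ maximalIdeal A, algebraMap A C a ≠ 0) : Module.Finite A C := by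
  haveI := isHausdorff_of_isLocalHom (A := A) (C := C)
  apply Groth.Agent.S0544.result A (maximalIdeal A) C
  set J : Ideal C := (maximalIdeal A).map (algebraMap A C) with hJdef
  have hJ : J ≤ maximalIdeal C := map_maximalIdeal_le
  have hJ0 : J ≠ ⊥ := by
    obtain ⟨a, ha, ha0⟩ := hne
    intro h
    have : algebraMap A C a ∈ J := Ideal.mem_map_of_mem _ ha
    rw [h, Ideal.mem_bot] at this
    exact ha0 this
  -- the residue field is a quotient of A
  haveI hfres : Module.Finite A (C ⧸ maximalIdeal C) := by
    refine Module.Finite.of_surjective (Algebra.linearMap A (C ⧸ maximalIdeal C)) ?_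
    intro z
    obtain ⟨c, rfl⟩ := Ideal.Quotient.mk_surjective z
    obtain ⟨a, ha⟩ := hres c
    refine ⟨a, ?_⟩
    rw [Algebra.linearMap_apply, IsScalarTower.algebraMap_apply A C (C ⧸ maximalIdeal C),
      Ideal.Quotient.algebraMap_eq]
    symm
    rw [Ideal.Quotient.eq]
    exact ha
  -- finiteness of C ⧸ J
  haveI hfJ : Module.Finite A (C ⧸ J) := by
    refine Module.finite_of_surjective_of_ker_le_nilradical (Ideal.Quotient.factorₐ A hJ)
      (Ideal.Quotient.factor_surjective hJ) ?_ (IsNoetherian.noetherian _)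
    rw [← RingHom.ker_coe_toRingHom, Ideal.Quotient.coe_factorₐ, Ideal.Quotient.factor_ker hJ,
      nilradical_eq_sInf, Ideal.map_le_iff_le_comap]
    intro c hc
    rw [Ideal.mem_comap, Ideal.mem_sInf]
    intro 𝔓 h𝔓
    haveI : 𝔓.IsPrime := h𝔓
    have hcp : (Ideal.comap (Ideal.Quotient.mk J) 𝔓).IsPrime := Ideal.comap_isPrime _ _
    have hJle : J ≤ Ideal.comap (Ideal.Quotient.mk J) 𝔓 := by
      intro a ha
      rw [Ideal.mem_comap, Ideal.Quotient.eq_zero_iff_mem.2 ha]
      exact zero_mem _
    have hne0 : Ideal.comap (Ideal.Quotient.mk J) 𝔓 ≠ ⊥ := by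
      intro h
      exact hJ0 (le_bot_iff.1 (h ▸ hJle))
    have hmaxi := hdim _ hcp hne0
    have heq : Ideal.comap (Ideal.Quotient.mk J) 𝔓 = maximalIdeal C := IsLocalRing.eq_maximalIdeal hmaxi
    have : c ∈ Ideal.comap (Ideal.Quotient.mk J) 𝔓 := heq ▸ hc
    exact this
  have heq : (maximalIdeal A • ⊤ : Submodule A C) = J.restrictScalars A := Ideal.smul_top_eq_map _
  haveI : Module.Finite A (C ⧸ J.restrictScalars A) := hfJ
  exact Module.Finite.equiv (Submodule.quotEquivOfEq _ _ heq.symm)

end Groth.Agent.Lib.Helper4.DvrLift2
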