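import Mathlib
import Groth.Agent.S0568
import Groth.Agent.S0573
import Groth.Agent.S1964

/-!
# Normalization of a one-dimensional local domain finite over a complete DVR (helper4)
-/

set_option backward.isDefEq.respectTransparency.types false
set_option synthInstance.maxHeartbeats 400000
set_option autoImplicit false
set_option linter.unusedSectionVars false
set_option linter.style.haveILetI false
set_option linter.unusedSimpArgs false
universe u v w
open CategoryTheory CategoryTheory.Limits AlgebraicGeometry TopologicalSpace Topology

namespace Groth.Agent.Lib.Helper4.DvrLift3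
open IsLocalRing

theorem henselianLocalRing_of_isAdicComplete' (A : Type u) [CommRing A] [IsLocalRing A]
    [IsAdicComplete (IsLocalRing.maximalIdeal A) A] : HenselianLocalRing A :=
  { is_henselian := by
      intro f hf a₀ h₁ h₂
      exact HenselianRing.is_henselian (I := IsLocalRing.maximalIdeal A) f hf a₀ h₁ (h₂.map _) }

/-- in a one-dimensional local domain, every nonzero element divides a power of any element of
the maximal ideal -/
theorem exists_pow_mem_span {C : Type*} [CommRing C] [IsDomain C] [IsLocalRing C]
    (hdim : ∀ 𝔯 : Ideal C, 𝔯.IsPrime → 𝔯 ≠ ⊥ → 𝔯.IsMaximal) (t : C) (ht : t ∈ maximalIdeal C)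
    (d : C) (hd : d ≠ 0) : ∃ n : ℕ, t ^ n ∈ Ideal.span {d} := by
  have h1 : t ∈ (Ideal.span {d}).radical := by
    rw [Ideal.radical_eq_sInf, Ideal.mem_sInf]
    rintro 𝔭 ⟨hle, h𝔭⟩
    have h0 : 𝔭 ≠ ⊥ := by
      intro h
      have : d ∈ 𝔭 := hle (Ideal.mem_span_singleton_self d)
      rw [h, Ideal.mem_bot] at this
      exact hd this
    rw [IsLocalRing.eq_maximalIdeal (hdim 𝔭 h𝔭 h0)]
    exact ht
  exact h1

theorem finiteType_fractionRing {C : Type*} [CommRing C] [IsDomain C] [IsLocalRing C]
    (hdim : ∀ 𝔯 : Ideal C, 𝔯.IsPrime → 𝔯 ≠ ⊥ → 𝔯.IsMaximal) (t : C) (ht : t ∈ maximalIdeal C)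
    (ht0 : t ≠ 0) : Algebra.FiniteType C (FractionRing C) := by
  refine ⟨⟨{(algebraMap C (FractionRing C) t)⁻¹}, ?_⟩⟩
  rw [eq_top_iff]
  rintro x -
  obtain ⟨c, d, hd, rfl⟩ := IsFractionRing.div_surjective (A := C) x
  have hd0 : d ≠ 0 := nonZeroDivisors.ne_zero hd
  obtain ⟨n, hn⟩ := exists_pow_mem_span hdim t ht d hd0
  obtain ⟨e, he⟩ := Ideal.mem_span_singleton'.1 hn
  have hdL : algebraMap C (FractionRing C) d ≠ 0 := by
    rw [Ne, map_eq_zero_iff _ (IsFractionRing.injective C (FractionRing C))]
    exact hd0
  have htL : algebraMap C (FractionRing C) t ≠ 0 := by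
    rw [Ne, map_eq_zero_iff _ (IsFractionRing.injective C (FractionRing C))]
    exact ht0
  have key : algebraMap C (FractionRing C) c / algebraMap C (FractionRing C) d =
      algebraMap C (FractionRing C) (c * e) * ((algebraMap C (FractionRing C) t)⁻¹) ^ n := by
    have h2 : algebraMap C (FractionRing C) e * algebraMap C (FractionRing C) d =
        (algebraMap C (FractionRing C) t) ^ n := by
      rw [← map_mul, he, map_pow]
    have heL : algebraMap C (FractionRing C) e ≠ 0 := by
      intro h
      rw [h, zero_mul] at h2
      exact pow_ne_zero n htL h2.symm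
    rw [map_mul, inv_pow, ← h2]
    field_simp
  rw [key]
  refine mul_mem (Subalgebra.algebraMap_mem _ _) (pow_mem (Algebra.subset_adjoin ?_) n)
  simp

/-- the normalization of a one-dimensional local domain finite over a complete discrete
valuation ring is a discrete valuation ring finite over the base -/
theorem exists_dvr_finite {A C : Type u} [CommRing A] [IsDomain A] [IsDiscreteValuationRing A]
    [IsAdicComplete (maximalIdeal A) A]
    [CommRing C] [IsDomain C] [IsLocalRing C] [Algebra A C] [Module.Finite A C]
    (hinj : Function.Injective (algebraMap A C))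
    (hdim : ∀ 𝔯 : Ideal C, 𝔯.IsPrime → 𝔯 ≠ ⊥ → 𝔯.IsMaximal) :
    ∃ (B : Type u) (_ : CommRing B) (_ : IsDomain B) (_ : IsDiscreteValuationRing B)
      (_ : Algebra A B) (θ : C →ₐ[A] B),
      Module.Finite A B ∧ IsLocalHom (algebraMap A B) ∧ IsLocalHom θ.toRingHom := by
  haveI : Algebra.IsIntegral A C := Algebra.IsIntegral.of_finite A C
  haveI hlocAC : IsLocalHom (algebraMap A C) :=
    (algebraMap_isIntegral_iff.mpr inferInstance).isLocalHom hinj
  obtain ⟨ϖ, hϖ⟩ := IsDiscreteValuationRing.exists_irreducible A
  have ht : algebraMap A C ϖ ∈ maximalIdeal C := by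
    intro hu
    exact hϖ.not_isUnit (hlocAC.map_nonunit ϖ hu)
  have ht0 : algebraMap A C ϖ ≠ 0 := by
    rw [Ne, map_eq_zero_iff _ hinj]
    exact hϖ.ne_zero
  haveI hFT : Algebra.FiniteType A (FractionRing C) :=
    Algebra.FiniteType.trans (inferInstance : Algebra.FiniteType A C)
      (finiteType_fractionRing hdim _ ht ht0)
  haveI hfin : Module.Finite A (integralClosure A (FractionRing C)) :=
    Groth.Agent.S0573.result A (Groth.Agent.S0568.result A) (FractionRing C)
  haveI : HenselianLocalRing A := henselianLocalRing_of_isAdicComplete' A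
  obtain ⟨hB, hlocAB, -⟩ := Groth.Agent.S1964.result A (integralClosure A (FractionRing C))
  haveI := hB
  haveI : IsNoetherianRing (integralClosure A (FractionRing C)) :=
    Algebra.FiniteType.isNoetherianRing A _
  have hinjL : Function.Injective (algebraMap A (FractionRing C)) := by
    rw [IsScalarTower.algebraMap_eq A C (FractionRing C)]
    exact (IsFractionRing.injective C (FractionRing C)).comp hinj
  haveI : FaithfulSMul A (FractionRing C) := (faithfulSMul_iff_algebraMap_injective A _).mpr hinjL
  haveI : Algebra.IsAlgebraic A (FractionRing C) := by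
    have h1 : Algebra.IsAlgebraic A C := Algebra.IsIntegral.isAlgebraic
    exact (IsFractionRing.isAlgebraic_iff' A C (FractionRing C)).mp h1
  haveI hfr : IsFractionRing (integralClosure A (FractionRing C)) (FractionRing C) :=
    integralClosure.isFractionRing_of_algebraic (A := A) (L := FractionRing C)
      (fun x hx => hinjL (by rw [hx, map_zero]))
  haveI : IsIntegrallyClosed (integralClosure A (FractionRing C)) :=
    (isIntegrallyClosed_iff_isIntegrallyClosedIn (FractionRing C)).mpr inferInstance
  haveI : IsDedekindDomain (integralClosure A (FractionRing C)) := {}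
  have hnf : ¬ IsField (integralClosure A (FractionRing C)) := by
    intro hf
    have hinjB : Function.Injective (algebraMap A (integralClosure A (FractionRing C))) := by
      intro a b hab
      apply hinjL
      have := congrArg (algebraMap (integralClosure A (FractionRing C)) (FractionRing C)) hab
      simpa [← IsScalarTower.algebraMap_apply] using this
    exact IsDiscreteValuationRing.not_isField A (isField_of_isIntegral_of_isField hinjB hf)
  have hded : IsDedekindDomain (integralClosure A (FractionRing C)) := inferInstance
  have hdvr : IsDiscreteValuationRing (integralClosure A (FractionRing C)) :=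
    ((IsDiscreteValuationRing.TFAE (↥(integralClosure A (FractionRing C))) hnf).out 0 2).mpr hded
  let θ : C →ₐ[A] integralClosure A (FractionRing C) :=
    (IsScalarTower.toAlgHom A C (FractionRing C)).codRestrict _
      (fun c => (Algebra.IsIntegral.isIntegral (R := A) c).map _)
  refine ⟨integralClosure A (FractionRing C), inferInstance, inferInstance, hdvr, inferInstance,
    θ, hfin, hlocAB, ?_⟩
  have hθinj : Function.Injective θ.toRingHom := by
    intro a b hab
    apply IsFractionRing.injective C (FractionRing C)
    exact congrArg Subtype.val hab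
  have hθint : θ.toRingHom.IsIntegral := by
    apply RingHom.IsIntegral.tower_top (algebraMap A C) θ.toRingHom
    have : θ.toRingHom.comp (algebraMap A C) = algebraMap A _ := θ.comp_algebraMap
    rw [this]
    exact algebraMap_isIntegral_iff.mpr inferInstance
  exact hθint.isLocalHom hθinj

end Groth.Agent.Lib.Helper4.DvrLift3
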