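import Mathlib
import Groth.Agent.Lib.Helper4.DvrLift1
import Groth.Agent.Lib.Helper4.DvrLift2
import Groth.Agent.Lib.Helper4.DvrLift3

/-!
# Algebraic core: a finite DVR extension through a prime of a local algebra over a complete DVR (helper4)
-/

set_option backward.isDefEq.respectTransparency.types false
set_option synthInstance.maxHeartbeats 400000
set_option autoImplicit false
set_option linter.unusedSectionVars false
set_option linter.style.haveILetI false
set_option linter.unusedSimpArgs false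
universe u v w
open CategoryTheory CategoryTheory.Limits AlgebraicGeometry TopologicalSpace Topology

namespace Groth.Agent.Lib.Helper4.DvrLift4
open IsLocalRing
open Groth.Agent.Lib.Helper4.DvrLift1 Groth.Agent.Lib.Helper4.DvrLift2 Groth.Agent.Lib.Helper4.DvrLift3

/-- the algebraic core of the lifting of points of complete discrete valuation rings -/
theorem exists_dvr_of_local {A O : Type u} [CommRing A] [IsDomain A] [IsDiscreteValuationRing A]
    [IsAdicComplete (maximalIdeal A) A]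
    [CommRing O] [IsNoetherianRing O] [IsLocalRing O] (ψ : A →+* O) [IsLocalHom ψ]
    (hres : ∀ o : O, ∃ a : A, o - ψ a ∈ maximalIdeal O)
    (𝔮₀ : Ideal O) [𝔮₀.IsPrime] (h₀ : 𝔮₀.comap ψ = ⊥) :
    ∃ (B : Type u) (_ : CommRing B) (_ : IsDomain B) (_ : IsDiscreteValuationRing B)
      (φ : A →+* B) (θ : O →+* B),
      θ.comp ψ = φ ∧ φ.Finite ∧ IsLocalHom φ ∧ IsLocalHom θ := by
  obtain ⟨ϖ, hϖ⟩ := IsDiscreteValuationRing.exists_irreducible A
  have htm : ψ ϖ ∈ maximalIdeal O := by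
    intro hu
    exact hϖ.not_isUnit (IsLocalHom.map_nonunit ϖ hu)
  have ht₀ : ψ ϖ ∉ 𝔮₀ := by
    intro h
    have : ϖ ∈ 𝔮₀.comap ψ := h
    rw [h₀, Ideal.mem_bot] at this
    exact hϖ.ne_zero this
  obtain ⟨𝔮, h𝔮, -, ht𝔮, hdim⟩ := exists_prime_quotient_dim_one (ψ ϖ) htm 𝔮₀ ht₀
  haveI := h𝔮
  letI : Algebra A (O ⧸ 𝔮) := ((Ideal.Quotient.mk 𝔮).comp ψ).toAlgebra
  have halg : ∀ a : A, algebraMap A (O ⧸ 𝔮) a = Ideal.Quotient.mk 𝔮 (ψ a) := fun a => rfl
  haveI : IsLocalRing (O ⧸ 𝔮) :=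
    IsLocalRing.of_surjective' (Ideal.Quotient.mk 𝔮) Ideal.Quotient.mk_surjective
  have hlocmk : IsLocalHom (Ideal.Quotient.mk 𝔮) :=
    IsLocalHom.of_surjective _ Ideal.Quotient.mk_surjective
  haveI hlocAC : IsLocalHom (algebraMap A (O ⧸ 𝔮)) := by
    constructor
    intro a ha
    rw [halg] at ha
    exact IsLocalHom.map_nonunit a (hlocmk.map_nonunit _ ha)
  have hresC : ∀ c : O ⧸ 𝔮, ∃ a : A, c - algebraMap A (O ⧸ 𝔮) a ∈ maximalIdeal (O ⧸ 𝔮) := by
    intro c
    obtain ⟨o, rfl⟩ := Ideal.Quotient.mk_surjective c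
    obtain ⟨a, ha⟩ := hres o
    refine ⟨a, ?_⟩
    rw [halg, ← map_sub]
    intro hu
    exact ha (hlocmk.map_nonunit _ hu)
  have ht0 : algebraMap A (O ⧸ 𝔮) ϖ ≠ 0 := by
    rw [halg, Ne, Ideal.Quotient.eq_zero_iff_mem]
    exact ht𝔮
  haveI hfin : Module.Finite A (O ⧸ 𝔮) :=
    finite_of_complete hresC hdim ⟨ϖ, hϖ.not_isUnit, ht0⟩
  have hinj : Function.Injective (algebraMap A (O ⧸ 𝔮)) := by
    rw [injective_iff_map_eq_zero]
    intro a ha
    by_contra ha0
    obtain ⟨n, u, rfl⟩ := IsDiscreteValuationRing.eq_unit_mul_pow_irreducible ha0 hϖ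
    rw [map_mul, map_pow] at ha
    rcases mul_eq_zero.1 ha with h | h
    · exact (u.isUnit.map (algebraMap A (O ⧸ 𝔮))).ne_zero h
    · exact ht0 (pow_eq_zero_iff' |>.1 h).1
  obtain ⟨B, _, _, hB, _, θ', hfinB, hlocAB, hlocθ'⟩ := exists_dvr_finite hinj hdim
  refine ⟨B, inferInstance, inferInstance, hB, algebraMap A B,
    θ'.toRingHom.comp (Ideal.Quotient.mk 𝔮), ?_, RingHom.finite_algebraMap.2 hfinB, hlocAB, ?_⟩
  · ext a
    exact θ'.commutes a
  · haveI := hlocθ'
    haveI := hlocmk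
    exact RingHom.isLocalHom_comp _ _

end Groth.Agent.Lib.Helper4.DvrLift4
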