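import Mathlib
import Groth.Agent.Lib.Helper4.DvrLift4
import Groth.Agent.Lib.Helper4.UnivOpen2

/-!
# Points of complete DVRs lift along universally open morphisms after a finite extension (forward direction of EGA IV 14.5.8) (helper4)
-/

set_option backward.isDefEq.respectTransparency.types false
set_option synthInstance.maxHeartbeats 400000
set_option autoImplicit false
set_option linter.unusedSectionVars false
set_option linter.style.haveILetI false
set_option linter.unusedSimpArgs false
universe u v w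
open CategoryTheory CategoryTheory.Limits AlgebraicGeometry TopologicalSpace Topology

namespace Groth.Agent.Lib.Helper4.DvrLift5
open IsLocalRing
open Groth.Agent.Lib.Helper4.DvrLift4 Groth.Agent.Lib.Helper4.UOp

theorem forward_core {P : Scheme.{u}} [IsLocallyNoetherian P]
    (A : Type u) [CommRing A] [IsDomain A] [IsDiscreteValuationRing A]
    [IsAdicComplete (maximalIdeal A) A]
    (s : P ⟶ Spec (CommRingCat.of A))
    (σ₀ : Spec (CommRingCat.of (ResidueField A)) ⟶ P)
    (hσ : σ₀ ≫ s = Spec.map (CommRingCat.ofHom (residue A)))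
    (z' : P) (hz' : z' ⤳ σ₀ (closedPoint (ResidueField A)))
    (hsz' : s z' = (⟨⊥, Ideal.isPrime_bot⟩ : PrimeSpectrum A)) :
    ∃ (B : CommRingCat.{u}) (_ : IsDomain B) (_ : IsDiscreteValuationRing B) (φ : A →+* B)
      (_ : IsLocalHom φ) (w : Spec B ⟶ P),
      φ.Finite ∧ w ≫ s = Spec.map (CommRingCat.ofHom φ) ∧
      Spec.map (CommRingCat.ofHom (ResidueField.map φ)) ≫ σ₀ =
        Spec.map (CommRingCat.ofHom (residue B)) ≫ w := by
  -- the local ring and its structure map
  let ψc : CommRingCat.of A ⟶ P.presheaf.stalk (σ₀ (closedPoint (ResidueField A))) :=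
    Spec.preimage (P.fromSpecStalk (σ₀ (closedPoint (ResidueField A))) ≫ s)
  have hψc : Spec.map ψc = P.fromSpecStalk (σ₀ (closedPoint (ResidueField A))) ≫ s :=
    Spec.map_preimage _
  let τ : P.presheaf.stalk (σ₀ (closedPoint (ResidueField A))) ⟶
      CommRingCat.of (ResidueField A) := Scheme.stalkClosedPointTo σ₀
  have hτ : Spec.map τ ≫ P.fromSpecStalk _ = σ₀ := Scheme.Spec_stalkClosedPointTo_fromSpecStalk σ₀
  haveI hτloc : IsLocalHom τ.hom := Scheme.isLocalHom_stalkClosedPointTo' σ₀
  have hτψ : ψc ≫ τ = CommRingCat.ofHom (residue A) := by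
    apply Spec.map_injective
    rw [Spec.map_comp, hψc, ← Category.assoc, hτ, hσ]
  have hτψ' : ∀ a : A, τ.hom (ψc.hom a) = residue A a := by
    intro a
    have := congrArg (fun h => h.hom a) hτψ
    exact this
  haveI hψloc : IsLocalHom ψc.hom := by
    constructor
    intro a ha
    have h1 : IsUnit (τ.hom (ψc.hom a)) := ha.map τ.hom
    rw [hτψ'] at h1
    by_contra hnu
    have h2 : residue A a = 0 := (residue_eq_zero_iff a).2 hnu
    rw [h2] at h1
    exact not_isUnit_zero h1
  have hτker : ∀ m, m ∈ maximalIdeal (P.presheaf.stalk (σ₀ (closedPoint (ResidueField A)))) →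
      τ.hom m = 0 := by
    intro m hm
    by_contra hne
    have hu : IsUnit (τ.hom m) := isUnit_iff_ne_zero.2 hne
    exact hm (hτloc.map_nonunit m hu)
  have hres : ∀ o : P.presheaf.stalk (σ₀ (closedPoint (ResidueField A))),
      ∃ a : A, o - ψc.hom a ∈
        maximalIdeal (P.presheaf.stalk (σ₀ (closedPoint (ResidueField A)))) := by
    intro o
    obtain ⟨a, ha⟩ := residue_surjective (τ.hom o)
    refine ⟨a, ?_⟩
    intro hu
    have h1 : IsUnit (τ.hom (o - ψc.hom a)) := hu.map τ.hom
    rw [map_sub, hτψ', ha, sub_self] at h1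
    exact not_isUnit_zero h1
  -- the prime of the generization
  have hzr : z' ∈ Set.range (P.fromSpecStalk (σ₀ (closedPoint (ResidueField A)))) := by
    rw [Scheme.range_fromSpecStalk]
    exact hz'
  obtain ⟨q, hq⟩ := hzr
  haveI : (q : PrimeSpectrum _).asIdeal.IsPrime := (q : PrimeSpectrum _).isPrime
  have h₀ : Ideal.comap ψc.hom (q : PrimeSpectrum _).asIdeal = ⊥ := by
    have h1 : (Spec.map ψc) q = (⟨⊥, Ideal.isPrime_bot⟩ : PrimeSpectrum A) := by
      rw [hψc, Scheme.Hom.comp_apply, hq, hsz']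
    exact congrArg PrimeSpectrum.asIdeal h1
  obtain ⟨B, _, _, hB, φ, θ, hθψ, hfin, hlocφ, hlocθ⟩ :=
    exists_dvr_of_local ψc.hom hres (q : PrimeSpectrum _).asIdeal h₀
  refine ⟨CommRingCat.of B, inferInstance, hB, φ, hlocφ,
    Spec.map (CommRingCat.ofHom θ) ≫ P.fromSpecStalk _, hfin, ?_, ?_⟩
  · rw [Category.assoc, ← hψc, ← Spec.map_comp]
    congr 1
    ext a
    exact congrArg (fun h => h a) hθψ
  · have hL : Spec.map (CommRingCat.ofHom (ResidueField.map φ)) ≫ σ₀ =
        Spec.map (τ ≫ CommRingCat.ofHom (ResidueField.map φ)) ≫ P.fromSpecStalk _ := by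
      rw [Spec.map_comp, Category.assoc, hτ]
    rw [hL, ← Category.assoc, ← Spec.map_comp]
    congr 2
    ext o
    obtain ⟨a, ha⟩ := hres o
    have ho : o = ψc.hom a + (o - ψc.hom a) := by ring
    show ResidueField.map φ (τ.hom o) = residue B (θ o)
    rw [ho, map_add, map_add, map_add, map_add, hτker _ ha, map_zero, add_zero, hτψ',
      ResidueField.map_residue]
    have h1 : θ (ψc.hom a) = φ a := congrArg (fun h => h a) hθψ
    have h2 : residue B (θ (o - ψc.hom a)) = 0 := by
      rw [residue_eq_zero_iff]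
      intro hu
      exact ha (hlocθ.map_nonunit _ hu)
    rw [h1, h2, add_zero]

theorem S4981_forward {X Y : Scheme.{u}} [IsLocallyNoetherian Y] (f : X ⟶ Y)
    [LocallyOfFiniteType f] (x : X) (hf : EGA43.IsUnivOpenAt f x)
    (A : Type u) [CommRing A] [IsDomain A] [IsDiscreteValuationRing A]
    [IsAdicComplete (maximalIdeal A) A]
    (g : Spec (CommRingCat.of A) ⟶ Y)
    (u₀ : Spec (CommRingCat.of (ResidueField A)) ⟶ X)
    (hu₀ : u₀ ≫ f = Spec.map (CommRingCat.ofHom (residue A)) ≫ g) (hx : x ∈ Set.range u₀.base) :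
    ∃ (B : CommRingCat.{u}) (_ : IsDomain B) (_ : IsDiscreteValuationRing B) (φ : A →+* B)
      (_ : IsLocalHom φ) (v : Spec B ⟶ X),
      φ.Finite ∧ v ≫ f = Spec.map (CommRingCat.ofHom φ) ≫ g ∧
      Spec.map (CommRingCat.ofHom (ResidueField.map φ)) ≫ u₀ =
        Spec.map (CommRingCat.ofHom (residue B)) ≫ v := by
  let σ₀ : Spec (CommRingCat.of (ResidueField A)) ⟶ pullback f g :=
    pullback.lift u₀ (Spec.map (CommRingCat.ofHom (residue A))) hu₀
  have hσfst : σ₀ ≫ pullback.fst f g = u₀ := pullback.lift_fst _ _ _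
  have hσsnd : σ₀ ≫ pullback.snd f g = Spec.map (CommRingCat.ofHom (residue A)) :=
    pullback.lift_snd _ _ _
  have hsub : Subsingleton ↥(Spec (CommRingCat.of (ResidueField A))) :=
    inferInstanceAs (Subsingleton (PrimeSpectrum (ResidueField A)))
  have hfst : (pullback.fst f g).base (σ₀ (closedPoint (ResidueField A))) = x := by
    obtain ⟨p, hp⟩ := hx
    rw [← Scheme.Hom.comp_apply, hσfst, ← hp]
    congr 1
    exact Subsingleton.elim _ _
  obtain ⟨z', hz', hsz'⟩ := dvr_lifting_of_isUnivOpenAt f x hf A g _ hfst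
  haveI : IsLocallyNoetherian (pullback f g) :=
    LocallyOfFiniteType.isLocallyNoetherian (pullback.snd f g)
  obtain ⟨B, hBd, hB, φ, hlocφ, w, hfin, hws, hcompat⟩ :=
    forward_core A (pullback.snd f g) σ₀ hσsnd z' hz' hsz'
  refine ⟨B, hBd, hB, φ, hlocφ, w ≫ pullback.fst f g, hfin, ?_, ?_⟩
  · rw [Category.assoc, pullback.condition, ← Category.assoc, hws]
  · rw [← hσfst, ← Category.assoc, hcompat, Category.assoc]

end Groth.Agent.Lib.Helper4.DvrLift5
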