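import Mathlib
import Groth.Agent.S2363
import Groth.Agent.Lib.Helper2.CompletionDVR

/-!
# Complete DVR extensions with prescribed algebraically closed residue field; finite maps of DVRs are injective (helper4)
-/

set_option backward.isDefEq.respectTransparency.types false
set_option synthInstance.maxHeartbeats 400000
set_option autoImplicit false
set_option linter.unusedSectionVars false
set_option linter.style.haveILetI false
set_option linter.unusedSimpArgs false
universe u v w
open CategoryTheory CategoryTheory.Limits AlgebraicGeometry TopologicalSpace Topology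

namespace Groth.Agent.Lib.Helper4.DvrLift6
open IsLocalRing

/-- a discrete valuation ring has a complete discrete valuation ring extension with prescribed
algebraically closed residue field -/
theorem exists_complete_dvr_extension (A₀ : Type u) [CommRing A₀] [IsDomain A₀]
    [IsDiscreteValuationRing A₀] (K : Type u) [Field K] [IsAlgClosed K]
    [Algebra (ResidueField A₀) K] :
    ∃ (A : Type u) (_ : CommRing A) (_ : IsDomain A) (_ : IsDiscreteValuationRing A)
      (_ : IsAdicComplete (maximalIdeal A) A) (_ : IsAlgClosed (ResidueField A))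
      (ι : A₀ →+* A) (_ : IsLocalHom ι) (ρ : K →+* ResidueField A),
      Function.Injective ι ∧
        ∀ a : A₀, ρ (algebraMap (ResidueField A₀) K (residue A₀ a)) = residue A (ι a) := by
  obtain ⟨B₁, _, _, hN, hL, hloc, hflat, e, he⟩ := Groth.Agent.S2363.result (A := A₀) K
  haveI := hN
  haveI := hL
  haveI := hloc
  haveI := hflat
  have hJmax : ((maximalIdeal A₀).map (algebraMap A₀ B₁)).IsMaximal :=
    Ideal.Quotient.maximal_of_isField _ (e.toMulEquiv.isField (Field.toIsField K))
  have hJ : (maximalIdeal A₀).map (algebraMap A₀ B₁) = maximalIdeal B₁ :=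
    IsLocalRing.eq_maximalIdeal hJmax
  obtain ⟨ϖ₀, hϖ₀⟩ := IsDiscreteValuationRing.exists_irreducible A₀
  have hm₀ : maximalIdeal A₀ = Ideal.span {ϖ₀} := hϖ₀.maximalIdeal_eq
  have hmB : maximalIdeal B₁ = Ideal.span {algebraMap A₀ B₁ ϖ₀} := by
    rw [← hJ, hm₀, Ideal.map_span, Set.image_singleton]
  haveI hff : Module.FaithfullyFlat A₀ B₁ := Module.FaithfullyFlat.of_flat_of_isLocalHom
  have hinj₁ : Function.Injective (algebraMap A₀ B₁) := FaithfulSMul.algebraMap_injective A₀ B₁
  have hϖ₁0 : algebraMap A₀ B₁ ϖ₀ ≠ 0 := by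
    rw [Ne, map_eq_zero_iff _ hinj₁]
    exact hϖ₀.ne_zero
  haveI hdom : IsDomain B₁ := by
    refine Groth.Agent.Helper2.CompletionDVR.isDomain_of_principal (algebraMap A₀ B₁ ϖ₀) hmB
      fun n => ?_
    rw [← map_pow, Ne, map_eq_zero_iff _ hinj₁]
    exact pow_ne_zero n hϖ₀.ne_zero
  have hnf : ¬ IsField B₁ := by
    rw [IsLocalRing.isField_iff_maximalIdeal_eq, hmB, Ideal.span_singleton_eq_bot]
    exact hϖ₁0
  have hdvrB : IsDiscreteValuationRing B₁ :=
    ((IsDiscreteValuationRing.TFAE B₁ hnf).out 0 4).mpr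
      (⟨⟨algebraMap A₀ B₁ ϖ₀, hmB⟩⟩ : (maximalIdeal B₁).IsPrincipal)
  obtain ⟨hdA, hdvrA⟩ := (Groth.Agent.Helper2.CompletionDVR.dvr_iff B₁).mp ⟨hdom, hdvrB⟩
  haveI : Module.FaithfullyFlat B₁ (AdicCompletion (maximalIdeal B₁) B₁) :=
    Module.FaithfullyFlat.of_flat_of_isLocalHom
  have hinj₂ : Function.Injective (algebraMap B₁ (AdicCompletion (maximalIdeal B₁) B₁)) :=
    FaithfulSMul.algebraMap_injective _ _
  have hbij := AdicCompletion.residueField_map_bijective B₁
  let r₁ : ResidueField B₁ ≃+* ResidueField (AdicCompletion (maximalIdeal B₁) B₁) :=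
    RingEquiv.ofBijective _ hbij
  let r₂ : K ≃+* ResidueField B₁ := e.symm.trans (Ideal.quotEquivOfEq hJ)
  haveI : IsAlgClosed (ResidueField (AdicCompletion (maximalIdeal B₁) B₁)) :=
    IsAlgClosed.of_ringEquiv (k := K) _ (r₂.trans r₁)
  refine ⟨AdicCompletion (maximalIdeal B₁) B₁, inferInstance, hdA, hdvrA, inferInstance,
    inferInstance, (algebraMap B₁ (AdicCompletion (maximalIdeal B₁) B₁)).comp (algebraMap A₀ B₁),
    RingHom.isLocalHom_comp _ _, (r₂.trans r₁).toRingHom, hinj₂.comp hinj₁, ?_⟩
  intro a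
  have h1 : e.symm (algebraMap (ResidueField A₀) K (residue A₀ a)) =
      Ideal.Quotient.mk ((maximalIdeal A₀).map (algebraMap A₀ B₁)) (algebraMap A₀ B₁ a) := by
    rw [← he a, RingEquiv.symm_apply_apply]
  show r₁ (Ideal.quotEquivOfEq hJ (e.symm _)) = _
  rw [h1, Ideal.quotEquivOfEq_mk]
  exact ResidueField.map_residue _ _

/-- a finite homomorphism from a discrete valuation ring to a discrete valuation ring is
injective -/
theorem injective_of_finite_of_dvr {A B : Type*} [CommRing A] [IsDomain A]
    [IsDiscreteValuationRing A] [CommRing B] [IsDomain B] [IsDiscreteValuationRing B]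
    (φ : A →+* B) (hfin : φ.Finite) : Function.Injective φ := by
  rw [injective_iff_map_eq_zero]
  intro a ha
  by_contra ha0
  obtain ⟨ϖ, hϖ⟩ := IsDiscreteValuationRing.exists_irreducible A
  obtain ⟨n, u, rfl⟩ := IsDiscreteValuationRing.eq_unit_mul_pow_irreducible ha0 hϖ
  rw [map_mul, map_pow] at ha
  have hϖ0 : φ ϖ = 0 := by
    rcases mul_eq_zero.1 ha with h | h
    · exact absurd h (u.isUnit.map φ).ne_zero
    · exact (pow_eq_zero_iff' |>.1 h).1
  have hker : ∀ a ∈ maximalIdeal A, φ a = 0 := by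
    intro a ha
    rw [hϖ.maximalIdeal_eq, Ideal.mem_span_singleton'] at ha
    obtain ⟨c, rfl⟩ := ha
    rw [map_mul, hϖ0, mul_zero]
  let φ' : A ⧸ maximalIdeal A →+* B := Ideal.Quotient.lift (maximalIdeal A) φ hker
  have hint : φ'.IsIntegral := by
    apply RingHom.IsIntegral.tower_top (Ideal.Quotient.mk (maximalIdeal A)) φ'
    have : φ'.comp (Ideal.Quotient.mk (maximalIdeal A)) = φ := Ideal.Quotient.lift_comp_mk _ _ _
    rw [this]
    exact hfin.to_isIntegral
  letI := φ'.toAlgebra
  haveI : Algebra.IsIntegral (A ⧸ maximalIdeal A) B := algebraMap_isIntegral_iff.mp hint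
  letI : Field (A ⧸ maximalIdeal A) := Ideal.Quotient.field _
  exact IsDiscreteValuationRing.not_isField B
    (isField_of_isIntegral_of_isField' (R := A ⧸ maximalIdeal A) (S := B) (Field.toIsField _))

end Groth.Agent.Lib.Helper4.DvrLift6
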