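import Mathlib
import Groth.Agent.S3417
import Groth.Agent.Lib.Helper4.ChevCrit4
import Groth.Agent.Lib.Helper4.UnivOpenAt

/-!
# Connectedness of the generic fibre over a discrete valuation ring (helper4)
-/

set_option backward.isDefEq.respectTransparency.types false
set_option synthInstance.maxHeartbeats 400000
set_option autoImplicit false
set_option linter.unusedSectionVars false
set_option linter.style.haveILetI false
set_option linter.unusedSimpArgs false
universe u v w
open CategoryTheory CategoryTheory.Limits AlgebraicGeometry TopologicalSpace Topology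

namespace Groth.Agent.Lib.Helper4.GeomCnt2

/-- the generic point of the spectrum of a domain -/
def genPt (R : Type u) [CommRing R] [IsDomain R] : ↥(Spec (CommRingCat.of R)) :=
  (⟨⊥, Ideal.isPrime_bot⟩ : PrimeSpectrum R)

theorem genPt_specializes (R : Type u) [CommRing R] [IsDomain R]
    (z : ↥(Spec (CommRingCat.of R))) : genPt R ⤳ z :=
  (PrimeSpectrum.le_iff_specializes (⟨⊥, Ideal.isPrime_bot⟩ : PrimeSpectrum R) z).mp bot_le

/-- the closed point of the spectrum of a local ring, as a point of the scheme -/
def clPt (R : Type u) [CommRing R] [IsLocalRing R] : ↥(Spec (CommRingCat.of R)) :=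
  IsLocalRing.closedPoint R

theorem eq_closedPoint_or_genPt (R : Type u) [CommRing R] [IsDomain R]
    [IsDiscreteValuationRing R] (z : ↥(Spec (CommRingCat.of R))) :
    z = clPt R ∨ z = genPt R := by
  by_cases hz : (z : PrimeSpectrum R).asIdeal = ⊥
  · right
    exact PrimeSpectrum.ext hz
  · left
    have hmax : (z : PrimeSpectrum R).asIdeal.IsMaximal :=
      (z : PrimeSpectrum R).isPrime.isMaximal hz
    exact PrimeSpectrum.ext (IsLocalRing.eq_maximalIdeal hmax)

theorem isOpen_singleton_genPt (R : Type u) [CommRing R] [IsDomain R]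
    [IsDiscreteValuationRing R] : IsOpen ({genPt R} : Set ↥(Spec (CommRingCat.of R))) := by
  have hcl : IsClosed ({IsLocalRing.closedPoint R} : Set ↥(Spec (CommRingCat.of R))) :=
    IsLocalRing.isClosed_singleton_closedPoint R
  have hne : genPt R ≠ IsLocalRing.closedPoint R := by
    intro h
    have h1 : (⊥ : Ideal R) = IsLocalRing.maximalIdeal R := congrArg PrimeSpectrum.asIdeal h
    exact IsDiscreteValuationRing.not_a_field R h1.symm
  have : ({genPt R} : Set ↥(Spec (CommRingCat.of R))) = {IsLocalRing.closedPoint R}ᶜ := by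
    ext z
    simp only [Set.mem_singleton_iff, Set.mem_compl_iff]
    rcases eq_closedPoint_or_genPt R z with h | h
    · subst h; exact ⟨fun h => absurd h.symm hne, fun h => absurd rfl h⟩
    · subst h; exact ⟨fun _ => hne, fun _ => rfl⟩
  rw [this]
  exact hcl.isOpen_compl

theorem specializes_clPt (R : Type u) [CommRing R] [IsLocalRing R]
    (z : ↥(Spec (CommRingCat.of R))) : z ⤳ clPt R :=
  IsLocalRing.specializes_closedPoint (R := R) z

theorem isClosed_singleton_clPt (R : Type u) [CommRing R] [IsLocalRing R] :
    IsClosed ({clPt R} : Set ↥(Spec (CommRingCat.of R))) :=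
  IsLocalRing.isClosed_singleton_closedPoint R

/-- L1: over a discrete valuation ring, a proper morphism which is universally open at the points
of a connected and reduced closed fibre has a connected generic fibre -/
theorem connectedSpace_generic_fibre (R : Type u) [CommRing R] [IsDomain R]
    [IsDiscreteValuationRing R] {C : Scheme.{u}} (h : C ⟶ Spec (CommRingCat.of R)) [IsProper h]
    (hU : ∀ x : C, h x = clPt R → EGA43.IsUnivOpenAt h x)
    (hconn : ConnectedSpace ↥(h.fiber (clPt R)))
    (hred : IsReduced (h.fiber (clPt R))) :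
    ConnectedSpace ↥(h.fiber (genPt R)) := by
  -- the map is open
  have hopen : IsOpenMap h.base := by
    rw [isOpenMap_iff_nhds_le]
    intro x
    rcases eq_closedPoint_or_genPt R (h x) with hx | hx
    · have := Groth.Agent.Lib.Helper4.ChevCrit4.isOpenAt_of_isUnivOpenAt h x (hU x hx)
      intro N hN
      have hM : h.base ⁻¹' N ∈ nhds x := Filter.mem_map.mp hN
      have h2 := this _ hM
      exact Filter.mem_of_superset h2 (Set.image_preimage_subset _ _)
    · intro N hN
      have hM : h.base ⁻¹' N ∈ nhds x := Filter.mem_map.mp hN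
      have hmem : h x ∈ N := by
        have : x ∈ h.base ⁻¹' N := mem_of_mem_nhds hM
        exact this
      have ho : IsOpen ({genPt R} : Set ↥(Spec (CommRingCat.of R))) := isOpen_singleton_genPt R
      rw [hx] at hmem ⊢
      exact Filter.mem_of_superset (ho.mem_nhds rfl) (Set.singleton_subset_iff.mpr hmem)
  -- a closed subset of `Spec R` missing the closed point is empty
  have hclosed : ∀ T : Set ↥(Spec (CommRingCat.of R)), IsClosed T →
      clPt R ∉ T → T = ∅ := by
    intro T hT hs
    by_contra hne
    obtain ⟨z, hz⟩ := Set.nonempty_iff_ne_empty.mpr hne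
    exact hs ((specializes_clPt R z).mem_closed hT hz)
  -- the total space is connected
  obtain ⟨w₀⟩ := hconn.toNonempty
  haveI : Nonempty C := ⟨h.fiberι _ w₀⟩
  have hfib : ∀ w : ↥(h.fiber (clPt R)), h (h.fiberι _ w) = clPt R := by
    intro w
    have : h.fiberι _ w ∈ h ⁻¹' {clPt R} := by
      rw [← h.range_fiberι]; exact Set.mem_range_self w
    exact this
  haveI : PreconnectedSpace C := by
    rw [preconnectedSpace_iff_clopen]
    -- a clopen subset missing the closed fibre is empty
    have key : ∀ U : Set C, IsClopen U →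
        (h.fiberι (clPt R)).base ⁻¹' U = ∅ → U = ∅ := by
      intro U hUc hUe
      have h1 : IsClosed (h.base '' U) := h.isClosedMap _ hUc.1
      have h2 : clPt R ∉ h.base '' U := by
        rintro ⟨x, hxU, hx⟩
        have hx' : x ∈ Set.range (h.fiberι (clPt R)) := by
          rw [h.range_fiberι]; exact hx
        obtain ⟨w, rfl⟩ := hx'
        have : w ∈ (h.fiberι (clPt R)).base ⁻¹' U := hxU
        rw [hUe] at this
        exact this
      have h3 := hclosed _ h1 h2
      exact Set.image_eq_empty.mp h3
    intro U hU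
    have hW : IsClopen ((h.fiberι (clPt R)).base ⁻¹' U) :=
      hU.preimage (h.fiberι _).continuous
    rcases isClopen_iff.mp hW with hW' | hW'
    · left; exact key U hU hW'
    · right
      have h4 : (h.fiberι (clPt R)).base ⁻¹' Uᶜ = ∅ := by
        rw [Set.preimage_compl, hW', Set.compl_univ]
      have := key Uᶜ hU.compl h4
      exact Set.compl_empty_iff.mp this
  have hpre := Groth.Agent.S3417.result R h hopen (clPt R) (genPt R)
    (isClosed_singleton_clPt R) (genPt_specializes R) hred
  -- nonemptiness
  have hne : Nonempty ↥(h.fiber (genPt R)) := by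
    have hop : IsOpen (Set.range h.base) := hopen.isOpen_range
    have hs : clPt R ∈ Set.range h.base := ⟨_, hfib w₀⟩
    have hg : genPt R ∈ Set.range h.base :=
      (genPt_specializes R _).mem_open hop hs
    obtain ⟨x, hx⟩ := hg
    have hx' : x ∈ Set.range (h.fiberι (genPt R)) := by
      rw [h.range_fiberι]; exact hx
    obtain ⟨w, -⟩ := hx'
    exact ⟨w⟩
  exact { toPreconnectedSpace := hpre, toNonempty := hne }

theorem isIso_of_isFractionRing (R : Type u) [CommRing R] [IsDomain R] (K' : Type u) [Field K']
    [Algebra R K'] [IsFractionRing R K']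
    (φ : (Spec (CommRingCat.of R)).residueField (genPt R) ⟶ CommRingCat.of K')
    (hφ : Spec.map (CommRingCat.ofHom (algebraMap R K')) =
      Spec.map φ ≫ (Spec (CommRingCat.of R)).fromSpecResidueField (genPt R)) : IsIso φ := by
  rw [← Scheme.Spec.map_residueFieldIso_inv_eq_fromSpecResidueField, ← Spec.map_comp, ← Spec.map_comp,
    Spec.map_inj] at hφ
  -- ψ : κ(⊥) → K'
  obtain ⟨ψ, hψ⟩ : ∃ ψ : CommRingCat.of (genPt R).asIdeal.ResidueField ⟶ CommRingCat.of K',
      ψ = (Scheme.Spec.residueFieldIso (CommRingCat.of R) (genPt R)).inv ≫ φ := ⟨_, rfl⟩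
  have hcomm : ∀ a : R, ψ.hom (algebraMap R (genPt R).asIdeal.ResidueField a) =
      algebraMap R K' a := by
    intro a
    have := congrArg (fun m => m.hom a) hφ
    simp only [CommRingCat.hom_comp, CommRingCat.hom_ofHom, RingHom.comp_apply] at this
    rw [hψ]
    exact this.symm
  have hsurj : Function.Surjective ψ.hom := by
    intro z
    obtain ⟨a, b, hb, rfl⟩ := IsFractionRing.div_surjective (A := R) z
    refine ⟨algebraMap R _ a / algebraMap R _ b, ?_⟩
    rw [map_div₀, hcomm, hcomm]
  have hbij : Function.Bijective ψ.hom := ⟨ψ.hom.injective, hsurj⟩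
  haveI : IsIso ψ := by
    rw [ConcreteCategory.isIso_iff_bijective]
    exact hbij
  have hφ' : φ = (Scheme.Spec.residueFieldIso (CommRingCat.of R) (genPt R)).hom ≫ ψ := by
    rw [hψ, Iso.hom_inv_id_assoc]
  rw [hφ']
  infer_instance

theorem exists_factor_of_apply' {Y : Scheme.{u}} (Ω : Type u) [Field Ω]
    (y : Spec (CommRingCat.of Ω) ⟶ Y) (y₀ : Y) (hy : y (IsLocalRing.closedPoint Ω) = y₀) :
    ∃ φ : Y.residueField y₀ ⟶ CommRingCat.of Ω, y = Spec.map φ ≫ Y.fromSpecResidueField y₀ := by
  obtain ⟨⟨y₁, φ⟩, rfl⟩ := (Scheme.SpecToEquivOfField Ω Y).symm.surjective y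
  have h1 : y₁ = y₀ := by
    rw [← hy]
    simp only [Scheme.SpecToEquivOfField, Equiv.coe_fn_symm_mk]
    rw [Scheme.Hom.comp_apply, Scheme.fromSpecResidueField_apply]
  subst h1
  exact ⟨φ, rfl⟩

theorem SpecMap_algebraMap_apply (R : Type u) [CommRing R] [IsDomain R] (K' : Type u) [Field K']
    [Algebra R K'] (hinj : Function.Injective (algebraMap R K'))
    (p : ↥(Spec (CommRingCat.of K'))) :
    Spec.map (CommRingCat.ofHom (algebraMap R K')) p = genPt R := by
  apply PrimeSpectrum.ext
  show Ideal.comap (algebraMap R K') (p : PrimeSpectrum K').asIdeal = ⊥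
  have hp : (p : PrimeSpectrum K').asIdeal = ⊥ := by
    rcases Ideal.eq_bot_or_top (p : PrimeSpectrum K').asIdeal with h | h
    · exact h
    · exact absurd h (p : PrimeSpectrum K').isPrime.ne_top
  rw [hp, ← RingHom.ker_eq_comap_bot]
  exact (RingHom.injective_iff_ker_eq_bot _).mp hinj

/-- L2 -/
theorem connectedSpace_pullback_generic (R : Type u) [CommRing R] [IsDomain R] (K' : Type u)
    [Field K'] [Algebra R K'] [IsFractionRing R K'] {C' : Scheme.{u}}
    (h' : C' ⟶ Spec (CommRingCat.of R)) (hc : ConnectedSpace ↥(h'.fiber (genPt R))) :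
    ConnectedSpace ↥(pullback h' (Spec.map (CommRingCat.ofHom (algebraMap R K')))) := by
  obtain ⟨φ, hφ⟩ := exists_factor_of_apply' K' (Spec.map (CommRingCat.ofHom (algebraMap R K')))
    (genPt R) (SpecMap_algebraMap_apply R K' (IsFractionRing.injective R K') _)
  haveI : IsIso φ := isIso_of_isFractionRing R K' φ hφ
  rw [hφ]
  let e := pullbackLeftPullbackSndIso h' ((Spec (CommRingCat.of R)).fromSpecResidueField (genPt R))
    (Spec.map φ)
  haveI : IsIso (pullback.fst (h'.fiberToSpecResidueField (genPt R)) (Spec.map φ)) :=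
    inferInstance
  let e2 := asIso (pullback.fst (h'.fiberToSpecResidueField (genPt R)) (Spec.map φ))
  let e3 := e.symm ≪≫ e2
  have hsurj : Function.Surjective e3.inv := by
    intro z
    refine ⟨e3.hom z, ?_⟩
    rw [← Scheme.Hom.comp_apply, e3.hom_inv_id]; rfl
  exact hsurj.connectedSpace e3.inv.continuous

end Groth.Agent.Lib.Helper4.GeomCnt2
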