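import Mathlib
import Groth.Agent.Lib.Helper7.GeomConn.CompCount
import Groth.Prelude.Def_MoreMor

/-!
# Geometric properties at a point of the base and counting geometric connected components (helper4)
-/

set_option backward.isDefEq.respectTransparency.types false
set_option synthInstance.maxHeartbeats 400000
set_option autoImplicit false
set_option linter.unusedSectionVars false
set_option linter.style.haveILetI false
set_option linter.unusedSimpArgs false
universe u v w
open CategoryTheory CategoryTheory.Limits AlgebraicGeometry TopologicalSpace Topology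

namespace Groth.Agent.Lib.Helper4.GeomCnt1

open Groth.Agent.Helper7.GeomConn

/-- every base change of `h` to a field-valued point located at `y₀` satisfies `P` -/
def GeomAt (P : Scheme.{u} → Prop) {X Y : Scheme.{u}} (h : X ⟶ Y) (y₀ : Y) : Prop :=
  ∀ (Ω : Type u) [Field Ω] (y : Spec (CommRingCat.of Ω) ⟶ Y),
    y (IsLocalRing.closedPoint Ω) = y₀ → P (pullback h y)

theorem range_pullback_snd_ι {X G : Scheme.{u}} (C : X.Opens) (q : G ⟶ X) :
    Set.range (pullback.snd C.ι q) = q ⁻¹' (C : Set X) := by
  rw [Scheme.Pullback.range_snd, Scheme.Opens.range_ι]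

theorem bijective_connectedComponentsMap_fst {X Y T : Scheme.{u}} (f : X ⟶ Y) (t : T ⟶ Y)
    (C : X → X.Opens) (hC : ∀ x : X, (C x : Set X) = connectedComponent x)
    (hconn : ∀ x : X, ConnectedSpace ↥(pullback ((C x).ι ≫ f) t)) :
    Function.Bijective (pullback.fst f t).continuous.connectedComponentsMap := by
  -- the comparison with the preimage of a component
  have key : ∀ x : X, _root_.IsConnected ((pullback.fst f t) ⁻¹' (connectedComponent x)) := by
    intro x
    have hCx : ((C x) : Set X) = connectedComponent x := hC x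
    haveI : ConnectedSpace ↥(pullback ((C x).ι ≫ f) t) := hconn x
    let e := pullbackRightPullbackFstIso f t (C x).ι
    have hr : Set.range (e.inv ≫ pullback.snd (C x).ι (pullback.fst f t)) =
        (pullback.fst f t) ⁻¹' (connectedComponent x) := by
      rw [← hCx, ← range_pullback_snd_ι (C x) (pullback.fst f t), Scheme.Hom.comp_base,
        TopCat.coe_comp, Set.range_comp]
      have hsurj : Function.Surjective e.inv := by
        intro z
        refine ⟨e.hom z, ?_⟩
        rw [← Scheme.Hom.comp_apply, e.hom_inv_id]; rfl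
      rw [Set.range_eq_univ.mpr hsurj, Set.image_univ]
    rw [← hr]
    exact isConnected_range (e.inv ≫ pullback.snd (C x).ι (pullback.fst f t)).continuous
  constructor
  · intro a b hab
    obtain ⟨g₁, rfl⟩ := ConnectedComponents.surjective_coe a
    obtain ⟨g₂, rfl⟩ := ConnectedComponents.surjective_coe b
    rw [Continuous.connectedComponentsMap_mk, Continuous.connectedComponentsMap_mk,
      ConnectedComponents.coe_eq_coe'] at hab
    rw [ConnectedComponents.coe_eq_coe']
    have h1 : g₁ ∈ (pullback.fst f t) ⁻¹' (connectedComponent (pullback.fst f t g₂)) := hab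
    have h2 : g₂ ∈ (pullback.fst f t) ⁻¹' (connectedComponent (pullback.fst f t g₂)) :=
      mem_connectedComponent
    exact (key (pullback.fst f t g₂)).isPreconnected.subset_connectedComponent h2 h1
  · intro c
    obtain ⟨x, rfl⟩ := ConnectedComponents.surjective_coe c
    obtain ⟨g, hg⟩ := (key x).nonempty
    refine ⟨(g : _root_.ConnectedComponents _), ?_⟩
    rw [Continuous.connectedComponentsMap_mk, ConnectedComponents.coe_eq_coe']
    exact hg

theorem card_connectedComponents_congr {W W' : Scheme.{u}} (e : W ≅ W') :
    ENat.card (_root_.ConnectedComponents ↥W) = ENat.card (_root_.ConnectedComponents ↥W') := by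
  refine ENat.card_congr ⟨e.hom.continuous.connectedComponentsMap,
    e.inv.continuous.connectedComponentsMap, ?_, ?_⟩
  · intro c
    obtain ⟨x, rfl⟩ := ConnectedComponents.surjective_coe c
    rw [Continuous.connectedComponentsMap_mk, Continuous.connectedComponentsMap_mk]
    congr 1
    rw [← Scheme.Hom.comp_apply, e.hom_inv_id]; rfl
  · intro c
    obtain ⟨x, rfl⟩ := ConnectedComponents.surjective_coe c
    rw [Continuous.connectedComponentsMap_mk, Continuous.connectedComponentsMap_mk]
    congr 1
    rw [← Scheme.Hom.comp_apply, e.inv_hom_id]; rfl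

/-- the geometric point of `Y` above `y` valued in the separable closure of the residue field -/
noncomputable def geomPt (Y : Scheme.{u}) (y : Y) :
    Spec (CommRingCat.of (SeparableClosure (Y.residueField y))) ⟶ Y :=
  Spec.map (CommRingCat.ofHom
    (algebraMap (Y.residueField y) (SeparableClosure (Y.residueField y)))) ≫
      Y.fromSpecResidueField y

theorem geomPt_apply (Y : Scheme.{u}) (y : Y)
    (p : ↥(Spec (CommRingCat.of (SeparableClosure (Y.residueField y))))) : geomPt Y y p = y := by
  unfold geomPt
  rw [Scheme.Hom.comp_apply, Scheme.fromSpecResidueField_apply]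

theorem nGeomConnComp_eq_card {X Y : Scheme.{u}} (f : X ⟶ Y) (y : Y) :
    MoreMor.nGeomConnComp f y =
      ENat.card (_root_.ConnectedComponents ↥(pullback f (geomPt Y y))) := by
  unfold MoreMor.nGeomConnComp MoreMor.geomFiber geomPt
  exact card_connectedComponents_congr (pullbackLeftPullbackSndIso f (Y.fromSpecResidueField y)
    (Spec.map (CommRingCat.ofHom
      (algebraMap (Y.residueField y) (SeparableClosure (Y.residueField y))))))

/-- if every component of `X` has connected geometric fibre at `y`, the geometric number of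
connected components of the fibre at `y` is the number of connected components of `X` -/
theorem nGeomConnComp_eq_card_of_geomAt {X Y : Scheme.{u}} (f : X ⟶ Y) (y : Y)
    (C : X → X.Opens) (hC : ∀ x : X, (C x : Set X) = connectedComponent x)
    (hconn : ∀ x : X, GeomAt (fun Z => ConnectedSpace ↥Z) ((C x).ι ≫ f) y) :
    MoreMor.nGeomConnComp f y = ENat.card (_root_.ConnectedComponents ↥X) := by
  rw [nGeomConnComp_eq_card]
  exact ENat.card_congr (Equiv.ofBijective _
    (bijective_connectedComponentsMap_fst f (geomPt Y y) C hC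
      (fun x => hconn x _ (geomPt Y y) (geomPt_apply Y y _))))

theorem exists_factor_of_apply {Y : Scheme.{u}} (Ω : Type u) [Field Ω]
    (y : Spec (CommRingCat.of Ω) ⟶ Y) (y₀ : Y) (hy : y (IsLocalRing.closedPoint Ω) = y₀) :
    ∃ φ : Y.residueField y₀ ⟶ CommRingCat.of Ω, y = Spec.map φ ≫ Y.fromSpecResidueField y₀ := by
  obtain ⟨⟨y₁, φ⟩, rfl⟩ := (Scheme.SpecToEquivOfField Ω Y).symm.surjective y
  have h1 : y₁ = y₀ := by
    rw [← hy]
    simp only [Scheme.SpecToEquivOfField, Equiv.coe_fn_symm_mk]
    rw [Scheme.Hom.comp_apply, Scheme.fromSpecResidueField_apply]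
  subst h1
  exact ⟨φ, rfl⟩

theorem GeomAt.of_geometrically (P : ObjectProperty Scheme.{u}) [P.IsClosedUnderIsomorphisms]
    {X Y : Scheme.{u}} (h : X ⟶ Y) (y₀ : Y)
    (H : geometrically P (h.fiberToSpecResidueField y₀)) : GeomAt P h y₀ := by
  intro Ω _ y hy
  obtain ⟨φ, rfl⟩ := exists_factor_of_apply Ω y y₀ hy
  have e := pullbackLeftPullbackSndIso h (Y.fromSpecResidueField y₀) (Spec.map φ)
  have h1 : P (pullback (h.fiberToSpecResidueField y₀) (Spec.map φ)) :=
    pullback_of_geometrically H Ω (Spec.map φ)
  exact P.prop_of_iso e h1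

theorem GeomAt.baseChange (P : ObjectProperty Scheme.{u}) [P.IsClosedUnderIsomorphisms]
    {X Y X' Y' : Scheme.{u}} {h : X ⟶ Y} {h' : X' ⟶ Y'} {g' : X' ⟶ X} {g : Y' ⟶ Y}
    (hc : IsPullback g' h' h g) (y' : Y') (H : GeomAt P h (g y')) : GeomAt P h' y' := by
  intro Ω _ y hy
  have hp : IsPullback (pullback.fst h' y ≫ g') (pullback.snd h' y) h (y ≫ g) :=
    (IsPullback.of_hasPullback h' y).paste_horiz hc
  have h1 : P (pullback h (y ≫ g)) := H Ω (y ≫ g) (by rw [Scheme.Hom.comp_apply, hy])
  exact P.prop_of_iso hp.isoPullback.symm h1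

end Groth.Agent.Lib.Helper4.GeomCnt1
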