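import Mathlib
import Groth.Agent.Lib.Helper4.GeomCnt1

/-!
# Counting points of quasi-finite fibres (helper4)
-/

set_option backward.isDefEq.respectTransparency.types false
set_option synthInstance.maxHeartbeats 400000
set_option autoImplicit false
set_option linter.unusedSectionVars false
set_option linter.style.haveILetI false
set_option linter.unusedSimpArgs false
universe u v w
open CategoryTheory CategoryTheory.Limits AlgebraicGeometry TopologicalSpace Topology

namespace Groth.Agent.Lib.Helper4.QFCount1
open Groth.Agent.Helper7.GeomConn Groth.Agent.Lib.Helper4.GeomCnt1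

/-- components of a totally disconnected space are its points -/
theorem card_connectedComponents_eq_card (α : Type*) [TopologicalSpace α]
    [TotallyDisconnectedSpace α] : ENat.card (_root_.ConnectedComponents α) = ENat.card α := by
  refine (ENat.card_congr (Equiv.ofBijective (ConnectedComponents.mk : α → _)
    ⟨?_, ConnectedComponents.surjective_coe⟩)).symm
  intro a b hab
  rw [ConnectedComponents.coe_eq_coe, connectedComponent_eq_singleton,
    connectedComponent_eq_singleton] at hab
  exact Set.singleton_injective hab

theorem card_le_card_of_surjective {α β : Type*} (s : α → β) (hs : Function.Surjective s) :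
    ENat.card β ≤ ENat.card α :=
  ENat.card_le_card_of_injective (Function.injective_surjInv hs)

/-- a scheme locally quasi-finite over a field is locally Artinian -/
theorem isLocallyArtinian_of_field {W : Scheme.{u}} {K : Type u} [Field K]
    (a : W ⟶ Spec (CommRingCat.of K)) [LocallyQuasiFinite a] : IsLocallyArtinian W := by
  haveI : IsLocallyArtinian (Spec (CommRingCat.of K)) :=
    Scheme.isLocallyArtinianScheme_Spec.mpr inferInstance
  exact IsLocallyArtinian.of_locallyQuasiFinite a

variable {X Y : Scheme.{u}} (f : X ⟶ Y) [LocallyQuasiFinite f]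

theorem isLocallyArtinian_pullback {K : Type u} [Field K] (g : Spec (CommRingCat.of K) ⟶ Y) :
    IsLocallyArtinian (pullback f g) :=
  isLocallyArtinian_of_field (pullback.snd f g)

theorem isLocallyArtinian_geomFiber (y : Y) : IsLocallyArtinian (MoreMor.geomFiber f y) := by
  unfold MoreMor.geomFiber
  haveI : LocallyQuasiFinite (f.fiberToSpecResidueField y) :=
    inferInstanceAs (LocallyQuasiFinite (pullback.snd f (Y.fromSpecResidueField y)))
  exact isLocallyArtinian_of_field (K := SeparableClosure (Y.residueField y)) (pullback.snd _ _)

theorem nGeomConnComp_eq_card_geomFiber (y : Y) :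
    MoreMor.nGeomConnComp f y = ENat.card ↥(MoreMor.geomFiber f y) := by
  haveI := isLocallyArtinian_geomFiber f y
  unfold MoreMor.nGeomConnComp
  exact card_connectedComponents_eq_card _

theorem card_pullback_le {M : Type u} [Field M] (g : Spec (CommRingCat.of M) ⟶ Y)
    (p : ↥(Spec (CommRingCat.of M))) :
    ENat.card ↥(pullback f g) ≤ MoreMor.nGeomConnComp f (g p) := by
  have h1 : MoreMor.nGeomConnComp (pullback.snd f g) p = MoreMor.nGeomConnComp f (g p) :=
    nGeomConnComp_baseChange f (pullback.snd f g) (pullback.fst f g) g
      (IsPullback.of_hasPullback f g) p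
  rw [← h1, nGeomConnComp_eq_card_geomFiber (pullback.snd f g) p]
  unfold MoreMor.geomFiber
  haveI : Surjective (Spec.map (CommRingCat.ofHom (algebraMap
      ((Spec (CommRingCat.of M)).residueField p)
      (SeparableClosure ((Spec (CommRingCat.of M)).residueField p))))) :=
    surjective_to_spec_field _
  refine card_le_card_of_surjective
    (pullback.fst ((pullback.snd f g).fiberToSpecResidueField p) _ ≫ (pullback.snd f g).fiberι p) ?_
  intro w
  have hsub : Subsingleton ↥(Spec (CommRingCat.of M)) :=
    inferInstanceAs (Subsingleton (PrimeSpectrum M))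
  have hw : w ∈ Set.range ((pullback.snd f g).fiberι p) := by
    rw [Scheme.Hom.range_fiberι]
    exact Subsingleton.elim _ _
  obtain ⟨v, rfl⟩ := hw
  obtain ⟨t, rfl⟩ := (pullback.fst ((pullback.snd f g).fiberToSpecResidueField p)
    (Spec.map (CommRingCat.ofHom (algebraMap
      ((Spec (CommRingCat.of M)).residueField p)
      (SeparableClosure ((Spec (CommRingCat.of M)).residueField p)))))).surjective v
  exact ⟨t, by rw [Scheme.Hom.comp_apply]⟩

theorem nGeomConnComp_eq_card_fiber (y : Y) [IsSepClosed (Y.residueField y)] :
    MoreMor.nGeomConnComp f y = ENat.card ↥(f.fiber y) := by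
  rw [← card_connectedComponents_eq_card ↥(f.fiber y)]
  unfold MoreMor.nGeomConnComp MoreMor.geomFiber
  let ψ : CommRingCat.of (Y.residueField y) ⟶
      CommRingCat.of (SeparableClosure (Y.residueField y)) := CommRingCat.ofHom (algebraMap _ _)
  exact ENat.card_congr (Equiv.ofBijective _
    (connectedComponentsMap_bijective_of_isSepClosed ψ (f.fiberToSpecResidueField y)
      (pullback.snd _ _) (pullback.fst _ _) (IsPullback.of_hasPullback _ _)))

end Groth.Agent.Lib.Helper4.QFCount1
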