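import Mathlib
import Groth.Agent.S7591
import Groth.Agent.Lib.Helper4.QFCount1

/-!
# Finite extensions realizing the geometric points of a quasi-finite fibre (helper4)
-/

set_option backward.isDefEq.respectTransparency.types false
set_option synthInstance.maxHeartbeats 400000
set_option autoImplicit false
set_option linter.unusedSectionVars false
set_option linter.style.haveILetI false
set_option linter.unusedSimpArgs false
universe u v w
open CategoryTheory CategoryTheory.Limits AlgebraicGeometry TopologicalSpace Topology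

namespace Groth.Agent.Lib.Helper4.QFCount2
open TensorProduct
open Groth.Agent.S7591 Groth.Agent.S4619

section Affine
variable {k : Type u} [Field k] (A : Type u) [CommRing A] [Algebra k A]

theorem exists_finite_forall_mem_range (Ω : Type u) [Field Ω] [Algebra k Ω]
    [Algebra.IsAlgebraic k Ω] {ι : Type*} [Finite ι] (e : ι → A ⊗[k] Ω) :
    ∃ E : IntermediateField k Ω, FiniteDimensional k E ∧ ∀ i, e i ∈ (tmap A E).range := by
  classical
  cases nonempty_fintype ι
  have key : ∀ s : Finset ι, ∃ E : IntermediateField k Ω, FiniteDimensional k E ∧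
      ∀ i ∈ s, e i ∈ (tmap A E).range := by
    intro s
    induction s using Finset.induction_on with
    | empty => exact ⟨⊥, inferInstance, by simp⟩
    | insert a s ha ih =>
      obtain ⟨E₁, h1, hE₁⟩ := ih
      obtain ⟨E₂, h2, hE₂⟩ := exists_finite_mem_range A (e a)
      refine ⟨E₁ ⊔ E₂, IntermediateField.finiteDimensional_sup E₁ E₂, ?_⟩
      intro i hi
      rcases Finset.mem_insert.1 hi with rfl | hi
      · exact tmap_range_mono A le_sup_right hE₂
      · exact tmap_range_mono A le_sup_left (hE₁ i hi)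
  obtain ⟨E, hE, h⟩ := key Finset.univ
  exact ⟨E, hE, fun i => h i (Finset.mem_univ i)⟩

theorem exists_clopen_descent_finite_aux (Ω : Type u) [Field Ω] [Algebra k Ω]
    [Algebra.IsAlgebraic k Ω] {ι : Type*} [Finite ι]
    (U : ι → Set ↥(Groth.Agent.S2502.bc (Spec.map (CommRingCat.ofHom (algebraMap k A))) Ω))
    (hU : ∀ i, IsClopen (U i)) :
    ∃ E : IntermediateField k Ω, FiniteDimensional k E ∧ ∀ i,
      ∃ U' : Set ↥(Groth.Agent.S2502.bc (Spec.map (CommRingCat.ofHom (algebraMap k A))) E),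
        IsClopen U' ∧
        U i = ⇑(bcTrans (Spec.map (CommRingCat.ofHom (algebraMap k A))) E Ω) ⁻¹' U' := by
  have hU₁ : ∀ i, IsClopen (⇑(pullbackSpecIso k A Ω).inv ⁻¹' (U i)) := fun i =>
    (hU i).preimage (pullbackSpecIso k A Ω).inv.continuous
  choose e he hUe using fun i => PrimeSpectrum.isClopen_iff.mp (hU₁ i)
  obtain ⟨E, hE, hEe⟩ := exists_finite_forall_mem_range A Ω e
  refine ⟨E, hE, fun i => ?_⟩
  obtain ⟨e', he'e⟩ := hEe i
  have he' : IsIdempotentElem e' := by
    apply tmap_injective A E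
    rw [map_mul]
    erw [he'e]
    exact he i
  refine ⟨⇑(pullbackSpecIso k A E).hom ⁻¹' (show Set ↥(Spec (CommRingCat.of (A ⊗[k] ↥E))) from
      (↑(PrimeSpectrum.basicOpen e') : Set (PrimeSpectrum (A ⊗[k] ↥E)))),
    ?_, ?_⟩
  · exact (PrimeSpectrum.isClopen_iff.mpr ⟨e', he', rfl⟩).preimage
      (pullbackSpecIso k A E).hom.continuous
  · ext z
    have h1 : z ∈ U i ↔ (pullbackSpecIso k A Ω).hom z ∈ ⇑(pullbackSpecIso k A Ω).inv ⁻¹' (U i) := by
      rw [Set.mem_preimage, ← Scheme.Hom.comp_apply, Iso.hom_inv_id]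
      rfl
    rw [h1, hUe i, Set.mem_preimage, Set.mem_preimage, ← Scheme.Hom.comp_apply, bcTrans_affine,
      Scheme.Hom.comp_apply, Spec.map_apply]
    erw [← he'e]
    rfl

theorem exists_clopen_descent_finite {R : CommRingCat.{u}} (h0 : Spec R ⟶ Spec (CommRingCat.of k))
    (Ω : Type u) [Field Ω] [Algebra k Ω] [Algebra.IsAlgebraic k Ω] {ι : Type*} [Finite ι]
    (U : ι → Set ↥(Groth.Agent.S2502.bc h0 Ω)) (hU : ∀ i, IsClopen (U i)) :
    ∃ E : IntermediateField k Ω, FiniteDimensional k E ∧ ∀ i,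
      ∃ U' : Set ↥(Groth.Agent.S2502.bc h0 E), IsClopen U' ∧ U i = ⇑(bcTrans h0 E Ω) ⁻¹' U' := by
  obtain ⟨ψ, rfl⟩ : ∃ ψ : CommRingCat.of k ⟶ R, h0 = Spec.map ψ :=
    ⟨Spec.preimage h0, (Spec.map_preimage h0).symm⟩
  letI : Algebra k R := ψ.hom.toAlgebra
  exact exists_clopen_descent_finite_aux (k := k) R Ω U hU

theorem exists_finite_bijective_bcTrans {R : CommRingCat.{u}}
    (h0 : Spec R ⟶ Spec (CommRingCat.of k))
    (Ω : Type u) [Field Ω] [Algebra k Ω] [Algebra.IsAlgebraic k Ω]
    [Finite ↥(Groth.Agent.S2502.bc h0 Ω)] [DiscreteTopology ↥(Groth.Agent.S2502.bc h0 Ω)] :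
    ∃ E : IntermediateField k Ω, FiniteDimensional k E ∧ Function.Bijective ⇑(bcTrans h0 E Ω) := by
  obtain ⟨E, hE, hdesc⟩ := exists_clopen_descent_finite h0 Ω
    (fun p : ↥(Groth.Agent.S2502.bc h0 Ω) => ({p} : Set _)) (fun p => isClopen_discrete _)
  refine ⟨E, hE, ?_, surjective_bcTrans h0 E Ω⟩
  intro p q hpq
  obtain ⟨U', -, hU'⟩ := hdesc p
  have hp : p ∈ ⇑(bcTrans h0 E Ω) ⁻¹' U' := by rw [← hU']; rfl
  have hq : q ∈ ⇑(bcTrans h0 E Ω) ⁻¹' U' := by
    rw [Set.mem_preimage] at hp ⊢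
    rw [← hpq]; exact hp
  rw [← hU'] at hq
  exact hq.symm

end Affine

theorem card_congr_of_iso {W W' : Scheme.{u}} (e : W ≅ W') : ENat.card ↥W = ENat.card ↥W' :=
  ENat.card_congr (Scheme.homeoOfIso e).toEquiv

section General
variable {k : Type u} [Field k]
open Groth.Agent.Lib.Helper4.QFCount1

theorem isIso_bcMap {X W : Scheme.{u}} (g : W ⟶ X) [IsIso g] (f : X ⟶ Spec (CommRingCat.of k))
    (K : Type u) [Field K] [Algebra k K] : IsIso (bcMap g f K) :=
  (isPullback_bcMap g f K).isIso_fst_of_isIso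

theorem exists_finite_card_eq {X : Scheme.{u}} [IsAffine X] (f : X ⟶ Spec (CommRingCat.of k))
    [LocallyQuasiFinite f] (Ω : Type u) [Field Ω] [Algebra k Ω] [Algebra.IsAlgebraic k Ω] :
    ∃ E : IntermediateField k Ω, FiniteDimensional k E ∧
      ENat.card ↥(Groth.Agent.S2502.bc f E) = ENat.card ↥(Groth.Agent.S2502.bc f Ω) := by
  let e := X.isoSpec
  let h0 : Spec Γ(X, ⊤) ⟶ Spec (CommRingCat.of k) := e.inv ≫ f
  haveI : LocallyQuasiFinite h0 := inferInstanceAs (LocallyQuasiFinite (e.inv ≫ f))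
  haveI : IsLocallyArtinian (Groth.Agent.S2502.bc h0 Ω) :=
    isLocallyArtinian_of_field (pullback.snd h0 _)
  haveI : IsArtinianScheme (Groth.Agent.S2502.bc h0 Ω) := {}
  obtain ⟨E, hE, hbij⟩ := exists_finite_bijective_bcTrans h0 Ω
  refine ⟨E, hE, ?_⟩
  haveI := isIso_bcMap e.inv f E
  haveI := isIso_bcMap e.inv f Ω
  rw [← card_congr_of_iso (asIso (bcMap e.inv f E)), ← card_congr_of_iso (asIso (bcMap e.inv f Ω))]
  exact (ENat.card_congr (Equiv.ofBijective _ hbij)).symm

theorem exists_finite_realizing {X Y : Scheme.{u}} (f : X ⟶ Y) [LocallyQuasiFinite f]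
    [QuasiCompact f] (y : Y) :
    ∃ E : IntermediateField (Y.residueField y) (SeparableClosure (Y.residueField y)),
      FiniteDimensional (Y.residueField y) E ∧
      ENat.card ↥(pullback f (Spec.map (CommRingCat.ofHom (algebraMap (Y.residueField y) E)) ≫
        Y.fromSpecResidueField y)) = MoreMor.nGeomConnComp f y := by
  haveI : LocallyQuasiFinite (f.fiberToSpecResidueField y) :=
    inferInstanceAs (LocallyQuasiFinite (pullback.snd f (Y.fromSpecResidueField y)))
  haveI : IsAffine (f.fiber y) := isAffine_of_isAffineHom (f.fiberToSpecResidueField y)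
  obtain ⟨E, hE, hcard⟩ := exists_finite_card_eq (k := Y.residueField y)
    (f.fiberToSpecResidueField y) (SeparableClosure (Y.residueField y))
  refine ⟨E, hE, ?_⟩
  rw [nGeomConnComp_eq_card_geomFiber f y]
  unfold MoreMor.geomFiber
  have h1 := card_congr_of_iso (pullbackLeftPullbackSndIso f (Y.fromSpecResidueField y)
    (Spec.map (CommRingCat.ofHom (algebraMap (Y.residueField y) E))))
  exact h1.symm.trans hcard

end General

end Groth.Agent.Lib.Helper4.QFCount2
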