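import Mathlib
import Groth.Agent.Lib.Helper4.DomDVR3

/-!
# A discrete valuation ring with prescribed fraction field through a specialization (helper4)
-/

set_option backward.isDefEq.respectTransparency.types false
set_option synthInstance.maxHeartbeats 400000
set_option autoImplicit false
set_option linter.unusedSectionVars false
set_option linter.style.haveILetI false
set_option linter.unusedSimpArgs false
universe u v w
open CategoryTheory CategoryTheory.Limits AlgebraicGeometry TopologicalSpace Topology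

namespace Groth.Agent.Lib.Helper4.QFCount3
open Groth.Agent.Lib.Helper4.DomDVR IsLocalRing

/-- a discrete valuation ring with prescribed (finitely generated) fraction field through a
specialization in a locally Noetherian scheme -/
theorem exists_dvr_of_field {Y : Scheme.{u}} [IsLocallyNoetherian Y] (y₁ y : Y) (hsp : y₁ ⤳ y)
    (hne : y ≠ y₁) (E : Type u) [Field E] (φ₀ : Y.residueField y₁ ⟶ CommRingCat.of E)
    (S : Finset E) (hS : Subfield.closure (Set.range φ₀.hom ∪ (S : Set E)) = ⊤) :
    ∃ (A : ValuationSubring E) (h : Spec (CommRingCat.of A) ⟶ Y), IsDiscreteValuationRing A ∧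
      h.base (IsLocalRing.closedPoint A) = y ∧
      Spec.map (CommRingCat.ofHom A.subtype) ≫ h = Spec.map φ₀ ≫ Y.fromSpecResidueField y₁ := by
  classical
  let ρ : Y.presheaf.stalk y₁ ⟶ CommRingCat.of E := Y.residue y₁ ≫ φ₀
  let φc : Y.presheaf.stalk y ⟶ CommRingCat.of E := Y.presheaf.stalkSpecializes hsp ≫ ρ
  set φ : Y.presheaf.stalk y →+* E := φc.hom with hφ
  -- range ρ is in the closure of range φ
  have hρφ : ∀ a, ρ.hom a ∈ Subfield.closure (Set.range φ ∪ (S : Set E)) := by
    intro a
    obtain ⟨_, ⟨V, hV, rfl⟩, hyV, -⟩ :=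
      Y.isBasis_affineOpens.exists_subset_of_mem_open (Set.mem_univ y) isOpen_univ
    have hy₁V : y₁ ∈ V := hsp.mem_open V.2 hyV
    letI := Y.presheaf.algebra_section_stalk ⟨y₁, hy₁V⟩
    haveI hloc := hV.isLocalization_stalk ⟨y₁, hy₁V⟩
    obtain ⟨⟨c, s⟩, hcs⟩ := IsLocalization.surj (hV.primeIdealOf ⟨y₁, hy₁V⟩).asIdeal.primeCompl a
    have hunit : IsUnit (algebraMap Γ(Y, V) (Y.presheaf.stalk y₁) s) :=
      IsLocalization.map_units _ s
    have hgerm : ∀ t : Γ(Y, V), algebraMap Γ(Y, V) (Y.presheaf.stalk y₁) t =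
        (Y.presheaf.stalkSpecializes hsp).hom ((Y.presheaf.germ V y hyV).hom t) := by
      intro t
      have := TopCat.Presheaf.germ_stalkSpecializes Y.presheaf (U := V) hyV hsp
      rw [← CommRingCat.comp_apply, this]
      rfl
    have h1 := congrArg ρ.hom hcs
    rw [map_mul, hgerm, hgerm] at h1
    have hne0 : ρ.hom ((Y.presheaf.stalkSpecializes hsp).hom ((Y.presheaf.germ V y hyV).hom s)) ≠ 0 := by
      rw [← hgerm]
      exact (hunit.map ρ.hom).ne_zero
    have e : ρ.hom a = ρ.hom ((Y.presheaf.stalkSpecializes hsp).hom ((Y.presheaf.germ V y hyV).hom c)) /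
        ρ.hom ((Y.presheaf.stalkSpecializes hsp).hom ((Y.presheaf.germ V y hyV).hom s)) := by
      rw [eq_div_iff hne0]
      exact h1
    rw [e]
    exact div_mem (Subfield.subset_closure (Or.inl ⟨(Y.presheaf.germ V y hyV).hom c, rfl⟩))
      (Subfield.subset_closure (Or.inl ⟨(Y.presheaf.germ V y hyV).hom s, rfl⟩))
  have hclosure : Subfield.closure (Set.range φ ∪ (S : Set E)) = ⊤ := by
    rw [eq_top_iff, ← hS, Subfield.closure_le]
    rintro l (⟨a, rfl⟩ | hl)
    · obtain ⟨b, rfl⟩ := Y.residue_surjective y₁ a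
      exact hρφ b
    · exact Subfield.subset_closure (Or.inr hl)
  -- the quotient by the kernel
  set 𝔭 : Ideal (Y.presheaf.stalk y) := RingHom.ker φ with h𝔭
  haveI h𝔭p : 𝔭.IsPrime := RingHom.ker_isPrime φ
  set g : (Y.presheaf.stalk y) ⧸ 𝔭 →+* E := RingHom.kerLift φ with hg
  have hginj : Function.Injective g := RingHom.kerLift_injective φ
  have hgmk : ∀ b, g (Ideal.Quotient.mk 𝔭 b) = φ b := fun b => RingHom.kerLift_mk φ b
  have hrange : Set.range g = Set.range φ := by
    ext l
    constructor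
    · rintro ⟨b, rfl⟩
      obtain ⟨b, rfl⟩ := Ideal.Quotient.mk_surjective b
      exact ⟨b, (hgmk b).symm⟩
    · rintro ⟨b, rfl⟩
      exact ⟨Ideal.Quotient.mk 𝔭 b, hgmk b⟩
  haveI : IsLocalRing ((Y.presheaf.stalk y) ⧸ 𝔭) :=
    IsLocalRing.of_surjective' (Ideal.Quotient.mk 𝔭) Ideal.Quotient.mk_surjective
  -- not a field
  have hnf : ¬ IsField ((Y.presheaf.stalk y) ⧸ 𝔭) := by
    intro hf
    have hmax : 𝔭.IsMaximal := Ideal.Quotient.maximal_of_isField 𝔭 hf
    have h𝔭m : 𝔭 = maximalIdeal (Y.presheaf.stalk y) := IsLocalRing.eq_maximalIdeal hmax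
    apply hne
    have h1 : (Spec.map (Y.presheaf.stalkSpecializes hsp)).base (closedPoint (Y.presheaf.stalk y₁)) =
        closedPoint (Y.presheaf.stalk y) := by
      apply PrimeSpectrum.ext
      change Ideal.comap (Y.presheaf.stalkSpecializes hsp).hom (maximalIdeal (Y.presheaf.stalk y₁)) =
        maximalIdeal (Y.presheaf.stalk y)
      rw [← h𝔭m]
      ext b
      rw [Ideal.mem_comap, h𝔭, RingHom.mem_ker]
      constructor
      · intro hb
        have h2 : (Y.residue y₁).hom ((Y.presheaf.stalkSpecializes hsp).hom b) = 0 := by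
          exact (IsLocalRing.residue_eq_zero_iff _).2 hb
        have h3 : ρ.hom ((Y.presheaf.stalkSpecializes hsp).hom b) = 0 := by
          show φ₀.hom ((Y.residue y₁).hom ((Y.presheaf.stalkSpecializes hsp).hom b)) = 0
          rw [h2, map_zero]
        exact h3
      · intro hb
        by_contra hnot
        have hu : IsUnit ((Y.presheaf.stalkSpecializes hsp).hom b) := by
          by_contra hnu
          exact hnot hnu
        have : IsUnit (φ b) := hu.map ρ.hom
        rw [hb] at this
        exact not_isUnit_zero this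
    have h2 := Scheme.SpecMap_stalkSpecializes_fromSpecStalk (X := Y) hsp
    have h3 : (Y.fromSpecStalk y₁).base (closedPoint _) = y₁ := Scheme.fromSpecStalk_closedPoint
    rw [← h2, Scheme.Hom.comp_base, TopCat.comp_app, h1] at h3
    rw [← h3]
    exact Scheme.fromSpecStalk_closedPoint.symm
  obtain ⟨W, hW, hmem, hlt⟩ := exists_dvr_of_closure ((Y.presheaf.stalk y) ⧸ 𝔭) hnf E g hginj S
    (by rw [hrange]; exact hclosure)
  have hφW : ∀ b, φ b ∈ W.toSubring := by
    intro b
    rw [← hgmk]
    exact hmem _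
  set ψ : Y.presheaf.stalk y →+* W := φ.codRestrict W.toSubring hφW with hψ
  haveI hloc : IsLocalHom ψ := by
    constructor
    intro b hb
    by_contra hnu
    have hbm : b ∈ maximalIdeal (Y.presheaf.stalk y) := hnu
    have h1 : Ideal.Quotient.mk 𝔭 b ∈ maximalIdeal ((Y.presheaf.stalk y) ⧸ 𝔭) := by
      intro hu
      have hlh : IsLocalHom (Ideal.Quotient.mk 𝔭) :=
        IsLocalHom.of_surjective _ Ideal.Quotient.mk_surjective
      exact hnu (hlh.map_nonunit b hu)
    have h2 := hlt _ h1
    rw [hgmk] at h2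
    have h3 : ψ b ∈ maximalIdeal W := (W.valuation_lt_one_iff (ψ b)).2 h2
    exact h3 hb
  let ψc : Y.presheaf.stalk y ⟶ CommRingCat.of W := CommRingCat.ofHom ψ
  refine ⟨W, Spec.map ψc ≫ Y.fromSpecStalk y, hW, ?_, ?_⟩
  · rw [Scheme.Hom.comp_base, TopCat.comp_app]
    have : (Spec.map ψc).base (closedPoint W) = closedPoint (Y.presheaf.stalk y) :=
      comap_closedPoint (S := W) ψ
    rw [this, Scheme.fromSpecStalk_closedPoint]
  · rw [Scheme.fromSpecResidueField, ← Scheme.SpecMap_stalkSpecializes_fromSpecStalk hsp]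
    simp_rw [← Spec.map_comp_assoc]
    rfl

end Groth.Agent.Lib.Helper4.QFCount3
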