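import Mathlib
import Groth.Agent.Lib.Helper4.QFCount2
import Groth.Agent.Lib.Helper4.QFCount3
import Groth.Agent.Lib.Helper4.GeomCnt2
import Groth.Agent.Lib.Helper4.HensProper3

/-!
# A discrete valuation ring realizing the geometric numbers of points of a quasi-finite morphism (EGA IV 15.5.?) (helper4)
-/

set_option backward.isDefEq.respectTransparency.types false
set_option synthInstance.maxHeartbeats 400000
set_option autoImplicit false
set_option linter.unusedSectionVars false
set_option linter.style.haveILetI false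
set_option linter.unusedSimpArgs false
universe u v w
open CategoryTheory CategoryTheory.Limits AlgebraicGeometry TopologicalSpace Topology

namespace Groth.Agent.Lib.Helper4.QFCount4
open Groth.Agent.Helper7.GeomConn Groth.Agent.Lib.Helper4.GeomCnt1 Groth.Agent.Lib.Helper4.GeomCnt2
open Groth.Agent.Lib.Helper4.QFCount1 Groth.Agent.Lib.Helper4.QFCount2 Groth.Agent.Lib.Helper4.QFCount3

theorem genericPoint_eq_genPt (R : Type u) [CommRing R] [IsDomain R] :
    genericPoint ↥(Spec (CommRingCat.of R)) = genPt R := by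
  have h1 : IsGenericPoint (genPt R) (⊤ : Set ↥(Spec (CommRingCat.of R))) := by
    rw [isGenericPoint_def, Set.top_eq_univ, Set.eq_univ_iff_forall]
    intro z
    exact (genPt_specializes R z).mem_closure
  exact ((genericPoint_spec ↥(Spec (CommRingCat.of R))).eq h1)

theorem SpecMap_genPt (R S : Type u) [CommRing R] [IsDomain R] [CommRing S] [IsDomain S]
    (φ : R →+* S) (hinj : Function.Injective φ) :
    Spec.map (CommRingCat.ofHom φ) (genPt S) = genPt R := by
  apply PrimeSpectrum.ext
  show Ideal.comap φ ⊥ = ⊥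
  rw [eq_bot_iff]
  intro r hr
  rw [Ideal.mem_comap, Ideal.mem_bot] at hr
  rw [Ideal.mem_bot]
  exact hinj (by rw [hr, map_zero])

variable {X Y : Scheme.{u}} (f : X ⟶ Y) [LocallyQuasiFinite f]

/-- the number of points of the fibre over a field-valued point grows with the field -/
theorem card_pullback_le_card_pullback_comp {E M : Type u} [Field E] [Field M]
    (gE : Spec (CommRingCat.of E) ⟶ Y) (χ : CommRingCat.of E ⟶ CommRingCat.of M) :
    ENat.card ↥(pullback f gE) ≤ ENat.card ↥(pullback f (Spec.map χ ≫ gE)) := by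
  rw [← card_congr_of_iso (pullbackLeftPullbackSndIso f gE (Spec.map χ))]
  haveI : Surjective (Spec.map χ) := surjective_to_spec_field _
  exact card_le_card_of_surjective _ (pullback.fst (pullback.snd f gE) (Spec.map χ)).surjective

/-- a field-valued point of a valuation subring through the generic point factors through the
fraction field -/
theorem exists_factor_fractionField {E M : Type u} [Field E] [Field M] (A₁ : ValuationSubring E)
    (u : Spec (CommRingCat.of M) ⟶ Spec (CommRingCat.of A₁))
    (hu : u (IsLocalRing.closedPoint M) = genPt A₁) :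
    ∃ χ : CommRingCat.of E ⟶ CommRingCat.of M,
      u = Spec.map χ ≫ Spec.map (CommRingCat.ofHom A₁.subtype) := by
  obtain ⟨α, hα⟩ := exists_factor_of_apply' M u (genPt A₁) hu
  have hinj : Function.Injective (algebraMap A₁ E) := IsFractionRing.injective A₁ E
  obtain ⟨β, hβ⟩ := exists_factor_of_apply' E (Spec.map (CommRingCat.ofHom (algebraMap A₁ E)))
    (genPt A₁) (SpecMap_algebraMap_apply A₁ E hinj _)
  haveI : IsIso β := isIso_of_isFractionRing A₁ E β hβ
  refine ⟨inv β ≫ α, ?_⟩
  have h1 : Spec.map (CommRingCat.ofHom A₁.subtype) =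
      Spec.map β ≫ (Spec (CommRingCat.of A₁)).fromSpecResidueField (genPt A₁) := hβ
  rw [h1, hα, Spec.map_comp, Category.assoc, ← Category.assoc (Spec.map (inv β)), ← Spec.map_comp,
    IsIso.hom_inv_id, Spec.map_id, Category.id_comp]

theorem S4950_main [IsLocallyNoetherian Y] [QuasiCompact f] (y y' : Y) (hne : y' ≠ y)
    (hgen : y' ⤳ y) :
    ∃ (A : Type u) (_ : CommRing A) (_ : IsDomain A) (_ : IsDiscreteValuationRing A)
      (g : Spec (CommRingCat.of A) ⟶ Y),
      g.base (IsLocalRing.closedPoint A) = y ∧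
      g.base (genericPoint (Spec (CommRingCat.of A))) = y' ∧
      MoreMor.nGeomConnComp f y =
        ENat.card ↥((pullback.snd f g).fiber (IsLocalRing.closedPoint A)) ∧
      MoreMor.nGeomConnComp f y' =
        ENat.card ↥((pullback.snd f g).fiber (genericPoint (Spec (CommRingCat.of A)))) := by
  obtain ⟨E, hE, hcardE⟩ := exists_finite_realizing f y'
  let φ₀ : Y.residueField y' ⟶ CommRingCat.of E :=
    CommRingCat.ofHom (algebraMap (Y.residueField y') E)
  have hess : φ₀.hom.EssFiniteType := by
    have h1 : (algebraMap (Y.residueField y') E).Finite := RingHom.finite_algebraMap.2 hE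
    exact h1.finiteType.essFiniteType
  obtain ⟨S, hS⟩ :=
    Groth.Agent.Lib.Helper4.DomDVR.exists_finset_closure_of_essFiniteType φ₀.hom hess
  obtain ⟨A₁, h₁, hA₁, hcl₁, hfac₁⟩ := exists_dvr_of_field y' y hgen hne.symm E φ₀ S hS
  haveI := hA₁
  obtain ⟨A₂, _, _, _, _, _, hloc, hff, hsc⟩ :=
    Groth.Agent.Lib.Helper4.HensProper3.exists_strictHenselian_dvr_extension A₁
  haveI := hloc
  haveI := hff
  haveI := hsc
  have hinj : Function.Injective (algebraMap A₁ A₂) := FaithfulSMul.algebraMap_injective A₁ A₂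
  let j : Spec (CommRingCat.of A₂) ⟶ Spec (CommRingCat.of A₁) :=
    Spec.map (CommRingCat.ofHom (algebraMap A₁ A₂))
  have hjcl : j (IsLocalRing.closedPoint A₂) = IsLocalRing.closedPoint A₁ :=
    IsLocalRing.comap_closedPoint (algebraMap A₁ A₂)
  have hjgen : j (genPt A₂) = genPt A₁ := SpecMap_genPt A₁ A₂ _ hinj
  have hgen₁ : h₁ (genPt A₁) = y' := by
    have h2 : Spec.map (CommRingCat.ofHom A₁.subtype) (IsLocalRing.closedPoint E) = genPt A₁ :=
      SpecMap_algebraMap_apply A₁ E (IsFractionRing.injective A₁ E) _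
    rw [← h2, ← Scheme.Hom.comp_apply, hfac₁, Scheme.Hom.comp_apply,
      Scheme.fromSpecResidueField_apply]
  have hgcl : (j ≫ h₁) (IsLocalRing.closedPoint A₂) = y := by
    rw [Scheme.Hom.comp_apply, hjcl]; exact hcl₁
  refine ⟨A₂, inferInstance, inferInstance, inferInstance, j ≫ h₁, hgcl, ?_, ?_, ?_⟩
  · show (j ≫ h₁) (genericPoint ↥(Spec (CommRingCat.of A₂))) = y'
    rw [genericPoint_eq_genPt, Scheme.Hom.comp_apply, hjgen, hgen₁]
  · have h1 := nGeomConnComp_baseChange f (pullback.snd f (j ≫ h₁)) (pullback.fst f (j ≫ h₁))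
      (j ≫ h₁) (IsPullback.of_hasPullback f _) (IsLocalRing.closedPoint A₂)
    rw [hgcl] at h1
    rw [← h1]
    haveI := Groth.Agent.Lib.Helper4.HensProper3.isSepClosed_residueField_closedPoint A₂
    exact nGeomConnComp_eq_card_fiber (pullback.snd f (j ≫ h₁)) (IsLocalRing.closedPoint A₂)
  · rw [genericPoint_eq_genPt]
    obtain ⟨g, hg⟩ : ∃ g, g = j ≫ h₁ := ⟨_, rfl⟩
    rw [← hg]
    let M : Type u := ↑((Spec (CommRingCat.of A₂)).residueField (genPt A₂))
    let gM : Spec (CommRingCat.of M) ⟶ Y :=
      (Spec (CommRingCat.of A₂)).fromSpecResidueField (genPt A₂) ≫ g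
    have hcard1 : ENat.card ↥((pullback.snd f g).fiber (genPt A₂)) = ENat.card ↥(pullback f gM) :=
      card_congr_of_iso (pullbackLeftPullbackSndIso f g
        ((Spec (CommRingCat.of A₂)).fromSpecResidueField (genPt A₂)))
    rw [hcard1]
    apply le_antisymm
    · let u : Spec (CommRingCat.of M) ⟶ Spec (CommRingCat.of A₁) :=
        (Spec (CommRingCat.of A₂)).fromSpecResidueField (genPt A₂) ≫ j
      have hu : u (IsLocalRing.closedPoint M) = genPt A₁ := by
        rw [Scheme.Hom.comp_apply, Scheme.fromSpecResidueField_apply, hjgen]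
      obtain ⟨χ, hχ⟩ := exists_factor_fractionField A₁ u hu
      have hgM : gM = Spec.map χ ≫ (Spec.map φ₀ ≫ Y.fromSpecResidueField y') := by
        rw [← hfac₁, ← Category.assoc, ← hχ]
        show (Spec (CommRingCat.of A₂)).fromSpecResidueField (genPt A₂) ≫ g = _
        rw [hg, ← Category.assoc]
      rw [← hcardE, hgM]
      exact card_pullback_le_card_pullback_comp f _ χ
    · have h2 := card_pullback_le f gM (IsLocalRing.closedPoint M)
      have h3 : gM (IsLocalRing.closedPoint M) = y' := by
        rw [Scheme.Hom.comp_apply, Scheme.fromSpecResidueField_apply, hg, Scheme.Hom.comp_apply,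
          hjgen, hgen₁]
      rw [h3] at h2
      exact h2

end Groth.Agent.Lib.Helper4.QFCount4
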