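import Mathlib
import Groth.Agent.Lib.Helper4.DvrLift5
import Groth.Agent.Lib.Helper4.DvrLift6
import Groth.Agent.Lib.Helper4.QFCount4

/-!
# S4981 backward direction (helper4)
-/

set_option backward.isDefEq.respectTransparency.types false
set_option synthInstance.maxHeartbeats 400000
set_option autoImplicit false
set_option linter.unusedSectionVars false
set_option linter.style.haveILetI false
set_option linter.unusedSimpArgs false
universe u v w
open CategoryTheory CategoryTheory.Limits AlgebraicGeometry TopologicalSpace Topology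

namespace Groth.Agent.Lib.Helper4.DvrLift7
open IsLocalRing
open Groth.Agent.Lib.Helper4.DvrLift6 Groth.Agent.Lib.Helper4.UOp Groth.Agent.Lib.Helper4.GeomCnt2
open Groth.Agent.Lib.Helper4.QFCount4

theorem S4981_backward {X Y : Scheme.{u}} [IsLocallyNoetherian Y] (f : X ⟶ Y)
    [LocallyOfFiniteType f] (x : X)
    (H : ∀ (A : Type u) [CommRing A] [IsDomain A] [IsDiscreteValuationRing A]
        [IsAdicComplete (IsLocalRing.maximalIdeal A) A] [IsAlgClosed (IsLocalRing.ResidueField A)]
        (g : Spec (CommRingCat.of A) ⟶ Y), g.base (IsLocalRing.closedPoint A) = f.base x →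
        ∀ u₀ : Spec (CommRingCat.of (IsLocalRing.ResidueField A)) ⟶ X,
          u₀ ≫ f = Spec.map (CommRingCat.ofHom (IsLocalRing.residue A)) ≫ g →
          x ∈ Set.range u₀.base →
          ∃ (B : CommRingCat.{u}) (_ : IsDomain B) (_ : IsDiscreteValuationRing B) (φ : A →+* B)
            (_ : IsLocalHom φ) (v : Spec B ⟶ X),
            φ.Finite ∧ v ≫ f = Spec.map (CommRingCat.ofHom φ) ≫ g ∧
            Spec.map (CommRingCat.ofHom (IsLocalRing.ResidueField.map φ)) ≫ u₀ =
              Spec.map (CommRingCat.ofHom (IsLocalRing.residue B)) ≫ v) :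
    EGA43.IsUnivOpenAt f x := by
  apply isUnivOpenAt_of_dvr f x
  intro A₀ _ _ _ g₀ hg₀ x' hx'fst hx'snd
  -- the residue field of x' as an extension of the residue field of A₀
  let e₀c : CommRingCat.of A₀ ⟶ (pullback f g₀).residueField x' :=
    Spec.preimage ((pullback f g₀).fromSpecResidueField x' ≫ pullback.snd f g₀)
  have he₀c : Spec.map e₀c = (pullback f g₀).fromSpecResidueField x' ≫ pullback.snd f g₀ :=
    Spec.map_preimage _
  haveI hloce₀ : IsLocalHom e₀c.hom := by
    have h1 : (Spec.map e₀c) (closedPoint ((pullback f g₀).residueField x')) = closedPoint A₀ := by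
      rw [he₀c, Scheme.Hom.comp_apply, Scheme.fromSpecResidueField_apply]
      exact hx'snd
    have h2 : Ideal.comap e₀c.hom (maximalIdeal ((pullback f g₀).residueField x')) =
        maximalIdeal A₀ := congrArg PrimeSpectrum.asIdeal h1
    exact ((IsLocalRing.local_hom_TFAE e₀c.hom).out 4 0).mp h2
  let κ' : Type u := ↑((pullback f g₀).residueField x')
  let e₀ : A₀ →+* κ' := e₀c.hom
  let ebar : ResidueField A₀ →+* κ' := ResidueField.lift e₀
  letI : Algebra (ResidueField A₀) (AlgebraicClosure κ') :=
    ((algebraMap κ' (AlgebraicClosure κ')).comp ebar).toAlgebra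
  obtain ⟨A, _, _, _, _, _, ι, hlocι, ρ, hιinj, hρ⟩ :=
    exists_complete_dvr_extension A₀ (AlgebraicClosure κ')
  let ρ' : κ' →+* ResidueField A := ρ.comp (algebraMap κ' (AlgebraicClosure κ'))
  have hρ' : ∀ a : A₀, ρ' (e₀ a) = residue A (ι a) := by
    intro a
    rw [← hρ a]
    show ρ (algebraMap κ' (AlgebraicClosure κ') (e₀ a)) =
      ρ (algebraMap κ' (AlgebraicClosure κ') (ebar (residue A₀ a)))
    rw [ResidueField.lift_residue_apply]
  -- the data over A
  let g : Spec (CommRingCat.of A) ⟶ Y := Spec.map (CommRingCat.ofHom ι) ≫ g₀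
  obtain ⟨σ', hσ'⟩ : ∃ σ' : Spec (CommRingCat.of (ResidueField A)) ⟶ pullback f g₀,
      σ' = Spec.map (CommRingCat.ofHom ρ') ≫ (pullback f g₀).fromSpecResidueField x' := ⟨_, rfl⟩
  have hσsnd : σ' ≫ pullback.snd f g₀ =
      Spec.map (CommRingCat.ofHom (residue A)) ≫ Spec.map (CommRingCat.ofHom ι) := by
    rw [hσ', Category.assoc, ← he₀c, ← Spec.map_comp, ← Spec.map_comp]
    congr 1
    ext a
    exact hρ' a
  have hσpt : ∀ p, σ' p = x' := by
    intro p
    rw [hσ', Scheme.Hom.comp_apply, Scheme.fromSpecResidueField_apply]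
  have hg : g.base (closedPoint A) = f.base x := by
    show (Spec.map (CommRingCat.ofHom ι) ≫ g₀) (closedPoint A) = f x
    rw [Scheme.Hom.comp_apply]
    have : Spec.map (CommRingCat.ofHom ι) (closedPoint A) = closedPoint A₀ :=
      IsLocalRing.comap_closedPoint ι
    rw [this]
    exact hg₀
  have hu₀ : (σ' ≫ pullback.fst f g₀) ≫ f = Spec.map (CommRingCat.ofHom (residue A)) ≫ g := by
    rw [Category.assoc, pullback.condition, ← Category.assoc, hσsnd, Category.assoc]
  have hx : x ∈ Set.range (σ' ≫ pullback.fst f g₀).base := by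
    refine ⟨closedPoint (ResidueField A), ?_⟩
    show (σ' ≫ pullback.fst f g₀) (closedPoint (ResidueField A)) = x
    rw [Scheme.Hom.comp_apply, hσpt]
    exact hx'fst
  obtain ⟨B, hBd, hB, φ, hlocφ, v, hfin, hv, hcompat⟩ := H A g hg _ hu₀ hx
  haveI := hBd
  haveI := hB
  have hφι : Function.Injective (φ.comp ι) :=
    (injective_of_finite_of_dvr φ hfin).comp hιinj
  let w : Spec B ⟶ pullback f g₀ :=
    pullback.lift v (Spec.map (CommRingCat.ofHom (φ.comp ι))) (by
      rw [hv, CommRingCat.ofHom_comp, Spec.map_comp, Category.assoc])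
  have hwfst : w ≫ pullback.fst f g₀ = v := pullback.lift_fst _ _ _
  have hwsnd : w ≫ pullback.snd f g₀ = Spec.map (CommRingCat.ofHom (φ.comp ι)) :=
    pullback.lift_snd _ _ _
  -- the closed point of B maps to x'
  have hab : Spec.map (CommRingCat.ofHom (ResidueField.map φ)) ≫ σ' =
      Spec.map (CommRingCat.ofHom (residue B)) ≫ w := by
    apply pullback.hom_ext
    · rw [Category.assoc, Category.assoc, hwfst]
      exact hcompat
    · rw [Category.assoc, Category.assoc, hwsnd, hσsnd, ← Spec.map_comp, ← Spec.map_comp,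
        ← Spec.map_comp]
      congr 1
  have hp : w (closedPoint B) = x' := by
    have h1 : Spec.map (CommRingCat.ofHom (residue B)) (closedPoint (ResidueField B)) =
        closedPoint B := IsLocalRing.comap_closedPoint (residue B)
    rw [← h1, ← Scheme.Hom.comp_apply, ← hab, Scheme.Hom.comp_apply, hσpt]
  refine ⟨w (genPt B), ?_, ?_⟩
  · rw [← hp]
    exact (genPt_specializes B (closedPoint B)).map w.continuous
  · rw [← Scheme.Hom.comp_apply, hwsnd, SpecMap_genPt A₀ B _ hφι]
    exact dvr_bot_ne_closedPoint A₀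

end Groth.Agent.Lib.Helper4.DvrLift7
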