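import Mathlib

/-!
# Flat over DVR with normal generic fibre and reduced special fibre is normal (helper4)
-/

set_option backward.isDefEq.respectTransparency.types false
set_option synthInstance.maxHeartbeats 400000
set_option autoImplicit false
set_option linter.unusedSectionVars false
set_option linter.style.haveILetI false
set_option linter.unusedSimpArgs false
universe u v

namespace Groth.Agent.Lib.Helper4.DvrNormal
open TensorProduct Polynomial

/-- one step: `b` integral over `A`, `t * b = a` in `B ⊇ A`, `(t)` radical ⇒ `t ∣ a`. -/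
lemma step {A B : Type*} [CommRing A] [CommRing B] [Algebra A B]
    (hinj : Function.Injective (algebraMap A B)) (I : Ideal A) (hI : I.IsRadical)
    (t : A) (ht : t ∈ I) (b : B) (hb : IsIntegral A b) (a : A)
    (hab : algebraMap A B t * b = algebraMap A B a) : a ∈ I := by
  obtain ⟨p, hp, hpb⟩ := hb
  have hpb' : aeval b p = 0 := hpb
  have h1 : aeval (algebraMap A B t * b) (scaleRoots p t) = 0 := scaleRoots_aeval_eq_zero hpb'
  rw [hab, aeval_algebraMap_apply, map_eq_zero_iff _ hinj] at h1
  have h2 : (scaleRoots p t).IsWeaklyEisensteinAt I := scaleRoots.isWeaklyEisensteinAt p ht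
  have h3 : (scaleRoots p t).Monic := (monic_scaleRoots_iff t).mpr hp
  have h4 := h2.pow_natDegree_le_of_root_of_monic_mem (x := a) (by simpa [IsRoot] using h1) h3
    _ le_rfl
  exact hI ⟨_, h4⟩

theorem S11549_main (R : Type u) [CommRing R]
    [IsDomain R] [IsDiscreteValuationRing R] (A : Type u) [CommRing A] [Algebra R A] [Module.Flat R A]
    [IsDomain (FractionRing R ⊗[R] A)] [IsIntegrallyClosed (FractionRing R ⊗[R] A)]
    (hred : IsReduced (A ⧸ Ideal.map (algebraMap R A) (IsLocalRing.maximalIdeal R))) :
    IsDomain A ∧ IsIntegrallyClosed A := by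
  letI : Algebra A (FractionRing R ⊗[R] A) := Algebra.TensorProduct.rightAlgebra
  set B := FractionRing R ⊗[R] A with hB
  set M := Algebra.algebraMapSubmonoid A (nonZeroDivisors R) with hMdef
  have hloc : IsLocalization M B := IsLocalization.tensorRight (S := A) (FractionRing R) (nonZeroDivisors R)
  have hM : M ≤ nonZeroDivisors A := by
    rintro _ ⟨r, hr, rfl⟩
    have h1 : IsSMulRegular R r := by
      intro x y hxy
      exact mul_left_cancel₀ (nonZeroDivisors.ne_zero hr) hxy
    have h2 : IsSMulRegular A (algebraMap R A r) := IsSMulRegular.of_flat h1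
    rw [mem_nonZeroDivisors_iff_right]
    intro z hz
    apply h2
    simpa [mul_comm] using hz
  have hinj : Function.Injective (algebraMap A B) := IsLocalization.injective B hM
  have hdom : IsDomain A := Function.Injective.isDomain (algebraMap A B) hinj
  refine ⟨hdom, ?_⟩
  obtain ⟨ϖ, hϖ⟩ := IsDiscreteValuationRing.exists_irreducible R
  set I := Ideal.map (algebraMap R A) (IsLocalRing.maximalIdeal R) with hIdef
  have hIrad : I.IsRadical := (Ideal.isRadical_iff_quotient_reduced I).mpr hred
  set t : A := algebraMap R A ϖ with htdef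
  have hI : I = Ideal.span {t} := by
    rw [hIdef, hϖ.maximalIdeal_eq, Ideal.map_span, Set.image_singleton]
  have htI : t ∈ I := by rw [hI]; exact Ideal.mem_span_singleton_self t
  have htunit : IsUnit (algebraMap A B t) :=
    IsLocalization.map_units B (⟨t, ϖ, mem_nonZeroDivisors_of_ne_zero hϖ.ne_zero, rfl⟩ : M)
  -- every element of B is a / t^n
  have hfrac : ∀ b : B, ∃ (n : ℕ) (a : A), algebraMap A B t ^ n * b = algebraMap A B a := by
    intro b
    obtain ⟨⟨a, ⟨_, r, hr, rfl⟩⟩, hab⟩ := IsLocalization.surj M b
    obtain ⟨n, u, hu⟩ := IsDiscreteValuationRing.eq_unit_mul_pow_irreducible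
      (nonZeroDivisors.ne_zero hr) hϖ
    refine ⟨n, a * algebraMap R A (↑u⁻¹ : R), ?_⟩
    simp only at hab
    rw [map_mul, ← hab, hu, map_mul (algebraMap R A), map_pow, map_mul (algebraMap A B), map_pow]
    have : algebraMap A B (algebraMap R A (↑u : R)) * algebraMap A B (algebraMap R A (↑u⁻¹ : R)) = 1 := by
      rw [← map_mul, ← map_mul, Units.mul_inv, map_one, map_one]
    calc algebraMap A B t ^ n * b = algebraMap A B t ^ n * b * 1 := by ring
      _ = algebraMap A B t ^ n * b * (algebraMap A B (algebraMap R A (↑u : R)) * algebraMap A B (algebraMap R A (↑u⁻¹ : R))) := by rw [this]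
      _ = _ := by ring
  -- induction
  have hind : ∀ (n : ℕ) (b : B) (a : A), IsIntegral A b → algebraMap A B t ^ n * b = algebraMap A B a →
      ∃ a' : A, algebraMap A B a' = b := by
    intro n
    induction n with
    | zero => intro b a _ h; exact ⟨a, by simpa using h.symm⟩
    | succ n ih =>
      intro b a hb h
      have hb' : IsIntegral A (algebraMap A B t ^ n * b) :=
        (isIntegral_algebraMap.pow n).mul hb
      have h1 : algebraMap A B t * (algebraMap A B t ^ n * b) = algebraMap A B a := by
        rw [← h]; ring
      have h2 : a ∈ I := step hinj I hIrad t htI _ hb' a h1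
      rw [hI, Ideal.mem_span_singleton'] at h2
      obtain ⟨a', rfl⟩ := h2
      apply ih b a' hb
      apply htunit.mul_left_cancel
      rw [h1, map_mul, mul_comm]
  -- conclude
  let L := FractionRing B
  haveI : IsScalarTower A B L := inferInstance
  haveI : IsFractionRing A L := by
    have h1 := IsLocalization.localization_localization_isLocalization_of_has_all_units M
      (nonZeroDivisors B) L (fun x hx => hx.mem_nonZeroDivisors)
    have h2 : (nonZeroDivisors B).comap (algebraMap A B) = nonZeroDivisors A := by
      ext a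
      rw [Submonoid.mem_comap, mem_nonZeroDivisors_iff_ne_zero, mem_nonZeroDivisors_iff_ne_zero,
        Ne, map_eq_zero_iff _ hinj]
    rw [h2] at h1
    exact h1
  rw [isIntegrallyClosed_iff L]
  intro x hx
  have hxB : IsIntegral B x := hx.tower_top
  obtain ⟨b, rfl⟩ := (isIntegrallyClosed_iff L).mp inferInstance hxB
  have hbA : IsIntegral A b := by
    rwa [isIntegral_algebraMap_iff (IsFractionRing.injective B L)] at hx
  obtain ⟨n, a, hna⟩ := hfrac b
  obtain ⟨a', rfl⟩ := hind n b a hbA hna
  exact ⟨a', rfl⟩

end Groth.Agent.Lib.Helper4.DvrNormal
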