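import Mathlib
import Groth.Agent.Lib.Helper4.DvrProper1
import Groth.Agent.Lib.Helper4.UnivOpen2
import Groth.Agent.Lib.Helper7.GeomFib

/-!
# Geometric connectedness of fibres specializes in flat proper families; smooth proper families with connected maximal fibres (EGA IV 15.7.10-11) (helper4)
-/

set_option backward.isDefEq.respectTransparency.types false
set_option synthInstance.maxHeartbeats 400000
set_option autoImplicit false
set_option linter.unusedSectionVars false
set_option linter.style.haveILetI false
set_option linter.unusedSimpArgs false
universe u v w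
open CategoryTheory CategoryTheory.Limits AlgebraicGeometry TopologicalSpace Topology

namespace Groth.Agent.Lib.Helper4.DvrProper2

open Groth.Agent.Lib.Helper4.HensProper3 Groth.Agent.Lib.Helper4.FibMap1
  Groth.Agent.Lib.Helper4.DvrProper1

/-- every point of a quasi-sober T0 space has a generization which is the generic point of an
irreducible component -/
theorem exists_genericPoint_irreducibleComponent_specializes {α : Type*} [TopologicalSpace α]
    [QuasiSober α] [T0Space α] (x : α) :
    ∃ η : α, η ⤳ x ∧ IsGenericPoint η (irreducibleComponent x) ∧ ∀ η', η' ⤳ η → η' = η := by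
  have hirr : IsIrreducible (irreducibleComponent x) := isIrreducible_irreducibleComponent
  have hcl : IsClosed (irreducibleComponent x) := isClosed_irreducibleComponent
  have hgp : IsGenericPoint hirr.genericPoint (irreducibleComponent x) := by
    have := hirr.isGenericPoint_genericPoint_closure
    rwa [hcl.closure_eq] at this
  refine ⟨hirr.genericPoint, ?_, hgp, ?_⟩
  · rw [specializes_iff_mem_closure, hgp.def]
    exact mem_irreducibleComponent
  · intro η' hη'
    have hsub : irreducibleComponent x ⊆ closure {η'} := by
      rw [← hgp.def]
      exact hη'.closure_subset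
    have hmem := irreducibleComponent_mem_irreducibleComponents x
    have hle : closure {η'} ⊆ irreducibleComponent x :=
      hmem.2 isIrreducible_singleton.closure hsub
    have heq : closure {η'} = closure {hirr.genericPoint} := by
      rw [hgp.def]
      exact Set.Subset.antisymm hle hsub
    exact (inseparable_iff_closure_eq.mpr heq).eq

/-- in a flat separated family of finite type over a locally Noetherian base, geometric
connectedness of fibres is inherited by nonempty proper specializations -/
theorem geometricallyConnected_fiber_of_specializes {X S : Scheme.{u}} [IsLocallyNoetherian S]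
    (f : X ⟶ S) [Flat f] [IsSeparated f] [LocallyOfFiniteType f] [QuasiCompact f]
    (η s : S) (h : η ⤳ s) (hne : Nonempty ↥(f.fiber s))
    (hs : IsProper (f.fiberToSpecResidueField s))
    (hgc : GeometricallyConnected (f.fiberToSpecResidueField η)) :
    GeometricallyConnected (f.fiberToSpecResidueField s) := by
  by_cases hηs : η = s
  · subst hηs; exact hgc
  obtain ⟨A, _, _, _, g, hgcl, hggen⟩ :=
    Groth.Agent.Lib.Helper4.UOp.exists_dvr_of_specializes η s h hηs
  have hgcl' : g (IsLocalRing.closedPoint A) = s := hgcl
  have hggen' : g (genericPoint ↥(Spec (CommRingCat.of A))) = η := by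
    rw [genericPoint_eq_bot_of_affine]
    exact hggen
  subst hgcl'
  subst hggen'
  let p := pullback.snd f g
  haveI : IsProper (p.fiberToSpecResidueField (IsLocalRing.closedPoint A)) :=
    MorphismProperty.of_isPullback (P := @IsProper)
      (isPullback_fiberMap f g (IsLocalRing.closedPoint A)) hs
  haveI : GeometricallyConnected
      (p.fiberToSpecResidueField (genericPoint ↥(Spec (CommRingCat.of A)))) :=
    MorphismProperty.of_isPullback (P := @GeometricallyConnected)
      (isPullback_fiberMap f g (genericPoint ↥(Spec (CommRingCat.of A)))) hgc
  haveI : Nonempty ↥(p.fiber (IsLocalRing.closedPoint A)) := by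
    obtain ⟨x, hx⟩ := exists_apply_eq_of_nonempty_fiber f _ hne
    obtain ⟨z, -, hz⟩ := Scheme.Pullback.exists_preimage_pullback (f := f) (g := g)
      x (IsLocalRing.closedPoint A) hx
    exact nonempty_fiber_of_apply_eq p _ z hz
  have hgc2 := (S19653_main A (pullback f g) p).2
  have hmem : IsLocalRing.closedPoint A ∈ {y' : ↥(Spec (CommRingCat.of A)) |
      GeometricallyConnected (p.fiberToSpecResidueField y')} := hgc2
  rw [Groth.Agent.Helper7.GeomFib.main9765 f g p (pullback.fst f g)
    (IsPullback.of_hasPullback f g)] at hmem
  exact hmem

/-- **S19657** -/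
theorem S19657_main {X S : Scheme.{u}} [IsLocallyNoetherian S] (f : X ⟶ S)
    [Surjective f] [Flat f] [IsSeparated f] [LocallyOfFinitePresentation f] [QuasiCompact f]
    (hsm : ∀ s : S, Smooth (f.fiberToSpecResidueField s))
    (hpr : ∀ s : S, IsProper (f.fiberToSpecResidueField s))
    (hgen : ∀ η : S, (∀ η' : S, η' ⤳ η → η' = η) →
      GeometricallyConnected (f.fiberToSpecResidueField η)) :
    IsProper f ∧ Smooth f ∧ GeometricallyConnected f := by
  have hne : ∀ s : S, Nonempty ↥(f.fiber s) := fun s => by
    obtain ⟨x, hx⟩ := f.surjective s
    exact nonempty_fiber_of_apply_eq f s x hx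
  refine ⟨?_, Smooth.of_smooth_fiberToSpecResidueField f hsm, ?_⟩
  · have hloc : ∀ s : S, ∃ U : S.Opens, s ∈ U ∧ IsProper (f ∣_ U) := fun s => by
      haveI := hne s
      exact S19656_main f (fun η hη _ => hgen η hη) s (hpr s)
    choose U hsU hU using hloc
    have hcov : iSup U = ⊤ := by
      rw [eq_top_iff]
      intro s _
      exact TopologicalSpace.Opens.mem_iSup.mpr ⟨s, hsU s⟩
    exact IsZariskiLocalAtTarget.of_iSup_eq_top (P := @IsProper) U hcov hU
  · rw [GeometricallyConnected.iff_geometricallyConnected_fiber]
    intro s
    obtain ⟨η, hηs, -, hmax⟩ := exists_genericPoint_irreducibleComponent_specializes s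
    exact geometricallyConnected_fiber_of_specializes f η s hηs (hne s) (hpr s) (hgen η hmax)

/-- **S17449** -/
theorem S17449_main {X S : Scheme.{u}}
    (f : X ⟶ S) [IsProper f] [Flat f] [Surjective f] [IsNoetherian S]
    (h : ∀ (Z : Set ↑S) (η : ↑S), Z ∈ irreducibleComponents ↑S → IsGenericPoint η Z →
      GeometricallyConnected (f.fiberToSpecResidueField η) ∧
        Smooth (f.fiberToSpecResidueField η)) :
    GeometricallyConnected f := by
  rw [GeometricallyConnected.iff_geometricallyConnected_fiber]
  intro s
  obtain ⟨η, hηs, hgp, -⟩ := exists_genericPoint_irreducibleComponent_specializes s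
  have hne : Nonempty ↥(f.fiber s) := by
    obtain ⟨x, hx⟩ := f.surjective s
    exact nonempty_fiber_of_apply_eq f s x hx
  have hpr : IsProper (f.fiberToSpecResidueField s) :=
    MorphismProperty.pullback_snd (P := @IsProper) _ _ inferInstance
  exact geometricallyConnected_fiber_of_specializes f η s hηs hne hpr
    (h _ η (irreducibleComponent_mem_irreducibleComponents s) hgp).1

end Groth.Agent.Lib.Helper4.DvrProper2
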