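import Mathlib
import Groth.Agent.Lib.Helper4.DvrProper2

/-!
# Properness over a discrete valuation ring for universally submersive morphisms with geometrically connected fibres; local properness near a proper fibre (EGA IV 15.7.x) (helper4)
-/

set_option backward.isDefEq.respectTransparency.types false
set_option synthInstance.maxHeartbeats 400000
set_option autoImplicit false
set_option linter.unusedSectionVars false
set_option linter.style.haveILetI false
set_option linter.unusedSimpArgs false
universe u v w
open CategoryTheory CategoryTheory.Limits AlgebraicGeometry TopologicalSpace Topology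

namespace Groth.Agent.Lib.Helper4.DvrProper3

open Groth.Agent.Lib.Helper4.HensProper1 Groth.Agent.Lib.Helper4.HensProper2
  Groth.Agent.Lib.Helper4.HensProper3 Groth.Agent.Lib.Helper4.FibMap1
  Groth.Agent.Lib.Helper4.DvrProper1

/-- properness over a Henselian discrete valuation ring, without flatness: it suffices that every
open neighbourhood of the closed fibre meets the generic fibre -/
theorem isProper_of_henselian_dvr' (A : Type u) [CommRing A] [IsDomain A]
    [IsDiscreteValuationRing A] [HenselianLocalRing A] {X : Scheme.{u}}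
    (p : X ⟶ Spec (CommRingCat.of A)) [IsSeparated p] [LocallyOfFiniteType p]
    [QuasiCompact p]
    (hs : IsProper (p.fiberToSpecResidueField (IsLocalRing.closedPoint A)))
    (hmeet : ∀ U : Set X, IsOpen U → p ⁻¹' {IsLocalRing.closedPoint A} ⊆ U →
      (U ∩ p ⁻¹' {genericPoint ↥(Spec (CommRingCat.of A))}).Nonempty)
    (hconn : _root_.IsPreconnected (p ⁻¹' {genericPoint ↥(Spec (CommRingCat.of A))})) :
    IsProper p := by
  obtain ⟨X₁, hX₁c, hX₁s, hX₁p⟩ := exists_clopen_proper_part A p hs
  have hX₂G : (X₁ : Set X)ᶜ ⊆ p ⁻¹' {genericPoint ↥(Spec (CommRingCat.of A))} := by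
    intro x hx
    rcases eq_closedPoint_or_eq_genericPoint A (p x) with h | h
    · exact (hx (hX₁s h)).elim
    · exact h
  obtain ⟨x', hx'X₁, hx'2⟩ := hmeet X₁ X₁.2 hX₁s
  have hX₂e : (X₁ : Set X)ᶜ = ∅ := by
    by_contra hne2
    obtain ⟨z, hz⟩ := Set.nonempty_iff_ne_empty.mpr hne2
    obtain ⟨w, -, hw1, hw2⟩ := hconn (X₁ : Set X) (X₁ : Set X)ᶜ X₁.2 hX₁c.isOpen_compl
      (by rw [Set.union_compl_self]; exact Set.subset_univ _)
      ⟨x', hx'2, hx'X₁⟩ ⟨z, hX₂G hz, hz⟩
    exact hw2 hw1
  have htop : X₁ = ⊤ := by
    ext x
    simp only [Opens.coe_top, Set.mem_univ, iff_true]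
    by_contra hx
    have : x ∈ (X₁ : Set X)ᶜ := hx
    rw [hX₂e] at this
    exact this
  haveI : IsIso X₁.ι := by
    apply isIso_of_isOpenImmersion_of_opensRange_eq_top
    rw [Scheme.Opens.opensRange_ι, htop]
  exact (MorphismProperty.cancel_left_of_respectsIso @IsProper X₁.ι p).mp hX₁p

/-- the closed point of the spectrum of a discrete valuation ring is not open -/
theorem not_isOpen_singleton_closedPoint (A : Type u) [CommRing A] [IsDomain A]
    [IsDiscreteValuationRing A] :
    ¬ IsOpen ({IsLocalRing.closedPoint A} : Set ↥(Spec (CommRingCat.of A))) := by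
  intro hop
  have hsp : genericPoint ↥(Spec (CommRingCat.of A)) ⤳ IsLocalRing.closedPoint A :=
    genericPoint_specializes _
  have hmem := hsp.mem_open hop rfl
  have heq : genericPoint ↥(Spec (CommRingCat.of A)) = IsLocalRing.closedPoint A := hmem
  rw [genericPoint_eq_bot_of_affine] at heq
  have h1 := congrArg PrimeSpectrum.asIdeal heq
  have h2 : (⊥ : Ideal A) = IsLocalRing.maximalIdeal A := h1
  exact IsDiscreteValuationRing.not_a_field A h2.symm

open Groth.Agent.Lib.Helper4.FibMap1 in
/-- properness over a discrete valuation ring for universally submersive morphisms -/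
theorem isProper_of_dvr_of_submersive (R : Type u) [CommRing R] [IsDomain R]
    [IsDiscreteValuationRing R]
    (X : Scheme.{u}) (f : X ⟶ Spec (CommRingCat.of R))
    [IsSeparated f] [LocallyOfFiniteType f] [QuasiCompact f]
    (hsub : MorphismProperty.universally (topologically fun g => Topology.IsQuotientMap g) f)
    (hs : IsProper (f.fiberToSpecResidueField (IsLocalRing.closedPoint R)))
    (hgc : GeometricallyConnected (f.fiberToSpecResidueField
      (genericPoint ↥(Spec (CommRingCat.of R))))) :
    IsProper f := by
  obtain ⟨A, _, _, _, _, _, hloc, hff, -⟩ := exists_strictHenselian_dvr_extension R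
  haveI := hloc
  haveI := hff
  let g : Spec (CommRingCat.of A) ⟶ Spec (CommRingCat.of R) :=
    Spec.map (CommRingCat.ofHom (algebraMap R A))
  haveI : Flat g := by
    rw [Flat.SpecMap_iff]
    show (algebraMap R A).Flat
    exact RingHom.flat_algebraMap_iff.mpr inferInstance
  haveI : Surjective g :=
    ⟨PrimeSpectrum.comap_surjective_of_faithfullyFlat (A := R) (B := A)⟩
  have hgcl : g (IsLocalRing.closedPoint A) = IsLocalRing.closedPoint R :=
    IsLocalRing.comap_closedPoint (algebraMap R A)
  have hinj : Function.Injective (algebraMap R A) :=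
    FaithfulSMul.algebraMap_injective R A
  have hggen : g (genericPoint ↥(Spec (CommRingCat.of A))) =
      genericPoint ↥(Spec (CommRingCat.of R)) := by
    rw [genericPoint_eq_bot_of_affine, genericPoint_eq_bot_of_affine]
    apply PrimeSpectrum.ext
    show Ideal.comap (algebraMap R A) ⊥ = ⊥
    rw [← RingHom.ker_eq_comap_bot]
    exact (RingHom.injective_iff_ker_eq_bot _).mp hinj
  let p := pullback.snd f g
  have hs' : IsProper (p.fiberToSpecResidueField (IsLocalRing.closedPoint A)) := by
    haveI := isProper_fiber_of_eq f _ _ hgcl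
    exact MorphismProperty.of_isPullback (P := @IsProper)
      (isPullback_fiberMap f g (IsLocalRing.closedPoint A)) inferInstance
  have hconn : _root_.IsPreconnected
      (p ⁻¹' {genericPoint ↥(Spec (CommRingCat.of A))}) := by
    haveI := geometricallyConnected_fiber_of_eq f _ _ hggen
    have hP := isPullback_fiberMap f g (genericPoint ↥(Spec (CommRingCat.of A)))
    haveI : ConnectedSpace ↥(p.fiber (genericPoint ↥(Spec (CommRingCat.of A)))) :=
      GeometricallyConnected.geometrically_connectedSpace
        (f := f.fiberToSpecResidueField (g (genericPoint ↥(Spec (CommRingCat.of A)))))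
        (Spec.map (g.residueFieldMap (genericPoint ↥(Spec (CommRingCat.of A))))) _ _ hP
    have hr := p.range_fiberι (genericPoint ↥(Spec (CommRingCat.of A)))
    rw [← hr, ← Set.image_univ]
    exact (isPreconnected_univ).image _ (p.fiberι _).continuous.continuousOn
  have hq : Topology.IsQuotientMap p :=
    hsub (pullback.fst f g) g p (IsPullback.of_hasPullback f g).flip
  have hmeet : ∀ U : Set ↥(pullback f g), IsOpen U → p ⁻¹' {IsLocalRing.closedPoint A} ⊆ U →
      (U ∩ p ⁻¹' {genericPoint ↥(Spec (CommRingCat.of A))}).Nonempty := by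
    intro U hU hUs
    by_contra hemp
    apply not_isOpen_singleton_closedPoint A
    rw [← hq.isOpen_preimage]
    have : p ⁻¹' {IsLocalRing.closedPoint A} = U := by
      apply Set.Subset.antisymm hUs
      intro x hx
      rcases eq_closedPoint_or_eq_genericPoint A (p x) with h | h
      · exact h
      · exact (hemp ⟨x, hx, h⟩).elim
    rw [this]
    exact hU
  have hp : IsProper p := isProper_of_henselian_dvr' A p hs' hmeet hconn
  have huc : UniversallyClosed f :=
    MorphismProperty.of_pullback_snd_of_descendsAlong (P := @UniversallyClosed)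
      (Q := @Surjective ⊓ @Flat ⊓ @QuasiCompact) (f := f) (g := g)
      ⟨⟨inferInstance, inferInstance⟩, inferInstance⟩ inferInstance
  exact { }

/-- **S2569** -/
theorem S2569_main {X Y : Scheme.{u}} [IsLocallyNoetherian Y] (f : X ⟶ Y)
    [IsSeparated f] [LocallyOfFiniteType f] [QuasiCompact f]
    (hsub : MorphismProperty.universally (topologically fun g => Topology.IsQuotientMap g) f)
    (hconn : ∀ y : Y, GeometricallyConnected (f.fiberToSpecResidueField y))
    (y : Y) (hy : IsProper (f.fiberToSpecResidueField y)) :
    ∃ U : Y.Opens, y ∈ U ∧ IsProper (f ∣_ U) := by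
  apply Groth.Agent.Lib.Helper4.PropAt4.exists_open_isProper_of_dvr_lnoeth f y
  intro A _ _ _ g hg sK hsK hmax
  have hg' : g (IsLocalRing.closedPoint A) = y := hg
  subst hg'
  let p := pullback.snd f g
  have hsub' : MorphismProperty.universally
      (topologically fun g => Topology.IsQuotientMap g) p :=
    MorphismProperty.of_isPullback (P := MorphismProperty.universally
      (topologically fun g => Topology.IsQuotientMap g)) (IsPullback.of_hasPullback f g) hsub
  have hs' : IsProper (p.fiberToSpecResidueField (IsLocalRing.closedPoint A)) :=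
    MorphismProperty.of_isPullback (P := @IsProper)
      (isPullback_fiberMap f g (IsLocalRing.closedPoint A)) hy
  have hgc' : GeometricallyConnected
      (p.fiberToSpecResidueField (genericPoint ↥(Spec (CommRingCat.of A)))) :=
    MorphismProperty.of_isPullback (P := @GeometricallyConnected)
      (isPullback_fiberMap f g (genericPoint ↥(Spec (CommRingCat.of A)))) (hconn _)
  have hp : IsProper p := isProper_of_dvr_of_submersive A (pullback f g) p hsub' hs' hgc'
  have hex : ValuativeCriterion.Existence p := by
    have h0 : UniversallyClosed p := inferInstance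
    rw [UniversallyClosed.eq_valuativeCriterion] at h0
    exact h0.1
  let Sq1 : ValuativeCommSq p :=
    { R := A, K := FractionRing A, i₁ := pullback.lift sK _ hsK, i₂ := 𝟙 _,
      commSq := ⟨by rw [pullback.lift_snd, Category.comp_id]⟩ }
  obtain ⟨⟨ℓ, hℓ1, hℓ2⟩⟩ := (hex Sq1).exists_lift
  refine ⟨ℓ ≫ pullback.fst f g, ?_, ?_⟩
  · rw [Category.assoc, pullback.condition, ← Category.assoc]
    have : ℓ ≫ pullback.snd f g = 𝟙 _ := hℓ2
    rw [this, Category.id_comp]
  · rw [← Category.assoc]
    have : Spec.map (CommRingCat.ofHom (algebraMap A (FractionRing A))) ≫ ℓ =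
        pullback.lift sK _ hsK := hℓ1
    rw [this, pullback.lift_fst]

end Groth.Agent.Lib.Helper4.DvrProper3
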