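import Mathlib

/-!
# generic rank equals closed-fibre rank for finite flat extensions of noetherian domains; finite reduced algebras over an algebraically closed field; points of finite unramified algebras (helper4)
-/

set_option backward.isDefEq.respectTransparency.types false
set_option synthInstance.maxHeartbeats 400000
set_option autoImplicit false
set_option linter.unusedSectionVars false
set_option linter.style.haveILetI false
set_option linter.unusedSimpArgs false
universe u v w
open TensorProduct

namespace Groth.Agent.Lib.Helper4.EllAlg1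

section Rank
variable {A B K L k : Type u} [CommRing A] [CommRing B] [IsDomain A] [IsDomain B]
  [IsNoetherianRing A] [Algebra A B] [Module.Finite A B] [Module.Flat A B]
  (hinj : Function.Injective (algebraMap A B))
  [Field K] [Field L] [Algebra A K] [IsFractionRing A K] [Algebra B L] [IsFractionRing B L]
  [Algebra K L] [Algebra A L] [IsScalarTower A K L] [IsScalarTower A B L]
  [Field k] (eps : A →+* k)

include hinj in
/-- generic rank = rank at a closed point, for a finite flat extension of noetherian domains -/
theorem finrank_fractionRing_eq :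
    letI := eps.toAlgebra
    Module.finrank K L = Module.finrank k (k ⊗[A] B) := by
  letI := eps.toAlgebra
  haveI : FaithfulSMul A B := (faithfulSMul_iff_algebraMap_injective A B).mpr hinj
  haveI : Algebra.IsIntegral A B := Algebra.IsIntegral.of_finite A B
  haveI : Algebra.IsAlgebraic A B := inferInstance
  haveI : Algebra.IsPushout A B K L := inferInstance
  haveI : Module.FinitePresentation A B := Module.finitePresentation_of_finite A B
  let pK : PrimeSpectrum K := ⟨⊥, Ideal.isPrime_bot⟩
  let pk : PrimeSpectrum k := ⟨⊥, Ideal.isPrime_bot⟩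
  have h1 : Module.finrank K L = Module.rankAtStalk (R := A) B (pK.comap (algebraMap A K)) := by
    rw [← Algebra.rankAtStalk_eq_of_isPushout A B K L pK, Module.rankAtStalk_eq_finrank_of_free]
    rfl
  have h2 : Module.finrank k (k ⊗[A] B)
      = Module.rankAtStalk (R := A) B (pk.comap (algebraMap A k)) := by
    rw [← Module.rankAtStalk_baseChange (R := A) (M := B) pk,
      Module.rankAtStalk_eq_finrank_of_free]
    rfl
  rw [h1, h2]
  exact (Module.isLocallyConstant_rankAtStalk (R := A) (M := B)).apply_eq_of_preconnectedSpace _ _

end Rank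


section Count
variable {k C : Type u} [Field k] [IsAlgClosed k] [CommRing C] [Algebra k C] [Module.Finite k C]

/-- a finite reduced algebra over an algebraically closed field has dimension the number of its
maximal ideals -/
theorem finrank_eq_card_maximalSpectrum [IsReduced C] :
    Module.finrank k C = Nat.card (MaximalSpectrum C) := by
  haveI : IsArtinianRing C := IsArtinianRing.of_finite k C
  haveI : Fintype (MaximalSpectrum C) := Fintype.ofFinite _
  let e := (IsArtinianRing.equivPi C).toLinearEquiv.restrictScalars k
  rw [e.finrank_eq, Module.finrank_pi_fintype, Nat.card_eq_fintype_card]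
  have h1 : ∀ I : MaximalSpectrum C, Module.finrank k (C ⧸ I.asIdeal) = 1 := by
    intro I
    haveI := I.isMaximal
    letI : Field (C ⧸ I.asIdeal) := Ideal.Quotient.field I.asIdeal
    haveI : Algebra.IsIntegral k (C ⧸ I.asIdeal) := Algebra.IsIntegral.of_finite k _
    have hbij : Function.Bijective (algebraMap k (C ⧸ I.asIdeal)) :=
      IsAlgClosed.algebraMap_bijective_of_isIntegral
    let e' : k ≃ₐ[k] (C ⧸ I.asIdeal) := AlgEquiv.ofBijective (Algebra.ofId k _) hbij
    rw [← e'.toLinearEquiv.finrank_eq, Module.finrank_self]
  simp [h1]

/-- the character attached to a maximal ideal -/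
theorem exists_algHom_ker_eq (I : MaximalSpectrum C) :
    ∃ χ : C →ₐ[k] k, RingHom.ker χ.toRingHom = I.asIdeal := by
  haveI := I.isMaximal
  letI : Field (C ⧸ I.asIdeal) := Ideal.Quotient.field I.asIdeal
  haveI : Algebra.IsIntegral k (C ⧸ I.asIdeal) := Algebra.IsIntegral.of_finite k _
  have hbij : Function.Bijective (algebraMap k (C ⧸ I.asIdeal)) :=
    IsAlgClosed.algebraMap_bijective_of_isIntegral
  let e' : k ≃ₐ[k] (C ⧸ I.asIdeal) := AlgEquiv.ofBijective (Algebra.ofId k _) hbij
  refine ⟨(e'.symm : (C ⧸ I.asIdeal) →ₐ[k] k).comp (Ideal.Quotient.mkₐ k I.asIdeal), ?_⟩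
  ext x
  simp only [AlgHom.toRingHom_eq_coe, RingHom.mem_ker, RingHom.coe_coe, AlgHom.comp_apply]
  rw [AlgEquiv.coe_algHom, EmbeddingLike.map_eq_zero_iff, Ideal.Quotient.mkₐ_eq_mk,
    Ideal.Quotient.eq_zero_iff_mem]

end Count


section Pts
variable {A B k : Type u} [CommRing A] [CommRing B] [Field k] [IsAlgClosed k] [Algebra A B]
  [Module.Finite A B] [Algebra.FormallyUnramified A B] (eps : A →+* k)

/-- a finite unramified algebra has at least as many points over a geometric point as the rank of
the fibre -/
theorem exists_injective_ringHom :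
    letI := eps.toAlgebra
    ∃ (ι : Type u) (_ : Finite ι)
      (f : ι → {β : B →+* k // β.comp (algebraMap A B) = eps}),
      Function.Injective f ∧ Nat.card ι = Module.finrank k (k ⊗[A] B) := by
  letI := eps.toAlgebra
  let C := k ⊗[A] B
  haveI : Algebra.FormallyUnramified k C := inferInstance
  haveI : Module.Finite k C := inferInstance
  haveI : Algebra.EssFiniteType k C := inferInstance
  haveI : IsReduced C := Algebra.FormallyUnramified.isReduced_of_field k C
  haveI : IsArtinianRing C := IsArtinianRing.of_finite k C
  choose χ hχ using fun I : MaximalSpectrum C => exists_algHom_ker_eq (k := k) I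
  let ιB : B →ₐ[A] C := Algebra.TensorProduct.includeRight
  refine ⟨MaximalSpectrum C, inferInstance,
    fun I => ⟨(χ I).toRingHom.comp ιB.toRingHom, ?_⟩, ?_, (finrank_eq_card_maximalSpectrum).symm⟩
  · ext a
    change χ I (ιB (algebraMap A B a)) = eps a
    rw [AlgHom.commutes, IsScalarTower.algebraMap_apply A k C, AlgHom.commutes]
    rfl
  · intro I J hIJ
    have h1 : ∀ b : B, χ I (ιB b) = χ J (ιB b) := fun b =>
      congrArg (fun g : {β : B →+* k // β.comp (algebraMap A B) = eps} => g.1 b) hIJ
    have h2 : χ I = χ J := by
      apply Algebra.TensorProduct.ext'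
      intro c b
      have e1 : c ⊗ₜ[A] b = c • ιB b := by
        change c ⊗ₜ[A] b = c • ((1 : k) ⊗ₜ[A] b)
        rw [TensorProduct.smul_tmul', smul_eq_mul, mul_one]
      rw [e1, map_smul, map_smul, h1]
    ext1
    rw [← hχ I, ← hχ J, h2]

end Pts

end Groth.Agent.Lib.Helper4.EllAlg1
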