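import Mathlib
import Groth.Prelude.Def_AlgGrp
import Groth.Agent.Lib.Helper4.PowEtale2
import Groth.Agent.Lib.Helper4.InfGrp1

/-!
# cotangent map of a product of homomorphisms of group schemes is the sum; homomorphism etale near the unit is etale (alg. closed field) (helper4)
-/

set_option backward.isDefEq.respectTransparency.types false
set_option synthInstance.maxHeartbeats 400000
set_option autoImplicit false
set_option linter.unusedSectionVars false
set_option linter.style.haveILetI false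
set_option linter.unusedSimpArgs false
universe u v w
open CategoryTheory CategoryTheory.Limits AlgebraicGeometry TopologicalSpace Opposite
open MonoidalCategory CartesianMonoidalCategory MonObj GrpObj
open Groth.Agent.Lib.Helper4.InfGrp1 Groth.Agent.Lib.Helper4.PowEtale1 Groth.Agent.Lib.Helper4.PowEtale2

namespace Groth.Agent.Lib.Helper4.EllTan1

section Two
variable (k : Type u) [Field k] (G₁ G₂ : Over (Spec (CommRingCat.of k))) [GrpObj G₁] [GrpObj G₂]
variable {W : G₂.left.Opens} {V : G₁.left.Opens} (hW : IsAffineOpen W)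
  (he : η[G₂].left.base (pt k) ∈ W)
  (hV : IsAffineOpen V) (heV : η[G₁].left.base (pt k) ∈ V)

lemma appLE_eps₂ (g : G₁ ⟶ G₂) (hg : η[G₁] ≫ g = η[G₂]) (hle : V ≤ g.left ⁻¹ᵁ W) :
    g.left.appLE W V hle ≫ eps k G₁ heV = eps k G₂ he := by
  have h1 : (1 : Over.mk (𝟙 (Spec (CommRingCat.of k))) ⟶ G₁) ≫ g = 1 := hg
  have h2 : ((1 : Over.mk (𝟙 (Spec (CommRingCat.of k))) ⟶ G₁) ≫ g).left ⁻¹ᵁ W = ⊤ := by
    rw [h1]; exact one_preimage (𝟙 _) (pt k) (eq_pt k _) he
  unfold eps
  rw [← beta_comp (𝟙 _) g W hle 1 (one_preimage (𝟙 _) (pt k) (eq_pt k _) heV) h2]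
  exact beta_congr (𝟙 _) h1 h2 _

include hW hV in
/-- **Tangent computation**: the cotangent map of a product of two homomorphisms is the sum of the
cotangent maps. -/
theorem tangent_mul (f g : G₁ ⟶ G₂) [IsMonHom f] [IsMonHom g]
    (hlef : V ≤ f.left ⁻¹ᵁ W) (hleg : V ≤ g.left ⁻¹ᵁ W) (hle : V ≤ (f * g).left ⁻¹ᵁ W)
    (c : Γ(G₂.left, W)) (hc : (eps k G₂ he).hom c = 0) :
    ((f * g).left.appLE W V hle).hom c - (f.left.appLE W V hlef).hom c
      - (g.left.appLE W V hleg).hom c ∈ (RingHom.ker (eps k G₁ heV).hom) ^ 2 := by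
  set q := RingHom.ker (eps k G₁ heV).hom with hq
  let R : CommRingCat.{u} := CommRingCat.of (Γ(G₁.left, V) ⧸ q ^ 2)
  let R₀ : CommRingCat.{u} := CommRingCat.of (Γ(G₁.left, V) ⧸ q)
  have hle2 : q ^ 2 ≤ q := Ideal.pow_le_self two_ne_zero
  let φ : R ⟶ R₀ := CommRingCat.ofHom (Ideal.Quotient.factor hle2)
  have hφ : Function.Surjective φ.hom := Ideal.Quotient.factor_surjective hle2
  have hker : RingHom.ker φ.hom = q.map (Ideal.Quotient.mk (q ^ 2)) := by
    change RingHom.ker (Ideal.Quotient.factor hle2) = _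
    rw [Ideal.Quotient.factor_ker]
  have hI : RingHom.ker φ.hom ^ 2 = ⊥ := by
    rw [hker, ← Ideal.map_pow, Ideal.map_quotient_self]
  let mk2 : Γ(G₁.left, V) ⟶ R := CommRingCat.ofHom (Ideal.Quotient.mk (q ^ 2))
  let t : Spec R ⟶ Spec (CommRingCat.of k) := Spec.map (sig hV ≫ mk2)
  have hψ : sig hV ≫ mk2 = Spec.preimage t := (Spec.preimage_map _).symm
  let κ : Over.mk t ⟶ G₁ := ofHom t hV mk2 hψ
  have hκV : κ.left ⁻¹ᵁ V = ⊤ := ofHom_preimage t hV mk2 hψ
  have hβκ : beta t κ hκV = mk2 := beta_ofHom t hV mk2 hψ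
  have hκ1 : thick φ t ≫ κ = 1 := by
    rw [← thick_one φ t (A := G₁)]
    apply near_of_beta_comp_eq φ t hV 1 κ (one_preimage t (pt k) (eq_pt k t) heV) hκV
    rw [hβκ, beta_one k G₁ hV heV t, ← hψ]
    ext b
    change Ideal.Quotient.factor hle2 (Ideal.Quotient.mk (q ^ 2) b)
      = Ideal.Quotient.factor hle2 (Ideal.Quotient.mk (q ^ 2) ((sig hV).hom ((eps k G₁ heV).hom b)))
    rw [Ideal.Quotient.factor_mk, Ideal.Quotient.factor_mk, Ideal.Quotient.eq, hq, RingHom.mem_ker,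
      map_sub, sub_eq_zero]
    have := congrArg (fun f => f.hom ((eps k G₁ heV).hom b)) (sig_eps k G₁ hV heV)
    exact this.symm
  have hf1 : thick φ t ≫ (κ ≫ f) = 1 := by
    rw [← Category.assoc, hκ1, MonObj.one_comp]
  have hg1 : thick φ t ≫ (κ ≫ g) = 1 := by
    rw [← Category.assoc, hκ1, MonObj.one_comp]
  have hκf : (κ ≫ f).left ⁻¹ᵁ W = ⊤ :=
    near_one_preimage φ hφ hI t (pt k) (eq_pt k t) he _ hf1
  have hκg : (κ ≫ g).left ⁻¹ᵁ W = ⊤ :=
    near_one_preimage φ hφ hI t (pt k) (eq_pt k t) he _ hg1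
  have hfg1 : thick φ t ≫ ((κ ≫ f) * (κ ≫ g)) = 1 := by
    rw [MonObj.comp_mul, hf1, hg1, _root_.mul_one]
  have hκfg : ((κ ≫ f) * (κ ≫ g)).left ⁻¹ᵁ W = ⊤ :=
    near_one_preimage φ hφ hI t (pt k) (eq_pt k t) he _ hfg1
  have key := beta_mul φ hφ hI t (pt k) (eq_pt k t) hW he (κ ≫ f) (κ ≫ g) hf1 hg1 hκf hκg hκfg
    (one_preimage t (pt k) (eq_pt k t) he) c
  have h1 : (beta t (1 : Over.mk t ⟶ G₂) (one_preimage t (pt k) (eq_pt k t) he)).hom c = 0 := by
    rw [beta_one k G₂ hW he t]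
    change (Spec.preimage t).hom ((eps k G₂ he).hom c) = 0
    rw [hc, map_zero]
  have h2f : beta t (κ ≫ f) hκf = f.left.appLE W V hlef ≫ mk2 := by
    rw [beta_comp t f W hlef κ hκV hκf, hβκ]
  have h2g : beta t (κ ≫ g) hκg = g.left.appLE W V hleg ≫ mk2 := by
    rw [beta_comp t g W hleg κ hκV hκg, hβκ]
  have hmul : κ ≫ (f * g) = (κ ≫ f) * (κ ≫ g) := MonObj.comp_mul _ _ _
  have hκfg' : (κ ≫ (f * g)).left ⁻¹ᵁ W = ⊤ := by rw [hmul]; exact hκfg
  have h3 : beta t ((κ ≫ f) * (κ ≫ g)) hκfg = (f * g).left.appLE W V hle ≫ mk2 := by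
    rw [← beta_congr t hmul hκfg' hκfg, beta_comp t _ W hle κ hκV hκfg', hβκ]
  rw [h1, sub_zero, h3, h2f, h2g] at key
  change Ideal.Quotient.mk (q ^ 2) _ = Ideal.Quotient.mk (q ^ 2) _ + Ideal.Quotient.mk (q ^ 2) _
    at key
  rw [← Ideal.Quotient.eq_zero_iff_mem, map_sub, map_sub, sub_sub, sub_eq_zero]
  exact key

end Two


section TranslHom
variable {C : Type u} [Category.{v} C] [CartesianMonoidalCategory C] {G₁ G₂ : C} [GrpObj G₁]
  [GrpObj G₂]

lemma transl_comp_hom (f : G₁ ⟶ G₂) [IsMonHom f] (a : 𝟙_ C ⟶ G₁) :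
    transl a ≫ f = f ≫ transl (a ≫ f) := by
  unfold transl
  rw [MonObj.mul_comp, MonObj.comp_mul, Category.id_comp, Category.comp_id, Category.assoc,
    ← Category.assoc f, toUnit_unique (f ≫ toUnit G₂) (toUnit G₁)]

end TranslHom

section NearUnit
variable (K : Type u) [Field K] [IsAlgClosed K]
  (G₁ G₂ : Over (Spec (CommRingCat.of K))) [GrpObj G₁] [GrpObj G₂] [LocallyOfFiniteType G₁.hom]

include K in
/-- a homomorphism of group schemes over an algebraically closed field which is étale near the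
unit is étale -/
theorem etale_of_etale_near_unit (f : G₁ ⟶ G₂) [IsMonHom f] (U₀ : G₁.left.Opens)
    (hU₀ : η[G₁].left.base (pt K) ∈ U₀) (hE₀ : Etale (U₀.ι ≫ f.left)) : Etale f.left := by
  haveI : JacobsonSpace G₁.left := LocallyOfFiniteType.jacobsonSpace G₁.hom
  have H : ∀ x : G₁.left, IsClosed ({x} : Set G₁.left) →
      ∃ U : G₁.left.Opens, x ∈ U ∧ Etale (U.ι ≫ f.left) := by
    intro x hx
    obtain ⟨c, hc, hcx⟩ :=
      Groth.Agent.Lib.Helper4.SubgrpProd1.exists_Kpoint_of_closed K K G₁.hom x hx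
    have hc' : c ≫ G₁.hom = 𝟙 _ := by
      rw [hc]
      change Spec.map (CommRingCat.ofHom (RingHom.id K)) = _
      exact Spec.map_id _
    let g : 𝟙_ (Over (Spec (CommRingCat.of K))) ⟶ G₁ := Over.homMk c hc'
    let b : 𝟙_ (Over (Spec (CommRingCat.of K))) ⟶ G₂ := g⁻¹ ≫ f
    have h1 : transl g⁻¹ ≫ f = f ≫ transl b := transl_comp_hom f g⁻¹
    have h2 : f = transl g⁻¹ ≫ f ≫ transl b⁻¹ := by
      rw [← Category.assoc, h1, Category.assoc, transl_comp, inv_mul_cancel, transl_one,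
        Category.comp_id]
    have h2' : f.left = (transl g⁻¹).left ≫ f.left ≫ (transl b⁻¹).left := by
      conv_lhs => rw [h2]
      rfl
    refine ⟨(transl g⁻¹).left ⁻¹ᵁ U₀, ?_, ?_⟩
    · change (transl g⁻¹).left.base x ∈ U₀
      have h3 : g ≫ transl g⁻¹ = 1 := by rw [point_comp_transl, inv_mul_cancel]
      have hxg : x = g.left.base (pt K) := (hcx (pt K)).symm
      have e : (transl g⁻¹).left.base (g.left.base (pt K)) = η[G₁].left.base (pt K) :=
        congrArg (fun f : 𝟙_ (Over (Spec (CommRingCat.of K))) ⟶ G₁ => f.left.base (pt K)) h3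
      rw [hxg, e]; exact hU₀
    · haveI : IsIso (transl g⁻¹).left :=
        inferInstanceAs (IsIso ((Over.forget _).map (transl g⁻¹)))
      haveI : IsIso (transl b⁻¹).left :=
        inferInstanceAs (IsIso ((Over.forget _).map (transl b⁻¹)))
      have e : ((transl g⁻¹).left ⁻¹ᵁ U₀).ι ≫ f.left
          = ((transl g⁻¹).left ∣_ U₀) ≫ (U₀.ι ≫ f.left) ≫ (transl b⁻¹).left := by
        conv_lhs => rw [h2']
        rw [← Category.assoc, ← morphismRestrict_ι, Category.assoc, Category.assoc]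
      rw [e]
      infer_instance
  choose U hxU hE using H
  let V : {x : G₁.left // IsClosed ({x} : Set G₁.left)} → G₁.left.Opens := fun x => U x.1 x.2
  have hV : iSup V = ⊤ := by
    rw [eq_top_iff]
    intro y _
    by_contra hy
    have hZ : IsClosed ((iSup V : G₁.left.Opens) : Set G₁.left)ᶜ := (iSup V).2.isClosed_compl
    have h1 := closure_inter_closedPoints hZ
    have h2 : ((iSup V : G₁.left.Opens) : Set G₁.left)ᶜ ∩ closedPoints G₁.left = ∅ := by
      ext z
      simp only [Set.mem_inter_iff, Set.mem_compl_iff, Set.mem_empty_iff_false, iff_false, not_and]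
      intro hz hzc
      exact hz (Opens.mem_iSup.mpr ⟨⟨z, hzc⟩, hxU z hzc⟩)
    rw [h2, closure_empty] at h1
    have : y ∈ ((iSup V : G₁.left.Opens) : Set G₁.left)ᶜ := hy
    rw [← h1] at this
    exact this
  exact (IsZariskiLocalAtSource.iff_of_iSup_eq_top (P := @Etale) V hV).mpr fun x => hE x.1 x.2

end NearUnit

end Groth.Agent.Lib.Helper4.EllTan1
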