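import Mathlib
import Groth.Prelude.Def_AlgGrp
import Groth.Agent.Lib.Helper4.EllTan1
import Groth.Agent.Lib.Helper4.EllAlg1

/-!
# function field of a separable isogeny is Galois with group the kernel points (translations by kernel points, rank count) (helper4)
-/

set_option backward.isDefEq.respectTransparency.types false
set_option synthInstance.maxHeartbeats 400000
set_option autoImplicit false
set_option linter.unusedSectionVars false
set_option linter.style.haveILetI false
set_option linter.unusedSimpArgs false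
universe u v w
open CategoryTheory CategoryTheory.Limits AlgebraicGeometry TopologicalSpace Opposite
open MonoidalCategory CartesianMonoidalCategory MonObj GrpObj
open Groth.Agent.Lib.Helper4.InfGrp1 Groth.Agent.Lib.Helper4.PowEtale1 Groth.Agent.Lib.Helper4.PowEtale2
open Groth.Agent.Lib.Helper4.EllTan1

namespace Groth.Agent.Lib.Helper4.EllGal1

section FF
variable {X Y : Scheme.{u}} [IsIntegral X] [IsIntegral Y] (φ : X ⟶ Y)
  (e : φ.base (genericPoint X) = genericPoint Y)

/-- the induced map on function fields of a morphism preserving generic points -/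
noncomputable def ffMap : Y.functionField ⟶ X.functionField :=
  Y.presheaf.stalkSpecializes (specializes_of_eq e) ≫ φ.stalkMap (genericPoint X)

lemma germ_ffMap (V : Y.Opens) [Nonempty V] [Nonempty (φ ⁻¹ᵁ V : X.Opens)] :
    Y.germToFunctionField V ≫ ffMap φ e = φ.app V ≫ X.germToFunctionField (φ ⁻¹ᵁ V) := by
  unfold ffMap Scheme.germToFunctionField
  rw [← Category.assoc, TopCat.Presheaf.germ_stalkSpecializes, Scheme.Hom.germ_stalkMap]

end FF


section Ker
variable (k : Type u) [Field k] (E E' : Over (Spec (CommRingCat.of k))) [GrpObj E] [GrpObj E']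
  (φ : E ⟶ E') [IsMonHom φ]

lemma transl_ker (P : 𝟙_ (Over (Spec (CommRingCat.of k))) ⟶ E) (hP : P ≫ φ = η[E']) :
    transl P ≫ φ = φ := by
  rw [transl_comp_hom, hP]
  have : (η[E'] : 𝟙_ (Over (Spec (CommRingCat.of k))) ⟶ E') = 1 := rfl
  rw [this, transl_one, Category.comp_id]

lemma appLE_congr_hom {X Y : Scheme.{u}} {f g : X ⟶ Y} (h : f = g) (U : Y.Opens) (V : X.Opens)
    (hf : V ≤ f ⁻¹ᵁ U) : f.appLE U V hf = g.appLE U V (h ▸ hf) := by
  subst h; rfl

variable {W' : E'.left.Opens}

lemma le_transl_preimage (P : 𝟙_ (Over (Spec (CommRingCat.of k))) ⟶ E) (hP : P ≫ φ = η[E']) :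
    φ.left ⁻¹ᵁ W' ≤ (transl P).left ⁻¹ᵁ (φ.left ⁻¹ᵁ W') := by
  have h : (transl P).left ≫ φ.left = φ.left := congrArg Over.Hom.left (transl_ker k E E' φ P hP)
  intro x hx
  change φ.left.base ((transl P).left.base x) ∈ W'
  have : φ.left.base ((transl P).left.base x) = φ.left.base x := by
    rw [← Scheme.Hom.comp_apply, h]
  rw [this]; exact hx

/-- the automorphism of the chart ring induced by translation by a kernel point -/
noncomputable def theta (P : 𝟙_ (Over (Spec (CommRingCat.of k))) ⟶ E) (hP : P ≫ φ = η[E']) :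
    Γ(E.left, φ.left ⁻¹ᵁ W') ⟶ Γ(E.left, φ.left ⁻¹ᵁ W') :=
  (transl P).left.appLE (φ.left ⁻¹ᵁ W') (φ.left ⁻¹ᵁ W') (le_transl_preimage k E E' φ P hP)

lemma psi_theta (P : 𝟙_ (Over (Spec (CommRingCat.of k))) ⟶ E) (hP : P ≫ φ = η[E']) :
    φ.left.appLE W' (φ.left ⁻¹ᵁ W') le_rfl ≫ theta k E E' φ P hP (W' := W')
      = φ.left.appLE W' (φ.left ⁻¹ᵁ W') le_rfl := by
  unfold theta
  rw [Scheme.Hom.appLE_comp_appLE]
  have h : (transl P).left ≫ φ.left = φ.left := congrArg Over.Hom.left (transl_ker k E E' φ P hP)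
  exact appLE_congr_hom h _ _ _



variable (he' : η[E'].left.base (pt k) ∈ W')

include he' in
lemma point_preimage (P : Over.mk (𝟙 (Spec (CommRingCat.of k))) ⟶ E) (hP : P ≫ φ = η[E']) :
    P.left ⁻¹ᵁ (φ.left ⁻¹ᵁ W') = ⊤ := by
  rw [eq_top_iff]
  intro x _
  change φ.left.base (P.left.base x) ∈ W'
  have h1 : φ.left.base (P.left.base x) = (P ≫ φ).left.base x := rfl
  rw [h1, hP]
  have hx : x = pt k := Subsingleton.elim (α := ↥(Spec (CommRingCat.of k))) _ _
  rw [hx]; exact he'

include he' in
lemma unit_mem_preimage : η[E].left.base (pt k) ∈ φ.left ⁻¹ᵁ W' := by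
  change φ.left.base (η[E].left.base (pt k)) ∈ W'
  have : φ.left.base (η[E].left.base (pt k)) = η[E'].left.base (pt k) :=
    congrArg (fun g : 𝟙_ (Over (Spec (CommRingCat.of k))) ⟶ E' => g.left.base (pt k))
      (IsMonHom.one_hom (f := φ))
  rw [this]; exact he'

lemma theta_eps (P : Over.mk (𝟙 (Spec (CommRingCat.of k))) ⟶ E) (hP : P ≫ φ = η[E']) :
    beta (𝟙 _) P (point_preimage k E E' φ he' P hP)
      = theta k E E' φ P hP (W' := W') ≫ eps k E (unit_mem_preimage k E E' φ he') := by
  have h1 : (1 : Over.mk (𝟙 (Spec (CommRingCat.of k))) ⟶ E) ≫ transl P = P := by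
    rw [point_comp_transl, _root_.mul_one]
  have h2 : ((1 : Over.mk (𝟙 (Spec (CommRingCat.of k))) ⟶ E) ≫ transl P).left ⁻¹ᵁ
      (φ.left ⁻¹ᵁ W') = ⊤ := by
    rw [h1]; exact point_preimage k E E' φ he' P hP
  unfold eps theta
  rw [← beta_comp (𝟙 _) (transl P) (φ.left ⁻¹ᵁ W') (le_transl_preimage k E E' φ P hP) 1
    (one_preimage (𝟙 _) (pt k) (eq_pt k _) (unit_mem_preimage k E E' φ he')) h2]
  exact (beta_congr (𝟙 _) h1 h2 _).symm



variable (hW' : IsAffineOpen W') (hW : IsAffineOpen (φ.left ⁻¹ᵁ W'))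

include hW he' in
lemma theta_injective (P Q : Over.mk (𝟙 (Spec (CommRingCat.of k))) ⟶ E) (hP : P ≫ φ = η[E'])
    (hQ : Q ≫ φ = η[E'])
    (h : theta k E E' φ P hP (W' := W') = theta k E E' φ Q hQ (W' := W')) : P = Q := by
  apply beta_inj (𝟙 _) hW P Q (point_preimage k E E' φ he' P hP)
    (point_preimage k E E' φ he' Q hQ)
  rw [theta_eps k E E' φ he' P hP, theta_eps k E E' φ he' Q hQ, h]

include hW' hW in
lemma sig_appLE :
    sig hW' ≫ φ.left.appLE W' (φ.left ⁻¹ᵁ W') le_rfl = sig hW := by
  apply Spec.map_injective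
  rw [Spec.map_comp, specMap_sig, specMap_sig, ← Category.assoc,
    IsAffineOpen.SpecMap_appLE_fromSpec φ.left hW' hW le_rfl, Category.assoc, Over.w φ]

include hW' hW he' in
/-- a ring map on the chart over the counit downstairs gives a kernel point -/
lemma exists_point_of_ringHom (β : Γ(E.left, φ.left ⁻¹ᵁ W') ⟶ CommRingCat.of k)
    (hβ : φ.left.appLE W' (φ.left ⁻¹ᵁ W') le_rfl ≫ β = eps k E' he') :
    ∃ (P : Over.mk (𝟙 (Spec (CommRingCat.of k))) ⟶ E) (hP : P ≫ φ = η[E']),
      beta (𝟙 _) P (point_preimage k E E' φ he' P hP) = β := by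
  have hψ : sig hW ≫ β = Spec.preimage (𝟙 (Spec (CommRingCat.of k))) := by
    rw [← sig_appLE k E E' φ hW' hW, Category.assoc, hβ, sig_eps k E' hW' he']
    apply Spec.map_injective
    rw [Spec.map_preimage, Spec.map_id]
  let P : Over.mk (𝟙 (Spec (CommRingCat.of k))) ⟶ E := ofHom (𝟙 _) hW β hψ
  have hPW : P.left ⁻¹ᵁ (φ.left ⁻¹ᵁ W') = ⊤ := ofHom_preimage (𝟙 _) hW β hψ
  have hβP : beta (𝟙 _) P hPW = β := beta_ofHom (𝟙 _) hW β hψ
  have h1 : (1 : Over.mk (𝟙 (Spec (CommRingCat.of k))) ⟶ E').left ⁻¹ᵁ W' = ⊤ :=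
    one_preimage (𝟙 _) (pt k) (eq_pt k _) he'
  have hPφW : (P ≫ φ).left ⁻¹ᵁ W' = ⊤ := by
    rw [eq_top_iff]
    intro x _
    have hx : x ∈ P.left ⁻¹ᵁ (φ.left ⁻¹ᵁ W') := by rw [hPW]; trivial
    exact hx
  have hP : P ≫ φ = η[E'] := by
    apply beta_inj (𝟙 _) hW' (P ≫ φ) (1 : Over.mk (𝟙 (Spec (CommRingCat.of k))) ⟶ E') hPφW h1
    rw [beta_comp (𝟙 _) φ W' le_rfl P hPW hPφW, hβP, hβ]
    rfl
  exact ⟨P, hP, hβP⟩

end Ker


section Main
open Groth.Agent.Lib.Helper4.EllAlg1
variable (k : Type u) [Field k] [IsAlgClosed k]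
    (E E' : Over (Spec (CommRingCat.of k)))
    [GrpObj E] [LocallyOfFiniteType E.hom] [IsIntegral E.left]
    [GrpObj E'] [LocallyOfFiniteType E'.hom] [IsIntegral E'.left]
    (φ : E ⟶ E') [IsMonHom φ] [IsFinite φ.left] [Etale φ.left]
    (e : φ.left (genericPoint E.left) = genericPoint E'.left)

set_option maxHeartbeats 1600000 in
theorem main :
    letI := ((E'.left.presheaf.stalkSpecializes (specializes_of_eq e) ≫
      φ.left.stalkMap (genericPoint E.left)).hom).toAlgebra
    IsGalois E'.left.functionField E.left.functionField ∧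
      Nat.card (E.left.functionField ≃ₐ[E'.left.functionField] E.left.functionField) =
        Nat.card {P : 𝟙_ (Over (Spec (CommRingCat.of k))) ⟶ E // P ≫ φ = η[E']} := by
  letI algKL : Algebra E'.left.functionField E.left.functionField :=
    (ffMap φ.left e).hom.toAlgebra
  change IsGalois E'.left.functionField E.left.functionField ∧
      Nat.card (E.left.functionField ≃ₐ[E'.left.functionField] E.left.functionField) =
        Nat.card {P : 𝟙_ (Over (Spec (CommRingCat.of k))) ⟶ E // P ≫ φ = η[E']}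
  -- chart
  obtain ⟨_, ⟨W', hW', rfl⟩, he', -⟩ :=
    E'.left.isBasis_affineOpens.exists_subset_of_mem_open
      (Set.mem_univ (η[E'].left.base (pt k))) isOpen_univ
  have hW : IsAffineOpen (φ.left ⁻¹ᵁ W') := hW'.preimage φ.left
  have heW := unit_mem_preimage k E E' φ he'
  haveI : Nonempty W' := ⟨⟨_, he'⟩⟩
  haveI : Nonempty (φ.left ⁻¹ᵁ W' : E.left.Opens) := ⟨⟨_, heW⟩⟩
  let ψ : Γ(E'.left, W') ⟶ Γ(E.left, φ.left ⁻¹ᵁ W') := φ.left.appLE W' (φ.left ⁻¹ᵁ W') le_rfl
  haveI hfrA : IsFractionRing Γ(E'.left, W') E'.left.functionField :=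
    functionField_isFractionRing_of_isAffineOpen E'.left W' hW'
  haveI hfrB : IsFractionRing Γ(E.left, φ.left ⁻¹ᵁ W') E.left.functionField :=
    functionField_isFractionRing_of_isAffineOpen E.left _ hW
  letI algAB : Algebra Γ(E'.left, W') Γ(E.left, φ.left ⁻¹ᵁ W') := ψ.hom.toAlgebra
  letI algAL : Algebra Γ(E'.left, W') E.left.functionField :=
    ((algebraMap Γ(E.left, φ.left ⁻¹ᵁ W') E.left.functionField).comp ψ.hom).toAlgebra
  haveI st1 : IsScalarTower Γ(E'.left, W') Γ(E.left, φ.left ⁻¹ᵁ W') E.left.functionField :=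
    IsScalarTower.of_algebraMap_eq (fun _ => rfl)
  have hgerm := germ_ffMap φ.left e W'
  haveI st2 : IsScalarTower Γ(E'.left, W') E'.left.functionField E.left.functionField :=
    IsScalarTower.of_algebraMap_eq (fun a => by
      have h1 := congrArg (fun f => f.hom a) hgerm
      rw [Scheme.Hom.app_eq_appLE] at h1
      exact h1.symm)
  -- ring-level properties
  haveI : IsLocallyNoetherian E'.left := LocallyOfFiniteType.isLocallyNoetherian E'.hom
  haveI : IsNoetherianRing Γ(E'.left, W') := IsLocallyNoetherian.component_noetherian ⟨W', hW'⟩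
  haveI hfinAB : Module.Finite Γ(E'.left, W') Γ(E.left, φ.left ⁻¹ᵁ W') := by
    have h1 := Scheme.Hom.finite_app φ.left W' hW'
    rw [Scheme.Hom.app_eq_appLE] at h1
    exact h1
  haveI hflAB : Module.Flat Γ(E'.left, W') Γ(E.left, φ.left ⁻¹ᵁ W') := by
    have h1 : ψ.hom.Flat :=
      HasRingHomProperty.appLE @Flat φ.left inferInstance ⟨W', hW'⟩ ⟨_, hW⟩ le_rfl
    exact h1
  haveI hetAB : Algebra.Etale Γ(E'.left, W') Γ(E.left, φ.left ⁻¹ᵁ W') := by
    have h1 : ψ.hom.Etale :=
      HasRingHomProperty.appLE @Etale φ.left inferInstance ⟨W', hW'⟩ ⟨_, hW⟩ le_rfl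
    exact h1
  have hinj : Function.Injective (algebraMap Γ(E'.left, W') Γ(E.left, φ.left ⁻¹ᵁ W')) := by
    intro a a' haa
    have h1 : algebraMap Γ(E'.left, W') E.left.functionField a
        = algebraMap Γ(E'.left, W') E.left.functionField a' := by
      rw [IsScalarTower.algebraMap_apply Γ(E'.left, W') Γ(E.left, φ.left ⁻¹ᵁ W')
        E.left.functionField, haa,
        ← IsScalarTower.algebraMap_apply Γ(E'.left, W') Γ(E.left, φ.left ⁻¹ᵁ W')
        E.left.functionField]
    rw [IsScalarTower.algebraMap_apply Γ(E'.left, W') E'.left.functionField E.left.functionField,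
      IsScalarTower.algebraMap_apply Γ(E'.left, W') E'.left.functionField E.left.functionField]
      at h1
    exact IsFractionRing.injective Γ(E'.left, W') E'.left.functionField
      ((algebraMap E'.left.functionField E.left.functionField).injective h1)
  haveI : FaithfulSMul Γ(E'.left, W') Γ(E.left, φ.left ⁻¹ᵁ W') :=
    (faithfulSMul_iff_algebraMap_injective _ _).mpr hinj
  haveI : Algebra.IsIntegral Γ(E'.left, W') Γ(E.left, φ.left ⁻¹ᵁ W') :=
    Algebra.IsIntegral.of_finite _ _
  haveI hfinKL : Module.Finite E'.left.functionField E.left.functionField :=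
    Module.Finite.of_isLocalization Γ(E'.left, W') Γ(E.left, φ.left ⁻¹ᵁ W')
      (nonZeroDivisors Γ(E'.left, W'))
  -- the automorphism attached to a kernel point
  have hθinj : ∀ (P : Over.mk (𝟙 (Spec (CommRingCat.of k))) ⟶ E) (hP : P ≫ φ = η[E']),
      Function.Injective (theta k E E' φ P hP (W' := W')).hom := by
    intro P hP
    rw [RingHom.injective_iff_ker_eq_bot]
    apply Ideal.eq_bot_of_comap_eq_bot (R := Γ(E'.left, W'))
    rw [eq_bot_iff]
    intro a ha
    rw [Ideal.mem_comap, RingHom.mem_ker] at ha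
    have h1 : (theta k E E' φ P hP (W' := W')).hom (ψ.hom a) = ψ.hom a :=
      congrArg (fun f => f.hom a) (psi_theta k E E' φ P hP (W' := W'))
    have h2 : ψ.hom a = 0 := by rw [← h1]; exact ha
    rw [Ideal.mem_bot]
    exact hinj (by rw [map_zero]; exact h2)
  have hσ : ∀ (P : Over.mk (𝟙 (Spec (CommRingCat.of k))) ⟶ E) (hP : P ≫ φ = η[E']),
      ∃ σ : E.left.functionField →ₐ[E'.left.functionField] E.left.functionField,
        ∀ b : Γ(E.left, φ.left ⁻¹ᵁ W'),
          σ (algebraMap Γ(E.left, φ.left ⁻¹ᵁ W') E.left.functionField b)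
            = algebraMap Γ(E.left, φ.left ⁻¹ᵁ W') E.left.functionField
              ((theta k E E' φ P hP (W' := W')).hom b) := by
    intro P hP
    let g : Γ(E.left, φ.left ⁻¹ᵁ W') →+* E.left.functionField :=
      (algebraMap Γ(E.left, φ.left ⁻¹ᵁ W') E.left.functionField).comp
        (theta k E E' φ P hP (W' := W')).hom
    have hg : Function.Injective g :=
      (IsFractionRing.injective Γ(E.left, φ.left ⁻¹ᵁ W') E.left.functionField).comp (hθinj P hP)
    let σ0 : E.left.functionField →+* E.left.functionField := IsFractionRing.lift hg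
    have hσ0 : ∀ b, σ0 (algebraMap Γ(E.left, φ.left ⁻¹ᵁ W') E.left.functionField b) = g b :=
      fun b => IsFractionRing.lift_algebraMap hg b
    have hcomm : σ0.comp (algebraMap E'.left.functionField E.left.functionField)
        = algebraMap E'.left.functionField E.left.functionField := by
      apply IsLocalization.ringHom_ext (nonZeroDivisors Γ(E'.left, W'))
      ext a
      simp only [RingHom.comp_apply]
      rw [← IsScalarTower.algebraMap_apply Γ(E'.left, W') E'.left.functionField
        E.left.functionField,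
        IsScalarTower.algebraMap_apply Γ(E'.left, W') Γ(E.left, φ.left ⁻¹ᵁ W')
        E.left.functionField, hσ0]
      have h1 : (theta k E E' φ P hP (W' := W')).hom (ψ.hom a) = ψ.hom a :=
        congrArg (fun f => f.hom a) (psi_theta k E E' φ P hP (W' := W'))
      change algebraMap Γ(E.left, φ.left ⁻¹ᵁ W') E.left.functionField
        ((theta k E E' φ P hP (W' := W')).hom (ψ.hom a)) = _
      rw [h1]
      rfl
    exact ⟨{ toRingHom := σ0, commutes' := fun x => congrArg (fun f => f x) hcomm }, hσ0⟩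
  choose σ hσb using hσ
  -- injection from kernel points to automorphisms
  let Ker := {P : 𝟙_ (Over (Spec (CommRingCat.of k))) ⟶ E // P ≫ φ = η[E']}
  let Φ : Ker → (E.left.functionField ≃ₐ[E'.left.functionField] E.left.functionField) :=
    fun P => AlgEquiv.ofBijective (σ P.1 P.2) (AlgHom.bijective (σ P.1 P.2))
  have hΦ : Function.Injective Φ := by
    intro P Q hPQ
    apply Subtype.ext
    apply theta_injective k E E' φ he' hW P.1 Q.1 P.2 Q.2
    ext b
    apply IsFractionRing.injective Γ(E.left, φ.left ⁻¹ᵁ W') E.left.functionField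
    have h1 := congrArg (fun f : (E.left.functionField ≃ₐ[E'.left.functionField]
      E.left.functionField) =>
      f (algebraMap Γ(E.left, φ.left ⁻¹ᵁ W') E.left.functionField b)) hPQ
    change σ P.1 P.2 _ = σ Q.1 Q.2 _ at h1
    rw [hσb, hσb] at h1
    exact h1
  haveI : Finite Ker := Finite.of_injective Φ hΦ
  have c1 : Nat.card Ker ≤
      Nat.card (E.left.functionField ≃ₐ[E'.left.functionField] E.left.functionField) :=
    Nat.card_le_card_of_injective Φ hΦ
  have c2 : Nat.card (E.left.functionField ≃ₐ[E'.left.functionField] E.left.functionField)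
      ≤ Module.finrank E'.left.functionField E.left.functionField := by
    rw [Nat.card_eq_fintype_card]
    exact AlgEquiv.card_le
  -- rank computation
  have c3 := finrank_fractionRing_eq (A := Γ(E'.left, W')) (B := Γ(E.left, φ.left ⁻¹ᵁ W'))
    (K := E'.left.functionField) (L := E.left.functionField) hinj (eps k E' he').hom
  obtain ⟨J, hJ, f, hf, hcard⟩ := exists_injective_ringHom (A := Γ(E'.left, W'))
    (B := Γ(E.left, φ.left ⁻¹ᵁ W')) (eps k E' he').hom
  -- ring maps give kernel points
  have hpt : ∀ i : J, ∃ P : Ker,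
      (beta (𝟙 _) P.1 (point_preimage k E E' φ he' P.1 P.2)).hom = (f i).1 := by
    intro i
    obtain ⟨P, hP, hβ⟩ := exists_point_of_ringHom k E E' φ he' hW' hW
      (CommRingCat.ofHom (f i).1) (by
        ext a
        exact congrArg (fun g : Γ(E'.left, W') →+* k => g a) (f i).2)
    exact ⟨⟨P, hP⟩, congrArg CommRingCat.Hom.hom hβ⟩
  choose g hg using hpt
  have hginj : Function.Injective g := by
    intro i j hij
    apply hf
    apply Subtype.ext
    rw [← hg i, ← hg j, hij]
  have c4 : Nat.card J ≤ Nat.card Ker := Nat.card_le_card_of_injective g hginj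
  have hall : Nat.card (E.left.functionField ≃ₐ[E'.left.functionField] E.left.functionField)
      = Module.finrank E'.left.functionField E.left.functionField := by
    apply le_antisymm c2
    rw [c3, ← hcard]
    exact c4.trans c1
  refine ⟨IsGalois.of_card_aut_eq_finrank _ _ hall, ?_⟩
  apply le_antisymm
  · rw [hall, c3, ← hcard]; exact c4
  · exact c1

end Main

end Groth.Agent.Lib.Helper4.EllGal1
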