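import Mathlib
import Groth.Agent.Lib.Helper4.LocEtale1

/-!
# ring-level etaleness criterion at a rational point with principal local rings (cotangent criterion), and converse (helper4)
-/

set_option backward.isDefEq.respectTransparency.types false
set_option synthInstance.maxHeartbeats 400000
set_option autoImplicit false
set_option linter.unusedSectionVars false
set_option linter.style.haveILetI false
set_option linter.unusedSimpArgs false
universe u v w
open IsLocalRing TensorProduct
open Groth.Agent.Lib.Helper4.LocEtale1

namespace Groth.Agent.Lib.Helper4.EllRing1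

section RingCrit
variable {A B : Type u} [CommRing A] [CommRing B] [IsNoetherianRing A] [IsNoetherianRing B]
  (ψ : A →+* B) (q : Ideal B) [hq : q.IsMaximal]

/-- an element outside `q ^ 2` stays outside the square of the maximal ideal of the local ring -/
lemma not_mem_sq (b : B) (hb : b ∉ q ^ 2) :
    algebraMap B (Localization.AtPrime q) b ∉ maximalIdeal (Localization.AtPrime q) ^ 2 := by
  intro h
  apply hb
  have hmB : maximalIdeal (Localization.AtPrime q) = q.map (algebraMap B (Localization.AtPrime q)) :=
    (Localization.AtPrime.map_eq_maximalIdeal).symm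
  rw [hmB, ← Ideal.map_pow] at h
  have hprim : (q ^ 2).IsPrimary := by
    apply Ideal.isPrimary_of_isMaximal_radical
    rw [Ideal.radical_pow q two_ne_zero, hq.isPrime.radical]
    exact hq
  have hdisj : Disjoint (q.primeCompl : Set B) (q ^ 2 : Ideal B) := by
    rw [Set.disjoint_left]
    intro x hx hx2
    exact hx (Ideal.pow_le_self two_ne_zero hx2)
  have := IsLocalization.under_map_of_isPrimary_disjoint q.primeCompl (Localization.AtPrime q)
    hprim hdisj
  rw [← this]
  exact h



variable [IsDomain (Localization.AtPrime (q.comap ψ))]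
  [IsPrincipalIdealRing (Localization.AtPrime (q.comap ψ))]
  [IsDomain (Localization.AtPrime q)] [IsPrincipalIdealRing (Localization.AtPrime q)]
  (c : A) (hc : c ∈ q.comap ψ) (hc2 : ψ c ∉ q ^ 2)
  (hres : ∀ b : B, ∃ a : A, b - ψ a ∈ q)

include hc hc2 in
lemma map_maximalIdeal_PID :
    (maximalIdeal (Localization.AtPrime (q.comap ψ))).map
      (Localization.localRingHom (q.comap ψ) q ψ rfl) = maximalIdeal (Localization.AtPrime q) := by
  let ιA := algebraMap A (Localization.AtPrime (q.comap ψ))
  let ιB := algebraMap B (Localization.AtPrime q)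
  let L := Localization.localRingHom (q.comap ψ) q ψ rfl
  have hcompat : ∀ x, L (ιA x) = ιB (ψ x) := fun x =>
    Localization.localRingHom_to_map (q.comap ψ) q ψ rfl x
  apply le_antisymm
  · exact ((IsLocalRing.local_hom_TFAE L).out 0 2).mp
      (Localization.isLocalHom_localRingHom (q.comap ψ) q ψ rfl)
  · obtain ⟨π, hπ⟩ := (IsPrincipalIdealRing.principal (maximalIdeal (Localization.AtPrime q))).principal
    have hx : ιB (ψ c) ∈ maximalIdeal (Localization.AtPrime q) := by
      rw [← Localization.AtPrime.map_eq_maximalIdeal]
      exact Ideal.mem_map_of_mem _ hc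
    have hx2 := not_mem_sq q (ψ c) hc2
    have hx' := hx
    rw [hπ, Submodule.mem_span_singleton] at hx'
    obtain ⟨y, hy⟩ := hx'
    have hyu : IsUnit y := by
      by_contra hyn
      apply hx2
      have hym : y ∈ maximalIdeal (Localization.AtPrime q) := (IsLocalRing.mem_maximalIdeal y).mpr hyn
      have hπm : π ∈ maximalIdeal (Localization.AtPrime q) := by
        rw [hπ]; exact Submodule.mem_span_singleton_self π
      rw [← hy, pow_two]
      exact Ideal.mul_mem_mul hym hπm
    have hπx : π ∈ (maximalIdeal (Localization.AtPrime (q.comap ψ))).map L := by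
      have h1 : L (ιA c) ∈ (maximalIdeal (Localization.AtPrime (q.comap ψ))).map L := by
        apply Ideal.mem_map_of_mem
        rw [← Localization.AtPrime.map_eq_maximalIdeal]
        exact Ideal.mem_map_of_mem _ hc
      rw [hcompat, ← hy] at h1
      have h2 := Ideal.mul_mem_left _ (↑hyu.unit⁻¹ : Localization.AtPrime q) h1
      rw [smul_eq_mul, ← mul_assoc, IsUnit.val_inv_mul, one_mul] at h2
      exact h2
    rw [hπ, Submodule.span_singleton_le_iff_mem]
    exact hπx



include hc hc2 in
lemma injective_PID :
    Function.Injective (Localization.localRingHom (q.comap ψ) q ψ rfl) := by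
  let L := Localization.localRingHom (q.comap ψ) q ψ rfl
  change Function.Injective L
  rw [RingHom.injective_iff_ker_eq_bot]
  by_contra hne
  have hprime : (RingHom.ker L).IsPrime := RingHom.ker_isPrime L
  have hmax : (RingHom.ker L).IsMaximal := hprime.isMaximal hne
  have hk : RingHom.ker L = maximalIdeal _ := IsLocalRing.eq_maximalIdeal hmax
  have hmm := map_maximalIdeal_PID ψ q c hc hc2
  have h0 : (RingHom.ker L).map L = ⊥ := (Ideal.map_eq_bot_iff_le_ker L).mpr le_rfl
  rw [← hk] at hmm
  change (RingHom.ker L).map L = _ at hmm
  rw [h0] at hmm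
  apply not_mem_sq q (ψ c) hc2
  rw [← hmm]
  have hx : algebraMap B (Localization.AtPrime q) (ψ c) ∈ maximalIdeal (Localization.AtPrime q) := by
    rw [← Localization.AtPrime.map_eq_maximalIdeal]
    exact Ideal.mem_map_of_mem _ hc
  rw [← hmm, Ideal.mem_bot] at hx
  rw [hx]
  exact Ideal.zero_mem _

include hc hc2 hres in
/-- **Ring-level criterion (principal local rings)**: if the local rings are principal domains and
some element of the maximal ideal downstairs maps outside the square of the maximal ideal upstairs,
the map is étale at the (rational) point. -/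
theorem isEtaleAt_PID (hfp : ψ.FinitePresentation) :
    letI := ψ.toAlgebra
    Algebra.IsEtaleAt A q := by
  letI := ψ.toAlgebra
  have : Algebra.FinitePresentation A B := hfp
  have hLO : q.LiesOver (q.comap ψ) := ⟨rfl⟩
  letI := Localization.AtPrime.algebraOfLiesOver (q.comap ψ) q
  have hmm := map_maximalIdeal_PID ψ q c hc hc2
  have hinj := injective_PID ψ q c hc hc2
  have : Module.Flat (Localization.AtPrime (q.comap ψ)) (Localization.AtPrime q) := by
    rw [Module.Flat.flat_iff_torsion_eq_bot_of_isBezout,
      ← Submodule.isTorsionFree_iff_torsion_eq_bot, Module.isTorsionFree_iff_algebraMap_injective]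
    exact hinj
  have : Algebra.IsUnramifiedAt A q := by
    rw [Algebra.isUnramifiedAt_iff_map_eq A (q.comap ψ) q]
    refine ⟨?_, ?_⟩
    · refine ⟨fun y => ?_⟩
      obtain ⟨b, rfl⟩ := Ideal.algebraMap_residueField_surjective q y
      obtain ⟨a, ha⟩ := hres b
      have h0 : algebraMap B q.ResidueField (b - ψ a) = 0 :=
        Ideal.algebraMap_residueField_eq_zero.mpr ha
      rw [map_sub, sub_eq_zero] at h0
      rw [h0]
      have : algebraMap B q.ResidueField (ψ a)
          = algebraMap (q.comap ψ).ResidueField q.ResidueField
            (algebraMap A (q.comap ψ).ResidueField a) := by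
        rw [← IsScalarTower.algebraMap_apply A (q.comap ψ).ResidueField q.ResidueField,
          IsScalarTower.algebraMap_apply A B q.ResidueField]
        rfl
      rw [this]
      exact isSeparable_algebraMap _
    · rw [← hmm, ← Localization.AtPrime.map_eq_maximalIdeal, Ideal.map_map]
      congr 1
      exact RingHom.ext fun x =>
        (Localization.localRingHom_to_map (q.comap ψ) q ψ rfl x).symm ▸ rfl
  exact isEtaleAt_of_flat_of_isUnramifiedAt (q.comap ψ) q

end RingCrit


section Conv
variable {A B : Type u} [CommRing A] [CommRing B] [IsNoetherianRing B] [Algebra A B]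
  (q : Ideal B) [hq : q.IsMaximal]

/-- converse: unramified at a non-generic maximal point gives an element whose image is not in
the square of the maximal ideal -/
lemma exists_not_mem_sq_of_isUnramifiedAt [Algebra.EssFiniteType A B]
    [Algebra.IsUnramifiedAt A q]
    (hnf : ¬ IsField (Localization.AtPrime q)) :
    ∃ c ∈ q.comap (algebraMap A B), algebraMap A B c ∉ q ^ 2 := by
  by_contra hcon
  push Not at hcon
  apply hnf
  rw [IsLocalRing.isField_iff_maximalIdeal_eq]
  have hLO : q.LiesOver (q.comap (algebraMap A B)) := ⟨rfl⟩
  letI := Localization.AtPrime.algebraOfLiesOver (q.comap (algebraMap A B)) q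
  have hu := ((Algebra.isUnramifiedAt_iff_map_eq A (q.comap (algebraMap A B)) q).mp inferInstance).2
  have hmB : maximalIdeal (Localization.AtPrime q) = q.map (algebraMap B (Localization.AtPrime q)) :=
    (Localization.AtPrime.map_eq_maximalIdeal).symm
  have hle : maximalIdeal (Localization.AtPrime q) ≤
      maximalIdeal (Localization.AtPrime q) • maximalIdeal (Localization.AtPrime q) := by
    rw [smul_eq_mul, ← pow_two]
    conv_lhs => rw [← hu]
    rw [Ideal.map_le_iff_le_comap]
    intro c hc
    rw [Ideal.mem_comap, IsScalarTower.algebraMap_apply A B (Localization.AtPrime q), hmB,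
      ← Ideal.map_pow]
    exact Ideal.mem_map_of_mem _ (hcon c hc)
  exact Submodule.eq_bot_of_le_smul_of_le_jacobson_bot _ _ (IsNoetherian.noetherian _)
    hle (IsLocalRing.maximalIdeal_le_jacobson _)

end Conv

end Groth.Agent.Lib.Helper4.EllRing1
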