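import Mathlib
import Groth.Prelude.Def_AlgGrp
import Groth.Agent.Lib.Helper4.GrpArtin2

/-!
# rigidity into etale morphisms; etale equivariant maps reflect fixed points (S17681) (helper4)
-/

set_option backward.isDefEq.respectTransparency.types false
set_option synthInstance.maxHeartbeats 400000
set_option autoImplicit false
set_option linter.unusedSectionVars false
set_option linter.style.haveILetI false
set_option linter.unusedSimpArgs false
universe u v w
open CategoryTheory CategoryTheory.Limits AlgebraicGeometry TopologicalSpace Opposite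
open MonoidalCategory CartesianMonoidalCategory MonObj GrpObj

namespace Groth.Agent.Lib.Helper4.EtaleRigid1

/-- a preconnected subset of a discrete subset is subsingleton -/
lemma subsingleton_of_isPreconnected_of_isDiscrete {α : Type*} [TopologicalSpace α] {s t : Set α}
    (hs : _root_.IsPreconnected s) (ht : _root_.IsDiscrete t) (hst : s ⊆ t) : s.Subsingleton := by
  intro a ha b hb
  by_contra hab
  obtain ⟨u, hu, hut⟩ := (isDiscrete_iff_forall_subset_exists_isOpen.mp ht) {a}
    (Set.singleton_subset_iff.mpr (hst ha))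
  obtain ⟨v, hv, hvt⟩ := (isDiscrete_iff_forall_subset_exists_isOpen.mp ht) (t \ {a})
    Set.diff_subset
  have hau : a ∈ u := by
    have : a ∈ u ∩ t := by rw [hut]; rfl
    exact this.1
  have hbv : b ∈ v := by
    have : b ∈ v ∩ t := by rw [hvt]; exact ⟨hst hb, fun h => hab h.symm⟩
    exact this.1
  have hcov : s ⊆ u ∪ v := by
    intro c hc
    by_cases hca : c = a
    · left; rw [hca]; exact hau
    · right
      have : c ∈ v ∩ t := by rw [hvt]; exact ⟨hst hc, hca⟩
      exact this.1
  obtain ⟨c, hc, hcu, hcv⟩ := hs u v hu hv hcov ⟨a, ha, hau⟩ ⟨b, hb, hbv⟩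
  have h1 : c ∈ u ∩ t := ⟨hcu, hst hc⟩
  have h2 : c ∈ v ∩ t := ⟨hcv, hst hc⟩
  rw [hut] at h1
  rw [hvt] at h2
  exact h2.2 h1

/-- étale morphisms are locally quasi-finite -/
theorem lqf_of_etale {X Y : Scheme.{u}} (f : X ⟶ Y) [Etale f] : LocallyQuasiFinite f := by
  rw [HasRingHomProperty.iff_appLE (P := @LocallyQuasiFinite)]
  intro U V e
  have h1 := (HasRingHomProperty.iff_appLE (P := @FormallyUnramified)).mp inferInstance U V e
  have h2 := (HasRingHomProperty.iff_appLE (P := @LocallyOfFiniteType)).mp inferInstance U V e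
  algebraize [(f.appLE U V e).hom]
  rw [← RingHom.algebraMap_toAlgebra (f.appLE U V e).hom, RingHom.quasiFinite_algebraMap]
  infer_instance

/-- rigidity into an étale morphism: two lifts of a fibrewise constant map, agreeing on a section
of a morphism with geometrically connected fibres, are equal -/
theorem etale_rigidity {P T X Y : Scheme.{u}} (q : P ⟶ T) [GeometricallyConnected q] (e : T ⟶ P)
    (he : e ≫ q = 𝟙 T) (f : X ⟶ Y) [Etale f] (φ ψ : P ⟶ X) (y : T ⟶ Y)
    (h1 : φ ≫ f = ψ ≫ f) (h2 : ψ ≫ f = q ≫ y) (h3 : e ≫ φ = e ≫ ψ) : φ = ψ := by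
  haveI : IsOpenImmersion (pullback.diagonal f) := inferInstance
  obtain ⟨c, hc⟩ : ∃ c : P ⟶ pullback f f, c = pullback.lift φ ψ h1 := ⟨_, rfl⟩
  have hc1 : c ≫ pullback.fst f f = φ := by rw [hc, pullback.lift_fst]
  have hc2 : c ≫ pullback.snd f f = ψ := by rw [hc, pullback.lift_snd]
  obtain ⟨r, hr⟩ : ∃ r : pullback f f ⟶ Y, r = pullback.fst f f ≫ f := ⟨_, rfl⟩
  haveI : Etale r := by rw [hr]; infer_instance
  haveI : LocallyQuasiFinite r := lqf_of_etale r
  have hcr : c ≫ r = q ≫ y := by rw [hr, ← Category.assoc, hc1, h1, h2]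
  have hec : e ≫ c = (e ≫ φ) ≫ pullback.diagonal f := by
    rw [hc]
    apply pullback.hom_ext
    · rw [Category.assoc, pullback.lift_fst, Category.assoc, pullback.diagonal_fst,
        Category.comp_id]
    · rw [Category.assoc, pullback.lift_snd, Category.assoc, pullback.diagonal_snd,
        Category.comp_id, h3]
  have hrange : Set.range c ⊆ Set.range (pullback.diagonal f) := by
    rintro _ ⟨p, rfl⟩
    -- the fibre of q through p
    have hconn := (q.isConnected_preimage_singleton (q p)).isPreconnected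
    have himg : _root_.IsPreconnected (c '' (q ⁻¹' {q p})) :=
      hconn.image _ c.continuous.continuousOn
    have hdisc : _root_.IsDiscrete (r ⁻¹' {y (q p)}) := r.isDiscrete_preimage_singleton _
    have hsub : c '' (q ⁻¹' {q p}) ⊆ r ⁻¹' {y (q p)} := by
      rintro _ ⟨p', hp', rfl⟩
      show r (c p') = y (q p)
      have h4 : r (c p') = (c ≫ r) p' := rfl
      rw [h4, hcr]
      show y (q p') = y (q p)
      rw [show q p' = q p from hp']
    have hss := subsingleton_of_isPreconnected_of_isDiscrete himg hdisc hsub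
    have hp1 : c p ∈ c '' (q ⁻¹' {q p}) := ⟨p, rfl, rfl⟩
    have hp2 : c (e (q p)) ∈ c '' (q ⁻¹' {q p}) := by
      refine ⟨e (q p), ?_, rfl⟩
      show q (e (q p)) = q p
      have : q (e (q p)) = (e ≫ q) (q p) := rfl
      rw [this, he]; rfl
    rw [hss hp1 hp2]
    have : c (e (q p)) = (e ≫ c) (q p) := rfl
    rw [this, hec]
    exact ⟨(e ≫ φ) (q p), rfl⟩
  have hfac := IsOpenImmersion.lift_fac (pullback.diagonal f) c hrange
  rw [← hc1, ← hc2, ← hfac, Category.assoc, Category.assoc, pullback.diagonal_fst,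
    pullback.diagonal_snd]

theorem main_S17681 (S : Scheme.{u})
    (G : Over S) [GrpObj G] (hconn : ∀ s : S, ConnectedSpace (G.hom.fiber s))
    (X Y : Over S)
    (a : AlgGrp.Action G X) (b : AlgGrp.Action G Y) (f : X ⟶ Y) [Etale f.left]
    (hf : a.act ≫ f = (G ◁ f) ≫ b.act) (T : Over S) (x : T ⟶ X)
    (hx : ∀ (T' : Over S) (t : T' ⟶ T) (g : T' ⟶ G), lift g (t ≫ x ≫ f) ≫ b.act = t ≫ x ≫ f)
    (T' : Over S) (t : T' ⟶ T) (g : T' ⟶ G) : lift g (t ≫ x) ≫ a.act = t ≫ x := by
  haveI : GeometricallyConnected G.hom := by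
    rw [GeometricallyConnected.iff_geometricallyConnected_fiber]
    intro s
    haveI := hconn s
    exact Groth.Agent.Lib.Helper4.GrpArtin2.geomConn_fibre G.hom η[G].left (Over.w η[G]) s
  have huniv : lift (fst G T) (snd G T ≫ x) ≫ a.act = snd G T ≫ x := by
    haveI : GeometricallyConnected (snd G T).left := by
      rw [Over.snd_left]
      infer_instance
    ext1
    refine etale_rigidity (snd G T).left (lift (toUnit T ≫ η[G]) (𝟙 T)).left ?_ f.left _ _
      (x ≫ f).left ?_ ?_ ?_
    · rw [← Over.comp_left, lift_snd]; rfl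
    · rw [← Over.comp_left, ← Over.comp_left]
      congr 1
      rw [Category.assoc, hf, ← Category.assoc, lift_whiskerLeft, Category.assoc]
      exact hx (G ⊗ T) (snd G T) (fst G T)
    · rw [← Over.comp_left, ← Over.comp_left, Category.assoc]
    · rw [← Over.comp_left, ← Over.comp_left]
      congr 1
      rw [← Category.assoc, comp_lift, lift_fst, ← Category.assoc, lift_snd, Category.id_comp]
      have : lift (toUnit T ≫ η[G]) x = lift (toUnit T) x ≫ (η[G] ▷ X) := by
        rw [lift_whiskerRight]
      rw [this, Category.assoc, a.one_act, lift_leftUnitor_hom]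
  have : lift g (t ≫ x) = lift g t ≫ lift (fst G T) (snd G T ≫ x) := by
    rw [comp_lift, lift_fst, ← Category.assoc, lift_snd]
  rw [this, Category.assoc, huniv, ← Category.assoc, lift_snd]

end Groth.Agent.Lib.Helper4.EtaleRigid1
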