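import Mathlib
import Groth.Prelude.Def_AlgGrp
import Groth.Agent.Lib.Helper4.EllRing1
import Groth.Agent.Lib.Helper4.EllTan1
import Groth.Agent.Lib.Helper4.BirationalNormal1
import Groth.Agent.Lib.Helper2.Sch.SmoothFieldRegular
import Groth.Agent.Lib.Helper4.DimFT4
import Groth.Agent.Lib.Helper4.EtaleRigid1
import Groth.Agent.Lib.Helper4.AbCentral1

/-!
# elliptic curves: cotangent criterion for etaleness at the unit; sum of a separable isogeny and a non-etale homomorphism is a separable isogeny (helper4)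
-/

set_option backward.isDefEq.respectTransparency.types false
set_option synthInstance.maxHeartbeats 400000
set_option autoImplicit false
set_option linter.unusedSectionVars false
set_option linter.style.haveILetI false
set_option linter.unusedSimpArgs false
universe u v w
open CategoryTheory CategoryTheory.Limits AlgebraicGeometry TopologicalSpace Opposite
open MonoidalCategory CartesianMonoidalCategory MonObj GrpObj
open Groth.Agent.Lib.Helper4.InfGrp1 Groth.Agent.Lib.Helper4.PowEtale1 Groth.Agent.Lib.Helper4.PowEtale2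
open Groth.Agent.Lib.Helper4.EllRing1 Groth.Agent.Lib.Helper4.EllTan1

namespace Groth.Agent.Lib.Helper4.EllSum1

section Chart
variable (k : Type u) [Field k] (G : Over (Spec (CommRingCat.of k))) [GrpObj G]
variable {V : G.left.Opens} (hV : IsAffineOpen V) (heV : η[G].left.base (pt k) ∈ V)

include hV in
lemma primeIdealOf_eq :
    (hV.primeIdealOf ⟨η[G].left.base (pt k), heV⟩).asIdeal = RingHom.ker (eps k G heV).hom := by
  have hx1 : (1 : Over.mk (𝟙 (Spec (CommRingCat.of k))) ⟶ G).left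
      = Spec.map (eps k G heV) ≫ hV.fromSpec :=
    (specMap_beta (𝟙 _) hV 1 (one_preimage (𝟙 _) (pt k) (eq_pt k _) heV)).symm
  have h2 : η[G].left.base (pt k)
      = (1 : Over.mk (𝟙 (Spec (CommRingCat.of k))) ⟶ G).left.base (pt k) := rfl
  have h3 : hV.fromSpec.base (hV.primeIdealOf ⟨η[G].left.base (pt k), heV⟩)
      = hV.fromSpec.base ((Spec.map (eps k G heV)).base (pt k)) := by
    rw [hV.fromSpec_primeIdealOf]
    change η[G].left.base (pt k) = _
    rw [h2, hx1]
    rfl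
  have h4 := hV.fromSpec.isOpenEmbedding.injective h3
  rw [h4]
  ext b
  change b ∈ Ideal.comap (eps k G heV).hom (IsLocalRing.maximalIdeal k) ↔ _
  rw [Ideal.mem_comap, IsLocalRing.maximalIdeal_eq_bot, Ideal.mem_bot, RingHom.mem_ker]



include hV in
/-- the local ring at the unit of a smooth integral group scheme of dimension `≤ 1` is a principal
ideal domain (chart version) -/
theorem pid_localization [Smooth G.hom] [IsIntegral G.left]
    (hdim : topologicalKrullDim G.left ≤ 1) :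
    ∀ (p : Ideal Γ(G.left, V)) [p.IsPrime], p = RingHom.ker (eps k G heV).hom →
      IsDomain (Localization.AtPrime p) ∧ IsPrincipalIdealRing (Localization.AtPrime p) := by
  intro p hp hpe
  have hp' : (hV.primeIdealOf ⟨η[G].left.base (pt k), heV⟩).asIdeal = p := by
    rw [hpe]; exact primeIdealOf_eq k G hV heV
  subst hp'
  set x := η[G].left.base (pt k) with hx
  letI := G.left.presheaf.algebra_section_stalk (U := V) ⟨x, heV⟩
  haveI := hV.isLocalization_stalk ⟨x, heV⟩
  let R := G.left.presheaf.stalk x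
  let e : Localization.AtPrime (hV.primeIdealOf ⟨x, heV⟩).asIdeal ≃ₐ[Γ(G.left, V)] R :=
    IsLocalization.algEquiv (hV.primeIdealOf ⟨x, heV⟩).asIdeal.primeCompl _ _
  haveI : IsRegularLocalRing R := Groth.Agent.Helper2.SmoothFieldRegular.S1535_main k G.hom x
  have hdimR : ringKrullDim R ≤ 1 :=
    (Groth.Agent.Lib.Helper4.BirationalNormal1.ringKrullDim_stalk_le_topologicalKrullDim
      G.left x).trans hdim
  have hfr := (IsRegularLocalRing.iff_finrank_cotangentSpace R).mp inferInstance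
  have hle : Module.finrank (IsLocalRing.ResidueField R) (IsLocalRing.CotangentSpace R) ≤ 1 := by
    rw [← hfr] at hdimR
    exact_mod_cast hdimR
  haveI : IsPrincipalIdealRing R :=
    ((tfae_of_isNoetherianRing_of_isLocalRing_of_isDomain R).out 5 0).mp hle
  refine ⟨MulEquiv.isDomain R e.toRingEquiv.toMulEquiv, ?_⟩
  exact IsPrincipalIdealRing.of_surjective e.symm.toRingEquiv.toRingHom e.symm.surjective

end Chart


section Crit
variable (k : Type u) [Field k] (G₁ G₂ : Over (Spec (CommRingCat.of k))) [GrpObj G₁] [GrpObj G₂]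
  [Smooth G₁.hom] [IsIntegral G₁.left] [Smooth G₂.hom] [IsIntegral G₂.left]
  (hd₁ : topologicalKrullDim G₁.left ≤ 1) (hd₂ : topologicalKrullDim G₂.left ≤ 1)
variable {W : G₂.left.Opens} {V : G₁.left.Opens} (hW : IsAffineOpen W)
  (he : η[G₂].left.base (pt k) ∈ W)
  (hV : IsAffineOpen V) (heV : η[G₁].left.base (pt k) ∈ V)

include hd₁ hd₂ hW hV in
/-- **cotangent criterion**: a unit-preserving morphism of smooth integral group schemes of
dimension `≤ 1` whose cotangent map at the unit is nonzero is étale near the unit -/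
theorem etale_near_unit_of_tangent (f : G₁ ⟶ G₂) (hf : η[G₁] ≫ f = η[G₂])
    (hle : V ≤ f.left ⁻¹ᵁ W) (c : Γ(G₂.left, W)) (hc : (eps k G₂ he).hom c = 0)
    (hc2 : (f.left.appLE W V hle).hom c ∉ RingHom.ker (eps k G₁ heV).hom ^ 2) :
    ∃ U : G₁.left.Opens, η[G₁].left.base (pt k) ∈ U ∧ Etale (U.ι ≫ f.left) := by
  let ψ : Γ(G₂.left, W) →+* Γ(G₁.left, V) := (f.left.appLE W V hle).hom
  let q : Ideal Γ(G₁.left, V) := RingHom.ker (eps k G₁ heV).hom
  have hεsurj : Function.Surjective (eps k G₁ heV).hom := fun x =>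
    ⟨(sig hV).hom x, congrArg (fun f => f.hom x) (sig_eps k G₁ hV heV)⟩
  haveI hqmax : q.IsMaximal := RingHom.ker_isMaximal_of_surjective _ hεsurj
  have hψε : ∀ c, (eps k G₁ heV).hom (ψ c) = (eps k G₂ he).hom c := fun c =>
    congrArg (fun f => f.hom c) (appLE_eps₂ k G₁ G₂ he heV f hf hle)
  have hcomap : q.comap ψ = RingHom.ker (eps k G₂ he).hom := by
    ext c
    simp only [Ideal.mem_comap, q, RingHom.mem_ker, hψε]
  haveI : IsLocallyNoetherian G₁.left := LocallyOfFiniteType.isLocallyNoetherian G₁.hom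
  haveI : IsLocallyNoetherian G₂.left := LocallyOfFiniteType.isLocallyNoetherian G₂.hom
  haveI : IsNoetherianRing Γ(G₂.left, W) := IsLocallyNoetherian.component_noetherian ⟨W, hW⟩
  haveI : IsNoetherianRing Γ(G₁.left, V) := IsLocallyNoetherian.component_noetherian ⟨V, hV⟩
  obtain ⟨hd1, hp1⟩ := pid_localization k G₁ hV heV hd₁ q rfl
  obtain ⟨hd2, hp2⟩ := pid_localization k G₂ hW he hd₂ (q.comap ψ) hcomap
  have hres : ∀ b : Γ(G₁.left, V), ∃ a : Γ(G₂.left, W), b - ψ a ∈ q := by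
    intro b
    refine ⟨(sig hW).hom ((eps k G₁ heV).hom b), ?_⟩
    simp only [q, RingHom.mem_ker, map_sub, hψε]
    rw [sub_eq_zero]
    exact (congrArg (fun f => f.hom ((eps k G₁ heV).hom b)) (sig_eps k G₂ hW he)).symm
  have hw : f.left ≫ G₂.hom = G₁.hom := Over.w _
  haveI : LocallyOfFiniteType (f.left ≫ G₂.hom) := by rw [hw]; infer_instance
  haveI : LocallyOfFiniteType f.left := locallyOfFiniteType_of_comp _ G₂.hom
  haveI : LocallyOfFinitePresentation f.left :=
    LocallyOfFinitePresentation.iff_locallyOfFiniteType.mpr inferInstance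
  have hfp : ψ.FinitePresentation :=
    HasRingHomProperty.appLE @LocallyOfFinitePresentation _ inferInstance ⟨W, hW⟩ ⟨_, hV⟩ hle
  have hc' : c ∈ q.comap ψ := by rw [hcomap, RingHom.mem_ker]; exact hc
  have H := isEtaleAt_PID ψ q c hc' hc2 hres hfp
  obtain ⟨r, hrq, hr⟩ := exists_etale_appLE_of_isEtaleAt _ hW hV hle hfp q H
  refine ⟨G₁.left.basicOpen r, unit_mem_basicOpen k G₁ hV heV r ?_,
    etale_ι_comp_of_appLE _ hW (hV.basicOpen r) _ hr⟩
  simpa [q, RingHom.mem_ker] using hrq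

end Crit


section Conv
variable (k : Type u) [Field k] (G₁ G₂ : Over (Spec (CommRingCat.of k))) [GrpObj G₁] [GrpObj G₂]
  [LocallyOfFiniteType G₁.hom] [IsIntegral G₁.left]
  (hd₁ : topologicalKrullDim G₁.left = 1)
variable {W : G₂.left.Opens} {V : G₁.left.Opens} (hW : IsAffineOpen W)
  (he : η[G₂].left.base (pt k) ∈ W)
  (hV : IsAffineOpen V) (heV : η[G₁].left.base (pt k) ∈ V)

include hd₁ hV in
lemma not_isField_localization (q : Ideal Γ(G₁.left, V)) [q.IsPrime]
    (hq : q = RingHom.ker (eps k G₁ heV).hom) :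
    ¬ IsField (Localization.AtPrime q) := by
  intro hF
  have hεsurj : Function.Surjective (eps k G₁ heV).hom := fun x =>
    ⟨(sig hV).hom x, congrArg (fun f => f.hom x) (sig_eps k G₁ hV heV)⟩
  haveI hqmax : q.IsMaximal := by
    rw [hq]; exact RingHom.ker_isMaximal_of_surjective _ hεsurj
  haveI : Nonempty V := ⟨⟨_, heV⟩⟩
  have hm : IsLocalRing.maximalIdeal (Localization.AtPrime q) = ⊥ :=
    IsLocalRing.isField_iff_maximalIdeal_eq.mp hF
  rw [← Localization.AtPrime.map_eq_maximalIdeal, Ideal.map_eq_bot_iff_le_ker] at hm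
  have hinj : Function.Injective (algebraMap Γ(G₁.left, V) (Localization.AtPrime q)) :=
    IsLocalization.injective (Localization.AtPrime q) q.primeCompl_le_nonZeroDivisors
  rw [(RingHom.injective_iff_ker_eq_bot _).mp hinj, le_bot_iff] at hm
  have hfield : IsField Γ(G₁.left, V) := by
    rw [Ring.isField_iff_maximal_bot]
    rw [← hm]; exact hqmax
  have h0 : ringKrullDim Γ(G₁.left, V) = 0 := ringKrullDim_eq_zero_of_isField hfield
  letI : G₁.left.Over (Spec (CommRingCat.of k)) := ⟨G₁.hom⟩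
  haveI : LocallyOfFiniteType (G₁.left ↘ Spec (CommRingCat.of k)) :=
    inferInstanceAs (LocallyOfFiniteType G₁.hom)
  have h1 := Groth.Agent.Lib.Helper4.DimFT4.S1618_main k G₁.left V ⟨_, heV⟩
  have h2 := Groth.Agent.Lib.Helper4.DimFT3.topologicalKrullDim_affineOpen hV
  rw [h0] at h2
  rw [hd₁] at h1
  have h3 : topologicalKrullDim ↥(V : Set G₁.left) = 1 := h1
  rw [h2] at h3
  exact zero_ne_one h3



include hd₁ hW hV in
/-- converse of the cotangent criterion: an étale unit-preserving morphism from a one-dimensional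
integral group scheme has nonzero cotangent map at the unit -/
theorem exists_tangent_of_etale (f : G₁ ⟶ G₂) (hf : η[G₁] ≫ f = η[G₂]) [Etale f.left]
    (hle : V ≤ f.left ⁻¹ᵁ W) :
    ∃ c : Γ(G₂.left, W), (eps k G₂ he).hom c = 0 ∧
      (f.left.appLE W V hle).hom c ∉ RingHom.ker (eps k G₁ heV).hom ^ 2 := by
  let ψ : Γ(G₂.left, W) →+* Γ(G₁.left, V) := (f.left.appLE W V hle).hom
  let q : Ideal Γ(G₁.left, V) := RingHom.ker (eps k G₁ heV).hom
  have hεsurj : Function.Surjective (eps k G₁ heV).hom := fun x =>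
    ⟨(sig hV).hom x, congrArg (fun f => f.hom x) (sig_eps k G₁ hV heV)⟩
  haveI hqmax : q.IsMaximal := RingHom.ker_isMaximal_of_surjective _ hεsurj
  have hψε : ∀ c, (eps k G₁ heV).hom (ψ c) = (eps k G₂ he).hom c := fun c =>
    congrArg (fun f => f.hom c) (appLE_eps₂ k G₁ G₂ he heV f hf hle)
  have hEt : ψ.Etale := HasRingHomProperty.appLE @Etale _ inferInstance ⟨W, hW⟩ ⟨V, hV⟩ hle
  letI := ψ.toAlgebra
  haveI : Algebra.Etale Γ(G₂.left, W) Γ(G₁.left, V) := hEt
  haveI : IsLocallyNoetherian G₁.left := LocallyOfFiniteType.isLocallyNoetherian G₁.hom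
  haveI : IsNoetherianRing Γ(G₁.left, V) := IsLocallyNoetherian.component_noetherian ⟨V, hV⟩
  haveI : Algebra.IsUnramifiedAt Γ(G₂.left, W) q := inferInstance
  obtain ⟨c, hc, hc2⟩ := exists_not_mem_sq_of_isUnramifiedAt (A := Γ(G₂.left, W)) q
    (not_isField_localization k G₁ hd₁ hV heV q rfl)
  refine ⟨c, ?_, hc2⟩
  rw [← hψε]
  exact hc

end Conv


section Main
open Groth.Agent.Lib.Helper4.AbCentral1
variable (k : Type u) [Field k] [IsAlgClosed k]
    (E₁ E₂ : Over (Spec (CommRingCat.of k)))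
    [GrpObj E₁] [IsProper E₁.hom] [Smooth E₁.hom] [IsIntegral E₁.left]
    (hE₁ : topologicalKrullDim E₁.left = 1)
    [GrpObj E₂] [IsProper E₂.hom] [Smooth E₂.hom] [IsIntegral E₂.left]
    (hE₂ : topologicalKrullDim E₂.left = 1)
    (φ φ' : E₁ ⟶ E₂) [IsMonHom φ] [IsMonHom φ'] [Etale φ.left]
    (hφ' : ¬ Etale φ'.left)

include hE₁ hE₂ hφ' in
theorem etale_mul : IsMonHom (φ * φ') ∧ Etale (φ * φ').left := by
  have hcomm : (snd E₁ E₁ ≫ φ) * (fst E₁ E₁ ≫ φ') = (fst E₁ E₁ ≫ φ') * (snd E₁ E₁ ≫ φ) := by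
    have := comm_of_proper E₂ E₂ (𝟙 E₂) (snd E₁ E₁ ≫ φ) (fst E₁ E₁ ≫ φ')
    rwa [Category.comp_id] at this
  haveI hmon : IsMonHom (φ * φ') := isMonHom_mul φ φ' hcomm
  refine ⟨hmon, ?_⟩
  have hd₁ : topologicalKrullDim E₁.left ≤ 1 := hE₁.le
  have hd₂ : topologicalKrullDim E₂.left ≤ 1 := hE₂.le
  -- charts
  obtain ⟨_, ⟨W, hW, rfl⟩, he, -⟩ :=
    E₂.left.isBasis_affineOpens.exists_subset_of_mem_open
      (Set.mem_univ (η[E₂].left.base (pt k))) isOpen_univ
  have hunit : ∀ (f : E₁ ⟶ E₂) [IsMonHom f],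
      f.left.base (η[E₁].left.base (pt k)) = η[E₂].left.base (pt k) := fun f _ =>
    congrArg (fun g : 𝟙_ (Over (Spec (CommRingCat.of k))) ⟶ E₂ => g.left.base (pt k))
      (IsMonHom.one_hom (f := f))
  have he2 : η[E₁].left.base (pt k) ∈
      (φ.left ⁻¹ᵁ W ⊓ φ'.left ⁻¹ᵁ W ⊓ (φ * φ').left ⁻¹ᵁ W : E₁.left.Opens) := by
    refine ⟨⟨?_, ?_⟩, ?_⟩
    · change φ.left.base _ ∈ W; rw [hunit φ]; exact he
    · change φ'.left.base _ ∈ W; rw [hunit φ']; exact he
    · change (φ * φ').left.base _ ∈ W; rw [hunit (φ * φ')]; exact he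
  obtain ⟨_, ⟨V, hV, rfl⟩, heV, hVle⟩ :=
    E₁.left.isBasis_affineOpens.exists_subset_of_mem_open he2
      (φ.left ⁻¹ᵁ W ⊓ φ'.left ⁻¹ᵁ W ⊓ (φ * φ').left ⁻¹ᵁ W : E₁.left.Opens).2
  have hle1 : V ≤ φ.left ⁻¹ᵁ W := fun x hx => (hVle hx).1.1
  have hle2 : V ≤ φ'.left ⁻¹ᵁ W := fun x hx => (hVle hx).1.2
  have hle3 : V ≤ (φ * φ').left ⁻¹ᵁ W := fun x hx => (hVle hx).2
  -- φ' has zero cotangent map
  have key1 : ∀ c : Γ(E₂.left, W), (eps k E₂ he).hom c = 0 →
      (φ'.left.appLE W V hle2).hom c ∈ RingHom.ker (eps k E₁ heV).hom ^ 2 := by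
    intro c hc
    by_contra hc2
    obtain ⟨U, hU, hEt⟩ := etale_near_unit_of_tangent k E₁ E₂ hd₁ hd₂ hW he hV heV φ'
      (IsMonHom.one_hom (f := φ')) hle2 c hc hc2
    exact hφ' (etale_of_etale_near_unit k E₁ E₂ φ' U hU hEt)
  -- φ has nonzero cotangent map
  obtain ⟨c₀, hc₀, hc₀2⟩ := exists_tangent_of_etale k E₁ E₂ hE₁ hW he hV heV φ
    (IsMonHom.one_hom (f := φ)) hle1
  have htan := tangent_mul k E₁ E₂ hW he hV heV φ φ' hle1 hle2 hle3 c₀ hc₀
  have hc₀3 : ((φ * φ').left.appLE W V hle3).hom c₀ ∉ RingHom.ker (eps k E₁ heV).hom ^ 2 := by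
    intro h
    apply hc₀2
    have h2 := key1 c₀ hc₀
    have e : (φ.left.appLE W V hle1).hom c₀ = ((φ * φ').left.appLE W V hle3).hom c₀
        - (((φ * φ').left.appLE W V hle3).hom c₀ - (φ.left.appLE W V hle1).hom c₀
          - (φ'.left.appLE W V hle2).hom c₀) - (φ'.left.appLE W V hle2).hom c₀ := by ring
    rw [e]
    exact Ideal.sub_mem _ (Ideal.sub_mem _ h htan) h2
  obtain ⟨U, hU, hEt⟩ := etale_near_unit_of_tangent k E₁ E₂ hd₁ hd₂ hW he hV heV (φ * φ')
    (IsMonHom.one_hom (f := φ * φ')) hle3 c₀ hc₀ hc₀3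
  exact etale_of_etale_near_unit k E₁ E₂ (φ * φ') U hU hEt



include hE₁ hE₂ hφ' in
theorem main : IsFinite (φ * φ').left ∧ Surjective (φ * φ').left ∧ Etale (φ * φ').left := by
  obtain ⟨hmon, hEt⟩ := etale_mul k E₁ E₂ hE₁ hE₂ φ φ' hφ'
  haveI := hEt
  have hw : (φ * φ').left ≫ E₂.hom = E₁.hom := Over.w _
  haveI : IsProper ((φ * φ').left ≫ E₂.hom) := by rw [hw]; infer_instance
  haveI : IsProper (φ * φ').left := IsProper.of_comp (φ * φ').left E₂.hom
  haveI : LocallyQuasiFinite (φ * φ').left :=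
    Groth.Agent.Lib.Helper4.EtaleRigid1.lqf_of_etale (φ * φ').left
  have hfin : IsFinite (φ * φ').left := IsFinite.of_isProper_of_locallyQuasiFinite (φ * φ').left
  refine ⟨hfin, ?_, hEt⟩
  have hcl : IsClosed (Set.range (φ * φ').left.base) := (φ * φ').left.isClosedMap.isClosed_range
  have hop : IsOpen (Set.range (φ * φ').left.base) := (φ * φ').left.isOpenMap.isOpen_range
  have hne : (Set.range (φ * φ').left.base).Nonempty := ⟨_, ⟨η[E₁].left.base (pt k), rfl⟩⟩
  have huniv := IsClopen.eq_univ ⟨hcl, hop⟩ hne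
  exact ⟨Set.range_eq_univ.mp huniv⟩

end Main

end Groth.Agent.Lib.Helper4.EllSum1
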