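import Mathlib
import Groth.Prelude.Def_ModSite
import Groth.Agent.Lib.Helper4.EqCrit

/-!
# Equational criterion on a ringed space (helper4) (helper4)
-/

set_option backward.isDefEq.respectTransparency.types false
set_option synthInstance.maxHeartbeats 400000
set_option autoImplicit false
set_option linter.unusedSectionVars false
set_option linter.style.haveILetI false
set_option linter.unusedSimpArgs false
universe u v w
open CategoryTheory CategoryTheory.Limits Opposite TopologicalSpace

namespace Groth.Agent.Lib.Helper4.EqCritTop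

open Groth.Agent.Lib.Helper4.EqCrit

theorem main {X : TopCat.{u}} (O : TopCat.Sheaf CommRingCat.{u} X)
    (F : ModSite.Mod O) (hF : ModSite.IsFlat F) (U : Opens X) {n : ℕ}
    (f : Fin n → (ModSite.ringSh O).obj.obj (Opposite.op U)) (s : Fin n → ModSite.sect F U)
    (hrel : ∑ i, f i • s i = 0) (x : X) (hx : x ∈ U) :
    ∃ (V : Opens X) (hV : V ≤ U) (m : ℕ) (a : Fin n → Fin m → (ModSite.ringSh O).obj.obj (Opposite.op V))
      (t : Fin m → ModSite.sect F V), x ∈ V ∧
      (∀ i, (F.val.map (homOfLE hV).op).hom (s i) = ∑ j, a i j • t j) ∧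
        ∀ j, ∑ i, ((ModSite.ringSh O).obj.map (homOfLE hV).op).hom (f i) * a i j = 0 := by
  obtain ⟨S, hS, h⟩ := eqCrit_local (O := O) F U (m := 1) (fun _ j => f j) s hF (fun _ => hrel)
  obtain ⟨V, g, hg, hxV⟩ := hS x hx
  obtain ⟨l, t, a, h1, h2⟩ := h g hg
  have hV : V ≤ U := leOfHom g
  have hg' : homOfLE hV = g := Subsingleton.elim _ _
  refine ⟨V, hV, l, a, t, hxV, ?_, ?_⟩
  · intro i
    rw [hg']
    exact h1 i
  · intro j
    rw [hg']
    refine Eq.trans (Finset.sum_congr rfl (fun i _ => ?_)) (h2 0 j)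
    exact mul_comm ((O.obj.map g.op).hom (f i)) (a i j)

end Groth.Agent.Lib.Helper4.EqCritTop
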