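import Mathlib

/-!
# The open equalizer of two morphisms into a scheme with open diagonal (unramified) (helper4)
-/

set_option backward.isDefEq.respectTransparency.types false
set_option synthInstance.maxHeartbeats 400000
set_option autoImplicit false
set_option linter.unusedSectionVars false
set_option linter.style.haveILetI false
set_option linter.unusedSimpArgs false
universe u v
open CategoryTheory CategoryTheory.Limits AlgebraicGeometry TopologicalSpace

namespace Groth.Agent.Lib.Helper4.EqOpen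

/-- the open "equalizer" of two morphisms into a scheme with open diagonal -/
noncomputable def eqOpen {X Y S : Scheme.{u}} (p : Y ⟶ S) [IsOpenImmersion (pullback.diagonal p)]
    (f g : X ⟶ Y) (hfg : f ≫ p = g ≫ p) : X.Opens :=
  (pullback.lift f g hfg) ⁻¹ᵁ (pullback.diagonal p).opensRange

theorem eqOpen_ι {X Y S : Scheme.{u}} (p : Y ⟶ S) [IsOpenImmersion (pullback.diagonal p)]
    (f g : X ⟶ Y) (hfg : f ≫ p = g ≫ p) :
    (eqOpen p f g hfg).ι ≫ f = (eqOpen p f g hfg).ι ≫ g := by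
  set E := eqOpen p f g hfg with hE
  let h := pullback.lift f g hfg
  have hrange : Set.range (E.ι ≫ h) ⊆ Set.range (pullback.diagonal p) := by
    rintro _ ⟨e, rfl⟩
    exact e.2
  let k : (E : Scheme) ⟶ Y := IsOpenImmersion.lift (pullback.diagonal p) (E.ι ≫ h) hrange
  have hk : k ≫ pullback.diagonal p = E.ι ≫ h := IsOpenImmersion.lift_fac _ _ _
  have h1 : E.ι ≫ f = k := by
    have := congrArg (· ≫ pullback.fst p p) hk
    simp only [Category.assoc, pullback.diagonal_fst, Category.comp_id] at this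
    rw [this, pullback.lift_fst]
  have h2 : E.ι ≫ g = k := by
    have := congrArg (· ≫ pullback.snd p p) hk
    simp only [Category.assoc, pullback.diagonal_snd, Category.comp_id] at this
    rw [this, pullback.lift_snd]
  rw [h1, h2]

theorem mem_eqOpen_iff {X Y S : Scheme.{u}} (p : Y ⟶ S) [IsOpenImmersion (pullback.diagonal p)]
    (f g : X ⟶ Y) (hfg : f ≫ p = g ≫ p) (x : X) :
    x ∈ eqOpen p f g hfg ↔ (pullback.lift f g hfg) x ∈ Set.range (pullback.diagonal p) := Iff.rfl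

/-- if `m ≫ f = m ≫ g` then the image of `m` lies in the equalizer open. -/
theorem mem_eqOpen_of_comp_eq {X Y S Z : Scheme.{u}} (p : Y ⟶ S)
    [IsOpenImmersion (pullback.diagonal p)]
    (f g : X ⟶ Y) (hfg : f ≫ p = g ≫ p) (m : Z ⟶ X) (hm : m ≫ f = m ≫ g) (z : Z) :
    m z ∈ eqOpen p f g hfg := by
  rw [mem_eqOpen_iff]
  have : m ≫ pullback.lift f g hfg = (m ≫ f) ≫ pullback.diagonal p := by
    apply pullback.hom_ext
    · simp only [Category.assoc, pullback.diagonal_fst, Category.comp_id, pullback.lift_fst]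
    · simp only [Category.assoc, pullback.diagonal_snd, Category.comp_id, pullback.lift_snd, hm]
  rw [← Scheme.Hom.comp_apply, this, Scheme.Hom.comp_apply]
  exact ⟨_, rfl⟩

theorem S0445_main {X Y S : Scheme.{u}} (p : Y ⟶ S) [FormallyUnramified p] [LocallyOfFiniteType p] (f g : X ⟶ Y) (hfg : f ≫ p = g ≫ p)
    (x : X) (h1 : f x = g x) (h2 : f.residueFieldMap x = (Y.residueFieldCongr h1).hom ≫ g.residueFieldMap x) :
    ∃ U : X.Opens, x ∈ U ∧ U.ι ≫ f = U.ι ≫ g := by
  refine ⟨eqOpen p f g hfg, ?_, eqOpen_ι p f g hfg⟩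
  have hm : X.fromSpecResidueField x ≫ f = X.fromSpecResidueField x ≫ g := by
    rw [← Scheme.Hom.SpecMap_residueFieldMap_fromSpecResidueField,
      ← Scheme.Hom.SpecMap_residueFieldMap_fromSpecResidueField, h2, Spec.map_comp, Category.assoc,
      Scheme.residueFieldCongr_fromSpecResidueField]
  have hne : Nonempty (Spec (X.residueField x)) := inferInstance
  obtain ⟨z⟩ := hne
  have := mem_eqOpen_of_comp_eq p f g hfg (X.fromSpecResidueField x) hm z
  rwa [Scheme.fromSpecResidueField_apply] at this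

theorem S3707_main {S S' X Y : Scheme.{u}} (g : S' ⟶ S) [Surjective g]
    (p : X ⟶ S) (q : Y ⟶ S) [FormallyUnramified q] [LocallyOfFiniteType q]
    (u v : X ⟶ Y) (hu : p ≫ 𝟙 S = u ≫ q) (hv : p ≫ 𝟙 S = v ≫ q)
    (h : pullback.map p g q g u (𝟙 S') (𝟙 S) hu ((Category.comp_id _).trans (Category.id_comp _).symm) =
      pullback.map p g q g v (𝟙 S') (𝟙 S) hv ((Category.comp_id _).trans (Category.id_comp _).symm)) :
    u = v := by
  have huv : u ≫ q = v ≫ q := hu.symm.trans hv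
  have hm : pullback.fst p g ≫ u = pullback.fst p g ≫ v := by
    have := congrArg (· ≫ pullback.fst q g) h
    simp only [pullback.lift_fst] at this
    exact this
  have htop : eqOpen q u v huv = ⊤ := by
    rw [eq_top_iff]
    intro x _
    obtain ⟨x', rfl⟩ := (pullback.fst p g).surjective x
    exact mem_eqOpen_of_comp_eq q u v huv (pullback.fst p g) hm x'
  have := eqOpen_ι q u v huv
  rw [htop] at this
  have h3 := congrArg (X.topIso.inv ≫ ·) this
  simp only [← Category.assoc, Scheme.toIso_inv_ι, Category.id_comp] at h3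
  exact h3

theorem le_eqOpen_ι {X Y S : Scheme.{u}} (p : Y ⟶ S) [IsOpenImmersion (pullback.diagonal p)]
    (f g : X ⟶ Y) (hfg : f ≫ p = g ≫ p) (W : X.Opens) (hW : W ≤ eqOpen p f g hfg) :
    W.ι ≫ f = W.ι ≫ g := by
  have h1 : W.ι = X.homOfLE hW ≫ (eqOpen p f g hfg).ι := (X.homOfLE_ι hW).symm
  rw [h1, Category.assoc, Category.assoc, eqOpen_ι]

theorem S4987_main {X Y S : Scheme.{u}} (h : Y ⟶ S)
    [FormallyUnramified h] [LocallyOfFiniteType h] (f g : X ⟶ Y) (w : g ≫ h = f ≫ h)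
    (hc : IsClosedMap (f ≫ h).base) (s : ↥S)
    (hs : (f ≫ h).fiberι s ≫ f = (f ≫ h).fiberι s ≫ g) :
    ∃ V : S.Opens, s ∈ V ∧ ((f ≫ h) ⁻¹ᵁ V).ι ≫ f = ((f ≫ h) ⁻¹ᵁ V).ι ≫ g := by
  set E := eqOpen h f g w.symm with hE
  have hfib : (f ≫ h) ⁻¹' {s} ⊆ (E : Set X) := by
    intro x hx
    rw [← (f ≫ h).range_fiberι s] at hx
    obtain ⟨z, rfl⟩ := hx
    exact mem_eqOpen_of_comp_eq h f g w.symm _ hs z
  have hcl : IsClosed ((f ≫ h).base '' ((E : Set X)ᶜ)) := hc _ E.isOpen.isClosed_compl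
  let V : S.Opens := ⟨((f ≫ h).base '' ((E : Set X)ᶜ))ᶜ, hcl.isOpen_compl⟩
  refine ⟨V, ?_, ?_⟩
  · rintro ⟨x, hx, hxs⟩
    exact hx (hfib hxs)
  · apply le_eqOpen_ι h f g w.symm
    intro x hx
    by_contra hxE
    exact hx ⟨x, hxE, rfl⟩

theorem S4988_main {X Y S : Scheme.{u}} (h : Y ⟶ S)
    [FormallyUnramified h] [LocallyOfFiniteType h] [IsSeparated h]
    (f g : X ⟶ Y) (w : g ≫ h = f ≫ h)
    (ho : IsOpenMap (f ≫ h).base) (hc : IsClosedMap (f ≫ h).base) (s : ↥S)
    (hs : (f ≫ h).fiberι s ≫ f = (f ≫ h).fiberι s ≫ g) :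
    ∃ V : S.Opens, IsClosed (V : Set ↥S) ∧ s ∈ V ∧
      ((f ≫ h) ⁻¹ᵁ V).ι ≫ f = ((f ≫ h) ⁻¹ᵁ V).ι ≫ g := by
  set E := eqOpen h f g w.symm with hE
  have hEcl : IsClosed (E : Set X) := by
    have h1 : IsClosed (Set.range (pullback.diagonal h)) :=
      (pullback.diagonal h).isClosedEmbedding.isClosed_range
    exact h1.preimage (pullback.lift f g w.symm).continuous
  have hfib : (f ≫ h) ⁻¹' {s} ⊆ (E : Set X) := by
    intro x hx
    rw [← (f ≫ h).range_fiberι s] at hx
    obtain ⟨z, rfl⟩ := hx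
    exact mem_eqOpen_of_comp_eq h f g w.symm _ hs z
  have hcl : IsClosed ((f ≫ h).base '' ((E : Set X)ᶜ)) := hc _ E.isOpen.isClosed_compl
  have hop : IsOpen ((f ≫ h).base '' ((E : Set X)ᶜ)) := ho _ hEcl.isOpen_compl
  let V : S.Opens := ⟨((f ≫ h).base '' ((E : Set X)ᶜ))ᶜ, hcl.isOpen_compl⟩
  refine ⟨V, hop.isClosed_compl, ?_, ?_⟩
  · rintro ⟨x, hx, hxs⟩
    exact hx (hfib hxs)
  · apply le_eqOpen_ι h f g w.symm
    intro x hx
    by_contra hxE
    exact hx ⟨x, hxE, rfl⟩

end Groth.Agent.Lib.Helper4.EqOpen
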