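import Mathlib
import Groth.Prelude.Def_Cyc
import Groth.Agent.Lib.Helper4.JacDim1
import Groth.Prelude.Def_EGA43
import Groth.Agent.Lib.Helper4.FibreStalkDim1
import Groth.Agent.Lib.Helper4.DimFT1
import Groth.Agent.Lib.Helper4.DimFT2
import Groth.Agent.Lib.Helper4.Chev8
import Groth.Agent.Lib.Helper4.FibDim7
import Groth.Agent.Lib.Helper4.EffCartierDim1
import Groth.Agent.Lib.Helper4.JacDim4
import Groth.Agent.Lib.Helper4.Chev9
import Groth.Agent.Lib.Helper4.Chev10
import Groth.Agent.Lib.Helper4.Chev11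
import Groth.Agent.Lib.Helper4.Equi1
import Groth.Agent.Lib.Helper4.Equi2
import Groth.Agent.Lib.Helper4.Equi3
import Groth.Agent.Lib.Helper4.Equi4
import Groth.Agent.Lib.Helper4.Equi5
import Groth.Agent.Lib.Helper4.Equi6
import Groth.Agent.Lib.Helper4.Equi7
import Groth.Agent.Lib.Helper4.Aff1
import Groth.Agent.Lib.Helper4.Aff2
import Groth.Agent.S0499
import Groth.Agent.S0503

/-!
# Finite local quasi-sections over complete local domains (uses helper7's S0499, S0503) (helper4)
-/

set_option backward.isDefEq.respectTransparency.types false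
set_option synthInstance.maxHeartbeats 400000
set_option autoImplicit false
set_option linter.unusedSectionVars false
set_option linter.style.haveILetI false
set_option linter.unusedSimpArgs false
universe u v w
open CategoryTheory CategoryTheory.Limits AlgebraicGeometry TopologicalSpace IsLocalRing Opposite
open Cardinal AffineSpace MvPolynomial
open Groth.Agent.Lib.Helper4.DimIneq1 Groth.Agent.Lib.Helper4.DimFT2 Groth.Agent.Lib.Helper4.Catenary1
open Groth.Agent.Lib.Helper4.DimEq1 Groth.Agent.Lib.Helper4.DimIneq2 Groth.Agent.Lib.Helper4.DimEq2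
open Groth.Agent.Lib.Helper4.DimIneq3 Groth.Agent.Lib.Helper4.DimIneq4
open Groth.Agent.Lib.Helper4.NormFibre2 Groth.Agent.Lib.Helper4.RadBir3 Groth.Agent.Lib.Helper4.DimFT3
open Groth.Agent.Lib.Helper4.FibDim1 Groth.Agent.Lib.Helper4.FibDim2 Groth.Agent.Lib.Helper4.LocUC1
open Groth.Agent.Lib.Helper4.FibDim3 Groth.Agent.Lib.Helper4.FibDim4 Groth.Agent.Lib.Helper4.FibDim5
open Groth.Agent.Lib.Helper4.FibDim6 Groth.Agent.Lib.Helper4.FibDim7 Groth.Agent.Lib.Helper4.JacDim1
open Groth.Agent.Lib.Helper4.DimFT1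
open Groth.Agent.Lib.Helper4.Chev2 Groth.Agent.Lib.Helper4.Chev5 Groth.Agent.Lib.Helper4.Chev6 Groth.Agent.Lib.Helper4.Chev8
open Groth.Agent.Lib.Helper4.JacDim4 Groth.Agent.Lib.Helper4.EffCartierDim1
open Groth.Agent.Lib.Helper4.Chev9 Groth.Agent.Lib.Helper4.Chev4
open Groth.Agent.Lib.Helper4.Chev10 Groth.Agent.Lib.Helper4.Chev11 Groth.Agent.Lib.Helper4.Chev3 Groth.Agent.Lib.Helper4.Equi1 Groth.Agent.Lib.Helper4.Equi2 Groth.Agent.Lib.Helper4.OpenAt1 Groth.Agent.Lib.Helper4.Equi3 Groth.Agent.Lib.Helper4.Equi4 Groth.Agent.Lib.Helper4.Equi5 Groth.Agent.Lib.Helper4.Equi6 Groth.Agent.Lib.Helper4.Equi7 Groth.Agent.Lib.Helper4.Aff1 Groth.Agent.Lib.Helper4.Aff2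

namespace Groth.Agent.Lib.Helper4.Equi9

section Hens

theorem henselianLocalRing_of_isAdicComplete (A : Type u) [CommRing A] [IsLocalRing A]
    [IsAdicComplete (IsLocalRing.maximalIdeal A) A] : HenselianLocalRing A :=
  { is_henselian := by
      intro f hf a₀ h₁ h₂
      exact HenselianRing.is_henselian (I := IsLocalRing.maximalIdeal A) f hf a₀ h₁ (h₂.map _) }

theorem finite_of_quasiFinite_domain (A : Type u) [CommRing A] [HenselianLocalRing A]
    (C : Type u) [CommRing C] [IsDomain C] [Algebra A C] [Algebra.FiniteType A C]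
    [Algebra.QuasiFinite A C]
    (hm : (IsLocalRing.maximalIdeal A).map (algebraMap A C) ≠ ⊤) : Module.Finite A C := by
  obtain ⟨e, he, hfin, htop⟩ := Groth.Agent.S0503.result A C
  rcases IsIdempotentElem.iff_eq_zero_or_one.mp he with h0 | h1
  · exfalso
    apply hm
    subst h0
    have h2 : Ideal.map (algebraMap A (C ⧸ Ideal.span ({0} : Set C))) (IsLocalRing.maximalIdeal A) =
        ((IsLocalRing.maximalIdeal A).map (algebraMap A C)).map
          (Ideal.Quotient.mk (Ideal.span ({0} : Set C))) := by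
      rw [Ideal.map_map]
      rfl
    rw [h2] at htop
    have h3 := congrArg (Ideal.comap (Ideal.Quotient.mk (Ideal.span ({0} : Set C)))) htop
    rw [Ideal.comap_map_of_surjective _ Ideal.Quotient.mk_surjective, Ideal.comap_top] at h3
    have h4 : Ideal.comap (Ideal.Quotient.mk (Ideal.span ({0} : Set C))) ⊥ = ⊥ := by
      rw [← RingHom.ker_eq_comap_bot, Ideal.mk_ker]
      simp
    rw [h4, sup_bot_eq] at h3
    exact h3
  · subst h1
    have h2 : Ideal.span ({1 - 1} : Set C) = ⊥ := by simp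
    rw [h2] at hfin
    exact Module.Finite.equiv (AlgEquiv.quotientBot A C).toLinearEquiv

theorem isLocalRing_of_finite_domain (A : Type u) [CommRing A] [HenselianLocalRing A]
    (C : Type u) [CommRing C] [IsDomain C] [Algebra A C] [Module.Finite A C] : IsLocalRing C := by
  classical
  obtain ⟨ι, hι, B, hB, hloc, ⟨ψ⟩⟩ := Groth.Agent.S0499.result A C
  haveI := hloc
  have hne : Nonempty ι := by
    by_contra hempty
    rw [not_nonempty_iff] at hempty
    have : (1 : C) = 0 := ψ.injective (Subsingleton.elim _ _)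
    exact one_ne_zero this
  have hsub : Subsingleton ι := by
    constructor
    intro i j
    by_contra hij
    have h1 : (Pi.single i (1 : B i) : ∀ k, B k) * Pi.single j (1 : B j) = 0 := by
      ext k
      by_cases hk : k = i
      · subst hk
        simp [Pi.single_eq_of_ne hij]
      · simp [Pi.single_eq_of_ne hk]
    have h2 : ψ.symm (Pi.single i (1 : B i)) * ψ.symm (Pi.single j (1 : B j)) = 0 := by
      rw [← map_mul, h1, map_zero]
    rcases mul_eq_zero.mp h2 with h3 | h3
    · have h4 := congrArg ψ h3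
      rw [RingEquiv.apply_symm_apply, map_zero] at h4
      have h5 := congrFun h4 i
      simp at h5
    · have h4 := congrArg ψ h3
      rw [RingEquiv.apply_symm_apply, map_zero] at h4
      have h5 := congrFun h4 j
      simp at h5
  obtain ⟨i₀⟩ := hne
  haveI : Unique ι := ⟨⟨i₀⟩, fun j => Subsingleton.elim _ _⟩
  exact RingEquiv.isLocalRing (ψ.trans (RingEquiv.piUnique B)).symm

end Hens


theorem S4974_main {A : Type u} [CommRing A] [IsDomain A]
    [IsNoetherianRing A] [IsLocalRing A] [IsAdicComplete (IsLocalRing.maximalIdeal A) A] {X : Scheme.{u}}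
    (f : X ⟶ Spec (CommRingCat.of A)) [LocallyOfFiniteType f] (x : X) (hx : f.base x = IsLocalRing.closedPoint A)
    (hf : EGA43.IsEquidimAt f x) (hcl : ∀ x' : X, f.base x' = f.base x → x ⤳ x' → x' = x) :
    ∃ (A' : Type u) (_ : CommRing A') (_ : IsDomain A') (_ : IsLocalRing A') (_ : Algebra A A') (_ : Module.Finite A A'),
      Function.Injective (algebraMap A A') ∧
      ∃ h : Spec (CommRingCat.of A') ⟶ X, h ≫ f = Spec.map (CommRingCat.ofHom (algebraMap A A')) ∧
        IsImmersion h ∧ x ∈ Set.range h.base := by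
  haveI : HenselianLocalRing A := henselianLocalRing_of_isAdicComplete A
  haveI : IrreducibleSpace ↥(Spec (CommRingCat.of A)) :=
    inferInstanceAs (IrreducibleSpace (PrimeSpectrum A))
  obtain ⟨T, i, hi1, hi2, hi3, ⟨t, ht⟩, hi5, hi6, hi7, hi8⟩ := S4944_main f x hf hcl
  haveI := hi1
  haveI := hi2
  haveI := hi3
  haveI := hi5
  haveI := hi6
  haveI := hi8
  obtain ⟨T₀, hT₀, htT₀, -⟩ := exists_isAffineOpen_mem_and_subset (U := (⊤ : T.Opens)) (x := t)
    trivial
  haveI : IsIntegral T := isIntegral_of_irreducibleSpace_of_isReduced T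
  haveI hdom : IsDomain Γ(T, T₀) :=
    @IsIntegral.component_integral T _ T₀ ⟨⟨t, htT₀⟩⟩
  have hφ : Spec.map (Spec.preimage ((hT₀.fromSpec ≫ i) ≫ f) : CommRingCat.of A ⟶ Γ(T, T₀)) =
      (hT₀.fromSpec ≫ i) ≫ f := Spec.map_preimage _
  letI alg : Algebra A Γ(T, T₀) :=
    (Spec.preimage ((hT₀.fromSpec ≫ i) ≫ f) : CommRingCat.of A ⟶ Γ(T, T₀)).hom.toAlgebra
  have hassoc : (hT₀.fromSpec ≫ i) ≫ f = hT₀.fromSpec ≫ (i ≫ f) := Category.assoc _ _ _
  haveI hft : Algebra.FiniteType A Γ(T, T₀) := by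
    have h1 : LocallyOfFiniteType (Spec.map (Spec.preimage ((hT₀.fromSpec ≫ i) ≫ f) :
        CommRingCat.of A ⟶ Γ(T, T₀))) := by
      rw [hφ, hassoc]
      infer_instance
    exact (HasRingHomProperty.Spec_iff (P := @LocallyOfFiniteType)).mp h1
  haveI hqf : Algebra.QuasiFinite A Γ(T, T₀) := by
    have h1 : LocallyQuasiFinite (Spec.map (Spec.preimage ((hT₀.fromSpec ≫ i) ≫ f) :
        CommRingCat.of A ⟶ Γ(T, T₀))) := by
      rw [hφ, hassoc]
      infer_instance
    exact (HasRingHomProperty.Spec_iff (P := @LocallyQuasiFinite)).mp h1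
  -- the point of the spectrum over `t`
  have ht₀ : hT₀.fromSpec (hT₀.primeIdealOf ⟨t, htT₀⟩) = t := hT₀.fromSpec_primeIdealOf ⟨t, htT₀⟩
  have hcl₀ : (Spec.map (Spec.preimage ((hT₀.fromSpec ≫ i) ≫ f) : CommRingCat.of A ⟶ Γ(T, T₀)))
      (hT₀.primeIdealOf ⟨t, htT₀⟩) = IsLocalRing.closedPoint A := by
    rw [hφ, Scheme.Hom.comp_apply, Scheme.Hom.comp_apply, ht₀, ht, hx]
  have hm : (IsLocalRing.maximalIdeal A).map (algebraMap A Γ(T, T₀)) ≠ ⊤ := by
    have h1 : (IsLocalRing.maximalIdeal A).map (algebraMap A Γ(T, T₀)) ≤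
        (hT₀.primeIdealOf ⟨t, htT₀⟩).asIdeal := by
      rw [Ideal.map_le_iff_le_comap]
      have h2 := congrArg PrimeSpectrum.asIdeal hcl₀
      exact le_of_eq h2.symm
    intro h3
    rw [h3, top_le_iff] at h1
    exact (hT₀.primeIdealOf ⟨t, htT₀⟩).isPrime.ne_top h1
  haveI hfin : Module.Finite A Γ(T, T₀) := finite_of_quasiFinite_domain A Γ(T, T₀) hm
  haveI hloc : IsLocalRing Γ(T, T₀) := isLocalRing_of_finite_domain A Γ(T, T₀)
  have hinj : Function.Injective (algebraMap A Γ(T, T₀)) := by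
    haveI : IsDominant hT₀.fromSpec := by
      constructor
      rw [DenseRange, hT₀.range_fromSpec]
      exact T₀.2.dense ⟨t, htT₀⟩
    have h1 : IsDominant (Spec.map (Spec.preimage ((hT₀.fromSpec ≫ i) ≫ f) :
        CommRingCat.of A ⟶ Γ(T, T₀))) := by
      rw [hφ, hassoc]
      infer_instance
    have h2 : DenseRange (PrimeSpectrum.comap (algebraMap A Γ(T, T₀))) := h1.denseRange
    rw [PrimeSpectrum.denseRange_comap_iff_ker_le_nilRadical, nilradical_eq_zero] at h2
    rw [RingHom.injective_iff_ker_eq_bot]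
    exact le_bot_iff.mp h2
  refine ⟨Γ(T, T₀), inferInstance, hdom, hloc, alg, hfin, hinj, hT₀.fromSpec ≫ i, ?_, inferInstance,
    ⟨hT₀.primeIdealOf ⟨t, htT₀⟩, ?_⟩⟩
  · exact hφ.symm
  · rw [Scheme.Hom.comp_apply, ht₀, ht]


end Groth.Agent.Lib.Helper4.Equi9
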