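import Mathlib
import Groth.Prelude.Def_SGA3x
import Groth.Agent.Lib.Helper5.ArtLoc.Basic
import Groth.Agent.Lib.Helper5.FlatDesc.Basic

/-!
# essentially free morphisms: flatness, artinian bases, base change (S5356) (helper4)
-/

set_option backward.isDefEq.respectTransparency.types false
set_option synthInstance.maxHeartbeats 400000
set_option autoImplicit false
set_option linter.unusedSectionVars false
set_option linter.style.haveILetI false
set_option linter.unusedSimpArgs false
universe u v w
open CategoryTheory CategoryTheory.Limits AlgebraicGeometry TopologicalSpace Opposite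
open TensorProduct

namespace Groth.Agent.Lib.Helper4.EssFree1

section Alg

/-- transitivity of projectivity along a projective algebra -/
theorem projective_trans (R : Type*) (S : Type*) [CommRing R] [CommRing S] [Algebra R S]
    [Module.Projective R S] (N : Type*) [AddCommGroup N] [Module R N] [Module S N]
    [IsScalarTower R S N] [Module.Projective S N] : Module.Projective R N := by
  classical
  obtain ⟨f, hf⟩ := (Module.projective_def (R := S) (P := N)).mp inferInstance
  haveI : Module.Projective R (N →₀ S) :=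
    Module.Projective.of_equiv' (finsuppLequivDFinsupp R).symm
  exact Module.Projective.of_split (R := R) (M := N →₀ S) (f.restrictScalars R)
    ((Finsupp.linearCombination S (id : N → N)).restrictScalars R)
    (LinearMap.ext fun x => hf x)

/-- a flat module over an artinian ring is projective -/
theorem projective_of_flat_of_isArtinianRing (R : Type u) [CommRing R] [IsArtinianRing R]
    (M : Type v) [AddCommGroup M] [Module R M] [Module.Flat R M] : Module.Projective R M := by
  classical
  haveI : Fintype (MaximalSpectrum R) := Fintype.ofFinite _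
  let e : R ≃ₐ[R] MaximalSpectrum.PiLocalization R := MaximalSpectrum.toPiLocalizationEquiv R
  have hL : ∀ I : MaximalSpectrum R, Module.Projective R (Localization.AtPrime I.asIdeal) := by
    intro I
    refine Module.Projective.of_split (R := R) (M := R)
      (e.symm.toLinearMap ∘ₗ
        LinearMap.single R (fun J : MaximalSpectrum R => Localization.AtPrime J.asIdeal) I)
      (Algebra.linearMap R (Localization.AtPrime I.asIdeal)) ?_
    refine LinearMap.ext fun x => ?_
    show algebraMap R (Localization.AtPrime I.asIdeal) (e.symm (Pi.single I x)) = x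
    rw [← MaximalSpectrum.toPiLocalizationEquiv_apply_apply R (e.symm (Pi.single I x)) I]
    show (e (e.symm (Pi.single I x))) I = x
    rw [AlgEquiv.apply_symm_apply, Pi.single_eq_same]
  have hLM : ∀ I : MaximalSpectrum R,
      Module.Projective R (Localization.AtPrime I.asIdeal ⊗[R] M) := by
    intro I
    haveI := hL I
    haveI : IsArtinianRing (Localization.AtPrime I.asIdeal) :=
      IsArtinianRing.localization_artinian I.asIdeal.primeCompl _
    have hnil : IsNilpotent (IsLocalRing.maximalIdeal (Localization.AtPrime I.asIdeal)) := by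
      rw [← IsLocalRing.jacobson_eq_maximalIdeal ⊥ bot_ne_top]
      exact IsArtinianRing.isNilpotent_jacobson_bot
    haveI : Module.Free (Localization.AtPrime I.asIdeal)
        (Localization.AtPrime I.asIdeal ⊗[R] M) :=
      Helper5.ArtLoc.free_of_flat hnil
    exact projective_trans R (Localization.AtPrime I.asIdeal) _
  haveI : Module.Projective R
      (∀ I : MaximalSpectrum R, Localization.AtPrime I.asIdeal ⊗[R] M) :=
    Module.Projective.of_equiv' (DFinsupp.linearEquivFunOnFintype (R := R)
      (M := fun I : MaximalSpectrum R => Localization.AtPrime I.asIdeal ⊗[R] M))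
  let e1 : M ≃ₗ[R] R ⊗[R] M := (TensorProduct.lid R M).symm
  let e2 : R ⊗[R] M ≃ₗ[R] (MaximalSpectrum.PiLocalization R) ⊗[R] M :=
    TensorProduct.congr e.toLinearEquiv (LinearEquiv.refl R M)
  let e3 : (MaximalSpectrum.PiLocalization R) ⊗[R] M ≃ₗ[R]
      ∀ I : MaximalSpectrum R, Localization.AtPrime I.asIdeal ⊗[R] M :=
    TensorProduct.piLeft R M (fun I : MaximalSpectrum R => Localization.AtPrime I.asIdeal)
  exact Module.Projective.of_equiv' (e1 ≪≫ₗ e2 ≪≫ₗ e3).symm

/-- projectivity is stable under pushout of rings -/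
theorem projective_of_pushout {R A R' B : CommRingCat.{u}} (a : R ⟶ A) (r : R ⟶ R') (a' : A ⟶ B)
    (r' : R' ⟶ B) (h : IsPushout a r a' r')
    (hproj : @Module.Projective R _ A _ a.hom.toAlgebra.toModule) :
    @Module.Projective R' _ B _ r'.hom.toAlgebra.toModule := by
  have h' : IsPushout (CommRingCat.ofHom a.hom) (CommRingCat.ofHom r.hom) (CommRingCat.ofHom a'.hom)
      (CommRingCat.ofHom r'.hom) := h
  letI : Algebra R A := a.hom.toAlgebra
  letI : Algebra R R' := r.hom.toAlgebra
  letI : Algebra A B := a'.hom.toAlgebra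
  letI : Algebra R' B := r'.hom.toAlgebra
  letI : Algebra R B := (a'.hom.comp a.hom).toAlgebra
  haveI : IsScalarTower R A B := .of_algebraMap_eq' rfl
  have hw : a'.hom.comp a.hom = r'.hom.comp r.hom := by
    have := h.w
    exact congrArg CommRingCat.Hom.hom this
  haveI : IsScalarTower R R' B := .of_algebraMap_eq' hw
  haveI hP : Algebra.IsPushout R A R' B := CommRingCat.isPushout_iff_isPushout.mp h'
  haveI : Module.Projective R A := hproj
  haveI hP' : Algebra.IsPushout R R' A B := hP.symm
  exact Module.Projective.of_equiv' (Algebra.IsPushout.equiv R R' A B).toLinearEquiv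

end Alg

section Geom

/-- cover criterion for flatness -/
theorem flat_of_cover {P S' : Scheme.{u}} [IsAffine S'] (q : P ⟶ S')
    (hcov : ∀ x : P, ∃ V : P.Opens, x ∈ V ∧ IsAffineOpen V ∧
      (letI := (V.ι ≫ q).appTop.hom.toAlgebra
       Module.Projective Γ(S', ⊤) Γ(↑V, ⊤))) : Flat q := by
  choose V hxV hV hproj using hcov
  have hsup : iSup V = ⊤ := by
    rw [eq_top_iff]
    intro x _
    exact Opens.mem_iSup.mpr ⟨x, hxV x⟩
  refine IsZariskiLocalAtSource.of_iSup_eq_top (P := @Flat) V hsup fun x => ?_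
  haveI : IsAffine ↑(V x) := hV x
  rw [HasRingHomProperty.iff_of_isAffine (P := @Flat)]
  have : @Module.Flat Γ(S', ⊤) Γ(↑(V x), ⊤) _ _
      ((V x).ι ≫ q).appTop.hom.toAlgebra.toModule := by
    letI := ((V x).ι ≫ q).appTop.hom.toAlgebra
    haveI := hproj x
    infer_instance
  exact this

theorem part1 {X S : Scheme.{u}} (f : X ⟶ S) (h : SGA3x.IsEssentiallyFree f) : Flat f := by
  rw [Flat.iff_flat_stalkMap]
  intro x
  obtain ⟨U, hsU, hU, S', hS', g, hg1, hg2, hcov⟩ := h (f x)
  haveI := hS'
  haveI := hg1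
  haveI := hg2
  obtain ⟨s', hs'⟩ := g.surjective ⟨f x, hsU⟩
  have hs2 : f x = (g ≫ U.ι) s' := by
    rw [Scheme.Hom.comp_apply, hs']
    rfl
  obtain ⟨p, hp1, hp2⟩ := Scheme.Pullback.exists_preimage_pullback (f := f) (g := g ≫ U.ι) x s' hs2
  haveI : Flat (pullback.snd f (g ≫ U.ι)) := flat_of_cover _ hcov
  haveI : Flat (pullback.fst f (g ≫ U.ι) ≫ f) := by
    rw [pullback.condition]
    infer_instance
  have h1 : ((pullback.fst f (g ≫ U.ι) ≫ f).stalkMap p).hom.Flat := Flat.stalkMap _ p
  have h2 : ((pullback.fst f (g ≫ U.ι)).stalkMap p).hom.Flat := Flat.stalkMap _ p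
  rw [Scheme.Hom.stalkMap_comp] at h1
  subst hp1
  exact Helper5.FlatDesc.ringHom_flat_of_comp
    (f.stalkMap ((pullback.fst f (g ≫ U.ι)) p)).hom ((pullback.fst f (g ≫ U.ι)).stalkMap p).hom h2 h1

theorem part2 (A : Type u) [CommRing A] [IsArtinianRing A] (X : Scheme.{u})
    (f : X ⟶ Spec (CommRingCat.of A)) (hf : Flat f) : SGA3x.IsEssentiallyFree f := by
  intro s
  refine ⟨⊤, trivial, isAffineOpen_top _, Spec (CommRingCat.of A), inferInstance,
    (Scheme.topIso _).inv, inferInstance, inferInstance, fun x => ?_⟩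
  obtain ⟨V, hV, hxV, -⟩ := exists_isAffineOpen_mem_and_subset (x := x) (U := ⊤) trivial
  refine ⟨V, hxV, hV, ?_⟩
  haveI : IsAffine ↑V := hV
  haveI : IsArtinianRing Γ(Spec (CommRingCat.of A), ⊤) :=
    ((Scheme.ΓSpecIso (CommRingCat.of A)).commRingCatIsoToRingEquiv.symm.surjective).isArtinianRing
  haveI : Flat (V.ι ≫ pullback.snd f ((Scheme.topIso _).inv ≫ (⊤ : (Spec (CommRingCat.of A)).Opens).ι)) :=
    inferInstance
  have hfl := (HasRingHomProperty.iff_of_isAffine (P := @Flat)).mp this
  letI := (V.ι ≫ pullback.snd f ((Scheme.topIso _).inv ≫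
    (⊤ : (Spec (CommRingCat.of A)).Opens).ι)).appTop.hom.toAlgebra
  haveI : Module.Flat Γ(Spec (CommRingCat.of A), ⊤) Γ(↑V, ⊤) := hfl
  exact projective_of_flat_of_isArtinianRing _ _

theorem part3 (k : Type u) [Field k] (X : Scheme.{u}) (f : X ⟶ Spec (CommRingCat.of k)) :
    SGA3x.IsEssentiallyFree f := by
  refine part2 k X f inferInstance

theorem part4 {X S T : Scheme.{u}} (f : X ⟶ S) (b : T ⟶ S) (h : SGA3x.IsEssentiallyFree f) :
    SGA3x.IsEssentiallyFree (pullback.snd f b) := by
  intro t
  obtain ⟨U, hsU, hU, S', hS', g, hg1, hg2, hcov⟩ := h (b t)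
  haveI := hS'
  haveI := hg1
  haveI := hg2
  obtain ⟨UT, hUT, htUT, hle⟩ := exists_isAffineOpen_mem_and_subset (x := t) (U := b ⁻¹ᵁ U) hsU
  haveI : IsAffine ↑UT := hUT
  haveI : IsAffine ↑U := hU
  let b' : (UT : Scheme.{u}) ⟶ (U : Scheme.{u}) := b.resLE U UT (fun _ hx => hle hx)
  have hb' : b' ≫ U.ι = UT.ι ≫ b := Scheme.Hom.resLE_comp_ι _ _
  refine ⟨UT, htUT, hUT, pullback g b', inferInstance, pullback.snd g b', inferInstance,
    inferInstance, fun xT => ?_⟩
  have hbot : (pullback.snd g b' ≫ UT.ι) ≫ b = pullback.fst g b' ≫ (g ≫ U.ι) := by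
    rw [Category.assoc, ← hb', ← Category.assoc, ← pullback.condition, Category.assoc]
  have big : IsPullback
      (pullback.fst (pullback.snd f b) (pullback.snd g b' ≫ UT.ι) ≫ pullback.fst f b)
      (pullback.snd (pullback.snd f b) (pullback.snd g b' ≫ UT.ι)) f
      ((pullback.snd g b' ≫ UT.ι) ≫ b) :=
    (IsPullback.of_hasPullback (pullback.snd f b) (pullback.snd g b' ≫ UT.ι)).paste_horiz
      (IsPullback.of_hasPullback f b)
  have hcomm : (pullback.fst (pullback.snd f b) (pullback.snd g b' ≫ UT.ι) ≫ pullback.fst f b) ≫ f =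
      (pullback.snd (pullback.snd f b) (pullback.snd g b' ≫ UT.ι) ≫ pullback.fst g b') ≫
        (g ≫ U.ι) := by
    rw [big.w, hbot, Category.assoc]
  let φ : pullback (pullback.snd f b) (pullback.snd g b' ≫ UT.ι) ⟶ pullback f (g ≫ U.ι) :=
    pullback.lift (pullback.fst (pullback.snd f b) (pullback.snd g b' ≫ UT.ι) ≫ pullback.fst f b)
      (pullback.snd (pullback.snd f b) (pullback.snd g b' ≫ UT.ι) ≫ pullback.fst g b') hcomm
  have hφ1 : φ ≫ pullback.fst f (g ≫ U.ι) =
      pullback.fst (pullback.snd f b) (pullback.snd g b' ≫ UT.ι) ≫ pullback.fst f b :=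
    pullback.lift_fst _ _ _
  have hφ2 : φ ≫ pullback.snd f (g ≫ U.ι) =
      pullback.snd (pullback.snd f b) (pullback.snd g b' ≫ UT.ι) ≫ pullback.fst g b' :=
    pullback.lift_snd _ _ _
  have sqL : IsPullback φ (pullback.snd (pullback.snd f b) (pullback.snd g b' ≫ UT.ι))
      (pullback.snd f (g ≫ U.ι)) (pullback.fst g b') := by
    refine IsPullback.of_right ?_ hφ2 (IsPullback.of_hasPullback f (g ≫ U.ι))
    rw [hφ1, ← hbot]
    exact big
  obtain ⟨V, hxV, hV, hproj⟩ := hcov (φ xT)
  haveI : IsAffine ↑V := hV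
  have sqV : IsPullback (φ ∣_ V)
      ((φ ⁻¹ᵁ V).ι ≫ pullback.snd (pullback.snd f b) (pullback.snd g b' ≫ UT.ι))
      (V.ι ≫ pullback.snd f (g ≫ U.ι)) (pullback.fst g b') :=
    (isPullback_morphismRestrict φ V).paste_vert sqL
  haveI haff : IsAffine ↑(φ ⁻¹ᵁ V) := IsAffine.of_isPullback sqV
  refine ⟨φ ⁻¹ᵁ V, hxV, haff, ?_⟩
  have po := isPushout_appTop_of_isPullback sqV
  exact projective_of_pushout _ _ _ _ po hproj

theorem main :
    (∀ (X S : Scheme.{u}) (f : X ⟶ S), SGA3x.IsEssentiallyFree f → Flat f) ∧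
    (∀ (A : Type u) [CommRing A] [IsArtinianRing A] (X : Scheme.{u}) (f : X ⟶ Spec (CommRingCat.of A)),
      Flat f → SGA3x.IsEssentiallyFree f) ∧
    (∀ (k : Type u) [Field k] (X : Scheme.{u}) (f : X ⟶ Spec (CommRingCat.of k)), SGA3x.IsEssentiallyFree f) ∧
    (∀ (X S S' : Scheme.{u}) (f : X ⟶ S) (g : S' ⟶ S), SGA3x.IsEssentiallyFree f →
      SGA3x.IsEssentiallyFree (pullback.snd f g)) :=
  ⟨fun _ _ f h => part1 f h, fun A _ _ X f hf => part2 A X f hf, fun k _ X f => part3 k X f,
    fun _ _ _ f g h => part4 f g h⟩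

end Geom

end Groth.Agent.Lib.Helper4.EssFree1
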