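import Mathlib

set_option linter.style.haveILetI false
set_option linter.unusedSectionVars false

namespace Groth.Agent.Helper4.SD

open CategoryTheory AlgebraicGeometry
universe u

theorem stalkMap_injective_of_flat {X' X : Scheme.{u}} (g : X' ⟶ X) [Flat g] (x' : X') :
    Function.Injective (g.stalkMap x') := by
  algebraize [(g.stalkMap x').hom]
  have : Module.FaithfullyFlat (X.presheaf.stalk (g x')) (X'.presheaf.stalk x') :=
    @Module.FaithfullyFlat.of_flat_of_isLocalHom _ _ _ _ _ _ _
      (Flat.stalkMap g x') (g.toLRSHom.prop x')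
  exact ‹RingHom.FaithfullyFlat _›.injective

theorem app_injective_of_flat_surjective {X' X : Scheme.{u}} (g : X' ⟶ X) [Flat g]
    [Surjective g] (V : X.Opens) : Function.Injective (g.app V) := by
  rw [injective_iff_map_eq_zero]
  intro t ht
  apply TopCat.Presheaf.section_ext X.sheaf V
  intro x hx
  obtain ⟨x', rfl⟩ := g.surjective x
  change X.presheaf.germ V (g x') hx t = X.presheaf.germ V (g x') hx 0
  apply stalkMap_injective_of_flat g x'
  rw [Scheme.Hom.germ_stalkMap_apply, Scheme.Hom.germ_stalkMap_apply, ht, map_zero, map_zero,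
    map_zero]


theorem app_eq_zero_of_eq {P X : Scheme.{u}} {φ ψ : P ⟶ X} (e : φ = ψ) (V : X.Opens)
    (t : Γ(X, V)) (h : ψ.app V t = 0) : φ.app V t = 0 := by
  subst e; exact h

theorem comp_app_eq_zero {P Z X : Scheme.{u}} (a : P ⟶ Z) (f : Z ⟶ X) (V : X.Opens)
    (t : Γ(X, V)) (h : f.app V t = 0) : (a ≫ f).app V t = 0 := by
  rw [Scheme.Hom.comp_app]
  change a.app (f ⁻¹ᵁ V) (f.app V t) = 0
  rw [h, map_zero]

end Groth.Agent.Helper4.SD
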