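import Mathlib
import Groth.Prelude.Def_SGA3x
import Groth.Agent.Lib.Helper4.ContentRep7
import Groth.Agent.Lib.Helper4.GlueClosed
import Groth.Agent.Lib.Helper4.SD1
import Groth.Agent.Lib.Helper4.EssFree1

/-!
# closed Weil restriction of a closed subscheme of an essentially free scheme (S4101) (helper4)
-/

set_option backward.isDefEq.respectTransparency.types false
set_option synthInstance.maxHeartbeats 400000
set_option autoImplicit false
set_option linter.unusedSectionVars false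
set_option linter.style.haveILetI false
set_option linter.unusedSimpArgs false
universe u v w
open CategoryTheory CategoryTheory.Limits AlgebraicGeometry TopologicalSpace Opposite
open TensorProduct
open Groth.Agent.Lib.Helper4.ContentRep1 Groth.Agent.Lib.Helper4.ContentRep7

namespace Groth.Agent.Lib.Helper4.EssFreeWeil1

section Alg

/-- content ideal of a finitely generated ideal of a projective algebra is finitely generated -/
theorem contentIdeal_fg' {A R : Type u} [CommRing A] [CommRing R] [Algebra A R]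
    [Module.Projective A R] (N : Ideal R) (hN : N.FG) : (contentIdeal A N).FG := by
  classical
  obtain ⟨s, hs⟩ := (Module.projective_def' (R := A) (P := R)).1 inferInstance
  obtain ⟨G, rfl⟩ := hN
  have hsn : ∀ x : R, x = Finsupp.linearCombination A id (s x) := by
    intro x
    have := congrArg (fun f => f x) hs
    simpa using this.symm
  let Gc : Finset A := G.biUnion fun n => (s n).support.image fun m => (s n) m
  let J : Ideal A := Ideal.span (Gc : Set A)
  have hJ : ∀ n ∈ G, ∀ m : R, (s n) m ∈ J := by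
    intro n hn m
    by_cases hm : m ∈ (s n).support
    · apply Ideal.subset_span
      simp only [Gc, Finset.coe_biUnion, Finset.coe_image, Set.mem_iUnion, Set.mem_image,
        Finset.mem_coe]
      exact ⟨n, hn, m, hm, rfl⟩
    · rw [Finsupp.notMem_support_iff.mp hm]
      exact J.zero_mem
  have key : contentIdeal A (Ideal.span (G : Set R)) = J := by
    apply le_antisymm
    · rw [contentIdeal_le_iff]
      intro l x hx
      have hp : ∀ l : R →ₗ[A] A, l x ∈ J := by
        refine Submodule.span_induction (p := fun x _ => ∀ l : R →ₗ[A] A, l x ∈ J)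
          ?_ ?_ ?_ ?_ hx
        · intro n hn l
          rw [hsn n, Finsupp.linearCombination_apply, Finsupp.sum, map_sum]
          refine J.sum_mem fun m _ => ?_
          rw [map_smul, smul_eq_mul]
          exact J.mul_mem_right _ (hJ n hn m)
        · intro l
          rw [map_zero]
          exact J.zero_mem
        · intro x y _ _ hx hy l
          rw [map_add]
          exact J.add_mem (hx l) (hy l)
        · intro r x _ hx l
          exact hx (l ∘ₗ LinearMap.mulLeft A r)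
      exact hp l
    · rw [Ideal.span_le]
      intro c hc
      simp only [Gc, Finset.coe_biUnion, Finset.coe_image, Set.mem_iUnion, Set.mem_image,
        Finset.mem_coe] at hc
      obtain ⟨n, hn, m, -, rfl⟩ := hc
      exact mem_contentIdeal _ ((Finsupp.lapply m) ∘ₗ s) (Ideal.subset_span hn)
  rw [key]
  exact ⟨Gc, rfl⟩

/-- descent of an ideal satisfying the cocycle condition along a flat ring map -/
theorem le_map_comap_of_cocycle {A A' B : CommRingCat.{u}} (φ : A ⟶ A') (p1 p2 : A' ⟶ B)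
    (hpo : IsPushout φ φ p1 p2) (hflat : φ.hom.Flat) (I' : Ideal A')
    (hco : I'.map p1.hom ≤ I'.map p2.hom) :
    I' ≤ (I'.comap φ.hom).map φ.hom := by
  letI : Algebra A A' := φ.hom.toAlgebra
  haveI : Module.Flat A A' := hflat
  let u1 : A' →+* A' ⊗[A] (A' ⧸ I') :=
    (Algebra.TensorProduct.includeLeft (R := A) (S := A) (A := A') (B := A' ⧸ I')).toRingHom
  let u2 : A' →+* A' ⊗[A] (A' ⧸ I') :=
    (Algebra.TensorProduct.includeRight (R := A) (A := A') (B := A' ⧸ I')).toRingHom.comp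
      (Ideal.Quotient.mk I')
  have hu : u1.comp φ.hom = u2.comp φ.hom := by
    refine RingHom.ext fun a => ?_
    have e1 : φ.hom a = a • (1 : A') := by
      rw [Algebra.smul_def, mul_one]; rfl
    have e2 : Ideal.Quotient.mk I' (φ.hom a) = a • (1 : A' ⧸ I') := by
      rw [Algebra.smul_def, mul_one, ← Ideal.Quotient.mk_algebraMap]; rfl
    show (φ.hom a) ⊗ₜ[A] (1 : A' ⧸ I') = (1 : A') ⊗ₜ[A] (Ideal.Quotient.mk I' (φ.hom a))
    rw [e2, e1, TensorProduct.smul_tmul]
  let q : B ⟶ CommRingCat.of (A' ⊗[A] (A' ⧸ I')) :=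
    hpo.desc (CommRingCat.ofHom u1) (CommRingCat.ofHom u2) (CommRingCat.hom_ext hu)
  have hq1 : p1 ≫ q = CommRingCat.ofHom u1 := hpo.inl_desc _ _ _
  have hq2 : p2 ≫ q = CommRingCat.ofHom u2 := hpo.inr_desc _ _ _
  intro a' ha'
  have h0 : a' ⊗ₜ[A] (1 : A' ⧸ I') = 0 := by
    have h1 : p1.hom a' ∈ I'.map p2.hom := hco (Ideal.mem_map_of_mem _ ha')
    have h2 : I'.map p2.hom ≤ RingHom.ker q.hom := by
      rw [Ideal.map_le_iff_le_comap]
      intro b hb
      rw [Ideal.mem_comap, RingHom.mem_ker]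
      have : q.hom (p2.hom b) = u2 b := congrArg (fun m => m.hom b) hq2
      rw [this]
      show (1 : A') ⊗ₜ[A] (Ideal.Quotient.mk I' b) = 0
      rw [Ideal.Quotient.eq_zero_iff_mem.mpr hb, TensorProduct.tmul_zero]
    have h3 := h2 h1
    rw [RingHom.mem_ker] at h3
    have : q.hom (p1.hom a') = u1 a' := congrArg (fun m => m.hom a') hq1
    rw [this] at h3
    exact h3
  let I : Ideal A := I'.comap φ.hom
  let f0 : A →ₗ[A] A' ⧸ I' := (Ideal.Quotient.mkₐ A I').toLinearMap ∘ₗ Algebra.linearMap A A'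
  have hker : I = LinearMap.ker f0 := by
    ext a
    rw [LinearMap.mem_ker]
    show φ.hom a ∈ I' ↔ Ideal.Quotient.mk I' (φ.hom a) = 0
    rw [Ideal.Quotient.eq_zero_iff_mem]
  let ι : A ⧸ I →ₗ[A] A' ⧸ I' := Submodule.liftQ I f0 hker.le
  have hι : Function.Injective ι := by
    rw [← LinearMap.ker_eq_bot]
    exact Submodule.ker_liftQ_eq_bot' I f0 hker
  have hinj := Module.Flat.lTensor_preserves_injective_linearMap (M := A') ι hι
  have hz : a' ⊗ₜ[A] (Ideal.Quotient.mk I (1 : A)) = 0 := by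
    apply hinj
    rw [LinearMap.lTensor_tmul, map_zero]
    have : ι (Ideal.Quotient.mk I (1 : A)) = 1 := by
      show Ideal.Quotient.mk I' (φ.hom 1) = 1
      rw [map_one, map_one]
    rw [this]
    exact h0
  have h5 := congrArg (TensorProduct.tensorQuotEquivQuotSMul A' I) hz
  rw [map_zero, TensorProduct.tensorQuotEquivQuotSMul_tmul_mk, one_smul,
    Submodule.Quotient.mk_eq_zero, Ideal.smul_top_eq_map] at h5
  exact h5

end Alg

section Geo

variable {P X : Scheme.{u}} {π : P ⟶ X} {κ : Type w} {Pv : κ → P.Opens} (hc : Charts π Pv)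
  (𝓘 : P.IdealSheafData)

theorem Jv_fg' (h𝓘 : ∀ W : P.affineOpens, (𝓘.ideal W).FG) (v : κ) (U : X.affineOpens) :
    (Jv hc 𝓘 v U).FG := by
  letI : Algebra Γ(X, U.1) Γ(P, Wop π (Pv v) U.1) :=
    (π.appLE U.1 (Wop π (Pv v) U.1) inf_le_right).hom.toAlgebra
  haveI : Module.Projective Γ(X, U.1) Γ(P, Wop π (Pv v) U.1) := hc.proj v U.1 U.2
  exact contentIdeal_fg' _ (h𝓘 (Waff hc v U))

theorem main_star_fp' {P X E : Scheme.{u}} (π : P ⟶ X) {κ : Type w} [Finite κ] (Pv : κ → P.Opens)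
    (hc : Charts π Pv) (i : E ⟶ P) [IsClosedImmersion i] [LocallyOfFinitePresentation i] :
    ∃ (Z : Scheme.{u}) (j : Z ⟶ X), IsClosedImmersion j ∧ LocallyOfFinitePresentation j ∧
      ∀ (T Q : Scheme.{u}) (x : T ⟶ X) (g : Q ⟶ P) (π' : Q ⟶ T), IsPullback g π' π x →
        ((∃ l : Q ⟶ E, l ≫ i = g) ↔ ∃ z : T ⟶ Z, z ≫ j = x) := by
  refine ⟨(Jsheaf hc i.ker).subscheme, (Jsheaf hc i.ker).subschemeι, inferInstance, ?_, ?_⟩
  · apply lfp_subschemeι
    intro U
    rw [Jsheaf_ideal]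
    exact Submodule.fg_iSup _ fun v => Jv_fg' hc i.ker (fg_ker_of_lfp i) v U
  · intro T Q x g π' H
    rw [lift_iff_ker, lift_iff_ker, Scheme.IdealSheafData.ker_subschemeι]
    exact ⟨fun h => up_of_ker_g hc i.ker H h, fun h => ker_g_of_up hc i.ker H h⟩

theorem lift_iff_ker_appTop {X T Z : Scheme.{u}} [IsAffine X] (j : Z ⟶ X) [IsClosedImmersion j]
    (x : T ⟶ X) :
    (∃ l : T ⟶ Z, l ≫ j = x) ↔ RingHom.ker j.appTop.hom ≤ RingHom.ker x.appTop.hom := by
  constructor
  · rintro ⟨l, rfl⟩ a ha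
    rw [RingHom.mem_ker] at ha ⊢
    rw [Scheme.Hom.comp_appTop]
    show l.appTop.hom (j.appTop.hom a) = 0
    rw [ha, map_zero]
  · intro h
    have h1 : j.ker ≤ x.ker := by
      rw [Scheme.ker_of_isAffine, Scheme.ker_of_isAffine]
      exact (Scheme.IdealSheafData.equivOfIsAffine (X := X)).symm.toOrderIso.monotone h
    exact ⟨IsClosedImmersion.lift j x h1, IsClosedImmersion.lift_fac j x h1⟩

theorem ker_ofIdealTop_appTop {X : Scheme.{u}} [IsAffine X] (I : Ideal Γ(X, ⊤)) :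
    RingHom.ker (Scheme.IdealSheafData.ofIdealTop I).subschemeι.appTop.hom = I := by
  have h1 := (Scheme.IdealSheafData.ofIdealTop I).ker_subschemeι_app ⟨⊤, isAffineOpen_top X⟩
  have h2 : (Scheme.IdealSheafData.ofIdealTop I).ideal ⟨⊤, isAffineOpen_top X⟩ = I :=
    (Scheme.IdealSheafData.equivOfIsAffine (X := X)).apply_symm_apply I
  rw [h2] at h1
  exact h1

theorem factors_of_cover {Q Z Y : Scheme.{u}} (j : Y ⟶ Z) [Mono j] (h : Q ⟶ Z)
    (𝒰 : Scheme.OpenCover.{u} Q)
    (hl : ∀ i, ∃ l : 𝒰.X i ⟶ Y, l ≫ j = 𝒰.f i ≫ h) : ∃ l : Q ⟶ Y, l ≫ j = h := by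
  choose l hl using hl
  refine ⟨𝒰.glueMorphisms l ?_, ?_⟩
  · intro a b
    rw [← cancel_mono j, Category.assoc, Category.assoc, hl, hl, ← Category.assoc,
      pullback.condition, Category.assoc]
  · refine 𝒰.hom_ext _ _ fun i => ?_
    rw [← Category.assoc, 𝒰.ι_glueMorphisms, hl]

end Geo

section FpSec

variable {S Z Y : Scheme.{u}} (f : Z ⟶ S) (j : Y ⟶ Z)

/-- the predicate: `Z ×_S T → Z` factors through `j` -/
def Fp (T : Scheme.{u}) (x : T ⟶ S) : Prop :=
  ∃ l : pullback f x ⟶ Y, l ≫ j = pullback.fst f x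

theorem Fp_iff_isIso [Mono j] (T : Scheme.{u}) (x : T ⟶ S) :
    Fp f j T x ↔ IsIso (pullback.snd j (pullback.fst f x)) := by
  constructor
  · rintro ⟨l, hl⟩
    have hsec : pullback.lift l (𝟙 _) (by rw [hl, Category.id_comp]) ≫
        pullback.snd j (pullback.fst f x) = 𝟙 _ := pullback.lift_snd _ _ _
    haveI : IsSplitEpi (pullback.snd j (pullback.fst f x)) := IsSplitEpi.mk' ⟨_, hsec⟩
    exact isIso_of_mono_of_isSplitEpi _
  · intro h
    exact ⟨inv (pullback.snd j (pullback.fst f x)) ≫ pullback.fst j (pullback.fst f x), by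
      rw [Category.assoc, pullback.condition, IsIso.inv_hom_id_assoc]⟩

theorem Fp_iff_of_isPullback {T Q : Scheme.{u}} (x : T ⟶ S) (gq : Q ⟶ Z) (π' : Q ⟶ T)
    (H : IsPullback gq π' f x) : Fp f j T x ↔ ∃ l : Q ⟶ Y, l ≫ j = gq := by
  constructor
  · rintro ⟨l, hl⟩
    exact ⟨H.isoPullback.hom ≫ l, by rw [Category.assoc, hl, H.isoPullback_hom_fst]⟩
  · rintro ⟨l, hl⟩
    exact ⟨H.isoPullback.inv ≫ l, by rw [Category.assoc, hl, H.isoPullback_inv_fst]⟩

theorem Fp_comp {T T' : Scheme.{u}} (t : T' ⟶ T) (x : T ⟶ S) (h : Fp f j T x) :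
    Fp f j T' (t ≫ x) := by
  obtain ⟨l, hl⟩ := h
  refine ⟨pullback.lift (pullback.fst f (t ≫ x)) (pullback.snd f (t ≫ x) ≫ t)
    (by rw [pullback.condition, Category.assoc]) ≫ l, ?_⟩
  rw [Category.assoc, hl, pullback.lift_fst]

theorem Fp_local [Mono j] {T : Scheme.{u}} (x : T ⟶ S) (𝒲 : Scheme.OpenCover.{u} T)
    (h : ∀ i, Fp f j (𝒲.X i) (𝒲.f i ≫ x)) : Fp f j T x := by
  refine factors_of_cover j (pullback.fst f x) (𝒲.pullback₁ (pullback.snd f x)) ?_
  intro (i : 𝒲.I₀)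
  obtain ⟨l, hl⟩ := h i
  let u : pullback (pullback.snd f x) (𝒲.f i) ⟶ pullback f (𝒲.f i ≫ x) :=
    pullback.lift (pullback.fst _ _ ≫ pullback.fst f x) (pullback.snd _ _)
      (by rw [Category.assoc, pullback.condition, ← Category.assoc, pullback.condition,
        Category.assoc])
  refine ⟨u ≫ l, ?_⟩
  rw [Category.assoc, hl]
  exact pullback.lift_fst _ _ _

theorem Fp_descent [IsClosedImmersion j] {T T' : Scheme.{u}} (p : T' ⟶ T) [Flat p] [Surjective p]
    (x : T ⟶ S) (h : Fp f j T' (p ≫ x)) : Fp f j T x := by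
  let a : pullback f (p ≫ x) ⟶ pullback f x :=
    pullback.lift (pullback.fst f (p ≫ x)) (pullback.snd f (p ≫ x) ≫ p)
      (by rw [pullback.condition, Category.assoc])
  have ha1 : a ≫ pullback.fst f x = pullback.fst f (p ≫ x) := pullback.lift_fst _ _ _
  have ha2 : a ≫ pullback.snd f x = pullback.snd f (p ≫ x) ≫ p := pullback.lift_snd _ _ _
  have sq : IsPullback a (pullback.snd f (p ≫ x)) (pullback.snd f x) p := by
    refine IsPullback.of_right ?_ ha2 (IsPullback.of_hasPullback f x)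
    rw [ha1]
    exact IsPullback.of_hasPullback f (p ≫ x)
  haveI : Flat a := MorphismProperty.of_isPullback (P := @Flat) sq.flip inferInstance
  haveI : Surjective a := MorphismProperty.of_isPullback (P := @Surjective) sq.flip inferInstance
  unfold Fp at h ⊢
  rw [lift_iff_ker] at h ⊢
  intro U c hc
  have h1 := h U hc
  rw [RingHom.mem_ker] at h1 ⊢
  have h2 : (a ≫ pullback.fst f x).app U.1 c = 0 :=
    Groth.Agent.Helper4.SD.app_eq_zero_of_eq ha1 U.1 c h1
  rw [Scheme.Hom.comp_app] at h2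
  change a.app _ ((pullback.fst f x).app U.1 c) = 0 at h2
  exact (injective_iff_map_eq_zero _).mp
    (Groth.Agent.Helper4.SD.app_injective_of_flat_surjective a _) _ h2

end FpSec

section ChartsSec

variable {P S' : Scheme.{u}} [IsAffine S'] (π : P ⟶ S')

theorem comm_topIso (V : P.Opens) :
    (V.ι ≫ π).appTop ≫ V.topIso.hom = π.appLE ⊤ V le_top := by
  rw [Scheme.Hom.comp_appTop, Category.assoc]
  show π.appTop ≫ (P.presheaf.map (homOfLE (x := V.ι ''ᵁ ⊤) le_top).op ≫
    P.presheaf.map (eqToHom V.ι_image_top.symm).op) = π.app ⊤ ≫ P.presheaf.map (homOfLE _).op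
  rw [← Functor.map_comp]
  rfl

/-- transfer of projectivity from `Γ(↑V, ⊤)` to `Γ(P, V)` -/
theorem proj_topIso (V : P.Opens)
    (h : @Module.Projective Γ(S', ⊤) _ Γ(↑V, ⊤) _ (V.ι ≫ π).appTop.hom.toAlgebra.toModule) :
    @Module.Projective Γ(S', ⊤) _ Γ(P, V) _ (π.appLE ⊤ V le_top).hom.toAlgebra.toModule := by
  have po : IsPushout (V.ι ≫ π).appTop (𝟙 Γ(S', ⊤)) V.topIso.hom (π.appLE ⊤ V le_top) :=
    IsPushout.of_vert_isIso ⟨by rw [comm_topIso, Category.id_comp]⟩
  exact Groth.Agent.Lib.Helper4.EssFree1.projective_of_pushout _ _ _ _ po h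

theorem charts_of_cover {κ : Type w} (V : κ → P.Opens) (hcovr : ⨆ x, V x = ⊤)
    (hV : ∀ x, IsAffineOpen (V x))
    (hproj : ∀ x, @Module.Projective Γ(S', ⊤) _ Γ(P, V x) _
      (π.appLE ⊤ (V x) le_top).hom.toAlgebra.toModule) :
    Charts π V := by
  have H : IsPullback (𝟙 P) π π (𝟙 S') := IsPullback.of_horiz_isIso ⟨by simp⟩
  have hS : IsAffineOpen (⊤ : S'.Opens) := isAffineOpen_top S'
  refine ⟨hcovr, ?_, ?_⟩
  · intro v U hU
    have hUST : U ≤ (𝟙 S') ⁻¹ᵁ ⊤ := le_top
    have hUSX : V v ≤ π ⁻¹ᵁ ⊤ := le_top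
    have hUY : Wop π (V v) U = (𝟙 P) ⁻¹ᵁ (V v) ⊓ π ⁻¹ᵁ U := rfl
    haveI : IsAffine (⊤ : S'.Opens).toScheme := hS
    haveI : IsAffine U.toScheme := hU
    haveI : IsAffine (V v).toScheme := hV v
    exact IsAffine.of_isIso (Scheme.Hom.isPullback_resLE H hUST hUSX hUY).isoPullback.hom
  · intro v U hU
    have hUST : U ≤ (𝟙 S') ⁻¹ᵁ ⊤ := le_top
    have hUSX : V v ≤ π ⁻¹ᵁ ⊤ := le_top
    have hUY : Wop π (V v) U = (𝟙 P) ⁻¹ᵁ (V v) ⊓ π ⁻¹ᵁ U := rfl
    have sq := (isIso_pushoutSection_iff H hUST hUSX hUY).mp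
      (isIso_pushoutSection_of_isAffineOpen H hUST hUSX hUY hS hU (hV v))
    exact Groth.Agent.Lib.Helper4.EssFree1.projective_of_pushout _ _ _ _ sq (hproj v)

end ChartsSec

section Local

variable {S Z Y : Scheme.{u}} (f : Z ⟶ S) (j : Y ⟶ Z) [IsClosedImmersion j]

theorem L1_of_UP {S' : Scheme.{u}} (γ : S' ⟶ S) {T' : Scheme.{u}} (j' : T' ⟶ S')
    (hUP : ∀ (T Q : Scheme.{u}) (x : T ⟶ S') (g : Q ⟶ pullback f γ) (π' : Q ⟶ T),
      IsPullback g π' (pullback.snd f γ) x →
        ((∃ l : Q ⟶ pullback j (pullback.fst f γ), l ≫ pullback.snd j (pullback.fst f γ) = g) ↔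
          ∃ z : T ⟶ T', z ≫ j' = x))
    (T : Scheme.{u}) (x : T ⟶ S') : (∃ z : T ⟶ T', z ≫ j' = x) ↔ Fp f j T (x ≫ γ) := by
  let gq : pullback f (x ≫ γ) ⟶ pullback f γ :=
    pullback.lift (pullback.fst f (x ≫ γ)) (pullback.snd f (x ≫ γ) ≫ x)
      (by rw [pullback.condition, Category.assoc])
  have hg1 : gq ≫ pullback.fst f γ = pullback.fst f (x ≫ γ) := pullback.lift_fst _ _ _
  have hg2 : gq ≫ pullback.snd f γ = pullback.snd f (x ≫ γ) ≫ x := pullback.lift_snd _ _ _
  have sq : IsPullback gq (pullback.snd f (x ≫ γ)) (pullback.snd f γ) x := by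
    refine IsPullback.of_right ?_ hg2 (IsPullback.of_hasPullback f γ)
    rw [hg1]
    exact IsPullback.of_hasPullback f (x ≫ γ)
  rw [← hUP T _ x gq _ sq]
  constructor
  · rintro ⟨l, hl⟩
    exact ⟨l ≫ pullback.fst j (pullback.fst f γ), by
      rw [Category.assoc, pullback.condition, ← Category.assoc, hl, hg1]⟩
  · rintro ⟨l, hl⟩
    exact ⟨pullback.lift l gq (by rw [hl, hg1]), pullback.lift_snd _ _ _⟩

theorem step_a {S' : Scheme.{u}} [IsAffine S'] (γ : S' ⟶ S)
    (hcov : ∀ x : ↥(pullback f γ), ∃ V : (pullback f γ).Opens, x ∈ V ∧ IsAffineOpen V ∧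
      (letI := (V.ι ≫ pullback.snd f γ).appTop.hom.toAlgebra
       Module.Projective Γ(S', ⊤) Γ(↑V, ⊤))) :
    ∃ (T' : Scheme.{u}) (j' : T' ⟶ S'), IsClosedImmersion j' ∧
      (∀ (T : Scheme.{u}) (x : T ⟶ S'), (∃ z : T ⟶ T', z ≫ j' = x) ↔ Fp f j T (x ≫ γ)) ∧
      (QuasiCompact f → LocallyOfFinitePresentation j → LocallyOfFinitePresentation j') := by
  choose V hxV hV hproj using hcov
  have hproj' : ∀ x, @Module.Projective Γ(S', ⊤) _ Γ(pullback f γ, V x) _
      ((pullback.snd f γ).appLE ⊤ (V x) le_top).hom.toAlgebra.toModule :=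
    fun x => proj_topIso (pullback.snd f γ) (V x) (hproj x)
  by_cases hfp : QuasiCompact f ∧ LocallyOfFinitePresentation j
  · obtain ⟨hqc, hlfp⟩ := hfp
    haveI := hqc
    haveI := hlfp
    haveI : CompactSpace ↥(pullback f γ) := inferInstance
    obtain ⟨t, ht⟩ := isCompact_univ.elim_finite_subcover
      (fun x => ((V x : (pullback f γ).Opens) : Set ↥(pullback f γ)))
      (fun x => (V x).isOpen) (fun x _ => Set.mem_iUnion.mpr ⟨x, hxV x⟩)
    have hcovr : ⨆ k : t, V k.1 = ⊤ := by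
      rw [eq_top_iff]
      intro x _
      have hx := ht (Set.mem_univ x)
      simp only [Set.mem_iUnion] at hx
      obtain ⟨k, hk, hxk⟩ := hx
      exact Opens.mem_iSup.mpr ⟨⟨k, hk⟩, hxk⟩
    have hc : Charts (pullback.snd f γ) (fun k : t => V k.1) :=
      charts_of_cover _ _ hcovr (fun k => hV k.1) (fun k => hproj' k.1)
    obtain ⟨T', j', h1, h2, h3⟩ :=
      main_star_fp' (pullback.snd f γ) _ hc (pullback.snd j (pullback.fst f γ))
    exact ⟨T', j', h1, L1_of_UP f j γ j' (fun T Q x g π' H => h3 T Q x g π' H), fun _ _ => h2⟩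
  · have hcovr : ⨆ x, V x = ⊤ := by
      rw [eq_top_iff]
      intro x _
      exact Opens.mem_iSup.mpr ⟨x, hxV x⟩
    have hc : Charts (pullback.snd f γ) V := charts_of_cover _ _ hcovr hV hproj'
    obtain ⟨T', j', h1, h3⟩ :=
      main_star (pullback.snd f γ) V hc (pullback.snd j (pullback.fst f γ))
    exact ⟨T', j', h1, L1_of_UP f j γ j' (fun T Q x g π' H => h3 T Q x g π' H),
      fun h1 h2 => absurd ⟨h1, h2⟩ hfp⟩

theorem step_b (U : S.Opens) (hU : IsAffineOpen U) {S' : Scheme.{u}} [IsAffine S'] (g : S' ⟶ ↑U)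
    [Flat g] [Surjective g] {T' : Scheme.{u}} (j' : T' ⟶ S') [IsClosedImmersion j']
    (L1 : ∀ (T : Scheme.{u}) (x : T ⟶ S'),
      (∃ z : T ⟶ T', z ≫ j' = x) ↔ Fp f j T (x ≫ g ≫ U.ι)) :
    ∃ (TU : Scheme.{u}) (t : TU ⟶ ↑U), IsClosedImmersion t ∧
      (∀ (T : Scheme.{u}) (x : T ⟶ ↑U), (∃ l : T ⟶ TU, l ≫ t = x) ↔ Fp f j T (x ≫ U.ι)) ∧
      (LocallyOfFinitePresentation j' → LocallyOfFinitePresentation t) := by
  haveI : IsAffine ↑U := hU
  obtain ⟨I', hI'⟩ : ∃ I' : Ideal Γ(S', ⊤), I' = RingHom.ker j'.appTop.hom := ⟨_, rfl⟩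
  have L1' : ∀ (T : Scheme.{u}) (x : T ⟶ S'),
      I' ≤ RingHom.ker x.appTop.hom ↔ Fp f j T (x ≫ g ≫ U.ι) := by
    intro T x
    rw [← L1 T x, lift_iff_ker_appTop, hI']
  -- cocycle condition
  have hco : I'.map (pullback.fst g g).appTop.hom ≤ I'.map (pullback.snd g g).appTop.hom := by
    obtain ⟨J2, hJ2⟩ : ∃ J2 : Ideal Γ(pullback g g, ⊤),
      J2 = I'.map (pullback.snd g g).appTop.hom := ⟨_, rfl⟩
    rw [← hJ2]
    have hw : RingHom.ker (Scheme.IdealSheafData.ofIdealTop J2).subschemeι.appTop.hom = J2 :=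
      ker_ofIdealTop_appTop J2
    obtain ⟨W, w, hw⟩ : ∃ (W : Scheme.{u}) (w : W ⟶ pullback g g),
        RingHom.ker w.appTop.hom = J2 := ⟨_, _, hw⟩
    have h1 : I' ≤ RingHom.ker (w ≫ pullback.snd g g).appTop.hom := by
      intro b hb
      rw [RingHom.mem_ker, Scheme.Hom.comp_appTop]
      show w.appTop.hom ((pullback.snd g g).appTop.hom b) = 0
      rw [← RingHom.mem_ker, hw, hJ2]
      exact Ideal.mem_map_of_mem _ hb
    have h2 : Fp f j _ ((w ≫ pullback.snd g g) ≫ g ≫ U.ι) := (L1' _ _).mp h1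
    have h3 : (w ≫ pullback.snd g g) ≫ g ≫ U.ι = (w ≫ pullback.fst g g) ≫ g ≫ U.ι := by
      rw [Category.assoc, Category.assoc, ← Category.assoc (pullback.snd g g),
        ← pullback.condition, Category.assoc]
    rw [h3] at h2
    have h4 := (L1' _ _).mpr h2
    rw [Ideal.map_le_iff_le_comap]
    intro b hb
    have h5 := h4 hb
    rw [RingHom.mem_ker, Scheme.Hom.comp_appTop] at h5
    rw [Ideal.mem_comap, ← hw, RingHom.mem_ker]
    exact h5
  have hflat : g.appTop.hom.Flat := Scheme.Hom.flat_appTop g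
  have hdesc : I' ≤ (I'.comap g.appTop.hom).map g.appTop.hom :=
    le_map_comap_of_cocycle g.appTop (pullback.fst g g).appTop (pullback.snd g g).appTop
      (isPushout_appTop_of_isPullback (IsPullback.of_hasPullback g g)) hflat I' hco
  obtain ⟨I, hI⟩ : ∃ I : Ideal Γ(↑U, ⊤), I = I'.comap g.appTop.hom := ⟨_, rfl⟩
  rw [← hI] at hdesc
  have ht0 : RingHom.ker (Scheme.IdealSheafData.ofIdealTop I).subschemeι.appTop.hom = I :=
    ker_ofIdealTop_appTop I
  obtain ⟨TU, t, hcl, ht, hlfpt⟩ : ∃ (TU : Scheme.{u}) (t : TU ⟶ ↑U), IsClosedImmersion t ∧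
      RingHom.ker t.appTop.hom = I ∧ (I.FG → LocallyOfFinitePresentation t) := by
    refine ⟨_, (Scheme.IdealSheafData.ofIdealTop I).subschemeι, inferInstance, ht0,
      fun hIfg => ?_⟩
    apply lfp_subschemeι
    intro W
    rw [Scheme.IdealSheafData.ofIdealTop_ideal]
    exact hIfg.map _
  haveI := hcl
  refine ⟨TU, t, hcl, ?_, ?_⟩
  · intro T x
    rw [lift_iff_ker_appTop, ht]
    constructor
    · intro hx
      have hFt : Fp f j _ (t ≫ U.ι) := by
        apply Fp_descent f j (pullback.fst t g)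
        have e : pullback.fst t g ≫ t ≫ U.ι = pullback.snd t g ≫ g ≫ U.ι := by
          rw [← Category.assoc, pullback.condition, Category.assoc]
        rw [e]
        apply (L1' _ _).mp
        refine hdesc.trans ?_
        rw [Ideal.map_le_iff_le_comap]
        intro a ha
        rw [Ideal.mem_comap, RingHom.mem_ker]
        have e2 : (pullback.snd t g ≫ g).appTop = (pullback.fst t g ≫ t).appTop := by
          rw [pullback.condition]
        have e3 : (pullback.snd t g).appTop.hom (g.appTop.hom a) =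
            (pullback.fst t g).appTop.hom (t.appTop.hom a) := by
          have := congrArg (fun m => m.hom a) e2
          rw [Scheme.Hom.comp_appTop, Scheme.Hom.comp_appTop] at this
          exact this
        rw [e3]
        have : t.appTop.hom a = 0 := by
          rw [← RingHom.mem_ker, ht]
          exact ha
        rw [this, map_zero]
      obtain ⟨l, rfl⟩ := (lift_iff_ker_appTop t x).mpr (by rw [ht]; exact hx)
      rw [Category.assoc]
      exact Fp_comp f j l _ hFt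
    · intro hF a ha
      have hF'' : Fp f j (pullback x g) (pullback.snd x g ≫ g ≫ U.ι) := by
        have e : pullback.snd x g ≫ g ≫ U.ι = pullback.fst x g ≫ (x ≫ U.ι) := by
          rw [← Category.assoc, ← pullback.condition, Category.assoc]
        rw [e]
        exact Fp_comp f j _ _ hF
      have h1 := (L1' _ _).mpr hF''
      have ha' : g.appTop.hom a ∈ I' := by
        rw [hI] at ha
        exact ha
      have h2 : (pullback.snd x g).appTop.hom (g.appTop.hom a) = 0 := h1 ha'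
      have e2 : (pullback.snd x g ≫ g).appTop = (pullback.fst x g ≫ x).appTop := by
        rw [pullback.condition]
      have h3 : (pullback.fst x g).appTop.hom (x.appTop.hom a) = 0 := by
        have := congrArg (fun m => m.hom a) e2
        rw [Scheme.Hom.comp_appTop, Scheme.Hom.comp_appTop] at this
        exact this.symm.trans h2
      rw [RingHom.mem_ker]
      exact (injective_iff_map_eq_zero _).mp
        (Groth.Agent.Helper4.SD.app_injective_of_flat_surjective (pullback.fst x g) ⊤) _ h3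
  · intro hlfp
    haveI := hlfp
    apply hlfpt
    have hI'fg : I'.FG := by
      have := fg_ker_of_lfp j' ⟨⊤, isAffineOpen_top S'⟩
      rw [Scheme.Hom.ker_apply] at this
      rw [hI']
      exact this
    have hIfg : I.FG := by
      have hff : g.appTop.hom.FaithfullyFlat :=
        (Flat.flat_and_surjective_iff_faithfullyFlat_of_isAffine g).mp ⟨inferInstance, inferInstance⟩
      letI : Algebra Γ(↑U, ⊤) Γ(S', ⊤) := g.appTop.hom.toAlgebra
      haveI : Module.FaithfullyFlat Γ(↑U, ⊤) Γ(S', ⊤) := hff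
      apply Ideal.FG.of_FG_map_of_faithfullyFlat (S := Γ(S', ⊤))
      have : I.map (algebraMap Γ(↑U, ⊤) Γ(S', ⊤)) = I' := by
        refine le_antisymm ?_ hdesc
        rw [hI]
        exact Ideal.map_comap_le
      rw [this]
      exact hI'fg
    exact hIfg

end Local

section Global

variable {S Z Y : Scheme.{u}} (f : Z ⟶ S) (j : Y ⟶ Z) [IsClosedImmersion j]

theorem local_rep (U : S.Opens) (hU : IsAffineOpen U) (S' : Scheme.{u}) [IsAffine S']
    (g : S' ⟶ ↑U) [Flat g] [Surjective g]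
    (hcov : ∀ x : ↥(pullback f (g ≫ U.ι)), ∃ V : (pullback f (g ≫ U.ι)).Opens,
      x ∈ V ∧ IsAffineOpen V ∧
      (letI := (V.ι ≫ pullback.snd f (g ≫ U.ι)).appTop.hom.toAlgebra
       Module.Projective Γ(S', ⊤) Γ(↑V, ⊤))) :
    ∃ (TU : Scheme.{u}) (t : TU ⟶ ↑U), IsClosedImmersion t ∧
      (∀ (T : Scheme.{u}) (x : T ⟶ ↑U), (∃ l : T ⟶ TU, l ≫ t = x) ↔ Fp f j T (x ≫ U.ι)) ∧
      (QuasiCompact f → LocallyOfFinitePresentation j → LocallyOfFinitePresentation t) := by
  obtain ⟨T', j', hcl, L1, hfp⟩ := step_a f j (g ≫ U.ι) hcov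
  haveI := hcl
  obtain ⟨TU, t, hclt, hUP, hlfp⟩ := step_b f j U hU g j' L1
  exact ⟨TU, t, hclt, hUP, fun h1 h2 => hlfp (hfp h1 h2)⟩

/-- opens over which the functor is represented by a closed subscheme of a larger open -/
def goodB : Set S.Opens :=
  {V | ∃ (U : S.Opens) (TU : Scheme.{u}) (t : TU ⟶ ↑U), V ≤ U ∧ IsClosedImmersion t ∧
    ∀ (T : Scheme.{u}) (x : T ⟶ ↑U), (∃ l : T ⟶ TU, l ≫ t = x) ↔ Fp f j T (x ≫ U.ι)}

theorem main (S Z Y : Scheme.{u}) (f : Z ⟶ S) (hf : SGA3x.IsEssentiallyFree f) (j : Y ⟶ Z)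
    [IsClosedImmersion j] :
    ∃ (T : Scheme.{u}) (t : T ⟶ S), IsClosedImmersion t ∧
      (∀ (S' : Scheme.{u}) (g : S' ⟶ S),
        (∃ g' : S' ⟶ T, g' ≫ t = g) ↔ IsIso (pullback.snd j (pullback.fst f g))) ∧
      (QuasiCompact f → LocallyOfFinitePresentation j → LocallyOfFinitePresentation t) := by
  have hlocal : ∀ s : S, ∃ (U : S.Opens) (TU : Scheme.{u}) (t : TU ⟶ ↑U), s ∈ U ∧
      IsClosedImmersion t ∧
      (∀ (T : Scheme.{u}) (x : T ⟶ ↑U), (∃ l : T ⟶ TU, l ≫ t = x) ↔ Fp f j T (x ≫ U.ι)) ∧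
      (QuasiCompact f → LocallyOfFinitePresentation j → LocallyOfFinitePresentation t) := by
    intro s
    obtain ⟨U, hsU, hU, S', hS', g, hg1, hg2, hcov⟩ := hf s
    haveI := hS'
    haveI := hg1
    haveI := hg2
    obtain ⟨TU, t, h1, h2, h3⟩ := local_rep f j U hU S' g hcov
    exact ⟨U, TU, t, hsU, h1, h2, h3⟩
  have hbasis : Opens.IsBasis (goodB f j) := by
    rw [Opens.isBasis_iff_nbhd]
    intro W x hx
    obtain ⟨U, TU, t, hsU, h1, h2, -⟩ := hlocal x
    exact ⟨W ⊓ U, ⟨U, TU, t, inf_le_right, h1, h2⟩, ⟨hx, hsU⟩, inf_le_left⟩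
  have hloc : ∀ V ∈ goodB f j, ∃ (Z' : Scheme.{u}) (jV : Z' ⟶ (V : S.Opens).toScheme),
      IsClosedImmersion jV ∧ ∀ (T : Scheme.{u}) (x : T ⟶ (V : S.Opens).toScheme),
        (∃ l : T ⟶ Z', l ≫ jV = x) ↔ Fp f j T (x ≫ (V : S.Opens).ι) := by
    rintro V ⟨U, TU, t, hVU, hcl, hUP⟩
    haveI := hcl
    refine ⟨pullback t (S.homOfLE hVU), pullback.snd t (S.homOfLE hVU), inferInstance,
      fun T x => ?_⟩
    have e : (x ≫ S.homOfLE hVU) ≫ U.ι = x ≫ V.ι := by rw [Category.assoc, S.homOfLE_ι]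
    rw [← e, ← hUP]
    constructor
    · rintro ⟨l, hl⟩
      exact ⟨l ≫ pullback.fst t (S.homOfLE hVU), by
        rw [Category.assoc, pullback.condition, ← Category.assoc, hl]⟩
    · rintro ⟨l, hl⟩
      exact ⟨pullback.lift l x hl, pullback.lift_snd _ _ _⟩
  obtain ⟨T, t, hcl, hrep⟩ := Groth.Agent.Lib.Helper4.GlueClosed.glue_closed (goodB f j) hbasis
    (Fp f j) (fun t x h => Fp_comp f j t x h) (fun x 𝒲 h => Fp_local f j x 𝒲 h) hloc
  haveI := hcl
  refine ⟨T, t, hcl, fun S' g => ?_, fun hqc hlfp => ?_⟩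
  · rw [hrep, Fp_iff_isIso]
  · apply IsZariskiLocalAtTarget.of_forall_exists_morphismRestrict
      (P := @LocallyOfFinitePresentation)
    intro s
    obtain ⟨U, TU, tU, hsU, h1, h2, h3⟩ := hlocal s
    haveI := h1
    haveI : LocallyOfFinitePresentation tU := h3 hqc hlfp
    refine ⟨U, hsU, ?_⟩
    have sqR := isPullback_morphismRestrict t U
    obtain ⟨l1, hl1⟩ : ∃ l1 : ↑(t ⁻¹ᵁ U) ⟶ TU, l1 ≫ tU = t ∣_ U := by
      rw [h2, sqR.w, ← hrep]
      exact ⟨_, rfl⟩
    obtain ⟨m, hm⟩ : ∃ m : TU ⟶ T, m ≫ t = tU ≫ U.ι := by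
      rw [hrep, ← h2]
      exact ⟨𝟙 _, Category.id_comp _⟩
    have hl2 : sqR.lift tU m hm.symm ≫ (t ∣_ U) = tU := sqR.lift_fst _ _ _
    haveI : IsIso l1 := by
      refine ⟨sqR.lift tU m hm.symm, ?_, ?_⟩
      · rw [← cancel_mono (t ∣_ U), Category.assoc, hl2, hl1, Category.id_comp]
      · rw [← cancel_mono tU, Category.assoc, hl1, hl2, Category.id_comp]
    rw [← hl1]
    infer_instance

end Global

end Groth.Agent.Lib.Helper4.EssFreeWeil1
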