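import Mathlib

namespace Groth.Agent.Helper4.EA

universe u

theorem cartesian_square_localization_away {B R R' B' : Type u} [CommRing B] [CommRing R]
    [CommRing R'] [CommRing B']
    (s : B →+* R) (t : R' →+* R) (p : B' →+* B) (q : B' →+* R') (hc : s.comp p = t.comp q)
    (hinj : ∀ x y : B', p x = p y → q x = q y → x = y)
    (hsurj : ∀ (b : B) (r' : R'), s b = t r' → ∃ x : B', p x = b ∧ q x = r')
    (h : B') (Bh Bg Rf Rsg : Type u) [CommRing Bh] [CommRing Bg] [CommRing Rf] [CommRing Rsg]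
    [Algebra B' Bh] [IsLocalization.Away h Bh] [Algebra B Bg] [IsLocalization.Away (p h) Bg]
    [Algebra R' Rf] [IsLocalization.Away (q h) Rf] [Algebra R Rsg]
    [IsLocalization.Away (s (p h)) Rsg]
    (pL : Bh →+* Bg) (qL : Bh →+* Rf) (sL : Bg →+* Rsg) (tL : Rf →+* Rsg)
    (hp : pL.comp (algebraMap B' Bh) = (algebraMap B Bg).comp p)
    (hq : qL.comp (algebraMap B' Bh) = (algebraMap R' Rf).comp q)
    (hs : sL.comp (algebraMap B Bg) = (algebraMap R Rsg).comp s)
    (ht : tL.comp (algebraMap R' Rf) = (algebraMap R Rsg).comp t) :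
    (∀ x y : Bh, pL x = pL y → qL x = qL y → x = y) ∧
    (∀ (b : Bg) (r : Rf), sL b = tL r → ∃ x : Bh, pL x = b ∧ qL x = r) := by
  have hp' : ∀ a, pL (algebraMap B' Bh a) = algebraMap B Bg (p a) := fun a =>
    RingHom.congr_fun hp a
  have hq' : ∀ a, qL (algebraMap B' Bh a) = algebraMap R' Rf (q a) := fun a =>
    RingHom.congr_fun hq a
  have hs' : ∀ a, sL (algebraMap B Bg a) = algebraMap R Rsg (s a) := fun a =>
    RingHom.congr_fun hs a
  have ht' : ∀ a, tL (algebraMap R' Rf a) = algebraMap R Rsg (t a) := fun a =>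
    RingHom.congr_fun ht a
  have hc' : ∀ a, s (p a) = t (q a) := fun a => RingHom.congr_fun hc a
  have hu : IsUnit (algebraMap B' Bh h) := IsLocalization.Away.algebraMap_isUnit h
  constructor
  · intro x y hxy1 hxy2
    obtain ⟨n, a, ha⟩ := IsLocalization.Away.surj h x
    obtain ⟨m, b, hb⟩ := IsLocalization.Away.surj h y
    have ha' : x * algebraMap B' Bh h ^ (n + m) = algebraMap B' Bh (h ^ m * a) := by
      rw [map_mul, map_pow, ← ha]; ring
    have hb' : y * algebraMap B' Bh h ^ (n + m) = algebraMap B' Bh (h ^ n * b) := by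
      rw [map_mul, map_pow, ← hb]; ring
    have e1 : algebraMap B Bg (p (h ^ m * a)) = algebraMap B Bg (p (h ^ n * b)) := by
      rw [← hp', ← hp', ← ha', ← hb', map_mul, map_mul, hxy1]
    have e2 : algebraMap R' Rf (q (h ^ m * a)) = algebraMap R' Rf (q (h ^ n * b)) := by
      rw [← hq', ← hq', ← ha', ← hb', map_mul, map_mul, hxy2]
    obtain ⟨k, hk⟩ := IsLocalization.Away.exists_of_eq (p h) e1
    obtain ⟨l, hl⟩ := IsLocalization.Away.exists_of_eq (q h) e2
    have e3 : h ^ (k + l) * (h ^ m * a) = h ^ (k + l) * (h ^ n * b) := by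
      have hpX : ∀ X : B', p (h ^ (k + l) * X) = p h ^ l * (p h ^ k * p X) := fun X => by
        rw [map_mul, map_pow, pow_add]; ring
      have hqX : ∀ X : B', q (h ^ (k + l) * X) = q h ^ k * (q h ^ l * q X) := fun X => by
        rw [map_mul, map_pow, pow_add]; ring
      apply hinj
      · rw [hpX, hpX, hk]
      · rw [hqX, hqX, hl]
    have e4 : algebraMap B' Bh (h ^ m * a) = algebraMap B' Bh (h ^ n * b) := by
      have := congrArg (algebraMap B' Bh) e3
      rw [map_mul, map_mul (algebraMap B' Bh) (h ^ (k + l)), map_pow] at this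
      exact (hu.pow (k + l)).mul_right_injective this
    rw [← ha', ← hb'] at e4
    exact (hu.pow (n + m)).mul_left_injective e4
  · intro b r hbr
    obtain ⟨n, b₀, hb₀⟩ := IsLocalization.Away.surj (p h) b
    obtain ⟨m, r₀, hr₀⟩ := IsLocalization.Away.surj (q h) r
    have hb₁ : b * algebraMap B Bg (p h) ^ (n + m) = algebraMap B Bg (p h ^ m * b₀) := by
      rw [map_mul, map_pow, ← hb₀]; ring
    have hr₁ : r * algebraMap R' Rf (q h) ^ (n + m) = algebraMap R' Rf (q h ^ n * r₀) := by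
      rw [map_mul, map_pow, ← hr₀]; ring
    have e1 : algebraMap R Rsg (s (p h ^ m * b₀)) = algebraMap R Rsg (t (q h ^ n * r₀)) := by
      rw [← hs', ← ht', ← hb₁, ← hr₁, map_mul, map_mul, map_pow, map_pow, hs', ht', hbr, hc']
    obtain ⟨k, hk⟩ := IsLocalization.Away.exists_of_eq (s (p h)) e1
    have e2 : s (p h ^ k * (p h ^ m * b₀)) = t (q h ^ k * (q h ^ n * r₀)) := by
      have h1 : s (p h ^ k * (p h ^ m * b₀)) = s (p h) ^ k * s (p h ^ m * b₀) := by
        rw [map_mul, map_pow]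
      have h2 : t (q h ^ k * (q h ^ n * r₀)) = s (p h) ^ k * t (q h ^ n * r₀) := by
        rw [map_mul, map_pow, ← hc']
      rw [h1, h2, hk]
    obtain ⟨x', hx'p, hx'q⟩ := hsurj _ _ e2
    obtain ⟨v, hv⟩ := hu
    refine ⟨algebraMap B' Bh x' * ((v⁻¹ : Bhˣ) : Bh) ^ (n + m + k), ?_, ?_⟩
    · have h1 : algebraMap B Bg (p h) * pL ((v⁻¹ : Bhˣ) : Bh) = 1 := by
        rw [← hp', ← map_mul, ← hv, Units.mul_inv, map_one]
      rw [map_mul, map_pow, hp', hx'p, map_mul, ← hb₁, map_pow]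
      calc algebraMap B Bg (p h) ^ k * (b * algebraMap B Bg (p h) ^ (n + m)) *
            pL ((v⁻¹ : Bhˣ) : Bh) ^ (n + m + k)
          = b * (algebraMap B Bg (p h) * pL ((v⁻¹ : Bhˣ) : Bh)) ^ (n + m + k) := by ring
        _ = b := by rw [h1, one_pow, mul_one]
    · have h1 : algebraMap R' Rf (q h) * qL ((v⁻¹ : Bhˣ) : Bh) = 1 := by
        rw [← hq', ← map_mul, ← hv, Units.mul_inv, map_one]
      rw [map_mul, map_pow, hq', hx'q, map_mul, ← hr₁, map_pow]
      calc algebraMap R' Rf (q h) ^ k * (r * algebraMap R' Rf (q h) ^ (n + m)) *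
            qL ((v⁻¹ : Bhˣ) : Bh) ^ (n + m + k)
          = r * (algebraMap R' Rf (q h) * qL ((v⁻¹ : Bhˣ) : Bh)) ^ (n + m + k) := by ring
        _ = r := by rw [h1, one_pow, mul_one]

end Groth.Agent.Helper4.EA
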