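import Mathlib

namespace Groth.Agent.Helper4.EA

universe u

theorem finiteType_fibreProduct (R : Type u) [CommRing R] [IsNoetherianRing R] {ι : Type u}
    [Fintype ι]
    (Q : Type u) [CommRing Q] [Algebra R Q] [Algebra.FiniteType R Q] (A B : ι → Type u)
    [∀ i, CommRing (A i)]
    [∀ i, CommRing (B i)] [∀ i, Algebra R (A i)] [∀ i, Algebra R (B i)]
    (hA : ∀ i, Algebra.FiniteType R (A i))
    (φ : ∀ i, A i →ₐ[R] B i) (ψ : ∀ i, Q →ₐ[R] B i)
    (hφ : ∀ i, Function.Surjective (φ i)) (hψ : ∀ i, Function.Surjective (ψ i)) :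
    Algebra.FiniteType R ↥(AlgHom.equalizer ((AlgHom.pi ψ).comp (AlgHom.fst R Q (∀ i, A i)))
      ((AlgHom.pi fun i => (φ i).comp (Pi.evalAlgHom R A i)).comp
        (AlgHom.snd R Q (∀ i, A i)))) := by
  classical
  set E := AlgHom.equalizer ((AlgHom.pi ψ).comp (AlgHom.fst R Q (∀ i, A i)))
      ((AlgHom.pi fun i => (φ i).comp (Pi.evalAlgHom R A i)).comp
        (AlgHom.snd R Q (∀ i, A i))) with hE
  have hmem : ∀ x : Q × (∀ i, A i), x ∈ E ↔ ∀ i, ψ i x.1 = φ i (x.2 i) := by
    intro x
    rw [hE, AlgHom.mem_equalizer]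
    constructor
    · intro h i
      exact congrFun h i
    · intro h
      funext i
      exact h i
  have hAfp : ∀ i, Algebra.FinitePresentation R (A i) := fun i =>
    Algebra.FinitePresentation.of_finiteType.mp (hA i)
  have hpi : Algebra.FiniteType R (∀ i, A i) := inferInstance
  have hT : Algebra.FiniteType R (Q × (∀ i, A i)) := inferInstance
  -- elements of E with prescribed components
  have hexQ : ∀ q : Q, ∃ x : E, x.1.1 = q := by
    intro q
    choose a ha using fun i => hφ i (ψ i q)
    exact ⟨⟨(q, a), (hmem _).mpr fun i => (ha i).symm⟩, rfl⟩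
  have hexA : ∀ (j : ι) (aj : A j), ∃ x : E, x.1.2 j = aj := by
    intro j aj
    obtain ⟨q, hq⟩ := hψ j (φ j aj)
    choose a ha using fun i => hφ i (ψ i q)
    refine ⟨⟨(q, Function.update a j aj), (hmem _).mpr fun i => ?_⟩, by simp⟩
    by_cases hij : i = j
    · subst hij
      simp [hq]
    · simp [Function.update_of_ne hij, ha i]
  refine ⟨fg_of_fg_of_fg (A := R) (B := E) (C := Q × (∀ i, A i)) hT.out ?_
    Subtype.val_injective⟩
  -- generators
  let eQ : Q × (∀ i, A i) := (1, 0)
  let eA : ι → Q × (∀ i, A i) := fun j => (0, Pi.single j 1)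
  have hspan : (⊤ : Submodule E (Q × (∀ i, A i))) =
      Submodule.span E (insert eQ (Set.range eA)) := by
    symm
    rw [eq_top_iff]
    rintro ⟨q, a⟩ -
    obtain ⟨xQ, hxQ⟩ := hexQ q
    choose xA hxA using fun j => hexA j (a j)
    have hdecomp : ((q, a) : Q × (∀ i, A i)) = xQ • eQ + ∑ j, xA j • eA j := by
      have h1 : xQ • eQ = ((q, 0) : Q × (∀ i, A i)) := by
        change (xQ : Q × (∀ i, A i)) * eQ = _
        ext
        · simp [eQ, hxQ]
        · simp [eQ]
      have h2 : ∀ j, xA j • eA j = ((0, Pi.single j (a j)) : Q × (∀ i, A i)) := by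
        intro j
        change (xA j : Q × (∀ i, A i)) * eA j = _
        ext i
        · simp [eA]
        · by_cases hij : i = j
          · subst hij
            simp [eA, hxA]
          · simp [eA, Pi.single_eq_of_ne hij]
      rw [h1]
      simp_rw [h2]
      ext i
      · simp [Prod.fst_sum]
      · simp [Prod.snd_sum, Finset.sum_apply, Finset.sum_pi_single]
    rw [hdecomp]
    refine Submodule.add_mem _ (Submodule.smul_mem _ _ (Submodule.subset_span (Set.mem_insert _ _)))
      (Submodule.sum_mem _ fun j _ => Submodule.smul_mem _ _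
        (Submodule.subset_span (Set.mem_insert_of_mem _ ⟨j, rfl⟩)))
  rw [hspan]
  exact Submodule.fg_span ((Set.finite_range eA).insert eQ)

end Groth.Agent.Helper4.EA
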