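import Mathlib

/-!
# etale residue field maps; fibre maps in etale squares are etale (helper4)
-/

set_option backward.isDefEq.respectTransparency.types false
set_option synthInstance.maxHeartbeats 400000
set_option autoImplicit false
set_option linter.unusedSectionVars false
set_option linter.style.haveILetI false
set_option linter.unusedSimpArgs false
universe u v w
open CategoryTheory CategoryTheory.Limits AlgebraicGeometry

namespace Groth.Agent.Lib.Helper4.EtFib1

/-- The residue field extension of an unramified morphism is finite. -/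
theorem finite_residueFieldMap {X Y : Scheme.{u}} (f : X ⟶ Y) [FormallyUnramified f]
    [LocallyOfFiniteType f] (x : X) :
    letI : Algebra (Y.residueField (f.base x)) (X.residueField x) :=
      (f.residueFieldMap x).hom.toAlgebra
    Module.Finite (Y.residueField (f.base x)) (X.residueField x) := by
  algebraize [(f.stalkMap x).hom]
  have : IsLocalHom (algebraMap (Y.presheaf.stalk (f x)) (X.presheaf.stalk x)) :=
    inferInstanceAs <| IsLocalHom (f.stalkMap x).hom
  suffices h : @Module.Finite
      (IsLocalRing.ResidueField (Y.presheaf.stalk (f x)))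
      (IsLocalRing.ResidueField (X.presheaf.stalk x)) _ _
      (@Algebra.toModule _ _ _ _ (inferInstance : Algebra
        (IsLocalRing.ResidueField (Y.presheaf.stalk (f x)))
        (IsLocalRing.ResidueField (X.presheaf.stalk x)))) by
    convert! h
    refine Algebra.algebra_ext _ _ fun x ↦ ?_
    obtain ⟨x, rfl⟩ := IsLocalRing.residue_surjective x
    rfl
  have : Algebra.EssFiniteType (Y.presheaf.stalk (f x)) (X.presheaf.stalk x) := by
    rw [← RingHom.essFiniteType_algebraMap, RingHom.algebraMap_toAlgebra]
    exact LocallyOfFiniteType.stalkMap f x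
  have : Algebra.FormallyUnramified (Y.presheaf.stalk (f x)) (X.presheaf.stalk x) := by
    rw [← RingHom.formallyUnramified_algebraMap, RingHom.algebraMap_toAlgebra]
    exact FormallyUnramified.stalkMap f x
  infer_instance

/-- The residue field extension of an étale morphism is étale. -/
theorem etale_SpecMap_residueFieldMap {X Y : Scheme.{u}} (f : X ⟶ Y) [Etale f] (x : X) :
    Etale (Spec.map (f.residueFieldMap x)) := by
  letI : Algebra (Y.residueField (f.base x)) (X.residueField x) :=
      (f.residueFieldMap x).hom.toAlgebra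
  have hfin : Module.Finite (Y.residueField (f.base x)) (X.residueField x) :=
    finite_residueFieldMap f x
  have hsep : Algebra.IsSeparable (Y.residueField (f.base x)) (X.residueField x) := inferInstance
  haveI : Module.Finite (Y.residueField (f.base x)) (X.residueField x) := hfin
  haveI : Algebra.Etale (Y.residueField (f.base x)) (X.residueField x) := by
    haveI : Algebra.FormallyEtale (Y.residueField (f.base x)) (X.residueField x) :=
      Algebra.FormallyEtale.of_isSeparable _ _
    haveI : Algebra.FinitePresentation (Y.residueField (f.base x)) (X.residueField x) :=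
      Algebra.FinitePresentation.of_finiteType.mp inferInstance
    exact ⟨inferInstance, inferInstance⟩
  have : f.residueFieldMap x = CommRingCat.ofHom (algebraMap (Y.residueField (f.base x)) (X.residueField x)) := rfl
  rw [this, HasRingHomProperty.Spec_iff (P := @Etale)]
  rw [CommRingCat.hom_ofHom, RingHom.etale_algebraMap]
  infer_instance


/-- General form: in a commutative square with étale vertical maps, the induced map on fibre
products with compatible étale `r : K' ⟶ K` is étale. -/
theorem etale_pullback_map {U U' V V' K K' : Scheme.{u}} (h : U ⟶ V) (h' : U' ⟶ V') (a : U' ⟶ U)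
    (b : V' ⟶ V) (k : K ⟶ V) (k' : K' ⟶ V') (r : K' ⟶ K) [Etale a] [Etale b] [Etale r]
    (comm : h' ≫ b = a ≫ h) (hr : k' ≫ b = r ≫ k)
    (φ : pullback h' k' ⟶ pullback h k) (hφ1 : φ ≫ pullback.fst h k = pullback.fst h' k' ≫ a)
    (hφ2 : φ ≫ pullback.snd h k = pullback.snd h' k' ≫ r) :
    Etale φ := by
  obtain ⟨e, he⟩ : ∃ e : U' ⟶ pullback h b, e = pullback.lift a h' comm.symm := ⟨_, rfl⟩
  have he1 : e ≫ pullback.fst h b = a := by rw [he, pullback.lift_fst]
  have he2 : e ≫ pullback.snd h b = h' := by rw [he, pullback.lift_snd]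
  haveI : Etale (pullback.fst h b) := inferInstance
  haveI : Etale (e ≫ pullback.fst h b) := by rw [he1]; infer_instance
  haveI : Etale e := Etale.of_comp e (pullback.fst h b)
  -- ψ : P ×_{V'} K' ⟶ U ×_V K
  obtain ⟨ψ, hψ⟩ : ∃ ψ : pullback (pullback.snd h b) k' ⟶ pullback h k,
      ψ = pullback.lift (pullback.fst _ _ ≫ pullback.fst h b) (pullback.snd _ _ ≫ r)
        (by rw [Category.assoc, pullback.condition, ← Category.assoc, pullback.condition,
          Category.assoc, hr, Category.assoc]) := ⟨_, rfl⟩
  have hψ1 : ψ ≫ pullback.fst h k = pullback.fst _ _ ≫ pullback.fst h b := by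
    rw [hψ, pullback.lift_fst]
  have hψ2 : ψ ≫ pullback.snd h k = pullback.snd _ _ ≫ r := by rw [hψ, pullback.lift_snd]
  have hψpb : IsPullback ψ (pullback.snd (pullback.snd h b) k') (pullback.snd h k) r := by
    refine IsPullback.of_right (h₁₂ := pullback.fst h k) (h₂₂ := k) (v₁₃ := h) ?_ hψ2
      (IsPullback.of_hasPullback h k)
    rw [hψ1, ← hr]
    exact (IsPullback.of_hasPullback (pullback.snd h b) k').paste_horiz
      (IsPullback.of_hasPullback h b)
  haveI : Etale ψ := MorphismProperty.of_isPullback (P := @Etale) hψpb.flip inferInstance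
  -- θ : U' ×_{V'} K' ⟶ P ×_{V'} K'
  obtain ⟨θ, hθ⟩ : ∃ θ : pullback h' k' ⟶ pullback (pullback.snd h b) k',
      θ = pullback.lift (pullback.fst h' k' ≫ e) (pullback.snd h' k')
        (by rw [Category.assoc, he2, pullback.condition]) := ⟨_, rfl⟩
  have hθ1 : θ ≫ pullback.fst _ _ = pullback.fst h' k' ≫ e := by rw [hθ, pullback.lift_fst]
  have hθ2 : θ ≫ pullback.snd _ _ = pullback.snd h' k' := by rw [hθ, pullback.lift_snd]
  have hθpb : IsPullback θ (pullback.fst h' k') (pullback.fst (pullback.snd h b) k') e := by
    refine IsPullback.of_right (h₁₂ := pullback.snd (pullback.snd h b) k')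
      (h₂₂ := pullback.snd h b) (v₁₃ := k') ?_ hθ1
      (IsPullback.of_hasPullback (pullback.snd h b) k').flip
    rw [hθ2, he2]
    exact (IsPullback.of_hasPullback h' k').flip
  haveI : Etale θ := MorphismProperty.of_isPullback (P := @Etale) hθpb.flip inferInstance
  have hφ : φ = θ ≫ ψ := by
    apply pullback.hom_ext
    · rw [hφ1, Category.assoc, hψ1, ← Category.assoc, hθ1, Category.assoc, he1]
    · rw [hφ2, Category.assoc, hψ2, ← Category.assoc, hθ2]
  rw [hφ]
  infer_instance

theorem S7406_main {U U' V V' : Scheme.{u}} (h : U ⟶ V) (h' : U' ⟶ V') (a : U' ⟶ U)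
    (b : V' ⟶ V) [Etale a] [Etale b] (comm : h' ≫ b = a ≫ h) (v' : V')
    (φ : h'.fiber v' ⟶ h.fiber (b v')) (hφ1 : φ ≫ h.fiberι (b v') = h'.fiberι v' ≫ a)
    (hφ2 : φ ≫ h.fiberToSpecResidueField (b v') = h'.fiberToSpecResidueField v' ≫ Spec.map (b.residueFieldMap v')) :
    Etale φ := by
  haveI : Etale (Spec.map (b.residueFieldMap v')) := etale_SpecMap_residueFieldMap b v'
  exact etale_pullback_map h h' a b (V.fromSpecResidueField (b v')) (V'.fromSpecResidueField v')
    (Spec.map (b.residueFieldMap v')) comm
    (Scheme.Hom.SpecMap_residueFieldMap_fromSpecResidueField b v').symm φ hφ1 hφ2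

end Groth.Agent.Lib.Helper4.EtFib1
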