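import Mathlib
import Groth.Prelude
import Groth.Agent.Lib.Helper4.AdaptGerm1
import Groth.Agent.Lib.Helper7.EtCoord.DiffSpan

/-!
# Etale at p over polynomial ring iff parameters generate m and residue differentials span (S5026) (helper4) (helper4)
-/

set_option backward.isDefEq.respectTransparency.types false
set_option synthInstance.maxHeartbeats 400000
set_option autoImplicit false
set_option linter.unusedSectionVars false
set_option linter.style.haveILetI false
set_option linter.unusedSimpArgs false
universe u v w
open TensorProduct IsLocalRing KaehlerDifferential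

namespace Groth.Agent.Lib.Helper4.EtParam1

section General

variable {k R : Type u} [Field k] [CommRing R] [Algebra k R] [IsLocalRing R]

/-- (⇐) core: generators of `m` plus residue differentials spanning give differentials spanning -/
theorem span_D_eq_top [Module.Finite R (Ω[R⁄k])] {ι : Type*} (g : ι → R) (s₁ s₂ : Set ι)
    (ha : Ideal.span (g '' s₁) = maximalIdeal R)
    (hb : Submodule.span (ResidueField R)
      ((fun i => D k (ResidueField R) (residue R (g i))) '' s₂) = ⊤) :
    Submodule.span R (Set.range fun i => D k R (g i)) = ⊤ := by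
  rw [← IsLocalRing.map_tensorProduct_mk_eq_top, Submodule.map_span, ← Set.range_comp]
  set κ := ResidueField R
  set T := Submodule.span R (Set.range (TensorProduct.mk R κ (Ω[R⁄k]) 1 ∘ fun i => D k R (g i)))
    with hT
  have hsurj : Function.Surjective (algebraMap R κ) := residue_surjective
  have hA : ∀ y ∈ maximalIdeal R, (1 : κ) ⊗ₜ[R] D k R y ∈ T := by
    intro y hy
    rw [← ha] at hy
    induction hy using Submodule.span_induction with
    | mem y hy =>
      obtain ⟨i, _, rfl⟩ := hy
      exact Submodule.subset_span ⟨i, rfl⟩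
    | zero => simp
    | add a b _ _ h1 h2 => rw [map_add, tmul_add]; exact add_mem h1 h2
    | smul a b hb h1 =>
      rw [smul_eq_mul, Derivation.leibniz, tmul_add]
      refine add_mem ?_ ?_
      · rw [TensorProduct.tmul_smul]; exact Submodule.smul_mem _ _ h1
      · have hbm : b ∈ maximalIdeal R := ha ▸ hb
        have h0 : algebraMap R κ b = 0 := (residue_eq_zero_iff _).mpr hbm
        rw [TensorProduct.tmul_smul, TensorProduct.smul_tmul', Algebra.smul_def, mul_one, h0,
          zero_tmul]
        exact zero_mem _
  have hB : ∀ z, mapBaseChange k R κ z = 0 → z ∈ T := by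
    intro z hz
    obtain ⟨c, rfl⟩ := (exact_kerCotangentToTensor_mapBaseChange k R κ hsurj z).mp hz
    obtain ⟨⟨y, hy⟩, rfl⟩ := Ideal.toCotangent_surjective _ c
    rw [kerCotangentToTensor_toCotangent]
    apply hA
    rwa [← IsLocalRing.ker_residue]
  have hC : ∀ w ∈ Submodule.span κ ((fun i => D k κ (residue R (g i))) '' s₂),
      ∃ t ∈ T, mapBaseChange k R κ t = w := by
    intro w hw
    induction hw using Submodule.span_induction with
    | mem w hw =>
      obtain ⟨i, _, rfl⟩ := hw
      refine ⟨(1 : κ) ⊗ₜ[R] D k R (g i), Submodule.subset_span ⟨i, rfl⟩, ?_⟩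
      rw [mapBaseChange_tmul, one_smul, map_D]
      rfl
    | zero => exact ⟨0, zero_mem _, map_zero _⟩
    | add a b _ _ h1 h2 =>
      obtain ⟨t1, ht1, rfl⟩ := h1
      obtain ⟨t2, ht2, rfl⟩ := h2
      exact ⟨t1 + t2, add_mem ht1 ht2, map_add _ _ _⟩
    | smul c w _ h1 =>
      obtain ⟨t1, ht1, rfl⟩ := h1
      obtain ⟨c, rfl⟩ := residue_surjective c
      refine ⟨c • t1, Submodule.smul_mem _ _ ht1, ?_⟩
      rw [← algebraMap_smul κ c t1, map_smul]
      rfl
  rw [eq_top_iff]
  intro z _
  obtain ⟨t, ht, hte⟩ := hC (mapBaseChange k R κ z) (hb ▸ Submodule.mem_top)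
  have h1 : z - t ∈ T := hB _ (by rw [map_sub, hte, sub_self])
  have : z = (z - t) + t := by abel
  rw [this]
  exact add_mem h1 ht

/-- (⇒)(b): differentials spanning give residue differentials spanning -/
theorem span_residue_eq_top {ι : Type*} (g : ι → R) (s : Set ι)
    (hs : ∀ i, i ∉ s → g i ∈ maximalIdeal R)
    (hspan : Submodule.span R (Set.range fun i => D k R (g i)) = ⊤) :
    Submodule.span (ResidueField R)
      ((fun i => D k (ResidueField R) (residue R (g i))) '' s) = ⊤ := by
  set κ := ResidueField R
  rw [eq_top_iff, ← KaehlerDifferential.span_range_derivation, Submodule.span_le]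
  rintro _ ⟨x, rfl⟩
  obtain ⟨x, rfl⟩ := residue_surjective x
  have h1 : D k κ (residue R x) = KaehlerDifferential.map k k R κ (D k R x) :=
    (KaehlerDifferential.map_D k k R κ x).symm
  rw [h1]
  have h2 : D k R x ∈ Submodule.span R (Set.range fun i => D k R (g i)) :=
    hspan ▸ Submodule.mem_top
  generalize D k R x = w at h2 ⊢
  induction h2 using Submodule.span_induction with
  | mem w hw =>
    obtain ⟨i, rfl⟩ := hw
    rw [KaehlerDifferential.map_D]
    by_cases hi : i ∈ s
    · exact Submodule.subset_span ⟨i, hi, rfl⟩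
    · have h0 : algebraMap R κ (g i) = 0 := (residue_eq_zero_iff _).mpr (hs i hi)
      rw [h0, map_zero]
      exact zero_mem _
  | zero => rw [map_zero]; exact zero_mem _
  | add a b _ _ h1 h2 => rw [map_add]; exact add_mem h1 h2
  | smul a w _ h1 =>
    rw [map_smul, ← algebraMap_smul κ a]
    exact Submodule.smul_mem _ _ h1

/-- (⇒)(a): with formal smoothness, the parameters generate the maximal ideal -/
theorem span_eq_maximalIdeal_of_li [IsNoetherianRing R]
    [Algebra.FormallySmooth k R] [Algebra.FormallySmooth k (ResidueField R)]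
    {ι : Type*} [Fintype ι] (g : ι → R) (s : Set ι)
    (hs : ∀ i ∈ s, g i ∈ maximalIdeal R)
    (hspan : Submodule.span R (Set.range fun i => D k R (g i)) = ⊤)
    (hli : LinearIndependent (ResidueField R)
      (fun i : ↥(sᶜ) => D k (ResidueField R) (residue R (g i)))) :
    Ideal.span (g '' s) = maximalIdeal R := by
  classical
  set κ := ResidueField R
  have hsurj : Function.Surjective (algebraMap R κ) := residue_surjective
  set I := RingHom.ker (algebraMap R κ) with hI
  have hIm : I = maximalIdeal R := IsLocalRing.ker_residue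
  obtain ⟨l, hl⟩ := (Algebra.FormallySmooth.iff_split_injection (R := k) (P := R) (A := κ)
    hsurj).mp inferInstance
  have hδ : Function.Injective (kerCotangentToTensor k R κ) := by
    intro a b hab
    have := congrArg l hab
    rwa [← LinearMap.comp_apply, ← LinearMap.comp_apply, hl] at this
  have hV : Submodule.span R (Set.range fun i => (1 : κ) ⊗ₜ[R] D k R (g i)) = ⊤ := by
    have h1 : Function.Surjective (TensorProduct.mk R κ (Ω[R⁄k]) 1) :=
      TensorProduct.mk_surjective R _ _ hsurj
    have h2 := Submodule.map_top (TensorProduct.mk R κ (Ω[R⁄k]) 1)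
    rw [LinearMap.range_eq_top.mpr h1, ← hspan, Submodule.map_span, ← Set.range_comp] at h2
    exact h2
  apply le_antisymm
  · rw [Ideal.span_le]
    rintro _ ⟨i, hi, rfl⟩
    exact hs i hi
  · apply Submodule.le_of_le_smul_of_le_jacobson_bot (IsNoetherian.noetherian _)
      (IsLocalRing.maximalIdeal_le_jacobson ⊥)
    intro y hy
    have hyI : y ∈ I := hIm ▸ hy
    obtain ⟨a, ha⟩ := (Submodule.mem_span_range_iff_exists_fun R).mp
      (hV ▸ Submodule.mem_top : kerCotangentToTensor k R κ (I.toCotangent ⟨y, hyI⟩) ∈ _)
    have hβ := congrArg (mapBaseChange k R κ) ha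
    have h0 : mapBaseChange k R κ (kerCotangentToTensor k R κ (I.toCotangent ⟨y, hyI⟩)) = 0 :=
      (exact_kerCotangentToTensor_mapBaseChange k R κ hsurj _).mpr ⟨_, rfl⟩
    rw [h0, map_sum] at hβ
    have hterm : ∀ i, mapBaseChange k R κ (a i • ((1 : κ) ⊗ₜ[R] D k R (g i))) =
        residue R (a i) • D k κ (residue R (g i)) := by
      intro i
      rw [TensorProduct.smul_tmul', Algebra.smul_def, mul_one, mapBaseChange_tmul, map_D]
      rfl
    simp only [hterm] at hβ
    have hzero : ∀ i : ↥(sᶜ), residue R (a i) = 0 := by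
      apply Fintype.linearIndependent_iff.mp hli (fun i => residue R (a i))
      rw [← hβ, ← Finset.sum_subtype (Finset.univ.filter (· ∈ sᶜ)) (by simp)
        (fun i => residue R (a i) • D k κ (residue R (g i))), Finset.sum_filter]
      apply Finset.sum_congr rfl
      intro i _
      split_ifs with h
      · rfl
      · have hi : i ∈ s := by simpa using h
        have h0 : residue R (g i) = 0 := (residue_eq_zero_iff _).mpr (hs i hi)
        rw [h0, map_zero, smul_zero]
    let G : ↥s → I := fun i => ⟨g i, hIm ▸ hs i i.2⟩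
    have hmem : kerCotangentToTensor k R κ (I.toCotangent ⟨y, hyI⟩) ∈
        Submodule.map ((kerCotangentToTensor k R κ).comp I.toCotangent)
          (Submodule.span R (Set.range G)) := by
      rw [Submodule.map_span, ← Set.range_comp, ← ha]
      apply Submodule.sum_mem
      intro i _
      by_cases hi : i ∈ s
      · apply Submodule.smul_mem
        apply Submodule.subset_span
        refine ⟨⟨i, hi⟩, ?_⟩
        exact kerCotangentToTensor_toCotangent k R κ ⟨g i, _⟩
      · have h0 : algebraMap R κ (a i) = 0 := hzero ⟨i, hi⟩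
        rw [TensorProduct.smul_tmul', Algebra.smul_def, mul_one, h0, zero_tmul]
        exact zero_mem _
    obtain ⟨Y, hY, hYeq⟩ := hmem
    have h3 : I.toCotangent Y = I.toCotangent ⟨y, hyI⟩ := hδ hYeq
    have h4 : (((⟨y, hyI⟩ : I) - Y : I) : R) ∈ I ^ 2 := by
      rw [← Ideal.toCotangent_eq_zero, map_sub, h3, sub_self]
    have h5 : (Y : R) ∈ Ideal.span (g '' s) := by
      have h6 := Submodule.mem_map_of_mem (f := I.subtype) hY
      rw [Submodule.map_span, ← Set.range_comp] at h6
      refine Submodule.span_mono ?_ h6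
      rintro _ ⟨i, rfl⟩
      exact ⟨i, i.2, rfl⟩
    have h7 : y = (Y : R) + (y - (Y : R)) := by ring
    rw [h7]
    refine Submodule.add_mem_sup h5 ?_
    have h8 : y - (Y : R) ∈ I ^ 2 := h4
    have h9 : I ^ 2 = maximalIdeal R • maximalIdeal R := by rw [hIm, pow_two]; rfl
    rw [h9] at h8
    exact h8

end General

section Main

variable (k A : Type u) [Field k] [CommRing A] [Algebra k A] [Algebra.FiniteType k A] (n r : ℕ)
  [Algebra (MvPolynomial (Fin n) k) A] [IsScalarTower k (MvPolynomial (Fin n) k) A]
  (p : Ideal A) [p.IsPrime]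

open Groth.Agent.Lib.Helper4.AdaptGerm1 in
theorem main
    (hn : FlatMor.localDim (PrimeSpectrum A) ⟨p, inferInstance⟩ = (n : WithBot ℕ∞))
    (hr : ringKrullDim (Localization.AtPrime p) = (r : WithBot ℕ∞))
    (hg : ∀ i : Fin n, (i : ℕ) < r → algebraMap (MvPolynomial (Fin n) k) A (MvPolynomial.X i) ∈ p) :
    Algebra.IsEtaleAt (MvPolynomial (Fin n) k) p ↔
      Ideal.span ((fun i : Fin n =>
          algebraMap A (Localization.AtPrime p) (algebraMap (MvPolynomial (Fin n) k) A (MvPolynomial.X i))) ''
            {i : Fin n | (i : ℕ) < r}) = IsLocalRing.maximalIdeal (Localization.AtPrime p) ∧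
        Submodule.span p.ResidueField ((fun i : Fin n =>
          KaehlerDifferential.D k p.ResidueField
            (IsLocalRing.residue (Localization.AtPrime p)
              (algebraMap A (Localization.AtPrime p) (algebraMap (MvPolynomial (Fin n) k) A (MvPolynomial.X i))))) ''
            {i : Fin n | r ≤ (i : ℕ)}) = ⊤ := by
  set R := Localization.AtPrime p
  set κ := p.ResidueField
  set g : Fin n → R := fun i =>
    algebraMap A R (algebraMap (MvPolynomial (Fin n) k) A (MvPolynomial.X i)) with hgdef
  haveI : IsNoetherianRing A := Algebra.FiniteType.isNoetherianRing k A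
  haveI : IsNoetherianRing R := IsLocalization.isNoetherianRing p.primeCompl _ inferInstance
  haveI : Algebra.EssFiniteType k R :=
    Algebra.EssFiniteType.comp k A R
  haveI : Module.Finite R (Ω[R⁄k]) := inferInstance
  have hgm : ∀ i : Fin n, (i : ℕ) < r → g i ∈ maximalIdeal R := by
    intro i hi
    exact (IsLocalization.AtPrime.to_map_mem_maximal_iff R p _).mpr (hg i hi)
  rw [Groth.Agent.Helper7.EtCoord.diffSpan_main k A n p hn]
  constructor
  · intro hspan
    classical
    have hb : Submodule.span κ ((fun i => D k κ (residue R (g i))) '' {i : Fin n | r ≤ (i : ℕ)}) = ⊤ :=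
      span_residue_eq_top (k := k) g {i : Fin n | r ≤ (i : ℕ)}
        (fun i hi => hgm i (by simpa using hi)) hspan
    refine ⟨?_, hb⟩
    have het : Algebra.IsEtaleAt (MvPolynomial (Fin n) k) p :=
      (Groth.Agent.Helper7.EtCoord.diffSpan_main k A n p hn).mpr hspan
    haveI : Algebra.FormallyEtale (MvPolynomial (Fin n) k) R := het
    haveI : Algebra.FormallySmooth k R :=
      Algebra.FormallySmooth.comp k (MvPolynomial (Fin n) k) R
    have ht : Cardinal.toNat (Algebra.trdeg k κ) + r = n := trdeg_eq k A n r p hn hr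
    obtain ⟨hc1, hc2, hc3⟩ := Groth.Agent.Helper2.Cartier.cartier_eq k κ
    set s : Set (Fin n) := {i | (i : ℕ) < r} with hs
    have hsc : sᶜ = {i : Fin n | r ≤ (i : ℕ)} := by ext i; simp [hs]
    let w : ↥(sᶜ) → Ω[κ⁄k] := fun i => D k κ (residue R (g i))
    have hrange : Set.range w =
        (fun i => D k κ (residue R (g i))) '' {i : Fin n | r ≤ (i : ℕ)} := by
      rw [← hsc, Set.image_eq_range]
    have hwspan : Submodule.span κ (Set.range w) = ⊤ := by rw [hrange, hb]
    have hcard : Fintype.card ↥(sᶜ) ≤ n - r := by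
      have h1 := ncard_ge_le n r
      rw [← hsc] at h1
      rwa [← Nat.card_eq_fintype_card, Nat.card_coe_set_eq]
    have hfin_le : Module.finrank κ (Ω[κ⁄k]) ≤ Fintype.card ↥(sᶜ) := by
      have h1 := finrank_range_le_card (R := κ) w
      rwa [Set.finrank, hwspan, finrank_top] at h1
    have hfr : Fintype.card ↥(sᶜ) = Module.finrank κ (Ω[κ⁄k]) := by omega
    have hli : LinearIndependent κ w :=
      linearIndependent_of_top_le_span_of_card_eq_finrank hwspan.ge hfr
    have hgr : Algebra.IsGeometricallyReduced k κ :=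
      (isGeometricallyReduced_iff_finrank_le k κ).mpr (by omega)
    haveI : Algebra.FormallySmooth k κ :=
      (Groth.Agent.Helper2.Sep.formallySmooth_iff_isGeometricallyReduced k κ).mpr hgr
    exact span_eq_maximalIdeal_of_li (k := k) g s (fun i hi => hgm i hi) hspan hli
  · rintro ⟨ha, hb⟩
    exact span_D_eq_top (k := k) g {i : Fin n | (i : ℕ) < r} {i : Fin n | r ≤ (i : ℕ)} ha hb

end Main

end Groth.Agent.Lib.Helper4.EtParam1
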