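import Mathlib

/-!
# sections of separated unramified morphisms (helper4)
-/

set_option backward.isDefEq.respectTransparency.types false
set_option synthInstance.maxHeartbeats 400000
set_option autoImplicit false
set_option linter.unusedSectionVars false
set_option linter.style.haveILetI false
set_option linter.unusedSimpArgs false
universe u v w
open CategoryTheory CategoryTheory.Limits AlgebraicGeometry

namespace Groth.Agent.Lib.Helper4.UnramSec1

/-- A section of a separated unramified morphism is an open and closed immersion. -/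
theorem section_isOpenImmersion {X Y : Scheme.{u}} (f : X ⟶ Y)
    [FormallyUnramified f] [LocallyOfFiniteType f] (s : Y ⟶ X) (hs : s ≫ f = 𝟙 Y) :
    IsOpenImmersion s := by
  haveI : Etale (s ≫ f) := by rw [hs]; infer_instance
  haveI : Etale s := Etale.of_comp s f
  haveI : Mono s := mono_of_mono_fac hs
  exact IsOpenImmersion.of_flat_of_mono s

theorem section_isClosedImmersion {X Y : Scheme.{u}} (f : X ⟶ Y)
    [IsSeparated f] (s : Y ⟶ X) (hs : s ≫ f = 𝟙 Y) :
    IsClosedImmersion s := by
  haveI : IsClosedImmersion (s ≫ f) := by rw [hs]; infer_instance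
  exact IsClosedImmersion.of_comp s f

theorem eq_connectedComponent_of_clopen {α : Type*} [TopologicalSpace α] {s : Set α}
    (hs : IsClopen s) (hc : IsPreconnected s) {x : α} (hx : x ∈ s) :
    s = connectedComponent x :=
  Set.Subset.antisymm (hc.subset_connectedComponent hx) (hs.connectedComponent_subset hx)

theorem S18580_main {X Y : Scheme.{u}} (f : X ⟶ Y)
    [FormallyUnramified f] [LocallyOfFiniteType f] [IsSeparated f] [ConnectedSpace Y] :
    ∃ e : {s : Y ⟶ X // s ≫ f = 𝟙 Y} ≃
        {U : X.Opens // (∃ x : X, (U : Set X) = connectedComponent x) ∧ IsIso (U.ι ≫ f)},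
      ∀ s : {s : Y ⟶ X // s ≫ f = 𝟙 Y}, ((e s).1 : Set X) = Set.range s.1 := by
  classical
  have hopen : ∀ s : {s : Y ⟶ X // s ≫ f = 𝟙 Y}, IsOpenImmersion s.1 :=
    fun s => section_isOpenImmersion f s.1 s.2
  have hclosed : ∀ s : {s : Y ⟶ X // s ≫ f = 𝟙 Y}, IsClosedImmersion s.1 :=
    fun s => section_isClosedImmersion f s.1 s.2
  -- forward map
  have hfwd : ∀ s : {s : Y ⟶ X // s ≫ f = 𝟙 Y},
      (∃ x : X, ((@Scheme.Hom.opensRange _ _ s.1 (hopen s) : X.Opens) : Set X) = connectedComponent x) ∧
        IsIso ((@Scheme.Hom.opensRange _ _ s.1 (hopen s)).ι ≫ f) := by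
    intro s
    haveI := hopen s
    haveI := hclosed s
    constructor
    · obtain ⟨y⟩ : Nonempty Y := inferInstance
      refine ⟨s.1 y, ?_⟩
      apply eq_connectedComponent_of_clopen
      · refine ⟨?_, s.1.opensRange.2⟩
        rw [Scheme.Hom.coe_opensRange]
        exact s.1.isClosedEmbedding.isClosed_range
      · rw [Scheme.Hom.coe_opensRange]
        exact (isPreconnected_range s.1.continuous)
      · rw [Scheme.Hom.coe_opensRange]; exact ⟨y, rfl⟩
    · have h1 : s.1.isoOpensRange.hom ≫ s.1.opensRange.ι = s.1 := by simp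
      have h2 : s.1.opensRange.ι ≫ f = s.1.isoOpensRange.inv := by
        rw [← cancel_epi s.1.isoOpensRange.hom, ← Category.assoc, h1, s.2]; simp
      rw [h2]; infer_instance
  refine ⟨⟨fun s => ⟨@Scheme.Hom.opensRange _ _ s.1 (hopen s), hfwd s⟩,
    fun U => ⟨@inv _ _ _ _ (U.1.ι ≫ f) U.2.2 ≫ U.1.ι, ?_⟩, ?_, ?_⟩, ?_⟩
  · haveI := U.2.2
    rw [Category.assoc, IsIso.inv_hom_id]
  · intro s
    haveI := hopen s
    haveI := (hfwd s).2
    apply Subtype.ext
    simp only
    have h1 : s.1.isoOpensRange.hom ≫ s.1.opensRange.ι = s.1 := by simp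
    have h2 : s.1.opensRange.ι ≫ f = s.1.isoOpensRange.inv := by
      rw [← cancel_epi s.1.isoOpensRange.hom, ← Category.assoc, h1, s.2]; simp
    rw [← cancel_epi (s.1.opensRange.ι ≫ f), ← Category.assoc, IsIso.hom_inv_id, Category.id_comp,
      h2]
    rw [Iso.eq_inv_comp]; exact h1
  · intro U
    haveI := U.2.2
    apply Subtype.ext
    simp only
    apply TopologicalSpace.Opens.ext
    rw [Scheme.Hom.coe_opensRange]
    rw [Scheme.Hom.comp_base, TopCat.coe_comp, Set.range_comp]
    have : Function.Surjective (inv (U.1.ι ≫ f)) := by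
      exact (inv (U.1.ι ≫ f)).homeomorph.surjective
    rw [this.range_eq, Set.image_univ]
    simp
  · intro s
    haveI := hopen s
    simp [Scheme.Hom.coe_opensRange]

end Groth.Agent.Lib.Helper4.UnramSec1
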