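import Mathlib
import Groth.Prelude.Def_SGA1
import Groth.Agent.Lib.Helper7.QuotGeom
import Groth.Agent.Lib.Helper4.ActGpd1
import Groth.Agent.Lib.Helper4.GrpdQuotMono1
import Groth.Agent.Lib.Helper4.UnramDescent1
import Groth.Agent.Lib.Helper4.UnramSec1
import Groth.Agent.Lib.Helper4.EtaleFib1
import Groth.Agent.Lib.Helper3.FppfDesc3

/-!
# Quotient of an etale scheme by a finite group is etale: kernel pair = union of graphs (helper4) (helper4)
-/

set_option backward.isDefEq.respectTransparency.types false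
set_option synthInstance.maxHeartbeats 400000
set_option autoImplicit false
set_option linter.unusedSectionVars false
set_option linter.style.haveILetI false
set_option linter.unusedSimpArgs false
universe u v w
open CategoryTheory CategoryTheory.Limits AlgebraicGeometry TopologicalSpace Opposite
open Groth.Agent.Helper7.QuotGrp Groth.Agent.Helper7.QuotAff Groth.Agent.Helper7.QuotGeom

namespace Groth.Agent.Lib.Helper4.EtQuot1

variable {X X' Y : Scheme.{u}} {G : Type u} [Group G] [Finite G] (ρ : G →* Aut X)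
  (f : X ⟶ Y) [Etale f] (hρ : ∀ g : G, (ρ g).hom ≫ f = f) (p : X ⟶ X') (q : X' ⟶ Y) (hq : p ≫ q = f)

/-- the graph of `ρ g` in `X ×_Y X` -/
noncomputable def gr (g : G) : X ⟶ pullback f f :=
  pullback.lift (ρ g).hom (𝟙 X) (by rw [hρ, Category.id_comp])

@[reassoc (attr := simp)]
theorem gr_fst (g : G) : gr ρ f hρ g ≫ pullback.fst f f = (ρ g).hom := pullback.lift_fst _ _ _

@[reassoc (attr := simp)]
theorem gr_snd (g : G) : gr ρ f hρ g ≫ pullback.snd f f = 𝟙 X := pullback.lift_snd _ _ _

instance (g : G) : IsOpenImmersion (gr ρ f hρ g) :=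
  Groth.Agent.Lib.Helper4.UnramSec1.section_isOpenImmersion (pullback.snd f f) _ (gr_snd ρ f hρ g)

/-- the kernel pair of `p` inside `X ×_Y X` -/
noncomputable def jR : pullback p p ⟶ pullback f f :=
  pullback.lift (pullback.fst p p) (pullback.snd p p)
    (by rw [← hq, pullback.condition_assoc])

@[reassoc (attr := simp)]
theorem jR_fst : jR f p q hq ≫ pullback.fst f f = pullback.fst p p := pullback.lift_fst _ _ _

@[reassoc (attr := simp)]
theorem jR_snd : jR f p q hq ≫ pullback.snd f f = pullback.snd p p := pullback.lift_snd _ _ _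

instance : Mono (jR f p q hq) := by
  constructor
  intro T a b hab
  apply pullback.hom_ext
  · have := congrArg (· ≫ pullback.fst f f) hab
    simpa only [Category.assoc, jR_fst] using this
  · have := congrArg (· ≫ pullback.snd f f) hab
    simpa only [Category.assoc, jR_snd] using this

/-- union of the graphs -/
noncomputable def Gam : (pullback f f).Opens := ⨆ g : G, (gr ρ f hρ g).opensRange

theorem range_jR_le (hp : SGA1.IsQuot ρ p) :
    ∀ r, (jR f p q hq).base r ∈ Gam ρ f hρ := by
  intro r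
  obtain ⟨ξ, hξ⟩ : ∃ ξ : Spec (.of ((pullback p p).residueField r)) ⟶ pullback p p,
      ξ = (pullback p p).fromSpecResidueField r := ⟨_, rfl⟩
  have hξr : ∀ s, ξ.base s = r := by
    intro s; rw [hξ]; exact Scheme.fromSpecResidueField_apply _ s
  have h : (ξ ≫ pullback.snd p p) ≫ p = (ξ ≫ pullback.fst p p) ≫ p := by
    rw [Category.assoc, Category.assoc, pullback.condition]
  obtain ⟨g, hg⟩ := exists_conj_of_comp_eq hp _ _ _ h
  have key : ξ ≫ jR f p q hq = (ξ ≫ pullback.snd p p) ≫ gr ρ f hρ g := by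
    apply pullback.hom_ext
    · rw [Category.assoc, jR_fst, Category.assoc, gr_fst, ← hg]
    · rw [Category.assoc, jR_snd, Category.assoc, gr_snd, Category.comp_id]
  have h2 : (jR f p q hq).base r = (gr ρ f hρ g).base ((ξ ≫ pullback.snd p p).base default) := by
    have h3 : (ξ ≫ jR f p q hq).base default = (jR f p q hq).base r := by
      rw [Scheme.Hom.comp_apply, hξr]
    rw [← h3, key, Scheme.Hom.comp_apply]
  rw [h2]
  exact Opens.mem_iSup.mpr ⟨g, ⟨_, rfl⟩⟩


theorem Gam_cond (hp : SGA1.IsQuot ρ p) :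
    ((Gam ρ f hρ).ι ≫ pullback.fst f f) ≫ p = ((Gam ρ f hρ).ι ≫ pullback.snd f f) ≫ p := by
  refine (Scheme.Opens.iSupOpenCover (fun g : G => (gr ρ f hρ g).opensRange)).hom_ext _ _
    (fun g => ?_)
  change (pullback f f).homOfLE (le_iSup (fun g : G => (gr ρ f hρ g).opensRange) g) ≫
      ((Gam ρ f hρ).ι ≫ pullback.fst f f) ≫ p =
    (pullback f f).homOfLE (le_iSup (fun g : G => (gr ρ f hρ g).opensRange) g) ≫
      ((Gam ρ f hρ).ι ≫ pullback.snd f f) ≫ p
  rw [← cancel_epi (gr ρ f hρ g).isoOpensRange.hom]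
  have h1 : (gr ρ f hρ g).isoOpensRange.hom ≫
      (pullback f f).homOfLE (le_iSup (fun g : G => (gr ρ f hρ g).opensRange) g) ≫
      (Gam ρ f hρ).ι = gr ρ f hρ g := by
    change _ ≫ _ ≫ (⨆ g : G, (gr ρ f hρ g).opensRange).ι = _
    rw [Scheme.homOfLE_ι, Scheme.Hom.isoOpensRange_hom_ι]
  simp only [Category.assoc]
  rw [reassoc_of% h1, reassoc_of% h1, gr_fst_assoc, gr_snd_assoc, hp.inv]

/-- the inverse `Γ ⟶ X ×_{X'} X` -/
noncomputable def kR (hp : SGA1.IsQuot ρ p) : (Gam ρ f hρ).toScheme ⟶ pullback p p :=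
  pullback.lift ((Gam ρ f hρ).ι ≫ pullback.fst f f) ((Gam ρ f hρ).ι ≫ pullback.snd f f)
    (Gam_cond ρ f hρ p hp)

theorem kR_jR (hp : SGA1.IsQuot ρ p) : kR ρ f hρ p hp ≫ jR f p q hq = (Gam ρ f hρ).ι := by
  apply pullback.hom_ext
  · rw [Category.assoc, jR_fst, kR, pullback.lift_fst]
  · rw [Category.assoc, jR_snd, kR, pullback.lift_snd]

include hρ in
theorem isOpenImmersion_jR (hp : SGA1.IsQuot ρ p) : IsOpenImmersion (jR f p q hq) := by
  have hr : Set.range (jR f p q hq).base ⊆ Set.range (Gam ρ f hρ).ι.base := by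
    rintro _ ⟨r, rfl⟩
    rw [Scheme.Opens.range_ι]
    exact range_jR_le ρ f hρ p q hq hp r
  have h1 : IsOpenImmersion.lift (Gam ρ f hρ).ι (jR f p q hq) hr ≫ (Gam ρ f hρ).ι = jR f p q hq :=
    IsOpenImmersion.lift_fac _ _ _
  have h2 : IsOpenImmersion.lift (Gam ρ f hρ).ι (jR f p q hq) hr ≫ kR ρ f hρ p hp = 𝟙 _ := by
    rw [← cancel_mono (jR f p q hq), Category.assoc, kR_jR, h1, Category.id_comp]
  have h3 : kR ρ f hρ p hp ≫ IsOpenImmersion.lift (Gam ρ f hρ).ι (jR f p q hq) hr = 𝟙 _ := by
    rw [← cancel_mono (Gam ρ f hρ).ι, Category.assoc, h1, kR_jR, Category.id_comp]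
  haveI : IsIso (IsOpenImmersion.lift (Gam ρ f hρ).ι (jR f p q hq) hr) := ⟨_, h2, h3⟩
  rw [← h1]
  infer_instance

include hρ hq in
theorem etale_snd (hp : SGA1.IsQuot ρ p) : Etale (pullback.snd p p) := by
  haveI := isOpenImmersion_jR ρ f hρ p q hq hp
  rw [← jR_snd f p q hq]
  infer_instance

include hρ hq in
theorem etale_fst (hp : SGA1.IsQuot ρ p) : Etale (pullback.fst p p) := by
  haveI := isOpenImmersion_jR ρ f hρ p q hq hp
  rw [← jR_fst f p q hq]
  infer_instance


section Gpd
variable {X X' : Scheme.{u}} (p : X ⟶ X')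

theorem kp_hext {T : Scheme.{u}} (α β : T ⟶ pullback p p)
    (h1 : α ≫ pullback.fst p p = β ≫ pullback.fst p p)
    (h2 : α ≫ pullback.snd p p = β ≫ pullback.snd p p) : α = β :=
  pullback.hom_ext h1 h2

/-- the kernel pair groupoid of `p` (source `snd`, target `fst`) -/
noncomputable def kpGpd : Grpd.GroupoidScheme X' :=
  Groth.Agent.Lib.Helper4.ActGpd1.gpdOfRel p (pullback.snd p p ≫ p) (pullback.snd p p)
    (pullback.fst p p) rfl pullback.condition (fun α β h1 h2 => kp_hext p α β h1 h2)
    (pullback.lift (𝟙 X) (𝟙 X) rfl) (pullback.lift_snd _ _ _) (pullback.lift_fst _ _ _)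
    (pullback.lift (pullback.snd p p) (pullback.fst p p) pullback.condition.symm)
    (pullback.lift_snd _ _ _) (pullback.lift_fst _ _ _)
    (pullback.lift (pullback.fst (pullback.snd p p) (pullback.fst p p) ≫ pullback.fst p p)
      (pullback.snd (pullback.snd p p) (pullback.fst p p) ≫ pullback.snd p p)
      (by rw [Category.assoc, Category.assoc, pullback.condition, pullback.condition_assoc,
        pullback.condition]))
    (pullback.lift_fst _ _ _) (pullback.lift_snd _ _ _)

end Gpd

theorem flat_of_isQuot (hp : SGA1.IsQuot ρ p) [IsFinite p] [Etale (pullback.snd p p)] :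
    Mor2.IsFinLocFree p := by
  let Gd : Grpd.GroupoidScheme X' := kpGpd p
  have ha : Mor2.IsFinLocFree Gd.s :=
    ⟨(inferInstance : IsFinite (pullback.snd p p)), (inferInstance : Flat (pullback.snd p p)),
      (inferInstance : LocallyOfFinitePresentation (pullback.snd p p))⟩
  have hb : ∀ x : Gd.U, ∃ V : Gd.U.Opens, IsAffineOpen V ∧
      Gd.t.base '' (Gd.s.base ⁻¹' {x}) ⊆ (V : Set Gd.U) := by
    intro x
    obtain ⟨_, ⟨O, hO, rfl⟩, hxO, -⟩ :=
      X'.isBasis_affineOpens.exists_subset_of_mem_open (Set.mem_univ (p.base x)) isOpen_univ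
    haveI := hp.affine
    refine ⟨p ⁻¹ᵁ O, hO.preimage p, ?_⟩
    rintro _ ⟨r, hr, rfl⟩
    have hz : (pullback.snd p p).base r = x := hr
    change p.base ((pullback.fst p p).base r) ∈ O
    rw [← Scheme.Hom.comp_apply, pullback.condition, Scheme.Hom.comp_apply, hz]
    exact hxO
  haveI : Mono Gd.j := by
    constructor
    intro T α β hαβ
    apply kp_hext p
    · have := congrArg (· ≫ pullback.fst Gd.pU Gd.pU) hαβ
      simp only [Category.assoc, Grpd.GroupoidScheme.j, pullback.lift_fst] at this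
      exact this
    · have := congrArg (· ≫ pullback.snd Gd.pU Gd.pU) hαβ
      simp only [Category.assoc, Grpd.GroupoidScheme.j, pullback.lift_snd] at this
      exact this
  have w : Gd.t ≫ p = Gd.s ≫ p := pullback.condition
  obtain ⟨hc⟩ : Nonempty (IsColimit (Cofork.ofπ p w)) := by
    have key : ∀ s : Cofork Gd.t Gd.s, ∃! h' : X' ⟶ s.pt, p ≫ h' = s.π := by
      intro s
      have hs : pullback.fst p p ≫ s.π = pullback.snd p p ≫ s.π := s.condition
      have hinv : ∀ g : G, (ρ g).hom ≫ s.π = s.π := by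
        intro g
        have := congrArg (fun m => pullback.lift (ρ g).hom (𝟙 X)
          ((hp.inv g).trans (Category.id_comp p).symm) ≫ m) hs
        simpa only [pullback.lift_fst_assoc, pullback.lift_snd_assoc, Category.id_comp] using this
      exact main2925 hp _ s.π hinv
    exact ⟨Cofork.IsColimit.mk' _ (fun s => ⟨(key s).choose, (key s).choose_spec.1,
      fun {m} hm => (key s).choose_spec.2 m hm⟩)⟩
  exact (Groth.Agent.Lib.Helper4.GrpdQuotMono1.main X' Gd ha hb X' p w hc).2


include hρ hq in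
theorem main [IsSeparated f] [QuasiCompact f] (hp : SGA1.IsQuot ρ p) :
    Etale p ∧ Etale q ∧ (IsFinite f → IsFinite q) := by
  haveI : LocallyOfFiniteType f := inferInstance
  haveI hfin : IsFinite p := isFinite_of_lft hp f q hq
  haveI := etale_snd ρ f hρ p q hq hp
  obtain ⟨_, hflat, hlfp⟩ := flat_of_isQuot ρ p hp
  haveI := hflat
  haveI := hlfp
  haveI : FormallyUnramified (p ≫ q) := by rw [hq]; infer_instance
  haveI : FormallyUnramified p := FormallyUnramified.of_comp p q
  haveI hpet : Etale p := Etale.of_formallyUnramified_of_flat p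
  haveI : Surjective p := ⟨surjective hp⟩
  haveI : LocallyOfFinitePresentation (p ≫ q) := by rw [hq]; infer_instance
  haveI : LocallyOfFinitePresentation q :=
    Groth.Agent.Helper3.FppfDesc.locallyOfFinitePresentation_of_fppf_cover p q
  have hqet : Etale q := by
    rw [Groth.Agent.Lib.Helper4.EtaleFib1.etale_iff_forall_exists_nhd]
    intro x'
    obtain ⟨x, rfl⟩ := surjective hp x'
    exact Groth.Agent.Lib.Helper4.UnramDescent1.S2806_main q f p hq x (Flat.stalkMap p x)
      ⟨⊤, trivial, inferInstance⟩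
  refine ⟨hpet, hqet, fun hf => ?_⟩
  haveI : IsAffineHom q := (isAffineHom_iff hp f q hq).mp inferInstance
  haveI : UniversallyClosed (p ≫ q) := by rw [hq]; infer_instance
  haveI : UniversallyClosed q := UniversallyClosed.of_comp_surjective p q
  haveI : IsIntegralHom q :=
    (IsIntegralHom.iff_universallyClosed_and_isAffineHom).mpr ⟨inferInstance, inferInstance⟩
  exact (IsFinite.iff_isIntegralHom_and_locallyOfFiniteType _).mpr ⟨inferInstance, inferInstance⟩

end Groth.Agent.Lib.Helper4.EtQuot1
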