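import Mathlib
import Groth.Agent.Lib.Helper2.Lqf.ResField

/-!
# Etale base change making a residue extension of a finite algebra radicial at a prime (lemma request of helper6 for S5269) (helper4)
-/

set_option backward.isDefEq.respectTransparency.types false
set_option synthInstance.maxHeartbeats 400000
set_option autoImplicit false
set_option linter.unusedSectionVars false
set_option linter.style.haveILetI false
set_option linter.unusedSimpArgs false
universe u v w
open TensorProduct

namespace Groth.Agent.Lib.Helper4.EtRadPrime1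
noncomputable section

theorem ringHom_ext_tensor {A A₁ B K : Type*} [CommRing A] [CommRing A₁] [CommRing B] [Algebra A A₁]
    [Algebra A B] [CommRing K] (α β : A₁ ⊗[A] B →+* K)
    (h1 : ∀ a, α (a ⊗ₜ 1) = β (a ⊗ₜ 1)) (h2 : ∀ b, α (1 ⊗ₜ b) = β (1 ⊗ₜ b)) : α = β := by
  refine RingHom.ext fun x => ?_
  induction x using TensorProduct.induction_on with
  | zero => simp
  | tmul a b =>
    have : a ⊗ₜ[A] b = (a ⊗ₜ 1) * (1 ⊗ₜ b) := by simp
    rw [this, map_mul, map_mul, h1, h2]
  | add x y hx hy => rw [map_add, map_add, hx, hy]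

theorem exists_etale_radicial_prime {A B : Type u} [CommRing A] [CommRing B] [Algebra A B]
    [Module.Finite A B] (q : Ideal B) [q.IsPrime] :
    ∃ (A₁ : Type u) (_ : CommRing A₁) (_ : Algebra A A₁) (_ : Algebra.Etale A A₁)
      (Q : Ideal (A₁ ⊗[A] B)), Q.IsPrime ∧
      Q.comap (Algebra.TensorProduct.includeRight : B →ₐ[A] A₁ ⊗[A] B) = q ∧
      ∀ (K : Type u) [Field K] (α β : A₁ ⊗[A] B →+* K), RingHom.ker α = Q → RingHom.ker β = Q →
        α.comp (algebraMap A₁ (A₁ ⊗[A] B)) = β.comp (algebraMap A₁ (A₁ ⊗[A] B)) → α = β := by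
  classical
  let p : Ideal A := q.under A
  haveI : p.IsPrime := inferInstance
  haveI : q.LiesOver p := inferInstance
  letI := Localization.AtPrime.algebraOfLiesOver p q
  haveI : Localization.AtPrime.IsLiesOverAlgebra p q := inferInstance
  letI : Algebra p.ResidueField q.ResidueField := inferInstance
  haveI : Module.Finite p.ResidueField q.ResidueField := inferInstance
  haveI : IsScalarTower A p.ResidueField q.ResidueField := inferInstance
  let ks := separableClosure p.ResidueField q.ResidueField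
  haveI : IsPurelyInseparable ks q.ResidueField := inferInstance
  haveI : Algebra.IsSeparable p.ResidueField ks := inferInstance
  haveI : FiniteDimensional p.ResidueField ks := inferInstance
  letI : Algebra A ks := inferInstance
  haveI : IsScalarTower A p.ResidueField ks := inferInstance
  haveI : IsScalarTower A ks q.ResidueField := IsScalarTower.of_algebraMap_eq (fun a => rfl)
  obtain ⟨A₁, _, _, _, φ, hφ⟩ := Groth.Agent.Helper2.Lqf.exists_etale_to_field p ks
  let ψ : A₁ →ₐ[A] q.ResidueField := (IsScalarTower.toAlgHom A ks q.ResidueField).comp φ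
  let γ : A₁ ⊗[A] B →ₐ[A] q.ResidueField :=
    Algebra.TensorProduct.lift ψ (IsScalarTower.toAlgHom A B q.ResidueField)
      (fun _ _ => Commute.all _ _)
  have hγ1 : ∀ a, γ (a ⊗ₜ 1) = ψ a := fun a => by simp [γ]
  have hγ2 : ∀ b, γ (1 ⊗ₜ b) = algebraMap B q.ResidueField b := fun b => by simp [γ]
  have hcomap : (RingHom.ker γ.toRingHom).comap
      (Algebra.TensorProduct.includeRight : B →ₐ[A] A₁ ⊗[A] B) = q := by
    ext b
    simp only [Ideal.mem_comap, RingHom.mem_ker]
    change γ ((1 : A₁) ⊗ₜ b) = 0 ↔ _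
    rw [hγ2, Ideal.algebraMap_residueField_eq_zero]
  refine ⟨A₁, inferInstance, inferInstance, inferInstance, RingHom.ker γ.toRingHom,
    RingHom.ker_isPrime _, hcomap, ?_⟩
  intro K _ α β hα hβ hαβ
  -- restriction to `B` and extension to the residue field
  have key : ∀ (δ : A₁ ⊗[A] B →+* K), RingHom.ker δ = RingHom.ker γ.toRingHom →
      ∃ δE : q.ResidueField →+* K, (∀ b, δE (algebraMap B _ b) = δ (1 ⊗ₜ b)) ∧
        ∀ a, δE (ψ a) = δ (a ⊗ₜ 1) := by
    intro δ hδ
    let δB : B →+* K := δ.comp (Algebra.TensorProduct.includeRight : B →ₐ[A] A₁ ⊗[A] B).toRingHom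
    have hδB : RingHom.ker δB = q := by
      rw [← hcomap, ← hδ]
      rfl
    have h2 : q.primeCompl ≤ (IsUnit.submonoid K).comap δB := by
      intro b hb
      refine IsUnit.mk0 _ ?_
      intro h0
      exact hb (hδB ▸ (RingHom.mem_ker.mpr h0))
    let δE : q.ResidueField →+* K := Ideal.ResidueField.lift q δB hδB.ge h2
    have hδE : ∀ b, δE (algebraMap B _ b) = δ (1 ⊗ₜ b) := fun b =>
      Ideal.ResidueField.lift_algebraMap q δB hδB.ge h2 b
    refine ⟨δE, hδE, ?_⟩
    intro a
    obtain ⟨⟨x, s⟩, hxs⟩ := IsLocalization.surj (nonZeroDivisors (B ⧸ q)) (ψ a)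
    obtain ⟨b, rfl⟩ := Ideal.Quotient.mk_surjective x
    obtain ⟨t, ht⟩ := Ideal.Quotient.mk_surjective (s : B ⧸ q)
    have htq : t ∉ q := by
      intro h
      have : (s : B ⧸ q) = 0 := by rw [← ht]; exact Ideal.Quotient.eq_zero_iff_mem.mpr h
      exact nonZeroDivisors.coe_ne_zero s this
    simp only [← ht, Ideal.algebraMap_quotient_residueField_mk] at hxs
    -- hxs : ψ a * algebraMap B E t = algebraMap B E b
    have h3 : (a ⊗ₜ[A] t - 1 ⊗ₜ[A] b : A₁ ⊗[A] B) ∈ RingHom.ker δ := by
      rw [hδ, RingHom.mem_ker]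
      change γ _ = 0
      have : a ⊗ₜ[A] t = (a ⊗ₜ[A] (1 : B)) * ((1 : A₁) ⊗ₜ[A] t) := by simp
      rw [map_sub, this, map_mul, hγ1, hγ2, hγ2, hxs, sub_self]
    rw [RingHom.mem_ker, map_sub, sub_eq_zero] at h3
    have h4 : a ⊗ₜ[A] t = (a ⊗ₜ[A] (1 : B)) * ((1 : A₁) ⊗ₜ[A] t) := by simp
    rw [h4, map_mul, ← hδE, ← hδE, ← hxs, map_mul] at h3
    have h5 : δE (algebraMap B q.ResidueField t) ≠ 0 := by
      rw [hδE]
      intro h0
      exact htq (hδB ▸ (RingHom.mem_ker.mpr h0))
    exact (mul_right_cancel₀ h5 h3).symm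
  obtain ⟨αE, hαB, hαA⟩ := key α hα
  obtain ⟨βE, hβB, hβA⟩ := key β hβ
  have h6 : (αE.comp (algebraMap ks q.ResidueField)).comp φ.toRingHom =
      (βE.comp (algebraMap ks q.ResidueField)).comp φ.toRingHom := by
    ext a
    change αE (ψ a) = βE (ψ a)
    rw [hαA, hβA]
    exact congrArg (fun f : A₁ →+* K => f a) hαβ
  have h7 := hφ K _ _ h6
  have h8 : αE = βE := IsPurelyInseparable.injective_comp_algebraMap ks q.ResidueField K h7
  refine ringHom_ext_tensor α β ?_ ?_
  · intro a
    exact congrArg (fun f : A₁ →+* K => f a) hαβ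
  · intro b
    rw [← hαB, ← hβB, h8]

end
end Groth.Agent.Lib.Helper4.EtRadPrime1
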