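import Mathlib
import Groth.Prelude.Def_Pi1
import Groth.Prelude.Def_NonAbH2
import Groth.Agent.Lib.Helper4.IntSection1
import Groth.Agent.S0084
import Groth.Agent.Lib.Helper2.AlgSp.Fpqc
import Groth.Agent.Lib.Helper9.FppfCov
import Groth.Agent.Lib.Helper2.AlgSp.Descent

/-!
# Torsors under finite group schemes over normal integral schemes: sections over the function field extend (helper4)
-/

set_option backward.isDefEq.respectTransparency.types false
set_option synthInstance.maxHeartbeats 400000
set_option autoImplicit false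
set_option linter.unusedSectionVars false
set_option linter.style.haveILetI false
set_option linter.unusedSimpArgs false
universe u v w
open CategoryTheory CategoryTheory.Limits AlgebraicGeometry TopologicalSpace Opposite
open Groth.Agent.Lib.Helper4.ZMTBirational Groth.Agent.Lib.Helper4.IntSection1
open MonoidalCategory CartesianMonoidalCategory MonObj GrpObj

namespace Groth.Agent.Lib.Helper4.TorsNormal1

section GenSec

theorem preimage_fromSpecStalk_eq_top {X : Scheme.{u}} [IsIntegral X] (V : X.Opens)
    (hV : genericPoint X ∈ V) : X.fromSpecStalk (genericPoint X) ⁻¹ᵁ V = ⊤ := by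
  rw [eq_top_iff]
  intro y _
  have h1 : (X.fromSpecStalk (genericPoint X)).base y ∈
      Set.range (X.fromSpecStalk (genericPoint X)).base := ⟨y, rfl⟩
  rw [Scheme.range_fromSpecStalk] at h1
  have h2 : genericPoint X ⤳ (X.fromSpecStalk (genericPoint X)).base y :=
    (genericPoint_spec X).specializes (Set.mem_univ _)
  exact h1.mem_open V.2 hV

theorem app_bijective_of_generic_section {X X' : Scheme.{u}} [IsIntegral X] [IsIntegral X']
    (hN : ∀ x : X, IsIntegrallyClosed (X.presheaf.stalk x))
    (g : X' ⟶ X) [IsIntegralHom g]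
    (s : Spec (X.presheaf.stalk (genericPoint X)) ⟶ X')
    (hs : s ≫ g = X.fromSpecStalk (genericPoint X)) {V : X.Opens} (hV : IsAffineOpen V)
    [Nonempty V] : Function.Bijective (g.app V).hom := by
  have hηV : genericPoint X ∈ V :=
    ((genericPoint_spec X).mem_open_set_iff V.isOpen).mpr (by simpa using ‹Nonempty V›)
  let T := Spec (X.presheaf.stalk (genericPoint X))
  let j : T ⟶ X := X.fromSpecStalk (genericPoint X)
  let W : T.Opens := s ⁻¹ᵁ (g ⁻¹ᵁ V)
  have hWj : W = j ⁻¹ᵁ V := by
    change s ⁻¹ᵁ (g ⁻¹ᵁ V) = j ⁻¹ᵁ V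
    rw [← Scheme.Hom.comp_preimage, hs]
  have hWtop : W = ⊤ := by rw [hWj]; exact preimage_fromSpecStalk_eq_top V hηV
  haveI : Nonempty (g ⁻¹ᵁ V) := by
    have hpt : (IsLocalRing.closedPoint (X.presheaf.stalk (genericPoint X)) : T) ∈ W := by
      rw [hWtop]; trivial
    exact ⟨⟨s.base (IsLocalRing.closedPoint (X.presheaf.stalk (genericPoint X))), hpt⟩⟩
  haveI : IsIntegrallyClosed Γ(X, V) := isIntegrallyClosed_sections hN hV
  haveI : IsFractionRing Γ(X, V) X.functionField :=
    functionField_isFractionRing_of_isAffineOpen X V hV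
  let ι₀ : Γ(T, W) ⟶ X.presheaf.stalk (genericPoint X) :=
    T.presheaf.map (eqToHom hWtop.symm).op ≫ (Scheme.ΓSpecIso (X.presheaf.stalk (genericPoint X))).hom
  haveI : IsIso ι₀ := by
    dsimp only [ι₀]
    infer_instance
  have hι : Function.Injective ι₀.hom := (ConcreteCategory.bijective_of_isIso ι₀).1
  have key : ∀ (t : T ⟶ X) (ht : t = j) (e : W ≤ t ⁻¹ᵁ V),
      t.appLE V W e = j.appLE V W hWj.le := by
    intro t ht e; subst ht; rfl
  refine bijective_of_integral_of_section (K := X.functionField) (g.app V).hom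
    (IsIntegralHom.isIntegral_app g V hV) (s.app (g ⁻¹ᵁ V)).hom ι₀.hom hι ?_
  intro a
  have h0 : (s ≫ g).appLE V W le_rfl = g.app V ≫ s.app (g ⁻¹ᵁ V) := by
    rw [Scheme.Hom.comp_appLE, Scheme.Hom.appLE_eq_app]
  have h1 : (s.app (g ⁻¹ᵁ V)).hom ((g.app V).hom a) = ((s ≫ g).appLE V W le_rfl).hom a := by
    rw [h0]; rfl
  rw [h1, key (s ≫ g) hs le_rfl]
  have h2 : j.appLE V W hWj.le ≫ ι₀ = X.presheaf.germ V (genericPoint X) hηV := by
    dsimp only [ι₀, j]
    rw [Scheme.Hom.appLE, Scheme.fromSpecStalk_app hηV]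
    simp only [Category.assoc, ← Functor.map_comp_assoc]
    have hmid : ∀ (A B : T.Opens) (φ : op A ⟶ op B) (ψ : op B ⟶ op A),
        T.presheaf.map φ ≫ T.presheaf.map ψ = 𝟙 _ := by
      intro A B φ ψ
      rw [← Functor.map_comp, Subsingleton.elim (φ ≫ ψ) (𝟙 _), CategoryTheory.Functor.map_id]
    have hmid' := hmid _ _ (homOfLE (le_top : j ⁻¹ᵁ V ≤ ⊤)).op
      ((homOfLE hWj.le).op ≫ (eqToHom hWtop.symm).op)
    change X.presheaf.germ V (genericPoint X) hηV ≫ (Scheme.ΓSpecIso _).inv ≫
      T.presheaf.map (homOfLE (le_top : j ⁻¹ᵁ V ≤ ⊤)).op ≫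
      T.presheaf.map ((homOfLE hWj.le).op ≫ (eqToHom hWtop.symm).op) ≫
      (Scheme.ΓSpecIso _).hom = _
    rw [reassoc_of% hmid', Iso.inv_hom_id, Category.comp_id]
  rw [← CommRingCat.comp_apply, h2]
  rfl

theorem isIso_of_generic_section {X X' : Scheme.{u}} [IsIntegral X] [IsIntegral X']
    (hX : Pi1.IsNormalScheme X) (g : X' ⟶ X) [IsIntegralHom g]
    (s : Spec (X.presheaf.stalk (genericPoint X)) ⟶ X')
    (hs : s ≫ g = X.fromSpecStalk (genericPoint X)) : IsIso g := by
  refine isIso_of_forall_affine g fun V => ?_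
  by_cases hne : Nonempty V.1
  · have hb : Function.Bijective (g.app V.1).hom :=
      app_bijective_of_generic_section (fun x => (hX x).2) g s hs V.2
    have hi : IsIso (g.app V.1) := (ConcreteCategory.isIso_iff_bijective _).mpr hb
    exact (isIso_morphismRestrict_iff_isIso_app (f := g) V.2).mpr hi
  · haveI : IsEmpty V.1 := not_nonempty_iff.mp hne
    haveI : IsEmpty (V.1 : Scheme.{u}) := this
    exact isIso_of_isEmpty _

/-- a section over the function field of an integral morphism to a normal integral scheme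
extends to a section -/
theorem exists_section_of_generic {X X' : Scheme.{u}} [IsIntegral X] (hX : Pi1.IsNormalScheme X)
    (g : X' ⟶ X) [IsIntegralHom g] (s : Spec (X.presheaf.stalk (genericPoint X)) ⟶ X')
    (hs : s ≫ g = X.fromSpecStalk (genericPoint X)) : ∃ s' : X ⟶ X', s' ≫ g = 𝟙 X := by
  haveI : IsDomain (X.presheaf.stalk (genericPoint X)) := (hX _).1
  haveI : IsIntegral (Spec (X.presheaf.stalk (genericPoint X))) := inferInstance
  haveI : IsIntegral s.image := isIntegral_image s
  let h : s.image ⟶ X := s.imageι ≫ g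
  have hsec : s.toImage ≫ h = X.fromSpecStalk (genericPoint X) := by
    simp only [h, Scheme.Hom.toImage_imageι_assoc, hs]
  haveI : IsIso h := isIso_of_generic_section hX h s.toImage hsec
  refine ⟨inv h ≫ s.imageι, ?_⟩
  rw [Category.assoc]
  exact IsIso.inv_hom_id h

end GenSec

section Tors

/-- the structure morphism of an fppf torsor inherits every fppf-local, base change stable
property of the structure morphism of the group -/
theorem torsor_hom_prop (P : MorphismProperty Scheme.{u}) [P.IsStableUnderBaseChange]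
    [P.IsLocalAtTarget Scheme.fppfPrecoverage] {X : Scheme.{u}}
    (G Y : Over X) [GrpObj G] (hG : P G.hom) (a : AlgGrp.Action G Y)
    (h : NonAbH1.IsTorsorFor Scheme.fppfPrecoverage a) : P Y.hom := by
  obtain ⟨hps, R, hR, hsec⟩ := h
  have hiso : IsIso (lift a.act (snd G Y)) := hps
  have hsnd : P (pullback.snd Y.hom Y.hom) := by
    have e : (lift a.act (snd G Y)).left ≫ pullback.snd Y.hom Y.hom = pullback.snd G.hom Y.hom := by
      have := congrArg CommaMorphism.left (lift_snd a.act (snd G Y))
      exact this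
    haveI : IsIso (lift a.act (snd G Y)).left := by
      have := (Over.forget X).map_isIso (lift a.act (snd G Y))
      exact this
    have e2 : pullback.snd Y.hom Y.hom =
        inv (lift a.act (snd G Y)).left ≫ pullback.snd G.hom Y.hom := by
      rw [IsIso.eq_inv_comp, e]
    rw [e2, P.cancel_left_of_respectsIso]
    exact MorphismProperty.pullback_snd (P := P) G.hom Y.hom hG
  apply MorphismProperty.IsLocalAtTarget.of_forall_pullbackSnd (P := P)
    (K := Scheme.fppfPrecoverage) hR
  intro U g _ hg
  obtain ⟨s, hs⟩ := hsec g hg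
  let l : pullback Y.hom g ⟶ pullback Y.hom Y.hom :=
    pullback.lift (pullback.fst Y.hom g) (pullback.snd Y.hom g ≫ s) (by
      rw [Category.assoc, hs, pullback.condition])
  have sq : IsPullback l (pullback.snd Y.hom g) (pullback.snd Y.hom Y.hom) s := by
    refine IsPullback.of_right ?_ (pullback.lift_snd _ _ _) (IsPullback.of_hasPullback Y.hom Y.hom)
    have : l ≫ pullback.fst Y.hom Y.hom = pullback.fst Y.hom g := pullback.lift_fst _ _ _
    rw [this, hs]
    exact IsPullback.of_hasPullback Y.hom g
  exact MorphismProperty.of_isPullback sq hsnd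

theorem main {X : Scheme.{u}} [IsIntegral X]
    (hX : Pi1.IsNormalScheme X) (G : Over X) [GrpObj G] [IsFinite G.hom]
    (Y : Over X) (a : AlgGrp.Action G Y) (hY : NonAbH1.IsTorsorFor Scheme.fppfPrecoverage a)
    (hgen : NonAbH1.HasSectionOver Y (X.fromSpecStalk (genericPoint X))) :
    NonAbH1.HasSectionOver Y (𝟙 X) := by
  haveI : IsFinite Y.hom := torsor_hom_prop @IsFinite G Y inferInstance a hY
  obtain ⟨s, hs⟩ := hgen
  obtain ⟨s', hs'⟩ := exists_section_of_generic hX Y.hom s hs
  exact ⟨s', hs'⟩

end Tors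

end Groth.Agent.Lib.Helper4.TorsNormal1
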