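import Mathlib
import Groth.Prelude.Def_Neron
import Groth.Prelude.Def_NonAbH2
import Groth.Agent.Lib.Helper4.TorsNormal1
import Groth.Agent.Lib.Helper4.NeronPow1
import Groth.Agent.Lib.Helper2.AlgSp.Descent
import Groth.Agent.Lib.Helper2.AlgSp.Fpqc

/-!
# Torsors under a Néron model are Néron models (S18486) (helper4)
-/

set_option backward.isDefEq.respectTransparency.types false
set_option synthInstance.maxHeartbeats 400000
set_option autoImplicit false
set_option linter.unusedSectionVars false
set_option linter.style.haveILetI false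
set_option linter.unusedSimpArgs false
universe u v w
open CategoryTheory CategoryTheory.Limits AlgebraicGeometry TopologicalSpace Opposite
open MonoidalCategory CartesianMonoidalCategory MonObj GrpObj

namespace Groth.Agent.Lib.Helper4.NeronTors1

section Abstract

variable {C : Type*} [Category C] [CartesianMonoidalCategory C]
  {D : Type*} [Category D] [CartesianMonoidalCategory D] (F : C ⥤ D) [F.Monoidal]

open Functor.LaxMonoidal Functor.Monoidal in
theorem map_translate {X P T : C} (act : X ⊗ P ⟶ P) [IsIso (lift act (snd X P))]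
    (pK : F.obj T ⟶ F.obj P) (t : T ⟶ P) (d : T ⟶ X)
    (hd : F.map d = lift pK (F.map t) ≫ Functor.LaxMonoidal.μ F P P ≫ F.map (inv (lift act (snd X P)) ≫ fst X P)) :
    F.map (lift d t ≫ act) = pK := by
  have h1 : inv (lift act (snd X P)) ≫ act = fst P P := by
    rw [IsIso.inv_comp_eq, lift_fst]
  have h2 : inv (lift act (snd X P)) ≫ snd X P = snd P P := by
    rw [IsIso.inv_comp_eq, lift_snd]
  have claim : lift (F.map d) (F.map t) ≫ Functor.LaxMonoidal.μ F X P =
      (lift pK (F.map t) ≫ Functor.LaxMonoidal.μ F P P) ≫ F.map (inv (lift act (snd X P))) := by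
    rw [← cancel_mono (Functor.Monoidal.μIso F X P).inv]
    apply CartesianMonoidalCategory.hom_ext
    · simp only [Category.assoc, Functor.Monoidal.μIso_inv, Functor.Monoidal.μ_δ, Category.comp_id,
        lift_fst, Functor.OplaxMonoidal.δ_fst, ← Functor.map_comp]
      rw [hd]
    · simp only [Category.assoc, Functor.Monoidal.μIso_inv, Functor.Monoidal.μ_δ, Category.comp_id,
        lift_snd, Functor.OplaxMonoidal.δ_snd, ← Functor.map_comp]
      rw [h2, μ_snd, lift_snd]
  rw [Functor.map_comp, ← lift_μ, claim, Category.assoc, Category.assoc, ← Functor.map_comp, h1, μ_fst,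
    lift_fst]

end Abstract


section Geom

theorem surjective_of_grp {S : Scheme.{u}} (X : Over S) [GrpObj X] : Surjective X.hom := by
  have h : η[X].left ≫ X.hom = 𝟙 S := Over.w η[X]
  refine ⟨fun s => ⟨η[X].left.base s, ?_⟩⟩
  rw [← Scheme.Hom.comp_apply, h]; rfl

theorem isPullback_map_left {R : Type u} [CommRing R] [IsDomain R]
    {A B : Over (Spec (CommRingCat.of R))} (g : A ⟶ B) :
    IsPullback (pullback.fst A.hom (Neron.genPt R)) ((Neron.genericFibre R).map g).left g.left
      (pullback.fst B.hom (Neron.genPt R)) := by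
  refine IsPullback.of_bot (h₃₁ := Neron.genPt R) (v₂₁ := pullback.snd B.hom (Neron.genPt R))
    (v₂₂ := B.hom) ?_ (Groth.Agent.Lib.Helper4.NeronClosed1.map_left_fst g).symm
    (IsPullback.of_hasPullback _ _)
  have h1 : ((Neron.genericFibre R).map g).left ≫ pullback.snd B.hom (Neron.genPt R) =
      pullback.snd A.hom (Neron.genPt R) := Over.w ((Neron.genericFibre R).map g)
  rw [h1, Over.w g]
  exact IsPullback.of_hasPullback _ _

theorem epi_map {R : Type u} [CommRing R] [IsDomain R]
    {A B : Over (Spec (CommRingCat.of R))} (g : A ⟶ B) [Flat g.left] [Surjective g.left]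
    [QuasiCompact g.left] : Epi ((Neron.genericFibre R).map g) := by
  have hp := isPullback_map_left g
  haveI : Flat ((Neron.genericFibre R).map g).left :=
    MorphismProperty.of_isPullback (P := @Flat) hp ‹_›
  haveI : Surjective ((Neron.genericFibre R).map g).left :=
    MorphismProperty.of_isPullback (P := @Surjective) hp ‹_›
  haveI : QuasiCompact ((Neron.genericFibre R).map g).left :=
    MorphismProperty.of_isPullback (P := @QuasiCompact) hp ‹_›
  haveI : EffectiveEpi ((Neron.genericFibre R).map g).left := inferInstance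
  haveI : Epi ((Neron.genericFibre R).map g).left := inferInstance
  exact Over.epi_of_epi_left _

end Geom


section Main

open Groth.Agent.Helper2.AlgSpBasic in
theorem props (R : Type u) [CommRing R] [IsDedekindDomain R]
    (X : Over (Spec (CommRingCat.of R))) [GrpObj X]
    (hsm : Smooth X.hom) (hsep : IsSeparated X.hom) (hft : LocallyOfFiniteType X.hom)
    (hqc : QuasiCompact X.hom)
    (P : NonAbH1.TorsorSch X Scheme.fppfPrecoverage) :
    Smooth P.X.hom ∧ IsSeparated P.X.hom ∧ LocallyOfFiniteType P.X.hom ∧ QuasiCompact P.X.hom ∧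
      Surjective P.X.hom := by
  refine ⟨?_, ?_, ?_, ?_, ?_⟩
  · exact Groth.Agent.Lib.Helper4.TorsNormal1.torsor_hom_prop @Smooth X P.X hsm P.act P.isTorsor
  · exact Groth.Agent.Lib.Helper4.TorsNormal1.torsor_hom_prop @IsSeparated X P.X hsep P.act P.isTorsor
  · exact Groth.Agent.Lib.Helper4.TorsNormal1.torsor_hom_prop @LocallyOfFiniteType X P.X hft P.act
      P.isTorsor
  · exact Groth.Agent.Lib.Helper4.TorsNormal1.torsor_hom_prop @QuasiCompact X P.X hqc P.act P.isTorsor
  · exact Groth.Agent.Lib.Helper4.TorsNormal1.torsor_hom_prop @Surjective X P.X (surjective_of_grp X)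
      P.act P.isTorsor



theorem main (R : Type u) [CommRing R] [IsDedekindDomain R]
    (X : Over (Spec (CommRingCat.of R))) [GrpObj X]
    (hX : Neron.IsNeronModelOf R X ((Neron.genericFibre R).obj X) (Iso.refl _))
    (P : NonAbH1.TorsorSch X Scheme.fppfPrecoverage) :
    Neron.IsNeronModelOf R P.X ((Neron.genericFibre R).obj P.X) (Iso.refl _) := by
  obtain ⟨hsm, hsep, hft, hqc, hbij⟩ := hX
  obtain ⟨hPsm, hPsep, hPft, hPqc, hPsurj⟩ := props R X hsm hsep hft hqc P
  refine ⟨hPsm, hPsep, hPft, hPqc, fun Y hY => ⟨?_, ?_⟩⟩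
  · intro g₁ g₂ h
    simp only [Iso.refl_hom, Category.comp_id] at h
    haveI : Flat Y.hom := inferInstance
    exact Groth.Agent.Lib.Helper4.NeronPow1.faithful_of_flat R g₁ g₂ h
  · intro uK
    haveI : IsIso (lift P.act.act (snd X P.X)) := P.isTorsor.1
    have hY' : Smooth (Y ⊗ P.X).hom := by
      change Smooth (pullback.fst Y.hom P.X.hom ≫ Y.hom)
      infer_instance
    have hprl : (fst Y P.X).left = pullback.fst Y.hom P.X.hom := rfl
    haveI : Flat (fst Y P.X).left := by rw [hprl]; infer_instance
    haveI : Surjective (fst Y P.X).left := by rw [hprl]; infer_instance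
    haveI : QuasiCompact (fst Y P.X).left := by rw [hprl]; infer_instance
    obtain ⟨d, hd⟩ := (hbij (Y ⊗ P.X) hY').2
      (lift ((Neron.genericFibre R).map (fst Y P.X) ≫ uK) ((Neron.genericFibre R).map (snd Y P.X)) ≫
        Functor.LaxMonoidal.μ (Neron.genericFibre R) P.X P.X ≫
        (Neron.genericFibre R).map (inv (lift P.act.act (snd X P.X)) ≫ fst X P.X))
    simp only [Iso.refl_hom, Category.comp_id] at hd
    have hv := map_translate (Neron.genericFibre R) P.act.act
      ((Neron.genericFibre R).map (fst Y P.X) ≫ uK) (snd Y P.X) d hd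
    haveI : EffectiveEpi (fst Y P.X).left := inferInstance
    have heq : ∀ {Z : Scheme.{u}} (g₁ g₂ : Z ⟶ (Y ⊗ P.X).left),
        g₁ ≫ (fst Y P.X).left = g₂ ≫ (fst Y P.X).left →
        g₁ ≫ (lift d (snd Y P.X) ≫ P.act.act).left = g₂ ≫ (lift d (snd Y P.X) ≫ P.act.act).left := by
      intro Z g₁ g₂ hg
      have hw2 : pullback.snd (fst Y P.X).left (fst Y P.X).left ≫ (Y ⊗ P.X).hom =
          pullback.fst (fst Y P.X).left (fst Y P.X).left ≫ (Y ⊗ P.X).hom := by
        rw [← Over.w (fst Y P.X), ← Category.assoc, ← pullback.condition, Category.assoc]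
      let KP : Over (Spec (CommRingCat.of R)) :=
        Over.mk (pullback.fst (fst Y P.X).left (fst Y P.X).left ≫ (Y ⊗ P.X).hom)
      let π₁ : KP ⟶ Y ⊗ P.X := Over.homMk (pullback.fst (fst Y P.X).left (fst Y P.X).left) rfl
      let π₂ : KP ⟶ Y ⊗ P.X := Over.homMk (pullback.snd (fst Y P.X).left (fst Y P.X).left) hw2
      have hπ : π₁ ≫ fst Y P.X = π₂ ≫ fst Y P.X := by
        ext
        exact pullback.condition
      haveI : Flat (Y ⊗ P.X).hom := inferInstance
      haveI : Flat KP.hom := by
        change Flat (pullback.fst (fst Y P.X).left (fst Y P.X).left ≫ (Y ⊗ P.X).hom)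
        infer_instance
      have h3 : π₁ ≫ (lift d (snd Y P.X) ≫ P.act.act) = π₂ ≫ (lift d (snd Y P.X) ≫ P.act.act) := by
        apply Groth.Agent.Lib.Helper4.NeronPow1.faithful_of_flat R
        rw [(Neron.genericFibre R).map_comp π₁, (Neron.genericFibre R).map_comp π₂, hv,
          ← Category.assoc, ← Category.assoc,
          ← (Neron.genericFibre R).map_comp π₁, ← (Neron.genericFibre R).map_comp π₂, hπ]
      have h4 : pullback.fst (fst Y P.X).left (fst Y P.X).left ≫
          (lift d (snd Y P.X) ≫ P.act.act).left =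
          pullback.snd (fst Y P.X).left (fst Y P.X).left ≫
          (lift d (snd Y P.X) ≫ P.act.act).left := congrArg CommaMorphism.left h3
      calc g₁ ≫ (lift d (snd Y P.X) ≫ P.act.act).left
          = pullback.lift g₁ g₂ hg ≫ pullback.fst _ _ ≫ (lift d (snd Y P.X) ≫ P.act.act).left := by
            rw [pullback.lift_fst_assoc]
        _ = pullback.lift g₁ g₂ hg ≫ pullback.snd _ _ ≫ (lift d (snd Y P.X) ≫ P.act.act).left := by
            rw [h4]
        _ = g₂ ≫ (lift d (snd Y P.X) ≫ P.act.act).left := by rw [pullback.lift_snd_assoc]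
    have hul : (fst Y P.X).left ≫ EffectiveEpi.desc (fst Y P.X).left
        (lift d (snd Y P.X) ≫ P.act.act).left heq = (lift d (snd Y P.X) ≫ P.act.act).left :=
      EffectiveEpi.fac _ _ _
    have hw : EffectiveEpi.desc (fst Y P.X).left
        (lift d (snd Y P.X) ≫ P.act.act).left heq ≫ P.X.hom = Y.hom := by
      rw [← cancel_epi (fst Y P.X).left, ← Category.assoc, hul, Over.w, Over.w]
    refine ⟨Over.homMk (EffectiveEpi.desc (fst Y P.X).left
        (lift d (snd Y P.X) ≫ P.act.act).left heq) hw, ?_⟩
    simp only [Iso.refl_hom, Category.comp_id]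
    haveI : Epi ((Neron.genericFibre R).map (fst Y P.X)) := epi_map (fst Y P.X)
    have hpu : fst Y P.X ≫ Over.homMk (EffectiveEpi.desc (fst Y P.X).left
        (lift d (snd Y P.X) ≫ P.act.act).left heq) hw = lift d (snd Y P.X) ≫ P.act.act := by
      ext
      exact hul
    rw [← cancel_epi ((Neron.genericFibre R).map (fst Y P.X)), ← Functor.map_comp, hpu, hv]

end Main

end Groth.Agent.Lib.Helper4.NeronTors1
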