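import Mathlib
import Groth.Prelude.Def_Pi1
import Groth.Prelude.Def_NonAbH2
import Groth.Prelude.Def_ActBC
import Groth.Agent.Lib.Helper4.TorsNormal1
import Groth.Agent.Lib.Helper4.UnramSec1
import Groth.Agent.Lib.Helper4.NeronTors1
import Groth.Agent.Lib.Helper9.FE.NormalIrredFib
import Groth.Agent.Lib.Helper2.AlgSp.Descent
import Groth.Agent.Lib.Helper2.AlgSp.Fpqc
import Groth.Agent.S0346
import Groth.Agent.S7180
import Groth.Agent.S6011
import Groth.Agent.Lib.Helper7.QuotEt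

/-!
# Torsors under étale group schemes over a normal integral base: sections vs generic points (S15873, S15874) (helper4)
-/

set_option backward.isDefEq.respectTransparency.types false
set_option synthInstance.maxHeartbeats 400000
set_option autoImplicit false
set_option linter.unusedSectionVars false
set_option linter.style.haveILetI false
set_option linter.unusedSimpArgs false
universe u v w
open CategoryTheory CategoryTheory.Limits AlgebraicGeometry TopologicalSpace Opposite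
open MonoidalCategory CartesianMonoidalCategory MonObj GrpObj

namespace Groth.Agent.Lib.Helper4.EtTorsNormal1

section Field

theorem discrete_of_etale_field {k : Type u} [Field k] {X : Scheme.{u}}
    (f : X ⟶ Spec (CommRingCat.of k)) [Etale f] : DiscreteTopology X := by
  haveI : LocallyQuasiFinite f := H9FE.NormalIrredSch.locallyQuasiFinite_of_etale f
  have h := f.isDiscrete_preimage_singleton (IsLocalRing.closedPoint k)
  refine isDiscrete_univ_iff.mp ?_
  convert h using 1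
  ext x
  simp only [Set.mem_preimage, Set.mem_singleton_iff, Set.mem_univ, true_iff]
  exact Subsingleton.elim _ _

theorem isSeparated_of_etale_grp {k : Type u} [Field k]
    (G : Over (Spec (CommRingCat.of k))) [GrpObj G] [Etale G.hom] : IsSeparated G.hom := by
  rw [(Groth.Agent.S0346.result _ G).1]
  haveI := discrete_of_etale_field G.hom
  have hsec : η[G].left ≫ G.hom = 𝟙 _ := Over.w η[G]
  haveI : IsOpenImmersion η[G].left :=
    Groth.Agent.Lib.Helper4.UnramSec1.section_isOpenImmersion G.hom η[G].left hsec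
  exact IsClosedImmersion.of_isPreimmersion _ (isClosed_discrete _)

end Field


section Top

variable {E S : Scheme.{u}} [IsIntegral S] (p : E ⟶ S) [Etale p]

theorem eq_of_specializes_generic {e z : E} (h : e ⤳ z) (he : p e = genericPoint S)
    (hz : p z = genericPoint S) : e = z := by
  haveI := H9FE.NormalIrredSch.locallyQuasiFinite_of_etale p
  exact (p.isDiscrete_preimage_singleton (genericPoint S)).eq_of_specializes h he hz

/-- every point of `E` is a specialization of a point over the generic point, which lies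
in any given preirreducible open neighbourhood -/
theorem exists_generic_of_preirreducible (W : E.Opens) (hW : IsPreirreducible (W : Set E))
    (w : E) (hw : w ∈ W) : ∃ ξ ∈ W, p ξ = genericPoint S ∧ ∀ w' ∈ W, ξ ⤳ w' := by
  haveI : PreirreducibleSpace W := Subtype.preirreducibleSpace hW
  haveI : Nonempty W := ⟨⟨w, hw⟩⟩
  haveI : Nonempty (W : Scheme.{u}) := ‹Nonempty W›
  haveI : IrreducibleSpace (W : Scheme.{u}) :=
    { toPreirreducibleSpace := ‹PreirreducibleSpace W›, toNonempty := inferInstance }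
  obtain ⟨v, hv⟩ := H9FE.NormalIrredSch.exists_over_generic (W.ι ≫ p)
  have hgen : genericPoint (W : Scheme.{u}) = v := by
    have h1 : genericPoint (W : Scheme.{u}) ⤳ v :=
      (genericPoint_spec (W : Scheme.{u})).specializes (Set.mem_univ v)
    have h2 : (W.ι ≫ p) (genericPoint (W : Scheme.{u})) ⤳ genericPoint S :=
      hv ▸ h1.map (W.ι ≫ p).continuous
    have h3 : genericPoint S ⤳ (W.ι ≫ p) (genericPoint (W : Scheme.{u})) :=
      (genericPoint_spec S).specializes (Set.mem_univ _)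
    exact eq_of_specializes_generic (W.ι ≫ p) h1 (h2.antisymm h3).eq hv
  refine ⟨W.ι v, v.2, ?_, fun w' hw' => ?_⟩
  · rw [← Scheme.Hom.comp_apply]; exact hv
  · have h1 : v ⤳ (⟨w', hw'⟩ : W) :=
      hgen ▸ (genericPoint_spec (W : Scheme.{u})).specializes (Set.mem_univ _)
    exact h1.map W.ι.continuous



theorem isOpen_closure_of_generic (hN : ∀ x : S, IsIntegrallyClosed (S.presheaf.stalk x))
    (e : E) (he : p e = genericPoint S) : IsOpen (closure ({e} : Set E)) := by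
  rw [isOpen_iff_forall_mem_open]
  intro z hz
  obtain ⟨W, hzW, hW⟩ := H9FE.NormalIrredSch.exists_irreducible_nhd hN p z
  have heW : e ∈ W := (specializes_iff_mem_closure.mpr hz).mem_open W.2 hzW
  obtain ⟨ξ, hξW, hξ, hspec⟩ := exists_generic_of_preirreducible p W hW z hzW
  have : ξ = e := eq_of_specializes_generic p (hspec e heW) hξ he
  subst this
  exact ⟨W, fun w hw => specializes_iff_mem_closure.mp (hspec w hw), W.2, hzW⟩

/-- every point has a generization over the generic point -/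
theorem exists_generic_specializes (hN : ∀ x : S, IsIntegrallyClosed (S.presheaf.stalk x))
    (z : E) : ∃ ξ : E, p ξ = genericPoint S ∧ ξ ⤳ z := by
  obtain ⟨W, hzW, hW⟩ := H9FE.NormalIrredSch.exists_irreducible_nhd hN p z
  obtain ⟨ξ, hξW, hξ, hspec⟩ := exists_generic_of_preirreducible p W hW z hzW
  exact ⟨ξ, hξ, hspec z hzW⟩

end Top


section Pieces

/-- a one-point open of an étale scheme over a field is finite over the field -/
theorem isFinite_point_of_etale_field {k : Type u} [Field k] {X : Scheme.{u}}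
    (f : X ⟶ Spec (CommRingCat.of k)) [Etale f] (U : X.Opens) (g : X) (hU : (U : Set X) = {g}) :
    IsFinite (U.ι ≫ f) := by
  haveI : LocallyQuasiFinite (U.ι ≫ f) := H9FE.NormalIrredSch.locallyQuasiFinite_of_etale _
  haveI : CompactSpace (U : Scheme.{u}) := by
    have h1 : IsCompact (U : Set X) := by rw [hU]; exact isCompact_singleton
    exact isCompact_iff_compactSpace.mp h1
  haveI : QuasiCompact (U.ι ≫ f) := HasAffineProperty.iff_of_isAffine.mpr ‹_›
  haveI : IsLocallyArtinian (Spec (CommRingCat.of k)) :=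
    Scheme.isLocallyArtinianScheme_Spec.mpr inferInstance
  exact IsFinite.of_locallyQuasiFinite _

/-- base change of a finite piece -/
theorem isFinite_piece {X Y B E : Scheme.{u}} (f : X ⟶ B) (q : E ⟶ B) (π : Y ⟶ X) (pr : Y ⟶ E)
    (h : IsPullback π pr f q) (U : X.Opens) [IsFinite (U.ι ≫ f)] :
    IsFinite ((π ⁻¹ᵁ U).ι ≫ pr) := by
  have h1 : IsPullback (π ∣_ U) (π ⁻¹ᵁ U).ι U.ι π := isPullback_morphismRestrict π U
  have h2 : IsPullback (π ∣_ U) ((π ⁻¹ᵁ U).ι ≫ pr) (U.ι ≫ f) q := h1.paste_vert h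
  exact MorphismProperty.of_isPullback (P := @IsFinite) h2 ‹_›

end Pieces


section Restrict

theorem isFinite_restrict_of_le {X Y : Scheme.{u}} (q : X ⟶ Y) (Z' N : X.Opens) (U : Y.Opens)
    (hN : IsFinite (N.ι ≫ q)) (hle : Z' ⊓ q ⁻¹ᵁ U ≤ N) (hZ' : IsClosed (Z' : Set X)) :
    IsFinite ((Z'.ι ≫ q) ∣_ U) := by
  have hrange : Set.range (((Z'.ι ≫ q) ⁻¹ᵁ U).ι ≫ Z'.ι) ⊆
      Set.range (((N.ι ≫ q) ⁻¹ᵁ U).ι ≫ N.ι) := by
    rintro _ ⟨t, rfl⟩
    have h1 : (((Z'.ι ≫ q) ⁻¹ᵁ U).ι ≫ Z'.ι) t ∈ Z' ⊓ q ⁻¹ᵁ U := ⟨t.1.2, t.2⟩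
    have h2 := hle h1
    exact ⟨⟨⟨_, h2⟩, h1.2⟩, rfl⟩
  have hj : IsOpenImmersion.lift (((N.ι ≫ q) ⁻¹ᵁ U).ι ≫ N.ι) (((Z'.ι ≫ q) ⁻¹ᵁ U).ι ≫ Z'.ι) hrange ≫
      ((N.ι ≫ q) ⁻¹ᵁ U).ι ≫ N.ι = ((Z'.ι ≫ q) ⁻¹ᵁ U).ι ≫ Z'.ι := IsOpenImmersion.lift_fac _ _ _
  haveI : IsOpenImmersion (IsOpenImmersion.lift (((N.ι ≫ q) ⁻¹ᵁ U).ι ≫ N.ι)
      (((Z'.ι ≫ q) ⁻¹ᵁ U).ι ≫ Z'.ι) hrange ≫ ((N.ι ≫ q) ⁻¹ᵁ U).ι ≫ N.ι) := by
    rw [hj]; infer_instance
  haveI : IsOpenImmersion (IsOpenImmersion.lift (((N.ι ≫ q) ⁻¹ᵁ U).ι ≫ N.ι)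
      (((Z'.ι ≫ q) ⁻¹ᵁ U).ι ≫ Z'.ι) hrange) :=
    IsOpenImmersion.of_comp _ (((N.ι ≫ q) ⁻¹ᵁ U).ι ≫ N.ι)
  have hclosed : IsClosed (Set.range (IsOpenImmersion.lift (((N.ι ≫ q) ⁻¹ᵁ U).ι ≫ N.ι)
      (((Z'.ι ≫ q) ⁻¹ᵁ U).ι ≫ Z'.ι) hrange)) := by
    have : Set.range (IsOpenImmersion.lift (((N.ι ≫ q) ⁻¹ᵁ U).ι ≫ N.ι)
        (((Z'.ι ≫ q) ⁻¹ᵁ U).ι ≫ Z'.ι) hrange) =
        (((N.ι ≫ q) ⁻¹ᵁ U).ι ≫ N.ι) ⁻¹' (Z' : Set X) := by
      ext v
      constructor
      · rintro ⟨t, rfl⟩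
        show (((N.ι ≫ q) ⁻¹ᵁ U).ι ≫ N.ι) _ ∈ Z'
        rw [← Scheme.Hom.comp_apply, hj]
        exact t.1.2
      · intro hv
        have hvU : (⟨v.1.1, hv⟩ : Z') ∈ (Z'.ι ≫ q) ⁻¹ᵁ U := v.2
        refine ⟨⟨⟨v.1.1, hv⟩, hvU⟩, ?_⟩
        apply (((N.ι ≫ q) ⁻¹ᵁ U).ι ≫ N.ι).isOpenEmbedding.injective
        rw [← Scheme.Hom.comp_apply, hj]
        rfl
    rw [this]
    exact hZ'.preimage (((N.ι ≫ q) ⁻¹ᵁ U).ι ≫ N.ι).continuous
  haveI : IsClosedImmersion (IsOpenImmersion.lift (((N.ι ≫ q) ⁻¹ᵁ U).ι ≫ N.ι)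
      (((Z'.ι ≫ q) ⁻¹ᵁ U).ι ≫ Z'.ι) hrange) := IsClosedImmersion.of_isPreimmersion _ hclosed
  have hcomp : IsOpenImmersion.lift (((N.ι ≫ q) ⁻¹ᵁ U).ι ≫ N.ι)
      (((Z'.ι ≫ q) ⁻¹ᵁ U).ι ≫ Z'.ι) hrange ≫ ((N.ι ≫ q) ∣_ U) = (Z'.ι ≫ q) ∣_ U := by
    rw [← cancel_mono U.ι, Category.assoc, morphismRestrict_ι, morphismRestrict_ι,
      ← Category.assoc, ← Category.assoc, ← Category.assoc, Category.assoc _ _ N.ι, hj]
  haveI : IsFinite ((N.ι ≫ q) ∣_ U) := IsZariskiLocalAtTarget.restrict hN U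
  rw [← hcomp]
  infer_instance

end Restrict


section Unique

theorem eq_of_fst_snd {E S K : Scheme.{u}} (p : E ⟶ S) (x : K ⟶ E) [Mono (x ≫ p)]
    (w₁ w₂ : ↑(pullback p p)) (pt₁ pt₂ : K)
    (h₁ : (pullback.fst p p) w₁ = x pt₁) (h₂ : (pullback.fst p p) w₂ = x pt₂)
    (hs : (pullback.snd p p) w₁ = (pullback.snd p p) w₂) : w₁ = w₂ := by
  have hx' : (pullback.lift (pullback.fst (x ≫ p) p ≫ x) (pullback.snd (x ≫ p) p)
      (by rw [Category.assoc, pullback.condition]) : pullback (x ≫ p) p ⟶ pullback p p) ≫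
      pullback.snd p p = pullback.snd (x ≫ p) p := pullback.lift_snd _ _ _
  have hpb : IsPullback (pullback.lift (pullback.fst (x ≫ p) p ≫ x) (pullback.snd (x ≫ p) p)
      (by rw [Category.assoc, pullback.condition]) : pullback (x ≫ p) p ⟶ pullback p p)
      (pullback.fst (x ≫ p) p) (pullback.fst p p) x := by
    refine IsPullback.of_right ?_ (pullback.lift_fst _ _ _) (IsPullback.of_hasPullback p p).flip
    rw [hx']
    exact (IsPullback.of_hasPullback (x ≫ p) p).flip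
  obtain ⟨u₁, hu₁, -⟩ := Scheme.exists_preimage_of_isPullback hpb w₁ pt₁ h₁
  obtain ⟨u₂, hu₂, -⟩ := Scheme.exists_preimage_of_isPullback hpb w₂ pt₂ h₂
  have hu : u₁ = u₂ := by
    apply (pullback.snd (x ≫ p) p).injective
    rw [← hx', Scheme.Hom.comp_apply, Scheme.Hom.comp_apply]
    rw [hu₁, hu₂, hs]
  rw [← hu₁, ← hu₂, hu]

end Unique


section Key

variable {E S K GE : Scheme.{u}} [IsIntegral S] (p : E ⟶ S) [Etale p] (x : K ⟶ E) [Mono (x ≫ p)]
  (pt : K) (hxpt : p (x pt) = genericPoint S)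
  (a pr₂ : GE ⟶ E) (Φ : GE ⟶ pullback p p) [IsIso Φ] (hΦ₁ : Φ ≫ pullback.fst p p = a)
  (hΦ₂ : Φ ≫ pullback.snd p p = pr₂)

include hxpt hΦ₁ hΦ₂ in
theorem key_unique (ξ : E) (hξ : p ξ = genericPoint S)
    (t t₀ : GE) (ht : a t ∈ closure ({x pt} : Set E)) (ht₀ : a t₀ ∈ closure ({x pt} : Set E))
    (h : pr₂ t = ξ) (h₀ : pr₂ t₀ = ξ) : t = t₀ := by
  have hap : a ≫ p = pr₂ ≫ p := by
    rw [← hΦ₁, ← hΦ₂, Category.assoc, Category.assoc, pullback.condition]
  have hpa : ∀ t' : GE, pr₂ t' = ξ → p (a t') = genericPoint S := by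
    intro t' ht'
    rw [← Scheme.Hom.comp_apply, hap, Scheme.Hom.comp_apply, ht', hξ]
  have e1 : x pt = a t :=
    eq_of_specializes_generic p (specializes_iff_mem_closure.mpr ht) hxpt (hpa t h)
  have e2 : x pt = a t₀ :=
    eq_of_specializes_generic p (specializes_iff_mem_closure.mpr ht₀) hxpt (hpa t₀ h₀)
  have hΦ : Φ t = Φ t₀ := by
    refine eq_of_fst_snd p x (Φ t) (Φ t₀) pt pt ?_ ?_ ?_
    · rw [← Scheme.Hom.comp_apply, hΦ₁, e1]
    · rw [← Scheme.Hom.comp_apply, hΦ₁, e2]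
    · rw [← Scheme.Hom.comp_apply, ← Scheme.Hom.comp_apply, hΦ₂, h, h₀]
  have hinj : ∀ t' : GE, (inv Φ) (Φ t') = t' := by
    intro t'
    rw [← Scheme.Hom.comp_apply, IsIso.hom_inv_id]
    rfl
  rw [← hinj t, ← hinj t₀, hΦ]

include hxpt hΦ₁ hΦ₂ in
theorem key_piece {G' : Scheme.{u}} [T1Space G'] (π : GE ⟶ G') [Flat pr₂]
    (hopen : IsOpen (closure ({x pt} : Set E)))
    (ξ : E) (hξ : p ξ = genericPoint S)
    (t t₀ : GE) (ht : a t ∈ closure ({x pt} : Set E)) (ht₀ : a t₀ ∈ closure ({x pt} : Set E))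
    (h : ξ ⤳ pr₂ t) (h₀ : ξ ⤳ pr₂ t₀) : π t = π t₀ := by
  have hg : GeneralizingMap pr₂ := Flat.generalizingMap pr₂
  obtain ⟨t', ht', hpt'⟩ := hg h
  obtain ⟨t₀', ht₀', hpt₀'⟩ := hg h₀
  have h1 : a t' ∈ closure ({x pt} : Set E) := (ht'.map a.continuous).mem_open hopen ht
  have h2 : a t₀' ∈ closure ({x pt} : Set E) := (ht₀'.map a.continuous).mem_open hopen ht₀
  have h3 : t' = t₀' := key_unique p x pt hxpt a pr₂ Φ hΦ₁ hΦ₂ ξ hξ t' t₀' h1 h2 hpt' hpt₀'
  rw [← (ht'.map π.continuous).eq, ← (ht₀'.map π.continuous).eq, h3]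

end Key


section Translate

theorem isFinite_translate {E S K GE G' : Scheme.{u}} [IsIntegral S]
    (hN : ∀ x : S, IsIntegrallyClosed (S.presheaf.stalk x)) (p : E ⟶ S) [Etale p]
    (x : K ⟶ E) [Mono (x ≫ p)] (pt : K) (hxpt : p (x pt) = genericPoint S)
    (a pr₂ : GE ⟶ E) (Φ : GE ⟶ pullback p p) [IsIso Φ] (hΦ₁ : Φ ≫ pullback.fst p p = a)
    (hΦ₂ : Φ ≫ pullback.snd p p = pr₂)
    [DiscreteTopology G'] [Nonempty G'] (π : GE ⟶ G') [Flat pr₂]
    (hpiece : ∀ g : G', IsFinite ((π ⁻¹ᵁ ⟨{g}, isOpen_discrete _⟩).ι ≫ pr₂))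
    (Z : E.Opens) (hZ : (Z : Set E) = closure {x pt}) :
    IsFinite ((a ⁻¹ᵁ Z).ι ≫ pr₂) := by
  have hopen : IsOpen (closure ({x pt} : Set E)) := hZ ▸ Z.2
  apply IsZariskiLocalAtTarget.of_forall_exists_morphismRestrict (P := @IsFinite)
  intro e''
  obtain ⟨ξ, hξ, hspec⟩ := exists_generic_specializes p hN e''
  refine ⟨⟨closure {ξ}, isOpen_closure_of_generic p hN ξ hξ⟩,
    specializes_iff_mem_closure.mp hspec, ?_⟩
  classical
  let g₀ : G' := if h : ∃ t₀, t₀ ∈ (a ⁻¹ᵁ Z) ⊓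
      pr₂ ⁻¹ᵁ (⟨closure {ξ}, isOpen_closure_of_generic p hN ξ hξ⟩ : E.Opens) then π h.choose
    else Classical.arbitrary G'
  refine isFinite_restrict_of_le pr₂ (a ⁻¹ᵁ Z) (π ⁻¹ᵁ ⟨{g₀}, isOpen_discrete _⟩) _ (hpiece g₀) ?_ ?_
  · intro t ht
    have hex : ∃ t₀, t₀ ∈ (a ⁻¹ᵁ Z) ⊓
        pr₂ ⁻¹ᵁ (⟨closure {ξ}, isOpen_closure_of_generic p hN ξ hξ⟩ : E.Opens) := ⟨t, ht⟩
    have hg₀ : g₀ = π hex.choose := dif_pos hex
    have hc := hex.choose_spec
    show π t ∈ ({g₀} : Set G')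
    rw [hg₀, Set.mem_singleton_iff]
    have m1 : a t ∈ closure ({x pt} : Set E) := hZ ▸ ht.1
    have m2 : a hex.choose ∈ closure ({x pt} : Set E) := hZ ▸ hc.1
    have s1 : ξ ⤳ pr₂ t := specializes_iff_mem_closure.mpr ht.2
    have s2 : ξ ⤳ pr₂ hex.choose := specializes_iff_mem_closure.mpr hc.2
    exact key_piece p x pt hxpt a pr₂ Φ hΦ₁ hΦ₂ π hopen ξ hξ t hex.choose m1 m2 s1 s2
  · have : ((a ⁻¹ᵁ Z : GE.Opens) : Set GE) = a ⁻¹' closure ({x pt} : Set E) := by
      rw [← hZ]; rfl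
    rw [this]
    exact isClosed_closure.preimage a.continuous

end Translate


section Conclude

theorem isIso_residue_generic (S : Scheme.{u}) [IsIntegral S] :
    IsIso (S.residue (genericPoint S)) := by
  rw [ConcreteCategory.isIso_iff_bijective]
  refine ⟨?_, IsLocalRing.residue_surjective⟩
  letI : Field (S.presheaf.stalk (genericPoint S)) :=
    inferInstanceAs (Field S.functionField)
  exact RingHom.injective (IsLocalRing.residue (S.presheaf.stalk (genericPoint S)))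

open Groth.Agent.Helper2.AlgSpBasic in
theorem exists_section_of_translate {E S GE : Scheme.{u}} [IsIntegral S]
    (hS : Pi1.IsNormalScheme S) (p : E ⟶ S) [Etale p] [Surjective p]
    (x : Spec (S.residueField (genericPoint S)) ⟶ E)
    (hx : x ≫ p = S.fromSpecResidueField (genericPoint S))
    (pt : Spec (S.residueField (genericPoint S)))
    (a pr₂ : GE ⟶ E) (Φ : GE ⟶ pullback p p) [IsIso Φ] (hΦ₁ : Φ ≫ pullback.fst p p = a)
    (hΦ₂ : Φ ≫ pullback.snd p p = pr₂)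
    (Z : E.Opens) (hZ : (Z : Set E) = closure {x pt})
    (hfin : IsFinite ((a ⁻¹ᵁ Z).ι ≫ pr₂)) :
    ∃ σ : S ⟶ E, σ ≫ p = 𝟙 S ∧ S.fromSpecResidueField (genericPoint S) ≫ σ = x := by
  -- the cartesian square
  have hbot : IsPullback a pr₂ p p := by
    refine IsPullback.of_iso_pullback ⟨?_⟩ (asIso Φ) hΦ₁ hΦ₂
    rw [← hΦ₁, ← hΦ₂, Category.assoc, Category.assoc, pullback.condition]
  have htop : IsPullback (a ∣_ Z) (a ⁻¹ᵁ Z).ι Z.ι a := isPullback_morphismRestrict a Z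
  have hsq : IsPullback (a ∣_ Z) ((a ⁻¹ᵁ Z).ι ≫ pr₂) (Z.ι ≫ p) p := htop.paste_vert hbot
  -- descent of finiteness
  haveI : IsFinite (Z.ι ≫ p) := by
    apply MorphismProperty.IsLocalAtTarget.of_forall_pullbackSnd (P := @IsFinite)
      (K := Scheme.fppfPrecoverage) (Scheme.Hom.singleton_mem_fppfPrecoverage p)
    rintro U g _ ⟨⟩
    have e : pullback.snd (Z.ι ≫ p) p = hsq.isoPullback.inv ≫ ((a ⁻¹ᵁ Z).ι ≫ pr₂) := by
      rw [Iso.eq_inv_comp]; exact hsq.isoPullback_hom_snd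
    rw [e]
    infer_instance
  -- `Z` is integral
  haveI : IrreducibleSpace Z := by
    have h1 : IsIrreducible (Z : Set E) := hZ ▸ isIrreducible_singleton.closure
    exact Subtype.irreducibleSpace h1
  haveI : IrreducibleSpace (Z : Scheme.{u}) := ‹IrreducibleSpace Z›
  have hZn : Pi1.IsNormalScheme (Z : Scheme.{u}) := Groth.Agent.S7180.result (Z.ι ≫ p) hS
  haveI : IsReduced (Z : Scheme.{u}) := by
    haveI : ∀ z : (Z : Scheme.{u}), _root_.IsReduced ((Z : Scheme.{u}).presheaf.stalk z) := by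
      intro z
      haveI := (hZn z).1
      infer_instance
    exact isReduced_of_isReduced_stalk _
  haveI : IsIntegral (Z : Scheme.{u}) := isIntegral_of_irreducibleSpace_of_isReduced _
  haveI : IsIntegralHom (Z.ι ≫ p) := inferInstance
  -- lift of `x` to `Z`
  have hrange : Set.range x ⊆ Set.range Z.ι := by
    rintro _ ⟨pt', rfl⟩
    rw [Scheme.Opens.range_ι, hZ, Subsingleton.elim pt' pt]
    exact subset_closure rfl
  have hxZ : IsOpenImmersion.lift Z.ι x hrange ≫ Z.ι = x := IsOpenImmersion.lift_fac _ _ _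
  haveI := isIso_residue_generic S
  have hs' : (Spec.map (inv (S.residue (genericPoint S))) ≫ IsOpenImmersion.lift Z.ι x hrange) ≫
      (Z.ι ≫ p) = S.fromSpecStalk (genericPoint S) := by
    rw [Category.assoc, ← Category.assoc _ Z.ι p, hxZ, hx, Scheme.fromSpecResidueField,
      ← Category.assoc, ← Spec.map_comp, IsIso.hom_inv_id, Spec.map_id, Category.id_comp]
  haveI : IsIso (Z.ι ≫ p) :=
    Groth.Agent.Lib.Helper4.TorsNormal1.isIso_of_generic_section hS (Z.ι ≫ p) _ hs'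
  refine ⟨inv (Z.ι ≫ p) ≫ Z.ι, ?_, ?_⟩
  · rw [Category.assoc, IsIso.inv_hom_id]
  · have h1 : IsOpenImmersion.lift Z.ι x hrange =
        S.fromSpecResidueField (genericPoint S) ≫ inv (Z.ι ≫ p) := by
      rw [IsIso.eq_comp_inv, ← Category.assoc, hxZ, hx]
    rw [← Category.assoc, ← h1, hxZ]

end Conclude


section Final

open Groth.Agent.Helper2.AlgSpBasic in
theorem torsor_props {k : Type u} [Field k]
    (G : Over (Spec (CommRingCat.of k))) [GrpObj G] [Etale G.hom]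
    {S : Scheme.{u}} (s : S ⟶ Spec (CommRingCat.of k))
    (E : NonAbH1.TorsorSch (Red.bc s G) Scheme.fppfPrecoverage) :
    Etale E.X.hom ∧ IsSeparated E.X.hom ∧ Surjective E.X.hom := by
  have h1 : Etale (Red.bc s G).hom := by
    change Etale (pullback.snd G.hom s)
    infer_instance
  have h2 : IsSeparated (Red.bc s G).hom := by
    haveI := isSeparated_of_etale_grp G
    change IsSeparated (pullback.snd G.hom s)
    infer_instance
  have h3 : Surjective (Red.bc s G).hom :=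
    Groth.Agent.Lib.Helper4.NeronTors1.surjective_of_grp (Red.bc s G)
  exact ⟨Groth.Agent.Lib.Helper4.TorsNormal1.torsor_hom_prop @Etale _ E.X h1 E.act E.isTorsor,
    Groth.Agent.Lib.Helper4.TorsNormal1.torsor_hom_prop @IsSeparated _ E.X h2 E.act E.isTorsor,
    Groth.Agent.Lib.Helper4.TorsNormal1.torsor_hom_prop @Surjective _ E.X h3 E.act E.isTorsor⟩



theorem main15873 (k : Type u) [Field k]
    (G : Over (Spec (CommRingCat.of k))) [GrpObj G] [Etale G.hom]
    (S : Scheme.{u}) [IsIntegral S] (hS : Pi1.IsNormalScheme S) (s : S ⟶ Spec (CommRingCat.of k))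
    (E : NonAbH1.TorsorSch (Red.bc s G) Scheme.fppfPrecoverage) :
    (∀ σ₁ σ₂ : S ⟶ E.X.left, σ₁ ≫ E.X.hom = 𝟙 S → σ₂ ≫ E.X.hom = 𝟙 S →
        S.fromSpecResidueField (genericPoint S) ≫ σ₁ =
          S.fromSpecResidueField (genericPoint S) ≫ σ₂ → σ₁ = σ₂) ∧
    (∀ x : Spec (S.residueField (genericPoint S)) ⟶ E.X.left,
        x ≫ E.X.hom = S.fromSpecResidueField (genericPoint S) →
        ∃ σ : S ⟶ E.X.left, σ ≫ E.X.hom = 𝟙 S ∧
          S.fromSpecResidueField (genericPoint S) ≫ σ = x) := by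
  obtain ⟨hpet, hpsep, hpsurj⟩ := torsor_props G s E
  refine ⟨fun σ₁ σ₂ h₁ h₂ hσ => ?_, fun x hx => ?_⟩
  · exact Groth.Agent.Helper7.QuotEt.rigidity_point E.X.hom σ₁ σ₂ (h₁.trans h₂.symm)
      (S.fromSpecResidueField (genericPoint S))
      (IsLocalRing.closedPoint (S.residueField (genericPoint S))) hσ
  · have hN : ∀ y : S, IsIntegrallyClosed (S.presheaf.stalk y) := fun y => (hS y).2
    have hxpt : E.X.hom (x (IsLocalRing.closedPoint (S.residueField (genericPoint S)))) =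
        genericPoint S := by
      rw [← Scheme.Hom.comp_apply, hx, Scheme.fromSpecResidueField_apply]
    haveI : Mono (x ≫ E.X.hom) := by rw [hx]; infer_instance
    haveI hiso : IsIso (lift E.act.act (snd (Red.bc s G) E.X)) := E.isTorsor.1
    haveI : IsIso (lift E.act.act (snd (Red.bc s G) E.X)).left :=
      (Over.forget S).map_isIso (lift E.act.act (snd (Red.bc s G) E.X))
    have hΦ₁ : (lift E.act.act (snd (Red.bc s G) E.X)).left ≫ pullback.fst E.X.hom E.X.hom =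
        E.act.act.left := congrArg CommaMorphism.left (lift_fst E.act.act (snd (Red.bc s G) E.X))
    have hΦ₂ : (lift E.act.act (snd (Red.bc s G) E.X)).left ≫ pullback.snd E.X.hom E.X.hom =
        pullback.snd (Red.bc s G).hom E.X.hom :=
      congrArg CommaMorphism.left (lift_snd E.act.act (snd (Red.bc s G) E.X))
    haveI := discrete_of_etale_field G.hom
    haveI : Nonempty G.left := ⟨η[G].left (IsLocalRing.closedPoint k)⟩
    have hpb : IsPullback (pullback.fst (Red.bc s G).hom E.X.hom ≫ pullback.fst G.hom s)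
        (pullback.snd (Red.bc s G).hom E.X.hom) G.hom (E.X.hom ≫ s) :=
      (IsPullback.of_hasPullback (Red.bc s G).hom E.X.hom).paste_horiz
        (IsPullback.of_hasPullback G.hom s)
    haveI : Flat (pullback.snd (Red.bc s G).hom E.X.hom) := by
      haveI : Flat (Red.bc s G).hom := by
        change Flat (pullback.snd G.hom s)
        infer_instance
      infer_instance
    have hpiece : ∀ g : G.left, IsFinite (((pullback.fst (Red.bc s G).hom E.X.hom ≫
        pullback.fst G.hom s) ⁻¹ᵁ ⟨{g}, isOpen_discrete _⟩).ι ≫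
        pullback.snd (Red.bc s G).hom E.X.hom) := by
      intro g
      haveI := isFinite_point_of_etale_field G.hom ⟨{g}, isOpen_discrete _⟩ g rfl
      exact isFinite_piece G.hom (E.X.hom ≫ s) _ _ hpb _
    have hfin := isFinite_translate hN E.X.hom x
      (IsLocalRing.closedPoint (S.residueField (genericPoint S))) hxpt E.act.act.left
      (pullback.snd (Red.bc s G).hom E.X.hom) (lift E.act.act (snd (Red.bc s G) E.X)).left hΦ₁ hΦ₂
      (pullback.fst (Red.bc s G).hom E.X.hom ≫ pullback.fst G.hom s) hpiece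
      ⟨closure {x (IsLocalRing.closedPoint (S.residueField (genericPoint S)))},
        isOpen_closure_of_generic E.X.hom hN _ hxpt⟩ rfl
    exact exists_section_of_translate hS E.X.hom x hx
      (IsLocalRing.closedPoint (S.residueField (genericPoint S))) E.act.act.left
      (pullback.snd (Red.bc s G).hom E.X.hom) (lift E.act.act (snd (Red.bc s G) E.X)).left hΦ₁ hΦ₂
      _ rfl hfin



theorem hasSection_of_equivIso {B : Scheme.{u}} {G X X' : Over B} [GrpObj G]
    {a : AlgGrp.Action G X} {a' : AlgGrp.Action G X'} (e : NonAbH1.EquivIso a a')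
    (h : NonAbH1.HasSectionOver X (𝟙 B)) : NonAbH1.HasSectionOver X' (𝟙 B) := by
  obtain ⟨σ, hσ⟩ := h
  refine ⟨σ ≫ e.iso.hom.left, ?_⟩
  rw [Category.assoc, Over.w, hσ]

theorem hasSection_of_eq_one {B : Scheme.{u}} (G : Over B) [GrpObj G]
    (P : NonAbH1.TorsorSch G Scheme.fppfPrecoverage)
    (h : P.cl = 1) :
    NonAbH1.HasSectionOver P.X (𝟙 B) := by
  let hasSec : NonAbH1.H1Sch G Scheme.fppfPrecoverage → Prop :=
    Quot.lift (fun Q => NonAbH1.HasSectionOver Q.X (𝟙 B)) (by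
      rintro Q Q' ⟨e⟩
      refine propext ⟨hasSection_of_equivIso e, ?_⟩
      intro h'
      obtain ⟨σ, hσ⟩ := h'
      refine ⟨σ ≫ e.iso.inv.left, ?_⟩
      rw [Category.assoc, Over.w, hσ])
  have h1 : hasSec 1 := ⟨η[G].left, Over.w η[G]⟩
  have h2 : hasSec P.cl := h ▸ h1
  exact h2

theorem main15874 (k : Type u) [Field k]
    (G : Over (Spec (CommRingCat.of k))) [GrpObj G] [Etale G.hom]
    (S : Scheme.{u}) [IsIntegral S] (hS : Pi1.IsNormalScheme S) (s : S ⟶ Spec (CommRingCat.of k))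
    (c : NonAbH1.H1Sch (Red.bc s G) Scheme.fppfPrecoverage)
    (hc : NonAbH1.H1Sch.bcMap (S.fromSpecResidueField (genericPoint S)) (Red.bc s G)
      Scheme.fppfPrecoverage c = 1) :
    c = 1 := by
  obtain ⟨P, rfl⟩ := Quot.exists_rep c
  have h1 : NonAbH1.HasSectionOver (P.bc (S.fromSpecResidueField (genericPoint S))).X (𝟙 _) :=
    hasSection_of_eq_one _ (P.bc (S.fromSpecResidueField (genericPoint S))) hc
  obtain ⟨(σ' : Spec (S.residueField (genericPoint S)) ⟶
    pullback P.X.hom (S.fromSpecResidueField (genericPoint S))), hσ'⟩ := h1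
  have hσ'' : σ' ≫ pullback.snd P.X.hom (S.fromSpecResidueField (genericPoint S)) = 𝟙 _ := hσ'
  have hx : (σ' ≫ pullback.fst P.X.hom (S.fromSpecResidueField (genericPoint S))) ≫ P.X.hom =
      S.fromSpecResidueField (genericPoint S) := by
    rw [Category.assoc, pullback.condition, ← Category.assoc, hσ'', Category.id_comp]
  obtain ⟨σ, hσ, -⟩ := (main15873 k G S hS s P).2 _ hx
  obtain ⟨e⟩ := Groth.Agent.S6011.backward (Red.bc s G) P.X P.act P.isTorsor.1 ⟨σ, hσ⟩
  exact (Quot.sound ⟨e⟩).symm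

end Final

end Groth.Agent.Lib.Helper4.EtTorsNormal1
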