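import Mathlib

/-!
# Ext vanishing for two-term resolutions by strong exceptional sequences (S17487) (helper4)
-/

set_option backward.isDefEq.respectTransparency.types false
set_option synthInstance.maxHeartbeats 400000
set_option autoImplicit false
set_option linter.unusedSectionVars false
set_option linter.style.haveILetI false
set_option linter.unusedSimpArgs false
universe u v w
open CategoryTheory CategoryTheory.Limits Abelian

namespace Groth.Agent.Lib.Helper4.ExtExc1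

variable {C : Type u} [Category.{v} C] [Abelian C] [HasExt.{w} C]

theorem subsingleton_ext_of_iso_left {X X' : C} (e : X ≅ X') (Y : C) (n : ℕ)
    (h : Subsingleton (Ext X' Y n)) : Subsingleton (Ext X Y n) := ⟨fun a b => by
  have ha : a = (Ext.mk₀ e.hom).comp ((Ext.mk₀ e.inv).comp a (zero_add n)) (zero_add n) := by
    rw [Ext.mk₀_comp_mk₀_assoc, e.hom_inv_id, Ext.mk₀_id_comp]
  have hb : b = (Ext.mk₀ e.hom).comp ((Ext.mk₀ e.inv).comp b (zero_add n)) (zero_add n) := by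
    rw [Ext.mk₀_comp_mk₀_assoc, e.hom_inv_id, Ext.mk₀_id_comp]
  rw [ha, hb, Subsingleton.elim ((Ext.mk₀ e.inv).comp a (zero_add n))
    ((Ext.mk₀ e.inv).comp b (zero_add n))]⟩

theorem subsingleton_ext_of_iso_right (X : C) {Y Y' : C} (e : Y ≅ Y') (n : ℕ)
    (h : Subsingleton (Ext X Y' n)) : Subsingleton (Ext X Y n) := ⟨fun a b => by
  have ha : a = (a.comp (Ext.mk₀ e.hom) (add_zero n)).comp (Ext.mk₀ e.inv) (add_zero n) := by
    rw [Ext.comp_assoc_of_third_deg_zero, Ext.mk₀_comp_mk₀, e.hom_inv_id, Ext.comp_mk₀_id]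
  have hb : b = (b.comp (Ext.mk₀ e.hom) (add_zero n)).comp (Ext.mk₀ e.inv) (add_zero n) := by
    rw [Ext.comp_assoc_of_third_deg_zero, Ext.mk₀_comp_mk₀, e.hom_inv_id, Ext.comp_mk₀_id]
  rw [ha, hb, Subsingleton.elim (a.comp (Ext.mk₀ e.hom) (add_zero n))
    (b.comp (Ext.mk₀ e.hom) (add_zero n))]⟩

theorem subsingleton_ext_coprod_right (X : C) {m : ℕ} (f : Fin m → C) (n : ℕ)
    (h : ∀ t, Subsingleton (Ext X (f t) n)) : Subsingleton (Ext X (∐ f) n) := by
  haveI : HasFiniteBiproducts C := Abelian.hasFiniteBiproducts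
  haveI : ∀ t, Subsingleton (Ext X (f t) n) := h
  apply subsingleton_ext_of_iso_right X (biproduct.isoCoproduct f).symm n
  exact (Ext.addEquivBiproduct X (biproduct.isBilimit f) n).toEquiv.subsingleton

theorem subsingleton_ext_coprod_left {m : ℕ} (f : Fin m → C) (Y : C) (n : ℕ)
    (h : ∀ t, Subsingleton (Ext (f t) Y n)) : Subsingleton (Ext (∐ f) Y n) := by
  haveI : HasFiniteBiproducts C := Abelian.hasFiniteBiproducts
  haveI : ∀ t, Subsingleton (Ext (f t) Y n) := h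
  apply subsingleton_ext_of_iso_left (biproduct.isoCoproduct f).symm Y n
  exact (Ext.biproductAddEquiv (biproduct.isBilimit f) Y n).toEquiv.subsingleton

theorem main (n d : ℕ) (E : Fin n → C)
    (hexc : ∀ i j : Fin n, j < i → ∀ p : ℕ, Subsingleton (Ext (E i) (E j) p))
    (hstr : ∀ (i j : Fin n) (p : ℕ), 1 ≤ p → Subsingleton (Ext (E i) (E j) p))
    (S : ShortComplex C) (hS : S.ShortExact)
    (m₁ : ℕ) (c₁ : Fin m₁ → Fin n) (hc₁ : ∀ t, (c₁ t : ℕ) < d) (e₁ : S.X₁ ≅ ∐ fun t => E (c₁ t))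
    (m₂ : ℕ) (c₂ : Fin m₂ → Fin n) (hc₂ : ∀ t, d ≤ (c₂ t : ℕ)) (e₂ : S.X₂ ≅ ∐ fun t => E (c₂ t)) :
    (∀ (i : Fin n) (p : ℕ), 1 ≤ p → Subsingleton (Ext (E i) S.X₃ p)) ∧
      (∀ i : Fin n, (i : ℕ) < d → ∀ p : ℕ, p ≠ 1 → Subsingleton (Ext S.X₃ (E i) p)) := by
  have hA : ∀ (i : Fin n) (p : ℕ), 1 ≤ p → Subsingleton (Ext (E i) S.X₁ p) := fun i p hp =>
    subsingleton_ext_of_iso_right _ e₁ p
      (subsingleton_ext_coprod_right _ _ p fun t => hstr i (c₁ t) p hp)
  have hB : ∀ (i : Fin n) (p : ℕ), 1 ≤ p → Subsingleton (Ext (E i) S.X₂ p) := fun i p hp =>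
    subsingleton_ext_of_iso_right _ e₂ p
      (subsingleton_ext_coprod_right _ _ p fun t => hstr i (c₂ t) p hp)
  have hC : ∀ (i : Fin n) (p : ℕ), (1 ≤ p ∨ (i : ℕ) < d) → Subsingleton (Ext S.X₂ (E i) p) := by
    intro i p hp
    apply subsingleton_ext_of_iso_left e₂ _ p
    apply subsingleton_ext_coprod_left
    intro t
    rcases hp with hp | hp
    · exact hstr (c₂ t) i p hp
    · exact hexc (c₂ t) i (by rw [Fin.lt_def]; have := hc₂ t; omega) p
  have hD : ∀ (i : Fin n) (p : ℕ), 1 ≤ p → Subsingleton (Ext S.X₁ (E i) p) := fun i p hp =>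
    subsingleton_ext_of_iso_left e₁ _ p
      (subsingleton_ext_coprod_left _ _ p fun t => hstr (c₁ t) i p hp)
  constructor
  · intro i p hp
    refine ⟨fun a b => ?_⟩
    suffices H : ∀ x : Ext (E i) S.X₃ p, x = 0 by rw [H a, H b]
    intro x
    haveI := hA i (p + 1) (by omega)
    haveI := hB i p hp
    obtain ⟨x₂, rfl⟩ := Ext.covariant_sequence_exact₃ (E i) hS x rfl (Subsingleton.elim _ _)
    rw [Subsingleton.elim x₂ 0, Ext.zero_comp]
  · intro i hi p hp
    refine ⟨fun a b => ?_⟩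
    suffices H : ∀ x : Ext S.X₃ (E i) p, x = 0 by rw [H a, H b]
    intro x
    rcases Nat.eq_zero_or_pos p with rfl | hpos
    · haveI := hC i 0 (Or.inr hi)
      haveI := hS.epi_g
      apply Ext.precomp_mk₀_injective_of_epi (E i) S.g
      exact Subsingleton.elim _ _
    · obtain ⟨q, rfl⟩ : ∃ q, p = q + 1 := ⟨p - 1, by omega⟩
      have hq : 1 ≤ q := by omega
      haveI := hC i (q + 1) (Or.inl (by omega))
      haveI := hD i q hq
      obtain ⟨x₁, rfl⟩ := Ext.contravariant_sequence_exact₃ hS (E i) x (Subsingleton.elim _ _)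
        (show 1 + q = q + 1 by omega)
      rw [Subsingleton.elim x₁ 0, Ext.comp_zero]

end Groth.Agent.Lib.Helper4.ExtExc1
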