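import Mathlib
import Groth.Prelude.Def_Pi1
import Groth.Prelude.Def_NonAbH2
import Groth.Agent.Lib.Helper4.TorsNormal1
import Groth.Agent.Lib.Helper4.Act1
import Groth.Agent.Lib.Helper4.TorsFC2

/-!
# Equivariant maps of torsors along a generically invertible homomorphism of finite group schemes over a normal base (helper4)
-/

set_option backward.isDefEq.respectTransparency.types false
set_option synthInstance.maxHeartbeats 400000
set_option autoImplicit false
set_option linter.unusedSectionVars false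
set_option linter.style.haveILetI false
set_option linter.unusedSimpArgs false
universe u v w
open CategoryTheory CategoryTheory.Limits AlgebraicGeometry TopologicalSpace Opposite
open MonoidalCategory CartesianMonoidalCategory MonObj GrpObj
open Groth.Agent.Helper4.Act

namespace Groth.Agent.Lib.Helper4.TorsNormal2

section Points
variable {S : Scheme.{u}} {G P : Over S} [GrpObj G] (a : AlgGrp.Action G P)

/-- simple transitivity on points of a pseudo-torsor -/
theorem existsUnique_of_pseudoTorsor (h : NonAbH1.IsPseudoTorsorSch a) {W : Over S}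
    (p q : W ⟶ P) : ∃! c : W ⟶ G, lift c p ≫ a.act = q := by
  haveI : IsIso (lift a.act (snd G P)) := h
  have hΦ : ∀ c : W ⟶ G, lift c p ≫ lift a.act (snd G P) = lift (lift c p ≫ a.act) p := by
    intro c
    rw [comp_lift, lift_snd]
  refine ⟨lift q p ≫ inv (lift a.act (snd G P)) ≫ fst G P, ?_, ?_⟩
  · have h1 : lift (lift q p ≫ inv (lift a.act (snd G P)) ≫ fst G P) p =
        lift q p ≫ inv (lift a.act (snd G P)) := by
      apply CartesianMonoidalCategory.hom_ext
      · rw [lift_fst, Category.assoc]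
      · rw [lift_snd, Category.assoc]
        have : inv (lift a.act (snd G P)) ≫ snd G P = snd P P := by
          rw [IsIso.inv_comp_eq, lift_snd]
        rw [this, lift_snd]
    change lift (lift q p ≫ inv (lift a.act (snd G P)) ≫ fst G P) p ≫ a.act = q
    rw [h1]
    have : inv (lift a.act (snd G P)) ≫ a.act = fst P P := by
      rw [IsIso.inv_comp_eq, lift_fst]
    rw [Category.assoc, this, lift_fst]
  · intro c hcc
    have h2 : lift c p = lift q p ≫ inv (lift a.act (snd G P)) := by
      rw [IsIso.eq_comp_inv, hΦ, hcc]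
    rw [← Category.assoc, ← h2, lift_fst]

end Points

section Equiv
variable {S : Scheme.{u}} {G G' P P' : Over S} [GrpObj G] [GrpObj G']
  (a : AlgGrp.Action G P) (a' : AlgGrp.Action G' P') (g : G ⟶ G') [IsMonHom g] (f : P ⟶ P')
  (hf : a.act ≫ f = lift (fst G P ≫ g) (snd G P ≫ f) ≫ a'.act)

include hf in
theorem equivariant_points {W : Over S} (c : W ⟶ G) (p : W ⟶ P) :
    (lift c p ≫ a.act) ≫ f = lift (c ≫ g) (p ≫ f) ≫ a'.act := by
  rw [Category.assoc, hf, ← Category.assoc, comp_lift, ← Category.assoc, lift_fst,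
    ← Category.assoc, lift_snd]

include hf in
/-- an equivariant map of pseudo-torsors is bijective on `W`-points as soon as the group
homomorphism is and the source has a `W`-point -/
theorem bijective_points (h : NonAbH1.IsPseudoTorsorSch a) (h' : NonAbH1.IsPseudoTorsorSch a')
    {W : Over S} (hg : Function.Bijective (fun c : W ⟶ G => c ≫ g)) (p₀ : W ⟶ P) :
    Function.Bijective (fun p : W ⟶ P => p ≫ f) := by
  constructor
  · intro p q hpq
    change p ≫ f = q ≫ f at hpq
    obtain ⟨c, hcq, -⟩ := existsUnique_of_pseudoTorsor a h p q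
    have h1 : lift (c ≫ g) (p ≫ f) ≫ a'.act = p ≫ f := by
      rw [← equivariant_points a a' g f hf, hcq, hpq]
    have h2 : lift (1 : W ⟶ G') (p ≫ f) ≫ a'.act = p ≫ f := one_smul' a'.act a'.one_act _
    have h3 : c ≫ g = 1 :=
      (existsUnique_of_pseudoTorsor a' h' (p ≫ f) (p ≫ f)).unique h1 h2
    have h4 : (1 : W ⟶ G) ≫ g = 1 := by
      rw [Hom.one_def, Hom.one_def, Category.assoc, IsMonHom.one_hom]
    have h5 : c = 1 := hg.1 (h3.trans h4.symm)
    rw [← hcq, h5]
    exact (one_smul' a.act a.one_act p).symm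
  · intro p'
    obtain ⟨c', hc', -⟩ := existsUnique_of_pseudoTorsor a' h' (p₀ ≫ f) p'
    obtain ⟨c, hcc⟩ := hg.2 c'
    change c ≫ g = c' at hcc
    refine ⟨lift c p₀ ≫ a.act, ?_⟩
    change (lift c p₀ ≫ a.act) ≫ f = p'
    rw [equivariant_points a a' g f hf, hcc, hc']

end Equiv

section Main

theorem bijective_comp_of_isIso_pullback {X T : Scheme.{u}} (j : T ⟶ X) {G G' : Over X}
    (g : G ⟶ G') (hg : IsIso ((Over.pullback j).map g)) (W₀ : Over T) :
    Function.Bijective (fun c : (Over.map j).obj W₀ ⟶ G => c ≫ g) := by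
  let adj := Over.mapPullbackAdj j
  have hnat : ∀ c : (Over.map j).obj W₀ ⟶ G,
      adj.homEquiv W₀ G' (c ≫ g) = adj.homEquiv W₀ G c ≫ (Over.pullback j).map g :=
    fun c => adj.homEquiv_naturality_right c g
  constructor
  · intro c₁ c₂ h
    change c₁ ≫ g = c₂ ≫ g at h
    apply (adj.homEquiv W₀ G).injective
    rw [← cancel_mono ((Over.pullback j).map g), ← hnat, ← hnat, h]
  · intro c'
    refine ⟨(adj.homEquiv W₀ G).symm (adj.homEquiv W₀ G' c' ≫ inv ((Over.pullback j).map g)), ?_⟩
    change _ ≫ g = c'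
    apply (adj.homEquiv W₀ G').injective
    rw [hnat, Equiv.apply_symm_apply, Category.assoc, IsIso.inv_hom_id, Category.comp_id]

theorem main {X : Scheme.{u}} [IsIntegral X]
    (hX : Pi1.IsNormalScheme X) (G G' : Over X) [GrpObj G] [GrpObj G']
    [IsFinite G.hom] (g : G ⟶ G') [IsMonHom g]
    (hg : IsIso ((Over.pullback (X.fromSpecStalk (genericPoint X))).map g))
    (P : Over X) (a : AlgGrp.Action G P) (hP : NonAbH1.IsTorsorFor Scheme.fppfPrecoverage a)
    (P' : Over X) (a' : AlgGrp.Action G' P') (hP' : NonAbH1.IsTorsorFor Scheme.fppfPrecoverage a')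
    (hpush : NonAbH1.IsPushforwardAlongSch g a a') (htriv : NonAbH1.HasSectionOver P' (𝟙 X)) :
    NonAbH1.HasSectionOver P (𝟙 X) := by
  apply Groth.Agent.Lib.Helper4.TorsNormal1.main hX G P a hP
  obtain ⟨f, hf⟩ := hpush
  obtain ⟨σ', hσ'⟩ := htriv
  obtain ⟨hps, R, hR, hsec⟩ := hP
  obtain ⟨U₀, c₀, hRc, hprop, ⟨u0, hu0⟩⟩ :=
    Groth.Agent.Lib.Helper4.TorsFC2.exists_member_of_mem_precoverage _ hR (genericPoint X)
  obtain ⟨s₀, hs₀⟩ := hsec c₀ hRc
  haveI : Flat c₀ := hprop.1
  haveI : LocallyOfFinitePresentation c₀ := hprop.2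
  obtain ⟨j, hj⟩ : ∃ j, j = X.fromSpecStalk (genericPoint X) := ⟨_, rfl⟩
  rw [← hj] at hg ⊢
  obtain ⟨u, hu⟩ : ∃ u, u = pullback.snd c₀ j := ⟨_, rfl⟩
  have hcond : pullback.fst c₀ j ≫ c₀ = u ≫ j := by rw [hu]; exact pullback.condition
  haveI : Flat u := by rw [hu]; infer_instance
  haveI : LocallyOfFinitePresentation u := by rw [hu]; infer_instance
  haveI : Surjective u := by
    constructor
    intro t
    have hjt : j.base t = genericPoint X := by
      have h1 : j.base t ⤳ genericPoint X := by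
        have : j.base t ∈ Set.range j.base := ⟨t, rfl⟩
        rw [hj, Scheme.range_fromSpecStalk] at this
        rw [hj]
        exact this
      have h2 : genericPoint X ⤳ j.base t := (genericPoint_spec X).specializes (Set.mem_univ _)
      exact (h1.antisymm h2).eq
    obtain ⟨y, -, hy⟩ := Scheme.Pullback.exists_preimage_pullback (f := c₀) (g := j) u0 t
      (hu0.trans hjt.symm)
    exact ⟨y, by rw [hu]; exact hy⟩
  -- points over `U`
  let p₀ : (Over.map j).obj (Over.mk u) ⟶ P := Over.homMk (pullback.fst c₀ j ≫ s₀) (by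
    change (pullback.fst c₀ j ≫ s₀) ≫ P.hom = u ≫ j
    rw [Category.assoc, hs₀, hcond])
  have hbijU := bijective_points a a' g f hf hps hP'.1
    (bijective_comp_of_isIso_pullback j g hg (Over.mk u)) p₀
  let p'U : (Over.map j).obj (Over.mk u) ⟶ P' := Over.homMk (u ≫ j ≫ σ') (by
    change (u ≫ j ≫ σ') ≫ P'.hom = u ≫ j
    rw [Category.assoc, Category.assoc, hσ', Category.comp_id])
  obtain ⟨pU, hpU⟩ := hbijU.2 p'U
  change pU ≫ f = p'U at hpU
  have hpUw : pU.left ≫ P.hom = u ≫ j := Over.w pU
  have hpUf : pU.left ≫ f.left = u ≫ j ≫ σ' := congrArg CommaMorphism.left hpU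
  -- points over `U ×_T U`
  let q₁ : (Over.map j).obj (Over.mk (pullback.fst u u ≫ u)) ⟶ P :=
    Over.homMk (pullback.fst u u ≫ pU.left) (by
      change (pullback.fst u u ≫ pU.left) ≫ P.hom = (pullback.fst u u ≫ u) ≫ j
      rw [Category.assoc, hpUw, Category.assoc])
  let q₂ : (Over.map j).obj (Over.mk (pullback.fst u u ≫ u)) ⟶ P :=
    Over.homMk (pullback.snd u u ≫ pU.left) (by
      change (pullback.snd u u ≫ pU.left) ≫ P.hom = (pullback.fst u u ≫ u) ≫ j
      rw [Category.assoc, hpUw, ← Category.assoc, ← pullback.condition])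
  have hinj := (bijective_points a a' g f hf hps hP'.1
    (bijective_comp_of_isIso_pullback j g hg (Over.mk (pullback.fst u u ≫ u))) q₁).1
  have hq : q₁ = q₂ := by
    apply hinj
    change q₁ ≫ f = q₂ ≫ f
    apply Over.OverMorphism.ext
    change (pullback.fst u u ≫ pU.left) ≫ f.left = (pullback.snd u u ≫ pU.left) ≫ f.left
    rw [Category.assoc, Category.assoc, hpUf, ← Category.assoc, ← Category.assoc,
      pullback.condition]
    simp only [Category.assoc]
  have hq' : pullback.fst u u ≫ pU.left = pullback.snd u u ≫ pU.left :=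
    congrArg CommaMorphism.left hq
  -- descent along the effective epimorphism `u`
  haveI : EffectiveEpi u := inferInstance
  have hdesc : ∀ {Z : Scheme.{u}} (g₁ g₂ : Z ⟶ pullback c₀ j), g₁ ≫ u = g₂ ≫ u →
      g₁ ≫ pU.left = g₂ ≫ pU.left := by
    intro Z g₁ g₂ h12
    have e1 : pullback.lift g₁ g₂ h12 ≫ pullback.fst u u = g₁ := pullback.lift_fst _ _ _
    have e2 : pullback.lift g₁ g₂ h12 ≫ pullback.snd u u = g₂ := pullback.lift_snd _ _ _
    calc g₁ ≫ pU.left = (pullback.lift g₁ g₂ h12 ≫ pullback.fst u u) ≫ pU.left :=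
          congrArg (· ≫ pU.left) e1.symm
      _ = (pullback.lift g₁ g₂ h12 ≫ pullback.snd u u) ≫ pU.left := by
          rw [Category.assoc, Category.assoc, hq']
      _ = g₂ ≫ pU.left := congrArg (· ≫ pU.left) e2
  refine ⟨EffectiveEpi.desc u pU.left hdesc, ?_⟩
  rw [← cancel_epi u, ← Category.assoc, EffectiveEpi.fac, hpUw]

end Main

end Groth.Agent.Lib.Helper4.TorsNormal2
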