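import Mathlib
import Groth.Prelude.Def_Red2
import Groth.Prelude.Def_NonAbH2
import Groth.Agent.Lib.Helper6.GaGm.GaGrp
import Groth.Agent.Lib.Helper4.TorsNormal2
import Groth.Agent.Lib.Helper4.Act1
import Groth.Agent.S12421
import Groth.Agent.S6003
import Groth.Agent.S6004

/-!
# fpqc torsors under the additive group are Zariski locally trivial (S6006) (helper4)
-/

set_option backward.isDefEq.respectTransparency.types false
set_option synthInstance.maxHeartbeats 400000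
set_option autoImplicit false
set_option linter.unusedSectionVars false
set_option linter.style.haveILetI false
set_option linter.unusedSimpArgs false
universe u v w
open CategoryTheory CategoryTheory.Limits AlgebraicGeometry TopologicalSpace Opposite
open MonoidalCategory CartesianMonoidalCategory MonObj GrpObj
open Groth.Agent.Lib.Helper6.GaGm
open scoped TensorProduct

namespace Groth.Agent.Lib.Helper4.GaTorsZar1

noncomputable section

/-! ## Part A: Amitsur in degree one, concrete form -/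

section Amitsur

variable (A B : Type u) [CommRing A] [CommRing B] [Algebra A B] [Module.FaithfullyFlat A B]

open Algebra.TensorProduct in
theorem amitsur_one (d : B ⊗[A] B)
    (hd : (Algebra.TensorProduct.map (AlgHom.id A B)
        (includeRight : B →ₐ[A] B ⊗[A] B)) d =
      (includeRight : B ⊗[A] B →ₐ[A] B ⊗[A] (B ⊗[A] B)) d +
      (Algebra.TensorProduct.map (AlgHom.id A B) (includeLeft : B →ₐ[A] B ⊗[A] B)) d) :
    ∃ b : B, (1 : B) ⊗ₜ[A] b - b ⊗ₜ[A] (1 : B) = d := by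
  have hex := Groth.Agent.S12421.result A B A
  have hz : (LinearMap.lTensor A
          (includeRight : B ⊗[A] B →ₐ[A] B ⊗[A] (B ⊗[A] B)).toLinearMap -
        LinearMap.lTensor A
          (Algebra.TensorProduct.map (AlgHom.id A B)
            (includeRight : B →ₐ[A] B ⊗[A] B)).toLinearMap +
        LinearMap.lTensor A
          (Algebra.TensorProduct.map (AlgHom.id A B)
            (includeLeft : B →ₐ[A] B ⊗[A] B)).toLinearMap) ((1 : A) ⊗ₜ[A] d) = 0 := by
    simp only [LinearMap.add_apply, LinearMap.sub_apply, LinearMap.lTensor_tmul,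
      AlgHom.toLinearMap_apply]
    rw [hd, ← TensorProduct.tmul_sub, ← TensorProduct.tmul_add]
    have : (includeRight : B ⊗[A] B →ₐ[A] B ⊗[A] (B ⊗[A] B)) d -
        ((includeRight : B ⊗[A] B →ₐ[A] B ⊗[A] (B ⊗[A] B)) d +
          (Algebra.TensorProduct.map (AlgHom.id A B) (includeLeft : B →ₐ[A] B ⊗[A] B)) d) +
        (Algebra.TensorProduct.map (AlgHom.id A B) (includeLeft : B →ₐ[A] B ⊗[A] B)) d = 0 := by
      abel
    rw [this, TensorProduct.tmul_zero]
  obtain ⟨y, hy⟩ := (hex _).1 hz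
  refine ⟨TensorProduct.lid A B y, ?_⟩
  have hy1 : y = (1 : A) ⊗ₜ[A] (TensorProduct.lid A B y) := by
    rw [← TensorProduct.lid_symm_apply, LinearEquiv.symm_apply_apply]
  rw [hy1] at hy
  simp only [LinearMap.sub_apply, LinearMap.lTensor_tmul, AlgHom.toLinearMap_apply,
    includeRight_apply, includeLeft_apply] at hy
  rw [← TensorProduct.tmul_sub] at hy
  have h2 := congrArg (TensorProduct.lid A (B ⊗[A] B)) hy
  rw [TensorProduct.lid_tmul, TensorProduct.lid_tmul, one_smul, one_smul] at h2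
  exact h2

end Amitsur



/-! ## Part B: affine test objects over `S` -/

section Ov

variable {S : Scheme.{u}} (A : Type u) [CommRing A] (jA : Spec (CommRingCat.of A) ⟶ S)

/-- `Spec R` over `S` for an `A`-algebra `R`. -/
abbrev ov (R : Type u) [CommRing R] [Algebra A R] : Over S :=
  Over.mk (Spec.map (CommRingCat.ofHom (algebraMap A R)) ≫ jA)

variable {A} {R R' R'' : Type u} [CommRing R] [CommRing R'] [CommRing R''] [Algebra A R]
  [Algebra A R'] [Algebra A R'']

/-- the morphism induced by an algebra map -/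
def ovMap (f : R →ₐ[A] R') : ov A jA R' ⟶ ov A jA R :=
  Over.homMk (Spec.map (CommRingCat.ofHom f.toRingHom)) (by
    change Spec.map (CommRingCat.ofHom f.toRingHom) ≫
      Spec.map (CommRingCat.ofHom (algebraMap A R)) ≫ jA =
      Spec.map (CommRingCat.ofHom (algebraMap A R')) ≫ jA
    rw [← Category.assoc, ← Spec.map_comp, ← CommRingCat.ofHom_comp]
    congr 3
    ext x
    exact f.commutes x)

lemma ovMap_left (f : R →ₐ[A] R') :
    (ovMap jA f).left = Spec.map (CommRingCat.ofHom f.toRingHom) := rfl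

lemma ovMap_comp (f : R →ₐ[A] R') (g : R' →ₐ[A] R'') :
    ovMap jA (g.comp f) = ovMap jA g ≫ ovMap jA f := by
  apply Over.OverMorphism.ext
  rw [Over.comp_left, ovMap_left, ovMap_left, ovMap_left]
  exact (Spec.map_comp (CommRingCat.ofHom f.toRingHom) (CommRingCat.ofHom g.toRingHom))

/-- the function of a point of `𝔾_a` with values in an affine test object, as a ring element -/
def fn (x : ov A jA R ⟶ Red.Ga S) : R :=
  (Scheme.ΓSpecIso (CommRingCat.of R)).hom.hom (Red.gaFn x)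

lemma fn_mul (x y : ov A jA R ⟶ Red.Ga S) : fn jA (x * y) = fn jA x + fn jA y := by
  unfold fn
  rw [gaFn_mul]
  exact map_add (Scheme.ΓSpecIso (CommRingCat.of R)).hom.hom _ _

lemma fn_inv (x : ov A jA R ⟶ Red.Ga S) : fn jA x⁻¹ = - fn jA x := by
  unfold fn
  rw [gaFn_inv]
  exact map_neg (Scheme.ΓSpecIso (CommRingCat.of R)).hom.hom _

lemma fn_injective : Function.Injective (fn jA (R := R)) := by
  intro x y h
  apply gaFn_injective
  exact (ConcreteCategory.bijective_of_isIso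
    (Scheme.ΓSpecIso (CommRingCat.of R)).hom).1 h

lemma exists_fn_eq (r : R) : ∃ x : ov A jA R ⟶ Red.Ga S, fn jA x = r := by
  obtain ⟨x, hx⟩ := exists_gaFn_eq (S := S) (T := ov A jA R)
    ((Scheme.ΓSpecIso (CommRingCat.of R)).inv.hom r)
  refine ⟨x, ?_⟩
  unfold fn
  rw [hx]
  exact congrArg (fun ψ => ψ.hom r) (Scheme.ΓSpecIso (CommRingCat.of R)).inv_hom_id

lemma fn_map (f : R →ₐ[A] R') (x : ov A jA R ⟶ Red.Ga S) :
    fn jA (ovMap jA f ≫ x) = f (fn jA x) := by
  unfold fn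
  rw [gaFn_comp, ovMap_left]
  have h := Scheme.ΓSpecIso_naturality (CommRingCat.ofHom f.toRingHom)
  have h2 := congrArg (fun ψ => ψ.hom (Red.gaFn x)) h
  simp only [CommRingCat.hom_comp, RingHom.comp_apply] at h2
  exact h2

end Ov



/-! ## Part C: the descent argument -/

section AL

open Algebra.TensorProduct
open Groth.Agent.Helper4.Act
open Groth.Agent.Lib.Helper4.TorsNormal2

variable {S : Scheme.{u}} {X : Over S} (a : AlgGrp.Action (Red.Ga S) X)
  (hps : NonAbH1.IsPseudoTorsorSch a)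
variable (A B : Type u) [CommRing A] [CommRing B] [Algebra A B] [Module.FaithfullyFlat A B]
variable (jA : Spec (CommRingCat.of A) ⟶ S) (w : Spec (CommRingCat.of B) ⟶ X.left)
  (hw : w ≫ X.hom = Spec.map (CommRingCat.ofHom (algebraMap A B)) ≫ jA)

lemma comp_lift_act {T T' : Over S} (q : T' ⟶ T) (c : T ⟶ Red.Ga S) (x : T ⟶ X) :
    q ≫ lift c x ≫ a.act = lift (q ≫ c) (q ≫ x) ≫ a.act := by
  rw [← Category.assoc, comp_lift]

include hps hw in
theorem exists_section : ∃ s : Spec (CommRingCat.of A) ⟶ X.left, s ≫ X.hom = jA := by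
  -- the tautological point
  obtain ⟨wB, hwB⟩ : ∃ wB : ov A jA B ⟶ X, wB.left = w := ⟨Over.homMk w hw, rfl⟩
  -- the two projections
  obtain ⟨i₁, hi₁⟩ : ∃ i₁ : ov A jA (B ⊗[A] B) ⟶ ov A jA B,
      i₁ = ovMap jA (includeLeft : B →ₐ[A] B ⊗[A] B) := ⟨_, rfl⟩
  obtain ⟨i₂, hi₂⟩ : ∃ i₂ : ov A jA (B ⊗[A] B) ⟶ ov A jA B,
      i₂ = ovMap jA (includeRight : B →ₐ[A] B ⊗[A] B) := ⟨_, rfl⟩
  -- the difference cocycle
  obtain ⟨dl, hdl, -⟩ := existsUnique_of_pseudoTorsor a hps (i₁ ≫ wB) (i₂ ≫ wB)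
  -- the three projections from the triple product
  obtain ⟨q₁₂, hq₁₂⟩ : ∃ q : ov A jA (B ⊗[A] (B ⊗[A] B)) ⟶ ov A jA (B ⊗[A] B),
      q = ovMap jA (Algebra.TensorProduct.map (AlgHom.id A B)
        (includeLeft : B →ₐ[A] B ⊗[A] B)) := ⟨_, rfl⟩
  obtain ⟨q₁₃, hq₁₃⟩ : ∃ q : ov A jA (B ⊗[A] (B ⊗[A] B)) ⟶ ov A jA (B ⊗[A] B),
      q = ovMap jA (Algebra.TensorProduct.map (AlgHom.id A B)
        (includeRight : B →ₐ[A] B ⊗[A] B)) := ⟨_, rfl⟩
  obtain ⟨q₂₃, hq₂₃⟩ : ∃ q : ov A jA (B ⊗[A] (B ⊗[A] B)) ⟶ ov A jA (B ⊗[A] B),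
      q = ovMap jA (includeRight : B ⊗[A] B →ₐ[A] B ⊗[A] (B ⊗[A] B)) := ⟨_, rfl⟩
  have r₁ : q₁₂ ≫ i₁ = q₁₃ ≫ i₁ := by
    rw [hq₁₂, hq₁₃, hi₁, ← ovMap_comp, ← ovMap_comp]
    congr 1
  have r₂ : q₁₂ ≫ i₂ = q₂₃ ≫ i₁ := by
    rw [hq₁₂, hq₂₃, hi₁, hi₂, ← ovMap_comp, ← ovMap_comp]
    congr 1
  have r₃ : q₁₃ ≫ i₂ = q₂₃ ≫ i₂ := by
    rw [hq₁₃, hq₂₃, hi₂, ← ovMap_comp, ← ovMap_comp]
    congr 1
  -- the cocycle condition
  have e₁₂ : lift (q₁₂ ≫ dl) (q₁₂ ≫ i₁ ≫ wB) ≫ a.act = q₁₂ ≫ i₂ ≫ wB := by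
    rw [← comp_lift_act, hdl]
  have e₂₃ : lift (q₂₃ ≫ dl) (q₂₃ ≫ i₁ ≫ wB) ≫ a.act = q₂₃ ≫ i₂ ≫ wB := by
    rw [← comp_lift_act, hdl]
  have e₁₃ : lift (q₁₃ ≫ dl) (q₁₃ ≫ i₁ ≫ wB) ≫ a.act = q₁₃ ≫ i₂ ≫ wB := by
    rw [← comp_lift_act, hdl]
  have hcoc : q₁₃ ≫ dl = (q₂₃ ≫ dl) * (q₁₂ ≫ dl) := by
    apply (existsUnique_of_pseudoTorsor a hps (q₁₃ ≫ i₁ ≫ wB) (q₁₃ ≫ i₂ ≫ wB)).unique e₁₃
    rw [mul_smul' a.act a.mul_act, ← Category.assoc q₁₃, ← r₁, Category.assoc, e₁₂,
      ← Category.assoc q₁₂, r₂, Category.assoc, e₂₃, ← Category.assoc q₁₃, r₃, Category.assoc]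
  have hcoc' := congrArg (fn jA) hcoc
  rw [fn_mul, hq₁₃, hq₂₃, hq₁₂, fn_map, fn_map, fn_map] at hcoc'
  obtain ⟨b, hb⟩ := amitsur_one A B (fn jA dl) hcoc'
  obtain ⟨be, hbe⟩ := exists_fn_eq jA (R := B) b
  -- the difference cocycle is a coboundary
  have hdl2 : dl = (i₂ ≫ be) * (i₁ ≫ be)⁻¹ := by
    apply fn_injective jA
    rw [fn_mul, fn_inv, hi₁, hi₂, fn_map, fn_map, hbe, ← hb, includeRight_apply,
      includeLeft_apply, sub_eq_add_neg]
  -- the corrected point
  obtain ⟨sg, hsg⟩ : ∃ sg : ov A jA B ⟶ X, sg = lift be⁻¹ wB ≫ a.act := ⟨_, rfl⟩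
  have hsg12 : i₁ ≫ sg = i₂ ≫ sg := by
    rw [hsg, comp_lift_act, comp_lift_act, ← hdl, ← mul_smul' a.act a.mul_act, hdl2]
    congr 2
    rw [GrpObj.comp_inv, GrpObj.comp_inv, ← _root_.mul_assoc, inv_mul_cancel, _root_.one_mul]
  -- descent
  obtain ⟨hfl, hsurj⟩ := (flat_and_surjective_SpecMap_iff
    (CommRingCat.ofHom (algebraMap A B))).2 (by
      rw [CommRingCat.hom_ofHom]
      exact (RingHom.faithfullyFlat_algebraMap_iff).2 inferInstance)
  haveI := hfl
  haveI := hsurj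
  have hdesc : ∀ {Z : Scheme.{u}} (g₁ g₂ : Z ⟶ Spec (CommRingCat.of B)),
      g₁ ≫ Spec.map (CommRingCat.ofHom (algebraMap A B)) =
        g₂ ≫ Spec.map (CommRingCat.ofHom (algebraMap A B)) →
      g₁ ≫ sg.left = g₂ ≫ sg.left := by
    intro Z g₁ g₂ hg
    obtain ⟨m, hm⟩ : ∃ m : Z ⟶ Spec (CommRingCat.of (B ⊗[A] B)),
        m = pullback.lift g₁ g₂ hg ≫ (pullbackSpecIso A B B).hom := ⟨_, rfl⟩
    have hm1 : m ≫ i₁.left = g₁ := by
      rw [hm, hi₁, ovMap_left, Category.assoc]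
      have := pullbackSpecIso_hom_fst A B B
      rw [show (CommRingCat.ofHom (includeLeft : B →ₐ[A] B ⊗[A] B).toRingHom) =
        CommRingCat.ofHom includeLeftRingHom from rfl, this, pullback.lift_fst]
    have hm2 : m ≫ i₂.left = g₂ := by
      rw [hm, hi₂, ovMap_left, Category.assoc]
      have := pullbackSpecIso_hom_snd A B B
      rw [show (CommRingCat.ofHom (includeRight : B →ₐ[A] B ⊗[A] B).toRingHom) =
        CommRingCat.ofHom (RingHomClass.toRingHom
          (includeRight : B →ₐ[A] B ⊗[A] B)) from rfl, this, pullback.lift_snd]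
    have h12 := congrArg (fun q => m ≫ q.left) hsg12
    simp only [Over.comp_left] at h12
    rw [← Category.assoc, ← Category.assoc, hm1, hm2] at h12
    exact h12
  refine ⟨EffectiveEpi.desc (Spec.map (CommRingCat.ofHom (algebraMap A B))) sg.left hdesc, ?_⟩
  rw [← cancel_epi (Spec.map (CommRingCat.ofHom (algebraMap A B))), ← Category.assoc,
    EffectiveEpi.fac]
  exact Over.w sg

end AL



/-! ## Part D: the additive group is affine and flat; the main theorem -/

section Concrete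

variable {S : Scheme.{u}}

instance flat_fGa : Flat (fGa.{u}) := by
  have h0 : Module.Free (ULift.{u} ℤ) (ULift.{u} ℤ) := Module.Free.self _
  have h1 : Module.Free (ULift.{u} ℤ) Sym.{u} := @SymmetricAlgebra.instModuleFree _ _ _ _ _ h0
  have h : Module.Flat (ULift.{u} ℤ) Sym.{u} := Module.Flat.of_free
  have h2 : (algebraMap (ULift.{u} ℤ) Sym.{u}).Flat := RingHom.flat_algebraMap_iff.2 h
  exact (HasRingHomProperty.Spec_iff (P := @Flat)).2 h2

instance isAffineHom_Ga : IsAffineHom (Red.Ga S).hom := by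
  change IsAffineHom (pullback.snd fGa (GmPts.toBaseZ S))
  exact MorphismProperty.pullback_snd _ _ inferInstance

instance flat_Ga : Flat (Red.Ga S).hom := by
  change Flat (pullback.snd fGa (GmPts.toBaseZ S))
  exact MorphismProperty.pullback_snd _ _ inferInstance

instance quasiCompact_Ga : QuasiCompact (Red.Ga S).hom := by
  infer_instance

theorem section_of_affine (X : Over S) (a : AlgGrp.Action (Red.Ga S) X)
    (hps : NonAbH1.IsPseudoTorsorSch a) [IsAffineHom X.hom] [Flat X.hom] [Surjective X.hom]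
    (R : CommRingCat.{u}) (jA : Spec R ⟶ S) : ∃ s : Spec R ⟶ X.left, s ≫ X.hom = jA := by
  haveI : IsAffine (pullback X.hom jA) := isAffine_of_isAffineHom (pullback.snd X.hom jA)
  obtain ⟨φ, hφdef⟩ : ∃ φ : R ⟶ Γ(pullback X.hom jA, ⊤),
      φ = (Scheme.ΓSpecIso R).inv ≫ (pullback.snd X.hom jA).appTop := ⟨_, rfl⟩
  have hφ : (pullback X.hom jA).isoSpec.inv ≫ pullback.snd X.hom jA = Spec.map φ := by
    rw [← Scheme.isoSpec_inv_naturality, Scheme.isoSpec_Spec_inv, ← Spec.map_comp, hφdef]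
  have hff : φ.hom.FaithfullyFlat := by
    rw [← flat_and_surjective_SpecMap_iff, ← hφ]
    exact ⟨inferInstance, inferInstance⟩
  algebraize [φ.hom]
  have hw : ((pullback X.hom jA).isoSpec.inv ≫ pullback.fst X.hom jA) ≫ X.hom =
      Spec.map (CommRingCat.ofHom (algebraMap R Γ(pullback X.hom jA, ⊤))) ≫ jA := by
    rw [Category.assoc, pullback.condition, ← Category.assoc, hφ]
    rfl
  exact exists_section a hps R Γ(pullback X.hom jA, ⊤) jA
    ((pullback X.hom jA).isoSpec.inv ≫ pullback.fst X.hom jA) hw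

theorem main (X : Over S) (a : AlgGrp.Action (Red.Ga S) X)
    (h : NonAbH1.IsTorsorFor Scheme.fpqcPrecoverage a) :
    NonAbH1.IsTorsorFor Scheme.zariskiPrecoverage a := by
  obtain ⟨hps, hsurj, hflat, hqc⟩ := (Groth.Agent.S6003.result (Red.Ga S) X a).1 h
  obtain ⟨haff, -⟩ := Groth.Agent.S6004.result (Red.Ga S) X a h
  refine ⟨hps, S.affineCover.presieve₀, S.affineCover.mem₀, ?_⟩
  rintro S' f ⟨i⟩
  exact section_of_affine X a hps _ _

end Concrete

end

end Groth.Agent.Lib.Helper4.GaTorsZar1
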