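import Mathlib
import Groth.Prelude.Def_AlgGrp
import Groth.Prelude.Def_Red2
import Groth.Prelude.Def_NonAbH2
import Groth.Agent.Lib.Helper4.QuotExt1
import Groth.Agent.Lib.Helper6.GaGm.GaGrp
import Groth.Agent.Lib.Helper4.GaTorsZar1

/-!
# an extension of a group scheme by the additive group is a torsor under the additive group over the quotient; sections over affines; unirationality of extensions by the additive group (helper4)
-/

set_option backward.isDefEq.respectTransparency.types false
set_option synthInstance.maxHeartbeats 400000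
set_option autoImplicit false
set_option linter.unusedSectionVars false
set_option linter.style.haveILetI false
set_option linter.unusedSimpArgs false
universe u v w
open CategoryTheory
open CategoryTheory.Limits
open MonoidalCategory
open CartesianMonoidalCategory
open MonObj
open AlgebraicGeometry
open Groth.Agent.Lib.Helper4.NormQuotSch1
open Groth.Agent.Lib.Helper4.QuotExt1
open Groth.Agent.Lib.Helper6.GaGm

namespace Groth.Agent.Lib.Helper4.ExtGaTors1

noncomputable section

section ext

variable {S : Scheme.{u}} {G G'' : Over S} [GrpObj G] [GrpObj G''] (q : G ⟶ G'') [IsMonHom q]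
  (i : Red.Ga S ⟶ G) [IsMonHom i]

/-- `G` as a scheme over `G''` -/
abbrev XX : Over G''.left := Over.mk q.left

/-- restriction of the base from `G''` to `S` -/
abbrev dn (G'' : Over S) (T : Over G''.left) : Over S := Over.mk (T.hom ≫ G''.hom)

def dnMap {T T' : Over G''.left} (f : T' ⟶ T) : dn G'' T' ⟶ dn G'' T :=
  Over.homMk f.left (by
    change f.left ≫ T.hom ≫ G''.hom = T'.hom ≫ G''.hom
    rw [← Category.assoc, Over.w f])

/-- the structure point -/
def tau (T : Over G''.left) : dn G'' T ⟶ G'' := Over.homMk T.hom rfl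

/-- a point of `G` over `G''` as a point of `G` over `S` -/
def fl {T : Over G''.left} (x : T ⟶ XX q) : dn G'' T ⟶ G :=
  Over.homMk x.left (by
    have h1 : x.left ≫ q.left = T.hom := Over.w x
    change x.left ≫ G.hom = T.hom ≫ G''.hom
    rw [← Over.w q, ← Category.assoc, h1])

lemma fl_left {T : Over G''.left} (x : T ⟶ XX q) : (fl q x).left = x.left := rfl

lemma fl_injective {T : Over G''.left} {x y : T ⟶ XX q} (h : fl q x = fl q y) : x = y := by
  apply Over.OverMorphism.ext
  exact congrArg (fun m => m.left) h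

lemma fl_comp {T T' : Over G''.left} (f : T' ⟶ T) (x : T ⟶ XX q) :
    fl q (f ≫ x) = dnMap f ≫ fl q x := by
  apply Over.OverMorphism.ext
  rfl

lemma fl_comp_q {T : Over G''.left} (x : T ⟶ XX q) : fl q x ≫ q = tau T := by
  apply Over.OverMorphism.ext
  exact Over.w x

/-- the function of a point of `Ga` over `G''` -/
def fnB {T : Over G''.left} (c : T ⟶ Red.Ga G''.left) : Γ(T.left, ⊤) :=
  fnOfPt (S := G''.left) (T := T) c

/-- the function of a point of `Ga` over `S` -/
def fnS {T : Over G''.left} (n : dn G'' T ⟶ Red.Ga S) : Γ(T.left, ⊤) :=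
  fnOfPt (S := S) (T := dn G'' T) n

lemma fnB_injective {T : Over G''.left} {c c' : T ⟶ Red.Ga G''.left} (h : fnB c = fnB c') :
    c = c' := fnOfPt_injective h

lemma fnS_injective {T : Over G''.left} {n n' : dn G'' T ⟶ Red.Ga S} (h : fnS n = fnS n') :
    n = n' := fnOfPt_injective h

/-- a point of `Ga` over `G''` as a point of `Ga` over `S` -/
def gfl {T : Over G''.left} (c : T ⟶ Red.Ga G''.left) : dn G'' T ⟶ Red.Ga S :=
  ptOfFn (S := S) (T := dn G'' T) (fnB c)

lemma fnS_gfl {T : Over G''.left} (c : T ⟶ Red.Ga G''.left) : fnS (gfl c) = fnB c :=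
  fnOfPt_ptOfFn (S := S) (T := dn G'' T) _

lemma gfl_injective {T : Over G''.left} {c c' : T ⟶ Red.Ga G''.left} (h : gfl c = gfl c') :
    c = c' := by
  apply fnB_injective
  rw [← fnS_gfl c, ← fnS_gfl c', h]

lemma fnB_comp {T T' : Over G''.left} (f : T' ⟶ T) (c : T ⟶ Red.Ga G''.left) :
    fnB (f ≫ c) = f.left.appTop.hom (fnB c) := fnOfPt_comp f c

lemma fnS_comp {T T' : Over G''.left} (f : T' ⟶ T) (n : dn G'' T ⟶ Red.Ga S) :
    fnS (dnMap f ≫ n) = f.left.appTop.hom (fnS n) :=
  fnOfPt_comp (S := S) (dnMap f) n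

lemma gfl_comp {T T' : Over G''.left} (f : T' ⟶ T) (c : T ⟶ Red.Ga G''.left) :
    gfl (f ≫ c) = dnMap f ≫ gfl c := by
  apply fnS_injective
  rw [fnS_gfl, fnB_comp, fnS_comp, fnS_gfl]

lemma gfl_mul {T : Over G''.left} (c c' : T ⟶ Red.Ga G''.left) :
    gfl (c * c') = gfl c * gfl c' := by
  apply fnS_injective
  rw [fnS_gfl]
  unfold fnS fnB
  rw [fnOfPt_mul, fnOfPt_mul]
  congr 1
  · exact (fnS_gfl c).symm
  · exact (fnS_gfl c').symm

lemma gfl_one {T : Over G''.left} : gfl (1 : T ⟶ Red.Ga G''.left) = 1 := by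
  apply fnS_injective
  rw [fnS_gfl]
  unfold fnS fnB
  rw [fnOfPt_one, fnOfPt_one]

/-- lift a point of `Ga` over `S` with source `dn T` to a point over `G''` -/
def gup {T : Over G''.left} (n : dn G'' T ⟶ Red.Ga S) : T ⟶ Red.Ga G''.left :=
  ptOfFn (S := G''.left) (T := T) (fnS n)

lemma gfl_gup {T : Over G''.left} (n : dn G'' T ⟶ Red.Ga S) : gfl (gup n) = n := by
  apply fnS_injective
  rw [fnS_gfl]
  exact fnOfPt_ptOfFn (S := G''.left) (T := T) _

variable (hker : AlgGrp.IsKernel i q)

include hker in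
lemma act_aux {T : Over G''.left} (c : T ⟶ Red.Ga G''.left) (x : T ⟶ XX q) :
    ((gfl c ≫ i) * fl q x) ≫ q = tau T := by
  have h1 := map_mul (postHom (dn G'' T) q) (gfl c ≫ i) (fl q x)
  simp only [postHom_apply] at h1
  rw [h1, comp_eq_one_of_isKernel q i hker, _root_.one_mul, fl_comp_q]

/-- the action on points -/
def actPt {T : Over G''.left} (c : T ⟶ Red.Ga G''.left) (x : T ⟶ XX q) : T ⟶ XX q :=
  Over.homMk ((gfl c ≫ i) * fl q x).left (by
    have := congrArg (fun m => m.left) (act_aux q i hker c x)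
    exact this)

lemma fl_actPt {T : Over G''.left} (c : T ⟶ Red.Ga G''.left) (x : T ⟶ XX q) :
    fl q (actPt q i hker c x) = (gfl c ≫ i) * fl q x := by
  apply Over.OverMorphism.ext
  rfl

lemma comp_actPt {T T' : Over G''.left} (f : T' ⟶ T) (c : T ⟶ Red.Ga G''.left)
    (x : T ⟶ XX q) : f ≫ actPt q i hker c x = actPt q i hker (f ≫ c) (f ≫ x) := by
  apply fl_injective q
  rw [fl_comp, fl_actPt, fl_actPt, MonObj.comp_mul, ← Category.assoc, ← gfl_comp, ← fl_comp]

lemma actPt_one {T : Over G''.left} (x : T ⟶ XX q) : actPt q i hker 1 x = x := by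
  apply fl_injective q
  rw [fl_actPt, gfl_one, MonObj.one_comp, _root_.one_mul]

lemma actPt_mul {T : Over G''.left} (c c' : T ⟶ Red.Ga G''.left) (x : T ⟶ XX q) :
    actPt q i hker (c * c') x = actPt q i hker c (actPt q i hker c' x) := by
  apply fl_injective q
  rw [fl_actPt, fl_actPt, fl_actPt, gfl_mul, MonObj.mul_comp, _root_.mul_assoc]

/-- the action morphism -/
def actMor : Red.Ga G''.left ⊗ XX q ⟶ XX q :=
  actPt q i hker (fst _ _) (snd _ _)

lemma lift_actMor {T : Over G''.left} (c : T ⟶ Red.Ga G''.left) (x : T ⟶ XX q) :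
    lift c x ≫ actMor q i hker = actPt q i hker c x := by
  unfold actMor
  rw [comp_actPt, lift_fst, lift_snd]

/-- the action of `Ga` over `G''` on `G` -/
def extAct : AlgGrp.Action (Red.Ga G''.left) (XX q) where
  act := actMor q i hker
  one_act := by
    unfold actMor
    rw [comp_actPt, whiskerRight_fst, whiskerRight_snd, leftUnitor_hom]
    have h1 : fst (𝟙_ (Over G''.left)) (XX q) ≫ η[Red.Ga G''.left] = 1 := by
      rw [Hom.one_def]
      congr 1
    rw [h1, actPt_one]
  mul_act := by
    unfold actMor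
    rw [comp_actPt, whiskerRight_fst, whiskerRight_snd]
    rw [← Category.assoc, comp_actPt]
    rw [Category.assoc, whiskerLeft_fst, associator_hom_fst, Category.assoc, whiskerLeft_snd,
      ← Category.assoc, comp_actPt]
    simp only [Category.assoc, associator_hom_snd_fst, associator_hom_snd_snd]
    rw [← actPt_mul]
    congr 1
    rw [Hom.mul_def]
    congr 1
    apply CartesianMonoidalCategory.hom_ext
    · rw [lift_fst]
    · rw [lift_snd]

lemma extAct_act : (extAct q i hker).act = actMor q i hker := rfl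

include hker in
lemma mono_i : Mono i := ⟨fun a b hab => hker.hom_ext hab (toUnit_unique _ _)⟩

theorem isPseudoTorsor : NonAbH1.IsPseudoTorsorSch (extAct q i hker) := by
  haveI := mono_i q i hker
  unfold NonAbH1.IsPseudoTorsorSch
  rw [extAct_act]
  -- the division map
  let x1 : XX q ⊗ XX q ⟶ XX q := fst _ _
  let x2 : XX q ⊗ XX q ⟶ XX q := snd _ _
  have hd : (fl q x1 * (fl q x2)⁻¹) ≫ q = 1 := by
    have h1 := map_mul (postHom (dn G'' (XX q ⊗ XX q)) q) (fl q x1) (fl q x2)⁻¹
    have h2 := map_inv (postHom (dn G'' (XX q ⊗ XX q)) q) (fl q x2)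
    simp only [postHom_apply] at h1 h2
    rw [h1, h2, fl_comp_q, fl_comp_q, mul_inv_cancel]
  obtain ⟨n, hn⟩ := exists_of_comp_eq_one q i hker _ hd
  let c : XX q ⊗ XX q ⟶ Red.Ga G''.left := gup n
  have hc : gfl c = n := gfl_gup n
  refine ⟨lift c x2, ?_, ?_⟩
  · -- on Ga ⊗ X
    apply CartesianMonoidalCategory.hom_ext
    · rw [Category.assoc, lift_fst, Category.id_comp]
      apply gfl_injective
      rw [gfl_comp, hc]
      rw [← cancel_mono i, Category.assoc, hn, MonObj.comp_mul, GrpObj.comp_inv, ← fl_comp,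
        ← fl_comp]
      have e1 : lift (actMor q i hker) (snd (Red.Ga G''.left) (XX q)) ≫ x1 = actMor q i hker :=
        lift_fst _ _
      have e2 : lift (actMor q i hker) (snd (Red.Ga G''.left) (XX q)) ≫ x2 = snd _ _ :=
        lift_snd _ _
      rw [e1, e2]
      unfold actMor
      rw [fl_actPt, mul_inv_cancel_right]
    · rw [Category.assoc, lift_snd, Category.id_comp]
      exact lift_snd _ _
  · -- on X ⊗ X
    apply CartesianMonoidalCategory.hom_ext
    · rw [Category.assoc, lift_fst, Category.id_comp, lift_actMor]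
      apply fl_injective q
      rw [fl_actPt, hc, hn, inv_mul_cancel_right]
    · rw [Category.assoc, lift_snd, Category.id_comp, lift_snd]


end ext

section geo

variable (κ : Type u) [Field κ]
  (G G'' : Over (Spec (CommRingCat.of κ))) [GrpObj G] [GrpObj G'']
  [LocallyOfFiniteType G.hom] [QuasiCompact G.hom]
  [LocallyOfFiniteType G''.hom] [QuasiCompact G''.hom]
  (q : G ⟶ G'') [IsMonHom q] [Flat q.left] (hq : Function.Surjective q.left.base)
  (i : Red.Ga (Spec (CommRingCat.of κ)) ⟶ G) [IsMonHom i] (hker : AlgGrp.IsKernel i q)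

include hq hker in
/-- `q` has sections over affine schemes mapping to `G''` -/
theorem exists_lift_of_affine (R : CommRingCat.{u}) (j : Spec R ⟶ G''.left) :
    ∃ s : Spec R ⟶ G.left, s ≫ q.left = j := by
  haveI : Surjective q.left := ⟨hq⟩
  haveI : IsLocallyNoetherian G''.left := LocallyOfFiniteType.isLocallyNoetherian G''.hom
  haveI : CompactSpace G.left := QuasiCompact.compactSpace_of_compactSpace G.hom
  haveI : QuasiCompact q.left := inferInstance
  have hps := isPseudoTorsor q i hker
  haveI : Surjective (XX q).hom := (inferInstance : Surjective q.left)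
  haveI : Flat (XX q).hom := (inferInstance : Flat q.left)
  haveI : QuasiCompact (XX q).hom := (inferInstance : QuasiCompact q.left)
  have htors : NonAbH1.IsTorsorFor Scheme.fpqcPrecoverage (extAct q i hker) :=
    (Groth.Agent.S6003.result (Red.Ga G''.left) (XX q) (extAct q i hker)).2
      ⟨hps, inferInstance, inferInstance, inferInstance⟩
  obtain ⟨haff, -⟩ := Groth.Agent.S6004.result (Red.Ga G''.left) (XX q) (extAct q i hker) htors
  haveI := haff
  exact Groth.Agent.Lib.Helper4.GaTorsZar1.section_of_affine (XX q) (extAct q i hker) hps R j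


omit [Field κ] in
/-- restriction of a dominant morphism from an open of an irreducible scheme to a smaller
nonempty open is dominant -/
lemma denseRange_restrict {X Y : Scheme.{u}} [IrreducibleSpace X] (V W : X.Opens) (hWV : W ≤ V)
    (hW : (W : Set X).Nonempty) (ψ : (V : Scheme.{u}) ⟶ Y) (hψ : DenseRange ψ.base) :
    DenseRange (X.homOfLE hWV ≫ ψ).base := by
  haveI : PreirreducibleSpace ↥(V : Scheme.{u}) :=
    Subtype.preirreducibleSpace
      ((PreirreducibleSpace.isPreirreducible_univ (X := X)).open_subset V.2 (Set.subset_univ _))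
  have ho : IsOpen (Set.range (X.homOfLE hWV).base) :=
    (X.homOfLE hWV).isOpenEmbedding.isOpen_range
  obtain ⟨w, hw⟩ := hW
  have hne : (Set.range (X.homOfLE hWV).base).Nonempty := ⟨_, ⟨⟨w, hw⟩, rfl⟩⟩
  have h1 : DenseRange (X.homOfLE hWV).base := ho.dense hne
  have h2 : ⇑(X.homOfLE hWV ≫ ψ).base = ⇑ψ.base ∘ ⇑(X.homOfLE hWV).base := by
    ext y
    rfl
  rw [h2]
  exact hψ.comp h1 ψ.continuous

include hq hker in
theorem main (huni : ∃ (n : ℕ)
      (V : (AffineSpace (ULift.{u} (Fin n)) (Spec (CommRingCat.of κ))).Opens)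
      (ψ : (V : Scheme.{u}) ⟶ G''.left),
      (V : Set (AffineSpace (ULift.{u} (Fin n)) (Spec (CommRingCat.of κ)))).Nonempty ∧
      DenseRange ψ.base ∧
      ψ ≫ G''.hom = V.ι ≫ (AffineSpace (ULift.{u} (Fin n)) (Spec (CommRingCat.of κ)) ↘
        Spec (CommRingCat.of κ))) :
    ∃ (n : ℕ) (V : (AffineSpace (ULift.{u} (Fin n)) (Spec (CommRingCat.of κ))).Opens)
      (ψ : (V : Scheme.{u}) ⟶ G.left),
      (V : Set (AffineSpace (ULift.{u} (Fin n)) (Spec (CommRingCat.of κ)))).Nonempty ∧
      DenseRange ψ.base ∧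
      ψ ≫ G.hom = V.ι ≫ (AffineSpace (ULift.{u} (Fin n)) (Spec (CommRingCat.of κ)) ↘
        Spec (CommRingCat.of κ)) := by
  obtain ⟨n, V, ψ, ⟨x, hx⟩, hψd, hψo⟩ := huni
  obtain ⟨_, ⟨f, rfl⟩, hxf, hfV⟩ := TopologicalSpace.Opens.isBasis_iff_nbhd.mp
    (isBasis_basicOpen (AffineSpace (ULift.{u} (Fin n)) (Spec (CommRingCat.of κ)))) hx
  have hWaff : IsAffineOpen ((AffineSpace (ULift.{u} (Fin n)) (Spec (CommRingCat.of κ))).basicOpen f) :=
    (isAffineOpen_top _).basicOpen f
  obtain ⟨W, hWdef⟩ : ∃ W : (AffineSpace (ULift.{u} (Fin n)) (Spec (CommRingCat.of κ))).Opens,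
      W = (AffineSpace (ULift.{u} (Fin n)) (Spec (CommRingCat.of κ))).basicOpen f := ⟨_, rfl⟩
  rw [← hWdef] at hxf hfV hWaff
  let ψW : (W : Scheme.{u}) ⟶ G''.left :=
    (AffineSpace (ULift.{u} (Fin n)) (Spec (CommRingCat.of κ))).homOfLE hfV ≫ ψ
  have hψWd : DenseRange ψW.base := denseRange_restrict V W hfV ⟨x, hxf⟩ ψ hψd
  have hψWo : ψW ≫ G''.hom = W.ι ≫ (AffineSpace (ULift.{u} (Fin n)) (Spec (CommRingCat.of κ)) ↘
      Spec (CommRingCat.of κ)) := by
    rw [Category.assoc, hψo, ← Category.assoc, Scheme.homOfLE_ι]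
  -- the section
  obtain ⟨s₀, hs₀⟩ := exists_lift_of_affine κ G G'' q hq i hker _ (hWaff.isoSpec.inv ≫ ψW)
  let s : (W : Scheme.{u}) ⟶ G.left := hWaff.isoSpec.hom ≫ s₀
  have hs : s ≫ q.left = ψW := by
    rw [Category.assoc, hs₀, ← Category.assoc, Iso.hom_inv_id, Category.id_comp]
  have hsG : s ≫ G.hom = W.ι ≫ (AffineSpace (ULift.{u} (Fin n)) (Spec (CommRingCat.of κ)) ↘
      Spec (CommRingCat.of κ)) := by
    rw [← Over.w q, ← Category.assoc, hs, hψWo]
  -- projection and last coordinate
  let π : AffineSpace (ULift.{u} (Fin (n + 1))) (Spec (CommRingCat.of κ)) ⟶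
      AffineSpace (ULift.{u} (Fin n)) (Spec (CommRingCat.of κ)) :=
    AffineSpace.reindex (fun j : ULift.{u} (Fin n) => ULift.up (Fin.castSucc j.down)) _
  have hπo : π ≫ (AffineSpace (ULift.{u} (Fin n)) (Spec (CommRingCat.of κ)) ↘
      Spec (CommRingCat.of κ)) = (AffineSpace (ULift.{u} (Fin (n + 1))) (Spec (CommRingCat.of κ)) ↘
      Spec (CommRingCat.of κ)) := AffineSpace.reindex_over _ _
  have hπc : ∀ j : Fin n, π.appTop.hom (AffineSpace.coord _ (ULift.up j)) =
      AffineSpace.coord _ (ULift.up (Fin.castSucc j)) := fun j =>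
    AffineSpace.reindex_appTop_coord _ _ (ULift.up j)
  let t : Γ(AffineSpace (ULift.{u} (Fin (n + 1))) (Spec (CommRingCat.of κ)), ⊤) :=
    AffineSpace.coord _ (ULift.up (Fin.last n))
  let V' : (AffineSpace (ULift.{u} (Fin (n + 1))) (Spec (CommRingCat.of κ))).Opens := π ⁻¹ᵁ W
  let V'o : Over (Spec (CommRingCat.of κ)) :=
    Over.mk (V'.ι ≫ (AffineSpace (ULift.{u} (Fin (n + 1))) (Spec (CommRingCat.of κ)) ↘
      Spec (CommRingCat.of κ)))
  let πV' : (V' : Scheme.{u}) ⟶ (W : Scheme.{u}) := π ∣_ W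
  have hπV'ι : πV' ≫ W.ι = V'.ι ≫ π := morphismRestrict_ι π W
  let a' : V'o ⟶ Red.Ga (Spec (CommRingCat.of κ)) :=
    ptOfFn (S := Spec (CommRingCat.of κ)) (T := V'o) (V'.ι.appTop.hom t)
  have hs'o : (πV' ≫ s) ≫ G.hom = V'o.hom := by
    change (πV' ≫ s) ≫ G.hom = V'.ι ≫ _
    rw [Category.assoc, hsG, ← Category.assoc, hπV'ι, Category.assoc, hπo]
  let s' : V'o ⟶ G := Over.homMk (πV' ≫ s) hs'o
  let ψ'o : V'o ⟶ G := (a' ≫ i) * s'
  refine ⟨n + 1, V', ψ'o.left, ?_, ?_, Over.w ψ'o⟩
  · -- nonempty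
    let σ : AffineSpace (ULift.{u} (Fin n)) (Spec (CommRingCat.of κ)) ⟶
        AffineSpace (ULift.{u} (Fin (n + 1))) (Spec (CommRingCat.of κ)) :=
      AffineSpace.homOfVector (AffineSpace (ULift.{u} (Fin n)) (Spec (CommRingCat.of κ)) ↘
        Spec (CommRingCat.of κ))
        (fun j' : ULift.{u} (Fin (n + 1)) => Fin.lastCases
          (0 : Γ(AffineSpace (ULift.{u} (Fin n)) (Spec (CommRingCat.of κ)), ⊤))
          (fun j => AffineSpace.coord _ (ULift.up j)) j'.down)
    have hσ : σ ≫ π = 𝟙 _ := by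
      apply AffineSpace.hom_ext
      · rw [Category.assoc, hπo, AffineSpace.homOfVector_over, Category.id_comp]
      · rintro ⟨j⟩
        rw [Scheme.Hom.comp_appTop, CommRingCat.comp_apply, hπc, AffineSpace.homOfVector_appTop_coord,
          Fin.lastCases_castSucc]
        simp
    refine ⟨σ.base x, ?_⟩
    change π.base (σ.base x) ∈ W
    have h1 : π.base (σ.base x) = x := by
      have := congrArg (fun m => m.base x) hσ
      simpa using this
    rw [h1]
    exact hxf
  · -- dominant
    haveI : IsLocallyNoetherian G''.left := LocallyOfFiniteType.isLocallyNoetherian G''.hom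
    haveI : LocallyOfFiniteType (q.left ≫ G''.hom) := by
      rw [Over.w q]
      infer_instance
    haveI : LocallyOfFiniteType q.left := locallyOfFiniteType_of_comp q.left G''.hom
    haveI : LocallyOfFinitePresentation q.left := inferInstance
    have hopen : IsOpenMap q.left.base := q.left.isOpenMap
    have hdense : Dense (q.left.base ⁻¹' (Set.range ψW.base)) := Dense.preimage hψWd hopen
    refine hdense.mono ?_
    rintro g ⟨w, hw⟩
    obtain ⟨z, hz1, hz2⟩ := Scheme.Pullback.exists_preimage_pullback (f := q.left) (g := ψW) g w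
      hw.symm
    let pt : Spec ((pullback q.left ψW).residueField z) ⟶ pullback q.left ψW :=
      (pullback q.left ψW).fromSpecResidueField z
    obtain ⟨gT, hgT⟩ : ∃ gT : Spec ((pullback q.left ψW).residueField z) ⟶ G.left,
        gT = pt ≫ pullback.fst _ _ := ⟨_, rfl⟩
    obtain ⟨wT, hwT⟩ : ∃ wT : Spec ((pullback q.left ψW).residueField z) ⟶ (W : Scheme.{u}),
        wT = pt ≫ pullback.snd _ _ := ⟨_, rfl⟩
    have hgw : gT ≫ q.left = wT ≫ ψW := by
      rw [hgT, hwT, Category.assoc, Category.assoc, pullback.condition]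
    let To : Over (Spec (CommRingCat.of κ)) := Over.mk (gT ≫ G.hom)
    let g' : To ⟶ G := Over.homMk gT rfl
    have hsT : (wT ≫ s) ≫ G.hom = To.hom := by
      change (wT ≫ s) ≫ G.hom = gT ≫ G.hom
      rw [← Over.w q, Category.assoc, ← Category.assoc s, hs, ← Category.assoc, ← hgw,
        Category.assoc]
    let sT : To ⟶ G := Over.homMk (wT ≫ s) hsT
    have hq' : g' ≫ q = sT ≫ q := by
      apply Over.OverMorphism.ext
      change gT ≫ q.left = (wT ≫ s) ≫ q.left
      have e1 : (wT ≫ s) ≫ q.left = wT ≫ ψW := by rw [Category.assoc, hs]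
      rw [e1, hgw]
    have hone : (g' * sT⁻¹) ≫ q = 1 := by
      have h1 := map_mul (postHom To q) g' sT⁻¹
      have h2 := map_inv (postHom To q) sT
      simp only [postHom_apply] at h1 h2
      rw [h1, h2, hq', mul_inv_cancel]
    obtain ⟨a₀, ha₀⟩ := exists_of_comp_eq_one q i hker _ hone
    -- the point of affine space
    let vT : Spec ((pullback q.left ψW).residueField z) ⟶
        AffineSpace (ULift.{u} (Fin (n + 1))) (Spec (CommRingCat.of κ)) :=
      AffineSpace.homOfVector (gT ≫ G.hom)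
        (fun j' : ULift.{u} (Fin (n + 1)) => Fin.lastCases
          (fnOfPt (S := Spec (CommRingCat.of κ)) (T := To) a₀)
          (fun j => (wT ≫ W.ι).appTop.hom (AffineSpace.coord _ (ULift.up j))) j'.down)
    have hvπ : vT ≫ π = wT ≫ W.ι := by
      apply AffineSpace.hom_ext
      · have e1 : (vT ≫ π) ≫ (AffineSpace (ULift.{u} (Fin n)) (Spec (CommRingCat.of κ)) ↘
            Spec (CommRingCat.of κ)) = gT ≫ G.hom := by
          rw [Category.assoc, hπo]
          exact AffineSpace.homOfVector_over _ _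
        have e2 : (wT ≫ W.ι) ≫ (AffineSpace (ULift.{u} (Fin n)) (Spec (CommRingCat.of κ)) ↘
            Spec (CommRingCat.of κ)) = gT ≫ G.hom := by
          rw [Category.assoc, ← hsG, ← Category.assoc]
          exact hsT
        rw [e1, e2]
      · rintro ⟨j⟩
        rw [Scheme.Hom.comp_appTop, CommRingCat.comp_apply, hπc,
          AffineSpace.homOfVector_appTop_coord, Fin.lastCases_castSucc]
    have hvV' : Set.range vT.base ⊆ (V' : Set _) := by
      rintro _ ⟨y, rfl⟩
      change π.base (vT.base y) ∈ W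
      have h1 : π.base (vT.base y) = (wT ≫ W.ι).base y := by
        have := congrArg (fun m => m.base y) hvπ
        simpa using this
      rw [h1]
      exact (wT.base y).2
    let vV' : Spec ((pullback q.left ψW).residueField z) ⟶ (V' : Scheme.{u}) :=
      IsOpenImmersion.lift V'.ι vT (by rw [Scheme.Opens.range_ι]; exact hvV')
    have hvV'ι : vV' ≫ V'.ι = vT := IsOpenImmersion.lift_fac _ _ _
    have hvo : vV' ≫ V'o.hom = To.hom := by
      change vV' ≫ V'.ι ≫ _ = gT ≫ G.hom
      rw [← Category.assoc, hvV'ι, AffineSpace.homOfVector_over]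
    let v' : To ⟶ V'o := Over.homMk vV' hvo
    have h1 : v' ≫ a' = a₀ := by
      apply fnOfPt_injective
      rw [fnOfPt_comp, fnOfPt_ptOfFn]
      change vV'.appTop.hom (V'.ι.appTop.hom t) = _
      rw [← CommRingCat.comp_apply, ← Scheme.Hom.comp_appTop, hvV'ι,
        AffineSpace.homOfVector_appTop_coord, Fin.lastCases_last]
    have h2 : v' ≫ s' = sT := by
      apply Over.OverMorphism.ext
      change vV' ≫ πV' ≫ s = wT ≫ s
      rw [← Category.assoc]
      congr 1
      rw [← cancel_mono W.ι, Category.assoc, hπV'ι, ← Category.assoc, hvV'ι, hvπ]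
    have h3 : v' ≫ ψ'o = g' := by
      rw [MonObj.comp_mul, ← Category.assoc, h1, h2, ha₀, inv_mul_cancel_right]
    have h4 : vV' ≫ ψ'o.left = gT := congrArg (fun m => m.left) h3
    obtain ⟨y⟩ : Nonempty (Spec ((pullback q.left ψW).residueField z)) := inferInstance
    refine ⟨vV'.base y, ?_⟩
    have h5 : (vV' ≫ ψ'o.left).base y = gT.base y := by rw [h4]
    rw [Scheme.Hom.comp_apply] at h5
    rw [h5]
    rw [hgT, Scheme.Hom.comp_apply]
    change (pullback.fst q.left ψW).base (pt.base y) = g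
    rw [Scheme.fromSpecResidueField_apply, hz1]

end geo

end

end Groth.Agent.Lib.Helper4.ExtGaTors1
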