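import Mathlib
import Groth.Prelude.Def_ModSite2
import Groth.Prelude.Def_ExtSupp
import Groth.Prelude.Def_SpSeq
import Groth.Agent.Lib.Helper4.QSAdj
import Groth.Agent.Lib.Helper4.QSLocal2
import Groth.Agent.Lib.Helper4.ExtSuppSS1
import Groth.Agent.Lib.Helper3.LocGlobExt1

/-!
# The spectral sequence Ext^p(M, ℋ^q_Z N) ⟹ Ext_Z(M,N) on a ringed site (helper4)
-/

set_option backward.isDefEq.respectTransparency.types false
set_option synthInstance.maxHeartbeats 400000
set_option autoImplicit false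
set_option linter.unusedSectionVars false
set_option linter.style.haveILetI false
set_option linter.unusedSimpArgs false
universe u v w
open CategoryTheory CategoryTheory.Limits Opposite

namespace Groth.Agent.Lib.Helper4.ExtSuppSS3

open Groth.Agent.Lib.Helper4.QSAdj Groth.Agent.Lib.Helper4.QSLocal2 Groth.Agent.Helper3
  Groth.Agent.Lib.Helper4.ExtSuppSS1

variable {C : Type u} [SmallCategory C] {J : GrothendieckTopology C}
  {O : Sheaf J CommRingCat.{u}} (U : C) [ModSite.HasPushOver O U]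
  [HasInjectiveResolutions (ModSite.Mod O)] [HasExt.{u} (ModSite.Mod O)]

/-- **S13588**: `Ext^p(M, ℋ^q_Z(N)) ⟹ Ext^{p+q}_Z(M, N)`. -/
theorem main (M N : ModSite.Mod O) :
    ∃ (E : E₂CohomologicalSpectralSequence AddCommGrpCat.{u})
      (a : SpSeq.Abutment E (fun n : ℤ =>
        if 0 ≤ n then AddCommGrpCat.of (ExtSupp.ExtZ U M N n.toNat)
          else AddCommGrpCat.of PUnit.{u + 1})),
      (∀ n, a.IsFinite n) ∧ SpSeq.IsBounded E ∧
      ∀ p q : ℤ, Nonempty ((E.page 2 le_rfl).X (p, q) ≅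
        (if 0 ≤ p ∧ 0 ≤ q then
          AddCommGrpCat.of (Abelian.Ext.{u} M ((ModSite.HZsh O U q.toNat).obj N) p.toNat)
         else AddCommGrpCat.of PUnit.{u + 1})) := by
  have hT : ∀ Q : ModSite.Mod O, Injective Q → ∀ q : ℕ, 0 < q →
      IsZero (((preadditiveCoyoneda.obj (op M)).rightDerived q).obj
        ((ModSite.sectOn O U).obj Q)) := by
    intro Q hQ q hq
    obtain ⟨m, rfl⟩ : ∃ m, q = m + 1 := ⟨q - 1, by omega⟩
    haveI := injective_sectOn U Q
    exact Functor.isZero_rightDerived_obj_injective_succ _ m _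
  obtain ⟨E, a, hfin, hbdd, hE⟩ := GSS.main' (ModSite.sectOn O U)
    (preadditiveCoyoneda.obj (op M)) hT N
  obtain ⟨a', ha'⟩ := AbutIf.exists_abutment_if
    (fun k => ((ModSite.sectOn O U ⋙ preadditiveCoyoneda.obj (op M)).rightDerived k).obj N)
    (fun k => AddCommGrpCat.of (ExtSupp.ExtZ U M N k)) a hfin
    (fun k => ⟨ExtRD.rightDerivedIsoExt _ ((ModSite.quotOn O U).obj M)
      (coyonedaAdjIso (qsAdj (O := O) (U := U)) M).symm N k⟩)
  refine ⟨E, a', ha', hbdd, ?_⟩
  intro p q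
  exact AbutIf.nonempty_iso_if _ (hE p q) ⟨ExtRD.coyonedaRightDerivedIso M _ p.toNat⟩

end Groth.Agent.Lib.Helper4.ExtSuppSS3
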