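import Mathlib
import Groth.Prelude.Def_ModSite2
import Groth.Prelude.Def_ExtSupp
import Groth.Agent.Lib.Helper5.Misc.ExtAdj
import Groth.Agent.Lib.Helper5.Misc.RestrExact
import Groth.Agent.Lib.Helper5.Misc.ShriekSheaf
import Groth.Agent.Lib.Helper3.SubTerm1
import Groth.Agent.Lib.Helper4.QSLocal

/-!
# Excision for Ext with supports on a ringed site (helper4)
-/

set_option backward.isDefEq.respectTransparency.types false
set_option synthInstance.maxHeartbeats 400000
set_option autoImplicit false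
set_option linter.unusedSectionVars false
set_option linter.style.haveILetI false
set_option linter.unusedSimpArgs false
universe u v w w'
open CategoryTheory CategoryTheory.Limits Opposite

namespace Groth.Agent.Lib.Helper4.ExtZExcision

open Groth.Agent.Lib.Helper4.QSLocal Groth.Agent.Lib.Helper5 Abelian

section ext

variable {𝒜 : Type*} [Category 𝒜] [Abelian 𝒜] [HasExt.{w} 𝒜]

/-- `Ext` only depends on the isomorphism class of the first variable -/
noncomputable def extAddEquivOfIso {X X' : 𝒜} (e : X ≅ X') (Y : 𝒜) (n : ℕ) :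
    Ext.{w} X Y n ≃+ Ext.{w} X' Y n where
  toFun x := (Ext.mk₀ e.inv).comp x (zero_add n)
  invFun y := (Ext.mk₀ e.hom).comp y (zero_add n)
  left_inv x := by
    simp only
    rw [Ext.mk₀_comp_mk₀_assoc, e.hom_inv_id, Ext.mk₀_id_comp]
  right_inv y := by
    simp only
    rw [Ext.mk₀_comp_mk₀_assoc, e.inv_hom_id, Ext.mk₀_id_comp]
  map_add' x y := Ext.comp_add _ _ _ _

end ext

section null

variable {C : Type u} [SmallCategory C] {J : GrothendieckTopology C} (O : Sheaf J CommRingCat.{u})

/-- a module null on the members of a family covering the top is zero -/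
lemma isZero_of_null_of_coversTop {ι : Type*} (Y : ι → C) (hY : J.CoversTop Y) (T : ModSite.Mod O)
    (hT : ∀ i, ModSite.IsNullOn O (Y i) T) : IsZero T := by
  rw [IsZero.iff_id_eq_zero]
  apply SheafOfModules.hom_ext
  apply PresheafOfModules.hom_ext
  intro X
  apply ModuleCat.hom_ext
  apply LinearMap.ext
  intro x
  change x = 0
  refine mod_ext T (hY X.unop) ?_
  rintro W f ⟨i, ⟨g⟩⟩
  exact ((ExtSupp.isNullOn_iff O (Y i) T).1 (hT i) g _).trans
    ((ExtSupp.isNullOn_iff O (Y i) T).1 (hT i) g _).symm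

end null

section stepB

variable {C : Type u} [SmallCategory C] {J : GrothendieckTopology C}
  (O : Sheaf J CommRingCat.{u})

/-- `M/M_U` is null on `U` (no binder needed) -/
theorem isNullOn_quotOn' (U : C) (M : ModSite.Mod O) :
    ModSite.IsNullOn O U ((ModSite.quotOn O U).obj M) := by
  let adj := ModSite.extZeroAdj O U
  have hsplit : adj.unit.app ((ModSite.restr O U).obj M) ≫ (ModSite.restr O U).map (adj.counit.app M) = 𝟙 _ :=
    adj.right_triangle_components M
  have : Epi ((ModSite.restr O U).map (adj.counit.app M)) := by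
    have : IsSplitEpi ((ModSite.restr O U).map (adj.counit.app M)) := ⟨⟨⟨_, hsplit⟩⟩⟩
    infer_instance
  exact (isZero_cokernel_of_epi ((ModSite.restr O U).map (adj.counit.app M))).of_iso
    (PreservesCokernel.iso (ModSite.restr O U) (adj.counit.app M))

lemma mono_counit_extZero (V : C) (hV : ∀ X : C, Subsingleton (X ⟶ V)) (F : ModSite.Mod O) :
    Mono ((ModSite.extZeroAdj O V).counit.app F) := by
  haveI := Groth.Agent.Helper3.SubTerm1.mono_counit_adj' O V hV F
  have h := Adjunction.leftAdjointUniq_hom_app_counit (ShriekSheaf.adj' O V) (ModSite.extZeroAdj O V) F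
  have h2 : (ModSite.extZeroAdj O V).counit.app F =
      ((ShriekSheaf.adj' O V).leftAdjointUniq (ModSite.extZeroAdj O V)).inv.app _ ≫
        (ShriekSheaf.adj' O V).counit.app F := by
    rw [← h, Iso.inv_hom_id_app_assoc]
  rw [h2]
  infer_instance

/-- a quotient of a module null on `U` is null on `U` -/
lemma isNullOn_of_epi (U : C) {Q Q' : ModSite.Mod O} (π : Q ⟶ Q') [Epi π]
    (hQ : ModSite.IsNullOn O U Q) : ModSite.IsNullOn O U Q' := by
  haveI := RestrExact.epi_restr_map O U π
  unfold ModSite.IsNullOn at hQ ⊢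
  rw [IsZero.iff_id_eq_zero]
  rw [← cancel_epi ((ModSite.restr O U).map π)]
  exact hQ.eq_of_src _ _

theorem isIso_counit_of_null (U V : C) (hV : ∀ X : C, Subsingleton (X ⟶ V))
    (hUV : J.CoversTop (fun b : Bool => cond b U V)) (Q : ModSite.Mod O)
    (hQ : ModSite.IsNullOn O U Q) : IsIso ((ModSite.extZeroAdj O V).counit.app Q) := by
  haveI := mono_counit_extZero O V hV Q
  haveI : Epi ((ModSite.extZeroAdj O V).counit.app Q) := by
    have hz : IsZero (cokernel ((ModSite.extZeroAdj O V).counit.app Q)) := by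
      apply isZero_of_null_of_coversTop O _ hUV
      intro b
      cases b with
      | false => exact isNullOn_quotOn' O V Q
      | true =>
        exact isNullOn_of_epi O U (cokernel.π ((ModSite.extZeroAdj O V).counit.app Q)) hQ
    exact Abelian.epi_of_cokernel_π_eq_zero _ (hz.eq_of_tgt _ _)
  exact isIso_of_mono_of_epi _

end stepB

section cok

variable {𝒜 : Type*} [Category 𝒜] [Abelian 𝒜]

/-- two cokernels of maps into the same object, each killing the other map, are isomorphic -/
noncomputable def cokIso {A E₁ E₂ T₁ T₂ : 𝒜} (ε₁ : E₁ ⟶ A) (ε₂ : E₂ ⟶ A) (π₁ : A ⟶ T₁) (π₂ : A ⟶ T₂)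
    (w₁ : ε₁ ≫ π₁ = 0) (w₂ : ε₂ ≫ π₂ = 0)
    (h₁ : IsColimit (CokernelCofork.ofπ π₁ w₁)) (h₂ : IsColimit (CokernelCofork.ofπ π₂ w₂))
    (z₁ : ε₂ ≫ π₁ = 0) (z₂ : ε₁ ≫ π₂ = 0) : T₁ ≅ T₂ where
  hom := h₁.desc (CokernelCofork.ofπ π₂ z₂)
  inv := h₂.desc (CokernelCofork.ofπ π₁ z₁)
  hom_inv_id := by
    apply Cofork.IsColimit.hom_ext h₁
    have e1 : π₁ ≫ h₁.desc (CokernelCofork.ofπ π₂ z₂) = π₂ := h₁.fac _ WalkingParallelPair.one
    have e2 : π₂ ≫ h₂.desc (CokernelCofork.ofπ π₁ z₁) = π₁ := h₂.fac _ WalkingParallelPair.one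
    change π₁ ≫ _ ≫ _ = π₁ ≫ 𝟙 _
    rw [reassoc_of% e1, e2, Category.comp_id]
  inv_hom_id := by
    apply Cofork.IsColimit.hom_ext h₂
    have e1 : π₁ ≫ h₁.desc (CokernelCofork.ofπ π₂ z₂) = π₂ := h₁.fac _ WalkingParallelPair.one
    have e2 : π₂ ≫ h₂.desc (CokernelCofork.ofπ π₁ z₁) = π₁ := h₂.fac _ WalkingParallelPair.one
    change π₂ ≫ _ ≫ _ = π₂ ≫ 𝟙 _
    rw [reassoc_of% e2, e1, Category.comp_id]

end cok

section stepC

variable {C : Type u} [SmallCategory C] [HasBinaryProducts C] {J : GrothendieckTopology C}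
  (O : Sheaf J CommRingCat.{u}) (U V : C) (M : ModSite.Mod O)

/-- the object `U × V ⟶ V` of `C/V` -/
noncomputable abbrev WW : Over V := Over.mk (prod.snd : U ⨯ V ⟶ V)

/-- the explicit direct image along the localisation morphism -/
noncomputable abbrev σ : ModSite.Mod (O.over V) ⥤ ModSite.Mod O :=
  SheafOfModules.pushforward.{u} (SheafOfModules.pushforwardOver (R := ModSite.ringSh O) V)

/-- the adjunction `(-)|_V ⊣ σ` -/
noncomputable def adjσ : ModSite.restr O V ⊣ σ O V :=
  SheafOfModules.overPushforwardOverAdj (R := ModSite.ringSh O) V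

lemma null_restr_quotOn :
    ModSite.IsNullOn (O.over V) (WW U V) ((ModSite.restr O V).obj ((ModSite.quotOn O U).obj M)) := by
  rw [ExtSupp.isNullOn_iff]
  intro X' g x
  exact (ExtSupp.isNullOn_iff O U _).1 (isNullOn_quotOn' O U M) (g.left ≫ prod.fst) x

lemma null_σ (T : ModSite.Mod (O.over V)) (hT : ModSite.IsNullOn (O.over V) (WW U V) T) :
    ModSite.IsNullOn O U ((σ O V).obj T) := by
  rw [ExtSupp.isNullOn_iff]
  intro X g x
  let k : (Over.star V).obj X ⟶ WW U V :=
    Over.homMk (prod.lift (prod.snd ≫ g) prod.fst) (by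
      change prod.lift (prod.snd ≫ g) prod.fst ≫ prod.snd = prod.lift prod.fst (𝟙 (V ⨯ X)) ≫ prod.fst
      rw [prod.lift_snd, prod.lift_fst])
  exact (ExtSupp.isNullOn_iff (O.over V) (WW U V) T).1 hT k x

end stepC

section stepC2

variable {C : Type u} [SmallCategory C] [HasBinaryProducts C] {J : GrothendieckTopology C}
  (O : Sheaf J CommRingCat.{u}) (U V : C) (M : ModSite.Mod O)

/-- restriction to `C/V` commutes with `M ↦ M/M_U` -/
noncomputable def restrQuotOnIso :
    (ModSite.restr O V).obj ((ModSite.quotOn O U).obj M) ≅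
      (ModSite.quotOn (O.over V) (WW U V)).obj ((ModSite.restr O V).obj M) := by
  let ε := (ModSite.extZeroAdj O U).counit.app M
  let S : ShortComplex (ModSite.Mod O) := ShortComplex.mk ε (cokernel.π ε) (cokernel.condition ε)
  have hS : S.Exact := ShortComplex.exact_cokernel ε
  haveI : Epi S.g := inferInstanceAs (Epi (cokernel.π ε))
  have hS' : (S.map (ModSite.restr O V)).Exact :=
    hS.map_of_epi_of_preservesCokernel _ inferInstance inferInstance
  haveI : Epi (S.map (ModSite.restr O V)).g := RestrExact.epi_restr_map O V S.g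
  let A := (ModSite.restr O V).obj M
  let ε₂ := (ModSite.extZeroAdj (O.over V) (WW U V)).counit.app A
  refine cokIso ((ModSite.restr O V).map ε) ε₂ ((ModSite.restr O V).map (cokernel.π ε)) (cokernel.π ε₂)
    (S.map (ModSite.restr O V)).zero (cokernel.condition ε₂) hS'.gIsCokernel (cokernelIsCokernel ε₂) ?_ ?_
  · -- ε₂ ≫ π₁ = 0
    have hz : IsZero ((ModSite.restr (O.over V) (WW U V)).obj
        ((ModSite.restr O V).obj ((ModSite.quotOn O U).obj M))) := null_restr_quotOn O U V M
    apply ((ModSite.extZeroAdj (O.over V) (WW U V)).homEquiv _ _).injective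
    exact hz.eq_of_tgt _ _
  · -- ε₁ ≫ π₂ = 0
    have hz : IsZero ((ModSite.restr O U).obj ((σ O V).obj
        ((ModSite.quotOn (O.over V) (WW U V)).obj A))) :=
      null_σ O U V _ (isNullOn_quotOn' (O.over V) (WW U V) A)
    apply ((adjσ O V).homEquiv _ _).injective
    apply ((ModSite.extZeroAdj O U).homEquiv _ _).injective
    exact hz.eq_of_tgt _ _

end stepC2

section mainsec

variable {C : Type u} [SmallCategory C] [HasBinaryProducts C] {J : GrothendieckTopology C}
  {O : Sheaf J CommRingCat.{u}} [HasExt.{w} (ModSite.Mod O)]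

theorem main (U V : C) [HasExt.{w'} (ModSite.Mod (O.over V))]
    (hV : ∀ X : C, Subsingleton (X ⟶ V)) (hUV : J.CoversTop (fun b : Bool => cond b U V))
    (M N : ModSite.Mod O) (i : ℕ) :
    Nonempty (ExtSupp.ExtZ U M N i ≃+
      ExtSupp.ExtZover V (Over.mk (prod.snd : U ⨯ V ⟶ V)) M N i) := by
  let Q := (ModSite.quotOn O U).obj M
  haveI := isIso_counit_of_null O U V hV hUV Q (isNullOn_quotOn' O U M)
  let e1 : (ModSite.extZero O V).obj ((ModSite.restr O V).obj Q) ≅ Q :=
    asIso ((ModSite.extZeroAdj O V).counit.app Q)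
  haveI : (ModSite.extZero O V).Additive := (ModSite.extZeroAdj O V).left_adjoint_additive
  let E1 : Ext.{w} Q N i ≃+ Ext.{w} ((ModSite.extZero O V).obj ((ModSite.restr O V).obj Q)) N i :=
    extAddEquivOfIso e1.symm N i
  let E2 : Ext.{w} ((ModSite.extZero O V).obj ((ModSite.restr O V).obj Q)) N i ≃+
      Ext.{w'} ((ModSite.restr O V).obj Q) ((ModSite.restr O V).obj N) i :=
    Groth.Agent.Lib.Helper5.Misc.ExtAdj.extAddEquiv (ModSite.extZeroAdj O V) _ N i
  let E3 := extAddEquivOfIso (restrQuotOnIso O U V M) ((ModSite.restr O V).obj N) i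
  exact ⟨E1.trans (E2.trans E3)⟩

end mainsec

end Groth.Agent.Lib.Helper4.ExtZExcision
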