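import Mathlib
import Groth.Prelude.Def_ModSite2
import Groth.Prelude.Def_ExtSupp
import Groth.Prelude.Def_DeltaF
import Groth.Prelude.Def_RDerDelta
import Groth.Agent.Lib.Helper4.ExtSuppSS2
import Groth.Agent.Lib.Helper4.DeltaNat1
import Groth.Agent.Lib.Helper3.ExtDelta
import Groth.Agent.S14349
import Groth.Agent.S16463
import Groth.Agent.S0485

/-!
# Right derived functors of a corepresentable functor are Ext functors (naturally); ExtZR ≅ Ext(M/M_U, -) (helper4)
-/

set_option backward.isDefEq.respectTransparency.types false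
set_option synthInstance.maxHeartbeats 400000
set_option autoImplicit false
set_option linter.unusedSectionVars false
set_option linter.style.haveILetI false
set_option linter.unusedSimpArgs false
universe u v w
open CategoryTheory CategoryTheory.Limits Opposite

namespace Groth.Agent.Lib.Helper4.ExtZRIso

open Groth.Agent.Lib.Helper4 Groth.Agent.Helper3 DeltaF

section general

variable {𝒜 : Type u} [Category.{v} 𝒜] [Abelian 𝒜] [HasExt.{v} 𝒜]

/-- `Ext⁰(A, -) ≅ Hom(A, -)` -/
noncomputable def ext0Iso (A : 𝒜) :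
    Abelian.extFunctorObj A 0 ≅ preadditiveCoyoneda.obj (op A) :=
  NatIso.ofComponents (fun N => (Abelian.Ext.addEquiv₀ (X := A) (Y := N)).toAddCommGrpIso) (by
    intro N N' g
    ext x
    obtain ⟨f, rfl⟩ := (Abelian.Ext.mk₀_bijective _ _).2 x
    change Abelian.Ext.addEquiv₀ ((Abelian.Ext.mk₀ f).comp (Abelian.Ext.mk₀ g) (add_zero 0)) =
      Abelian.Ext.addEquiv₀ (Abelian.Ext.mk₀ f) ≫ g
    rw [Abelian.Ext.mk₀_comp_mk₀]
    have key : ∀ {X Y : 𝒜} (h : X ⟶ Y), Abelian.Ext.addEquiv₀ (Abelian.Ext.mk₀ h) = h :=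
      fun h => Abelian.Ext.addEquiv₀.apply_symm_apply h
    rw [key, key])

variable [EnoughInjectives 𝒜]

/-- If `S ≅ Hom(A, -)` then `RⁿS ≅ Extⁿ(A, -)` as functors. -/
theorem nonempty_rightDerived_iso_extFunctorObj (S : 𝒜 ⥤ AddCommGrpCat.{v}) [S.Additive] (A : 𝒜)
    (e : S ≅ preadditiveCoyoneda.obj (op A)) (n : ℕ) :
    Nonempty (S.rightDerived n ≅ Abelian.extFunctorObj A n) := by
  obtain ⟨Δ⟩ := Groth.Agent.S16463.result S
  have h₁ : Δ.toCohDeltaFunctor.IsEffaceable := by
    rw [Groth.Agent.S14349.result]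
    intro n I hI
    exact Functor.isZero_rightDerived_obj_injective_succ S n I
  have h₂ : (ExtDelta.extDelta A).IsEffaceable := by
    rw [Groth.Agent.S14349.result]
    intro n I hI
    exact ExtDelta.isZero_of_injective A I n
  haveI : PreservesFiniteLimits S := preservesFiniteLimits_of_natIso e.symm
  have e0 : Δ.toCohDeltaFunctor.F 0 ≅ (ExtDelta.extDelta A).F 0 :=
    S.rightDerivedZeroIsoSelf ≪≫ e ≪≫ (ext0Iso A).symm
  exact ⟨DeltaNat1.isoOfEffaceable _ _ h₁ h₂ e0 n⟩

end general


section main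

variable {C : Type u} [SmallCategory C] {J : GrothendieckTopology C}
  {O : Sheaf J CommRingCat.{u}} [HasExt.{u} (ModSite.Mod O)]
  (U : C) [ModSite.HasPushOver O U] (M : ModSite.Mod O) [ModSite.HasSheafHom M]
  [HasInjectiveResolutions (ModSite.Mod O)]

/-- **S13582**: the derived-functor form of Ext with supports agrees with `Ext(M/M_U, -)`. -/
theorem main (q : ℕ) :
    Nonempty (ExtSupp.ExtZR U M q ≅ Abelian.extFunctorObj ((ModSite.quotOn O U).obj M) q) := by
  haveI := Groth.Agent.S0485.result J (ModSite.ringSh O)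
  exact nonempty_rightDerived_iso_extFunctorObj (ExtSupp.gammaZHom U M)
    ((ModSite.quotOn O U).obj M) (ExtSuppSS2.gammaZHomIso U M) q

end main

end Groth.Agent.Lib.Helper4.ExtZRIso
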