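import Mathlib
import Groth.Prelude.Def_FSch3
import Groth.Prelude.Def_FlatMod2
import Groth.Prelude.Def_Coh
import Groth.Prelude.Def_Fitting
import Groth.Agent.Lib.Lead.FLF6
import Groth.Agent.Lib.Lead.SL1
import Groth.Agent.Lib.Lead.FittSh
import Groth.Agent.Lib.Lead.KrullKill
import Groth.Agent.Lib.Lead.BCU3
import Groth.Agent.Lib.Helper4.Fitting19
import Groth.Agent.Lib.Helper4.Fitting15
import Groth.Agent.Lib.Helper4.CohSk1
import Groth.Agent.Lib.Helper4.HomLiftAlg1

/-!
# Local freeness of rank r from all thickenings (Fitting ideals + Krull) (helper4) (helper4)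
-/

set_option backward.isDefEq.respectTransparency.types false
set_option synthInstance.maxHeartbeats 400000
set_option autoImplicit false
set_option linter.unusedSectionVars false
set_option linter.style.haveILetI false
set_option linter.unusedSimpArgs false
universe u v w
open CategoryTheory CategoryTheory.Limits AlgebraicGeometry TopologicalSpace Opposite
open Groth.Agent.Helper4.Fitting
open Groth.Agent.Lib.Helper4

namespace Groth.Agent.Lib.Helper4.FComplFree1

section Alg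

/-- Fitting ideals under `IsBC`. -/
theorem fitt_of_isBC {A A' : Type u} [CommRing A] [CommRing A'] (φ : A →+* A')
    {M N : Type u} [AddCommGroup M] [Module A M] [AddCommGroup N] [Module A' N] [Module.Finite A M]
    (l : M → N) (h : Groth.Agent.Lead.BCU.IsBC φ l) (k : ℕ) :
    Fitt.ideal A' N k = (Fitt.ideal A M k).map φ := by
  letI := φ.toAlgebra
  letI : Module A N := Module.compHom N φ
  haveI : IsScalarTower A A' N := ⟨fun a a' n => by
    change (φ a * a') • n = φ a • a' • n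
    exact mul_smul _ _ _⟩
  obtain ⟨l', -, hb⟩ := h
  rw [← ideal_congr hb.equiv k, ideal_baseChange]
  rfl

/-- Fitting ideals of a finite projective module of constant rank `k` are `⊤` from `k` on. -/
theorem ideal_eq_top_of_projective_of_rank {A : Type u} [CommRing A] (Q : Type v) [AddCommGroup Q]
    [Module A Q] [Module.Finite A Q] [Module.Projective A Q] (k : ℕ)
    (hk : ∀ p, Module.rankAtStalk (R := A) Q p = k) (j : ℕ) (hj : k ≤ j) :
    Fitt.ideal A Q j = ⊤ := by
  refine (ideal_conditions_of_free (R := A) (M := Q) k ?_).2 j hj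
  intro p hp
  obtain ⟨f, hf, hfree⟩ := Module.Free.away_of_finite_of_flat_of_rankAtStalk_constant Q p
    (fun m _ => by rw [hk, hk])
  refine ⟨f, hf, hfree, ?_⟩
  haveI : Nontrivial (Localization.Away f) := nontrivial_away_of_notMem p f hf
  obtain ⟨q, hq⟩ := Ideal.exists_maximal (Localization.Away f)
  have h1 := congrFun (Module.rankAtStalk_eq_finrank_of_free (R := Localization.Away f)
    (M := LocalizedModule (Submonoid.powers f) Q)) ⟨q, hq.isPrime⟩
  simp only [Pi.natCast_apply, Nat.cast_id] at h1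
  rw [← h1, Module.rankAtStalk_isBaseChange (LocalizedModule.isBaseChange (Submonoid.powers f) Q), hk]

/-- the algebraic core: Fitting conditions modulo all powers of `K` give freeness near primes
containing `K` -/
theorem local_alg {R : Type u} [CommRing R] [IsNoetherianRing R] (K : Ideal R)
    (M : Type u) [AddCommGroup M] [Module R M] [Module.Finite R M] (r : ℕ)
    (hbot : ∀ n j, j < r → Fitt.ideal R M j ≤ K ^ (n + 1))
    (p : Ideal R) [hp : p.IsPrime] (hKp : K ≤ p) (htop : ¬ Fitt.ideal R M r ≤ p) :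
    ∃ h : R, h ∉ p ∧ Module.Free (Localization.Away h) (LocalizedModule (Submonoid.powers h) M) ∧
      Module.finrank (Localization.Away h) (LocalizedModule (Submonoid.powers h) M) = r := by
  classical
  set N : Ideal R := ⨅ n : ℕ, K ^ (n + 1) with hN
  obtain ⟨s, hs1, hs2⟩ := Groth.Agent.Lead.KrullKill.exists_kill K (N.subtype : N →ₗ[R] R) (by
    intro n m
    show (m : R) ∈ K ^ (n + 1) • (⊤ : Ideal R)
    rw [smul_eq_mul, Ideal.mul_top]
    exact (Ideal.mem_iInf.1 m.2) n)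
  have hsp : s ∉ p := fun hs => hp.ne_top ((Ideal.eq_top_iff_one _).2 (by
    have := p.sub_mem hs (hKp hs1)
    rwa [sub_sub_cancel] at this))
  obtain ⟨n, x, hx⟩ := Module.Finite.exists_fin (R := R) (M := M)
  obtain ⟨f, hf, -, y, hy⟩ := exists_smul_mem_span_of_not_le x hx r p htop
  have hfs : f * s ∉ p := fun h => (hp.mem_or_mem h).elim hf hsp
  refine ⟨f * s, hfs, ?_⟩
  haveI : Nontrivial (Localization.Away (f * s)) := nontrivial_away_of_notMem p (f * s) hfs
  refine free_localizedModule (Submonoid.powers (f * s)) r (f * s) (Submonoid.mem_powers _) y ?_ ?_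
  · intro m
    rw [mul_smul]
    exact hy (s • m)
  · intro j hj
    rw [eq_bot_iff, Ideal.map_le_iff_le_comap]
    intro d hd
    rw [Ideal.mem_comap, Ideal.mem_bot]
    have hdN : d ∈ N := Ideal.mem_iInf.2 fun n => hbot n j hj hd
    have h0 : s * d = 0 := hs2 ⟨d, hdN⟩
    rw [IsLocalization.map_eq_zero_iff (Submonoid.powers (f * s))]
    exact ⟨⟨f * s, Submonoid.mem_powers _⟩, by show f * s * d = 0; rw [mul_assoc, h0, mul_zero]⟩

end Alg

section Geo
open Scheme.Modules
variable {X : Scheme.{u}} (J : X.IdealSheafData) (F : X.Modules)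

theorem ker_appLE (n : ℕ) {W : X.Opens} (hW : IsAffineOpen W) :
    RingHom.ker (((J ^ (n + 1)).subschemeι.appLE W ((J ^ (n + 1)).subschemeι ⁻¹ᵁ W) le_rfl).hom) =
      (J.ideal ⟨W, hW⟩) ^ (n + 1) := by
  rw [Scheme.Hom.appLE_eq_app]
  exact (J ^ (n + 1)).ker_subschemeι_app ⟨W, hW⟩

theorem surj_appLE (n : ℕ) {W : X.Opens} (hW : IsAffineOpen W) :
    Function.Surjective
      (((J ^ (n + 1)).subschemeι.appLE W ((J ^ (n + 1)).subschemeι ⁻¹ᵁ W) le_rfl).hom) := by
  rw [Scheme.Hom.appLE_eq_app]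
  intro y
  obtain ⟨x, hx⟩ := (J ^ (n + 1)).subschemeι_app_surjective ⟨W, hW⟩ y
  exact ⟨x, hx⟩

/-- Fitting data of `F` on an affine open from local freeness of rank `r` on the `n`-th thickening -/
theorem level_fitt (r n : ℕ) [F.IsQuasicoherent]
    (hn : FlatMod.IsFinLocFreeOfRank r ((Scheme.Modules.pullback (J ^ (n + 1)).subschemeι).obj F))
    {W : X.Opens} (hW : IsAffineOpen W) [Module.Finite Γ(X, W) Γ(F, W)] :
    (∀ j, j < r → Fitt.ideal Γ(X, W) Γ(F, W) j ≤ (J.ideal ⟨W, hW⟩) ^ (n + 1)) ∧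
    (∀ p : Ideal Γ(X, W), p.IsPrime → (J.ideal ⟨W, hW⟩) ^ (n + 1) ≤ p →
      ¬ Fitt.ideal Γ(X, W) Γ(F, W) r ≤ p) := by
  have hW' : IsAffineOpen ((J ^ (n + 1)).subschemeι ⁻¹ᵁ W) := hW.preimage _
  obtain ⟨h1, h2⟩ := (Groth.Agent.Lead.FLF.isFinLocFreeOfRank_iff _ r).1 hn
  haveI : ((Scheme.Modules.pullback (J ^ (n + 1)).subschemeι).obj F).IsQuasicoherent :=
    Groth.Agent.Lead.FLF.isQuasicoherent_of_isFinLocFree _ h1
  obtain ⟨hfin, hproj⟩ := (Groth.Agent.Lead.FLF.isFinLocFree_iff_affineOpens _).1 h1 _ hW'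
  have hrk := h2 _ hW'
  have hbc := Groth.Agent.Lead.BCU.isBC_unitRes (J ^ (n + 1)).subschemeι F hW hW' le_rfl
  have hfitt := fun k => fitt_of_isBC _ _ hbc k
  have hker := ker_appLE J n hW
  have hsurj := surj_appLE J n hW
  constructor
  · intro j hj
    have h0 := Fitting19.ideal_eq_bot_of_projective_of_rank
      Γ((Scheme.Modules.pullback (J ^ (n + 1)).subschemeι).obj F, (J ^ (n + 1)).subschemeι ⁻¹ᵁ W)
      r hrk j hj
    rw [hfitt j, Ideal.map_eq_bot_iff_le_ker, hker] at h0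
    exact h0
  · intro p hp hKp hle
    have h0 := ideal_eq_top_of_projective_of_rank
      Γ((Scheme.Modules.pullback (J ^ (n + 1)).subschemeι).obj F, (J ^ (n + 1)).subschemeι ⁻¹ᵁ W)
      r hrk r le_rfl
    rw [hfitt r] at h0
    have h3 : (1 : Γ((J ^ (n + 1)).subscheme, (J ^ (n + 1)).subschemeι ⁻¹ᵁ W)) ∈
        Ideal.map ((J ^ (n + 1)).subschemeι.appLE W ((J ^ (n + 1)).subschemeι ⁻¹ᵁ W) le_rfl).hom
          (Fitt.ideal Γ(X, W) Γ(F, W) r) := by
      rw [h0]; trivial
    rw [Ideal.mem_map_iff_of_surjective _ hsurj] at h3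
    obtain ⟨d, hd, hd1⟩ := h3
    have h4 : d - 1 ∈ RingHom.ker
        ((J ^ (n + 1)).subschemeι.appLE W ((J ^ (n + 1)).subschemeι ⁻¹ᵁ W) le_rfl).hom := by
      rw [RingHom.mem_ker, map_sub, hd1, map_one, sub_self]
    rw [hker] at h4
    have h5 := p.sub_mem (hle hd) (hKp h4)
    rw [sub_sub_cancel] at h5
    exact hp.ne_top ((Ideal.eq_top_iff_one _).2 h5)

/-- local freeness of rank `r` near points of the support of `J` -/
theorem local_free [IsLocallyNoetherian X] (hF : Coh.IsCoh F) (r : ℕ)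
    (h : ∀ n : ℕ, FlatMod.IsFinLocFreeOfRank r
      ((Scheme.Modules.pullback (J ^ (n + 1)).subschemeι).obj F))
    (x : X) (hx : x ∈ J.support) :
    ∃ U : X.Opens, x ∈ U ∧ Nonempty (F.restrict U.ι ≅ FlatMod.freeMod (↑U) r) := by
  haveI : F.IsQuasicoherent := hF.1
  obtain ⟨_, ⟨W, hW, rfl⟩, hxW, -⟩ := X.isBasis_affineOpens.exists_subset_of_mem_open
      (Set.mem_univ x) isOpen_univ
  haveI : IsNoetherianRing Γ(X, W) := IsLocallyNoetherian.component_noetherian ⟨W, hW⟩
  haveI : Module.Finite Γ(X, W) Γ(F, W) := CohSk1.finite_sections F hW hF.2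
  have hKp : J.ideal ⟨W, hW⟩ ≤ (hW.primeIdealOf ⟨x, hxW⟩).asIdeal :=
    (Groth.Agent.Lead.FittSh.mem_support_iff_le J hW ⟨x, hxW⟩).1 hx
  have hbot : ∀ n j, j < r → Fitt.ideal Γ(X, W) Γ(F, W) j ≤ (J.ideal ⟨W, hW⟩) ^ (n + 1) :=
    fun n j hj => (level_fitt J F r n (h n) hW).1 j hj
  have htop : ¬ Fitt.ideal Γ(X, W) Γ(F, W) r ≤ (hW.primeIdealOf ⟨x, hxW⟩).asIdeal :=
    (level_fitt J F r 0 (h 0) hW).2 _ inferInstance (by rw [zero_add, pow_one]; exact hKp)
  obtain ⟨h₀, hh₀, hfree, hrank⟩ := local_alg (J.ideal ⟨W, hW⟩) Γ(F, W) r hbot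
    (hW.primeIdealOf ⟨x, hxW⟩).asIdeal hKp htop
  haveI : Nontrivial (Localization.Away h₀) :=
    nontrivial_away_of_notMem (hW.primeIdealOf ⟨x, hxW⟩).asIdeal h₀ hh₀
  refine ⟨X.basicOpen h₀, (Groth.Agent.Lead.SD.mem_basicOpen_iff hW ⟨x, hxW⟩ h₀).2 hh₀, ?_⟩
  exact Groth.Agent.Lead.SL.free_basicOpen_of_basis F hW h₀ r (Module.finBasisOfFinrankEq _ _ hrank)

end Geo

section Glob

theorem mem_support_idealSpec (A : Type u) [CommRing A] (I : Ideal A) (q : PrimeSpectrum A)
    (hq : I ≤ q.asIdeal) :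
    (show ↥(Spec (CommRingCat.of A)) from q) ∈ (FSch.idealSpec A I).support := by
  have h := Scheme.Hom.support_ker (Spec.map (CommRingCat.ofHom (Ideal.Quotient.mk I)))
  show _ ∈ ((FSch.idealSpec A I).support : Set ↥(Spec (CommRingCat.of A)))
  unfold FSch.idealSpec
  rw [h]
  apply subset_closure
  have h1 := _root_.range_comap_of_surjective (A ⧸ I) (Ideal.Quotient.mk I)
    Ideal.Quotient.mk_surjective
  rw [Ideal.mk_ker] at h1
  have h2 : q ∈ PrimeSpectrum.zeroLocus (I : Set A) := by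
    rw [PrimeSpectrum.mem_zeroLocus]
    exact hq
  rw [← h1] at h2
  exact h2

theorem main (A : Type u) [CommRing A] [IsNoetherianRing A]
    (I : Ideal A) [IsAdicComplete I A] (X : Scheme.{u}) (f : X ⟶ Spec (CommRingCat.of A))
    [IsProper f] (F : X.Modules) (hF : Coh.IsCoh F) (r : ℕ)
    (h : ∀ n : ℕ, FlatMod.IsFinLocFreeOfRank r
      ((Scheme.Modules.pullback
        (FSch.completionToX X ((FSch.idealSpec A I).comap f) n)).obj F)) :
    FlatMod.IsFinLocFreeOfRank r F := by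
  haveI : IsLocallyNoetherian X := LocallyOfFiniteType.isLocallyNoetherian f
  have hloc := local_free ((FSch.idealSpec A I).comap f) F hF r h
  -- the free locus
  let U : Set X := {x | ∃ V : X.Opens, x ∈ V ∧ Nonempty (F.restrict V.ι ≅ FlatMod.freeMod (↑V) r)}
  have hUo : IsOpen U := by
    rw [isOpen_iff_forall_mem_open]
    rintro x ⟨V, hxV, hV⟩
    exact ⟨V, fun y hy => ⟨V, hy, hV⟩, V.2, hxV⟩
  have hsupp : ∀ (x : X) (q : PrimeSpectrum A), f x = q → I ≤ q.asIdeal → x ∈ U := by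
    intro x q hfx hq
    apply hloc x
    rw [Scheme.IdealSheafData.support_comap]
    show f x ∈ (FSch.idealSpec A I).support
    rw [hfx]
    exact mem_support_idealSpec A I q hq
  intro x
  by_contra hx
  have hxU : x ∉ U := hx
  have hZ : IsClosed (f '' Uᶜ) := f.isClosedMap _ hUo.isClosed_compl
  obtain ⟨p, hp⟩ : ∃ p : PrimeSpectrum A, f x = p := ⟨_, rfl⟩
  obtain ⟨m, hm, hle⟩ := Ideal.exists_le_maximal p.asIdeal p.2.ne_top
  have hspec : p ⤳ (⟨m, hm.isPrime⟩ : PrimeSpectrum A) :=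
    (PrimeSpectrum.le_iff_specializes _ _).1 hle
  have hq : (⟨m, hm.isPrime⟩ : PrimeSpectrum A) ∈ f '' Uᶜ :=
    hspec.mem_closed hZ ⟨x, hxU, hp⟩
  obtain ⟨z, hz, hfz⟩ := hq
  have hIq : I ≤ m := (IsAdicComplete.le_jacobson_bot I).trans (sInf_le ⟨bot_le, hm⟩)
  exact hz (hsupp z _ hfz hIq)

end Glob

end Groth.Agent.Lib.Helper4.FComplFree1
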