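import Mathlib
import Groth.Prelude.Def_FEt

/-!
# faithfulness of restriction of finite etale covers (S0237, S0243) (helper4)
-/

set_option backward.isDefEq.respectTransparency.types false
set_option synthInstance.maxHeartbeats 400000
set_option autoImplicit false
set_option linter.unusedSectionVars false
set_option linter.style.haveILetI false
set_option linter.unusedSimpArgs false
universe u v w
open CategoryTheory CategoryTheory.Limits AlgebraicGeometry TopologicalSpace IsLocalRing

namespace Groth.Agent.Lib.Helper4.FEtFaithful1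

set_option backward.isDefEq.respectTransparency false in
theorem isOpenImmersion_equalizer_ι_left {S : Scheme.{u}} {X Y : Over S}
    [IsOpenImmersion (pullback.diagonal Y.hom)]
    (f g : X ⟶ Y) : IsOpenImmersion (equalizer.ι f g).left := by
  refine MorphismProperty.of_isPullback (P := @IsOpenImmersion)
    ((Limits.isPullback_equalizer_prod f g).map (Over.forget _)).flip ?_
  rw [← MorphismProperty.cancel_right_of_respectsIso @IsOpenImmersion _
    (Over.prodLeftIsoPullback Y Y).hom]
  convert! (inferInstance : IsOpenImmersion (pullback.diagonal Y.hom))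
  ext1 <;> simp [← Over.comp_left]

set_option backward.isDefEq.respectTransparency false in
/-- morphisms to a separated scheme with open diagonal agreeing on a dominant map are equal -/
theorem ext_of_isDominant_of_openDiagonal {X Y Z U : Scheme.{u}} {f g : X ⟶ Y}
    (s : Y ⟶ Z) [IsSeparated s] [IsOpenImmersion (pullback.diagonal s)] (h : f ≫ s = g ≫ s)
    (ι : U ⟶ X) [IsDominant ι] (hU : ι ≫ f = ι ≫ g) : f = g := by
  let X' : Over Z := Over.mk (f ≫ s)
  let Y' : Over Z := Over.mk s
  let U' : Over Z := Over.mk (ι ≫ f ≫ s)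
  let f' : X' ⟶ Y' := Over.homMk f
  let g' : X' ⟶ Y' := Over.homMk g
  let ι' : U' ⟶ X' := Over.homMk ι
  have : IsSeparated Y'.hom := ‹_›
  have : IsOpenImmersion (pullback.diagonal Y'.hom) := ‹_›
  have : IsDominant (equalizer.ι f' g').left := by
    apply +allowSynthFailures IsDominant.of_comp (equalizer.lift ι' ?_).left
    · rwa [← Over.comp_left, equalizer.lift_ι]
    · ext1; exact hU
  have : Surjective (equalizer.ι f' g').left :=
    surjective_of_isDominant_of_isClosed_range _ (Scheme.Hom.isClosedEmbedding _).isClosed_range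
  have : IsOpenImmersion (equalizer.ι f' g').left := isOpenImmersion_equalizer_ι_left f' g'
  have : IsIso (equalizer.ι f' g').left :=
    (isIso_iff_isOpenImmersion_and_surjective _).mpr ⟨inferInstance, inferInstance⟩
  rw [← cancel_epi (equalizer.ι f' g').left]
  exact congr($(equalizer.condition f' g').left)


set_option backward.isDefEq.respectTransparency false in
theorem S0237_main {X Y : Scheme.{u}} (f : X ⟶ Y) (h : DenseRange f.base) :
    (FEt.restrict f).Faithful := by
  refine ⟨fun {Z Z'} g g' heq => ?_⟩
  have h1 : pullback.fst Z.hom f ≫ g.left = pullback.fst Z.hom f ≫ g'.left := by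
    have := congr($(heq).left ≫ pullback.fst Z'.hom f)
    simpa [FEt.restrict, MorphismProperty.Over.pullback] using this
  have hZ' : IsFinite Z'.hom ∧ Etale Z'.hom := Z'.prop
  haveI := hZ'.1
  haveI := hZ'.2
  have hZ : IsFinite Z.hom ∧ Etale Z.hom := Z.prop
  haveI := hZ.1
  haveI := hZ.2
  haveI : IsOpenImmersion (pullback.diagonal Z'.hom) := inferInstance
  haveI : IsDominant (pullback.fst Z.hom f) := by
    constructor
    rw [DenseRange, Scheme.Pullback.range_fst]
    exact h.preimage Z.hom.isOpenMap
  have h2 := ext_of_isDominant_of_openDiagonal Z'.hom (by simp) (pullback.fst Z.hom f) h1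
  ext
  exact h2


set_option backward.isDefEq.respectTransparency false in
/-- morphisms to a separated scheme with open diagonal agreeing on a map whose range is contained
in no proper clopen subset are equal -/
theorem ext_of_clopen_of_openDiagonal {X Y Z U : Scheme.{u}} {f g : X ⟶ Y}
    (s : Y ⟶ Z) [IsSeparated s] [IsOpenImmersion (pullback.diagonal s)] (h : f ≫ s = g ≫ s)
    (ι : U ⟶ X) (hU : ι ≫ f = ι ≫ g)
    (hclopen : ∀ E : Set X, IsClopen E → Set.range ι ⊆ E → E = Set.univ) : f = g := by
  let X' : Over Z := Over.mk (f ≫ s)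
  let Y' : Over Z := Over.mk s
  let U' : Over Z := Over.mk (ι ≫ f ≫ s)
  let f' : X' ⟶ Y' := Over.homMk f
  let g' : X' ⟶ Y' := Over.homMk g
  let ι' : U' ⟶ X' := Over.homMk ι
  have : IsSeparated Y'.hom := ‹_›
  have : IsOpenImmersion (pullback.diagonal Y'.hom) := ‹_›
  have : IsOpenImmersion (equalizer.ι f' g').left := isOpenImmersion_equalizer_ι_left f' g'
  have hfac : (equalizer.lift ι' (show ι' ≫ f' = ι' ≫ g' by ext1; exact hU)).left ≫
      (equalizer.ι f' g').left = ι := by
    rw [← Over.comp_left, equalizer.lift_ι]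
    rfl
  have hE : Set.range (equalizer.ι f' g').left = Set.univ := by
    apply hclopen
    · exact ⟨(Scheme.Hom.isClosedEmbedding _).isClosed_range,
        (Scheme.Hom.isOpenEmbedding _).isOpen_range⟩
    · rw [← hfac]
      rintro _ ⟨u, rfl⟩
      exact ⟨_, rfl⟩
  have : Surjective (equalizer.ι f' g').left := ⟨Set.range_eq_univ.mp hE⟩
  have : IsIso (equalizer.ι f' g').left :=
    (isIso_iff_isOpenImmersion_and_surjective _).mpr ⟨inferInstance, inferInstance⟩
  rw [← cancel_epi (equalizer.ι f' g').left]
  exact congr($(equalizer.condition f' g').left)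

set_option backward.isDefEq.respectTransparency false in
theorem S0243_main {X Y : Scheme.{u}} (i : Y ⟶ X) [IsClosedImmersion i]
    (h : ∀ x : X, (connectedComponent x ∩ Set.range i.base).Nonempty) :
    (FEt.restrict i).Faithful := by
  refine ⟨fun {Z Z'} g g' heq => ?_⟩
  have h1 : pullback.fst Z.hom i ≫ g.left = pullback.fst Z.hom i ≫ g'.left := by
    have := congr($(heq).left ≫ pullback.fst Z'.hom i)
    simpa [FEt.restrict, MorphismProperty.Over.pullback] using this
  have hZ' : IsFinite Z'.hom ∧ Etale Z'.hom := Z'.prop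
  haveI := hZ'.1
  haveI := hZ'.2
  have hZ : IsFinite Z.hom ∧ Etale Z.hom := Z.prop
  haveI := hZ.1
  haveI := hZ.2
  haveI : IsOpenImmersion (pullback.diagonal Z'.hom) := inferInstance
  have h2 := ext_of_clopen_of_openDiagonal Z'.hom (by simp) (pullback.fst Z.hom i) h1 ?_
  · ext
    exact h2
  · intro E hE hsub
    rw [Scheme.Pullback.range_fst] at hsub
    by_contra hne
    obtain ⟨z, hz⟩ : ∃ z, z ∉ E := by
      by_contra hcon
      push Not at hcon
      exact hne (Set.eq_univ_of_forall hcon)
    have hF : IsClopen (Z.hom '' Eᶜ) :=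
      ⟨Z.hom.isClosedMap _ hE.compl.isClosed, Z.hom.isOpenMap _ hE.compl.isOpen⟩
    have hx : Z.hom z ∈ Z.hom '' Eᶜ := ⟨z, hz, rfl⟩
    obtain ⟨x', hx'c, hx'r⟩ := h (Z.hom z)
    obtain ⟨z', hz'F, hz'⟩ := hF.connectedComponent_subset hx hx'c
    apply hz'F
    apply hsub
    show Z.hom z' ∈ Set.range i
    rw [hz']
    exact hx'r

end Groth.Agent.Lib.Helper4.FEtFaithful1
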