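import Mathlib
import Groth.Prelude.Def_FEt
import Groth.Agent.S0981
import Groth.Agent.Lib.Helper4.Blanchard1

/-!
# pullback of finite etale covers along a proper flat morphism with reduced connected geometric fibres is fully faithful (descent of morphisms to quasi-finite targets) (helper4)
-/

set_option backward.isDefEq.respectTransparency.types false
set_option synthInstance.maxHeartbeats 400000
set_option autoImplicit false
set_option linter.unusedSectionVars false
set_option linter.style.haveILetI false
set_option linter.unusedSimpArgs false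
universe u v w
open CategoryTheory CategoryTheory.Limits AlgebraicGeometry TopologicalSpace Opposite

namespace Groth.Agent.Lib.Helper4.FEtFull1

section BC
variable {X S P T' : Scheme.{u}} (f : X ⟶ S) (g : T' ⟶ S) (fst' : P ⟶ X) (snd' : P ⟶ T')
  (h : IsPullback fst' snd' f g)

include h in
/-- geometric fibres of a base change are geometric fibres of the original morphism -/
theorem geomFibre_bc
    (hfib : ∀ (Ω : Type u) [Field Ω] [IsAlgClosed Ω] (s : Spec (CommRingCat.of Ω) ⟶ S),
      ConnectedSpace ↥(pullback f s) ∧ IsReduced (pullback f s))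
    (Ω : Type u) [Field Ω] [IsAlgClosed Ω] (t : Spec (CommRingCat.of Ω) ⟶ T') :
    ConnectedSpace ↥(pullback snd' t) ∧ IsReduced (pullback snd' t) := by
  have hp : IsPullback (pullback.fst snd' t ≫ fst') (pullback.snd snd' t) f (t ≫ g) :=
    (IsPullback.of_hasPullback snd' t).paste_horiz h
  let e : pullback snd' t ≅ pullback f (t ≫ g) := hp.isoPullback
  obtain ⟨hc, hr⟩ := hfib Ω (t ≫ g)
  constructor
  · exact e.hom.homeomorph.symm.surjective.connectedSpace e.hom.homeomorph.symm.continuous
  · exact isReduced_of_isOpenImmersion e.hom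

end BC


theorem isConnected_fibre {X S : Scheme.{u}} (f : X ⟶ S)
    (hfib : ∀ (Ω : Type u) [Field Ω] [IsAlgClosed Ω] (s : Spec (CommRingCat.of Ω) ⟶ S),
      ConnectedSpace ↥(pullback f s) ∧ IsReduced (pullback f s)) (s : S) :
    _root_.IsConnected (f ⁻¹' {s}) := by
  let Ω := AlgebraicClosure (S.residueField s)
  let ξ : Spec (CommRingCat.of Ω) ⟶ S :=
    Spec.map (CommRingCat.ofHom (algebraMap (S.residueField s) Ω)) ≫ S.fromSpecResidueField s
  have hr : Set.range ξ = {s} := by
    apply Set.Subset.antisymm
    · rintro _ ⟨z, rfl⟩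
      change (S.fromSpecResidueField s) _ = s
      exact Scheme.fromSpecResidueField_apply _ _
    · intro x hx
      rw [Set.mem_singleton_iff.1 hx]
      haveI : Nonempty ↥(Spec (CommRingCat.of Ω)) := inferInstanceAs (Nonempty (PrimeSpectrum Ω))
      obtain ⟨z⟩ : Nonempty ↥(Spec (CommRingCat.of Ω)) := inferInstance
      refine ⟨z, ?_⟩
      change (S.fromSpecResidueField s) _ = s
      exact Scheme.fromSpecResidueField_apply _ _
  haveI := (hfib Ω ξ).1
  have h1 : f ⁻¹' {s} = Set.range (pullback.fst f ξ) := by
    rw [Scheme.Pullback.range_fst, hr]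
  rw [h1, ← Set.image_univ]
  exact isConnected_univ.image _ (pullback.fst f ξ).continuous.continuousOn


section Main
variable {X S : Scheme.{u}} (f : X ⟶ S) [IsProper f] [Flat f] [LocallyOfFinitePresentation f]
  (hfib : ∀ (Ω : Type u) [Field Ω] [IsAlgClosed Ω] (s : Spec (CommRingCat.of Ω) ⟶ S),
      ConnectedSpace ↥(pullback f s) ∧ IsReduced (pullback f s))

include hfib in
theorem surjective_of_hfib : Surjective f :=
  ⟨fun s => by
    obtain ⟨x, hx⟩ := (isConnected_fibre f hfib s).nonempty
    exact ⟨x, hx⟩⟩

include hfib in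
/-- descent of morphisms to a finite (quasi-finite suffices) target along a base change of `f` -/
theorem exists_desc {A B : Scheme.{u}} (a : A ⟶ S) (b : B ⟶ S) [LocallyQuasiFinite b]
    (ψ : pullback a f ⟶ B) (hψ : ψ ≫ b = pullback.fst a f ≫ a) :
    ∃ χ : A ⟶ B, pullback.fst a f ≫ χ = ψ := by
  have hp : IsPullback (pullback.snd a f) (pullback.fst a f) f a :=
    (IsPullback.of_hasPullback a f).flip
  have hfib' := geomFibre_bc f a _ _ hp hfib
  haveI : Surjective (pullback.fst a f) :=
    surjective_of_hfib (pullback.fst a f) hfib'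
  have hiso : ∀ U : A.Opens, IsIso ((pullback.fst a f).app U) := fun U =>
    Groth.Agent.S0981.result (pullback.fst a f)
      (fun K _ _ g => ⟨(hfib' K g).2, (hfib' K g).1⟩) U
  refine Groth.Agent.Lib.Helper4.Blanchard1.exists_fac_top (pullback.fst a f) ψ hiso
    (pullback.fst a f).surjective (pullback.fst a f).isClosedMap ?_
  intro z₁ z₂ hz
  refine (isConnected_fibre (pullback.fst a f) hfib' (pullback.fst a f z₁)).isPreconnected.constant_of_mapsTo
    (b.isDiscrete_preimage_singleton (a (pullback.fst a f z₁))) ψ.continuous.continuousOn ?_ rfl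
    hz.symm
  intro w hw
  change b (ψ w) = _
  rw [← Scheme.Hom.comp_apply, hψ, Scheme.Hom.comp_apply]
  exact congrArg _ hw

include hfib in
theorem main_S0264 : (FEt.restrict f).Full ∧ (FEt.restrict f).Faithful := by
  haveI : Surjective f := surjective_of_hfib f hfib
  constructor
  · refine ⟨fun {A B} ψ => ?_⟩
    haveI : IsFinite B.hom := B.prop.1
    obtain ⟨ψl, hψl⟩ : ∃ ψl : pullback A.hom f ⟶ pullback B.hom f, ψl = ψ.left := ⟨ψ.left, rfl⟩
    have h1 : ψl ≫ pullback.snd B.hom f = pullback.snd A.hom f := by
      rw [hψl]; exact MorphismProperty.Over.w ψ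
    have hw : (ψl ≫ pullback.fst B.hom f) ≫ B.hom = pullback.fst A.hom f ≫ A.hom := by
      rw [Category.assoc, pullback.condition, ← Category.assoc, h1, pullback.condition]
    obtain ⟨χ, hχ⟩ := exists_desc f hfib A.hom B.hom (ψl ≫ pullback.fst B.hom f) hw
    haveI : Epi (pullback.fst A.hom f) := Flat.epi_of_flat_of_surjective _
    have hχw : χ ≫ B.hom = A.hom := by
      rw [← cancel_epi (pullback.fst A.hom f), ← Category.assoc, hχ, hw]
    refine ⟨MorphismProperty.Over.homMk χ hχw trivial, ?_⟩
    ext
    change pullback.lift (pullback.fst A.hom f ≫ χ) (pullback.snd A.hom f) _ = ψ.left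
    rw [← hψl]
    apply pullback.hom_ext
    · rw [pullback.lift_fst, hχ]
    · rw [pullback.lift_snd, h1]
  · refine ⟨fun {A B} χ₁ χ₂ h => ?_⟩
    haveI : Epi (pullback.fst A.hom f) := Flat.epi_of_flat_of_surjective _
    ext
    rw [← cancel_epi (pullback.fst A.hom f)]
    have h1 := congrArg (fun φ => φ.left) h
    change pullback.lift (pullback.fst A.hom f ≫ χ₁.left) (pullback.snd A.hom f) _ =
      pullback.lift (pullback.fst A.hom f ≫ χ₂.left) (pullback.snd A.hom f) _ at h1
    have h2 := congrArg (fun φ => φ ≫ pullback.fst B.hom f) h1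
    simp only [pullback.lift_fst] at h2
    exact h2

end Main

end Groth.Agent.Lib.Helper4.FEtFull1
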