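import Mathlib
import Groth.Prelude.Def_FEt
import Groth.Agent.Lib.Helper4.RelHartogs1

/-!
# Restriction of finite etale covers across depth >= 2 loci is fully faithful (S0259, S0258) (helper4)
-/

set_option backward.isDefEq.respectTransparency.types false
set_option synthInstance.maxHeartbeats 400000
set_option autoImplicit false
set_option linter.unusedSectionVars false
set_option linter.style.haveILetI false
set_option linter.unusedSimpArgs false
universe u v w
open CategoryTheory CategoryTheory.Limits AlgebraicGeometry TopologicalSpace IsLocalRing Opposite Topology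
open Groth.Agent.Lib.Helper4.RelHartogs1

namespace Groth.Agent.Lib.Helper4.FEtHartogs1

theorem key {X Y₁ Y₂ : Scheme.{u}} [IsLocallyNoetherian X] (U : X.Opens)
    (h : ∀ x : X, x ∉ U → (2 : ℕ∞) ≤ LocCoh.depth (X.presheaf.stalk x) (X.presheaf.stalk x))
    (a : Y₁ ⟶ X) (b : Y₂ ⟶ X) [IsFinite a] [Etale a] [IsFinite b]
    (ψ : pullback a U.ι ⟶ Y₂) (hψ : ψ ≫ b = pullback.fst a U.ι ≫ a) :
    ∃! g : Y₁ ⟶ Y₂, g ≫ b = a ∧ pullback.fst a U.ι ≫ g = ψ := by
  haveI : IsLocallyNoetherian Y₁ := LocallyOfFiniteType.isLocallyNoetherian a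
  exact relHartogs_flat a b U h (pullback.fst a U.ι)
    (by rw [Scheme.Hom.opensRange_pullbackFst, Scheme.Opens.opensRange_ι]) ψ hψ

theorem restrict_full_faithful {X : Scheme.{u}} [IsLocallyNoetherian X] (U : X.Opens)
    (h : ∀ x : X, x ∉ U → (2 : ℕ∞) ≤ LocCoh.depth (X.presheaf.stalk x) (X.presheaf.stalk x)) :
    (FEt.restrict U.ι).Full ∧ (FEt.restrict U.ι).Faithful := by
  constructor
  · constructor
    intro A B χ
    haveI : IsFinite (A.hom : A.left ⟶ X) := A.prop.1
    haveI : Etale (A.hom : A.left ⟶ X) := A.prop.2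
    haveI : IsFinite (B.hom : B.left ⟶ X) := B.prop.1
    obtain ⟨c, hc⟩ : ∃ c : pullback (A.hom : A.left ⟶ X) U.ι ⟶ pullback (B.hom : B.left ⟶ X) U.ι,
      c = χ.left := ⟨_, rfl⟩
    have hw : c ≫ pullback.snd (B.hom : B.left ⟶ X) U.ι = pullback.snd (A.hom : A.left ⟶ X) U.ι := by
      rw [hc]
      exact MorphismProperty.Over.w χ
    obtain ⟨g, ⟨hg1, hg2⟩, -⟩ := key U h (A.hom : A.left ⟶ X) (B.hom : B.left ⟶ X)
      (c ≫ pullback.fst (B.hom : B.left ⟶ X) U.ι) (by
        rw [Category.assoc, pullback.condition, ← Category.assoc, hw, pullback.condition])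
    refine ⟨MorphismProperty.Over.homMk g hg1 trivial, ?_⟩
    apply MorphismProperty.Over.Hom.ext
    rw [← hc]
    show pullback.lift (pullback.fst (A.hom : A.left ⟶ X) U.ι ≫ g)
      (pullback.snd (A.hom : A.left ⟶ X) U.ι) _ = c
    apply pullback.hom_ext
    · rw [pullback.lift_fst, hg2]
    · rw [pullback.lift_snd, hw]
  · constructor
    intro A B g g' hgg
    haveI : IsFinite (A.hom : A.left ⟶ X) := A.prop.1
    haveI : Etale (A.hom : A.left ⟶ X) := A.prop.2
    haveI : IsFinite (B.hom : B.left ⟶ X) := B.prop.1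
    apply MorphismProperty.Over.Hom.ext
    obtain ⟨γ, hγ⟩ : ∃ γ : A.left ⟶ B.left, γ = g.left := ⟨_, rfl⟩
    obtain ⟨γ', hγ'⟩ : ∃ γ' : A.left ⟶ B.left, γ' = g'.left := ⟨_, rfl⟩
    have hγw : γ ≫ (B.hom : B.left ⟶ X) = A.hom := by rw [hγ]; exact MorphismProperty.Over.w g
    have hγ'w : γ' ≫ (B.hom : B.left ⟶ X) = A.hom := by rw [hγ']; exact MorphismProperty.Over.w g'
    have h1 : pullback.fst (A.hom : A.left ⟶ X) U.ι ≫ γ = pullback.fst (A.hom : A.left ⟶ X) U.ι ≫ γ' := by
      have e1 : ((FEt.restrict U.ι).map g).left ≫ pullback.fst (B.hom : B.left ⟶ X) U.ι =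
          pullback.fst (A.hom : A.left ⟶ X) U.ι ≫ γ := by
        rw [hγ]; exact pullback.lift_fst _ _ _
      have e2 : ((FEt.restrict U.ι).map g').left ≫ pullback.fst (B.hom : B.left ⟶ X) U.ι =
          pullback.fst (A.hom : A.left ⟶ X) U.ι ≫ γ' := by
        rw [hγ']; exact pullback.lift_fst _ _ _
      rw [← e1, ← e2, hgg]
    obtain ⟨g₀, -, hu⟩ := key U h (A.hom : A.left ⟶ X) (B.hom : B.left ⟶ X)
      (pullback.fst (A.hom : A.left ⟶ X) U.ι ≫ γ) (by rw [Category.assoc, hγw])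
    show g.left = g'.left
    rw [← hγ, ← hγ', hu γ ⟨hγw, rfl⟩, hu γ' ⟨hγ'w, h1.symm⟩]


theorem S0259_main {X : Scheme.{u}} [IsNoetherian X] (U : X.Opens) (hU : Dense (U : Set X))
    (h : ∀ x : X, x ∉ U → (2 : ℕ∞) ≤ LocCoh.depth (X.presheaf.stalk x) (X.presheaf.stalk x)) :
    (FEt.restrict U.ι).Full ∧ (FEt.restrict U.ι).Faithful :=
  restrict_full_faithful U h

theorem S0258_main (A : Type u) [CommRing A] [IsNoetherianRing A] [IsLocalRing A]
    (hA : (2 : ℕ∞) ≤ LocCoh.depth A A) :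
    (FEt.restrict (FEt.puncturedSpec A).ι).Full ∧ (FEt.restrict (FEt.puncturedSpec A).ι).Faithful := by
  apply restrict_full_faithful
  intro x hx
  have hx' : x = closedPoint A := by
    by_contra hne
    exact hx hne
  subst hx'
  rw [Groth.Agent.Lib.Helper4.Hartogs4.depth_self_eq_of_ringEquiv
    (stalkClosedPointIso (CommRingCat.of A)).commRingCatIsoToRingEquiv.symm]
  exact hA

end Groth.Agent.Lib.Helper4.FEtHartogs1
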