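import Mathlib
import Groth.Prelude.Def_FEt
import Groth.Agent.Lib.Helper4.FEtHartogs1

/-!
# Sections of restricted finite etale covers of punctured spectra (S0263) (helper4)
-/

set_option backward.isDefEq.respectTransparency.types false
set_option synthInstance.maxHeartbeats 400000
set_option autoImplicit false
set_option linter.unusedSectionVars false
set_option linter.style.haveILetI false
set_option linter.unusedSimpArgs false
universe u v w
open CategoryTheory CategoryTheory.Limits AlgebraicGeometry TopologicalSpace IsLocalRing Opposite Topology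
open Groth.Agent.Lib.Helper4.RelHartogs1

namespace Groth.Agent.Lib.Helper4.FEtHartogs2

lemma isIso_map_of_eq {T : Scheme.{u}} (R : T.Opens)
    (hbij : ∀ W : T.Opens,
      Function.Bijective (T.presheaf.map (homOfLE (inf_le_left : W ⊓ R ≤ W)).op))
    (A : T.Opens) (hA : A = ⊤ ⊓ R) (hle : A ≤ ⊤) : IsIso (T.presheaf.map (homOfLE hle).op) := by
  subst hA
  rw [ConcreteCategory.isIso_iff_bijective]
  exact hbij ⊤

theorem isIso_appTop_of_hbij {T U' : Scheme.{u}} (i : U' ⟶ T) [IsOpenImmersion i]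
    (hbij : ∀ W : T.Opens,
      Function.Bijective (T.presheaf.map (homOfLE (inf_le_left : W ⊓ i.opensRange ≤ W)).op)) :
    IsIso i.appTop := by
  have e₁ : (⊤ : U'.Opens) ≤ i ⁻¹ᵁ i.opensRange := by
    intro x _; exact ⟨x, rfl⟩
  haveI h1 : IsIso (i.appLE i.opensRange ⊤ e₁) := isIso_appLE_opensRange i e₁
  haveI h2 : IsIso (T.presheaf.map (homOfLE (le_top : i.opensRange ≤ ⊤)).op) := by
    exact isIso_map_of_eq i.opensRange hbij _ (by simp) _
  have heq : i.appTop = T.presheaf.map (homOfLE (le_top : i.opensRange ≤ ⊤)).op ≫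
      i.appLE i.opensRange ⊤ e₁ := by
    rw [Scheme.Hom.map_appLE, Scheme.Hom.appTop, Scheme.Hom.app_eq_appLE]
    rfl
  rw [heq]
  infer_instance

theorem depth_spec_local (A : Type u) [CommRing A] [IsNoetherianRing A] [IsLocalRing A]
    (hA : (2 : ℕ∞) ≤ LocCoh.depth A A) (x : Spec (CommRingCat.of A)) (hx : x ∉ FEt.puncturedSpec A) :
    (2 : ℕ∞) ≤ LocCoh.depth ((Spec (CommRingCat.of A)).presheaf.stalk x)
      ((Spec (CommRingCat.of A)).presheaf.stalk x) := by
  have hx' : x = closedPoint A := by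
    by_contra hne
    exact hx hne
  subst hx'
  rw [Groth.Agent.Lib.Helper4.Hartogs4.depth_self_eq_of_ringEquiv
    (stalkClosedPointIso (CommRingCat.of A)).commRingCatIsoToRingEquiv.symm]
  exact hA

theorem key263 {X Y V : Scheme.{u}} [IsLocallyNoetherian X] [IsAffine X] (U : X.Opens)
    (h : ∀ x : X, x ∉ U → (2 : ℕ∞) ≤ LocCoh.depth (X.presheaf.stalk x) (X.presheaf.stalk x))
    (y : Y ⟶ X) [IsFinite y] [Etale y] (v : V ⟶ U) (ε : pullback y U.ι ⟶ V) [IsIso ε]
    (hε : ε ≫ v = pullback.snd y U.ι) :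
    (v ≫ U.ι).appTop.hom.Finite ∧ (v ≫ U.ι).appTop.hom.Etale := by
  haveI : IsLocallyNoetherian Y := LocallyOfFiniteType.isLocallyNoetherian y
  haveI : IsAffine Y := isAffine_of_isAffineHom y
  have hb := hbij_of_depth Y (y ⁻¹ᵁ U) (depth_preimage_of_flat y U h)
  have hr : (pullback.fst y U.ι).opensRange = y ⁻¹ᵁ U := by
    rw [Scheme.Hom.opensRange_pullbackFst, Scheme.Opens.opensRange_ι]
  rw [← hr] at hb
  haveI : IsIso (pullback.fst y U.ι).appTop := isIso_appTop_of_hbij _ hb
  haveI : IsIso ε.appTop := inferInstanceAs (IsIso (ε.app ⊤))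
  have heq : (v ≫ U.ι).appTop = y.appTop ≫ (pullback.fst y U.ι).appTop ≫ inv ε.appTop := by
    rw [← Category.assoc, IsIso.eq_comp_inv, ← Scheme.Hom.comp_appTop, ← Scheme.Hom.comp_appTop,
      ← Category.assoc, hε, pullback.condition]
  have hfin : y.appTop.hom.Finite := Scheme.Hom.finite_appTop y
  have het : y.appTop.hom.Etale := (HasRingHomProperty.iff_of_isAffine (P := @Etale)).1 inferInstance
  have hbij' : Function.Bijective ((pullback.fst y U.ι).appTop ≫ inv ε.appTop).hom := by
    have : IsIso ((pullback.fst y U.ι).appTop ≫ inv ε.appTop) := inferInstance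
    rw [ConcreteCategory.isIso_iff_bijective] at this
    exact this
  rw [heq]
  constructor
  · exact RingHom.Finite.comp (RingHom.Finite.of_surjective _ hbij'.2) hfin
  · exact RingHom.Etale.stableUnderComposition _ _ het (RingHom.Etale.of_bijective hbij')

theorem S0263_main (A : Type u) [CommRing A] [IsNoetherianRing A] [IsLocalRing A] (hA : (2 : ℕ∞) ≤ LocCoh.depth A A)
    (V : FEt.Cat (FEt.puncturedSpec A : Scheme.{u}))
    (hV : ∃ Y : FEt.Cat (Spec (CommRingCat.of A)),
      Nonempty ((FEt.restrict (FEt.puncturedSpec A).ι).obj Y ≅ V)) :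
    ((Scheme.ΓSpecIso (CommRingCat.of A)).inv ≫ (V.hom ≫ (FEt.puncturedSpec A).ι).appTop).hom.Finite ∧
    ((Scheme.ΓSpecIso (CommRingCat.of A)).inv ≫ (V.hom ≫ (FEt.puncturedSpec A).ι).appTop).hom.Etale := by
  obtain ⟨Y, ⟨e⟩⟩ := hV
  haveI : IsFinite (Y.hom : Y.left ⟶ Spec (CommRingCat.of A)) := Y.prop.1
  haveI : Etale (Y.hom : Y.left ⟶ Spec (CommRingCat.of A)) := Y.prop.2
  obtain ⟨ε, hε⟩ : ∃ ε : pullback (Y.hom : Y.left ⟶ Spec (CommRingCat.of A)) (FEt.puncturedSpec A).ι ⟶ V.left,
      ε = e.hom.left := ⟨_, rfl⟩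
  haveI : IsIso ε := by
    rw [hε]
    exact (((MorphismProperty.Over.forget _ _ _ ⋙ Over.forget _).mapIso e)).isIso_hom
  have hw : ε ≫ (V.hom : V.left ⟶ (FEt.puncturedSpec A : Scheme.{u})) =
      pullback.snd (Y.hom : Y.left ⟶ Spec (CommRingCat.of A)) (FEt.puncturedSpec A).ι := by
    rw [hε]
    exact MorphismProperty.Over.w e.hom
  obtain ⟨h1, h2⟩ := key263 (FEt.puncturedSpec A) (depth_spec_local A hA)
    (Y.hom : Y.left ⟶ Spec (CommRingCat.of A)) (V.hom : V.left ⟶ (FEt.puncturedSpec A : Scheme.{u})) ε hw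
  have hbij' : Function.Bijective (Scheme.ΓSpecIso (CommRingCat.of A)).inv.hom := by
    have : IsIso (Scheme.ΓSpecIso (CommRingCat.of A)).inv := inferInstance
    rw [ConcreteCategory.isIso_iff_bijective] at this
    exact this
  constructor
  · exact RingHom.Finite.comp h1 (RingHom.Finite.of_surjective _ hbij'.2)
  · exact RingHom.Etale.stableUnderComposition _ _ (RingHom.Etale.of_bijective hbij') h2

end Groth.Agent.Lib.Helper4.FEtHartogs2
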