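import Mathlib
import Groth.Prelude.Def_AlgGrp
import Groth.Agent.Lib.Helper7.SepPt.Main
import Groth.Agent.Lib.Helper7.SmoothBC.GeomRed

/-!
# points over a separably closed extension are dense in a smooth scheme; normality of smooth subgroups tested on such points (helper4)
-/

set_option backward.isDefEq.respectTransparency.types false
set_option synthInstance.maxHeartbeats 400000
set_option autoImplicit false
set_option linter.unusedSectionVars false
set_option linter.style.haveILetI false
set_option linter.unusedSimpArgs false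
universe u v w
open CategoryTheory CategoryTheory.Limits AlgebraicGeometry TopologicalSpace Opposite
open MonoidalCategory CartesianMonoidalCategory MonObj GrpObj

namespace Groth.Agent.Lib.Helper4.SepPtsDense1

/-- a smooth nonempty scheme over `k` has a point over any separably closed extension -/
theorem exists_pt_of_sepClosed (k K : Type u) [Field k] [Field K] [Algebra k K] [IsSepClosed K]
    (X : Scheme.{u}) (p : X ⟶ Spec (CommRingCat.of k)) [Smooth p] [Nonempty X] :
    ∃ x : Spec (CommRingCat.of K) ⟶ X,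
      x ≫ p = Spec.map (CommRingCat.ofHom (algebraMap k K)) := by
  let y : Spec (CommRingCat.of K) ⟶ Spec (CommRingCat.of k) :=
    Spec.map (CommRingCat.ofHom (algebraMap k K))
  haveI : Surjective p :=
    ⟨fun z => ⟨Classical.arbitrary _, Subsingleton.elim _ _⟩⟩
  let F := pullback p y
  haveI : Smooth (pullback.snd p y) := inferInstance
  haveI : Surjective (pullback.snd p y) := inferInstance
  obtain ⟨z, -⟩ := (pullback.snd p y).surjective (Classical.arbitrary _)
  obtain ⟨z', hz'⟩ := F.affineCover.covers z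
  haveI : Nonempty (F.affineCover.X (F.affineCover.idx z)) := ⟨z'⟩
  haveI : Smooth (F.affineCover.f (F.affineCover.idx z) ≫ pullback.snd p y) :=
    inferInstance
  obtain ⟨s, hs⟩ := Groth.Agent.Helper7.SepPt.exists_section_of_smooth_affine K
    (Z := F.affineCover.X (F.affineCover.idx z)) ⟨_, rfl⟩
    (F.affineCover.f (F.affineCover.idx z) ≫ pullback.snd p y)
  refine ⟨s ≫ F.affineCover.f (F.affineCover.idx z) ≫ pullback.fst p y, ?_⟩
  show (s ≫ F.affineCover.f (F.affineCover.idx z) ≫ pullback.fst p y) ≫ p = y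
  rw [Category.assoc, Category.assoc, pullback.condition, ← Category.assoc, ← Category.assoc]
  rw [Category.assoc s, hs, Category.id_comp]

/-- a closed subscheme of a smooth `k`-scheme containing all `K`-points is everything -/
theorem surjective_of_pts (k K : Type u) [Field k] [Field K] [Algebra k K] [IsSepClosed K]
    (X : Scheme.{u}) (p : X ⟶ Spec (CommRingCat.of k)) [Smooth p] {E : Scheme.{u}} (j : E ⟶ X)
    [IsClosedImmersion j]
    (h : ∀ x : Spec (CommRingCat.of K) ⟶ X,
      x ≫ p = Spec.map (CommRingCat.ofHom (algebraMap k K)) →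
        ∃ l : Spec (CommRingCat.of K) ⟶ E, l ≫ j = x) : Surjective j := by
  rw [surjective_iff]
  by_contra hns
  let U : X.Opens := ⟨(Set.range j.base)ᶜ, j.isClosedEmbedding.isClosed_range.isOpen_compl⟩
  have hne : Nonempty U := by
    rw [Function.Surjective] at hns
    push Not at hns
    obtain ⟨x, hx⟩ := hns
    exact ⟨⟨x, fun ⟨y, hy⟩ => hx y hy⟩⟩
  haveI : Nonempty (U : Scheme.{u}) := hne
  haveI : Smooth (U.ι ≫ p) := inferInstance
  obtain ⟨x, hx⟩ := exists_pt_of_sepClosed k K U (U.ι ≫ p)
  obtain ⟨l, hl⟩ := h (x ≫ U.ι) (by rw [Category.assoc, hx])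
  let pt : Spec (CommRingCat.of K) := Classical.arbitrary _
  have h1 : (x ≫ U.ι).base pt ∈ (U : Set X) := by
    rw [Scheme.Hom.comp_base]
    exact (x.base pt).2
  have h2 : (x ≫ U.ι).base pt ∈ Set.range j.base := ⟨l.base pt, by rw [← hl]; rfl⟩
  exact h1 h2

theorem main_S8000 (k K : Type u) [Field k] [Field K] [Algebra k K]
    [IsSepClosed K] (G H : Over (Spec (CommRingCat.of k))) [GrpObj G] [GrpObj H]
    [Smooth G.hom] [Smooth H.hom]
    (i : H ⟶ G) [IsClosedImmersion i.left]
    (hK : ∀ g : Over.mk (Spec.map (CommRingCat.ofHom (algebraMap k K))) ⟶ G,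
      ∀ h : Over.mk (Spec.map (CommRingCat.ofHom (algebraMap k K))) ⟶ H,
      ∃ h' : Over.mk (Spec.map (CommRingCat.ofHom (algebraMap k K))) ⟶ H,
        g * (h ≫ i) * g⁻¹ = h' ≫ i) :
    AlgGrp.IsNormalHom i := by
  let c : G ⊗ H ⟶ G := fst G H * (snd G H ≫ i) * (fst G H)⁻¹
  have hc : ∀ (T : Over (Spec (CommRingCat.of k))) (g : T ⟶ G) (n : T ⟶ H),
      lift g n ≫ c = g * (n ≫ i) * g⁻¹ := by
    intro T g n
    simp only [c, MonObj.comp_mul, GrpObj.comp_inv, lift_fst, lift_snd_assoc]
  let j := pullback.fst c.left i.left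
  haveI : IsClosedImmersion j := inferInstance
  haveI : Smooth (G ⊗ H).hom := by
    rw [← Over.w (snd G H)]
    haveI : Smooth (snd G H).left := by
      show Smooth (pullback.snd G.hom H.hom)
      infer_instance
    infer_instance
  haveI : Surjective j := by
    refine surjective_of_pts k K (G ⊗ H).left (G ⊗ H).hom j (fun x hx => ?_)
    let xO : Over.mk (Spec.map (CommRingCat.ofHom (algebraMap k K))) ⟶ G ⊗ H := Over.homMk x hx
    obtain ⟨h', hh'⟩ := hK (xO ≫ fst G H) (xO ≫ snd G H)
    have e1 : xO ≫ c = h' ≫ i := by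
      rw [← hh', ← hc]
      congr 1
      ext <;> simp
    exact ⟨pullback.lift x h'.left (congrArg (fun t => t.left) e1), pullback.lift_fst _ _ _⟩
  haveI : IsReduced (G ⊗ H).left :=
    Groth.Agent.Helper7.SmoothBC.isReduced_of_smooth_over_field k (G ⊗ H).hom
  haveI : IsIso j := isIso_of_isClosedImmersion_of_surjective j
  let c'l : (G ⊗ H).left ⟶ H.left := inv j ≫ pullback.snd c.left i.left
  have hc'l : c'l ≫ i.left = c.left := by
    rw [Category.assoc, ← pullback.condition, IsIso.inv_hom_id_assoc]
  let c' : G ⊗ H ⟶ H := Over.homMk c'l (by rw [← Over.w i, ← Category.assoc, hc'l, Over.w])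
  have hc' : c' ≫ i = c := by
    ext
    exact hc'l
  intro T g n
  exact ⟨lift g n ≫ c', by rw [Category.assoc, hc', hc]⟩

end Groth.Agent.Lib.Helper4.SepPtsDense1
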