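import Mathlib
import Groth.Prelude.Def_Flat
import Groth.Agent.Lib.Helper4.FibTransl1
import Groth.Agent.Lib.Helper4.FibDimBC2
import Groth.Agent.Lib.Helper4.ConnHartogs1
import Groth.Agent.Lib.Helper4.GrpIrr1

/-!
# fibres of a morphism from an abelian variety are equidimensional (S7799) (helper4)
-/

set_option backward.isDefEq.respectTransparency.types false
set_option synthInstance.maxHeartbeats 400000
set_option autoImplicit false
set_option linter.unusedSectionVars false
set_option linter.style.haveILetI false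
set_option linter.unusedSimpArgs false
universe u v w
open CategoryTheory CategoryTheory.Limits AlgebraicGeometry TopologicalSpace Opposite
open MonoidalCategory CartesianMonoidalCategory MonObj GrpObj
open Groth.Agent.Lib.Helper4.GrpIrr1

namespace Groth.Agent.Lib.Helper4.FibEqui1

section A
variable {k : Type u} [Field k] (X : Over (Spec (CommRingCat.of k))) [GrpObj X] [IsProper X.hom]
  [GeometricallyIntegral X.hom]
  {Y : Scheme.{u}} (q : Y ⟶ Spec (CommRingCat.of k)) [IsSeparated q] (f : X.left ⟶ Y)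
  (hf : f ≫ q = X.hom)

include hf in
theorem fibreDimAt_le_of_rational [LocallyOfFiniteType f]
    (c z a : 𝟙_ (Over (Spec (CommRingCat.of k))) ⟶ X) (ha : a * c = z)
    (pt : ↥(Spec (CommRingCat.of k))) :
    FlatMor.fibreDimAt f (c.left pt) ≤ FlatMor.fibreDimAt f (z.left pt) := by
  rw [Groth.Agent.Lib.Helper4.Chev9.fibreDimAt_eq_localDim_preimage f (c.left pt) _ rfl,
    Groth.Agent.Lib.Helper4.Chev9.fibreDimAt_eq_localDim_preimage f (z.left pt) _ rfl]
  haveI : Subsingleton ↥(Spec (CommRingCat.of k)) :=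
    inferInstanceAs (Subsingleton (PrimeSpectrum k))
  haveI : LocallyOfFiniteType X.hom := inferInstance
  haveI : IsLocallyNoetherian X.left := LocallyOfFiniteType.isLocallyNoetherian X.hom
  haveI : CompactSpace X.left := QuasiCompact.compactSpace_of_compactSpace X.hom
  haveI : IsNoetherian X.left := {}
  haveI : NoetherianSpace X.left := inferInstance
  obtain ⟨p, hp⟩ : ∃ p : ↥(f.base ⁻¹' {f (c.left pt)}), p = ⟨c.left pt, rfl⟩ := ⟨_, rfl⟩
  rw [← hp]
  have hopen : IsOpen (connectedComponent p) :=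
    Groth.Agent.Lib.Helper4.ConnHartogs1.isOpen_connectedComponent_of_noetherian p
  have h1 := Groth.Agent.Lib.Helper4.Chev2.localDim_openEmbedding
    (Subtype.val : ↥(connectedComponent p) → _) hopen.isOpenEmbedding_subtypeVal
    ⟨p, mem_connectedComponent⟩
  rw [← h1]
  have hsub := Groth.Agent.Lib.Helper4.FibTransl1.image_subset X q f hf c z a ha pt
  obtain ⟨T, hT⟩ : ∃ T : X ⟶ X, T = (toUnit X ≫ a) * 𝟙 X := ⟨_, rfl⟩
  rw [← hT] at hsub
  haveI : IsIso T := by rw [hT]; exact inferInstanceAs (IsIso (ltrans a))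
  haveI : IsIso T.left := inferInstanceAs (IsIso ((Over.forget _).map T))
  have hpt : T.left (c.left pt) = z.left pt := by
    have h1 : c ≫ T = z := by
      rw [hT, MonObj.comp_mul, Category.comp_id, ← Category.assoc,
        toUnit_unique (c ≫ toUnit X) (𝟙 _), Category.id_comp, ha]
    rw [← Scheme.Hom.comp_apply, ← Over.comp_left, h1]
  have hmem : ∀ u : ↥(connectedComponent p), T.left u.1.1 ∈ f.base ⁻¹' {f (z.left pt)} := by
    intro u
    apply connectedComponentIn_subset (f ⁻¹' {f (z.left pt)}) (z.left pt)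
    apply hsub
    refine ⟨u.1.1, ?_, rfl⟩
    rw [connectedComponentIn_eq_image (show c.left pt ∈ f ⁻¹' {f (c.left pt)} from rfl)]
    exact ⟨u.1, by rw [← hp]; exact u.2, rfl⟩
  obtain ⟨φ, hφ⟩ : ∃ φ : ↥(connectedComponent p) → ↥(f.base ⁻¹' {f (z.left pt)}),
      ∀ u, (φ u).1 = T.left u.1.1 := ⟨fun u => ⟨_, hmem u⟩, fun _ => rfl⟩
  have hφc : Continuous φ := by
    rw [Topology.IsInducing.subtypeVal.continuous_iff]
    have : Subtype.val ∘ φ = fun u : ↥(connectedComponent p) => T.left u.1.1 := funext hφ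
    rw [this]
    exact T.left.continuous.comp (continuous_subtype_val.comp continuous_subtype_val)
  have hφi : Topology.IsInducing φ := by
    apply Topology.IsInducing.of_comp hφc continuous_subtype_val
    have : Subtype.val ∘ φ = T.left ∘ Subtype.val ∘ Subtype.val := funext hφ
    rw [this]
    exact T.left.isOpenEmbedding.isInducing.comp
      (Topology.IsInducing.subtypeVal.comp Topology.IsInducing.subtypeVal)
  have hφp : φ ⟨p, mem_connectedComponent⟩ = ⟨z.left pt, rfl⟩ := by
    apply Subtype.ext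
    rw [hφ, hp]
    exact hpt
  have := Groth.Agent.Lib.Helper4.Chev9.localDim_le_of_isInducing φ hφi ⟨p, mem_connectedComponent⟩
  rwa [hφp] at this

include hf in
theorem fibreDimAt_eq_of_rational [LocallyOfFiniteType f]
    (c z : 𝟙_ (Over (Spec (CommRingCat.of k))) ⟶ X) (pt : ↥(Spec (CommRingCat.of k))) :
    FlatMor.fibreDimAt f (c.left pt) = FlatMor.fibreDimAt f (z.left pt) :=
  le_antisymm (fibreDimAt_le_of_rational X q f hf c z (z * c⁻¹) (inv_mul_cancel_right z c) pt)
    (fibreDimAt_le_of_rational X q f hf z c (c * z⁻¹) (inv_mul_cancel_right c z) pt)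

include hf in
theorem fibreDimAt_bc (L : Type u) [Field L] [Algebra k L] [LocallyOfFiniteType f]
    (σ : 𝟙_ (Over (Spec (CommRingCat.of L))) ⟶ (bcF L).obj X) :
    FlatMor.fibreDimAt f (bcπ X L (σ.left (IsLocalRing.closedPoint L))) =
      FlatMor.fibreDimAt f (ept X) := by
  set g₀ := Spec.map (CommRingCat.ofHom (algebraMap k L)) with hg₀
  have hXL : ((bcF L).obj X).hom = pullback.snd X.hom g₀ := rfl
  have hw : (bcπ X L ≫ f) ≫ q = ((bcF L).obj X).hom ≫ g₀ := by
    rw [Category.assoc, hf, hXL, bcπ]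
    exact pullback.condition
  obtain ⟨fL, hfL⟩ : ∃ fL : ((bcF L).obj X).left ⟶ pullback q g₀,
      fL = pullback.lift (bcπ X L ≫ f) ((bcF L).obj X).hom hw := ⟨_, rfl⟩
  have hfL1 : fL ≫ pullback.fst q g₀ = bcπ X L ≫ f := by rw [hfL]; exact pullback.lift_fst _ _ _
  have hfL2 : fL ≫ pullback.snd q g₀ = ((bcF L).obj X).hom := by
    rw [hfL]; exact pullback.lift_snd _ _ _
  have hbig : IsPullback (bcπ X L) (fL ≫ pullback.snd q g₀) (f ≫ q) g₀ := by
    rw [hfL2, hf, hXL, bcπ]
    exact IsPullback.of_hasPullback X.hom _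
  have hsq : IsPullback (bcπ X L) fL f (pullback.fst q g₀) :=
    IsPullback.of_bot hbig hfL1.symm (IsPullback.of_hasPullback q g₀)
  haveI : LocallyOfFiniteType fL := MorphismProperty.of_isPullback hsq inferInstance
  haveI : IsProper ((bcF L).obj X).hom := by rw [hXL]; infer_instance
  haveI : GeometricallyIntegral ((bcF L).obj X).hom := by rw [hXL]; infer_instance
  have h1 := fibreDimAt_eq_of_rational ((bcF L).obj X) (pullback.snd q g₀) fL hfL2 σ
    η[(bcF L).obj X] (IsLocalRing.closedPoint L)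
  rw [Groth.Agent.Lib.Helper4.FibDimBC2.fibreDimAt_abs f (pullback.fst q g₀) (bcπ X L) fL hsq,
    Groth.Agent.Lib.Helper4.FibDimBC2.fibreDimAt_abs f (pullback.fst q g₀) (bcπ X L) fL hsq] at h1
  rw [h1]
  congr 1
  exact bcπ_ept X L

include hf in
theorem fibreDimAt_eq_ept [LocallyOfFiniteType f] (x : X.left) :
    FlatMor.fibreDimAt f x = FlatMor.fibreDimAt f (ept X) := by
  obtain ⟨φ, hφ⟩ : ∃ φ : CommRingCat.of k ⟶ X.left.residueField x,
      Spec.map φ = X.left.fromSpecResidueField x ≫ X.hom := ⟨Spec.preimage _, Spec.map_preimage _⟩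
  letI alg : Algebra k (X.left.residueField x) := φ.hom.toAlgebra
  have hφ' : Spec.map (CommRingCat.ofHom (algebraMap k (X.left.residueField x))) =
      X.left.fromSpecResidueField x ≫ X.hom := by
    rw [← hφ]; rfl
  obtain ⟨σl, hσl⟩ : ∃ σl : Spec (CommRingCat.of (X.left.residueField x)) ⟶
      ((bcF (X.left.residueField x)).obj X).left,
      σl = pullback.lift (X.left.fromSpecResidueField x) (𝟙 _) (by rw [Category.id_comp, hφ']) :=
    ⟨_, rfl⟩
  have h1 : σl ≫ bcπ X (X.left.residueField x) = X.left.fromSpecResidueField x := by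
    rw [hσl, bcπ]; exact pullback.lift_fst _ _ _
  have h2 : σl ≫ ((bcF (X.left.residueField x)).obj X).hom = 𝟙 _ := by
    rw [hσl]; exact pullback.lift_snd _ _ _
  obtain ⟨σ, hσ⟩ : ∃ σ : 𝟙_ (Over (Spec (CommRingCat.of (X.left.residueField x)))) ⟶
      (bcF (X.left.residueField x)).obj X, σ.left = σl := ⟨Over.homMk σl h2, rfl⟩
  have e : bcπ X (X.left.residueField x)
      (σ.left (IsLocalRing.closedPoint (X.left.residueField x))) = x := by
    rw [hσ, ← Scheme.Hom.comp_apply, h1]
    exact X.left.fromSpecResidueField_apply x _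
  have := fibreDimAt_bc X q f hf (X.left.residueField x) σ
  rwa [e] at this

end A

open Groth.Agent.Lib.Helper4.FibDim4 Groth.Agent.Lib.Helper4.PropDim1 Groth.Agent.Lib.Helper4.Aff2
  Groth.Agent.Lib.Helper4.LocNoethFib1 Groth.Agent.Lib.Helper4.FlatDimK1
  Groth.Agent.Lib.Helper4.FibDimBC2 Groth.Agent.Lib.Helper4.FibDim1 in
theorem main_S7799 (k : Type u) [Field k] (X : Over (Spec (CommRingCat.of k)))
    [GrpObj X] [IsProper X.hom] [GeometricallyIntegral X.hom]
    {Y : Scheme.{u}} (q : Y ⟶ Spec (CommRingCat.of k)) [IsSeparated q] (f : X.left ⟶ Y)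
    (hf : f ≫ q = X.hom) :
    ∃ d : ℕ, ∀ (y : Y) (Z : Set ↥(f.fiber y)), Z ∈ irreducibleComponents ↥(f.fiber y) →
      topologicalKrullDim ↥Z = d := by
  haveI : LocallyOfFiniteType (f ≫ q) := by rw [hf]; infer_instance
  haveI : LocallyOfFiniteType f := locallyOfFiniteType_of_comp f q
  obtain ⟨z', -, -, hz'max⟩ := exists_fibreMax_ge f (ept X)
  refine ⟨tr f z', ?_⟩
  intro y T hT
  obtain ⟨w, hwmax, rfl⟩ := exists_isMax_closure_eq (f.fiber y) T hT
  rw [dim_closure_of_field (Y.residueField y) (f.fiberToSpecResidueField y) w, tr_fiber]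
  have hmax' := fibreMax_of_fiber_max f y w (eq_of_isMax_of_specializes w hwmax)
  have h3 := fibreDimAt_eq_tr_of_max f _ hmax'
  have h4 := fibreDimAt_eq_tr_of_max f z' hz'max
  rw [← h3, fibreDimAt_eq_ept X q f hf, ← fibreDimAt_eq_ept X q f hf z', h4]

end Groth.Agent.Lib.Helper4.FibEqui1
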