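import Mathlib
import Groth.Agent.S0116

/-!
# fibres locally Noetherian: fppf local on the source (uses S0116) (helper4)
-/

set_option backward.isDefEq.respectTransparency.types false
set_option synthInstance.maxHeartbeats 400000
set_option autoImplicit false
set_option linter.unusedSectionVars false
set_option linter.style.haveILetI false
set_option linter.unusedSimpArgs false
universe u v w
open CategoryTheory CategoryTheory.Limits AlgebraicGeometry

namespace Groth.Agent.Lib.Helper4.FibNoeth1

/-- The map of fibre products induced by `a : X' ⟶ X` is a base change of `a`. -/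
theorem isPullback_map_comp {X X' Y K : Scheme.{u}} (f : X ⟶ Y) (a : X' ⟶ X) (k : K ⟶ Y) :
    IsPullback (pullback.map (a ≫ f) k f k a (𝟙 _) (𝟙 _) (by simp) (by simp))
      (pullback.fst (a ≫ f) k) (pullback.fst f k) a := by
  refine IsPullback.of_right (h₁₂ := pullback.snd f k) (h₂₂ := f) (v₁₃ := k) ?_
    (pullback.lift_fst _ _ _)
    (IsPullback.of_hasPullback f k).flip
  have : pullback.map (a ≫ f) k f k a (𝟙 _) (𝟙 _) (by simp) (by simp) ≫ pullback.snd f k =
      pullback.snd (a ≫ f) k := (pullback.lift_snd _ _ _).trans (Category.comp_id _)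
  rw [this]
  exact (IsPullback.of_hasPullback (a ≫ f) k).flip

theorem S1406_main {X X' Y : Scheme.{u}} (f : X ⟶ Y) (a : X' ⟶ X) [Flat a] [LocallyOfFinitePresentation a] [Surjective a] :
    (∀ y : Y, IsLocallyNoetherian (f.fiber y)) ↔ ∀ y : Y, IsLocallyNoetherian ((a ≫ f).fiber y) := by
  have key : ∀ y : Y, ∃ m : (a ≫ f).fiber y ⟶ f.fiber y, Flat m ∧ LocallyOfFinitePresentation m ∧
      Surjective m := by
    intro y
    have hpb := isPullback_map_comp f a (Y.fromSpecResidueField y)
    refine ⟨pullback.map (a ≫ f) (Y.fromSpecResidueField y) f (Y.fromSpecResidueField y) a (𝟙 _) (𝟙 _)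
      (by simp) (by simp), ?_, ?_, ?_⟩
    · exact MorphismProperty.of_isPullback (P := @Flat) hpb.flip inferInstance
    · exact MorphismProperty.of_isPullback (P := @LocallyOfFinitePresentation) hpb.flip inferInstance
    · exact MorphismProperty.of_isPullback (P := @Surjective) hpb.flip inferInstance
  constructor
  · intro h y
    obtain ⟨m, -, hm, -⟩ := key y
    haveI := h y
    haveI := hm
    exact LocallyOfFiniteType.isLocallyNoetherian m
  · intro h y
    obtain ⟨m, hm1, hm2, hm3⟩ := key y
    haveI := h y
    haveI := hm1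
    haveI := hm2
    haveI := hm3
    exact Groth.Agent.S0116.main m

end Groth.Agent.Lib.Helper4.FibNoeth1
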