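import Mathlib
import Groth.Agent.S0116

/-!
# fibres locally Noetherian: fppf local on the base (uses S0116) (helper4)
-/

set_option backward.isDefEq.respectTransparency.types false
set_option synthInstance.maxHeartbeats 400000
set_option autoImplicit false
set_option linter.unusedSectionVars false
set_option linter.style.haveILetI false
set_option linter.unusedSimpArgs false
universe u v w
open CategoryTheory CategoryTheory.Limits AlgebraicGeometry

namespace Groth.Agent.Lib.Helper4.FibNoeth2

/-- Part B: descent of local Noetherianity along affine faithfully flat morphisms. -/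
theorem isLocallyNoetherian_of_affine_flat_surjective {F F' : Scheme.{u}} (m : F' ⟶ F)
    [IsAffineHom m] [Flat m] [Surjective m] [IsLocallyNoetherian F'] : IsLocallyNoetherian F := by
  constructor
  rintro ⟨U, hU⟩
  haveI hUaff : IsAffine (U : Scheme.{u}) := hU
  haveI hU'aff : IsAffine ((m ⁻¹ᵁ U : F'.Opens) : Scheme.{u}) := hU.preimage m
  haveI : Flat (m ∣_ U) := IsZariskiLocalAtTarget.restrict ‹_› U
  haveI : Surjective (m ∣_ U) := IsZariskiLocalAtTarget.restrict ‹_› U
  have hff : (m ∣_ U).appTop.hom.FaithfullyFlat :=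
    (Flat.flat_and_surjective_iff_faithfullyFlat_of_isAffine (m ∣_ U)).mp ⟨inferInstance, inferInstance⟩
  have h1 : IsNoetherianRing Γ(F', m ⁻¹ᵁ U) :=
    IsLocallyNoetherian.component_noetherian ⟨m ⁻¹ᵁ U, hU.preimage m⟩
  have h2 : IsNoetherianRing Γ((m ⁻¹ᵁ U : F'.Opens).toScheme, ⊤) :=
    isNoetherianRing_of_ringEquiv _ (m ⁻¹ᵁ U).topIso.symm.commRingCatIsoToRingEquiv
  let _ : Algebra Γ(U.toScheme, ⊤) Γ((m ⁻¹ᵁ U : F'.Opens).toScheme, ⊤) :=
    (m ∣_ U).appTop.hom.toAlgebra
  have hff' : Module.FaithfullyFlat Γ(U.toScheme, ⊤) Γ((m ⁻¹ᵁ U : F'.Opens).toScheme, ⊤) := hff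
  have h3 : IsNoetherianRing Γ(U.toScheme, ⊤) :=
    Groth.Agent.S0116.isNoetherianRing_of_faithfullyFlat Γ(U.toScheme, ⊤)
      Γ((m ⁻¹ᵁ U : F'.Opens).toScheme, ⊤)
  exact isNoetherianRing_of_ringEquiv _ U.topIso.commRingCatIsoToRingEquiv


/-- transfer of a ring hom property along a pushout square -/
theorem essFiniteType_of_isPushout {A B C P : CommRingCat.{u}} {f : A ⟶ B} {g : A ⟶ C}
    {inl : B ⟶ P} {inr : C ⟶ P} (h : IsPushout f g inl inr) (hg : g.hom.EssFiniteType) :
    inl.hom.EssFiniteType := by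
  have h1 : (pushout.inl f g).hom.EssFiniteType :=
    RingHom.EssFiniteType.isStableUnderBaseChange.pushout_inl
      RingHom.EssFiniteType.respectsIso f g hg
  have h2 : inl = pushout.inl f g ≫ h.isoPushout.inv := by simp
  rw [h2, CommRingCat.hom_comp]
  exact RingHom.EssFiniteType.respectsIso.1 _ h.isoPushout.symm.commRingCatIsoToRingEquiv h1

/-- Part A: base change along a ring map essentially of finite type preserves local Noetherianity. -/
theorem isLocallyNoetherian_of_isPullback_essFiniteType {F F' : Scheme.{u}} {R R' : CommRingCat.{u}}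
    (φ : R ⟶ R') (hφ : φ.hom.EssFiniteType) (p : F ⟶ Spec R) (q : F' ⟶ Spec R') (m : F' ⟶ F)
    (h : IsPullback m q p (Spec.map φ)) [IsLocallyNoetherian F] : IsLocallyNoetherian F' := by
  haveI : IsAffineHom m := MorphismProperty.of_isPullback (P := @IsAffineHom) h.flip inferInstance
  refine isLocallyNoetherian_of_affine_cover (ι := F.affineOpens)
    (S := fun U => ⟨m ⁻¹ᵁ U.1, U.2.preimage m⟩) ?_ ?_
  · rw [eq_top_iff]
    intro x _
    obtain ⟨_, ⟨U, hU, rfl⟩, hxU, -⟩ := F.isBasis_affineOpens.exists_subset_of_mem_open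
      (Set.mem_univ (m x)) isOpen_univ
    exact TopologicalSpace.Opens.mem_iSup.mpr ⟨⟨U, hU⟩, hxU⟩
  · rintro ⟨U, hU⟩
    haveI hUaff : IsAffine (U : Scheme.{u}) := hU
    haveI hU'aff : IsAffine ((m ⁻¹ᵁ U : F'.Opens) : Scheme.{u}) := hU.preimage m
    have hpb : IsPullback (m ∣_ U) ((m ⁻¹ᵁ U).ι ≫ q) (U.ι ≫ p) (Spec.map φ) :=
      (isPullback_morphismRestrict m U).paste_vert h
    have hpo := isPushout_appTop_of_isPullback hpb
    have hφ' : (Spec.map φ).appTop.hom.EssFiniteType := by
      have : (Spec.map φ).appTop = (Scheme.ΓSpecIso R).hom ≫ φ ≫ (Scheme.ΓSpecIso R').inv := by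
        simp
      rw [this, CommRingCat.hom_comp, CommRingCat.hom_comp]
      refine RingHom.EssFiniteType.comp ?_ (RingHom.EssFiniteType.comp hφ ?_)
      · exact RingHom.FiniteType.essFiniteType (RingHom.FiniteType.of_surjective _
          ((ConcreteCategory.isIso_iff_bijective (Scheme.ΓSpecIso R).hom).mp inferInstance).2)
      · exact RingHom.FiniteType.essFiniteType (RingHom.FiniteType.of_surjective _
          ((ConcreteCategory.isIso_iff_bijective (Scheme.ΓSpecIso R').inv).mp inferInstance).2)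
    have hE := essFiniteType_of_isPushout hpo hφ'
    have h1 : IsNoetherianRing Γ(F, U) := IsLocallyNoetherian.component_noetherian ⟨U, hU⟩
    have h2 : IsNoetherianRing Γ(U.toScheme, ⊤) :=
      isNoetherianRing_of_ringEquiv _ U.topIso.symm.commRingCatIsoToRingEquiv
    let _ : Algebra Γ(U.toScheme, ⊤) Γ((m ⁻¹ᵁ U : F'.Opens).toScheme, ⊤) :=
      (m ∣_ U).appTop.hom.toAlgebra
    have hE' : Algebra.EssFiniteType Γ(U.toScheme, ⊤) Γ((m ⁻¹ᵁ U : F'.Opens).toScheme, ⊤) := hE
    have h3 : IsNoetherianRing Γ((m ⁻¹ᵁ U : F'.Opens).toScheme, ⊤) :=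
      Algebra.EssFiniteType.isNoetherianRing Γ(U.toScheme, ⊤) _
    exact isNoetherianRing_of_ringEquiv _ (m ⁻¹ᵁ U).topIso.commRingCatIsoToRingEquiv


theorem essFiniteType_residueFieldMap {X Y : Scheme.{u}} (g : X ⟶ Y) [LocallyOfFiniteType g] (x : X) :
    (g.residueFieldMap x).hom.EssFiniteType :=
  RingHom.EssFiniteType.residueFieldMap (LocallyOfFiniteType.stalkMap g x)

theorem flat_SpecMap_of_field {K L : CommRingCat.{u}} (hK : IsField K) (φ : K ⟶ L) :
    Flat (Spec.map φ) := by
  rw [HasRingHomProperty.Spec_iff (P := @Flat)]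
  letI := hK.toField
  algebraize [φ.hom]
  show Module.Flat K L
  infer_instance

theorem S1405_main {X Y X' Y' : Scheme.{u}} (f : X ⟶ Y) (f' : X' ⟶ Y') (g' : X' ⟶ X) (g : Y' ⟶ Y) [Flat g] [LocallyOfFinitePresentation g] [Surjective g]
    (hc : IsPullback g' f' f g) :
    (∀ y : Y, IsLocallyNoetherian (f.fiber y)) ↔ ∀ y' : Y', IsLocallyNoetherian (f'.fiber y') := by
  constructor
  · intro h y'
    have hP := isPullback_fiberToSpecResidueField_of_isPullback hc y'
    exact @isLocallyNoetherian_of_isPullback_essFiniteType _ _ _ _ (g.residueFieldMap y')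
      (essFiniteType_residueFieldMap g y') _ _ _ hP (h (g y'))
  · intro h y
    obtain ⟨y', rfl⟩ := g.surjective y
    have hP := isPullback_fiberToSpecResidueField_of_isPullback hc y'
    obtain ⟨m, hm⟩ : ∃ m : f'.fiber y' ⟶ f.fiber (g y'),
        m = pullback.map f' (Y'.fromSpecResidueField y') f (Y.fromSpecResidueField (g y'))
        g' (Spec.map (g.residueFieldMap y')) g hc.w.symm (by simp) := ⟨_, rfl⟩
    rw [← hm] at hP
    haveI : Flat (Spec.map (g.residueFieldMap y')) := flat_SpecMap_of_field (Field.toIsField _) _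
    haveI : Surjective (Spec.map (g.residueFieldMap y')) := by
      constructor
      intro z
      exact ⟨IsLocalRing.closedPoint _, Subsingleton.elim (α := PrimeSpectrum _) _ _⟩
    have h1 : IsAffineHom m :=
      MorphismProperty.of_isPullback (P := @IsAffineHom) hP.flip inferInstance
    have h2 : Flat m :=
      MorphismProperty.of_isPullback (P := @Flat) hP.flip inferInstance
    have h3 : Surjective m :=
      MorphismProperty.of_isPullback (P := @Surjective) hP.flip inferInstance
    exact @isLocallyNoetherian_of_affine_flat_surjective _ _ m h1 h2 h3 (h y')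

end Groth.Agent.Lib.Helper4.FibNoeth2
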