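import Mathlib

/-!
# Exchange property TFAE for fibre kernels (helper4)
-/

set_option backward.isDefEq.respectTransparency.types false
set_option synthInstance.maxHeartbeats 400000
set_option autoImplicit false
set_option linter.unusedSectionVars false
set_option linter.style.haveILetI false
set_option linter.unusedSimpArgs false
universe u v w

namespace Groth.Agent.Lib.Helper4.FiberKer3
open TensorProduct

variable {A : Type u} [CommRing A] (p : Ideal A) [p.IsPrime]

/-- base change comparison `κ(p) ⊗_A X ≃ κ(p) ⊗_{A_p} X_p` -/
noncomputable def Φ (X : Type v) [AddCommGroup X] [Module A X] :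
    p.ResidueField ⊗[A] X ≃ₗ[p.ResidueField]
      p.ResidueField ⊗[Localization.AtPrime p] (LocalizedModule p.primeCompl X) :=
  (IsBaseChange.comp
    (IsLocalizedModule.isBaseChange p.primeCompl (Localization.AtPrime p)
      (LocalizedModule.mkLinearMap p.primeCompl X))
    (TensorProduct.isBaseChange (Localization.AtPrime p) (LocalizedModule p.primeCompl X)
      p.ResidueField)).equiv

theorem Φ_tmul (X : Type v) [AddCommGroup X] [Module A X] (c : p.ResidueField) (x : X) :
    Φ p X (c ⊗ₜ x) = c ⊗ₜ (LocalizedModule.mkLinearMap p.primeCompl X x) := by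
  unfold Φ
  rw [IsBaseChange.equiv_tmul]
  simp [TensorProduct.smul_tmul']

theorem Φ_natural {X Y : Type v} [AddCommGroup X] [Module A X] [AddCommGroup Y] [Module A Y]
    (φ : X →ₗ[A] Y) (z : p.ResidueField ⊗[A] X) :
    (LocalizedModule.map p.primeCompl φ).lTensor p.ResidueField (Φ p X z) =
      Φ p Y (φ.lTensor p.ResidueField z) := by
  induction z using TensorProduct.induction_on with
  | zero => simp
  | tmul c x =>
    rw [Φ_tmul, LinearMap.lTensor_tmul, LinearMap.lTensor_tmul, Φ_tmul]
    simp [LocalizedModule.map_mk]
  | add a b ha hb => simp only [map_add, ha, hb]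


theorem Φ_natural' {X Y : Type v} [AddCommGroup X] [Module A X] [AddCommGroup Y] [Module A Y]
    (φ : X →ₗ[A] Y) (z : p.ResidueField ⊗[A] X) :
    Φ p Y (φ.lTensor p.ResidueField z) =
      (LocalizedModule.map p.primeCompl φ).lTensor p.ResidueField (Φ p X z) :=
  (Φ_natural p φ z).symm

section local_part

variable {R : Type u} [CommRing R] {M' F' C' I' K' : Type w}
  [AddCommGroup M'] [Module R M'] [AddCommGroup F'] [Module R F'] [AddCommGroup C'] [Module R C']
  [AddCommGroup I'] [Module R I'] [AddCommGroup K'] [Module R K']

/-- the kernel of a surjection onto a projective module is a retract -/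
theorem exists_retraction_of_exact (ι : I' →ₗ[R] F') (q : F' →ₗ[R] C') (hι : Function.Injective ι)
    (hex : Function.Exact ι q) (hq : Function.Surjective q) [Module.Projective R C'] :
    ∃ r : F' →ₗ[R] I', r ∘ₗ ι = LinearMap.id := by
  obtain ⟨t, ht⟩ := Module.projective_lifting_property q LinearMap.id hq
  have htx : ∀ c, q (t c) = c := fun c => LinearMap.congr_fun ht c
  have hmem : ∀ x : F', ((LinearMap.id : F' →ₗ[R] F') - t ∘ₗ q) x ∈ LinearMap.range ι := by
    intro x
    rw [← hex.linearMap_ker_eq, LinearMap.mem_ker]
    simp only [LinearMap.sub_apply, LinearMap.id_apply, LinearMap.comp_apply, map_sub, htx,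
      sub_self]
  refine ⟨(LinearEquiv.ofInjective ι hι).symm.toLinearMap ∘ₗ
    ((LinearMap.id : F' →ₗ[R] F') - t ∘ₗ q).codRestrict (LinearMap.range ι) hmem, ?_⟩
  ext y
  simp only [LinearMap.comp_apply, LinearEquiv.coe_coe, LinearMap.id_apply]
  rw [LinearEquiv.symm_apply_eq]
  apply Subtype.ext
  have h0 : q (ι y) = 0 := hex.apply_apply_eq_zero y
  simp [h0]

/-- splitting of a two-step complex with projective cokernel -/
theorem exists_splitting (j : K' →ₗ[R] M') (d : M' →ₗ[R] I')
    (hj : Function.Injective j) (hjd : Function.Exact j d) (hd : Function.Surjective d)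
    [Module.Projective R I'] :
    ∃ (r : M' →ₗ[R] K') (s : I' →ₗ[R] M'), r ∘ₗ j = LinearMap.id ∧
      j ∘ₗ r + s ∘ₗ d = LinearMap.id := by
  obtain ⟨s, hs⟩ := Module.projective_lifting_property d LinearMap.id hd
  have hsx : ∀ c, d (s c) = c := fun c => LinearMap.congr_fun hs c
  have hmem : ∀ x : M', ((LinearMap.id : M' →ₗ[R] M') - s ∘ₗ d) x ∈ LinearMap.range j := by
    intro x
    rw [← hjd.linearMap_ker_eq, LinearMap.mem_ker]
    simp only [LinearMap.sub_apply, LinearMap.id_apply, LinearMap.comp_apply, map_sub, hsx,
      sub_self]
  refine ⟨(LinearEquiv.ofInjective j hj).symm.toLinearMap ∘ₗ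
    ((LinearMap.id : M' →ₗ[R] M') - s ∘ₗ d).codRestrict (LinearMap.range j) hmem, s, ?_, ?_⟩
  · ext y
    simp only [LinearMap.comp_apply, LinearEquiv.coe_coe, LinearMap.id_apply]
    rw [LinearEquiv.symm_apply_eq]
    apply Subtype.ext
    have h0 : d (j y) = 0 := hjd.apply_apply_eq_zero y
    simp [h0]
  · ext x
    simp only [LinearMap.add_apply, LinearMap.comp_apply, LinearEquiv.coe_coe, LinearMap.id_apply]
    have : j ((LinearEquiv.ofInjective j hj).symm
        (((LinearMap.id : M' →ₗ[R] M') - s ∘ₗ d).codRestrict (LinearMap.range j) hmem x)) =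
        ((LinearMap.id : M' →ₗ[R] M') - s ∘ₗ d) x := by
      have := (LinearEquiv.ofInjective j hj).apply_symm_apply
        (((LinearMap.id : M' →ₗ[R] M') - s ∘ₗ d).codRestrict (LinearMap.range j) hmem x)
      have h2 := congrArg Subtype.val this
      simpa using h2
    rw [this]
    simp

end local_part

section main

variable (M : Type v) (F : Type v) [AddCommGroup M] [Module A M] [Module.Finite A M]
    [AddCommGroup F] [Module A F] [Module.Finite A F] [Module.Free A F]
    (δ : M →ₗ[A] F)

/-- injectivity of `κ ⊗ im δ → κ ⊗ F` from exactness -/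
theorem lTensor_subtype_injective_of_exact
    (h : Function.Exact (LinearMap.lTensor p.ResidueField (LinearMap.ker δ).subtype)
        (LinearMap.lTensor p.ResidueField δ)) :
    Function.Injective (LinearMap.lTensor p.ResidueField (LinearMap.range δ).subtype) := by
  rw [injective_iff_map_eq_zero]
  intro y hy
  obtain ⟨m, rfl⟩ := LinearMap.lTensor_surjective p.ResidueField δ.surjective_rangeRestrict y
  have hδ : δ = (LinearMap.range δ).subtype ∘ₗ δ.rangeRestrict := by
    ext m; simp
  have h0 : LinearMap.lTensor p.ResidueField δ m = 0 := by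
    conv_lhs => rw [hδ, LinearMap.lTensor_comp, LinearMap.comp_apply]
    exact hy
  obtain ⟨z, rfl⟩ := (h m).1 h0
  rw [← LinearMap.comp_apply, ← LinearMap.lTensor_comp]
  have : δ.rangeRestrict ∘ₗ (LinearMap.ker δ).subtype = 0 := by
    ext k
    simp
  rw [this, LinearMap.lTensor_zero, LinearMap.zero_apply]

theorem free_coker_of_exact
    (h : Function.Exact (LinearMap.lTensor p.ResidueField (LinearMap.ker δ).subtype)
        (LinearMap.lTensor p.ResidueField δ)) :
    Module.Free (Localization.AtPrime p)
        (LocalizedModule p.primeCompl (F ⧸ LinearMap.range δ)) := by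
  have hinj := lTensor_subtype_injective_of_exact p M F δ h
  have hinj' : Function.Injective
      ((LocalizedModule.map p.primeCompl (LinearMap.range δ).subtype).lTensor p.ResidueField) := by
    rw [injective_iff_map_eq_zero]
    intro Y hY
    obtain ⟨y, rfl⟩ := (Φ p (LinearMap.range δ)).surjective Y
    rw [Φ_natural] at hY
    have := (Φ p F).injective (hY.trans (map_zero _).symm)
    rw [hinj (this.trans (map_zero _).symm), map_zero]
  haveI : Module.Free (Localization.AtPrime p) (LocalizedModule p.primeCompl F) :=
    Module.free_of_isLocalizedModule p.primeCompl (LocalizedModule.mkLinearMap p.primeCompl F)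
  exact Module.free_of_lTensor_residueField_injective
    (LocalizedModule.map p.primeCompl (LinearMap.range δ).subtype)
    (LocalizedModule.map p.primeCompl (LinearMap.range δ).mkQ)
    (LocalizedModule.map_surjective _ _ (Submodule.mkQ_surjective _))
    (LocalizedModule.map_exact _ _ _ (LinearMap.exact_subtype_mkQ _)) hinj'


theorem of_free_coker
    (hC : Module.Free (Localization.AtPrime p)
        (LocalizedModule p.primeCompl (F ⧸ LinearMap.range δ))) :
    (Function.Exact (LinearMap.lTensor p.ResidueField (LinearMap.ker δ).subtype)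
        (LinearMap.lTensor p.ResidueField δ) ∧
      Function.Injective (LinearMap.lTensor p.ResidueField (LinearMap.ker δ).subtype)) ∧
    Module.Free (Localization.AtPrime p)
        (LocalizedModule p.primeCompl (LinearMap.range δ)) := by
  haveI : Module.Free (Localization.AtPrime p) (LocalizedModule p.primeCompl F) :=
    Module.free_of_isLocalizedModule p.primeCompl (LocalizedModule.mkLinearMap p.primeCompl F)
  -- localized maps
  set jp := LocalizedModule.map p.primeCompl (LinearMap.ker δ).subtype with hjp
  set dp := LocalizedModule.map p.primeCompl δ.rangeRestrict with hdp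
  set ip := LocalizedModule.map p.primeCompl (LinearMap.range δ).subtype with hip
  set qp := LocalizedModule.map p.primeCompl (LinearMap.range δ).mkQ with hqp
  have hipinj : Function.Injective ip :=
    LocalizedModule.map_injective _ _ (Submodule.subtype_injective _)
  have hjpinj : Function.Injective jp :=
    LocalizedModule.map_injective _ _ (Submodule.subtype_injective _)
  have hqsurj : Function.Surjective qp :=
    LocalizedModule.map_surjective _ _ (Submodule.mkQ_surjective _)
  have hdsurj : Function.Surjective dp :=
    LocalizedModule.map_surjective _ _ δ.surjective_rangeRestrict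
  have hex1 : Function.Exact ip qp :=
    LocalizedModule.map_exact _ _ _ (LinearMap.exact_subtype_mkQ _)
  have hexK : Function.Exact (LinearMap.ker δ).subtype δ.rangeRestrict := by
    intro m
    constructor
    · intro hm
      exact ⟨⟨m, by
        rw [LinearMap.mem_ker]
        simpa using congrArg Subtype.val hm⟩, rfl⟩
    · rintro ⟨y, rfl⟩
      apply Subtype.ext
      simp
  have hex2 : Function.Exact jp dp := LocalizedModule.map_exact _ _ _ hexK
  obtain ⟨ri, hri⟩ := exists_retraction_of_exact ip qp hipinj hex1 hqsurj
  haveI hIproj : Module.Projective (Localization.AtPrime p)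
      (LocalizedModule p.primeCompl (LinearMap.range δ)) :=
    Module.Projective.of_split ip ri hri
  obtain ⟨rj, s, hrj, hsum⟩ := exists_splitting jp dp hjpinj hex2 hdsurj
  have hδ : δ = (LinearMap.range δ).subtype ∘ₗ δ.rangeRestrict := by
    ext m; simp
  have hKer : δ ∘ₗ (LinearMap.ker δ).subtype = 0 := by
    ext k; simp
  refine ⟨⟨?_, ?_⟩, Module.free_of_flat_of_isLocalRing⟩
  · intro y
    constructor
    · intro hy
      -- transfer to the local ring
      have h1 : (ip.lTensor p.ResidueField) ((dp.lTensor p.ResidueField) (Φ p M y)) = 0 := by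
        rw [hdp, hip, Φ_natural, Φ_natural, ← LinearMap.comp_apply, ← LinearMap.lTensor_comp,
          ← hδ, hy, map_zero]
      have hinj : Function.Injective (ip.lTensor p.ResidueField) := by
        apply Function.LeftInverse.injective (g := ri.lTensor p.ResidueField)
        intro w
        rw [← LinearMap.comp_apply, ← LinearMap.lTensor_comp, hri, LinearMap.lTensor_id,
          LinearMap.id_apply]
      have h2 : (dp.lTensor p.ResidueField) (Φ p M y) = 0 := hinj (h1.trans (map_zero _).symm)
      have h3 : Φ p M y = (jp.lTensor p.ResidueField) ((rj.lTensor p.ResidueField) (Φ p M y)) := by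
        have := congrArg (fun f => (LinearMap.lTensor p.ResidueField f) (Φ p M y)) hsum
        simp only [LinearMap.lTensor_add, LinearMap.lTensor_comp, LinearMap.add_apply,
          LinearMap.comp_apply, LinearMap.lTensor_id, LinearMap.id_apply, h2, map_zero,
          add_zero] at this
        exact this.symm
      obtain ⟨w, hw⟩ := (Φ p (LinearMap.ker δ)).surjective
        ((rj.lTensor p.ResidueField) (Φ p M y))
      refine ⟨w, (Φ p M).injective ?_⟩
      rw [h3, ← hw, hjp, Φ_natural]
    · rintro ⟨w, rfl⟩
      rw [← LinearMap.comp_apply, ← LinearMap.lTensor_comp, hKer, LinearMap.lTensor_zero,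
        LinearMap.zero_apply]
  · rw [injective_iff_map_eq_zero]
    intro z hz
    have h1 : (jp.lTensor p.ResidueField) (Φ p (LinearMap.ker δ) z) = 0 := by
      rw [hjp, Φ_natural, hz, map_zero]
    have hinj : Function.Injective (jp.lTensor p.ResidueField) := by
      apply Function.LeftInverse.injective (g := rj.lTensor p.ResidueField)
      intro w
      rw [← LinearMap.comp_apply, ← LinearMap.lTensor_comp, hrj, LinearMap.lTensor_id,
        LinearMap.id_apply]
    have := hinj (h1.trans (map_zero _).symm)
    exact (Φ p (LinearMap.ker δ)).injective (this.trans (map_zero _).symm)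

theorem main (A : Type u) [CommRing A] [IsNoetherianRing A]
    (M : Type v) (F : Type v) [AddCommGroup M] [Module A M] [Module.Finite A M]
    [AddCommGroup F] [Module A F] [Module.Finite A F] [Module.Free A F]
    (δ : M →ₗ[A] F) (p : Ideal A) [p.IsPrime] :
    [ Function.Exact (LinearMap.lTensor p.ResidueField (LinearMap.ker δ).subtype)
        (LinearMap.lTensor p.ResidueField δ),
      Function.Exact (LinearMap.lTensor p.ResidueField (LinearMap.ker δ).subtype)
        (LinearMap.lTensor p.ResidueField δ) ∧
        Function.Injective (LinearMap.lTensor p.ResidueField (LinearMap.ker δ).subtype),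
      Module.Free (Localization.AtPrime p)
        (LocalizedModule p.primeCompl (F ⧸ LinearMap.range δ)) ].TFAE ∧
    (Function.Exact (LinearMap.lTensor p.ResidueField (LinearMap.ker δ).subtype)
        (LinearMap.lTensor p.ResidueField δ) →
      Module.Free (Localization.AtPrime p)
        (LocalizedModule p.primeCompl (LinearMap.range δ))) := by
  refine ⟨?_, fun h => (of_free_coker p M F δ (free_coker_of_exact p M F δ h)).2⟩
  tfae_have 1 → 3 := free_coker_of_exact p M F δ
  tfae_have 3 → 2 := fun h => (of_free_coker p M F δ h).1
  tfae_have 2 → 1 := fun h => h.1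
  tfae_finish

end main

end Groth.Agent.Lib.Helper4.FiberKer3
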