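import Mathlib

/-!
# Unramifiedness and monomorphy via fibres (helper4)
-/

set_option backward.isDefEq.respectTransparency.types false
set_option synthInstance.maxHeartbeats 400000
set_option autoImplicit false
set_option linter.unusedSectionVars false
set_option linter.style.haveILetI false
set_option linter.unusedSimpArgs false
universe u v

namespace Groth.Agent.Lib.Helper4.FiberUnram
open TensorProduct

/-- A finite `B`-module all of whose fibres over `Spec A` vanish is zero. -/
lemma subsingleton_of_fiber {A B M : Type*} [CommRing A] [CommRing B] [Algebra A B]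
    [AddCommGroup M] [Module A M] [Module B M] [IsScalarTower A B M] [Module.Finite B M]
    (h : ∀ (p : Ideal A) [p.IsPrime], Subsingleton (p.ResidueField ⊗[A] M)) :
    Subsingleton M := by
  rw [← Module.support_eq_empty_iff (R := B)]
  by_contra hne
  obtain ⟨q, hq⟩ := Set.nonempty_iff_ne_empty.mpr hne
  rw [Module.mem_support_iff_nontrivial_residueField_tensorProduct] at hq
  let p : Ideal A := q.asIdeal.under A
  have : q.asIdeal.LiesOver p := ⟨rfl⟩
  have hs := h p
  -- κ(q) ⊗[A] M is trivial
  have h1 : Subsingleton (q.asIdeal.ResidueField ⊗[A] M) := by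
    refine subsingleton_of_forall_eq 0 fun x => ?_
    induction x using TensorProduct.induction_on with
    | zero => rfl
    | add x y hx hy => rw [hx, hy, add_zero]
    | tmul k m =>
      let g : p.ResidueField →ₗ[A] q.asIdeal.ResidueField :=
        (Ideal.ResidueField.mapₐ p q.asIdeal (Algebra.ofId A B) rfl).toLinearMap
      have h0 : (1 : p.ResidueField) ⊗ₜ[A] m = 0 := Subsingleton.elim _ _
      have h2 := congrArg (LinearMap.rTensor M g) h0
      simp only [LinearMap.rTensor_tmul, map_zero] at h2
      have h3 : g 1 = 1 := by simp [g]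
      rw [h3] at h2
      have : k ⊗ₜ[A] m = k • ((1 : q.asIdeal.ResidueField) ⊗ₜ[A] m) := by
        rw [TensorProduct.smul_tmul', smul_eq_mul, mul_one]
      rw [this, h2, smul_zero]
  have h2 : Subsingleton (q.asIdeal.ResidueField ⊗[B] M) :=
    (TensorProduct.mapOfCompatibleSMul_surjective B A A q.asIdeal.ResidueField M).subsingleton
  exact not_subsingleton _ h2


attribute [local instance] Algebra.TensorProduct.rightAlgebra in
lemma formallyUnramified_of_fiber {A B : Type u} [CommRing A] [CommRing B] [Algebra A B]
    [Algebra.FiniteType A B]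
    (h : ∀ (p : Ideal A) [p.IsPrime], Algebra.FormallyUnramified p.ResidueField (p.Fiber B)) :
    Algebra.FormallyUnramified A B := by
  rw [Algebra.formallyUnramified_iff]
  apply subsingleton_of_fiber (A := A) (B := B)
  intro p _
  have := (Algebra.formallyUnramified_iff _ _).mp (h p)
  exact (KaehlerDifferential.tensorKaehlerEquivBase A p.ResidueField B (p.Fiber B)).toEquiv.subsingleton


open AlgebraicGeometry CategoryTheory Limits

set_option backward.isDefEq.respectTransparency false in
/-- A morphism locally of finite type with formally unramified fibres is formally unramified. -/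
lemma FormallyUnramified.of_fiberToSpecResidueField {X Y : Scheme.{u}} (f : X ⟶ Y)
    [LocallyOfFiniteType f]
    (h : ∀ y, FormallyUnramified (f.fiberToSpecResidueField y)) :
    FormallyUnramified f := by
  wlog h : ∃ R, Y = Spec R
  · rw [IsZariskiLocalAtTarget.iff_of_openCover (P := @FormallyUnramified) Y.affineCover]
    intro i
    dsimp [Scheme.Cover.pullbackHom]
    refine this _ (fun y ↦ ?_) ⟨_, rfl⟩
    apply MorphismProperty.of_isPullback
    · exact isPullback_fiberToSpecResidueField_of_isPullback (IsPullback.of_hasPullback _ _) _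
    · infer_instance
  obtain ⟨R, rfl⟩ := h
  wlog h : ∃ S, X = Spec S generalizing f X
  · rw [IsZariskiLocalAtSource.iff_of_openCover (P := @FormallyUnramified) X.affineCover]
    intro i
    have _ (y) : FormallyUnramified (pullback.snd f ((Spec R).fromSpecResidueField y)) :=
      inferInstanceAs <| FormallyUnramified (f.fiberToSpecResidueField y)
    refine this _ (fun y ↦ ?_) ⟨_, rfl⟩
    rw [Scheme.Hom.fiberToSpecResidueField, ← pullbackRightPullbackFstIso_inv_snd_snd]
    exact MorphismProperty.comp_mem _ _ _ inferInstance
      (MorphismProperty.comp_mem _ _ _ inferInstance inferInstance)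
  obtain ⟨S, rfl⟩ := h
  obtain ⟨φ, rfl⟩ := Spec.map_surjective f
  simp only [HasRingHomProperty.Spec_iff] at *
  algebraize [φ.hom]
  change Algebra.FormallyUnramified R S
  refine formallyUnramified_of_fiber fun p hp ↦ ?_
  rw [← RingHom.formallyUnramified_algebraMap]
  rw [← CommRingCat.hom_ofHom (algebraMap p.ResidueField (p.Fiber ↑S)),
    ← HasRingHomProperty.Spec_iff (P := @FormallyUnramified),
    ← MorphismProperty.arrow_mk_iso_iff (P := @FormallyUnramified)
    (Spec.fiberToSpecResidueFieldIso R S ⟨p, hp⟩)]
  exact h ⟨p, hp⟩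


lemma universallyInjective_of_mono_fiber {X Y : Scheme.{u}} (f : X ⟶ Y)
    (h : ∀ y : Y, Mono (f.fiberToSpecResidueField y)) : UniversallyInjective f := by
  refine ((tfae_universallyInjective f).out 0 1).mpr ?_
  intro K _ g₁ g₂ hg
  dsimp only at hg
  obtain ⟨y, φ, hφ⟩ : ∃ (y : Y) (φ : Y.residueField y ⟶ .of K),
      g₁ ≫ f = Spec.map φ ≫ Y.fromSpecResidueField y := by
    refine ⟨(Y.SpecToEquivOfField K (g₁ ≫ f)).1, (Y.SpecToEquivOfField K (g₁ ≫ f)).2, ?_⟩
    conv_lhs => rw [← (Y.SpecToEquivOfField K).symm_apply_apply (g₁ ≫ f)]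
    rfl
  have hfib : IsPullback (f.fiberι y) (f.fiberToSpecResidueField y) f
      (Y.fromSpecResidueField y) := IsPullback.of_hasPullback _ _
  have := h y
  have e1 : hfib.lift g₁ (Spec.map φ) hφ = hfib.lift g₂ (Spec.map φ) (hg ▸ hφ) := by
    rw [← cancel_mono (f.fiberToSpecResidueField y)]
    simp
  calc g₁ = hfib.lift g₁ (Spec.map φ) hφ ≫ f.fiberι y := (hfib.lift_fst _ _ _).symm
    _ = hfib.lift g₂ (Spec.map φ) (hg ▸ hφ) ≫ f.fiberι y := by rw [e1]
    _ = g₂ := hfib.lift_fst _ _ _

theorem S3042_main (X Y : Scheme.{u}) (f : X ⟶ Y) [LocallyOfFiniteType f] :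
    Mono f ↔ ∀ y : Y, Mono (f.fiberToSpecResidueField y) := by
  constructor
  · intro hf y
    exact inferInstanceAs (Mono (pullback.snd f (Y.fromSpecResidueField y)))
  · intro h
    have h1 : UniversallyInjective f := universallyInjective_of_mono_fiber f h
    have h2 : FormallyUnramified f := by
      apply FormallyUnramified.of_fiberToSpecResidueField
      intro y
      have := h y
      have : IsIso (pullback.diagonal (f.fiberToSpecResidueField y)) :=
        (pullback.isIso_diagonal_iff _).mpr inferInstance
      infer_instance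
    have h3 : IsOpenImmersion (pullback.diagonal f) := inferInstance
    have h4 : Surjective (pullback.diagonal f) := (UniversallyInjective.iff_diagonal f).mp h1
    have h5 : IsIso (pullback.diagonal f) :=
      (isIso_iff_isOpenImmersion_and_surjective _).mpr ⟨h3, h4⟩
    exact (pullback.isIso_diagonal_iff f).mp h5

end Groth.Agent.Lib.Helper4.FiberUnram
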