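import Mathlib
import Groth.Agent.Lib.Helper4.FiberUnram

/-!
# Monomorphisms via stalks (helper4)
-/

set_option backward.isDefEq.respectTransparency.types false
set_option synthInstance.maxHeartbeats 400000
set_option autoImplicit false
set_option linter.unusedSectionVars false
set_option linter.style.haveILetI false
set_option linter.unusedSimpArgs false
universe u v

namespace Groth.Agent.Lib.Helper4.FiberUnram2
open AlgebraicGeometry CategoryTheory Limits IsLocalRing
open Groth.Agent.Lib.Helper4.FiberUnram

section alg
variable {R S : Type*} [CommRing R] [CommRing S] [IsLocalRing R] [IsLocalRing S]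
  (φ : R →+* S) [IsLocalHom φ]

lemma map_le_max : (maximalIdeal R).map φ ≤ maximalIdeal S :=
  ((local_hom_TFAE φ).out 0 2 rfl rfl).mp ‹_›

lemma L1 (h : Function.Bijective
    (Ideal.quotientMap ((maximalIdeal R).map φ) φ Ideal.le_comap_map)) :
    (maximalIdeal R).map φ = maximalIdeal S ∧ Function.Surjective (ResidueField.map φ) := by
  have hle := map_le_max φ
  have hfield : IsField (S ⧸ (maximalIdeal R).map φ) :=
    MulEquiv.isField (Field.toIsField (ResidueField R))
      (RingEquiv.ofBijective _ h).symm.toMulEquiv
  have hmax : ((maximalIdeal R).map φ).IsMaximal := Ideal.Quotient.maximal_of_isField _ hfield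
  have heq : (maximalIdeal R).map φ = maximalIdeal S := IsLocalRing.eq_maximalIdeal hmax
  refine ⟨heq, fun t => ?_⟩
  obtain ⟨s, rfl⟩ := residue_surjective t
  obtain ⟨r', hr'⟩ := h.surjective (Ideal.Quotient.mk _ s)
  obtain ⟨r, rfl⟩ := Ideal.Quotient.mk_surjective r'
  refine ⟨residue R r, ?_⟩
  rw [ResidueField.map_residue]
  rw [Ideal.quotientMap_mk, Ideal.Quotient.eq] at hr'
  rw [← sub_eq_zero, ← map_sub, residue_eq_zero_iff]
  exact hle hr'

lemma L2 (h1 : (maximalIdeal R).map φ = maximalIdeal S)
    (h2 : Function.Surjective (ResidueField.map φ)) :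
    Function.Bijective
      (Ideal.quotientMap ((maximalIdeal R).map φ) φ Ideal.le_comap_map) := by
  constructor
  · have : Nontrivial (S ⧸ (maximalIdeal R).map φ) := by
      rw [h1]; infer_instance
    exact RingHom.injective (R := ResidueField R) _
  · intro t
    obtain ⟨s, rfl⟩ := Ideal.Quotient.mk_surjective t
    obtain ⟨r', hr'⟩ := h2 (residue S s)
    obtain ⟨r, rfl⟩ := residue_surjective r'
    refine ⟨Ideal.Quotient.mk _ r, ?_⟩
    rw [ResidueField.map_residue, ← sub_eq_zero, ← map_sub, residue_eq_zero_iff] at hr'
    rw [Ideal.quotientMap_mk, Ideal.Quotient.eq, h1]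
    exact hr'
end alg

theorem S5017_main {X Y : Scheme.{u}} (f : X ⟶ Y) [LocallyOfFiniteType f] :
    Mono f ↔ ∀ x : ↥X,
      (∀ x' : ↥X, f.base x' = f.base x → x' = x) ∧
        Function.Bijective
          (Ideal.quotientMap
            ((IsLocalRing.maximalIdeal ↑(Y.presheaf.stalk (f.base x))).map (f.stalkMap x).hom)
            (f.stalkMap x).hom Ideal.le_comap_map) := by
  have key : UniversallyInjective f ↔
      (Function.Injective f ∧ ∀ x, (f.residueFieldMap x).hom.IsPurelyInseparable) :=
    (tfae_universallyInjective f).out 0 2
  constructor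
  · intro hf x
    have hui : UniversallyInjective f := inferInstance
    refine ⟨fun x' hx' => f.injective hx', ?_⟩
    have : IsIso (pullback.diagonal f) := (pullback.isIso_diagonal_iff f).mpr hf
    have hfu : FormallyUnramified f := inferInstance
    have hpi := (key.mp hui).2 x
    have hsep : letI : Algebra (Y.residueField (f.base x)) (X.residueField x) :=
      (f.residueFieldMap x).hom.toAlgebra
      Algebra.IsSeparable (Y.residueField (f.base x)) (X.residueField x) := inferInstance
    have hsurj : Function.Surjective (f.residueFieldMap x).hom := by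
      letI : Algebra (Y.residueField (f.base x)) (X.residueField x) :=
        (f.residueFieldMap x).hom.toAlgebra
      have : IsPurelyInseparable (Y.residueField (f.base x)) (X.residueField x) := hpi
      exact IsPurelyInseparable.surjective_algebraMap_of_isSeparable _ _
    apply L2 _ _ hsurj
    have h1 := FormallyUnramified.stalkMap f x
    algebraize [(f.stalkMap x).hom]
    have : IsLocalHom (algebraMap (Y.presheaf.stalk (f x)) (X.presheaf.stalk x)) :=
      inferInstanceAs <| IsLocalHom (f.stalkMap x).hom
    have : Algebra.EssFiniteType (Y.presheaf.stalk (f x)) (X.presheaf.stalk x) := by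
      rw [← RingHom.essFiniteType_algebraMap, RingHom.algebraMap_toAlgebra]
      exact LocallyOfFiniteType.stalkMap f x
    exact Algebra.FormallyUnramified.map_maximalIdeal
  · intro h
    have hinj : Function.Injective f := fun a b hab => (h b).1 a hab
    have hL := fun x => L1 _ (h x).2
    have h1 : UniversallyInjective f := by
      refine key.mpr ⟨hinj, fun x => ?_⟩
      have hs : Function.Surjective (f.residueFieldMap x).hom := (hL x).2
      rw [RingHom.IsPurelyInseparable]
      letI : Algebra (Y.residueField (f.base x)) (X.residueField x) :=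
        (f.residueFieldMap x).hom.toAlgebra
      rw [isPurelyInseparable_iff]
      intro t
      obtain ⟨r, rfl⟩ := hs t
      exact ⟨isIntegral_algebraMap, fun _ => ⟨r, rfl⟩⟩
    have h2 : FormallyUnramified f := by
      apply HasRingHomProperty.of_stalkMap RingHom.FormallyUnramified.ofLocalizationPrime
      intro x
      obtain ⟨hmax, hs⟩ := hL x
      algebraize [(f.stalkMap x).hom]
      have : IsLocalHom (algebraMap (Y.presheaf.stalk (f x)) (X.presheaf.stalk x)) :=
        inferInstanceAs <| IsLocalHom (f.stalkMap x).hom
      have : Algebra.EssFiniteType (Y.presheaf.stalk (f x)) (X.presheaf.stalk x) := by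
        rw [← RingHom.essFiniteType_algebraMap, RingHom.algebraMap_toAlgebra]
        exact LocallyOfFiniteType.stalkMap f x
      have hsep : Algebra.IsSeparable (ResidueField (Y.presheaf.stalk (f x)))
          (ResidueField (X.presheaf.stalk x)) := by
        refine ⟨fun t => ?_⟩
        obtain ⟨r, rfl⟩ := hs t
        exact isSeparable_algebraMap r
      exact Algebra.FormallyUnramified.of_map_maximalIdeal hmax
    have h3 : IsOpenImmersion (pullback.diagonal f) := inferInstance
    have h4 : Surjective (pullback.diagonal f) := (UniversallyInjective.iff_diagonal f).mp h1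
    have h5 : IsIso (pullback.diagonal f) :=
      (isIso_iff_isOpenImmersion_and_surjective _).mpr ⟨h3, h4⟩
    exact (pullback.isIso_diagonal_iff f).mp h5
end Groth.Agent.Lib.Helper4.FiberUnram2
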