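import Mathlib

/-!
# Finite levels of an integral closure: descent of tensor elements; closure of generic-fibre loci in prime spectra (helper4)
-/

set_option backward.isDefEq.respectTransparency.types false
set_option synthInstance.maxHeartbeats 400000
set_option autoImplicit false
set_option linter.unusedSectionVars false
set_option linter.style.haveILetI false
set_option linter.unusedSimpArgs false
universe u v w
open TensorProduct

namespace Groth.Agent.Lib.Helper4.FinLevel1

/-- in a prime spectrum, a point in the closure of the intersection of a closed set with the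
generic fibre (over a domain) is a specialization of a point of that intersection -/
theorem exists_specializes_of_mem_closure {C D : Type*} [CommRing C] [CommRing D] [IsDomain D]
    (ψ : D →+* C) (E : Set (PrimeSpectrum C)) (hE : IsClosed E) (p : PrimeSpectrum C)
    (hp : p ∈ closure (E ∩ {q | q.asIdeal.comap ψ = ⊥})) :
    ∃ q ∈ E, q.asIdeal.comap ψ = ⊥ ∧ q ⤳ p := by
  set I := PrimeSpectrum.vanishingIdeal E with hI
  have hEI : PrimeSpectrum.zeroLocus (I : Set C) = E := by
    rw [hI, PrimeSpectrum.zeroLocus_vanishingIdeal_eq_closure, hE.closure_eq]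
  set M : Submonoid C := p.asIdeal.primeCompl ⊔ (nonZeroDivisors D).map ψ with hM
  have hdisj : Disjoint (I : Set C) M := by
    rw [Set.disjoint_left]
    intro a haI haM
    rw [SetLike.mem_coe, hM, Submonoid.mem_sup] at haM
    obtain ⟨c, hc, z, hz, rfl⟩ := haM
    obtain ⟨r, hr, rfl⟩ := hz
    have hopen : IsOpen ((PrimeSpectrum.basicOpen c : TopologicalSpace.Opens (PrimeSpectrum C)) :
        Set (PrimeSpectrum C)) := (PrimeSpectrum.basicOpen c).2
    obtain ⟨q, hqc, hqE, hq0⟩ := mem_closure_iff.mp hp _ hopen hc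
    have hq0' : q.asIdeal.comap ψ = ⊥ := hq0
    have hIq : (I : Set C) ⊆ q.asIdeal := by
      rw [← hEI] at hqE
      exact hqE
    have hmem : c * ψ r ∈ q.asIdeal := hIq haI
    rcases q.isPrime.mem_or_mem hmem with h1 | h1
    · exact hqc h1
    · have : r ∈ q.asIdeal.comap ψ := h1
      rw [hq0', Ideal.mem_bot] at this
      exact (nonZeroDivisors.ne_zero hr) this
  obtain ⟨q, hq, hIq, hqM⟩ := Ideal.exists_le_prime_disjoint I M hdisj
  refine ⟨⟨q, hq⟩, ?_, ?_, ?_⟩
  · rw [← hEI]
    exact hIq
  · rw [eq_bot_iff]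
    intro r hr
    rw [Ideal.mem_bot]
    by_contra hr0
    have h1 : ψ r ∈ (q : Set C) := hr
    have h2 : ψ r ∈ (M : Set C) := by
      rw [SetLike.mem_coe, hM, Submonoid.mem_sup]
      exact ⟨1, Submonoid.one_mem _, ψ r, ⟨r, mem_nonZeroDivisors_of_ne_zero hr0, rfl⟩, one_mul _⟩
    exact Set.disjoint_left.mp hqM h1 h2
  · rw [← PrimeSpectrum.le_iff_specializes]
    intro c hc
    by_contra hcp
    have h2 : c ∈ (M : Set C) := by
      rw [SetLike.mem_coe, hM, Submonoid.mem_sup]
      exact ⟨c, hcp, 1, Submonoid.one_mem _, mul_one _⟩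
    exact Set.disjoint_left.mp hqM hc h2

section levels
variable (R : Type u) [CommRing R] (K : Type u) [Field K] [Algebra R K]
  (B : Type u) [CommRing B] [Algebra R B]

/-- every element of `B ⊗ Rν` comes from `B ⊗ S` for a finitely generated subalgebra `S` of the
integral closure `Rν` -/
theorem exists_fg_level (c : B ⊗[R] (integralClosure R K)) :
    ∃ (S : Subalgebra R K) (hS : S ≤ integralClosure R K), S.FG ∧
      c ∈ Set.range (Algebra.TensorProduct.map (AlgHom.id R B) (Subalgebra.inclusion hS)) := by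
  have mono : ∀ (S S' : Subalgebra R K) (hS : S ≤ integralClosure R K)
      (hS' : S' ≤ integralClosure R K) (hSS' : S ≤ S') (c : B ⊗[R] (integralClosure R K)),
      c ∈ Set.range (Algebra.TensorProduct.map (AlgHom.id R B) (Subalgebra.inclusion hS)) →
      c ∈ Set.range (Algebra.TensorProduct.map (AlgHom.id R B) (Subalgebra.inclusion hS')) := by
    rintro S S' hS hS' hSS' c ⟨c₀, rfl⟩
    refine ⟨Algebra.TensorProduct.map (AlgHom.id R B) (Subalgebra.inclusion hSS') c₀, ?_⟩
    rw [← AlgHom.comp_apply, ← Algebra.TensorProduct.map_comp]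
    rfl
  induction c using TensorProduct.induction_on with
  | zero => exact ⟨⊥, bot_le, Subalgebra.fg_bot, 0, map_zero _⟩
  | tmul b r =>
    refine ⟨Algebra.adjoin R {(r : K)}, ?_, Subalgebra.fg_adjoin_finset {(r : K)} |> (by simpa using ·), ?_⟩
    · rw [Algebra.adjoin_le_iff]
      rintro _ rfl
      exact r.2
    · refine ⟨b ⊗ₜ ⟨(r : K), Algebra.subset_adjoin rfl⟩, ?_⟩
      rw [Algebra.TensorProduct.map_tmul]
      rfl
  | add c₁ c₂ h₁ h₂ =>
    obtain ⟨S₁, hS₁, hfg₁, hc₁⟩ := h₁
    obtain ⟨S₂, hS₂, hfg₂, hc₂⟩ := h₂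
    refine ⟨S₁ ⊔ S₂, sup_le hS₁ hS₂, hfg₁.sup hfg₂, ?_⟩
    obtain ⟨a₁, ha₁⟩ := mono S₁ (S₁ ⊔ S₂) hS₁ (sup_le hS₁ hS₂) le_sup_left c₁ hc₁
    obtain ⟨a₂, ha₂⟩ := mono S₂ (S₁ ⊔ S₂) hS₂ (sup_le hS₁ hS₂) le_sup_right c₂ hc₂
    exact ⟨a₁ + a₂, by rw [map_add, ha₁, ha₂]⟩

/-- finitely generated subalgebras of the integral closure are finite -/
theorem finite_of_fg_le_integralClosure (S : Subalgebra R K) (hS : S ≤ integralClosure R K)
    (hfg : S.FG) : Module.Finite R S := by
  haveI : Algebra.FiniteType R S := (Subalgebra.fg_iff_finiteType S).mp hfg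
  haveI : Algebra.IsIntegral R S := by
    constructor
    intro s
    have h1 : IsIntegral R (s : K) := hS s.2
    exact (isIntegral_algHom_iff S.val Subtype.val_injective).mp h1
  exact Algebra.IsIntegral.finite

end levels

end Groth.Agent.Lib.Helper4.FinLevel1
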