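import Mathlib
import Groth.Prelude.Def_Cyc
import Groth.Agent.Lib.Helper4.JacDim1
import Groth.Prelude.Def_EGA43
import Groth.Agent.Lib.Helper4.FibreStalkDim1
import Groth.Agent.Lib.Helper4.DimFT1
import Groth.Agent.Lib.Helper4.DimFT2
import Groth.Agent.Lib.Helper4.Chev8
import Groth.Agent.Lib.Helper4.FibDim7
import Groth.Agent.Lib.Helper4.EffCartierDim1
import Groth.Agent.Lib.Helper4.JacDim4
import Groth.Agent.Lib.Helper4.Chev9
import Groth.Agent.Lib.Helper4.Chev10
import Groth.Agent.Lib.Helper4.Chev11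
import Groth.Agent.Lib.Helper4.Equi1
import Groth.Agent.Lib.Helper4.Equi2
import Groth.Agent.Lib.Helper4.Equi3
import Groth.Agent.Lib.Helper4.Equi4
import Groth.Agent.Lib.Helper4.Equi5
import Groth.Agent.Lib.Helper4.Equi6
import Groth.Agent.Lib.Helper4.Equi7
import Groth.Agent.Lib.Helper4.Aff1
import Groth.Agent.Lib.Helper4.Aff2
import Groth.Agent.Lib.Helper4.Equi10
import Groth.Agent.Lib.Helper4.Val1
import Groth.Agent.Lib.Helper4.BaseChg1
import Groth.Agent.Lib.Helper4.UnivOpen1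
import Groth.Agent.Lib.Helper4.FibClosure1
import Groth.Agent.Lib.Helper4.OpenNoeth1
import Groth.Agent.Lib.Helper4.SecComp1
import Groth.Agent.Lib.Helper4.SecComp2
import Groth.Agent.Lib.Helper4.UnivOpen2
import Groth.Agent.Lib.Helper4.UnivOpenAt
import Groth.Agent.Lib.Helper4.RegularLocalCopy
import Groth.Agent.Lib.Helper4.ZMTNormalPt1
import Groth.Agent.Lib.Helper4.LocFinComp1
import Groth.Agent.Lib.Helper4.SecComp3
import Groth.Agent.Lib.Helper4.PropDim1
import Groth.Prelude.Def_FDesc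
import Groth.Prelude.Def_MoreMor
import Groth.Agent.Lib.Helper4.ChevCrit1
import Groth.Agent.Lib.Helper4.ChevCrit2
import Groth.Agent.Lib.Helper4.ChevCrit3
import Groth.Agent.Lib.Helper4.IrrCompDomain1
import Groth.Agent.Lib.Helper4.ChevCrit4
import Groth.Agent.Lib.Helper4.ChevCrit5
import Groth.Agent.Lib.Helper4.ChevCrit6
import Groth.Agent.Lib.Helper4.DedekindOpen1
import Groth.Agent.Lib.Helper4.UnivOpenT1
import Groth.Agent.Lib.Helper4.ChevCrit7
import Groth.Agent.Lib.Helper4.ChevCrit8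

/-!
# Chevalley's criterion for universal openness at a point, without Noetherian hypotheses (lifting of generizations along affine-space base changes) (helper4)
-/

set_option backward.isDefEq.respectTransparency.types false
set_option synthInstance.maxHeartbeats 400000
set_option autoImplicit false
set_option linter.unusedSectionVars false
set_option linter.style.haveILetI false
set_option linter.unusedSimpArgs false
universe u v w
open CategoryTheory CategoryTheory.Limits AlgebraicGeometry TopologicalSpace IsLocalRing Opposite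
open Cardinal AffineSpace MvPolynomial
open Groth.Agent.Lib.Helper4.DimIneq1 Groth.Agent.Lib.Helper4.DimFT2 Groth.Agent.Lib.Helper4.Catenary1
open Groth.Agent.Lib.Helper4.DimEq1 Groth.Agent.Lib.Helper4.DimIneq2 Groth.Agent.Lib.Helper4.DimEq2
open Groth.Agent.Lib.Helper4.DimIneq3 Groth.Agent.Lib.Helper4.DimIneq4
open Groth.Agent.Lib.Helper4.NormFibre2 Groth.Agent.Lib.Helper4.RadBir3 Groth.Agent.Lib.Helper4.DimFT3
open Groth.Agent.Lib.Helper4.FibDim1 Groth.Agent.Lib.Helper4.FibDim2 Groth.Agent.Lib.Helper4.LocUC1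
open Groth.Agent.Lib.Helper4.FibDim3 Groth.Agent.Lib.Helper4.FibDim4 Groth.Agent.Lib.Helper4.FibDim5
open Groth.Agent.Lib.Helper4.FibDim6 Groth.Agent.Lib.Helper4.FibDim7 Groth.Agent.Lib.Helper4.JacDim1
open Groth.Agent.Lib.Helper4.DimFT1
open Groth.Agent.Lib.Helper4.Chev2 Groth.Agent.Lib.Helper4.Chev5 Groth.Agent.Lib.Helper4.Chev6 Groth.Agent.Lib.Helper4.Chev8
open Groth.Agent.Lib.Helper4.JacDim4 Groth.Agent.Lib.Helper4.EffCartierDim1
open Groth.Agent.Lib.Helper4.Chev9 Groth.Agent.Lib.Helper4.Chev4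
open Groth.Agent.Lib.Helper4.Chev10 Groth.Agent.Lib.Helper4.Chev11 Groth.Agent.Lib.Helper4.Chev3 Groth.Agent.Lib.Helper4.Equi1 Groth.Agent.Lib.Helper4.Equi2 Groth.Agent.Lib.Helper4.OpenAt1 Groth.Agent.Lib.Helper4.Equi3 Groth.Agent.Lib.Helper4.Equi4 Groth.Agent.Lib.Helper4.Equi5 Groth.Agent.Lib.Helper4.Equi6 Groth.Agent.Lib.Helper4.Equi7 Groth.Agent.Lib.Helper4.Aff1 Groth.Agent.Lib.Helper4.Aff2 Groth.Agent.Lib.Helper4.Equi10 Groth.Agent.Lib.Helper4.Val1 Groth.Agent.Lib.Helper4.BaseChg1 Groth.Agent.Lib.Helper4.UnivOpen1 Groth.Agent.Lib.Helper4.FibClosure1 Groth.Agent.Lib.Helper4.OpenNoeth1 Groth.Agent.Lib.Helper4.SecComp1 Groth.Agent.Lib.Helper4.SecComp2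
open Groth.Agent.Lib.Helper4.SecComp3 Groth.Agent.Lib.Helper4.PropDim1 Groth.Agent.Lib.Helper4.ZMTNormalPt1 Groth.Agent.Lib.Helper4.UO Groth.Agent.Lib.Helper4.UOp
open Groth.Agent.Lib.Helper4.ChevCrit1 Groth.Agent.Lib.Helper4.ChevCrit2 Groth.Agent.Lib.Helper4.ChevCrit3
open Groth.Agent.Lib.Helper4.IrrCompDomain1 Groth.Agent.Lib.Helper4.RadBir1
open Groth.Agent.Lib.Helper4.ChevCrit4
open Groth.Agent.Lib.Helper4.ChevCrit5
open Groth.Agent.Lib.Helper4.DedekindOpen1 Groth.Agent.Lib.Helper4.UnivOpenT1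
open Groth.Agent.Lib.Helper4.ChevCrit7 Groth.Agent.Lib.Helper4.ChevCrit8

namespace Groth.Agent.Lib.Helper4.NNChev1

/-- generizations lift along all affine-space base changes of `f` at the points lying over `x` -/
def HasLift {X Y : Scheme.{u}} (f : X ⟶ Y) (x : X) : Prop :=
  ∀ (n : ℕ) (z : 𝔸(ULift.{u} (Fin n); X)), (𝔸(ULift.{u} (Fin n); X) ↘ X).base z = x →
    ∀ t' : 𝔸(ULift.{u} (Fin n); Y), t' ⤳ (map (ULift.{u} (Fin n)) f).base z →
      ∃ z' : 𝔸(ULift.{u} (Fin n); X), z' ⤳ z ∧ (map (ULift.{u} (Fin n)) f).base z' = t'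

section basic
variable {X Y Z : Scheme.{u}}

theorem isUnivOpenAt_of_hasLift (f : X ⟶ Y) [LocallyOfFinitePresentation f] (x : X)
    (h : HasLift f x) : EGA43.IsUnivOpenAt f x := by
  apply isUnivOpenAt_of_lifting
  intro n z hz t' ht' _
  exact h n z hz t' ht'

theorem hasLift_comp (f : X ⟶ Y) (g : Y ⟶ Z) (x : X) (hf : HasLift f x)
    (hg : HasLift g (f.base x)) : HasLift (f ≫ g) x := by
  intro n z hz t' ht'
  have hm : map (ULift.{u} (Fin n)) (f ≫ g) = map (ULift.{u} (Fin n)) f ≫ map (ULift.{u} (Fin n)) g :=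
    map_comp f g
  have hpt : ∀ a, (map (ULift.{u} (Fin n)) (f ≫ g)).base a =
      (map (ULift.{u} (Fin n)) g).base ((map (ULift.{u} (Fin n)) f).base a) := by
    intro a
    rw [hm]; rfl
  rw [hpt] at ht'
  have hover : (𝔸(ULift.{u} (Fin n); Y) ↘ Y).base ((map (ULift.{u} (Fin n)) f).base z) = f.base x := by
    rw [← Scheme.Hom.comp_apply, map_over, Scheme.Hom.comp_apply, hz]
  obtain ⟨s', hs', hs't⟩ := hg n _ hover t' ht'
  obtain ⟨z', hz', hz's⟩ := hf n z hz s' hs'
  exact ⟨z', hz', by rw [hpt, hz's, hs't]⟩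

theorem hasLift_of_universallyOpen (g : Y ⟶ Z) [UniversallyOpen g] (y : Y) : HasLift g y := by
  intro n z _ t' ht'
  haveI : UniversallyOpen (map (ULift.{u} (Fin n)) g) :=
    MorphismProperty.of_isPullback (P := @UniversallyOpen) (isPullback_map g).flip inferInstance
  have hop : EGA43.IsOpenAt (map (ULift.{u} (Fin n)) g).base z := by
    intro U hU
    exact (map (ULift.{u} (Fin n)) g).isOpenMap.image_mem_nhds hU
  exact Groth.Agent.Lib.Helper4.OpenAt1.exists_generization_of_isOpenAt _ z hop t' ht'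

theorem hasLift_of_comp (ι : X ⟶ Y) (f : Y ⟶ Z) (w : X) (h : HasLift (ι ≫ f) w) :
    HasLift f (ι.base w) := by
  intro n z hz t' ht'
  obtain ⟨zW, hzW1, hzW2⟩ := exists_preimage_of_isPullback (isPullback_map (n := ULift.{u} (Fin n)) ι) z w hz
  have hm : map (ULift.{u} (Fin n)) (ι ≫ f) = map (ULift.{u} (Fin n)) ι ≫ map (ULift.{u} (Fin n)) f :=
    map_comp ι f
  have hpt : ∀ a, (map (ULift.{u} (Fin n)) (ι ≫ f)).base a =
      (map (ULift.{u} (Fin n)) f).base ((map (ULift.{u} (Fin n)) ι).base a) := by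
    intro a
    rw [hm]; rfl
  have ht'' : t' ⤳ (map (ULift.{u} (Fin n)) (ι ≫ f)).base zW := by
    rw [hpt, hzW1]; exact ht'
  obtain ⟨z'W, hz'W, hz'Wt⟩ := h n zW hzW2 t' ht''
  refine ⟨(map (ULift.{u} (Fin n)) ι).base z'W, ?_, ?_⟩
  · rw [← hzW1]
    exact hz'W.map (map (ULift.{u} (Fin n)) ι).continuous
  · rw [← hpt, hz'Wt]

end basic

theorem hasLift_of_chart {U V : Scheme.{u}} [IsIntegral U] (d : ℕ)
    (π : U ⟶ 𝔸(ULift.{u} (Fin d); V)) [LocallyOfFiniteType π] [LocallyQuasiFinite π]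
    (w : U)
    (H1 : ∀ s : V, s ⤳ (𝔸(ULift.{u} (Fin d); V) ↘ V).base (π.base w) →
      (𝔸(ULift.{u} (Fin d); V) ↘ V).base (π.base (genericPoint U)) ⤳ s)
    (H2 : tr (π ≫ (𝔸(ULift.{u} (Fin d); V) ↘ V)) (genericPoint U) = d)
    (H3 : CAlg2.IsGeomUnibranch
      (V.presheaf.stalk ((𝔸(ULift.{u} (Fin d); V) ↘ V).base (π.base w)))) :
    HasLift π w := by
  -- level 0: π η_U is the most generic generization of π w
  have htr0 : (tr (𝔸(ULift.{u} (Fin d); V) ↘ V) (π.base (genericPoint U)) : Cardinal.{u}) =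
      #(ULift.{u} (Fin d)) := by
    have h1 := Groth.Agent.Lib.Helper4.PropDim1.tr_comp π (𝔸(ULift.{u} (Fin d); V) ↘ V) (genericPoint U)
    rw [tr_eq_zero_of_locallyQuasiFinite π, add_zero, H2] at h1
    rw [← h1, card_ulift_fin]
  have hgen0 : ∀ s : 𝔸(ULift.{u} (Fin d); V), s ⤳ π.base w → π.base (genericPoint U) ⤳ s := by
    intro s hs
    apply specializes_of_tr_eq_affineSpace _ _ _ htr0
    exact H1 _ (hs.map (𝔸(ULift.{u} (Fin d); V) ↘ V).continuous)
  have hgu0 : CAlg2.IsGeomUnibranch ((𝔸(ULift.{u} (Fin d); V)).presheaf.stalk (π.base w)) :=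
    S4936_main d (π.base w) H3
  intro n z hz t' ht'
  haveI : LocallyOfFiniteType (map (ULift.{u} (Fin n)) π) :=
    MorphismProperty.of_isPullback (P := @LocallyOfFiniteType) (isPullback_map π).flip inferInstance
  haveI : LocallyQuasiFinite (map (ULift.{u} (Fin n)) π) :=
    MorphismProperty.of_isPullback (P := @LocallyQuasiFinite) (isPullback_map π).flip inferInstance
  have hsq : map (ULift.{u} (Fin n)) π ≫ (𝔸(ULift.{u} (Fin n); 𝔸(ULift.{u} (Fin d); V)) ↘ 𝔸(ULift.{u} (Fin d); V)) =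
      (𝔸(ULift.{u} (Fin n); U) ↘ U) ≫ π := map_over π
  have hsq' : ∀ a, (𝔸(ULift.{u} (Fin n); 𝔸(ULift.{u} (Fin d); V)) ↘ 𝔸(ULift.{u} (Fin d); V)).base
      ((map (ULift.{u} (Fin n)) π).base a) = π.base ((𝔸(ULift.{u} (Fin n); U) ↘ U).base a) := by
    intro a
    rw [← Scheme.Hom.comp_apply, hsq, Scheme.Hom.comp_apply]
  have hzw : (𝔸(ULift.{u} (Fin n); 𝔸(ULift.{u} (Fin d); V)) ↘ 𝔸(ULift.{u} (Fin d); V)).base
      ((map (ULift.{u} (Fin n)) π).base z) = π.base w := by rw [hsq', hz]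
  have hgu1 : CAlg2.IsGeomUnibranch ((𝔸(ULift.{u} (Fin n); 𝔸(ULift.{u} (Fin d); V))).presheaf.stalk
      ((map (ULift.{u} (Fin n)) π).base z)) := by
    apply S4936_main
    rw [hzw]; exact hgu0
  obtain ⟨ζ, hζ⟩ : ∃ ζ, ζ = genericPoint 𝔸(ULift.{u} (Fin n); U) := ⟨_, rfl⟩
  have hζmax : ∀ ζ' : 𝔸(ULift.{u} (Fin n); U), ζ' ⤳ ζ → ζ' = ζ := by
    intro ζ' h
    rw [hζ] at h ⊢
    exact (h.antisymm (genericPoint_specializes ζ')).eq
  have htrζ := tr_eq_of_isMax_affineSpace (ULift.{u} (Fin n)) U ζ hζmax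
  have htr1 : (tr (𝔸(ULift.{u} (Fin n); 𝔸(ULift.{u} (Fin d); V)) ↘ 𝔸(ULift.{u} (Fin d); V))
      ((map (ULift.{u} (Fin n)) π).base ζ) : Cardinal.{u}) = #(ULift.{u} (Fin n)) := by
    have h1 := Groth.Agent.Lib.Helper4.PropDim1.tr_comp (map (ULift.{u} (Fin n)) π)
      (𝔸(ULift.{u} (Fin n); 𝔸(ULift.{u} (Fin d); V)) ↘ 𝔸(ULift.{u} (Fin d); V)) ζ
    rw [tr_eq_zero_of_locallyQuasiFinite (map (ULift.{u} (Fin n)) π), add_zero] at h1
    have h2 := Groth.Agent.Lib.Helper4.PropDim1.tr_comp (𝔸(ULift.{u} (Fin n); U) ↘ U) π ζ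
    rw [tr_eq_zero_of_locallyQuasiFinite π, zero_add] at h2
    have h3 := tr_congr_hom _ _ hsq ζ
    rw [← h1, h3, h2]; exact htrζ
  refine exists_generization_of_quasiFiniteAt (map (ULift.{u} (Fin n)) π) z
    (Scheme.Hom.quasiFiniteAt _ z) hgu1.1 ζ (by rw [hζ]; exact genericPoint_specializes z) ?_ t' ht'
  intro t ht
  apply specializes_of_tr_eq_affineSpace _ _ _ htr1
  rw [hsq']
  have h5 : (𝔸(ULift.{u} (Fin n); U) ↘ U).base ζ ⤳ genericPoint U := by
    rw [hζ]; exact map_genericPoint_specializes _ _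
  refine (h5.map π.continuous).trans (hgen0 _ ?_)
  rw [← hzw]
  exact ht.map (𝔸(ULift.{u} (Fin n); 𝔸(ULift.{u} (Fin d); V)) ↘ 𝔸(ULift.{u} (Fin d); V)).continuous

theorem hasLift_of_integral {W Y : Scheme.{u}} [IsIntegral W]
    (h : W ⟶ Y) [LocallyOfFiniteType h] (w : W)
    (H1 : ∀ s : Y, s ⤳ h.base w → h.base (genericPoint W) ⤳ s)
    (H2 : FlatMor.fibreDimAt h w = ((tr h (genericPoint W) : ℕ) : WithBot ℕ∞))
    (H3 : CAlg2.IsGeomUnibranch (Y.presheaf.stalk (h.base w))) :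
    HasLift h w := by
  obtain ⟨V, hV', hwV, -⟩ := exists_isAffineOpen_mem_and_subset (U := (⊤ : Y.Opens))
    (x := h.base w) trivial
  obtain ⟨U, hU, hwU, g, π, hg, hπ, hqf, hft⟩ :=
    S7625_main h w V hV' hwV (tr h (genericPoint W)) H2
  haveI := hqf
  haveI := hft
  haveI : Nonempty ↥U := ⟨⟨w, hwU⟩⟩
  haveI : Nonempty ↥(U : Scheme.{u}) := ⟨⟨w, hwU⟩⟩
  haveI : IsIntegral (U : Scheme.{u}) := isIntegral_of_isOpenImmersion U.ι
  obtain ⟨w', hw'⟩ : ∃ w' : ↥(U : Scheme.{u}), w' = ⟨w, hwU⟩ := ⟨_, rfl⟩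
  have hUw : U.ι.base w' = w := by rw [hw']; rfl
  have hpt : ∀ u : ↥(U : Scheme.{u}), V.ι.base (g.base u) = h.base (U.ι.base u) := by
    intro u
    rw [← Scheme.Hom.comp_apply, hg, Scheme.Hom.comp_apply]
  have hpt2 : ∀ u : ↥(U : Scheme.{u}),
      (𝔸(ULift.{u} (Fin (tr h (genericPoint W))); (V : Scheme.{u})) ↘ (V : Scheme.{u})).base
        (π.base u) = g.base u := by
    intro u
    rw [← Scheme.Hom.comp_apply, hπ]
  have hgenU : U.ι.base (genericPoint ↥(U : Scheme.{u})) = genericPoint W :=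
    genericPoint_eq_of_isOpenImmersion U.ι
  haveI : LocallyOfFiniteType g := by rw [← hπ]; infer_instance
  have hcore : HasLift π w' := by
    apply hasLift_of_chart
    · intro s hs
      rw [hpt2] at hs ⊢
      rw [← V.ι.isEmbedding.isInducing.specializes_iff, hpt, hgenU]
      apply H1
      have := hs.map V.ι.continuous
      rwa [hpt, hUw] at this
    · rw [tr_congr_hom _ g hπ]
      have h1 := Groth.Agent.Lib.Helper4.PropDim1.tr_comp g V.ι (genericPoint ↥(U : Scheme.{u}))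
      rw [tr_openImmersion V.ι, zero_add] at h1
      have h2 := tr_restrict h U (genericPoint ↥(U : Scheme.{u}))
      rw [hgenU] at h2
      rw [← h1, ← h2]
      exact tr_congr_hom _ _ hg _
    · rw [hpt2]
      apply isGeomUnibranch_of_isOpenImmersion V.ι (g.base w') (h.base w) _ H3
      rw [hpt, hUw]
  haveI := universallyOpen_affineSpace_over (ULift.{u} (Fin (tr h (genericPoint W)))) (V : Scheme.{u})
  have h1 : HasLift (π ≫ (𝔸(ULift.{u} (Fin (tr h (genericPoint W))); (V : Scheme.{u})) ↘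
      (V : Scheme.{u}))) w' :=
    hasLift_comp _ _ w' hcore (hasLift_of_universallyOpen _ _)
  rw [hπ] at h1
  have h2 : HasLift (g ≫ V.ι) w' :=
    hasLift_comp _ _ w' h1 (hasLift_of_universallyOpen _ _)
  rw [hg] at h2
  have h3 := hasLift_of_comp U.ι h w' h2
  rwa [hUw] at h3



/-- **Chevalley's criterion without Noetherian hypotheses**: a morphism locally of finite
presentation is universally open at a maximal point `x` of a fibre over a geometrically unibranch
point as soon as `x` has a generization `ξ` over the generic point of the base with the same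
residual transcendence degree. -/
theorem isUnivOpenAt_of_generization {X Y : Scheme.{u}} (f : X ⟶ Y)
    [LocallyOfFinitePresentation f] (x : X)
    (hmax : ∀ x' : X, f.base x' = f.base x → x' ⤳ x → x' = x)
    (hy : CAlg2.IsGeomUnibranch (Y.presheaf.stalk (f.base x)))
    (η₀ : Y) (hη₀ : ∀ y : Y, y ⤳ f.base x → η₀ ⤳ y)
    (ξ : X) (hξx : ξ ⤳ x) (hfξ : f.base ξ = η₀) (htr : tr f ξ = tr f x) :
    EGA43.IsUnivOpenAt f x := by
  apply isUnivOpenAt_of_hasLift
  have hZc : IsClosed (closure ({ξ} : Set X)) := isClosed_closure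
  have hZirr : IsIrreducible (closure ({ξ} : Set X)) := isIrreducible_singleton.closure
  obtain ⟨ι, hι⟩ : ∃ ι : (Scheme.IdealSheafData.vanishingIdeal
      (⟨closure {ξ}, hZc⟩ : TopologicalSpace.Closeds X)).subscheme ⟶ X,
      ι = (Scheme.IdealSheafData.vanishingIdeal
      (⟨closure {ξ}, hZc⟩ : TopologicalSpace.Closeds X)).subschemeι := ⟨_, rfl⟩
  have hr : Set.range ι.base = closure ({ξ} : Set X) := by
    rw [hι, Scheme.IdealSheafData.range_subschemeι, Scheme.IdealSheafData.coe_support_vanishingIdeal]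
    rfl
  haveI : IsClosedImmersion ι := by rw [hι]; infer_instance
  haveI : IrreducibleSpace ↥(Scheme.IdealSheafData.vanishingIdeal
      (⟨closure {ξ}, hZc⟩ : TopologicalSpace.Closeds X)).subscheme :=
    irreducibleSpace_vanishingIdeal_subscheme _ hZirr
  haveI : IsReduced (Scheme.IdealSheafData.vanishingIdeal
      (⟨closure {ξ}, hZc⟩ : TopologicalSpace.Closeds X)).subscheme :=
    isReduced_vanishingIdeal_subscheme _
  haveI : IsIntegral (Scheme.IdealSheafData.vanishingIdeal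
      (⟨closure {ξ}, hZc⟩ : TopologicalSpace.Closeds X)).subscheme :=
    isIntegral_of_irreducibleSpace_of_isReduced _
  clear hι
  generalize (Scheme.IdealSheafData.vanishingIdeal
      (⟨closure {ξ}, hZc⟩ : TopologicalSpace.Closeds X)).subscheme = W at *
  have hxr : x ∈ Set.range ι.base := by rw [hr]; exact hξx.mem_closure
  obtain ⟨wx, hwx⟩ := hxr
  have hgp : ι.base (genericPoint W) = ξ := map_genericPoint_of_range ι ξ hr
  have hmaxW : ∀ z' : W, (ι ≫ f).base z' = (ι ≫ f).base wx → z' ⤳ wx → z' = wx := by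
    intro z' h1 h2
    apply ι.isClosedEmbedding.injective
    rw [hwx]
    apply hmax
    · have : f.base (ι.base z') = f.base (ι.base wx) := h1
      rw [this, hwx]
    · have := h2.map ι.continuous
      rwa [hwx] at this
  have hres : HasLift (ι ≫ f) wx := by
    apply hasLift_of_integral
    · intro s hs
      have h1 : (ι ≫ f).base (genericPoint W) = η₀ := by
        change f.base (ι.base (genericPoint W)) = η₀
        rw [hgp, hfξ]
      rw [h1]
      apply hη₀
      have h2 : (ι ≫ f).base wx = f.base x := by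
        change f.base (ι.base wx) = f.base x
        rw [hwx]
      rwa [h2] at hs
    · rw [fibreDimAt_eq_tr_of_max_nn (ι ≫ f) wx hmaxW, tr_comp_closedImmersion f ι wx,
        tr_comp_closedImmersion f ι (genericPoint W), hwx, hgp, htr]
    · have h2 : (ι ≫ f).base wx = f.base x := by
        change f.base (ι.base wx) = f.base x
        rw [hwx]
      rw [h2]; exact hy
  have := hasLift_of_comp ι f wx hres
  rwa [hwx] at this

end Groth.Agent.Lib.Helper4.NNChev1
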