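import Mathlib
import Groth.Prelude.Def_Cyc
import Groth.Agent.Lib.Helper4.JacDim1
import Groth.Prelude.Def_EGA43
import Groth.Agent.Lib.Helper4.FibreStalkDim1
import Groth.Agent.Lib.Helper4.DimFT1
import Groth.Agent.Lib.Helper4.DimFT2
import Groth.Agent.Lib.Helper4.Chev8
import Groth.Agent.Lib.Helper4.FibDim7
import Groth.Agent.Lib.Helper4.EffCartierDim1
import Groth.Agent.Lib.Helper4.JacDim4
import Groth.Agent.Lib.Helper4.Chev9
import Groth.Agent.Lib.Helper4.Chev10
import Groth.Agent.Lib.Helper4.Chev11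
import Groth.Agent.Lib.Helper4.Equi1
import Groth.Agent.Lib.Helper4.Equi2
import Groth.Agent.Lib.Helper4.Equi3
import Groth.Agent.Lib.Helper4.Equi4
import Groth.Agent.Lib.Helper4.Equi5
import Groth.Agent.Lib.Helper4.Equi6
import Groth.Agent.Lib.Helper4.Equi7
import Groth.Agent.Lib.Helper4.Aff1
import Groth.Agent.Lib.Helper4.Aff2
import Groth.Agent.Lib.Helper4.Equi10
import Groth.Agent.Lib.Helper4.Val1
import Groth.Agent.Lib.Helper4.BaseChg1
import Groth.Agent.Lib.Helper4.UnivOpen1
import Groth.Agent.Lib.Helper4.FibClosure1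
import Groth.Agent.Lib.Helper4.OpenNoeth1
import Groth.Agent.Lib.Helper4.SecComp1
import Groth.Agent.Lib.Helper4.SecComp2
import Groth.Agent.Lib.Helper4.UnivOpen2
import Groth.Agent.Lib.Helper4.UnivOpenAt
import Groth.Agent.Lib.Helper4.RegularLocalCopy
import Groth.Agent.Lib.Helper4.ZMTNormalPt1
import Groth.Agent.Lib.Helper4.LocFinComp1
import Groth.Agent.Lib.Helper4.SecComp3
import Groth.Agent.Lib.Helper4.PropDim1
import Groth.Prelude.Def_FDesc
import Groth.Prelude.Def_MoreMor
import Groth.Agent.Lib.Helper4.ChevCrit1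
import Groth.Agent.Lib.Helper4.ChevCrit2
import Groth.Agent.Lib.Helper4.ChevCrit3
import Groth.Agent.Lib.Helper4.IrrCompDomain1
import Groth.Agent.Lib.Helper4.ChevCrit4
import Groth.Agent.Lib.Helper4.ChevCrit5
import Groth.Agent.Lib.Helper4.ChevCrit6
import Groth.Agent.Lib.Helper4.DedekindOpen1
import Groth.Agent.Lib.Helper4.UnivOpenT1
import Groth.Agent.Lib.Helper4.ChevCrit7
import Groth.Agent.Lib.Helper4.ChevCrit8
import Groth.Agent.Lib.Helper4.NNChev1
import Groth.Agent.Lib.Helper4.IntBC1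
import Groth.Agent.Lib.Helper4.FinLevel1

/-!
# Finite base change criterion for universal openness, core: generic generizations on the normalization as a limit of finite levels; openness after integrally closed base change (helper4)
-/

set_option backward.isDefEq.respectTransparency.types false
set_option synthInstance.maxHeartbeats 400000
set_option autoImplicit false
set_option linter.unusedSectionVars false
set_option linter.style.haveILetI false
set_option linter.unusedSimpArgs false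
universe u v w
open CategoryTheory CategoryTheory.Limits AlgebraicGeometry TopologicalSpace IsLocalRing Opposite
open Cardinal AffineSpace MvPolynomial
open Groth.Agent.Lib.Helper4.DimIneq1 Groth.Agent.Lib.Helper4.DimFT2 Groth.Agent.Lib.Helper4.Catenary1
open Groth.Agent.Lib.Helper4.DimEq1 Groth.Agent.Lib.Helper4.DimIneq2 Groth.Agent.Lib.Helper4.DimEq2
open Groth.Agent.Lib.Helper4.DimIneq3 Groth.Agent.Lib.Helper4.DimIneq4
open Groth.Agent.Lib.Helper4.NormFibre2 Groth.Agent.Lib.Helper4.RadBir3 Groth.Agent.Lib.Helper4.DimFT3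
open Groth.Agent.Lib.Helper4.FibDim1 Groth.Agent.Lib.Helper4.FibDim2 Groth.Agent.Lib.Helper4.LocUC1
open Groth.Agent.Lib.Helper4.FibDim3 Groth.Agent.Lib.Helper4.FibDim4 Groth.Agent.Lib.Helper4.FibDim5
open Groth.Agent.Lib.Helper4.FibDim6 Groth.Agent.Lib.Helper4.FibDim7 Groth.Agent.Lib.Helper4.JacDim1
open Groth.Agent.Lib.Helper4.DimFT1
open Groth.Agent.Lib.Helper4.Chev2 Groth.Agent.Lib.Helper4.Chev5 Groth.Agent.Lib.Helper4.Chev6 Groth.Agent.Lib.Helper4.Chev8
open Groth.Agent.Lib.Helper4.JacDim4 Groth.Agent.Lib.Helper4.EffCartierDim1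
open Groth.Agent.Lib.Helper4.Chev9 Groth.Agent.Lib.Helper4.Chev4
open Groth.Agent.Lib.Helper4.Chev10 Groth.Agent.Lib.Helper4.Chev11 Groth.Agent.Lib.Helper4.Chev3 Groth.Agent.Lib.Helper4.Equi1 Groth.Agent.Lib.Helper4.Equi2 Groth.Agent.Lib.Helper4.OpenAt1 Groth.Agent.Lib.Helper4.Equi3 Groth.Agent.Lib.Helper4.Equi4 Groth.Agent.Lib.Helper4.Equi5 Groth.Agent.Lib.Helper4.Equi6 Groth.Agent.Lib.Helper4.Equi7 Groth.Agent.Lib.Helper4.Aff1 Groth.Agent.Lib.Helper4.Aff2 Groth.Agent.Lib.Helper4.Equi10 Groth.Agent.Lib.Helper4.Val1 Groth.Agent.Lib.Helper4.BaseChg1 Groth.Agent.Lib.Helper4.UnivOpen1 Groth.Agent.Lib.Helper4.FibClosure1 Groth.Agent.Lib.Helper4.OpenNoeth1 Groth.Agent.Lib.Helper4.SecComp1 Groth.Agent.Lib.Helper4.SecComp2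
open Groth.Agent.Lib.Helper4.SecComp3 Groth.Agent.Lib.Helper4.PropDim1 Groth.Agent.Lib.Helper4.ZMTNormalPt1 Groth.Agent.Lib.Helper4.UO Groth.Agent.Lib.Helper4.UOp
open Groth.Agent.Lib.Helper4.ChevCrit1 Groth.Agent.Lib.Helper4.ChevCrit2 Groth.Agent.Lib.Helper4.ChevCrit3
open Groth.Agent.Lib.Helper4.IrrCompDomain1 Groth.Agent.Lib.Helper4.RadBir1
open Groth.Agent.Lib.Helper4.ChevCrit4
open Groth.Agent.Lib.Helper4.ChevCrit5
open Groth.Agent.Lib.Helper4.DedekindOpen1 Groth.Agent.Lib.Helper4.UnivOpenT1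
open Groth.Agent.Lib.Helper4.ChevCrit7 Groth.Agent.Lib.Helper4.ChevCrit8
open Groth.Agent.Lib.Helper4.NNChev1 Groth.Agent.Lib.Helper4.IntBC1 Groth.Agent.Lib.Helper4.FinLevel1
open TensorProduct

namespace Groth.Agent.Lib.Helper4.FinCrit1

section core
variable (R : Type u) [CommRing R] (B : Type u) [CommRing B] [Algebra R B]

/-- `Spec (B ⊗ S)` -/
noncomputable abbrev XS (S : Type u) [CommRing S] [Algebra R S] : Scheme.{u} :=
  Spec (CommRingCat.of (B ⊗[R] S))

noncomputable abbrev fS (S : Type u) [CommRing S] [Algebra R S] :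
    XS R B S ⟶ Spec (CommRingCat.of S) :=
  Spec.map (CommRingCat.ofHom
    (Algebra.TensorProduct.includeRight (R := R) (A := B) (B := S)).toRingHom)

noncomputable abbrev pS (S : Type u) [CommRing S] [Algebra R S] :
    XS R B S ⟶ Spec (CommRingCat.of B) :=
  Spec.map (CommRingCat.ofHom
    (Algebra.TensorProduct.includeLeftRingHom (R := R) (A := B) (B := S)))

noncomputable abbrev f0 : Spec (CommRingCat.of B) ⟶ Spec (CommRingCat.of R) :=
  Spec.map (CommRingCat.ofHom (algebraMap R B))

noncomputable abbrev gS (S : Type u) [CommRing S] [Algebra R S] :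
    Spec (CommRingCat.of S) ⟶ Spec (CommRingCat.of R) :=
  Spec.map (CommRingCat.ofHom (algebraMap R S))

theorem sqS (S : Type u) [CommRing S] [Algebra R S] :
    IsPullback (pS R B S) (fS R B S) (f0 R B) (gS R S) :=
  isPullback_SpecMap_of_isPushout _ _ _ _ (CommRingCat.isPushout_tensorProduct R B S)

variable {R}
noncomputable abbrev qS {S S' : Type u} [CommRing S] [Algebra R S] [CommRing S'] [Algebra R S']
    (θ : S →ₐ[R] S') : XS R B S' ⟶ XS R B S :=
  Spec.map (CommRingCat.ofHom (Algebra.TensorProduct.map (AlgHom.id R B) θ).toRingHom)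

theorem qS_pS {S S' : Type u} [CommRing S] [Algebra R S] [CommRing S'] [Algebra R S']
    (θ : S →ₐ[R] S') : qS B θ ≫ pS R B S = pS R B S' := by
  rw [← Spec.map_comp]
  congr 1
  ext b
  simp

theorem qS_fS {S S' : Type u} [CommRing S] [Algebra R S] [CommRing S'] [Algebra R S']
    (θ : S →ₐ[R] S') :
    qS B θ ≫ fS R B S = fS R B S' ≫ Spec.map (CommRingCat.ofHom θ.toRingHom) := by
  rw [← Spec.map_comp, ← Spec.map_comp]
  congr 1

theorem gS_comp {S S' : Type u} [CommRing S] [Algebra R S] [CommRing S'] [Algebra R S']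
    (θ : S →ₐ[R] S') : Spec.map (CommRingCat.ofHom θ.toRingHom) ≫ gS R S = gS R S' := by
  rw [← Spec.map_comp]
  congr 1
  ext r
  simp

theorem sq_qS {S S' : Type u} [CommRing S] [Algebra R S] [CommRing S'] [Algebra R S']
    (θ : S →ₐ[R] S') :
    IsPullback (qS B θ) (fS R B S') (fS R B S) (Spec.map (CommRingCat.ofHom θ.toRingHom)) := by
  apply IsPullback.of_right _ (qS_fS B θ) (sqS R B S)
  rw [qS_pS, gS_comp]
  exact sqS R B S'


theorem SpecMap_asIdeal {R₁ R₂ : CommRingCat.{u}} (φ : R₁ ⟶ R₂) (q : Spec R₂) :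
    ((Spec.map φ).base q).asIdeal = q.asIdeal.comap φ.hom := rfl

variable [IsDomain R] [IsNoetherianRing R] [Algebra.FiniteType R B]

theorem locallyOfFiniteType_fS (S : Type u) [CommRing S] [Algebra R S] :
    LocallyOfFiniteType (fS R B S) := by
  haveI : LocallyOfFiniteType (f0 R B) := by
    rw [HasRingHomProperty.Spec_iff (P := @LocallyOfFiniteType)]
    exact RingHom.finiteType_algebraMap.mpr inferInstance
  exact MorphismProperty.of_isPullback (P := @LocallyOfFiniteType) (sqS R B S) inferInstance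

theorem isIntegralHom_gS (S : Type u) [CommRing S] [Algebra R S] [Algebra.IsIntegral R S] :
    IsIntegralHom (gS R S) := by
  rw [IsIntegralHom.SpecMap_iff]
  exact algebraMap_isIntegral_iff.mpr inferInstance


attribute [local instance] locallyOfFiniteType_fS

local notation "Rν" => integralClosure R (FractionRing R)

theorem exists_generic_generization (x : Spec (CommRingCat.of B))
    (hmax : ∀ x' : Spec (CommRingCat.of B), (f0 R B).base x' = (f0 R B).base x → x' ⤳ x → x' = x)
    (hfin : ∀ (S : Type u) [CommRing S] [Algebra R S] [Module.Finite R S] (p : XS R B S),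
      (pS R B S).base p = x → EGA43.IsOpenAt (fS R B S).base p)
    (xN : XS R B Rν) (hxN : (pS R B Rν).base xN = x) :
    ∃ ξ : XS R B Rν, ξ ⤳ xN ∧ ((fS R B Rν).base ξ).asIdeal = ⊥ ∧
      tr (fS R B Rν) ξ = tr (fS R B Rν) xN := by
  haveI : IsIntegralHom (gS R Rν) := isIntegralHom_gS Rν
  have hmaxN : ∀ p' : XS R B Rν, (fS R B Rν).base p' = (fS R B Rν).base xN → p' ⤳ xN → p' = xN :=
    max_of_isPullback_of_integral (sqS R B Rν) xN (by rw [hxN]; exact hmax)
  obtain ⟨d, hd⟩ : ∃ d, d = tr (fS R B Rν) xN := ⟨_, rfl⟩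
  set E : Set (XS R B Rν) := {z | ((d : ℕ) : WithBot ℕ∞) ≤ FlatMor.fibreDimAt (fS R B Rν) z} with hE
  have hEc : IsClosed E := isClosed_setOf_le_fibreDimAt (fS R B Rν) _
  set ψ : Rν →+* B ⊗[R] Rν :=
    (Algebra.TensorProduct.includeRight (R := R) (A := B) (B := Rν)).toRingHom with hψ
  have hcl : xN ∈ closure (E ∩ {q : PrimeSpectrum (B ⊗[R] Rν) | q.asIdeal.comap ψ = ⊥}) := by
    rw [mem_closure_iff]
    intro o ho hxo
    obtain ⟨_, ⟨c, rfl⟩, hxc, hco⟩ :=
      PrimeSpectrum.isTopologicalBasis_basic_opens.exists_subset_of_mem_open hxo ho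
    obtain ⟨S, hS, hfg, c₀, hc₀⟩ := exists_fg_level R (FractionRing R) B c
    haveI : Module.Finite R S := finite_of_fg_le_integralClosure R (FractionRing R) S hS hfg
    haveI : IsNoetherianRing S := IsNoetherianRing.of_finite R S
    haveI : IsIntegralHom (gS R S) := isIntegralHom_gS S
    set θ : S →ₐ[R] Rν := Subalgebra.inclusion hS with hθ
    set xS := (qS B θ).base xN with hxS
    have hpx : (pS R B S).base xS = x := by
      rw [hxS, ← Scheme.Hom.comp_apply, qS_pS, hxN]
    have hop := hfin S xS hpx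
    have hmaxS : ∀ p' : XS R B S, (fS R B S).base p' = (fS R B S).base xS → p' ⤳ xS → p' = xS :=
      max_of_isPullback_of_integral (sqS R B S) xS (by rw [hpx]; exact hmax)
    obtain ⟨ξS, h1, h2, h3, h4⟩ := exists_generic_above_of_isOpenAt (fS R B S) xS hmaxS hop
    have hgen : genericPoint (Spec (CommRingCat.of S)) = (⊥ : PrimeSpectrum S) :=
      genericPoint_eq_bot_of_affine (CommRingCat.of S)
    obtain ⟨ηN, hηN⟩ : ∃ ηN : Spec (CommRingCat.of Rν), ηN = (⊥ : PrimeSpectrum Rν) := ⟨_, rfl⟩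
    have hθinj : Function.Injective θ := Subalgebra.inclusion_injective hS
    have hηmap : (Spec.map (CommRingCat.ofHom θ.toRingHom)).base ηN =
        genericPoint (Spec (CommRingCat.of S)) := by
      rw [hgen, hηN]
      apply PrimeSpectrum.ext
      rw [SpecMap_asIdeal]
      exact Ideal.comap_bot_of_injective _ hθinj
    obtain ⟨ξ', hq, hf, hge⟩ := exists_tr_snd_ge' (sq_qS B θ) ξS ηN (by rw [h1, hηmap])
    have hcmap : (Algebra.TensorProduct.map (AlgHom.id R B) θ) c₀ = c := hc₀
    have hmemS : ∀ p : XS R B Rν, p ∈ (PrimeSpectrum.basicOpen c : Set (PrimeSpectrum _)) ↔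
        (qS B θ).base p ∈ (PrimeSpectrum.basicOpen c₀ : Set (PrimeSpectrum _)) := by
      intro p
      change c ∉ p.asIdeal ↔ c₀ ∉ ((qS B θ).base p).asIdeal
      rw [SpecMap_asIdeal, Ideal.mem_comap, ← hcmap]
      rfl
    refine ⟨ξ', ?_, ?_, ?_⟩
    · apply hco
      refine (hmemS ξ').mpr ?_
      rw [hq]
      have hxSc : xS ∈ (PrimeSpectrum.basicOpen c₀ : Set (PrimeSpectrum _)) := (hmemS xN).mp hxc
      exact h2.mem_open (PrimeSpectrum.basicOpen c₀).2 hxSc
    · change ((d : ℕ) : WithBot ℕ∞) ≤ FlatMor.fibreDimAt (fS R B Rν) ξ'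
      have e1 : tr (fS R B Rν) xN ≤ tr (fS R B S) xS := tr_snd_le' (sq_qS B θ) xN
      have e2 : d ≤ tr (fS R B Rν) ξ' := by
        rw [hd]
        exact e1.trans (h4.symm.le.trans hge)
      have e3 : ((d : ℕ) : WithBot ℕ∞) ≤ ((tr (fS R B Rν) ξ' : ℕ) : WithBot ℕ∞) := by
        exact_mod_cast e2
      exact e3.trans (tr_le_fibreDimAt_nn (fS R B Rν) ξ')
    · change ξ'.asIdeal.comap ψ = ⊥
      have : ((fS R B Rν).base ξ').asIdeal = ⊥ := by rw [hf, hηN]; rfl
      exact this
  obtain ⟨q, hqE, hq0, hqx⟩ := exists_specializes_of_mem_closure ψ E hEc xN hcl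
  obtain ⟨z, hz1, hz2, hz3, hz4⟩ := exists_max_tr_eq_fibreDimAt (fS R B Rν) q
  refine ⟨z, hz2.trans hqx, ?_, ?_⟩
  · rw [hz1]; exact hq0
  · apply le_antisymm
    · have h5 := tr_le_fibreDimAt_of_specializes_nn (fS R B Rν) xN z (hz2.trans hqx)
      rw [fibreDimAt_eq_tr_of_max_nn (fS R B Rν) xN hmaxN] at h5
      exact_mod_cast h5
    · have h6 : ((d : ℕ) : WithBot ℕ∞) ≤ ((tr (fS R B Rν) z : ℕ) : WithBot ℕ∞) := by
        rw [hz4]; exact hqE
      rw [← hd]
      exact_mod_cast h6

end core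


section psi
variable {R : Type u} [CommRing R] [IsDomain R] {A : Type u} [CommRing A] [IsDomain A]
  [IsIntegrallyClosed A]

theorem exists_lift_integralClosure (γ : R →+* A) (hγ : Function.Injective γ) :
    ∃ ψA : integralClosure R (FractionRing R) →+* A,
      ψA.comp (algebraMap R (integralClosure R (FractionRing R))) = γ := by
  have hAL : Function.Injective (algebraMap A (FractionRing A)) := IsFractionRing.injective A _
  have hinj : Function.Injective ((algebraMap A (FractionRing A)).comp γ) := hAL.comp hγ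
  obtain ⟨γK, hγK⟩ : ∃ γK : FractionRing R →+* FractionRing A,
      ∀ r, γK (algebraMap R (FractionRing R) r) = algebraMap A (FractionRing A) (γ r) :=
    ⟨IsFractionRing.lift hinj, fun r => IsFractionRing.lift_algebraMap hinj r⟩
  have hint : ∀ c : integralClosure R (FractionRing R),
      ∃ a : A, algebraMap A (FractionRing A) a = γK c := by
    intro c
    have h1 : IsIntegral R (c : FractionRing R) := c.2
    have h2 : IsIntegral A (γK c) := by
      obtain ⟨p, hp, hpc⟩ := h1
      refine ⟨p.map γ, hp.map γ, ?_⟩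
      rw [Polynomial.eval₂_map]
      have h3 : (algebraMap A (FractionRing A)).comp γ =
          γK.comp (algebraMap R (FractionRing R)) := by
        ext r
        simp [hγK]
      rw [h3, ← Polynomial.hom_eval₂, hpc, map_zero]
    exact IsIntegrallyClosed.isIntegral_iff.mp h2
  choose ψ hψ using hint
  refine ⟨{ toFun := ψ, map_one' := ?_, map_mul' := ?_, map_zero' := ?_, map_add' := ?_ }, ?_⟩
  · apply hAL
    rw [hψ]
    simp
  · intro a b
    apply hAL
    rw [map_mul, hψ, hψ, hψ]
    simp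
  · apply hAL
    rw [hψ]
    simp
  · intro a b
    apply hAL
    rw [map_add, hψ, hψ, hψ]
    simp
  · ext r
    apply hAL
    change algebraMap A (FractionRing A) (ψ (algebraMap R _ r)) = _
    rw [hψ, ← hγK]
    rfl

end psi

theorem isGeomUnibranch_of_isLocalization_normal (D : Type u) [CommRing D] [IsDomain D]
    [IsIntegrallyClosed D] (p : Ideal D) [p.IsPrime] (A : Type u) [CommRing A] [Algebra D A]
    [IsLocalization.AtPrime A p] [IsLocalRing A] : CAlg2.IsGeomUnibranch A := by
  haveI hbot : (⊥ : Ideal D).IsPrime := Ideal.isPrime_bot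
  haveI : IsDomain (D ⧸ (⊥ : Ideal D)) := Ideal.Quotient.isDomain _
  haveI : IsIntegrallyClosed (D ⧸ (⊥ : Ideal D)) :=
    IsIntegrallyClosed.of_equiv (RingEquiv.quotientBot D).symm
  rw [isGeomUnibranch_iff_gen p (⊥ : Ideal D) bot_le (fun P _ _ => bot_le) A
    (K := FractionRing (D ⧸ (⊥ : Ideal D))) (N := D ⧸ (⊥ : Ideal D))
    (IsFractionRing.injective _ _) (fun z hz => IsIntegrallyClosed.isIntegral_iff.mp hz)]
  intro Ω _ τ₁ τ₂ heq _
  apply RingHom.ext
  intro n
  obtain ⟨d, rfl⟩ := Ideal.Quotient.mk_surjective n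
  exact RingHom.congr_fun heq d

theorem isGeomUnibranch_stalk_Spec_of_normal (D : Type u) [CommRing D] [IsDomain D]
    [IsIntegrallyClosed D] (y : Spec (CommRingCat.of D)) :
    CAlg2.IsGeomUnibranch ((Spec (CommRingCat.of D)).presheaf.stalk y) := by
  have hU : IsAffineOpen (⊤ : (Spec (CommRingCat.of D)).Opens) := isAffineOpen_top _
  let e : Γ(Spec (CommRingCat.of D), ⊤) ≃+* D :=
    (Scheme.ΓSpecIso (CommRingCat.of D)).commRingCatIsoToRingEquiv
  haveI : IsDomain Γ(Spec (CommRingCat.of D), ⊤) := e.toMulEquiv.isDomain D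
  haveI : IsIntegrallyClosed Γ(Spec (CommRingCat.of D), ⊤) := IsIntegrallyClosed.of_equiv e.symm
  letI := (Spec (CommRingCat.of D)).presheaf.algebra_section_stalk (U := ⊤) ⟨y, trivial⟩
  haveI := hU.isLocalization_stalk ⟨y, trivial⟩
  exact isGeomUnibranch_of_isLocalization_normal Γ(Spec (CommRingCat.of D), ⊤)
    (hU.primeIdealOf ⟨y, trivial⟩).asIdeal _


section core2
variable (R : Type u) [CommRing R] [IsDomain R] [IsNoetherianRing R]
  (B : Type u) [CommRing B] [Algebra R B] [Algebra.FiniteType R B]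

attribute [local instance] locallyOfFiniteType_fS

local notation "Rν" => integralClosure R (FractionRing R)

theorem locallyOfFinitePresentation_fS (S : Type u) [CommRing S] [Algebra R S] :
    LocallyOfFinitePresentation (fS R B S) := by
  haveI : LocallyOfFinitePresentation (f0 R B) := by
    rw [LocallyOfFinitePresentation.SpecMap_iff]
    have h1 : (algebraMap R B).FiniteType := RingHom.finiteType_algebraMap.mpr inferInstance
    exact RingHom.FinitePresentation.of_finiteType.mp h1
  exact MorphismProperty.of_isPullback (P := @LocallyOfFinitePresentation) (sqS R B S)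
    inferInstance

/-- the heart of the finite-base-change criterion: over a Noetherian domain `R`, if all finite
base changes of `Spec B ⟶ Spec R` are open at the points over the maximal point `x` of a fibre,
then the base change to any integrally closed domain containing `R` is open at the points over `x`
-/
theorem isOpenAt_of_normal_base (x : Spec (CommRingCat.of B))
    (hmax : ∀ x' : Spec (CommRingCat.of B), (f0 R B).base x' = (f0 R B).base x → x' ⤳ x → x' = x)
    (hfin : ∀ (S : Type u) [CommRing S] [Algebra R S] [Module.Finite R S] (p : XS R B S),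
      (pS R B S).base p = x → EGA43.IsOpenAt (fS R B S).base p)
    (A : Type u) [CommRing A] [IsDomain A] [IsIntegrallyClosed A] (γ : R →+* A)
    (hγ : Function.Injective γ)
    (x' : ↥(pullback (f0 R B) (Spec.map (CommRingCat.ofHom γ))))
    (hx' : (pullback.fst (f0 R B) (Spec.map (CommRingCat.ofHom γ))).base x' = x) :
    EGA43.IsOpenAt (pullback.snd (f0 R B) (Spec.map (CommRingCat.ofHom γ))).base x' := by
  obtain ⟨ψA, hψA⟩ := exists_lift_integralClosure γ hγ
  obtain ⟨gN, hgN⟩ : ∃ gN : Spec (CommRingCat.of A) ⟶ Spec (CommRingCat.of Rν),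
      gN = Spec.map (CommRingCat.ofHom ψA) := ⟨_, rfl⟩
  have hgN' : gN ≫ gS R Rν = Spec.map (CommRingCat.ofHom γ) := by
    rw [hgN, ← Spec.map_comp, ← CommRingCat.ofHom_comp, hψA]
  obtain ⟨a, ha1, ha2⟩ : ∃ a : pullback (f0 R B) (Spec.map (CommRingCat.ofHom γ)) ⟶ XS R B Rν,
      a ≫ pS R B Rν = pullback.fst _ _ ∧ a ≫ fS R B Rν = pullback.snd _ _ ≫ gN :=
    ⟨(sqS R B Rν).lift (pullback.fst _ _) (pullback.snd _ _ ≫ gN)
      (by rw [Category.assoc, hgN', pullback.condition]),
      (sqS R B Rν).lift_fst _ _ _, (sqS R B Rν).lift_snd _ _ _⟩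
  have hsq : IsPullback a (pullback.snd (f0 R B) (Spec.map (CommRingCat.ofHom γ)))
      (fS R B Rν) gN := by
    apply IsPullback.of_right _ ha2 (sqS R B Rν)
    rw [ha1, hgN']
    exact IsPullback.of_hasPullback _ _
  obtain ⟨xN, hxN⟩ : ∃ xN, xN = a.base x' := ⟨_, rfl⟩
  have hpx : (pS R B Rν).base xN = x := by
    rw [hxN, ← Scheme.Hom.comp_apply, ha1, hx']
  obtain ⟨ξ, hξ1, hξ2, hξ3⟩ := exists_generic_generization B x hmax hfin xN hpx
  haveI : IsIntegralHom (gS R Rν) := isIntegralHom_gS Rν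
  have hmaxN := max_of_isPullback_of_integral (sqS R B Rν) xN (by rw [hpx]; exact hmax)
  haveI : LocallyOfFinitePresentation (fS R B Rν) := locallyOfFinitePresentation_fS R B Rν
  haveI : IsIntegrallyClosed Rν :=
    integralClosure.isIntegrallyClosedOfFiniteExtension (FractionRing R)
  have hU : EGA43.IsUnivOpenAt (fS R B Rν) xN := by
    apply isUnivOpenAt_of_generization (fS R B Rν) xN hmaxN
      (isGeomUnibranch_stalk_Spec_of_normal Rν _) (⊥ : PrimeSpectrum Rν) ?_ ξ hξ1
      (PrimeSpectrum.ext hξ2) hξ3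
    intro y _
    exact (PrimeSpectrum.le_iff_specializes (⊥ : PrimeSpectrum Rν) y).mp bot_le
  exact isOpenAt_of_isPullback hU hsq x' hxN.symm

end core2

end Groth.Agent.Lib.Helper4.FinCrit1
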