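import Mathlib
import Groth.Prelude.Def_Cyc
import Groth.Agent.Lib.Helper4.JacDim1
import Groth.Prelude.Def_EGA43
import Groth.Agent.Lib.Helper4.FibreStalkDim1
import Groth.Agent.Lib.Helper4.DimFT1
import Groth.Agent.Lib.Helper4.DimFT2
import Groth.Agent.Lib.Helper4.Chev8
import Groth.Agent.Lib.Helper4.FibDim7
import Groth.Agent.Lib.Helper4.EffCartierDim1
import Groth.Agent.Lib.Helper4.JacDim4
import Groth.Agent.Lib.Helper4.Chev9
import Groth.Agent.Lib.Helper4.Chev10
import Groth.Agent.Lib.Helper4.Chev11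
import Groth.Agent.Lib.Helper4.Equi1
import Groth.Agent.Lib.Helper4.Equi2
import Groth.Agent.Lib.Helper4.Equi3
import Groth.Agent.Lib.Helper4.Equi4
import Groth.Agent.Lib.Helper4.Equi5
import Groth.Agent.Lib.Helper4.Equi6
import Groth.Agent.Lib.Helper4.Equi7
import Groth.Agent.Lib.Helper4.Aff1
import Groth.Agent.Lib.Helper4.Aff2
import Groth.Agent.Lib.Helper4.Equi10
import Groth.Agent.Lib.Helper4.Val1
import Groth.Agent.Lib.Helper4.BaseChg1
import Groth.Agent.Lib.Helper4.UnivOpen1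
import Groth.Agent.Lib.Helper4.FibClosure1
import Groth.Agent.Lib.Helper4.OpenNoeth1
import Groth.Agent.Lib.Helper4.SecComp1
import Groth.Agent.Lib.Helper4.SecComp2
import Groth.Agent.Lib.Helper4.UnivOpen2
import Groth.Agent.Lib.Helper4.UnivOpenAt
import Groth.Agent.Lib.Helper4.RegularLocalCopy
import Groth.Agent.Lib.Helper4.ZMTNormalPt1
import Groth.Agent.Lib.Helper4.LocFinComp1
import Groth.Agent.Lib.Helper4.SecComp3
import Groth.Agent.Lib.Helper4.PropDim1
import Groth.Prelude.Def_FDesc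
import Groth.Prelude.Def_MoreMor
import Groth.Agent.Lib.Helper4.ChevCrit1
import Groth.Agent.Lib.Helper4.ChevCrit2
import Groth.Agent.Lib.Helper4.ChevCrit3
import Groth.Agent.Lib.Helper4.IrrCompDomain1
import Groth.Agent.Lib.Helper4.ChevCrit4
import Groth.Agent.Lib.Helper4.ChevCrit5
import Groth.Agent.Lib.Helper4.ChevCrit6
import Groth.Agent.Lib.Helper4.DedekindOpen1
import Groth.Agent.Lib.Helper4.UnivOpenT1
import Groth.Agent.Lib.Helper4.ChevCrit7
import Groth.Agent.Lib.Helper4.ChevCrit8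
import Groth.Agent.Lib.Helper4.NNChev1
import Groth.Agent.Lib.Helper4.NormDimOne1

/-!
# Integral base change: incomparability, maximal points of fibres, residual transcendence degrees on arbitrary pullback squares (helper4)
-/

set_option backward.isDefEq.respectTransparency.types false
set_option synthInstance.maxHeartbeats 400000
set_option autoImplicit false
set_option linter.unusedSectionVars false
set_option linter.style.haveILetI false
set_option linter.unusedSimpArgs false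
universe u v w
open CategoryTheory CategoryTheory.Limits AlgebraicGeometry TopologicalSpace IsLocalRing Opposite
open Cardinal AffineSpace MvPolynomial
open Groth.Agent.Lib.Helper4.DimIneq1 Groth.Agent.Lib.Helper4.DimFT2 Groth.Agent.Lib.Helper4.Catenary1
open Groth.Agent.Lib.Helper4.DimEq1 Groth.Agent.Lib.Helper4.DimIneq2 Groth.Agent.Lib.Helper4.DimEq2
open Groth.Agent.Lib.Helper4.DimIneq3 Groth.Agent.Lib.Helper4.DimIneq4
open Groth.Agent.Lib.Helper4.NormFibre2 Groth.Agent.Lib.Helper4.RadBir3 Groth.Agent.Lib.Helper4.DimFT3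
open Groth.Agent.Lib.Helper4.FibDim1 Groth.Agent.Lib.Helper4.FibDim2 Groth.Agent.Lib.Helper4.LocUC1
open Groth.Agent.Lib.Helper4.FibDim3 Groth.Agent.Lib.Helper4.FibDim4 Groth.Agent.Lib.Helper4.FibDim5
open Groth.Agent.Lib.Helper4.FibDim6 Groth.Agent.Lib.Helper4.FibDim7 Groth.Agent.Lib.Helper4.JacDim1
open Groth.Agent.Lib.Helper4.DimFT1
open Groth.Agent.Lib.Helper4.Chev2 Groth.Agent.Lib.Helper4.Chev5 Groth.Agent.Lib.Helper4.Chev6 Groth.Agent.Lib.Helper4.Chev8
open Groth.Agent.Lib.Helper4.JacDim4 Groth.Agent.Lib.Helper4.EffCartierDim1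
open Groth.Agent.Lib.Helper4.Chev9 Groth.Agent.Lib.Helper4.Chev4
open Groth.Agent.Lib.Helper4.Chev10 Groth.Agent.Lib.Helper4.Chev11 Groth.Agent.Lib.Helper4.Chev3 Groth.Agent.Lib.Helper4.Equi1 Groth.Agent.Lib.Helper4.Equi2 Groth.Agent.Lib.Helper4.OpenAt1 Groth.Agent.Lib.Helper4.Equi3 Groth.Agent.Lib.Helper4.Equi4 Groth.Agent.Lib.Helper4.Equi5 Groth.Agent.Lib.Helper4.Equi6 Groth.Agent.Lib.Helper4.Equi7 Groth.Agent.Lib.Helper4.Aff1 Groth.Agent.Lib.Helper4.Aff2 Groth.Agent.Lib.Helper4.Equi10 Groth.Agent.Lib.Helper4.Val1 Groth.Agent.Lib.Helper4.BaseChg1 Groth.Agent.Lib.Helper4.UnivOpen1 Groth.Agent.Lib.Helper4.FibClosure1 Groth.Agent.Lib.Helper4.OpenNoeth1 Groth.Agent.Lib.Helper4.SecComp1 Groth.Agent.Lib.Helper4.SecComp2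
open Groth.Agent.Lib.Helper4.SecComp3 Groth.Agent.Lib.Helper4.PropDim1 Groth.Agent.Lib.Helper4.ZMTNormalPt1 Groth.Agent.Lib.Helper4.UO Groth.Agent.Lib.Helper4.UOp
open Groth.Agent.Lib.Helper4.ChevCrit1 Groth.Agent.Lib.Helper4.ChevCrit2 Groth.Agent.Lib.Helper4.ChevCrit3
open Groth.Agent.Lib.Helper4.IrrCompDomain1 Groth.Agent.Lib.Helper4.RadBir1
open Groth.Agent.Lib.Helper4.ChevCrit4
open Groth.Agent.Lib.Helper4.ChevCrit5
open Groth.Agent.Lib.Helper4.DedekindOpen1 Groth.Agent.Lib.Helper4.UnivOpenT1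
open Groth.Agent.Lib.Helper4.ChevCrit7 Groth.Agent.Lib.Helper4.ChevCrit8
open Groth.Agent.Lib.Helper4.NNChev1

namespace Groth.Agent.Lib.Helper4.IntBC1

/-- incomparability for integral morphisms -/
theorem eq_of_specializes_of_isIntegralHom {P X : Scheme.{u}} (h : P ⟶ X) [IsIntegralHom h]
    (w' w : P) (hsp : w' ⤳ w) (he : h.base w' = h.base w) : w' = w := by
  obtain ⟨U, hU, hwU, -⟩ := exists_isAffineOpen_mem_and_subset (U := (⊤ : X.Opens))
    (x := h.base w) trivial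
  have hV : IsAffineOpen (h ⁻¹ᵁ U) := hU.preimage h
  have hw : w ∈ h ⁻¹ᵁ U := hwU
  have hw' : w' ∈ h ⁻¹ᵁ U := hsp.mem_open (h ⁻¹ᵁ U).2 hw
  have hint : (h.app U).hom.IsIntegral := IsIntegralHom.isIntegral_app h U hU
  have hle : (hV.primeIdealOf ⟨w', hw'⟩).asIdeal ≤ (hV.primeIdealOf ⟨w, hw⟩).asIdeal :=
    (specializes_iff_primeIdealOf_le hV ⟨w', hw'⟩ ⟨w, hw⟩).mp hsp
  have hc : (hV.primeIdealOf ⟨w', hw'⟩).asIdeal.comap (h.app U).hom =
      (hV.primeIdealOf ⟨w, hw⟩).asIdeal.comap (h.app U).hom := by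
    have h1 := comap_primeIdealOf h hU w' hw'
    have h2 := comap_primeIdealOf h hU w hw
    rw [h1, h2]
    congr 2
    exact Subtype.ext he
  have heq : (hV.primeIdealOf ⟨w', hw'⟩).asIdeal = (hV.primeIdealOf ⟨w, hw⟩).asIdeal := by
    by_contra hne
    have hlt : (hV.primeIdealOf ⟨w', hw'⟩).asIdeal < (hV.primeIdealOf ⟨w, hw⟩).asIdeal :=
      lt_of_le_of_ne hle hne
    obtain ⟨a, haq, haq'⟩ := Set.exists_of_ssubset hlt
    letI := (h.app U).hom.toAlgebra
    have h3 := Ideal.comap_lt_comap_of_integral_mem_sdiff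
      (R := Γ(X, U)) (I := (hV.primeIdealOf ⟨w', hw'⟩).asIdeal)
      (J := (hV.primeIdealOf ⟨w, hw⟩).asIdeal) hle ⟨haq, haq'⟩ (hint a)
    exact (ne_of_lt h3) hc
  have := Groth.Agent.Lib.Helper4.NormDimOne1.primeIdealOf_injective hV ⟨w', hw'⟩ ⟨w, hw⟩
    (PrimeSpectrum.ext heq)
  exact congrArg Subtype.val this

/-- a point of an integral base change lying over a maximal point of a fibre is maximal in its
fibre -/
theorem max_of_isPullback_of_integral {P X Y Y' : Scheme.{u}} {fst : P ⟶ X} {snd : P ⟶ Y'}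
    {f : X ⟶ Y} {g : Y' ⟶ Y} (h : IsPullback fst snd f g) [IsIntegralHom g] (p : P)
    (hmax : ∀ x' : X, f.base x' = f.base (fst.base p) → x' ⤳ fst.base p → x' = fst.base p) :
    ∀ p' : P, snd.base p' = snd.base p → p' ⤳ p → p' = p := by
  intro p' h1 h2
  haveI : IsIntegralHom fst :=
    MorphismProperty.of_isPullback (P := @IsIntegralHom) h.flip inferInstance
  apply eq_of_specializes_of_isIntegralHom fst p' p h2
  apply hmax
  · have hc : ∀ a : P, f.base (fst.base a) = g.base (snd.base a) := by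
      intro a
      rw [← Scheme.Hom.comp_apply, h.w, Scheme.Hom.comp_apply]
    rw [hc, hc, h1]
  · exact h2.map fst.continuous

section tr
variable {P X Y Y' : Scheme.{u}} {fst : P ⟶ X} {snd : P ⟶ Y'} {f : X ⟶ Y} {g : Y' ⟶ Y}
  [LocallyOfFiniteType f] [LocallyOfFiniteType snd]

theorem tr_snd_le' (h : IsPullback fst snd f g) (w : P) : tr snd w ≤ tr f (fst.base w) := by
  obtain ⟨e, h1, h2⟩ : ∃ e : P ≅ pullback f g, e.hom ≫ pullback.snd f g = snd ∧
      e.hom ≫ pullback.fst f g = fst :=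
    ⟨h.isoPullback, h.isoPullback_hom_snd, h.isoPullback_hom_fst⟩
  subst h1 h2
  rw [Groth.Agent.Lib.Helper4.PropDim1.tr_comp, tr_openImmersion e.hom, add_zero]
  exact tr_snd_le f g (e.hom.base w)

theorem exists_tr_snd_ge' (h : IsPullback fst snd f g) (x : X) (y' : Y')
    (hxy : f.base x = g.base y') :
    ∃ w : P, fst.base w = x ∧ snd.base w = y' ∧ tr f x ≤ tr snd w := by
  obtain ⟨e, h1, h2⟩ : ∃ e : P ≅ pullback f g, e.hom ≫ pullback.snd f g = snd ∧
      e.hom ≫ pullback.fst f g = fst :=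
    ⟨h.isoPullback, h.isoPullback_hom_snd, h.isoPullback_hom_fst⟩
  subst h1 h2
  obtain ⟨w₀, hw1, hw2, hw3⟩ := exists_tr_snd_ge f g x y' hxy
  have hinv : e.hom.base (e.inv.base w₀) = w₀ := by
    rw [← Scheme.Hom.comp_apply, Iso.inv_hom_id]; rfl
  refine ⟨e.inv.base w₀, ?_, ?_, ?_⟩
  · rw [Scheme.Hom.comp_apply, hinv, hw1]
  · rw [Scheme.Hom.comp_apply, hinv, hw2]
  · rw [Groth.Agent.Lib.Helper4.PropDim1.tr_comp, tr_openImmersion e.hom, add_zero, hinv]
    exact hw3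

end tr

end Groth.Agent.Lib.Helper4.IntBC1
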