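import Mathlib
import Groth.Prelude.Def_Cyc
import Groth.Agent.Lib.Helper4.JacDim1
import Groth.Prelude.Def_EGA43
import Groth.Agent.Lib.Helper4.FibreStalkDim1
import Groth.Agent.Lib.Helper4.DimFT1
import Groth.Agent.Lib.Helper4.DimFT2
import Groth.Agent.Lib.Helper4.Chev8
import Groth.Agent.Lib.Helper4.FibDim7
import Groth.Agent.Lib.Helper4.EffCartierDim1
import Groth.Agent.Lib.Helper4.JacDim4
import Groth.Agent.Lib.Helper4.Chev9
import Groth.Agent.Lib.Helper4.Chev10
import Groth.Agent.Lib.Helper4.Chev11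
import Groth.Agent.Lib.Helper4.Equi1
import Groth.Agent.Lib.Helper4.Equi2
import Groth.Agent.Lib.Helper4.Equi3
import Groth.Agent.Lib.Helper4.Equi4
import Groth.Agent.Lib.Helper4.Equi5
import Groth.Agent.Lib.Helper4.Equi6
import Groth.Agent.Lib.Helper4.Equi7
import Groth.Agent.Lib.Helper4.Aff1
import Groth.Agent.Lib.Helper4.Aff2
import Groth.Agent.Lib.Helper4.Equi10
import Groth.Agent.Lib.Helper4.Val1
import Groth.Agent.Lib.Helper4.BaseChg1
import Groth.Agent.Lib.Helper4.UnivOpen1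
import Groth.Agent.Lib.Helper4.FibClosure1
import Groth.Agent.Lib.Helper4.OpenNoeth1
import Groth.Agent.Lib.Helper4.SecComp1
import Groth.Agent.Lib.Helper4.SecComp2
import Groth.Agent.Lib.Helper4.UnivOpen2
import Groth.Agent.Lib.Helper4.UnivOpenAt
import Groth.Agent.Lib.Helper4.RegularLocalCopy
import Groth.Agent.Lib.Helper4.ZMTNormalPt1
import Groth.Agent.Lib.Helper4.LocFinComp1
import Groth.Agent.Lib.Helper4.SecComp3
import Groth.Agent.Lib.Helper4.PropDim1
import Groth.Prelude.Def_FDesc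
import Groth.Prelude.Def_MoreMor
import Groth.Agent.Lib.Helper4.ChevCrit1
import Groth.Agent.Lib.Helper4.ChevCrit2
import Groth.Agent.Lib.Helper4.ChevCrit3
import Groth.Agent.Lib.Helper4.IrrCompDomain1
import Groth.Agent.Lib.Helper4.ChevCrit4
import Groth.Agent.Lib.Helper4.ChevCrit5
import Groth.Agent.Lib.Helper4.ChevCrit6
import Groth.Agent.Lib.Helper4.DedekindOpen1
import Groth.Agent.Lib.Helper4.UnivOpenT1
import Groth.Agent.Lib.Helper4.ChevCrit7
import Groth.Agent.Lib.Helper4.ChevCrit8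
import Groth.Agent.Lib.Helper4.NNChev1
import Groth.Agent.Lib.Helper4.IntBC1
import Groth.Agent.Lib.Helper4.FinLevel1
import Groth.Agent.Lib.Helper4.FinCrit1
import Groth.Agent.Lib.Helper1.ZMTb3

/-!
# Finite base change criterion for universal openness: the property FinOpenAt, its permanence, and the case of affine spectra (helper4)
-/

set_option backward.isDefEq.respectTransparency.types false
set_option synthInstance.maxHeartbeats 400000
set_option autoImplicit false
set_option linter.unusedSectionVars false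
set_option linter.style.haveILetI false
set_option linter.unusedSimpArgs false
universe u v w
open CategoryTheory CategoryTheory.Limits AlgebraicGeometry TopologicalSpace IsLocalRing Opposite
open Cardinal AffineSpace MvPolynomial
open Groth.Agent.Lib.Helper4.DimIneq1 Groth.Agent.Lib.Helper4.DimFT2 Groth.Agent.Lib.Helper4.Catenary1
open Groth.Agent.Lib.Helper4.DimEq1 Groth.Agent.Lib.Helper4.DimIneq2 Groth.Agent.Lib.Helper4.DimEq2
open Groth.Agent.Lib.Helper4.DimIneq3 Groth.Agent.Lib.Helper4.DimIneq4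
open Groth.Agent.Lib.Helper4.NormFibre2 Groth.Agent.Lib.Helper4.RadBir3 Groth.Agent.Lib.Helper4.DimFT3
open Groth.Agent.Lib.Helper4.FibDim1 Groth.Agent.Lib.Helper4.FibDim2 Groth.Agent.Lib.Helper4.LocUC1
open Groth.Agent.Lib.Helper4.FibDim3 Groth.Agent.Lib.Helper4.FibDim4 Groth.Agent.Lib.Helper4.FibDim5
open Groth.Agent.Lib.Helper4.FibDim6 Groth.Agent.Lib.Helper4.FibDim7 Groth.Agent.Lib.Helper4.JacDim1
open Groth.Agent.Lib.Helper4.DimFT1
open Groth.Agent.Lib.Helper4.Chev2 Groth.Agent.Lib.Helper4.Chev5 Groth.Agent.Lib.Helper4.Chev6 Groth.Agent.Lib.Helper4.Chev8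
open Groth.Agent.Lib.Helper4.JacDim4 Groth.Agent.Lib.Helper4.EffCartierDim1
open Groth.Agent.Lib.Helper4.Chev9 Groth.Agent.Lib.Helper4.Chev4
open Groth.Agent.Lib.Helper4.Chev10 Groth.Agent.Lib.Helper4.Chev11 Groth.Agent.Lib.Helper4.Chev3 Groth.Agent.Lib.Helper4.Equi1 Groth.Agent.Lib.Helper4.Equi2 Groth.Agent.Lib.Helper4.OpenAt1 Groth.Agent.Lib.Helper4.Equi3 Groth.Agent.Lib.Helper4.Equi4 Groth.Agent.Lib.Helper4.Equi5 Groth.Agent.Lib.Helper4.Equi6 Groth.Agent.Lib.Helper4.Equi7 Groth.Agent.Lib.Helper4.Aff1 Groth.Agent.Lib.Helper4.Aff2 Groth.Agent.Lib.Helper4.Equi10 Groth.Agent.Lib.Helper4.Val1 Groth.Agent.Lib.Helper4.BaseChg1 Groth.Agent.Lib.Helper4.UnivOpen1 Groth.Agent.Lib.Helper4.FibClosure1 Groth.Agent.Lib.Helper4.OpenNoeth1 Groth.Agent.Lib.Helper4.SecComp1 Groth.Agent.Lib.Helper4.SecComp2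
open Groth.Agent.Lib.Helper4.SecComp3 Groth.Agent.Lib.Helper4.PropDim1 Groth.Agent.Lib.Helper4.ZMTNormalPt1 Groth.Agent.Lib.Helper4.UO Groth.Agent.Lib.Helper4.UOp
open Groth.Agent.Lib.Helper4.ChevCrit1 Groth.Agent.Lib.Helper4.ChevCrit2 Groth.Agent.Lib.Helper4.ChevCrit3
open Groth.Agent.Lib.Helper4.IrrCompDomain1 Groth.Agent.Lib.Helper4.RadBir1
open Groth.Agent.Lib.Helper4.ChevCrit4
open Groth.Agent.Lib.Helper4.ChevCrit5
open Groth.Agent.Lib.Helper4.DedekindOpen1 Groth.Agent.Lib.Helper4.UnivOpenT1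
open Groth.Agent.Lib.Helper4.ChevCrit7 Groth.Agent.Lib.Helper4.ChevCrit8
open Groth.Agent.Lib.Helper4.NNChev1 Groth.Agent.Lib.Helper4.IntBC1 Groth.Agent.Lib.Helper4.FinLevel1 Groth.Agent.Lib.Helper4.FinCrit1
open TensorProduct

namespace Groth.Agent.Lib.Helper4.FinCrit2

/-- all finite base changes of `f` are open at the points lying over `x` -/
def FinOpenAt {X Y : Scheme.{u}} (f : X ⟶ Y) (x : X) : Prop :=
  ∀ ⦃P Y' : Scheme.{u}⦄ (fst : P ⟶ X) (snd : P ⟶ Y') (g : Y' ⟶ Y), IsFinite g →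
    IsPullback fst snd f g → ∀ p : P, fst.base p = x → EGA43.IsOpenAt snd.base p

section fin
variable {X Y : Scheme.{u}}

theorem isOpenAt_comp_openEmbedding {α β γ : Type*} [TopologicalSpace α] [TopologicalSpace β]
    [TopologicalSpace γ] {a : α → β} {b : β → γ} (ha : Topology.IsOpenEmbedding a) (x : α)
    (hb : EGA43.IsOpenAt b (a x)) : EGA43.IsOpenAt (b ∘ a) x := by
  apply isOpenAt_comp _ hb
  intro U hU
  exact ha.isOpenMap.image_mem_nhds hU

/-- cancel an open embedding on the left of an "open at a point" map -/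
theorem isOpenAt_of_openEmbedding_comp {α β γ : Type*} [TopologicalSpace α] [TopologicalSpace β]
    [TopologicalSpace γ] {a : α → β} {k : β → γ} (hk : Topology.IsOpenEmbedding k) (x : α)
    (h : EGA43.IsOpenAt (k ∘ a) x) : EGA43.IsOpenAt a x := by
  intro U hU
  have h1 := h U hU
  have h2 : k ⁻¹' ((k ∘ a) '' U) ∈ nhds (a x) := hk.continuous.continuousAt h1
  refine Filter.mem_of_superset h2 ?_
  rintro b ⟨u, hu, hub⟩
  exact ⟨u, hu, hk.injective hub⟩

theorem finOpenAt_of_canonical (f : X ⟶ Y) (x : X)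
    (H : ∀ (Y' : Scheme.{u}) (g : Y' ⟶ Y) [IsFinite g], ∀ x' : ↥(pullback f g),
      (pullback.fst f g).base x' = x → EGA43.IsOpenAt (pullback.snd f g).base x') :
    FinOpenAt f x := by
  intro P Y' fst snd g hg hsq p hp
  haveI := hg
  obtain ⟨e, h1, h2⟩ : ∃ e : P ≅ pullback f g, e.hom ≫ pullback.snd f g = snd ∧
      e.hom ≫ pullback.fst f g = fst :=
    ⟨hsq.isoPullback, hsq.isoPullback_hom_snd, hsq.isoPullback_hom_fst⟩
  subst h1 h2
  have h3 := H Y' g (e.hom.base p) hp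
  exact isOpenAt_comp_openEmbedding e.hom.isOpenEmbedding p h3

/-- restriction to an open subscheme of the source -/
theorem finOpenAt_comp_openImmersion {U : Scheme.{u}} (j : U ⟶ X) [IsOpenImmersion j] (f : X ⟶ Y)
    (u : U) (H : FinOpenAt f (j.base u)) : FinOpenAt (j ≫ f) u := by
  intro P Y' fst snd g hg hsq p hp
  obtain ⟨c, hc1, hc2⟩ : ∃ c : P ⟶ pullback f g, c ≫ pullback.fst f g = fst ≫ j ∧
      c ≫ pullback.snd f g = snd :=
    ⟨pullback.lift (fst ≫ j) snd (by rw [Category.assoc, hsq.w]), pullback.lift_fst _ _ _,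
      pullback.lift_snd _ _ _⟩
  have hsq2 : IsPullback fst c j (pullback.fst f g) := by
    apply IsPullback.of_bot _ hc1.symm (IsPullback.of_hasPullback f g)
    rw [hc2]
    exact hsq
  haveI : IsOpenImmersion c :=
    MorphismProperty.of_isPullback (P := @IsOpenImmersion) hsq2 inferInstance
  have h3 := H (pullback.fst f g) (pullback.snd f g) g hg (IsPullback.of_hasPullback f g)
    (c.base p) (by rw [← Scheme.Hom.comp_apply, hc1, Scheme.Hom.comp_apply, hp])
  rw [← hc2]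
  exact isOpenAt_comp_openEmbedding c.isOpenEmbedding p h3

/-- finite base change -/
theorem finOpenAt_of_isPullback {X₁ Y₁ : Scheme.{u}} {f : X ⟶ Y} {h : Y₁ ⟶ Y} {fst₁ : X₁ ⟶ X}
    {f₁ : X₁ ⟶ Y₁} (hsq : IsPullback fst₁ f₁ f h) [IsFinite h] (x₁ : X₁)
    (H : FinOpenAt f (fst₁.base x₁)) : FinOpenAt f₁ x₁ := by
  intro P Y' fst snd g hg hsq' p hp
  haveI := hg
  have hpaste : IsPullback (fst ≫ fst₁) snd f (g ≫ h) := hsq'.paste_horiz hsq
  exact H (fst ≫ fst₁) snd (g ≫ h) inferInstance hpaste p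
    (by rw [Scheme.Hom.comp_apply, hp])


/-- restriction to a quasi-compact open subscheme of the target (finite morphisms to the open
extend to finite morphisms to the whole scheme) -/
theorem finOpenAt_morphismRestrict [CompactSpace Y] [QuasiSeparatedSpace Y] (f : X ⟶ Y)
    (V : Y.Opens) (hV : IsCompact (V : Set Y)) (x : ↥(f ⁻¹ᵁ V))
    (H : FinOpenAt f ((f ⁻¹ᵁ V).ι.base x)) : FinOpenAt (f ∣_ V) x := by
  intro P Y'' fst snd g' hg' hsq p hp
  haveI := hg'
  obtain ⟨W, π, k, hπ, hk, hsqk⟩ := Groth.Agent.Helper1.ZMTa.finite_extends V hV g'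
  haveI := hπ
  haveI := hk
  have hbig : IsPullback (fst ≫ (f ⁻¹ᵁ V).ι) snd f (g' ≫ V.ι) :=
    hsq.paste_horiz (isPullback_morphismRestrict f V).flip
  obtain ⟨c, hc1, hc2⟩ : ∃ c : P ⟶ pullback f π, c ≫ pullback.fst f π = fst ≫ (f ⁻¹ᵁ V).ι ∧
      c ≫ pullback.snd f π = snd ≫ k :=
    ⟨pullback.lift (fst ≫ (f ⁻¹ᵁ V).ι) (snd ≫ k)
      (by rw [hbig.w, Category.assoc, hsqk.w]),
      pullback.lift_fst _ _ _, pullback.lift_snd _ _ _⟩
  have hsqc : IsPullback c snd (pullback.snd f π) k := by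
    apply IsPullback.of_right _ hc2 (IsPullback.of_hasPullback f π)
    rw [hc1, hsqk.w]
    exact hbig
  haveI : IsOpenImmersion c :=
    MorphismProperty.of_isPullback (P := @IsOpenImmersion) hsqc.flip inferInstance
  have h3 := H (pullback.fst f π) (pullback.snd f π) π hπ (IsPullback.of_hasPullback f π)
    (c.base p) (by rw [← Scheme.Hom.comp_apply, hc1, Scheme.Hom.comp_apply, hp])
  have h4 : EGA43.IsOpenAt ((pullback.snd f π).base ∘ c.base) p :=
    isOpenAt_comp_openEmbedding c.isOpenEmbedding p h3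
  have h5 : ((pullback.snd f π).base ∘ c.base : P → W) = k.base ∘ snd.base := by
    funext a
    change (pullback.snd f π).base (c.base a) = k.base (snd.base a)
    rw [← Scheme.Hom.comp_apply, hc2, Scheme.Hom.comp_apply]
  rw [h5] at h4
  exact isOpenAt_of_openEmbedding_comp k.isOpenEmbedding p h4

end fin


section affine
variable (R : Type u) [CommRing R] [IsNoetherianRing R]
  (B : Type u) [CommRing B] [Algebra R B] [Algebra.FiniteType R B]

theorem locallyOfFiniteType_f0 : LocallyOfFiniteType (f0 R B) := by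
  rw [HasRingHomProperty.Spec_iff (P := @LocallyOfFiniteType)]
  exact RingHom.finiteType_algebraMap.mpr inferInstance

/-- the base change square for a quotient of the base ring -/
theorem sq_left (Rq : Type u) [CommRing Rq] [Algebra R Rq] :
    IsPullback (Spec.map (CommRingCat.ofHom
        (Algebra.TensorProduct.includeRight (R := R) (A := Rq) (B := B)).toRingHom))
      (f0 Rq (Rq ⊗[R] B)) (f0 R B) (gS R Rq) := by
  have h := (isPullback_SpecMap_of_isPushout _ _ _ _
    (CommRingCat.isPushout_tensorProduct R Rq B)).flip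
  have e : (CommRingCat.ofHom (algebraMap Rq (Rq ⊗[R] B))) =
      CommRingCat.ofHom (Algebra.TensorProduct.includeLeftRingHom (R := R) (A := Rq) (B := B)) := by
    congr 1
  unfold f0
  rw [e]
  exact h

theorem isUnivOpenAt_Spec (x : Spec (CommRingCat.of B))
    (hmax : ∀ x' : Spec (CommRingCat.of B), (f0 R B).base x' = (f0 R B).base x → x' ⤳ x → x' = x)
    (hfin : FinOpenAt (f0 R B) x) : EGA43.IsUnivOpenAt (f0 R B) x := by
  haveI := locallyOfFiniteType_f0 R B
  apply isUnivOpenAt_of_dvr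
  intro A _ _ _ g hg x' hx'1 hx'2
  obtain ⟨γ, hγ⟩ : ∃ γ : R →+* A, g = Spec.map (CommRingCat.ofHom γ) :=
    ⟨(Spec.preimage g).hom, by rw [CommRingCat.ofHom_hom, Spec.map_preimage]⟩
  subst hγ
  haveI hp : (RingHom.ker γ).IsPrime := RingHom.ker_isPrime γ
  have hγ' : Function.Injective (RingHom.kerLift γ) := RingHom.kerLift_injective γ
  have hγc : (RingHom.kerLift γ).comp (algebraMap R (R ⧸ RingHom.ker γ)) = γ := by
    ext r
    exact RingHom.kerLift_mk γ r
  haveI : IsDomain (R ⧸ RingHom.ker γ) := Ideal.Quotient.isDomain _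
  haveI : Algebra.IsIntegral R (R ⧸ RingHom.ker γ) :=
    Algebra.isIntegral_of_surjective Ideal.Quotient.mk_surjective
  haveI : IsIntegralHom (gS R (R ⧸ RingHom.ker γ)) := by
    rw [IsIntegralHom.SpecMap_iff]
    exact algebraMap_isIntegral_iff.mpr inferInstance
  haveI : IsFinite (gS R (R ⧸ RingHom.ker γ)) := by
    rw [IsFinite.SpecMap_iff]
    exact RingHom.Finite.of_surjective _ Ideal.Quotient.mk_surjective
  have hsq := sq_left R B (R ⧸ RingHom.ker γ)
  have hcomp : Spec.map (CommRingCat.ofHom (RingHom.kerLift γ)) ≫ gS R (R ⧸ RingHom.ker γ) =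
      Spec.map (CommRingCat.ofHom γ) := by
    rw [← Spec.map_comp, ← CommRingCat.ofHom_comp, hγc]
  obtain ⟨b, hb1, hb2⟩ : ∃ b : pullback (f0 R B) (Spec.map (CommRingCat.ofHom γ)) ⟶
      Spec (CommRingCat.of ((R ⧸ RingHom.ker γ) ⊗[R] B)),
      b ≫ Spec.map (CommRingCat.ofHom (Algebra.TensorProduct.includeRight (R := R)
        (A := R ⧸ RingHom.ker γ) (B := B)).toRingHom) = pullback.fst _ _ ∧
      b ≫ f0 (R ⧸ RingHom.ker γ) ((R ⧸ RingHom.ker γ) ⊗[R] B) =
        pullback.snd _ _ ≫ Spec.map (CommRingCat.ofHom (RingHom.kerLift γ)) :=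
    ⟨hsq.lift (pullback.fst _ _) (pullback.snd _ _ ≫ Spec.map (CommRingCat.ofHom (RingHom.kerLift γ)))
      (by rw [Category.assoc, hcomp, pullback.condition]), hsq.lift_fst _ _ _, hsq.lift_snd _ _ _⟩
  have hsqb : IsPullback b (pullback.snd (f0 R B) (Spec.map (CommRingCat.ofHom γ)))
      (f0 (R ⧸ RingHom.ker γ) ((R ⧸ RingHom.ker γ) ⊗[R] B))
      (Spec.map (CommRingCat.ofHom (RingHom.kerLift γ))) := by
    apply IsPullback.of_right _ hb2 hsq
    rw [hb1, hcomp]
    exact IsPullback.of_hasPullback _ _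
  obtain ⟨xq, hxq⟩ : ∃ xq, xq = b.base x' := ⟨_, rfl⟩
  have hxq1 : (Spec.map (CommRingCat.ofHom (Algebra.TensorProduct.includeRight (R := R)
        (A := R ⧸ RingHom.ker γ) (B := B)).toRingHom)).base xq = x := by
    rw [hxq, ← Scheme.Hom.comp_apply, hb1, hx'1]
  have hmaxq := max_of_isPullback_of_integral hsq xq (by rw [hxq1]; exact hmax)
  have hfinq : FinOpenAt (f0 (R ⧸ RingHom.ker γ) ((R ⧸ RingHom.ker γ) ⊗[R] B)) xq :=
    finOpenAt_of_isPullback hsq xq (by rw [hxq1]; exact hfin)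
  have hfinq' : ∀ (S : Type u) [CommRing S] [Algebra (R ⧸ RingHom.ker γ) S]
      [Module.Finite (R ⧸ RingHom.ker γ) S]
      (p : XS (R ⧸ RingHom.ker γ) ((R ⧸ RingHom.ker γ) ⊗[R] B) S),
      (pS (R ⧸ RingHom.ker γ) ((R ⧸ RingHom.ker γ) ⊗[R] B) S).base p = xq →
      EGA43.IsOpenAt (fS (R ⧸ RingHom.ker γ) ((R ⧸ RingHom.ker γ) ⊗[R] B) S).base p := by
    intro S _ _ _ p hp
    refine hfinq _ _ (gS (R ⧸ RingHom.ker γ) S) ?_ (sqS _ _ S) p hp
    rw [IsFinite.SpecMap_iff]
    exact RingHom.finite_algebraMap.mpr inferInstance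
  obtain ⟨e, he1, he2⟩ : ∃ e : pullback (f0 R B) (Spec.map (CommRingCat.ofHom γ)) ≅
      pullback (f0 (R ⧸ RingHom.ker γ) ((R ⧸ RingHom.ker γ) ⊗[R] B))
        (Spec.map (CommRingCat.ofHom (RingHom.kerLift γ))),
      e.hom ≫ pullback.snd _ _ = pullback.snd _ _ ∧ e.hom ≫ pullback.fst _ _ = b :=
    ⟨hsqb.isoPullback, hsqb.isoPullback_hom_snd, hsqb.isoPullback_hom_fst⟩
  have key := isOpenAt_of_normal_base (R ⧸ RingHom.ker γ) ((R ⧸ RingHom.ker γ) ⊗[R] B) xq hmaxq
    hfinq' A (RingHom.kerLift γ) hγ' (e.hom.base x')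
    (by rw [← Scheme.Hom.comp_apply, he2, hxq])
  have hop : EGA43.IsOpenAt (pullback.snd (f0 R B) (Spec.map (CommRingCat.ofHom γ))).base x' := by
    rw [← he1]
    exact isOpenAt_comp_openEmbedding e.hom.isOpenEmbedding x' key
  obtain ⟨z', hz'1, hz'2⟩ := Groth.Agent.Lib.Helper4.OpenAt1.exists_generization_of_isOpenAt _ x'
    hop (⟨⊥, Ideal.isPrime_bot⟩ : PrimeSpectrum A) (dvr_bot_specializes A _)
  refine ⟨z', hz'1, ?_⟩
  rw [hz'2]
  exact dvr_bot_ne_closedPoint A

end affine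

end Groth.Agent.Lib.Helper4.FinCrit2
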