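import Mathlib
import Groth.Prelude.Def_Cyc
import Groth.Agent.Lib.Helper4.JacDim1
import Groth.Prelude.Def_EGA43
import Groth.Agent.Lib.Helper4.FibreStalkDim1
import Groth.Agent.Lib.Helper4.DimFT1
import Groth.Agent.Lib.Helper4.DimFT2
import Groth.Agent.Lib.Helper4.Chev8
import Groth.Agent.Lib.Helper4.FibDim7
import Groth.Agent.Lib.Helper4.EffCartierDim1
import Groth.Agent.Lib.Helper4.JacDim4
import Groth.Agent.Lib.Helper4.Chev9
import Groth.Agent.Lib.Helper4.Chev10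
import Groth.Agent.Lib.Helper4.Chev11
import Groth.Agent.Lib.Helper4.Equi1
import Groth.Agent.Lib.Helper4.Equi2
import Groth.Agent.Lib.Helper4.Equi3
import Groth.Agent.Lib.Helper4.Equi4
import Groth.Agent.Lib.Helper4.Equi5
import Groth.Agent.Lib.Helper4.Equi6
import Groth.Agent.Lib.Helper4.Equi7
import Groth.Agent.Lib.Helper4.Aff1
import Groth.Agent.Lib.Helper4.Aff2
import Groth.Agent.Lib.Helper4.Equi10
import Groth.Agent.Lib.Helper4.Val1
import Groth.Agent.Lib.Helper4.BaseChg1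
import Groth.Agent.Lib.Helper4.UnivOpen1
import Groth.Agent.Lib.Helper4.FibClosure1
import Groth.Agent.Lib.Helper4.OpenNoeth1
import Groth.Agent.Lib.Helper4.SecComp1
import Groth.Agent.Lib.Helper4.SecComp2
import Groth.Agent.Lib.Helper4.UnivOpen2
import Groth.Agent.Lib.Helper4.UnivOpenAt
import Groth.Agent.Lib.Helper4.RegularLocalCopy
import Groth.Agent.Lib.Helper4.ZMTNormalPt1
import Groth.Agent.Lib.Helper4.LocFinComp1
import Groth.Agent.Lib.Helper4.SecComp3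
import Groth.Agent.Lib.Helper4.PropDim1
import Groth.Prelude.Def_FDesc
import Groth.Prelude.Def_MoreMor
import Groth.Agent.Lib.Helper4.ChevCrit1
import Groth.Agent.Lib.Helper4.ChevCrit2
import Groth.Agent.Lib.Helper4.ChevCrit3
import Groth.Agent.Lib.Helper4.IrrCompDomain1
import Groth.Agent.Lib.Helper4.ChevCrit4
import Groth.Agent.Lib.Helper4.ChevCrit5
import Groth.Agent.Lib.Helper4.ChevCrit6
import Groth.Agent.Lib.Helper4.DedekindOpen1
import Groth.Agent.Lib.Helper4.UnivOpenT1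
import Groth.Agent.Lib.Helper4.ChevCrit7
import Groth.Agent.Lib.Helper4.ChevCrit8
import Groth.Agent.Lib.Helper4.NNChev1
import Groth.Agent.Lib.Helper4.IntBC1
import Groth.Agent.Lib.Helper4.FinLevel1
import Groth.Agent.Lib.Helper4.FinCrit1
import Groth.Agent.Lib.Helper4.FinCrit2

/-!
# Finite base change criterion for universal openness over a Noetherian base (S4940, S2557) (helper4)
-/

set_option backward.isDefEq.respectTransparency.types false
set_option synthInstance.maxHeartbeats 400000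
set_option autoImplicit false
set_option linter.unusedSectionVars false
set_option linter.style.haveILetI false
set_option linter.unusedSimpArgs false
universe u v w
open CategoryTheory CategoryTheory.Limits AlgebraicGeometry TopologicalSpace IsLocalRing Opposite
open Cardinal AffineSpace MvPolynomial
open Groth.Agent.Lib.Helper4.DimIneq1 Groth.Agent.Lib.Helper4.DimFT2 Groth.Agent.Lib.Helper4.Catenary1
open Groth.Agent.Lib.Helper4.DimEq1 Groth.Agent.Lib.Helper4.DimIneq2 Groth.Agent.Lib.Helper4.DimEq2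
open Groth.Agent.Lib.Helper4.DimIneq3 Groth.Agent.Lib.Helper4.DimIneq4
open Groth.Agent.Lib.Helper4.NormFibre2 Groth.Agent.Lib.Helper4.RadBir3 Groth.Agent.Lib.Helper4.DimFT3
open Groth.Agent.Lib.Helper4.FibDim1 Groth.Agent.Lib.Helper4.FibDim2 Groth.Agent.Lib.Helper4.LocUC1
open Groth.Agent.Lib.Helper4.FibDim3 Groth.Agent.Lib.Helper4.FibDim4 Groth.Agent.Lib.Helper4.FibDim5
open Groth.Agent.Lib.Helper4.FibDim6 Groth.Agent.Lib.Helper4.FibDim7 Groth.Agent.Lib.Helper4.JacDim1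
open Groth.Agent.Lib.Helper4.DimFT1
open Groth.Agent.Lib.Helper4.Chev2 Groth.Agent.Lib.Helper4.Chev5 Groth.Agent.Lib.Helper4.Chev6 Groth.Agent.Lib.Helper4.Chev8
open Groth.Agent.Lib.Helper4.JacDim4 Groth.Agent.Lib.Helper4.EffCartierDim1
open Groth.Agent.Lib.Helper4.Chev9 Groth.Agent.Lib.Helper4.Chev4
open Groth.Agent.Lib.Helper4.Chev10 Groth.Agent.Lib.Helper4.Chev11 Groth.Agent.Lib.Helper4.Chev3 Groth.Agent.Lib.Helper4.Equi1 Groth.Agent.Lib.Helper4.Equi2 Groth.Agent.Lib.Helper4.OpenAt1 Groth.Agent.Lib.Helper4.Equi3 Groth.Agent.Lib.Helper4.Equi4 Groth.Agent.Lib.Helper4.Equi5 Groth.Agent.Lib.Helper4.Equi6 Groth.Agent.Lib.Helper4.Equi7 Groth.Agent.Lib.Helper4.Aff1 Groth.Agent.Lib.Helper4.Aff2 Groth.Agent.Lib.Helper4.Equi10 Groth.Agent.Lib.Helper4.Val1 Groth.Agent.Lib.Helper4.BaseChg1 Groth.Agent.Lib.Helper4.UnivOpen1 Groth.Agent.Lib.Helper4.FibClosure1 Groth.Agent.Lib.Helper4.OpenNoeth1 Groth.Agent.Lib.Helper4.SecComp1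 Groth.Agent.Lib.Helper4.SecComp2
open Groth.Agent.Lib.Helper4.SecComp3 Groth.Agent.Lib.Helper4.PropDim1 Groth.Agent.Lib.Helper4.ZMTNormalPt1 Groth.Agent.Lib.Helper4.UO Groth.Agent.Lib.Helper4.UOp
open Groth.Agent.Lib.Helper4.ChevCrit1 Groth.Agent.Lib.Helper4.ChevCrit2 Groth.Agent.Lib.Helper4.ChevCrit3
open Groth.Agent.Lib.Helper4.IrrCompDomain1 Groth.Agent.Lib.Helper4.RadBir1
open Groth.Agent.Lib.Helper4.ChevCrit4
open Groth.Agent.Lib.Helper4.ChevCrit5
open Groth.Agent.Lib.Helper4.DedekindOpen1 Groth.Agent.Lib.Helper4.UnivOpenT1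
open Groth.Agent.Lib.Helper4.ChevCrit7 Groth.Agent.Lib.Helper4.ChevCrit8
open Groth.Agent.Lib.Helper4.NNChev1 Groth.Agent.Lib.Helper4.IntBC1 Groth.Agent.Lib.Helper4.FinLevel1 Groth.Agent.Lib.Helper4.FinCrit1 Groth.Agent.Lib.Helper4.FinCrit2
open TensorProduct

namespace Groth.Agent.Lib.Helper4.FinCrit3

section red
variable {X Y : Scheme.{u}}

/-- maximality in the fibre passes to open subschemes -/
theorem max_of_openImmersion {U V : Scheme.{u}} (j : U ⟶ X) (i : V ⟶ Y) (f' : U ⟶ V) (f : X ⟶ Y)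
    (hcomm : f' ≫ i = j ≫ f) (hj : Function.Injective j.base) (u : U)
    (hmax : ∀ x' : X, f.base x' = f.base (j.base u) → x' ⤳ j.base u → x' = j.base u) :
    ∀ z' : U, f'.base z' = f'.base u → z' ⤳ u → z' = u := by
  intro z' h1 h2
  apply hj
  apply hmax
  · have hc : ∀ a : U, f.base (j.base a) = i.base (f'.base a) := by
      intro a
      rw [← Scheme.Hom.comp_apply, ← hcomm, Scheme.Hom.comp_apply]
    rw [hc, hc, h1]
  · exact h2.map j.continuous

theorem isUnivOpenAt_of_affine [IsAffine X] [IsAffine Y] [IsLocallyNoetherian Y] (f : X ⟶ Y)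
    [LocallyOfFiniteType f] (x : X)
    (hmax : ∀ x' : X, f.base x' = f.base x → x' ⤳ x → x' = x)
    (hfin : FinOpenAt f x) : EGA43.IsUnivOpenAt f x := by
  haveI : IsNoetherianRing Γ(Y, ⊤) :=
    IsLocallyNoetherian.component_noetherian ⟨⊤, isAffineOpen_top Y⟩
  letI alg : Algebra Γ(Y, ⊤) Γ(X, ⊤) := f.appTop.hom.toAlgebra
  haveI : Algebra.FiniteType Γ(Y, ⊤) Γ(X, ⊤) := by
    have h1 : RingHom.FiniteType f.appTop.hom :=
      (HasRingHomProperty.iff_of_isAffine (P := @LocallyOfFiniteType)).mp inferInstance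
    exact RingHom.finiteType_algebraMap.mp h1
  have hf0 : f0 Γ(Y, ⊤) Γ(X, ⊤) = Spec.map f.appTop := rfl
  have hnat : X.isoSpec.hom ≫ Spec.map f.appTop = f ≫ Y.isoSpec.hom :=
    Scheme.isoSpec_hom_naturality f
  have hnat' : Spec.map f.appTop ≫ Y.isoSpec.inv = X.isoSpec.inv ≫ f :=
    Scheme.isoSpec_inv_naturality f
  obtain ⟨x₀, hx₀⟩ : ∃ x₀, x₀ = X.isoSpec.hom.base x := ⟨_, rfl⟩
  have hinv : X.isoSpec.inv.base x₀ = x := by
    rw [hx₀, ← Scheme.Hom.comp_apply, Iso.hom_inv_id]; rfl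
  have h1 : FinOpenAt (X.isoSpec.inv ≫ f) x₀ :=
    finOpenAt_comp_openImmersion X.isoSpec.inv f x₀ (by rw [hinv]; exact hfin)
  have hsq : IsPullback (𝟙 _) (Spec.map f.appTop) (X.isoSpec.inv ≫ f) Y.isoSpec.inv :=
    IsPullback.of_horiz_isIso ⟨by rw [Category.id_comp, hnat']⟩
  have h2 : FinOpenAt (Spec.map f.appTop) x₀ := finOpenAt_of_isPullback hsq x₀ h1
  have hmax₀ : ∀ z' : Spec Γ(X, ⊤), (Spec.map f.appTop).base z' = (Spec.map f.appTop).base x₀ →
      z' ⤳ x₀ → z' = x₀ := by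
    apply max_of_openImmersion X.isoSpec.inv Y.isoSpec.inv (Spec.map f.appTop) f hnat'
    · exact (Scheme.homeoOfIso X.isoSpec.symm).injective
    · rw [hinv]; exact hmax
  have h3 : EGA43.IsUnivOpenAt (Spec.map f.appTop) x₀ :=
    isUnivOpenAt_Spec Γ(Y, ⊤) Γ(X, ⊤) x₀ hmax₀ h2
  have h4 : EGA43.IsUnivOpenAt (X.isoSpec.hom ≫ Spec.map f.appTop) x :=
    S4925_main _ _ x (Groth.Agent.Lib.Helper4.UOp.isUnivOpenAt_of_universallyOpen _ _) (by rw [← hx₀]; exact h3)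
  rw [hnat] at h4
  have h5 : EGA43.IsUnivOpenAt ((f ≫ Y.isoSpec.hom) ≫ Y.isoSpec.inv) x :=
    S4925_main _ _ x h4 (Groth.Agent.Lib.Helper4.UOp.isUnivOpenAt_of_universallyOpen _ _)
  rwa [Category.assoc, Iso.hom_inv_id, Category.comp_id] at h5


theorem isUnivOpenAt_of_finOpenAt [IsNoetherian Y] (f : X ⟶ Y) [LocallyOfFiniteType f] (x : X)
    (hmax : ∀ x' : X, f.base x' = f.base x → x' ⤳ x → x' = x)
    (hfin : FinOpenAt f x) : EGA43.IsUnivOpenAt f x := by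
  obtain ⟨V, hV, hxV, -⟩ := exists_isAffineOpen_mem_and_subset (U := (⊤ : Y.Opens))
    (x := f.base x) trivial
  obtain ⟨xV, hxV'⟩ : ∃ xV : ↥(f ⁻¹ᵁ V), (f ⁻¹ᵁ V).ι.base xV = x := ⟨⟨x, hxV⟩, rfl⟩
  have hVc : IsCompact (V : Set Y) := hV.isCompact
  haveI : QuasiSeparatedSpace Y := inferInstance
  have h1 : FinOpenAt (f ∣_ V) xV :=
    finOpenAt_morphismRestrict f V hVc xV (by rw [hxV']; exact hfin)
  obtain ⟨U', hU', hxU', -⟩ := exists_isAffineOpen_mem_and_subset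
    (X := (f ⁻¹ᵁ V).toScheme) (U := (⊤ : (f ⁻¹ᵁ V).toScheme.Opens)) (x := xV) trivial
  obtain ⟨xU, hxU⟩ : ∃ xU : ↥U', U'.ι.base xU = xV := ⟨⟨xV, hxU'⟩, rfl⟩
  have h2 : FinOpenAt (U'.ι ≫ f ∣_ V) xU :=
    finOpenAt_comp_openImmersion U'.ι (f ∣_ V) xU (by rw [hxU]; exact h1)
  haveI : IsAffine (U' : Scheme.{u}) := hU'
  haveI : IsAffine (V : Scheme.{u}) := hV
  have hcomm : (U'.ι ≫ f ∣_ V) ≫ V.ι = (U'.ι ≫ (f ⁻¹ᵁ V).ι) ≫ f := by
    rw [Category.assoc, Category.assoc, morphismRestrict_ι]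
  have hpt : (U'.ι ≫ (f ⁻¹ᵁ V).ι).base xU = x := by
    rw [Scheme.Hom.comp_apply, hxU, hxV']
  have hmaxU : ∀ z' : ↥U', (U'.ι ≫ f ∣_ V).base z' = (U'.ι ≫ f ∣_ V).base xU → z' ⤳ xU →
      z' = xU := by
    apply max_of_openImmersion (U'.ι ≫ (f ⁻¹ᵁ V).ι) V.ι (U'.ι ≫ f ∣_ V) f hcomm
    · exact (U'.ι ≫ (f ⁻¹ᵁ V).ι).isOpenEmbedding.injective
    · rw [hpt]; exact hmax
  have h3 : EGA43.IsUnivOpenAt (U'.ι ≫ f ∣_ V) xU :=
    isUnivOpenAt_of_affine (U'.ι ≫ f ∣_ V) xU hmaxU h2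
  have h4 : EGA43.IsUnivOpenAt ((U'.ι ≫ f ∣_ V) ≫ V.ι) xU :=
    S4925_main (U'.ι ≫ f ∣_ V) V.ι xU h3
      (Groth.Agent.Lib.Helper4.UOp.isUnivOpenAt_of_universallyOpen V.ι _)
  rw [hcomm] at h4
  have h5 := S4926_main (U'.ι ≫ (f ⁻¹ᵁ V).ι) f xU h4
  rwa [hpt] at h5


theorem S4940_main [IsNoetherian Y] (f : X ⟶ Y) [LocallyOfFiniteType f] (x : X)
    (hmax : ∀ x' : X, f.base x' = f.base x → x ∈ closure {x'} → x' = x) :
    EGA43.IsUnivOpenAt f x ↔
      ∀ (Y' : Scheme.{u}) (g : Y' ⟶ Y) [IsFinite g], ∀ x' : ↥(pullback f g),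
        (pullback.fst f g).base x' = x → EGA43.IsOpenAt (pullback.snd f g).base x' := by
  constructor
  · intro h Y' g _ x' hx'
    exact h Y' g x' hx'
  · intro H
    apply isUnivOpenAt_of_finOpenAt f x _ (finOpenAt_of_canonical f x H)
    intro x' h1 h2
    exact hmax x' h1 (specializes_iff_mem_closure.mp h2)

theorem S2557_main [IsNoetherian Y] (f : X ⟶ Y) [LocallyOfFiniteType f] :
    UniversallyOpen f ↔
      ∀ (Y₁ : Scheme.{u}) (g : Y₁ ⟶ Y) [IsFinite g], IsOpenMap (pullback.snd f g).base := by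
  constructor
  · intro h Y₁ g _
    exact (pullback.snd f g).isOpenMap
  · intro H
    apply universallyOpen_of_forall_isUnivOpenAt
    intro x
    refine isUnivOpenAt_of_dense f (f.base x) {z : X | f.base z = f.base x ∧
      ∀ z' : X, f.base z' = f.base x → z ∈ closure {z'} → z' = z} ?_
      (dense_max_points_fibre f (f.base x)) x rfl
    rintro z ⟨hz1, hz2⟩
    apply isUnivOpenAt_of_finOpenAt f z
    · intro z' h1 h2
      exact hz2 z' (h1.trans hz1) (specializes_iff_mem_closure.mp h2)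
    · apply finOpenAt_of_canonical
      intro Y' g _ x' _
      exact (isOpenMap_iff_isOpenAt _).1 (H Y' g) x'

end red

end Groth.Agent.Lib.Helper4.FinCrit3
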