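import Mathlib

/-!
# connected components of finite etale covers meet every fibre (helper4)
-/

set_option backward.isDefEq.respectTransparency.types false
set_option synthInstance.maxHeartbeats 400000
set_option autoImplicit false
set_option linter.unusedSectionVars false
set_option linter.style.haveILetI false
set_option linter.unusedSimpArgs false
universe u v w
open CategoryTheory CategoryTheory.Limits AlgebraicGeometry

namespace Groth.Agent.Lib.Helper4.FinEtConn1

/-- Topological core: `f : α → β` open and closed with `β` connected, the fibre `f ⁻¹ {x}` finite.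
Then the connected component of any point `c` meets the fibre. -/
theorem exists_mem_connectedComponent_of_open_closed {α β : Type*} [TopologicalSpace α]
    [TopologicalSpace β] [ConnectedSpace β] (f : α → β) (ho : IsOpenMap f) (hc : IsClosedMap f)
    (x : β) (hfin : (f ⁻¹' {x}).Finite) (c : α) :
    ∃ x' : α, f x' = x ∧ x' ∈ connectedComponent c := by
  classical
  -- every nonempty clopen set meets the fibre
  have hmeet : ∀ U : Set α, IsClopen U → U.Nonempty → ∃ y ∈ U, f y = x := by
    intro U hU hne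
    have h1 : IsClopen (f '' U) := ⟨hc _ hU.1, ho _ hU.2⟩
    have h2 : f '' U = Set.univ := by
      rcases isClopen_iff.mp h1 with h | h
      · exact absurd h (hne.image f).ne_empty
      · exact h
    have : x ∈ f '' U := by rw [h2]; trivial
    obtain ⟨y, hy, rfl⟩ := this
    exact ⟨y, hy, rfl⟩
  -- a clopen U ∋ c with U ∩ F ⊆ every clopen containing c
  have hsep : ∀ y ∈ f ⁻¹' {x}, ∃ V : Set α, IsClopen V ∧ c ∈ V ∧
      (y ∈ V → ∀ W : Set α, IsClopen W → c ∈ W → y ∈ W) := by
    intro y _
    by_cases h : ∀ W : Set α, IsClopen W → c ∈ W → y ∈ W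
    · exact ⟨Set.univ, isClopen_univ, trivial, fun _ => h⟩
    · push Not at h
      obtain ⟨W, hW, hcW, hyW⟩ := h
      exact ⟨W, hW, hcW, fun hy => absurd hy hyW⟩
  choose! V hV hcV hyV using hsep
  obtain ⟨U, hUdef⟩ : ∃ U : Set α, U = ⋂ y ∈ hfin.toFinset, V y := ⟨_, rfl⟩
  have hU : IsClopen U := by
    rw [hUdef]
    exact isClopen_biInter_finset (fun y hy => hV y (hfin.mem_toFinset.mp hy))
  have hcU : c ∈ U := by
    rw [hUdef]
    simp only [Set.mem_iInter]
    intro y hy
    exact hcV y (hfin.mem_toFinset.mp hy)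
  have hUF : ∀ y ∈ U, f y = x → ∀ W : Set α, IsClopen W → c ∈ W → y ∈ W := by
    intro y hyU hy
    have hyF : y ∈ f ⁻¹' {x} := hy
    apply hyV y hyF
    rw [hUdef] at hyU
    simp only [Set.mem_iInter] at hyU
    exact hyU y (hfin.mem_toFinset.mpr hyF)
  -- U is preconnected
  have hUconn : IsPreconnected U := by
    rw [isPreconnected_iff_subset_of_disjoint_closed]
    intro A B hA hB hAB hdisj
    -- U ∩ A and U ∩ B are clopen
    have hUA : IsClopen (U ∩ A) := by
      refine ⟨hU.1.inter hA, ?_⟩
      have : U ∩ A = U ∩ Bᶜ := by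
        ext z
        constructor
        · rintro ⟨hz, hzA⟩
          refine ⟨hz, fun hzB => ?_⟩
          have : z ∈ U ∩ (A ∩ B) := ⟨hz, hzA, hzB⟩
          rw [hdisj] at this; exact this
        · rintro ⟨hz, hzB⟩
          rcases hAB hz with h | h
          · exact ⟨hz, h⟩
          · exact absurd h hzB
      rw [this]
      exact hU.2.inter hB.isOpen_compl
    have hUB : IsClopen (U ∩ B) := by
      refine ⟨hU.1.inter hB, ?_⟩
      have : U ∩ B = U ∩ Aᶜ := by
        ext z
        constructor
        · rintro ⟨hz, hzB⟩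
          refine ⟨hz, fun hzA => ?_⟩
          have : z ∈ U ∩ (A ∩ B) := ⟨hz, hzA, hzB⟩
          rw [hdisj] at this; exact this
        · rintro ⟨hz, hzA⟩
          rcases hAB hz with h | h
          · exact absurd h hzA
          · exact ⟨hz, h⟩
      rw [this]
      exact hU.2.inter hA.isOpen_compl
    rcases hAB hcU with hcA | hcB
    · left
      intro z hz
      by_contra hzA
      have hzB : z ∈ U ∩ B := ⟨hz, (hAB hz).resolve_left hzA⟩
      obtain ⟨y, hyUB, hy⟩ := hmeet _ hUB ⟨z, hzB⟩
      have hyA : y ∈ U ∩ A := hUF y hyUB.1 hy _ hUA ⟨hcU, hcA⟩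
      have : y ∈ U ∩ (A ∩ B) := ⟨hyUB.1, hyA.2, hyUB.2⟩
      rw [hdisj] at this; exact this
    · right
      intro z hz
      by_contra hzB
      have hzA : z ∈ U ∩ A := ⟨hz, (hAB hz).resolve_right hzB⟩
      obtain ⟨y, hyUA, hy⟩ := hmeet _ hUA ⟨z, hzA⟩
      have hyB : y ∈ U ∩ B := hUF y hyUA.1 hy _ hUB ⟨hcU, hcB⟩
      have : y ∈ U ∩ (A ∩ B) := ⟨hyUA.1, hyUA.2, hyB.2⟩
      rw [hdisj] at this; exact this
  obtain ⟨y, hyU, hy⟩ := hmeet U hU ⟨c, hcU⟩
  exact ⟨y, hy, hUconn.subset_connectedComponent hcU hyU⟩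

theorem S5278_main {X X' : Scheme.{u}} [ConnectedSpace X] (f : X' ⟶ X)
    [IsFinite f] [Etale f] (x : X) (c : X') :
    ∃ x' : X', f.base x' = x ∧ x' ∈ connectedComponent c := by
  haveI : UniversallyOpen f := inferInstance
  exact exists_mem_connectedComponent_of_open_closed f.base f.isOpenMap f.isClosedMap x
    (f.finite_preimage_singleton x) c

end Groth.Agent.Lib.Helper4.FinEtConn1
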