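import Mathlib
import Groth.Prelude.Def_SGA1
import Groth.Agent.Lib.Helper4.GrpdGlue1
import Groth.Agent.Lib.Helper7.QuotGrp
import Groth.Agent.Lib.Helper7.QuotAff
import Groth.Agent.Lib.Helper7.QuotOpen
import Groth.Agent.Lib.Helper7.QuotBasis
import Groth.Agent.Lib.Lead.QuotBC2
import Groth.Agent.Lib.Helper2.Grpd.InvOpen3

/-!
# Existence of the quotient of a scheme by a finite group with orbits in affine opens (SGA 1 V 1.8), by gluing local affine quotients (helper4)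
-/

set_option backward.isDefEq.respectTransparency.types false
set_option synthInstance.maxHeartbeats 400000
set_option autoImplicit false
set_option linter.unusedSectionVars false
set_option linter.style.haveILetI false
set_option linter.unusedSimpArgs false
universe u v w
open CategoryTheory CategoryTheory.Limits AlgebraicGeometry TopologicalSpace Opposite
open Groth.Agent.Lib.Helper4.GrpdGlue1

namespace Groth.Agent.Lib.Helper4.FinGrpQuot1

section Basic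
variable {X : Scheme.{u}} {G : Type u} [Group G] (ρ : G →* Aut X)

/-- the scheme of arrows of the action groupoid of an abstract group -/
noncomputable def RR (_ρ : G →* Aut X) : Scheme.{u} := ∐ fun _ : G => X

noncomputable def sR (ρ : G →* Aut X) : RR ρ ⟶ X := Sigma.desc fun _ => 𝟙 X

noncomputable def tR : RR ρ ⟶ X := Sigma.desc fun g => (ρ g).hom

noncomputable def inR (ρ : G →* Aut X) (g : G) : X ⟶ RR ρ := Sigma.ι (fun _ : G => X) g

instance (g : G) : IsOpenImmersion (inR ρ g) := by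
  have : IsOpenImmersion ((sigmaOpenCover (fun _ : G => X)).f g) := inferInstance
  exact this

@[reassoc]
theorem inR_s (g : G) : inR ρ g ≫ sR ρ = 𝟙 X := by
  unfold inR sR
  exact Sigma.ι_desc _ _

@[reassoc]
theorem inR_t (g : G) : inR ρ g ≫ tR ρ = (ρ g).hom := by
  unfold inR tR
  exact Sigma.ι_desc _ _

theorem exists_inR (r : RR ρ) : ∃ (g : G) (x : X), (inR ρ g).base x = r :=
  (sigmaOpenCover (fun _ : G => X)).exists_eq r

theorem rho_mul (g h : G) : (ρ (g * h)).hom = (ρ h).hom ≫ (ρ g).hom := by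
  rw [map_mul]; rfl

theorem rho_one : (ρ 1).hom = 𝟙 X := by
  rw [map_one]; rfl

theorem rho_inv_comp (g : G) : (ρ g⁻¹).hom ≫ (ρ g).hom = 𝟙 X := by
  rw [← rho_mul, mul_inv_cancel, rho_one]

theorem rho_comp_inv (g : G) : (ρ g).hom ≫ (ρ g⁻¹).hom = 𝟙 X := by
  rw [← rho_mul, inv_mul_cancel, rho_one]

/-- morphisms out of a scheme mapping to `RR` can be compared on the pieces -/
theorem hom_ext_of_inR {T Y : Scheme.{u}} (r : T ⟶ RR ρ) (f₁ f₂ : T ⟶ Y)
    (h : ∀ (g : G) (T' : Scheme.{u}) (j : T' ⟶ T) (r' : T' ⟶ X),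
      j ≫ r = r' ≫ inR ρ g → j ≫ f₁ = j ≫ f₂) : f₁ = f₂ := by
  refine Scheme.Cover.hom_ext ((sigmaOpenCover (fun _ : G => X)).pullback₁ r) f₁ f₂ ?_
  intro g
  exact h g _ _ (pullback.snd _ _) pullback.condition

end Basic

section Inv
variable {X : Scheme.{u}} {G : Type u} [Group G] (ρ : G →* Aut X)

theorem le_preimage_of_inv (W : X.Opens) (hW : sR ρ ⁻¹ᵁ W = tR ρ ⁻¹ᵁ W) (g : G) :
    W ≤ (ρ g).hom ⁻¹ᵁ W := by
  intro x hx
  have h1 : (inR ρ g).base x ∈ sR ρ ⁻¹ᵁ W := by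
    change (sR ρ).base ((inR ρ g).base x) ∈ W
    rw [← Scheme.Hom.comp_apply, inR_s]
    exact hx
  rw [hW] at h1
  have h2 : (tR ρ).base ((inR ρ g).base x) ∈ W := h1
  rw [← Scheme.Hom.comp_apply, inR_t] at h2
  exact h2

theorem inv_of_forall (W : X.Opens) (hW : ∀ g : G, (ρ g).hom ⁻¹ᵁ W = W) :
    sR ρ ⁻¹ᵁ W = tR ρ ⁻¹ᵁ W := by
  ext r
  obtain ⟨g, x, rfl⟩ := exists_inR ρ r
  change (sR ρ).base ((inR ρ g).base x) ∈ W ↔ (tR ρ).base ((inR ρ g).base x) ∈ W
  rw [← Scheme.Hom.comp_apply, ← Scheme.Hom.comp_apply, inR_s, inR_t]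
  change x ∈ W ↔ x ∈ (ρ g).hom ⁻¹ᵁ W
  rw [hW g]

theorem isInvHom_of_forall (W : X.Opens) (hW : ∀ g : G, W ≤ (ρ g).hom ⁻¹ᵁ W) {Y : Scheme.{u}}
    (q : (W : Scheme.{u}) ⟶ Y) (hq : ∀ g : G, (ρ g).hom.resLE W W (hW g) ≫ q = q) :
    IsInvHom (sR ρ) (tR ρ) W q := by
  intro T r a b ha hb
  apply hom_ext_of_inR ρ r
  intro g T' j r' hj
  have h1 : (j ≫ a) ≫ W.ι = r' ≫ (ρ g).hom := by
    rw [Category.assoc, ha, ← Category.assoc, hj, Category.assoc, inR_t]
  have h2 : (j ≫ b) ≫ W.ι = r' := by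
    rw [Category.assoc, hb, ← Category.assoc, hj, Category.assoc, inR_s, Category.comp_id]
  have h3 : j ≫ a = (j ≫ b) ≫ (ρ g).hom.resLE W W (hW g) := by
    rw [← cancel_mono W.ι, h1, Category.assoc, Scheme.Hom.resLE_comp_ι, ← Category.assoc, h2]
  rw [← Category.assoc, h3, Category.assoc, hq g, Category.assoc]

theorem forall_of_isInvHom (W : X.Opens) (hW : ∀ g : G, W ≤ (ρ g).hom ⁻¹ᵁ W) {Y : Scheme.{u}}
    (f : (W : Scheme.{u}) ⟶ Y) (hf : IsInvHom (sR ρ) (tR ρ) W f) (g : G) :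
    (ρ g).hom.resLE W W (hW g) ≫ f = f := by
  have := hf (W.ι ≫ inR ρ g) ((ρ g).hom.resLE W W (hW g)) (𝟙 _) ?_ ?_
  · rwa [Category.id_comp] at this
  · rw [Scheme.Hom.resLE_comp_ι, Category.assoc, inR_t]
  · rw [Category.id_comp, Category.assoc, inR_s, Category.comp_id]

end Inv

section InvAffine
variable {X : Scheme.{u}} {G : Type u} [Group G] (ρ : G →* Aut X)

theorem rho_apply_mul (g h : G) (x : X) :
    (ρ g).hom.base ((ρ h).hom.base x) = (ρ (g * h)).hom.base x := by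
  rw [rho_mul, Scheme.Hom.comp_apply]

theorem mem_basicOpen_prod {D : X.Opens} {ι : Type*} (s : Finset ι) (f : ι → Γ(X, D)) (y : X) :
    y ∈ X.basicOpen (∏ i ∈ s, f i) ↔ y ∈ D ∧ ∀ i ∈ s, y ∈ X.basicOpen (f i) := by
  classical
  induction s using Finset.induction_on with
  | empty =>
    rw [Finset.prod_empty, Scheme.basicOpen_one]
    simp
  | insert a s ha ih =>
    rw [Finset.prod_insert ha, Scheme.basicOpen_mul]
    constructor
    · rintro ⟨h1, h2⟩
      obtain ⟨h3, h4⟩ := ih.mp h2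
      refine ⟨h3, ?_⟩
      intro i hi
      rcases Finset.mem_insert.mp hi with rfl | hi
      · exact h1
      · exact h4 i hi
    · rintro ⟨h1, h2⟩
      exact ⟨h2 a (Finset.mem_insert_self a s),
        ih.mpr ⟨h1, fun i hi => h2 i (Finset.mem_insert_of_mem hi)⟩⟩

/-- a point whose orbit lies in an affine open has an invariant affine open neighbourhood -/
theorem exists_invariant_affine [Finite G] (x : X) (U : X.Opens) (hU : IsAffineOpen U)
    (hxU : ∀ g : G, (ρ g).hom.base x ∈ U) :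
    ∃ V : X.Opens, IsAffineOpen V ∧ x ∈ V ∧ ∀ g : G, (ρ g).hom ⁻¹ᵁ V = V := by
  classical
  cases nonempty_fintype G
  let U' : X.Opens := ⟨⋂ g : G, ((ρ g).hom ⁻¹ᵁ U : Set X),
    isOpen_iInter_of_finite fun g => ((ρ g).hom ⁻¹ᵁ U).2⟩
  have hU'mem : ∀ y : X, y ∈ U' ↔ ∀ g : G, (ρ g).hom.base y ∈ U := by
    intro y
    change y ∈ ⋂ g : G, ((ρ g).hom ⁻¹ᵁ U : Set X) ↔ _
    rw [Set.mem_iInter]
    rfl
  let E : Set X := Set.range fun g : G => (ρ g).hom.base x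
  have hE : E.Finite := Set.finite_range _
  have hEU' : E ⊆ U' := by
    rintro _ ⟨g, rfl⟩
    rw [SetLike.mem_coe, hU'mem]
    intro h
    rw [rho_apply_mul]
    exact hxU _
  have hEU : E ⊆ U := by
    rintro _ ⟨g, rfl⟩
    exact hxU g
  obtain ⟨f, hEf, hfU'⟩ :=
    Groth.Agent.Helper2.GrpdLib.InvOpen.exists_basicOpen_of_finite_subset hU U' E hE hEU' hEU
  let D : X.Opens := X.basicOpen f
  have hD : IsAffineOpen D := hU.basicOpen f
  have hDg : ∀ g : G, D ≤ (ρ g).hom ⁻¹ᵁ U := by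
    intro g y hy
    exact (hU'mem y).mp (hfU' hy) g
  let fg : G → Γ(X, D) := fun g => ((ρ g).hom.appLE U D (hDg g)).hom f
  have hfg : ∀ g : G, X.basicOpen (fg g) = D ⊓ (ρ g).hom ⁻¹ᵁ D :=
    fun g => Scheme.basicOpen_appLE (ρ g).hom D U (hDg g) f
  let V : X.Opens := X.basicOpen (∏ g ∈ (Finset.univ : Finset G), fg g)
  have hVmem : ∀ y : X, y ∈ V ↔ ∀ g : G, (ρ g).hom.base y ∈ D := by
    intro y
    rw [mem_basicOpen_prod]
    constructor
    · rintro ⟨-, h2⟩ g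
      have := h2 g (Finset.mem_univ g)
      rw [hfg g] at this
      exact this.2
    · intro h
      have hy : y ∈ D := by
        have := h 1
        rw [rho_one] at this
        exact this
      refine ⟨hy, fun g _ => ?_⟩
      rw [hfg g]
      exact ⟨hy, h g⟩
  refine ⟨V, hD.basicOpen _, ?_, ?_⟩
  · rw [hVmem]
    intro g
    exact hEf ⟨g, rfl⟩
  · intro k
    ext y
    change (ρ k).hom.base y ∈ V ↔ y ∈ V
    rw [hVmem, hVmem]
    constructor
    · intro h g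
      have := h (g * k⁻¹)
      rw [rho_apply_mul, inv_mul_cancel_right] at this
      exact this
    · intro h g
      rw [rho_apply_mul]
      exact h _

end InvAffine

section AffQuot
open Groth.Agent.Helper7.QuotGrp Groth.Agent.Helper7.QuotBasis

theorem appLE_top_top {Z : Scheme.{u}} (f : Z ⟶ Z) (e : (⊤ : Z.Opens) ≤ f ⁻¹ᵁ ⊤) (s : Γ(Z, ⊤)) :
    (f.appLE ⊤ ⊤ e).hom s = f.appTop.hom s := by
  simp only [Scheme.Hom.appLE, CommRingCat.hom_comp, RingHom.comp_apply]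
  exact congr($(Z.presheaf.map_id (op ⊤)).hom (f.appTop.hom s))

variable {G : Type u} [Group G] {Z : Scheme.{u}} (σ : G →* Aut Z)

/-- the subring of invariant global functions -/
def invSubring : Subring Γ(Z, ⊤) where
  carrier := {a | ∀ g : G, (σ g).hom.appTop.hom a = a}
  mul_mem' := fun {a b} ha hb g => by rw [map_mul, ha g, hb g]
  one_mem' := fun g => map_one _
  add_mem' := fun {a b} ha hb g => by rw [map_add, ha g, hb g]
  zero_mem' := fun g => map_zero _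
  neg_mem' := fun {a} ha g => by rw [map_neg, ha g]

/-- the affine quotient map -/
noncomputable def affQ : Z ⟶ Spec (CommRingCat.of (invSubring σ)) :=
  Z.toSpecΓ ≫ Spec.map (CommRingCat.ofHom (invSubring σ).subtype)

theorem affQ_appTop :
    (affQ σ).appTop = (Scheme.ΓSpecIso (CommRingCat.of (invSubring σ))).hom ≫
      CommRingCat.ofHom (invSubring σ).subtype := by
  unfold affQ
  rw [Scheme.Hom.comp_appTop, Scheme.toSpecΓ_appTop, Scheme.ΓSpecIso_naturality]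

theorem affQ_inv (g : G) : (σ g).hom ≫ affQ σ = affQ σ := by
  unfold affQ
  rw [← Category.assoc, Scheme.toSpecΓ_naturality, Category.assoc, ← Spec.map_comp]
  congr 2
  ext a
  exact a.2 g

theorem isQuot_affQ [Finite G] [IsAffine Z] : SGA1.IsQuot σ (affQ σ) := by
  refine isQuot_of_isAffine σ (affQ σ) (affQ_inv σ) ?_ ?_
  · change Function.Injective (affQ σ).appTop.hom
    rw [affQ_appTop]
    simp only [CommRingCat.hom_comp, RingHom.coe_comp]
    exact Subtype.val_injective.comp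
      (ConcreteCategory.bijective_of_isIso (Scheme.ΓSpecIso (CommRingCat.of (invSubring σ))).hom).1
  · intro s hs
    have hs' : ∀ g : G, (σ g).hom.appTop.hom s = s := by
      intro g
      have := hs g
      unfold sig at this
      exact (appLE_top_top (σ g).hom (fun _ _ => trivial) s).symm.trans this
    refine ⟨(Scheme.ΓSpecIso (CommRingCat.of (invSubring σ))).inv.hom ⟨s, hs'⟩, ?_⟩
    change (affQ σ).appTop.hom _ = s
    rw [affQ_appTop]
    have h1 : (Scheme.ΓSpecIso (CommRingCat.of (invSubring σ))).hom.hom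
        ((Scheme.ΓSpecIso (CommRingCat.of (invSubring σ))).inv.hom ⟨s, hs'⟩) = ⟨s, hs'⟩ := by
      rw [← CommRingCat.comp_apply, Iso.inv_hom_id]
      rfl
    rw [CommRingCat.hom_comp, RingHom.comp_apply, h1]
    rfl

end AffQuot

section ResAct
variable {X : Scheme.{u}} {G : Type u} [Group G] (ρ : G →* Aut X)

/-- the restriction of the action to a stable open -/
noncomputable def resAct (W : X.Opens) (hW : ∀ g : G, W ≤ (ρ g).hom ⁻¹ᵁ W) :
    G →* Aut (W : Scheme.{u}) :=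
  (Groth.Agent.Helper7.QuotAff.exists_restrictAut ρ W hW).choose

@[reassoc]
theorem resAct_ι (W : X.Opens) (hW : ∀ g : G, W ≤ (ρ g).hom ⁻¹ᵁ W) (g : G) :
    (resAct ρ W hW g).hom ≫ W.ι = W.ι ≫ (ρ g).hom :=
  (Groth.Agent.Helper7.QuotAff.exists_restrictAut ρ W hW).choose_spec g

theorem resAct_hom (W : X.Opens) (hW : ∀ g : G, W ≤ (ρ g).hom ⁻¹ᵁ W) (g : G) :
    (resAct ρ W hW g).hom = (ρ g).hom.resLE W W (hW g) := by
  rw [← cancel_mono W.ι, resAct_ι, Scheme.Hom.resLE_comp_ι]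

theorem resAct_apply (W : X.Opens) (hW : ∀ g : G, W ≤ (ρ g).hom ⁻¹ᵁ W) (g : G)
    (x : (W : Scheme.{u})) :
    W.ι.base ((resAct ρ W hW g).hom.base x) = (ρ g).hom.base (W.ι.base x) := by
  rw [← Scheme.Hom.comp_apply, resAct_ι, Scheme.Hom.comp_apply]

open Groth.Agent.Helper7.QuotGrp in
theorem isOpenMap_of_isQuot [Finite G] {M : Scheme.{u}} (q : X ⟶ M) (hq : SGA1.IsQuot ρ q) :
    IsOpenMap q.base := by
  intro O hO
  obtain ⟨-, hfib, hquot⟩ := main2908 hq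
  rw [← hquot.isOpen_preimage]
  have : q.base ⁻¹' (q.base '' O) = ⋃ g : G, (ρ g).hom.base ⁻¹' O := by
    ext z
    simp only [Set.mem_preimage, Set.mem_image, Set.mem_iUnion]
    constructor
    · rintro ⟨o, ho, hoz⟩
      obtain ⟨g, hg⟩ := (hfib z o).mp hoz.symm
      exact ⟨g, hg ▸ ho⟩
    · rintro ⟨g, hg⟩
      exact ⟨_, hg, ((hfib z _).mpr ⟨g, rfl⟩).symm⟩
  rw [this]
  exact isOpen_iUnion fun g => hO.preimage (ρ g).hom.base.hom.continuous

end ResAct

section Loc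
open Groth.Agent.Helper7.QuotGrp Groth.Agent.Helper7.QuotOpen
variable {X : Scheme.{u}} {G : Type u} [Group G] [Finite G] (ρ : G →* Aut X)
variable (W : X.Opens) (hW : ∀ g : G, W ≤ (ρ g).hom ⁻¹ᵁ W)

theorem isInvHom_affQ : IsInvHom (sR ρ) (tR ρ) W (affQ (resAct ρ W hW)) := by
  apply isInvHom_of_forall ρ W hW
  intro g
  rw [← resAct_hom]
  exact affQ_inv _ g

theorem fib_affQ (hWa : IsAffineOpen W) (x y : (W : Scheme.{u})) :
    (affQ (resAct ρ W hW)).base x = (affQ (resAct ρ W hW)).base y ↔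
      ∃ r : RR ρ, (tR ρ).base r = W.ι.base x ∧ (sR ρ).base r = W.ι.base y := by
  haveI : IsAffine (W : Scheme.{u}) := hWa
  have hq := isQuot_affQ (resAct ρ W hW)
  obtain ⟨-, hfib, -⟩ := main2908 hq
  constructor
  · intro h
    obtain ⟨g, hg⟩ := (hfib y x).mp h.symm
    refine ⟨(inR ρ g).base (W.ι.base y), ?_, ?_⟩
    · rw [← Scheme.Hom.comp_apply, inR_t, ← resAct_apply ρ W hW, hg]
    · rw [← Scheme.Hom.comp_apply, inR_s]
      rfl
  · rintro ⟨r, hr1, hr2⟩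
    obtain ⟨g, z, rfl⟩ := exists_inR ρ r
    rw [← Scheme.Hom.comp_apply, inR_t] at hr1
    rw [← Scheme.Hom.comp_apply, inR_s] at hr2
    have hz : z = W.ι.base y := hr2
    subst hz
    rw [← resAct_apply ρ W hW] at hr1
    have := W.ι.isOpenEmbedding.injective hr1
    exact ((hfib y x).mpr ⟨g, this⟩).symm

theorem coeqV_affQ (hWa : IsAffineOpen W)
    (V : (Spec (CommRingCat.of (invSubring (resAct ρ W hW)))).Opens) (W' : X.Opens) (hle : W' ≤ W)
    (hV : W.ι ''ᵁ ((affQ (resAct ρ W hW)) ⁻¹ᵁ V) = W') (qV : (W' : Scheme.{u}) ⟶ V)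
    (hqV : qV ≫ V.ι = X.homOfLE hle ≫ affQ (resAct ρ W hW)) :
    IsCoeqOn (sR ρ) (tR ρ) W' qV := by
  haveI : IsAffine (W : Scheme.{u}) := hWa
  subst hV
  let σ := resAct ρ W hW
  let q : (W : Scheme.{u}) ⟶ Spec (CommRingCat.of (invSubring σ)) := affQ σ
  have hq : SGA1.IsQuot σ q := isQuot_affQ σ
  let e := W.ι.isoImage (q ⁻¹ᵁ V)
  have he : e.hom ≫ (W.ι ''ᵁ (q ⁻¹ᵁ V)).ι = (q ⁻¹ᵁ V).ι ≫ W.ι := Scheme.Hom.isoImage_hom_ι _ _
  have he' : e.hom ≫ X.homOfLE hle = (q ⁻¹ᵁ V).ι := by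
    rw [← cancel_mono W.ι, Category.assoc, Scheme.homOfLE_ι, he]
  have heq : e.hom ≫ qV = q ∣_ V := by
    rw [← cancel_mono V.ι, Category.assoc, hqV, ← Category.assoc, he', morphismRestrict_ι]
  have hΩ : ∀ g : G, q ⁻¹ᵁ V ≤ (σ g).hom ⁻¹ᵁ (q ⁻¹ᵁ V) :=
    fun g => SGA1.preimage_le_of_inv σ q hq.inv g V
  let σΩ := resAct σ (q ⁻¹ᵁ V) hΩ
  have hqΩ : SGA1.IsQuot σΩ (q ∣_ V) := main13606 hq V σΩ (resAct_ι σ (q ⁻¹ᵁ V) hΩ)
  refine ⟨?_, ?_, ?_⟩
  · intro T r a b ha hb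
    rw [← cancel_mono V.ι, Category.assoc, Category.assoc, hqV]
    exact (isInvHom_affQ ρ W hW).of_le hle r a b ha hb
  · intro Z f hf
    have hinvf : ∀ g : G, (σΩ g).hom ≫ e.hom ≫ f = e.hom ≫ f := by
      intro g
      rw [← Category.assoc]
      apply hf ((q ⁻¹ᵁ V).ι ≫ W.ι ≫ inR ρ g)
      · rw [Category.assoc, he, resAct_ι_assoc, resAct_ι, Category.assoc, Category.assoc, inR_t]
      · rw [he, Category.assoc, Category.assoc, inR_s, Category.comp_id]
    obtain ⟨h', hh', -⟩ := main2925 hqΩ Z (e.hom ≫ f) hinvf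
    refine ⟨h', ?_⟩
    rw [← cancel_epi e.hom, ← Category.assoc, heq, hh']
  · intro Z g g' h
    have hinv1 : ∀ k : G, (σΩ k).hom ≫ (q ∣_ V) ≫ g = (q ∣_ V) ≫ g := by
      intro k
      rw [← Category.assoc, hqΩ.inv k]
    obtain ⟨h', -, huniq⟩ := main2925 hqΩ Z ((q ∣_ V) ≫ g) hinv1
    have h1 := huniq g rfl
    have h2 := huniq g' (by
      change (q ∣_ V) ≫ g' = (q ∣_ V) ≫ g
      rw [← heq, Category.assoc, Category.assoc, h])
    rw [h1, h2]

/-- the local quotient on an invariant affine open -/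
noncomputable def locQ (j : InvAff (sR ρ) (tR ρ)) : LocQ (sR ρ) (tR ρ) j.W := by
  haveI : IsAffine (j.W : Scheme.{u}) := j.aff
  have hq := isQuot_affQ (resAct ρ j.W (le_preimage_of_inv ρ j.W j.inv))
  exact
    { M := Spec (CommRingCat.of (invSubring (resAct ρ j.W (le_preimage_of_inv ρ j.W j.inv))))
      q := affQ (resAct ρ j.W (le_preimage_of_inv ρ j.W j.inv))
      aff := inferInstance
      affHom := hq.affine
      surj := (main2908 hq).1
      isOpenMap := isOpenMap_of_isQuot _ _ hq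
      fib := fib_affQ ρ j.W (le_preimage_of_inv ρ j.W j.inv) j.aff
      coeqV := coeqV_affQ ρ j.W (le_preimage_of_inv ρ j.W j.inv) j.aff }

theorem locQ_q (j : InvAff (sR ρ) (tR ρ)) :
    (locQ ρ j).q = affQ (resAct ρ j.W (le_preimage_of_inv ρ j.W j.inv)) := rfl

end Loc

section Transfer

theorem bijective_appLE_of_eq {W' X : Scheme.{u}} (j : W' ⟶ X) [IsOpenImmersion j] (P : X.Opens)
    (hP : P ≤ j.opensRange) (Ω : W'.Opens) (hΩ : Ω = j ⁻¹ᵁ P) :
    Function.Bijective (j.appLE P Ω hΩ.le).hom := by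
  subst hΩ
  rw [Scheme.Hom.appLE_eq_app]
  haveI := Scheme.Hom.isIso_app j P hP
  exact ConcreteCategory.bijective_of_isIso (j.app P)

theorem appLE_congr_hom {X Z : Scheme.{u}} (q p : X ⟶ Z) (e : q = p) (U : Z.Opens) (W : X.Opens)
    (e1 : W ≤ q ⁻¹ᵁ U) (e2 : W ≤ p ⁻¹ᵁ U) : q.appLE U W e1 = p.appLE U W e2 := by
  subst e
  rfl

variable {X Y W' M : Scheme.{u}} {G : Type u} [Group G]
  (ρ : G →* Aut X) (σ : G →* Aut W') (p : X ⟶ Y) (q : W' ⟶ M) (j : W' ⟶ X) (ι : M ⟶ Y)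
  [IsOpenImmersion j] [IsOpenImmersion ι]

/-- transfer of the conditions on sections along a cartesian chart -/
theorem transfer (hsq : j ≫ p = q ≫ ι) (hpre : p ⁻¹ᵁ ι.opensRange = j.opensRange)
    (hσ : ∀ g : G, (σ g).hom ≫ j = j ≫ (ρ g).hom) (hinv : ∀ g : G, (ρ g).hom ≫ p = p)
    (hq : SGA1.IsQuot σ q) (V : Y.Opens) (hV : V ≤ ι.opensRange) :
    Function.Injective (p.app V).hom ∧
      ∀ s : Γ(X, p ⁻¹ᵁ V), (∀ g : G, ((ρ g).hom.appLE (p ⁻¹ᵁ V) (p ⁻¹ᵁ V)
        (SGA1.preimage_le_of_inv ρ p hinv g V)).hom s = s) → s ∈ Set.range (p.app V).hom := by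
  let V' : M.Opens := ι ⁻¹ᵁ V
  let Ω : W'.Opens := q ⁻¹ᵁ V'
  let P : X.Opens := p ⁻¹ᵁ V
  have hPj : P ≤ j.opensRange := by
    rw [← hpre]
    exact p.preimage_mono hV
  have hΩ : Ω = j ⁻¹ᵁ P := by
    change q ⁻¹ᵁ (ι ⁻¹ᵁ V) = j ⁻¹ᵁ (p ⁻¹ᵁ V)
    rw [← Scheme.Hom.comp_preimage, ← Scheme.Hom.comp_preimage, hsq]
  have hβ := bijective_appLE_of_eq j P hPj Ω hΩ
  haveI := Scheme.Hom.isIso_app ι V hV
  have hα : Function.Bijective (ι.app V).hom := ConcreteCategory.bijective_of_isIso (ι.app V)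
  -- the commutative square of sections
  have hcomm : p.app V ≫ j.appLE P Ω hΩ.le = ι.app V ≫ q.app V' := by
    rw [Scheme.Hom.app_eq_appLE, Scheme.Hom.app_eq_appLE, Scheme.Hom.app_eq_appLE,
      Scheme.Hom.appLE_comp_appLE, Scheme.Hom.appLE_comp_appLE]
    exact appLE_congr_hom _ _ hsq _ _ _ _
  have hcomm' : ∀ a : Γ(Y, V), (j.appLE P Ω hΩ.le).hom ((p.app V).hom a) =
      (q.app V').hom ((ι.app V).hom a) := by
    intro a
    rw [← CommRingCat.comp_apply, ← CommRingCat.comp_apply, hcomm]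
  refine ⟨?_, ?_⟩
  · intro a a' haa'
    apply hα.1
    apply hq.injective V'
    rw [← hcomm', ← hcomm', haa']
  · intro s hs
    -- the transported section is invariant
    have hs' : ∀ g : G, ((σ g).hom.appLE Ω Ω (SGA1.preimage_le_of_inv σ q hq.inv g V')).hom
        ((j.appLE P Ω hΩ.le).hom s) = (j.appLE P Ω hΩ.le).hom s := by
      intro g
      have h1 : j.appLE P Ω hΩ.le ≫ (σ g).hom.appLE Ω Ω
          (SGA1.preimage_le_of_inv σ q hq.inv g V') =
          (ρ g).hom.appLE P P (SGA1.preimage_le_of_inv ρ p hinv g V) ≫ j.appLE P Ω hΩ.le := by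
        rw [Scheme.Hom.appLE_comp_appLE, Scheme.Hom.appLE_comp_appLE]
        exact appLE_congr_hom _ _ (hσ g) _ _ _ _
      rw [← CommRingCat.comp_apply, h1, CommRingCat.comp_apply, hs g]
    obtain ⟨m, hm⟩ := (hq.range_iff V' _).mpr hs'
    obtain ⟨a, rfl⟩ := hα.2 m
    refine ⟨a, ?_⟩
    apply hβ.1
    rw [hcomm', hm]

end Transfer

section Global
open Groth.Agent.Lead.QuotBC
variable {X : Scheme.{u}} {G : Type u} [Group G] [Finite G] (ρ : G →* Aut X)

theorem isQuot_of_atlas (D : QuotAtlas (sR ρ) (tR ρ))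
    (haff : ∀ i, IsAffineHom (D.q i))
    (hquot : ∀ i, ∃ (hWi : ∀ g : G, D.W i ≤ (ρ g).hom ⁻¹ᵁ D.W i),
      SGA1.IsQuot (resAct ρ (D.W i) hWi) (D.q i)) :
    SGA1.IsQuot ρ D.p := by
  haveI : IsAffineHom D.p := D.of_charts @IsAffineHom haff
  have hinv : ∀ g : G, (ρ g).hom ≫ D.p = D.p := by
    intro g
    rw [← inR_t, Category.assoc, D.t_p, ← Category.assoc, inR_s, Category.id_comp]
  refine isQuot_of_basis ρ D.p hinv {V | ∃ i, V ≤ (D.ι i).opensRange} ?_ ?_ ?_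
  · intro y U hy
    obtain ⟨i, x, rfl⟩ := D.ι_jointly_surjective y
    exact ⟨U ⊓ (D.ι i).opensRange, ⟨i, inf_le_right⟩, ⟨hy, ⟨x, rfl⟩⟩, inf_le_left⟩
  · rintro V ⟨i, hVi⟩
    obtain ⟨hWi, hqi⟩ := hquot i
    exact (transfer ρ (resAct ρ (D.W i) hWi) D.p (D.q i) (D.W i).ι (D.ι i) (D.ι_p i)
      (by rw [D.p_preimage, Scheme.Opens.opensRange_ι]) (resAct_ι ρ (D.W i) hWi) hinv hqi V hVi).1
  · rintro V ⟨i, hVi⟩
    obtain ⟨hWi, hqi⟩ := hquot i
    exact (transfer ρ (resAct ρ (D.W i) hWi) D.p (D.q i) (D.W i).ι (D.ι i) (D.ι_p i)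
      (by rw [D.p_preimage, Scheme.Opens.opensRange_ι]) (resAct_ι ρ (D.W i) hWi) hinv hqi V hVi).2

theorem exists_invAff (h : ∀ x : X, ∃ U : X.Opens, IsAffineOpen U ∧ ∀ g : G, (ρ g).hom.base x ∈ U)
    (x : X) : ∃ j : InvAff (sR ρ) (tR ρ), x ∈ j.W := by
  obtain ⟨U, hU, hxU⟩ := h x
  obtain ⟨V, hV, hxV, hVinv⟩ := exists_invariant_affine ρ x U hU hxU
  exact ⟨⟨V, hV, inv_of_forall ρ V hVinv⟩, hxV⟩

/-- the atlas of local quotients of a finite group action with orbits in affines -/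
noncomputable def atl
    (h : ∀ x : X, ∃ U : X.Opens, IsAffineOpen U ∧ ∀ g : G, (ρ g).hom.base x ∈ U) :
    QuotAtlas (sR ρ) (tR ρ) :=
  atlas (fun j => locQ ρ j) (exists_invAff ρ h)

theorem isQuot_atl
    (h : ∀ x : X, ∃ U : X.Opens, IsAffineOpen U ∧ ∀ g : G, (ρ g).hom.base x ∈ U) :
    SGA1.IsQuot ρ (atl ρ h).p := by
  apply isQuot_of_atlas ρ (atl ρ h)
  · intro i
    exact (locQ ρ i).affHom
  · intro i
    have hi : IsAffineOpen ((atl ρ h).W i) := InvAff.aff i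
    haveI : IsAffine ((atl ρ h).W i : Scheme.{u}) := hi
    exact ⟨le_preimage_of_inv ρ _ (InvAff.inv i), isQuot_affQ _⟩

theorem main (h : ∀ x : X, ∃ U : X.Opens, IsAffineOpen U ∧ ∀ g : G, (ρ g).hom.base x ∈ U) :
    ∃ (Y : Scheme.{u}) (p : X ⟶ Y), SGA1.IsQuot ρ p :=
  ⟨(atl ρ h).Y, (atl ρ h).p, isQuot_atl ρ h⟩

end Global

end Groth.Agent.Lib.Helper4.FinGrpQuot1
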