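import Mathlib
import Groth.Prelude.Def_SGA1
import Groth.Prelude.Def_Grpd
import Groth.Prelude.Def_Mor2
import Groth.Agent.Lib.Helper4.FinGrpQuot1
import Groth.Agent.Lib.Helper4.ActGpd1
import Groth.Agent.Lib.Helper4.GrpdQuotMono1

/-!
# Free actions of finite groups: the action groupoid ∐_G X ⇉ X, finiteness of its source map, and the torsor property of the quotient (SGA 1 V 2.6) (helper4)
-/

set_option backward.isDefEq.respectTransparency.types false
set_option synthInstance.maxHeartbeats 400000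
set_option autoImplicit false
set_option linter.unusedSectionVars false
set_option linter.style.haveILetI false
set_option linter.unusedSimpArgs false
universe u v w
open CategoryTheory CategoryTheory.Limits AlgebraicGeometry TopologicalSpace Opposite
open Groth.Agent.Lib.Helper4.GrpdGlue1 Groth.Agent.Lib.Helper4.FinGrpQuot1

namespace Groth.Agent.Lib.Helper4.FinGrpFree1

section Fin
variable {X : Scheme.{u}} {G : Type u} [Group G] (ρ : G →* Aut X)

theorem sR_preimage (U : X.Opens) : sR ρ ⁻¹ᵁ U = ⨆ g : G, inR ρ g ''ᵁ U := by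
  ext r
  obtain ⟨g, x, rfl⟩ := exists_inR ρ r
  constructor
  · intro h
    have hx : x ∈ U := by
      have h' : (sR ρ).base ((inR ρ g).base x) ∈ U := h
      rwa [← Scheme.Hom.comp_apply, inR_s] at h'
    exact Opens.mem_iSup.mpr ⟨g, ⟨x, hx, rfl⟩⟩
  · intro h
    obtain ⟨g', x', hx', e⟩ := Opens.mem_iSup.mp h
    have e' : (inR ρ g').base x' = (inR ρ g).base x := e
    change (sR ρ).base ((inR ρ g).base x) ∈ U
    rw [← e', ← Scheme.Hom.comp_apply, inR_s]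
    exact hx'

theorem disjoint_inR (g h : G) (hgh : g ≠ h) :
    Disjoint (inR ρ g).opensRange (inR ρ h).opensRange :=
  disjoint_opensRange_sigmaι (fun _ : G => X) g h hgh

instance [Finite G] : IsAffineHom (sR ρ) := by
  constructor
  intro U hU
  rw [sR_preimage]
  apply IsAffineOpen.iSup_of_disjoint (fun g => hU.image_of_isOpenImmersion (inR ρ g))
  intro g h hgh
  exact (disjoint_inR ρ g h hgh).mono (Scheme.Hom.image_le_opensRange _ _)
    (Scheme.Hom.image_le_opensRange _ _)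

instance : Flat (sR ρ) := by
  unfold sR
  exact IsZariskiLocalAtSource.sigmaDesc (fun _ => inferInstance)

instance : LocallyOfFinitePresentation (sR ρ) := by
  unfold sR
  exact IsZariskiLocalAtSource.sigmaDesc (fun _ => inferInstance)

theorem valuative_sR : ValuativeCriterion.Existence (sR ρ) := by
  intro S
  -- the image of the generic point lies in one piece
  let pt : Spec (CommRingCat.of S.K) := Classical.arbitrary _
  obtain ⟨g, x, hx⟩ := exists_inR ρ (S.i₁.base pt)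
  have hrange : Set.range S.i₁.base ⊆ Set.range (inR ρ g).base := by
    rintro _ ⟨y, rfl⟩
    have : y = pt := Subsingleton.elim _ _
    rw [this]
    exact ⟨x, hx⟩
  let a : Spec (CommRingCat.of S.K) ⟶ X := IsOpenImmersion.lift (inR ρ g) S.i₁ hrange
  have ha : a ≫ inR ρ g = S.i₁ := IsOpenImmersion.lift_fac _ _ _
  refine ⟨⟨⟨S.i₂ ≫ inR ρ g, ?_, ?_⟩⟩⟩
  · rw [← Category.assoc, ← S.commSq.w, ← ha, Category.assoc, Category.assoc, inR_s_assoc]
  · rw [Category.assoc, inR_s, Category.comp_id]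

instance [Finite G] : IsFinite (sR ρ) := by
  haveI : UniversallyClosed (sR ρ) := UniversallyClosed.of_valuativeCriterion _ (valuative_sR ρ)
  haveI : IsIntegralHom (sR ρ) :=
    IsIntegralHom.iff_universallyClosed_and_isAffineHom.mpr ⟨inferInstance, inferInstance⟩
  exact (IsFinite.iff_isIntegralHom_and_locallyOfFiniteType _).mpr ⟨inferInstance, inferInstance⟩

end Fin

section Free
variable {X : Scheme.{u}} {G : Type u} [Group G] (ρ : G →* Aut X)

/-- the action is free on geometric points -/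
def GeomFree : Prop :=
  ∀ (K : Type u) [Field K] [IsAlgClosed K] (ξ : Spec (CommRingCat.of K) ⟶ X) (g : G),
    ξ ≫ (ρ g).hom = ξ → g = 1

variable {ρ}

theorem eq_of_comp_eq (hfree : GeomFree ρ) {T : Scheme.{u}} [Nonempty T] (b : T ⟶ X) (g h : G)
    (e : b ≫ (ρ g).hom = b ≫ (ρ h).hom) : g = h := by
  obtain ⟨τ⟩ := ‹Nonempty T›
  let K := AlgebraicClosure (T.residueField τ)
  obtain ⟨ξ₀, -⟩ : ∃ ξ₀ : Spec (CommRingCat.of K) ⟶ T, True :=
    ⟨Spec.map (CommRingCat.ofHom (algebraMap (T.residueField τ) K)) ≫ T.fromSpecResidueField τ,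
      trivial⟩
  have h1 : (ξ₀ ≫ b) ≫ (ρ (h⁻¹ * g)).hom = ξ₀ ≫ b := by
    rw [rho_mul, Category.assoc, ← Category.assoc b, e, Category.assoc b, rho_comp_inv,
      Category.comp_id]
  have := hfree K (ξ₀ ≫ b) _ h1
  exact (inv_mul_eq_one.mp this).symm

theorem hext_of_free (hfree : GeomFree ρ) {T : Scheme.{u}} (α β : T ⟶ RR ρ)
    (ht : α ≫ tR ρ = β ≫ tR ρ) (hs : α ≫ sR ρ = β ≫ sR ρ) : α = β := by
  apply hom_ext_of_inR ρ α
  intro g T' j a hj
  apply hom_ext_of_inR ρ (j ≫ β)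
  intro h T'' j' b hj'
  by_cases hT : Nonempty T''
  · have e1 : j' ≫ a = b := by
      calc j' ≫ a = j' ≫ (a ≫ inR ρ g) ≫ sR ρ := by rw [Category.assoc, inR_s, Category.comp_id]
        _ = j' ≫ (j ≫ α) ≫ sR ρ := by rw [hj]
        _ = (j' ≫ j ≫ β) ≫ sR ρ := by simp only [Category.assoc, hs]
        _ = b := by rw [hj', Category.assoc, inR_s, Category.comp_id]
    have e2 : b ≫ (ρ g).hom = b ≫ (ρ h).hom := by
      calc b ≫ (ρ g).hom = j' ≫ (a ≫ inR ρ g) ≫ tR ρ := by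
            rw [Category.assoc, inR_t, ← Category.assoc, e1]
        _ = j' ≫ (j ≫ α) ≫ tR ρ := by rw [hj]
        _ = (j' ≫ j ≫ β) ≫ tR ρ := by simp only [Category.assoc, ht]
        _ = b ≫ (ρ h).hom := by rw [hj', Category.assoc, inR_t]
    have hgh := eq_of_comp_eq hfree b g h e2
    subst hgh
    calc j' ≫ j ≫ α = j' ≫ a ≫ inR ρ g := by rw [hj]
      _ = b ≫ inR ρ g := by rw [← Category.assoc, e1]
      _ = j' ≫ j ≫ β := hj'.symm
  · rw [not_nonempty_iff] at hT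
    exact (isInitialOfIsEmpty (X := T'')).hom_ext _ _

end Free

section Gpd
variable {X : Scheme.{u}} {G : Type u} [Group G] (ρ : G →* Aut X)

/-- inversion on the arrows -/
noncomputable def iR : RR ρ ⟶ RR ρ := Sigma.desc fun g => (ρ g).hom ≫ inR ρ g⁻¹

@[reassoc]
theorem inR_iR (g : G) : inR ρ g ≫ iR ρ = (ρ g).hom ≫ inR ρ g⁻¹ := by
  unfold inR iR
  exact Sigma.ι_desc _ _

theorem RR_hom_ext {Z : Scheme.{u}} (f₁ f₂ : RR ρ ⟶ Z) (h : ∀ g, inR ρ g ≫ f₁ = inR ρ g ≫ f₂) :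
    f₁ = f₂ :=
  Sigma.hom_ext _ _ h

theorem iR_s : iR ρ ≫ sR ρ = tR ρ := by
  apply RR_hom_ext
  intro g
  rw [inR_iR_assoc, inR_s, Category.comp_id, inR_t]

theorem iR_t : iR ρ ≫ tR ρ = sR ρ := by
  apply RR_hom_ext
  intro g
  rw [inR_iR_assoc, inR_t, rho_comp_inv, inR_s]

variable {ρ}

/-- gluing local lifts through the jointly monic pair `(t, s)` -/
theorem exists_lift_of_local
    (hext : ∀ {T : Scheme.{u}} (α β : T ⟶ RR ρ), α ≫ tR ρ = β ≫ tR ρ → α ≫ sR ρ = β ≫ sR ρ → α = β)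
    {T : Scheme.{u}} (f₁ f₂ : T ⟶ X) (𝒰 : T.OpenCover)
    (h : ∀ i, ∃ l : 𝒰.X i ⟶ RR ρ, l ≫ tR ρ = 𝒰.f i ≫ f₁ ∧ l ≫ sR ρ = 𝒰.f i ≫ f₂) :
    ∃ l : T ⟶ RR ρ, l ≫ tR ρ = f₁ ∧ l ≫ sR ρ = f₂ := by
  choose l hl1 hl2 using h
  have hcompat : ∀ x y, pullback.fst (𝒰.f x) (𝒰.f y) ≫ l x = pullback.snd (𝒰.f x) (𝒰.f y) ≫ l y := by
    intro x y
    apply hext
    · rw [Category.assoc, Category.assoc, hl1, hl1, ← Category.assoc, ← Category.assoc,
        pullback.condition]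
    · rw [Category.assoc, Category.assoc, hl2, hl2, ← Category.assoc, ← Category.assoc,
        pullback.condition]
  refine ⟨𝒰.glueMorphisms l hcompat, ?_, ?_⟩
  · apply 𝒰.hom_ext
    intro i
    rw [← Category.assoc, Scheme.Cover.ι_glueMorphisms, hl1]
  · apply 𝒰.hom_ext
    intro i
    rw [← Category.assoc, Scheme.Cover.ι_glueMorphisms, hl2]

theorem exists_lift_of_inR
    (hext : ∀ {T : Scheme.{u}} (α β : T ⟶ RR ρ), α ≫ tR ρ = β ≫ tR ρ → α ≫ sR ρ = β ≫ sR ρ → α = β)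
    {T : Scheme.{u}} (f₁ f₂ : T ⟶ X) (r : T ⟶ RR ρ)
    (h : ∀ (g : G) (T' : Scheme.{u}) (j : T' ⟶ T) (r' : T' ⟶ X), j ≫ r = r' ≫ inR ρ g →
      ∃ l : T' ⟶ RR ρ, l ≫ tR ρ = j ≫ f₁ ∧ l ≫ sR ρ = j ≫ f₂) :
    ∃ l : T ⟶ RR ρ, l ≫ tR ρ = f₁ ∧ l ≫ sR ρ = f₂ := by
  apply exists_lift_of_local hext f₁ f₂ ((sigmaOpenCover (fun _ : G => X)).pullback₁ r)
  intro g
  exact h g _ _ (pullback.snd _ _) pullback.condition

theorem exists_cR
    (hext : ∀ {T : Scheme.{u}} (α β : T ⟶ RR ρ), α ≫ tR ρ = β ≫ tR ρ → α ≫ sR ρ = β ≫ sR ρ → α = β) :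
    ∃ c : pullback (sR ρ) (tR ρ) ⟶ RR ρ, c ≫ tR ρ = pullback.fst (sR ρ) (tR ρ) ≫ tR ρ ∧
      c ≫ sR ρ = pullback.snd (sR ρ) (tR ρ) ≫ sR ρ := by
  apply exists_lift_of_inR hext _ _ (pullback.fst (sR ρ) (tR ρ))
  intro g T' j a hja
  apply exists_lift_of_inR hext _ _ (j ≫ pullback.snd (sR ρ) (tR ρ))
  intro h T'' j' b hjb
  have hab : j' ≫ a = b ≫ (ρ h).hom := by
    calc j' ≫ a = j' ≫ (a ≫ inR ρ g) ≫ sR ρ := by rw [Category.assoc, inR_s, Category.comp_id]
      _ = j' ≫ (j ≫ pullback.fst (sR ρ) (tR ρ)) ≫ sR ρ := by rw [hja]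
      _ = (j' ≫ j ≫ pullback.snd (sR ρ) (tR ρ)) ≫ tR ρ := by
          simp only [Category.assoc, pullback.condition]
      _ = b ≫ (ρ h).hom := by rw [hjb, Category.assoc, inR_t]
  refine ⟨b ≫ inR ρ (g * h), ?_, ?_⟩
  · calc (b ≫ inR ρ (g * h)) ≫ tR ρ = (b ≫ (ρ h).hom) ≫ (ρ g).hom := by
          rw [Category.assoc, inR_t, rho_mul, Category.assoc]
      _ = j' ≫ (a ≫ inR ρ g) ≫ tR ρ := by rw [← hab, Category.assoc, Category.assoc, inR_t]
      _ = j' ≫ j ≫ pullback.fst (sR ρ) (tR ρ) ≫ tR ρ := by rw [← hja, Category.assoc]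
  · calc (b ≫ inR ρ (g * h)) ≫ sR ρ = (b ≫ inR ρ h) ≫ sR ρ := by
          rw [Category.assoc, inR_s, Category.assoc, inR_s]
      _ = j' ≫ j ≫ pullback.snd (sR ρ) (tR ρ) ≫ sR ρ := by rw [← hjb, Category.assoc, Category.assoc]

end Gpd

section Main
open Groth.Agent.Lib.Helper4.ActGpd1 Groth.Agent.Helper7.QuotGrp
variable {X Y : Scheme.{u}} {G : Type u} [Group G] [Finite G] (ρ : G →* Aut X)

theorem nonempty_isColimit_of_isQuot (p : X ⟶ Y) (hp : SGA1.IsQuot ρ p)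
    (w : tR ρ ≫ p = sR ρ ≫ p) : Nonempty (IsColimit (Cofork.ofπ p w)) := by
  have H : ∀ s : Cofork (tR ρ) (sR ρ), ∃! h' : Y ⟶ s.pt, p ≫ h' = s.π := by
    intro s
    apply main2925 hp
    intro g
    have := s.condition
    calc (ρ g).hom ≫ s.π = inR ρ g ≫ tR ρ ≫ s.π := by rw [inR_t_assoc]
      _ = inR ρ g ≫ sR ρ ≫ s.π := by rw [this]
      _ = s.π := by rw [inR_s_assoc]
  exact ⟨Cofork.IsColimit.mk' _ (fun s => ⟨(H s).choose, (H s).choose_spec.1,
    fun {m} hm => (H s).choose_spec.2 m hm⟩)⟩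

theorem main (p : X ⟶ Y) (hp : SGA1.IsQuot ρ p) (hfree : GeomFree ρ) :
    IsIso (Sigma.desc (fun g : G => pullback.lift (𝟙 X) (ρ g).hom
        ((Category.id_comp p).trans (hp.inv g).symm)) : (∐ fun _ : G => X) ⟶ pullback p p) ∧
      Flat p ∧ Surjective p := by
  have hext : ∀ {T : Scheme.{u}} (α β : T ⟶ RR ρ), α ≫ tR ρ = β ≫ tR ρ →
      α ≫ sR ρ = β ≫ sR ρ → α = β := fun α β => hext_of_free hfree α β
  obtain ⟨c, c_t, c_s⟩ := exists_cR hext
  have t_p : tR ρ ≫ p = sR ρ ≫ p := by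
    apply RR_hom_ext
    intro g
    rw [inR_t_assoc, inR_s_assoc, hp.inv]
  let Gd : Grpd.GroupoidScheme Y := gpdOfRel p (sR ρ ≫ p) (sR ρ) (tR ρ) rfl t_p hext
    (inR ρ 1) (inR_s ρ 1) (by rw [inR_t, rho_one]) (iR ρ) (iR_s ρ) (iR_t ρ) c c_t c_s
  have ha : Mor2.IsFinLocFree Gd.s :=
    ⟨(inferInstance : IsFinite (sR ρ)), (inferInstance : Flat (sR ρ)),
      (inferInstance : LocallyOfFinitePresentation (sR ρ))⟩
  have hb : ∀ x : Gd.U, ∃ V : Gd.U.Opens, IsAffineOpen V ∧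
      Gd.t.base '' (Gd.s.base ⁻¹' {x}) ⊆ (V : Set Gd.U) := by
    intro x
    obtain ⟨_, ⟨O, hO, rfl⟩, hxO, -⟩ :=
      Y.isBasis_affineOpens.exists_subset_of_mem_open (Set.mem_univ (p.base x)) isOpen_univ
    haveI := hp.affine
    refine ⟨p ⁻¹ᵁ O, hO.preimage p, ?_⟩
    rintro _ ⟨r, hr, rfl⟩
    obtain ⟨g, z, rfl⟩ := exists_inR ρ r
    have hz : (sR ρ).base ((inR ρ g).base z) = x := hr
    rw [← Scheme.Hom.comp_apply, inR_s] at hz
    have hz' : z = x := hz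
    subst hz'
    change p.base ((tR ρ).base ((inR ρ g).base z)) ∈ O
    rw [← Scheme.Hom.comp_apply, ← Scheme.Hom.comp_apply, inR_t_assoc, hp.inv]
    exact hxO
  haveI : Mono Gd.j := by
    constructor
    intro T α β hαβ
    apply hext
    · have := congrArg (· ≫ pullback.fst Gd.pU Gd.pU) hαβ
      simp only [Category.assoc, Grpd.GroupoidScheme.j, pullback.lift_fst] at this
      exact this
    · have := congrArg (· ≫ pullback.snd Gd.pU Gd.pU) hαβ
      simp only [Category.assoc, Grpd.GroupoidScheme.j, pullback.lift_snd] at this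
      exact this
  obtain ⟨hc⟩ := nonempty_isColimit_of_isQuot ρ p hp t_p
  obtain ⟨hpb, -, hfl, -⟩ := Groth.Agent.Lib.Helper4.GrpdQuotMono1.main Y Gd ha hb Y p t_p hc
  have hpb' : IsPullback (sR ρ) (tR ρ) p p := hpb.flip
  refine ⟨?_, hfl, ⟨(main2908 hp).1⟩⟩
  have h1 : hpb'.isoPullback.hom ≫ pullback.fst p p = sR ρ := hpb'.isoPullback_hom_fst
  have h2 : hpb'.isoPullback.hom ≫ pullback.snd p p = tR ρ := hpb'.isoPullback_hom_snd
  have key : ∀ g : G, inR ρ g ≫ hpb'.isoPullback.hom = pullback.lift (𝟙 X) (ρ g).hom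
      ((Category.id_comp p).trans (hp.inv g).symm) := by
    intro g
    apply pullback.hom_ext
    · rw [Category.assoc, h1, inR_s, pullback.lift_fst]
    · rw [Category.assoc, h2, inR_t, pullback.lift_snd]
  have : (Sigma.desc (fun g : G => pullback.lift (𝟙 X) (ρ g).hom
        ((Category.id_comp p).trans (hp.inv g).symm)) : (∐ fun _ : G => X) ⟶ pullback p p) =
      hpb'.isoPullback.hom := by
    apply Sigma.hom_ext
    intro g
    rw [Sigma.ι_desc]
    exact (key g).symm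
  rw [this]
  infer_instance

end Main

end Groth.Agent.Lib.Helper4.FinGrpFree1
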