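import Mathlib
import Groth.Prelude.Def_AlgGrp
import Groth.Agent.Lib.Helper4.GrpShear1

/-!
# Finite group scheme over a field: G_red x G0 -> G is an isomorphism (flat mono surjective) (helper4)
-/

set_option backward.isDefEq.respectTransparency.types false
set_option synthInstance.maxHeartbeats 400000
set_option autoImplicit false
set_option linter.unusedSectionVars false
set_option linter.style.haveILetI false
set_option linter.unusedSimpArgs false
universe u v w
open CategoryTheory CategoryTheory.Limits AlgebraicGeometry TopologicalSpace Opposite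
open MonoidalCategory CartesianMonoidalCategory MonObj GrpObj

namespace Groth.Agent.Lib.Helper4.FinGrpSplit1
open Groth.Agent.Lib.Helper4

variable {k : Type u} [Field k]

lemma discreteTopology_of_isFinite (G : Over (Spec (CommRingCat.of k))) [IsFinite G.hom] :
    DiscreteTopology G.left := by
  haveI : IsLocallyArtinian G.left := IsLocallyArtinian.of_locallyQuasiFinite G.hom
  infer_instance

lemma subsingleton_of_conn (G G₀ : Over (Spec (CommRingCat.of k))) [IsFinite G.hom]
    (i₀ : G₀ ⟶ G) [IsOpenImmersion i₀.left] [ConnectedSpace ↥G₀.left] : Subsingleton G₀.left := by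
  haveI := discreteTopology_of_isFinite G
  haveI : DiscreteTopology G₀.left := i₀.left.isOpenEmbedding.isEmbedding.discreteTopology
  exact PreconnectedSpace.trivial_of_discrete


theorem alpha_eq_one (G Gr G₀ : Over (Spec (CommRingCat.of k))) [GrpObj G] [GrpObj Gr] [GrpObj G₀]
    [IsFinite G.hom]
    (r : Gr ⟶ G) [IsMonHom r] [IsClosedImmersion r.left] [IsReduced Gr.left]
    (i₀ : G₀ ⟶ G) [IsMonHom i₀] [IsOpenImmersion i₀.left] [ConnectedSpace ↥G₀.left]
    {T : Over (Spec (CommRingCat.of k))} (α : T ⟶ Gr) (β : T ⟶ G₀) (h : α ≫ r = β ≫ i₀) :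
    α = 1 := by
  haveI := subsingleton_of_conn G G₀ i₀
  haveI : IsReduced (pullback r.left i₀.left) :=
    isReduced_of_isOpenImmersion (pullback.fst r.left i₀.left)
  haveI : Subsingleton ↥(pullback r.left i₀.left : Scheme.{u}) :=
    (pullback.snd r.left i₀.left).isEmbedding.injective.subsingleton
  have h1 : η[Gr] ≫ r = η[G] := IsMonHom.one_hom r
  have h2 : η[G₀] ≫ i₀ = η[G] := IsMonHom.one_hom i₀
  let s : (𝟙_ (Over (Spec (CommRingCat.of k)))).left ⟶ pullback r.left i₀.left :=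
    pullback.lift η[Gr].left η[G₀].left (by
      exact congrArg (fun f => f.left) (h1.trans h2.symm))
  have hs1 : s ≫ pullback.fst _ _ = η[Gr].left := pullback.lift_fst _ _ _
  have hη : η[Gr].left ≫ Gr.hom = 𝟙 _ := by simpa using Over.w η[Gr]
  haveI : IsSeparated Gr.hom := by
    rw [← Over.w r]; infer_instance
  haveI : IsClosedImmersion (η[Gr].left ≫ Gr.hom) := by rw [hη]; infer_instance
  haveI : IsClosedImmersion η[Gr].left := IsClosedImmersion.of_comp η[Gr].left Gr.hom
  haveI : IsClosedImmersion (s ≫ pullback.fst r.left i₀.left) := by rw [hs1]; infer_instance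
  haveI : IsClosedImmersion s := IsClosedImmersion.of_comp s (pullback.fst r.left i₀.left)
  haveI : Nonempty (𝟙_ (Over (Spec (CommRingCat.of k)))).left :=
    inferInstanceAs (Nonempty (PrimeSpectrum k))
  haveI : Surjective s := ⟨fun x => ⟨Classical.arbitrary _, Subsingleton.elim _ _⟩⟩
  haveI : IsIso s := isIso_of_isClosedImmersion_of_surjective s
  have hP : pullback.fst r.left i₀.left ≫ Gr.hom ≫ s = 𝟙 _ := by
    rw [← cancel_epi s, ← Category.assoc, ← Category.assoc, hs1, hη]
    simp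
  let l : T.left ⟶ pullback r.left i₀.left := pullback.lift α.left β.left (by
    exact congrArg (fun f => f.left) h)
  have hl : l ≫ pullback.fst _ _ = α.left := pullback.lift_fst _ _ _
  rw [Hom.one_def]
  ext
  rw [Over.comp_left, ← hl]
  calc l ≫ pullback.fst r.left i₀.left
      = l ≫ (pullback.fst r.left i₀.left ≫ Gr.hom ≫ s) ≫ pullback.fst r.left i₀.left := by
        rw [hP]; simp
    _ = (l ≫ pullback.fst r.left i₀.left ≫ Gr.hom) ≫ η[Gr].left := by
        simp only [Category.assoc, hs1]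
    _ = (toUnit T).left ≫ η[Gr].left := by
        congr 1
        rw [← Category.assoc, hl]
        exact (Over.w α).trans (Over.w (toUnit T)).symm


theorem main (k : Type u) [Field k]
    (G Gr G₀ : Over (Spec (CommRingCat.of k))) [GrpObj G] [GrpObj Gr] [GrpObj G₀] [IsFinite G.hom]
    (r : Gr ⟶ G) [IsMonHom r] [IsClosedImmersion r.left] [IsReduced Gr.left] [Surjective r.left]
    (i₀ : G₀ ⟶ G) [IsMonHom i₀] [IsOpenImmersion i₀.left] [ConnectedSpace ↥G₀.left] :
    IsIso ((r ⊗ₘ i₀) ≫ μ[G]) := by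
  have hm2 : (r ⊗ₘ i₀) ≫ μ[G] = (Gr ◁ i₀) ≫ GrpShear1.shear r ≫ snd Gr G :=
    GrpShear1.tensor_mul_eq r i₀
  have hpt : ∀ {T : Over (Spec (CommRingCat.of k))} (f : T ⟶ Gr ⊗ G₀),
      f ≫ (r ⊗ₘ i₀) ≫ μ[G] = ((f ≫ fst Gr G₀) ≫ r) * ((f ≫ snd Gr G₀) ≫ i₀) := by
    intro T f
    rw [Hom.mul_def, ← Category.assoc]
    congr 1
    apply CartesianMonoidalCategory.hom_ext <;> simp
  haveI hsub := subsingleton_of_conn G G₀ i₀
  -- flat
  haveI : Flat ((r ⊗ₘ i₀) ≫ μ[G]).left := by
    rw [hm2, Over.comp_left, Over.comp_left]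
    haveI : IsIso (GrpShear1.shear r).left :=
      inferInstanceAs (IsIso ((Over.forget _).map (GrpShear1.shear r)))
    haveI : Flat Gr.hom := inferInstance
    haveI : Flat (snd Gr G).left := by rw [Over.snd_left]; infer_instance
    infer_instance
  -- surjective
  haveI : Surjective ((r ⊗ₘ i₀) ≫ μ[G]).left := by
    have e : lift (𝟙 Gr) (toUnit Gr ≫ η[G₀]) ≫ (r ⊗ₘ i₀) ≫ μ[G] = r := by
      rw [hpt, lift_fst, lift_snd, Category.id_comp, Category.assoc, IsMonHom.one_hom,
        ← Hom.one_def, _root_.mul_one]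
    haveI : Surjective ((lift (𝟙 Gr) (toUnit Gr ≫ η[G₀])).left ≫ ((r ⊗ₘ i₀) ≫ μ[G]).left) := by
      rw [← Over.comp_left, e]; infer_instance
    exact Surjective.of_comp (lift (𝟙 Gr) (toUnit Gr ≫ η[G₀])).left _
  -- mono
  haveI : Mono i₀ := Over.mono_of_mono_left i₀
  haveI : Mono ((r ⊗ₘ i₀) ≫ μ[G]) := by
    constructor
    intro T f f' hff
    rw [hpt, hpt] at hff
    have hα : ((f' ≫ fst Gr G₀)⁻¹ * (f ≫ fst Gr G₀)) ≫ r
        = ((f' ≫ snd Gr G₀) * (f ≫ snd Gr G₀)⁻¹) ≫ i₀ := by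
      rw [MonObj.mul_comp, MonObj.mul_comp, GrpObj.inv_comp, GrpObj.inv_comp]
      rw [inv_mul_eq_iff_eq_mul, ← _root_.mul_assoc, eq_mul_inv_iff_mul_eq]
      exact hff
    have h1 := alpha_eq_one G Gr G₀ r i₀ _ _ hα
    have ha : f ≫ fst Gr G₀ = f' ≫ fst Gr G₀ := (inv_mul_eq_one.mp h1).symm
    have hb : (f ≫ snd Gr G₀) ≫ i₀ = (f' ≫ snd Gr G₀) ≫ i₀ := by
      rw [ha] at hff; exact mul_left_cancel hff
    have hb' : f ≫ snd Gr G₀ = f' ≫ snd Gr G₀ := (cancel_mono i₀).mp hb
    exact CartesianMonoidalCategory.hom_ext _ _ ha hb'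
  haveI : Mono ((r ⊗ₘ i₀) ≫ μ[G]).left := inferInstance
  -- quasi-compact
  haveI : IsAffine G.left := isAffine_of_isAffineHom G.hom
  haveI : QuasiCompact Gr.hom := by rw [← Over.w r]; infer_instance
  haveI : CompactSpace ↥(Gr ⊗ G₀).left := by
    rw [Over.tensorObj_left]; infer_instance
  have hI : IsIso ((r ⊗ₘ i₀) ≫ μ[G]).left := Flat.isIso_of_surjective_of_mono _
  haveI : IsIso ((Over.forget (Spec (CommRingCat.of k))).map ((r ⊗ₘ i₀) ≫ μ[G])) := hI
  exact isIso_of_reflects_iso _ (Over.forget _)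

end Groth.Agent.Lib.Helper4.FinGrpSplit1
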