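import Mathlib
import Groth.Prelude.Def_FDesc
import Groth.Agent.Lib.Lead.SD1
import Groth.Agent.Lib.Helper1.FinLen1
import Groth.Agent.Lib.Helper4.CohSk1

/-!
# Generic points of Supp F iff stalk nonzero of finite length (helper4)
-/

set_option backward.isDefEq.respectTransparency.types false
set_option synthInstance.maxHeartbeats 400000
set_option autoImplicit false
set_option linter.unusedSectionVars false
set_option linter.style.haveILetI false
set_option linter.unusedSimpArgs false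
universe u v w
open CategoryTheory CategoryTheory.Limits AlgebraicGeometry TopologicalSpace Opposite

namespace Groth.Agent.Lib.Helper4.FinLenStalk1

attribute [local instance] Groth.Agent.Lead.SD.stalkModule

theorem exists_pow_smul_eq_zero {R M : Type*} [CommRing R] [IsLocalRing R] [AddCommGroup M]
    [Module R M] (h : IsFiniteLength R M) (a : R) (ha : a ∈ IsLocalRing.maximalIdeal R) :
    ∃ n : ℕ, ∀ m : M, a ^ n • m = 0 := by
  obtain ⟨hN, hA⟩ := isFiniteLength_iff_isNoetherian_isArtinian.mp h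
  let I : Ideal R := Ideal.span {a}
  let f : ℕ →o (Submodule R M)ᵒᵈ :=
    ⟨fun k => OrderDual.toDual (I ^ k • (⊤ : Submodule R M)), by
      intro k l hkl
      show I ^ l • (⊤ : Submodule R M) ≤ I ^ k • (⊤ : Submodule R M)
      exact Submodule.smul_mono_left (Ideal.pow_le_pow_right hkl)⟩
  obtain ⟨n, hn⟩ := IsArtinian.monotone_stabilizes f
  have h1 : I ^ n • (⊤ : Submodule R M) = I ^ (n + 1) • (⊤ : Submodule R M) :=
    congrArg OrderDual.ofDual (hn (n + 1) (Nat.le_succ n))
  have h2 : I ^ n • (⊤ : Submodule R M) ≤ I • (I ^ n • (⊤ : Submodule R M)) := by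
    rw [← mul_smul, ← pow_succ', ← h1]
  have hI : I ≤ Ideal.jacobson ⊥ := by
    rw [IsLocalRing.jacobson_eq_maximalIdeal ⊥ bot_ne_top]
    exact (Ideal.span_singleton_le_iff_mem _).mpr ha
  have h3 : I ^ n • (⊤ : Submodule R M) = ⊥ :=
    Submodule.eq_bot_of_le_smul_of_le_jacobson_bot I _ (IsNoetherian.noetherian _) h2 hI
  refine ⟨n, fun m => ?_⟩
  have : a ^ n • m ∈ I ^ n • (⊤ : Submodule R M) :=
    Submodule.smul_mem_smul (Ideal.pow_mem_pow (Ideal.mem_span_singleton_self a) n)
      Submodule.mem_top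
  rw [h3] at this
  exact (Submodule.mem_bot R).mp this

theorem main {X : Scheme.{u}} [IsLocallyNoetherian X] (F : X.Modules)
    (hF : Coh.IsCoh F) (x : X) :
    (Nontrivial ↑(F.presheaf.stalk x) ∧ ∀ y : X, Nontrivial ↑(F.presheaf.stalk y) → y ⤳ x → y = x) ↔
      (Nontrivial ↑(F.presheaf.stalk x) ∧ IsFiniteLength ↑(X.presheaf.stalk x) ↑(F.presheaf.stalk x)) := by
  haveI : F.IsQuasicoherent := hF.1
  obtain ⟨_, ⟨V : X.Opens, hV, rfl⟩, hxV, -⟩ :=
    X.isBasis_affineOpens.exists_subset_of_mem_open (Set.mem_univ x) isOpen_univ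
  haveI : IsNoetherianRing Γ(X, V) := IsLocallyNoetherian.component_noetherian ⟨V, hV⟩
  haveI : Module.Finite Γ(X, V) Γ(F, V) :=
    Groth.Agent.Lib.Helper4.CohSk1.finite_sections F hV hF.2
  obtain ⟨x', rfl⟩ : ∃ x' : V, x'.1 = x := ⟨⟨x, hxV⟩, rfl⟩
  haveI := Groth.Agent.Lead.SD.isLocalizedModule_germ F hV x'
  haveI := hV.isLocalization_stalk x'
  have key : ∀ y : V, Nontrivial ↑(F.presheaf.stalk y.1) ↔
      hV.primeIdealOf y ∈ Module.support Γ(X, V) Γ(F, V) := by
    intro y
    haveI := Groth.Agent.Lead.SD.isLocalizedModule_germ F hV y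
    rw [Module.mem_support_iff]
    exact (IsLocalizedModule.iso (hV.primeIdealOf y).asIdeal.primeCompl
      (Groth.Agent.Lead.SD.germₗ F y)).symm.toEquiv.nontrivial_congr
  constructor
  · rintro ⟨hne, hmin⟩
    refine ⟨hne, ?_⟩
    show IsFiniteLength ↑(X.presheaf.stalk x'.1) ↑(F.presheaf.stalk x'.1)
    refine Groth.Agent.Helper1.FinLen.isFiniteLength_localized (hV.primeIdealOf x').asIdeal
      (X.presheaf.stalk x'.1) (Groth.Agent.Lead.SD.germₗ F x') ?_
    intro q hq hann hle
    obtain ⟨y, hy⟩ : ∃ y : V, hV.primeIdealOf y = ⟨q, hq⟩ :=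
      ⟨⟨hV.fromSpec ⟨q, hq⟩, Groth.Agent.Lead.SD.fromSpec_mem hV _⟩,
        Groth.Agent.Lead.SD.primeIdealOf_fromSpec hV _⟩
    have hyx : y.1 ⤳ x'.1 := by
      have := (Groth.Agent.Lib.Helper4.CohSk1.spec_iff hV x' y).mpr (by rw [hy]; exact hle)
      exact this
    have hne' : Nontrivial ↑(F.presheaf.stalk y.1) := by
      rw [key y, hy, Module.mem_support_iff_of_finite]
      exact hann
    have h1 := hmin y.1 hne' hyx
    have h2 : y = x' := Subtype.ext h1
    rw [h2] at hy
    exact (congrArg PrimeSpectrum.asIdeal hy).symm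
  · rintro ⟨hne, hfl⟩
    replace hfl : IsFiniteLength ↑(X.presheaf.stalk x'.1) ↑(F.presheaf.stalk x'.1) := hfl
    refine ⟨hne, fun y hny hyx => ?_⟩
    have hyV : y ∈ V := hyx.mem_open V.isOpen hxV
    obtain ⟨y', rfl⟩ : ∃ y' : V, y'.1 = y := ⟨⟨y, hyV⟩, rfl⟩
    have hle : hV.primeIdealOf y' ≤ hV.primeIdealOf x' :=
      (Groth.Agent.Lib.Helper4.CohSk1.spec_iff hV x' y').mp hyx
    by_contra hne2
    have hne3 : hV.primeIdealOf y' ≠ hV.primeIdealOf x' := by
      intro h
      apply hne2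
      have h1 := hV.fromSpec_primeIdealOf y'
      have h2 := hV.fromSpec_primeIdealOf x'
      rw [h] at h1
      exact h1.symm.trans h2
    have hlt : (hV.primeIdealOf y').asIdeal < (hV.primeIdealOf x').asIdeal :=
      lt_of_le_of_ne hle (fun h => hne3 (PrimeSpectrum.ext h))
    obtain ⟨a, haP, haq⟩ := Set.exists_of_ssubset hlt
    have ha' : algebraMap Γ(X, V) (X.presheaf.stalk x'.1) a ∈
        IsLocalRing.maximalIdeal (X.presheaf.stalk x'.1) :=
      (IsLocalization.AtPrime.to_map_mem_maximal_iff (X.presheaf.stalk x'.1)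
        (hV.primeIdealOf x').asIdeal a).mpr haP
    obtain ⟨n, hn⟩ := exists_pow_smul_eq_zero hfl _ ha'
    have hsup := (key y').mp hny
    rw [← not_not (a := hV.primeIdealOf y' ∈ Module.support Γ(X, V) Γ(F, V)),
      Module.notMem_support_iff'] at hsup
    apply hsup
    intro m
    have h1 : Groth.Agent.Lead.SD.germₗ F x' (a ^ n • m) = 0 := by
      rw [map_smul]
      have := hn (Groth.Agent.Lead.SD.germₗ F x' m)
      rw [← map_pow, algebraMap_smul] at this
      exact this
    obtain ⟨s, hs⟩ := (IsLocalizedModule.eq_zero_iff (hV.primeIdealOf x').asIdeal.primeCompl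
      (Groth.Agent.Lead.SD.germₗ F x')).mp h1
    refine ⟨s.1 * a ^ n, ?_, ?_⟩
    · intro hmem
      rcases (hV.primeIdealOf y').isPrime.mem_or_mem hmem with h | h
      · exact s.2 (hle h)
      · exact haq ((hV.primeIdealOf y').isPrime.mem_of_pow_mem n h)
    · rw [mul_smul]; exact hs

end Groth.Agent.Lib.Helper4.FinLenStalk1
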