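import Mathlib

/-!
# Fibrewise isomorphism criterion onto a finite flat algebra (helper4)
-/

set_option backward.isDefEq.respectTransparency.types false
set_option synthInstance.maxHeartbeats 400000
set_option autoImplicit false
set_option linter.unusedSectionVars false
set_option linter.style.haveILetI false
set_option linter.unusedSimpArgs false
universe u v w
open TensorProduct IsLocalRing

namespace Groth.Agent.Lib.Helper4.FiniteFlatIso1

open TensorProduct IsLocalRing

/-- kernel of a surjection from a finite type algebra onto a finitely presented one is f.g. -/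
theorem ker_fg_of_finiteType {R A B : Type*} [CommRing R] [CommRing A] [CommRing B]
    [Algebra R A] [Algebra R B] [Algebra.FiniteType R B] [Algebra.FinitePresentation R A]
    (f : B →ₐ[R] A) (hf : Function.Surjective f) : (RingHom.ker f.toRingHom).FG := by
  obtain ⟨n, g, hg⟩ := Algebra.FiniteType.iff_quotient_mvPolynomial''.mp
    (inferInstance : Algebra.FiniteType R B)
  convert! (Algebra.FinitePresentation.ker_fg_of_mvPolynomial (f.comp g) (hf.comp hg)).map
    g.toRingHom
  simp_rw [RingHom.ker_eq_comap_bot, AlgHom.toRingHom_eq_coe, AlgHom.comp_toRingHom]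
  rw [← Ideal.comap_comap, Ideal.map_comap_of_surjective (g : MvPolynomial (Fin n) R →+* B) hg]

/-- Local lemma. -/
theorem local_lemma {R A B : Type*} [CommRing R] [IsLocalRing R] [CommRing A] [CommRing B]
    [Algebra R A] [Algebra R B] [Module.Finite R A] [Module.Flat R A] [Algebra.FiniteType R B]
    (f : B →ₐ[R] A) (hf : Function.Surjective f)
    (hinj : Function.Injective (LinearMap.lTensor (ResidueField R) f.toLinearMap)) :
    ∃ c : B, c - 1 ∈ Ideal.map (algebraMap R B) (maximalIdeal R) ∧ ∀ y, f y = 0 → c * y = 0 := by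
  haveI : Module.Free R A := Module.free_of_flat_of_isLocalRing
  haveI : Module.FinitePresentation R A := Module.finitePresentation_of_projective R A
  haveI : Algebra.FinitePresentation R A := inferInstance
  have hfg := ker_fg_of_finiteType f hf
  obtain ⟨σ, hσ⟩ := Module.projective_lifting_property f.toLinearMap LinearMap.id hf
  have hσ' : ∀ a, f (σ a) = a := fun a => LinearMap.congr_fun hσ a
  set J : Ideal B := Ideal.map (algebraMap R B) (maximalIdeal R) with hJ
  set K : Ideal B := RingHom.ker f.toRingHom with hK
  -- elements of the kernel lie in `𝔪 • ⊤`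
  have h1 : ∀ y, f y = 0 → y ∈ (maximalIdeal R • ⊤ : Submodule R B) := by
    intro y hy
    have h0 : (1 : ResidueField R) ⊗ₜ[R] y = 0 := by
      apply hinj
      rw [map_zero, LinearMap.lTensor_tmul]
      change (1 : ResidueField R) ⊗ₜ[R] f y = 0
      rw [hy, tmul_zero]
    have h0' : ((1 : R ⧸ maximalIdeal R) ⊗ₜ[R] y) = 0 := h0
    have := TensorProduct.quotTensorEquivQuotSMul_mk_one_tmul (M := B) (maximalIdeal R) y
    rw [h0', map_zero] at this
    exact (Submodule.Quotient.mk_eq_zero _).mp this.symm
  -- the projection onto the kernel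
  let π : B →ₗ[R] B := LinearMap.id - σ ∘ₗ f.toLinearMap
  have hπK : ∀ b, π b ∈ K := by
    intro b
    rw [hK, RingHom.mem_ker]
    change f (b - σ (f b)) = 0
    rw [map_sub, hσ', sub_self]
  have hπid : ∀ y, f y = 0 → π y = y := by
    intro y hy
    change y - σ (f y) = y
    rw [hy, map_zero, sub_zero]
  have h2 : K ≤ J • K := by
    intro y hy
    have hy0 : f y = 0 := hy
    have hy1 := h1 y hy0
    rw [← hπid y hy0]
    clear hy0 hy
    refine Submodule.smul_induction_on hy1 ?_ ?_
    · intro r hr b _
      rw [map_smul, Algebra.smul_def r (π b)]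
      exact Submodule.smul_mem_smul (Ideal.mem_map_of_mem _ hr) (hπK b)
    · intro x y hx hy
      rw [map_add]
      exact add_mem hx hy
  obtain ⟨c, hc1, hc2⟩ := Submodule.exists_sub_one_mem_and_smul_eq_zero_of_fg_of_le_smul J K hfg h2
  exact ⟨c, hc1, fun y hy => hc2 y hy⟩

/-- Lemma K: transfer of injectivity of the fibre map along base change. -/
theorem lTensor_injective_baseChange {R R' κ M N : Type*} [CommRing R] [CommRing R']
    [Algebra R R'] [AddCommGroup κ] [Module R κ] [Module R' κ] [IsScalarTower R R' κ]
    [AddCommGroup M] [Module R M] [AddCommGroup N] [Module R N]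
    (g : M →ₗ[R] N) (g' : R' ⊗[R] M →ₗ[R'] R' ⊗[R] N)
    (hg' : ∀ (r : R') (m : M), g' (r ⊗ₜ m) = r ⊗ₜ g m)
    (hinj : Function.Injective (LinearMap.lTensor κ g)) :
    Function.Injective (LinearMap.lTensor κ g') := by
  let eM := TensorProduct.AlgebraTensorModule.cancelBaseChange R R' R' κ M
  let eN := TensorProduct.AlgebraTensorModule.cancelBaseChange R R' R' κ N
  have key : ∀ z, eN (LinearMap.lTensor κ g' z) = LinearMap.lTensor κ g (eM z) := by
    intro z
    induction z using TensorProduct.induction_on with
    | zero => simp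
    | add x y hx hy => simp only [map_add, hx, hy]
    | tmul k w =>
      induction w using TensorProduct.induction_on with
      | zero => simp
      | add x y hx hy => simp only [tmul_add, map_add, hx, hy]
      | tmul r m =>
        rw [LinearMap.lTensor_tmul, hg']
        simp [eM, eN]
  intro z1 z2 h
  apply eM.injective
  apply hinj
  rw [← key, ← key, h]

/-- Lemma G: descending the annihilating element from the localization. -/
theorem descend {R B R' B' : Type*} [CommRing R] [CommRing B] [CommRing R'] [CommRing B']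
    [Algebra R B] [Algebra R R'] [Algebra R' B'] [Algebra B B'] [Algebra R B']
    [IsScalarTower R R' B'] [IsScalarTower R B B'] (p : Ideal R) [p.IsPrime]
    [IsLocalization (Algebra.algebraMapSubmonoid B p.primeCompl) B']
    (x : B) (c' : B')
    (hc1 : c' - 1 ∈ Ideal.map (algebraMap R' B') (Ideal.map (algebraMap R R') p))
    (hc2 : c' * algebraMap B B' x = 0) :
    ∃ (e : B) (t : R), t ∉ p ∧ e * x = 0 ∧ e - algebraMap R B t ∈ Ideal.map (algebraMap R B) p := by
  set M := Algebra.algebraMapSubmonoid B p.primeCompl with hM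
  set J := Ideal.map (algebraMap R B) p with hJ
  have hmap : Ideal.map (algebraMap R' B') (Ideal.map (algebraMap R R') p) =
      Ideal.map (algebraMap B B') J := by
    rw [hJ, Ideal.map_map, Ideal.map_map, ← IsScalarTower.algebraMap_eq,
      ← IsScalarTower.algebraMap_eq]
  rw [hmap, IsLocalization.mem_map_algebraMap_iff M] at hc1
  obtain ⟨⟨⟨a, ha⟩, ⟨s₂, hs₂⟩⟩, h2⟩ := hc1
  obtain ⟨⟨c, ⟨s, hs⟩⟩, h1⟩ := IsLocalization.surj M c'
  simp only at h1 h2
  have e3 : algebraMap B B' (c * s₂ * x) = 0 := by
    rw [map_mul, map_mul, ← h1]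
    linear_combination (algebraMap B B' s * algebraMap B B' s₂) * hc2
  obtain ⟨⟨s₃, hs₃⟩, h3⟩ := (IsLocalization.map_eq_zero_iff M B' _).mp e3
  have e4 : algebraMap B B' (c * s₂ - s * s₂ - a * s) = 0 := by
    simp only [map_sub, map_mul]
    rw [← h1]
    linear_combination (algebraMap B B' s) * h2
  obtain ⟨⟨s₄, hs₄⟩, h4⟩ := (IsLocalization.map_eq_zero_iff M B' _).mp e4
  simp only at h3 h4
  obtain ⟨t₂, ht₂, rfl⟩ := hs₂
  obtain ⟨t, ht, rfl⟩ := hs
  obtain ⟨t₃, ht₃, rfl⟩ := hs₃
  obtain ⟨t₄, ht₄, rfl⟩ := hs₄
  refine ⟨algebraMap R B t₄ * algebraMap R B t₃ * c * algebraMap R B t₂, t₄ * t₃ * t * t₂,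
    ?_, ?_, ?_⟩
  · exact (mul_mem (mul_mem (mul_mem ht₄ ht₃) ht) ht₂ : t₄ * t₃ * t * t₂ ∈ p.primeCompl)
  · linear_combination (algebraMap R B t₄) * h3
  · have : algebraMap R B t₄ * algebraMap R B t₃ * c * algebraMap R B t₂ -
        algebraMap R B (t₄ * t₃ * t * t₂) =
        (algebraMap R B t₃ * algebraMap R B t₄ * algebraMap R B t) * a := by
      simp only [map_mul]
      linear_combination (algebraMap R B t₃) * h4
    rw [this]
    exact Ideal.mul_mem_left _ _ ha

theorem main {R A B : Type u} [CommRing R] [CommRing A] [CommRing B] [Algebra R A] [Algebra R B]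
    [Module.Finite R A] [Module.Flat R A] [Algebra.FiniteType R B]
    (f : B →ₐ[R] A)
    (hrank : ∀ p : PrimeSpectrum R,
      Module.rank p.asIdeal.ResidueField (p.asIdeal.ResidueField ⊗[R] B) =
        Module.rank p.asIdeal.ResidueField (p.asIdeal.ResidueField ⊗[R] A))
    (hmax : ∀ (m : Ideal R) [m.IsMaximal],
      Function.Bijective (LinearMap.lTensor m.ResidueField f.toLinearMap)) :
    Function.Bijective f := by
  -- Step S : surjectivity
  have hsurj : Function.Surjective f := by
    let P : Submodule R A := LinearMap.range f.toLinearMap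
    have hsub : Subsingleton (A ⧸ P) := by
      rw [← Module.support_eq_empty_iff (R := R)]
      by_contra hne
      obtain ⟨q, hq⟩ := Set.nonempty_iff_ne_empty.mpr hne
      obtain ⟨m, hm, hqm⟩ := Ideal.exists_le_maximal q.asIdeal q.2.ne_top
      have hmem : (⟨m, hm.isPrime⟩ : PrimeSpectrum R) ∈ Module.support R (A ⧸ P) :=
        Module.mem_support_mono (show q ≤ ⟨m, hm.isPrime⟩ from hqm) hq
      rw [Module.mem_support_iff_nontrivial_residueField_tensorProduct] at hmem
      have : Subsingleton (m.ResidueField ⊗[R] (A ⧸ P)) := by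
        have hs := LinearMap.lTensor_surjective m.ResidueField (Submodule.mkQ_surjective P)
        have hall : ∀ z : m.ResidueField ⊗[R] (A ⧸ P), z = 0 := fun z => by
          obtain ⟨w, rfl⟩ := hs z
          obtain ⟨v, rfl⟩ := (hmax m).2 w
          rw [← LinearMap.comp_apply, ← LinearMap.lTensor_comp]
          have h0 : P.mkQ ∘ₗ f.toLinearMap = 0 := by
            ext b
            simp only [LinearMap.comp_apply, Submodule.mkQ_apply, LinearMap.zero_apply,
              Submodule.Quotient.mk_eq_zero]
            exact LinearMap.mem_range_self _ b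
          rw [h0, LinearMap.lTensor_zero, LinearMap.zero_apply]
        exact ⟨fun a b => by rw [hall a, hall b]⟩
      exact not_nontrivial _ hmem
    have hP : P = ⊤ := Submodule.Quotient.subsingleton_iff.mp hsub
    intro a
    have : a ∈ P := hP ▸ Submodule.mem_top
    exact this
  -- Step R : injectivity on all fibres
  have hfib : ∀ p : PrimeSpectrum R,
      Function.Injective (LinearMap.lTensor p.asIdeal.ResidueField f.toLinearMap) := by
    intro p
    let K := p.asIdeal.ResidueField
    let g : K ⊗[R] B →ₗ[K] K ⊗[R] A := f.toLinearMap.baseChange K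
    have hgl : ∀ z, g z = LinearMap.lTensor K f.toLinearMap z := fun z => by
      rw [← LinearMap.baseChange_eq_ltensor]
    have hgs : Function.Surjective g := by
      intro z
      obtain ⟨w, hw⟩ := LinearMap.lTensor_surjective K (show Function.Surjective f.toLinearMap from hsurj) z
      exact ⟨w, by rw [hgl]; exact hw⟩
    haveI : Module.Finite K (K ⊗[R] B) := by
      rw [← Module.rank_lt_aleph0_iff, hrank p]
      exact Module.rank_lt_aleph0 K _
    have hfr : Module.finrank K (K ⊗[R] B) = Module.finrank K (K ⊗[R] A) := by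
      unfold Module.finrank
      rw [hrank p]
    have hgi := (LinearMap.injective_iff_surjective_of_finrank_eq_finrank hfr (f := g)).mpr hgs
    intro z1 z2 h
    apply hgi
    rw [hgl, hgl, h]
  -- Step I : injectivity
  refine ⟨?_, hsurj⟩
  rw [injective_iff_map_eq_zero]
  intro x hx
  by_contra hx0
  let Kx : Ideal B := LinearMap.ker (LinearMap.toSpanSingleton B B x)
  have hKx : ∀ b, b ∈ Kx ↔ b * x = 0 := fun b => by
    simp [Kx, LinearMap.mem_ker]
  have hne : Kx ≠ ⊤ := by
    intro h
    have h1 : (1 : B) ∈ Kx := h ▸ Submodule.mem_top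
    rw [hKx, one_mul] at h1
    exact hx0 h1
  obtain ⟨q, hq, hKq⟩ := Ideal.exists_le_maximal Kx hne
  haveI := hq.isPrime
  let p : Ideal R := q.comap (algebraMap R B)
  haveI : p.IsPrime := Ideal.comap_isPrime _ _
  let R' := Localization.AtPrime p
  let f' : R' ⊗[R] B →ₐ[R'] R' ⊗[R] A := Algebra.TensorProduct.map (AlgHom.id R' R') f
  have hf'l : ∀ z, f' z = LinearMap.lTensor R' f.toLinearMap z := by
    intro z
    induction z using TensorProduct.induction_on with
    | zero => simp
    | add x y hx hy => simp only [map_add, hx, hy]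
    | tmul r b => simp [f']
  have hf' : Function.Surjective f' := by
    intro z
    obtain ⟨w, hw⟩ := LinearMap.lTensor_surjective R' (show Function.Surjective f.toLinearMap from hsurj) z
    exact ⟨w, by rw [hf'l]; exact hw⟩
  have hinj' : Function.Injective (LinearMap.lTensor (ResidueField R') f'.toLinearMap) :=
    lTensor_injective_baseChange f.toLinearMap f'.toLinearMap (by intro r m; simp [f'])
      (hfib ⟨p, inferInstance⟩)
  obtain ⟨c', hc1, hc2⟩ := local_lemma f' hf' hinj'
  letI : Algebra B (R' ⊗[R] B) := Algebra.TensorProduct.rightAlgebra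
  haveI : IsLocalization (Algebra.algebraMapSubmonoid B p.primeCompl) (R' ⊗[R] B) :=
    IsLocalization.tensorRight R' p.primeCompl
  obtain ⟨e, t, ht, he, het⟩ := descend (R' := R') (B' := R' ⊗[R] B) p x c'
    (by rw [Localization.AtPrime.map_eq_maximalIdeal]; exact hc1)
    (hc2 ((1 : R') ⊗ₜ[R] x) (by simp [f', hx]))
  have he_mem : e ∈ q := hKq ((hKx e).mpr he)
  have hJq : Ideal.map (algebraMap R B) p ≤ q := Ideal.map_comap_le
  have : algebraMap R B t ∈ q := by
    have := q.sub_mem he_mem (hJq het)
    simpa using this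
  exact ht this

end Groth.Agent.Lib.Helper4.FiniteFlatIso1
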