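import Mathlib
import Groth.Prelude.Def_AGF
import Groth.Prelude.Def_AlgGrp
import Groth.Agent.Lib.Helper4.ConjDense1

/-!
# G/G0red is finite and G0red is the smallest subgroup with finite quotient; lifting through closed immersions from reduced schemes; finite from trdeg zero (helper4) (helper4)
-/

set_option backward.isDefEq.respectTransparency.types false
set_option synthInstance.maxHeartbeats 400000
set_option autoImplicit false
set_option linter.unusedSectionVars false
set_option linter.style.haveILetI false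
set_option linter.unusedSimpArgs false
universe u v w
open CategoryTheory CategoryTheory.Limits AlgebraicGeometry TopologicalSpace Opposite
open MonoidalCategory CartesianMonoidalCategory MonObj GrpObj

namespace Groth.Agent.Lib.Helper4.FiniteQuot1

section Gen
open Groth.Agent.Lib.Helper4.FibDim1 Groth.Agent.Lib.Helper4.LocNoethFib1
  Groth.Agent.Lib.Helper4.PropDim1 Groth.Agent.Lib.Helper4.FibDimComp1
  Groth.Agent.Lib.Helper4.HomDim1 Groth.Agent.Lib.Helper4.FibDim2

theorem exists_lift_closedImmersion_of_isReduced {X' X O : Scheme.{u}} [IsReduced X']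
    (i : O ⟶ X) [IsClosedImmersion i] (f : X' ⟶ X) (h : Set.range f ⊆ Set.range i) :
    ∃ f' : X' ⟶ O, f' ≫ i = f := by
  haveI : Surjective (pullback.fst f i) := ⟨fun x => by
    obtain ⟨o, ho⟩ := h ⟨x, rfl⟩
    obtain ⟨z, hz, -⟩ := Scheme.Pullback.exists_preimage_pullback x o ho.symm
    exact ⟨z, hz⟩⟩
  haveI : IsIso (pullback.fst f i) := isIso_of_isClosedImmersion_of_surjective _
  exact ⟨inv (pullback.fst f i) ≫ pullback.snd f i, by
    rw [Category.assoc, ← pullback.condition, IsIso.inv_hom_id_assoc]⟩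

theorem isFinite_of_tr_zero (k : Type u) [Field k] {X : Scheme.{u}}
    (p : X ⟶ Spec (CommRingCat.of k)) [LocallyOfFiniteType p] [CompactSpace X]
    (h0 : ∀ x : X, tr p x = 0) : IsFinite p := by
  have hcl : ∀ x : X, closure ({x} : Set X) = {x} := by
    intro x
    apply Set.Subset.antisymm _ subset_closure
    intro y hy
    have hsp : x ⤳ y := specializes_iff_mem_closure.mpr hy
    by_contra hne
    have hlt := tr_lt_of_specializes p x y hsp (fun h => hne (by rw [h]; rfl))
      (Subsingleton.elim (α := Spec (CommRingCat.of k)) _ _)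
    rw [h0 x] at hlt
    omega
  haveI : IsLocallyNoetherian X := LocallyOfFiniteType.isLocallyNoetherian p
  haveI : AlgebraicGeometry.IsNoetherian X := {}
  haveI : NoetherianSpace X := inferInstance
  have hfin : (Set.univ : Set X).Finite := by
    rw [← sUnion_irreducibleComponents]
    refine Set.Finite.sUnion NoetherianSpace.finite_irreducibleComponents ?_
    intro Z hZ
    obtain ⟨ξ, hξ⟩ := QuasiSober.sober hZ.1 (isClosed_of_mem_irreducibleComponents Z hZ)
    have : Z = {ξ} := by rw [← hξ.def, hcl]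
    rw [this]; exact Set.finite_singleton _
  haveI : Finite X := Set.finite_univ_iff.mp hfin
  haveI : LocallyQuasiFinite p :=
    LocallyQuasiFinite.of_finite_preimage_singleton p (fun _ => Set.toFinite _)
  haveI : QuasiCompact p := (HasAffineProperty.iff_of_isAffine (P := @QuasiCompact)).mpr inferInstance
  haveI : IsLocallyArtinian (Spec (CommRingCat.of k)) := by
    rw [Scheme.isLocallyArtinianScheme_Spec]; infer_instance
  exact IsFinite.of_locallyQuasiFinite p

end Gen


section Grp
variable {k : Type u} [Field k]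
variable {G G₀ : Over (Spec (CommRingCat.of k))} [GrpObj G] [GrpObj G₀]
  [LocallyOfFiniteType G.hom] [LocallyOfFiniteType G₀.hom]
  (r₀ : G₀ ⟶ G) [IsMonHom r₀] [IsClosedImmersion r₀.left]

open Groth.Agent.Lib.Helper4.FibDim1 Groth.Agent.Lib.Helper4.LocNoethFib1
  Groth.Agent.Lib.Helper4.PropDim1 Groth.Agent.Lib.Helper4.FibDimComp1
  Groth.Agent.Lib.Helper4.HomDim1 Groth.Agent.Lib.Helper4.FibDim2
  Groth.Agent.Lib.Helper4.ConjDense1 in
theorem dim_eq_of_isOpen_range (hopen : IsOpen (Set.range r₀.left)) (d e : ℕ)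
    (hd : ∀ n : G₀.left, FlatMor.fibreDimAt G₀.hom n = (d : WithBot ℕ∞))
    (he : ∀ z : G.left, FlatMor.fibreDimAt G.hom z = (e : WithBot ℕ∞)) : d = e := by
  let n₀ : G₀.left := η[G₀].left (IsLocalRing.closedPoint k)
  obtain ⟨ξ, -, hξmax⟩ := exists_isMax_ge G₀.left n₀
  have hmax : ∀ x : G₀.left, x ⤳ ξ → x = ξ := by
    intro x hx
    exact (Specializes.antisymm hx (hξmax (show ξ ≤ x from hx))).eq
  have hmaxG : ∀ y : G.left, y ⤳ r₀.left ξ → y = r₀.left ξ := by
    intro y hy
    have hyU : y ∈ Set.range r₀.left := hy.mem_open hopen ⟨ξ, rfl⟩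
    obtain ⟨ξ', rfl⟩ := hyU
    have : ξ' ⤳ ξ := (r₀.left.isEmbedding.isInducing.specializes_iff).mp hy
    rw [hmax ξ' this]
  have h1 := fibreDimAt_eq_tr_of_max G₀.hom ξ (fun z' _ h => hmax z' h)
  have h2 := fibreDimAt_eq_tr_of_max G.hom (r₀.left ξ) (fun z' _ h => hmaxG z' h)
  haveI : Mono r₀.left := inferInstance
  have h3 : tr G₀.hom ξ = tr (r₀.left ≫ G.hom) ξ := tr_congr (Over.w r₀).symm ξ
  rw [tr_comp, tr_eq_zero_of_mono r₀.left ξ, add_zero] at h3
  rw [hd] at h1; rw [he] at h2
  have : (d : WithBot ℕ∞) = e := by rw [h1, h2, h3]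
  exact_mod_cast this

variable {X : Over (Spec (CommRingCat.of k))} (a : AlgGrp.Action G X)
  (o : 𝟙_ (Over (Spec (CommRingCat.of k))) ⟶ X)

open Groth.Agent.Lib.Helper4.FibDim1 Groth.Agent.Lib.Helper4.LocNoethFib1
  Groth.Agent.Lib.Helper4.PropDim1 Groth.Agent.Lib.Helper4.FibDimComp1
  Groth.Agent.Lib.Helper4.HomDim1 Groth.Agent.Lib.Helper4.FibDim2
  Groth.Agent.Lib.Helper4.FibDim3
  Groth.Agent.Lib.Helper4.ConjDense1 in
theorem tr_quot_eq_zero [LocallyOfFiniteType X.hom] (hX : AGF.IsQuotient r₀ X a o)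
    (hopen : IsOpen (Set.range r₀.left)) (x : X.left) : tr X.hom x = 0 := by
  obtain ⟨-, hflat, hsurj, hP⟩ := hX
  obtain ⟨d, hd, -⟩ := exists_dim_grp k G₀
  obtain ⟨e, he, -⟩ := exists_dim_grp k G
  have hde := dim_eq_of_isOpen_range r₀ hopen d e hd he
  haveI : LocallyOfFiniteType (a.orbitMap o).left := by
    have : LocallyOfFiniteType ((a.orbitMap o).left ≫ X.hom) := by rw [Over.w]; infer_instance
    exact locallyOfFiniteType_of_comp _ X.hom
  have hπ : ∀ g : G.left, FlatMor.fibreDimAt (a.orbitMap o).left g = (d : WithBot ℕ∞) :=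
    fibreDimAt_orbit_eq r₀ a o hP d hd
  obtain ⟨g, rfl⟩ := hsurj.surj x
  obtain ⟨ξ, hξg, hξmax⟩ := exists_isMax_ge G.left g
  have hsp : ξ ⤳ g := hξg
  have hmax : ∀ x : G.left, x ⤳ ξ → x = ξ := by
    intro x hx
    exact (Specializes.antisymm hx (hξmax (show ξ ≤ x from hx))).eq
  have hA := fibreDimAt_add_of_max (a.orbitMap o).left X.hom G.hom (Over.w (a.orbitMap o)) ξ hmax
  rw [he, hπ] at hA
  have hA' : e = tr X.hom ((a.orbitMap o).left ξ) + d := by exact_mod_cast hA
  have hle := tr_le_of_specializes X.hom ((a.orbitMap o).left ξ) ((a.orbitMap o).left g)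
    (hsp.map (a.orbitMap o).left.continuous) (Subsingleton.elim (α := Spec (CommRingCat.of k)) _ _)
  omega

theorem isFinite_quot [QuasiCompact G.hom] (hX : AGF.IsQuotient r₀ X a o)
    (hopen : IsOpen (Set.range r₀.left)) : IsFinite X.hom := by
  haveI := hX.1
  have hsurj := hX.2.2.1
  haveI : CompactSpace G.left :=
    (HasAffineProperty.iff_of_isAffine (P := @QuasiCompact)).mp ‹QuasiCompact G.hom›
  haveI : CompactSpace X.left := by
    constructor
    rw [← Set.range_eq_univ.mpr hsurj.surj, ← Set.image_univ]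
    exact isCompact_univ.image (a.orbitMap o).left.continuous
  exact isFinite_of_tr_zero k X.hom (tr_quot_eq_zero r₀ a o hX hopen)

end Grp


section Min
variable {k : Type u} [Field k]
variable {G H : Over (Spec (CommRingCat.of k))} [GrpObj G] [GrpObj H] (h : H ⟶ G) [IsMonHom h]
  {X : Over (Spec (CommRingCat.of k))} (a : AlgGrp.Action G X)
  (o : 𝟙_ (Over (Spec (CommRingCat.of k))) ⟶ X)

theorem isPullback_unit_fst :
    IsPullback (lift (toUnit H ≫ η[G]) (𝟙 H)) (toUnit H) (fst G H) η[G] := by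
  have comm : lift (toUnit H ≫ η[G]) (𝟙 H) ≫ fst G H = toUnit H ≫ η[G] := lift_fst _ _
  refine ⟨⟨comm⟩, ⟨PullbackCone.IsLimit.mk comm (fun s => s.fst ≫ snd G H) ?_ ?_ ?_⟩⟩
  · intro s
    apply CartesianMonoidalCategory.hom_ext
    · rw [Category.assoc, lift_fst, s.condition, ← Category.assoc,
        toUnit_unique ((s.fst ≫ snd G H) ≫ toUnit H) s.snd]
    · rw [Category.assoc, lift_snd, Category.comp_id]
  · intro s
    exact toUnit_unique _ _
  · intro s m hm _
    rw [← hm, Category.assoc, lift_snd, Category.comp_id]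

theorem eta_orbitMap : η[G] ≫ a.orbitMap o = o := by
  rw [Groth.Agent.Lib.Helper4.OrbitDim1.comp_orbitMap,
    toUnit_unique (toUnit (𝟙_ (Over (Spec (CommRingCat.of k))))) (𝟙 _), Category.id_comp]
  have := Groth.Agent.Helper4.Act.one_smul' a.act a.one_act o
  rwa [Hom.one_def, toUnit_unique (toUnit (𝟙_ (Over (Spec (CommRingCat.of k))))) (𝟙 _),
    Category.id_comp] at this

theorem isPullback_stab
    (hP : IsPullback (fst G H) ((G ◁ h) ≫ μ[G]) (a.orbitMap o) (a.orbitMap o)) :
    IsPullback h (toUnit H) (a.orbitMap o) o := by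
  have h1 := (isPullback_unit_fst (G := G) (H := H)).paste_horiz hP.flip
  have e1 : lift (toUnit H ≫ η[G]) (𝟙 H) ≫ (G ◁ h) ≫ μ[G] = h := by
    rw [lift_whiskerLeft_assoc, Category.id_comp, ← Hom.mul_def, ← Hom.one_def, _root_.one_mul]
  rw [e1, eta_orbitMap] at h1
  exact h1

theorem exists_lift_of_isFinite {G₀ : Over (Spec (CommRingCat.of k))}
    [LocallyOfFiniteType G.hom]
    [IsClosedImmersion h.left] (r₀ : G₀ ⟶ G) [IsReduced G₀.left]
    (t : ↥((𝟙_ (Over (Spec (CommRingCat.of k)))).left))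
    (hr₀ : Set.range ⇑r₀.left.base = connectedComponent ((η[G]).left.base t))
    (hX : AGF.IsQuotient h X a o) (hfin : IsFinite X.hom) :
    ∃ g : G₀ ⟶ H, g ≫ h = r₀ := by
  obtain ⟨hlft, hflat, hsurj, hP⟩ := hX
  have hsq := (isPullback_stab h a o hP).map (Over.forget _)
  simp only [Over.forget_obj, Over.forget_map] at hsq
  -- the base point is open and closed
  have hdisc := X.hom.isDiscrete_preimage_singleton (X.hom (o.left t))
  obtain ⟨u, hu, hus⟩ := (isDiscrete_iff_forall_mem_exists_isOpen.mp hdisc) (o.left t) rfl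
  have huniv : X.hom ⁻¹' {X.hom (o.left t)} = Set.univ := by
    apply Set.eq_univ_of_forall
    intro x
    exact Subsingleton.elim (α := Spec (CommRingCat.of k)) _ _
  rw [huniv, Set.inter_univ] at hus
  have hopen : IsOpen ({o.left t} : Set X.left) := hus ▸ hu
  have hclosed : IsClosed ({o.left t} : Set X.left) := by
    have : IsClosedImmersion o.left :=
      isClosedImmersion_of_comp_eq_id (Y := Spec (.of k)) X.hom o.left ((Over.w o).trans rfl)
    have h2 : Set.range o.left = {o.left t} := by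
      haveI : Nonempty (𝟙_ (Over (Spec (CommRingCat.of k)))).left := ⟨t⟩
      rw [Set.range_eq_singleton_iff]
      intro y
      exact congrArg _ (Subsingleton.elim (α := Spec (CommRingCat.of k)) _ _)
    rw [← h2]; exact o.left.isClosedEmbedding.isClosed_range
  have hV : IsClopen ((a.orbitMap o).left ⁻¹' {o.left t}) :=
    ⟨hclosed.preimage (a.orbitMap o).left.continuous, hopen.preimage (a.orbitMap o).left.continuous⟩
  have heV : η[G].left t ∈ (a.orbitMap o).left ⁻¹' {o.left t} := by
    show (a.orbitMap o).left (η[G].left t) = o.left t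
    rw [← Scheme.Hom.comp_apply, ← Over.comp_left, eta_orbitMap]
  have hsub : Set.range r₀.left ⊆ Set.range h.left := by
    intro g hg
    have hg' : g ∈ connectedComponent (η[G].left t) := hr₀ ▸ hg
    have hgV := hV.connectedComponent_subset heV hg'
    obtain ⟨w, hw, -⟩ := Scheme.Pullback.exists_preimage_pullback g t hgV
    refine ⟨hsq.isoPullback.inv w, ?_⟩
    rw [← Scheme.Hom.comp_apply, hsq.isoPullback_inv_fst]
    exact hw
  obtain ⟨f', hf'⟩ := exists_lift_closedImmersion_of_isReduced h.left r₀.left hsub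
  refine ⟨Over.homMk f' ?_, ?_⟩
  · rw [← Over.w h, ← Category.assoc, hf', Over.w]
  · ext; exact hf'

end Min


theorem main (k : Type u) [Field k] [PerfectField k]
    (G G₀ : Over (Spec (CommRingCat.of k))) [GrpObj G] [GrpObj G₀] [LocallyOfFiniteType G.hom] [QuasiCompact G.hom]
    [LocallyOfFiniteType G₀.hom] [QuasiCompact G₀.hom]
    (r₀ : G₀ ⟶ G) [IsMonHom r₀] [IsClosedImmersion r₀.left] [IsReduced G₀.left] (t : ↥((𝟙_ (Over (Spec (CommRingCat.of k)))).left))
    (hr₀ : Set.range ⇑r₀.left.base = connectedComponent ((η[G]).left.base t)) :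
    (∀ (X : Over (Spec (CommRingCat.of k))) (a : AlgGrp.Action G X) (o : 𝟙_ (Over (Spec (CommRingCat.of k))) ⟶ X), AGF.IsQuotient r₀ X a o → IsFinite X.hom) ∧
    ∀ (H : Over (Spec (CommRingCat.of k))) [GrpObj H] (h : H ⟶ G) [IsMonHom h] [IsClosedImmersion h.left]
      (X : Over (Spec (CommRingCat.of k))) (a : AlgGrp.Action G X) (o : 𝟙_ (Over (Spec (CommRingCat.of k))) ⟶ X),
      AGF.IsQuotient h X a o → IsFinite X.hom → ∃ g : G₀ ⟶ H, g ≫ h = r₀ := by
  haveI : IsLocallyNoetherian G.left := LocallyOfFiniteType.isLocallyNoetherian G.hom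
  have hopen : IsOpen (Set.range r₀.left) := by
    rw [hr₀]
    exact Groth.Agent.Lib.Helper4.HomogDim1.isOpen_connectedComponent_of_locallyNoetherian _
  refine ⟨fun X a o hX => isFinite_quot r₀ a o hX hopen, ?_⟩
  intro H _ h _ _ X a o hX hfin
  exact exists_lift_of_isFinite h a o r₀ t hr₀ hX hfin

end Groth.Agent.Lib.Helper4.FiniteQuot1
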