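import Mathlib
import Groth.Agent.Lib.Helper4.Fitting15

set_option linter.unusedSectionVars false
set_option linter.style.haveILetI false

namespace Groth.Agent.Helper4.Fitting

open Matrix TensorProduct

universe u v

variable {R : Type u} [CommRing R]

/-- Step 1 -/
theorem exists_pow_mem_ideal_of_free_away (M : Type u) [AddCommGroup M] [Module R M]
    [Module.Finite R M] (f : R) (r : ℕ)
    (hf : ∀ (p : Ideal R) [p.IsPrime], f ∉ p → ∃ g : R, g ∉ p ∧
      Module.Free (Localization.Away g) (LocalizedModule (Submonoid.powers g) M) ∧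
        Module.finrank (Localization.Away g) (LocalizedModule (Submonoid.powers g) M) = r) :
    ∃ m : ℕ, f ^ m ∈ Fitt.ideal R M r := by
  have : f ∈ (Fitt.ideal R M r).radical := by
    rw [Ideal.radical_eq_sInf, Ideal.mem_sInf]
    rintro p ⟨hle, hp⟩
    by_contra hfp
    obtain ⟨g, hg, hfree, hrank⟩ := hf p hfp
    haveI : Nontrivial (Localization.Away g) := nontrivial_away_of_notMem p g hg
    let b := Module.finBasis (Localization.Away g) (LocalizedModule (Submonoid.powers g) M)
    obtain ⟨s, ⟨N, rfl⟩, hs⟩ := exists_mem_of_span_localizedModule (M := M) (Submonoid.powers g)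
      (fun l : Fin r => b (Fin.cast hrank.symm l)) (by
        rw [eq_top_iff, ← b.span_eq]
        apply Submodule.span_mono
        rintro _ ⟨l, rfl⟩
        exact ⟨Fin.cast hrank l, by simp⟩)
    exact hg (Ideal.IsPrime.mem_of_pow_mem hp N (hle hs))
  exact this

/-- Steps 2-4: a finitely presented cover with `f ^ m` in its Fitting ideal -/
theorem exists_finitePresentation_cover (M : Type u) [AddCommGroup M] [Module R M]
    [Module.Finite R M] (r : ℕ) (c : R) (hc : c ∈ Fitt.ideal R M r) :
    ∃ (M₁ : Type u) (_ : AddCommGroup M₁) (_ : Module R M₁) (_ : Module.FinitePresentation R M₁)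
      (π : M₁ →ₗ[R] M), Function.Surjective π ∧ c ∈ Fitt.ideal R M₁ r := by
  classical
  obtain ⟨n, x, hx⟩ := Module.Finite.exists_fin (R := R) (M := M)
  rw [ideal_eq_F x hx r, F_eq_span_minorSet] at hc
  obtain ⟨T, hT, hcT⟩ := Submodule.mem_span_finite_of_mem_span hc
  choose z e hz hd using fun d : T => hT d.2
  set W : Set (Fin n → R) := ⋃ d : T, Set.range (z d) with hW
  have hWfin : W.Finite := Set.finite_iUnion fun d => Set.finite_range _
  set K : Submodule R (Fin n → R) := Submodule.span R W with hK
  have hKfg : K.FG := Submodule.fg_span hWfin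
  have hKle : K ≤ LinearMap.ker (Fintype.linearCombination R x) := by
    rw [hK, Submodule.span_le]
    rintro w hw
    rw [hW, Set.mem_iUnion] at hw
    obtain ⟨d, b, rfl⟩ := hw
    rw [SetLike.mem_coe, LinearMap.mem_ker, Fintype.linearCombination_apply]
    exact hz d b
  let x₁ : Fin n → (Fin n → R) ⧸ K := fun i => Submodule.Quotient.mk (Pi.single i 1)
  have hsum : ∀ w : Fin n → R, ∑ i, w i • x₁ i = Submodule.Quotient.mk w := by
    intro w
    have : ∑ i, w i • (Pi.single i (1 : R) : Fin n → R) = w := by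
      ext j
      simp [Finset.sum_apply, Pi.single_apply]
    conv_rhs => rw [← this]
    rw [← Submodule.mkQ_apply, map_sum]
    simp only [map_smul, Submodule.mkQ_apply, x₁]
  have hx₁ : Submodule.span R (Set.range x₁) = ⊤ := by
    rw [eq_top_iff]
    intro q _
    obtain ⟨w, rfl⟩ := Submodule.Quotient.mk_surjective K q
    rw [← hsum w]
    exact Submodule.sum_mem _ fun i _ => Submodule.smul_mem _ _ (Submodule.subset_span ⟨i, rfl⟩)
  have hfp : Module.FinitePresentation R ((Fin n → R) ⧸ K) :=
    Module.finitePresentation_of_surjective K.mkQ (Submodule.mkQ_surjective K)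
      (by rw [Submodule.ker_mkQ]; exact hKfg)
  refine ⟨(Fin n → R) ⧸ K, inferInstance, inferInstance, hfp,
    K.liftQ (Fintype.linearCombination R x) hKle, ?_, ?_⟩
  · intro m
    obtain ⟨w, rfl⟩ := surjective_linearCombination x hx m
    exact ⟨Submodule.Quotient.mk w, rfl⟩
  · rw [ideal_eq_F x₁ hx₁ r, F_eq_span_minorSet]
    have hsub : (T : Set R) ⊆ minorSet R x₁ (n - r) := by
      intro d hdT
      refine ⟨z ⟨d, hdT⟩, e ⟨d, hdT⟩, fun b => ?_, hd ⟨d, hdT⟩⟩
      rw [hsum, Submodule.Quotient.mk_eq_zero]
      apply Submodule.subset_span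
      rw [hW, Set.mem_iUnion]
      exact ⟨⟨d, hdT⟩, b, rfl⟩
    exact Submodule.span_mono hsub hcT

/-- 6a -/
theorem map_affineAlgebra_mul_eq_span (J : Ideal R) (f b : R) (hb : b ∈ J)
    (R₁ : Type u) [CommRing R₁] [Algebra R R₁]
    (e : R₁ ≃ₐ[R] ↥(BlowUp.affineAlgebra R (Ideal.span {f} * J) (f * b))) :
    J.map (algebraMap R R₁) = Ideal.span {algebraMap R R₁ b} := by
  apply le_antisymm
  · rw [Ideal.map_le_iff_le_comap]
    intro x hx
    rw [Ideal.mem_comap, Ideal.mem_span_singleton']
    have hfx : f * x ∈ Ideal.span {f} * J := Ideal.mul_mem_mul (Ideal.mem_span_singleton_self f) hx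
    let q : ↥(BlowUp.affineAlgebra R (Ideal.span {f} * J) (f * b)) :=
      ⟨IsLocalization.mk' (Localization.Away (f * b)) (f * x) ⟨f * b, Submonoid.mem_powers _⟩,
        Algebra.subset_adjoin ⟨f * x, hfx, rfl⟩⟩
    refine ⟨e.symm q, ?_⟩
    apply e.injective
    rw [map_mul, AlgEquiv.apply_symm_apply, AlgEquiv.commutes, AlgEquiv.commutes]
    apply Subtype.ext
    change IsLocalization.mk' (Localization.Away (f * b)) (f * x) ⟨f * b, Submonoid.mem_powers _⟩ *
      algebraMap R (Localization.Away (f * b)) b = algebraMap R (Localization.Away (f * b)) x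
    have hu : IsUnit (algebraMap R (Localization.Away (f * b)) (f * b)) :=
      IsLocalization.Away.algebraMap_isUnit (f * b)
    apply hu.mul_left_cancel
    have h1 := IsLocalization.mk'_spec' (Localization.Away (f * b)) (f * x)
      ⟨f * b, Submonoid.mem_powers _⟩
    simp only at h1
    rw [← mul_assoc, h1, ← map_mul, ← map_mul]
    congr 1
    ring
  · rw [Ideal.span_le, Set.singleton_subset_iff]
    exact Ideal.mem_map_of_mem _ hb

end Groth.Agent.Helper4.Fitting
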