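import Mathlib
import Groth.Agent.Lib.Helper4.Fitting16

set_option linter.unusedSectionVars false
set_option linter.style.haveILetI false

namespace Groth.Agent.Helper4.Fitting

open Matrix TensorProduct

universe u v

variable {R : Type u} [CommRing R]

/-- 6c: the strict transform of a quotient is a quotient of the strict transform -/
theorem ideal_strictTransform_eq_top_of_cover (M M₁ : Type u) [AddCommGroup M] [Module R M]
    [AddCommGroup M₁] [Module R M₁] [Module.Finite R M₁] (π : M₁ →ₗ[R] M)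
    (hπ : Function.Surjective π) (r : ℕ) (f b : R)
    (R₁ : Type u) [CommRing R₁] [Algebra R R₁]
    (hfit : Fitt.ideal R₁ (R₁ ⊗[R] M₁) r = Ideal.span {algebraMap R R₁ b}) :
    Fitt.ideal R₁ ((R₁ ⊗[R] M) ⧸ FlatCA.powTorsion R₁ (algebraMap R R₁ (f * b)) (R₁ ⊗[R] M)) r = ⊤ := by
  set β := algebraMap R R₁ b with hβ
  set α := algebraMap R R₁ (f * b) with hα
  have hαβ : α = algebraMap R R₁ f * β := by rw [hα, hβ, map_mul]
  have h1 := ideal_quotient_powTorsion_eq_top (R := R₁) (N := R₁ ⊗[R] M₁) r β hfit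
  let Pm : R₁ ⊗[R] M₁ →ₗ[R₁] R₁ ⊗[R] M := π.baseChange R₁
  have hPm : Function.Surjective Pm := LinearMap.lTensor_surjective R₁ hπ
  have hle : FlatCA.powTorsion R₁ β (R₁ ⊗[R] M₁) ≤
      (FlatCA.powTorsion R₁ α (R₁ ⊗[R] M)).comap Pm := by
    intro n hn
    rw [mem_powTorsion_iff] at hn
    obtain ⟨m, hm⟩ := hn
    rw [Submodule.mem_comap, mem_powTorsion_iff]
    refine ⟨m, ?_⟩
    rw [hαβ, mul_pow, mul_smul, ← map_smul, hm, map_zero, smul_zero]
  let Q := Submodule.mapQ _ _ Pm hle
  have hQ : Function.Surjective Q := by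
    intro y
    obtain ⟨n, rfl⟩ := Submodule.Quotient.mk_surjective _ y
    obtain ⟨n₁, rfl⟩ := hPm n
    exact ⟨Submodule.Quotient.mk n₁, rfl⟩
  rw [eq_top_iff, ← h1]
  exact ideal_mono_of_surjective Q hQ r

theorem exists_ideal_blowup_strictTransform_locallyFree (M : Type u) [AddCommGroup M]
    [Module R M] [Module.Finite R M] (f : R) (r : ℕ)
    (hf : ∀ (p : Ideal R) [p.IsPrime], f ∉ p → ∃ g : R, g ∉ p ∧ g ∈ (Ideal.span {f}).radical ∧
      Module.Free (Localization.Away g) (LocalizedModule (Submonoid.powers g) M) ∧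
        Module.finrank (Localization.Away g) (LocalizedModule (Submonoid.powers g) M) = r) :
    ∃ I : Ideal R, I.FG ∧ I.radical = (Ideal.span {f}).radical ∧ ∀ a ∈ I, ∀ (R₁ : Type u) [CommRing R₁] [Algebra R R₁] (e : R₁ ≃ₐ[R] ↥(BlowUp.affineAlgebra R I a)),
      ∀ (p' : Ideal R₁) [p'.IsPrime], ∃ g : R₁, g ∉ p' ∧
        Module.Free (Localization.Away g) (LocalizedModule (Submonoid.powers g) ((R₁ ⊗[R] M) ⧸ FlatCA.powTorsion R₁ (algebraMap R R₁ a) (R₁ ⊗[R] M))) ∧
        Module.finrank (Localization.Away g) (LocalizedModule (Submonoid.powers g) ((R₁ ⊗[R] M) ⧸ FlatCA.powTorsion R₁ (algebraMap R R₁ a) (R₁ ⊗[R] M))) = r := by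
  have hf' : ∀ (p : Ideal R) [p.IsPrime], f ∉ p → ∃ g : R, g ∉ p ∧
      Module.Free (Localization.Away g) (LocalizedModule (Submonoid.powers g) M) ∧
        Module.finrank (Localization.Away g) (LocalizedModule (Submonoid.powers g) M) = r := by
    intro p _ hfp
    obtain ⟨g, hg, -, h1, h2⟩ := hf p hfp
    exact ⟨g, hg, h1, h2⟩
  obtain ⟨m, hm⟩ := exists_pow_mem_ideal_of_free_away M f r hf'
  obtain ⟨M₁, _, _, _, π, hπ, hmem⟩ := exists_finitePresentation_cover M r (f ^ m) hm
  set J := Fitt.ideal R M₁ r with hJ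
  have hJfg : J.FG := ideal_fg_of_finitePresentation r
  refine ⟨Ideal.span {f} * J, (Submodule.fg_span_singleton f).mul hJfg, ?_, ?_⟩
  · apply le_antisymm
    · exact Ideal.radical_mono Ideal.mul_le_left
    · apply Ideal.radical_le_radical_iff.2
      rw [Ideal.span_le, Set.singleton_subset_iff]
      refine ⟨m + 1, ?_⟩
      rw [pow_succ']
      exact Ideal.mul_mem_mul (Ideal.mem_span_singleton_self f) hmem
  · intro a ha R₁ _ _ e p' _
    obtain ⟨b, hb, rfl⟩ := Ideal.mem_span_singleton_mul.1 ha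
    have hfit : Fitt.ideal R₁ (R₁ ⊗[R] M₁) r = Ideal.span {algebraMap R R₁ b} := by
      rw [ideal_baseChange, ← hJ, map_affineAlgebra_mul_eq_span J f b hb R₁ e]
    have htop := ideal_strictTransform_eq_top_of_cover M M₁ π hπ r f b R₁ hfit
    have hfree : ∀ (p : Ideal R) [p.IsPrime], ¬ Ideal.span {f} * J ≤ p →
        Module.Free (Localization.AtPrime p) (LocalizedModule p.primeCompl M) ∧
          Module.finrank (Localization.AtPrime p) (LocalizedModule p.primeCompl M) = r := by
      intro p _ hnle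
      have hfp : f ∉ p := by
        intro hfp
        apply hnle
        refine Ideal.mul_le_left.trans ?_
        rw [Ideal.span_le, Set.singleton_subset_iff]
        exact hfp
      obtain ⟨g, hg, h1, h2⟩ := hf' p hfp
      exact free_atPrime_of_free_away r p g hg h1 h2
    exact strictTransform_locallyFree M r (Ideal.span {f} * J) hfree (f * b) ha R₁ e htop p'

end Groth.Agent.Helper4.Fitting
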