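import Mathlib
import Groth.Prelude.Def_AlgGrp

/-!
# Five lemma for closed immersions of group extensions: categorical torsor squares + fpqc descent of universal closedness (helper4) (helper4)
-/

set_option backward.isDefEq.respectTransparency.types false
set_option synthInstance.maxHeartbeats 400000
set_option autoImplicit false
set_option linter.unusedSectionVars false
set_option linter.style.haveILetI false
set_option linter.unusedSimpArgs false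
universe u v w
open CategoryTheory CategoryTheory.Limits AlgebraicGeometry TopologicalSpace Opposite
open MonoidalCategory CartesianMonoidalCategory MonObj GrpObj

namespace Groth.Agent.Lib.Helper4.FiveClosed1

section Cat
variable {C : Type v} [Category.{w} C] [CartesianMonoidalCategory C]

theorem isPullback_of_existsUnique {W X Y Z : C} {p₁ : W ⟶ X} {p₂ : W ⟶ Y} {f : X ⟶ Z} {g : Y ⟶ Z}
    (hw : p₁ ≫ f = p₂ ≫ g)
    (h : ∀ {T : C} (x : T ⟶ X) (y : T ⟶ Y), x ≫ f = y ≫ g →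
      ∃! ρ : T ⟶ W, ρ ≫ p₁ = x ∧ ρ ≫ p₂ = y) : IsPullback p₁ p₂ f g := by
  refine ⟨⟨hw⟩, ⟨PullbackCone.IsLimit.mk hw
    (fun s => (h s.fst s.snd s.condition).exists.choose)
    (fun s => (h s.fst s.snd s.condition).exists.choose_spec.1)
    (fun s => (h s.fst s.snd s.condition).exists.choose_spec.2)
    (fun s m h1 h2 => ?_)⟩⟩
  exact (h s.fst s.snd s.condition).unique ⟨h1, h2⟩
    (h s.fst s.snd s.condition).exists.choose_spec

theorem ker_cancel {N G Q : C} [GrpObj Q] {i : N ⟶ G} {q : G ⟶ Q}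
    (hk : IsPullback i (toUnit N) q η[Q]) {T : C} (x y : T ⟶ N) (h : x ≫ i = y ≫ i) : x = y :=
  hk.hom_ext h (toUnit_unique _ _)

theorem ker_lift {N G Q : C} [GrpObj Q] {i : N ⟶ G} {q : G ⟶ Q}
    (hk : IsPullback i (toUnit N) q η[Q]) {T : C} (x : T ⟶ G) (h : x ≫ q = 1) :
    ∃ n : T ⟶ N, n ≫ i = x :=
  ⟨hk.lift x (toUnit T) (by rw [h, Hom.one_def]), hk.lift_fst _ _ _⟩

theorem ker_comp {N G Q : C} [GrpObj Q] {i : N ⟶ G} {q : G ⟶ Q}
    (hk : IsPullback i (toUnit N) q η[Q]) {T : C} (n : T ⟶ N) : (n ≫ i) ≫ q = 1 := by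
  rw [Category.assoc, hk.w, ← Category.assoc, toUnit_unique (n ≫ toUnit N) (toUnit T),
    ← Hom.one_def]

/-- whiskering square -/
theorem sqW {A B X : C} (f : A ⟶ B) : IsPullback (f ▷ X) (fst A X) (fst B X) f := by
  apply isPullback_of_existsUnique (whiskerRight_fst f X)
  intro T x y hxy
  refine ⟨lift y (x ≫ snd B X), ⟨?_, lift_fst _ _⟩, ?_⟩
  · apply CartesianMonoidalCategory.hom_ext
    · rw [Category.assoc, whiskerRight_fst, lift_fst_assoc, hxy]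
    · rw [Category.assoc, whiskerRight_snd, lift_snd]
  · rintro ρ ⟨h1, h2⟩
    apply CartesianMonoidalCategory.hom_ext
    · rw [lift_fst, h2]
    · rw [lift_snd, ← h1, Category.assoc, whiskerRight_snd]

variable {H₁' H₁ H₁'' H₂' H₂ H₂'' : C} [GrpObj H₁'] [GrpObj H₁] [GrpObj H₁''] [GrpObj H₂']
  [GrpObj H₂] [GrpObj H₂'']
  (a₁ : H₁' ⟶ H₁) (b₁ : H₁ ⟶ H₁'') (a₂ : H₂' ⟶ H₂) (b₂ : H₂ ⟶ H₂'')
  [IsMonHom a₁] [IsMonHom b₁] [IsMonHom a₂] [IsMonHom b₂]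
  (h₁ : IsPullback a₁ (toUnit H₁') b₁ η[H₁''])
  (h₂ : IsPullback a₂ (toUnit H₂') b₂ η[H₂''])
  (j' : H₁' ⟶ H₂') (j : H₁ ⟶ H₂) (j'' : H₁'' ⟶ H₂'') [IsMonHom j'] [IsMonHom j] [IsMonHom j'']
  (sq₁ : a₁ ≫ j = j' ≫ a₂) (sq₂ : b₁ ≫ j'' = j ≫ b₂)

include h₁ h₂ sq₁ sq₂ in
theorem five_mono [Mono j'] [Mono j''] : Mono j := by
  constructor
  intro T x y hxy
  have e1 : x ≫ b₁ = y ≫ b₁ := by
    rw [← cancel_mono j'', Category.assoc, Category.assoc, sq₂, ← Category.assoc, hxy,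
      Category.assoc]
  have e2 : (x * y⁻¹) ≫ b₁ = 1 := by
    rw [MonObj.mul_comp, GrpObj.inv_comp, e1, mul_inv_cancel]
  obtain ⟨n, hn⟩ := ker_lift h₁ _ e2
  have e3 : (n ≫ j') ≫ a₂ = 1 := by
    rw [Category.assoc, ← sq₁, ← Category.assoc, hn, MonObj.mul_comp, GrpObj.inv_comp, hxy,
      mul_inv_cancel]
  have e4 : n ≫ j' = 1 := by
    apply ker_cancel h₂
    rw [e3, MonObj.one_comp]
  have e5 : n = 1 := by
    rw [← cancel_mono j', e4, MonObj.one_comp]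
  have e6 : x * y⁻¹ = 1 := by rw [← hn, e5, MonObj.one_comp]
  exact mul_inv_eq_one.1 e6

variable {P : C} (p₁ : P ⟶ H₂) (p₂ : P ⟶ H₁'') (hP : IsPullback p₁ p₂ b₂ j'')

include h₂ sq₂ in
theorem fMap_cond : ((fst H₂' H₁ ≫ a₂) * (snd H₂' H₁ ≫ j)) ≫ b₂ = (snd H₂' H₁ ≫ b₁) ≫ j'' := by
  rw [MonObj.mul_comp, ker_comp h₂, _root_.one_mul, Category.assoc, Category.assoc, sq₂]

/-- the map `(m, g) ↦ (a₂(m) j(g), b₁(g))` -/
noncomputable def fMap : H₂' ⊗ H₁ ⟶ P :=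
  hP.lift ((fst H₂' H₁ ≫ a₂) * (snd H₂' H₁ ≫ j)) (snd H₂' H₁ ≫ b₁)
    (fMap_cond b₁ a₂ b₂ h₂ j j'' sq₂)

/-- the map `g ↦ (j(g), b₁(g))` -/
noncomputable def cMap : H₁ ⟶ P := hP.lift j b₁ sq₂.symm

theorem fMap_p₁ : fMap b₁ a₂ b₂ h₂ j j'' sq₂ p₁ p₂ hP ≫ p₁ =
    (fst H₂' H₁ ≫ a₂) * (snd H₂' H₁ ≫ j) := hP.lift_fst _ _ _

theorem fMap_p₂ : fMap b₁ a₂ b₂ h₂ j j'' sq₂ p₁ p₂ hP ≫ p₂ = snd H₂' H₁ ≫ b₁ :=
  hP.lift_snd _ _ _

theorem cMap_p₁ : cMap b₁ b₂ j j'' sq₂ p₁ p₂ hP ≫ p₁ = j := hP.lift_fst _ _ _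

theorem cMap_p₂ : cMap b₁ b₂ j j'' sq₂ p₁ p₂ hP ≫ p₂ = b₁ := hP.lift_snd _ _ _

theorem lift_fMap_p₁ {T : C} (m : T ⟶ H₂') (g : T ⟶ H₁) :
    lift m g ≫ fMap b₁ a₂ b₂ h₂ j j'' sq₂ p₁ p₂ hP ≫ p₁ = (m ≫ a₂) * (g ≫ j) := by
  rw [fMap_p₁, MonObj.comp_mul, lift_fst_assoc, lift_snd_assoc]

theorem lift_fMap_p₂ {T : C} (m : T ⟶ H₂') (g : T ⟶ H₁) :
    lift m g ≫ fMap b₁ a₂ b₂ h₂ j j'' sq₂ p₁ p₂ hP ≫ p₂ = g ≫ b₁ := by
  rw [fMap_p₂, lift_snd_assoc]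

theorem sqB : IsPullback (fMap b₁ a₂ b₂ h₂ j j'' sq₂ p₁ p₂ hP) (snd H₂' H₁) p₂ b₁ := by
  apply isPullback_of_existsUnique (fMap_p₂ b₁ a₂ b₂ h₂ j j'' sq₂ p₁ p₂ hP)
  intro T p g hpg
  have e1 : (p ≫ p₁) ≫ b₂ = (g ≫ j) ≫ b₂ := by
    rw [Category.assoc, hP.w, ← Category.assoc, hpg, Category.assoc, Category.assoc, sq₂]
  have e2 : ((p ≫ p₁) * (g ≫ j)⁻¹) ≫ b₂ = 1 := by
    rw [MonObj.mul_comp, GrpObj.inv_comp, e1, mul_inv_cancel]
  obtain ⟨m, hm⟩ := ker_lift h₂ _ e2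
  refine ⟨lift m g, ⟨?_, lift_snd _ _⟩, ?_⟩
  · apply hP.hom_ext
    · rw [Category.assoc, lift_fMap_p₁, hm, inv_mul_cancel_right]
    · rw [Category.assoc, lift_fMap_p₂, hpg]
  · rintro ρ ⟨r1, r2⟩
    have e3 : ρ = lift (ρ ≫ fst _ _) g := by
      apply CartesianMonoidalCategory.hom_ext
      · rw [lift_fst]
      · rw [lift_snd, r2]
    have e4 : (ρ ≫ fst _ _) ≫ a₂ = m ≫ a₂ := by
      have := lift_fMap_p₁ b₁ a₂ b₂ h₂ j j'' sq₂ p₁ p₂ hP (ρ ≫ fst _ _) g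
      rw [← e3, ← Category.assoc, r1] at this
      rw [hm, this, mul_inv_cancel_right]
    rw [e3, ker_cancel h₂ _ _ e4]

include h₁ in
theorem act_comp : ((fst H₁' H₁ ≫ a₁) * snd H₁' H₁) ≫ b₁ = snd H₁' H₁ ≫ b₁ := by
  rw [MonObj.mul_comp, ker_comp h₁, _root_.one_mul]

include h₁ sq₁ in
theorem sqA : IsPullback (j' ▷ H₁) ((fst H₁' H₁ ≫ a₁) * snd H₁' H₁)
    (fMap b₁ a₂ b₂ h₂ j j'' sq₂ p₁ p₂ hP) (cMap b₁ b₂ j j'' sq₂ p₁ p₂ hP) := by
  have hw : (j' ▷ H₁) ≫ fMap b₁ a₂ b₂ h₂ j j'' sq₂ p₁ p₂ hP =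
      ((fst H₁' H₁ ≫ a₁) * snd H₁' H₁) ≫ cMap b₁ b₂ j j'' sq₂ p₁ p₂ hP := by
    apply hP.hom_ext
    · rw [Category.assoc, Category.assoc, fMap_p₁, cMap_p₁, MonObj.comp_mul, MonObj.mul_comp,
        whiskerRight_fst_assoc, whiskerRight_snd_assoc, Category.assoc, sq₁]
    · rw [Category.assoc, Category.assoc, fMap_p₂, cMap_p₂, whiskerRight_snd_assoc,
        act_comp a₁ b₁ h₁]
  apply isPullback_of_existsUnique hw
  intro T r h hrh
  obtain ⟨m, hm⟩ : ∃ m, m = r ≫ fst H₂' H₁ := ⟨_, rfl⟩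
  obtain ⟨g, hg⟩ : ∃ g, g = r ≫ snd H₂' H₁ := ⟨_, rfl⟩
  have hr : r = lift m g := by
    apply CartesianMonoidalCategory.hom_ext
    · rw [lift_fst, hm]
    · rw [lift_snd, hg]
  have e1 : g ≫ b₁ = h ≫ b₁ := by
    have := congrArg (· ≫ p₂) hrh
    simp only [Category.assoc] at this
    rw [cMap_p₂, hr, lift_fMap_p₂] at this
    exact this
  have e2 : (m ≫ a₂) * (g ≫ j) = h ≫ j := by
    have := congrArg (· ≫ p₁) hrh
    simp only [Category.assoc] at this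
    rw [cMap_p₁, hr, lift_fMap_p₁] at this
    exact this
  have e3 : (h * g⁻¹) ≫ b₁ = 1 := by
    rw [MonObj.mul_comp, GrpObj.inv_comp, e1, mul_inv_cancel]
  obtain ⟨n, hn⟩ := ker_lift h₁ _ e3
  have hh : h = (n ≫ a₁) * g := by rw [hn, inv_mul_cancel_right]
  have e4 : m = n ≫ j' := by
    apply ker_cancel h₂
    have : (m ≫ a₂) * (g ≫ j) = ((n ≫ j') ≫ a₂) * (g ≫ j) := by
      rw [e2, hh, MonObj.mul_comp, Category.assoc, sq₁, Category.assoc]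
    exact mul_right_cancel this
  refine ⟨lift n g, ⟨?_, ?_⟩, ?_⟩
  · rw [lift_whiskerRight, hr, e4]
  · rw [MonObj.comp_mul, lift_fst_assoc, lift_snd, hh]
  · rintro ρ ⟨r1, r2⟩
    have e5 : ρ ≫ snd H₁' H₁ = g := by
      rw [hg, ← r1, Category.assoc, whiskerRight_snd]
    have e6 : (ρ ≫ fst H₁' H₁) ≫ a₁ = n ≫ a₁ := by
      have : ((ρ ≫ fst H₁' H₁) ≫ a₁) * g = (n ≫ a₁) * g := by
        rw [← hh, ← r2, MonObj.comp_mul, e5, Category.assoc]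
      exact mul_right_cancel this
    apply CartesianMonoidalCategory.hom_ext
    · rw [lift_fst, ker_cancel h₁ _ _ e6]
    · rw [lift_snd, e5]

end Cat

theorem main_S16647 {S : Scheme.{u}}
    {H₁' H₁ H₁'' H₂' H₂ H₂'' : Over S} [GrpObj H₁'] [GrpObj H₁] [GrpObj H₁''] [GrpObj H₂'] [GrpObj H₂] [GrpObj H₂'']
    [Flat H₁'.hom] [Flat H₁.hom] [Flat H₁''.hom] [Flat H₂'.hom] [Flat H₂.hom] [Flat H₂''.hom]
    [IsSeparated H₁'.hom] [IsSeparated H₁.hom] [IsSeparated H₁''.hom]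
    [IsSeparated H₂'.hom] [IsSeparated H₂.hom] [IsSeparated H₂''.hom]
    [QuasiCompact H₁'.hom] [QuasiCompact H₁.hom] [QuasiCompact H₁''.hom]
    [QuasiCompact H₂'.hom] [QuasiCompact H₂.hom] [QuasiCompact H₂''.hom]
    [LocallyOfFinitePresentation H₁'.hom] [LocallyOfFinitePresentation H₁.hom] [LocallyOfFinitePresentation H₁''.hom]
    [LocallyOfFinitePresentation H₂'.hom] [LocallyOfFinitePresentation H₂.hom] [LocallyOfFinitePresentation H₂''.hom]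
    (a₁ : H₁' ⟶ H₁) (b₁ : H₁ ⟶ H₁'') (a₂ : H₂' ⟶ H₂) (b₂ : H₂ ⟶ H₂'')
    [IsMonHom a₁] [IsMonHom b₁] [IsMonHom a₂] [IsMonHom b₂]
    (h₁ : AlgGrp.IsKernel a₁ b₁) (hb₁ : Flat b₁.left ∧ Surjective b₁.left)
    (h₂ : AlgGrp.IsKernel a₂ b₂) (hb₂ : Flat b₂.left ∧ Surjective b₂.left)
    (j' : H₁' ⟶ H₂') (j : H₁ ⟶ H₂) (j'' : H₁'' ⟶ H₂'') [IsMonHom j'] [IsMonHom j] [IsMonHom j'']
    (sq₁ : a₁ ≫ j = j' ≫ a₂) (sq₂ : b₁ ≫ j'' = j ≫ b₂)
    (hj' : IsClosedImmersion j'.left) (hj'' : IsClosedImmersion j''.left) :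
    IsClosedImmersion j.left := by
  obtain ⟨hb₁f, hb₁s⟩ := hb₁
  haveI := hb₁f
  haveI := hb₁s
  haveI := hj'
  haveI := hj''
  haveI : Mono j' := Over.mono_of_mono_left j'
  haveI : Mono j'' := Over.mono_of_mono_left j''
  haveI : Mono j := five_mono a₁ b₁ a₂ b₂ h₁ h₂ j' j j'' sq₁ sq₂
  haveI : Mono j.left := inferInstance
  -- quasi-compactness of b₁
  haveI : QuasiCompact (b₁.left ≫ H₁''.hom) := by rw [Over.w b₁]; infer_instance
  haveI : QuasiCompact b₁.left := QuasiCompact.of_comp b₁.left H₁''.hom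
  -- the pullback P
  have hP := IsPullback.of_hasPullback b₂ j''
  have HB := sqB b₁ a₂ b₂ h₂ j j'' sq₂ _ _ hP
  have HA := sqA a₁ b₁ a₂ b₂ h₁ h₂ j' j j'' sq₁ sq₂ _ _ hP
  have HW := sqW (X := H₁) j'
  have hc := cMap_p₁ b₁ b₂ j j'' sq₂ _ _ hP
  obtain ⟨f, hf⟩ : ∃ f, f = fMap b₁ a₂ b₂ h₂ j j'' sq₂ _ _ hP := ⟨_, rfl⟩
  obtain ⟨c, hc'⟩ : ∃ c, c = cMap b₁ b₂ j j'' sq₂ _ _ hP := ⟨_, rfl⟩
  rw [← hf] at HB HA
  rw [← hc'] at HA hc
  have hP' : IsPullback (pullback.fst b₂ j'').left (pullback.snd b₂ j'').left b₂.left j''.left :=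
    hP.map (Over.forget S)
  have HB' : IsPullback f.left (snd H₂' H₁).left (pullback.snd b₂ j'').left b₁.left :=
    HB.map (Over.forget S)
  have HA' : IsPullback (j' ▷ H₁).left ((fst H₁' H₁ ≫ a₁) * snd H₁' H₁).left f.left c.left :=
    HA.map (Over.forget S)
  have HW' : IsPullback (j' ▷ H₁).left (fst H₁' H₁).left (fst H₂' H₁).left j'.left :=
    HW.map (Over.forget S)
  haveI : Flat f.left := MorphismProperty.of_isPullback (P := @Flat) HB'.flip hb₁f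
  haveI : Surjective f.left := MorphismProperty.of_isPullback (P := @Surjective) HB'.flip hb₁s
  haveI : QuasiCompact f.left :=
    MorphismProperty.of_isPullback (P := @QuasiCompact) HB'.flip inferInstance
  haveI : IsClosedImmersion (pullback.fst b₂ j'').left :=
    MorphismProperty.of_isPullback (P := @IsClosedImmersion) hP'.flip hj''
  haveI : IsClosedImmersion (j' ▷ H₁).left :=
    MorphismProperty.of_isPullback (P := @IsClosedImmersion) HW'.flip hj'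
  haveI : UniversallyClosed c.left :=
    MorphismProperty.of_isPullback_of_descendsAlong (P := @UniversallyClosed)
      (Q := @Surjective ⊓ @Flat ⊓ @QuasiCompact) HA' ⟨⟨inferInstance, inferInstance⟩, inferInstance⟩
      inferInstance
  have hj : j.left = c.left ≫ (pullback.fst b₂ j'').left := by
    rw [← Over.comp_left, hc]
  haveI : UniversallyClosed j.left := by rw [hj]; infer_instance
  haveI : IsSeparated (j.left ≫ H₂.hom) := by rw [Over.w j]; infer_instance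
  haveI : IsSeparated j.left := IsSeparated.of_comp j.left H₂.hom
  haveI : LocallyOfFiniteType (j.left ≫ H₂.hom) := by rw [Over.w j]; infer_instance
  haveI : LocallyOfFiniteType j.left := locallyOfFiniteType_of_comp j.left H₂.hom
  haveI : IsProper j.left := {}
  exact (IsClosedImmersion.iff_isProper_and_mono j.left).2 ⟨inferInstance, inferInstance⟩

end Groth.Agent.Lib.Helper4.FiveClosed1
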