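import Mathlib
import Groth.Prelude.Def_AlgGrp
import Groth.Agent.Lib.Helper4.ContentRep3

/-!
# Fixed points under a scheme-theoretically dense open subscheme of the acting monoid (helper4)
-/

set_option backward.isDefEq.respectTransparency.types false
set_option synthInstance.maxHeartbeats 400000
set_option autoImplicit false
set_option linter.unusedSectionVars false
set_option linter.style.haveILetI false
set_option linter.unusedSimpArgs false
universe u v w
open CategoryTheory CategoryTheory.Limits AlgebraicGeometry TopologicalSpace Opposite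
open MonoidalCategory CartesianMonoidalCategory

namespace Groth.Agent.Lib.Helper4.FixedDense1
open Groth.Agent.Lib.Helper4.ContentRep2

section Cart
variable {C : Type v} [Category.{w} C] [CartesianMonoidalCategory C]

theorem whiskerLeft_comp_swapAct {M X T T' : C} (a : M ⊗ X ⟶ X) (x : T ⟶ X) (m : T' ⟶ M) :
    (T ◁ m) ≫ lift (snd T M) (fst T M ≫ x) ≫ a =
      lift (snd T T') (fst T T') ≫ (T' ◁ x) ≫ (m ▷ X) ≫ a := by
  have : (T ◁ m) ≫ lift (snd T M) (fst T M ≫ x) =
      lift (snd T T') (fst T T') ≫ (T' ◁ x) ≫ (m ▷ X) := by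
    apply CartesianMonoidalCategory.hom_ext
    · simp
    · simp
  rw [← Category.assoc, this, Category.assoc, Category.assoc]

theorem swap_comp_swapAct {M X T : C} (x : T ⟶ X) :
    lift (snd M T) (fst M T) ≫ lift (snd T M) (fst T M ≫ x) = M ◁ x := by
  apply CartesianMonoidalCategory.hom_ext
  · simp
  · simp

end Cart

theorem main_S18823 (k : Type u) [Field k]
    (M G X : Over (Spec (CommRingCat.of k))) [IsSeparated X.hom] (a : M ⊗ X ⟶ X) (i : G ⟶ M)
    [IsSchemeTheoreticallyDominant i.left]
    (T : Over (Spec (CommRingCat.of k))) (x : T ⟶ X) :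
    (M ◁ x) ≫ a = snd M T ≫ x ↔ (G ◁ x) ≫ (i ▷ X) ≫ a = snd G T ≫ x := by
  constructor
  · intro h
    rw [← Category.assoc, whisker_exchange, Category.assoc, h, whiskerRight_snd_assoc]
  · intro h
    obtain ⟨Z, j, hj, hrep⟩ := eq_rep k T M X (lift (snd T M) (fst T M ≫ x) ≫ a) (fst T M ≫ x)
    have h1 : (T ◁ i) ≫ lift (snd T M) (fst T M ≫ x) ≫ a = (T ◁ i) ≫ fst T M ≫ x := by
      rw [whiskerLeft_comp_swapAct, h, lift_snd_assoc, whiskerLeft_fst_assoc]
    obtain ⟨z, hz⟩ := (hrep G i).1 h1
    haveI := hj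
    have hk : j.left.ker ≤ Scheme.Hom.ker (𝟙 M.left) := by
      have h2 : j.left.ker ≤ i.left.ker := by
        rw [← hz, Over.comp_left]; exact Scheme.Hom.le_ker_comp _ _
      rw [Scheme.Hom.ker_eq_bot i.left] at h2
      exact h2.trans bot_le
    have hl : IsClosedImmersion.lift j.left (𝟙 M.left) hk ≫ j.left = 𝟙 _ :=
      IsClosedImmersion.lift_fac _ _ _
    have h3 := (hrep M (𝟙 M)).2 ⟨Over.homMk (IsClosedImmersion.lift j.left (𝟙 M.left) hk)
      (by rw [← Over.w j, ← Category.assoc, hl, Category.id_comp]), by ext; exact hl⟩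
    rw [MonoidalCategory.whiskerLeft_id, Category.id_comp, Category.id_comp] at h3
    have h4 := congrArg (fun m => lift (snd M T) (fst M T) ≫ m) h3
    simp only [← Category.assoc, swap_comp_swapAct, lift_fst] at h4
    exact h4

end Groth.Agent.Lib.Helper4.FixedDense1
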