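import Mathlib

/-!
# Flat morphisms to integral schemes with integral generic fibre (helper4)
-/

set_option autoImplicit false
set_option linter.unusedSectionVars false
set_option linter.style.haveILetI false
universe u
open CategoryTheory CategoryTheory.Limits AlgebraicGeometry TopologicalSpace

namespace Groth.Agent.Lib.Helper4.FlatIntegral

theorem irreducible_of_flat {X Y : Scheme.{u}} (f : X ⟶ Y) [Flat f] [IsIntegral Y]
    [IrreducibleSpace (f.fiber (genericPoint ↥Y))] : IrreducibleSpace X := by
  set η := genericPoint ↥Y with hη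
  have hgen : IsGenericPoint η (⊤ : Set Y) := genericPoint_spec Y
  let ξ : f.fiber η := genericPoint _
  have hξ : IsGenericPoint ξ (⊤ : Set (f.fiber η)) := genericPoint_spec _
  have key : ∀ x : X, (f.fiberι η ξ) ⤳ x := by
    intro x
    have h1 : η ⤳ f x := by
      rw [specializes_iff_mem_closure, hgen.def]; trivial
    obtain ⟨x', hx'x, hfx'⟩ := (Flat.generalizingMap f) h1
    have hx'mem : x' ∈ Set.range (f.fiberι η) := by
      rw [f.range_fiberι]; exact hfx'
    obtain ⟨z, rfl⟩ := hx'mem
    have h2 : ξ ⤳ z := by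
      rw [specializes_iff_mem_closure, hξ.def]; trivial
    exact (h2.map (f.fiberι η).continuous).trans hx'x
  have hX : (Set.univ : Set X) = closure {f.fiberι η ξ} := by
    ext x
    simp only [Set.mem_univ, true_iff]
    exact (specializes_iff_mem_closure).mp (key x)
  have : IsIrreducible (Set.univ : Set X) := by
    rw [hX]; exact isIrreducible_singleton.closure
  have hne : Nonempty X := ⟨f.fiberι η ξ⟩
  exact { toPreirreducibleSpace := ⟨this.isPreirreducible⟩, toNonempty := hne }


lemma isPullback_comp_mono {C : Type*} [Category C] {P X Y W Z : C} {fst : P ⟶ X} {snd : P ⟶ Y}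
    {f : X ⟶ W} {g : Y ⟶ W} (h : IsPullback fst snd f g) (i : W ⟶ Z) [Mono i] :
    IsPullback fst snd (f ≫ i) (g ≫ i) :=
  IsPullback.of_isLimit' ⟨by rw [← Category.assoc, h.w, Category.assoc]⟩
    (PullbackCone.isLimitOfCompMono f g i _ h.isLimit)

lemma residue_injective_generic (Y : Scheme.{u}) [IsIntegral Y] :
    Function.Injective (Y.residue (genericPoint Y)).hom := by
  have hF : IsField (Y.presheaf.stalk (genericPoint Y)) :=
    isField_stalk_of_closure_mem_irreducibleComponents Y _
      (by simp [irreducibleComponents_eq_singleton])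
  rw [RingHom.injective_iff_ker_eq_bot]
  change RingHom.ker (IsLocalRing.residue (Y.presheaf.stalk (genericPoint Y))) = ⊥
  rw [IsLocalRing.ker_residue]
  exact IsLocalRing.isField_iff_maximalIdeal_eq.mp hF

theorem isReduced_section {X Y : Scheme.{u}} (f : X ⟶ Y) [Flat f] [IsIntegral Y]
    [IsReduced (f.fiber (genericPoint ↥Y))] {V : Y.Opens} (hV : IsAffineOpen V)
    {U : X.Opens} (hU : IsAffineOpen U) (e : U ≤ f ⁻¹ᵁ V) (y : Y) (hy : y ∈ V) :
    _root_.IsReduced Γ(X, U) := by
  have hηV : genericPoint Y ∈ V := by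
    have h1 : genericPoint Y ⤳ y := by
      rw [specializes_iff_mem_closure, (genericPoint_spec Y).def]; trivial
    exact h1.mem_open V.isOpen hy
  let φ : Γ(Y, V) ⟶ Γ(X, U) := f.appLE V U e
  let ψ : Γ(Y, V) ⟶ Y.residueField (genericPoint Y) := Y.evaluation V (genericPoint Y) hηV
  have hφ : φ.hom.Flat := HasRingHomProperty.appLE (P := @Flat) f inferInstance ⟨V, hV⟩ ⟨U, hU⟩ e
  have hψ : Function.Injective ψ.hom := by
    change Function.Injective ((Y.residue (genericPoint Y)).hom ∘ (Y.presheaf.germ V (genericPoint Y) hηV).hom)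
    exact (residue_injective_generic Y).comp (germ_injective_of_isIntegral Y _ hηV)
  algebraize [φ.hom, ψ.hom]
  have hinj : Function.Injective (Algebra.TensorProduct.includeLeftRingHom :
      Γ(X, U) →+* TensorProduct Γ(Y, V) Γ(X, U) (Y.residueField (genericPoint Y))) :=
    Algebra.TensorProduct.includeLeft_injective (S := Γ(Y, V)) hψ
  have hpo := CommRingCat.isPushout_tensorProduct Γ(Y, V) Γ(X, U) (Y.residueField (genericPoint Y))
  have hpb := isPullback_SpecMap_of_isPushout _ _ _ _ hpo
  have hpb2 := isPullback_comp_mono hpb hV.fromSpec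
  have e1 : Spec.map (CommRingCat.ofHom (algebraMap Γ(Y, V) Γ(X, U))) ≫ hV.fromSpec
      = hU.fromSpec ≫ f := IsAffineOpen.SpecMap_appLE_fromSpec f hV hU e
  have e2 : Spec.map (CommRingCat.ofHom (algebraMap Γ(Y, V) (Y.residueField (genericPoint Y)))) ≫
      hV.fromSpec = Y.fromSpecResidueField (genericPoint Y) := by
    change Spec.map (Y.presheaf.germ V (genericPoint Y) hηV ≫ Y.residue _) ≫ hV.fromSpec = _
    rw [Spec.map_comp, Category.assoc]
    change _ ≫ hV.fromSpecStalk hηV = _
    rw [hV.fromSpecStalk_eq_fromSpecStalk hηV]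
    rfl
  rw [e1, e2] at hpb2
  have hfib : IsPullback (f.fiberι (genericPoint Y)) (f.fiberToSpecResidueField (genericPoint Y)) f
      (Y.fromSpecResidueField (genericPoint Y)) := IsPullback.of_hasPullback _ _
  let l := hfib.lift _ _ (by rw [Category.assoc]; exact hpb2.w)
  have hl1 : l ≫ f.fiberι (genericPoint Y) = _ := hfib.lift_fst _ _ _
  have hl2 : l ≫ f.fiberToSpecResidueField (genericPoint Y) = _ := hfib.lift_snd _ _ _
  have hsq : IsPullback l (Spec.map (CommRingCat.ofHom Algebra.TensorProduct.includeLeftRingHom))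
      (f.fiberι (genericPoint Y)) hU.fromSpec := by
    refine IsPullback.of_right ?_ hl1 hfib.flip
    rw [hl2]
    exact hpb2.flip
  have hlo : IsOpenImmersion l :=
    MorphismProperty.of_isPullback (P := @IsOpenImmersion) hsq.flip inferInstance
  have hred : IsReduced (Spec (CommRingCat.of
      (TensorProduct Γ(Y, V) Γ(X, U) (Y.residueField (genericPoint Y))))) :=
    isReduced_of_isOpenImmersion l
  have hred' : _root_.IsReduced
      (TensorProduct Γ(Y, V) Γ(X, U) (Y.residueField (genericPoint Y))) :=
    (affine_isReduced_iff (CommRingCat.of _)).mp hred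
  exact isReduced_of_injective _ hinj

theorem isReduced_of_flat {X Y : Scheme.{u}} (f : X ⟶ Y) [Flat f] [IsIntegral Y]
    [IsReduced (f.fiber (genericPoint ↥Y))] : IsReduced X := by
  have key : ∀ x : X, ∃ U : X.Opens, x ∈ U ∧ IsAffineOpen U ∧ _root_.IsReduced Γ(X, U) := by
    intro x
    obtain ⟨V, hV, hxV, -⟩ := Opens.isBasis_iff_nbhd.mp Y.isBasis_affineOpens
      (show f x ∈ (⊤ : Y.Opens) from trivial)
    obtain ⟨U, hU, hxU, hUV⟩ := Opens.isBasis_iff_nbhd.mp X.isBasis_affineOpens
      (show x ∈ f ⁻¹ᵁ V from hxV)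
    exact ⟨U, hxU, hU, isReduced_section f hV hU hUV (f x) hxV⟩
  choose U hxU hU hred using key
  have hcov : ⨆ x, U x = ⊤ := by
    rw [eq_top_iff]; intro x _
    exact Opens.mem_iSup.mpr ⟨x, hxU x⟩
  let 𝒰 := X.openCoverOfIsOpenCover U (.mk hcov)
  have : ∀ i, IsReduced (𝒰.X i) := by
    intro i
    change IsReduced (U i).toScheme
    have : IsAffine (U i).toScheme := hU i
    have : _root_.IsReduced Γ((U i).toScheme, ⊤) := by
      have e := (U i).topIso
      exact isReduced_of_injective e.hom.hom e.commRingCatIsoToRingEquiv.injective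
    exact isReduced_of_isAffine_isReduced _
  exact IsReduced.of_openCover _ 𝒰

theorem S8886_main {X Y : Scheme.{u}} (f : X ⟶ Y) [Flat f] [IsIntegral Y]
    (h : IsIntegral (f.fiber (genericPoint ↥Y))) : IsIntegral X := by
  have := irreducible_of_flat f
  have := isReduced_of_flat f
  exact isIntegral_of_irreducibleSpace_of_isReduced X

end Groth.Agent.Lib.Helper4.FlatIntegral
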