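import Mathlib

namespace Groth.Agent.Lib.Helper4.FlatNilp

open TensorProduct

section Nak
variable {A : Type*} [CommRing A] {M : Type*} [AddCommGroup M] [Module A M]

/-- Nakayama for nilpotent ideals (no finiteness needed). -/
lemma eq_top_of_sup_smul_top_of_isNilpotent (J : Ideal A) (hJ : IsNilpotent J)
    (N : Submodule A M) (h : N ⊔ J • ⊤ = ⊤) : N = ⊤ := by
  obtain ⟨n, hn⟩ := hJ
  have key : ∀ k : ℕ, N ⊔ (J ^ k) • (⊤ : Submodule A M) = ⊤ := by
    intro k
    induction k with
    | zero => simp
    | succ k ih =>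
      rw [eq_top_iff]
      calc ⊤ = N ⊔ J • (⊤ : Submodule A M) := h.symm
        _ = N ⊔ J • (N ⊔ (J ^ k) • ⊤) := by rw [ih]
        _ ≤ N ⊔ (J ^ (k + 1)) • ⊤ := by
          rw [Submodule.smul_sup]
          refine sup_le le_sup_left (sup_le (le_sup_of_le_left Submodule.smul_le_right) ?_)
          rw [← mul_smul, ← pow_succ']
          exact le_sup_right
  have := key n
  rw [hn] at this
  simpa using this

end Nak

section Key

variable {B : Type*} [CommRing B] {F P : Type*} [AddCommGroup F] [Module B F]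
  [AddCommGroup P] [Module B P] [Module.Flat B P] {I : Type*} (b : Module.Basis I B F)
  (u : F →ₗ[B] P) (hu : Function.Surjective u)

include hu in
/-- Every relation `x ∈ ker u` is a combination of elements of `ker u` with coefficients the
coordinates of `x`. -/
lemma exists_decomp (x : F) (hx : x ∈ LinearMap.ker u) :
    ∃ n : I → F, (∀ i, n i ∈ LinearMap.ker u) ∧
      x = ∑ i ∈ (b.repr x).support, b.repr x i • n i := by
  classical
  set S := (b.repr x).support with hS
  have hxsum : x = ∑ i ∈ S, b.repr x i • b i := by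
    conv_lhs => rw [← b.linearCombination_repr x, Finsupp.linearCombination_apply, Finsupp.sum]
  have h0 : ∑ i : S, (b.repr x i) • u (b i) = 0 := by
    rw [Finset.sum_coe_sort S (fun i => b.repr x i • u (b i))]
    rw [← LinearMap.mem_ker.mp hx]
    conv_rhs => rw [hxsum]
    rw [map_sum]
    simp
  obtain ⟨k, a, y, hxy, hfa⟩ := Module.Flat.isTrivialRelation_of_sum_smul_eq_zero h0
  choose z hz using fun j => hu (y j)
  refine ⟨fun i => if h : i ∈ S then b i - ∑ j, a ⟨i, h⟩ j • z j else 0, ?_, ?_⟩
  · intro i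
    by_cases h : i ∈ S
    · simp only [h, dite_true, LinearMap.mem_ker, map_sub, map_sum, map_smul, hz]
      have := hxy ⟨i, h⟩
      simp only at this
      rw [this, sub_self]
    · simp [h]
  · rw [← Finset.sum_coe_sort S]
    have : ∀ i : S, (b.repr x i) • (if h : (i : I) ∈ S then b i - ∑ j, a ⟨i, h⟩ j • z j else 0) =
        b.repr x i • b i - ∑ j, (b.repr x i * a i j) • z j := by
      intro i
      simp only [i.2, dite_true, smul_sub, Finset.smul_sum, mul_smul]
    rw [Finset.sum_congr rfl (fun i _ => this i), Finset.sum_sub_distrib, Finset.sum_comm]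
    have hfa' : ∀ j, ∑ i : S, b.repr x i * a i j = 0 := hfa
    simp_rw [← Finset.sum_smul, hfa', zero_smul, Finset.sum_const_zero, sub_zero]
    rw [Finset.sum_coe_sort S (fun i => b.repr x i • b i)]
    exact hxsum

include hu in
theorem ker_eq_bot_of_flat (K : Ideal B) (hK : IsNilpotent K)
    (hker : ∀ x ∈ LinearMap.ker u, ∀ i, b.repr x i ∈ K) : LinearMap.ker u = ⊥ := by
  have key : ∀ n : ℕ, ∀ x ∈ LinearMap.ker u, ∀ l, b.repr x l ∈ K ^ n := by
    intro n
    induction n with
    | zero => intro x _ l; simp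
    | succ n ih =>
      intro x hx l
      obtain ⟨m, hm, hxm⟩ := exists_decomp b u hu x hx
      have : b.repr x l = ∑ i ∈ (b.repr x).support, b.repr x i * b.repr (m i) l := by
        conv_lhs => rw [hxm]
        simp
      rw [this, pow_succ']
      exact Ideal.sum_mem _ fun i _ => Ideal.mul_mem_mul (hker x hx i) (ih (m i) (hm i) l)
  obtain ⟨n, hn⟩ := hK
  rw [eq_bot_iff]
  intro x hx
  have : b.repr x = 0 := by
    ext l
    have := key n x hx l
    rw [hn] at this
    simpa using this
  simpa using this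

end Key

section Main

universe u
variable {A : Type u} [CommRing A] {M : Type u} [AddCommGroup M] [Module A M]

/-- A module that is free modulo a nilpotent ideal `J` has a free cover whose kernel has all
coordinates in `J`. -/
theorem exists_presentation (J : Ideal A) (hJ : IsNilpotent J)
    (hfree : Module.Free (A ⧸ J) ((A ⧸ J) ⊗[A] M)) :
    ∃ (I : Type u) (u : (I →₀ A) →ₗ[A] M), Function.Surjective u ∧
      ∀ x ∈ LinearMap.ker u, ∀ i, x i ∈ J := by
  classical
  let I := Module.Free.ChooseBasisIndex (A ⧸ J) ((A ⧸ J) ⊗[A] M)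
  let ebar : Module.Basis I (A ⧸ J) ((A ⧸ J) ⊗[A] M) := Module.Free.chooseBasis _ _
  have hsurj : Function.Surjective (TensorProduct.mk A (A ⧸ J) M 1) :=
    TensorProduct.mk_surjective A M (A ⧸ J) Ideal.Quotient.mk_surjective
  choose e he using fun i => hsurj (ebar i)
  let u : (I →₀ A) →ₗ[A] M := Finsupp.linearCombination A e
  have hu1 : ∀ c : I →₀ A, (1 : A ⧸ J) ⊗ₜ[A] u c =
      Finsupp.linearCombination (A ⧸ J) ebar (c.mapRange (Ideal.Quotient.mk J) (map_zero _)) := by
    intro c
    rw [Finsupp.linearCombination_apply (R := A ⧸ J),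
      Finsupp.sum_mapRange_index (by intro i; exact zero_smul _ _)]
    simp only [u, Finsupp.linearCombination_apply, Finsupp.sum, TensorProduct.tmul_sum,
      TensorProduct.tmul_smul]
    refine Finset.sum_congr rfl fun i _ => ?_
    rw [show (1 : A ⧸ J) ⊗ₜ[A] e i = ebar i from he i, ← Ideal.Quotient.algebraMap_eq,
      algebraMap_smul]
  have hzero : ∀ m : M, (1 : A ⧸ J) ⊗ₜ[A] m = 0 → m ∈ J • (⊤ : Submodule A M) := by
    intro m hm
    have := congrArg (TensorProduct.quotTensorEquivQuotSMul M J) hm
    rw [TensorProduct.quotTensorEquivQuotSMul_mk_one_tmul, map_zero,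
      Submodule.Quotient.mk_eq_zero] at this
    exact this
  refine ⟨I, u, ?_, ?_⟩
  · rw [← LinearMap.range_eq_top]
    apply eq_top_of_sup_smul_top_of_isNilpotent J hJ
    rw [eq_top_iff]
    intro m _
    obtain ⟨c, hc⟩ := Finsupp.mapRange_surjective (Ideal.Quotient.mk J) (map_zero _)
      Ideal.Quotient.mk_surjective (ebar.repr ((1 : A ⧸ J) ⊗ₜ[A] m))
    have h1 : (1 : A ⧸ J) ⊗ₜ[A] (m - u c) = 0 := by
      rw [TensorProduct.tmul_sub, hu1, hc, ebar.linearCombination_repr, sub_self]
    have h2 := hzero _ h1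
    have : m = u c + (m - u c) := by abel
    rw [this]
    exact Submodule.add_mem_sup (LinearMap.mem_range_self _ _) h2
  · intro x hx i
    have h1 := hu1 x
    rw [LinearMap.mem_ker.mp hx, TensorProduct.tmul_zero] at h1
    have h2 := linearIndependent_iff.mp ebar.linearIndependent _ h1.symm
    have h3 := DFunLike.congr_fun h2 i
    rw [Finsupp.mapRange_apply, Finsupp.zero_apply] at h3
    exact Ideal.Quotient.eq_zero_iff_mem.mp h3

end Main

section BaseChange

variable {A : Type*} [CommRing A] {M : Type*} [AddCommGroup M] [Module A M]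
variable {I : Type*} (u : (I →₀ A) →ₗ[A] M) (hu : Function.Surjective u)
variable (A' : Type*) [CommRing A'] [Algebra A A']

/-- the coordinate ideal of the kernel -/
def coordIdeal : Ideal A := Ideal.span {a | ∃ x ∈ LinearMap.ker u, ∃ i, x i = a}

variable (A I) in
/-- The standard basis of `A' ⊗ (I →₀ A)` -/
noncomputable abbrev bc : Module.Basis I A' (A' ⊗[A] (I →₀ A)) :=
  Algebra.TensorProduct.basis A' (Finsupp.basisSingleOne)

lemma repr_tmul (a' : A') (x : I →₀ A) (i : I) :
    (bc A I A').repr (a' ⊗ₜ x) i = a' * algebraMap A A' (x i) := by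
  simp [bc]

include hu in
lemma ker_baseChange_coords (w : A' ⊗[A] (I →₀ A)) (hw : w ∈ LinearMap.ker (u.baseChange A'))
    (i : I) : (bc A I A').repr w i ∈ Ideal.map (algebraMap A A') (coordIdeal u) := by
  have hex := lTensor_exact (R := A) (M := LinearMap.ker u) (N := I →₀ A) (P := M)
    (f := (LinearMap.ker u).subtype) (g := u) A' (LinearMap.exact_subtype_ker_map u) hu
  have hw' : (u.lTensor A') w = 0 := hw
  obtain ⟨t, rfl⟩ := (hex w).mp hw'
  clear hw hw'
  induction t using TensorProduct.induction_on with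
  | zero => simp
  | tmul a' n =>
    rw [LinearMap.lTensor_tmul, Submodule.subtype_apply, repr_tmul]
    exact Ideal.mul_mem_left _ _ (Ideal.mem_map_of_mem _ (Ideal.subset_span ⟨n, n.2, i, rfl⟩))
  | add t1 t2 h1 h2 =>
    rw [map_add, map_add, Finsupp.add_apply]
    exact Ideal.add_mem _ h1 h2

include hu in
theorem free_of_map_eq_bot (h : Ideal.map (algebraMap A A') (coordIdeal u) = ⊥) :
    Module.Free A' (A' ⊗[A] M) := by
  have hker : LinearMap.ker (u.baseChange A') = ⊥ := by
    rw [eq_bot_iff]
    intro w hw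
    have : (bc A I A').repr w = 0 := by
      ext i
      have := ker_baseChange_coords u hu A' w hw i
      rw [h] at this
      simpa using this
    simpa using this
  have hbij : Function.Bijective (u.baseChange A') :=
    ⟨LinearMap.ker_eq_bot.mp hker, LinearMap.lTensor_surjective A' hu⟩
  have : Module.Free A' (A' ⊗[A] (I →₀ A)) := Module.Free.of_basis (bc A I A')
  exact Module.Free.of_equiv (LinearEquiv.ofBijective (u.baseChange A') hbij)

include hu in
theorem map_eq_bot_of_flat (J : Ideal A) (hJ : IsNilpotent J)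
    (hker : ∀ x ∈ LinearMap.ker u, ∀ i, x i ∈ J) [Module.Flat A' (A' ⊗[A] M)] :
    Ideal.map (algebraMap A A') (coordIdeal u) = ⊥ := by
  have hle : coordIdeal u ≤ J := Ideal.span_le.mpr (by
    rintro _ ⟨x, hx, i, rfl⟩
    exact hker x hx i)
  have hnil : IsNilpotent (Ideal.map (algebraMap A A') J) := by
    obtain ⟨n, hn⟩ := hJ
    exact ⟨n, by rw [← Ideal.map_pow, hn]; simp⟩
  have hk := ker_eq_bot_of_flat (bc A I A') (u.baseChange A') (LinearMap.lTensor_surjective A' hu)
    _ hnil (fun w hw i => Ideal.map_mono hle (ker_baseChange_coords u hu A' w hw i))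
  rw [coordIdeal, Ideal.map_span, Ideal.span_eq_bot]
  rintro _ ⟨_, ⟨x, hx, i, rfl⟩, rfl⟩
  have h1 : (1 : A') ⊗ₜ[A] x ∈ LinearMap.ker (u.baseChange A') := by
    simp [LinearMap.mem_ker.mp hx]
  rw [hk] at h1
  have := repr_tmul A' 1 x i
  rw [(Submodule.mem_bot _).mp h1] at this
  simpa using this.symm

end BaseChange

end Groth.Agent.Lib.Helper4.FlatNilp
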