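import Mathlib
import Groth.Agent.Lib.Helper4.LocalIso2
import Groth.Agent.Lib.Helper4.FiberChart

/-!
# Flat with reduced generic fibres over reduced base is reduced (helper4)
-/

set_option backward.isDefEq.respectTransparency.types false
set_option synthInstance.maxHeartbeats 400000
set_option autoImplicit false
set_option linter.unusedSectionVars false
set_option linter.style.haveILetI false
set_option linter.unusedSimpArgs false
universe u v

namespace Groth.Agent.Lib.Helper4.FlatReduced
open AlgebraicGeometry CategoryTheory CategoryTheory.Limits TopologicalSpace Opposite TensorProduct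
open Groth.Agent.Lib.Helper4.LocalIso2 Groth.Agent.Lib.Helper4.FiberChart

/-- flat algebra over a reduced ring with finitely many minimal primes, with reduced "generic fibres",
is reduced. -/
lemma isReduced_of_flat_of_fibers {A B : Type u} [CommRing A] [CommRing B] [Algebra A B]
    [Module.Flat A B] [IsReduced A] (hfin : (minimalPrimes A).Finite)
    (K : minimalPrimes A → Type u) [∀ p, Field (K p)] [∀ p, Algebra A (K p)]
    (hker : ∀ p : minimalPrimes A, RingHom.ker (algebraMap A (K p)) = p.1)
    (hred : ∀ p : minimalPrimes A, IsReduced (B ⊗[A] K p)) : IsReduced B := by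
  have : Fintype (minimalPrimes A) := hfin.fintype
  classical
  -- the injective linear map A → ∏ K p
  let ι : A →ₗ[A] (∀ p : minimalPrimes A, K p) := LinearMap.pi fun p => Algebra.linearMap A (K p)
  have hι : Function.Injective ι := by
    rw [← LinearMap.ker_eq_bot, LinearMap.ker_eq_bot']
    intro a ha
    have h1 : ∀ p : minimalPrimes A, a ∈ p.1 := by
      intro p
      rw [← hker p, RingHom.mem_ker]
      exact congrFun ha p
    have h2 : a ∈ sInf (minimalPrimes A) := by
      rw [Ideal.mem_sInf]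
      intro p hp
      exact h1 ⟨p, hp⟩
    have h3 : sInf (minimalPrimes A) = nilradical A := by
      rw [minimalPrimes, Ideal.sInf_minimalPrimes]
      rfl
    rw [h3, nilradical_eq_zero] at h2
    exact h2
  -- the ring hom B → ∏ B ⊗ K p
  let φ : B →+* (∀ p : minimalPrimes A, B ⊗[A] K p) :=
    RingHom.pi fun p => (Algebra.TensorProduct.includeLeft (R := A) (S := A) (A := B) (B := K p)).toRingHom
  have hφ : Function.Injective φ := by
    have h1 : Function.Injective (LinearMap.lTensor B ι) :=
      Module.Flat.lTensor_preserves_injective_linearMap ι hι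
    have h2 : ∀ b : B, φ b = (TensorProduct.piRight A A B K) (LinearMap.lTensor B ι (b ⊗ₜ[A] (1 : A))) := by
      intro b
      ext p
      simp only [φ, ι, RingHom.pi_apply, AlgHom.toRingHom_eq_coe, RingHom.coe_coe,
        Algebra.TensorProduct.includeLeft_apply, LinearMap.lTensor_tmul, LinearMap.pi_apply,
        Algebra.linearMap_apply, map_one, TensorProduct.piRight_apply, TensorProduct.piRightHom_tmul]
    intro b b' hbb'
    rw [h2, h2] at hbb'
    have h3 := h1 ((TensorProduct.piRight A A B K).injective hbb')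
    have h4 := congrArg (TensorProduct.rid A B) h3
    simpa using h4
  have : IsReduced (∀ p : minimalPrimes A, B ⊗[A] K p) := inferInstance
  exact isReduced_of_injective φ hφ


theorem ker_evaluation_fromSpec {Y : Scheme.{u}} {V : Y.Opens} (hV : IsAffineOpen V)
    (p : PrimeSpectrum Γ(Y, V)) (hη : hV.fromSpec p ∈ V) :
    RingHom.ker (Y.evaluation V (hV.fromSpec p) hη).hom = p.asIdeal := by
  ext a
  rw [RingHom.mem_ker, Scheme.evaluation_eq_zero_iff_notMem_basicOpen]
  have h1 : hV.fromSpec p ∈ Y.basicOpen a ↔ p ∈ PrimeSpectrum.basicOpen a := by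
    rw [← hV.fromSpec_preimage_basicOpen a]
    rfl
  rw [h1, PrimeSpectrum.mem_basicOpen, not_not]

theorem S11552_main {X Y : Scheme.{u}} (f : X ⟶ Y) [Flat f]
    [IsReduced Y] (hfin : (irreducibleComponents ↥Y).Finite)
    (h : ∀ η : Y, closure {η} ∈ irreducibleComponents ↥Y → IsReduced (f.fiber η)) :
    IsReduced X := by
  have key : ∀ x : X, ∃ U : X.Opens, IsAffineOpen U ∧ x ∈ U ∧ _root_.IsReduced Γ(X, U) := by
    intro x
    obtain ⟨V, hV, hxV⟩ : ∃ V : Y.Opens, IsAffineOpen V ∧ f x ∈ V := by
      obtain ⟨_, ⟨V, hV, rfl⟩, hxV, -⟩ := Y.isBasis_affineOpens.exists_subset_of_mem_open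
        (Set.mem_univ (f x)) isOpen_univ
      exact ⟨V, hV, hxV⟩
    obtain ⟨U, hU, hxU, e⟩ : ∃ U : X.Opens, IsAffineOpen U ∧ x ∈ U ∧ U ≤ f ⁻¹ᵁ V := by
      obtain ⟨_, ⟨U, hU, rfl⟩, hxU, hUV⟩ := X.isBasis_affineOpens.exists_subset_of_mem_open
        (show x ∈ (f ⁻¹ᵁ V : Set X) from hxV) (f ⁻¹ᵁ V).isOpen
      exact ⟨U, hU, hxU, hUV⟩
    refine ⟨U, hU, hxU, ?_⟩
    letI := (f.appLE V U e).hom.toAlgebra
    have hflat : Module.Flat Γ(Y, V) Γ(X, U) := f.flat_appLE hV hU e
    have hfinV := minimalPrimes_finite_of_affineOpen hfin hV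
    have hmemV : ∀ p : minimalPrimes Γ(Y, V), hV.fromSpec ⟨p.1, p.2.1.1⟩ ∈ V := by
      intro p
      rw [← SetLike.mem_coe, ← hV.range_fromSpec]
      exact ⟨_, rfl⟩
    letI : ∀ p : minimalPrimes Γ(Y, V),
        Algebra Γ(Y, V) (Y.residueField (hV.fromSpec ⟨p.1, p.2.1.1⟩)) := fun p =>
      (Y.evaluation V (hV.fromSpec ⟨p.1, p.2.1.1⟩) (hmemV p)).hom.toAlgebra
    refine isReduced_of_flat_of_fibers (A := Γ(Y, V)) (B := Γ(X, U)) hfinV
      (fun p => Y.residueField (hV.fromSpec ⟨p.1, p.2.1.1⟩)) ?_ ?_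
    · intro p
      exact ker_evaluation_fromSpec hV ⟨p.1, p.2.1.1⟩ (hmemV p)
    · intro p
      obtain ⟨l, hl, -, -⟩ := fiberChart f hV hU e (hV.fromSpec ⟨p.1, p.2.1.1⟩) (hmemV p)
      have hredfib : IsReduced (f.fiber (hV.fromSpec ⟨p.1, p.2.1.1⟩)) :=
        h _ (generic_fromSpec_of_minimal hV p.1 p.2)
      have := isReduced_of_isOpenImmersion l
      exact (affine_isReduced_iff _).mp this
  choose U hU hxU hred using key
  have hcov : IsOpenCover U := by
    rw [IsOpenCover, eq_top_iff]
    intro x _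
    exact Opens.mem_iSup.mpr ⟨x, hxU x⟩
  have : ∀ i, IsReduced ((X.openCoverOfIsOpenCover U hcov).X i) := by
    intro i
    show IsReduced (U i).toScheme
    have : IsReduced (Spec Γ(X, U i)) := inferInstance
    exact isReduced_of_isOpenImmersion (hU i).isoSpec.hom
  exact IsReduced.of_openCover X (X.openCoverOfIsOpenCover U hcov)

end Groth.Agent.Lib.Helper4.FlatReduced
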