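import Mathlib
import Groth.Agent.Lib.Helper4.FlatNilp

namespace Groth.Agent.Lib.Helper4.FlatSemilocal

open TensorProduct
open Groth.Agent.Lib.Helper4.FlatNilp

section Core

variable {A : Type*} [CommRing A]

/-- In a semilocal ring, for each maximal ideal `𝔪` there is `s ∉ 𝔪` with `s • 𝔪 ⊆ rad A`. -/
lemma exists_mul_mem_jacobson [Finite (MaximalSpectrum A)] (m : Ideal A) [hm : m.IsMaximal] :
    ∃ s : A, s ∉ m ∧ ∀ x ∈ m, s * x ∈ Ring.jacobson A := by
  classical
  have := Fintype.ofFinite (MaximalSpectrum A)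
  let T : Finset (MaximalSpectrum A) := Finset.univ.filter (fun P => P.asIdeal ≠ m)
  have hnot : ¬ (T.inf (fun P => P.asIdeal) ≤ m) := by
    intro hle
    obtain ⟨P, hP, hPm⟩ := (Ideal.IsPrime.inf_le' hm.isPrime).mp hle
    have : P.asIdeal = m := P.isMaximal.eq_of_le hm.ne_top hPm
    exact (Finset.mem_filter.mp hP).2 this
  obtain ⟨s, hsT, hsm⟩ := SetLike.not_le_iff_exists.mp hnot
  refine ⟨s, hsm, fun x hx => ?_⟩
  rw [Ring.jacobson_eq_sInf_isMaximal, Ideal.mem_sInf]
  intro P hP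
  by_cases hPm : P = m
  · rw [hPm]; exact Ideal.mul_mem_left _ _ hx
  · have : (⟨P, hP⟩ : MaximalSpectrum A) ∈ T := Finset.mem_filter.mpr ⟨Finset.mem_univ _, hPm⟩
    have h2 : T.inf (fun P => P.asIdeal) ≤ P := Finset.inf_le (f := fun P => P.asIdeal) this
    exact Ideal.mul_mem_right _ _ (h2 hsT)

/-- key divisibility: `s ^ n ∈ (s')` for every `s' ∉ 𝔪`. -/
lemma pow_mem_span_of_not_mem (m : Ideal A) [hm : m.IsMaximal] (s : A)
    (hs : ∀ x ∈ m, s * x ∈ Ring.jacobson A) (n : ℕ) (hn : Ring.jacobson A ^ n = ⊥)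
    (s' : A) (hs' : s' ∉ m) : s ^ n ∈ Ideal.span {s'} := by
  obtain ⟨t, i, hi, hti⟩ := hm.exists_inv hs'
  rw [← Ideal.Quotient.eq_zero_iff_mem, map_pow]
  have h1 : Ideal.Quotient.mk (Ideal.span {s'}) s = Ideal.Quotient.mk (Ideal.span {s'}) (s * i) := by
    rw [Ideal.Quotient.eq]
    have : s - s * i = (s * t) * s' := by
      have : s = s * (t * s' + i) := by rw [hti, mul_one]
      nth_rewrite 1 [this]
      ring
    rw [this]
    exact Ideal.mul_mem_left _ _ (Ideal.subset_span rfl)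
  rw [h1, ← map_pow]
  have : (s * i) ^ n ∈ Ring.jacobson A ^ n := Ideal.pow_mem_pow (hs i hi) n
  rw [hn] at this
  rw [(Ideal.mem_bot).mp this, map_zero]

end Core

section Loc

universe u
variable {A : Type u} [CommRing A]

lemma isNilpotent_maximalIdeal_localization [Finite (MaximalSpectrum A)]
    (hnil : IsNilpotent (Ring.jacobson A)) (m : Ideal A) [hm : m.IsMaximal] :
    IsNilpotent (IsLocalRing.maximalIdeal (Localization.AtPrime m)) := by
  obtain ⟨n, hn⟩ := hnil
  obtain ⟨s, hsm, hs⟩ := exists_mul_mem_jacobson m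
  refine ⟨n, ?_⟩
  rw [← Localization.AtPrime.map_eq_maximalIdeal, ← Ideal.map_pow, Ideal.zero_eq_bot,
    Ideal.map_eq_bot_iff_le_ker]
  intro y hy
  rw [RingHom.mem_ker, IsLocalization.map_eq_zero_iff m.primeCompl]
  refine ⟨⟨s ^ n, m.primeCompl.pow_mem hsm n⟩, ?_⟩
  have h1 : Ideal.span {s} * m ≤ Ring.jacobson A := by
    rw [Ideal.span_singleton_mul_le_iff]
    intro x hx
    exact hs x hx
  have h2 : Ideal.span {s ^ n} * m ^ n ≤ ⊥ := by
    rw [← Ideal.zero_eq_bot, ← hn, ← Ideal.span_singleton_pow, ← mul_pow]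
    exact Ideal.pow_right_mono h1 n
  exact (Ideal.mem_bot).mp (h2 (Ideal.mul_mem_mul (Ideal.subset_span rfl) hy))

attribute [local instance] Algebra.TensorProduct.rightAlgebra in
theorem free_localization [Finite (MaximalSpectrum A)]
    (hnil : IsNilpotent (Ring.jacobson A))
    {ι : Type*} (B : ι → Type u) [∀ i, CommRing (B i)] [∀ i, Algebra A (B i)]
    (hB : ∀ a : A, (∀ i, algebraMap A (B i) a = 0) → a = 0)
    (M : Type u) [AddCommGroup M] [Module A M]
    (hflat : ∀ i, Module.Flat (B i) (B i ⊗[A] M)) (m : Ideal A) [hm : m.IsMaximal] :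
    Module.Free (Localization.AtPrime m) (Localization.AtPrime m ⊗[A] M) := by
  set Am := Localization.AtPrime m with hAm
  have hJ : IsNilpotent (IsLocalRing.maximalIdeal Am) :=
    isNilpotent_maximalIdeal_localization hnil m
  let := Ideal.Quotient.field (IsLocalRing.maximalIdeal Am)
  have hfree : Module.Free (Am ⧸ IsLocalRing.maximalIdeal Am)
      ((Am ⧸ IsLocalRing.maximalIdeal Am) ⊗[Am] (Am ⊗[A] M)) := Module.Free.of_divisionRing _ _
  obtain ⟨I, u, hu, hker⟩ := exists_presentation (IsLocalRing.maximalIdeal Am) hJ hfree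
  obtain ⟨n, hn⟩ := hnil
  obtain ⟨s, hsm, hs⟩ := exists_mul_mem_jacobson m
  have h0 : coordIdeal u = ⊥ := by
    have hi : ∀ i, Ideal.map (algebraMap Am (B i ⊗[A] Am)) (coordIdeal u) = ⊥ := by
      intro i
      have : Module.Flat (B i ⊗[A] Am) ((B i ⊗[A] Am) ⊗[Am] (Am ⊗[A] M)) := by
        have := hflat i
        let e1 := TensorProduct.AlgebraTensorModule.cancelBaseChange A Am (B i ⊗[A] Am)
          (B i ⊗[A] Am) M
        let e2 := TensorProduct.AlgebraTensorModule.cancelBaseChange A (B i) (B i ⊗[A] Am)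
          (B i ⊗[A] Am) M
        exact Module.Flat.of_linearEquiv (e1.trans e2.symm)
      exact map_eq_bot_of_flat u hu (B i ⊗[A] Am) (IsLocalRing.maximalIdeal Am) hJ hker
    rw [eq_bot_iff]
    intro r hr
    obtain ⟨⟨a, σ⟩, hrσ⟩ := IsLocalization.surj m.primeCompl r
    simp only at hrσ
    have hr' : algebraMap A Am a ∈ coordIdeal u := by
      rw [← hrσ]
      exact Ideal.mul_mem_right _ _ hr
    -- for each `i`, `s ^ n * a` dies in `B i`
    have hkill : ∀ i, algebraMap A (B i) (s ^ n * a) = 0 := by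
      intro i
      have h1 : algebraMap Am (B i ⊗[A] Am) (algebraMap A Am a) = 0 := by
        have := Ideal.mem_map_of_mem (algebraMap Am (B i ⊗[A] Am)) hr'
        rw [hi i] at this
        exact (Ideal.mem_bot).mp this
      rw [← IsScalarTower.algebraMap_apply A Am (B i ⊗[A] Am),
        IsScalarTower.algebraMap_apply A (B i) (B i ⊗[A] Am),
        IsLocalization.map_eq_zero_iff (Algebra.algebraMapSubmonoid (B i) m.primeCompl)] at h1
      obtain ⟨⟨_, s', hs', rfl⟩, h2⟩ := h1
      simp only at h2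
      obtain ⟨c, hc⟩ := Ideal.mem_span_singleton'.mp
        (pow_mem_span_of_not_mem m s hs n hn s' hs')
      rw [← hc, mul_assoc, map_mul, map_mul, h2, mul_zero]
    have h3 : s ^ n * a = 0 := hB _ hkill
    have h4 : algebraMap A Am a = 0 := by
      rw [IsLocalization.map_eq_zero_iff m.primeCompl]
      exact ⟨⟨s ^ n, m.primeCompl.pow_mem hsm n⟩, h3⟩
    rw [h4] at hrσ
    have hunit : IsUnit (algebraMap A Am σ) := IsLocalization.map_units Am σ
    exact (Ideal.mem_bot).mpr ((hunit.mul_left_eq_zero).mp hrσ)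
  have := free_of_map_eq_bot u hu Am (by rw [h0, Ideal.map_bot])
  exact Module.Free.of_equiv (TensorProduct.lid Am (Am ⊗[A] M))

end Loc

end Groth.Agent.Lib.Helper4.FlatSemilocal
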