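import Mathlib
import Groth.Agent.Lib.Helper4.LimTRegD
import Groth.Agent.Lib.Lead.LimPres
import Groth.Prelude.Def_FlatFun

/-!
# The flatness functor of a finitely presented module is limit preserving (S9013) (helper4) (helper4)
-/

set_option backward.isDefEq.respectTransparency.types false
set_option synthInstance.maxHeartbeats 400000
set_option autoImplicit false
set_option linter.unusedSectionVars false
set_option linter.style.haveILetI false
set_option linter.unusedSimpArgs false
universe u v w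
open CategoryTheory CategoryTheory.Limits AlgebraicGeometry TopologicalSpace Topology

namespace Groth.Agent.Lib.Helper4.LimPresFlat

open Groth.Agent.Lib.Helper4

variable {X S : Scheme.{u}} (f : X ⟶ S)

theorem XTmap_snd {T T' : Over S} (g : T' ⟶ T) :
    PicF.XTmap f g ≫ PicF.XTproj f T = PicF.XTproj f T' ≫ g.left := by
  simp only [PicF.XTmap, Limits.pullback.map, Limits.pullback.lift_snd]

theorem isPullback_XTmap {T T' : Over S} (g : T' ⟶ T) :
    IsPullback (PicF.XTmap f g) (PicF.XTproj f T') (PicF.XTproj f T) g.left := by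
  refine IsPullback.of_right ?_ (XTmap_snd f g) (IsPullback.of_hasPullback f T.hom)
  rw [FGA.XTmap_fst, Over.w g]
  exact IsPullback.of_hasPullback f T'.hom

/-- flatness of the pulled back module is stable under base change -/
theorem flat_stable (F : X.Modules) [F.IsQuasicoherent] {T T₀ : Over S} (g : T ⟶ T₀)
    (h : FlatMod.IsFlatOver (PicF.XTproj f T₀) (FGA.ET f F T₀)) :
    FlatMod.IsFlatOver (PicF.XTproj f T) (FGA.ET f F T) := fun z =>
  LimFlatE.flat_mono F (isPullback_XTmap f g) (Limits.pullback.fst f T₀.hom)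
    (Limits.pullback.fst f T.hom) (FGA.XTmap_fst f g) z (h _)


set_option maxHeartbeats 1600000 in
/-- flatness of the pulled back module over the vertex of a cofiltered limit of affine schemes
holds at a stage -/
theorem flat_limit [QuasiCompact f] [LocallyOfFinitePresentation f] (F : X.Modules)
    [F.IsQuasicoherent] (hF : CohB1.IsFP F)
    {I : Type u} [SmallCategory I] [IsCofiltered I] (D : I ⥤ Over S) (c : Cone D)
    (hc : IsLimit ((Over.forget S).mapCone c)) (hD : ∀ i, IsAffine (D.obj i).left)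
    (h : FlatMod.IsFlatOver (PicF.XTproj f c.pt) (FGA.ET f F c.pt)) :
    ∃ i, FlatMod.IsFlatOver (PicF.XTproj f (D.obj i)) (FGA.ET f F (D.obj i)) := by
  obtain ⟨i₀⟩ : Nonempty I := IsCofiltered.nonempty
  haveI : ∀ i, IsAffine (D.obj i).left := hD
  obtain ⟨a, hadef⟩ : ∃ a : ∀ k : Over i₀,
      (Over.forget i₀ ⋙ D ⋙ Over.forget S).obj k ⟶ (D.obj i₀).left,
      a = fun k : Over i₀ => (D.map k.hom).left := ⟨_, rfl⟩
  haveI haff : ∀ k : Over i₀, IsAffineHom (a k) := fun k => by
    rw [hadef]
    show IsAffineHom (D.map k.hom).left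
    infer_instance
  haveI hEaff : ∀ {i j : Over i₀} (φ : i ⟶ j),
      IsAffineHom ((Over.forget i₀ ⋙ D ⋙ Over.forget S).map φ) := fun φ => by
    show IsAffineHom (D.map φ.left).left
    infer_instance
  have hcE : IsLimit (((Over.forget S).mapCone c).whisker (Over.forget i₀)) :=
    (Functor.Initial.isLimitWhiskerEquiv (Over.forget i₀) _).symm hc
  haveI : F.IsQuasicoherent := inferInstance
  haveI hqc₀ : (FGA.ET f F (D.obj i₀)).IsQuasicoherent :=
    Groth.Agent.Lead.PB.isQuasicoherent_pullback _ F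
  have hfp₀ : CohB1.IsFP (FGA.ET f F (D.obj i₀)) := Groth.Agent.Lead.LimZ.isFP_pullback _ F hF
  haveI : CompactSpace ↥(PicF.XT f (D.obj i₀)) :=
    QuasiCompact.compactSpace_of_compactSpace (PicF.XTproj f (D.obj i₀))
  have H : ∀ x : ↥(PicF.XT f c.pt), FlatMod.IsFlatOverAt (PicF.XTproj f c.pt)
      ((Scheme.Modules.pullback (PicF.XTmap f (c.π.app i₀))).obj (FGA.ET f F (D.obj i₀))) x :=
    fun x => ChartSq1.isFlatOverAt_of_iso _
      ((Scheme.Modules.pullbackComp (PicF.XTmap f (c.π.app i₀)) _ ≪≫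
        Scheme.Modules.pullbackCongr (FGA.XTmap_fst f (c.π.app i₀))).app F).symm x (h x)
  obtain ⟨k₂, hk₂⟩ := LimTRegD.exists_stage_flat
    (Over.forget i₀ ⋙ D ⋙ Over.forget S) (((Over.forget S).mapCone c).whisker (Over.forget i₀))
    hcE a
    (fun {i j} φ => by
      rw [hadef]
      show (D.map φ.left).left ≫ (D.map j.hom).left = (D.map i.hom).left
      rw [← Over.comp_left, ← D.map_comp, Over.w])
    (c.π.app i₀).left
    (fun k => by
      rw [hadef]
      show (c.π.app k.left).left ≫ (D.map k.hom).left = (c.π.app i₀).left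
      rw [← Over.comp_left, c.w])
    (PicF.XTproj f (D.obj i₀)) (PicF.XTmap f (c.π.app i₀)) (PicF.XTproj f c.pt)
    (isPullback_XTmap f (c.π.app i₀)) (FGA.ET f F (D.obj i₀)) hfp₀ H
  refine ⟨k₂.left, fun z => ?_⟩
  have := hk₂ k₂ (𝟙 _) (PicF.XT f (D.obj k₂.left)) (PicF.XTmap f (D.map k₂.hom))
    (PicF.XTproj f (D.obj k₂.left))
    (by rw [hadef]; exact isPullback_XTmap f (D.map k₂.hom)) z
  exact ChartSq1.isFlatOverAt_of_iso _
    ((Scheme.Modules.pullbackComp (PicF.XTmap f (D.map k₂.hom)) _ ≪≫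
      Scheme.Modules.pullbackCongr (FGA.XTmap_fst f (D.map k₂.hom))).app F) z this

theorem S9013_main {X S : Scheme.{u}} (f : X ⟶ S) [QuasiCompact f] [LocallyOfFinitePresentation f]
    (F : X.Modules) [Coh.IsQCoh F] (hF : CohB1.IsFP F) :
    AlgSp.IsLimitPreserving
      (FlatFun.genPSp S (fun T => FlatMod.IsFlatOver (PicF.XTproj f T) (FGA.ET f F T))) := by
  haveI : F.IsQuasicoherent := ‹Coh.IsQCoh F›
  refine Groth.Agent.Lead.LimPres.isLimitPreserving_genPSp _ ?_ ?_
  · intro T T₀ g h
    exact flat_stable f F g h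
  · intro I _ _ D c hc hD _ h
    exact flat_limit f F hF D c hc hD h

end Groth.Agent.Lib.Helper4.LimPresFlat
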