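import Mathlib
import Groth.Agent.Lib.Helper5.Stalk.Faithful
import Groth.Agent.Lib.Lead.CritFib15
import Groth.Agent.Lib.Lead.FpqcSh
import Groth.Agent.Lib.Helper4.LimPresFlat

/-!
# fpqc descent of flatness of a module over the base; the flat functor is an fpqc sheaf (helper4)
-/

set_option backward.isDefEq.respectTransparency.types false
set_option synthInstance.maxHeartbeats 400000
set_option autoImplicit false
set_option linter.unusedSectionVars false
set_option linter.style.haveILetI false
set_option linter.unusedSimpArgs false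
universe u v w
open CategoryTheory CategoryTheory.Limits AlgebraicGeometry TopologicalSpace Topology TensorProduct

namespace Groth.Agent.Lib.Helper4.FpqcFlatA

section Alg

variable {A B B' : Type u} [CommRing A] [CommRing B] [CommRing B'] [Algebra A B] [Algebra B B']
  [Algebra A B'] [IsScalarTower A B B'] [Module.FaithfullyFlat B B']
  (M : Type u) [AddCommGroup M] [Module B M] [Module A M] [IsScalarTower A B M]

/-- flatness over `A` of a `B`-module descends along a faithfully flat extension `B → B'` -/
theorem flat_of_flat_tensor_faithfullyFlat (h : Module.Flat A (B' ⊗[B] M)) : Module.Flat A M := by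
  rw [Module.Flat.iff_lTensor_injective']
  intro J
  let g : M ⊗[A] J →ₗ[B] M ⊗[A] A := AlgebraTensorModule.lTensor B M J.subtype
  show Function.Injective g
  rw [← Module.FaithfullyFlat.lTensor_injective_iff_injective B B' g]
  have hflat : Function.Injective (J.subtype.lTensor (B' ⊗[B] M)) :=
    Module.Flat.lTensor_preserves_injective_linearMap _ J.subtype_injective
  let e₁ := AlgebraTensorModule.assoc A B B' B' M J
  let e₂ := AlgebraTensorModule.assoc A B B' B' M A
  have key : ∀ x, e₂ (J.subtype.lTensor (B' ⊗[B] M) x) = g.lTensor B' (e₁ x) := by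
    intro x
    induction x using TensorProduct.induction_on with
    | zero => simp
    | add x y hx hy => simp only [map_add, hx, hy]
    | tmul bm j =>
      induction bm using TensorProduct.induction_on with
      | zero => simp
      | add x y hx hy => simp only [TensorProduct.add_tmul, map_add, hx, hy]
      | tmul b m => rfl
  intro x y hxy
  apply e₁.symm.injective
  apply hflat
  apply e₂.injective
  rw [key, key, LinearEquiv.apply_symm_apply, LinearEquiv.apply_symm_apply, hxy]

end Alg

section Geom

open Groth.Agent.Lib.Helper5.StalkAdj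

set_option maxHeartbeats 1600000 in
/-- flatness over the base of a module descends along a flat morphism of the total space -/
theorem isFlatOverAt_of_pullback_flat {X' X S : Scheme.{u}} (g' : X' ⟶ X) [Flat g'] (f : X ⟶ S)
    (F : X.Modules) (x' : X')
    (h : FlatMod.IsFlatOverAt (g' ≫ f) ((Scheme.Modules.pullback g').obj F) x') :
    FlatMod.IsFlatOverAt f F (g' x') := by
  letI algAB : Algebra (S.presheaf.stalk (f (g' x'))) (X.presheaf.stalk (g' x')) :=
    (f.stalkMap (g' x')).hom.toAlgebra
  letI algBB' : Algebra (X.presheaf.stalk (g' x')) (X'.presheaf.stalk x') :=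
    (g'.stalkMap x').hom.toAlgebra
  letI algAB' : Algebra (S.presheaf.stalk (f (g' x'))) (X'.presheaf.stalk x') :=
    ((g' ≫ f).stalkMap x').hom.toAlgebra
  haveI t1 : IsScalarTower (S.presheaf.stalk (f (g' x'))) (X.presheaf.stalk (g' x'))
      (X'.presheaf.stalk x') := IsScalarTower.of_algebraMap_eq' (by
    show ((g' ≫ f).stalkMap x').hom = (g'.stalkMap x').hom.comp (f.stalkMap (g' x')).hom
    rw [Scheme.Hom.stalkMap_comp]
    rfl)
  haveI ff : Module.FaithfullyFlat (X.presheaf.stalk (g' x')) (X'.presheaf.stalk x') :=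
    faithfullyFlat_stalkMap g' x'
  letI mA : Module (S.presheaf.stalk (f (g' x'))) (F.presheaf.stalk (g' x')) :=
    FlatMod.moduleStalkOver f F (g' x')
  haveI t2 : IsScalarTower (S.presheaf.stalk (f (g' x'))) (X.presheaf.stalk (g' x'))
      (F.presheaf.stalk (g' x')) := IsScalarTower.of_algebraMap_smul fun r m => rfl
  letI mA' : Module (S.presheaf.stalk (f (g' x')))
      (((Scheme.Modules.pullback g').obj F).presheaf.stalk x') :=
    FlatMod.moduleStalkOver (g' ≫ f) ((Scheme.Modules.pullback g').obj F) x'
  haveI t3 : IsScalarTower (S.presheaf.stalk (f (g' x'))) (X'.presheaf.stalk x')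
      (((Scheme.Modules.pullback g').obj F).presheaf.stalk x') :=
    IsScalarTower.of_algebraMap_smul fun r m => rfl
  have hfl : Module.Flat (S.presheaf.stalk (f (g' x')))
      (((Scheme.Modules.pullback g').obj F).presheaf.stalk x') := h
  let e : (((Scheme.Modules.pullback g').obj F).presheaf.stalk x') ≃ₗ[X'.presheaf.stalk x']
      (X'.presheaf.stalk x') ⊗[X.presheaf.stalk (g' x')] (F.presheaf.stalk (g' x')) :=
    ((stalkPullbackIso g' x').app F).toLinearEquiv
  have h2 : Module.Flat (S.presheaf.stalk (f (g' x')))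
      ((X'.presheaf.stalk x') ⊗[X.presheaf.stalk (g' x')] (F.presheaf.stalk (g' x'))) :=
    Module.Flat.of_linearEquiv (e.restrictScalars (S.presheaf.stalk (f (g' x')))).symm
  exact flat_of_flat_tensor_faithfullyFlat (F.presheaf.stalk (g' x')) h2

end Geom

section Sheaf

open Groth.Agent.Lib.Helper4 Groth.Agent.Lib.Helper4.LimPresFlat Groth.Agent.Lead.FpqcSh

variable {X S : Scheme.{u}} (f : X ⟶ S)

theorem exists_preimage_XTmap {T' T : Over S} (g : T' ⟶ T) (y : ↥(PicF.XT f T)) (t' : T'.left)
    (h : (PicF.XTproj f T).base y = g.left.base t') :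
    ∃ y' : ↥(PicF.XT f T'), (PicF.XTmap f g).base y' = y := by
  obtain ⟨z, hz1, hz2⟩ := Scheme.Pullback.exists_preimage_pullback
    (f := PicF.XTproj f T) (g := g.left) y t' h
  refine ⟨(isPullback_XTmap f g).isoPullback.inv.base z, ?_⟩
  rw [← Scheme.Hom.comp_apply, IsPullback.isoPullback_inv_fst]
  exact hz1

theorem S9012_main (F : X.Modules) [Coh.IsQCoh F] :
    Presheaf.IsSheaf (QuotSh.J Scheme.fpqcPrecoverage S)
      (FlatFun.genPSp S (fun T => FlatMod.IsFlatOver (PicF.XTproj f T) (FGA.ET f F T))) := by
  haveI : F.IsQuasicoherent := ‹Coh.IsQCoh F›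
  refine isSheaf_genPSp _ _ ?_ ?_
  · intro T T₀ g h
    exact flat_stable f F g h
  · intro T R hR hall y
    obtain ⟨T', g, hg, hflat, t', ht'⟩ := exists_of_mem_fpqc R hR ((PicF.XTproj f T).base y)
    obtain ⟨y', hy'⟩ := exists_preimage_XTmap f g y t' ht'.symm
    have h1 : FlatMod.IsFlatOverAt (PicF.XTproj f T') (FGA.ET f F T') y' := hall g hg y'
    have h2 : FlatMod.IsFlatOverAt (PicF.XTproj f T')
        ((Scheme.Modules.pullback (PicF.XTmap f g)).obj (FGA.ET f F T)) y' :=
      ChartSq1.isFlatOverAt_of_iso _
        ((Scheme.Modules.pullbackComp (PicF.XTmap f g) _ ≪≫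
          Scheme.Modules.pullbackCongr (FGA.XTmap_fst f g)).app F).symm y' h1
    haveI : Flat g.left := hflat
    have h3 : FlatMod.IsFlatOverAt (PicF.XTproj f T' ≫ g.left)
        ((Scheme.Modules.pullback (PicF.XTmap f g)).obj (FGA.ET f F T)) y' :=
      Groth.Agent.Lead.CritFib.isFlatOverAt_comp (PicF.XTproj f T') g.left _ y'
        (Flat.stalkMap g.left _) h2
    rw [← XTmap_snd f g] at h3
    haveI : Flat (PicF.XTmap f g) :=
      MorphismProperty.of_isPullback (P := @Flat) (isPullback_XTmap f g).flip hflat
    have h4 := isFlatOverAt_of_pullback_flat (PicF.XTmap f g) (PicF.XTproj f T) (FGA.ET f F T) y' h3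
    rw [hy'] at h4
    exact h4

end Sheaf

end Groth.Agent.Lib.Helper4.FpqcFlatA
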