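import Mathlib

open CategoryTheory MonoidalCategory CartesianMonoidalCategory MonObj GrpObj

namespace Groth.Agent.Helper4.GBun

universe v u
variable {C : Type u} [Category.{v} C] [CartesianMonoidalCategory C]

/-- two endomorphisms of `X ⊗ G` (or maps out of it) agree iff they agree on the universal point -/
theorem hom_ext_pts {X G Y : C} (a b : X ⊗ G ⟶ Y)
    (h : lift (fst X G) (snd X G) ≫ a = lift (fst X G) (snd X G) ≫ b) : a = b := by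
  simpa using h

theorem lift_fst_snd' (X G : C) : lift (fst X G) (snd X G) = 𝟙 (X ⊗ G) := by
  simp

section
variable {G X : C} [GrpObj G]
  {Γ : Type*} [Group Γ] (ρ : Γ → (X ⟶ X)) (hρ₁ : ρ 1 = 𝟙 X)
  (hρ : ∀ σ τ : Γ, ρ (σ * τ) = ρ σ ≫ ρ τ)

include hρ₁ hρ in
theorem s14880 (φ : Γ → (X ⟶ G)) (hφ : ∀ σ τ : Γ, φ (σ * τ) = φ σ * (ρ σ ≫ φ τ))
    (lam : Γ → (X ⊗ G ⟶ X ⊗ G))
    (hlam : ∀ (σ : Γ) (T : C) (x : T ⟶ X) (g : T ⟶ G),
      lift x g ≫ lam σ = lift (x ≫ ρ σ) ((x ≫ φ σ)⁻¹ * g)) :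
    lam 1 = 𝟙 (X ⊗ G) ∧ (∀ σ τ : Γ, lam (σ * τ) = lam σ ≫ lam τ) ∧
      (∀ σ : Γ, lam σ ≫ fst X G = fst X G ≫ ρ σ) ∧
      ∀ (σ : Γ) (T : C) (x : T ⟶ X) (g h : T ⟶ G),
        lift x (g * h) ≫ lam σ ≫ snd X G = (lift x g ≫ lam σ ≫ snd X G) * h := by
  have hφ1 : φ 1 = 1 := by
    have := hφ 1 1
    rw [_root_.mul_one, hρ₁, Category.id_comp] at this
    exact (mul_eq_left.1 this.symm)
  refine ⟨?_, ?_, ?_, ?_⟩
  · apply hom_ext_pts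
    rw [hlam, hρ₁, hφ1, Category.comp_id, MonObj.comp_one, inv_one, _root_.one_mul, Category.comp_id]
  · intro σ τ
    apply hom_ext_pts
    rw [hlam, ← Category.assoc, hlam, hlam, hρ, hφ, MonObj.comp_mul, _root_.mul_inv_rev, _root_.mul_assoc,
      Category.assoc, Category.assoc]
  · intro σ
    apply hom_ext_pts
    rw [← Category.assoc, hlam, lift_fst, lift_fst_assoc]
  · intro σ T x g h
    rw [← Category.assoc, hlam, lift_snd, ← Category.assoc, hlam, lift_snd, _root_.mul_assoc]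

end

section
variable {G X : C} [GrpObj G]

theorem lift_one_eq {T : C} (x : T ⟶ X) : lift x (1 : T ⟶ G) = x ≫ lift (𝟙 X) (1 : X ⟶ G) := by
  rw [comp_lift, Category.comp_id, MonObj.comp_one]

theorem s14876 (Φ : X ⊗ G ⟶ X ⊗ G) (h₁ : Φ ≫ fst X G = fst X G)
    (h₂ : ∀ (T : C) (x : T ⟶ X) (g h : T ⟶ G),
      lift x (g * h) ≫ Φ ≫ snd X G = (lift x g ≫ Φ ≫ snd X G) * h) :
    ∃ φ : X ⟶ G, ∀ (T : C) (x : T ⟶ X) (g : T ⟶ G),
      lift x g ≫ Φ = lift x ((x ≫ φ) * g) := by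
  refine ⟨lift (𝟙 X) 1 ≫ Φ ≫ snd X G, fun T x g => ?_⟩
  apply CartesianMonoidalCategory.hom_ext
  · rw [Category.assoc, h₁, lift_fst, lift_fst]
  · rw [lift_snd, Category.assoc]
    conv_lhs => rw [← _root_.one_mul g]
    rw [h₂, lift_one_eq, Category.assoc]

variable {Γ : Type*} [Group Γ] (ρ : Γ → (X ⟶ X))

theorem s14881 (lam : Γ → (X ⊗ G ⟶ X ⊗ G))
    (hlam : ∀ σ τ : Γ, lam (σ * τ) = lam σ ≫ lam τ)
    (hfst : ∀ σ : Γ, lam σ ≫ fst X G = fst X G ≫ ρ σ)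
    (hG : ∀ (σ : Γ) (T : C) (x : T ⟶ X) (g h : T ⟶ G),
      lift x (g * h) ≫ lam σ ≫ snd X G = (lift x g ≫ lam σ ≫ snd X G) * h) :
    ∃! φ : Γ → (X ⟶ G), (∀ σ τ : Γ, φ (σ * τ) = φ σ * (ρ σ ≫ φ τ)) ∧
      ∀ (σ : Γ) (T : C) (x : T ⟶ X) (g : T ⟶ G),
        lift x g ≫ lam σ = lift (x ≫ ρ σ) ((x ≫ φ σ)⁻¹ * g) := by
  obtain ⟨φ₀, hφ₀⟩ : ∃ φ₀ : Γ → (X ⟶ G), ∀ σ, φ₀ σ = (lift (𝟙 X) 1 ≫ lam σ ≫ snd X G)⁻¹ :=
    ⟨_, fun _ => rfl⟩
  have formula : ∀ (σ : Γ) (T : C) (x : T ⟶ X) (g : T ⟶ G),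
      lift x g ≫ lam σ = lift (x ≫ ρ σ) ((x ≫ φ₀ σ)⁻¹ * g) := by
    intro σ T x g
    apply CartesianMonoidalCategory.hom_ext
    · rw [Category.assoc, hfst, lift_fst, lift_fst_assoc]
    · rw [lift_snd, Category.assoc]
      conv_lhs => rw [← _root_.one_mul g]
      rw [hG, lift_one_eq, Category.assoc, hφ₀, GrpObj.comp_inv, _root_.inv_inv]
  refine ⟨φ₀, ⟨?_, formula⟩, ?_⟩
  · intro σ τ
    have h1 := formula (σ * τ) X (𝟙 X) 1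
    rw [hlam, ← Category.assoc, formula σ X (𝟙 X) 1, formula τ] at h1
    have h2 := congrArg (fun t => t ≫ snd X G) h1
    simp only [lift_snd, Category.id_comp, _root_.mul_one] at h2
    -- h2 : (ρσ ≫ φτ)⁻¹ * (φσ)⁻¹ = (φ(στ))⁻¹
    have h3 := congrArg (fun t => t⁻¹) h2
    simp only [_root_.mul_inv_rev, _root_.inv_inv] at h3
    exact h3.symm
  · rintro φ' ⟨-, hφ'⟩
    funext σ
    have h1 := hφ' σ X (𝟙 X) 1
    have h2 := congrArg (fun t => t ≫ snd X G) h1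
    simp only [lift_snd, Category.id_comp, _root_.mul_one, Category.assoc] at h2
    rw [hφ₀, h2, _root_.inv_inv]

theorem s14882 (φ φ' : Γ → (X ⟶ G))
    (lam lam' : Γ → (X ⊗ G ⟶ X ⊗ G))
    (hlam : ∀ (σ : Γ) (T : C) (x : T ⟶ X) (g : T ⟶ G),
      lift x g ≫ lam σ = lift (x ≫ ρ σ) ((x ≫ φ σ)⁻¹ * g))
    (hlam' : ∀ (σ : Γ) (T : C) (x : T ⟶ X) (g : T ⟶ G),
      lift x g ≫ lam' σ = lift (x ≫ ρ σ) ((x ≫ φ' σ)⁻¹ * g)) :
    (∃ Φ : X ⊗ G ⟶ X ⊗ G, IsIso Φ ∧ Φ ≫ fst X G = fst X G ∧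
      (∀ (T : C) (x : T ⟶ X) (g h : T ⟶ G),
        lift x (g * h) ≫ Φ ≫ snd X G = (lift x g ≫ Φ ≫ snd X G) * h) ∧
      ∀ σ : Γ, lam σ ≫ Φ = Φ ≫ lam' σ) ↔
    ∃ ψ : X ⟶ G, ∀ σ : Γ, φ σ = ψ⁻¹ * φ' σ * (ρ σ ≫ ψ) := by
  constructor
  · rintro ⟨Φ, -, h₁, h₂, hcomm⟩
    obtain ⟨ψ, hψ⟩ := s14876 Φ h₁ h₂
    refine ⟨ψ, fun σ => ?_⟩
    have h1 : lift (𝟙 X) (1 : X ⟶ G) ≫ lam σ ≫ Φ = lift (𝟙 X) (1 : X ⟶ G) ≫ Φ ≫ lam' σ := by
      rw [hcomm]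
    rw [← Category.assoc, hlam, hψ, ← Category.assoc, hψ, hlam'] at h1
    have h2 := congrArg (fun t => t ≫ snd X G) h1
    simp only [lift_snd, Category.id_comp, _root_.mul_one] at h2
    -- h2 : (ρσ ≫ ψ) * (φσ)⁻¹ = (φ'σ)⁻¹ * ψ
    have h3 : (φ σ)⁻¹ = (ρ σ ≫ ψ)⁻¹ * ((φ' σ)⁻¹ * ψ) := by
      rw [← h2]; group
    have h4 := congrArg (fun t => t⁻¹) h3
    simp only [_root_.inv_inv] at h4
    rw [h4]; group
  · rintro ⟨ψ, hψ⟩
    have formula : ∀ (T : C) (x : T ⟶ X) (g : T ⟶ G),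
        lift x g ≫ lift (fst X G) ((fst X G ≫ ψ) * snd X G) = lift x ((x ≫ ψ) * g) := by
      intro T x g
      rw [comp_lift, MonObj.comp_mul, lift_fst, lift_snd, lift_fst_assoc]
    have formula' : ∀ (T : C) (x : T ⟶ X) (g : T ⟶ G),
        lift x g ≫ lift (fst X G) ((fst X G ≫ ψ)⁻¹ * snd X G) = lift x ((x ≫ ψ)⁻¹ * g) := by
      intro T x g
      rw [comp_lift, MonObj.comp_mul, lift_fst, lift_snd, GrpObj.comp_inv, lift_fst_assoc]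
    refine ⟨lift (fst X G) ((fst X G ≫ ψ) * snd X G), ?_, lift_fst _ _, ?_, ?_⟩
    · refine ⟨lift (fst X G) ((fst X G ≫ ψ)⁻¹ * snd X G), ?_, ?_⟩
      · apply hom_ext_pts
        rw [← Category.assoc, formula, formula', Category.comp_id, inv_mul_cancel_left]
      · apply hom_ext_pts
        rw [← Category.assoc, formula', formula, Category.comp_id, mul_inv_cancel_left]
    · intro T x g h
      rw [← Category.assoc, formula, lift_snd, ← Category.assoc, formula, lift_snd,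
        _root_.mul_assoc]
    · intro σ
      apply hom_ext_pts
      rw [← Category.assoc, hlam, formula, ← Category.assoc, formula, hlam', hψ]
      congr 1
      simp only [MonObj.comp_mul, GrpObj.comp_inv, Category.assoc]
      group

end

end Groth.Agent.Helper4.GBun
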