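import Mathlib
import Groth.Agent.Lib.Helper4.GCCount2
import Groth.Agent.Lib.Helper7.FibTop.Main

/-!
# EGA IV 9.7.9: level sets of the numbers of geometric irreducible/connected components of fibres are locally constructible (helper4)
-/

set_option backward.isDefEq.respectTransparency.types false
set_option synthInstance.maxHeartbeats 400000
set_option autoImplicit false
set_option linter.unusedSectionVars false
set_option linter.style.haveILetI false
set_option linter.unusedSimpArgs false
universe u v w
open CategoryTheory CategoryTheory.Limits AlgebraicGeometry TopologicalSpace Topology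
open scoped TensorProduct
open Groth.Agent.Lib.Helper4.GCCount2
open Groth.Agent.Helper7.ProConsLib Groth.Agent.Helper7.ConsPair Groth.Agent.Helper7.FibTop

namespace Groth.Agent.Lib.Helper4.GCLocCons1

/-- The level sets of a base-change invariant numerical invariant of the fibres which is constant
near generic points are locally constructible, for morphisms of finite presentation. -/
theorem isLocallyConstructible_levelSet
    (N : ∀ {X S : Scheme.{u}} (_ : X ⟶ S), S → ℕ∞)
    (hbc : ∀ {X S X' S' : Scheme.{u}} (f : X ⟶ S) (f' : X' ⟶ S') (pX : X' ⟶ X) (g : S' ⟶ S),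
      IsPullback pX f' f g → ∀ y', N f' y' = N f (g y'))
    (hgen : ∀ {X S : Scheme.{u}} (f : X ⟶ S) [IrreducibleSpace S] [LocallyOfFiniteType f]
      [QuasiCompact f], ∃ V : S.Opens, genericPoint S ∈ V ∧
        ∀ y ∈ V, N f y = N f (genericPoint S))
    {X S : Scheme.{u}} (f : X ⟶ S) [LocallyOfFinitePresentation f] [QuasiCompact f]
    [QuasiSeparated f] (n : ℕ∞) : IsLocallyConstructible {y : S | N f y = n} := by
  apply isLocallyConstructible_of_forall_affineOpen
  intro V hV
  have e : hV.fromSpec ⁻¹' {y | N f y = n} = {y | N (pullback.snd f hV.fromSpec) y = n} := by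
    ext y
    simp only [Set.mem_preimage, Set.mem_ofPred_eq]
    rw [hbc f _ _ _ (IsPullback.of_hasPullback f hV.fromSpec) y]
  rw [e]
  obtain ⟨A₀, _, _, π, X₀, f₀, q, Z₀, Z₀', hlfp, hqc, hpb, -⟩ :=
    exists_noetherian_model_sets ↑Γ(S, V) (pullback.snd f hV.fromSpec) ∅ ∅
      IsConstructible.empty IsConstructible.empty
  have e2 : {y | N (pullback.snd f hV.fromSpec) y = n} = π ⁻¹' {y | N f₀ y = n} := by
    ext y
    simp only [Set.mem_preimage, Set.mem_ofPred_eq]
    rw [hbc f₀ _ _ _ hpb y]
  rw [e2]
  apply isLocallyConstructible_preimage π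
  apply IsConstructible.isLocallyConstructible
  apply isConstructible_of_forall_prime
  intro x
  have e3 : (primeIncl A₀ x) ⁻¹' {y | N f₀ y = n} =
      {y | N (pullback.snd f₀ (primeIncl A₀ x)) y = n} := by
    ext y
    simp only [Set.mem_preimage, Set.mem_ofPred_eq]
    rw [hbc f₀ _ _ _ (IsPullback.of_hasPullback f₀ (primeIncl A₀ x)) y]
  rw [e3]
  haveI : IsDomain (A₀ ⧸ x.asIdeal) := Ideal.Quotient.isDomain x.asIdeal
  haveI : IrreducibleSpace ↥(Spec (CommRingCat.of (A₀ ⧸ x.asIdeal))) :=
    inferInstanceAs (IrreducibleSpace (PrimeSpectrum (A₀ ⧸ x.asIdeal)))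
  obtain ⟨U, hηU, hU⟩ := hgen (pullback.snd f₀ (primeIncl A₀ x))
  by_cases hn : N (pullback.snd f₀ (primeIncl A₀ x)) (genericPoint _) = n
  · left
    exact ⟨genericPoint _, mem_interior.mpr ⟨U, fun y hy => (hU y hy).trans hn, U.isOpen, hηU⟩⟩
  · right
    exact ⟨genericPoint _, mem_interior.mpr
      ⟨U, fun y hy h => hn ((hU y hy).symm.trans h), U.isOpen, hηU⟩⟩

theorem isLocallyConstructible_nGeomIrredComp_eq {X Y : Scheme.{u}} (f : X ⟶ Y)
    [LocallyOfFinitePresentation f] [QuasiCompact f] [QuasiSeparated f] (n : ℕ∞) :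
    IsLocallyConstructible {y : ↑Y | MoreMor.nGeomIrredComp f y = n} :=
  isLocallyConstructible_levelSet (fun f y => MoreMor.nGeomIrredComp f y)
    (fun f f' pX g h y' => Groth.Agent.Helper7.GeomConn.nGeomIrredComp_baseChange f f' pX g h y')
    (fun f _ _ _ => by
      obtain ⟨V, h1, h2⟩ := count_near_generic f
      exact ⟨V, h1, fun y hy => (h2 y hy).1⟩) f n

theorem isLocallyConstructible_nGeomConnComp_eq {X Y : Scheme.{u}} (f : X ⟶ Y)
    [LocallyOfFinitePresentation f] [QuasiCompact f] [QuasiSeparated f] (n : ℕ∞) :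
    IsLocallyConstructible {y : ↑Y | MoreMor.nGeomConnComp f y = n} :=
  isLocallyConstructible_levelSet (fun f y => MoreMor.nGeomConnComp f y)
    (fun f f' pX g h y' => Groth.Agent.Helper7.GeomConn.nGeomConnComp_baseChange f f' pX g h y')
    (fun f _ _ _ => by
      obtain ⟨V, h1, h2⟩ := count_near_generic f
      exact ⟨V, h1, fun y hy => (h2 y hy).2⟩) f n

end Groth.Agent.Lib.Helper4.GCLocCons1
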