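import Mathlib
import Groth.Prelude.Def_AlgGrp
import Groth.Prelude.Def_Red2
import Groth.Agent.Lib.Helper4.QuotExt1
import Groth.Agent.Lib.Helper2.GaGmQuot.Inst
import Groth.Agent.Lib.Helper2.Sch.GrpHomDominant

/-!
# isogenies from the additive group over a field: the target is the additive group; descent of homomorphisms along faithfully flat quasi-compact homomorphisms with the same kernel (helper4)
-/

set_option backward.isDefEq.respectTransparency.types false
set_option synthInstance.maxHeartbeats 400000
set_option autoImplicit false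
set_option linter.unusedSectionVars false
set_option linter.style.haveILetI false
set_option linter.unusedSimpArgs false
universe u v w
open CategoryTheory
open CategoryTheory.Limits
open MonoidalCategory
open CartesianMonoidalCategory
open MonObj
open AlgebraicGeometry
open Groth.Agent.Lib.Helper4.NormQuotSch1
open Groth.Agent.Lib.Helper4.QuotExt1

namespace Groth.Agent.Lib.Helper4.GaIsog1

noncomputable section

section desc

variable (k : Type u) [Field k]
variable (G Q Q' : Over (Spec (CommRingCat.of k))) [GrpObj G] [GrpObj Q] [GrpObj Q']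
  (q : G ⟶ Q) [IsMonHom q] [Flat q.left] [Surjective q.left] [QuasiCompact q.left]
  (q' : G ⟶ Q') [IsMonHom q']
  {N : Over (Spec (CommRingCat.of k))} [GrpObj N] (i : N ⟶ G) [IsMonHom i]

theorem epi_tensor : Epi (q ⊗ₘ q) := by
  have h1 : Flat (q ⊗ₘ q).left :=
    MorphismProperty.pullbackMap (P := @Flat) (inferInstance : Flat q.left)
      (inferInstance : Flat q.left) (Over.w q).symm (Over.w q).symm
  have h2 : Surjective (q ⊗ₘ q).left :=
    MorphismProperty.pullbackMap (P := @Surjective) (inferInstance : Surjective q.left)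
      (inferInstance : Surjective q.left) (Over.w q).symm (Over.w q).symm
  have h3 : QuasiCompact (q ⊗ₘ q).left :=
    MorphismProperty.pullbackMap (P := @QuasiCompact) (inferInstance : QuasiCompact q.left)
      (inferInstance : QuasiCompact q.left) (Over.w q).symm (Over.w q).symm
  haveI : EffectiveEpi (q ⊗ₘ q).left := inferInstance
  haveI : Epi (q ⊗ₘ q).left := inferInstance
  exact Over.epi_of_epi_left _

/-- a homomorphism with the same kernel as a faithfully flat quasi-compact homomorphism factors
through it, by a homomorphism -/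
theorem exists_desc (hK : AlgGrp.IsKernel i q) (hK' : AlgGrp.IsKernel i q') :
    ∃ ρ : Q ⟶ Q', IsMonHom ρ ∧ q ≫ ρ = q' := by
  haveI : EffectiveEpi q.left := inferInstance
  haveI : Epi q.left := inferInstance
  haveI : Epi q := Over.epi_of_epi_left _
  let ρ₀ : Q.left ⟶ Q'.left := EffectiveEpi.desc q.left q'.left
    (fun g₁ g₂ hg => desc_aux k G Q q q' i hK hK' g₁ g₂ hg)
  have hρ₀ : q.left ≫ ρ₀ = q'.left := EffectiveEpi.fac _ _ _
  let ρ : Q ⟶ Q' := Over.homMk ρ₀ (by
    rw [← cancel_epi q.left, ← Category.assoc, hρ₀, Over.w q', Over.w q])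
  have hρ : q ≫ ρ = q' := by
    ext1
    exact hρ₀
  have hmon : IsMonHom ρ := by
    refine ⟨?_, ?_⟩
    · rw [← IsMonHom.one_hom q, Category.assoc, hρ, IsMonHom.one_hom]
    · haveI := epi_tensor k G Q q
      rw [← cancel_epi (q ⊗ₘ q), ← Category.assoc, ← IsMonHom.mul_hom q, Category.assoc, hρ,
        IsMonHom.mul_hom q', ← Category.assoc, tensorHom_comp_tensorHom, hρ]
  exact ⟨ρ, hmon, hρ⟩

end desc

theorem main (k : Type u) [Field k]
    (H : Over (Spec (CommRingCat.of k))) [GrpObj H] [IsAffine H.left] [Smooth H.hom]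
    [ConnectedSpace ↥H.left]
    (f : Red.Ga (Spec (CommRingCat.of k)) ⟶ H) [IsMonHom f] [IsFinite f.left]
    [Surjective f.left] :
    Nonempty (Grp.mk H ≅ Grp.mk (Red.Ga (Spec (CommRingCat.of k)))) := by
  haveI : IsReduced H.left :=
    Groth.Agent.Helper7.SmoothBC.isReduced_of_smooth_over_field k H.hom
  have hfl : Flat f.left :=
    (Groth.Agent.Helper2.GrpHom.S5355_main f (f.left.surjective.denseRange)).2 inferInstance
  haveI := hfl
  haveI : IsAffine (Red.Ga (Spec (CommRingCat.of k))).left := isAffine_of_isAffineHom f.left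
  obtain ⟨N, instN, i, hi, hK⟩ := exists_kernel f
  haveI := hi
  haveI : Mono i := ⟨fun a b hab => hK.hom_ext hab (toUnit_unique _ _)⟩
  haveI : IsFinite N.hom := by
    have hpbL := hK.map (Over.forget _)
    have h1 : IsFinite ((Over.forget _).map (toUnit N)) :=
      MorphismProperty.of_isPullback (P := @IsFinite) hpbL (inferInstance : IsFinite f.left)
    have h2 : (toUnit N).left = N.hom := by
      have := Over.w (toUnit N)
      simpa using this
    rw [← h2]
    exact h1
  obtain ⟨φ, hφm, hKφ, hφfl, hφs⟩ :=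
    Groth.Agent.Helper2.GaGmQuot.main15180 (Red.Ga (Spec (CommRingCat.of k))) N
      (Or.inl ⟨Iso.refl _⟩) i
  haveI := hφm
  haveI := hφfl
  haveI := hφs
  haveI : QuasiCompact φ.left := inferInstance
  obtain ⟨ρ, hρm, hρ⟩ := exists_desc k _ H _ f φ i hK hKφ
  obtain ⟨ρ', hρ'm, hρ'⟩ := exists_desc k _ _ H φ f i hKφ hK
  haveI : Epi f.left := inferInstance
  haveI : Epi f := Over.epi_of_epi_left _
  haveI : Epi φ.left := inferInstance
  haveI : Epi φ := Over.epi_of_epi_left _
  have h1 : ρ ≫ ρ' = 𝟙 _ := by
    rw [← cancel_epi f, ← Category.assoc, hρ, hρ', Category.comp_id]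
  have h2 : ρ' ≫ ρ = 𝟙 _ := by
    rw [← cancel_epi φ, ← Category.assoc, hρ', hρ, Category.comp_id]
  let e : H ≅ Red.Ga (Spec (CommRingCat.of k)) := ⟨ρ, ρ', h1, h2⟩
  haveI : IsMonHom e.hom := hρm
  exact ⟨Grp.mkIso' e⟩

end

end Groth.Agent.Lib.Helper4.GaIsog1
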