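import Mathlib
import Groth.Prelude.Def_Red
import Groth.Prelude.Def_Red2
import Groth.Prelude.Def_AlgGrp
import Groth.Agent.Lib.Helper4.NormRadQuot1
import Groth.Agent.Lib.Helper6.DS.Maps
import Groth.Agent.S13371

/-!
# Transitivity of base change as isomorphisms of group schemes; homomorphisms from the additive group, and from groups with a composition series with additive quotients, to a torus over a field are trivial (helper4)
-/

set_option backward.isDefEq.respectTransparency.types false
set_option synthInstance.maxHeartbeats 400000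
set_option autoImplicit false
set_option linter.unusedSectionVars false
set_option linter.style.haveILetI false
set_option linter.unusedSimpArgs false
universe u v w
open CategoryTheory CategoryTheory.Limits AlgebraicGeometry TopologicalSpace Opposite
open MonoidalCategory CartesianMonoidalCategory MonObj GrpObj
open Groth.Agent.Lib.Helper6.FlatQ
open Groth.Agent.Lib.Helper4.NormRadQuot1
open Groth.Agent.Lib.Helper6.DS

namespace Groth.Agent.Lib.Helper4.GaTorusHom1

section bc

variable {S S' S'' : Scheme.{u}}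

/-- transitivity of base change, as an isomorphism of group schemes -/
noncomputable def bcComp (g : S'' ⟶ S') (f : S' ⟶ S) (G : Over S) [GrpObj G] :
    Grp.mk (Red.bc (g ≫ f) G) ≅ Grp.mk (Red.bc g (Red.bc f G)) :=
  (Functor.mapGrpNatIso (Over.pullbackComp g f)).app (Grp.mk G) ≪≫
    (Functor.mapGrpCompIso (F := Over.pullback f) (G := Over.pullback g)).app (Grp.mk G)

/-- base change along equal morphisms -/
noncomputable def bcCongr {f f' : S' ⟶ S} (h : f = f') (G : Over S) [GrpObj G] :
    Grp.mk (Red.bc f G) ≅ Grp.mk (Red.bc f' G) := by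
  subst h
  exact Iso.refl _

/-- base change of an isomorphism of group schemes -/
noncomputable def bcMapIso (f : S' ⟶ S) {G G' : Over S} [GrpObj G] [GrpObj G']
    (e : Grp.mk G ≅ Grp.mk G') : Grp.mk (Red.bc f G) ≅ Grp.mk (Red.bc f G') :=
  (Over.pullback f).mapGrp.mapIso e

end bc

section desc

variable {S : Scheme.{u}}

/-- a homomorphism killing the kernel of a faithfully flat quasi-compact homomorphism factors
through it, by a homomorphism -/
theorem exists_desc_of_kills {H Q N W : Over S} [GrpObj H] [GrpObj Q] [GrpObj W]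
    (i : N ⟶ H) (q : H ⟶ Q) [IsMonHom q] [Flat q.left] [Surjective q.left] [QuasiCompact q.left]
    (hK : AlgGrp.IsKernel i q) (φ : H ⟶ W) [IsMonHom φ] (hφ : i ≫ φ = 1) :
    ∃ g : Q ⟶ W, IsMonHom g ∧ q ≫ g = φ := by
  have hconst : ∀ {T : Over S} (a b : T ⟶ H), a ≫ q = b ≫ q → a ≫ φ = b ≫ φ := by
    intro T a b hab
    have h1 : (a * b⁻¹) ≫ q = 1 := by
      rw [MonObj.mul_comp, GrpObj.inv_comp, hab, _root_.mul_inv_cancel]
    obtain ⟨n, hn⟩ : ∃ n : T ⟶ N, n ≫ i = a * b⁻¹ :=
      ⟨hK.lift _ (toUnit T) (by rw [h1, Hom.one_def]), hK.lift_fst _ _ _⟩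
    have h2 : (a * b⁻¹) ≫ φ = 1 := by rw [← hn, Category.assoc, hφ, MonObj.comp_one]
    rw [MonObj.mul_comp, GrpObj.inv_comp] at h2
    exact _root_.mul_inv_eq_one.mp h2
  obtain ⟨g, hg⟩ := (isDesc_of_fpqc q).desc φ hconst
  have hflat : Flat q.left := inferInstance
  have hsurj : Surjective q.left := inferInstance
  have hqc : QuasiCompact q.left := inferInstance
  haveI : Flat (q ⊗ₘ q).left := prop_tensorHom' @Flat q q hflat hflat
  haveI : Surjective (q ⊗ₘ q).left := prop_tensorHom' @Surjective q q hsurj hsurj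
  haveI : QuasiCompact (q ⊗ₘ q).left := prop_tensorHom' @QuasiCompact q q hqc hqc
  haveI : Epi (q ⊗ₘ q) := (isDesc_of_fpqc (q ⊗ₘ q)).epi
  refine ⟨g, ⟨?_, ?_⟩, hg⟩
  · rw [← IsMonHom.one_hom q, Category.assoc, hg, IsMonHom.one_hom]
  · rw [← cancel_epi (q ⊗ₘ q), ← Category.assoc, ← IsMonHom.mul_hom q, Category.assoc, hg,
      IsMonHom.mul_hom φ, ← Category.assoc, tensorHom_comp_tensorHom, hg]

end desc

section ds

variable {S : Scheme.{u}}

/-- a point of a split torus is trivial as soon as its coordinates are -/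
theorem eq_one_of_DSmap {r : ℕ} {A : Over S} (x : A ⟶ Red.DS S (Fin r → ℤ))
    (h : ∀ j : Fin r, x ≫ Red.DSmap S (AddMonoidHom.single (fun _ : Fin r => ℤ) j) = 1) :
    x = 1 := by
  apply chr_injective
  rw [chr_one]
  have h1 : ∀ j : Fin r, chr x (Multiplicative.ofAdd (Pi.single j (1 : ℤ))) = 1 := by
    intro j
    have h2 := chr_DSmap (AddMonoidHom.single (fun _ : Fin r => ℤ) j) x (Multiplicative.ofAdd 1)
    rw [h j, chr_one] at h2
    simpa using h2.symm
  apply Multiplicative.monoidHom_ext
  apply AddMonoidHom.functions_ext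
  intro j z
  have h3 : ((chr x).toAdditiveRight).comp (AddMonoidHom.single (fun _ : Fin r => ℤ) j) =
      ((1 : Multiplicative (Fin r → ℤ) →* Γ(A.left, ⊤)).toAdditiveRight).comp
        (AddMonoidHom.single (fun _ : Fin r => ℤ) j) := by
    apply AddMonoidHom.ext_int
    have := h1 j
    simp only [AddMonoidHom.comp_apply, AddMonoidHom.single_apply,
      MonoidHom.toAdditiveRight_apply_apply, MonoidHom.one_apply]
    rw [this]
  exact DFunLike.congr_fun h3 z

end ds

section torus

/-- every homomorphism from the additive group to a torus over a field is trivial -/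
theorem hom_Ga_torus_eq_one (k : Type u) [Field k] (T : Over (Spec (CommRingCat.of k))) [GrpObj T]
    (hT : Red.IsTorus T) (g : Red.Ga (Spec (CommRingCat.of k)) ⟶ T) [IsMonHom g] : g = 1 := by
  obtain ⟨S', f₀, hfl, hsurj, -, hloc⟩ := hT
  haveI := hsurj
  obtain ⟨s', -⟩ := f₀.surjective (Classical.arbitrary (Spec (CommRingCat.of k)))
  obtain ⟨U, hs'U, r, ⟨θ⟩⟩ := hloc s'
  let s'' : U.toScheme := ⟨s', hs'U⟩
  let S'' : Scheme.{u} := Spec (U.toScheme.residueField s'')
  let x : S'' ⟶ U.toScheme := U.toScheme.fromSpecResidueField s''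
  let ψ : S'' ⟶ Spec (CommRingCat.of k) := x ≫ U.ι ≫ f₀
  let tS := Limits.IsTerminal.from specULiftZIsTerminal (Spec (CommRingCat.of k))
  let tS'' := Limits.IsTerminal.from specULiftZIsTerminal S''
  let tU := Limits.IsTerminal.from specULiftZIsTerminal U.toScheme
  have e1 : ψ ≫ tS = tS'' := specULiftZIsTerminal.hom_ext _ _
  have e2 : x ≫ tU = tS'' := specULiftZIsTerminal.hom_ext _ _
  let D := Red.diag (ULift.{u} ℤ) (Fin r → ℤ)
  let eGa : Grp.mk (Red.Ga S'') ≅ Grp.mk (Red.bc ψ (Red.Ga (Spec (CommRingCat.of k)))) :=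
    (bcCongr e1 Red.GaZ).symm ≪≫ bcComp ψ tS Red.GaZ
  let θK : Grp.mk (Red.bc ψ T) ≅ Grp.mk (Red.DS S'' (Fin r → ℤ)) :=
    bcComp x (U.ι ≫ f₀) T ≪≫ bcMapIso x θ ≪≫ (bcComp x tU D).symm ≪≫ bcCongr e2 D
  let gK : Grp.mk (Red.bc ψ (Red.Ga (Spec (CommRingCat.of k)))) ⟶ Grp.mk (Red.bc ψ T) :=
    (Over.pullback ψ).mapGrp.map
      (Grp.homMk g : Grp.mk (Red.Ga (Spec (CommRingCat.of k))) ⟶ Grp.mk T)
  let Φ : Grp.mk (Red.Ga S'') ⟶ Grp.mk (Red.DS S'' (Fin r → ℤ)) := eGa.hom ≫ gK ≫ θK.hom
  have hΦ : Φ.hom.hom = 1 := by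
    apply eq_one_of_DSmap
    intro j
    exact Groth.Agent.S13371.result S'' (Φ.hom.hom ≫ Red.DSmap S'' _)
  have hgK : (Over.pullback ψ).map g = 1 := by
    have h1 : eGa.inv ≫ Φ ≫ θK.inv = gK := by
      simp only [Φ, Category.assoc, Iso.hom_inv_id, Category.comp_id, Iso.inv_hom_id_assoc]
    have h2 := congrArg (fun f => f.hom.hom) h1
    simp only [Grp.comp_hom_hom] at h2
    have h3 : gK.hom.hom = (Over.pullback ψ).map g := rfl
    rw [← h3, ← h2, hΦ, MonObj.one_comp, MonObj.comp_one]
  -- faithfulness of base change along a field extension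
  haveI : Flat ψ := inferInstance
  haveI : Surjective ψ := ⟨fun y => ⟨Classical.arbitrary S'', Subsingleton.elim _ _⟩⟩
  haveI : QuasiCompact ψ := inferInstance
  haveI : ∀ (Z : Scheme.{u}) (g' : Z ⟶ Spec (CommRingCat.of k)), Epi (pullback.fst g' ψ) := by
    intro Z g'
    haveI : EffectiveEpi (pullback.fst g' ψ) := inferInstance
    infer_instance
  have h4 : (Over.pullback ψ).map g = (Over.pullback ψ).map 1 := by
    rw [hgK, Functor.map_one]
  exact (Over.pullback ψ).map_injective h4

end torus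

section main

theorem isAffine_Ga (S : Scheme.{u}) [IsAffine S] : IsAffine (Red.Ga S).left := by
  have h : IsAffine (pullback
      ((Spec (CommRingCat.of (SymmetricAlgebra (ULift.{u} ℤ) (ULift.{u} ℤ)))) ↘
        Spec (CommRingCat.of (ULift.{u} ℤ)))
      (Limits.IsTerminal.from specULiftZIsTerminal S)) := inferInstance
  exact h

theorem main (k : Type u) [Field k]
    (T U : Over (Spec (CommRingCat.of k))) [GrpObj T] [GrpObj U] (hT : Red.IsTorus T)
    [IsAffine U.left]
    (n : ℕ) (Us : Fin (n + 1) → Over (Spec (CommRingCat.of k))) [∀ i, GrpObj (Us i)]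
    (h0 : Red.IsTrivialGrp (Us 0))
    (e : Us (Fin.last n) ≅ U) [IsMonHom e.hom]
    (incl : ∀ i : Fin n, Us i.castSucc ⟶ Us i.succ) [∀ i, IsMonHom (incl i)]
    [∀ i, IsClosedImmersion (incl i).left]
    (quot : ∀ i : Fin n, Us i.succ ⟶ Red.Ga (Spec (CommRingCat.of k))) [∀ i, IsMonHom (quot i)]
    [∀ i, Surjective (quot i).left] [∀ i, Flat (quot i).left]
    (hker : ∀ i : Fin n, AlgGrp.IsKernel (incl i) (quot i))
    (f : U ⟶ T) [IsMonHom f] :
    f = 1 := by
  -- all the steps of the series are affine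
  have haff : ∀ j : Fin (n + 1), IsAffine (Us j).left := by
    intro j
    induction j using Fin.reverseInduction with
    | last =>
      haveI : IsIso e.hom.left := inferInstance
      exact isAffine_of_isAffineHom e.hom.left
    | cast j ih =>
      haveI := ih
      exact isAffine_of_isAffineHom (incl j).left
  haveI hGa : IsAffine (Red.Ga (Spec (CommRingCat.of k))).left :=
    isAffine_Ga (Spec (CommRingCat.of k))
  have key : ∀ j : Fin (n + 1), ∀ φ : Us j ⟶ T, IsMonHom φ → φ = 1 := by
    intro j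
    induction j using Fin.induction with
    | zero =>
      intro φ hφ
      haveI := hφ
      haveI : IsIso (Us 0).hom := h0
      have huniq : ∀ (a b : Us 0 ⟶ Us 0), a = b := by
        intro a b
        apply Over.OverMorphism.ext
        rw [← cancel_mono (Us 0).hom, Over.w a, Over.w b]
      have h1 : toUnit (Us 0) ≫ η[Us 0] = 𝟙 (Us 0) := huniq _ _
      rw [← Category.id_comp φ, ← h1, Category.assoc, IsMonHom.one_hom, Hom.one_def]
    | succ j ih =>
      intro φ hφ
      haveI := hφ
      have h1 : incl j ≫ φ = 1 := ih (incl j ≫ φ) inferInstance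
      haveI := haff j.succ
      haveI : QuasiCompact (quot j).left := inferInstance
      obtain ⟨g, hg, hgφ⟩ := exists_desc_of_kills (incl j) (quot j) (hker j) φ h1
      haveI := hg
      have h2 : g = 1 := hom_Ga_torus_eq_one k T hT g
      rw [← hgφ, h2, MonObj.comp_one]
  have h3 : e.hom ≫ f = 1 := key (Fin.last n) (e.hom ≫ f) inferInstance
  rw [← Category.id_comp f, ← e.inv_hom_id, Category.assoc, h3, MonObj.comp_one]

end main

end Groth.Agent.Lib.Helper4.GaTorusHom1
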