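import Mathlib

/-!
# Generic fibre of a finite-type map with one finite nonempty fibre (helper4)
-/

set_option backward.isDefEq.respectTransparency.types false
set_option synthInstance.maxHeartbeats 400000
set_option autoImplicit false
set_option linter.unusedSectionVars false
set_option linter.style.haveILetI false
set_option linter.unusedSimpArgs false
universe u v w
open CategoryTheory CategoryTheory.Limits AlgebraicGeometry

namespace Groth.Agent.Lib.Helper4.GenFibFin1

theorem quasiFiniteAt_of_finite_fiber {X Y : Scheme.{u}} (f : X ⟶ Y) [LocallyOfFiniteType f]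
    (x : X) [Finite ↥(f.fiber (f x))] : f.QuasiFiniteAt x :=
  Scheme.Hom.quasiFiniteAt_iff_isOpen_singleton_asFiber.mpr (isOpen_discrete _)

theorem S11561_main {X Y : Scheme.{u}} (f : X ⟶ Y)
    [IrreducibleSpace ↥Y] [IrreducibleSpace ↥X] [LocallyOfFiniteType f]
    (y : Y) [Nonempty ↥(f.fiber y)] [Finite ↥(f.fiber y)] :
    Subsingleton ↥(f.fiber (genericPoint ↥Y)) := by
  by_cases hne : Nonempty (f.fiber (genericPoint Y))
  swap
  · exact ⟨fun a => (hne ⟨a⟩).elim⟩
  obtain ⟨w⟩ := hne
  -- a point over y
  obtain ⟨w₀⟩ := ‹Nonempty ↥(f.fiber y)›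
  have hx₀ : f (f.fiberι y w₀) = y := by
    have : f.fiberι y w₀ ∈ Set.range (f.fiberι y) := ⟨w₀, rfl⟩
    rw [f.range_fiberι y] at this
    exact this
  obtain ⟨x₀, hx₀'⟩ : ∃ x₀, f x₀ = y := ⟨_, hx₀⟩
  subst hx₀'
  have hq₀ : f.QuasiFiniteAt x₀ := quasiFiniteAt_of_finite_fiber f x₀
  -- generic point of X is quasi-finite
  have hqξ : f.QuasiFiniteAt (genericPoint X) := by
    have h1 := (genericPoint_spec X).mem_open_set_iff f.isOpen_quasiFiniteAt
    exact h1.mpr ⟨x₀, trivial, hq₀⟩
  -- f ξ = η
  have hξ : f (genericPoint X) = genericPoint Y := by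
    have hw : f (f.fiberι _ w) = genericPoint Y := by
      have : f.fiberι _ w ∈ Set.range (f.fiberι (genericPoint Y)) := ⟨w, rfl⟩
      rw [f.range_fiberι] at this
      exact this
    have h1 : genericPoint Y ⤳ f (genericPoint X) := genericPoint_specializes _
    have h2 : f (genericPoint X) ⤳ genericPoint Y := by
      rw [← hw]
      exact (genericPoint_specializes (f.fiberι _ w)).map f.continuous
    exact (h2.antisymm h1).eq
  rw [← hξ]
  have key : ∀ a : f.fiber (f (genericPoint X)), a = f.asFiber (genericPoint X) := by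
    intro a
    have hcl : IsClosed {f.asFiber (genericPoint X)} := hqξ.isClopen_singleton_asFiber.1
    have hsp : f.asFiber (genericPoint X) ⤳ a := by
      rw [← (f.fiberι (f (genericPoint X))).isEmbedding.isInducing.specializes_iff]
      rw [Scheme.Hom.fiberι_asFiber]
      exact genericPoint_specializes _
    exact hsp.mem_closed hcl (Set.mem_singleton _)
  exact ⟨fun a b => by rw [key a, key b]⟩

end Groth.Agent.Lib.Helper4.GenFibFin1
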