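import Mathlib

/-!
# Closed immersion into flat pullback is iso if iso over the generic stalk (helper4)
-/

set_option backward.isDefEq.respectTransparency.types false
set_option synthInstance.maxHeartbeats 400000
set_option autoImplicit false
set_option linter.unusedSectionVars false
set_option linter.style.haveILetI false
set_option linter.unusedSimpArgs false
universe u v w
open CategoryTheory CategoryTheory.Limits AlgebraicGeometry TopologicalSpace Opposite

namespace Groth.Agent.Lib.Helper4.GenIsoPull1

theorem main
    {S S' C C' : Scheme.{u}} [IsLocallyNoetherian S] [IsLocallyNoetherian S']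
    (f : S' ⟶ S) [Flat f] (i : C ⟶ S) [IsClosedImmersion i] [IsIntegral C]
    (i' : C' ⟶ S') [IsClosedImmersion i'] [IsIntegral C']
    (g : C' ⟶ C) (hsq : g ≫ i = i' ≫ f)
    (hgen : IsIso (pullback.snd (pullback.lift g i' hsq)
      (pullback.fst (pullback.fst i f ≫ i) (S.fromSpecStalk (i.base (genericPoint C)))))) :
    IsIso (pullback.lift g i' hsq) := by
  set φ := pullback.lift g i' hsq with hφ
  set η := i.base (genericPoint C) with hη
  set t := S.fromSpecStalk η with ht
  set pP := pullback.fst i f ≫ i with hpP
  set q := pullback.fst pP t with hq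
  -- φ is a closed immersion
  haveI : IsClosedImmersion (φ ≫ pullback.snd i f) := by
    rw [hφ, pullback.lift_snd]; infer_instance
  haveI : IsClosedImmersion φ := IsClosedImmersion.of_comp φ (pullback.snd i f)
  -- q factors through φ
  have hfac : q = (inv (pullback.snd φ q) ≫ pullback.fst φ q) ≫ φ := by
    rw [Category.assoc, pullback.condition, IsIso.inv_hom_id_assoc]
  -- r : R → C is scheme-theoretically dominant and quasi-compact
  haveI : QuasiCompact t := by
    obtain ⟨_, ⟨V : S.Opens, hV, rfl⟩, hxV, -⟩ :=
      S.isBasis_affineOpens.exists_subset_of_mem_open (Set.mem_univ η) isOpen_univ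
    rw [ht, ← hV.fromSpecStalk_eq_fromSpecStalk hxV]
    dsimp only [IsAffineOpen.fromSpecStalk]
    infer_instance
  let r := pullback.fst i t
  haveI : QuasiCompact r := inferInstance
  haveI : IsDominant r := by
    constructor
    obtain ⟨z, hz1, -⟩ := Scheme.Pullback.exists_preimage_pullback (f := i) (g := t)
      (genericPoint C) (IsLocalRing.closedPoint (S.presheaf.stalk η))
      (by rw [ht, Scheme.fromSpecStalk_closedPoint])
    intro c
    have h1 : genericPoint C ∈ Set.range r := ⟨z, hz1⟩
    have h2 : c ∈ closure ({genericPoint C} : Set C) := by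
      rw [(genericPoint_spec C).def]; trivial
    exact closure_mono (Set.singleton_subset_iff.mpr h1) h2
  haveI : IsSchemeTheoreticallyDominant r := IsSchemeTheoreticallyDominant.of_isDominant r
  -- the pasting square
  let m : pullback pP t ⟶ pullback i t :=
    pullback.map pP t i t (pullback.fst i f) (𝟙 _) (𝟙 _) (by simp [hpP]) (by simp)
  have hm1 : m ≫ pullback.fst i t = q ≫ pullback.fst i f := pullback.lift_fst _ _ _
  have hm2 : m ≫ pullback.snd i t = pullback.snd pP t :=
    (pullback.lift_snd _ _ _).trans (Category.comp_id _)
  have hright : IsPullback (pullback.snd i t) (pullback.fst i t) t i :=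
    (IsPullback.of_hasPullback i t).flip
  have houter : IsPullback (m ≫ pullback.snd i t) q t (pullback.fst i f ≫ i) := by
    rw [hm2]
    exact (IsPullback.of_hasPullback pP t).flip
  have hleft : IsPullback m q r (pullback.fst i f) :=
    IsPullback.of_right houter hm1 hright
  haveI : Flat (pullback.fst i f) := inferInstance
  haveI : IsSchemeTheoreticallyDominant q := IsSchemeTheoreticallyDominant.of_isPullback hleft
  have hker : φ.ker = ⊥ := by
    have h1 := Scheme.Hom.le_ker_comp (inv (pullback.snd φ q) ≫ pullback.fst φ q) φ
    rw [← hfac, IsSchemeTheoreticallyDominant.ker_eq_bot q] at h1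
    exact le_bot_iff.mp h1
  exact IsClosedImmersion.isIso_iff_ker_eq_bot.mpr hker

end Groth.Agent.Lib.Helper4.GenIsoPull1
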