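import Mathlib

/-!
# Generic smoothness for separable function field extensions, affine form (S14441) (helper4)
-/

set_option backward.isDefEq.respectTransparency.types false
set_option synthInstance.maxHeartbeats 400000
set_option autoImplicit false
set_option linter.unusedSectionVars false
set_option linter.style.haveILetI false
set_option linter.unusedSimpArgs false
universe u v w
open CategoryTheory CategoryTheory.Limits AlgebraicGeometry TopologicalSpace IsLocalRing Opposite

namespace Groth.Agent.Lib.Helper4.GenSmooth2

theorem S14441_main (k : Type u) [Field k]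
    (A B : Type u) [CommRing A] [CommRing B] [IsDomain A] [IsDomain B] [Algebra k A] [Algebra k B] [Algebra A B] [IsScalarTower k A B]
    [Algebra.FiniteType k A] [Algebra.FiniteType k B]
    (K L : Type u) [Field K] [Field L] [Algebra A K] [IsFractionRing A K] [Algebra B L] [IsFractionRing B L]
    [Algebra K L] [Algebra A L] [IsScalarTower A B L] [IsScalarTower A K L]
    (n : ℕ) (a : Fin n → L) (ha : IsTranscendenceBasis K a)
    (hsep : Algebra.IsSeparable ↥(IntermediateField.adjoin K (Set.range a)) L) :
    ∃ g : B, g ≠ 0 ∧ ∀ (C : Type u) [CommRing C] [Algebra B C] [IsLocalization.Away g C] [Algebra A C] [IsScalarTower A B C],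
      Algebra.Smooth A C := by
  have h1 : Algebra.FormallySmooth K L :=
    Algebra.FormallySmooth.of_algebraicIndependent_of_isSeparable ha.1
  have h2 : Algebra.FormallySmooth A K :=
    Algebra.FormallySmooth.of_isLocalization (nonZeroDivisors A)
  have h3 : Algebra.FormallySmooth A L := Algebra.FormallySmooth.comp A K L
  haveI : IsLocalization (⊥ : Ideal B).primeCompl L := by
    rw [Ideal.primeCompl_bot]; infer_instance
  have h4 : Algebra.IsSmoothAt A (⊥ : Ideal B) := by
    let e : L ≃ₐ[B] Localization.AtPrime (⊥ : Ideal B) :=
      IsLocalization.algEquiv (⊥ : Ideal B).primeCompl L _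
    exact Algebra.FormallySmooth.of_equiv (e.restrictScalars A)
  haveI : IsNoetherianRing A := Algebra.FiniteType.isNoetherianRing k A
  haveI : Algebra.FiniteType A B := Algebra.FiniteType.of_restrictScalars_finiteType k A B
  haveI : Algebra.FinitePresentation A B := Algebra.FinitePresentation.of_finiteType.mp inferInstance
  obtain ⟨g, hg, hsm⟩ := Algebra.IsSmoothAt.exists_notMem_smooth A (⊥ : Ideal B)
  refine ⟨g, fun h => hg (by rw [h]; exact Ideal.zero_mem _), ?_⟩
  intro C _ _ _ _ _
  let e : Localization.Away g ≃ₐ[B] C := IsLocalization.algEquiv (Submonoid.powers g) _ _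
  exact Algebra.Smooth.of_equiv (e.restrictScalars A)

end Groth.Agent.Lib.Helper4.GenSmooth2
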