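import Mathlib
import Groth.Agent.Lib.Helper4.GenSmooth1
import Groth.Agent.Lib.Helper4.Equi10
import Groth.Agent.Lib.Helper4.Aff2
import Groth.Agent.Lib.Helper4.DimIneq1
import Groth.Agent.Lib.Helper2.Sch.SmoothOmegaRank

/-!
# generic smoothness on the source in characteristic zero with relative dimension the transcendence degree (S14417) (helper4)
-/

set_option backward.isDefEq.respectTransparency.types false
set_option synthInstance.maxHeartbeats 400000
set_option autoImplicit false
set_option linter.unusedSectionVars false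
set_option linter.style.haveILetI false
set_option linter.unusedSimpArgs false
universe u v w
open CategoryTheory CategoryTheory.Limits AlgebraicGeometry TopologicalSpace Opposite

namespace Groth.Agent.Lib.Helper4.GenSmoothTr1

/-- for a field-valued stalk, the residue map is bijective -/
theorem residue_bijective_of_isField {X : Scheme.{u}} (x : X) (h : IsField (X.presheaf.stalk x)) :
    Function.Bijective (X.residue x).hom := by
  letI := h.toField
  exact ⟨RingHom.injective _, IsLocalRing.residue_surjective⟩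

theorem trdeg_residue_eq {X Y : Scheme.{u}} (π : X ⟶ Y) (x : X)
    (hX : IsField (X.presheaf.stalk x)) (hY : IsField (Y.presheaf.stalk (π x))) :
    @Algebra.trdeg (Y.presheaf.stalk (π x)) (X.presheaf.stalk x) _ _ (π.stalkMap x).hom.toAlgebra =
    @Algebra.trdeg (Y.residueField (π x)) (X.residueField x) _ _
      (π.residueFieldMap x).hom.toAlgebra := by
  letI := (π.stalkMap x).hom.toAlgebra
  letI := (π.residueFieldMap x).hom.toAlgebra
  haveI : Nontrivial (Y.presheaf.stalk (π x)) := inferInstance
  refine Groth.Agent.Lib.Helper4.DimIneq1.trdeg_eq_of_ringEquiv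
    (RingEquiv.ofBijective (Y.residue (π x)).hom (residue_bijective_of_isField _ hY))
    (RingEquiv.ofBijective (X.residue x).hom (residue_bijective_of_isField _ hX)) ?_
  have h := Scheme.residue_residueFieldMap π x
  ext a
  exact congrArg (fun t => t.hom a) h


open Groth.Agent.Lib.Helper4.GenSmooth1 Groth.Agent.Lib.Helper4.Equi10
  Groth.Agent.Lib.Helper4.FibDim1 in
theorem main
    (X Y : Scheme.{u}) [IsIntegral X] [IsIntegral Y] [IsNoetherian X] [IsNoetherian Y]
    (π : X ⟶ Y) [LocallyOfFiniteType π] [QuasiCompact π]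
    (hdom : π.base (genericPoint X) = genericPoint Y) [CharZero Y.functionField]
    (n : ℕ) (hn : @Algebra.trdeg (Y.presheaf.stalk (π.base (genericPoint X))) X.functionField _ _
      (π.stalkMap (genericPoint X)).hom.toAlgebra = n) :
    ∃ U : X.Opens, (U : Set X).Nonempty ∧ SmoothOfRelativeDimension n (U.ι ≫ π) := by
  haveI : LocallyOfFinitePresentation π := inferInstance
  have hη : genericPoint X ∈ π.smoothLocus :=
    genericPoint_mem_smoothLocus_of_charZero π hdom (inferInstance : CharZero Y.functionField)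
  -- the smooth locus
  let W : X.Opens := π.smoothLocus
  have hsm : Smooth (W.ι ≫ π) := by
    rw [← Scheme.Hom.smoothLocus_eq_top_iff, ← Scheme.Hom.preimage_smoothLocus_eq]
    ext x
    simp only [Scheme.Hom.coe_preimage, Set.mem_preimage, SetLike.mem_coe]
    exact ⟨fun _ => trivial, fun _ => x.2⟩
  obtain ⟨U₀, hU₀, V, hV, hx, e, m, hstd, hfib⟩ :=
    Groth.Agent.Helper2.SmoothRelDim.exists_affine_standardSmooth (W.ι ≫ π)
      (⟨genericPoint X, hη⟩ : W)
  -- m = n
  have hm : m = n := by
    have h1 := hfib _ hx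
    rw [Groth.Agent.Lib.Helper4.Aff2.fibreDimAt_restrict π W] at h1
    have hmax : ∀ z' : X, π z' = π (genericPoint X) → z' ⤳ genericPoint X → z' = genericPoint X :=
      fun z' _ hsp => (hsp.antisymm ((genericPoint_spec X).specializes trivial)).eq
    have h2 := fibreDimAt_eq_tr_of_max_nn π (genericPoint X) hmax
    have h3 : tr π (genericPoint X) = n := by
      apply tr_eq_of_trdeg_eq
      rw [← trdeg_residue_eq π (genericPoint X) (Field.toIsField X.functionField)
        (by rw [hdom]; exact Field.toIsField Y.functionField)]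
      exact hn
    have h4 : W.ι ⟨genericPoint X, hη⟩ = genericPoint X := rfl
    rw [h4, h2, h3] at h1
    exact_mod_cast h1.symm
  subst hm
  have h5 := Groth.Agent.Helper2.SmoothRelDim.smoothOfRelativeDimension_resLE m (W.ι ≫ π)
    ⟨U₀, hU₀⟩ ⟨V, hV⟩ e hstd
  have h6 : SmoothOfRelativeDimension (m + 0) ((W.ι ≫ π).resLE U₀ V e ≫ U₀.ι) := inferInstance
  rw [Scheme.Hom.resLE_comp_ι, add_zero] at h6
  refine ⟨(V.ι ≫ W.ι).opensRange, ⟨genericPoint X, ⟨⟨⟨genericPoint X, hη⟩, hx⟩, rfl⟩⟩, ?_⟩
  have h7 : (V.ι ≫ W.ι).isoOpensRange.hom ≫ ((V.ι ≫ W.ι).opensRange.ι ≫ π) = V.ι ≫ W.ι ≫ π := by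
    rw [← Category.assoc, Scheme.Hom.isoOpensRange_hom_ι, Category.assoc]
  rw [← MorphismProperty.cancel_left_of_respectsIso (P := @SmoothOfRelativeDimension m)
    (V.ι ≫ W.ι).isoOpensRange.hom, h7]
  exact h6

end Groth.Agent.Lib.Helper4.GenSmoothTr1
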