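import Mathlib
import Groth.Agent.Lib.Helper4.ContentRep2
import Groth.Agent.Lib.Helper6.GrpSchSep

/-!
# closed subgroup generated by a rational point is commutative (S5363); centralizers over a field as closed subgroup schemes (helper4)
-/

set_option backward.isDefEq.respectTransparency.types false
set_option synthInstance.maxHeartbeats 400000
set_option autoImplicit false
set_option linter.unusedSectionVars false
set_option linter.style.haveILetI false
set_option linter.unusedSimpArgs false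
universe u v w
open CategoryTheory CategoryTheory.Limits AlgebraicGeometry TopologicalSpace Opposite
open MonoidalCategory CartesianMonoidalCategory MonObj GrpObj
open Groth.Agent.Lib.Helper4

namespace Groth.Agent.Lib.Helper4.GenSubComm1

section Abstract
universe v₁ u₁
variable {C : Type u₁} [Category.{v₁} C] [CartesianMonoidalCategory C]
  {G Z : C} [GrpObj G] (c : Z ⟶ G) [Mono c]
  (S : ∀ T : C, Subgroup (T ⟶ G))
  (hS : ∀ (T : C) (f : T ⟶ G), f ∈ S T ↔ ∃ ψ : T ⟶ Z, ψ ≫ c = f)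

include hS in
theorem comp_mem {T T' : C} (g : T' ⟶ T) (f : T ⟶ G) (hf : f ∈ S T) : g ≫ f ∈ S T' := by
  obtain ⟨ψ, rfl⟩ := (hS T f).1 hf
  exact (hS T' _).2 ⟨g ≫ ψ, by rw [Category.assoc]⟩

/-- the presheaf of groups `T ↦ S T`. -/
noncomputable def P : Cᵒᵖ ⥤ GrpCat.{v₁} where
  obj T := GrpCat.of (S (unop T))
  map {T T'} g := GrpCat.ofHom
    { toFun := fun x => ⟨g.unop ≫ x.1, comp_mem c S hS g.unop x.1 x.2⟩
      map_one' := Subtype.ext (MonObj.comp_one _)
      map_mul' := fun x y => Subtype.ext (MonObj.comp_mul _ _ _) }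
  map_id T := by
    ext x
    simp
  map_comp g g' := by
    ext x
    simp

/-- `Z` represents `P`. -/
noncomputable def rep : (P c S hS ⋙ forget _).RepresentableBy Z where
  homEquiv {T} := Equiv.ofBijective
    (fun ψ => (⟨ψ ≫ c, (hS T _).2 ⟨ψ, rfl⟩⟩ : S T))
    ⟨fun ψ ψ' h => (cancel_mono c).1 (congrArg Subtype.val h),
     fun x => by
      obtain ⟨ψ, hψ⟩ := (hS T x.1).1 x.2
      exact ⟨ψ, Subtype.ext hψ⟩⟩
  homEquiv_comp f g := by
    apply Subtype.ext
    change (f ≫ g) ≫ c = f ≫ g ≫ c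
    rw [Category.assoc]

include S hS in
theorem exists_grpObj : ∃ (_ : GrpObj Z), IsMonHom c := by
  let α := rep c S hS
  letI inst : GrpObj Z := GrpObj.ofRepresentableBy Z (P c S hS) α
  refine ⟨inst, ?_⟩
  have hmul : μ[Z] ≫ c = (fst Z Z ≫ c) * (snd Z Z ≫ c) := by
    have h1 : α.homEquiv μ[Z] = α.homEquiv (fst Z Z) * α.homEquiv (snd Z Z) :=
      Equiv.apply_symm_apply α.homEquiv _
    exact congrArg Subtype.val h1
  have hone : η[Z] ≫ c = 1 := by
    have h1 : α.homEquiv η[Z] = 1 := Equiv.apply_symm_apply α.homEquiv _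
    exact congrArg Subtype.val h1
  constructor
  · rw [hone, Hom.one_def, toUnit_unique (toUnit (𝟙_ C)) (𝟙 _), Category.id_comp]
  · rw [hmul, Hom.mul_def, lift_fst_comp_snd_comp]

end Abstract

section Main
variable (k : Type u) [Field k] (G : Over (Spec (CommRingCat.of k))) [GrpObj G]

/-- centralizer of `y : Y ⟶ G` on `T`-points -/
def cent {Y : Over (Spec (CommRingCat.of k))} (y : Y ⟶ G) (T : Over (Spec (CommRingCat.of k))) :
    Subgroup (T ⟶ G) where
  carrier := {x | ∀ (T' : Over (Spec (CommRingCat.of k))) (t : T' ⟶ T) (a : T' ⟶ Y),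
      (t ≫ x) * (a ≫ y) = (a ≫ y) * (t ≫ x)}
  mul_mem' := by
    intro x x' hx hx' T' t a
    rw [MonObj.comp_mul]
    exact (Commute.mul_left (hx T' t a) (hx' T' t a)).eq
  one_mem' := by
    intro T' t a
    rw [MonObj.comp_one, _root_.one_mul, _root_.mul_one]
  inv_mem' := by
    intro x hx T' t a
    rw [GrpObj.comp_inv]
    exact (Commute.inv_left (hx T' t a)).eq

theorem mem_cent {Y : Over (Spec (CommRingCat.of k))} (y : Y ⟶ G)
    (T : Over (Spec (CommRingCat.of k))) (x : T ⟶ G) :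
    x ∈ cent k G y T ↔ ∀ (T' : Over (Spec (CommRingCat.of k))) (t : T' ⟶ T) (a : T' ⟶ Y),
      (t ≫ x) * (a ≫ y) = (a ≫ y) * (t ≫ x) := Iff.rfl

theorem exists_cent {Y : Over (Spec (CommRingCat.of k))} (y : Y ⟶ G) :
    ∃ (Z : Over (Spec (CommRingCat.of k))) (_ : GrpObj Z) (c : Z ⟶ G), IsMonHom c ∧
      IsClosedImmersion c.left ∧
      ∀ (T : Over (Spec (CommRingCat.of k))) (x : T ⟶ G),
        (∃ z : T ⟶ Z, z ≫ c = x) ↔ x ∈ cent k G y T := by
  haveI : DiscreteTopology ↥(Spec (CommRingCat.of k)) :=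
    inferInstanceAs (DiscreteTopology (PrimeSpectrum k))
  haveI : IsSeparated G.hom := Groth.Agent.Helper6.GrpSchSep.isSeparated_of_discrete G
  obtain ⟨Z, j, hj, hrep⟩ := ContentRep2.eq_rep k Y G G
    ((snd Y G) * (fst Y G ≫ y)) ((fst Y G ≫ y) * (snd Y G))
  have hmem : ∀ (T : Over (Spec (CommRingCat.of k))) (x : T ⟶ G),
      (∃ z : T ⟶ Z, z ≫ j = x) ↔ x ∈ cent k G y T := by
    intro T x
    rw [← hrep T x, mem_cent]
    have e1 : (Y ◁ x) ≫ ((snd Y G) * (fst Y G ≫ y)) = (snd Y T ≫ x) * (fst Y T ≫ y) := by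
      rw [MonObj.comp_mul, whiskerLeft_snd, whiskerLeft_fst_assoc]
    have e2 : (Y ◁ x) ≫ ((fst Y G ≫ y) * (snd Y G)) = (fst Y T ≫ y) * (snd Y T ≫ x) := by
      rw [MonObj.comp_mul, whiskerLeft_snd, whiskerLeft_fst_assoc]
    rw [e1, e2]
    constructor
    · intro h T' t a
      have := congrArg (fun m => lift a t ≫ m) h
      simp only [MonObj.comp_mul, lift_snd_assoc, lift_fst_assoc] at this
      exact this
    · intro h
      exact h (Y ⊗ T) (snd Y T) (fst Y T)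
  haveI := hj
  haveI : Mono j.left := inferInstance
  haveI : Mono j := Over.mono_of_mono_left j
  obtain ⟨inst, hmon⟩ := exists_grpObj j (cent k G y) (fun T f => (hmem T f).symm)
  exact ⟨Z, inst, j, hmon, hj, hmem⟩

theorem main (g : 𝟙_ (Over (Spec (CommRingCat.of k))) ⟶ G)
    (Γ : Over (Spec (CommRingCat.of k))) [GrpObj Γ] (i : Γ ⟶ G) [IsMonHom i]
    [IsClosedImmersion i.left]
    (hf : ∃ f' : 𝟙_ (Over (Spec (CommRingCat.of k))) ⟶ Γ, f' ≫ i = g)
    (hmin : ∀ (Γ' : Over (Spec (CommRingCat.of k))) (_ : GrpObj Γ') (i' : Γ' ⟶ G), IsMonHom i' →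
        IsClosedImmersion i'.left →
        (∃ f'' : 𝟙_ (Over (Spec (CommRingCat.of k))) ⟶ Γ', f'' ≫ i' = g) → ∃ j : Γ ⟶ Γ', j ≫ i' = i) :
    IsCommMonObj Γ := by
  haveI : Mono i.left := inferInstance
  haveI : Mono i := Over.mono_of_mono_left i
  -- step A : `g` is central in `Γ`
  obtain ⟨Z₁, inst₁, c₁, hm₁, hc₁, hrep₁⟩ := exists_cent k G g
  have hg₁ : ∃ z : 𝟙_ (Over (Spec (CommRingCat.of k))) ⟶ Z₁, z ≫ c₁ = g := by
    rw [hrep₁, mem_cent]
    intro T' t a
    rw [toUnit_unique t a]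
  obtain ⟨j₁, hj₁⟩ := hmin Z₁ inst₁ c₁ hm₁ hc₁ hg₁
  have hA : ∀ (T : Over (Spec (CommRingCat.of k))) (b : T ⟶ Γ), (b ≫ i) ∈ cent k G g T := by
    intro T b
    rw [← hrep₁]
    exact ⟨b ≫ j₁, by rw [Category.assoc, hj₁]⟩
  -- step B : `Γ` centralizes itself
  obtain ⟨Z₂, inst₂, c₂, hm₂, hc₂, hrep₂⟩ := exists_cent k G i
  have hg₂ : ∃ z : 𝟙_ (Over (Spec (CommRingCat.of k))) ⟶ Z₂, z ≫ c₂ = g := by
    rw [hrep₂, mem_cent]
    intro T' t a
    have := (mem_cent k G g T' (a ≫ i)).1 (hA T' a) T' (𝟙 T') t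
    rw [Category.id_comp] at this
    exact this.symm
  obtain ⟨j₂, hj₂⟩ := hmin Z₂ inst₂ c₂ hm₂ hc₂ hg₂
  rw [isCommMonObj_iff_isMulCommutative]
  intro T
  refine ⟨⟨fun a b => ?_⟩⟩
  have hx : (a ≫ i) ∈ cent k G i T := by
    rw [← hrep₂]
    exact ⟨a ≫ j₂, by rw [Category.assoc, hj₂]⟩
  have h := (mem_cent k G i T (a ≫ i)).1 hx T (𝟙 T) b
  rw [Category.id_comp] at h
  rw [← cancel_mono i, MonObj.mul_comp, MonObj.mul_comp]
  exact h

end Main

end Groth.Agent.Lib.Helper4.GenSubComm1
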