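import Mathlib
import Groth.Agent.Lib.Helper4.GeomCnt1
import Groth.Agent.Lib.Helper4.GeomCnt2
import Groth.Agent.S7591
import Groth.Agent.S4433

/-!
# Geometric connectedness of the generic fibre over a discrete valuation ring (EGA IV 15.5.9 core) (helper4)
-/

set_option backward.isDefEq.respectTransparency.types false
set_option synthInstance.maxHeartbeats 400000
set_option autoImplicit false
set_option linter.unusedSectionVars false
set_option linter.style.haveILetI false
set_option linter.unusedSimpArgs false
universe u v w
open CategoryTheory CategoryTheory.Limits AlgebraicGeometry TopologicalSpace Topology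

namespace Groth.Agent.Lib.Helper4.GeomCnt3

open Groth.Agent.Lib.Helper4.GeomCnt1 Groth.Agent.Lib.Helper4.GeomCnt2 Groth.Agent.Lib.Helper4.UO

/-- the closed point of the target is hit by the closed point along a local homomorphism -/
theorem SpecMap_clPt {A R : Type u} [CommRing A] [CommRing R] [IsLocalRing A] [IsLocalRing R]
    (ψ : A →+* R) [IsLocalHom ψ] : Spec.map (CommRingCat.ofHom ψ) (clPt R) = clPt A := by
  apply PrimeSpectrum.ext
  show Ideal.comap ψ (IsLocalRing.maximalIdeal R) = IsLocalRing.maximalIdeal A
  exact IsLocalRing.maximalIdeal_comap ψ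

/-- the key step: one finite separable level -/
theorem connectedSpace_level (A : Type u) [CommRing A] [IsDomain A] [IsDiscreteValuationRing A]
    {C : Scheme.{u}} (h : C ⟶ Spec (CommRingCat.of A)) [IsProper h]
    (hU : ∀ x : C, h x = clPt A → EGA43.IsUnivOpenAt h x)
    (hCs : GeomAt (fun Z => ConnectedSpace ↥Z) h (clPt A))
    (hRs : GeomAt (fun Z => IsReduced Z) h (clPt A))
    (K' : Type u) [Field K'] [Algebra A K'] (hinj : Function.Injective (algebraMap A K'))
    (R : ValuationSubring K') (hR : IsDiscreteValuationRing R)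
    (hAR : ∀ a : A, algebraMap A K' a ∈ R)
    (hdom : ∀ a ∈ IsLocalRing.maximalIdeal A, R.valuation (algebraMap A K' a) < 1) :
    ConnectedSpace ↥(pullback h (Spec.map (CommRingCat.ofHom (algebraMap A K')))) := by
  -- the local homomorphism A → R
  let ψ : A →+* R := (algebraMap A K').codRestrict R.toSubring hAR
  have hψ : ∀ a : A, ((ψ a : R) : K') = algebraMap A K' a := fun a => rfl
  haveI : IsLocalHom ψ := by
    refine ((IsLocalRing.local_hom_TFAE ψ).out 0 3).mpr ?_
    intro a ha
    rw [Ideal.mem_comap, ValuationSubring.valuation_lt_one_iff]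
    exact hdom a ha
  haveI := hR
  obtain ⟨g, hg⟩ : ∃ g : Spec (CommRingCat.of ↥R) ⟶ Spec (CommRingCat.of A),
      g = Spec.map (CommRingCat.ofHom ψ) := ⟨_, rfl⟩
  have hgcl : g (clPt ↥R) = clPt A := by rw [hg]; exact SpecMap_clPt ψ
  have hc : IsPullback (pullback.fst h g) (pullback.snd h g) h g := IsPullback.of_hasPullback h g
  have pbcond : ∀ p : ↥(pullback h g), h (pullback.fst h g p) = g (pullback.snd h g p) := by
    intro p
    have := congr($(pullback.condition (f := h) (g := g)) p)
    simpa only [Scheme.Hom.comp_apply] using this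
  -- hypotheses for the base change
  have hU' : ∀ p : ↥(pullback h g), pullback.snd h g p = clPt ↥R →
      EGA43.IsUnivOpenAt (pullback.snd h g) p := by
    intro p hp
    refine isUnivOpenAt_of_isPullback (hU (pullback.fst h g p) ?_) hc p rfl
    rw [pbcond, hp, hgcl]
  have hCs' : GeomAt (fun Z => ConnectedSpace ↥Z) (pullback.snd h g) (clPt ↥R) :=
    GeomAt.baseChange _ hc (clPt ↥R) (by rw [hgcl]; exact hCs)
  have hRs' : GeomAt (fun Z => IsReduced Z) (pullback.snd h g) (clPt ↥R) :=
    GeomAt.baseChange _ hc (clPt ↥R) (by rw [hgcl]; exact hRs)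
  have hconn : ConnectedSpace ↥((pullback.snd h g).fiber (clPt ↥R)) :=
    hCs' ((Spec (CommRingCat.of ↥R)).residueField (clPt ↥R))
      ((Spec (CommRingCat.of ↥R)).fromSpecResidueField (clPt ↥R))
      (Scheme.fromSpecResidueField_apply _ _)
  have hred : IsReduced ((pullback.snd h g).fiber (clPt ↥R)) :=
    hRs' ((Spec (CommRingCat.of ↥R)).residueField (clPt ↥R))
      ((Spec (CommRingCat.of ↥R)).fromSpecResidueField (clPt ↥R))
      (Scheme.fromSpecResidueField_apply _ _)
  have hgen := connectedSpace_generic_fibre ↥R (pullback.snd h g) hU' hconn hred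
  have hgen' := connectedSpace_pullback_generic ↥R K' (pullback.snd h g) hgen
  let e := pullbackLeftPullbackSndIso h g (Spec.map (CommRingCat.ofHom (algebraMap ↥R K')))
  have hcomp : Spec.map (CommRingCat.ofHom (algebraMap ↥R K')) ≫ g =
      Spec.map (CommRingCat.ofHom (algebraMap A K')) := by
    rw [hg, ← Spec.map_comp, ← CommRingCat.ofHom_comp]
    rfl
  rw [← hcomp]
  have hsurj : Function.Surjective e.hom := by
    intro z
    refine ⟨e.inv z, ?_⟩
    rw [← Scheme.Hom.comp_apply, e.inv_hom_id]; rfl
  exact hsurj.connectedSpace e.hom.continuous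

theorem geometricallyConnected_generic (A : Type u) [CommRing A] [IsDomain A]
    [IsDiscreteValuationRing A] {C : Scheme.{u}} (h : C ⟶ Spec (CommRingCat.of A)) [IsProper h]
    (hU : ∀ x : C, h x = clPt A → EGA43.IsUnivOpenAt h x)
    (hCs : GeomAt (fun Z => ConnectedSpace ↥Z) h (clPt A))
    (hRs : GeomAt (fun Z => IsReduced Z) h (clPt A)) :
    GeometricallyConnected
      (pullback.snd h (Spec.map (CommRingCat.ofHom (algebraMap A (FractionRing A))))) := by
  apply Groth.Agent.S7591.geomConn_of_finite_separable
  intro K' _ _ _ _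
  letI : Algebra A K' :=
    ((algebraMap (FractionRing A) K').comp (algebraMap A (FractionRing A))).toAlgebra
  haveI : IsScalarTower A (FractionRing A) K' := IsScalarTower.of_algebraMap_eq (fun _ => rfl)
  have hinj : Function.Injective (algebraMap A K') :=
    (algebraMap (FractionRing A) K').injective.comp (IsFractionRing.injective A (FractionRing A))
  have hfg : (⊤ : IntermediateField (FractionRing A) K').FG :=
    IntermediateField.fg_of_noetherian _
  obtain ⟨R, hR, hAR, hdom⟩ := Groth.Agent.S4433.result A
    (IsDiscreteValuationRing.not_isField A) (FractionRing A) K' hfg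
  have key := connectedSpace_level A h hU hCs hRs K' hinj R hR hAR hdom
  let e := pullbackLeftPullbackSndIso h
    (Spec.map (CommRingCat.ofHom (algebraMap A (FractionRing A))))
    (Spec.map (CommRingCat.ofHom (algebraMap (FractionRing A) K')))
  have hcomp : Spec.map (CommRingCat.ofHom (algebraMap (FractionRing A) K')) ≫
      Spec.map (CommRingCat.ofHom (algebraMap A (FractionRing A))) =
      Spec.map (CommRingCat.ofHom (algebraMap A K')) := by
    rw [← Spec.map_comp, ← CommRingCat.ofHom_comp]
  rw [← hcomp] at key
  have hsurj : Function.Surjective e.inv := by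
    intro z
    refine ⟨e.hom z, ?_⟩
    rw [← Scheme.Hom.comp_apply, e.hom_inv_id]; rfl
  exact hsurj.connectedSpace e.inv.continuous

theorem geomAt_connected_genPt (A : Type u) [CommRing A] [IsDomain A] {C : Scheme.{u}}
    (h : C ⟶ Spec (CommRingCat.of A))
    (H : GeometricallyConnected
      (pullback.snd h (Spec.map (CommRingCat.ofHom (algebraMap A (FractionRing A)))))) :
    GeomAt (fun Z => ConnectedSpace ↥Z) h (genPt A) := by
  intro Ω _ y hy
  obtain ⟨ψ, rfl⟩ := Spec.map_surjective y
  have hinj : Function.Injective ψ.hom := by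
    rw [RingHom.injective_iff_ker_eq_bot, RingHom.ker_eq_comap_bot]
    have h1 := congrArg PrimeSpectrum.asIdeal hy
    have h2 : (IsLocalRing.closedPoint Ω).asIdeal = ⊥ := by
      rcases Ideal.eq_bot_or_top (IsLocalRing.closedPoint Ω).asIdeal with h | h
      · exact h
      · exact absurd h (IsLocalRing.closedPoint Ω).isPrime.ne_top
    have h3 : Ideal.comap ψ.hom (IsLocalRing.closedPoint Ω).asIdeal = ⊥ := h1
    rw [h2] at h3
    exact h3
  let χ : FractionRing A →+* Ω := IsFractionRing.lift hinj
  have hχ : ψ = CommRingCat.ofHom (algebraMap A (FractionRing A)) ≫ CommRingCat.ofHom χ := by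
    ext a
    exact (IsFractionRing.lift_algebraMap hinj a).symm
  rw [hχ, Spec.map_comp]
  let e := pullbackLeftPullbackSndIso h
    (Spec.map (CommRingCat.ofHom (algebraMap A (FractionRing A))))
    (Spec.map (CommRingCat.ofHom χ))
  haveI : ConnectedSpace ↥(pullback (pullback.snd h
      (Spec.map (CommRingCat.ofHom (algebraMap A (FractionRing A)))))
      (Spec.map (CommRingCat.ofHom χ))) :=
    H.geometrically_connectedSpace _ _ _ (.of_hasPullback _ _)
  have hsurj : Function.Surjective e.hom := by
    intro z
    refine ⟨e.inv z, ?_⟩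
    rw [← Scheme.Hom.comp_apply, e.inv_hom_id]; rfl
  exact hsurj.connectedSpace e.hom.continuous

/-- DVR-core: over a discrete valuation ring, a proper morphism which is universally open at
the points of a geometrically connected and geometrically reduced closed fibre has a
geometrically connected generic fibre -/
theorem geomAt_connected_generic (A : Type u) [CommRing A] [IsDomain A]
    [IsDiscreteValuationRing A] {C : Scheme.{u}} (h : C ⟶ Spec (CommRingCat.of A)) [IsProper h]
    (hU : ∀ x : C, h x = clPt A → EGA43.IsUnivOpenAt h x)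
    (hCs : GeomAt (fun Z => ConnectedSpace ↥Z) h (clPt A))
    (hRs : GeomAt (fun Z => IsReduced Z) h (clPt A)) :
    GeomAt (fun Z => ConnectedSpace ↥Z) h (genPt A) :=
  geomAt_connected_genPt A h (geometricallyConnected_generic A h hU hCs hRs)

end Groth.Agent.Lib.Helper4.GeomCnt3
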