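import Mathlib
import Groth.Agent.Lib.Helper4.HensProper1

/-!
# Henselian couples: clopen subsets of a proper scheme over a Noetherian ring and of its part over a Henselian ideal of global functions (helper4)
-/

set_option backward.isDefEq.respectTransparency.types false
set_option synthInstance.maxHeartbeats 400000
set_option autoImplicit false
set_option linter.unusedSectionVars false
set_option linter.style.haveILetI false
set_option linter.unusedSimpArgs false
universe u v w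
open CategoryTheory CategoryTheory.Limits AlgebraicGeometry TopologicalSpace Topology

namespace Groth.Agent.Lib.Helper4.HensCouple1

open Groth.Agent.Lib.Helper4.HensProper1

/-- idempotents lift along the quotient by a Henselian ideal -/
theorem exists_idem_lift_of_henselian {B : Type*} [CommRing B] (𝔞 : Ideal B) [HenselianRing B 𝔞]
    (ē : B ⧸ 𝔞) (hē : IsIdempotentElem ē) :
    ∃ e : B, IsIdempotentElem e ∧ Ideal.Quotient.mk 𝔞 e = ē := by
  obtain ⟨b, rfl⟩ := Ideal.Quotient.mk_surjective ē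
  have hb : b * b - b ∈ 𝔞 := by
    rw [← Ideal.Quotient.eq_zero_iff_mem, map_sub, map_mul, hē.eq, sub_self]
  let f : Polynomial B := Polynomial.X ^ 2 - Polynomial.X
  have hf : f.Monic := by
    nontriviality B
    apply Polynomial.monic_X_pow_sub
    rw [Polynomial.degree_X]
    norm_num
  have hfb : f.eval b ∈ 𝔞 := by
    simp only [f, Polynomial.eval_sub, Polynomial.eval_pow, Polynomial.eval_X]
    rw [pow_two]; exact hb
  have hder : IsUnit (Ideal.Quotient.mk 𝔞 (f.derivative.eval b)) := by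
    have h1 : f.derivative.eval b = 2 * b - 1 := by
      simp only [f, Polynomial.derivative_sub, Polynomial.derivative_X_pow, Polynomial.derivative_X,
        Polynomial.eval_sub, Polynomial.eval_mul, Polynomial.eval_pow, Polynomial.eval_X,
        Polynomial.eval_one]
      simp
    rw [h1]
    have h2 : Ideal.Quotient.mk 𝔞 (2 * b - 1) * Ideal.Quotient.mk 𝔞 (2 * b - 1) = 1 := by
      rw [← map_mul]
      have : (2 * b - 1) * (2 * b - 1) = 4 * (b * b - b) + 1 := by ring
      rw [this, map_add, map_mul, Ideal.Quotient.eq_zero_iff_mem.mpr hb, mul_zero, zero_add,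
        map_one]
    exact IsUnit.of_mul_eq_one _ h2
  obtain ⟨e, he1, he2⟩ := HenselianRing.is_henselian f hf b hfb hder
  refine ⟨e, ?_, ?_⟩
  · have : f.eval e = 0 := he1
    simp only [f, Polynomial.eval_sub, Polynomial.eval_pow, Polynomial.eval_X] at this
    show e * e = e
    rw [← pow_two]
    exact sub_eq_zero.mp this
  · exact Ideal.Quotient.eq.mpr he2

open Groth.Agent.Helper7.GeomConn.ZC in
/-- **Henselian couples**: for a scheme `Y` proper over a Noetherian ring whose ring of global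
functions is Henselian along an ideal `𝔞`, relatively clopen subsets of the closed subset over
`V(𝔞)` extend uniquely to clopen subsets of `Y` -/
theorem existsUnique_isClopen_of_henselian (A : Type u) [CommRing A] [IsNoetherianRing A]
    {Y : Scheme.{u}} (p : Y ⟶ Spec (CommRingCat.of A)) [IsProper p]
    (𝔞 : Ideal Γ(Y, ⊤)) [HenselianRing Γ(Y, ⊤) 𝔞]
    (V : Set Y) (hVc : IsClosed V) (O : Set Y) (hO : IsOpen O)
    (hVO : O ∩ Y.toSpecΓ ⁻¹' (PrimeSpectrum.zeroLocus (𝔞 : Set Γ(Y, ⊤))) = V) :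
    ∃! U : Set Y, IsClopen U ∧
      U ∩ Y.toSpecΓ ⁻¹' (PrimeSpectrum.zeroLocus (𝔞 : Set Γ(Y, ⊤))) = V := by
  let B : CommRingCat.{u} := Γ(Y, ⊤)
  let φ : CommRingCat.of A ⟶ B := (Scheme.ΓSpecIso (CommRingCat.of A)).inv ≫ p.appTop
  have hfac : Y.toSpecΓ ≫ Spec.map φ = p := by
    show Y.toSpecΓ ≫ Spec.map ((Scheme.ΓSpecIso (CommRingCat.of A)).inv ≫ p.appTop) = p
    rw [Spec.map_comp, ← Category.assoc, ← Scheme.toSpecΓ_naturality, Category.assoc]
    rw [toSpecΓ_SpecMap_ΓSpecIso_inv, Category.comp_id]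
  letI algAB : Algebra A B := φ.hom.toAlgebra
  have hφfin : φ.hom.Finite := by
    haveI : IsNoetherianRing Γ(Spec (CommRingCat.of A), ⊤) :=
      isNoetherianRing_of_ringEquiv A
        (Scheme.ΓSpecIso (CommRingCat.of A)).symm.commRingCatIsoToRingEquiv
    have h1 : p.appTop.hom.Finite := Groth.Agent.Helper1.Stein.finite_appTop_of_isProper p
    have h2 : (Scheme.ΓSpecIso (CommRingCat.of A)).inv.hom.Finite :=
      RingHom.Finite.of_surjective _
        (ConcreteCategory.bijective_of_isIso (Scheme.ΓSpecIso (CommRingCat.of A)).inv).2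
    show (p.appTop.hom.comp (Scheme.ΓSpecIso (CommRingCat.of A)).inv.hom).Finite
    exact h1.comp h2
  haveI hfinAB : Module.Finite A B := hφfin
  haveI : IsNoetherianRing B := IsNoetherianRing.of_finite A B
  let t : Y ⟶ Spec B := Y.toSpecΓ
  haveI : IsProper (t ≫ Spec.map φ) := by rw [hfac]; infer_instance
  haveI : IsProper t := IsProper.of_comp t (Spec.map φ)
  haveI : CompactSpace Y := QuasiCompact.compactSpace_of_compactSpace p
  have hpre : ∀ z : ↥(Spec B), _root_.IsPreconnected (t ⁻¹' {z}) := by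
    intro z
    refine isPreconnected_preimage_singleton t z ⊤ (isAffineOpen_top _) trivial ?_
    show IsIso t.appTop
    rw [Scheme.toSpecΓ_appTop]
    infer_instance
  have hsurj : Function.Surjective t := by
    have h1 : IsClosed (Set.range t) := t.isClosedMap.isClosed_range
    haveI : IsDominant Y.toSpecΓ := inferInstance
    have h2 : DenseRange Y.toSpecΓ := (Y.toSpecΓ).denseRange
    intro z
    have : z ∈ closure (Set.range t) := h2 z
    rwa [h1.closure_eq] at this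
  obtain ⟨Y₀, hY₀⟩ : ∃ Y₀ : Set Y, Y₀ = t ⁻¹' (PrimeSpectrum.zeroLocus (𝔞 : Set B)) := ⟨_, rfl⟩
  have hVO' : O ∩ Y₀ = V := by rw [hY₀]; exact hVO
  have hY₀c : IsClosed Y₀ := by
    rw [hY₀]; exact (PrimeSpectrum.isClosed_zeroLocus _).preimage t.continuous
  -- fibre dichotomy
  have hfib : ∀ v ∈ V, ∀ y : Y, t y = t v → y ∈ V := by
    intro v hv y hy
    have hvY₀ : v ∈ Y₀ := by rw [← hVO'] at hv; exact hv.2
    have hsub : t ⁻¹' {t v} ⊆ Y₀ := by
      intro w hw
      have hw' : t w = t v := hw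
      rw [hY₀] at hvY₀ ⊢
      rw [Set.mem_preimage] at hvY₀ ⊢
      rw [hw']
      exact hvY₀
    exact subset_of_isPreconnected_of_relClopen _ Y₀ V O (hpre (t v)) hsub hVc hO hVO'
      ⟨v, rfl, hv⟩ hy
  -- the two closed pieces of V(𝔞)
  have hS₁ : IsClosed (t '' V) := t.isClosedMap _ hVc
  have hY₀V : Y₀ \ V = Y₀ \ O := by
    rw [← hVO']
    ext y; simp only [Set.mem_sdiff, Set.mem_inter_iff]; tauto
  have hS₂ : IsClosed (t '' (Y₀ \ V)) := by
    rw [hY₀V]
    exact t.isClosedMap _ (hY₀c.sdiff hO)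
  have hdisj : ∀ z, z ∈ t '' V → z ∉ t '' (Y₀ \ V) := by
    rintro _ ⟨v, hv, rfl⟩ ⟨y, ⟨-, hyV⟩, hy⟩
    exact hyV (hfib v hv y hy)
  have hcov : ∀ z ∈ PrimeSpectrum.zeroLocus (𝔞 : Set B), z ∈ t '' V ∨ z ∈ t '' (Y₀ \ V) := by
    intro z hz
    obtain ⟨y, rfl⟩ := hsurj z
    have hyY₀ : y ∈ Y₀ := by rw [hY₀]; exact hz
    by_cases hyV : y ∈ V
    · exact Or.inl ⟨y, hyV, rfl⟩
    · exact Or.inr ⟨y, ⟨hyY₀, hyV⟩, rfl⟩
  -- the clopen subset of Spec (B ⧸ 𝔞)
  let q : B →+* (B ⧸ 𝔞) := Ideal.Quotient.mk 𝔞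
  have hqrange : ∀ zb : PrimeSpectrum (B ⧸ 𝔞),
      PrimeSpectrum.comap q zb ∈ PrimeSpectrum.zeroLocus (𝔞 : Set B) := by
    intro zb
    have : PrimeSpectrum.comap q zb ∈ Set.range (PrimeSpectrum.comap q) := ⟨zb, rfl⟩
    rw [range_comap_of_surjective _ _ Ideal.Quotient.mk_surjective,
      Ideal.mk_ker] at this
    exact this
  have hD₁ : IsClopen ((PrimeSpectrum.comap q) ⁻¹' (t '' V)) := by
    refine ⟨hS₁.preimage (PrimeSpectrum.continuous_comap q), ?_⟩
    have : (PrimeSpectrum.comap q) ⁻¹' (t '' V) =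
        ((PrimeSpectrum.comap q) ⁻¹' (t '' (Y₀ \ V)))ᶜ := by
      ext zb
      simp only [Set.mem_preimage, Set.mem_compl_iff]
      constructor
      · exact fun h => hdisj _ h
      · intro h
        rcases hcov _ (hqrange zb) with h' | h'
        · exact h'
        · exact (h h').elim
    rw [this]
    exact (hS₂.preimage (PrimeSpectrum.continuous_comap q)).isOpen_compl
  obtain ⟨ē, hē, hD₁e⟩ := PrimeSpectrum.isClopen_iff.mp hD₁
  obtain ⟨e, he, heē⟩ := exists_idem_lift_of_henselian 𝔞 ē hē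
  have hE : IsClopen (PrimeSpectrum.basicOpen e : Set (PrimeSpectrum B)) :=
    PrimeSpectrum.isClopen_iff.mpr ⟨e, he, rfl⟩
  have hEtr : ∀ z ∈ PrimeSpectrum.zeroLocus (𝔞 : Set B),
      (z ∈ (PrimeSpectrum.basicOpen e : Set (PrimeSpectrum B)) ↔ z ∈ t '' V) := by
    intro z hz
    have hz' : z ∈ Set.range (PrimeSpectrum.comap q) := by
      rw [range_comap_of_surjective _ _ Ideal.Quotient.mk_surjective, Ideal.mk_ker]
      exact hz
    obtain ⟨zb, rfl⟩ := hz'
    have h1 : PrimeSpectrum.comap q zb ∈ t '' V ↔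
        zb ∈ (PrimeSpectrum.basicOpen ē : Set (PrimeSpectrum (B ⧸ 𝔞))) := by
      rw [← hD₁e]; rfl
    rw [h1]
    show e ∉ (PrimeSpectrum.comap q zb).asIdeal ↔ ē ∉ zb.asIdeal
    rw [← heē]
    rfl
  refine ⟨t ⁻¹' (PrimeSpectrum.basicOpen e : Set (PrimeSpectrum B)),
    ⟨hE.preimage t.continuous, ?_⟩, ?_⟩
  · rw [← hY₀]
    ext y
    constructor
    · rintro ⟨hy1, hy2⟩
      have hy2' : t y ∈ PrimeSpectrum.zeroLocus (𝔞 : Set B) := by rw [hY₀] at hy2; exact hy2
      obtain ⟨v, hv, hvy⟩ := (hEtr _ hy2').mp hy1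
      exact hfib v hv y hvy.symm
    · intro hy
      have hyY₀ : y ∈ Y₀ := by rw [← hVO'] at hy; exact hy.2
      have hy2' : t y ∈ PrimeSpectrum.zeroLocus (𝔞 : Set B) := by rw [hY₀] at hyY₀; exact hyY₀
      exact ⟨(hEtr _ hy2').mpr ⟨y, hy, rfl⟩, hyY₀⟩
  · rintro U' ⟨hU', hU'V⟩
    rw [← hY₀] at hU'V
    -- uniqueness
    have hkey : ∀ D : Set Y, IsClosed D → D ∩ Y₀ = ∅ → D = ∅ := by
      intro D hD hDY₀
      by_contra hne
      obtain ⟨d, hd⟩ := Set.nonempty_iff_ne_empty.mpr hne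
      obtain ⟨𝔪, h𝔪, hle⟩ := Ideal.exists_le_maximal (t d).asIdeal (t d).2.ne_top
      let m : PrimeSpectrum B := ⟨𝔪, h𝔪.isPrime⟩
      have hsp : t d ⤳ m := (PrimeSpectrum.le_iff_specializes (t d) m).mp hle
      have hm : m ∈ t '' D := hsp.mem_closed (t.isClosedMap _ hD) ⟨d, hd, rfl⟩
      obtain ⟨d', hd', hd'm⟩ := hm
      have hjac : 𝔞 ≤ 𝔪 := by
        have h1 : 𝔞 ≤ Ideal.jacobson ⊥ := HenselianRing.jac
        refine h1.trans ?_
        exact sInf_le ⟨bot_le, h𝔪⟩
      have : d' ∈ D ∩ Y₀ := by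
        refine ⟨hd', ?_⟩
        rw [hY₀]
        show t d' ∈ PrimeSpectrum.zeroLocus (𝔞 : Set B)
        rw [hd'm]
        exact hjac
      rw [hDY₀] at this
      exact this
    have hEV : t ⁻¹' (PrimeSpectrum.basicOpen e : Set (PrimeSpectrum B)) ∩ Y₀ = V := by
      ext y
      constructor
      · rintro ⟨hy1, hy2⟩
        have hy2' : t y ∈ PrimeSpectrum.zeroLocus (𝔞 : Set B) := by rw [hY₀] at hy2; exact hy2
        obtain ⟨v, hv, hvy⟩ := (hEtr _ hy2').mp hy1
        exact hfib v hv y hvy.symm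
      · intro hy
        have hyY₀ : y ∈ Y₀ := by rw [← hVO'] at hy; exact hy.2
        have hy2' : t y ∈ PrimeSpectrum.zeroLocus (𝔞 : Set B) := by rw [hY₀] at hyY₀; exact hyY₀
        exact ⟨(hEtr _ hy2').mpr ⟨y, hy, rfl⟩, hyY₀⟩
    have hUc := hE.preimage t.continuous
    have h1 : U' \ t ⁻¹' (PrimeSpectrum.basicOpen e : Set (PrimeSpectrum B)) = ∅ := by
      apply hkey _ (hU'.1.sdiff hUc.2)
      ext y
      simp only [Set.mem_inter_iff, Set.mem_sdiff, Set.mem_empty_iff_false, iff_false]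
      rintro ⟨⟨hy1, hy2⟩, hy3⟩
      have : y ∈ V := by rw [← hU'V]; exact ⟨hy1, hy3⟩
      rw [← hEV] at this
      exact hy2 this.1
    have h2 : t ⁻¹' (PrimeSpectrum.basicOpen e : Set (PrimeSpectrum B)) \ U' = ∅ := by
      apply hkey _ (hUc.1.sdiff hU'.2)
      ext y
      simp only [Set.mem_inter_iff, Set.mem_sdiff, Set.mem_empty_iff_false, iff_false]
      rintro ⟨⟨hy1, hy2⟩, hy3⟩
      have : y ∈ V := by rw [← hEV]; exact ⟨hy1, hy3⟩
      rw [← hU'V] at this
      exact hy2 this.1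
    apply Set.Subset.antisymm
    · exact Set.sdiff_eq_empty.mp h1
    · exact Set.sdiff_eq_empty.mp h2

end Groth.Agent.Lib.Helper4.HensCouple1
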