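import Mathlib
import Groth.Agent.S0526
import Groth.Agent.Lib.Helper4.HensCouple1

/-!
# Henselian couples: clopen subsets of proper schemes (S17961, S17960) (helper4)
-/

set_option backward.isDefEq.respectTransparency.types false
set_option synthInstance.maxHeartbeats 400000
set_option autoImplicit false
set_option linter.unusedSectionVars false
set_option linter.style.haveILetI false
set_option linter.unusedSimpArgs false
universe u v w
open CategoryTheory CategoryTheory.Limits AlgebraicGeometry TopologicalSpace Topology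

namespace Groth.Agent.Lib.Helper4.HensCouple2

open Groth.Agent.Lib.Helper4.HensCouple1

/-- transport of the unique clopen extension property along a closed embedding -/
theorem existsUnique_preimage_of_isClosedEmbedding {W Y : Type*} [TopologicalSpace W]
    [TopologicalSpace Y] (j : W → Y) (hj : Topology.IsClosedEmbedding j)
    (H : ∀ (V' : Set Y), IsClosed V' → ∀ O : Set Y, IsOpen O → O ∩ Set.range j = V' →
      ∃! U : Set Y, IsClopen U ∧ U ∩ Set.range j = V')
    (V : Set W) (hV : IsClopen V) : ∃! U : Set Y, IsClopen U ∧ j ⁻¹' U = V := by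
  obtain ⟨O, hO, hOV⟩ := hj.isInducing.isOpen_iff.mp hV.2
  have hjV : O ∩ Set.range j = j '' V := by
    rw [← hOV, Set.image_preimage_eq_inter_range]
  have hconv : ∀ U : Set Y, (U ∩ Set.range j = j '' V ↔ j ⁻¹' U = V) := by
    intro U
    constructor
    · intro h
      have : j ⁻¹' (U ∩ Set.range j) = j ⁻¹' (j '' V) := by rw [h]
      rw [Set.preimage_inter, Set.preimage_range, Set.inter_univ,
        Set.preimage_image_eq _ hj.injective] at this
      exact this
    · intro h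
      rw [← h, Set.image_preimage_eq_inter_range]
  obtain ⟨U, ⟨hU1, hU2⟩, hU3⟩ := H (j '' V) (hj.isClosedMap _ hV.1) O hO hjV
  refine ⟨U, ⟨hU1, (hconv U).mp hU2⟩, ?_⟩
  rintro U' ⟨hU'1, hU'2⟩
  exact hU3 U' ⟨hU'1, (hconv U').mpr hU'2⟩

/-- the range of the projection from the part over `V(I)` -/
theorem range_fst_fst_eq {A : Type u} [CommRing A] (I : Ideal A) {X Y : Scheme.{u}}
    (f : X ⟶ Spec (CommRingCat.of A)) (g : Y ⟶ X) :
    Set.range (pullback.fst g (pullback.fst f
      (Spec.map (CommRingCat.ofHom (Ideal.Quotient.mk I))))) =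
      (g ≫ f) ⁻¹' (PrimeSpectrum.zeroLocus (I : Set A)) := by
  rw [Scheme.Pullback.range_fst, Scheme.Pullback.range_fst]
  have : Set.range (Spec.map (CommRingCat.ofHom (Ideal.Quotient.mk I))) =
      PrimeSpectrum.zeroLocus (I : Set A) := by
    have h1 := range_comap_of_surjective _ (Ideal.Quotient.mk I) Ideal.Quotient.mk_surjective
    rw [Ideal.mk_ker] at h1
    exact h1
  rw [this]
  rfl

/-- **S17961** -/
theorem S17961_main (A : Type u) [CommRing A] [IsNoetherianRing A] (I : Ideal A)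
    [HenselianRing A I] {X : Scheme.{u}} (f : X ⟶ Spec (CommRingCat.of A)) [IsProper f] :
    ∀ (Y : Scheme.{u}) (g : Y ⟶ X), IsFinite g →
      ∀ V : Set ↥(pullback g (pullback.fst f
        (Spec.map (CommRingCat.ofHom (Ideal.Quotient.mk I))))), IsClopen V →
        ∃! U : Set ↥Y, IsClopen U ∧ (pullback.fst g (pullback.fst f
          (Spec.map (CommRingCat.ofHom (Ideal.Quotient.mk I))))).base ⁻¹' U = V := by
  intro Y g hg V hV
  haveI := hg
  haveI : IsProper (g ≫ f) := inferInstance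
  haveI : IsClosedImmersion (Spec.map (CommRingCat.ofHom (Ideal.Quotient.mk I))) :=
    IsClosedImmersion.spec_of_surjective _ Ideal.Quotient.mk_surjective
  haveI : IsClosedImmersion (pullback.fst f
      (Spec.map (CommRingCat.ofHom (Ideal.Quotient.mk I)))) := inferInstance
  haveI : IsClosedImmersion (pullback.fst g (pullback.fst f
      (Spec.map (CommRingCat.ofHom (Ideal.Quotient.mk I))))) := inferInstance
  let φ : CommRingCat.of A ⟶ Γ(Y, ⊤) :=
    (Scheme.ΓSpecIso (CommRingCat.of A)).inv ≫ (g ≫ f).appTop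
  have hfac : Y.toSpecΓ ≫ Spec.map φ = g ≫ f := by
    show Y.toSpecΓ ≫ Spec.map ((Scheme.ΓSpecIso (CommRingCat.of A)).inv ≫ (g ≫ f).appTop) = g ≫ f
    rw [Spec.map_comp, ← Category.assoc, ← Scheme.toSpecΓ_naturality, Category.assoc]
    rw [toSpecΓ_SpecMap_ΓSpecIso_inv, Category.comp_id]
  letI algAB : Algebra A Γ(Y, ⊤) := φ.hom.toAlgebra
  have hφfin : φ.hom.Finite := by
    haveI : IsNoetherianRing Γ(Spec (CommRingCat.of A), ⊤) :=
      isNoetherianRing_of_ringEquiv A
        (Scheme.ΓSpecIso (CommRingCat.of A)).symm.commRingCatIsoToRingEquiv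
    have h1 : (g ≫ f).appTop.hom.Finite :=
      Groth.Agent.Helper1.Stein.finite_appTop_of_isProper (g ≫ f)
    have h2 : (Scheme.ΓSpecIso (CommRingCat.of A)).inv.hom.Finite :=
      RingHom.Finite.of_surjective _
        (ConcreteCategory.bijective_of_isIso (Scheme.ΓSpecIso (CommRingCat.of A)).inv).2
    show ((g ≫ f).appTop.hom.comp (Scheme.ΓSpecIso (CommRingCat.of A)).inv.hom).Finite
    exact h1.comp h2
  haveI hfinAB : Module.Finite A Γ(Y, ⊤) := hφfin
  haveI : Algebra.IsIntegral A Γ(Y, ⊤) := Algebra.IsIntegral.of_finite A _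
  haveI hH : HenselianRing Γ(Y, ⊤) (Ideal.map (algebraMap A Γ(Y, ⊤)) I) :=
    Groth.Agent.S0526.result A I Γ(Y, ⊤)
  have hY₀ : Set.range (pullback.fst g (pullback.fst f
      (Spec.map (CommRingCat.ofHom (Ideal.Quotient.mk I))))) =
      Y.toSpecΓ ⁻¹' (PrimeSpectrum.zeroLocus
        ((Ideal.map (algebraMap A Γ(Y, ⊤)) I : Ideal Γ(Y, ⊤)) : Set Γ(Y, ⊤))) := by
    rw [range_fst_fst_eq, ← hfac]
    ext y
    constructor
    · intro hy
      have h2 : I ≤ Ideal.comap (algebraMap A Γ(Y, ⊤)) (Y.toSpecΓ y).asIdeal :=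
        fun a ha => hy ha
      exact fun c hc => Ideal.map_le_iff_le_comap.mpr h2 hc
    · intro hy a ha
      have h2 : Ideal.map (algebraMap A Γ(Y, ⊤)) I ≤ (Y.toSpecΓ y).asIdeal :=
        fun c hc => hy hc
      exact Ideal.map_le_iff_le_comap.mp h2 ha
  apply existsUnique_preimage_of_isClosedEmbedding _
    (Scheme.Hom.isClosedEmbedding _) _ V hV
  intro V' hV'c O hO hOV'
  rw [hY₀] at hOV' ⊢
  exact existsUnique_isClopen_of_henselian A (g ≫ f) _ V' hV'c O hO hOV'

/-- the locus of the kernel of restriction to the part over `V(I)` -/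
theorem preimage_zeroLocus_ker_eq_range {A : Type u} [CommRing A] (I : Ideal A) {X : Scheme.{u}}
    (f : X ⟶ Spec (CommRingCat.of A)) :
    X.toSpecΓ ⁻¹' (PrimeSpectrum.zeroLocus ((RingHom.ker (pullback.fst f
      (Spec.map (CommRingCat.ofHom (Ideal.Quotient.mk I)))).appTop.hom : Ideal Γ(X, ⊤)) :
        Set Γ(X, ⊤))) =
      Set.range (pullback.fst f (Spec.map (CommRingCat.ofHom (Ideal.Quotient.mk I)))) := by
  obtain ⟨i₀, hi₀⟩ : ∃ i₀ : pullback f (Spec.map (CommRingCat.ofHom (Ideal.Quotient.mk I))) ⟶ X,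
      i₀ = pullback.fst f (Spec.map (CommRingCat.ofHom (Ideal.Quotient.mk I))) := ⟨_, rfl⟩
  rw [← hi₀]
  let φ : CommRingCat.of A ⟶ Γ(X, ⊤) := (Scheme.ΓSpecIso (CommRingCat.of A)).inv ≫ f.appTop
  have hfac : X.toSpecΓ ≫ Spec.map φ = f := by
    show X.toSpecΓ ≫ Spec.map ((Scheme.ΓSpecIso (CommRingCat.of A)).inv ≫ f.appTop) = f
    rw [Spec.map_comp, ← Category.assoc, ← Scheme.toSpecΓ_naturality, Category.assoc]
    rw [toSpecΓ_SpecMap_ΓSpecIso_inv, Category.comp_id]
  have hrange : Set.range i₀ = f ⁻¹' (PrimeSpectrum.zeroLocus (I : Set A)) := by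
    rw [hi₀, Scheme.Pullback.range_fst]
    have : Set.range (Spec.map (CommRingCat.ofHom (Ideal.Quotient.mk I))) =
        PrimeSpectrum.zeroLocus (I : Set A) := by
      have h1 := range_comap_of_surjective _ (Ideal.Quotient.mk I) Ideal.Quotient.mk_surjective
      rw [Ideal.mk_ker] at h1
      exact h1
    rw [this]
  have hker : ∀ a ∈ I, φ.hom a ∈ RingHom.ker i₀.appTop.hom := by
    intro a ha
    rw [RingHom.mem_ker]
    have h1 : φ ≫ i₀.appTop = CommRingCat.ofHom (Ideal.Quotient.mk I) ≫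
        (Scheme.ΓSpecIso (CommRingCat.of (A ⧸ I))).inv ≫
          (pullback.snd f (Spec.map (CommRingCat.ofHom (Ideal.Quotient.mk I)))).appTop := by
      show ((Scheme.ΓSpecIso (CommRingCat.of A)).inv ≫ f.appTop) ≫ i₀.appTop = _
      rw [Category.assoc, ← Scheme.Hom.comp_appTop, hi₀, pullback.condition,
        Scheme.Hom.comp_appTop, ← Category.assoc, ← Scheme.ΓSpecIso_inv_naturality,
        Category.assoc]
    have h2 := congr($(h1) a)
    have h3 : (CommRingCat.ofHom (Ideal.Quotient.mk I)) a = 0 :=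
      Ideal.Quotient.eq_zero_iff_mem.mpr ha
    rw [CommRingCat.comp_apply] at h2
    rw [h2, CommRingCat.comp_apply, h3, map_zero]
  apply Set.Subset.antisymm
  · intro x hx
    rw [hrange]
    intro a ha
    have h1 : φ.hom a ∈ (X.toSpecΓ x).asIdeal := hx (hker a ha)
    have h2 : (f x).asIdeal = Ideal.comap φ.hom (X.toSpecΓ x).asIdeal := by
      rw [← hfac]; rfl
    show a ∈ (f x).asIdeal
    rw [h2]
    exact h1
  · rintro _ ⟨x₀, rfl⟩ b hb
    by_contra hnot
    have h1 : i₀ x₀ ∈ X.toSpecΓ ⁻¹ᵁ PrimeSpectrum.basicOpen b := hnot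
    rw [Scheme.toSpecΓ_preimage_basicOpen] at h1
    have h2 : x₀ ∈ i₀ ⁻¹ᵁ X.basicOpen b := h1
    rw [Scheme.preimage_basicOpen] at h2
    have h3 : i₀.appTop.hom b = 0 := hb
    have h4 : (CategoryTheory.ConcreteCategory.hom (i₀.app ⊤)) b = 0 := h3
    rw [h4, Scheme.basicOpen_zero] at h2
    exact h2

/-- **S17960** -/
theorem S17960_main (A : Type u) [CommRing A] [IsNoetherianRing A] (I : Ideal A) {X : Scheme.{u}}
    (f : X ⟶ Spec (CommRingCat.of A)) [IsProper f]
    (h : HenselianRing (Γ(X, ⊤) : Type u)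
      (RingHom.ker (pullback.fst f
        (Spec.map (CommRingCat.ofHom (Ideal.Quotient.mk I)))).appTop.hom)) :
    ∀ (Y : Scheme.{u}) (g : Y ⟶ X), IsFinite g →
      ∀ V : Set ↥(pullback g (pullback.fst f
        (Spec.map (CommRingCat.ofHom (Ideal.Quotient.mk I))))), IsClopen V →
        ∃! U : Set ↥Y, IsClopen U ∧ (pullback.fst g (pullback.fst f
          (Spec.map (CommRingCat.ofHom (Ideal.Quotient.mk I))))).base ⁻¹' U = V := by
  intro Y g hg V hV
  haveI := hg
  haveI := h
  haveI : IsProper (g ≫ f) := inferInstance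
  haveI : IsClosedImmersion (Spec.map (CommRingCat.ofHom (Ideal.Quotient.mk I))) :=
    IsClosedImmersion.spec_of_surjective _ Ideal.Quotient.mk_surjective
  haveI : IsClosedImmersion (pullback.fst f
      (Spec.map (CommRingCat.ofHom (Ideal.Quotient.mk I)))) := inferInstance
  haveI : IsClosedImmersion (pullback.fst g (pullback.fst f
      (Spec.map (CommRingCat.ofHom (Ideal.Quotient.mk I))))) := inferInstance
  obtain ⟨J, hJ⟩ : ∃ J : Ideal Γ(X, ⊤), J = RingHom.ker (pullback.fst f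
      (Spec.map (CommRingCat.ofHom (Ideal.Quotient.mk I)))).appTop.hom := ⟨_, rfl⟩
  haveI hHJ : HenselianRing Γ(X, ⊤) J := by rw [hJ]; exact h
  -- finiteness of `Γ(Y, ⊤)` over `Γ(X, ⊤)`
  have hfinYA : ((g ≫ f).appTop.hom.comp
      (Scheme.ΓSpecIso (CommRingCat.of A)).inv.hom).Finite := by
    haveI : IsNoetherianRing Γ(Spec (CommRingCat.of A), ⊤) :=
      isNoetherianRing_of_ringEquiv A
        (Scheme.ΓSpecIso (CommRingCat.of A)).symm.commRingCatIsoToRingEquiv
    have h1 : (g ≫ f).appTop.hom.Finite :=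
      Groth.Agent.Helper1.Stein.finite_appTop_of_isProper (g ≫ f)
    have h2 : (Scheme.ΓSpecIso (CommRingCat.of A)).inv.hom.Finite :=
      RingHom.Finite.of_surjective _
        (ConcreteCategory.bijective_of_isIso (Scheme.ΓSpecIso (CommRingCat.of A)).inv).2
    exact h1.comp h2
  have hgfin : g.appTop.hom.Finite := by
    have h1 : (g ≫ f).appTop.hom.comp (Scheme.ΓSpecIso (CommRingCat.of A)).inv.hom =
        g.appTop.hom.comp (f.appTop.hom.comp (Scheme.ΓSpecIso (CommRingCat.of A)).inv.hom) := by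
      rw [Scheme.Hom.comp_appTop]; rfl
    rw [h1] at hfinYA
    exact RingHom.Finite.of_comp_finite hfinYA
  letI algBC : Algebra Γ(X, ⊤) Γ(Y, ⊤) := g.appTop.hom.toAlgebra
  haveI : Module.Finite Γ(X, ⊤) Γ(Y, ⊤) := hgfin
  haveI : Algebra.IsIntegral Γ(X, ⊤) Γ(Y, ⊤) := Algebra.IsIntegral.of_finite _ _
  haveI hH : HenselianRing Γ(Y, ⊤) (Ideal.map (algebraMap Γ(X, ⊤) Γ(Y, ⊤)) J) :=
    Groth.Agent.S0526.result Γ(X, ⊤) J Γ(Y, ⊤)
  have hY₀ : Set.range (pullback.fst g (pullback.fst f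
      (Spec.map (CommRingCat.ofHom (Ideal.Quotient.mk I))))) =
      Y.toSpecΓ ⁻¹' (PrimeSpectrum.zeroLocus
        ((Ideal.map (algebraMap Γ(X, ⊤) Γ(Y, ⊤)) J : Ideal Γ(Y, ⊤)) : Set Γ(Y, ⊤))) := by
    rw [Scheme.Pullback.range_fst, ← preimage_zeroLocus_ker_eq_range, ← hJ]
    ext y
    have hnat : X.toSpecΓ (g y) = (Spec.map g.appTop) (Y.toSpecΓ y) := by
      rw [← Scheme.Hom.comp_apply, ← Scheme.Hom.comp_apply, Scheme.toSpecΓ_naturality]
    constructor
    · intro hy
      have hy' : X.toSpecΓ (g y) ∈ PrimeSpectrum.zeroLocus (J : Set Γ(X, ⊤)) := hy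
      rw [hnat] at hy'
      have h2 : J ≤ Ideal.comap (algebraMap Γ(X, ⊤) Γ(Y, ⊤)) (Y.toSpecΓ y).asIdeal :=
        fun a ha => hy' ha
      exact fun c hc => Ideal.map_le_iff_le_comap.mpr h2 hc
    · intro hy
      have h2 : Ideal.map (algebraMap Γ(X, ⊤) Γ(Y, ⊤)) J ≤ (Y.toSpecΓ y).asIdeal :=
        fun c hc => hy hc
      have h3 := Ideal.map_le_iff_le_comap.mp h2
      show X.toSpecΓ (g y) ∈ PrimeSpectrum.zeroLocus (J : Set Γ(X, ⊤))
      rw [hnat]
      exact fun a ha => h3 ha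
  apply existsUnique_preimage_of_isClosedEmbedding _
    (Scheme.Hom.isClosedEmbedding _) _ V hV
  intro V' hV'c O hO hOV'
  rw [hY₀] at hOV' ⊢
  exact existsUnique_isClopen_of_henselian A (g ≫ f) _ V' hV'c O hO hOV'

end Groth.Agent.Lib.Helper4.HensCouple2
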