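import Mathlib
import Groth.Agent.S0526
import Groth.Agent.Lib.Helper4.HensCouple2
import Groth.Agent.Lib.Helper4.ConnHartogs1

/-!
# Connected components of proper schemes over complete Noetherian rings (S13506) (helper4)
-/

set_option backward.isDefEq.respectTransparency.types false
set_option synthInstance.maxHeartbeats 400000
set_option autoImplicit false
set_option linter.unusedSectionVars false
set_option linter.style.haveILetI false
set_option linter.unusedSimpArgs false
universe u v w
open CategoryTheory CategoryTheory.Limits AlgebraicGeometry TopologicalSpace Topology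

namespace Groth.Agent.Lib.Helper4.HensCouple3

open Groth.Agent.Lib.Helper4.HensCouple1 Groth.Agent.Lib.Helper4.HensCouple2

/-- bijection on connected components from unique clopen extension -/
theorem bijective_connectedComponentsMap_of_existsUnique {W Y : Type*} [TopologicalSpace W]
    [TopologicalSpace Y] [NoetherianSpace W] [NoetherianSpace Y] (j : W → Y) (hj : Continuous j)
    (H : ∀ V : Set W, IsClopen V → ∃! U : Set Y, IsClopen U ∧ j ⁻¹' U = V) :
    Function.Bijective hj.connectedComponentsMap := by
  constructor
  · intro a b hab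
    obtain ⟨x, rfl⟩ := ConnectedComponents.surjective_coe a
    obtain ⟨y, rfl⟩ := ConnectedComponents.surjective_coe b
    rw [Continuous.connectedComponentsMap_mk, Continuous.connectedComponentsMap_mk] at hab
    have hab' : connectedComponent (j x) = connectedComponent (j y) :=
      ConnectedComponents.coe_eq_coe.mp hab
    have hV : IsClopen (connectedComponent x) :=
      ⟨isClosed_connectedComponent,
        Groth.Agent.Lib.Helper4.ConnHartogs1.isOpen_connectedComponent_of_noetherian x⟩
    obtain ⟨U, ⟨hU1, hU2⟩, -⟩ := H _ hV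
    have hx : j x ∈ U := by
      have : x ∈ j ⁻¹' U := by rw [hU2]; exact mem_connectedComponent
      exact this
    have hsub : connectedComponent (j x) ⊆ U := hU1.connectedComponent_subset hx
    have hy : j y ∈ U := hsub (by rw [hab']; exact mem_connectedComponent)
    have hy' : y ∈ connectedComponent x := by rw [← hU2]; exact hy
    exact ConnectedComponents.coe_eq_coe.mpr (connectedComponent_eq hy')
  · intro b
    obtain ⟨y, rfl⟩ := ConnectedComponents.surjective_coe b
    have hC : IsClopen (connectedComponent y) :=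
      ⟨isClosed_connectedComponent,
        Groth.Agent.Lib.Helper4.ConnHartogs1.isOpen_connectedComponent_of_noetherian y⟩
    by_cases hne : (j ⁻¹' connectedComponent y).Nonempty
    · obtain ⟨x, hx⟩ := hne
      refine ⟨(x : ConnectedComponents W), ?_⟩
      rw [Continuous.connectedComponentsMap_mk]
      exact ConnectedComponents.coe_eq_coe.mpr (connectedComponent_eq hx).symm
    · exfalso
      rw [Set.not_nonempty_iff_eq_empty] at hne
      obtain ⟨U, -, hU3⟩ := H ∅ isClopen_empty
      have h1 := hU3 (connectedComponent y) ⟨hC, hne⟩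
      have h2 := hU3 ∅ ⟨isClopen_empty, Set.preimage_empty⟩
      have h3 : connectedComponent y = ∅ := h1.trans h2.symm
      have : y ∈ (∅ : Set Y) := by rw [← h3]; exact mem_connectedComponent
      exact this

/-- unique clopen extension from the part over `V(I)` for a Henselian pair -/
theorem existsUnique_isClopen_preimage_of_range_eq (A : Type u) [CommRing A] [IsNoetherianRing A]
    (I : Ideal A) [HenselianRing A I] {Y : Scheme.{u}} (p : Y ⟶ Spec (CommRingCat.of A))
    [IsProper p] {W : Type*} [TopologicalSpace W] (j : W → Y) (hj : Topology.IsClosedEmbedding j)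
    (hrange : Set.range j = p ⁻¹' (PrimeSpectrum.zeroLocus (I : Set A)))
    (V : Set W) (hV : IsClopen V) : ∃! U : Set Y, IsClopen U ∧ j ⁻¹' U = V := by
  let φ : CommRingCat.of A ⟶ Γ(Y, ⊤) :=
    (Scheme.ΓSpecIso (CommRingCat.of A)).inv ≫ p.appTop
  have hfac : Y.toSpecΓ ≫ Spec.map φ = p := by
    show Y.toSpecΓ ≫ Spec.map ((Scheme.ΓSpecIso (CommRingCat.of A)).inv ≫ p.appTop) = p
    rw [Spec.map_comp, ← Category.assoc, ← Scheme.toSpecΓ_naturality, Category.assoc]
    rw [toSpecΓ_SpecMap_ΓSpecIso_inv, Category.comp_id]
  letI algAB : Algebra A Γ(Y, ⊤) := φ.hom.toAlgebra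
  have hφfin : φ.hom.Finite := by
    haveI : IsNoetherianRing Γ(Spec (CommRingCat.of A), ⊤) :=
      isNoetherianRing_of_ringEquiv A
        (Scheme.ΓSpecIso (CommRingCat.of A)).symm.commRingCatIsoToRingEquiv
    have h1 : p.appTop.hom.Finite :=
      Groth.Agent.Helper1.Stein.finite_appTop_of_isProper p
    have h2 : (Scheme.ΓSpecIso (CommRingCat.of A)).inv.hom.Finite :=
      RingHom.Finite.of_surjective _
        (ConcreteCategory.bijective_of_isIso (Scheme.ΓSpecIso (CommRingCat.of A)).inv).2
    show (p.appTop.hom.comp (Scheme.ΓSpecIso (CommRingCat.of A)).inv.hom).Finite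
    exact h1.comp h2
  haveI hfinAB : Module.Finite A Γ(Y, ⊤) := hφfin
  haveI : Algebra.IsIntegral A Γ(Y, ⊤) := Algebra.IsIntegral.of_finite A _
  haveI hH : HenselianRing Γ(Y, ⊤) (Ideal.map (algebraMap A Γ(Y, ⊤)) I) :=
    Groth.Agent.S0526.result A I Γ(Y, ⊤)
  have hY₀ : Set.range j =
      Y.toSpecΓ ⁻¹' (PrimeSpectrum.zeroLocus
        ((Ideal.map (algebraMap A Γ(Y, ⊤)) I : Ideal Γ(Y, ⊤)) : Set Γ(Y, ⊤))) := by
    rw [hrange, ← hfac]
    ext y
    constructor
    · intro hy
      have h2 : I ≤ Ideal.comap (algebraMap A Γ(Y, ⊤)) (Y.toSpecΓ y).asIdeal :=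
        fun a ha => hy ha
      exact fun c hc => Ideal.map_le_iff_le_comap.mpr h2 hc
    · intro hy a ha
      have h2 : Ideal.map (algebraMap A Γ(Y, ⊤)) I ≤ (Y.toSpecΓ y).asIdeal :=
        fun c hc => hy hc
      exact Ideal.map_le_iff_le_comap.mp h2 ha
  apply existsUnique_preimage_of_isClosedEmbedding _ hj _ V hV
  intro V' hV'c O hO hOV'
  rw [hY₀] at hOV' ⊢
  exact existsUnique_isClopen_of_henselian A p _ V' hV'c O hO hOV'

/-- **S13506** -/
theorem S13506_main (A : Type u) [CommRing A]
    [IsNoetherianRing A] (I : Ideal A) [IsAdicComplete I A] {X : Scheme.{u}}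
    (f : X ⟶ Spec (CommRingCat.of A)) [IsProper f] :
    Function.Bijective
      (Continuous.connectedComponentsMap
        (pullback.fst f (Spec.map (CommRingCat.ofHom (Ideal.Quotient.mk I)))).continuous) := by
  haveI : IsClosedImmersion (Spec.map (CommRingCat.ofHom (Ideal.Quotient.mk I))) :=
    IsClosedImmersion.spec_of_surjective _ Ideal.Quotient.mk_surjective
  haveI : IsClosedImmersion (pullback.fst f
      (Spec.map (CommRingCat.ofHom (Ideal.Quotient.mk I)))) := inferInstance
  haveI : IsLocallyNoetherian X := LocallyOfFiniteType.isLocallyNoetherian f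
  haveI : CompactSpace X := QuasiCompact.compactSpace_of_compactSpace f
  haveI : IsNoetherian X := {}
  haveI : NoetherianSpace X := inferInstance
  haveI : NoetherianSpace ↥(pullback f (Spec.map (CommRingCat.ofHom (Ideal.Quotient.mk I)))) :=
    (Scheme.Hom.isClosedEmbedding (pullback.fst f
      (Spec.map (CommRingCat.ofHom (Ideal.Quotient.mk I))))).isInducing.noetherianSpace
  apply bijective_connectedComponentsMap_of_existsUnique
  intro V hV
  haveI : HenselianRing A I := inferInstance
  refine existsUnique_isClopen_preimage_of_range_eq A I f _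
    (Scheme.Hom.isClosedEmbedding _) ?_ V hV
  rw [Scheme.Pullback.range_fst]
  have : Set.range (Spec.map (CommRingCat.ofHom (Ideal.Quotient.mk I))) =
      PrimeSpectrum.zeroLocus (I : Set A) := by
    have h1 := range_comap_of_surjective _ (Ideal.Quotient.mk I) Ideal.Quotient.mk_surjective
    rw [Ideal.mk_ker] at h1
    exact h1
  rw [this]

end Groth.Agent.Lib.Helper4.HensCouple3
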