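import Mathlib
import Groth.Agent.Lib.Helper4.GeomCnt3
import Groth.Agent.Lib.Helper4.HensCouple3
import Groth.Agent.Lib.Helper4.HensProper3
import Groth.Agent.Lib.Helper4.OpenTransfer1
import Groth.Agent.Lib.Helper4.ConnHartogs1

/-!
# Geometric number of connected components over a strictly Henselian discrete valuation ring (helper4)
-/

set_option backward.isDefEq.respectTransparency.types false
set_option synthInstance.maxHeartbeats 400000
set_option autoImplicit false
set_option linter.unusedSectionVars false
set_option linter.style.haveILetI false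
set_option linter.unusedSimpArgs false
universe u v w
open CategoryTheory CategoryTheory.Limits AlgebraicGeometry TopologicalSpace Topology

namespace Groth.Agent.Lib.Helper4.GeomCnt4

open Groth.Agent.Lib.Helper4.GeomCnt1 Groth.Agent.Lib.Helper4.GeomCnt2
  Groth.Agent.Lib.Helper4.GeomCnt3 Groth.Agent.Lib.Helper4.UO
  Groth.Agent.Helper7.GeomConn

theorem zeroLocus_maximalIdeal_eq (A : Type u) [CommRing A] [IsLocalRing A] :
    PrimeSpectrum.zeroLocus ((IsLocalRing.maximalIdeal A : Ideal A) : Set A) =
      {IsLocalRing.closedPoint A} := by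
  ext p
  rw [Set.mem_singleton_iff, PrimeSpectrum.mem_zeroLocus]
  constructor
  · intro hp
    apply PrimeSpectrum.ext
    exact ((IsLocalRing.maximalIdeal.isMaximal A).eq_of_le p.isPrime.ne_top hp).symm
  · rintro rfl; exact le_refl _

/-- over a Henselian local Noetherian ring, the trace on the closed fibre of a connected
component of a proper scheme is connected -/
theorem isConnected_component_inter_closedFibre (A : Type u) [CommRing A] [IsNoetherianRing A]
    [HenselianLocalRing A] {X : Scheme.{u}} (f : X ⟶ Spec (CommRingCat.of A)) [IsProper f]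
    (x : X) : _root_.IsConnected (connectedComponent x ∩ f ⁻¹' {clPt A}) := by
  haveI : IsLocallyNoetherian X := LocallyOfFiniteType.isLocallyNoetherian f
  haveI : CompactSpace X := QuasiCompact.compactSpace_of_compactSpace f
  haveI : IsNoetherian X := {}
  haveI : NoetherianSpace X := inferInstance
  obtain ⟨j, hj⟩ : ∃ j : f.fiber (clPt A) ⟶ X, j = f.fiberι (clPt A) := ⟨_, rfl⟩
  have hrange : Set.range j = f ⁻¹' {clPt A} := by rw [hj]; exact f.range_fiberι _
  have hjemb : Topology.IsClosedEmbedding j := by
    refine ⟨by rw [hj]; exact (f.fiberι _).isEmbedding, ?_⟩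
    rw [hrange]
    exact (isClosed_singleton_clPt A).preimage f.continuous
  haveI : NoetherianSpace ↥(f.fiber (clPt A)) := by
    haveI : LocallyOfFiniteType (f.fiberToSpecResidueField (clPt A)) :=
      MorphismProperty.pullback_snd (P := @LocallyOfFiniteType) _ _ inferInstance
    haveI : QuasiCompact (f.fiberToSpecResidueField (clPt A)) :=
      MorphismProperty.pullback_snd (P := @QuasiCompact) _ _ inferInstance
    haveI : IsLocallyNoetherian (f.fiber (clPt A)) :=
      LocallyOfFiniteType.isLocallyNoetherian (f.fiberToSpecResidueField (clPt A))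
    haveI : CompactSpace ↥(f.fiber (clPt A)) :=
      QuasiCompact.compactSpace_of_compactSpace (f.fiberToSpecResidueField (clPt A))
    haveI : IsNoetherian (f.fiber (clPt A)) := {}
    infer_instance
  have hrange' : Set.range j = f ⁻¹' (PrimeSpectrum.zeroLocus
      ((IsLocalRing.maximalIdeal A : Ideal A) : Set A)) := by
    rw [hrange, zeroLocus_maximalIdeal_eq]
    rfl
  have hbij := Groth.Agent.Lib.Helper4.HensCouple3.bijective_connectedComponentsMap_of_existsUnique
    j j.continuous
    (Groth.Agent.Lib.Helper4.HensCouple3.existsUnique_isClopen_preimage_of_range_eq A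
      (IsLocalRing.maximalIdeal A) f j hjemb hrange')
  -- a point of the closed fibre in the component of `x`
  obtain ⟨c, hc⟩ := hbij.2 (x : _root_.ConnectedComponents ↥X)
  obtain ⟨w₁, rfl⟩ := ConnectedComponents.surjective_coe c
  rw [Continuous.connectedComponentsMap_mk, ConnectedComponents.coe_eq_coe'] at hc
  -- hc : j w₁ ∈ connectedComponent x
  have hW : j ⁻¹' connectedComponent x = connectedComponent w₁ := by
    apply Set.Subset.antisymm
    · intro w₂ hw₂
      have h1 : ((j w₂ : ↥X) : _root_.ConnectedComponents ↥X) = (j w₁ : ↥X) := by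
        rw [ConnectedComponents.coe_eq_coe']
        have h2 : connectedComponent (j w₁) = connectedComponent x := (connectedComponent_eq hc).symm
        rw [h2]
        exact hw₂
      have h3 : j.continuous.connectedComponentsMap (w₂ : _root_.ConnectedComponents _) =
          j.continuous.connectedComponentsMap (w₁ : _root_.ConnectedComponents _) := by
        rw [Continuous.connectedComponentsMap_mk, Continuous.connectedComponentsMap_mk]
        exact h1
      have h4 := hbij.1 h3
      rw [ConnectedComponents.coe_eq_coe'] at h4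
      exact h4
    · intro w₂ hw₂
      have h1 := j.continuous.image_connectedComponent_subset w₁ ⟨w₂, hw₂, rfl⟩
      have h2 : connectedComponent (j w₁) = connectedComponent x := (connectedComponent_eq hc).symm
      rw [h2] at h1
      exact h1
  have himg : connectedComponent x ∩ f ⁻¹' {clPt A} = j '' connectedComponent w₁ := by
    rw [← hW, Set.image_preimage_eq_inter_range, hrange]
  rw [himg]
  exact isConnected_connectedComponent.image _ j.continuous.continuousOn

theorem geomAt_connected_closedPoint (A : Type u) [CommRing A] [IsNoetherianRing A]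
    [HenselianLocalRing A] [IsSepClosed (IsLocalRing.ResidueField A)] {X : Scheme.{u}}
    (f : X ⟶ Spec (CommRingCat.of A)) [IsProper f] (x : X) (Cx : X.Opens)
    (hCx : (Cx : Set X) = connectedComponent x) :
    GeomAt (fun Z => ConnectedSpace ↥Z) (Cx.ι ≫ f) (clPt A) := by
  have h1 := isConnected_component_inter_closedFibre A f x
  -- the fibre of the component is connected
  have h2 : _root_.IsConnected ((Cx.ι ≫ f) ⁻¹' {clPt A}) := by
    have himg : Cx.ι '' ((Cx.ι ≫ f) ⁻¹' {clPt A}) = connectedComponent x ∩ f ⁻¹' {clPt A} := by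
      have : (Cx.ι ≫ f) ⁻¹' {clPt A} = Cx.ι ⁻¹' (f ⁻¹' {clPt A}) := by
        rw [Scheme.Hom.comp_base, TopCat.coe_comp, Set.preimage_comp]
      rw [this, Set.image_preimage_eq_inter_range, Scheme.Opens.range_ι, hCx, Set.inter_comm]
    rw [← himg] at h1
    refine ⟨?_, ?_⟩
    · obtain ⟨_, ⟨z, hz, -⟩⟩ := h1.nonempty
      exact ⟨z, hz⟩
    · exact (Cx.ι.isEmbedding.isInducing.isPreconnected_image).mp h1.isPreconnected
  haveI : ConnectedSpace ↥((Cx.ι ≫ f) ⁻¹' {clPt A}) := isConnected_iff_connectedSpace.mp h2
  haveI : ConnectedSpace ↥((Cx.ι ≫ f).fiber (clPt A)) :=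
    ((Cx.ι ≫ f).fiberHomeo (clPt A)).symm.surjective.connectedSpace
      ((Cx.ι ≫ f).fiberHomeo (clPt A)).symm.continuous
  haveI : IsSepClosed ((Spec (CommRingCat.of A)).residueField (IsLocalRing.closedPoint A)) :=
    Groth.Agent.Lib.Helper4.HensProper3.isSepClosed_residueField_closedPoint A
  have h3 : GeometricallyConnected ((Cx.ι ≫ f).fiberToSpecResidueField (clPt A)) :=
    geometricallyConnected_of_isSepClosed
      (Ω := (Spec (CommRingCat.of A)).residueField (IsLocalRing.closedPoint A))
      ((Cx.ι ≫ f).fiberToSpecResidueField (clPt A))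
  exact GeomAt.of_geometrically (fun Z => ConnectedSpace ↥Z) _ _ h3.geometrically_connectedSpace

theorem isClosedImmersion_ι_of_isClosed {X : Scheme.{u}} (U : X.Opens)
    (hU : IsClosed (U : Set X)) : IsClosedImmersion U.ι := by
  apply IsClosedImmersion.of_isPreimmersion
  rw [Scheme.Opens.range_ι]
  exact hU

theorem geomAt_isReduced_ι {X Y : Scheme.{u}} (f : X ⟶ Y) (y₀ : Y) (U : X.Opens)
    (H : GeomAt (fun Z => IsReduced Z) f y₀) : GeomAt (fun Z => IsReduced Z) (U.ι ≫ f) y₀ := by
  intro Ω _ y hy
  haveI : IsReduced (pullback f y) := H Ω y hy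
  haveI : IsReduced (pullback U.ι (pullback.fst f y)) :=
    isReduced_of_isOpenImmersion (pullback.snd U.ι (pullback.fst f y))
  exact isReduced_of_isOpenImmersion (pullbackRightPullbackFstIso f y U.ι).inv

theorem isUnivOpenAt_ι_comp {X Y : Scheme.{u}} (f : X ⟶ Y) (U : X.Opens) (z : ↥U)
    (h : EGA43.IsUnivOpenAt f (U.ι z)) : EGA43.IsUnivOpenAt (U.ι ≫ f) z :=
  Groth.Agent.Lib.Helper4.OpenTransfer1.isUnivOpenAt_of_isOpenImmersion f U.ι (𝟙 Y) (U.ι ≫ f)
    (by rw [Category.comp_id]) z h

/-- strictly Henselian discrete valuation ring: the geometric numbers of connected components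
of the two fibres agree -/
theorem nGeomConnComp_genPt_eq_clPt (A : Type u) [CommRing A] [IsDomain A]
    [IsDiscreteValuationRing A] [HenselianLocalRing A] [IsSepClosed (IsLocalRing.ResidueField A)]
    {X : Scheme.{u}} (f : X ⟶ Spec (CommRingCat.of A)) [IsProper f]
    (hU : ∀ x : X, f x = clPt A → EGA43.IsUnivOpenAt f x)
    (hR : GeomAt (fun Z => IsReduced Z) f (clPt A)) :
    MoreMor.nGeomConnComp f (genPt A) = MoreMor.nGeomConnComp f (clPt A) := by
  haveI : IsLocallyNoetherian X := LocallyOfFiniteType.isLocallyNoetherian f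
  haveI : CompactSpace X := QuasiCompact.compactSpace_of_compactSpace f
  haveI : IsNoetherian X := {}
  haveI : NoetherianSpace X := inferInstance
  obtain ⟨C, hC⟩ : ∃ C : X → X.Opens, ∀ x : X, (C x : Set X) = connectedComponent x :=
    ⟨fun x => ⟨connectedComponent x,
      Groth.Agent.Lib.Helper4.ConnHartogs1.isOpen_connectedComponent_of_noetherian x⟩,
      fun x => rfl⟩
  have hcl : ∀ x : X, GeomAt (fun Z => ConnectedSpace ↥Z) ((C x).ι ≫ f) (clPt A) :=
    fun x => geomAt_connected_closedPoint A f x (C x) (hC x)
  have hgen : ∀ x : X, GeomAt (fun Z => ConnectedSpace ↥Z) ((C x).ι ≫ f) (genPt A) := by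
    intro x
    haveI : IsClosedImmersion (C x).ι :=
      isClosedImmersion_ι_of_isClosed (C x) (by rw [hC x]; exact isClosed_connectedComponent)
    haveI : IsProper ((C x).ι ≫ f) := inferInstance
    refine geomAt_connected_generic A ((C x).ι ≫ f) ?_ (hcl x) (geomAt_isReduced_ι f _ (C x) hR)
    intro z hz
    exact isUnivOpenAt_ι_comp f (C x) z (hU _ (by rw [← Scheme.Hom.comp_apply]; exact hz))
  rw [nGeomConnComp_eq_card_of_geomAt f (genPt A) C hC hgen,
    nGeomConnComp_eq_card_of_geomAt f (clPt A) C hC hcl]

theorem surjective_connectedComponentsMap_fst {X Y T : Scheme.{u}} (f : X ⟶ Y) (t : T ⟶ Y)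
    (hne : ∀ x : X, ∃ g : ↥(pullback f t), pullback.fst f t g ∈ connectedComponent x) :
    Function.Surjective (pullback.fst f t).continuous.connectedComponentsMap := by
  intro c
  obtain ⟨x, rfl⟩ := ConnectedComponents.surjective_coe c
  obtain ⟨g, hg⟩ := hne x
  refine ⟨(g : _root_.ConnectedComponents _), ?_⟩
  rw [Continuous.connectedComponentsMap_mk, ConnectedComponents.coe_eq_coe']
  exact hg

/-- strictly Henselian discrete valuation ring: lower semicontinuity -/
theorem nGeomConnComp_clPt_le_genPt (A : Type u) [CommRing A] [IsDomain A]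
    [IsDiscreteValuationRing A] [HenselianLocalRing A] [IsSepClosed (IsLocalRing.ResidueField A)]
    {X : Scheme.{u}} (f : X ⟶ Spec (CommRingCat.of A)) [IsProper f]
    (hU : ∀ x : X, f x = clPt A → EGA43.IsUnivOpenAt f x) :
    MoreMor.nGeomConnComp f (clPt A) ≤ MoreMor.nGeomConnComp f (genPt A) := by
  haveI : IsLocallyNoetherian X := LocallyOfFiniteType.isLocallyNoetherian f
  haveI : CompactSpace X := QuasiCompact.compactSpace_of_compactSpace f
  haveI : IsNoetherian X := {}
  haveI : NoetherianSpace X := inferInstance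
  obtain ⟨C, hC⟩ : ∃ C : X → X.Opens, ∀ x : X, (C x : Set X) = connectedComponent x :=
    ⟨fun x => ⟨connectedComponent x,
      Groth.Agent.Lib.Helper4.ConnHartogs1.isOpen_connectedComponent_of_noetherian x⟩,
      fun x => rfl⟩
  have hcl : ∀ x : X, GeomAt (fun Z => ConnectedSpace ↥Z) ((C x).ι ≫ f) (clPt A) :=
    fun x => geomAt_connected_closedPoint A f x (C x) (hC x)
  rw [nGeomConnComp_eq_card_of_geomAt f (clPt A) C hC hcl, nGeomConnComp_eq_card]
  have hsurj : Function.Surjective
      (pullback.fst f (geomPt _ (genPt A))).continuous.connectedComponentsMap := by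
    apply surjective_connectedComponentsMap_fst
    intro x
    -- a point of the component over the closed point
    have h1 : IsClosed (f.base '' (connectedComponent x)) :=
      f.isClosedMap _ isClosed_connectedComponent
    have h2 : clPt A ∈ f.base '' (connectedComponent x) :=
      (specializes_clPt A (f x)).mem_closed h1 ⟨x, mem_connectedComponent, rfl⟩
    obtain ⟨z, hzC, hz⟩ := h2
    have h3 := Groth.Agent.Lib.Helper4.ChevCrit4.isOpenAt_of_isUnivOpenAt f z (hU z hz)
    have hCz : connectedComponent x ∈ nhds z :=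
      (Groth.Agent.Lib.Helper4.ConnHartogs1.isOpen_connectedComponent_of_noetherian x).mem_nhds hzC
    have h4 := h3 _ hCz
    rw [hz] at h4
    obtain ⟨O, hO, hOo, hclO⟩ := mem_nhds_iff.mp h4
    have h5 : genPt A ∈ O := (genPt_specializes A _).mem_open hOo hclO
    obtain ⟨z', hz'C, hz'⟩ := hO h5
    obtain ⟨p⟩ : Nonempty ↥(Spec (CommRingCat.of
      (SeparableClosure ((Spec (CommRingCat.of A)).residueField (genPt A))))) := inferInstance
    obtain ⟨g, hg, -⟩ := Scheme.Pullback.exists_preimage_pullback (f := f)
      (g := geomPt _ (genPt A)) z' p (by rw [geomPt_apply]; exact hz')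
    exact ⟨g, by rw [hg]; exact hz'C⟩
  exact ENat.card_le_card_of_injective (Function.injective_surjInv hsurj)

end Groth.Agent.Lib.Helper4.GeomCnt4
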