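import Mathlib
import Groth.Agent.Lib.Helper4.GeomCnt4
import Groth.Agent.Lib.Helper4.UnivOpen2
import Groth.Agent.Lib.Helper4.OpenNoeth1
import Groth.Agent.Lib.Helper4.GCLocCons1

/-!
# Geometric number of connected components of a proper morphism near a point (EGA IV 15.5.7, 15.5.9) (helper4)
-/

set_option backward.isDefEq.respectTransparency.types false
set_option synthInstance.maxHeartbeats 400000
set_option autoImplicit false
set_option linter.unusedSectionVars false
set_option linter.style.haveILetI false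
set_option linter.unusedSimpArgs false
universe u v w
open CategoryTheory CategoryTheory.Limits AlgebraicGeometry TopologicalSpace Topology

namespace Groth.Agent.Lib.Helper4.GeomCnt5

open Groth.Agent.Lib.Helper4.GeomCnt1 Groth.Agent.Lib.Helper4.GeomCnt2
  Groth.Agent.Lib.Helper4.GeomCnt3 Groth.Agent.Lib.Helper4.GeomCnt4 Groth.Agent.Lib.Helper4.UO
  Groth.Agent.Helper7.GeomConn

/-- Red-1: discrete valuation rings, via a strictly Henselian extension -/
theorem dvr_case (R : Type u) [CommRing R] [IsDomain R] [IsDiscreteValuationRing R]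
    {X : Scheme.{u}} (f : X ⟶ Spec (CommRingCat.of R)) [IsProper f]
    (hU : ∀ x : X, f x = clPt R → EGA43.IsUnivOpenAt f x) :
    MoreMor.nGeomConnComp f (clPt R) ≤ MoreMor.nGeomConnComp f (genPt R) ∧
    (GeomAt (fun Z => IsReduced Z) f (clPt R) →
      MoreMor.nGeomConnComp f (genPt R) = MoreMor.nGeomConnComp f (clPt R)) := by
  obtain ⟨A, _, _, _, _, _, hloc, hff, hsc⟩ :=
    Groth.Agent.Lib.Helper4.HensProper3.exists_strictHenselian_dvr_extension R
  haveI := hloc
  haveI := hff
  haveI := hsc
  obtain ⟨g, hg⟩ : ∃ g : Spec (CommRingCat.of A) ⟶ Spec (CommRingCat.of R),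
      g = Spec.map (CommRingCat.ofHom (algebraMap R A)) := ⟨_, rfl⟩
  have hgcl : g (clPt A) = clPt R := by rw [hg]; exact SpecMap_clPt (algebraMap R A)
  have hinj : Function.Injective (algebraMap R A) := FaithfulSMul.algebraMap_injective R A
  have hggen : g (genPt A) = genPt R := by
    rw [hg]
    apply PrimeSpectrum.ext
    show Ideal.comap (algebraMap R A) ⊥ = ⊥
    rw [← RingHom.ker_eq_comap_bot]
    exact (RingHom.injective_iff_ker_eq_bot _).mp hinj
  have hc : IsPullback (pullback.fst f g) (pullback.snd f g) f g := IsPullback.of_hasPullback f g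
  have pbcond : ∀ p : ↥(pullback f g), f (pullback.fst f g p) = g (pullback.snd f g p) := by
    intro p
    have := congr($(pullback.condition (f := f) (g := g)) p)
    simpa only [Scheme.Hom.comp_apply] using this
  have hU' : ∀ p : ↥(pullback f g), pullback.snd f g p = clPt A →
      EGA43.IsUnivOpenAt (pullback.snd f g) p := by
    intro p hp
    refine isUnivOpenAt_of_isPullback (hU (pullback.fst f g p) ?_) hc p rfl
    rw [pbcond, hp, hgcl]
  have e1 := nGeomConnComp_baseChange f (pullback.snd f g) (pullback.fst f g) g hc (clPt A)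
  have e2 := nGeomConnComp_baseChange f (pullback.snd f g) (pullback.fst f g) g hc (genPt A)
  rw [hgcl] at e1
  rw [hggen] at e2
  refine ⟨?_, fun hR => ?_⟩
  · rw [← e1, ← e2]
    exact nGeomConnComp_clPt_le_genPt A (pullback.snd f g) hU'
  · rw [← e1, ← e2]
    exact nGeomConnComp_genPt_eq_clPt A (pullback.snd f g) hU'
      (GeomAt.baseChange _ hc (clPt A) (by rw [hgcl]; exact hR))

/-- Red-2: generizations in a locally Noetherian base -/
theorem generization_case {X Y : Scheme.{u}} [IsLocallyNoetherian Y] (f : X ⟶ Y) [IsProper f]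
    (y : Y) (h : ∀ x : X, f x = y → EGA43.IsUnivOpenAt f x) (y' : Y) (hy' : y' ⤳ y) :
    MoreMor.nGeomConnComp f y ≤ MoreMor.nGeomConnComp f y' ∧
    (GeometricallyReduced (f.fiberToSpecResidueField y) →
      MoreMor.nGeomConnComp f y' = MoreMor.nGeomConnComp f y) := by
  by_cases hne : y' = y
  · subst hne
    exact ⟨le_refl _, fun _ => rfl⟩
  obtain ⟨A, _, _, _, g, hgcl, hggen⟩ :=
    Groth.Agent.Lib.Helper4.UOp.exists_dvr_of_specializes y' y hy' hne
  have hgcl' : g (clPt A) = y := hgcl
  have hggen' : g (genPt A) = y' := hggen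
  have hc : IsPullback (pullback.fst f g) (pullback.snd f g) f g := IsPullback.of_hasPullback f g
  have pbcond : ∀ p : ↥(pullback f g), f (pullback.fst f g p) = g (pullback.snd f g p) := by
    intro p
    have := congr($(pullback.condition (f := f) (g := g)) p)
    simpa only [Scheme.Hom.comp_apply] using this
  have hU' : ∀ p : ↥(pullback f g), pullback.snd f g p = clPt A →
      EGA43.IsUnivOpenAt (pullback.snd f g) p := by
    intro p hp
    refine isUnivOpenAt_of_isPullback (h (pullback.fst f g p) ?_) hc p rfl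
    rw [pbcond, hp, hgcl']
  have e1 := nGeomConnComp_baseChange f (pullback.snd f g) (pullback.fst f g) g hc (clPt A)
  have e2 := nGeomConnComp_baseChange f (pullback.snd f g) (pullback.fst f g) g hc (genPt A)
  rw [hgcl'] at e1
  rw [hggen'] at e2
  obtain ⟨k1, k2⟩ := dvr_case A (pullback.snd f g) hU'
  refine ⟨?_, fun hR => ?_⟩
  · rw [← e1, ← e2]; exact k1
  · rw [← e1, ← e2]
    refine k2 (GeomAt.baseChange _ hc (clPt A) ?_)
    rw [hgcl']
    exact GeomAt.of_geometrically (fun Z => IsReduced Z) f y hR.geometrically_isReduced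

theorem S3416_main {X Y : Scheme.{u}} [IsLocallyNoetherian Y]
    (f : X ⟶ Y) [IsProper f] (y : Y) (h : ∀ x : X, f.base x = y → EGA43.IsUnivOpenAt f x)
    (hred : GeometricallyReduced (f.fiberToSpecResidueField y)) :
    ∃ V ∈ nhds y, ∀ z ∈ V, MoreMor.nGeomConnComp f z = MoreMor.nGeomConnComp f y := by
  refine ⟨{z : Y | MoreMor.nGeomConnComp f z = MoreMor.nGeomConnComp f y}, ?_, fun z hz => hz⟩
  apply Groth.Agent.Lib.Helper4.OpenNoeth1.mem_nhds_of_isLocallyConstructible
  · exact Groth.Agent.Lib.Helper4.GCLocCons1.isLocallyConstructible_nGeomConnComp_eq f _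
  · intro y' hy'
    exact (generization_case f y h y' hy').2 hred

theorem isLocallyConstructible_le {T : Type*} [TopologicalSpace T] (N : T → ℕ∞)
    (hN : ∀ n : ℕ∞, IsLocallyConstructible {z : T | N z = n}) (a : ℕ∞) :
    IsLocallyConstructible {z : T | a ≤ N z} := by
  induction a using ENat.recTopCoe with
  | top =>
    have : {z : T | ⊤ ≤ N z} = {z : T | N z = ⊤} := by
      ext z; exact (top_le_iff (a := N z))
    rw [this]; exact hN ⊤
  | coe m =>
    induction m with
    | zero =>
      have : {z : T | ((0 : ℕ) : ℕ∞) ≤ N z} = Set.univ := by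
        ext z; simp
      rw [this]; exact IsLocallyConstructible.univ
    | succ m ih =>
      have : {z : T | ((m + 1 : ℕ) : ℕ∞) ≤ N z} =
          {z : T | (m : ℕ∞) ≤ N z} ∩ {z : T | N z = (m : ℕ∞)}ᶜ := by
        ext z
        simp only [Set.mem_ofPred_eq, Set.mem_inter_iff, Set.mem_compl_iff, Nat.cast_add,
          Nat.cast_one]
        rw [ENat.natCast_add_one_le_iff, lt_iff_le_and_ne]
        exact ⟨fun ⟨h1, h2⟩ => ⟨h1, fun h => h2 h.symm⟩, fun ⟨h1, h2⟩ => ⟨h1, fun h => h2 h.symm⟩⟩
      rw [this]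
      exact ih.inter (Groth.Agent.Lib.Helper4.OpenNoeth1.isLocallyConstructible_compl (hN m))

theorem S3415_main {X Y : Scheme.{u}} [IsLocallyNoetherian Y] (f : X ⟶ Y)
    [IsProper f] (y : Y) (h : ∀ x : X, f.base x = y → EGA43.IsUnivOpenAt f x) :
    ∃ V ∈ nhds y, ∀ z ∈ V, MoreMor.nGeomConnComp f y ≤ MoreMor.nGeomConnComp f z := by
  refine ⟨{z : Y | MoreMor.nGeomConnComp f y ≤ MoreMor.nGeomConnComp f z}, ?_, fun z hz => hz⟩
  apply Groth.Agent.Lib.Helper4.OpenNoeth1.mem_nhds_of_isLocallyConstructible
  · exact isLocallyConstructible_le (fun z => MoreMor.nGeomConnComp f z)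
      (fun n => Groth.Agent.Lib.Helper4.GCLocCons1.isLocallyConstructible_nGeomConnComp_eq f n) _
  · intro y' hy'
    exact (generization_case f y h y' hy').1

end Groth.Agent.Lib.Helper4.GeomCnt5
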