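import Mathlib
import Groth.Prelude.Def_W4bk4git07Quot

/-!
# Geometric quotient separated iff image of (sigma,p2) closed (S11428) (helper4)
-/

set_option backward.isDefEq.respectTransparency.types false
set_option synthInstance.maxHeartbeats 400000
set_option autoImplicit false
set_option linter.unusedSectionVars false
set_option linter.style.haveILetI false
set_option linter.unusedSimpArgs false
universe u v w
open CategoryTheory CategoryTheory.Limits AlgebraicGeometry TopologicalSpace Opposite
open MonoidalCategory CartesianMonoidalCategory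

namespace Groth.Agent.Lib.Helper4.GitSep1

/-- base change of a universally submersive morphism in the first variable is a quotient map -/
theorem isQuotientMap_map_left {X' X Y S : Scheme.{u}} (ψ : X' ⟶ X) (hψ : GIT.IsUnivSubmersive ψ)
    (a : X ⟶ S) (b : Y ⟶ S) :
    Topology.IsQuotientMap (pullback.map (ψ ≫ a) b a b ψ (𝟙 Y) (𝟙 S) (by simp) (by simp)).base := by
  set m := pullback.map (ψ ≫ a) b a b ψ (𝟙 Y) (𝟙 S) (by simp) (by simp) with hm
  have hsnd : m ≫ pullback.snd a b = pullback.snd (ψ ≫ a) b :=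
    (pullback.lift_snd _ _ _).trans (Category.comp_id _)
  have hfst : m ≫ pullback.fst a b = pullback.fst (ψ ≫ a) b ≫ ψ := pullback.lift_fst _ _ _
  have outer : IsPullback (m ≫ pullback.snd a b) (pullback.fst (ψ ≫ a) b) b (ψ ≫ a) := by
    rw [hsnd]; exact (IsPullback.of_hasPullback (ψ ≫ a) b).flip
  have right : IsPullback (pullback.snd a b) (pullback.fst a b) b a :=
    (IsPullback.of_hasPullback a b).flip
  have left : IsPullback m (pullback.fst (ψ ≫ a) b) (pullback.fst a b) ψ :=
    IsPullback.of_right outer hfst right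
  exact hψ _ _ _ left

theorem isQuotientMap_map_right {X' X Y S : Scheme.{u}} (ψ : X' ⟶ X) (hψ : GIT.IsUnivSubmersive ψ)
    (a : X ⟶ S) (b : Y ⟶ S) :
    Topology.IsQuotientMap (pullback.map b (ψ ≫ a) b a (𝟙 Y) ψ (𝟙 S) (by simp) (by simp)).base := by
  set m := pullback.map b (ψ ≫ a) b a (𝟙 Y) ψ (𝟙 S) (by simp) (by simp) with hm
  have hfst : m ≫ pullback.fst b a = pullback.fst b (ψ ≫ a) :=
    (pullback.lift_fst _ _ _).trans (Category.comp_id _)
  have hsnd : m ≫ pullback.snd b a = pullback.snd b (ψ ≫ a) ≫ ψ := pullback.lift_snd _ _ _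
  have outer : IsPullback (m ≫ pullback.fst b a) (pullback.snd b (ψ ≫ a)) b (ψ ≫ a) := by
    rw [hfst]; exact IsPullback.of_hasPullback b (ψ ≫ a)
  have right : IsPullback (pullback.fst b a) (pullback.snd b a) b a :=
    IsPullback.of_hasPullback b a
  have left : IsPullback m (pullback.snd b (ψ ≫ a)) (pullback.snd b a) ψ :=
    IsPullback.of_right outer hsnd right
  exact hψ _ _ _ left

theorem main (S : Scheme.{u}) (G X Y : Over S) [GrpObj G]
    (a : AlgGrp.Action G X) (φ : X ⟶ Y) (h : GIT.IsGeomQuot a φ) :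
    IsSeparated Y.hom ↔ IsClosed (Set.range (GIT.psi a (𝟙 X)).left.base) := by
  have hw : φ.left ≫ Y.hom = X.hom := Over.w φ
  let κ0 : pullback φ.left φ.left ⟶ pullback (φ.left ≫ Y.hom) (φ.left ≫ Y.hom) :=
    pullback.map φ.left φ.left (φ.left ≫ Y.hom) (φ.left ≫ Y.hom) (𝟙 _) (𝟙 _) Y.hom
      (Category.id_comp _).symm (Category.id_comp _).symm
  let Φ : pullback (φ.left ≫ Y.hom) (φ.left ≫ Y.hom) ⟶ pullback Y.hom Y.hom :=
    pullback.map (φ.left ≫ Y.hom) (φ.left ≫ Y.hom) Y.hom Y.hom φ.left φ.left (𝟙 _)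
      (Category.comp_id _) (Category.comp_id _)
  have hP : IsPullback (pullback.fst φ.left φ.left ≫ φ.left) κ0 (pullback.diagonal Y.hom) Φ :=
    pullback_map_diagonal_isPullback φ.left φ.left Y.hom
  let c : pullback (φ.left ≫ Y.hom) (φ.left ≫ Y.hom) ≅ pullback X.hom X.hom :=
    pullback.congrHom hw hw
  have hcfst : c.hom ≫ pullback.fst X.hom X.hom = pullback.fst _ _ := by
    rw [pullback.congrHom_hom]
    exact (pullback.lift_fst _ _ _).trans (Category.comp_id _)
  have hcsnd : c.hom ≫ pullback.snd X.hom X.hom = pullback.snd _ _ := by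
    rw [pullback.congrHom_hom]
    exact (pullback.lift_snd _ _ _).trans (Category.comp_id _)
  have hκfst : κ0 ≫ pullback.fst _ _ = pullback.fst φ.left φ.left :=
    (pullback.lift_fst _ _ _).trans (Category.comp_id _)
  have hκsnd : κ0 ≫ pullback.snd _ _ = pullback.snd φ.left φ.left :=
    (pullback.lift_snd _ _ _).trans (Category.comp_id _)
  have hΨ : (GIT.psi a (𝟙 X)).left = GIT.PsiY a φ h.inv ≫ κ0 ≫ c.hom := by
    apply pullback.hom_ext
    · rw [Category.assoc, Category.assoc, hcfst, hκfst]
      have e1 : GIT.PsiY a φ h.inv ≫ pullback.fst φ.left φ.left = a.act.left :=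
        pullback.lift_fst _ _ _
      rw [e1]
      have e2 : (GIT.psi a (𝟙 X)).left ≫ pullback.fst X.hom X.hom =
          ((G ◁ 𝟙 X) ≫ a.act).left := by
        unfold GIT.psi
        rw [Over.lift_left]
        exact pullback.lift_fst _ _ _
      rw [e2, MonoidalCategory.whiskerLeft_id, Category.id_comp]
    · rw [Category.assoc, Category.assoc, hcsnd, hκsnd]
      have e1 : GIT.PsiY a φ h.inv ≫ pullback.snd φ.left φ.left = (snd G X).left :=
        pullback.lift_snd _ _ _
      rw [e1]
      unfold GIT.psi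
      rw [Over.lift_left]
      exact pullback.lift_snd _ _ _
  have hrange : Set.range (GIT.psi a (𝟙 X)).left.base = c.hom.base '' (Set.range κ0.base) := by
    rw [hΨ]
    ext z
    simp only [Set.mem_range, Set.mem_image, Scheme.Hom.comp_apply]
    constructor
    · rintro ⟨w, rfl⟩
      exact ⟨_, ⟨_, rfl⟩, rfl⟩
    · rintro ⟨_, ⟨v, rfl⟩, rfl⟩
      obtain ⟨w, rfl⟩ := h.orbit v
      exact ⟨w, rfl⟩
  have hcl : IsClosed (Set.range (GIT.psi a (𝟙 X)).left.base) ↔ IsClosed (Set.range κ0.base) := by
    rw [hrange]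
    exact (Scheme.homeoOfIso c).isClosed_image
  rw [hcl]
  have hr : Set.range κ0.base = Φ.base ⁻¹' Set.range (pullback.diagonal Y.hom).base := by
    have h0 := hP.isoPullback_hom_snd
    rw [← Scheme.Pullback.range_snd (pullback.diagonal Y.hom) Φ]
    ext z
    simp only [Set.mem_range]
    constructor
    · rintro ⟨w, rfl⟩
      exact ⟨hP.isoPullback.hom w, by rw [← Scheme.Hom.comp_apply, h0]⟩
    · rintro ⟨v, rfl⟩
      refine ⟨hP.isoPullback.inv v, ?_⟩
      have h1 := hP.isoPullback_inv_snd
      rw [← Scheme.Hom.comp_apply, h1]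
  constructor
  · intro hsep
    haveI : IsClosedImmersion (pullback.diagonal Y.hom) := hsep.isClosedImmersion_diagonal
    haveI : IsClosedImmersion κ0 := MorphismProperty.of_isPullback hP inferInstance
    exact κ0.isClosedEmbedding.isClosed_range
  · intro hclosed
    have hΦq : Topology.IsQuotientMap Φ.base := by
      let Φ1 : pullback (φ.left ≫ Y.hom) (φ.left ≫ Y.hom) ⟶ pullback Y.hom (φ.left ≫ Y.hom) :=
        pullback.map (φ.left ≫ Y.hom) (φ.left ≫ Y.hom) Y.hom (φ.left ≫ Y.hom)
          φ.left (𝟙 _) (𝟙 _) (by simp) (by simp)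
      let Φ2 : pullback Y.hom (φ.left ≫ Y.hom) ⟶ pullback Y.hom Y.hom :=
        pullback.map Y.hom (φ.left ≫ Y.hom) Y.hom Y.hom (𝟙 _) φ.left (𝟙 _) (by simp) (by simp)
      have h1 : Topology.IsQuotientMap Φ1.base :=
        isQuotientMap_map_left φ.left h.subm Y.hom (φ.left ≫ Y.hom)
      have h2 : Topology.IsQuotientMap Φ2.base :=
        isQuotientMap_map_right φ.left h.subm Y.hom Y.hom
      have e1 : Φ1 ≫ pullback.fst _ _ = pullback.fst _ _ ≫ φ.left := pullback.lift_fst _ _ _
      have e2 : Φ1 ≫ pullback.snd _ _ = pullback.snd _ _ :=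
        (pullback.lift_snd _ _ _).trans (Category.comp_id _)
      have e3 : Φ2 ≫ pullback.fst _ _ = pullback.fst _ _ :=
        (pullback.lift_fst _ _ _).trans (Category.comp_id _)
      have e4 : Φ2 ≫ pullback.snd _ _ = pullback.snd _ _ ≫ φ.left := pullback.lift_snd _ _ _
      have e5 : Φ ≫ pullback.fst _ _ = pullback.fst _ _ ≫ φ.left := pullback.lift_fst _ _ _
      have e6 : Φ ≫ pullback.snd _ _ = pullback.snd _ _ ≫ φ.left := pullback.lift_snd _ _ _
      have hΦ : Φ = Φ1 ≫ Φ2 := by
        apply pullback.hom_ext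
        · rw [e5, Category.assoc, e3, e1]
        · rw [e6, Category.assoc, e4, ← Category.assoc, e2]
      rw [hΦ]
      exact h2.comp h1
    have hD : IsClosed (Set.range (pullback.diagonal Y.hom).base) := by
      rw [← hΦq.isClosed_preimage, ← hr]; exact hclosed
    haveI : IsClosedImmersion (pullback.diagonal Y.hom) :=
      IsClosedImmersion.of_isPreimmersion _ hD
    exact ⟨inferInstance⟩

end Groth.Agent.Lib.Helper4.GitSep1
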