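import Mathlib
import Groth.Prelude.Def_ega3
import Groth.Agent.Lib.Helper4.UnivBC2

/-!
# Global functions of a proper flat scheme over a local ring with trivial closed-fibre functions (S14285) (helper4)
-/

set_option backward.isDefEq.respectTransparency.types false
set_option synthInstance.maxHeartbeats 400000
set_option autoImplicit false
set_option linter.unusedSectionVars false
set_option linter.style.haveILetI false
set_option linter.unusedSimpArgs false
universe u v w
open CategoryTheory CategoryTheory.Limits AlgebraicGeometry TopologicalSpace Opposite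

namespace Groth.Agent.Lib.Helper4.GlobSecLocal1

theorem bijective_of_iso {A B : CommRingCat.{u}} (e : A ⟶ B) [IsIso e] : Function.Bijective e :=
  (ConcreteCategory.isIso_iff_bijective _).1 inferInstance

theorem bijective_appTop_of_isIso {X Y : Scheme.{u}} (f : X ⟶ Y) [IsIso f] :
    Function.Bijective f.appTop := by
  haveI : IsIso f.appTop := by
    refine ⟨⟨(inv f).appTop, ?_, ?_⟩⟩
    · rw [← Scheme.Hom.comp_appTop, IsIso.inv_hom_id]; rfl
    · rw [← Scheme.Hom.comp_appTop, IsIso.hom_inv_id]; rfl
  exact bijective_of_iso _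

theorem main (R : Type u) [CommRing R] [IsLocalRing R] [IsNoetherianRing R]
    (X X₀ : Scheme.{u}) (g : X ⟶ Spec (CommRingCat.of R)) [IsProper g] [Flat g]
    (i : X₀ ⟶ X) (f₀ : X₀ ⟶ Spec (CommRingCat.of (R ⧸ IsLocalRing.maximalIdeal R)))
    (hsq : IsPullback i f₀ g
      (Spec.map (CommRingCat.ofHom (Ideal.Quotient.mk (IsLocalRing.maximalIdeal R)))))
    (h0 : Function.Bijective ((Scheme.ΓSpecIso (CommRingCat.of (R ⧸ IsLocalRing.maximalIdeal R))).inv ≫
      f₀.appTop)) :
    Function.Bijective ((Scheme.ΓSpecIso (CommRingCat.of R)).inv ≫ g.appTop) := by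
  let q : Spec (CommRingCat.of (IsLocalRing.ResidueField R)) ⟶ Spec (CommRingCat.of R) :=
    Spec.map (CommRingCat.ofHom (IsLocalRing.residue R))
  have hsq' : IsPullback i f₀ g q := hsq
  haveI : IsLocalHom (CommRingCat.ofHom (IsLocalRing.residue R)).hom := by
    show IsLocalHom (IsLocalRing.residue R)
    infer_instance
  have hy : q (IsLocalRing.closedPoint (IsLocalRing.ResidueField R)) = IsLocalRing.closedPoint R :=
    Spec_closedPoint (f := CommRingCat.ofHom (IsLocalRing.residue R))
  let φ : (Spec (CommRingCat.of R)).residueField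
      (q (IsLocalRing.closedPoint (IsLocalRing.ResidueField R))) ⟶
      CommRingCat.of (IsLocalRing.ResidueField R) :=
    Scheme.descResidueField (Scheme.stalkClosedPointTo q)
  have hφ : Spec.map φ ≫ (Spec (CommRingCat.of R)).fromSpecResidueField
      (q (IsLocalRing.closedPoint (IsLocalRing.ResidueField R))) = q :=
    Scheme.descResidueField_stalkClosedPointTo_fromSpecResidueField _ _ q
  have hφbij : Function.Bijective φ.hom := by
    constructor
    · exact φ.hom.injective
    · intro c
      obtain ⟨r, rfl⟩ := Ideal.Quotient.mk_surjective c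
      refine ⟨(Spec (CommRingCat.of R)).residue _
        ((Spec (CommRingCat.of R)).presheaf.germ ⊤ _ trivial
          ((Scheme.ΓSpecIso (CommRingCat.of R)).inv r)), ?_⟩
      have h1 := Scheme.residue_descResidueField (Scheme.stalkClosedPointTo q)
      have h2 := Scheme.germ_stalkClosedPointTo_Spec (CommRingCat.ofHom (IsLocalRing.residue R))
      have h3 := congr($(h1).hom ((Spec (CommRingCat.of R)).presheaf.germ ⊤ _ trivial
          ((Scheme.ΓSpecIso (CommRingCat.of R)).inv r)))
      have h4 := congr($(h2).hom ((Scheme.ΓSpecIso (CommRingCat.of R)).inv r))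
      simp only [CommRingCat.hom_comp, RingHom.comp_apply, CommRingCat.hom_ofHom] at h3 h4
      have h5 : (Scheme.ΓSpecIso (CommRingCat.of R)).hom.hom
          ((Scheme.ΓSpecIso (CommRingCat.of R)).inv.hom r) = r := by
        rw [← RingHom.comp_apply, ← CommRingCat.hom_comp, Iso.inv_hom_id]
        rfl
      rw [h5] at h4
      exact h3.trans h4
  haveI : IsIso φ := (ConcreteCategory.isIso_iff_bijective _).2 hφbij
  haveI : IsIso (Spec.map φ) :=
    ⟨⟨Spec.map (inv φ), by rw [← Spec.map_comp, IsIso.inv_hom_id, Spec.map_id],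
      by rw [← Spec.map_comp, IsIso.hom_inv_id, Spec.map_id]⟩⟩
  have hsq2 : IsPullback i (f₀ ≫ Spec.map φ) g ((Spec (CommRingCat.of R)).fromSpecResidueField
      (q (IsLocalRing.closedPoint (IsLocalRing.ResidueField R)))) := by
    let e₃ : Spec (CommRingCat.of (IsLocalRing.ResidueField R)) ≅
        Spec ((Spec (CommRingCat.of R)).residueField
          (q (IsLocalRing.closedPoint (IsLocalRing.ResidueField R)))) := asIso (Spec.map φ)
    have he₃ : e₃.hom = Spec.map φ := rfl
    exact IsPullback.of_iso hsq' (Iso.refl _) (Iso.refl _) e₃ (Iso.refl _)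
      (by simp) (by rw [Iso.refl_hom, Category.id_comp]; rfl) (by simp)
      (by rw [Iso.refl_hom, Category.comp_id]; exact hφ.symm)
  have hf₀ : Function.Bijective f₀.appTop := by
    have hb := bijective_of_iso (Scheme.ΓSpecIso (CommRingCat.of (R ⧸ IsLocalRing.maximalIdeal R))).inv
    have h0' : Function.Bijective (⇑f₀.appTop ∘
        ⇑(Scheme.ΓSpecIso (CommRingCat.of (R ⧸ IsLocalRing.maximalIdeal R))).inv) := h0
    exact (Function.Bijective.of_comp_iff _ hb).mp h0'
  have hsnd : Function.Bijective (g.fiberToSpecResidueField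
      (q (IsLocalRing.closedPoint (IsLocalRing.ResidueField R)))).appTop := by
    have e1 : hsq2.isoPullback.hom ≫ pullback.snd _ _ = f₀ ≫ Spec.map φ :=
      hsq2.isoPullback_hom_snd
    have e2 := congr(Scheme.Hom.appTop $e1)
    rw [Scheme.Hom.comp_appTop, Scheme.Hom.comp_appTop] at e2
    have hb1 : Function.Bijective hsq2.isoPullback.hom.appTop := bijective_appTop_of_isIso _
    have hb2 : Function.Bijective (Spec.map φ).appTop := bijective_appTop_of_isIso _
    have hb3 : Function.Bijective (⇑hsq2.isoPullback.hom.appTop ∘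
        ⇑(pullback.snd g ((Spec (CommRingCat.of R)).fromSpecResidueField
          (q (IsLocalRing.closedPoint (IsLocalRing.ResidueField R))))).appTop) := by
      have : Function.Bijective ((pullback.snd g ((Spec (CommRingCat.of R)).fromSpecResidueField
          (q (IsLocalRing.closedPoint (IsLocalRing.ResidueField R))))).appTop ≫
            hsq2.isoPullback.hom.appTop) := by
        rw [e2]
        exact hf₀.comp hb2
      exact this
    exact (Function.Bijective.of_comp_iff' hb1 _).mp hb3
  have hyb : Function.Bijective (algebraMap ((Spec (CommRingCat.of R)).residueField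
      (q (IsLocalRing.closedPoint (IsLocalRing.ResidueField R))))
      Γ(g.fiber (q (IsLocalRing.closedPoint (IsLocalRing.ResidueField R))), ⊤)) :=
    hsnd.comp (bijective_of_iso (Scheme.ΓSpecIso _).inv)
  obtain ⟨U, hyU, hU⟩ := Groth.Agent.Lib.Helper4.UnivBC2.exists_nhd_universal g _ hyb
  rw [hy] at hyU
  have hUtop : U = ⊤ := IsLocalRing.closed_point_mem_iff.mp hyU
  have h6 := hU (Spec (CommRingCat.of R)) (𝟙 _) ⊤ (isAffineOpen_top _) (by rw [hUtop]; exact le_top)
  have h7 : pullback.snd g (𝟙 (Spec (CommRingCat.of R))) = pullback.fst g (𝟙 _) ≫ g := by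
    rw [pullback.condition, Category.comp_id]
  have h8 : Function.Bijective ((pullback.fst g (𝟙 (Spec (CommRingCat.of R)))).appTop) :=
    bijective_appTop_of_isIso _
  have h9 : Function.Bijective (⇑(pullback.fst g (𝟙 (Spec (CommRingCat.of R)))).appTop ∘
      ⇑g.appTop) := by
    have : Function.Bijective (g.appTop ≫ (pullback.fst g (𝟙 (Spec (CommRingCat.of R)))).appTop) := by
      rw [← Scheme.Hom.comp_appTop, ← h7]
      exact h6
    exact this
  have h10 : Function.Bijective g.appTop := (Function.Bijective.of_comp_iff' h8 _).mp h9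
  exact h10.comp (bijective_of_iso (Scheme.ΓSpecIso (CommRingCat.of R)).inv)

end Groth.Agent.Lib.Helper4.GlobSecLocal1
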