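import Mathlib
import Groth.Agent.Lib.Helper2.Desc.AffDescAlg

/-!
# Hilbert 90 algebra: a unit cocycle in B⊗B for faithfully flat A→B is Zariski-locally a coboundary (helper4)
-/

set_option backward.isDefEq.respectTransparency.types false
set_option synthInstance.maxHeartbeats 400000
set_option autoImplicit false
set_option linter.unusedSectionVars false
set_option linter.style.haveILetI false
set_option linter.unusedSimpArgs false
universe u v w
open TensorProduct

namespace Groth.Agent.Lib.Helper4.GmTorsAlg1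
noncomputable section

section Loc1
variable {A B : Type u} [CommRing A] [CommRing B] [Algebra A B] [Module.FaithfullyFlat A B]

/-- the residue-field rank of a module becoming free of rank one after a faithfully flat base
change is one -/
theorem finrank_residueField_eq_one (L : Type u) [AddCommGroup L] [Module A L]
    (e : B ⊗[A] L ≃ₗ[B] B) (p : Ideal A) [p.IsPrime] :
    Module.finrank p.ResidueField (p.ResidueField ⊗[A] L) = 1 := by
  obtain ⟨q, hq⟩ := PrimeSpectrum.comap_surjective_of_faithfullyFlat (B := B) ⟨p, inferInstance⟩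
  have hqp : q.asIdeal.under A = p := congrArg PrimeSpectrum.asIdeal hq
  haveI : q.asIdeal.LiesOver p := ⟨hqp.symm⟩
  letI := Localization.AtPrime.algebraOfLiesOver p q.asIdeal
  haveI : Localization.AtPrime.IsLiesOverAlgebra p q.asIdeal := inferInstance
  letI : Algebra p.ResidueField q.asIdeal.ResidueField := inferInstance
  haveI : IsScalarTower A p.ResidueField q.asIdeal.ResidueField := inferInstance
  let K := p.ResidueField
  let F := q.asIdeal.ResidueField
  let e1 : F ⊗[K] (K ⊗[A] L) ≃ₗ[F] F ⊗[A] L :=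
    TensorProduct.AlgebraTensorModule.cancelBaseChange A K F F L
  let e2 : F ⊗[B] (B ⊗[A] L) ≃ₗ[F] F ⊗[A] L :=
    TensorProduct.AlgebraTensorModule.cancelBaseChange A B F F L
  let e3 : F ⊗[B] (B ⊗[A] L) ≃ₗ[F] F ⊗[B] B :=
    TensorProduct.AlgebraTensorModule.congr (LinearEquiv.refl F F) e
  let e4 : F ⊗[B] B ≃ₗ[F] F := TensorProduct.AlgebraTensorModule.rid B F F
  have h1 : Module.finrank F (F ⊗[K] (K ⊗[A] L)) = Module.finrank F F :=
    LinearEquiv.finrank_eq (e1.trans (e2.symm.trans (e3.trans e4)))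
  rw [Module.finrank_baseChange, Module.finrank_self] at h1
  exact h1

theorem exists_unit_generator (L : Submodule A B)
    (hbij : Function.Bijective (L.subtype.liftBaseChange B)) (p : Ideal A) [p.IsPrime] :
    ∃ f : A, f ∉ p ∧ ∃ ℓ ∈ L, ∃ b : B, ℓ * b = algebraMap A B f := by
  classical
  let e : B ⊗[A] L ≃ₗ[B] B := LinearEquiv.ofBijective _ hbij
  haveI : Module.Finite B (B ⊗[A] L) := Module.Finite.equiv e.symm
  haveI : Module.Finite A L := Module.Finite.of_finite_tensorProduct_of_faithfullyFlat B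
  have hrank := finrank_residueField_eq_one (A := A) (B := B) L e p
  let K := p.ResidueField
  obtain ⟨v, hv0, hv⟩ := (finrank_eq_one_iff' (K := K) (V := K ⊗[A] L)).1 hrank
  -- a pure tensor `1 ⊗ ℓ` which is nonzero
  obtain ⟨ℓ, hℓ⟩ : ∃ ℓ : L, (1 : K) ⊗ₜ[A] ℓ ≠ 0 := by
    by_contra hcon
    push Not at hcon
    have hall : ∀ z : K ⊗[A] L, z = 0 := by
      intro z
      induction z using TensorProduct.induction_on with
      | zero => rfl
      | tmul k m =>
        have : k ⊗ₜ[A] m = k • ((1 : K) ⊗ₜ[A] m) := by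
          rw [TensorProduct.smul_tmul', smul_eq_mul, mul_one]
        rw [this, hcon, smul_zero]
      | add x y hx hy => rw [hx, hy, add_zero]
    exact hv0 (hall v)
  -- it generates
  have hgen : ∀ w : K ⊗[A] L, ∃ c : K, c • ((1 : K) ⊗ₜ[A] ℓ) = w := by
    obtain ⟨c₀, hc₀⟩ := hv ((1 : K) ⊗ₜ[A] ℓ)
    have hc₀ne : c₀ ≠ 0 := by
      rintro rfl
      rw [zero_smul] at hc₀
      exact hℓ hc₀.symm
    intro w
    obtain ⟨c, hc⟩ := hv w
    refine ⟨c * c₀⁻¹, ?_⟩
    rw [← hc₀, smul_smul, mul_assoc, inv_mul_cancel₀ hc₀ne, mul_one, hc]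
  -- the quotient by the span of `ℓ`
  let N := L ⧸ (Submodule.span A {ℓ})
  let π : L →ₗ[A] N := (Submodule.span A {ℓ}).mkQ
  have hπℓ : π ℓ = 0 := (Submodule.Quotient.mk_eq_zero _).2 (Submodule.mem_span_singleton_self ℓ)
  have hsub : Subsingleton (K ⊗[A] N) := by
    refine ⟨fun x y => ?_⟩
    have h0 : ∀ z : K ⊗[A] N, z = 0 := by
      intro z
      obtain ⟨w, rfl⟩ := LinearMap.lTensor_surjective K (Submodule.mkQ_surjective _) z
      obtain ⟨c, rfl⟩ := hgen w
      have : (1 : K) ⊗ₜ[A] ℓ = (1 : K) ⊗ₜ[A] ℓ := rfl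
      rw [TensorProduct.smul_tmul', LinearMap.lTensor_tmul]
      change _ ⊗ₜ[A] π ℓ = 0
      rw [hπℓ, TensorProduct.tmul_zero]
    rw [h0 x, h0 y]
  have hsupp : (⟨p, inferInstance⟩ : PrimeSpectrum A) ∉ Module.support A N := by
    rw [Module.mem_support_iff_nontrivial_residueField_tensorProduct]
    exact not_nontrivial_iff_subsingleton.2 hsub
  rw [Module.mem_support_iff_of_finite] at hsupp
  obtain ⟨f, hfann, hfp⟩ := SetLike.not_le_iff_exists.1 hsupp
  refine ⟨f, hfp, (ℓ : B), ℓ.2, ?_⟩
  -- `f • L ⊆ A ℓ`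
  have hfL : ∀ m : L, ∃ c : A, f • m = c • ℓ := by
    intro m
    have h1 : f • π m = 0 := Module.mem_annihilator.1 hfann (π m)
    rw [← map_smul] at h1
    have h2 : f • m ∈ Submodule.span A {ℓ} := (Submodule.Quotient.mk_eq_zero _).1 h1
    obtain ⟨c, hc⟩ := Submodule.mem_span_singleton.1 h2
    exact ⟨c, hc.symm⟩
  have hkey : ∀ t : B ⊗[A] L, ∃ b : B,
      (L.subtype.liftBaseChange B t) * algebraMap A B f = (ℓ : B) * b := by
    intro t
    induction t using TensorProduct.induction_on with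
    | zero => exact ⟨0, by simp⟩
    | tmul b' m =>
      obtain ⟨c, hc⟩ := hfL m
      refine ⟨c • b', ?_⟩
      have hc' : f • (m : B) = c • (ℓ : B) := congrArg Subtype.val hc
      rw [LinearMap.liftBaseChange_tmul, Submodule.subtype_apply, smul_eq_mul, mul_assoc,
        mul_comm (m : B), ← Algebra.smul_def, hc', Algebra.smul_def, Algebra.smul_def]
      ring
    | add x y hx hy =>
      obtain ⟨b₁, h₁⟩ := hx
      obtain ⟨b₂, h₂⟩ := hy
      exact ⟨b₁ + b₂, by rw [map_add, add_mul, h₁, h₂, mul_add]⟩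
  obtain ⟨t, ht⟩ := hbij.2 1
  obtain ⟨b, hb⟩ := hkey t
  rw [ht, one_mul] at hb
  exact ⟨b, hb.symm⟩

end Loc1


section Alg1
open Algebra.TensorProduct
open Groth.Agent.Helper2.AffDesc
variable {A B : Type u} [CommRing A] [CommRing B] [Algebra A B]

/-- the twisted coaction `x ↦ v * (x ⊗ 1)` -/
def coact (v : B ⊗[A] B) : B →ₗ[B] B ⊗[A] B where
  toFun x := v * (x ⊗ₜ[A] (1 : B))
  map_add' x y := by rw [TensorProduct.add_tmul, mul_add]
  map_smul' b x := by
    simp only [RingHom.id_apply]
    rw [← TensorProduct.smul_tmul', mul_smul_comm]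

lemma coact_apply (v : B ⊗[A] B) (x : B) : coact v x = v * (x ⊗ₜ[A] (1 : B)) := rfl

lemma eps_eq_lmul (z : B ⊗[A] B) : eps A B B z = lmul' A (S := B) z := by
  induction z using TensorProduct.induction_on with
  | zero => simp
  | tmul b c => simp
  | add x y hx hy => rw [map_add, map_add, hx, hy]

variable [Module.FaithfullyFlat A B]

theorem exists_local_coboundary (v : B ⊗[A] B) (hv : IsUnit v)
    (hcoc : Algebra.TensorProduct.map (AlgHom.id A B) (includeRight : B →ₐ[A] B ⊗[A] B) v =
      (includeRight : B ⊗[A] B →ₐ[A] B ⊗[A] (B ⊗[A] B)) v *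
      Algebra.TensorProduct.map (AlgHom.id A B) (includeLeft : B →ₐ[A] B ⊗[A] B) v)
    (p : Ideal A) [p.IsPrime] :
    ∃ f : A, f ∉ p ∧ ∃ ℓ b : B, v * (ℓ ⊗ₜ[A] (1 : B)) = (1 : B) ⊗ₜ[A] ℓ ∧
      ℓ * b = algebraMap A B f := by
  -- `μ v = 1`
  let m : B ⊗[A] (B ⊗[A] B) →ₐ[A] B ⊗[A] B :=
    Algebra.TensorProduct.map (AlgHom.id A B) (lmul' A (S := B))
  have hm1 : ∀ y : B ⊗[A] B,
      m (Algebra.TensorProduct.map (AlgHom.id A B) (includeRight : B →ₐ[A] B ⊗[A] B) y) = y := by
    intro y
    induction y using TensorProduct.induction_on with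
    | zero => simp
    | tmul b c => simp [m]
    | add x y hx hy => rw [map_add, map_add, hx, hy]
  have hm2 : ∀ y : B ⊗[A] B,
      m (Algebra.TensorProduct.map (AlgHom.id A B) (includeLeft : B →ₐ[A] B ⊗[A] B) y) = y := by
    intro y
    induction y using TensorProduct.induction_on with
    | zero => simp
    | tmul b c => simp [m]
    | add x y hx hy => rw [map_add, map_add, hx, hy]
  have hm3 : ∀ y : B ⊗[A] B,
      m ((includeRight : B ⊗[A] B →ₐ[A] B ⊗[A] (B ⊗[A] B)) y) =
        (1 : B) ⊗ₜ[A] (lmul' A (S := B) y) := by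
    intro y
    simp [m]
  have hμ : lmul' A (S := B) v = 1 := by
    have h1 := congrArg m hcoc
    rw [map_mul, hm1, hm2, hm3] at h1
    have h2 : (1 : B) ⊗ₜ[A] (lmul' A (S := B) v) = (1 : B ⊗[A] B) := by
      obtain ⟨u, rfl⟩ := hv
      have := congrArg (fun z => z * ((u⁻¹ : (B ⊗[A] B)ˣ) : B ⊗[A] B)) h1
      simp only [mul_assoc, Units.mul_inv, mul_one] at this
      exact this.symm
    have h3 := congrArg (lmul' A (S := B)) h2
    simpa using h3
  have hU : ∀ n, eps A B B (coact v n) = n := by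
    intro n
    rw [eps_eq_lmul, coact_apply, map_mul, hμ, one_mul]
    simp
  have hl1 : ∀ y : B ⊗[A] B, LinearMap.lTensor B ((coact v).restrictScalars A) y =
      (includeRight : B ⊗[A] B →ₐ[A] B ⊗[A] (B ⊗[A] B)) v *
        Algebra.TensorProduct.map (AlgHom.id A B) (includeLeft : B →ₐ[A] B ⊗[A] B) y := by
    intro y
    induction y using TensorProduct.induction_on with
    | zero => simp
    | tmul b c =>
      rw [LinearMap.lTensor_tmul, LinearMap.restrictScalars_apply, coact_apply, Algebra.TensorProduct.map_tmul,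
        includeRight_apply, includeLeft_apply, AlgHom.id_apply, Algebra.TensorProduct.tmul_mul_tmul,
        one_mul]
    | add x y hx hy => rw [map_add, map_add, hx, hy, mul_add]
  have hl2 : ∀ y : B ⊗[A] B, LinearMap.lTensor B (TensorProduct.mk A B B 1) y =
        Algebra.TensorProduct.map (AlgHom.id A B) (includeRight : B →ₐ[A] B ⊗[A] B) y := by
    intro y
    induction y using TensorProduct.induction_on with
    | zero => simp
    | tmul b c =>
      rw [LinearMap.lTensor_tmul, Algebra.TensorProduct.map_tmul, includeRight_apply, AlgHom.id_apply]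
      rfl
    | add x y hx hy => rw [map_add, map_add, hx, hy]
  have hC : ∀ n, LinearMap.lTensor B ((coact v).restrictScalars A) (coact v n) =
      LinearMap.lTensor B (TensorProduct.mk A B B 1) (coact v n) := by
    intro n
    rw [hl1, hl2, coact_apply, map_mul, map_mul, hcoc, ← mul_assoc]
    congr 1
  have hbij := bijective_liftBaseChange_descended (coact v) hU hC
  obtain ⟨f, hf, ℓ, hℓ, b, hb⟩ := exists_unit_generator (descended (coact v)) hbij p
  exact ⟨f, hf, ℓ, b, (mem_descended (coact v)).1 hℓ, hb⟩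

end Alg1

end
end Groth.Agent.Lib.Helper4.GmTorsAlg1
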