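import Mathlib
import Groth.Prelude.Def_Red2
import Groth.Prelude.Def_GmPts
import Groth.Prelude.Def_NonAbH2
import Groth.Agent.Lib.Helper4.GaTorsZar1
import Groth.Agent.Lib.Helper4.GmTorsAlg1

/-!
# fpqc torsors under the multiplicative group are Zariski locally trivial (S6005, Hilbert 90) (helper4)
-/

set_option backward.isDefEq.respectTransparency.types false
set_option synthInstance.maxHeartbeats 400000
set_option autoImplicit false
set_option linter.unusedSectionVars false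
set_option linter.style.haveILetI false
set_option linter.unusedSimpArgs false
universe u v w
open CategoryTheory CategoryTheory.Limits AlgebraicGeometry TopologicalSpace Opposite
open MonoidalCategory CartesianMonoidalCategory MonObj GrpObj
open Groth.Agent.Lib.Helper4.GaTorsZar1
open Groth.Agent.Lib.Helper4.GmTorsAlg1
open scoped TensorProduct

namespace Groth.Agent.Lib.Helper4.GmTorsZar1
noncomputable section

section OvM

variable {S : Scheme.{u}} {A : Type u} [CommRing A] (jA : Spec (CommRingCat.of A) ⟶ S)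
variable {R R' : Type u} [CommRing R] [CommRing R'] [Algebra A R] [Algebra A R']

/-- the function of a point of `𝔾_m` with values in an affine test object, as a ring element -/
def fnm (x : ov A jA R ⟶ Red.Gm S) : R :=
  (Scheme.ΓSpecIso (CommRingCat.of R)).hom.hom (Red.gmFn x)

lemma fnm_mul (x y : ov A jA R ⟶ Red.Gm S) : fnm jA (x * y) = fnm jA x * fnm jA y := by
  unfold fnm
  rw [GmPts.gmFn_mul]
  exact map_mul (Scheme.ΓSpecIso (CommRingCat.of R)).hom.hom _ _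

lemma isUnit_fnm (x : ov A jA R ⟶ Red.Gm S) : IsUnit (fnm jA x) :=
  (GmPts.isUnit_gmFn x).map (Scheme.ΓSpecIso (CommRingCat.of R)).hom.hom

lemma fnm_injective : Function.Injective (fnm jA (R := R)) := by
  intro x y h
  apply GmPts.gmFn_injective
  exact (ConcreteCategory.bijective_of_isIso
    (Scheme.ΓSpecIso (CommRingCat.of R)).hom).1 h

lemma exists_fnm_eq (r : R) (hr : IsUnit r) : ∃ x : ov A jA R ⟶ Red.Gm S, fnm jA x = r := by
  have hu : IsUnit ((Scheme.ΓSpecIso (CommRingCat.of R)).inv.hom r) := hr.map _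
  refine ⟨GmPts.ptOfUnit (T := ov A jA R) hu.unit, ?_⟩
  unfold fnm
  rw [GmPts.gmFn_ptOfUnit, IsUnit.unit_spec]
  exact congrArg (fun ψ => ψ.hom r) (Scheme.ΓSpecIso (CommRingCat.of R)).inv_hom_id

lemma fnm_map (f : R →ₐ[A] R') (x : ov A jA R ⟶ Red.Gm S) :
    fnm jA (ovMap jA f ≫ x) = f (fnm jA x) := by
  unfold fnm
  rw [GmPts.gmFn_comp, ovMap_left]
  have h := Scheme.ΓSpecIso_naturality (CommRingCat.ofHom f.toRingHom)
  have h2 := congrArg (fun ψ => ψ.hom (Red.gmFn x)) h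
  simp only [CommRingCat.hom_comp, RingHom.comp_apply] at h2
  exact h2

end OvM


section AL

open Algebra.TensorProduct
open Groth.Agent.Helper4.Act
open Groth.Agent.Lib.Helper4.TorsNormal2

variable {S : Scheme.{u}} {X : Over S}
variable {A : Type u} [CommRing A] (jA : Spec (CommRingCat.of A) ⟶ S)

/-- descent of a point along a faithfully flat cover of an `A`-algebra `A'` -/
theorem desc1 (A' B' : Type u) [CommRing A'] [CommRing B'] [Algebra A A'] [Algebra A B']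
    [Algebra A' B'] [IsScalarTower A A' B'] [Module.FaithfullyFlat A' B']
    (sg : ov A jA B' ⟶ X)
    (hsg12 : ovMap jA (includeLeft : B' →ₐ[A] B' ⊗[A] B') ≫ sg =
      ovMap jA (includeRight : B' →ₐ[A] B' ⊗[A] B') ≫ sg) :
    ∃ s : Spec (CommRingCat.of A') ⟶ X.left,
      s ≫ X.hom = Spec.map (CommRingCat.ofHom (algebraMap A A')) ≫ jA := by
  obtain ⟨hfl, hsurj⟩ := (flat_and_surjective_SpecMap_iff
    (CommRingCat.ofHom (algebraMap A' B'))).2 (by
      rw [CommRingCat.hom_ofHom]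
      exact (RingHom.faithfullyFlat_algebraMap_iff).2 inferInstance)
  haveI := hfl
  haveI := hsurj
  have hdec : CommRingCat.ofHom (algebraMap A B') =
      CommRingCat.ofHom (algebraMap A A') ≫ CommRingCat.ofHom (algebraMap A' B') := by
    rw [← CommRingCat.ofHom_comp]
    congr 1
    exact IsScalarTower.algebraMap_eq A A' B'
  have hdesc : ∀ {Z : Scheme.{u}} (g₁ g₂ : Z ⟶ Spec (CommRingCat.of B')),
      g₁ ≫ Spec.map (CommRingCat.ofHom (algebraMap A' B')) =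
        g₂ ≫ Spec.map (CommRingCat.ofHom (algebraMap A' B')) →
      g₁ ≫ sg.left = g₂ ≫ sg.left := by
    intro Z g₁ g₂ hg
    have hg' : g₁ ≫ Spec.map (CommRingCat.ofHom (algebraMap A B')) =
        g₂ ≫ Spec.map (CommRingCat.ofHom (algebraMap A B')) := by
      rw [hdec, Spec.map_comp, ← Category.assoc, ← Category.assoc, hg]
    obtain ⟨m, hm⟩ : ∃ m : Z ⟶ Spec (CommRingCat.of (B' ⊗[A] B')),
        m = pullback.lift g₁ g₂ hg' ≫ (pullbackSpecIso A B' B').hom := ⟨_, rfl⟩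
    have hm1 : m ≫ (ovMap jA (includeLeft : B' →ₐ[A] B' ⊗[A] B')).left = g₁ := by
      rw [hm, ovMap_left, Category.assoc]
      have := pullbackSpecIso_hom_fst A B' B'
      rw [show (CommRingCat.ofHom (includeLeft : B' →ₐ[A] B' ⊗[A] B').toRingHom) =
        CommRingCat.ofHom includeLeftRingHom from rfl, this, pullback.lift_fst]
    have hm2 : m ≫ (ovMap jA (includeRight : B' →ₐ[A] B' ⊗[A] B')).left = g₂ := by
      rw [hm, ovMap_left, Category.assoc]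
      have := pullbackSpecIso_hom_snd A B' B'
      rw [show (CommRingCat.ofHom (includeRight : B' →ₐ[A] B' ⊗[A] B').toRingHom) =
        CommRingCat.ofHom (RingHomClass.toRingHom
          (includeRight : B' →ₐ[A] B' ⊗[A] B')) from rfl, this, pullback.lift_snd]
    have h12 := congrArg (fun q => m ≫ q.left) hsg12
    simp only [Over.comp_left] at h12
    rw [← Category.assoc, ← Category.assoc, hm1, hm2] at h12
    exact h12
  refine ⟨EffectiveEpi.desc (Spec.map (CommRingCat.ofHom (algebraMap A' B'))) sg.left hdesc, ?_⟩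
  rw [← cancel_epi (Spec.map (CommRingCat.ofHom (algebraMap A' B'))), ← Category.assoc,
    EffectiveEpi.fac, ← Category.assoc, ← Spec.map_comp, ← hdec]
  exact Over.w sg

variable (a : AlgGrp.Action (Red.Gm S) X)

lemma comp_lift_act' {T T' : Over S} (q : T' ⟶ T) (c : T ⟶ Red.Gm S) (x : T ⟶ X) :
    q ≫ lift c x ≫ a.act = lift (q ≫ c) (q ≫ x) ≫ a.act := by
  rw [← Category.assoc, comp_lift]

/-- correcting a point by a local coboundary -/
theorem corr1 {B B₁ : Type u} [CommRing B] [CommRing B₁] [Algebra A B] [Algebra A B₁]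
    (wB : ov A jA B ⟶ X) (dl : ov A jA (B ⊗[A] B) ⟶ Red.Gm S)
    (hdl : lift dl (ovMap jA (includeLeft : B →ₐ[A] B ⊗[A] B) ≫ wB) ≫ a.act =
      ovMap jA (includeRight : B →ₐ[A] B ⊗[A] B) ≫ wB)
    (ℓ : B) (hℓ : fnm jA dl * (ℓ ⊗ₜ[A] (1 : B)) = (1 : B) ⊗ₜ[A] ℓ)
    (g : B →ₐ[A] B₁) (hg : IsUnit (g ℓ)) :
    ∃ sg : ov A jA B₁ ⟶ X,
      ovMap jA (includeLeft : B₁ →ₐ[A] B₁ ⊗[A] B₁) ≫ sg =
        ovMap jA (includeRight : B₁ →ₐ[A] B₁ ⊗[A] B₁) ≫ sg := by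
  obtain ⟨i₁, hi₁⟩ : ∃ i₁ : ov A jA (B ⊗[A] B) ⟶ ov A jA B,
      i₁ = ovMap jA (includeLeft : B →ₐ[A] B ⊗[A] B) := ⟨_, rfl⟩
  obtain ⟨i₂, hi₂⟩ : ∃ i₂ : ov A jA (B ⊗[A] B) ⟶ ov A jA B,
      i₂ = ovMap jA (includeRight : B →ₐ[A] B ⊗[A] B) := ⟨_, rfl⟩
  obtain ⟨i₁', hi₁'⟩ : ∃ i₁' : ov A jA (B₁ ⊗[A] B₁) ⟶ ov A jA B₁,
      i₁' = ovMap jA (includeLeft : B₁ →ₐ[A] B₁ ⊗[A] B₁) := ⟨_, rfl⟩
  obtain ⟨i₂', hi₂'⟩ : ∃ i₂' : ov A jA (B₁ ⊗[A] B₁) ⟶ ov A jA B₁,
      i₂' = ovMap jA (includeRight : B₁ →ₐ[A] B₁ ⊗[A] B₁) := ⟨_, rfl⟩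
  obtain ⟨pB, hpB⟩ : ∃ pB : ov A jA B₁ ⟶ ov A jA B, pB = ovMap jA g := ⟨_, rfl⟩
  obtain ⟨r, hr⟩ : ∃ r : ov A jA (B₁ ⊗[A] B₁) ⟶ ov A jA (B ⊗[A] B),
      r = ovMap jA (Algebra.TensorProduct.map g g) := ⟨_, rfl⟩
  rw [← hi₁, ← hi₂] at hdl
  rw [← hi₁', ← hi₂']
  have hr1 : i₁' ≫ pB = r ≫ i₁ := by
    rw [hi₁', hpB, hr, hi₁, ← ovMap_comp, ← ovMap_comp]
    congr 1
    ext x
    simp
  have hr2 : i₂' ≫ pB = r ≫ i₂ := by
    rw [hi₂', hpB, hr, hi₂, ← ovMap_comp, ← ovMap_comp]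
    congr 1
    ext x
    simp
  obtain ⟨be, hbe⟩ := exists_fnm_eq jA (R := B₁) (g ℓ) hg
  obtain ⟨sg, hsg⟩ : ∃ sg : ov A jA B₁ ⟶ X, sg = lift be⁻¹ (pB ≫ wB) ≫ a.act := ⟨_, rfl⟩
  refine ⟨sg, ?_⟩
  have e2 : i₂' ≫ pB ≫ wB = lift (r ≫ dl) (i₁' ≫ pB ≫ wB) ≫ a.act := by
    rw [← Category.assoc i₂', hr2, Category.assoc, ← hdl, comp_lift_act', ← Category.assoc r i₁,
      ← hr1, Category.assoc]
  have hd : (r ≫ dl) * (i₁' ≫ be) = (i₂' ≫ be) := by
    apply fnm_injective jA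
    rw [fnm_mul, hr, hi₁', hi₂', fnm_map, fnm_map, fnm_map, hbe]
    have h3 := congrArg (Algebra.TensorProduct.map g g) hℓ
    rw [map_mul, Algebra.TensorProduct.map_tmul, Algebra.TensorProduct.map_tmul, map_one] at h3
    exact h3
  rw [hsg, comp_lift_act', comp_lift_act', e2, ← mul_smul' a.act a.mul_act]
  congr 2
  rw [GrpObj.comp_inv, GrpObj.comp_inv]
  symm
  rw [inv_mul_eq_iff_eq_mul, eq_mul_inv_iff_mul_eq]
  exact hd

variable (hps : NonAbH1.IsPseudoTorsorSch a)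
variable (B : Type u) [CommRing B] [Algebra A B] [Module.FaithfullyFlat A B]
variable (w : Spec (CommRingCat.of B) ⟶ X.left)
  (hw : w ≫ X.hom = Spec.map (CommRingCat.ofHom (algebraMap A B)) ≫ jA)

include hps hw in
theorem exists_local_section (p : Ideal A) [p.IsPrime] :
    ∃ f : A, f ∉ p ∧ ∃ s : Spec (CommRingCat.of (Localization.Away f)) ⟶ X.left,
      s ≫ X.hom = Spec.map (CommRingCat.ofHom (algebraMap A (Localization.Away f))) ≫ jA := by
  -- the tautological point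
  obtain ⟨wB, hwB⟩ : ∃ wB : ov A jA B ⟶ X, wB.left = w := ⟨Over.homMk w hw, rfl⟩
  -- the two projections
  obtain ⟨i₁, hi₁⟩ : ∃ i₁ : ov A jA (B ⊗[A] B) ⟶ ov A jA B,
      i₁ = ovMap jA (includeLeft : B →ₐ[A] B ⊗[A] B) := ⟨_, rfl⟩
  obtain ⟨i₂, hi₂⟩ : ∃ i₂ : ov A jA (B ⊗[A] B) ⟶ ov A jA B,
      i₂ = ovMap jA (includeRight : B →ₐ[A] B ⊗[A] B) := ⟨_, rfl⟩
  -- the difference cocycle
  obtain ⟨dl, hdl, -⟩ := existsUnique_of_pseudoTorsor a hps (i₁ ≫ wB) (i₂ ≫ wB)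
  -- the three projections from the triple product
  obtain ⟨q₁₂, hq₁₂⟩ : ∃ q : ov A jA (B ⊗[A] (B ⊗[A] B)) ⟶ ov A jA (B ⊗[A] B),
      q = ovMap jA (Algebra.TensorProduct.map (AlgHom.id A B)
        (includeLeft : B →ₐ[A] B ⊗[A] B)) := ⟨_, rfl⟩
  obtain ⟨q₁₃, hq₁₃⟩ : ∃ q : ov A jA (B ⊗[A] (B ⊗[A] B)) ⟶ ov A jA (B ⊗[A] B),
      q = ovMap jA (Algebra.TensorProduct.map (AlgHom.id A B)
        (includeRight : B →ₐ[A] B ⊗[A] B)) := ⟨_, rfl⟩
  obtain ⟨q₂₃, hq₂₃⟩ : ∃ q : ov A jA (B ⊗[A] (B ⊗[A] B)) ⟶ ov A jA (B ⊗[A] B),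
      q = ovMap jA (includeRight : B ⊗[A] B →ₐ[A] B ⊗[A] (B ⊗[A] B)) := ⟨_, rfl⟩
  have r₁ : q₁₂ ≫ i₁ = q₁₃ ≫ i₁ := by
    rw [hq₁₂, hq₁₃, hi₁, ← ovMap_comp, ← ovMap_comp]
    congr 1
  have r₂ : q₁₂ ≫ i₂ = q₂₃ ≫ i₁ := by
    rw [hq₁₂, hq₂₃, hi₁, hi₂, ← ovMap_comp, ← ovMap_comp]
    congr 1
  have r₃ : q₁₃ ≫ i₂ = q₂₃ ≫ i₂ := by
    rw [hq₁₃, hq₂₃, hi₂, ← ovMap_comp, ← ovMap_comp]
    congr 1
  -- the cocycle condition
  have e₁₂ : lift (q₁₂ ≫ dl) (q₁₂ ≫ i₁ ≫ wB) ≫ a.act = q₁₂ ≫ i₂ ≫ wB := by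
    rw [← comp_lift_act', hdl]
  have e₂₃ : lift (q₂₃ ≫ dl) (q₂₃ ≫ i₁ ≫ wB) ≫ a.act = q₂₃ ≫ i₂ ≫ wB := by
    rw [← comp_lift_act', hdl]
  have e₁₃ : lift (q₁₃ ≫ dl) (q₁₃ ≫ i₁ ≫ wB) ≫ a.act = q₁₃ ≫ i₂ ≫ wB := by
    rw [← comp_lift_act', hdl]
  have hcoc : q₁₃ ≫ dl = (q₂₃ ≫ dl) * (q₁₂ ≫ dl) := by
    apply (existsUnique_of_pseudoTorsor a hps (q₁₃ ≫ i₁ ≫ wB) (q₁₃ ≫ i₂ ≫ wB)).unique e₁₃
    rw [mul_smul' a.act a.mul_act, ← Category.assoc q₁₃, ← r₁, Category.assoc, e₁₂,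
      ← Category.assoc q₁₂, r₂, Category.assoc, e₂₃, ← Category.assoc q₁₃, r₃, Category.assoc]
  have hcoc' := congrArg (fnm jA) hcoc
  rw [fnm_mul, hq₁₃, hq₂₃, hq₁₂, fnm_map, fnm_map, fnm_map] at hcoc'
  obtain ⟨f, hf, ℓ, b, hℓ, hb⟩ :=
    exists_local_coboundary (fnm jA dl) (isUnit_fnm jA dl) hcoc' p
  refine ⟨f, hf, ?_⟩
  have hunit : IsUnit ((includeRight : B →ₐ[A] Localization.Away f ⊗[A] B) ℓ) := by
    have h1 : (includeRight : B →ₐ[A] Localization.Away f ⊗[A] B) ℓ *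
        (includeRight : B →ₐ[A] Localization.Away f ⊗[A] B) b =
        algebraMap A (Localization.Away f ⊗[A] B) f := by
      rw [← map_mul, hb, AlgHom.commutes]
    have h2 : IsUnit (algebraMap A (Localization.Away f ⊗[A] B) f) := by
      rw [IsScalarTower.algebraMap_apply A (Localization.Away f) (Localization.Away f ⊗[A] B)]
      exact (IsLocalization.Away.algebraMap_isUnit f).map _
    rw [← h1] at h2
    exact isUnit_of_mul_isUnit_left h2
  rw [hi₁, hi₂] at hdl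
  obtain ⟨sg, hsg⟩ := corr1 jA a wB dl hdl ℓ hℓ
    (includeRight : B →ₐ[A] Localization.Away f ⊗[A] B) hunit
  exact desc1 jA (Localization.Away f) (Localization.Away f ⊗[A] B) sg hsg

end AL

/-! ## the multiplicative group is affine and flat; the main theorem -/

section Concrete

variable {S : Scheme.{u}}

lemma gmZ_hom : (GmPts.GmZ.{u}).hom =
    Spec.map (CommRingCat.ofHom (algebraMap (ULift.{u} ℤ) GmPts.Coord.{u})) := rfl

instance flat_GmZ : Flat (GmPts.GmZ.{u}).hom := by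
  rw [gmZ_hom]
  have h : Module.Flat (ULift.{u} ℤ) GmPts.Coord.{u} := inferInstance
  have h2 : (algebraMap (ULift.{u} ℤ) GmPts.Coord.{u}).Flat := RingHom.flat_algebraMap_iff.2 h
  exact (HasRingHomProperty.Spec_iff (P := @Flat)).2 h2

instance isAffineHom_Gm : IsAffineHom (Red.Gm S).hom := by
  change IsAffineHom (pullback.snd (GmPts.GmZ.{u}).hom (GmPts.toBaseZ S))
  haveI h1 : IsAffine (GmPts.GmZ.{u}).left := by
    change IsAffine (Spec (CommRingCat.of GmPts.Coord.{u}))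
    infer_instance
  haveI : IsAffineHom (GmPts.GmZ.{u}).hom := isAffineHom_of_isAffine _
  exact MorphismProperty.pullback_snd _ _ inferInstance

instance flat_Gm : Flat (Red.Gm S).hom := by
  change Flat (pullback.snd (GmPts.GmZ.{u}).hom (GmPts.toBaseZ S))
  exact MorphismProperty.pullback_snd _ _ inferInstance

instance quasiCompact_Gm : QuasiCompact (Red.Gm S).hom := by
  infer_instance

theorem section_of_affine_local (X : Over S) (a : AlgGrp.Action (Red.Gm S) X)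
    (hps : NonAbH1.IsPseudoTorsorSch a) [IsAffineHom X.hom] [Flat X.hom] [Surjective X.hom]
    (R : CommRingCat.{u}) (jA : Spec R ⟶ S) (p : Ideal R) [p.IsPrime] :
    ∃ f : R, f ∉ p ∧ ∃ s : Spec (CommRingCat.of (Localization.Away f)) ⟶ X.left,
      s ≫ X.hom = Spec.map (CommRingCat.ofHom (algebraMap R (Localization.Away f))) ≫ jA := by
  haveI : IsAffine (pullback X.hom jA) := isAffine_of_isAffineHom (pullback.snd X.hom jA)
  obtain ⟨φ, hφdef⟩ : ∃ φ : R ⟶ Γ(pullback X.hom jA, ⊤),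
      φ = (Scheme.ΓSpecIso R).inv ≫ (pullback.snd X.hom jA).appTop := ⟨_, rfl⟩
  have hφ : (pullback X.hom jA).isoSpec.inv ≫ pullback.snd X.hom jA = Spec.map φ := by
    rw [← Scheme.isoSpec_inv_naturality, Scheme.isoSpec_Spec_inv, ← Spec.map_comp, hφdef]
  have hff : φ.hom.FaithfullyFlat := by
    rw [← flat_and_surjective_SpecMap_iff, ← hφ]
    exact ⟨inferInstance, inferInstance⟩
  algebraize [φ.hom]
  have hw : ((pullback X.hom jA).isoSpec.inv ≫ pullback.fst X.hom jA) ≫ X.hom =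
      Spec.map (CommRingCat.ofHom (algebraMap R Γ(pullback X.hom jA, ⊤))) ≫ jA := by
    rw [Category.assoc, pullback.condition, ← Category.assoc, hφ]
    rfl
  exact exists_local_section jA a hps Γ(pullback X.hom jA, ⊤)
    ((pullback X.hom jA).isoSpec.inv ≫ pullback.fst X.hom jA) hw p

theorem key_affine (X : Over S) (a : AlgGrp.Action (Red.Gm S) X)
    (hps : NonAbH1.IsPseudoTorsorSch a) [IsAffineHom X.hom] [Flat X.hom] [Surjective X.hom]
    (R : CommRingCat.{u}) (jA : Spec R ⟶ S) (hjA : IsOpenImmersion jA) (y : Spec R) :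
    ∃ (U : Scheme.{u}) (j : U ⟶ S), IsOpenImmersion j ∧
      (∃ z, j z = jA y) ∧ ∃ σ : U ⟶ X.left, σ ≫ X.hom = j := by
  obtain ⟨f, hf, σ, hσ⟩ := section_of_affine_local X a hps R jA
    (show PrimeSpectrum R from y).asIdeal
  refine ⟨_, Spec.map (CommRingCat.ofHom (algebraMap R (Localization.Away f))) ≫ jA,
    inferInstance, ?_, σ, hσ⟩
  have hy' : (show PrimeSpectrum R from y) ∈ Set.range (PrimeSpectrum.comap
      (algebraMap R (Localization.Away f))) := by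
    rw [PrimeSpectrum.localization_away_comap_range (Localization.Away f) f]
    exact hf
  obtain ⟨z, hz⟩ := hy'
  refine ⟨z, ?_⟩
  rw [Scheme.Hom.comp_apply]
  congr 1

theorem main (X : Over S) (a : AlgGrp.Action (Red.Gm S) X)
    (h : NonAbH1.IsTorsorFor Scheme.fpqcPrecoverage a) :
    NonAbH1.IsTorsorFor Scheme.zariskiPrecoverage a := by
  obtain ⟨hps, hsurj, hflat, hqc⟩ := (Groth.Agent.S6003.result (Red.Gm S) X a).1 h
  obtain ⟨haff, -⟩ := Groth.Agent.S6004.result (Red.Gm S) X a h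
  have key : ∀ s : S, ∃ (U : Scheme.{u}) (j : U ⟶ S), IsOpenImmersion j ∧
      (∃ y, j y = s) ∧ ∃ σ : U ⟶ X.left, σ ≫ X.hom = j := by
    intro s
    obtain ⟨y, hy⟩ := S.affineCover.covers s
    obtain ⟨U, j, hj, ⟨z, hz⟩, σ, hσ⟩ := key_affine X a hps _
      (S.affineCover.f (S.affineCover.idx s)) (S.affineCover.map_prop _) y
    exact ⟨U, j, hj, ⟨z, hz.trans hy⟩, σ, hσ⟩
  choose U j hj hs σ hσ using key
  refine ⟨hps, (Scheme.Cover.mkOfCovers S U j (fun s => ⟨s, hs s⟩) hj).presieve₀,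
    (Scheme.Cover.mkOfCovers S U j (fun s => ⟨s, hs s⟩) hj).mem₀, ?_⟩
  rintro S' f ⟨i⟩
  exact ⟨σ i, hσ i⟩

end Concrete

end
end Groth.Agent.Lib.Helper4.GmTorsZar1
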