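import Mathlib

/-!
# Generation in degree one of a graded algebra tested on algebraically closed fibres (helper4)
-/

set_option backward.isDefEq.respectTransparency.types false
set_option synthInstance.maxHeartbeats 400000
set_option autoImplicit false
set_option linter.unusedSectionVars false
set_option linter.style.haveILetI false
set_option linter.unusedSimpArgs false
universe u v w
open TensorProduct DirectSum

namespace Groth.Agent.Lib.Helper4.GradedGen1

open TensorProduct DirectSum

section
variable {A : Type u} [CommRing A] {B : Type u} [CommRing B] [Algebra A B]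
  (𝒜 : ℕ → Submodule A B) [GradedAlgebra 𝒜]

/-- elements of the multiplicative closure of `𝒜 1` are homogeneous and lie in the adjoin -/
theorem closure_homogeneous (β : B) (hβ : β ∈ Submonoid.closure (𝒜 1 : Set B)) :
    β ∈ Algebra.adjoin A (𝒜 1 : Set B) ∧ ∃ r, β ∈ 𝒜 r := by
  induction hβ using Submonoid.closure_induction with
  | mem x hx => exact ⟨Algebra.subset_adjoin hx, 1, hx⟩
  | one => exact ⟨one_mem _, 0, SetLike.GradedOne.one_mem⟩
  | mul x y _ _ hx hy =>
    obtain ⟨hx1, r, hxr⟩ := hx
    obtain ⟨hy1, s, hys⟩ := hy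
    exact ⟨mul_mem hx1 hy1, r + s, SetLike.GradedMul.mul_mem hxr hys⟩

/-- the linear projection onto the degree `m` part -/
noncomputable def projm (m : ℕ) : B →ₗ[A] 𝒜 m :=
  (DFinsupp.lapply m).comp (decomposeAlgEquiv 𝒜).toAlgHom.toLinearMap

theorem projm_apply (m : ℕ) (b : B) : projm 𝒜 m b = (decompose 𝒜 b) m := rfl

theorem projm_closure (m : ℕ) (β : B) (hβ : β ∈ Submonoid.closure (𝒜 1 : Set B)) :
    ((projm 𝒜 m β : 𝒜 m) : B) ∈ Algebra.adjoin A (𝒜 1 : Set B) := by
  obtain ⟨h1, r, hr⟩ := closure_homogeneous 𝒜 β hβ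
  rw [projm_apply]
  by_cases hrm : r = m
  · subst hrm
    rw [decompose_of_mem_same 𝒜 hr]
    exact h1
  · rw [decompose_of_mem_ne 𝒜 hr hrm]
    exact zero_mem _

end

theorem main
    (A : Type u) [CommRing A] (B : Type u) [CommRing B] [Algebra A B]
    (𝒜 : ℕ → Submodule A B) [GradedAlgebra 𝒜]
    (hfin : ∀ m : ℕ, Module.Finite A (𝒜 m))
    (hgen : ∀ (k : Type u) [Field k] [IsAlgClosed k] [Algebra A k],
      Algebra.adjoin k ((Algebra.TensorProduct.includeRight : B →ₐ[A] k ⊗[A] B) '' (𝒜 1 : Set B)) = ⊤) :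
    Algebra.adjoin A (𝒜 1 : Set B) = ⊤ := by
  classical
  set G := Algebra.adjoin A (𝒜 1 : Set B) with hG
  -- key claim
  have key : ∀ m, (𝒜 m : Set B) ⊆ G := by
    intro m
    haveI := hfin m
    let P : Submodule A (𝒜 m) := (Subalgebra.toSubmodule G).comap (𝒜 m).subtype
    let θ : B →ₗ[A] (𝒜 m ⧸ P) := P.mkQ ∘ₗ projm 𝒜 m
    have hθT : ∀ β ∈ Submonoid.closure (𝒜 1 : Set B), θ β = 0 := by
      intro β hβ
      change P.mkQ (projm 𝒜 m β) = 0
      rw [Submodule.mkQ_apply, Submodule.Quotient.mk_eq_zero]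
      exact projm_closure 𝒜 m β hβ
    have hθs : Function.Surjective θ := by
      intro d
      obtain ⟨⟨b, hb⟩, rfl⟩ := Submodule.Quotient.mk_surjective P d
      refine ⟨b, ?_⟩
      have hpb : projm 𝒜 m b = ⟨b, hb⟩ := Subtype.ext (by
        rw [projm_apply]; exact decompose_of_mem_same 𝒜 hb)
      change P.mkQ (projm 𝒜 m b) = _
      rw [hpb]
      rfl
    -- vanishing of all algebraically closed fibres
    have hfib : ∀ (k : Type u) [Field k] [IsAlgClosed k] [Algebra A k],
        Subsingleton (k ⊗[A] (𝒜 m ⧸ P)) := by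
      intro k _ _ _
      have hΘ0 : ∀ w : k ⊗[A] B, θ.baseChange k w = 0 := by
        intro w
        have hw : w ∈ Subalgebra.toSubmodule (Algebra.adjoin k
            ((Algebra.TensorProduct.includeRight : B →ₐ[A] k ⊗[A] B) '' (𝒜 1 : Set B))) := by
          rw [hgen k]; exact Submodule.mem_top
        rw [Algebra.adjoin_eq_span] at hw
        have hle : Submodule.span k (Submonoid.closure
            ((Algebra.TensorProduct.includeRight : B →ₐ[A] k ⊗[A] B) '' (𝒜 1 : Set B)) : Set (k ⊗[A] B))
            ≤ LinearMap.ker (θ.baseChange k) := by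
          rw [Submodule.span_le]
          intro z hz
          have : ∃ β ∈ Submonoid.closure (𝒜 1 : Set B), z = (1 : k) ⊗ₜ[A] β := by
            induction hz using Submonoid.closure_induction with
            | mem x hx =>
              obtain ⟨a, ha, rfl⟩ := hx
              exact ⟨a, Submonoid.subset_closure ha, rfl⟩
            | one => exact ⟨1, one_mem _, rfl⟩
            | mul x y _ _ hx hy =>
              obtain ⟨β₁, h₁, rfl⟩ := hx
              obtain ⟨β₂, h₂, rfl⟩ := hy
              exact ⟨β₁ * β₂, mul_mem h₁ h₂, by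
                rw [Algebra.TensorProduct.tmul_mul_tmul, one_mul]⟩
          obtain ⟨β, hβ, rfl⟩ := this
          rw [SetLike.mem_coe, LinearMap.mem_ker, LinearMap.baseChange_tmul, hθT β hβ, tmul_zero]
        exact hle hw
      have hΘs : Function.Surjective (θ.baseChange k) := by
        intro z
        obtain ⟨w, hw⟩ := LinearMap.lTensor_surjective k hθs z
        exact ⟨w, by rw [← hw, LinearMap.baseChange_eq_ltensor]⟩
      refine ⟨fun a b => ?_⟩
      obtain ⟨a', rfl⟩ := hΘs a
      obtain ⟨b', rfl⟩ := hΘs b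
      rw [hΘ0, hΘ0]
    -- support is empty
    have hsub : Subsingleton (𝒜 m ⧸ P) := by
      rw [← Module.support_eq_empty_iff (R := A)]
      by_contra hne
      obtain ⟨p, hp⟩ := Set.nonempty_iff_ne_empty.mpr hne
      rw [Module.mem_support_iff_nontrivial_residueField_tensorProduct] at hp
      let κ := p.asIdeal.ResidueField
      let k := AlgebraicClosure κ
      haveI : IsScalarTower A κ k := inferInstance
      haveI := hfib k
      let e : k ⊗[κ] (κ ⊗[A] (𝒜 m ⧸ P)) ≃ₗ[κ] k ⊗[A] (𝒜 m ⧸ P) :=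
        AlgebraTensorModule.cancelBaseChange A κ κ k (𝒜 m ⧸ P)
      haveI : Subsingleton (k ⊗[κ] (κ ⊗[A] (𝒜 m ⧸ P))) := e.toEquiv.injective.subsingleton
      haveI : Subsingleton (κ ⊗[A] (𝒜 m ⧸ P)) :=
        Module.FaithfullyFlat.lTensor_reflects_triviality κ k (κ ⊗[A] (𝒜 m ⧸ P))
      exact not_nontrivial _ hp
    have hP : P = ⊤ := Submodule.Quotient.subsingleton_iff.mp hsub
    intro b hb
    have : (⟨b, hb⟩ : 𝒜 m) ∈ P := hP ▸ Submodule.mem_top
    exact this
  rw [eq_top_iff]
  intro b _
  rw [← DirectSum.sum_support_decompose 𝒜 b]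
  exact Subalgebra.sum_mem _ fun i _ => key i (Submodule.coe_mem _)

end Groth.Agent.Lib.Helper4.GradedGen1
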