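import Mathlib

/-!
# Closure of the graph: extending a morphism after a proper modification (S8850) (helper4)
-/

set_option backward.isDefEq.respectTransparency.types false
set_option synthInstance.maxHeartbeats 400000
set_option autoImplicit false
set_option linter.unusedSectionVars false
set_option linter.style.haveILetI false
set_option linter.unusedSimpArgs false
universe u v w
open CategoryTheory CategoryTheory.Limits AlgebraicGeometry TopologicalSpace

namespace Groth.Agent.Lib.Helper4.GraphClosure1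

/-- The map to the scheme-theoretic image of a quasi-compact morphism is scheme-theoretically
dominant. -/
theorem isSchemeTheoreticallyDominant_toImage {X Y : Scheme.{u}} (f : X ⟶ Y) [QuasiCompact f] :
    IsSchemeTheoreticallyDominant f.toImage := by
  constructor
  refine Scheme.IdealSheafData.ext_of_iSup_eq_top
    (fun U : Y.affineOpens ↦ ⟨f.imageι ⁻¹ᵁ U.1, U.2.preimage _⟩)
    (TopologicalSpace.IsOpenCover.comap (iSup_affineOpens_eq_top _) _) fun U ↦ ?_
  rw [Scheme.Hom.ker_apply, Scheme.IdealSheafData.ideal_bot, Pi.bot_apply,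
    ← RingHom.injective_iff_ker_eq_bot]
  exact f.toImage_app_injective U

/-- A section of a separated morphism which is scheme-theoretically dominant is an isomorphism. -/
theorem isIso_of_section_of_dominant {X Y : Scheme.{u}} (s : X ⟶ Y) (p : Y ⟶ X) [IsSeparated p]
    (h : s ≫ p = 𝟙 X) [IsSchemeTheoreticallyDominant s] : IsIso s ∧ IsIso p := by
  haveI : IsClosedImmersion (s ≫ p) := by rw [h]; infer_instance
  haveI : IsClosedImmersion s := IsClosedImmersion.of_comp s p
  haveI hs : IsIso s := IsClosedImmersion.isIso_iff_ker_eq_bot.mpr s.ker_eq_bot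
  refine ⟨hs, ?_⟩
  have : p = inv s := by
    rw [← cancel_epi s, h, IsIso.hom_inv_id]
  rw [this]; infer_instance

theorem S8850_main {X Y S : Scheme.{u}} [IsNoetherian X] (a : X ⟶ S) (b : Y ⟶ S)
    [IsProper b] (U : X.Opens) (f : (U : Scheme.{u}) ⟶ Y) (hf : f ≫ b = U.ι ≫ a) :
    ∃ (X' : Scheme.{u}) (p : X' ⟶ X) (f' : X' ⟶ Y), IsProper p ∧ IsIso (p ∣_ U) ∧
      f' ≫ b = p ≫ a ∧ (p ⁻¹ᵁ U).ι ≫ f' = (p ∣_ U) ≫ f := by
  haveI : NoetherianSpace (U : Scheme.{u}) := U.ι.isOpenEmbedding.isInducing.noetherianSpace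
  let γ : (U : Scheme.{u}) ⟶ pullback a b := pullback.lift U.ι f hf.symm
  let p : γ.image ⟶ X := γ.imageι ≫ pullback.fst a b
  let f' : γ.image ⟶ Y := γ.imageι ≫ pullback.snd a b
  have hp : γ.toImage ≫ p = U.ι := by
    simp only [p, Scheme.Hom.toImage_imageι_assoc, γ, pullback.lift_fst]
  have hf' : γ.toImage ≫ f' = f := by
    simp only [f', Scheme.Hom.toImage_imageι_assoc, γ, pullback.lift_snd]
  haveI : IsSchemeTheoreticallyDominant γ.toImage := isSchemeTheoreticallyDominant_toImage γ
  -- the section over `U`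
  have hrange : Set.range γ.toImage ⊆ Set.range (p ⁻¹ᵁ U).ι := by
    rintro _ ⟨u, rfl⟩
    rw [Scheme.Opens.range_ι]
    show p (γ.toImage u) ∈ U
    rw [← Scheme.Hom.comp_apply, hp]
    exact u.2
  let σ : (U : Scheme.{u}) ⟶ (p ⁻¹ᵁ U : Scheme.{u}) :=
    IsOpenImmersion.lift (p ⁻¹ᵁ U).ι γ.toImage hrange
  have hσ : σ ≫ (p ⁻¹ᵁ U).ι = γ.toImage := IsOpenImmersion.lift_fac _ _ _
  haveI : IsSchemeTheoreticallyDominant σ :=
    .of_isPullback (IsOpenImmersion.isPullback_lift_id γ.toImage (p ⁻¹ᵁ U).ι hrange).flip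
  have hsec : σ ≫ (p ∣_ U) = 𝟙 _ := by
    rw [← cancel_mono U.ι, Category.assoc, morphismRestrict_ι, ← Category.assoc, hσ, hp,
      Category.id_comp]
  obtain ⟨hσiso, hpiso⟩ := isIso_of_section_of_dominant σ (p ∣_ U) hsec
  refine ⟨γ.image, p, f', inferInstance, hpiso, ?_, ?_⟩
  · simp only [f', p, Category.assoc, pullback.condition]
  · rw [← cancel_epi σ, ← Category.assoc, hσ, hf', ← Category.assoc, hsec, Category.id_comp]

end Groth.Agent.Lib.Helper4.GraphClosure1
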