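import Mathlib
import Groth.Prelude.Def_SGA3x
import Groth.Agent.Lib.Helper4.GrpArtin1
import Groth.Agent.Lib.Helper4.TopDim1
import Groth.Agent.Lib.Helper2.Sch.GrpDim
import Groth.Agent.Lib.Helper5.Misc.WeilGeo

/-!
# closed immersion of smooth groups of equal dimension maps identity component onto identity component (S18027) (helper4) (helper4)
-/

set_option backward.isDefEq.respectTransparency.types false
set_option synthInstance.maxHeartbeats 400000
set_option autoImplicit false
set_option linter.unusedSectionVars false
set_option linter.style.haveILetI false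
set_option linter.unusedSimpArgs false
universe u v w
open CategoryTheory CategoryTheory.Limits AlgebraicGeometry TopologicalSpace Opposite
open MonoidalCategory CartesianMonoidalCategory MonObj GrpObj
open Groth.Agent.Lib.Helper4.GrpIrr1 Groth.Agent.Lib.Helper4.GrpOpenSub1 Groth.Agent.Lib.Helper4.GrpIrr3
open Groth.Agent.Lib.Helper4.GrpArtin1

namespace Groth.Agent.Lib.Helper4.GrpDimCC1

variable {k : Type u} [Field k]

/-- components of a lft group over a field have finite dimension -/
theorem dim_cc_ne_top (H : Over (Spec (CommRingCat.of k))) [GrpObj H] [LocallyOfFiniteType H.hom]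
    (h : H.left) : topologicalKrullDim ↥(connectedComponent h) ≠ ⊤ := by
  have hCo : IsOpen (connectedComponent h) := by
    rw [connectedComponent_eq_irreducibleComponent]; exact isOpen_irreducibleComponent H h
  obtain ⟨C, hC⟩ : ∃ C : H.left.Opens, (C : Set H.left) = connectedComponent h := ⟨⟨_, hCo⟩, rfl⟩
  haveI : CompactSpace ↥C.toScheme :=
    isCompact_iff_compactSpace.mp (hC ▸ isCompact_connectedComponent_field H h)
  have := Groth.Agent.Lib.Helper5.Misc.WeilGeo.dim_lt_top_of_finiteType (C.ι ≫ H.hom)
  rw [← hC]
  exact this.ne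

theorem main (k : Type u) [Field k]
    (G H : Over (Spec (CommRingCat.of k))) [GrpObj G] [GrpObj H]
    [Smooth G.hom] [Smooth H.hom] (u : G ⟶ H) [IsMonHom u] [IsClosedImmersion u.left]
    (hdim : topologicalKrullDim ↥G.left = topologicalKrullDim ↥H.left)
    (t : ↥((𝟙_ (Over (Spec (CommRingCat.of k)))).left)) :
    ⇑u.left.base '' connectedComponent (η[G].left.base t) = connectedComponent (η[H].left.base t) := by
  haveI : LocallyOfFiniteType G.hom := inferInstance
  haveI : LocallyOfFiniteType H.hom := inferInstance
  obtain ⟨eG, heG⟩ : ∃ eG : G.left, eG = η[G].left t := ⟨_, rfl⟩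
  obtain ⟨eH, heH⟩ : ∃ eH : H.left, eH = η[H].left t := ⟨_, rfl⟩
  show u.left '' connectedComponent (η[G].left t) = connectedComponent (η[H].left t)
  rw [← heG, ← heH]
  have hue : u.left eG = eH := by
    rw [heG, heH, ← Scheme.Hom.comp_apply, ← Over.comp_left, IsMonHom.one_hom]
  obtain ⟨Z, hZ⟩ : ∃ Z : Set H.left, Z = u.left '' connectedComponent eG := ⟨_, rfl⟩
  rw [← hZ]
  have hZsub : Z ⊆ connectedComponent eH := by
    rw [hZ, ← hue]; exact u.left.continuous.image_connectedComponent_subset eG
  have hZcl : IsClosed Z := by
    rw [hZ]; exact u.left.isClosedEmbedding.isClosedMap _ isClosed_connectedComponent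
  -- dimensions
  have hdG : topologicalKrullDim ↥(connectedComponent eG) = topologicalKrullDim ↥G.left := by
    rw [connectedComponent_eq_irreducibleComponent]
    exact Groth.Agent.Helper2.GrpDim.dim_irreducibleComponent_eq G _
      (irreducibleComponent_mem_irreducibleComponents eG)
  have hdH : topologicalKrullDim ↥(connectedComponent eH) = topologicalKrullDim ↥H.left := by
    rw [connectedComponent_eq_irreducibleComponent]
    exact Groth.Agent.Helper2.GrpDim.dim_irreducibleComponent_eq H _
      (irreducibleComponent_mem_irreducibleComponents eH)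
  have hdZ : topologicalKrullDim ↥Z = topologicalKrullDim ↥(connectedComponent eG) := by
    rw [hZ]
    exact (IsHomeomorph.topologicalKrullDim_eq _
      (u.left.isClosedEmbedding.isEmbedding.homeomorphImage (connectedComponent eG)).isHomeomorph).symm
  -- work inside the irreducible space `connectedComponent eH`
  haveI : IrreducibleSpace ↥(connectedComponent eH) := by
    rw [connectedComponent_eq_irreducibleComponent]
    exact Subtype.irreducibleSpace isIrreducible_irreducibleComponent
  obtain ⟨Y, hY⟩ : ∃ Y : Set ↥(connectedComponent eH), Y = Subtype.val ⁻¹' Z := ⟨_, rfl⟩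
  have hYcl : IsClosed Y := by rw [hY]; exact hZcl.preimage continuous_subtype_val
  have hdY : topologicalKrullDim ↥Y = topologicalKrullDim ↥Z := by
    rw [hY]
    exact IsHomeomorph.topologicalKrullDim_eq _
      (Topology.IsEmbedding.subtypeVal.homeomorphOfSubsetRange
        (by rw [Subtype.range_coe]; exact hZsub)).isHomeomorph
  have hYuniv : Y = Set.univ := by
    by_contra hne
    have hlt := Groth.Agent.Helper4.TD.topologicalKrullDim_lt_of_isClosed_ne_univ
      ↥(connectedComponent eH) (dim_cc_ne_top H eH) Y hYcl hne
    rw [hdY, hdZ, hdG, hdim, ← hdH] at hlt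
    exact lt_irrefl _ hlt
  apply Set.Subset.antisymm hZsub
  intro x hx
  have : (⟨x, hx⟩ : ↥(connectedComponent eH)) ∈ Y := hYuniv ▸ Set.mem_univ _
  rw [hY] at this
  exact this

end Groth.Agent.Lib.Helper4.GrpDimCC1
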