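import Mathlib
import Groth.Prelude

/-!
# group schemes over an algebraically closed field: translation isos between closed points, closed points with field stalks are open, trivial cotangent space at the identity iff finite discrete with rational points (S14059) (helper4)
-/

set_option backward.isDefEq.respectTransparency.types false
set_option synthInstance.maxHeartbeats 400000
set_option autoImplicit false
set_option linter.unusedSectionVars false
set_option linter.style.haveILetI false
set_option linter.unusedSimpArgs false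
universe u v w
open CategoryTheory MonoidalCategory CartesianMonoidalCategory MonObj GrpObj AlgebraicGeometry

namespace Groth.Agent.Lib.Helper4.GrpDisc1

section General
variable {K : Type u} [Field K] {G : Scheme.{u}} (f : G ⟶ Spec (.of K))

theorem stalkMap_bijective_of_section (σ : Spec (.of K) ⟶ G) (hσ : σ ≫ f = 𝟙 _) (y : Spec (.of K))
    (hfield : IsField (G.presheaf.stalk (σ y))) :
    Function.Bijective (f.stalkMap (σ y)).hom := by
  haveI : IsIso (σ ≫ f) := by rw [hσ]; infer_instance
  have h1 : Function.Bijective ((σ ≫ f).stalkMap y).hom := ConcreteCategory.bijective_of_isIso _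
  rw [Scheme.Hom.stalkMap_comp] at h1
  have h2 : Function.Injective (σ.stalkMap y).hom := by
    letI := hfield.toField
    exact RingHom.injective _
  have h3 : Function.Surjective (σ.stalkMap y).hom := fun z => by
    obtain ⟨w, hw⟩ := h1.2 z
    exact ⟨(f.stalkMap (σ y)).hom w, hw⟩
  refine ⟨fun a b hab => h1.1 ?_, fun z => ?_⟩
  · change (σ.stalkMap y).hom ((f.stalkMap (σ y)).hom a) = (σ.stalkMap y).hom ((f.stalkMap (σ y)).hom b)
    rw [hab]
  · obtain ⟨w, hw⟩ := h1.2 ((σ.stalkMap y).hom z)
    exact ⟨w, h2 hw⟩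

end General

section Alg

theorem exists_basicOpen_eq_singleton {R : Type*} [CommRing R] [IsNoetherianRing R] (p : Ideal R)
    [hp : p.IsMaximal] (S : Type*) [CommRing S] [Algebra R S] [IsLocalization.AtPrime S p]
    (hS : IsField S) :
    ∃ s : R, s ∉ p ∧ ∀ q : Ideal R, q.IsPrime → s ∉ q → q = p := by
  classical
  haveI : IsLocalRing S := IsLocalization.AtPrime.isLocalRing S p
  have hmax : IsLocalRing.maximalIdeal S = ⊥ := IsLocalRing.isField_iff_maximalIdeal_eq.mp hS
  have hkill : ∀ a ∈ p, ∃ s : R, s ∉ p ∧ s * a = 0 := by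
    intro a ha
    have h0 : algebraMap R S a = 0 := by
      have : algebraMap R S a ∈ IsLocalRing.maximalIdeal S :=
        (IsLocalization.AtPrime.to_map_mem_maximal_iff S p a).mpr ha
      rwa [hmax, Ideal.mem_bot] at this
    obtain ⟨m, hm⟩ := (IsLocalization.map_eq_zero_iff p.primeCompl S a).mp h0
    exact ⟨m.1, m.2, hm⟩
  obtain ⟨T, hT⟩ := (isNoetherianRing_iff_ideal_fg R).mp inferInstance p
  have hTp : ∀ a ∈ T, a ∈ p := fun a ha => by rw [← hT]; exact Ideal.subset_span ha
  choose! sf hsf using hkill
  refine ⟨∏ a ∈ T, sf a, ?_, ?_⟩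
  · intro hmem
    obtain ⟨a, haT, ha⟩ := (Ideal.IsPrime.prod_mem_iff (hp := hp.isPrime)).mp hmem
    exact (hsf a (hTp a haT)).1 ha
  · intro q hq hsq
    have hle : p ≤ q := by
      rw [← hT, Ideal.span_le]
      intro a haT
      have h1 : (∏ b ∈ T, sf b) * a = 0 := by
        rw [← Finset.mul_prod_erase T sf haT, mul_comm (sf a), _root_.mul_assoc, (hsf a (hTp a haT)).2,
          mul_zero]
      have h2 : (∏ b ∈ T, sf b) * a ∈ q := by rw [h1]; exact q.zero_mem
      rcases hq.mem_or_mem h2 with h | h
      · exact absurd h hsq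
      · exact h
    exact (hp.eq_of_le hq.ne_top hle).symm

end Alg

section Top

variable {G : Scheme.{u}} [IsLocallyNoetherian G]

theorem isOpen_singleton_of_isField_stalk (x : G) (hx : IsClosed ({x} : Set G))
    (hfield : IsField (G.presheaf.stalk x)) : IsOpen ({x} : Set G) := by
  obtain ⟨_, ⟨V, hV, rfl⟩, hxV, -⟩ :=
    G.isBasis_affineOpens.exists_subset_of_mem_open (Set.mem_univ x) isOpen_univ
  haveI : IsNoetherianRing Γ(G, V) := IsLocallyNoetherian.component_noetherian ⟨V, hV⟩
  set p := hV.primeIdealOf ⟨x, hxV⟩ with hp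
  have hpx : hV.fromSpec p = x := hV.fromSpec_primeIdealOf ⟨x, hxV⟩
  have hemb := hV.fromSpec.isOpenEmbedding
  have hpre : hV.fromSpec ⁻¹' {x} = {p} := by
    ext q
    simp only [Set.mem_preimage, Set.mem_singleton_iff]
    constructor
    · intro h
      exact hemb.injective (h.trans hpx.symm)
    · rintro rfl; exact hpx
  have hcl : IsClosed ({p} : Set (PrimeSpectrum Γ(G, V))) := by
    have := hx.preimage hV.fromSpec.continuous
    rw [hpre] at this
    exact this
  haveI hmax : p.asIdeal.IsMaximal := (PrimeSpectrum.isClosed_singleton_iff_isMaximal p).mp hcl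
  letI := G.presheaf.algebra_section_stalk (U := V) ⟨x, hxV⟩
  haveI : IsLocalization.AtPrime (G.presheaf.stalk x) p.asIdeal := hV.isLocalization_stalk ⟨x, hxV⟩
  obtain ⟨s, hs, hsq⟩ := exists_basicOpen_eq_singleton p.asIdeal (G.presheaf.stalk x) hfield
  have hbo : (PrimeSpectrum.basicOpen s : Set (PrimeSpectrum Γ(G, V))) = {p} := by
    ext q
    simp only [SetLike.mem_coe, PrimeSpectrum.mem_basicOpen, Set.mem_singleton_iff]
    constructor
    · intro h
      exact PrimeSpectrum.ext (hsq q.asIdeal q.isPrime h)
    · rintro rfl; exact hs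
  have hopen : IsOpen ({p} : Set (PrimeSpectrum Γ(G, V))) := by
    rw [← hbo]; exact (PrimeSpectrum.basicOpen s).isOpen
  have := hemb.isOpenMap _ hopen
  have himg : hV.fromSpec '' ({p} : Set (PrimeSpectrum Γ(G, V))) = {x} := by
    ext z
    constructor
    · rintro ⟨q, hq, rfl⟩
      have hq' : q = p := hq
      rw [hq']; exact hpx
    · intro hz
      have hz' : z = x := hz
      exact ⟨p, rfl, by rw [hz']; exact hpx⟩
  rw [himg] at this
  exact this

end Top

section Grp

variable {K : Type u} [Field K] [IsAlgClosed K] {G : Scheme.{u}}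

set_option backward.defeqAttrib.useBackward true in
set_option backward.isDefEq.respectTransparency false in
theorem exists_iso_map_closedPoint (f : G ⟶ Spec (.of K))
    [LocallyOfFiniteType f] [GrpObj (Over.mk f)] (x y : G) (hx : IsClosed ({x} : Set G))
    (hy : IsClosed ({y} : Set G)) : ∃ α : G ≅ G, α.hom x = y := by
  let x' : 𝟙_ _ ⟶ Over.mk f := Over.homMk _ ((pointEquivClosedPoint f).symm ⟨x, hx⟩).2
  let y' : 𝟙_ _ ⟶ Over.mk f := Over.homMk _ ((pointEquivClosedPoint f).symm ⟨y, hy⟩).2
  let α := (GrpObj.mulRight (A := Over.mk f) x').symm ≪≫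
    (GrpObj.mulRight (A := Over.mk f) y')
  have hα : x' ≫ α.hom = y' := by
    dsimp only [Iso.trans_hom, Iso.symm_hom, α]
    rw [← Category.assoc, ← Iso.eq_comp_inv]
    simp [comp_lift_assoc]
  have hα' : α.hom.left x = y := by
    simpa [x', y', pointEquivClosedPoint] using congr(($hα).left (IsLocalRing.closedPoint K))
  exact ⟨(Over.forget _).mapIso α, hα'⟩

theorem isField_stalk_of_isClosed (f : G ⟶ Spec (.of K))
    [LocallyOfFiniteType f] [GrpObj (Over.mk f)] (e : G) (he : IsClosed ({e} : Set G))
    (hfield : IsField (G.presheaf.stalk e)) (x : G) (hx : IsClosed ({x} : Set G)) :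
    IsField (G.presheaf.stalk x) := by
  obtain ⟨α, rfl⟩ := exists_iso_map_closedPoint f x e hx he
  let E := (asIso (α.hom.stalkMap x)).commRingCatIsoToRingEquiv
  exact MulEquiv.isField hfield E.symm.toMulEquiv

end Grp

section Bridge

variable {K : Type u} [Field K]

theorem iota_bijective (y : Spec (CommRingCat.of K)) :
    Function.Bijective (((Spec (CommRingCat.of K)).presheaf.germ ⊤ y trivial).hom.comp
      (Scheme.ΓSpecIso (CommRingCat.of K)).inv.hom) := by
  have h1 : Function.Bijective (Scheme.ΓSpecIso (CommRingCat.of K)).inv.hom :=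
    ConcreteCategory.bijective_of_isIso _
  have hfieldΓ : IsField Γ(Spec (CommRingCat.of K), ⊤) :=
    MulEquiv.isField (Field.toIsField K)
      (Scheme.ΓSpecIso (CommRingCat.of K)).commRingCatIsoToRingEquiv.toMulEquiv
  have hV := isAffineOpen_top (Spec (CommRingCat.of K))
  letI := (Spec (CommRingCat.of K)).presheaf.algebra_section_stalk (U := ⊤) ⟨y, trivial⟩
  haveI := hV.isLocalization_stalk ⟨y, trivial⟩
  have h2 : Function.Bijective (algebraMap Γ(Spec (CommRingCat.of K), ⊤)
      ((Spec (CommRingCat.of K)).presheaf.stalk y)) := by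
    have hunits : (hV.primeIdealOf ⟨y, trivial⟩).asIdeal.primeCompl ≤
        IsUnit.submonoid Γ(Spec (CommRingCat.of K), ⊤) := by
      intro m hm
      have hm0 : m ≠ 0 := by
        rintro rfl
        exact hm (Ideal.zero_mem _)
      obtain ⟨b, hb⟩ := hfieldΓ.mul_inv_cancel hm0
      exact isUnit_iff_exists_inv.mpr ⟨b, hb⟩
    exact (IsLocalization.atUnits Γ(Spec (CommRingCat.of K), ⊤)
      (hV.primeIdealOf ⟨y, trivial⟩).asIdeal.primeCompl
      (S := (Spec (CommRingCat.of K)).presheaf.stalk y) hunits).bijective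
  exact h2.comp h1

theorem curv2_stalkMap_eq {X : Scheme.{u}} [X.Over (Spec (CommRingCat.of K))] (x : X) :
    Curv2.stalkMap K X x = ((X ↘ Spec (CommRingCat.of K)).stalkMap x).hom.comp
      (((Spec (CommRingCat.of K)).presheaf.germ ⊤ ((X ↘ Spec (CommRingCat.of K)) x) trivial).hom.comp
        (Scheme.ΓSpecIso (CommRingCat.of K)).inv.hom) := by
  unfold Curv2.stalkMap Coh.toGlobal
  rw [← RingHom.comp_assoc, ← RingHom.comp_assoc]
  congr 1
  have := Scheme.Hom.germ_stalkMap (X ↘ Spec (CommRingCat.of K)) ⊤ x trivial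
  exact congrArg CommRingCat.Hom.hom this.symm

end Bridge

section Main

theorem stalkMap_bijective_of_section' {K : Type u} [Field K] {G : Scheme.{u}}
    (f : G ⟶ Spec (.of K)) (σ : Spec (.of K) ⟶ G) (hσ : σ ≫ f = 𝟙 _) (y : Spec (.of K))
    (x : G) (hx : σ y = x) (hfield : IsField (G.presheaf.stalk x)) :
    Function.Bijective (f.stalkMap x).hom := by
  subst hx
  exact stalkMap_bijective_of_section f σ hσ y hfield

theorem main (k : Type u) [Field k] [IsAlgClosed k]
    (G : Over (Spec (CommRingCat.of k))) [GrpObj G] [LocallyOfFiniteType G.hom] [QuasiCompact G.hom]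
    (e : G.left) (he : e ∈ Set.range (η[G]).left.base) :
    letI : G.left.Over (Spec (CommRingCat.of k)) := ⟨G.hom⟩
    Subsingleton (IsLocalRing.CotangentSpace (G.left.presheaf.stalk e)) ↔
      (Finite G.left ∧ DiscreteTopology G.left ∧
        ∀ g : G.left, Function.Bijective (Curv2.stalkMap k G.left g)) := by
  letI inst : G.left.Over (Spec (CommRingCat.of k)) := ⟨G.hom⟩
  haveI : GrpObj (Over.mk G.hom) := ‹GrpObj G›
  haveI : IsLocallyNoetherian G.left := LocallyOfFiniteType.isLocallyNoetherian G.hom
  haveI : JacobsonSpace G.left := LocallyOfFiniteType.jacobsonSpace G.hom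
  have hCurv : ∀ g : G.left, Function.Bijective (Curv2.stalkMap k G.left g) ↔
      Function.Bijective (G.hom.stalkMap g).hom := by
    intro g
    rw [curv2_stalkMap_eq g]
    constructor
    · intro h
      have hι := iota_bijective (K := k) (G.hom g)
      refine ⟨fun a b hab => ?_, fun z => ?_⟩
      · obtain ⟨a', rfl⟩ := hι.2 a
        obtain ⟨b', rfl⟩ := hι.2 b
        rw [h.1 hab]
      · obtain ⟨w, hw⟩ := h.2 z
        exact ⟨_, hw⟩
    · intro h
      exact h.comp (iota_bijective _)
  have hecl : IsClosed ({e} : Set G.left) := by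
    obtain ⟨y, rfl⟩ := he
    have hy : y = IsLocalRing.closedPoint k :=
      @Subsingleton.elim (PrimeSpectrum k) inferInstance y (IsLocalRing.closedPoint k)
    rw [hy]
    exact ((pointEquivClosedPoint G.hom) ⟨(η[G]).left, Over.w (η[G])⟩).2
  constructor
  · intro hsub
    have hfe : IsField (G.left.presheaf.stalk e) :=
      IsLocalRing.subsingleton_cotangentSpace_iff.mp hsub
    have hfield : ∀ x : G.left, IsClosed ({x} : Set G.left) → IsField (G.left.presheaf.stalk x) :=
      isField_stalk_of_isClosed G.hom e hecl hfe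
    have hopen : ∀ x : G.left, IsClosed ({x} : Set G.left) → IsOpen ({x} : Set G.left) :=
      fun x hx => isOpen_singleton_of_isField_stalk x hx (hfield x hx)
    have hallcl : ∀ x : G.left, IsClosed ({x} : Set G.left) := by
      by_contra hcon
      push Not at hcon
      have hopenC : IsOpen (closedPoints G.left) := by
        rw [isOpen_iff_forall_mem_open]
        intro x hx
        exact ⟨{x}, by simpa using hx, hopen x hx, rfl⟩
      have hne : (closedPoints G.left)ᶜ.Nonempty := hcon
      obtain ⟨x, hx1, hx2⟩ :=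
        nonempty_inter_closedPoints hne hopenC.isClosed_compl.isLocallyClosed
      exact hx1 hx2
    have hdisc : DiscreteTopology G.left :=
      discreteTopology_iff_isOpen_singleton.mpr (fun x => hopen x (hallcl x))
    haveI : CompactSpace G.left := QuasiCompact.compactSpace_of_compactSpace G.hom
    refine ⟨finite_of_compact_of_discrete, hdisc, fun g => ?_⟩
    rw [hCurv g]
    exact stalkMap_bijective_of_section' G.hom (pointOfClosedPoint G.hom g (hallcl g))
      (pointOfClosedPoint_comp G.hom g (hallcl g)) (IsLocalRing.closedPoint k) g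
      (pointOfClosedPoint_apply G.hom g (hallcl g) _) (hfield g (hallcl g))
  · rintro ⟨-, -, hb⟩
    have hbe := hb e
    have hfe : IsField (G.left.presheaf.stalk e) :=
      MulEquiv.isField (Field.toIsField k) (RingEquiv.ofBijective _ hbe).symm.toMulEquiv
    exact IsLocalRing.subsingleton_cotangentSpace_iff.mpr hfe

end Main

end Groth.Agent.Lib.Helper4.GrpDisc1
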