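import Mathlib
import Groth.Agent.Lib.Helper4.GrpShear1
import Groth.Agent.Lib.Helper4.GrpIrr1
import Groth.Agent.Lib.Helper4.GrpIrr3

/-!
# LFT group schemes over alg closed field: finitely many closed points lie in a common affine open (S1864) (helper4)
-/

set_option backward.isDefEq.respectTransparency.types false
set_option synthInstance.maxHeartbeats 400000
set_option autoImplicit false
set_option linter.unusedSectionVars false
set_option linter.style.haveILetI false
set_option linter.unusedSimpArgs false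
universe u v w
open CategoryTheory CategoryTheory.Limits AlgebraicGeometry TopologicalSpace IsLocalRing Opposite
open MonoidalCategory CartesianMonoidalCategory MonObj GrpObj
open Groth.Agent.Lib.Helper4.GrpShear1 Groth.Agent.Lib.Helper4.GrpIrr1 Groth.Agent.Lib.Helper4.GrpIrr3

namespace Groth.Agent.Lib.Helper4.GrpIrr4

variable {K : Type u} [Field K] [IsAlgClosed K] (G : Over (Spec (CommRingCat.of K))) [GrpObj G]
  [LocallyOfFiniteType G.hom]

/-- `h ↦ h⁻¹ a` -/
noncomputable def invMul (a : 𝟙_ (Over (Spec (CommRingCat.of K))) ⟶ G) : G ⟶ G := (𝟙 G)⁻¹ * (toUnit G ≫ a)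

lemma comp_invMul (a b : 𝟙_ (Over (Spec (CommRingCat.of K))) ⟶ G) : b ≫ invMul G a = b⁻¹ * a := by
  unfold invMul
  rw [MonObj.comp_mul, GrpObj.comp_inv, Category.comp_id, ← Category.assoc,
    toUnit_unique (b ≫ toUnit G) (𝟙 _), Category.id_comp]

theorem exists_translate (U : G.left.Opens) (he : ept G ∈ U) (C : Set G.left)
    (hC : C ∈ irreducibleComponents G.left)
    (s : Finset (𝟙_ (Over (Spec (CommRingCat.of K))) ⟶ G))
    (hs : ∀ a ∈ s, a.left (IsLocalRing.closedPoint K) ∈ C) :
    ∃ b : 𝟙_ (Over (Spec (CommRingCat.of K))) ⟶ G, b.left (IsLocalRing.closedPoint K) ∈ C ∧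
      ∀ a ∈ s, a.left (IsLocalRing.closedPoint K) ∈ (ltrans b).left '' (U : Set G.left) := by
  classical
  have hCo : IsOpen C := by
    obtain ⟨x, hx⟩ := hC.1.1
    have : C = irreducibleComponent x :=
      uniqComp_all G x _ hC _ (irreducibleComponent_mem_irreducibleComponents x) hx
        mem_irreducibleComponent
    rw [this]; exact isOpen_irreducibleComponent G x
  have h1 := isIrreducible_iff_sInter.mp hC.1
    (s.image (fun a => (invMul G a).left ⁻¹' (U : Set G.left))) ?_ ?_
  · have hopen : IsOpen (C ∩ ⋂₀ ↑(s.image (fun a => (invMul G a).left ⁻¹' (U : Set G.left)))) := by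
      refine hCo.inter ((Finset.finite_toSet _).isOpen_sInter ?_)
      intro t ht
      rw [Finset.mem_coe, Finset.mem_image] at ht
      obtain ⟨a, -, rfl⟩ := ht
      exact U.isOpen.preimage (invMul G a).left.continuous
    obtain ⟨h, ⟨hhC, hh⟩, hcl⟩ := exists_closed_mem G _ hopen.isLocallyClosed h1
    obtain ⟨b, hb⟩ := exists_point_of_closed G h hcl
    refine ⟨b, by rw [hb]; exact hhC, fun a ha => ?_⟩
    have h2 : h ∈ (invMul G a).left ⁻¹' (U : Set G.left) :=
      hh _ (by rw [Finset.mem_coe, Finset.mem_image]; exact ⟨a, ha, rfl⟩)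
    refine ⟨(invMul G a).left h, h2, ?_⟩
    rw [← hb, ← Scheme.Hom.comp_apply, ← Over.comp_left, ← Scheme.Hom.comp_apply, ← Over.comp_left,
      ← Category.assoc, comp_invMul, comp_ltrans]
    congr 3
    group
  · intro t ht
    rw [Finset.mem_image] at ht
    obtain ⟨a, -, rfl⟩ := ht
    exact U.isOpen.preimage (invMul G a).left.continuous
  · intro t ht
    rw [Finset.mem_image] at ht
    obtain ⟨a, ha, rfl⟩ := ht
    refine ⟨a.left (IsLocalRing.closedPoint K), hs a ha, ?_⟩
    show (invMul G a).left (a.left (IsLocalRing.closedPoint K)) ∈ (U : Set G.left)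
    rw [← Scheme.Hom.comp_apply, ← Over.comp_left, comp_invMul, inv_mul_cancel]
    have : (1 : 𝟙_ (Over (Spec (CommRingCat.of K))) ⟶ G) = η[G] := by
      rw [Hom.one_def, toUnit_unique (toUnit _) (𝟙 _), Category.id_comp]
    rw [this]
    exact he


omit [IsAlgClosed K] [LocallyOfFiniteType G.hom] in
lemma ltrans_image_component (b : 𝟙_ (Over (Spec (CommRingCat.of K))) ⟶ G) :
    (ltrans b).left '' irreducibleComponent (ept G) ⊆
      irreducibleComponent (b.left (IsLocalRing.closedPoint K)) := by
  have hirr : IsIrreducible ((ltrans b).left '' irreducibleComponent (ept G)) :=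
    isIrreducible_irreducibleComponent.image _ (ltrans b).left.continuous.continuousOn
  obtain ⟨C, hC, hsub⟩ := exists_mem_irreducibleComponents_subset_of_isIrreducible _ hirr
  have hb : b.left (IsLocalRing.closedPoint K) ∈ C := by
    refine hsub ⟨ept G, mem_irreducibleComponent, ?_⟩
    rw [ept, ← Scheme.Hom.comp_apply, ← Over.comp_left, eta_ltrans]
  rw [← uniqComp_all G _ _ hC _ (irreducibleComponent_mem_irreducibleComponents _) hb
    mem_irreducibleComponent]
  exact hsub

theorem S1864_main (K : Type u) [Field K] [IsAlgClosed K] (G : Over (Spec (CommRingCat.of K))) [GrpObj G] [LocallyOfFiniteType G.hom] (n : ℕ) (g : Fin n → G.left) (hg : ∀ i, IsClosed ({g i} : Set G.left)) : ∃ U : G.left.Opens, IsAffineOpen U ∧ ∀ i, g i ∈ U := by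
  classical
  obtain ⟨U, hU, heU, hUsub⟩ := exists_isAffineOpen_mem_and_subset (x := ept G)
    (U := ⟨irreducibleComponent (ept G), isOpen_irreducibleComponent G _⟩) mem_irreducibleComponent
  choose a ha using fun i => exists_point_of_closed G (g i) (hg i)
  obtain ⟨σ, hσ⟩ : ∃ σ : Type u, σ = {C : Set G.left // ∃ i, irreducibleComponent (g i) = C} :=
    ⟨_, rfl⟩
  subst hσ
  have hfin : Finite {C : Set G.left // ∃ i, irreducibleComponent (g i) = C} :=
    (Set.finite_range (fun i => irreducibleComponent (g i))).to_subtype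
  have hex : ∀ C : {C : Set G.left // ∃ i, irreducibleComponent (g i) = C},
      ∃ b : 𝟙_ (Over (Spec (CommRingCat.of K))) ⟶ G, b.left (IsLocalRing.closedPoint K) ∈ C.1 ∧
      ∀ a' ∈ (Finset.univ.filter (fun i => irreducibleComponent (g i) = C.1)).image a,
        a'.left (IsLocalRing.closedPoint K) ∈ (ltrans b).left '' (U : Set G.left) := fun C =>
    exists_translate G U heU C.1
      (by obtain ⟨i, hi⟩ := C.2; rw [← hi]; exact irreducibleComponent_mem_irreducibleComponents _) _
      (by
        intro a' ha'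
        rw [Finset.mem_image] at ha'
        obtain ⟨i, hi, rfl⟩ := ha'
        rw [Finset.mem_filter] at hi
        rw [ha, ← hi.2]; exact mem_irreducibleComponent)
  choose b hbC hb using hex
  have iso : ∀ C, IsIso (ltrans (b C)).left := fun C =>
    inferInstanceAs (IsIso ((Over.forget _).map (ltrans (b C))))
  obtain ⟨V, hV⟩ : ∃ V : {C : Set G.left // ∃ i, irreducibleComponent (g i) = C} → G.left.Opens,
      V = fun C => (ltrans (b C)).left ''ᵁ U := ⟨_, rfl⟩
  have hVcoe : ∀ C, (V C : Set G.left) = (ltrans (b C)).left '' (U : Set G.left) := by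
    intro C; rw [hV]; rfl
  have hVaff : ∀ C, IsAffineOpen (V C) := by
    intro C; rw [hV]; exact hU.image_of_isOpenImmersion _
  have hVsub : ∀ C, (V C : Set G.left) ⊆ C.1 := by
    intro C
    rw [hVcoe]
    refine (Set.image_mono hUsub).trans ((ltrans_image_component G (b C)).trans ?_)
    obtain ⟨i, hi⟩ := C.2
    rw [uniqComp_all G _ _ (irreducibleComponent_mem_irreducibleComponents _) C.1
      (by rw [← hi]; exact irreducibleComponent_mem_irreducibleComponents _)
      mem_irreducibleComponent (hbC C)]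
  have hdisj : Pairwise (Function.onFun Disjoint fun C => Set.range (V C).ι) := by
    intro C C' hne
    show Disjoint (Set.range (V C).ι) (Set.range (V C').ι)
    rw [Scheme.Opens.range_ι, Scheme.Opens.range_ι, Set.disjoint_iff]
    rintro x ⟨hx, hx'⟩
    apply hne
    apply Subtype.ext
    obtain ⟨i, hi⟩ := C.2
    obtain ⟨i', hi'⟩ := C'.2
    exact uniqComp_all G x _ (by rw [← hi]; exact irreducibleComponent_mem_irreducibleComponents _)
      _ (by rw [← hi']; exact irreducibleComponent_mem_irreducibleComponents _) (hVsub C hx)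
      (hVsub C' hx')
  have hVa : ∀ C, IsAffine (V C) := fun C => hVaff C
  have oi := isOpenImmersion_sigmaDesc (fun C => (V C : Scheme.{u})) (fun C => (V C).ι) hdisj
  refine ⟨(Sigma.desc fun C => (V C).ι).opensRange, isAffineOpen_opensRange _, fun i => ?_⟩
  have hgi : g i ∈ V ⟨irreducibleComponent (g i), i, rfl⟩ := by
    show g i ∈ (V ⟨irreducibleComponent (g i), i, rfl⟩ : Set G.left)
    rw [hVcoe]
    have := hb ⟨irreducibleComponent (g i), i, rfl⟩ (a i)
      (by rw [Finset.mem_image]; exact ⟨i, by simp, rfl⟩)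
    rwa [ha i] at this
  refine ⟨Sigma.ι (fun C => (V C : Scheme.{u})) ⟨irreducibleComponent (g i), i, rfl⟩ ⟨g i, hgi⟩, ?_⟩
  rw [← Scheme.Hom.comp_apply, Sigma.ι_desc]
  rfl

end Groth.Agent.Lib.Helper4.GrpIrr4
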