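import Mathlib
import Groth.Agent.Lib.Helper4.GrpShear1
import Groth.Agent.Lib.Helper4.GrpIrr1
import Groth.Agent.Lib.Helper4.GrpIrr3

/-!
# Right translations; avoiding translates of a proper closed subset (S10959) (helper4)
-/

set_option backward.isDefEq.respectTransparency.types false
set_option synthInstance.maxHeartbeats 400000
set_option autoImplicit false
set_option linter.unusedSectionVars false
set_option linter.style.haveILetI false
set_option linter.unusedSimpArgs false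
universe u v w
open CategoryTheory CategoryTheory.Limits AlgebraicGeometry TopologicalSpace IsLocalRing Opposite
open MonoidalCategory CartesianMonoidalCategory MonObj GrpObj
open Groth.Agent.Lib.Helper4.GrpShear1 Groth.Agent.Lib.Helper4.GrpIrr1 Groth.Agent.Lib.Helper4.GrpIrr3

namespace Groth.Agent.Lib.Helper4.GrpIrr5

section RTrans
variable {C : Type*} [Category C] [CartesianMonoidalCategory C] {H : C} [GrpObj H]

/-- right translation by a global point -/
def rtrans (a : 𝟙_ C ⟶ H) : H ⟶ H := 𝟙 H * (toUnit H ≫ a)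

lemma rtrans_comp (a b : 𝟙_ C ⟶ H) : rtrans a ≫ rtrans b = rtrans (a * b) := by
  unfold rtrans
  rw [MonObj.comp_mul, Category.comp_id, ← Category.assoc, toUnit_unique (_ ≫ toUnit H) (toUnit H),
    _root_.mul_assoc, ← MonObj.comp_mul]

lemma rtrans_one : rtrans (1 : 𝟙_ C ⟶ H) = 𝟙 H := by
  unfold rtrans
  rw [MonObj.comp_one, _root_.mul_one]

lemma comp_rtrans (a b : 𝟙_ C ⟶ H) : b ≫ rtrans a = b * a := by
  unfold rtrans
  rw [MonObj.comp_mul, Category.comp_id, ← Category.assoc, toUnit_unique (b ≫ toUnit H) (𝟙 _),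
    Category.id_comp]

/-- `x ↦ z * x⁻¹` -/
def mulInv (z : 𝟙_ C ⟶ H) : H ⟶ H := (toUnit H ≫ z) * (𝟙 H)⁻¹

lemma comp_mulInv (z b : 𝟙_ C ⟶ H) : b ≫ mulInv z = z * b⁻¹ := by
  unfold mulInv
  rw [MonObj.comp_mul, GrpObj.comp_inv, Category.comp_id, ← Category.assoc,
    toUnit_unique (b ≫ toUnit H) (𝟙 _), Category.id_comp]

/-- `y ↦ y⁻¹ * z` -/
def invMul' (z : 𝟙_ C ⟶ H) : H ⟶ H := (𝟙 H)⁻¹ * (toUnit H ≫ z)

lemma invMul'_comp_mulInv (z : 𝟙_ C ⟶ H) : invMul' z ≫ mulInv z = 𝟙 H := by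
  unfold mulInv invMul'
  rw [MonObj.comp_mul, GrpObj.comp_inv, Category.comp_id, ← Category.assoc,
    toUnit_unique (_ ≫ toUnit H) (toUnit H)]
  group

end RTrans

theorem S10959_main
    (K : Type u) [Field K] [IsAlgClosed K] (A : Over (Spec (CommRingCat.of K)))
    [GrpObj A] [IsProper A.hom] [Smooth A.hom] [IrreducibleSpace A.left]
    (Z : Set A.left) (hZ : IsClosed Z) (hZne : Z ≠ Set.univ)
    (z : 𝟙_ (Over (Spec (CommRingCat.of K))) ⟶ A) :
    ∃ x : 𝟙_ (Over (Spec (CommRingCat.of K))) ⟶ A,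
      Disjoint (Set.range z.left.base)
        ((𝟙 A * (toUnit A ≫ x)).left.base '' Z ∪ (𝟙 A * (toUnit A ≫ x)⁻¹).left.base '' Z) := by
  have iso2 : IsIso (ltrans z).left := inferInstanceAs (IsIso ((Over.forget _).map (ltrans z)))
  obtain ⟨w, hw⟩ : ∃ w, w ∉ Z := by
    by_contra hcon; push Not at hcon
    exact hZne (Set.eq_univ_of_forall hcon)
  have o1 : IsOpen ((mulInv z).left ⁻¹' Zᶜ) := hZ.isOpen_compl.preimage (mulInv z).left.continuous
  have o2 : IsOpen ((ltrans z).left ⁻¹' Zᶜ) := hZ.isOpen_compl.preimage (ltrans z).left.continuous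
  have n1 : ((mulInv z).left ⁻¹' Zᶜ).Nonempty := by
    refine ⟨(invMul' z).left w, ?_⟩
    show (mulInv z).left ((invMul' z).left w) ∉ Z
    rw [← Scheme.Hom.comp_apply, ← Over.comp_left, invMul'_comp_mulInv]
    exact hw
  have n2 : ((ltrans z).left ⁻¹' Zᶜ).Nonempty := by
    obtain ⟨y, hy⟩ := (ltrans z).left.homeomorph.surjective w
    exact ⟨y, by show (ltrans z).left y ∉ Z; rw [show (ltrans z).left y = w from hy]; exact hw⟩
  have hmeet := nonempty_preirreducible_inter o1 o2 n1 n2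
  obtain ⟨x₀, ⟨hx1, hx2⟩, hcl⟩ := exists_closed_mem A _ (o1.inter o2).isLocallyClosed hmeet
  obtain ⟨x, hx⟩ := exists_point_of_closed A x₀ hcl
  refine ⟨x, ?_⟩
  have e1 : (z * x⁻¹).left (IsLocalRing.closedPoint K) ∉ Z := by
    rw [← comp_mulInv, Over.comp_left, Scheme.Hom.comp_apply, hx]; exact hx1
  have e2 : (z * x).left (IsLocalRing.closedPoint K) ∉ Z := by
    rw [← comp_ltrans, Over.comp_left, Scheme.Hom.comp_apply, hx]; exact hx2
  have hsub : Subsingleton (𝟙_ (Over (Spec (CommRingCat.of K)))).left :=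
    inferInstanceAs (Subsingleton (Spec (CommRingCat.of K)))
  rw [Set.disjoint_left]
  rintro _ ⟨t, rfl⟩ hmem
  rw [Subsingleton.elim t (IsLocalRing.closedPoint K)] at hmem
  rcases hmem with ⟨w', hw', hw'z⟩ | ⟨w', hw', hw'z⟩
  · -- z pt = rtrans x w'
    apply e1
    have : (rtrans x⁻¹).left ((rtrans x).left w') = w' := by
      rw [← Scheme.Hom.comp_apply, ← Over.comp_left, rtrans_comp, mul_inv_cancel, rtrans_one]; rfl
    rw [← comp_rtrans, Over.comp_left, Scheme.Hom.comp_apply]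
    have hw'z' : (rtrans x).left w' = z.left (IsLocalRing.closedPoint K) := hw'z
    rw [← hw'z', this]; exact hw'
  · apply e2
    have hrt : (𝟙 A * (toUnit A ≫ x)⁻¹) = rtrans x⁻¹ := by
      unfold rtrans; rw [GrpObj.comp_inv]
    rw [hrt] at hw'z
    have : (rtrans x).left ((rtrans x⁻¹).left w') = w' := by
      rw [← Scheme.Hom.comp_apply, ← Over.comp_left, rtrans_comp, inv_mul_cancel, rtrans_one]; rfl
    rw [← comp_rtrans, Over.comp_left, Scheme.Hom.comp_apply]
    have hw'z' : (rtrans x⁻¹).left w' = z.left (IsLocalRing.closedPoint K) := hw'z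
    rw [← hw'z', this]; exact hw'

end Groth.Agent.Lib.Helper4.GrpIrr5
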