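import Mathlib
import Groth.Prelude
import Groth.Agent.S12644

/-!
# homomorphism of finite-type k-group schemes injective on geometric points and on the tangent space at identity is a monomorphism (kernel = pullback along unit is one point, affine, local with trivial cotangent space) (S15609) (helper4) (helper4)
-/

set_option backward.isDefEq.respectTransparency.types false
set_option synthInstance.maxHeartbeats 400000
set_option autoImplicit false
set_option linter.unusedSectionVars false
set_option linter.style.haveILetI false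
set_option linter.unusedSimpArgs false
universe u v w
open CategoryTheory MonoidalCategory CartesianMonoidalCategory MonObj GrpObj AlgebraicGeometry Limits

namespace Groth.Agent.Lib.Helper4.GrpMono1

section Cat
variable {k : Type u} [Field k]
variable {G G' : Over (Spec (CommRingCat.of k))} [GrpObj G] [GrpObj G']

noncomputable def etaL (G : Over (Spec (CommRingCat.of k))) [GrpObj G] :
    Spec (CommRingCat.of k) ⟶ G.left := η[G].left

@[reassoc (attr := simp)]
lemma etaL_hom (G : Over (Spec (CommRingCat.of k))) [GrpObj G] : etaL G ≫ G.hom = 𝟙 _ := by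
  have := Over.w η[G]
  simpa [etaL] using this

variable (f : G ⟶ G') [IsMonHom f]

@[reassoc (attr := simp)]
lemma etaL_f : etaL G ≫ f.left = etaL G' := by
  have := IsMonHom.one_hom (f := f)
  exact congrArg CommaMorphism.left this

noncomputable abbrev N : Scheme.{u} := pullback f.left (etaL G')
noncomputable abbrev p1 : N f ⟶ G.left := pullback.fst _ _
noncomputable abbrev p2 : N f ⟶ Spec (CommRingCat.of k) := pullback.snd _ _
noncomputable def eN : Spec (CommRingCat.of k) ⟶ N f := pullback.lift (etaL G) (𝟙 _) (by simp)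

@[reassoc (attr := simp)]
lemma eN_p1 : eN f ≫ p1 f = etaL G := pullback.lift_fst _ _ _
@[reassoc (attr := simp)]
lemma eN_p2 : eN f ≫ p2 f = 𝟙 _ := pullback.lift_snd _ _ _
@[reassoc]
lemma p1_hom : p1 f ≫ G.hom = p2 f := by
  rw [← Over.w f, ← Category.assoc, pullback.condition, Category.assoc, etaL_hom, Category.comp_id]

theorem mono_of_p2_eN (h : p2 f ≫ eN f = 𝟙 _) : Mono f := by
  have key : ∀ (Z : Over (Spec (CommRingCat.of k))) (c : Z ⟶ G),
      c ≫ f = toUnit Z ≫ η[G'] → c = toUnit Z ≫ η[G] := by
    intro Z c hc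
    have hc' : c.left ≫ f.left = Z.hom ≫ etaL G' := congrArg CommaMorphism.left hc
    let c' : Z.left ⟶ N f := pullback.lift c.left Z.hom hc'
    have h1 : c' = Z.hom ≫ eN f := by
      calc c' = c' ≫ (p2 f ≫ eN f) := by rw [h, Category.comp_id]
        _ = Z.hom ≫ eN f := by rw [← Category.assoc, pullback.lift_snd]
    apply Over.OverMorphism.ext
    calc c.left = c' ≫ p1 f := (pullback.lift_fst _ _ _).symm
      _ = Z.hom ≫ etaL G := by rw [h1, Category.assoc, eN_p1]
  constructor
  intro Z a b hab
  have hinj : Function.Injective (IsMonHom.monoidHom f Z) := by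
    rw [injective_iff_map_eq_one]
    intro c hc
    exact key Z c hc
  exact hinj hab

end Cat

section Pt
variable {k : Type u} [Field k]
variable {G G' : Over (Spec (CommRingCat.of k))} [GrpObj G] [GrpObj G'] (f : G ⟶ G') [IsMonHom f]

theorem eN_p2_apply
    (hgeom : ∀ (K : Type u) [Field K] [IsAlgClosed K] [Algebra k K],
      Function.Injective (fun g : (Over.mk (Spec.map (CommRingCat.ofHom (algebraMap k K)))) ⟶ G => g ≫ f))
    (n : N f) : (eN f) ((p2 f) n) = n := by
  let κ := (N f).residueField n
  let K := AlgebraicClosure κ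
  let ν : Spec (.of K) ⟶ N f :=
    Spec.map (CommRingCat.ofHom (algebraMap κ K)) ≫ (N f).fromSpecResidueField n
  have hpt : ν default = n := by
    rw [Scheme.Hom.comp_apply]
    exact Scheme.fromSpecResidueField_apply _ _
  clear_value ν
  let ψ : CommRingCat.of k ⟶ CommRingCat.of K := Spec.preimage (ν ≫ p2 f)
  letI : Algebra k K := ψ.hom.toAlgebra
  have hψ : Spec.map (CommRingCat.ofHom (algebraMap k K)) = ν ≫ p2 f := by
    change Spec.map (CommRingCat.ofHom ψ.hom) = _
    rw [CommRingCat.ofHom_hom, Spec.map_preimage]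
  let g₁ : Over.mk (Spec.map (CommRingCat.ofHom (algebraMap k K))) ⟶ G :=
    Over.homMk (ν ≫ p1 f) (by
      dsimp only [Over.mk_hom, Over.mk_left]
      rw [Category.assoc, p1_hom, hψ])
  have h12 : g₁ = toUnit _ ≫ η[G] := by
    apply hgeom K
    change g₁ ≫ f = (toUnit _ ≫ η[G]) ≫ f
    apply Over.OverMorphism.ext
    change (ν ≫ p1 f) ≫ f.left = (Spec.map (CommRingCat.ofHom (algebraMap k K)) ≫ etaL G) ≫ f.left
    rw [Category.assoc, Category.assoc, etaL_f, hψ, Category.assoc]
    congr 1
    exact pullback.condition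
  have h12' : ν ≫ p1 f = (ν ≫ p2 f) ≫ etaL G := by
    rw [← hψ]
    exact congrArg CommaMorphism.left h12
  have hν : ν = ν ≫ p2 f ≫ eN f := by
    apply pullback.hom_ext
    · change ν ≫ p1 f = (ν ≫ p2 f ≫ eN f) ≫ p1 f
      rw [Category.assoc, Category.assoc, eN_p1, h12', Category.assoc]
    · change ν ≫ p2 f = (ν ≫ p2 f ≫ eN f) ≫ p2 f
      rw [Category.assoc, Category.assoc, eN_p2, Category.comp_id]
  have := congrArg (fun g : Spec (.of K) ⟶ N f => g default) hν
  dsimp only at this
  rw [Scheme.Hom.comp_apply, Scheme.Hom.comp_apply, hpt] at this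
  exact this.symm

instance : Subsingleton (Spec (CommRingCat.of k)) := inferInstanceAs (Subsingleton (PrimeSpectrum k))

theorem subsingleton_N
    (hgeom : ∀ (K : Type u) [Field K] [IsAlgClosed K] [Algebra k K],
      Function.Injective (fun g : (Over.mk (Spec.map (CommRingCat.ofHom (algebraMap k K)))) ⟶ G => g ≫ f)) :
    Subsingleton (N f) := by
  constructor
  intro a b
  rw [← eN_p2_apply f hgeom a, ← eN_p2_apply f hgeom b]
  congr 1
  exact Subsingleton.elim _ _

end Pt

section Aff

theorem isAffine_of_subsingleton (X : Scheme.{u}) [Subsingleton X] (x : X) : IsAffine X := by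
  obtain ⟨U, hU, hxU, -⟩ := TopologicalSpace.Opens.isBasis_iff_nbhd.mp X.isBasis_affineOpens
    (show x ∈ (⊤ : X.Opens) from trivial)
  have hUtop : U = ⊤ := by
    ext y
    simp [Subsingleton.elim y x, hxU]
  subst hUtop
  haveI : IsAffine (⊤ : X.Opens).toScheme := hU
  exact IsAffine.of_isIso (Scheme.topIso X).inv

theorem exists_alg_iso {k : Type u} [Field k] (X : Scheme.{u}) [IsAffine X] (p : X ⟶ Spec (.of k)) :
    ∃ (B : Type u) (_ : CommRing B) (_ : Algebra k B) (i : X ≅ Spec (.of B)),
      i.inv ≫ p = Spec.map (CommRingCat.ofHom (algebraMap k B)) := by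
  let ψ : CommRingCat.of k ⟶ Γ(X, ⊤) := Spec.preimage (X.isoSpec.inv ≫ p)
  letI : Algebra k Γ(X, ⊤) := ψ.hom.toAlgebra
  refine ⟨Γ(X, ⊤), inferInstance, inferInstance, X.isoSpec, ?_⟩
  change _ = Spec.map (CommRingCat.ofHom ψ.hom)
  rw [CommRingCat.ofHom_hom, Spec.map_preimage]

end Aff

section Alg
variable {k : Type u} [Field k] {B : Type u} [CommRing B] [IsLocalRing B] [Algebra k B]

theorem ker_eq_maximalIdeal (χ : B →ₐ[k] k) : RingHom.ker χ.toRingHom = IsLocalRing.maximalIdeal B := by
  have hs : Function.Surjective χ.toRingHom := fun c => ⟨algebraMap k B c, by simp⟩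
  exact IsLocalRing.eq_maximalIdeal (RingHom.ker_isMaximal_of_surjective _ hs)

theorem algHom_unique (χ ε : B →ₐ[k] k) : χ = ε := by
  ext b
  have h1 : b - algebraMap k B (ε b) ∈ RingHom.ker χ.toRingHom := by
    rw [ker_eq_maximalIdeal, ← ker_eq_maximalIdeal ε, RingHom.mem_ker]
    simp
  rw [RingHom.mem_ker] at h1
  simpa [sub_eq_zero] using h1

theorem hres_of_algHom (ε : B →ₐ[k] k) :
    Function.Surjective (algebraMap k (IsLocalRing.ResidueField B)) := by
  intro z
  obtain ⟨b, rfl⟩ := IsLocalRing.residue_surjective z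
  refine ⟨ε b, ?_⟩
  have h1 : b - algebraMap k B (ε b) ∈ IsLocalRing.maximalIdeal B := by
    rw [← ker_eq_maximalIdeal ε, RingHom.mem_ker]
    simp
  have h2 : IsLocalRing.residue B (b - algebraMap k B (ε b)) = 0 := by
    rwa [IsLocalRing.residue_eq_zero_iff]
  rw [map_sub, sub_eq_zero] at h2
  rw [h2]
  rfl

theorem alg_core [IsNoetherianRing B] (ε : B →ₐ[k] k)
    (hall : ∀ φ : B →ₐ[k] DualNumber k, ∀ b, φ b = algebraMap k (DualNumber k) (ε b)) :
    Function.Injective ε := by
  have hdual : ∀ ℓ : Module.Dual k (IsLocalRing.CotangentSpace B), ℓ = 0 := by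
    intro ℓ
    obtain ⟨φ, ⟨-, h2⟩, -⟩ := Groth.Agent.S12644.result k B (hres_of_algHom ε) ℓ
    ext z
    obtain ⟨x, rfl⟩ := (IsLocalRing.maximalIdeal B).toCotangent_surjective z
    rw [← h2 x, hall φ x]
    simp [TrivSqZeroExt.algebraMap_eq_inl]
  have hsub : Subsingleton (IsLocalRing.CotangentSpace B) := by
    constructor
    intro a b
    rw [← sub_eq_zero, ← Module.forall_dual_apply_eq_zero_iff k]
    intro ℓ
    rw [hdual ℓ]
    rfl
  have hfield : IsField B := IsLocalRing.subsingleton_cotangentSpace_iff.mp hsub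
  letI := hfield.toField
  exact ε.toRingHom.injective

end Alg

section Main
variable {k : Type u} [Field k]
variable {G G' : Over (Spec (CommRingCat.of k))} [GrpObj G] [GrpObj G'] (f : G ⟶ G') [IsMonHom f]

theorem p2_eN_of_iso [LocallyOfFiniteType G.hom]
    (htan : ∀ g : (Over.mk (Spec.map (CommRingCat.ofHom (algebraMap k (DualNumber k))))) ⟶ G,
      (∀ x : 𝟙_ (Over (Spec (CommRingCat.of k))) ⟶ (Over.mk (Spec.map (CommRingCat.ofHom (algebraMap k (DualNumber k))))), x ≫ g = η[G]) →
        g ≫ f = toUnit _ ≫ η[G'] → g = toUnit _ ≫ η[G])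
    [Subsingleton (N f)]
    (B : Type u) [CommRing B] [Algebra k B] (i : N f ≅ Spec (.of B))
    (hi : i.inv ≫ p2 f = Spec.map (CommRingCat.ofHom (algebraMap k B))) :
    p2 f ≫ eN f = 𝟙 _ := by
  -- points of Spec B
  have hii : ∀ a : Spec (.of B), i.hom (i.inv a) = a := fun a => by
    rw [← Scheme.Hom.comp_apply, Iso.inv_hom_id]; rfl
  haveI : Subsingleton (PrimeSpectrum B) := by
    constructor
    intro a b
    have h1 := hii a
    have h2 := hii b
    rw [Subsingleton.elim (i.inv a) (i.inv b)] at h1
    exact h1.symm.trans h2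
  haveI : Nonempty (PrimeSpectrum B) := ⟨i.hom (eN f default)⟩
  haveI : Nontrivial B := PrimeSpectrum.nonempty_iff_nontrivial.mp inferInstance
  haveI : Subsingleton (MaximalSpectrum B) :=
    MaximalSpectrum.toPrimeSpectrum_injective.subsingleton
  haveI : IsLocalRing B := IsLocalRing.of_singleton_maximalSpectrum
  -- finite type
  haveI : LocallyOfFiniteType (f.left ≫ G'.hom) := by rw [Over.w f]; infer_instance
  haveI : LocallyOfFiniteType f.left := locallyOfFiniteType_of_comp f.left G'.hom
  haveI : LocallyOfFiniteType (p2 f) := inferInstanceAs (LocallyOfFiniteType (pullback.snd _ _))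
  haveI : LocallyOfFiniteType (Spec.map (CommRingCat.ofHom (algebraMap k B))) := by
    rw [← hi]; infer_instance
  have hft : (algebraMap k B).FiniteType := by
    have := (HasRingHomProperty.Spec_iff (P := @LocallyOfFiniteType)).mp
      (inferInstance : LocallyOfFiniteType (Spec.map (CommRingCat.ofHom (algebraMap k B))))
    simpa using this
  haveI : Algebra.FiniteType k B := RingHom.finiteType_algebraMap.mp hft
  haveI : IsNoetherianRing B := Algebra.FiniteType.isNoetherianRing k B
  -- the augmentation
  let εr : CommRingCat.of B ⟶ CommRingCat.of k := Spec.preimage (eN f ≫ i.hom)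
  have hεr : Spec.map εr = eN f ≫ i.hom := Spec.map_preimage _
  have hεalg : CommRingCat.ofHom (algebraMap k B) ≫ εr = 𝟙 _ := by
    apply Spec.map_injective
    rw [Spec.map_comp, hεr, ← hi, Category.assoc, Iso.hom_inv_id_assoc, eN_p2, Spec.map_id]
  let ε : B →ₐ[k] k := { εr.hom with
    commutes' := fun c => by
      have := congrArg (fun h : CommRingCat.of k ⟶ CommRingCat.of k => h.hom c) hεalg
      simpa using this }
  have hεε : ∀ b, ε b = εr.hom b := fun _ => rfl
  have hall : ∀ φ : B →ₐ[k] DualNumber k, ∀ b, φ b = algebraMap k (DualNumber k) (ε b) := by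
    intro φ
    have hφ : Spec.map (CommRingCat.ofHom φ.toRingHom) ≫ Spec.map (CommRingCat.ofHom (algebraMap k B)) =
        Spec.map (CommRingCat.ofHom (algebraMap k (DualNumber k))) := by
      rw [← Spec.map_comp, ← CommRingCat.ofHom_comp]
      congr 2
      exact φ.comp_algebraMap
    let gl : Spec (.of (DualNumber k)) ⟶ G.left :=
      Spec.map (CommRingCat.ofHom φ.toRingHom) ≫ i.inv ≫ p1 f
    have hgl : gl ≫ G.hom = Spec.map (CommRingCat.ofHom (algebraMap k (DualNumber k))) := by
      dsimp only [gl]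
      rw [Category.assoc, Category.assoc, p1_hom, hi, hφ]
    let g : (Over.mk (Spec.map (CommRingCat.ofHom (algebraMap k (DualNumber k))))) ⟶ G :=
      Over.homMk gl hgl
    have hg1 : ∀ x : 𝟙_ (Over (Spec (CommRingCat.of k))) ⟶
        (Over.mk (Spec.map (CommRingCat.ofHom (algebraMap k (DualNumber k))))), x ≫ g = η[G] := by
      intro x
      let xl : Spec (.of k) ⟶ Spec (.of (DualNumber k)) := x.left
      have hxl : xl ≫ Spec.map (CommRingCat.ofHom (algebraMap k (DualNumber k))) = 𝟙 _ := Over.w x
      let χr : CommRingCat.of (DualNumber k) ⟶ CommRingCat.of k := Spec.preimage xl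
      have hχr : Spec.map χr = xl := Spec.map_preimage _
      have hχalg : CommRingCat.ofHom (algebraMap k (DualNumber k)) ≫ χr = 𝟙 _ := by
        apply Spec.map_injective
        rw [Spec.map_comp, hχr, hxl, Spec.map_id]
      let χ : B →ₐ[k] k := { χr.hom.comp φ.toRingHom with
        commutes' := fun c => by
          have := congrArg (fun h : CommRingCat.of k ⟶ CommRingCat.of k => h.hom c) hχalg
          simpa using this }
      have hχε : χ = ε := algHom_unique χ ε
      have hcomp : CommRingCat.ofHom φ.toRingHom ≫ χr = εr := by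
        ext b
        have := congrArg (fun h : B →ₐ[k] k => h b) hχε
        exact this
      apply Over.OverMorphism.ext
      change xl ≫ gl = etaL G
      dsimp only [gl]
      rw [← hχr, ← Category.assoc, ← Spec.map_comp, hcomp, hεr, Category.assoc,
        Iso.hom_inv_id_assoc, eN_p1]
    have hg2 : g ≫ f = toUnit _ ≫ η[G'] := by
      apply Over.OverMorphism.ext
      change gl ≫ f.left = Spec.map (CommRingCat.ofHom (algebraMap k (DualNumber k))) ≫ etaL G'
      dsimp only [gl]
      rw [Category.assoc, Category.assoc, pullback.condition, ← Category.assoc i.inv, hi,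
        ← Category.assoc, hφ]
    have hg3 := htan g hg1 hg2
    have hg3' : gl = Spec.map (CommRingCat.ofHom (algebraMap k (DualNumber k))) ≫ etaL G :=
      congrArg CommaMorphism.left hg3
    have h4 : Spec.map (CommRingCat.ofHom φ.toRingHom) ≫ i.inv =
        Spec.map (CommRingCat.ofHom (algebraMap k (DualNumber k))) ≫ eN f := by
      apply pullback.hom_ext
      · change (_ ≫ i.inv) ≫ p1 f = (_ ≫ eN f) ≫ p1 f
        rw [Category.assoc, Category.assoc, eN_p1]
        exact hg3'
      · change (_ ≫ i.inv) ≫ p2 f = (_ ≫ eN f) ≫ p2 f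
        rw [Category.assoc, Category.assoc, eN_p2, hi, hφ, Category.comp_id]
    have h5 : CommRingCat.ofHom φ.toRingHom = εr ≫ CommRingCat.ofHom (algebraMap k (DualNumber k)) := by
      apply Spec.map_injective
      rw [Spec.map_comp, hεr, ← Category.assoc, ← h4, Category.assoc, Iso.inv_hom_id, Category.comp_id]
    intro b
    have := congrArg (fun h : CommRingCat.of B ⟶ CommRingCat.of (DualNumber k) => h.hom b) h5
    exact this
  have hinj := alg_core ε hall
  have h6 : εr ≫ CommRingCat.ofHom (algebraMap k B) = 𝟙 _ := by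
    ext b
    apply hinj
    change ε (algebraMap k B (ε b)) = ε b
    simp
  calc p2 f ≫ eN f = i.hom ≫ (i.inv ≫ p2 f) ≫ (eN f ≫ i.hom) ≫ i.inv := by simp
    _ = i.hom ≫ Spec.map (εr ≫ CommRingCat.ofHom (algebraMap k B)) ≫ i.inv := by
        rw [hi, ← hεr, Spec.map_comp, Category.assoc]
    _ = 𝟙 _ := by rw [h6, Spec.map_id, Category.id_comp, Iso.hom_inv_id]

theorem main (k : Type u) [Field k]
    (G G' : Over (Spec (CommRingCat.of k))) [GrpObj G] [GrpObj G'] [LocallyOfFiniteType G.hom] [QuasiCompact G.hom]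
    [LocallyOfFiniteType G'.hom] [QuasiCompact G'.hom] (f : G ⟶ G') [IsMonHom f]
    (hgeom : ∀ (K : Type u) [Field K] [IsAlgClosed K] [Algebra k K],
      Function.Injective (fun g : (Over.mk (Spec.map (CommRingCat.ofHom (algebraMap k K)))) ⟶ G => g ≫ f))
    (htan : ∀ g : (Over.mk (Spec.map (CommRingCat.ofHom (algebraMap k (DualNumber k))))) ⟶ G,
      (∀ x : 𝟙_ (Over (Spec (CommRingCat.of k))) ⟶ (Over.mk (Spec.map (CommRingCat.ofHom (algebraMap k (DualNumber k))))), x ≫ g = η[G]) →
        g ≫ f = toUnit _ ≫ η[G'] → g = toUnit _ ≫ η[G]) :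
    Mono f := by
  haveI := subsingleton_N f hgeom
  haveI : IsAffine (N f) := isAffine_of_subsingleton (N f) (eN f default)
  obtain ⟨B, _, _, i, hi⟩ := exists_alg_iso (N f) (p2 f)
  exact mono_of_p2_eN f (p2_eN_of_iso f htan B i hi)

end Main

end Groth.Agent.Lib.Helper4.GrpMono1
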